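import Mathlib
import Groth.Agent.R2.H29AffOpenA
import Groth.Agent.R2.H29AffOpenB

/-!
# A reduced scheme covered by two closed affine subschemes: finite sets have affine neighbourhoods

ns `Groth.Agent.R2.H29.AffOpenC`.

* `isAffineOpen_basicOpen_of_mem_span` : the global functions whose non-vanishing locus is affine
  form an ideal.
* `exists_isAffineOpen_basicOpen_of_finite` : if a scheme is covered by affine basic opens of
  global functions, every finite set of points lies in one of them.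
* `exists_basicOpen_le` : in a reduced scheme covered by two closed affine subschemes, the basic
  opens of global functions form a basis.
* `exists_isAffineOpen_of_closedCover` : ... hence every finite set has an affine open nbhd.
-/

set_option autoImplicit false
universe u

namespace Groth.Agent.R2.H29.AffOpenC

open AlgebraicGeometry CategoryTheory TopologicalSpace Opposite
open Groth.Agent.R2.H29.AffOpenA Groth.Agent.R2.H29.AffOpenB

section AffineBasic

variable {N : Scheme.{u}}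

theorem isAffineOpen_basicOpen_mul (c a : Γ(N, ⊤)) (ha : IsAffineOpen (N.basicOpen a)) :
    IsAffineOpen (N.basicOpen (c * a)) := by
  have h1 : N.basicOpen (c * a) =
      N.basicOpen (N.presheaf.map (homOfLE (le_top : N.basicOpen a ≤ ⊤)).op c) := by
    rw [Scheme.basicOpen_res, Scheme.basicOpen_mul, inf_comm]
  rw [h1]
  exact ha.basicOpen _

theorem isAffineOpen_basicOpen_add (a b : Γ(N, ⊤)) (ha : IsAffineOpen (N.basicOpen a))
    (hb : IsAffineOpen (N.basicOpen b)) : IsAffineOpen (N.basicOpen (a + b)) := by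
  set U := N.basicOpen (a + b) with hU
  let ρ := N.presheaf.map (homOfLE (le_top : U ≤ ⊤)).op
  apply isAffineOpen_of_isAffineOpen_basicOpen U {ρ a, ρ b}
  · rw [Ideal.eq_top_iff_one]
    have hunit : IsUnit (ρ (a + b)) := N.toRingedSpace.isUnit_res_basicOpen (a + b)
    obtain ⟨v, hv⟩ := hunit.exists_left_inv
    have : (1 : Γ(N, U)) = v * ρ a + v * ρ b := by
      rw [← mul_add, ← map_add, hv]
    rw [this]
    exact Ideal.add_mem _ (Ideal.mul_mem_left _ _ (Ideal.subset_span (by simp)))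
      (Ideal.mul_mem_left _ _ (Ideal.subset_span (by simp)))
  · intro i hi
    rcases hi with rfl | rfl
    · rw [Scheme.basicOpen_res, hU, ← Scheme.basicOpen_mul]
      exact isAffineOpen_basicOpen_mul _ _ ha
    · rw [Scheme.basicOpen_res, hU, ← Scheme.basicOpen_mul]
      exact isAffineOpen_basicOpen_mul _ _ hb

theorem isAffineOpen_basicOpen_of_mem_span (r : Γ(N, ⊤))
    (hr : r ∈ Ideal.span {a : Γ(N, ⊤) | IsAffineOpen (N.basicOpen a)}) :
    IsAffineOpen (N.basicOpen r) := by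
  induction hr using Submodule.span_induction with
  | mem x hx => exact hx
  | zero =>
    rw [Scheme.basicOpen_zero]
    exact isAffineOpen_bot N
  | add x y _ _ hx hy => exact isAffineOpen_basicOpen_add x y hx hy
  | smul c x _ hx => exact isAffineOpen_basicOpen_mul c x hx

/-- If a scheme is covered by affine basic opens of global functions, every finite set of points
lies in one of them. -/
theorem exists_isAffineOpen_basicOpen_of_finite
    (H : ∀ x : N, ∃ r : Γ(N, ⊤), IsAffineOpen (N.basicOpen r) ∧ x ∈ N.basicOpen r)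
    (T : Set N) (hT : T.Finite) :
    ∃ r : Γ(N, ⊤), IsAffineOpen (N.basicOpen r) ∧ ∀ t ∈ T, t ∈ N.basicOpen r := by
  classical
  obtain ⟨e, hea, he⟩ := coset_avoidance
    (Ideal.span {a : Γ(N, ⊤) | IsAffineOpen (N.basicOpen a)}) 0
    (hT.toFinset.image (ptIdeal N)) (by
      intro p hp
      obtain ⟨s, -, rfl⟩ := Finset.mem_image.mp hp
      infer_instance) (by
      intro p hp
      obtain ⟨s, -, rfl⟩ := Finset.mem_image.mp hp
      right
      intro hle
      obtain ⟨r, hr, hsr⟩ := H s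
      exact (mem_ptIdeal_iff N s r).mp (hle (Ideal.subset_span hr)) hsr)
  refine ⟨e, isAffineOpen_basicOpen_of_mem_span e hea, fun t ht => ?_⟩
  have := he (ptIdeal N t) (Finset.mem_image.mpr ⟨t, hT.mem_toFinset.mpr ht, rfl⟩)
  rw [zero_add, mem_ptIdeal_iff, not_not] at this
  exact this

end AffineBasic

/-- In an affine scheme every prime ideal of global functions is the ideal of a point. -/
theorem exists_ptIdeal_eq {P : Scheme.{u}} [IsAffine P] (q : Ideal Γ(P, ⊤)) [hq : q.IsPrime] :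
    ∃ z : P, ptIdeal P z = q := by
  refine ⟨P.isoSpec.inv ⟨q, hq⟩, ?_⟩
  ext r
  rw [mem_ptIdeal_iff, ← Scheme.map_PrimeSpectrum_basicOpen_of_affine]
  change ¬ (P.isoSpec.hom (P.isoSpec.inv ⟨q, hq⟩) ∈ PrimeSpectrum.basicOpen r) ↔ _
  rw [← Scheme.Hom.comp_apply, Iso.inv_hom_id]
  change ¬ (r ∉ q) ↔ r ∈ q
  exact not_not


section ClosedCover

variable {N N₁ N₂ : Scheme.{u}} (i₁ : N₁ ⟶ N) (i₂ : N₂ ⟶ N)
  [IsClosedImmersion i₁] [IsClosedImmersion i₂]

/-- In a reduced scheme covered by two closed affine subschemes, basic opens of global functions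
form a basis (at points of the first subscheme). -/
theorem exists_basicOpen_le [IsReduced N] [IsAffine N₁] [IsAffine N₂]
    (hsurj : ∀ y : N, y ∈ Set.range i₁ ∨ y ∈ Set.range i₂)
    (x₁ : N₁) (O : N.Opens) (hx : i₁ x₁ ∈ O) :
    ∃ f : Γ(N, ⊤), i₁ x₁ ∈ N.basicOpen f ∧ N.basicOpen f ≤ O := by
  have hP : IsAffine (inter i₁ i₂) := isAffine_of_isAffineHom (interFst i₁ i₂)
  let π₁ := (interFst i₁ i₂).appTop
  let π₂ := (interSnd i₁ i₂).appTop
  have hπ₂ : Function.Surjective π₂ := (interSnd i₁ i₂).app_surjective ⊤ (isAffineOpen_top N₂)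
  obtain ⟨_, ⟨_, ⟨g₁, rfl⟩, rfl⟩, hxg, hgO⟩ := (isBasis_basicOpen N₁).exists_subset_of_mem_open
    (show x₁ ∈ i₁ ⁻¹ᵁ O from hx) (i₁ ⁻¹ᵁ O).2
  let c₂ : Ideal Γ(N₂, ⊤) := ⨅ y : {y : N₂ // y ∉ i₂ ⁻¹ᵁ O}, ptIdeal N₂ y.1
  have hc₂ : ∀ a, a ∈ c₂ ↔ N₂.basicOpen a ≤ i₂ ⁻¹ᵁ O := by
    intro a
    simp only [c₂, Ideal.mem_iInf, mem_ptIdeal_iff, Subtype.forall]
    constructor
    · intro h y hy
      by_contra hyO
      exact h y hyO hy
    · intro h y hyO hy
      exact hyO (h hy)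
  have hrad : π₁ g₁ ∈ (Ideal.map π₂.hom c₂).radical := by
    rw [Ideal.radical_eq_sInf, Ideal.mem_sInf]
    rintro q ⟨hJq, hq⟩
    by_contra hφ
    obtain ⟨z, rfl⟩ := exists_ptIdeal_eq q
    have hz : z ∈ (inter i₁ i₂).basicOpen (π₁ g₁) := by
      rwa [mem_ptIdeal_iff, not_not] at hφ
    rw [← Scheme.preimage_basicOpen_top] at hz
    have h1 : i₁ (interFst i₁ i₂ z) ∈ O := hgO hz
    have h2 : i₂ (interSnd i₁ i₂ z) ∈ O := by
      have : i₁ (interFst i₁ i₂ z) = i₂ (interSnd i₁ i₂ z) := by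
        rw [← Scheme.Hom.comp_apply, ← Scheme.Hom.comp_apply, interFst_comp, interSnd_comp]
      rwa [← this]
    obtain ⟨_, ⟨_, ⟨b, rfl⟩, rfl⟩, hzb, hbO⟩ := (isBasis_basicOpen N₂).exists_subset_of_mem_open
      (show interSnd i₁ i₂ z ∈ i₂ ⁻¹ᵁ O from h2) (i₂ ⁻¹ᵁ O).2
    have hb : b ∈ c₂ := (hc₂ b).mpr hbO
    have : π₂ b ∈ ptIdeal _ z := hJq (Ideal.mem_map_of_mem _ hb)
    rw [mem_ptIdeal_iff, ← Scheme.preimage_basicOpen_top] at this
    exact this hzb
  obtain ⟨n, hn⟩ := hrad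
  have hn1 : π₁ (g₁ ^ (n + 1)) ∈ Ideal.map π₂.hom c₂ := by
    rw [map_pow, pow_succ]
    exact Ideal.mul_mem_right _ _ hn
  obtain ⟨h₂, hh₂c, hh₂⟩ := (Ideal.mem_map_iff_of_surjective π₂.hom hπ₂).mp hn1
  obtain ⟨f, hf₁, hf₂⟩ := exists_glue i₁ i₂ hsurj (g₁ ^ (n + 1)) h₂ hh₂.symm
  refine ⟨f, ?_, ?_⟩
  · show x₁ ∈ i₁ ⁻¹ᵁ N.basicOpen f
    rw [Scheme.preimage_basicOpen_top, hf₁, N₁.basicOpen_pow g₁ (Nat.succ_pos n)]
    exact hxg
  · intro y hy
    rcases hsurj y with ⟨y₁, rfl⟩ | ⟨y₂, rfl⟩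
    · have : y₁ ∈ i₁ ⁻¹ᵁ N.basicOpen f := hy
      rw [Scheme.preimage_basicOpen_top, hf₁, N₁.basicOpen_pow g₁ (Nat.succ_pos n)] at this
      exact hgO this
    · have : y₂ ∈ i₂ ⁻¹ᵁ N.basicOpen f := hy
      rw [Scheme.preimage_basicOpen_top, hf₂] at this
      exact (hc₂ h₂).mp hh₂c this

/-- A reduced scheme covered by two closed affine subschemes: every point lies in an affine basic
open of a global function. -/
theorem exists_isAffineOpen_basicOpen_mem [IsReduced N] [IsAffine N₁] [IsAffine N₂]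
    (hsurj : ∀ y : N, y ∈ Set.range i₁ ∨ y ∈ Set.range i₂) (x : N) :
    ∃ r : Γ(N, ⊤), IsAffineOpen (N.basicOpen r) ∧ x ∈ N.basicOpen r := by
  obtain ⟨_, ⟨O, hO, rfl⟩, hxO, -⟩ := N.isBasis_affineOpens.exists_subset_of_mem_open
    (Set.mem_univ x) isOpen_univ
  have key : ∃ f : Γ(N, ⊤), x ∈ N.basicOpen f ∧ N.basicOpen f ≤ O := by
    rcases hsurj x with ⟨x₁, rfl⟩ | ⟨x₂, rfl⟩
    · exact exists_basicOpen_le i₁ i₂ hsurj x₁ O hxO
    · exact exists_basicOpen_le i₂ i₁ (fun y => (hsurj y).symm) x₂ O hxO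
  obtain ⟨f, hxf, hfO⟩ := key
  refine ⟨f, ?_, hxf⟩
  have h1 : N.basicOpen f = N.basicOpen (N.presheaf.map (homOfLE (le_top : O ≤ ⊤)).op f) := by
    rw [Scheme.basicOpen_res]
    exact (inf_eq_right.mpr hfO).symm
  rw [h1]
  exact IsAffineOpen.basicOpen hO _

/-- A reduced scheme covered by two closed affine subschemes: every finite set of points has an
affine open neighbourhood. -/
theorem exists_isAffineOpen_of_closedCover [IsReduced N] [IsAffine N₁] [IsAffine N₂]
    (hsurj : ∀ y : N, y ∈ Set.range i₁ ∨ y ∈ Set.range i₂) (T : Set N) (hT : T.Finite) :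
    ∃ U : N.Opens, IsAffineOpen U ∧ ∀ t ∈ T, t ∈ U := by
  obtain ⟨r, hr, hrT⟩ := exists_isAffineOpen_basicOpen_of_finite
    (exists_isAffineOpen_basicOpen_mem i₁ i₂ hsurj) T hT
  exact ⟨N.basicOpen r, hr, hrT⟩

end ClosedCover

end Groth.Agent.R2.H29.AffOpenC
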