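import Mathlib
import Groth.Agent.R2.H29AffOpenC
import Groth.Agent.Lib.Helper22ThickAffine
import Groth.Agent.Lib.Helper10RedInd

/-!
# A scheme covered by finitely many closed affine subschemes is affine

ns `Groth.Agent.R2.H29.AffClosedCover`.  No Chevalley theorem is used: for a reduced scheme `N`
covered by two closed affine subschemes, the global functions with affine non-vanishing locus form
an ideal (`AffOpenC`), every point lies in such a locus, and every prime of `Γ(N, ⊤)` is the ideal
of a point (restriction to each piece is surjective by gluing), so that ideal is the unit ideal.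

* `comap_ptIdeal`, `exists_ptIdeal_eq_of_ker_le`, `appTop_surjective_of_closedCover`,
  `exists_ptIdeal_eq_of_closedCover`
* `isAffine_of_closedCover_two` : reduced, two pieces
* `isAffine_of_closedCover_fin` : reduced, `Fin n` pieces
* `isAffine_of_closedCover` : general, any finite index type
-/

set_option autoImplicit false
universe u v

namespace Groth.Agent.R2.H29.AffClosedCover

open AlgebraicGeometry CategoryTheory TopologicalSpace Opposite Limits
open Groth.Agent.R2.H29.AffOpenA Groth.Agent.R2.H29.AffOpenB Groth.Agent.R2.H29.AffOpenC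

theorem comap_ptIdeal {W P : Scheme.{u}} (c : P ⟶ W) (y : P) :
    (ptIdeal P y).comap c.appTop.hom = ptIdeal W (c y) := by
  ext r
  rw [Ideal.mem_comap, mem_ptIdeal_iff, mem_ptIdeal_iff, ← Scheme.preimage_basicOpen_top]
  rfl

theorem exists_ptIdeal_eq_of_ker_le {W P : Scheme.{u}} [IsAffine P] (c : P ⟶ W)
    (hc : Function.Surjective c.appTop.hom) (p : Ideal Γ(W, ⊤)) [p.IsPrime]
    (h : RingHom.ker c.appTop.hom ≤ p) : ∃ x : W, ptIdeal W x = p := by
  have hq : (p.map c.appTop.hom).IsPrime := Ideal.map_isPrime_of_surjective hc h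
  obtain ⟨z, hz⟩ := exists_ptIdeal_eq (p.map c.appTop.hom)
  refine ⟨c z, ?_⟩
  rw [← comap_ptIdeal, hz, Ideal.comap_map_of_surjective _ hc, sup_eq_left]
  exact h

section Two

variable {N N₁ N₂ : Scheme.{u}} (i₁ : N₁ ⟶ N) (i₂ : N₂ ⟶ N)
  [IsClosedImmersion i₁] [IsClosedImmersion i₂]

theorem appTop_surjective_of_closedCover [IsReduced N] [IsAffine N₂]
    (hsurj : ∀ y : N, y ∈ Set.range i₁ ∨ y ∈ Set.range i₂) :
    Function.Surjective i₁.appTop.hom := by
  intro f₁
  obtain ⟨f₂, hf₂⟩ := (interSnd i₁ i₂).app_surjective ⊤ (isAffineOpen_top N₂)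
    ((interFst i₁ i₂).appTop f₁)
  obtain ⟨f, hf, -⟩ := exists_glue i₁ i₂ hsurj f₁ f₂ hf₂.symm
  exact ⟨f, hf⟩

theorem exists_ptIdeal_eq_of_closedCover [IsReduced N] [IsAffine N₁] [IsAffine N₂]
    (hsurj : ∀ y : N, y ∈ Set.range i₁ ∨ y ∈ Set.range i₂) (p : Ideal Γ(N, ⊤)) [hp : p.IsPrime] :
    ∃ x : N, ptIdeal N x = p := by
  have hmul : RingHom.ker i₁.appTop.hom * RingHom.ker i₂.appTop.hom ≤ p := by
    intro r hr
    have h1 : r ∈ RingHom.ker i₁.appTop.hom :=
      (Ideal.mul_le_left : RingHom.ker i₁.appTop.hom * RingHom.ker i₂.appTop.hom ≤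
        RingHom.ker i₁.appTop.hom) hr
    have h2 : r ∈ RingHom.ker i₂.appTop.hom :=
      (Ideal.mul_le_right : RingHom.ker i₁.appTop.hom * RingHom.ker i₂.appTop.hom ≤
        RingHom.ker i₂.appTop.hom) hr
    have : r = 0 := eq_zero_of_app_eq_zero i₁ i₂ hsurj ⊤ r h1 h2
    rw [this]; exact zero_mem _
  rcases (Ideal.IsPrime.mul_le hp).mp hmul with h | h
  · exact exists_ptIdeal_eq_of_ker_le i₁ (appTop_surjective_of_closedCover i₁ i₂ hsurj) p h
  · exact exists_ptIdeal_eq_of_ker_le i₂
      (appTop_surjective_of_closedCover i₂ i₁ (fun y => (hsurj y).symm)) p h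

/-- A reduced scheme covered by two closed affine subschemes is affine. -/
theorem isAffine_of_closedCover_two [IsReduced N] [IsAffine N₁] [IsAffine N₂]
    (hsurj : ∀ y : N, y ∈ Set.range i₁ ∨ y ∈ Set.range i₂) : IsAffine N := by
  have htop : Ideal.span {a : Γ(N, ⊤) | IsAffineOpen (N.basicOpen a)} = ⊤ := by
    by_contra hne
    obtain ⟨m, hm, hle⟩ := Ideal.exists_le_maximal _ hne
    have := hm.isPrime
    obtain ⟨x, hx⟩ := exists_ptIdeal_eq_of_closedCover i₁ i₂ hsurj m
    obtain ⟨r, hr, hxr⟩ := exists_isAffineOpen_basicOpen_mem i₁ i₂ hsurj x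
    have hrm : r ∈ m := hle (Ideal.subset_span hr)
    rw [← hx, mem_ptIdeal_iff] at hrm
    exact hrm hxr
  have h1 : IsAffineOpen (N.basicOpen (1 : Γ(N, ⊤))) :=
    isAffineOpen_basicOpen_of_mem_span 1 (by rw [htop]; trivial)
  rw [Scheme.basicOpen_of_isUnit _ isUnit_one] at h1
  have : IsAffine (⊤ : N.Opens).toScheme := h1
  exact IsAffine.of_isIso (Scheme.topIso N).inv

end Two

/-- A reduced scheme covered by finitely many (`Fin n`) closed affine subschemes is affine. -/
theorem isAffine_of_closedCover_fin : ∀ (n : ℕ) (N : Scheme.{u}) [IsReduced N]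
    (Z : Fin n → Scheme.{u}) (ι : ∀ k, Z k ⟶ N) (_ : ∀ k, IsClosedImmersion (ι k))
    (_ : ∀ k, IsAffine (Z k)) (_ : ∀ x : N, ∃ k, x ∈ Set.range (ι k)), IsAffine N := by
  intro n
  induction n with
  | zero =>
    intro N _ Z ι _ _ hcov
    have : IsEmpty N := ⟨fun x => (hcov x).choose.elim0⟩
    infer_instance
  | succ n ih =>
    intro N _ Z ι hcl haff hcov
    -- the union of the last n pieces
    have hCclosed : IsClosed (⋃ k : Fin n, Set.range (ι k.succ)) :=
      isClosed_iUnion_of_finite fun k => (ι k.succ).isClosedEmbedding.isClosed_range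
    let C : Closeds N := ⟨⋃ k : Fin n, Set.range (ι k.succ), hCclosed⟩
    let N' := (Scheme.IdealSheafData.vanishingIdeal C).subscheme
    let j : N' ⟶ N := (Scheme.IdealSheafData.vanishingIdeal C).subschemeι
    have hrange : Set.range j = (C : Set N) := by
      rw [Scheme.IdealSheafData.range_subschemeι,
        Scheme.IdealSheafData.coe_support_vanishingIdeal]
    have hred : IsReduced N' :=
      Groth.Agent.Lib.Helper10.RedInd.isReduced_subscheme_vanishingIdeal _
    have hN' : IsAffine N' := by
      refine ih N' (fun k => pullback (ι k.succ) j) (fun k => pullback.snd (ι k.succ) j)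
        (fun k => inferInstance) (fun k => ?_) ?_
      · have := haff k.succ
        exact isAffine_of_isAffineHom (pullback.fst (ι k.succ) j)
      · intro x
        have hx : j x ∈ (C : Set N) := by rw [← hrange]; exact ⟨x, rfl⟩
        obtain ⟨k, z, hz⟩ := Set.mem_iUnion.mp hx
        obtain ⟨w, -, hw⟩ := Scheme.Pullback.exists_preimage_pullback z x hz
        exact ⟨k, w, hw⟩
    have := haff 0
    have := hcl 0
    refine isAffine_of_closedCover_two (ι 0) j ?_
    intro y
    obtain ⟨k, hk⟩ := hcov y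
    refine Fin.cases (motive := fun k => y ∈ Set.range (ι k) → _) (fun h => Or.inl h)
      (fun k' h => Or.inr ?_) k hk
    rw [hrange]
    exact Set.mem_iUnion.mpr ⟨k', h⟩

/-- A scheme covered by finitely many closed subschemes each of which is affine is affine. -/
theorem isAffine_of_closedCover (X : Scheme.{u}) {κ : Type v} [Finite κ]
    (Z : κ → Scheme.{u}) (ι : ∀ k, Z k ⟶ X) [∀ k, IsClosedImmersion (ι k)] [∀ k, IsAffine (Z k)]
    (hcov : ∀ x : X, ∃ k, x ∈ Set.range (ι k)) : IsAffine X := by
  obtain ⟨n, ⟨e⟩⟩ := Finite.exists_equiv_fin κ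
  -- the reduction of X
  let Xr := (Scheme.IdealSheafData.vanishingIdeal (⊤ : Closeds X)).subscheme
  let j : Xr ⟶ X := (Scheme.IdealSheafData.vanishingIdeal (⊤ : Closeds X)).subschemeι
  have hrange : Set.range j = Set.univ := by
    rw [Scheme.IdealSheafData.range_subschemeι,
      Scheme.IdealSheafData.coe_support_vanishingIdeal]
    rfl
  have hsurj : Function.Surjective j := Set.range_eq_univ.mp hrange
  have hred : IsReduced Xr :=
    Groth.Agent.Lib.Helper10.RedInd.isReduced_subscheme_vanishingIdeal _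
  have hXr : IsAffine Xr := by
    refine isAffine_of_closedCover_fin n Xr (fun k => pullback (ι (e.symm k)) j)
      (fun k => pullback.snd (ι (e.symm k)) j) (fun k => inferInstance) (fun k => ?_) ?_
    · exact isAffine_of_isAffineHom (pullback.fst (ι (e.symm k)) j)
    · intro x
      obtain ⟨k, z, hz⟩ := hcov (j x)
      obtain ⟨w, -, hw⟩ := Scheme.Pullback.exists_preimage_pullback z x hz
      refine ⟨e k, ?_⟩
      rw [e.symm_apply_apply]
      exact ⟨w, hw⟩
  exact Groth.Agent.Lib.Helper22.ThickAffine.isAffine_of_thickening j hsurj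

end Groth.Agent.R2.H29.AffClosedCover
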