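import Mathlib
import Groth.Agent.R2.H29AffOpenA
import Groth.Agent.R2.H29AffOpenB
import Groth.Agent.R2.H29AffOpenC

/-!
# Affine open neighbourhoods of finite sets: gluing along two closed subschemes (Stacks 09NN step)

ns `Groth.Agent.R2.H29.AffOpenD`.

* `exists_lift_nonvanishing_on`, `exists_basicOpen_avoiding_on`: versions of the prime avoidance
  lemmas of `H29AffOpenA` on an affine open `V` of a scheme.
* `exists_isAffineOpen_of_closedCover_of_affineOpens`: let `Y` be a reduced scheme covered by two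
  closed subschemes `Y₁`, `Y₂`, and `T` a finite set of points such that `T ∩ Y_k` lies in an affine
  open of `Y_k` (`k = 1, 2`).  Then `T` lies in an affine open of `Y`.
-/

set_option autoImplicit false
universe u

namespace Groth.Agent.R2.H29.AffOpenD

open AlgebraicGeometry CategoryTheory TopologicalSpace Opposite
open Groth.Agent.R2.H29.AffOpenA Groth.Agent.R2.H29.AffOpenB Groth.Agent.R2.H29.AffOpenC

/-- The prime ideal of functions on `V` vanishing at a point of `V`. -/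
noncomputable def ptIdealOn (Z : Scheme.{u}) (V : Z.Opens) (s : Z) (hs : s ∈ V) : Ideal Γ(Z, V) :=
  RingHom.ker (Z.evaluation V s hs).hom

instance (Z : Scheme.{u}) (V : Z.Opens) (s : Z) (hs : s ∈ V) : (ptIdealOn Z V s hs).IsPrime := by
  unfold ptIdealOn
  exact RingHom.ker_isPrime _

theorem mem_ptIdealOn_iff (Z : Scheme.{u}) (V : Z.Opens) (s : Z) (hs : s ∈ V) (r : Γ(Z, V)) :
    r ∈ ptIdealOn Z V s hs ↔ s ∉ Z.basicOpen r := by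
  unfold ptIdealOn
  rw [RingHom.mem_ker]
  exact Z.evaluation_eq_zero_iff_notMem_basicOpen s hs r

theorem not_ker_le_ptIdealOn {Z P : Scheme.{u}} {V : Z.Opens} (hV : IsAffineOpen V) (c : P ⟶ Z)
    [IsClosedImmersion c] (s : Z) (hsV : s ∈ V) (hs : s ∉ Set.range c) :
    ¬ RingHom.ker (c.app V).hom ≤ ptIdealOn Z V s hsV := by
  intro hle
  have hopen : IsOpen (Set.range c)ᶜ := c.isClosedEmbedding.isClosed_range.isOpen_compl
  obtain ⟨r, hrU, hsr⟩ := hV.exists_basicOpen_le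
    (V := ⟨(Set.range c)ᶜ, hopen⟩) ⟨s, hs⟩ hsV
  have hbot : P.basicOpen (c.app V r) = ⊥ := by
    rw [← Scheme.preimage_basicOpen]
    ext p
    simp only [Opens.coe_bot, Set.mem_empty_iff_false, iff_false]
    intro hp
    exact hrU hp ⟨p, rfl⟩
  have hcomp : IsCompact ((c ⁻¹ᵁ V : P.Opens) : Set P) := (hV.preimage c).isCompact
  obtain ⟨n, hn⟩ := (Scheme.isNilpotent_iff_basicOpen_eq_bot_of_isCompact hcomp (c.app V r)).mpr hbot
  have h1 : r ^ n ∈ RingHom.ker (c.app V).hom := by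
    rw [RingHom.mem_ker, map_pow]
    exact hn
  have h2 := (mem_ptIdealOn_iff Z V s hsV (r ^ n)).mp (hle h1)
  rcases Nat.eq_zero_or_pos n with h0 | h0
  · subst h0
    apply h2
    rw [pow_zero]
    have : Z.basicOpen (1 : Γ(Z, V)) = V := Scheme.basicOpen_of_isUnit _ isUnit_one
    rw [this]
    exact hsV
  · rw [Z.basicOpen_pow r h0] at h2
    exact h2 hsr

/-- Lifting a function along a closed immersion over an affine open, keeping it non-vanishing at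
finitely many prescribed points. -/
theorem exists_lift_nonvanishing_on {Z P : Scheme.{u}} {V : Z.Opens} (hV : IsAffineOpen V)
    (c : P ⟶ Z) [IsClosedImmersion c] (h : Γ(P, c ⁻¹ᵁ V)) (S : Set Z) (hS : S.Finite)
    (hSV : S ⊆ V) (hh : ∀ p : P, c p ∈ S → p ∈ P.basicOpen h) :
    ∃ g : Γ(Z, V), c.app V g = h ∧ ∀ s ∈ S, s ∈ Z.basicOpen g := by
  classical
  obtain ⟨g₀, hg₀⟩ := c.app_surjective V hV h
  have : Fintype S := hS.fintype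
  let SS : Finset S := Finset.univ
  have hSS : ∀ s : S, s ∈ SS := fun s => Finset.mem_univ s
  let F : S → Ideal Γ(Z, V) := fun s => ptIdealOn Z V s.1 (hSV s.2)
  have hF1 : ∀ p ∈ SS.image F, p.IsPrime := by
    intro p hp
    obtain ⟨s, -, rfl⟩ := Finset.mem_image.mp hp
    exact inferInstanceAs (ptIdealOn Z V s.1 (hSV s.2)).IsPrime
  have hF2 : ∀ p ∈ SS.image F, g₀ ∉ p ∨ ¬ RingHom.ker (c.app V).hom ≤ p := by
    intro p hp
    obtain ⟨s, -, rfl⟩ := Finset.mem_image.mp hp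
    by_cases hsr : s.1 ∈ Set.range c
    · left
      obtain ⟨p, hp⟩ := hsr
      change g₀ ∉ ptIdealOn Z V s.1 (hSV s.2)
      rw [mem_ptIdealOn_iff, not_not]
      have h1 := hh p (hp ▸ s.2)
      rw [← hg₀, ← Scheme.preimage_basicOpen] at h1
      rw [← hp]
      exact h1
    · right
      exact not_ker_le_ptIdealOn hV c s.1 (hSV s.2) hsr
  obtain ⟨e, hea, he⟩ := coset_avoidance (RingHom.ker (c.app V).hom) g₀ (SS.image F) hF1 hF2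
  refine ⟨g₀ + e, ?_, fun s hs => ?_⟩
  · rw [map_add, hg₀]
    have : c.app V e = 0 := hea
    rw [this, add_zero]
  · have := he (F ⟨s, hs⟩) (Finset.mem_image.mpr ⟨⟨s, hs⟩, hSS _, rfl⟩)
    change g₀ + e ∉ ptIdealOn Z V s (hSV hs) at this
    rw [mem_ptIdealOn_iff, not_not] at this
    exact this

/-- Prime avoidance on an affine open: a finite set of points of `V` disjoint from a closed set is
contained in a basic open of `V` disjoint from the closed set. -/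
theorem exists_basicOpen_avoiding_on {Z : Scheme.{u}} {V : Z.Opens} (hV : IsAffineOpen V)
    (Δ : Set Z) (hΔ : IsClosed Δ) (S : Set Z) (hS : S.Finite) (hSV : S ⊆ V) (hd : Disjoint S Δ) :
    ∃ g : Γ(Z, V), (∀ s ∈ S, s ∈ Z.basicOpen g) ∧ Disjoint (Z.basicOpen g : Set Z) Δ := by
  let I := Scheme.IdealSheafData.vanishingIdeal (X := Z) ⟨Δ, hΔ⟩
  have hrange : Set.range I.subschemeι = Δ := by
    rw [Scheme.IdealSheafData.range_subschemeι, Scheme.IdealSheafData.coe_support_vanishingIdeal]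
    rfl
  have hc : ∀ p : I.subscheme, I.subschemeι p ∈ S →
      p ∈ I.subscheme.basicOpen (0 : Γ(I.subscheme, I.subschemeι ⁻¹ᵁ V)) := by
    intro p hp
    exfalso
    have : I.subschemeι p ∈ Δ := hrange ▸ ⟨p, rfl⟩
    exact Set.disjoint_left.mp hd hp this
  obtain ⟨g, hg0, hgS⟩ := exists_lift_nonvanishing_on hV I.subschemeι 0 S hS hSV hc
  refine ⟨g, hgS, Set.disjoint_left.mpr fun x hx hxΔ => ?_⟩
  have h1 : x ∈ Set.range I.subschemeι := hrange ▸ hxΔ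
  obtain ⟨p, rfl⟩ := h1
  have h3 : p ∈ I.subschemeι ⁻¹ᵁ Z.basicOpen g := hx
  rw [Scheme.preimage_basicOpen, hg0, Scheme.basicOpen_zero] at h3
  exact h3


section Main

open Limits

variable {Y Y₁ Y₂ : Scheme.{u}} (i₁ : Y₁ ⟶ Y) (i₂ : Y₂ ⟶ Y)
  [IsClosedImmersion i₁] [IsClosedImmersion i₂]

omit [IsClosedImmersion i₂] in
/-- every open of the source of a closed immersion is a preimage -/
theorem exists_opens_preimage_eq (V : Y₁.Opens) : ∃ O : Y.Opens, i₁ ⁻¹ᵁ O = V := by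
  obtain ⟨O, hO, hOV⟩ := i₁.isEmbedding.isInducing.isOpen_iff.mp V.2
  exact ⟨⟨O, hO⟩, Opens.ext hOV⟩

/-- Stacks 09NN, induction step: let `Y` be a reduced scheme covered by two closed subschemes `Y₁`,
`Y₂`, and `T` a finite set of points such that `T ∩ Y_k` lies in an affine open of `Y_k`
(`k = 1, 2`).  Then `T` lies in an affine open of `Y`. -/
theorem exists_isAffineOpen_of_closedCover_of_affineOpens [IsReduced Y]
    (hsurj : ∀ y : Y, y ∈ Set.range i₁ ∨ y ∈ Set.range i₂) (T : Set Y) (hT : T.Finite)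
    (V₁ : Y₁.Opens) (hV₁ : IsAffineOpen V₁) (V₂ : Y₂.Opens) (hV₂ : IsAffineOpen V₂)
    (hT₁ : ∀ y₁ : Y₁, i₁ y₁ ∈ T → y₁ ∈ V₁) (hT₂ : ∀ y₂ : Y₂, i₂ y₂ ∈ T → y₂ ∈ V₂) :
    ∃ U : Y.Opens, IsAffineOpen U ∧ ∀ t ∈ T, t ∈ U := by
  have hinj₁ : Function.Injective i₁ := i₁.isEmbedding.injective
  have hinj₂ : Function.Injective i₂ := i₂.isEmbedding.injective
  have hT₁fin : (i₁ ⁻¹' T).Finite := hT.preimage hinj₁.injOn
  have hT₂fin : (i₂ ⁻¹' T).Finite := hT.preimage hinj₂.injOn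
  -- Step 1
  obtain ⟨g₁, hg₁T, hg₁Δ⟩ := exists_basicOpen_avoiding_on hV₁
    (i₁ ⁻¹' (i₂ '' (V₂ : Set Y₂)ᶜ))
    ((i₂.isClosedEmbedding.isClosedMap _ V₂.isOpen.isClosed_compl).preimage i₁.continuous)
    (i₁ ⁻¹' T) hT₁fin (fun y₁ hy₁ => hT₁ y₁ hy₁)
    (Set.disjoint_left.mpr (by
      rintro y₁ hy₁ ⟨y₂, hy₂, hy₂₁⟩
      exact hy₂ (hT₂ y₂ (hy₂₁ ▸ hy₁))))
  have hV₁' : IsAffineOpen (Y₁.basicOpen g₁) := hV₁.basicOpen g₁
  have P1 : ∀ y₁ ∈ Y₁.basicOpen g₁, ∀ y₂ : Y₂, i₁ y₁ = i₂ y₂ → y₂ ∈ V₂ := by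
    intro y₁ hy₁ y₂ h12
    by_contra hy₂
    exact Set.disjoint_left.mp hg₁Δ hy₁ ⟨y₂, hy₂, h12.symm⟩
  -- Step 2
  obtain ⟨h, hhT, hhΔ⟩ := exists_basicOpen_avoiding_on hV₂
    (i₂ ⁻¹' (i₁ '' (Y₁.basicOpen g₁ : Set Y₁)ᶜ))
    ((i₁.isClosedEmbedding.isClosedMap _
      (Y₁.basicOpen g₁).isOpen.isClosed_compl).preimage i₂.continuous)
    (i₂ ⁻¹' T) hT₂fin (fun y₂ hy₂ => hT₂ y₂ hy₂)
    (Set.disjoint_left.mpr (by
      rintro y₂ hy₂ ⟨y₁, hy₁, hy₁₂⟩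
      exact hy₁ (hg₁T y₁ (show i₁ y₁ ∈ T from hy₁₂ ▸ hy₂))))
  have hV₂' : IsAffineOpen (Y₂.basicOpen h) := hV₂.basicOpen h
  have P2 : ∀ y₂ ∈ Y₂.basicOpen h, ∀ y₁ : Y₁, i₁ y₁ = i₂ y₂ → y₁ ∈ Y₁.basicOpen g₁ := by
    intro y₂ hy₂ y₁ h12
    by_contra hy₁
    exact Set.disjoint_left.mp hhΔ hy₂ ⟨y₁, hy₁, h12⟩
  -- Step 3
  have hcq : ∀ p : ↑(pullback i₁ i₂), i₁ (pullback.fst i₁ i₂ p) = i₂ (pullback.snd i₁ i₂ p) := by
    intro p
    rw [← Scheme.Hom.comp_apply, ← Scheme.Hom.comp_apply, pullback.condition]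
  have e : pullback.fst i₁ i₂ ⁻¹ᵁ Y₁.basicOpen g₁ ≤ pullback.snd i₁ i₂ ⁻¹ᵁ V₂ := by
    intro p hp
    exact P1 _ hp _ (hcq p)
  obtain ⟨g, hgh, hgT⟩ := exists_lift_nonvanishing_on hV₁' (pullback.fst i₁ i₂)
    ((pullback.snd i₁ i₂).appLE V₂ _ e h) (i₁ ⁻¹' T) hT₁fin (fun y₁ hy₁ => hg₁T y₁ hy₁) (by
      intro p hp
      rw [Scheme.basicOpen_appLE]
      refine ⟨hg₁T _ hp, ?_⟩
      apply hhT
      show i₂ (pullback.snd i₁ i₂ p) ∈ T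
      rw [← hcq p]
      exact hp)
  have hV₁'' : IsAffineOpen (Y₁.basicOpen g) := hV₁'.basicOpen g
  have hV₁''le : Y₁.basicOpen g ≤ Y₁.basicOpen g₁ := Y₁.basicOpen_le g
  have P3 : ∀ y₁ ∈ Y₁.basicOpen g₁, ∀ y₂ : Y₂, i₁ y₁ = i₂ y₂ →
      (y₁ ∈ Y₁.basicOpen g ↔ y₂ ∈ Y₂.basicOpen h) := by
    intro y₁ hy₁ y₂ h12
    obtain ⟨p, rfl, rfl⟩ := Scheme.Pullback.exists_preimage_pullback y₁ y₂ h12
    have h1 : pullback.fst i₁ i₂ p ∈ Y₁.basicOpen g ↔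
        p ∈ pullback.fst i₁ i₂ ⁻¹ᵁ Y₁.basicOpen g := Iff.rfl
    rw [h1, Scheme.preimage_basicOpen, hgh, Scheme.basicOpen_appLE]
    exact ⟨fun hp => hp.2, fun hp => ⟨hy₁, hp⟩⟩
  -- Step 4
  obtain ⟨O₁, hO₁⟩ := exists_opens_preimage_eq i₁ (Y₁.basicOpen g)
  obtain ⟨O₂, hO₂⟩ := exists_opens_preimage_eq i₂ (Y₂.basicOpen h)
  have hO₁' : ∀ y₁ : Y₁, i₁ y₁ ∈ O₁ ↔ y₁ ∈ Y₁.basicOpen g := fun y₁ => by rw [← hO₁]; rfl
  have hO₂' : ∀ y₂ : Y₂, i₂ y₂ ∈ O₂ ↔ y₂ ∈ Y₂.basicOpen h := fun y₂ => by rw [← hO₂]; rfl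
  let C₁c : Y.Opens := ⟨(Set.range i₁)ᶜ, i₁.isClosedEmbedding.isClosed_range.isOpen_compl⟩
  let C₂c : Y.Opens := ⟨(Set.range i₂)ᶜ, i₂.isClosedEmbedding.isClosed_range.isOpen_compl⟩
  let N : Y.Opens := (O₁ ⊓ O₂) ⊔ (O₁ ⊓ C₂c) ⊔ (O₂ ⊓ C₁c)
  have hNmem : ∀ y : Y, y ∈ N ↔ (y ∈ O₁ ∧ y ∈ O₂) ∨ (y ∈ O₁ ∧ y ∉ Set.range i₂) ∨
      (y ∈ O₂ ∧ y ∉ Set.range i₁) := by
    intro y
    simp only [N, C₁c, C₂c, Opens.mem_sup, Opens.mem_inf, or_assoc]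
    rfl
  have N1 : i₁ ⁻¹ᵁ N = Y₁.basicOpen g := by
    ext y₁
    change i₁ y₁ ∈ N ↔ _
    rw [hNmem]
    constructor
    · rintro (⟨h1, -⟩ | ⟨h1, -⟩ | ⟨-, h1⟩)
      · exact (hO₁' y₁).mp h1
      · exact (hO₁' y₁).mp h1
      · exact (h1 ⟨y₁, rfl⟩).elim
    · intro hy₁
      by_cases hr : i₁ y₁ ∈ Set.range i₂
      · obtain ⟨y₂, h21⟩ := hr
        left
        refine ⟨(hO₁' y₁).mpr hy₁, ?_⟩
        rw [← h21, hO₂']
        exact (P3 y₁ (hV₁''le hy₁) y₂ h21.symm).mp hy₁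
      · right; left
        exact ⟨(hO₁' y₁).mpr hy₁, hr⟩
  have N2 : i₂ ⁻¹ᵁ N = Y₂.basicOpen h := by
    ext y₂
    change i₂ y₂ ∈ N ↔ _
    rw [hNmem]
    constructor
    · rintro (⟨-, h1⟩ | ⟨-, h1⟩ | ⟨h1, -⟩)
      · exact (hO₂' y₂).mp h1
      · exact (h1 ⟨y₂, rfl⟩).elim
      · exact (hO₂' y₂).mp h1
    · intro hy₂
      by_cases hr : i₂ y₂ ∈ Set.range i₁
      · obtain ⟨y₁, h12⟩ := hr
        left
        refine ⟨?_, (hO₂' y₂).mpr hy₂⟩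
        rw [← h12, hO₁']
        exact (P3 y₁ (P2 y₂ hy₂ y₁ h12) y₂ h12).mpr hy₂
      · right; right
        exact ⟨(hO₂' y₂).mpr hy₂, hr⟩
  have N3 : ∀ t ∈ T, t ∈ N := by
    intro t ht
    rcases hsurj t with ⟨y₁, rfl⟩ | ⟨y₂, rfl⟩
    · have : y₁ ∈ i₁ ⁻¹ᵁ N := by rw [N1]; exact hgT y₁ ht
      exact this
    · have : y₂ ∈ i₂ ⁻¹ᵁ N := by rw [N2]; exact hhT y₂ ht
      exact this
  -- Step 5
  have hA₁ : IsAffine (i₁ ⁻¹ᵁ N).toScheme := by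
    have : IsAffineOpen (i₁ ⁻¹ᵁ N) := N1 ▸ hV₁''
    exact this
  have hA₂ : IsAffine (i₂ ⁻¹ᵁ N).toScheme := by
    have : IsAffineOpen (i₂ ⁻¹ᵁ N) := N2 ▸ hV₂'
    exact this
  have hc₁ : IsClosedImmersion (i₁ ∣_ N) := IsZariskiLocalAtTarget.restrict ‹_› N
  have hc₂ : IsClosedImmersion (i₂ ∣_ N) := IsZariskiLocalAtTarget.restrict ‹_› N
  have hsurjN : ∀ n : N.toScheme, n ∈ Set.range (i₁ ∣_ N) ∨ n ∈ Set.range (i₂ ∣_ N) := by
    intro n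
    rcases hsurj n.1 with ⟨y₁, hy₁⟩ | ⟨y₂, hy₂⟩
    · left
      refine ⟨⟨y₁, show i₁ y₁ ∈ N from hy₁ ▸ n.2⟩, Subtype.ext ?_⟩
      rw [morphismRestrict_base_coe]
      exact hy₁
    · right
      refine ⟨⟨y₂, show i₂ y₂ ∈ N from hy₂ ▸ n.2⟩, Subtype.ext ?_⟩
      rw [morphismRestrict_base_coe]
      exact hy₂
  obtain ⟨U', hU', hU'T⟩ := exists_isAffineOpen_of_closedCover (i₁ ∣_ N) (i₂ ∣_ N) hsurjN
    (N.ι ⁻¹' T) (hT.preimage N.ι.isEmbedding.injective.injOn)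
  refine ⟨N.ι ''ᵁ U', hU'.image_of_isOpenImmersion N.ι, fun t ht => ?_⟩
  exact ⟨⟨t, N3 t ht⟩, hU'T ⟨t, N3 t ht⟩ ht, rfl⟩

end Main

end Groth.Agent.R2.H29.AffOpenD
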