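import Groth.Agent.R2.H29ConstSheaf

set_option autoImplicit false
set_option linter.style.haveILetI false
set_option linter.unusedSectionVars false
universe u
open CategoryTheory CategoryTheory.Limits Opposite

namespace Groth.Agent.R2.H29.ConstSheaf

section Exact

variable {C : Type (u+1)} [Category.{u} C] (J : GrothendieckTopology C)
  {A : Type (u+2)} [Category.{u+1} A] [Abelian A]

instance preservesFiniteLimits_constantSheaf [HasSheafify J A] :
    PreservesFiniteLimits (constantSheaf J A) :=
  inferInstanceAs (PreservesFiniteLimits (Functor.const Cᵒᵖ ⋙ presheafToSheaf J A))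

lemma preservesFiniteColimits_constantSheaf [HasWeakSheafify J A] {T : C} (hT : IsTerminal T) :
    PreservesFiniteColimits (constantSheaf J A) := by
  haveI : PreservesColimitsOfSize.{0, 0} (constantSheaf J A) :=
    (constantSheafAdj J A hT).leftAdjoint_preservesColimits
  exact PreservesColimitsOfSize.preservesFiniteColimits _

variable [HasSheafify J A] [∀ V : C, HasSheafify (J.over V) A]

instance (V : C) : (J.overPullback A V).Additive where

variable (V : C) [PreservesFiniteLimits (J.overPullback A V)]
  [PreservesFiniteColimits (J.overPullback A V)]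

/-- kernel of a map of trivialized sheaves which is constant -/
lemma nonempty_kernel_iso {F G : Sheaf J A} (φ : F ⟶ G) {M N : A} (h : M ⟶ N)
    (α : F.over V ≅ (constantSheaf (J.over V) A).obj M)
    (β : G.over V ≅ (constantSheaf (J.over V) A).obj N)
    (e : (J.overPullback A V).map φ ≫ β.hom = α.hom ≫ (constantSheaf (J.over V) A).map h) :
    Nonempty ((kernel φ).over V ≅ (constantSheaf (J.over V) A).obj (kernel h)) :=
  ⟨PreservesKernel.iso (J.overPullback A V) φ ≪≫
    kernel.mapIso ((J.overPullback A V).map φ) ((constantSheaf (J.over V) A).map h) α β e ≪≫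
    (PreservesKernel.iso (constantSheaf (J.over V) A) h).symm⟩

/-- cokernel of a map of trivialized sheaves which is constant -/
lemma nonempty_cokernel_iso {F G : Sheaf J A} (φ : F ⟶ G) {M N : A} (h : M ⟶ N)
    (α : F.over V ≅ (constantSheaf (J.over V) A).obj M)
    (β : G.over V ≅ (constantSheaf (J.over V) A).obj N)
    (e : (J.overPullback A V).map φ ≫ β.hom = α.hom ≫ (constantSheaf (J.over V) A).map h) :
    Nonempty ((cokernel φ).over V ≅ (constantSheaf (J.over V) A).obj (cokernel h)) := by
  haveI := preservesFiniteColimits_constantSheaf (J.over V) (A := A) (T := Over.mk (𝟙 V))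
    Over.mkIdTerminal
  exact ⟨PreservesCokernel.iso (J.overPullback A V) φ ≪≫
    cokernel.mapIso ((J.overPullback A V).map φ) ((constantSheaf (J.over V) A).map h) α β e ≪≫
    (PreservesCokernel.iso (constantSheaf (J.over V) A) h).symm⟩

/-- the middle term of a short exact sequence of sheaves with compatibly trivialized outer terms
is trivialized -/
lemma isTriv_of_shortExact {S : ShortComplex (Sheaf J A)} (hS : S.ShortExact)
    {T : ShortComplex A} (hT : T.ShortExact)
    (τ₁ : T.X₁ ⟶ S.X₁.obj.obj (op V)) (τ₂ : T.X₂ ⟶ S.X₂.obj.obj (op V))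
    (τ₃ : T.X₃ ⟶ S.X₃.obj.obj (op V))
    (c₁ : τ₁ ≫ S.f.hom.app (op V) = T.f ≫ τ₂) (c₂ : τ₂ ≫ S.g.hom.app (op V) = T.g ≫ τ₃)
    (h₁ : IsTriv J S.X₁ V τ₁) (h₃ : IsTriv J S.X₃ V τ₃) : IsTriv J S.X₂ V τ₂ := by
  haveI := preservesFiniteColimits_constantSheaf (J.over V) (A := A) (T := Over.mk (𝟙 V))
    Over.mkIdTerminal
  let φ : T.map (constantSheaf (J.over V) A) ⟶ S.map (J.overPullback A V) :=
    { τ₁ := trivMap J S.X₁ V τ₁
      τ₂ := trivMap J S.X₂ V τ₂
      τ₃ := trivMap J S.X₃ V τ₃
      comm₁₂ := trivMap_comp_eq J S.f V τ₁ τ₂ T.f c₁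
      comm₂₃ := trivMap_comp_eq J S.g V τ₂ τ₃ T.g c₂ }
  haveI : IsIso φ.τ₁ := h₁
  haveI : IsIso φ.τ₃ := h₃
  exact ShortComplex.isIso₂_of_shortExact_of_isIso₁₃ φ
    (hT.map_of_exact (constantSheaf (J.over V) A)) (hS.map_of_exact (J.overPullback A V))

end Exact

section OverExact

variable {C : Type (u+1)} [Category.{u} C] (J : GrothendieckTopology C)
  {A : Type (u+2)} [Category.{u+1} A] [HasWeakSheafify J A] (V : C)

lemma preservesFiniteColimits_overPullback [HasLimitsOfSize.{u, u+1} A] :
    PreservesFiniteColimits (J.overPullback A V) := by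
  haveI : PreservesColimitsOfSize.{0, 0} (J.overPullback A V) :=
    ((Over.forget V).sheafAdjunctionCocontinuous A (J.over V) J).leftAdjoint_preservesColimits
  exact PreservesColimitsOfSize.preservesFiniteColimits _

lemma preservesFiniteLimits_overPullback [HasColimitsOfSize.{u, u+1} A] :
    PreservesFiniteLimits (J.overPullback A V) := by
  infer_instance

end OverExact

end Groth.Agent.R2.H29.ConstSheaf
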