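import Groth.Agent.R2.H29ConstSheaf

set_option autoImplicit false
set_option linter.style.haveILetI false
set_option linter.unusedSectionVars false
universe u
open CategoryTheory CategoryTheory.Limits Opposite MonoidalCategory

namespace Groth.Agent.R2.H29.ConstSheaf

section Tensor

variable {C : Type (u+1)} [Category.{u} C] (J : GrothendieckTopology C)
  {A : Type (u+2)} [Category.{u+1} A] [MonoidalCategory A] [HasWeakSheafify J A]
  [∀ V : C, HasWeakSheafify (J.over V) A] [HasLimitsOfSize.{u, u+1} A]

/-- the pointwise tensor product of constant presheaves is constant -/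
def constTensorIso (D : Type*) [Category D] (M N : A) :
    ((Functor.const D).obj M) ⊗ ((Functor.const D).obj N) ≅ (Functor.const D).obj (M ⊗ N) :=
  NatIso.ofComponents (fun _ => Iso.refl _)

/-- the sheafified tensor product of two sheaves which are constant on a slice is constant on
that slice -/
lemma nonempty_tensor_iso (V : C) [((J.over V).W (A := A)).IsMonoidal] (F G : Sheaf J A) (M N : A)
    (α : F.over V ≅ (constantSheaf (J.over V) A).obj M)
    (β : G.over V ≅ (constantSheaf (J.over V) A).obj N) :
    Nonempty (((presheafToSheaf J A).obj (F.obj ⊗ G.obj)).over V ≅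
      (constantSheaf (J.over V) A).obj (M ⊗ N)) := by
  let J' := J.over V
  let cM : (Over V)ᵒᵖ ⥤ A := (Functor.const _).obj M
  let cN : (Over V)ᵒᵖ ⥤ A := (Functor.const _).obj N
  -- step 1: restriction commutes with sheafification
  let e1 : ((presheafToSheaf J A).obj (F.obj ⊗ G.obj)).over V ≅
      (presheafToSheaf J' A).obj ((F.over V).obj ⊗ (G.over V).obj) :=
    (((Over.forget V).pushforwardContinuousSheafificationCompatibility A J' J).app
      (F.obj ⊗ G.obj)).symm
  -- step 2: replace by constant sheaves
  let e2 : (F.over V).obj ⊗ (G.over V).obj ≅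
      ((constantSheaf J' A).obj M).obj ⊗ ((constantSheaf J' A).obj N).obj :=
    tensorIso ((sheafToPresheaf J' A).mapIso α) ((sheafToPresheaf J' A).mapIso β)
  -- step 3: sheafification of the tensor of the units
  let t : cM ⊗ cN ⟶ ((constantSheaf J' A).obj M).obj ⊗ ((constantSheaf J' A).obj N).obj :=
    toSheafify J' cM ⊗ₘ toSheafify J' cN
  have ht : J'.W t :=
    MorphismProperty.tensorHom_mem _ _ _ (J'.W_toSheafify cM) (J'.W_toSheafify cN)
  haveI : IsIso ((presheafToSheaf J' A).map t) := (J'.W_iff t).1 ht
  exact ⟨e1 ≪≫ (presheafToSheaf J' A).mapIso e2 ≪≫ (asIso ((presheafToSheaf J' A).map t)).symm ≪≫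
    (presheafToSheaf J' A).mapIso (constTensorIso _ M N)⟩

end Tensor

end Groth.Agent.R2.H29.ConstSheaf
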