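import Mathlib
import Groth.Agent.Lib.Helper17ExactAdj
import Groth.Agent.R2.H29DerHom

/-!
# Derived category along a fully faithful exact right adjoint ("closed immersion" pattern)
-/

set_option autoImplicit false
open CategoryTheory CategoryTheory.Limits CategoryTheory.Pretriangulated
universe w w' w'' v v' v'' u u' u''

namespace Groth.Agent.R2.H29.DerClosed

open Groth.Agent.Lib.Helper17.SerreLoc Groth.Agent.Lib.Helper17.ExactAdj

variable {A : Type u} [Category.{v} A] [Abelian A] [HasDerivedCategory.{w} A]
  {B : Type u'} [Category.{v'} B] [Abelian B] [HasDerivedCategory.{w'} B]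
  (L : A ⥤ B) (R : B ⥤ A) (adj : L ⊣ R) [L.Additive] [R.Additive]
  [PreservesFiniteLimits L] [PreservesFiniteColimits L]
  [PreservesFiniteLimits R] [PreservesFiniteColimits R]

omit [HasDerivedCategory.{w} A] [HasDerivedCategory.{w'} B] [PreservesFiniteLimits L]
  [PreservesFiniteColimits L] [PreservesFiniteLimits R] [PreservesFiniteColimits R] in
lemma isIso_counitHC [IsIso adj.counit] (C : CochainComplex B ℤ) :
    IsIso ((adjHC adj (ComplexShape.up ℤ)).counit.app C) := by
  have : ∀ i, IsIso (((adjHC adj (ComplexShape.up ℤ)).counit.app C).f i) := fun i => by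
    change IsIso (adj.counit.app (C.X i))
    infer_instance
  exact HomologicalComplex.Hom.isIso_of_components _

lemma isIso_counit_adjD [IsIso adj.counit] (M : DerivedCategory B) :
    IsIso ((mapDerivedCategoryAdjunction L R adj).counit.app M) := by
  let C := DerivedCategory.Q.objPreimage M
  let e : DerivedCategory.Q.obj C ≅ M := DerivedCategory.Q.objObjPreimageIso M
  have h : IsIso ((mapDerivedCategoryAdjunction L R adj).counit.app (DerivedCategory.Q.obj C)) := by
    have := isIso_counitHC L R adj C
    unfold mapDerivedCategoryAdjunction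
    rw [Adjunction.localization_counit_app]
    infer_instance
  have nat := (mapDerivedCategoryAdjunction L R adj).counit.naturality e.hom
  have e2 : (mapDerivedCategoryAdjunction L R adj).counit.app M =
      (R.mapDerivedCategory ⋙ L.mapDerivedCategory).map e.inv ≫
        (mapDerivedCategoryAdjunction L R adj).counit.app (DerivedCategory.Q.obj C) ≫ e.hom := by
    have nat' : (R.mapDerivedCategory ⋙ L.mapDerivedCategory).map e.hom ≫
        (mapDerivedCategoryAdjunction L R adj).counit.app M =
        (mapDerivedCategoryAdjunction L R adj).counit.app (DerivedCategory.Q.obj C) ≫ e.hom := nat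
    rw [← nat', ← Category.assoc, ← Functor.map_comp, e.inv_hom_id, CategoryTheory.Functor.map_id,
      Category.id_comp]
  rw [e2]
  infer_instance


section Main

variable {E : Type u''} [Category.{v''} E] [Abelian E] [HasDerivedCategory.{w''} E]
  (J : A ⥤ E) [J.Additive] [PreservesFiniteLimits J] [PreservesFiniteColimits J]

omit [HasDerivedCategory.{w'} B] in
open ZeroObject in
/-- an object of the derived category all of whose cohomology objects vanish is zero -/
lemma isZero_of_homology (K : DerivedCategory A)
    (h : ∀ n : ℤ, IsZero ((DerivedCategory.homologyFunctor A n).obj K)) : IsZero K := by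
  have h0 : IsIso (0 : K ⟶ (0 : DerivedCategory A)) := by
    rw [DerivedCategory.isIso_iff]
    intro n
    exact isIso_of_source_target_iso_zero _ (h n).isoZero
      (((DerivedCategory.homologyFunctor A n).map_isZero (isZero_zero _)).isoZero)
  exact IsZero.of_iso (isZero_zero _) (asIso (0 : K ⟶ (0 : DerivedCategory A)))

/-- the derived functor of a fully faithful exact right adjoint (with exact left adjoint) is fully
faithful -/
lemma full_faithful [IsIso adj.counit] :
    R.mapDerivedCategory.Full ∧ R.mapDerivedCategory.Faithful := by
  have : ∀ M, IsIso ((mapDerivedCategoryAdjunction L R adj).counit.app M) :=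
    isIso_counit_adjD L R adj
  have : IsIso (mapDerivedCategoryAdjunction L R adj).counit := NatIso.isIso_of_isIso_app _
  exact ⟨(mapDerivedCategoryAdjunction L R adj).fullyFaithfulROfIsIsoCounit.full,
    (mapDerivedCategoryAdjunction L R adj).fullyFaithfulROfIsIsoCounit.faithful⟩

/-- the essential image of the derived functor: complexes whose cohomology objects are killed
by `J` -/
theorem essImage_iff [IsIso adj.counit] (h1 : ∀ G : B, IsZero (J.obj (R.obj G)))
    (h2 : ∀ H : A, IsZero (L.obj H) → IsZero (J.obj H) → IsZero H) (K : DerivedCategory A) :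
    R.mapDerivedCategory.essImage K ↔
      ∀ n : ℤ, IsZero (J.obj ((DerivedCategory.homologyFunctor A n).obj K)) := by
  constructor
  · rintro ⟨M, ⟨e⟩⟩ n
    obtain ⟨e'⟩ := Groth.Agent.R2.H29.DerHom.nonempty_homology_mapDerivedCategory_iso R M n
    exact (h1 _).of_iso (J.mapIso ((DerivedCategory.homologyFunctor A n).mapIso e.symm ≪≫ e'))
  · intro hK
    let adjD := mapDerivedCategoryAdjunction L R adj
    let η := adjD.unit.app K
    obtain ⟨Z, g, h, hT⟩ := distinguished_cocone_triangle η
    -- `L η` is an isomorphism
    have hLη : IsIso (L.mapDerivedCategory.map η) := by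
      have hc : IsIso (adjD.counit.app (L.mapDerivedCategory.obj K)) :=
        isIso_counit_adjD L R adj _
      have hf : IsIso (L.mapDerivedCategory.map η ≫
          adjD.counit.app (L.mapDerivedCategory.obj K)) := by
        rw [show L.mapDerivedCategory.map η ≫ adjD.counit.app (L.mapDerivedCategory.obj K) = 𝟙 _
          from adjD.left_triangle_components K]
        infer_instance
      exact IsIso.of_isIso_comp_right (L.mapDerivedCategory.map η)
        (adjD.counit.app (L.mapDerivedCategory.obj K))
    have hLZ : IsZero (L.mapDerivedCategory.obj Z) :=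
      (Triangle.isZero₃_iff_isIso₁ _ (L.mapDerivedCategory.map_distinguished _ hT)).2 hLη
    -- `J K` and `J R L K` vanish
    have hJK : IsZero (J.mapDerivedCategory.obj K) := by
      apply isZero_of_homology
      intro n
      obtain ⟨e'⟩ := Groth.Agent.R2.H29.DerHom.nonempty_homology_mapDerivedCategory_iso J K n
      exact (hK n).of_iso e'
    have hJR : IsZero (J.mapDerivedCategory.obj
        (R.mapDerivedCategory.obj (L.mapDerivedCategory.obj K))) := by
      apply isZero_of_homology
      intro n
      obtain ⟨e'⟩ := Groth.Agent.R2.H29.DerHom.nonempty_homology_mapDerivedCategory_iso J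
        (R.mapDerivedCategory.obj (L.mapDerivedCategory.obj K)) n
      obtain ⟨e''⟩ := Groth.Agent.R2.H29.DerHom.nonempty_homology_mapDerivedCategory_iso R
        (L.mapDerivedCategory.obj K) n
      exact (h1 _).of_iso (e' ≪≫ J.mapIso e'')
    have hJZ : IsZero (J.mapDerivedCategory.obj Z) :=
      (Triangle.isZero₃_iff_isIso₁ _ (J.mapDerivedCategory.map_distinguished _ hT)).2
        (isIso_of_source_target_iso_zero _ hJK.isoZero hJR.isoZero)
    have hZ : IsZero Z := by
      apply isZero_of_homology
      intro n
      obtain ⟨e'⟩ := Groth.Agent.R2.H29.DerHom.nonempty_homology_mapDerivedCategory_iso L Z n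
      obtain ⟨e''⟩ := Groth.Agent.R2.H29.DerHom.nonempty_homology_mapDerivedCategory_iso J Z n
      exact h2 _ (((DerivedCategory.homologyFunctor B n).map_isZero hLZ).of_iso e'.symm)
        (((DerivedCategory.homologyFunctor E n).map_isZero hJZ).of_iso e''.symm)
    have hη : IsIso η := (Triangle.isZero₃_iff_isIso₁ _ hT).1 hZ
    exact ⟨L.mapDerivedCategory.obj K, ⟨(asIso η).symm⟩⟩

end Main

end Groth.Agent.R2.H29.DerClosed
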