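import Mathlib

set_option autoImplicit false
universe u
open CategoryTheory CategoryTheory.Limits AlgebraicGeometry TopologicalSpace Opposite

namespace Groth.Agent.R2.H29.DimOne

/-- a local domain of Krull dimension `≤ 1` which is not a field has dimension exactly one -/
theorem ringKrullDim_eq_one {R : Type*} [CommRing R] [IsDomain R]
    (h1 : ringKrullDim R ≤ 1) (hne : ¬ IsField R) : ringKrullDim R = 1 := by
  have : ¬ ringKrullDim R ≤ 0 := fun h ↦ by
    have : Ring.KrullDimLE 0 R := Ring.krullDimLE_iff.mpr h
    exact hne Ring.KrullDimLE.isField_of_isDomain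
  exact le_antisymm h1 (Order.succ_le_of_lt (lt_of_not_ge this))

/-- a valuation subring (not the whole field) containing a one-dimensional local domain with the
same fraction field dominates it -/
theorem isLocalHom_of_le_valuationSubring {R K : Type*} [CommRing R] [IsDomain R] [IsLocalRing R]
    [Field K] [Algebra R K] [IsFractionRing R K] (hdim : ringKrullDim R ≤ 1)
    (O : ValuationSubring K) (hO : O ≠ ⊤) (φ : R →+* O)
    (hφ : ∀ a, (φ a : K) = algebraMap R K a) : IsLocalHom φ := by
  have : Ring.KrullDimLE 1 R := Ring.krullDimLE_iff.mpr hdim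
  have hφinj : Function.Injective φ := by
    intro a b hab
    apply IsFractionRing.injective R K
    rw [← hφ, ← hφ, hab]
  constructor
  intro a ha
  by_contra hna
  have ham : a ∈ IsLocalRing.maximalIdeal R := hna
  have hp : (Ideal.comap φ (IsLocalRing.maximalIdeal O)).IsPrime := Ideal.comap_isPrime _ _
  by_cases hbot : Ideal.comap φ (IsLocalRing.maximalIdeal O) = ⊥
  · apply hO
    rw [eq_top_iff]
    intro z _
    obtain ⟨x, y, hy, rfl⟩ := IsFractionRing.div_surjective (A := R) z
    have hy0 : y ≠ 0 := nonZeroDivisors.ne_zero hy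
    have hyu : IsUnit (φ y) := by
      by_contra hnu
      have : y ∈ Ideal.comap φ (IsLocalRing.maximalIdeal O) := hnu
      rw [hbot] at this
      exact hy0 this
    obtain ⟨u, hu⟩ := hyu
    have : algebraMap R K x / algebraMap R K y = ((φ x * (u⁻¹ : Oˣ) : O) : K) := by
      rw [← hφ, ← hφ, ← hu]
      rw [div_eq_iff]
      · push_cast
        rw [mul_assoc, ← Subring.coe_mul]
        simp
      · intro h0
        have : (u : O) = 0 := Subtype.ext h0
        exact u.ne_zero this
    rw [this]
    exact (φ x * (u⁻¹ : Oˣ) : O).2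
  · have hmax : (Ideal.comap φ (IsLocalRing.maximalIdeal O)).IsMaximal :=
      hp.isMaximal_of_ne_bot hbot
    have heq := IsLocalRing.eq_maximalIdeal hmax
    rw [← heq] at ham
    exact ham ha

end Groth.Agent.R2.H29.DimOne
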