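import Mathlib
import Groth.Agent.R2.H29DimOneA
import Groth.Agent.S7663

set_option autoImplicit false
universe u
open CategoryTheory CategoryTheory.Limits AlgebraicGeometry TopologicalSpace Opposite

namespace Groth.Agent.R2.H29.DimOne

section Alg

variable (R K : Type*) [CommRing R] [Field K] [Algebra R K] [IsFractionRing R K]

/-- a domain is isomorphic to its image in its fraction field -/
noncomputable def rangeEquiv : R ≃+* (algebraMap R K).range :=
  RingEquiv.ofBijective (algebraMap R K).rangeRestrict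
    ⟨fun _ _ hab => IsFractionRing.injective R K (congrArg Subtype.val hab),
      (algebraMap R K).rangeRestrict_surjective⟩

@[simp] theorem coe_rangeEquiv (a : R) : ((rangeEquiv R K a : (algebraMap R K).range) : K) =
    algebraMap R K a := rfl

theorem isFractionRing_range : IsFractionRing (algebraMap R K).range K := by
  apply IsFractionRing.of_field
  intro z
  obtain ⟨x, y, -, rfl⟩ := IsFractionRing.div_surjective (A := R) z
  exact ⟨⟨_, x, rfl⟩, ⟨_, y, rfl⟩, rfl⟩

end Alg

theorem isDominant_specMap_of_injective {R S : CommRingCat.{u}} (f : R ⟶ S)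
    (hf : Function.Injective f.hom) : IsDominant (Spec.map f) := by
  constructor
  show DenseRange (PrimeSpectrum.comap f.hom)
  rw [PrimeSpectrum.denseRange_comap_iff_ker_le_nilRadical,
    (RingHom.injective_iff_ker_eq_bot _).mp hf]
  exact bot_le

variable {X : Scheme.{u}} [IsIntegral X]

theorem specMap_algebraMap_fromSpecStalk (x : X) :
    Spec.map (CommRingCat.ofHom (algebraMap (X.presheaf.stalk x) X.functionField)) ≫
      X.fromSpecStalk x = X.fromSpecStalk (genericPoint X) :=
  Scheme.SpecMap_stalkSpecializes_fromSpecStalk ((genericPoint_spec X).specializes trivial)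

theorem exists_hom_of_le_valuationSubring (x : X)
    (hdx : ringKrullDim (X.presheaf.stalk x) ≤ 1)
    (O : ValuationSubring X.functionField) (hO : O ≠ ⊤)
    (hle : (algebraMap (X.presheaf.stalk x) X.functionField).range ≤ O.toSubring) :
    ∃ h : Spec (CommRingCat.of O) ⟶ X,
      Spec.map (CommRingCat.ofHom O.subtype) ≫ h = X.fromSpecStalk (genericPoint X) ∧
      h (IsLocalRing.closedPoint O) = x := by
  obtain ⟨φ, hφ⟩ : ∃ φ : X.presheaf.stalk x →+* O, ∀ a, (φ a : X.functionField) =
      algebraMap (X.presheaf.stalk x) X.functionField a :=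
    ⟨(algebraMap _ X.functionField).codRestrict O.toSubring (fun a => hle ⟨a, rfl⟩), fun a => rfl⟩
  have hloc : IsLocalHom φ := isLocalHom_of_le_valuationSubring hdx O hO φ hφ
  have hcomp : O.subtype.comp φ = algebraMap (X.presheaf.stalk x) X.functionField := by
    ext a; exact hφ a
  refine ⟨Spec.map (CommRingCat.ofHom φ) ≫ X.fromSpecStalk x, ?_, ?_⟩
  · rw [← Category.assoc, ← Spec.map_comp, ← CommRingCat.ofHom_comp, hcomp]
    exact specMap_algebraMap_fromSpecStalk x
  · have : IsLocalHom (CommRingCat.ofHom φ).hom := hloc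
    rw [Scheme.Hom.comp_apply]
    erw [Spec_closedPoint]
    exact Scheme.fromSpecStalk_closedPoint

theorem sup_range_eq_top [X.IsSeparated] (x y : X) (hxy : x ≠ y)
    [IsNoetherianRing (X.presheaf.stalk x)] (hdx : ringKrullDim (X.presheaf.stalk x) = 1)
    (hdy : ringKrullDim (X.presheaf.stalk y) = 1) :
    (algebraMap (X.presheaf.stalk x) X.functionField).range ⊔
      (algebraMap (X.presheaf.stalk y) X.functionField).range = ⊤ := by
  by_contra hne
  have hdimA : ringKrullDim (algebraMap (X.presheaf.stalk x) X.functionField).range = 1 := by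
    rw [← hdx]
    exact (ringKrullDim_eq_of_ringEquiv (rangeEquiv (X.presheaf.stalk x) X.functionField)).symm
  have : IsNoetherianRing (algebraMap (X.presheaf.stalk x) X.functionField).range :=
    isNoetherianRing_of_ringEquiv _ (rangeEquiv (X.presheaf.stalk x) X.functionField)
  have := isFractionRing_range (X.presheaf.stalk x) X.functionField
  have := isFractionRing_range (X.presheaf.stalk y) X.functionField
  obtain ⟨O, hODVR, hAO, hBO⟩ :=
    (Groth.Agent.S7663.result X.functionField _ _ hdimA).mp hne
  have hOtop : O ≠ ⊤ := by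
    intro htop
    have hall : ∀ z : X.functionField, z ∈ O := fun z => by
      have : z ∈ (⊤ : ValuationSubring X.functionField) := trivial
      rwa [← htop] at this
    obtain ⟨ϖ, hϖ⟩ := IsDiscreteValuationRing.exists_irreducible O
    apply hϖ.not_isUnit
    have hmem : ((ϖ : X.functionField))⁻¹ ∈ O := hall _
    have h0 : (ϖ : X.functionField) ≠ 0 := fun h => hϖ.ne_zero (Subtype.ext h)
    exact IsUnit.of_mul_eq_one ⟨_, hmem⟩ (Subtype.ext (by simp [h0]))
  obtain ⟨h₁, h₁ι, h₁c⟩ := exists_hom_of_le_valuationSubring x hdx.le O hOtop hAO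
  obtain ⟨h₂, h₂ι, h₂c⟩ := exists_hom_of_le_valuationSubring y hdy.le O hOtop hBO
  have : IsDominant (Spec.map (CommRingCat.ofHom O.subtype)) :=
    isDominant_specMap_of_injective _ Subtype.val_injective
  have heq : h₁ = h₂ := ext_of_isDominant (Spec.map (CommRingCat.ofHom O.subtype))
    (h₁ι.trans h₂ι.symm)
  exact hxy (by rw [← h₁c, ← h₂c, heq])

omit [IsIntegral X] in
theorem isIso_stalkMap_specMap_fromSpecStalk {X : Scheme.{u}} {R : CommRingCat.{u}}
    [IsLocalRing R] (x : X) (φ : X.presheaf.stalk x ⟶ R) [IsIso φ] :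
    IsIso ((Spec.map φ ≫ X.fromSpecStalk x).stalkMap (IsLocalRing.closedPoint R)) := by
  have hloc : IsLocalHom φ.hom := inferInstance
  have key := (SpecToEquivOfLocalRing X R).right_inv ⟨x, φ, hloc⟩
  obtain ⟨h₁, h₂⟩ := SpecToEquivOfLocalRing_eq_iff.mp key
  simp only [SpecToEquivOfLocalRing] at h₂
  have h3 : IsIso (Scheme.stalkClosedPointTo (Spec.map φ ≫ X.fromSpecStalk x)) := by
    rw [h₂]; infer_instance
  have h4 : (Spec.map φ ≫ X.fromSpecStalk x).stalkMap (IsLocalRing.closedPoint R) =
      Scheme.stalkClosedPointTo (Spec.map φ ≫ X.fromSpecStalk x) ≫ (stalkClosedPointIso R).inv := by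
    rw [Scheme.stalkClosedPointTo, Category.assoc, Iso.hom_inv_id, Category.comp_id]
  rw [h4]
  infer_instance

omit [IsIntegral X] in
theorem isIso_stalkMap_of_comp {A B X : Scheme.{u}} (j : A ⟶ B) [IsOpenImmersion j] (f : B ⟶ X)
    (g : A ⟶ X) (h : j ≫ f = g) (c : A) (hg : IsIso (g.stalkMap c)) :
    IsIso (f.stalkMap (j c)) := by
  subst h
  rw [Scheme.Hom.stalkMap_comp] at hg
  exact @IsIso.of_isIso_comp_right _ _ _ _ _ (f.stalkMap (j c)) (j.stalkMap c) inferInstance hg

/-- the canonical morphism from the spectrum of the image of the local ring in the function field -/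
noncomputable def fromSpecRange (x : X) :
    Spec (CommRingCat.of (algebraMap (X.presheaf.stalk x) X.functionField).range) ⟶ X :=
  Spec.map (rangeEquiv (X.presheaf.stalk x) X.functionField).toCommRingCatIso.hom ≫
    X.fromSpecStalk x

theorem specMap_subtype_fromSpecRange (x : X) :
    Spec.map (CommRingCat.ofHom
      (algebraMap (X.presheaf.stalk x) X.functionField).range.subtype) ≫ fromSpecRange x =
      X.fromSpecStalk (genericPoint X) := by
  rw [fromSpecRange, ← Category.assoc, ← Spec.map_comp]
  exact specMap_algebraMap_fromSpecStalk x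

omit [IsIntegral X] in
theorem exists_glue_aux [X.IsSeparated] {Y : Scheme.{u}} (𝒰 : Y.OpenCover)
    [∀ i, IsReduced (𝒰.X i)]
    (g : ∀ i, 𝒰.X i ⟶ X) {W : Scheme.{u}} (w : ∀ i, W ⟶ 𝒰.X i) [∀ i, IsDominant (w i)]
    (hw : ∀ i j, w i ≫ 𝒰.f i = w j ≫ 𝒰.f j) (hg : ∀ i j, w i ≫ g i = w j ≫ g j) :
    ∃ f : Y ⟶ X, ∀ i, 𝒰.f i ≫ f = g i := by
  have compat : ∀ i j, pullback.fst (𝒰.f i) (𝒰.f j) ≫ g i =
      pullback.snd (𝒰.f i) (𝒰.f j) ≫ g j := by
    intro i j
    have hred : IsReduced (pullback (𝒰.f i) (𝒰.f j)) :=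
      isReduced_of_isOpenImmersion (pullback.fst (𝒰.f i) (𝒰.f j))
    have hdom : IsDominant (pullback.lift _ _ (hw i j) ≫ pullback.fst (𝒰.f i) (𝒰.f j)) := by
      rw [pullback.lift_fst]
      infer_instance
    have hdom' : IsDominant (pullback.lift _ _ (hw i j)) :=
      IsDominant.of_comp_of_isOpenImmersion _ (pullback.fst (𝒰.f i) (𝒰.f j))
    refine ext_of_isDominant (pullback.lift _ _ (hw i j)) ?_
    rw [pullback.lift_fst_assoc, pullback.lift_snd_assoc]
    exact hg i j
  exact ⟨𝒰.glueMorphisms g compat, fun i => 𝒰.ι_glueMorphisms g compat i⟩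

theorem exists_glue [X.IsSeparated] {ι : Type} (pt : ι → X)
    (A₀ : Subring X.functionField)
    (hle : ∀ i, A₀ ≤ (algebraMap (X.presheaf.stalk (pt i)) X.functionField).range)
    (hopen : ∀ i, IsOpenImmersion (Spec.map (CommRingCat.ofHom (Subring.inclusion (hle i)))))
    (hcov : (⋃ i, Set.range (Spec.map (CommRingCat.ofHom (Subring.inclusion (hle i)))).base) =
      Set.univ) :
    ∃ f : Spec (CommRingCat.of A₀) ⟶ X, ∀ i,
      Spec.map (CommRingCat.ofHom (Subring.inclusion (hle i))) ≫ f = fromSpecRange (pt i) := by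
  have hred : ∀ i, IsReduced
      (Spec (CommRingCat.of (algebraMap (X.presheaf.stalk (pt i)) X.functionField).range)) :=
    fun i => inferInstance
  have hdom : ∀ i, IsDominant (Spec.map (CommRingCat.ofHom
      (algebraMap (X.presheaf.stalk (pt i)) X.functionField).range.subtype)) :=
    fun i => isDominant_specMap_of_injective _ Subtype.val_injective
  obtain ⟨f, hf⟩ := @exists_glue_aux X _ _ (Scheme.Cover.mkOfCovers ι
      (fun i => Spec (CommRingCat.of (algebraMap (X.presheaf.stalk (pt i)) X.functionField).range))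
      (fun i => Spec.map (CommRingCat.ofHom (Subring.inclusion (hle i))))
      (fun x => by
        have : x ∈ (⋃ i, Set.range (Spec.map (CommRingCat.ofHom (Subring.inclusion (hle i)))).base) := by
          rw [hcov]; trivial
        obtain ⟨i, y, hy⟩ := Set.mem_iUnion.mp this
        exact ⟨i, y, hy⟩)
      hopen) hred (fun i => fromSpecRange (pt i)) (Spec (CommRingCat.of X.functionField))
      (fun i => Spec.map (CommRingCat.ofHom
        (algebraMap (X.presheaf.stalk (pt i)) X.functionField).range.subtype)) hdom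
      (fun i j => by
        show _ ≫ Spec.map _ = _ ≫ Spec.map _
        rw [← Spec.map_comp, ← Spec.map_comp]
        rfl)
      (fun i j => by
        show _ ≫ fromSpecRange (pt i) = _ ≫ fromSpecRange (pt j)
        rw [specMap_subtype_fromSpecRange, specMap_subtype_fromSpecRange])
  exact ⟨f, fun i => hf i⟩

end Groth.Agent.R2.H29.DimOne
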