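import Mathlib
import Groth.Agent.R2.H29AffOpenD

/-!
# Finite-type affine approximation of a morphism out of an affine scheme, part A

ns `Groth.Agent.R2.H29.FTApprox`.  Ingredients for: every quasi-compact morphism `f : T ⟶ X` with
`T` affine factors as `T ⟶ T' ⟶ X` with `T'` affine, `T' ⟶ X` locally of finite type and separated,
`T ⟶ T'` dominant (`T'` is an open of the scheme-theoretic image of `T` in an affine space over `X`).

* `Good f`, `span_good_eq_top` : functions `a` on `T` with `D(a)` mapping into an affine open of `X`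
  generate the unit ideal.
* `exists_pow_mem_span`, `exists_clear_denominators` : the partition-of-unity identities.
* `toImage_app_injective'`, `imageι_app_eq_zero` : sections killed by `g` vanish on the
  scheme-theoretic image.
* `Opn`, `preimage_Opn`, `isAffineOpen_Opn`, `preimage_Opn_inf_le` : the key inclusion.
-/

set_option autoImplicit false
universe u

open AlgebraicGeometry CategoryTheory TopologicalSpace Opposite Limits
open Groth.Agent.R2.H29.AffOpenA Groth.Agent.R2.H29.AffOpenC Groth.Agent.R2.H29.AffOpenD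

namespace Groth.Agent.R2.H29.FTApprox

section A

variable {T X : Scheme.{u}} (f : T ⟶ X)

/-- global functions on `T` whose non-vanishing locus maps into an affine open of `X` -/
def Good : Set Γ(T, ⊤) := {a | ∃ U : X.affineOpens, T.basicOpen a ≤ f ⁻¹ᵁ U.1}

theorem span_good_eq_top [IsAffine T] : Ideal.span (Good f) = ⊤ := by
  by_contra hne
  obtain ⟨m, hm, hle⟩ := Ideal.exists_le_maximal _ hne
  have := hm.isPrime
  obtain ⟨t, ht⟩ := exists_ptIdeal_eq m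
  obtain ⟨_, ⟨U, hU, rfl⟩, hfU, -⟩ := X.isBasis_affineOpens.exists_subset_of_mem_open
    (Set.mem_univ (f t)) isOpen_univ
  obtain ⟨_, ⟨_, ⟨a, rfl⟩, rfl⟩, hta, haU⟩ := (isBasis_basicOpen T).exists_subset_of_mem_open
    (show t ∈ f ⁻¹ᵁ U from hfU) (f ⁻¹ᵁ U).isOpen
  have : a ∈ m := hle (Ideal.subset_span ⟨⟨U, hU⟩, haU⟩)
  rw [← ht, mem_ptIdeal_iff] at this
  exact this hta

/-- the key radical membership -/
theorem exists_pow_mem_span {U₁ U₂ : X.Opens} (hU₁ : IsAffineOpen U₁)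
    {V : T.Opens} (hV : IsAffineOpen V) (hV₁ : V ≤ f ⁻¹ᵁ U₁) (r : Γ(T, V))
    (hr : T.basicOpen r ≤ f ⁻¹ᵁ U₂) :
    ∃ N : ℕ, r ^ N ∈ Ideal.span ((f.appLE U₁ V hV₁).hom '' {b | X.basicOpen b ≤ U₂}) := by
  suffices h : r ∈ (Ideal.span ((f.appLE U₁ V hV₁).hom '' {b | X.basicOpen b ≤ U₂})).radical from h
  rw [Ideal.radical_eq_sInf, Ideal.mem_sInf]
  rintro p ⟨hJp, hp⟩
  by_contra hrp
  -- the point of V corresponding to p
  set x : T := hV.fromSpec ⟨p, hp⟩ with hx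
  have hxV : x ∈ V := by
    have : x ∈ Set.range hV.fromSpec := ⟨_, rfl⟩
    rw [hV.range_fromSpec] at this
    exact this
  have hmem : ∀ s : Γ(T, V), x ∈ T.basicOpen s ↔ s ∉ p := by
    intro s
    have h1 : x ∈ T.basicOpen s ↔ (⟨p, hp⟩ : Spec Γ(T, V)) ∈ hV.fromSpec ⁻¹ᵁ T.basicOpen s :=
      Iff.rfl
    rw [h1, hV.fromSpec_preimage_basicOpen]
    rfl
  have hxr : x ∈ T.basicOpen r := (hmem r).mpr hrp
  have hfx₂ : f x ∈ U₂ := hr hxr
  have hfx₁ : f x ∈ U₁ := hV₁ hxV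
  obtain ⟨b, hb, hxb⟩ := hU₁.exists_basicOpen_le (V := U₂) ⟨f x, hfx₂⟩ hfx₁
  have hbp : (f.appLE U₁ V hV₁).hom b ∈ p := hJp (Ideal.subset_span ⟨b, hb, rfl⟩)
  have : x ∈ T.basicOpen ((f.appLE U₁ V hV₁).hom b) := by
    rw [Scheme.basicOpen_appLE]
    exact ⟨hxV, hxb⟩
  exact (hmem _).mp this hbp


end A

section B

variable {T X : Scheme.{u}} (f : T ⟶ X)

/-- clearing denominators in an ideal-membership over a basic open of an affine scheme -/
theorem exists_clear_denominators [IsAffine T] (a : Γ(T, ⊤)) {R : Type*} [CommRing R]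
    (ψ : R →+* Γ(T, T.basicOpen a)) (B : Set R) (x : Γ(T, T.basicOpen a))
    (hx : x ∈ Ideal.span (ψ '' B)) :
    ∃ (M : ℕ) (t : Finset Γ(T, T.basicOpen a)) (e : Γ(T, T.basicOpen a) → Γ(T, ⊤))
      (β : Γ(T, T.basicOpen a) → R), (∀ y ∈ t, β y ∈ B) ∧
      algebraMap Γ(T, ⊤) Γ(T, T.basicOpen a) a ^ M * x =
        ∑ y ∈ t, algebraMap Γ(T, ⊤) Γ(T, T.basicOpen a) (e y) * ψ (β y) := by
  classical
  obtain ⟨c, t, htB, -, hsum⟩ := Submodule.mem_span_iff_exists_finset_subset.mp hx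
  obtain ⟨⟨_, M, rfl⟩, hM⟩ := IsLocalization.exist_integer_multiples (Submonoid.powers a) t c
  choose! e he using hM
  have hβ : ∀ y ∈ t, ∃ b ∈ B, ψ b = y := fun y hy => htB hy
  choose! β hβB hβy using hβ
  refine ⟨M, t, e, β, hβB, ?_⟩
  rw [← hsum, Finset.mul_sum]
  refine Finset.sum_congr rfl fun y hy => ?_
  rw [he y hy, hβy y hy]
  simp only [smul_eq_mul, Algebra.smul_def, map_pow]
  ring


end B

section C

variable {T P X : Scheme.{u}} (g : T ⟶ P) (π : P ⟶ X)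
  (crd : Γ(T, ⊤) → Γ(P, ⊤))

/-- the open `π⁻¹ U ∩ {crd a ≠ 0}` of `P` -/
def Opn (a : Γ(T, ⊤)) (U : X.Opens) : P.Opens := π ⁻¹ᵁ U ⊓ P.basicOpen (crd a)

theorem preimage_Opn (f : T ⟶ X) (hf : g ≫ π = f) (a : Γ(T, ⊤)) (ha : g.appTop (crd a) = a)
    (U : X.Opens) (haU : T.basicOpen a ≤ f ⁻¹ᵁ U) :
    g ⁻¹ᵁ (Opn π crd a U) = T.basicOpen a := by
  subst hf
  unfold Opn
  rw [Scheme.Hom.preimage_inf, Scheme.preimage_basicOpen_top, ha]
  exact inf_eq_right.mpr haU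

theorem isAffineOpen_Opn [IsAffineHom π] (a : Γ(T, ⊤)) {U : X.Opens} (hU : IsAffineOpen U) :
    IsAffineOpen (Opn π crd a U) := by
  have h1 : Opn π crd a U =
      P.basicOpen (P.presheaf.map (homOfLE (le_top : π ⁻¹ᵁ U ≤ ⊤)).op (crd a)) := by
    rw [Scheme.basicOpen_res]; rfl
  rw [h1]
  exact (hU.preimage π).basicOpen _



variable {T P X : Scheme.{u}} (g : T ⟶ P) (π : P ⟶ X)
  (crd : Γ(T, ⊤) → Γ(P, ⊤))

theorem toImage_app_injective' [QuasiCompact g] (O : P.Opens) :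
    Function.Injective (g.toImage.app (g.imageι ⁻¹ᵁ O)) := by
  rw [injective_iff_map_eq_zero]
  intro s hs
  refine g.image.IsSheaf.section_ext fun x hx ↦ ?_
  obtain ⟨_, ⟨V, hV, rfl⟩, hxV, hVO : V ≤ O⟩ :=
    P.isBasis_affineOpens.exists_subset_of_mem_open (show g.imageι x ∈ O from hx) O.isOpen
  have hle : g.imageι ⁻¹ᵁ V ≤ g.imageι ⁻¹ᵁ O := fun y hy => hVO hy
  refine ⟨g.imageι ⁻¹ᵁ V, hle, hxV, ?_⟩
  rw [map_zero]
  apply g.toImage_app_injective ⟨V, hV⟩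
  rw [map_zero, ← ConcreteCategory.comp_apply, g.toImage.naturality]
  simp [hs]

theorem imageι_app_eq_zero [QuasiCompact g] (O : P.Opens) (F : Γ(P, O)) (h : g.app O F = 0) :
    g.imageι.app O F = 0 := by
  apply toImage_app_injective' g O
  rw [map_zero]
  have key : (g.toImage ≫ g.imageι).app O F = 0 := by
    rw [Scheme.Hom.congr_app g.toImage_imageι, ConcreteCategory.comp_apply, h, map_zero]
  exact key

theorem preimage_Opn_inf_le [QuasiCompact g] (f : T ⟶ X) (hf : g ≫ π = f)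
    (l k : Γ(T, ⊤)) (hl : g.appTop (crd l) = l)
    (hk : g.appTop (crd k) = k) {Ul Uk : X.Opens}
    (hlU : T.basicOpen l ≤ f ⁻¹ᵁ Ul)
    (M N : ℕ) (t : Finset Γ(T, T.basicOpen l)) (e : Γ(T, T.basicOpen l) → Γ(T, ⊤))
    (β : Γ(T, T.basicOpen l) → Γ(X, Ul))
    (he : ∀ y ∈ t, g.appTop (crd (e y)) = e y)
    (hβ : ∀ y ∈ t, X.basicOpen (β y) ≤ Uk)
    (hid : algebraMap Γ(T, ⊤) Γ(T, T.basicOpen l) l ^ M *
        algebraMap Γ(T, ⊤) Γ(T, T.basicOpen l) k ^ N =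
      ∑ y ∈ t, algebraMap Γ(T, ⊤) Γ(T, T.basicOpen l) (e y) *
        (f.appLE Ul (T.basicOpen l) hlU).hom (β y)) :
    g.imageι ⁻¹ᵁ (Opn π crd l Ul ⊓ P.basicOpen (crd k)) ≤ g.imageι ⁻¹ᵁ (π ⁻¹ᵁ Uk) := by
  subst hf
  intro y₀ hy₀
  by_contra hcon
  set O := Opn π crd l Ul with hO
  have hyO : g.imageι y₀ ∈ O := hy₀.1
  have hyk : g.imageι y₀ ∈ P.basicOpen (crd k) := hy₀.2
  have hyl : g.imageι y₀ ∈ P.basicOpen (crd l) := hyO.2
  have hpre : g ⁻¹ᵁ O = T.basicOpen l := preimage_Opn g π crd _ rfl l hl Ul hlU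
  have hVO : T.basicOpen l ≤ g ⁻¹ᵁ O := hpre.ge
  let res : Γ(P, ⊤) →+* Γ(P, O) := (P.presheaf.map (homOfLE (le_top : O ≤ ⊤)).op).hom
  have hOU : O ≤ π ⁻¹ᵁ Ul := inf_le_left
  let F₁ : Γ(P, O) := res (crd l) ^ M * res (crd k) ^ N
  let F₂ : Γ(P, O) := ∑ y ∈ t, res (crd (e y)) * (π.appLE Ul O hOU).hom (β y)
  -- pullbacks to T
  have hres : ∀ a : Γ(T, ⊤), g.appTop (crd a) = a →
      (g.appLE O (T.basicOpen l) hVO).hom (res (crd a)) =
        algebraMap Γ(T, ⊤) Γ(T, T.basicOpen l) a := by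
    intro a ha
    have h1 := congr($(Scheme.Hom.map_appLE g hVO (homOfLE (le_top : O ≤ ⊤)).op) (crd a))
    refine h1.trans ?_
    change (T.presheaf.map _).hom (g.appTop (crd a)) = _
    rw [ha]
    rfl
  have hcomp : ∀ b : Γ(X, Ul), (g.appLE O (T.basicOpen l) hVO).hom ((π.appLE Ul O hOU).hom b) =
      ((g ≫ π).appLE Ul (T.basicOpen l) hlU).hom b := by
    intro b
    exact congr($(Scheme.Hom.appLE_comp_appLE g π Ul O (T.basicOpen l) hOU hVO) b)
  have hF : (g.appLE O (T.basicOpen l) hVO).hom (F₁ - F₂) = 0 := by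
    rw [map_sub, sub_eq_zero]
    simp only [F₁, F₂, map_mul, map_pow, map_sum]
    rw [hres l hl, hres k hk, hid]
    refine Finset.sum_congr rfl fun y hy => ?_
    rw [hres (e y) (he y hy), hcomp]
  have hFapp : g.app O (F₁ - F₂) = 0 := by
    have hiso : IsIso (T.presheaf.map (homOfLE hVO).op) := by
      have : homOfLE hVO = eqToHom hpre.symm := rfl
      rw [this]; infer_instance
    have hinj : Function.Injective (T.presheaf.map (homOfLE hVO).op) :=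
      (ConcreteCategory.bijective_of_isIso _).injective
    apply hinj
    rw [map_zero]
    exact hF
  have hι : g.imageι.app O (F₁ - F₂) = 0 := imageι_app_eq_zero g O _ hFapp
  -- the prime ideal of the point y₀
  have hyW : y₀ ∈ g.imageι ⁻¹ᵁ O := hyO
  set 𝔭 := ptIdealOn g.image (g.imageι ⁻¹ᵁ O) y₀ hyW with h𝔭
  have hnot : ∀ a : Γ(T, ⊤), g.imageι y₀ ∈ P.basicOpen (crd a) →
      (g.imageι.app O).hom (res (crd a)) ∉ 𝔭 := by
    intro a ha
    rw [mem_ptIdealOn_iff, not_not]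
    have : y₀ ∈ g.imageι ⁻¹ᵁ P.basicOpen (res (crd a)) := by
      change g.imageι y₀ ∈ P.basicOpen ((P.presheaf.map (homOfLE (le_top : O ≤ ⊤)).op).hom (crd a))
      rw [Scheme.basicOpen_res]
      exact ⟨hyO, ha⟩
    rw [Scheme.preimage_basicOpen] at this
    exact this
  have hmem : ∀ y ∈ t, (g.imageι.app O).hom ((π.appLE Ul O hOU).hom (β y)) ∈ 𝔭 := by
    intro y hy
    rw [mem_ptIdealOn_iff]
    intro hy₁
    rw [← Scheme.preimage_basicOpen] at hy₁
    have hy₂ : g.imageι y₀ ∈ P.basicOpen ((π.appLE Ul O hOU).hom (β y)) := hy₁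
    rw [Scheme.basicOpen_appLE] at hy₂
    exact hcon (hβ y hy hy₂.2)
  have h1 : (g.imageι.app O).hom F₁ ∉ 𝔭 := by
    simp only [F₁, map_mul, map_pow]
    intro hc
    rcases (Ideal.IsPrime.mul_mem_iff_mem_or_mem (I := 𝔭) inferInstance).mp hc with h | h
    · exact hnot l hyl (Ideal.IsPrime.mem_of_pow_mem inferInstance _ h)
    · exact hnot k hyk (Ideal.IsPrime.mem_of_pow_mem inferInstance _ h)
  have h2 : (g.imageι.app O).hom F₂ ∈ 𝔭 := by
    simp only [F₂, map_sum, map_mul]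
    exact Ideal.sum_mem _ fun y hy => Ideal.mul_mem_left _ _ (hmem y hy)
  have h3 : (g.imageι.app O).hom F₁ = (g.imageι.app O).hom F₂ := by
    have := hι
    rw [map_sub, sub_eq_zero] at this
    exact this
  exact h1 (h3 ▸ h2)


end C

section D

variable {T P X : Scheme.{u}} (g : T ⟶ P) (π : P ⟶ X)
  (crd : Γ(T, ⊤) → Γ(P, ⊤))

/-- the union of the pieces -/
noncomputable def Tz (K : Finset Γ(T, ⊤)) (U : Γ(T, ⊤) → X.Opens) : g.image.Opens :=
  ⨆ a : K, g.imageι ⁻¹ᵁ (Opn π crd a.1 (U a.1))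

theorem exists_mem_basicOpen (K : Finset Γ(T, ⊤)) (c : Γ(T, ⊤) → Γ(T, ⊤))
    (hc : ∑ a ∈ K, c a * a = 1) (t : T) : ∃ a ∈ K, t ∈ T.basicOpen a := by
  by_contra hcon
  push Not at hcon
  have h1 : (1 : Γ(T, ⊤)) ∈ ptIdeal T t := by
    rw [← hc]
    exact Ideal.sum_mem _ fun a ha => Ideal.mul_mem_left _ _
      ((mem_ptIdeal_iff T t a).mpr (hcon a ha))
  exact (Ideal.IsPrime.ne_top inferInstance) ((Ideal.eq_top_iff_one _).mpr h1)

theorem toImage_mem_Tz (K : Finset Γ(T, ⊤)) (U : Γ(T, ⊤) → X.Opens)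
    (hK : ∀ a ∈ K, g.appTop (crd a) = a)
    (f : T ⟶ X) (hf : g ≫ π = f) (hKU : ∀ a ∈ K, T.basicOpen a ≤ f ⁻¹ᵁ U a)
    (c : Γ(T, ⊤) → Γ(T, ⊤)) (hc : ∑ a ∈ K, c a * a = 1) (t : T) :
    g.toImage t ∈ Tz g π crd K U := by
  obtain ⟨a, ha, hta⟩ := exists_mem_basicOpen K c hc t
  refine Opens.mem_iSup.mpr ⟨⟨a, ha⟩, ?_⟩
  change g.imageι (g.toImage t) ∈ Opn π crd a (U a)
  rw [← Scheme.Hom.comp_apply, g.toImage_imageι]
  have : t ∈ g ⁻¹ᵁ (Opn π crd a (U a)) := by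
    rw [preimage_Opn g π crd f hf a (hK a ha) (U a) (hKU a ha)]
    exact hta
  exact this

theorem isAffineOpen_Tz [IsAffineHom π] [QuasiCompact g]
    (K : Finset Γ(T, ⊤)) (U : Γ(T, ⊤) → X.Opens) (hU : ∀ a ∈ K, IsAffineOpen (U a))
    (hK : ∀ a ∈ K, g.appTop (crd a) = a)
    (c : Γ(T, ⊤) → Γ(T, ⊤)) (hcS : ∀ a ∈ K, g.appTop (crd (c a)) = c a)
    (hc : ∑ a ∈ K, c a * a = 1)
    (hincl : ∀ l ∈ K, ∀ k ∈ K, g.imageι ⁻¹ᵁ (Opn π crd l (U l) ⊓ P.basicOpen (crd k)) ≤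
      g.imageι ⁻¹ᵁ (π ⁻¹ᵁ U k)) :
    IsAffineOpen (Tz g π crd K U) := by
  set 𝒜 := Tz g π crd K U with h𝒜
  let res : Γ(g.image, ⊤) →+* Γ(g.image, 𝒜) :=
    (g.image.presheaf.map (homOfLE (le_top : 𝒜 ≤ ⊤)).op).hom
  let fn : K → Γ(g.image, 𝒜) := fun a => res (g.imageι.appTop (crd a.1))
  apply isAffineOpen_of_isAffineOpen_basicOpen 𝒜 (Set.range fn)
  · -- the functions generate the unit ideal
    rw [Ideal.eq_top_iff_one]
    have hG : g.imageι.appTop (∑ a ∈ K, crd (c a) * crd a - 1) = 0 := by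
      apply imageι_app_eq_zero g ⊤
      change g.appTop _ = 0
      rw [map_sub, map_sum, map_one, sub_eq_zero, ← hc]
      refine Finset.sum_congr rfl fun a ha => ?_
      rw [map_mul, hK a ha, hcS a ha]
    have h1 : (1 : Γ(g.image, 𝒜)) =
        ∑ a ∈ K, res (g.imageι.appTop (crd (c a))) * res (g.imageι.appTop (crd a)) := by
      rw [map_sub, sub_eq_zero, map_one] at hG
      have := congr(res $hG)
      rw [map_one] at this
      rw [← this, map_sum, map_sum]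
      refine Finset.sum_congr rfl fun a _ => ?_
      rw [map_mul, map_mul]
    rw [h1]
    exact Ideal.sum_mem _ fun a ha => Ideal.mul_mem_left _ _
      (Ideal.subset_span ⟨⟨a, ha⟩, rfl⟩)
  · rintro _ ⟨⟨a, ha⟩, rfl⟩
    have heq : g.image.basicOpen (fn ⟨a, ha⟩) = g.imageι ⁻¹ᵁ (Opn π crd a (U a)) := by
      change g.image.basicOpen ((g.image.presheaf.map (homOfLE (le_top : 𝒜 ≤ ⊤)).op).hom
        (g.imageι.appTop (crd a))) = _
      rw [Scheme.basicOpen_res, ← Scheme.preimage_basicOpen_top]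
      apply le_antisymm
      · rw [h𝒜, Tz, iSup_inf_eq]
        refine iSup_le fun l => ?_
        rw [← Scheme.Hom.preimage_inf]
        have h1 := hincl l.1 l.2 a ha
        have h2 : g.imageι ⁻¹ᵁ (Opn π crd l.1 (U l.1) ⊓ P.basicOpen (crd a)) ≤
            g.imageι ⁻¹ᵁ (P.basicOpen (crd a)) := fun y hy => hy.2
        intro y hy
        exact ⟨h1 hy, h2 hy⟩
      · refine le_inf ?_ ?_
        · exact le_iSup (fun b : K => g.imageι ⁻¹ᵁ (Opn π crd b.1 (U b.1))) ⟨a, ha⟩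
        · intro y hy
          exact hy.2
    rw [heq]
    exact (isAffineOpen_Opn π crd a (hU a ha)).preimage g.imageι


end D

end Groth.Agent.R2.H29.FTApprox
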