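import Mathlib
import Groth.Agent.R2.H29FTApproxA

/-!
# Finite-type affine approximation of a morphism out of an affine scheme, part B

ns `Groth.Agent.R2.H29.FTApprox`.

* `exists_affine_finiteType_factorization` : every quasi-compact morphism `f : T ⟶ X` with `T`
  affine factors as `T ⟶ T' ⟶ X` with `T'` affine, `T' ⟶ X` locally of finite type and separated,
  `T ⟶ T'` dominant, and `T'` integral if `T` is.  (`T'` is an open subscheme of the
  scheme-theoretic image of `T` in an affine space `𝔸(n; X)`, `n` finite.)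
-/

set_option autoImplicit false
universe u

open AlgebraicGeometry CategoryTheory TopologicalSpace Opposite Limits
open Groth.Agent.R2.H29.AffOpenA Groth.Agent.R2.H29.AffOpenC Groth.Agent.R2.H29.AffOpenD

namespace Groth.Agent.R2.H29.FTApprox


/-- the pair data -/
theorem exists_pair_data {T X : Scheme.{u}} [IsAffine T] (f : T ⟶ X)
    (l k : Γ(T, ⊤)) {Ul Uk : X.Opens} (hUl : IsAffineOpen Ul)
    (hl : T.basicOpen l ≤ f ⁻¹ᵁ Ul) (hk : T.basicOpen k ≤ f ⁻¹ᵁ Uk) :
    ∃ (M N : ℕ) (t : Finset Γ(T, T.basicOpen l)) (e : Γ(T, T.basicOpen l) → Γ(T, ⊤))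
      (β : Γ(T, T.basicOpen l) → Γ(X, Ul)), (∀ y ∈ t, X.basicOpen (β y) ≤ Uk) ∧
      algebraMap Γ(T, ⊤) Γ(T, T.basicOpen l) l ^ M *
        algebraMap Γ(T, ⊤) Γ(T, T.basicOpen l) k ^ N =
      ∑ y ∈ t, algebraMap Γ(T, ⊤) Γ(T, T.basicOpen l) (e y) *
        (f.appLE Ul (T.basicOpen l) hl).hom (β y) := by
  have hV : IsAffineOpen (T.basicOpen l) := (isAffineOpen_top T).basicOpen l
  obtain ⟨N, hN⟩ := exists_pow_mem_span f hUl hV hl
    (algebraMap Γ(T, ⊤) Γ(T, T.basicOpen l) k) (by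
      change T.basicOpen ((T.presheaf.map (homOfLE (T.basicOpen_le l)).op).hom k) ≤ _
      rw [Scheme.basicOpen_res]
      exact inf_le_right.trans hk)
  obtain ⟨M, t, e, β, hβ, hid⟩ := exists_clear_denominators l
    (f.appLE Ul (T.basicOpen l) hl).hom {b | X.basicOpen b ≤ Uk} _ hN
  exact ⟨M, N, t, e, β, hβ, hid⟩



open AlgebraicGeometry.AffineSpace in
theorem exists_affine_finiteType_factorization {T X : Scheme.{u}} [IsAffine T] (f : T ⟶ X)
    [QuasiCompact f] :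
    ∃ (T' : Scheme.{u}) (h : T ⟶ T') (p : T' ⟶ X), IsAffine T' ∧ h ≫ p = f ∧
      LocallyOfFiniteType p ∧ IsSeparated p ∧ IsDominant h ∧ (IsIntegral T → IsIntegral T') := by
  classical
  -- Step 0 : the finite cover
  obtain ⟨K, hKgood, hKtop⟩ := (Ideal.span_eq_top_iff_finite _).mp (span_good_eq_top f)
  have h1 : (1 : Γ(T, ⊤)) ∈ Ideal.span (K : Set Γ(T, ⊤)) := hKtop ▸ Submodule.mem_top
  obtain ⟨c, -, hc⟩ := Submodule.mem_span_finset.mp h1
  simp only [smul_eq_mul] at hc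
  have : Nonempty X.affineOpens := ⟨⟨⊥, isAffineOpen_bot X⟩⟩
  have hgood : ∀ a : Γ(T, ⊤), a ∈ Good f → ∃ U : X.affineOpens, T.basicOpen a ≤ f ⁻¹ᵁ U.1 :=
    fun a ha => ha
  choose! U hU using hgood
  have hKU : ∀ a ∈ K, T.basicOpen a ≤ f ⁻¹ᵁ (U a).1 := fun a ha => hU a (hKgood ha)
  -- Step 1 : the pair data
  have pair : ∀ l : Γ(T, ⊤), ∀ k : Γ(T, ⊤), ∀ hl : l ∈ K, k ∈ K →
      ∃ (M N : ℕ) (t : Finset Γ(T, T.basicOpen l)) (e : Γ(T, T.basicOpen l) → Γ(T, ⊤))
      (β : Γ(T, T.basicOpen l) → Γ(X, (U l).1)), (∀ y ∈ t, X.basicOpen (β y) ≤ (U k).1) ∧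
      algebraMap Γ(T, ⊤) Γ(T, T.basicOpen l) l ^ M *
        algebraMap Γ(T, ⊤) Γ(T, T.basicOpen l) k ^ N =
      ∑ y ∈ t, algebraMap Γ(T, ⊤) Γ(T, T.basicOpen l) (e y) *
        (f.appLE (U l).1 (T.basicOpen l) (hKU l hl)).hom (β y) :=
    fun l k hl hk => exists_pair_data f l k (U l).2 (hKU l hl) (hKU k hk)
  choose M N t e β hβ hid using pair
  -- the finite set of coordinates
  let S : Finset Γ(T, ⊤) := K ∪ K.image c ∪
    K.attach.biUnion (fun l => K.attach.biUnion (fun k => (t l.1 k.1 l.2 k.2).image (e l.1 k.1 l.2 k.2)))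
  have hKS : ∀ a ∈ K, a ∈ S := fun a ha =>
    Finset.mem_union_left _ (Finset.mem_union_left _ ha)
  have hcS : ∀ a ∈ K, c a ∈ S := fun a ha =>
    Finset.mem_union_left _ (Finset.mem_union_right _ (Finset.mem_image_of_mem c ha))
  have heS : ∀ l k (hl : l ∈ K) (hk : k ∈ K), ∀ y ∈ t l k hl hk, e l k hl hk y ∈ S := by
    intro l k hl hk y hy
    refine Finset.mem_union_right _ ?_
    refine Finset.mem_biUnion.mpr ⟨⟨l, hl⟩, Finset.mem_attach _ _, ?_⟩
    refine Finset.mem_biUnion.mpr ⟨⟨k, hk⟩, Finset.mem_attach _ _, ?_⟩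
    exact Finset.mem_image_of_mem _ hy
  let n : Type u := {x // x ∈ S}
  let v : n → Γ(T, ⊤) := Subtype.val
  let g : T ⟶ 𝔸(n; X) := homOfVector f v
  let π : 𝔸(n; X) ⟶ X := 𝔸(n; X) ↘ X
  have hgπ : g ≫ π = f := homOfVector_over f v
  let crd : Γ(T, ⊤) → Γ(𝔸(n; X), ⊤) := fun a => if h : a ∈ S then coord X ⟨a, h⟩ else 0
  have hcrd : ∀ a ∈ S, g.appTop (crd a) = a := by
    intro a ha
    simp only [crd, dif_pos ha]
    exact homOfVector_appTop_coord f v ⟨a, ha⟩
  have hqc : QuasiCompact g := by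
    have : QuasiCompact (g ≫ π) := hgπ ▸ inferInstance
    exact QuasiCompact.of_comp g π
  -- the key inclusions
  have hincl : ∀ l ∈ K, ∀ k ∈ K,
      g.imageι ⁻¹ᵁ (Opn π crd l (U l).1 ⊓ (𝔸(n; X)).basicOpen (crd k)) ≤
        g.imageι ⁻¹ᵁ (π ⁻¹ᵁ (U k).1) := by
    intro l hl k hk
    exact preimage_Opn_inf_le g π crd f hgπ l k (hcrd l (hKS l hl)) (hcrd k (hKS k hk))
      (hKU l hl) (M l k hl hk) (N l k hl hk) (t l k hl hk) (e l k hl hk) (β l k hl hk)
      (fun y hy => hcrd _ (heS l k hl hk y hy)) (hβ l k hl hk) (hid l k hl hk)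
  -- the affine open
  set 𝒜 := Tz g π crd K (fun a => (U a).1) with h𝒜
  have hA : IsAffineOpen 𝒜 := isAffineOpen_Tz g π crd K (fun a => (U a).1)
    (fun a _ => (U a).2) (fun a ha => hcrd a (hKS a ha)) c (fun a ha => hcrd _ (hcS a ha)) hc hincl
  have hmem : ∀ x : T, g.toImage x ∈ 𝒜 := toImage_mem_Tz g π crd K (fun a => (U a).1)
    (fun a ha => hcrd a (hKS a ha)) f hgπ hKU c hc
  have hrange : Set.range g.toImage ⊆ Set.range 𝒜.ι := by
    rintro _ ⟨x, rfl⟩
    rw [Scheme.Opens.range_ι]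
    exact hmem x
  let h : T ⟶ 𝒜.toScheme := IsOpenImmersion.lift 𝒜.ι g.toImage hrange
  have hh : h ≫ 𝒜.ι = g.toImage := IsOpenImmersion.lift_fac _ _ _
  refine ⟨𝒜.toScheme, h, 𝒜.ι ≫ g.imageι ≫ π, hA, ?_, inferInstance, inferInstance, ?_, ?_⟩
  · rw [reassoc_of% hh, g.toImage_imageι_assoc, hgπ]
  · -- dominant
    constructor
    have hr : Set.range h = 𝒜.ι ⁻¹' (Set.range g.toImage) := by
      ext x
      constructor
      · rintro ⟨y, rfl⟩
        exact ⟨y, by rw [← hh]; rfl⟩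
      · rintro ⟨y, hy⟩
        refine ⟨y, 𝒜.ι.injective ?_⟩
        rw [← hy, ← hh]; rfl
    rw [DenseRange, hr]
    exact g.toImage.denseRange.preimage 𝒜.ι.isOpenEmbedding.isOpenMap
  · -- integral
    intro hT
    have hred : IsReduced g.image := by
      constructor
      intro O'
      obtain ⟨O, hO, hOO'⟩ := g.imageι.isEmbedding.isInducing.isOpen_iff.mp O'.isOpen
      have hO'eq : O' = g.imageι ⁻¹ᵁ (⟨O, hO⟩ : (𝔸(n; X)).Opens) := by
        ext x
        change x ∈ (O' : Set _) ↔ g.imageι x ∈ O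
        rw [← hOO']; rfl
      rw [hO'eq]
      exact isReduced_of_injective _ (toImage_app_injective' g ⟨O, hO⟩)
    have hirr : IrreducibleSpace g.image := by
      rw [irreducibleSpace_def]
      convert!
        ((IrreducibleSpace.isIrreducible_univ T).image _
            g.toImage.continuous.continuousOn).closure
      simpa using g.toImage.denseRange.closure_range.symm
    have : IsIntegral g.image := isIntegral_of_irreducibleSpace_of_isReduced _
    have : Nonempty 𝒜.toScheme := ⟨h (Classical.arbitrary T)⟩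
    exact isIntegral_of_isOpenImmersion 𝒜.ι


end Groth.Agent.R2.H29.FTApprox
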