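import Mathlib
import Groth.Agent.R2.H29FTApproxB
import Groth.Agent.S7658
import Groth.Agent.S7659
import Groth.Agent.Lib.Helper10RedInd

/-!
# Affine opens containing finitely many images of points of an affine scheme (integral case)

Part I of S7660 (the integral case) and the auxiliary lemmas for the reduction to the integral case.
-/

set_option autoImplicit false
universe u
open CategoryTheory CategoryTheory.Limits AlgebraicGeometry TopologicalSpace Opposite

namespace Groth.Agent.R2.H29.FTApprox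

theorem stalkMap_injective_of_isDominant {A B : Scheme.{u}} [IsIntegral A] [IsIntegral B]
    (k : A ⟶ B) [IsDominant k] (x : A) : Function.Injective (k.stalkMap x) := by
  obtain ⟨V, hV, hxV⟩ : ∃ V : B.Opens, IsAffineOpen V ∧ k x ∈ V := by
    obtain ⟨_, ⟨V, hV, rfl⟩, hxV, -⟩ :=
      B.isBasis_affineOpens.exists_subset_of_mem_open (Set.mem_univ (k x)) isOpen_univ
    exact ⟨V, hV, hxV⟩
  refine hV.stalkMap_injective k x hxV (fun g hg => ?_)
  rw [Scheme.Hom.germ_stalkMap_apply] at hg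
  have h0 : k.app V g = 0 := by
    apply germ_injective_of_isIntegral A x (show x ∈ k ⁻¹ᵁ V from hxV)
    rw [hg, map_zero]
  have h1 : k ⁻¹ᵁ (B.basicOpen g) = ⊥ := by
    rw [Scheme.preimage_basicOpen, h0, Scheme.basicOpen_zero]
  have h2 : B.basicOpen g = ⊥ := by
    by_contra hne
    obtain ⟨y, hy⟩ : ((B.basicOpen g : B.Opens) : Set B).Nonempty := by
      rw [Set.nonempty_iff_ne_empty]
      intro h
      apply hne
      ext1
      simpa using h
    obtain ⟨_, hz, ⟨z, rfl⟩⟩ := k.denseRange.inter_open_nonempty _ (B.basicOpen g).2 ⟨y, hy⟩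
    have : z ∈ k ⁻¹ᵁ (B.basicOpen g) := hz
    rw [h1] at this
    exact this
  rw [basicOpen_eq_bot_iff] at h2
  rw [h2, map_zero]

theorem exists_affineOpen_of_integral {T X : Scheme.{u}} [IsAffine T] [IsIntegral T]
    [IsIntegral X] [QuasiSeparatedSpace X] (f : T ⟶ X) [IsDominant f] (s : Finset T)
    (hs : ∀ t ∈ s, IsIso (f.stalkMap t)) :
    ∃ U : X.Opens, IsAffineOpen U ∧ ∀ t ∈ s, f t ∈ U := by
  classical
  rcases s.eq_empty_or_nonempty with rfl | hsne
  · exact ⟨⊥, isAffineOpen_bot X, by simp⟩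
  obtain ⟨T', h, p, hT', hf, hp1, hp2, hh, hint⟩ := exists_affine_finiteType_factorization f
  have hT'int : IsIntegral T' := hint inferInstance
  subst hf
  have hpdom : IsDominant p := IsDominant.of_comp h p
  have hiso : ∀ t ∈ s, IsIso (p.stalkMap (h t)) := by
    intro t ht
    have h1 := hs t ht
    rw [Scheme.Hom.stalkMap_comp] at h1
    have h2 : Function.Bijective (p.stalkMap (h t) ≫ h.stalkMap t) :=
      (ConcreteCategory.isIso_iff_bijective _).mp h1
    have h3 : Function.Injective (h.stalkMap t) := stalkMap_injective_of_isDominant h t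
    have h4 : Function.Injective (p.stalkMap (h t)) := stalkMap_injective_of_isDominant p (h t)
    rw [ConcreteCategory.isIso_iff_bijective]
    refine ⟨h4, fun y => ?_⟩
    obtain ⟨z, hz⟩ := h2.2 (h.stalkMap t y)
    refine ⟨z, h3 ?_⟩
    simpa using hz
  have hXfin : (irreducibleComponents X).Finite := by
    rw [irreducibleComponents_eq_singleton]; exact Set.finite_singleton _
  have hW : ∀ t ∈ s, ∃ W : T'.Opens, h t ∈ W ∧ IsOpenImmersion (W.ι ≫ p) := fun t ht =>
    Groth.Agent.S7659.result p hXfin (h t) (hiso t ht)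
  choose! W hW1 hW2 using hW
  obtain ⟨Wt, hmemWt, hWt'⟩ : ∃ Wt : T'.Opens, (∀ t ∈ s, h t ∈ Wt) ∧
      (∀ x ∈ Wt, ∃ t ∈ s, x ∈ W t) := by
    refine ⟨⨆ t ∈ s, W t, fun t ht => ?_, fun x hx => ?_⟩
    · exact Opens.mem_iSup.mpr ⟨t, Opens.mem_iSup.mpr ⟨ht, hW1 t ht⟩⟩
    · obtain ⟨t, hx⟩ := Opens.mem_iSup.mp hx
      obtain ⟨ht, hx⟩ := Opens.mem_iSup.mp hx
      exact ⟨t, ht, hx⟩
  have hWtne : Nonempty Wt := by
    obtain ⟨t, ht⟩ := hsne
    exact ⟨⟨h t, hmemWt t ht⟩⟩
  have hWtint : IsIntegral Wt.toScheme := isIntegral_of_isOpenImmersion Wt.ι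
  have hopen : IsOpenImmersion (Wt.ι ≫ p) := by
    refine Groth.Agent.S7658.result (Wt.ι ≫ p) (fun x => ?_) (fun ξ ξ' hξ hξ' _ => ?_)
    · obtain ⟨t, ht, hx⟩ := hWt' x.1 x.2
      refine ⟨Wt.ι ⁻¹ᵁ (W t), hx, ?_⟩
      have := hW2 t ht
      rw [← Category.assoc, ← morphismRestrict_ι, Category.assoc]
      infer_instance
    · rw [irreducibleComponents_eq_singleton, Set.mem_singleton_iff] at hξ hξ'
      have h1 : IsGenericPoint ξ Set.univ := hξ
      have h2 : IsGenericPoint ξ' Set.univ := hξ'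
      exact h1.eq h2
  obtain ⟨g, hg1, hg2⟩ := AffOpenA.exists_basicOpen_avoiding (W := T') ((Wt : Set T')ᶜ)
    Wt.2.isClosed_compl (h '' (s : Set T)) (s.finite_toSet.image _) (by
      rw [Set.disjoint_left]
      rintro _ ⟨t, ht, rfl⟩ hc
      exact hc (hmemWt t ht))
  have hDW : T'.basicOpen g ≤ Wt := by
    intro x hx
    by_contra hc
    exact Set.disjoint_left.mp hg2 hx hc
  have hDaff : IsAffineOpen (T'.basicOpen g) := (isAffineOpen_top T').basicOpen g
  have hDopen : IsOpenImmersion ((T'.basicOpen g).ι ≫ p) := by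
    rw [← Scheme.homOfLE_ι T' hDW, Category.assoc]
    infer_instance
  have : IsAffine (T'.basicOpen g).toScheme := hDaff
  refine ⟨((T'.basicOpen g).ι ≫ p).opensRange, isAffineOpen_opensRange _, fun t ht => ?_⟩
  have hmem : h t ∈ T'.basicOpen g := hg1 _ ⟨t, ht, rfl⟩
  exact ⟨⟨h t, hmem⟩, rfl⟩

open Scheme.IdealSheafData

theorem mem_range_subschemeι_vanishingIdeal {X : Scheme.{u}} (Z : Closeds X) (x : X) :
    x ∈ Set.range (vanishingIdeal Z).subschemeι ↔ x ∈ (Z : Set X) := by
  rw [range_subschemeι, coe_support_vanishingIdeal]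

theorem exists_generic_subscheme {X : Scheme.{u}} (Z : Closeds X) (η : X)
    (hη : closure {η} = (Z : Set X)) :
    ∃ ζ : (vanishingIdeal Z).subscheme, (vanishingIdeal Z).subschemeι ζ = η ∧
      closure {ζ} = Set.univ := by
  have hηZ : η ∈ Set.range (vanishingIdeal Z).subschemeι := by
    rw [mem_range_subschemeι_vanishingIdeal, ← hη]; exact subset_closure rfl
  obtain ⟨ζ, hζ⟩ := hηZ
  refine ⟨ζ, hζ, ?_⟩
  have hind : Topology.IsInducing (vanishingIdeal Z).subschemeι :=
    (vanishingIdeal Z).subschemeι.isEmbedding.isInducing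
  rw [hind.closure_eq_preimage_closure_image, Set.image_singleton, hζ, hη]
  ext z
  simp only [Set.mem_preimage, Set.mem_univ, iff_true]
  exact (mem_range_subschemeι_vanishingIdeal Z _).mp ⟨z, rfl⟩

theorem isIntegral_subscheme_vanishingIdeal {X : Scheme.{u}} (Z : Closeds X) (η : X)
    (hη : closure {η} = (Z : Set X)) : IsIntegral (vanishingIdeal Z).subscheme := by
  obtain ⟨ζ, -, hζ⟩ := exists_generic_subscheme Z η hη
  have : IsReduced (vanishingIdeal Z).subscheme :=
    Groth.Agent.Lib.Helper10.RedInd.isReduced_subscheme_vanishingIdeal Z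
  have : IrreducibleSpace (vanishingIdeal Z).subscheme := by
    rw [irreducibleSpace_def]
    show IsIrreducible (Set.univ : Set (vanishingIdeal Z).subscheme)
    rw [← hζ]
    exact isIrreducible_singleton.closure
  exact isIntegral_of_irreducibleSpace_of_isReduced _

/-- a maximal point above the generic point of an irreducible component, generalising a point at
which the stalk map is an isomorphism -/
theorem exists_maximal_point_over {T X : Scheme.{u}} (f : T ⟶ X)
    (hgen : ∀ η : T, closure ({η} : Set T) ∈ irreducibleComponents (T : Type u) →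
      closure ({(f η)} : Set X) ∈ irreducibleComponents (X : Type u))
    (t : T) (ht : IsIso (f.stalkMap t)) (Z : Set X) (hZ : Z ∈ irreducibleComponents (X : Type u))
    (htZ : f t ∈ Z) (η : X) (hη : closure {η} = Z) :
    ∃ ξ : T, closure {ξ} ∈ irreducibleComponents (T : Type u) ∧ f ξ = η ∧ ξ ⤳ t := by
  have h1 : η ⤳ f t := specializes_iff_mem_closure.2 (hη ▸ htZ)
  have h2 : η ∈ Set.range (X.fromSpecStalk (f t)) := by
    rw [Scheme.range_fromSpecStalk]; exact h1
  obtain ⟨y, hy⟩ := h2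
  have hbij : Function.Bijective (Spec.map (f.stalkMap t)) :=
    (Spec.map (f.stalkMap t)).homeomorph.bijective
  have hsq : ∀ z, f (T.fromSpecStalk t z) = X.fromSpecStalk (f t) (Spec.map (f.stalkMap t) z) := by
    intro z
    rw [← Scheme.Hom.comp_apply, ← Scheme.Hom.comp_apply, Scheme.SpecMap_stalkMap_fromSpecStalk]
  obtain ⟨y', hy'⟩ := hbij.2 y
  have hfξ : f (T.fromSpecStalk t y') = η := by rw [hsq, hy', hy]
  have hξt : T.fromSpecStalk t y' ⤳ t := by
    have : T.fromSpecStalk t y' ∈ Set.range (T.fromSpecStalk t) := ⟨y', rfl⟩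
    rw [Scheme.range_fromSpecStalk] at this
    exact this
  refine ⟨T.fromSpecStalk t y', ?_, hfξ, hξt⟩
  -- maximality
  have hCirr : IsIrreducible (irreducibleComponent (T.fromSpecStalk t y')) :=
    isIrreducible_irreducibleComponent
  have hCcl : IsClosed (irreducibleComponent (T.fromSpecStalk t y')) :=
    isClosed_irreducibleComponent
  obtain ⟨ξ', hξ'def⟩ : ∃ ξ', ξ' = hCirr.genericPoint := ⟨_, rfl⟩
  have hξ' : closure {ξ'} = irreducibleComponent (T.fromSpecStalk t y') := by
    rw [hξ'def]; exact hCirr.isGenericPoint_genericPoint hCcl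
  have hξ'comp : closure {ξ'} ∈ irreducibleComponents (T : Type u) :=
    hξ' ▸ irreducibleComponent_mem_irreducibleComponents _
  have hsp : ξ' ⤳ T.fromSpecStalk t y' := by
    rw [specializes_iff_mem_closure, hξ']; exact mem_irreducibleComponent
  have hfsp : f ξ' ⤳ η := hfξ ▸ hsp.map f.continuous
  have hsub : Z ⊆ closure {f ξ'} := by
    rw [← hη]; exact specializes_iff_closure_subset.1 hfsp
  have hsub' : closure {f ξ'} ⊆ Z := hZ.2 (hgen ξ' hξ'comp).1 hsub
  have hfξ' : f ξ' = η := by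
    have h1 : IsGenericPoint (f ξ') Z := le_antisymm hsub' hsub
    have h2 : IsGenericPoint η Z := hη
    exact h1.eq h2
  have hξ't : ξ' ⤳ t := hsp.trans hξt
  have h3 : ξ' ∈ Set.range (T.fromSpecStalk t) := by
    rw [Scheme.range_fromSpecStalk]; exact hξ't
  obtain ⟨y'', hy''⟩ := h3
  have h4 : X.fromSpecStalk (f t) (Spec.map (f.stalkMap t) y'') =
      X.fromSpecStalk (f t) (Spec.map (f.stalkMap t) y') := by
    rw [← hsq, ← hsq, hy'', hfξ', hfξ]
  have h5 : y'' = y' := hbij.1 ((X.fromSpecStalk (f t)).isEmbedding.injective h4)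
  rw [← h5, hy'']
  exact hξ'comp

theorem stalkMap_surjective_of_square {A T B X : Scheme.{u}} (a : A ⟶ T) (f : T ⟶ X)
    (g : A ⟶ B) (b : B ⟶ X) (h : a ≫ f = g ≫ b) (x : A)
    (ha : Function.Surjective (a.stalkMap x)) (hf : Function.Surjective (f.stalkMap (a x))) :
    Function.Surjective (g.stalkMap x) := by
  have key : ∀ (k : A ⟶ X), k = g ≫ b → Function.Surjective (k.stalkMap x) →
      Function.Surjective (g.stalkMap x) := by
    intro k hk hs
    subst hk
    rw [Scheme.Hom.stalkMap_comp] at hs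
    exact Function.Surjective.of_comp (g := b.stalkMap (g x)) hs
  apply key (a ≫ f) h
  rw [Scheme.Hom.stalkMap_comp]
  exact ha.comp hf

theorem component_case {T X : Scheme.{u}} (f : T ⟶ X)
    [IsAffine T] [QuasiSeparatedSpace X]
    (hgen : ∀ η : T, closure ({η} : Set T) ∈ irreducibleComponents (T : Type u) →
      closure ({(f η)} : Set X) ∈ irreducibleComponents (X : Type u))
    (hinj : ∀ η η' : T, closure ({η} : Set T) ∈ irreducibleComponents (T : Type u) →
      closure ({η'} : Set T) ∈ irreducibleComponents (T : Type u) → f η = f η' → η = η')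
    (s : Finset T) (hs : ∀ t ∈ s, IsIso (f.stalkMap t))
    (Zc : Closeds X) (hZ : (Zc : Set X) ∈ irreducibleComponents (X : Type u)) :
    ∃ V : (vanishingIdeal Zc).subscheme.Opens, IsAffineOpen V ∧
      ∀ t ∈ s, f t ∈ (Zc : Set X) → f t ∈ (vanishingIdeal Zc).subschemeι '' (V : Set _) := by
  classical
  by_cases hne : ∃ t ∈ s, f t ∈ (Zc : Set X)
  swap
  · exact ⟨⊥, isAffineOpen_bot _, fun t ht htZ => (hne ⟨t, ht, htZ⟩).elim⟩
  obtain ⟨t₀, ht₀, ht₀Z⟩ := hne
  have hZirr : IsIrreducible (Zc : Set X) := hZ.1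
  obtain ⟨η, hη⟩ : ∃ η, closure {η} = (Zc : Set X) :=
    ⟨hZirr.genericPoint, hZirr.isGenericPoint_genericPoint Zc.2⟩
  have hmax : ∀ t ∈ s, f t ∈ (Zc : Set X) →
      ∃ ξ, closure {ξ} ∈ irreducibleComponents (T : Type u) ∧ f ξ = η ∧ ξ ⤳ t :=
    fun t ht htZ => exists_maximal_point_over f hgen t (hs t ht) Zc hZ htZ η hη
  obtain ⟨ξ, hξcomp, hfξ, -⟩ := hmax t₀ ht₀ ht₀Z
  have hξs : ∀ t ∈ s, f t ∈ (Zc : Set X) → ξ ⤳ t := by
    intro t ht htZ
    obtain ⟨ξ', hξ'comp, hfξ', hξ't⟩ := hmax t ht htZ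
    have : ξ = ξ' := hinj ξ ξ' hξcomp hξ'comp (hfξ.trans hfξ'.symm)
    exact this ▸ hξ't
  obtain ⟨Tc, hTc⟩ : ∃ Tc : Closeds T, (Tc : Set T) = closure {ξ} :=
    ⟨⟨closure {ξ}, isClosed_closure⟩, rfl⟩
  have hTZint : IsIntegral (vanishingIdeal Tc).subscheme :=
    isIntegral_subscheme_vanishingIdeal Tc ξ hTc.symm
  have hZint : IsIntegral (vanishingIdeal Zc).subscheme :=
    isIntegral_subscheme_vanishingIdeal Zc η hη
  have hTZaff : IsAffine (vanishingIdeal Tc).subscheme :=
    isAffine_of_isAffineHom (vanishingIdeal Tc).subschemeι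
  have hZqs : QuasiSeparatedSpace (vanishingIdeal Zc).subscheme :=
    quasiSeparatedSpace_of_quasiSeparated (vanishingIdeal Zc).subschemeι
  have hker : (vanishingIdeal Zc).subschemeι.ker ≤ ((vanishingIdeal Tc).subschemeι ≫ f).ker := by
    rw [Groth.Agent.Lib.Helper10.RedInd.ker_eq_vanishingIdeal_of_isReduced
      ((vanishingIdeal Tc).subschemeι ≫ f), ker_subschemeι]
    apply vanishingIdeal_antimono
    show closure (Set.range ((vanishingIdeal Tc).subschemeι ≫ f)) ⊆ (Zc : Set X)
    apply Zc.2.closure_subset_iff.mpr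
    rintro _ ⟨z, rfl⟩
    have h1 : (vanishingIdeal Tc).subschemeι z ∈ (Tc : Set T) :=
      (mem_range_subschemeι_vanishingIdeal Tc _).mp ⟨z, rfl⟩
    rw [hTc, ← specializes_iff_mem_closure] at h1
    have h2 : f ξ ⤳ f ((vanishingIdeal Tc).subschemeι z) := h1.map f.continuous
    rw [hfξ, specializes_iff_mem_closure, hη] at h2
    exact h2
  obtain ⟨fZ, hfZ⟩ : ∃ fZ : (vanishingIdeal Tc).subscheme ⟶ (vanishingIdeal Zc).subscheme,
      fZ ≫ (vanishingIdeal Zc).subschemeι = (vanishingIdeal Tc).subschemeι ≫ f :=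
    ⟨IsClosedImmersion.lift _ _ hker, IsClosedImmersion.lift_fac _ _ _⟩
  have hfZpt : ∀ z, (vanishingIdeal Zc).subschemeι (fZ z) = f ((vanishingIdeal Tc).subschemeι z) := by
    intro z
    rw [← Scheme.Hom.comp_apply, hfZ, Scheme.Hom.comp_apply]
  obtain ⟨ξZ, hξZ, hξZcl⟩ := exists_generic_subscheme Tc ξ hTc.symm
  obtain ⟨ζ, hζ, hζcl⟩ := exists_generic_subscheme Zc η hη
  have hfZξ : fZ ξZ = ζ := (vanishingIdeal Zc).subschemeι.isEmbedding.injective (by
    rw [hfZpt, hξZ, hfξ, hζ])
  have hdom : IsDominant fZ := ⟨by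
    rw [DenseRange, dense_iff_closure_eq, ← Set.univ_subset_iff, ← hζcl]
    apply closure_mono
    rintro _ rfl
    exact ⟨ξZ, hfZξ⟩⟩
  have hinv : ∀ t ∈ s, f t ∈ (Zc : Set X) → (vanishingIdeal Tc).subschemeι
      (Function.invFun (vanishingIdeal Tc).subschemeι t) = t := by
    intro t ht htZ
    apply Function.invFun_eq
    apply (mem_range_subschemeι_vanishingIdeal Tc t).mpr
    rw [hTc]
    exact specializes_iff_mem_closure.mp (hξs t ht htZ)
  obtain ⟨sZ, hsZ⟩ : ∃ sZ : Finset (vanishingIdeal Tc).subscheme,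
      sZ = (s.filter (fun t => f t ∈ (Zc : Set X))).image
        (Function.invFun (vanishingIdeal Tc).subschemeι) := ⟨_, rfl⟩
  have hstalk : ∀ t' ∈ sZ, IsIso (fZ.stalkMap t') := by
    intro t' ht'
    rw [hsZ] at ht'
    obtain ⟨t, ht, rfl⟩ := Finset.mem_image.mp ht'
    rw [Finset.mem_filter] at ht
    have e := hinv t ht.1 ht.2
    rw [ConcreteCategory.isIso_iff_bijective]
    refine ⟨stalkMap_injective_of_isDominant fZ _, ?_⟩
    apply stalkMap_surjective_of_square (vanishingIdeal Tc).subschemeι f fZ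
      (vanishingIdeal Zc).subschemeι hfZ.symm
    · exact (vanishingIdeal Tc).subschemeι.stalkMap_surjective _
    · have : ∀ t'' : T, t'' = t → IsIso (f.stalkMap t'') := by
        intro t'' h; subst h; exact hs _ ht.1
      have := this _ e
      exact ((ConcreteCategory.isIso_iff_bijective _).mp this).2
  obtain ⟨V, hV, hVs⟩ := exists_affineOpen_of_integral fZ sZ hstalk
  refine ⟨V, hV, fun t ht htZ => ?_⟩
  refine ⟨fZ (Function.invFun (vanishingIdeal Tc).subschemeι t), hVs _ ?_, ?_⟩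
  · rw [hsZ]
    exact Finset.mem_image_of_mem _ (Finset.mem_filter.mpr ⟨ht, htZ⟩)
  · rw [hfZpt, hinv t ht htZ]

end Groth.Agent.R2.H29.FTApprox
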