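import Mathlib
import Groth.Agent.R2.H29DimOneB
import Groth.Agent.S7665
import Groth.Agent.S7660

set_option autoImplicit false
universe u
open CategoryTheory CategoryTheory.Limits AlgebraicGeometry TopologicalSpace Opposite

namespace Groth.Agent.R2.H29.DimOne

variable {X : Scheme.{u}} [IsIntegral X]

theorem fromSpecRange_closedPoint (x : X)
    [IsLocalRing (algebraMap (X.presheaf.stalk x) X.functionField).range] :
    fromSpecRange x (IsLocalRing.closedPoint _) = x := by
  have hloc : IsLocalHom
      (rangeEquiv (X.presheaf.stalk x) X.functionField).toCommRingCatIso.hom.hom :=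
    isLocalHom_of_isIso _
  rw [fromSpecRange, Scheme.Hom.comp_apply]
  erw [Spec_closedPoint]
  exact Scheme.fromSpecStalk_closedPoint

theorem isIso_stalkMap_fromSpecRange (x : X)
    [IsLocalRing (algebraMap (X.presheaf.stalk x) X.functionField).range] :
    IsIso ((fromSpecRange x).stalkMap (IsLocalRing.closedPoint _)) :=
  isIso_stalkMap_specMap_fromSpecStalk x _

theorem genericPoint_mem_range_fromSpecRange (x : X) :
    genericPoint X ∈ Set.range (fromSpecRange x) := by
  have h1 : genericPoint X ∈ Set.range (X.fromSpecStalk x) := by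
    rw [Scheme.range_fromSpecStalk]
    exact (genericPoint_spec X).specializes trivial
  obtain ⟨y, hy⟩ := h1
  have hsurj : Function.Surjective
      (Spec.map (rangeEquiv (X.presheaf.stalk x) X.functionField).toCommRingCatIso.hom) :=
    (Spec.map (rangeEquiv (X.presheaf.stalk x) X.functionField).toCommRingCatIso.hom).homeomorph.surjective
  obtain ⟨z, hz⟩ := hsurj y
  exact ⟨z, by rw [fromSpecRange, Scheme.Hom.comp_apply, hz, hy]⟩

end Groth.Agent.R2.H29.DimOne

namespace Groth.Agent.R2.H29.DimOne

theorem core (X : Scheme.{u}) [IsIntegral X] [X.IsSeparated] (r : ℕ) (hr : 1 ≤ r)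
    (pt : Fin r → X) (hinj : Function.Injective pt)
    (hN : ∀ i, IsNoetherianRing (X.presheaf.stalk (pt i)))
    (hd : ∀ i, ringKrullDim (X.presheaf.stalk (pt i)) = 1) :
    ∃ U : X.Opens, IsAffineOpen U ∧ ∀ i, pt i ∈ U := by
  classical
  have hNA : ∀ i, IsNoetherianRing
      (algebraMap (X.presheaf.stalk (pt i)) X.functionField).range :=
    fun i => isNoetherianRing_of_ringEquiv _ (rangeEquiv (X.presheaf.stalk (pt i)) X.functionField)
  have hFA : ∀ i, IsFractionRing
      (algebraMap (X.presheaf.stalk (pt i)) X.functionField).range X.functionField :=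
    fun i => isFractionRing_range _ _
  have hdA : ∀ i, ringKrullDim (algebraMap (X.presheaf.stalk (pt i)) X.functionField).range = 1 :=
    fun i => by
      rw [← hd i]
      exact (ringKrullDim_eq_of_ringEquiv (rangeEquiv _ _)).symm
  have hLA : ∀ i, IsLocalRing (algebraMap (X.presheaf.stalk (pt i)) X.functionField).range :=
    fun i => (rangeEquiv (X.presheaf.stalk (pt i)) X.functionField).isLocalRing
  have hsl : ∀ i, Finite (MaximalSpectrum
      (algebraMap (X.presheaf.stalk (pt i)) X.functionField).range) :=
    fun i => inferInstance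
  have hgen : ∀ i j, i ≠ j → (algebraMap (X.presheaf.stalk (pt i)) X.functionField).range ⊔
      (algebraMap (X.presheaf.stalk (pt j)) X.functionField).range = ⊤ :=
    fun i j hij => sup_range_eq_top (pt i) (pt j) (hinj.ne hij) (hd i) (hd j)
  obtain ⟨-, -, -, -, hopen, hcov, -⟩ := Groth.Agent.S7665.result X.functionField r hr
    (fun i => (algebraMap (X.presheaf.stalk (pt i)) X.functionField).range) hdA hsl hgen
  obtain ⟨f, hf⟩ := exists_glue pt
    (⨅ i, (algebraMap (X.presheaf.stalk (pt i)) X.functionField).range)
    (fun i => iInf_le _ i) hopen hcov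
  have hTint : IsIntegral (Spec (CommRingCat.of
    ↥(⨅ i, (algebraMap (X.presheaf.stalk (pt i)) X.functionField).range))) := inferInstance
  have hXfin : (irreducibleComponents X).Finite := by
    rw [irreducibleComponents_eq_singleton]; exact Set.finite_singleton _
  -- the generic point of `X` is in the range of `f`
  have hηf : genericPoint X ∈ Set.range f := by
    obtain ⟨z, hz⟩ := genericPoint_mem_range_fromSpecRange (pt ⟨0, hr⟩)
    refine ⟨Spec.map (CommRingCat.ofHom (Subring.inclusion (iInf_le _ (⟨0, hr⟩ : Fin r)))) z, ?_⟩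
    rw [← Scheme.Hom.comp_apply, hf, hz]
  obtain ⟨U, hU, hUs⟩ := Groth.Agent.S7660.result f hXfin
    (fun η hη => by
      rw [irreducibleComponents_eq_singleton, Set.mem_singleton_iff] at hη ⊢
      rw [← Set.univ_subset_iff]
      obtain ⟨t, ht⟩ := hηf
      have h1 : η ⤳ t := by rw [specializes_iff_mem_closure, hη]; trivial
      have h2 : f η ⤳ genericPoint X := ht ▸ h1.map f.continuous
      have h3 : closure {genericPoint X} ⊆ closure {f η} := specializes_iff_closure_subset.1 h2
      rwa [(genericPoint_spec X)] at h3)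
    (fun η η' hη hη' _ => by
      rw [irreducibleComponents_eq_singleton, Set.mem_singleton_iff] at hη hη'
      have h1 : IsGenericPoint η Set.univ := hη
      have h2 : IsGenericPoint η' Set.univ := hη'
      exact h1.eq h2)
    (Finset.univ.image (fun i : Fin r =>
      Spec.map (CommRingCat.ofHom (Subring.inclusion (iInf_le _ i)))
        (IsLocalRing.closedPoint (algebraMap (X.presheaf.stalk (pt i)) X.functionField).range)))
    (fun t ht => by
      obtain ⟨i, -, rfl⟩ := Finset.mem_image.mp ht
      have := hopen i
      exact isIso_stalkMap_of_comp _ f _ (hf i) _ (isIso_stalkMap_fromSpecRange (pt i)))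
  refine ⟨U, hU, fun i => ?_⟩
  have := hUs _ (Finset.mem_image_of_mem _ (Finset.mem_univ i))
  have h2 : f.base (Spec.map (CommRingCat.ofHom (Subring.inclusion (iInf_le _ i)))
        (IsLocalRing.closedPoint (algebraMap (X.presheaf.stalk (pt i)) X.functionField).range)) =
      pt i := by
    show f _ = _
    rw [← Scheme.Hom.comp_apply, hf, fromSpecRange_closedPoint]
  rwa [h2] at this

end Groth.Agent.R2.H29.DimOne

namespace Groth.Agent.R2.H29.DimOne

theorem not_isField_stalk (X : Scheme.{u}) [IsIntegral X] (x : X) (hx : x ≠ genericPoint X) :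
    ¬ IsField (X.presheaf.stalk x) := by
  intro hF
  have hsub : Subsingleton (PrimeSpectrum (X.presheaf.stalk x)) :=
    PrimeSpectrum.subsingleton_iff_isField_of_isReduced.mpr hF
  have h1 : genericPoint X ∈ Set.range (X.fromSpecStalk x) := by
    rw [Scheme.range_fromSpecStalk]
    exact (genericPoint_spec X).specializes trivial
  obtain ⟨a, ha⟩ := h1
  have hb : X.fromSpecStalk x (IsLocalRing.closedPoint _) = x := Scheme.fromSpecStalk_closedPoint
  have : a = IsLocalRing.closedPoint _ := Subsingleton.elim (α := PrimeSpectrum _) _ _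
  exact hx (by rw [← hb, ← ha, this])

/-- Stacks 09NL: finitely many points with Noetherian local rings of dimension `≤ 1` on an integral
separated scheme are contained in an affine open. -/
theorem integral_case (X : Scheme.{u}) [IsIntegral X] [X.IsSeparated] (s : Finset X)
    (hs : ∀ x ∈ s, IsNoetherianRing (X.presheaf.stalk x) ∧
      ringKrullDim (X.presheaf.stalk x) ≤ 1) :
    ∃ U : X.Opens, IsAffineOpen U ∧ ∀ x ∈ s, x ∈ U := by
  classical
  have hgenmem : ∀ U : X.Opens, (U : Set X).Nonempty → genericPoint X ∈ U := fun U hU =>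
    ((genericPoint_spec X).mem_open_set_iff U.isOpen).mpr (by simpa using hU)
  rcases (s.erase (genericPoint X)).eq_empty_or_nonempty with hempty | hne
  · obtain ⟨U, hU, hηU⟩ : ∃ U : X.Opens, IsAffineOpen U ∧ genericPoint X ∈ U := by
      obtain ⟨_, ⟨V, hV, rfl⟩, hxV, -⟩ :=
        X.isBasis_affineOpens.exists_subset_of_mem_open (Set.mem_univ (genericPoint X)) isOpen_univ
      exact ⟨V, hV, hxV⟩
    refine ⟨U, hU, fun x hx => ?_⟩
    by_cases hxη : x = genericPoint X
    · rw [hxη]; exact hηU
    · have := Finset.mem_erase.mpr ⟨hxη, hx⟩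
      rw [hempty] at this
      simp at this
  · obtain ⟨U, hU, hUs⟩ := core X (s.erase (genericPoint X)).card hne.card_pos
      (fun i => ((s.erase (genericPoint X)).equivFin.symm i).1)
      (fun i j hij => (s.erase (genericPoint X)).equivFin.symm.injective (Subtype.ext hij))
      (fun i => (hs _ (Finset.mem_of_mem_erase
        ((s.erase (genericPoint X)).equivFin.symm i).2)).1)
      (fun i => ringKrullDim_eq_one
        (hs _ (Finset.mem_of_mem_erase ((s.erase (genericPoint X)).equivFin.symm i).2)).2
        (not_isField_stalk X _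
          (Finset.ne_of_mem_erase ((s.erase (genericPoint X)).equivFin.symm i).2)))
    refine ⟨U, hU, fun x hx => ?_⟩
    by_cases hxη : x = genericPoint X
    · rw [hxη]
      obtain ⟨y, hy⟩ := hne
      have := hUs ((s.erase (genericPoint X)).equivFin ⟨y, hy⟩)
      exact hgenmem U ⟨_, this⟩
    · have := hUs ((s.erase (genericPoint X)).equivFin ⟨x, Finset.mem_erase.mpr ⟨hxη, hx⟩⟩)
      simpa using this

end Groth.Agent.R2.H29.DimOne
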