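import Mathlib
import Groth.Agent.R2.H29DimOneC
import Groth.Agent.R2.H29FTApproxC
import Groth.Agent.S7662

set_option autoImplicit false
universe u
open CategoryTheory CategoryTheory.Limits AlgebraicGeometry TopologicalSpace Opposite

namespace Groth.Agent.R2.H29.DimOne

open Scheme.IdealSheafData

theorem stalk_transfer {A B : Scheme.{u}} (k : A ⟶ B) (a : A) (b : B) (hb : k a = b)
    (hsurj : Function.Surjective (k.stalkMap a))
    (h : IsNoetherianRing (B.presheaf.stalk b) ∧ ringKrullDim (B.presheaf.stalk b) ≤ 1) :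
    IsNoetherianRing (A.presheaf.stalk a) ∧ ringKrullDim (A.presheaf.stalk a) ≤ 1 := by
  subst hb
  have := h.1
  exact ⟨isNoetherianRing_of_surjective _ _ (k.stalkMap a).hom hsurj,
    (ringKrullDim_le_of_surjective (k.stalkMap a).hom hsurj).trans h.2⟩

/-- Stacks 09NN for schemes with finitely many irreducible components -/
theorem finite_components_case (Y : Scheme.{u}) [Y.IsSeparated]
    (hYfin : (irreducibleComponents Y).Finite) (s : Finset Y)
    (hs : ∀ x ∈ s, IsNoetherianRing (Y.presheaf.stalk x) ∧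
      ringKrullDim (Y.presheaf.stalk x) ≤ 1) :
    ∃ U : Y.Opens, IsAffineOpen U ∧ ∀ x ∈ s, x ∈ U := by
  classical
  refine Groth.Agent.S7662.result Y hYfin s (fun Z hZ => ?_)
  obtain ⟨Zc, hZc⟩ : ∃ Zc : Closeds Y, Zc = ⟨Z, isClosed_of_mem_irreducibleComponents Z hZ⟩ :=
    ⟨_, rfl⟩
  rw [← hZc]
  have hZcZ : (Zc : Set Y) = Z := by rw [hZc]; rfl
  have hZirr : IsIrreducible (Zc : Set Y) := hZcZ ▸ hZ.1
  obtain ⟨η, hη⟩ : ∃ η, closure {η} = (Zc : Set Y) :=
    ⟨hZirr.genericPoint, hZirr.isGenericPoint_genericPoint Zc.2⟩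
  have hint : IsIntegral (vanishingIdeal Zc).subscheme :=
    FTApprox.isIntegral_subscheme_vanishingIdeal Zc η hη
  have hsep : (vanishingIdeal Zc).subscheme.IsSeparated :=
    ⟨by rw [← terminal.comp_from (vanishingIdeal Zc).subschemeι]; infer_instance⟩
  have hinv : ∀ t ∈ s, t ∈ Z → (vanishingIdeal Zc).subschemeι
      (Function.invFun (vanishingIdeal Zc).subschemeι t) = t := by
    intro t _ htZ
    apply Function.invFun_eq
    apply (FTApprox.mem_range_subschemeι_vanishingIdeal Zc t).mpr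
    rw [hZcZ]; exact htZ
  obtain ⟨V, hV, hVs⟩ := integral_case (vanishingIdeal Zc).subscheme
    ((s.filter (fun t => t ∈ Z)).image (Function.invFun (vanishingIdeal Zc).subschemeι))
    (fun z hz => by
      obtain ⟨t, ht, rfl⟩ := Finset.mem_image.mp hz
      rw [Finset.mem_filter] at ht
      exact stalk_transfer (vanishingIdeal Zc).subschemeι _ t (hinv t ht.1 ht.2)
        ((vanishingIdeal Zc).subschemeι.stalkMap_surjective _) (hs t ht.1))
  refine ⟨V, hV, fun t ht htZ => ?_⟩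
  exact ⟨Function.invFun (vanishingIdeal Zc).subschemeι t,
    hVs _ (Finset.mem_image_of_mem _ (Finset.mem_filter.mpr ⟨ht, htZ⟩)), hinv t ht htZ⟩

end Groth.Agent.R2.H29.DimOne

namespace Groth.Agent.R2.H29.DimOne

/-- Stacks 09NN -/
theorem main (X : Scheme.{u}) [X.IsSeparated]
    (hirr : ∀ U : X.Opens, IsCompact (U : Set X) → (irreducibleComponents (U : Set X)).Finite)
    (s : Finset X) (hs : ∀ x ∈ s, IsNoetherianRing (X.presheaf.stalk x) ∧
      ringKrullDim (X.presheaf.stalk x) ≤ 1) :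
    ∃ U : X.Opens, IsAffineOpen U ∧ ∀ x ∈ s, x ∈ U := by
  classical
  have hex : ∀ x : X, ∃ V : X.Opens, IsAffineOpen V ∧ x ∈ V := by
    intro x
    obtain ⟨_, ⟨V, hV, rfl⟩, hxV, -⟩ :=
      X.isBasis_affineOpens.exists_subset_of_mem_open (Set.mem_univ x) isOpen_univ
    exact ⟨V, hV, hxV⟩
  choose V hV hxV using hex
  obtain ⟨X', hX'c, hX's⟩ : ∃ X' : X.Opens, IsCompact (X' : Set X) ∧ ∀ x ∈ s, x ∈ X' := by
    refine ⟨⨆ x ∈ s, V x, ?_, fun x hx => ?_⟩
    · have : ((⨆ x ∈ s, V x : X.Opens) : Set X) = ⋃ x ∈ s, (V x : Set X) := by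
        simp
      rw [this]
      exact s.isCompact_biUnion (fun x _ => (hV x).isCompact)
    · exact Opens.mem_iSup.mpr ⟨x, Opens.mem_iSup.mpr ⟨hx, hxV x⟩⟩
  have hsep : X'.toScheme.IsSeparated :=
    ⟨by rw [← terminal.comp_from X'.ι]; infer_instance⟩
  have hfin : (irreducibleComponents X'.toScheme).Finite := hirr X' hX'c
  obtain ⟨sY, hsY1, hsY2⟩ : ∃ sY : Finset X'.toScheme, (∀ t ∈ sY, X'.ι t ∈ s) ∧
      (∀ x (hx : x ∈ s), (⟨x, hX's x hx⟩ : X'.toScheme) ∈ sY) :=
    ⟨Finset.subtype (fun x => x ∈ X') s, fun t ht => Finset.mem_subtype.mp ht,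
      fun x hx => Finset.mem_subtype.mpr hx⟩
  have key := finite_components_case X'.toScheme hfin sY
    (fun t ht => stalk_transfer X'.ι t _ rfl
        ((ConcreteCategory.isIso_iff_bijective _).mp inferInstance).2 (hs _ (hsY1 t ht)))
  obtain ⟨U', hU', hU's⟩ := key
  refine ⟨X'.ι ''ᵁ U', hU'.image_of_isOpenImmersion X'.ι, fun x hx => ?_⟩
  exact ⟨⟨x, hX's x hx⟩, hU's _ (hsY2 x hx), rfl⟩

end Groth.Agent.R2.H29.DimOne
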