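import Mathlib
import Groth.Agent.R2.H29DimOneC
import Groth.Agent.Lib.Helper5GlueSemilocal2

set_option autoImplicit false
universe u
open CategoryTheory CategoryTheory.Limits AlgebraicGeometry TopologicalSpace Opposite

namespace Groth.Agent.R2.H29.DimOne

variable {X : Scheme.{u}} [IsIntegral X]

/-- the canonical morphism `Spec K(X) ⟶ X` factors through every nonempty affine open -/
theorem specMap_germToFunctionField_fromSpec (U : X.Opens) (hU : IsAffineOpen U) [Nonempty U] :
    Spec.map (X.germToFunctionField U) ≫ hU.fromSpec = X.fromSpecStalk (genericPoint X) := by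
  have hη : genericPoint X ∈ U :=
    ((genericPoint_spec X).mem_open_set_iff U.isOpen).mpr (by simpa using ‹Nonempty U›)
  rw [← hU.fromSpecStalk_eq_fromSpecStalk hη]
  rfl

theorem sup_range_germToFunctionField_eq_top [X.IsSeparated] (U : X.Opens) (hU : IsAffineOpen U)
    [Nonempty U] (x : X) (hxU : x ∉ U)
    [IsNoetherianRing (X.presheaf.stalk x)] (hdx : ringKrullDim (X.presheaf.stalk x) = 1) :
    (algebraMap Γ(X, U) X.functionField).range ⊔
      (algebraMap (X.presheaf.stalk x) X.functionField).range = ⊤ := by
  by_contra hne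
  rw [sup_comm] at hne
  have hdimA : ringKrullDim (algebraMap (X.presheaf.stalk x) X.functionField).range = 1 := by
    rw [← hdx]
    exact (ringKrullDim_eq_of_ringEquiv (rangeEquiv (X.presheaf.stalk x) X.functionField)).symm
  have : IsNoetherianRing (algebraMap (X.presheaf.stalk x) X.functionField).range :=
    isNoetherianRing_of_ringEquiv _ (rangeEquiv (X.presheaf.stalk x) X.functionField)
  have := isFractionRing_range (X.presheaf.stalk x) X.functionField
  have := functionField_isFractionRing_of_isAffineOpen X U hU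
  have := isFractionRing_range Γ(X, U) X.functionField
  obtain ⟨O, hODVR, hAO, hBO⟩ :=
    (Groth.Agent.S7663.result X.functionField _ _ hdimA).mp hne
  have hOtop : O ≠ ⊤ := by
    intro htop
    have hall : ∀ z : X.functionField, z ∈ O := fun z => by
      have : z ∈ (⊤ : ValuationSubring X.functionField) := trivial
      rwa [← htop] at this
    obtain ⟨ϖ, hϖ⟩ := IsDiscreteValuationRing.exists_irreducible O
    apply hϖ.not_isUnit
    have hmem : ((ϖ : X.functionField))⁻¹ ∈ O := hall _
    have h0 : (ϖ : X.functionField) ≠ 0 := fun h => hϖ.ne_zero (Subtype.ext h)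
    exact IsUnit.of_mul_eq_one ⟨_, hmem⟩ (Subtype.ext (by simp [h0]))
  obtain ⟨h₁, h₁ι, h₁c⟩ := exists_hom_of_le_valuationSubring x hdx.le O hOtop hAO
  -- the second morphism, through `U`
  obtain ⟨φ, hφ⟩ : ∃ φ : Γ(X, U) →+* O, ∀ a, (φ a : X.functionField) =
      algebraMap Γ(X, U) X.functionField a :=
    ⟨(algebraMap _ X.functionField).codRestrict O.toSubring (fun a => hBO ⟨a, rfl⟩), fun a => rfl⟩
  have hcomp : O.subtype.comp φ = (X.germToFunctionField U).hom := by
    ext a; exact hφ a
  have h₂ι : Spec.map (CommRingCat.ofHom O.subtype) ≫ (Spec.map (CommRingCat.ofHom φ) ≫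
      hU.fromSpec) = X.fromSpecStalk (genericPoint X) := by
    rw [← Category.assoc, ← Spec.map_comp, ← CommRingCat.ofHom_comp, hcomp]
    exact specMap_germToFunctionField_fromSpec U hU
  have : IsDominant (Spec.map (CommRingCat.ofHom O.subtype)) :=
    isDominant_specMap_of_injective _ Subtype.val_injective
  have heq : h₁ = Spec.map (CommRingCat.ofHom φ) ≫ hU.fromSpec :=
    ext_of_isDominant (Spec.map (CommRingCat.ofHom O.subtype)) (h₁ι.trans h₂ι.symm)
  apply hxU
  rw [← h₁c, heq, Scheme.Hom.comp_apply]
  have : hU.fromSpec (Spec.map (CommRingCat.ofHom φ) (IsLocalRing.closedPoint O)) ∈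
      Set.range hU.fromSpec := ⟨_, rfl⟩
  rw [hU.range_fromSpec] at this
  exact this

end Groth.Agent.R2.H29.DimOne

namespace Groth.Agent.R2.H29.DimOne

open Groth.Agent.Lib.Helper5.GlueDimOne in
/-- Stacks 09N8 in geometric form: on an integral separated scheme, if the complement of a nonempty
affine open `U` consists of finitely many points with Noetherian one-dimensional local rings, then
some function `f` on `U` has an inverse lying in the maximal ideal of each of these local rings. -/
theorem exists_section_inv_mem (X : Scheme.{u}) [IsIntegral X] [X.IsSeparated] (U : X.Opens)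
    (hU : IsAffineOpen U) [Nonempty U] (hfin : ((U : Set X)ᶜ).Finite)
    (hloc : ∀ x : X, x ∉ U → IsNoetherianRing (X.presheaf.stalk x) ∧
      ringKrullDim (X.presheaf.stalk x) = 1) :
    ∃ f : Γ(X, U), ∀ x : X, x ∉ U → ∃ t : X.presheaf.stalk x,
      t ∈ IsLocalRing.maximalIdeal (X.presheaf.stalk x) ∧
        algebraMap (X.presheaf.stalk x) X.functionField t * (X.germToFunctionField U f) = 1 := by
  classical
  obtain ⟨r, pt, hpt, hptU⟩ : ∃ (r : ℕ) (pt : Fin r → X), (∀ x : X, x ∉ U → ∃ i, pt i = x) ∧
      ∀ i, pt i ∉ U := by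
    refine ⟨hfin.toFinset.card, fun i => (hfin.toFinset.equivFin.symm i).1, fun x hx => ?_,
      fun i => ?_⟩
    · refine ⟨hfin.toFinset.equivFin ⟨x, hfin.mem_toFinset.mpr hx⟩, ?_⟩
      simp
    · exact hfin.mem_toFinset.mp (hfin.toFinset.equivFin.symm i).2
  have hN : ∀ i, IsNoetherianRing (X.presheaf.stalk (pt i)) := fun i => (hloc _ (hptU i)).1
  have hd : ∀ i, ringKrullDim (X.presheaf.stalk (pt i)) = 1 := fun i => (hloc _ (hptU i)).2
  have hNA : ∀ i, IsNoetherianRing
      (algebraMap (X.presheaf.stalk (pt i)) X.functionField).range :=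
    fun i => isNoetherianRing_of_ringEquiv _ (rangeEquiv (X.presheaf.stalk (pt i)) X.functionField)
  have hFA : ∀ i, IsFractionRing
      (algebraMap (X.presheaf.stalk (pt i)) X.functionField).range X.functionField :=
    fun i => isFractionRing_range _ _
  have hdA : ∀ i, ringKrullDim (algebraMap (X.presheaf.stalk (pt i)) X.functionField).range = 1 :=
    fun i => by
      rw [← hd i]
      exact (ringKrullDim_eq_of_ringEquiv (rangeEquiv _ _)).symm
  have hLA : ∀ i, IsLocalRing (algebraMap (X.presheaf.stalk (pt i)) X.functionField).range :=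
    fun i => (rangeEquiv (X.presheaf.stalk (pt i)) X.functionField).isLocalRing
  have hsl : ∀ i, Finite (MaximalSpectrum
      (algebraMap (X.presheaf.stalk (pt i)) X.functionField).range) :=
    fun i => inferInstance
  have := functionField_isFractionRing_of_isAffineOpen X U hU
  have hFU := isFractionRing_range Γ(X, U) X.functionField
  have hgen : ∀ i, (algebraMap Γ(X, U) X.functionField).range ⊔
      (algebraMap (X.presheaf.stalk (pt i)) X.functionField).range = ⊤ :=
    fun i => sup_range_germToFunctionField_eq_top U hU (pt i) (hptU i) (hd i)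
  obtain ⟨z, ⟨f, hf⟩, hz0, hz⟩ := exists_mem_inv_mem_jacobson_family
    (algebraMap Γ(X, U) X.functionField).range r
    (fun i => (algebraMap (X.presheaf.stalk (pt i)) X.functionField).range) hdA hsl hgen
  refine ⟨f, fun x hx => ?_⟩
  obtain ⟨i, rfl⟩ := hpt x hx
  obtain ⟨⟨t, ht⟩, hjac⟩ := hz i
  refine ⟨t, ?_, ?_⟩
  · rw [IsLocalRing.jacobson_eq_maximalIdeal ⊥ bot_ne_top] at hjac
    by_contra hnot
    have hunit : IsUnit t := by
      by_contra hnu
      exact hnot hnu
    have hu2 : IsUnit (rangeEquiv (X.presheaf.stalk (pt i)) X.functionField t) :=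
      hunit.map _
    have heq : rangeEquiv (X.presheaf.stalk (pt i)) X.functionField t =
        (⟨z⁻¹, ⟨t, ht⟩⟩ : (algebraMap (X.presheaf.stalk (pt i)) X.functionField).range) :=
      Subtype.ext ht
    rw [heq] at hu2
    exact hjac hu2
  · have hfz : X.germToFunctionField U f = z := hf
    rw [ht, hfz, inv_mul_cancel₀ hz0]

end Groth.Agent.R2.H29.DimOne
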