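import Mathlib

set_option autoImplicit false
universe u
open Polynomial

namespace Groth.Agent.R2.H29.DimOneGen

/-- Nilpotent lifting: if `u * g = 1 + n` in `Q = B[1/h]` with `n` nilpotent, `g ∈ I`, and every
element of the ideal `I` has a power divisible by `h`, then some power of `u` has an inverse coming
from `I`. -/
theorem exists_pow_inv_mem_of_nilpotent {B : Type*} [CommRing B] (I : Ideal B)
    (Q : Type*) [CommRing Q] [Algebra B Q] (h : B) [IsLocalization.Away h Q]
    (hh : I ≤ (Ideal.span {h}).radical)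
    (u : Q) (g : B) (hg : g ∈ I) (n : Q) (hn : IsNilpotent n)
    (hun : u * algebraMap B Q g = 1 + n) :
    ∃ (P : ℕ) (g' : B), 1 ≤ P ∧ g' ∈ I ∧
      algebraMap B Q g' * u ^ P = 1 := by
  obtain ⟨e, he⟩ := hn
  -- the inverse of `1 + n`
  obtain ⟨w, hw⟩ : ∃ w : Q, w = ∑ j ∈ Finset.range e, (-n) ^ j := ⟨_, rfl⟩
  have hw1 : (1 + n) * w = 1 := by
    have := mul_neg_geom_sum (-n) e
    rw [sub_neg_eq_add, neg_pow, he, mul_zero, sub_zero] at this
    rw [hw]; exact this
  have hwmem : w ∈ Algebra.adjoin B {n} := by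
    rw [hw]
    refine Subalgebra.sum_mem _ fun j _ => Subalgebra.pow_mem _ (Subalgebra.neg_mem _ ?_) j
    exact Algebra.subset_adjoin rfl
  -- write `n = b / h ^ k`
  obtain ⟨b, k, hbk⟩ : ∃ (b : B) (k : ℕ), n * algebraMap B Q h ^ k = algebraMap B Q b := by
    obtain ⟨⟨b, s⟩, hbs⟩ := IsLocalization.surj (Submonoid.powers h) n
    obtain ⟨k, hk⟩ := s.2
    refine ⟨b, k, ?_⟩
    rw [← map_pow]
    have : h ^ k = (s : B) := hk
    rw [this]; exact hbs
  -- `g ^ M = h * c`
  obtain ⟨M, hM⟩ := hh hg
  obtain ⟨c, hc⟩ := Ideal.mem_span_singleton'.mp hM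
  -- key: `g ^ P₁ * n ^ i` comes from the maximal ideal
  obtain ⟨P₁, hP₁⟩ : ∃ P₁ : ℕ, P₁ = M * k * e + 1 := ⟨_, rfl⟩
  have key : ∀ i : ℕ, ∃ a ∈ I,
      algebraMap B Q a = algebraMap B Q g ^ P₁ * n ^ i := by
    intro i
    by_cases hie : e ≤ i
    · refine ⟨0, zero_mem _, ?_⟩
      rw [map_zero, ← Nat.sub_add_cancel hie, pow_add, he, mul_zero, mul_zero]
    · have hie' : i < e := not_le.mp hie
      have hle : M * k * i + 1 ≤ P₁ := by
        rw [hP₁]
        have : M * k * i ≤ M * k * e := Nat.mul_le_mul_left _ hie'.le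
        omega
      refine ⟨g ^ (P₁ - M * k * i) * (c ^ (k * i) * b ^ i),
        Ideal.mul_mem_right _ _ (Ideal.pow_mem_of_mem _ hg _ (by omega)), ?_⟩
      have h1 : algebraMap B Q g ^ (M * k * i) = algebraMap B Q c ^ (k * i) *
          algebraMap B Q h ^ (k * i) := by
        rw [mul_assoc, pow_mul, ← map_pow, ← hc, map_mul, mul_pow]
      have h2 : n ^ i * algebraMap B Q h ^ (k * i) = algebraMap B Q b ^ i := by
        rw [pow_mul, ← mul_pow, hbk]
      have h3 : P₁ = (P₁ - M * k * i) + M * k * i := by omega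
      rw [map_mul, map_mul, map_pow, map_pow, map_pow]
      conv_rhs => rw [h3, pow_add, h1]
      rw [← h2]
      ring
  have keyAdj : ∀ s ∈ Algebra.adjoin B {n}, ∃ a ∈ I,
      algebraMap B Q a = algebraMap B Q g ^ P₁ * s := by
    intro s hs
    rw [Algebra.adjoin_singleton_eq_range_aeval] at hs
    obtain ⟨p, rfl⟩ := hs
    show ∃ a ∈ I, algebraMap B Q a = algebraMap B Q g ^ P₁ * aeval n p
    rw [Polynomial.aeval_eq_sum_range, Finset.mul_sum]
    choose a ha1 ha2 using key
    refine ⟨∑ i ∈ Finset.range (p.natDegree + 1), p.coeff i * a i,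
      Ideal.sum_mem _ fun i _ => Ideal.mul_mem_left _ _ (ha1 i), ?_⟩
    rw [map_sum]
    refine Finset.sum_congr rfl fun i _ => ?_
    rw [map_mul, ha2 i, Algebra.smul_def]
    ring
  obtain ⟨g', hg'1, hg'2⟩ := keyAdj (w ^ P₁) (Subalgebra.pow_mem _ hwmem _)
  refine ⟨P₁, g', by omega, hg'1, ?_⟩
  rw [hg'2, ← mul_pow, ← mul_pow]
  have : algebraMap B Q g * w * u = 1 := by
    rw [mul_comm (algebraMap B Q g) w, mul_assoc, mul_comm (algebraMap B Q g) u, hun, mul_comm]
    exact hw1
  rw [this, one_pow]

open TopologicalSpace in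
/-- In a quasi-sober `T₀` space of Krull dimension `≤ 1`, an irreducible closed set containing no
generic point of an irreducible component is a singleton. -/
theorem eq_singleton_of_isIrreducible_of_forall_generic_notMem {X : Type*} [TopologicalSpace X]
    [T0Space X] [QuasiSober X] (hdim : topologicalKrullDim X ≤ 1)
    (C : Set X) (hCirr : IsIrreducible C) (hCcl : IsClosed C)
    (hgen : ∀ η : X, closure {η} ∈ irreducibleComponents X → η ∉ C) (ξ : X)
    (hξ : closure {ξ} = C) : C = {ξ} := by
  refine Set.eq_singleton_iff_unique_mem.mpr ⟨hξ ▸ subset_closure rfl, fun y hy => ?_⟩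
  by_contra hne
  -- the irreducible component containing `C`
  obtain ⟨T, hT, hCT⟩ := exists_mem_irreducibleComponents_subset_of_isIrreducible C hCirr
  have hTcl : IsClosed T := isClosed_of_mem_irreducibleComponents T hT
  obtain ⟨η, hη⟩ : ∃ η, closure {η} = T :=
    ⟨hT.1.genericPoint, hT.1.isGenericPoint_genericPoint hTcl⟩
  have hηC : η ∉ C := hgen η (hη ▸ hT)
  -- a chain of length two
  let c0 : IrreducibleCloseds X := ⟨closure {y}, isIrreducible_singleton.closure, isClosed_closure⟩
  let c1 : IrreducibleCloseds X := ⟨C, hCirr, hCcl⟩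
  let c2 : IrreducibleCloseds X := ⟨T, hT.1, hTcl⟩
  have h01 : c0 < c1 := by
    refine lt_of_le_of_ne (hCcl.closure_subset_iff.mpr (Set.singleton_subset_iff.mpr hy)) ?_
    intro heq
    have h1 : closure {y} = closure {ξ} := by
      have : (c0 : Set X) = c1 := congrArg _ heq
      rw [hξ]; exact this
    have h2 : IsGenericPoint y (closure {ξ}) := h1
    have h3 : IsGenericPoint ξ (closure {ξ}) := rfl
    exact hne (h2.eq h3)
  have h12 : c1 < c2 := by
    refine lt_of_le_of_ne hCT ?_
    intro heq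
    have : C = T := congrArg (fun c : IrreducibleCloseds X => (c : Set X)) heq
    apply hηC
    rw [this, ← hη]
    exact subset_closure rfl
  let s : LTSeries (IrreducibleCloseds X) :=
    { length := 2
      toFun := ![c0, c1, c2]
      step := by
        intro i
        fin_cases i
        · exact h01
        · exact h12 }
  have h2 : (2 : WithBot ℕ∞) ≤ topologicalKrullDim X := by
    have := Order.LTSeries.length_le_krullDim s
    exact this
  have : (2 : WithBot ℕ∞) ≤ 1 := h2.trans hdim
  exact absurd this (by decide)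

open TopologicalSpace in
/-- In a Noetherian quasi-sober `T₀` space of Krull dimension `≤ 1`, a closed set containing no
generic point of an irreducible component is finite. -/
theorem finite_of_isClosed_of_forall_generic_notMem {X : Type*} [TopologicalSpace X]
    [NoetherianSpace X] [T0Space X] [QuasiSober X] (hdim : topologicalKrullDim X ≤ 1)
    (Z : Set X) (hZ : IsClosed Z)
    (hgen : ∀ η : X, closure {η} ∈ irreducibleComponents X → η ∉ Z) : Z.Finite := by
  obtain ⟨S, hSf, hSc, hSi, rfl⟩ := NoetherianSpace.exists_finite_set_isClosed_irreducible hZ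
  refine Set.Finite.sUnion hSf fun C hC => ?_
  have hCirr := hSi C hC
  have hCcl := hSc C hC
  obtain ⟨ξ, hξ⟩ : ∃ ξ, closure {ξ} = C :=
    ⟨hCirr.genericPoint, hCirr.isGenericPoint_genericPoint hCcl⟩
  rw [eq_singleton_of_isIrreducible_of_forall_generic_notMem hdim C hCirr hCcl
    (fun η hη h => hgen η hη ⟨C, hC, h⟩) ξ hξ]
  exact Set.finite_singleton _

/-- In a quasi-sober `T₀` space of Krull dimension `≤ 1`, the points of a closed set containing no
generic point of an irreducible component are closed. -/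
theorem isClosed_singleton_of_forall_generic_notMem {X : Type*} [TopologicalSpace X]
    [T0Space X] [QuasiSober X] (hdim : topologicalKrullDim X ≤ 1)
    (Z : Set X) (hZ : IsClosed Z)
    (hgen : ∀ η : X, closure {η} ∈ irreducibleComponents X → η ∉ Z) (y : X) (hy : y ∈ Z) :
    IsClosed ({y} : Set X) := by
  have hsub : closure ({y} : Set X) ⊆ Z := hZ.closure_subset_iff.mpr (Set.singleton_subset_iff.mpr hy)
  rw [← eq_singleton_of_isIrreducible_of_forall_generic_notMem hdim (closure {y})
    isIrreducible_singleton.closure isClosed_closure (fun η hη h => hgen η hη (hsub h)) y rfl]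
  exact isClosed_closure

/-- In a one-dimensional local domain, if `t ∈ m` is the inverse of `u` in the fraction field and
`c ≠ 0`, then `c * u ^ N` is the inverse of an element of `m` for all large `N`. -/
theorem exists_forall_inv_mem {B K : Type*} [CommRing B] [IsDomain B] [IsLocalRing B]
    [Field K] [Algebra B K] [IsFractionRing B K] (hdim : ringKrullDim B ≤ 1)
    (t : B) (ht : t ∈ IsLocalRing.maximalIdeal B) (u c : K) (hc : c ≠ 0)
    (htu : algebraMap B K t * u = 1) :
    ∃ k : ℕ, ∀ N : ℕ, k ≤ N → ∃ τ ∈ IsLocalRing.maximalIdeal B,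
      algebraMap B K τ * (c * u ^ N) = 1 := by
  have : Ring.KrullDimLE 1 B := Ring.krullDimLE_iff.mpr hdim
  obtain ⟨a, b, hb, rfl⟩ := IsFractionRing.div_surjective (A := B) c
  have hb0 : algebraMap B K b ≠ 0 := by
    intro h0
    exact nonZeroDivisors.ne_zero hb ((IsFractionRing.injective B K) (by rw [h0, map_zero]))
  have ha0 : a ≠ 0 := by
    rintro rfl
    apply hc
    rw [map_zero, zero_div]
  -- `t ^ k₀ = a * d`
  obtain ⟨k₀, d, hd⟩ : ∃ (k₀ : ℕ) (d : B), t ^ k₀ = a * d := by
    by_cases hau : IsUnit a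
    · obtain ⟨w, rfl⟩ := hau
      exact ⟨0, ((w⁻¹ : Bˣ) : B), by rw [pow_zero, Units.mul_inv]⟩
    · have hrad : t ∈ (Ideal.span {a}).radical := by
        rw [Ideal.radical_eq_sInf, Ideal.mem_sInf]
        rintro P ⟨hP1, hP2⟩
        have hPbot : P ≠ ⊥ := by
          intro h
          apply ha0
          have : a ∈ P := hP1 (Ideal.subset_span rfl)
          rw [h] at this
          exact this
        have hmax : P.IsMaximal := hP2.isMaximal_of_ne_bot hPbot
        rw [IsLocalRing.eq_maximalIdeal hmax]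
        exact ht
      obtain ⟨k₀, hk₀⟩ := hrad
      obtain ⟨d, hd⟩ := Ideal.mem_span_singleton'.mp hk₀
      exact ⟨k₀, d, by rw [← hd, mul_comm]⟩
  refine ⟨k₀ + 1, fun N hN => ⟨t ^ (N - k₀) * d * b, ?_, ?_⟩⟩
  · rw [mul_assoc]
    exact Ideal.mul_mem_right _ _ (Ideal.pow_mem_of_mem _ ht _ (by omega))
  · have hN' : N = (N - k₀) + k₀ := by omega
    have h1 : algebraMap B K t ^ N * u ^ N = 1 := by rw [← mul_pow, htu, one_pow]
    have h2 : algebraMap B K t ^ k₀ = algebraMap B K a * algebraMap B K d := by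
      rw [← map_pow, hd, map_mul]
    rw [map_mul, map_mul, map_pow]
    have h3 : algebraMap B K t ^ N = algebraMap B K t ^ (N - k₀) *
        (algebraMap B K a * algebraMap B K d) := by
      conv_lhs => rw [hN', pow_add, h2]
    rw [← h1, h3]
    field_simp

end Groth.Agent.R2.H29.DimOneGen
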