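import Mathlib
import Groth.Agent.R2.H29DimOneGenA
import Groth.Agent.R2.H29DimOneD
import Groth.Agent.R2.H29DimOneE
import Groth.Agent.Lib.Helper4FibDimL

/-!
# Noetherian separated schemes of dimension `≤ 1`: functions with prescribed poles (helper29)

`X` Noetherian separated of dimension `≤ 1`, `U ⊆ X` an affine open with finite complement.  For
finitely many points `η ∈ U` with pairwise incomparable closures we construct `f ∈ Γ(X, U)` whose
restriction to every reduced closed subscheme `closure {η}` is the inverse of an element of the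
maximal ideal at every point outside `U` (`exists_goodOn`).
-/

set_option autoImplicit false
universe u
open CategoryTheory CategoryTheory.Limits AlgebraicGeometry TopologicalSpace Opposite

namespace Groth.Agent.R2.H29.DimOneGen

open Groth.Agent.R2.H29.DimOne Scheme.IdealSheafData

/-- B1: on an integral closed subscheme `Y` of a Noetherian separated scheme of dimension `≤ 1`
meeting the affine open `U` (with finite complement), there is a function on `U` whose restriction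
to `Y` has inverses in the maximal ideals at all points of `Y` outside `U`. -/
theorem exists_section_component (X : Scheme.{u}) [IsNoetherian X] [X.IsSeparated]
    (hdim : topologicalKrullDim X ≤ 1) {Y : Scheme.{u}} (ι : Y ⟶ X) [IsClosedImmersion ι]
    [IsIntegral Y] (U : X.Opens) (hU : IsAffineOpen U) (hfin : ((U : Set X)ᶜ).Finite)
    [Nonempty (ι ⁻¹ᵁ U)] :
    ∃ φ : Γ(X, U), ∀ x' : Y, ι x' ∉ U →
      ∃ t ∈ IsLocalRing.maximalIdeal (Y.presheaf.stalk x'),
        algebraMap (Y.presheaf.stalk x') Y.functionField t *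
          Y.germToFunctionField (ι ⁻¹ᵁ U) (ι.app U φ) = 1 := by
  have hsep : Y.IsSeparated := ⟨by rw [← terminal.comp_from ι]; infer_instance⟩
  have hUY : IsAffineOpen (ι ⁻¹ᵁ U) := hU.preimage ι
  have hη : genericPoint Y ∈ ι ⁻¹ᵁ U :=
    ((genericPoint_spec Y).mem_open_set_iff (ι ⁻¹ᵁ U).isOpen).mpr
      (by simpa using ‹Nonempty (ι ⁻¹ᵁ U)›)
  have hfinY : (((ι ⁻¹ᵁ U : Y.Opens) : Set Y)ᶜ).Finite := by
    have : (((ι ⁻¹ᵁ U : Y.Opens) : Set Y)ᶜ) = ι ⁻¹' ((U : Set X)ᶜ) := rfl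
    rw [this]
    exact hfin.preimage ι.isEmbedding.injective.injOn
  have hloc : ∀ x' : Y, x' ∉ ι ⁻¹ᵁ U → IsNoetherianRing (Y.presheaf.stalk x') ∧
      ringKrullDim (Y.presheaf.stalk x') = 1 := by
    intro x' hx'
    have h1 := stalk_transfer ι x' (ι x') rfl (ι.stalkMap_surjective x')
      ⟨inferInstance, (Groth.Agent.Lib.Helper4.FibDim.ringKrullDim_stalk_le_topologicalKrullDim
        X (ι x')).trans hdim⟩
    refine ⟨h1.1, ringKrullDim_eq_one h1.2 (not_isField_stalk Y x' ?_)⟩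
    rintro rfl
    exact hx' hη
  obtain ⟨f, hf⟩ := exists_section_inv_mem Y (ι ⁻¹ᵁ U) hUY hfinY hloc
  obtain ⟨φ, hφ⟩ := ι.app_surjective U hU f
  refine ⟨φ, fun x' hx' => ?_⟩
  obtain ⟨t, ht, h⟩ := hf x' hx'
  exact ⟨t, ht, by rw [hφ]; exact h⟩

/-- B3a: modifying a good function on a component by a nonzero factor and a large power. -/
theorem exists_forall_inv_component {X Y : Scheme.{u}} [IsNoetherian X]
    (hdim : topologicalKrullDim X ≤ 1) (ι : Y ⟶ X) [IsClosedImmersion ι] [IsIntegral Y]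
    (U : X.Opens) (hfin : ((U : Set X)ᶜ).Finite) [Nonempty (ι ⁻¹ᵁ U)]
    (f c : Γ(Y, ι ⁻¹ᵁ U)) (hc : Y.germToFunctionField (ι ⁻¹ᵁ U) c ≠ 0)
    (hf : ∀ x' : Y, ι x' ∉ U → ∃ t ∈ IsLocalRing.maximalIdeal (Y.presheaf.stalk x'),
      algebraMap (Y.presheaf.stalk x') Y.functionField t *
        Y.germToFunctionField (ι ⁻¹ᵁ U) f = 1) :
    ∃ k : ℕ, ∀ N : ℕ, k ≤ N → ∀ x' : Y, ι x' ∉ U →
      ∃ τ ∈ IsLocalRing.maximalIdeal (Y.presheaf.stalk x'),
        algebraMap (Y.presheaf.stalk x') Y.functionField τ *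
          Y.germToFunctionField (ι ⁻¹ᵁ U) (c * f ^ N) = 1 := by
  classical
  have hS : (ι ⁻¹' ((U : Set X)ᶜ)).Finite := hfin.preimage ι.isEmbedding.injective.injOn
  have key : ∀ x' : Y, ∃ k : ℕ, ι x' ∉ U → ∀ N : ℕ, k ≤ N →
      ∃ τ ∈ IsLocalRing.maximalIdeal (Y.presheaf.stalk x'),
        algebraMap (Y.presheaf.stalk x') Y.functionField τ *
          Y.germToFunctionField (ι ⁻¹ᵁ U) (c * f ^ N) = 1 := by
    intro x'
    by_cases hx' : ι x' ∈ U
    · exact ⟨0, fun h => absurd hx' h⟩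
    · obtain ⟨t, ht, htu⟩ := hf x' hx'
      have h1 := stalk_transfer ι x' (ι x') rfl (ι.stalkMap_surjective x')
        ⟨inferInstance, (Groth.Agent.Lib.Helper4.FibDim.ringKrullDim_stalk_le_topologicalKrullDim
          X (ι x')).trans hdim⟩
      obtain ⟨k, hk⟩ := exists_forall_inv_mem (B := Y.presheaf.stalk x') (K := Y.functionField)
        h1.2 t ht _ _ hc htu
      refine ⟨k, fun _ N hN => ?_⟩
      obtain ⟨τ, hτ, h⟩ := hk N hN
      exact ⟨τ, hτ, by rw [map_mul, map_pow]; exact h⟩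
  choose k hk using key
  refine ⟨hS.toFinset.sup k, fun N hN x' hx' => hk x' hx' N (le_trans ?_ hN)⟩
  exact Finset.le_sup (f := k) (hS.mem_toFinset.mpr hx')

/-- B0: a function on the affine open `U` not vanishing at `η` and vanishing identically on the
closures of the other points of `G`. -/
theorem exists_conductor {X : Scheme.{u}} (U : X.Opens) (hU : IsAffineOpen U) (G : Finset X)
    (hinc : ∀ η ∈ G, ∀ η' ∈ G, η ∈ closure ({η'} : Set X) → η = η') (η : X) (hη : η ∈ G)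
    (hηU : η ∈ U) :
    ∃ c : Γ(X, U), η ∈ X.basicOpen c ∧
      ∀ η' ∈ G, η' ≠ η → ∀ y ∈ closure ({η'} : Set X), y ∉ X.basicOpen c := by
  classical
  have hCcl : IsClosed (⋃ η' ∈ (G.erase η : Set X), closure ({η'} : Set X)) :=
    Set.Finite.isClosed_biUnion (G.erase η).finite_toSet (fun _ _ => isClosed_closure)
  let V : X.Opens := ⟨(⋃ η' ∈ (G.erase η : Set X), closure ({η'} : Set X))ᶜ, hCcl.isOpen_compl⟩
  have hηV : η ∈ V := by
    intro hmem
    simp only [Set.mem_iUnion] at hmem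
    obtain ⟨η', hη', hmem⟩ := hmem
    have hη'G : η' ∈ G.erase η := hη'
    rw [Finset.mem_erase] at hη'G
    exact hη'G.1 (hinc η hη η' hη'G.2 hmem).symm
  obtain ⟨c, hcV, hηc⟩ := hU.exists_basicOpen_le (V := V) ⟨η, hηV⟩ hηU
  refine ⟨c, hηc, fun η' hη' hne y hy hyc => ?_⟩
  have : y ∈ V := hcV hyc
  apply this
  simp only [Set.mem_iUnion]
  exact ⟨η', Finset.mem_coe.mpr (Finset.mem_erase.mpr ⟨hne, hη'⟩), hy⟩

/-! ### The reduced closed subscheme on the closure of a point -/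

section Component

variable {X : Scheme.{u}}

/-- the closure of a point as a closed subset -/
abbrev ptCl (η : X) : Closeds X := ⟨closure {η}, isClosed_closure⟩

/-- the reduced closed subscheme on the closure of a point -/
noncomputable abbrev XZ (η : X) : Scheme.{u} := (vanishingIdeal (ptCl η)).subscheme

/-- the closed immersion of the closure of a point -/
noncomputable abbrev ιZ (η : X) : XZ η ⟶ X := (vanishingIdeal (ptCl η)).subschemeι

instance (η : X) : IsIntegral (XZ η) :=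
  FTApprox.isIntegral_subscheme_vanishingIdeal (ptCl η) η rfl

theorem ιZ_mem_closure (η : X) (y : XZ η) : ιZ η y ∈ closure ({η} : Set X) :=
  (FTApprox.mem_range_subschemeι_vanishingIdeal (ptCl η) _).mp ⟨y, rfl⟩

theorem exists_ιZ_eq (η : X) (x : X) (hx : x ∈ closure ({η} : Set X)) : ∃ y, ιZ η y = x :=
  (FTApprox.mem_range_subschemeι_vanishingIdeal (ptCl η) x).mpr hx

/-- `f` is good along the closure of `η`: its restriction to the reduced closed subscheme
`closure {η}` is, at every point outside `U`, the inverse of an element of the maximal ideal. -/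
def GoodOn (U : X.Opens) (f : Γ(X, U)) (η : X) : Prop :=
  ∃ (_ : Nonempty ((ιZ η) ⁻¹ᵁ U)), ∀ x' : XZ η, ιZ η x' ∉ U →
    ∃ τ ∈ IsLocalRing.maximalIdeal ((XZ η).presheaf.stalk x'),
      algebraMap ((XZ η).presheaf.stalk x') (XZ η).functionField τ *
        (XZ η).germToFunctionField ((ιZ η) ⁻¹ᵁ U) ((ιZ η).app U f) = 1

/-- B3b: the data at one point `η ∈ G`. -/
theorem exists_data_at (X : Scheme.{u}) [IsNoetherian X] [X.IsSeparated]
    (hdim : topologicalKrullDim X ≤ 1) (U : X.Opens) (hU : IsAffineOpen U)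
    (hfin : ((U : Set X)ᶜ).Finite) (G : Finset X) (hGU : ∀ η ∈ G, η ∈ U)
    (hinc : ∀ η ∈ G, ∀ η' ∈ G, η ∈ closure ({η'} : Set X) → η = η') (η : X) (hη : η ∈ G) :
    ∃ (φ c : Γ(X, U)) (k : ℕ), (∀ η' ∈ G, η' ≠ η → (ιZ η').app U c = 0) ∧
      ∃ (_ : Nonempty ((ιZ η) ⁻¹ᵁ U)), ∀ N : ℕ, k ≤ N → ∀ x' : XZ η, ιZ η x' ∉ U →
        ∃ τ ∈ IsLocalRing.maximalIdeal ((XZ η).presheaf.stalk x'),
          algebraMap ((XZ η).presheaf.stalk x') (XZ η).functionField τ *
            (XZ η).germToFunctionField ((ιZ η) ⁻¹ᵁ U)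
              ((ιZ η).app U c * (ιZ η).app U φ ^ N) = 1 := by
  obtain ⟨η₀, hη₀⟩ := exists_ιZ_eq η η (subset_closure rfl)
  have hne : Nonempty ((ιZ η) ⁻¹ᵁ U) :=
    ⟨⟨η₀, show ιZ η η₀ ∈ U by rw [hη₀]; exact hGU η hη⟩⟩
  obtain ⟨φ, hφ⟩ := exists_section_component X hdim (ιZ η) U hU hfin
  obtain ⟨c, hcη, hc⟩ := exists_conductor U hU G hinc η hη (hGU η hη)
  -- the germ of `c` on the component is nonzero
  have hcne : (XZ η).germToFunctionField ((ιZ η) ⁻¹ᵁ U) ((ιZ η).app U c) ≠ 0 := by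
    have hgen : genericPoint (XZ η) ∈ (XZ η).basicOpen ((ιZ η).app U c) := by
      refine ((genericPoint_spec (XZ η)).mem_open_set_iff
        ((XZ η).basicOpen ((ιZ η).app U c)).isOpen).mpr ⟨η₀, trivial, ?_⟩
      rw [← Scheme.preimage_basicOpen]
      show ιZ η η₀ ∈ X.basicOpen c
      rw [hη₀]; exact hcη
    have hu := ((XZ η).mem_basicOpen ((ιZ η).app U c) (genericPoint (XZ η))
      (((XZ η).basicOpen_le _) hgen)).1 hgen
    exact hu.ne_zero
  obtain ⟨k, hk⟩ := exists_forall_inv_component hdim (ιZ η) U hfin ((ιZ η).app U φ)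
    ((ιZ η).app U c) hcne hφ
  refine ⟨φ, c, k, fun η' hη' hne' => ?_, hne, hk⟩
  rw [← basicOpen_eq_bot_iff, ← Scheme.preimage_basicOpen]
  ext y
  simp only [Opens.coe_bot, Set.mem_empty_iff_false, iff_false]
  intro hy
  exact hc η' hη' hne' _ (ιZ_mem_closure η' y) hy

/-- B3: a function on `U` which is good along the closures of all points of `G`. -/
theorem exists_goodOn (X : Scheme.{u}) [IsNoetherian X] [X.IsSeparated]
    (hdim : topologicalKrullDim X ≤ 1) (U : X.Opens) (hU : IsAffineOpen U)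
    (hfin : ((U : Set X)ᶜ).Finite) (G : Finset X) (hGU : ∀ η ∈ G, η ∈ U)
    (hinc : ∀ η ∈ G, ∀ η' ∈ G, η ∈ closure ({η'} : Set X) → η = η') :
    ∃ f : Γ(X, U), ∀ η ∈ G, GoodOn U f η := by
  classical
  have key : ∀ η : X, ∃ (φ c : Γ(X, U)) (k : ℕ), η ∈ G →
      (∀ η' ∈ G, η' ≠ η → (ιZ η').app U c = 0) ∧
      ∃ (_ : Nonempty ((ιZ η) ⁻¹ᵁ U)), ∀ N : ℕ, k ≤ N → ∀ x' : XZ η, ιZ η x' ∉ U →
        ∃ τ ∈ IsLocalRing.maximalIdeal ((XZ η).presheaf.stalk x'),
          algebraMap ((XZ η).presheaf.stalk x') (XZ η).functionField τ *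
            (XZ η).germToFunctionField ((ιZ η) ⁻¹ᵁ U)
              ((ιZ η).app U c * (ιZ η).app U φ ^ N) = 1 := by
    intro η
    by_cases hη : η ∈ G
    · obtain ⟨φ, c, k, h⟩ := exists_data_at X hdim U hU hfin G hGU hinc η hη
      exact ⟨φ, c, k, fun _ => h⟩
    · exact ⟨0, 0, 0, fun h => absurd h hη⟩
  choose φ c k hk using key
  refine ⟨∑ η ∈ G, c η * φ η ^ (G.sup k), fun η hη => ?_⟩
  obtain ⟨h0, hne, h⟩ := hk η hη
  refine ⟨hne, fun x' hx' => ?_⟩
  obtain ⟨τ, hτ, hτ1⟩ := h (G.sup k) (Finset.le_sup (f := k) hη) x' hx'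
  refine ⟨τ, hτ, ?_⟩
  have hsum : (ιZ η).app U (∑ η' ∈ G, c η' * φ η' ^ (G.sup k)) =
      (ιZ η).app U (c η) * (ιZ η).app U (φ η) ^ (G.sup k) := by
    rw [map_sum, Finset.sum_eq_single η]
    · rw [map_mul, map_pow]
    · intro η' hη' hne'
      rw [map_mul, (hk η' hη').1 η hη (Ne.symm hne'), zero_mul]
    · intro h; exact absurd hη h
  rw [hsum]
  exact hτ1

end Component

end Groth.Agent.R2.H29.DimOneGen
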