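import Mathlib
import Groth.Agent.R2.H29DimOneGenB

set_option autoImplicit false
universe u
open CategoryTheory CategoryTheory.Limits AlgebraicGeometry TopologicalSpace Opposite

namespace Groth.Agent.R2.H29.DimOneGen

open Groth.Agent.R2.H29.DimOne Scheme.IdealSheafData

theorem res_res {X : Scheme.{u}} {A B C : X.Opens} (h₁ : B ≤ A) (h₂ : C ≤ B) (s : Γ(X, A)) :
    X.presheaf.map (homOfLE h₂).op (X.presheaf.map (homOfLE h₁).op s) =
      X.presheaf.map (homOfLE (h₂.trans h₁)).op s := by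
  rw [← ConcreteCategory.comp_apply, ← Functor.map_comp]; rfl

theorem app_res {Y X : Scheme.{u}} (ι : Y ⟶ X) {A B : X.Opens} (h : B ≤ A) (s : Γ(X, A)) :
    ι.app B (X.presheaf.map (homOfLE h).op s) =
      Y.presheaf.map (homOfLE (show ι ⁻¹ᵁ B ≤ ι ⁻¹ᵁ A from fun _ hy => h hy)).op (ι.app A s) := by
  have := ι.naturality (homOfLE h).op
  exact ConcreteCategory.congr_hom this s

/-- B4: from goodness along the component to a local inverse on `X`, up to a power. -/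
theorem exists_local_inverse {X : Scheme.{u}} (U : X.Opens) (f : Γ(X, U)) (η : X)
    (hgood : GoodOn U f η) (x : X) (hxη : x ∈ closure ({η} : Set X)) (hxU : x ∉ U)
    (O : X.Opens) (hxO : x ∈ O) (hOη : ∀ y ∈ O, y ∈ closure ({η} : Set X))
    (hOU : ∀ y ∈ O, y ∉ U → y = x) :
    ∃ (P : ℕ) (W : X.Opens) (g : Γ(X, W)), 1 ≤ P ∧ IsAffineOpen W ∧ x ∈ W ∧
      (∀ y ∈ W, y ∉ U → y = x) ∧ x ∉ X.basicOpen g ∧
      X.presheaf.map (homOfLE (inf_le_right : W ⊓ U ≤ U)).op f ^ P *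
        X.presheaf.map (homOfLE (inf_le_left : W ⊓ U ≤ W)).op g = 1 := by
  obtain ⟨hne, hgood⟩ := hgood
  obtain ⟨x', hx'⟩ := exists_ιZ_eq η x hxη
  obtain ⟨τ, hτm, hτ⟩ := hgood x' (by rw [hx']; exact hxU)
  -- spread out `τ`
  obtain ⟨W', hx'W', g', hg'⟩ := (XZ η).presheaf.exists_germ_eq τ
  have hneW' : Nonempty W' := ⟨⟨x', hx'W'⟩⟩
  have hgenU' : genericPoint (XZ η) ∈ (ιZ η) ⁻¹ᵁ U :=
    ((genericPoint_spec (XZ η)).mem_open_set_iff ((ιZ η) ⁻¹ᵁ U).isOpen).mpr (by simpa using hne)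
  have hgenW' : genericPoint (XZ η) ∈ W' :=
    ((genericPoint_spec (XZ η)).mem_open_set_iff W'.isOpen).mpr (by simpa using hneW')
  -- the equation on `W' ⊓ U'`
  have heq1 : (XZ η).presheaf.map (homOfLE (inf_le_left : W' ⊓ (ιZ η) ⁻¹ᵁ U ≤ W')).op g' *
      (XZ η).presheaf.map (homOfLE (inf_le_right : W' ⊓ (ιZ η) ⁻¹ᵁ U ≤ (ιZ η) ⁻¹ᵁ U)).op
        ((ιZ η).app U f) = 1 := by
    apply germ_injective_of_isIntegral (XZ η) (genericPoint (XZ η))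
      (show genericPoint (XZ η) ∈ W' ⊓ (ιZ η) ⁻¹ᵁ U from ⟨hgenW', hgenU'⟩)
    rw [map_mul, map_one, TopCat.Presheaf.germ_res_apply, TopCat.Presheaf.germ_res_apply]
    have h := hτ
    rw [← hg', Scheme.algebraMap_germ_eq_germToFunctionField] at h
    exact h
  -- `W' = ι⁻¹ O'`
  obtain ⟨O'set, hO'open, hO'eq⟩ := (ιZ η).isEmbedding.isInducing.isOpen_iff.mp W'.isOpen
  obtain ⟨O', hO'⟩ : ∃ O' : X.Opens, (O' : Set X) = O'set := ⟨⟨O'set, hO'open⟩, rfl⟩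
  have hO'mem : ∀ y : XZ η, ιZ η y ∈ O' ↔ y ∈ W' := by
    intro y
    have : y ∈ (ιZ η) ⁻¹' O'set ↔ y ∈ (W' : Set (XZ η)) := by rw [hO'eq]
    rw [← hO'] at this
    exact this
  have hxO' : x ∈ O' := by rw [← hx']; exact (hO'mem x').mpr hx'W'
  obtain ⟨_, ⟨W₁, hW₁, rfl⟩, hxW₁, hW₁O⟩ := X.isBasis_affineOpens.exists_subset_of_mem_open
    (show x ∈ ((O ⊓ O' : X.Opens) : Set X) from ⟨hxO, hxO'⟩) (O ⊓ O').isOpen
  have hW₁ : IsAffineOpen W₁ := hW₁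
  have hW₁W' : (ιZ η) ⁻¹ᵁ W₁ ≤ W' := fun y hy => (hO'mem y).mp (hW₁O hy).2
  -- lift `g'`
  obtain ⟨g₀, hg₀⟩ := (ιZ η).app_surjective W₁ hW₁
    ((XZ η).presheaf.map (homOfLE hW₁W').op g')
  -- the basic open of `g₀`
  have hbo : ∀ y ∈ W₁, (y ∈ X.basicOpen g₀ ↔ y ∈ U) := by
    intro y hyW₁
    obtain ⟨y', hy'⟩ := exists_ιZ_eq η y (hOη y (hW₁O hyW₁).1)
    have hy'W₁ : y' ∈ (ιZ η) ⁻¹ᵁ W₁ := by show ιZ η y' ∈ W₁; rw [hy']; exact hyW₁
    have h1 : y ∈ X.basicOpen g₀ ↔ y' ∈ (XZ η).basicOpen g' := by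
      rw [← hy']
      show y' ∈ (ιZ η) ⁻¹ᵁ X.basicOpen g₀ ↔ _
      rw [Scheme.preimage_basicOpen, hg₀, Scheme.basicOpen_res]
      exact ⟨fun h => h.2, fun h => ⟨hy'W₁, h⟩⟩
    constructor
    · intro hy
      by_contra hyU
      have hyx : y = x := hOU y (hW₁O hyW₁).1 hyU
      have hy'x' : y' = x' := (ιZ η).isEmbedding.injective (hy'.trans (hyx.trans hx'.symm))
      have h2 := h1.1 hy
      rw [hy'x'] at h2
      have h3 := ((XZ η).mem_basicOpen g' x' hx'W').1 h2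
      rw [hg'] at h3
      exact hτm h3
    · intro hyU
      rw [h1]
      have hy'W' : y' ∈ W' := hW₁W' hy'W₁
      have hy'U' : y' ∈ (ιZ η) ⁻¹ᵁ U := by show ιZ η y' ∈ U; rw [hy']; exact hyU
      have hu : IsUnit ((XZ η).presheaf.map
          (homOfLE (inf_le_left : W' ⊓ (ιZ η) ⁻¹ᵁ U ≤ W')).op g') :=
        IsUnit.of_mul_eq_one _ heq1
      have h4 : y' ∈ (XZ η).basicOpen ((XZ η).presheaf.map
          (homOfLE (inf_le_left : W' ⊓ (ιZ η) ⁻¹ᵁ U ≤ W')).op g') := by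
        rw [(XZ η).basicOpen_of_isUnit hu]; exact ⟨hy'W', hy'U'⟩
      rw [Scheme.basicOpen_res] at h4
      exact h4.2
  have hDW : X.basicOpen g₀ ≤ W₁ := X.basicOpen_le g₀
  have hDU : X.basicOpen g₀ ≤ U := fun y hy => (hbo y (hDW hy)).1 hy
  have heqD : X.basicOpen g₀ = W₁ ⊓ U := by
    ext y
    exact ⟨fun hy => ⟨hDW hy, hDU hy⟩, fun hy => (hbo y hy.1).2 hy.2⟩
  -- the nilpotent error term
  obtain ⟨u, hu⟩ : ∃ u : Γ(X, X.basicOpen g₀), u = X.presheaf.map (homOfLE hDU).op f := ⟨_, rfl⟩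
  obtain ⟨n, hn⟩ : ∃ n : Γ(X, X.basicOpen g₀),
      n = u * algebraMap Γ(X, W₁) Γ(X, X.basicOpen g₀) g₀ - 1 := ⟨_, rfl⟩
  have hD' : (ιZ η) ⁻¹ᵁ X.basicOpen g₀ ≤ W' ⊓ (ιZ η) ⁻¹ᵁ U :=
    fun y hy => ⟨hW₁W' (hDW hy), hDU hy⟩
  have hιn : (ιZ η).app (X.basicOpen g₀) n = 0 := by
    have e1 : (ιZ η).app (X.basicOpen g₀) u = (XZ η).presheaf.map (homOfLE hD').op
        ((XZ η).presheaf.map (homOfLE (inf_le_right :
          W' ⊓ (ιZ η) ⁻¹ᵁ U ≤ (ιZ η) ⁻¹ᵁ U)).op ((ιZ η).app U f)) := by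
      rw [hu, app_res, res_res]
    have e2 : (ιZ η).app (X.basicOpen g₀) (algebraMap Γ(X, W₁) Γ(X, X.basicOpen g₀) g₀) =
        (XZ η).presheaf.map (homOfLE hD').op
        ((XZ η).presheaf.map (homOfLE (inf_le_left : W' ⊓ (ιZ η) ⁻¹ᵁ U ≤ W')).op g') := by
      have : algebraMap Γ(X, W₁) Γ(X, X.basicOpen g₀) g₀ =
          X.presheaf.map (homOfLE hDW).op g₀ := rfl
      rw [this, app_res, hg₀, res_res, res_res]
    rw [hn, map_sub, map_mul, map_one, e1, e2, ← map_mul, mul_comm, heq1, map_one, sub_self]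
  have hnil : IsNilpotent n := by
    rw [Scheme.isNilpotent_iff_basicOpen_eq_bot_of_isCompact (hW₁.basicOpen g₀).isCompact]
    ext y
    simp only [Opens.coe_bot, Set.mem_empty_iff_false, iff_false]
    intro hy
    have hyD : y ∈ X.basicOpen g₀ := X.basicOpen_le n hy
    obtain ⟨y', hy'⟩ := exists_ιZ_eq η y (hOη y (hW₁O (hDW hyD)).1)
    have h1 : y' ∈ (ιZ η) ⁻¹ᵁ X.basicOpen n := by show ιZ η y' ∈ X.basicOpen n; rw [hy']; exact hy
    rw [Scheme.preimage_basicOpen, hιn, Scheme.basicOpen_zero] at h1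
    exact h1
  -- the nilpotent lifting lemma
  have hloc := hW₁.isLocalization_basicOpen g₀
  obtain ⟨P, g'', hP, hg''I, hg''⟩ := exists_pow_inv_mem_of_nilpotent (Ideal.span {g₀})
    Γ(X, X.basicOpen g₀) g₀ Ideal.le_radical u g₀ (Ideal.subset_span rfl) n hnil
    (by rw [hn]; ring)
  refine ⟨P, W₁, g'', hP, hW₁, hxW₁, fun y hy hyU => hOU y (hW₁O hy).1 hyU, ?_, ?_⟩
  · obtain ⟨a, rfl⟩ := Ideal.mem_span_singleton'.mp hg''I
    intro hx
    rw [Scheme.basicOpen_mul] at hx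
    exact hxU (hDU hx.2)
  · have h5 := congrArg (X.presheaf.map (homOfLE heqD.ge).op) hg''
    have e3 : algebraMap Γ(X, W₁) Γ(X, X.basicOpen g₀) g'' =
        X.presheaf.map (homOfLE hDW).op g'' := rfl
    rw [map_mul, map_pow, map_one, e3, hu, res_res, res_res, mul_comm] at h5
    exact h5

end Groth.Agent.R2.H29.DimOneGen
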