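import Mathlib
import Groth.Agent.R2.H29DimOneGenC

set_option autoImplicit false
universe u
open CategoryTheory CategoryTheory.Limits AlgebraicGeometry TopologicalSpace Opposite

namespace Groth.Agent.R2.H29.DimOneGen

open Groth.Agent.R2.H29.DimOne Scheme.IdealSheafData

/-- (A): on a Noetherian separated scheme of dimension `≤ 1`, for an affine open `U` containing
all generic points of irreducible components and all points lying on two components, there is
`f ∈ Γ(X, U)` having, near every point `x ∉ U`, an inverse `g` vanishing at `x`. -/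
theorem exists_pole_function (X : Scheme.{u}) [IsNoetherian X] [X.IsSeparated]
    (hdim : topologicalKrullDim X ≤ 1) (U : X.Opens) (hU : IsAffineOpen U)
    (hG : ∀ η : X, closure ({η} : Set X) ∈ irreducibleComponents X → η ∈ U)
    (hB : ∀ x : X, x ∉ U → ∀ η η' : X, closure ({η} : Set X) ∈ irreducibleComponents X →
      closure ({η'} : Set X) ∈ irreducibleComponents X → x ∈ closure ({η} : Set X) →
      x ∈ closure ({η'} : Set X) → η = η') :
    ∃ f : Γ(X, U), ∀ x : X, x ∉ U → ∃ (W : X.Opens) (g : Γ(X, W)), IsAffineOpen W ∧ x ∈ W ∧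
      (∀ y ∈ W, y ∉ U → y = x) ∧ x ∉ X.basicOpen g ∧
      X.presheaf.map (homOfLE (inf_le_right : W ⊓ U ≤ U)).op f *
        X.presheaf.map (homOfLE (inf_le_left : W ⊓ U ≤ W)).op g = 1 := by
  classical
  -- the generic points
  have hGfin : {η : X | closure ({η} : Set X) ∈ irreducibleComponents X}.Finite := by
    refine Set.Finite.of_finite_image (f := fun η : X => closure ({η} : Set X))
      ((NoetherianSpace.finite_irreducibleComponents (α := X)).subset ?_) ?_
    · rintro _ ⟨η, hη, rfl⟩; exact hη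
    · intro η _ η' _ h
      have h1 : IsGenericPoint η (closure ({η'} : Set X)) := h
      have h2 : IsGenericPoint η' (closure ({η'} : Set X)) := rfl
      exact h1.eq h2
  obtain ⟨G, hGmem⟩ : ∃ G : Finset X, ∀ η, η ∈ G ↔ closure ({η} : Set X) ∈ irreducibleComponents X :=
    ⟨hGfin.toFinset, fun η => hGfin.mem_toFinset⟩
  have hGU : ∀ η ∈ G, η ∈ U := fun η hη => hG η ((hGmem η).mp hη)
  have hinc : ∀ η ∈ G, ∀ η' ∈ G, η ∈ closure ({η'} : Set X) → η = η' := by
    intro η hη η' hη' h
    have hsub : closure ({η} : Set X) ⊆ closure ({η'} : Set X) :=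
      isClosed_closure.closure_subset_iff.mpr (Set.singleton_subset_iff.mpr h)
    have hsub' : closure ({η'} : Set X) ⊆ closure ({η} : Set X) :=
      ((hGmem η).mp hη).2 isIrreducible_singleton.closure hsub
    have h1 : IsGenericPoint η (closure ({η'} : Set X)) := hsub.antisymm hsub'
    have h2 : IsGenericPoint η' (closure ({η'} : Set X)) := rfl
    exact h1.eq h2
  have hcover : ∀ y : X, ∃ η ∈ G, y ∈ closure ({η} : Set X) := by
    intro y
    have hZ : irreducibleComponent y ∈ irreducibleComponents X := irreducibleComponent_mem_irreducibleComponents y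
    have hZcl : IsClosed (irreducibleComponent y) := isClosed_of_mem_irreducibleComponents _ hZ
    refine ⟨hZ.1.genericPoint, (hGmem _).mpr ?_, ?_⟩
    · rw [(hZ.1.isGenericPoint_genericPoint hZcl).def]; exact hZ
    · rw [(hZ.1.isGenericPoint_genericPoint hZcl).def]; exact mem_irreducibleComponent
  -- finiteness of the complement and closedness of its points
  have hFcl : IsClosed ((U : Set X)ᶜ) := U.isOpen.isClosed_compl
  have hFgen : ∀ η : X, closure ({η} : Set X) ∈ irreducibleComponents X → η ∉ ((U : Set X)ᶜ) :=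
    fun η hη h => h (hG η hη)
  have hfin : ((U : Set X)ᶜ).Finite :=
    finite_of_isClosed_of_forall_generic_notMem hdim _ hFcl hFgen
  have hpt : ∀ y : X, y ∉ U → IsClosed ({y} : Set X) := fun y hy =>
    isClosed_singleton_of_forall_generic_notMem hdim _ hFcl hFgen y hy
  -- the function
  obtain ⟨f₁, hf₁⟩ := exists_goodOn X hdim U hU hfin G hGU hinc
  -- the local inverses
  have key : ∀ x : X, x ∉ U → ∃ (P : ℕ) (W : X.Opens) (g : Γ(X, W)), 1 ≤ P ∧ IsAffineOpen W ∧
      x ∈ W ∧ (∀ y ∈ W, y ∉ U → y = x) ∧ x ∉ X.basicOpen g ∧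
      X.presheaf.map (homOfLE (inf_le_right : W ⊓ U ≤ U)).op f₁ ^ P *
        X.presheaf.map (homOfLE (inf_le_left : W ⊓ U ≤ W)).op g = 1 := by
    intro x hxU
    obtain ⟨η, hη, hxη⟩ := hcover x
    -- the neighbourhood
    have hC1 : IsClosed (⋃ η' ∈ (G.erase η : Set X), closure ({η'} : Set X)) :=
      Set.Finite.isClosed_biUnion (G.erase η).finite_toSet (fun _ _ => isClosed_closure)
    have hC2 : IsClosed (⋃ y ∈ ((U : Set X)ᶜ \ {x}), ({y} : Set X)) :=
      Set.Finite.isClosed_biUnion (hfin.subset Set.sdiff_subset) (fun y hy => hpt y hy.1)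
    obtain ⟨O, hO⟩ : ∃ O : X.Opens, (O : Set X) =
        ((⋃ η' ∈ (G.erase η : Set X), closure ({η'} : Set X)) ∪
          (⋃ y ∈ ((U : Set X)ᶜ \ {x}), ({y} : Set X)))ᶜ :=
      ⟨⟨_, (hC1.union hC2).isOpen_compl⟩, rfl⟩
    have hOmem : ∀ y : X, y ∈ O ↔ (∀ η' ∈ G, η' ≠ η → y ∉ closure ({η'} : Set X)) ∧
        (y ∉ U → y = x) := by
      intro y
      rw [← SetLike.mem_coe, hO]
      simp only [Set.mem_compl_iff, Set.mem_union, Set.mem_iUnion, Set.mem_sdiff,
        Set.mem_singleton_iff, Finset.coe_erase, SetLike.mem_coe, not_or, not_exists]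
      constructor
      · rintro ⟨h1, h2⟩
        refine ⟨fun η' hη' hne => h1 η' ⟨hη', hne⟩, fun hyU => ?_⟩
        by_contra hne
        exact h2 y ⟨hyU, hne⟩ rfl
      · rintro ⟨h1, h2⟩
        refine ⟨fun η' hη' => h1 η' hη'.1 hη'.2, fun z hz hyz => ?_⟩
        subst hyz
        exact hz.2 (h2 hz.1)
    have hxO : x ∈ O := by
      rw [hOmem]
      refine ⟨fun η' hη' hne hxη' => hne ?_, fun _ => rfl⟩
      exact hB x hxU η' η ((hGmem η').mp hη') ((hGmem η).mp hη) hxη' hxη
    have hOη : ∀ y ∈ O, y ∈ closure ({η} : Set X) := by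
      intro y hy
      obtain ⟨η'', hη'', hyη''⟩ := hcover y
      by_cases h : η'' = η
      · rw [← h]; exact hyη''
      · exact absurd hyη'' (((hOmem y).mp hy).1 η'' hη'' h)
    have hOU : ∀ y ∈ O, y ∉ U → y = x := fun y hy => ((hOmem y).mp hy).2
    exact exists_local_inverse U f₁ η (hf₁ η hη) x hxη hxU O hxO hOη hOU
  choose P W g hP hW hxW honly hxg heq using key
  -- a common exponent
  let Ptot : X → ℕ := fun x => if h : x ∉ U then P x h else 1
  have hPtot : ∀ x (hx : x ∉ U), Ptot x = P x hx := fun x hx => dif_pos hx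
  have hPtot1 : ∀ x, 1 ≤ Ptot x := by
    intro x
    by_cases h : x ∉ U
    · rw [hPtot x h]; exact hP x h
    · simp only [Ptot, dif_neg h, le_refl]
  obtain ⟨N, hN⟩ : ∃ N : ℕ, N = ∏ x ∈ hfin.toFinset, Ptot x := ⟨_, rfl⟩
  have hN1 : 1 ≤ N := by
    rw [hN]
    exact Nat.one_le_iff_ne_zero.mpr (Finset.prod_ne_zero_iff.mpr fun x _ =>
      Nat.one_le_iff_ne_zero.mp (hPtot1 x))
  refine ⟨f₁ ^ N, fun x hxU => ?_⟩
  obtain ⟨m, hm⟩ : Ptot x ∣ N := by
    rw [hN]; exact Finset.dvd_prod_of_mem _ (hfin.mem_toFinset.mpr hxU)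
  have hm0 : 0 < m := by
    rcases Nat.eq_zero_or_pos m with h | h
    · rw [h, mul_zero] at hm; omega
    · exact h
  refine ⟨W x hxU, g x hxU ^ m, hW x hxU, hxW x hxU, honly x hxU, ?_, ?_⟩
  · rw [X.basicOpen_pow _ hm0]; exact hxg x hxU
  · rw [map_pow, map_pow, hm, hPtot x hxU, pow_mul, ← mul_pow, heq x hxU, one_pow]

end Groth.Agent.R2.H29.DimOneGen
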