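import Mathlib
import Groth.Prelude.Def_MeroSh
import Groth.Prelude.Def_Pic
import Groth.Prelude.Def_CohB1
import Groth.Agent.Lib.Helper2QCoh
import Groth.Agent.Lib.Helper20Triv
import Groth.Agent.Lib.Helper23GenLocus

/-!
# Extending a module across a discrete closed set by local frames (helper8)

`X` a scheme, `U ⊆ X` open, `M : X.Modules` (only `M|_U` matters).  For every point `z ∉ U` we are given an
open neighbourhood `W z` with `W z ∖ U = {z}` and a section `τ z` of `M` over `W z ∩ U` (to be thought of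
as a frame of `M` on the punctured neighbourhood).  We CONSTRUCT the `O_X`-module `glue D` obtained by
gluing `M|_U` with `O_{W z}` along `τ z`, in the prelude's `Mero.modOf` model: a section over `V` is a
family `u_y ∈ M_y × O_{X,y}` which locally is either `(germ n, 0)` (`n` a section of `M`, on an open inside
`U`) or, near `z ∉ U`, `(germ b • germ τ_z, 0)` at the points of `U` and `(0, germ b)` at `z`, for one
function `b`.

* `Data M U`, `glue D : X.Modules`.
* `secU D hV : Γ(M, V) → Γ(glue D, V)` for `V ≤ U`, bijective (`secU_bijective`).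
* `frame D z : Γ(glue D, W z)`; `frame_bijective` when `τ z` generates.
* `isInvertible_glue`, `nonempty_restrict_iso`.
-/

set_option autoImplicit false
set_option linter.style.haveILetI false
universe u

open CategoryTheory AlgebraicGeometry TopologicalSpace Opposite

namespace Groth.Agent.R2.H8.GlueMod

open Groth.Agent.Lib.Helper2.QCoh

variable {X : Scheme.{u}}

/-- the gluing data. -/
structure Data (M : X.Modules) (U : X.Opens) where
  /-- the neighbourhood of a point outside `U` -/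
  W : ∀ z : X, z ∉ U → X.Opens
  mem : ∀ (z : X) (hz : z ∉ U), z ∈ W z hz
  only : ∀ (z : X) (hz : z ∉ U) (y : X), y ∈ W z hz → y ∉ U → y = z
  /-- the frame on the punctured neighbourhood -/
  τ : ∀ (z : X) (hz : z ∉ U), Γ(M, W z hz ⊓ U)

/-- the stalk type of the model. -/
abbrev T (M : X.Modules) (y : X) : Type u := (M.presheaf.stalk y) × (X.presheaf.stalk y)

theorem mem_inf' {V W : X.Opens} {y : X} (h1 : y ∈ V) (h2 : y ∈ W) : y ∈ V ⊓ W := ⟨h1, h2⟩

variable {M : X.Modules} {U : X.Opens} (D : Data M U)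

/-- first form: the family of germs of a section of `M` over an open inside `U`. -/
def IsU (U : X.Opens) (V : X.Opens) (u : ∀ y : V, T M y.1) : Prop :=
  V ≤ U ∧ ∃ n : Γ(M, V), ∀ y : V, u y = (M.presheaf.germ V y.1 y.2 n, 0)

/-- second form: a multiple of the frame at `z`. -/
def IsZ (z : X) (hz : z ∉ U) (V : X.Opens) (u : ∀ y : V, T M y.1) : Prop :=
  ∃ (hV : V ≤ D.W z hz) (b : Γ(X, V)), ∀ y : V,
    (∀ hy : y.1 ∈ U, u y = (X.presheaf.germ V y.1 y.2 b •
      M.presheaf.germ (D.W z hz ⊓ U) y.1 (mem_inf' (hV y.2) hy) (D.τ z hz), 0)) ∧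
    (y.1 ∉ U → u y = (0, X.presheaf.germ V y.1 y.2 b))

theorem IsU.res {V V' : X.Opens} (i : V' ⟶ V) {u : ∀ y : V, T M y.1} (h : IsU U V u) :
    IsU U V' (fun y => u ⟨y.1, i.le y.2⟩) := by
  obtain ⟨hV, n, hn⟩ := h
  refine ⟨i.le.trans hV, M.presheaf.map i.op n, fun y => ?_⟩
  rw [TopCat.Presheaf.germ_res_apply]
  exact hn ⟨y.1, i.le y.2⟩

theorem IsZ.res {z : X} {hz : z ∉ U} {V V' : X.Opens} (i : V' ⟶ V) {u : ∀ y : V, T M y.1}
    (h : IsZ D z hz V u) : IsZ D z hz V' (fun y => u ⟨y.1, i.le y.2⟩) := by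
  obtain ⟨hV, b, hb⟩ := h
  refine ⟨i.le.trans hV, X.presheaf.map i.op b, fun y => ⟨fun hy => ?_, fun hy => ?_⟩⟩
  · rw [TopCat.Presheaf.germ_res_apply]
    exact (hb ⟨y.1, i.le y.2⟩).1 hy
  · rw [TopCat.Presheaf.germ_res_apply]
    exact (hb ⟨y.1, i.le y.2⟩).2 hy

/-- the prelocal predicate. -/
def pre : TopCat.PrelocalPredicate (fun y : X => T M y) where
  pred {V} u := IsU U V u ∨ ∃ (z : X) (hz : z ∉ U), IsZ D z hz V u
  res {V' V} i u := by
    rintro (h | ⟨z, hz, h⟩)
    · exact Or.inl (h.res i)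
    · exact Or.inr ⟨z, hz, h.res D i⟩

/-- the local predicate cutting out the glued module. -/
def loc : TopCat.LocalPredicate (fun y : X => T M y) := (pre D).sheafify

/-- near a point of `U` a section is of the first form. -/
theorem exists_isU {V : X.Opens} {u : ∀ y : V, T M y.1} (hu : (loc D).pred u) (x : V)
    (hx : x.1 ∈ U) :
    ∃ (V' : X.Opens) (_ : x.1 ∈ V') (i : V' ⟶ V), IsU U V' (fun y => u ⟨y.1, i.le y.2⟩) := by
  obtain ⟨V₁, hx₁, i, h | ⟨z, hz, hV, b, hb⟩⟩ := hu x
  · exact ⟨V₁, hx₁, i, h⟩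
  · have hle : V₁ ⊓ U ≤ D.W z hz ⊓ U := le_inf (inf_le_left.trans hV) inf_le_right
    refine ⟨V₁ ⊓ U, ⟨hx₁, hx⟩, homOfLE inf_le_left ≫ i, inf_le_right,
      X.presheaf.map (homOfLE (inf_le_left : V₁ ⊓ U ≤ V₁)).op b •
        M.presheaf.map (homOfLE hle).op (D.τ z hz),
      fun y => ?_⟩
    rw [germ_smul, TopCat.Presheaf.germ_res_apply, TopCat.Presheaf.germ_res_apply]
    exact (hb ⟨y.1, y.2.1⟩).1 y.2.2

/-- near a point outside `U` a section is of the second form. -/
theorem exists_isZ {V : X.Opens} {u : ∀ y : V, T M y.1} (hu : (loc D).pred u) (x : V)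
    (hx : x.1 ∉ U) :
    ∃ (V' : X.Opens) (_ : x.1 ∈ V') (i : V' ⟶ V),
      IsZ D x.1 hx V' (fun y => u ⟨y.1, i.le y.2⟩) := by
  obtain ⟨V₁, hx₁, i, h | ⟨z, hz, h⟩⟩ := hu x
  · exact absurd (h.1 hx₁) hx
  · obtain ⟨hV, b, hb⟩ := h
    obtain rfl : x.1 = z := D.only z hz x.1 (hV hx₁) hx
    exact ⟨V₁, hx₁, i, hV, b, hb⟩

theorem IsU.add {V : X.Opens} {u u' : ∀ y : V, T M y.1} (h : IsU U V u) (h' : IsU U V u') :
    IsU U V (u + u') := by
  obtain ⟨hV, n, hn⟩ := h
  obtain ⟨-, n', hn'⟩ := h'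
  refine ⟨hV, n + n', fun y => ?_⟩
  rw [Pi.add_apply, hn y, hn' y, map_add]
  exact Prod.ext rfl (add_zero _)

theorem IsU.smul {V : X.Opens} {u : ∀ y : V, T M y.1} (h : IsU U V u) (r : Γ(X, V)) :
    IsU U V (fun y => X.presheaf.germ V y.1 y.2 r • u y) := by
  obtain ⟨hV, n, hn⟩ := h
  refine ⟨hV, r • n, fun y => ?_⟩
  dsimp only
  rw [hn y, germ_smul]
  exact Prod.ext rfl (smul_zero _)

theorem IsZ.add {z : X} {hz : z ∉ U} {V : X.Opens} {u u' : ∀ y : V, T M y.1}
    (h : IsZ D z hz V u) (h' : IsZ D z hz V u') : IsZ D z hz V (u + u') := by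
  obtain ⟨hV, b, hb⟩ := h
  obtain ⟨hV', b', hb'⟩ := h'
  refine ⟨hV, b + b', fun y => ⟨fun hy => ?_, fun hy => ?_⟩⟩
  · rw [Pi.add_apply, (hb y).1 hy, (hb' y).1 hy, map_add, add_smul]
    exact Prod.ext rfl (add_zero _)
  · rw [Pi.add_apply, (hb y).2 hy, (hb' y).2 hy, map_add]
    exact Prod.ext (add_zero _) rfl

theorem IsZ.smul {z : X} {hz : z ∉ U} {V : X.Opens} {u : ∀ y : V, T M y.1}
    (h : IsZ D z hz V u) (r : Γ(X, V)) :
    IsZ D z hz V (fun y => X.presheaf.germ V y.1 y.2 r • u y) := by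
  obtain ⟨hV, b, hb⟩ := h
  refine ⟨hV, r * b, fun y => ⟨fun hy => ?_, fun hy => ?_⟩⟩
  · dsimp only
    rw [(hb y).1 hy, map_mul, mul_smul]
    exact Prod.ext rfl (smul_zero _)
  · dsimp only
    rw [(hb y).2 hy, map_mul]
    exact Prod.ext (smul_zero _) rfl

theorem loc_zero (V : X.Opens) : (loc D).pred (0 : ∀ y : V, T M y.1) := fun x => by
  by_cases hx : x.1 ∈ U
  · refine ⟨V ⊓ U, ⟨x.2, hx⟩, homOfLE inf_le_left, Or.inl ⟨inf_le_right, 0, fun y => ?_⟩⟩
    rw [map_zero]
    rfl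
  · refine ⟨V ⊓ D.W x.1 hx, ⟨x.2, D.mem _ hx⟩, homOfLE inf_le_left,
      Or.inr ⟨x.1, hx, inf_le_right, 0, fun y => ⟨fun hy => ?_, fun hy => ?_⟩⟩⟩
    · rw [map_zero, zero_smul]
      rfl
    · rw [map_zero]
      rfl

theorem loc_add (V : X.Opens) (u u' : ∀ y : V, T M y.1) (hu : (loc D).pred u)
    (hu' : (loc D).pred u') : (loc D).pred (u + u') := fun x => by
  by_cases hx : x.1 ∈ U
  · obtain ⟨V₁, hx₁, i₁, h₁⟩ := exists_isU D hu x hx
    obtain ⟨V₂, hx₂, i₂, h₂⟩ := exists_isU D hu' x hx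
    refine ⟨V₁ ⊓ V₂, ⟨hx₁, hx₂⟩, homOfLE inf_le_left ≫ i₁, Or.inl ?_⟩
    exact (h₁.res (homOfLE inf_le_left)).add (h₂.res (homOfLE inf_le_right))
  · obtain ⟨V₁, hx₁, i₁, h₁⟩ := exists_isZ D hu x hx
    obtain ⟨V₂, hx₂, i₂, h₂⟩ := exists_isZ D hu' x hx
    refine ⟨V₁ ⊓ V₂, ⟨hx₁, hx₂⟩, homOfLE inf_le_left ≫ i₁, Or.inr ⟨x.1, hx, ?_⟩⟩
    exact (h₁.res D (homOfLE inf_le_left)).add D (h₂.res D (homOfLE inf_le_right))

theorem loc_smul (V : X.Opens) (r : Γ(X, V)) (u : ∀ y : V, T M y.1) (hu : (loc D).pred u) :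
    (loc D).pred fun y => X.presheaf.germ V y.1 y.2 r • u y := fun x => by
  by_cases hx : x.1 ∈ U
  · obtain ⟨V₁, hx₁, i₁, h₁⟩ := exists_isU D hu x hx
    refine ⟨V₁, hx₁, i₁, Or.inl ?_⟩
    have := h₁.smul (X.presheaf.map i₁.op r)
    have e : (fun y : V₁ => X.presheaf.germ V₁ y.1 y.2 (X.presheaf.map i₁.op r) •
        u ⟨y.1, i₁.le y.2⟩) = fun y : V₁ => X.presheaf.germ V y.1 (i₁.le y.2) r •
        u ⟨y.1, i₁.le y.2⟩ := funext fun y => by rw [TopCat.Presheaf.germ_res_apply]
    rw [e] at this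
    exact this
  · obtain ⟨V₁, hx₁, i₁, h₁⟩ := exists_isZ D hu x hx
    refine ⟨V₁, hx₁, i₁, Or.inr ⟨x.1, hx, ?_⟩⟩
    have := h₁.smul D (X.presheaf.map i₁.op r)
    have e : (fun y : V₁ => X.presheaf.germ V₁ y.1 y.2 (X.presheaf.map i₁.op r) •
        u ⟨y.1, i₁.le y.2⟩) = fun y : V₁ => X.presheaf.germ V y.1 (i₁.le y.2) r •
        u ⟨y.1, i₁.le y.2⟩ := funext fun y => by rw [TopCat.Presheaf.germ_res_apply]
    rw [e] at this
    exact this

instance : Mero.IsModPred (loc D) := ⟨loc_zero D, loc_add D, loc_smul D⟩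

/-- the glued module. -/
noncomputable def glue : X.Modules := Mero.modOf (loc D)

/-! ### Sections over opens inside `U` -/

/-- a section of `M` over an open inside `U`, as a section of the glued module. -/
noncomputable def secU {V : X.Opens} (hV : V ≤ U) (n : Γ(M, V)) : Γ(glue D, V) :=
  ⟨fun y => (M.presheaf.germ V y.1 y.2 n, 0), fun x => ⟨V, x.2, 𝟙 V, Or.inl ⟨hV, n, fun _ => rfl⟩⟩⟩

theorem secU_apply {V : X.Opens} (hV : V ≤ U) (n : Γ(M, V)) (y : V) :
    (secU D hV n).1 y = (M.presheaf.germ V y.1 y.2 n, 0) := rfl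

theorem secU_add {V : X.Opens} (hV : V ≤ U) (n n' : Γ(M, V)) :
    secU D hV (n + n') = secU D hV n + secU D hV n' := by
  refine Subtype.ext (funext fun y => ?_)
  change (M.presheaf.germ V y.1 y.2 (n + n'), (0 : X.presheaf.stalk y.1)) =
    (M.presheaf.germ V y.1 y.2 n, 0) + (M.presheaf.germ V y.1 y.2 n', 0)
  rw [map_add]
  exact Prod.ext rfl (add_zero _).symm

theorem secU_smul {V : X.Opens} (hV : V ≤ U) (r : Γ(X, V)) (n : Γ(M, V)) :
    secU D hV (r • n) = r • secU D hV n := by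
  refine Subtype.ext (funext fun y => ?_)
  change (M.presheaf.germ V y.1 y.2 (r • n), (0 : X.presheaf.stalk y.1)) =
    X.presheaf.germ V y.1 y.2 r • (M.presheaf.germ V y.1 y.2 n, (0 : X.presheaf.stalk y.1))
  rw [germ_smul]
  exact Prod.ext rfl (smul_zero _).symm

theorem secU_res {V V' : X.Opens} (hV : V ≤ U) (h : V' ≤ V) (n : Γ(M, V)) :
    (glue D).presheaf.map (homOfLE h).op (secU D hV n) =
      secU D (h.trans hV) (M.presheaf.map (homOfLE h).op n) := by
  refine Subtype.ext (funext fun y => ?_)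
  change (M.presheaf.germ V y.1 (h y.2) n, (0 : X.presheaf.stalk y.1)) =
    (M.presheaf.germ V' y.1 y.2 (M.presheaf.map (homOfLE h).op n), 0)
  rw [TopCat.Presheaf.germ_res_apply]

theorem secU_injective {V : X.Opens} (hV : V ≤ U) : Function.Injective (secU D hV) := by
  intro n n' h
  apply TopCat.Presheaf.section_ext (⟨M.presheaf, M.isSheaf⟩ : TopCat.Sheaf Ab X) V
  intro y hy
  have := congrArg (fun t : Γ(glue D, V) => (t.1 ⟨y, hy⟩).1) h
  exact this

theorem secU_surjective {V : X.Opens} (hV : V ≤ U) : Function.Surjective (secU D hV) := by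
  intro u0
  let u : Γ(glue D, V) := u0
  let F : TopCat.Sheaf Ab X := ⟨M.presheaf, M.isSheaf⟩
  have hloc : ∀ x : V, ∃ (V' : X.Opens) (_ : x.1 ∈ V') (hle : V' ≤ V) (n : Γ(M, V')),
      ∀ y : V', u.1 ⟨y.1, hle y.2⟩ = (M.presheaf.germ V' y.1 y.2 n, 0) := by
    intro x
    obtain ⟨V', hx', i, -, n, hn⟩ := exists_isU D u.2 x (hV x.2)
    exact ⟨V', hx', i.le, n, hn⟩
  choose V' hxV' hle n hn using hloc
  have hcov : V ≤ ⨆ x : V, V' x := fun y hy => Opens.mem_iSup.2 ⟨⟨y, hy⟩, hxV' ⟨y, hy⟩⟩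
  have hcompat : TopCat.Presheaf.IsCompatible M.presheaf V' n := by
    intro x x'
    apply TopCat.Presheaf.section_ext F
    intro z hz
    change M.presheaf.germ _ z hz (M.presheaf.map (homOfLE inf_le_left).op (n x)) =
      M.presheaf.germ _ z hz (M.presheaf.map (homOfLE inf_le_right).op (n x'))
    rw [TopCat.Presheaf.germ_res_apply, TopCat.Presheaf.germ_res_apply]
    have h1 := hn x ⟨z, hz.1⟩
    have h2 := hn x' ⟨z, hz.2⟩
    exact (congrArg Prod.fst h1).symm.trans (congrArg Prod.fst h2)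
  obtain ⟨n0, hn0, -⟩ := F.existsUnique_gluing' V' V (fun x => homOfLE (hle x)) hcov n hcompat
  let n1 : Γ(M, V) := n0
  have hn1 : ∀ x : V, M.presheaf.map (homOfLE (hle x)).op n1 = n x := hn0
  refine ⟨n1, Subtype.ext (funext fun y => ?_)⟩
  change (M.presheaf.germ V y.1 y.2 n1, (0 : X.presheaf.stalk y.1)) = u.1 y
  rw [← TopCat.Presheaf.germ_res_apply M.presheaf (homOfLE (hle y)) y.1 (hxV' y) n1, hn1 y]
  exact (hn y ⟨y.1, hxV' y⟩).symm

theorem secU_bijective {V : X.Opens} (hV : V ≤ U) : Function.Bijective (secU D hV) :=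
  ⟨secU_injective D hV, secU_surjective D hV⟩

/-! ### The frame at a point outside `U` -/

open Classical in
/-- the value of the frame at a point. -/
noncomputable def fr (z : X) (hz : z ∉ U) (y : X) : T M y :=
  if hy : y ∈ D.W z hz ⊓ U then (M.presheaf.germ (D.W z hz ⊓ U) y hy (D.τ z hz), 0) else (0, 1)

/-- the frame of the glued module near a point outside `U`. -/
noncomputable def frame (z : X) (hz : z ∉ U) : Γ(glue D, D.W z hz) :=
  ⟨fun y => fr D z hz y.1, fun x => ⟨D.W z hz, x.2, 𝟙 _, Or.inr ⟨z, hz, le_rfl, 1, fun y =>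
    ⟨fun hy => by
      change fr D z hz y.1 = _
      rw [fr, dif_pos (mem_inf' y.2 hy), map_one, one_smul],
    fun hy => by
      change fr D z hz y.1 = _
      rw [fr, dif_neg (fun h => hy h.2), map_one]⟩⟩⟩⟩

theorem frame_apply (z : X) (hz : z ∉ U) (y : D.W z hz) : (frame D z hz).1 y = fr D z hz y.1 := rfl

theorem smul_frame_apply (z : X) (hz : z ∉ U) {V : X.Opens} (h : V ≤ D.W z hz) (b : Γ(X, V))
    (y : V) :
    (b • (glue D).presheaf.map (homOfLE h).op (frame D z hz) : Γ(glue D, V)).1 y =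
      X.presheaf.germ V y.1 y.2 b • fr D z hz y.1 := rfl

/-- the generating hypothesis on the frame `τ z`. -/
def GenAt (z : X) (hz : z ∉ U) : Prop :=
  ∀ (V : X.Opens) (h : V ≤ D.W z hz ⊓ U),
    Function.Bijective (fun b : Γ(X, V) => b • M.presheaf.map (homOfLE h).op (D.τ z hz))

variable {D} in
/-- pointwise injectivity of multiplication of the frame. -/
theorem eq_of_smul_fr_eq {z : X} {hz : z ∉ U} (hτ : GenAt D z hz) {V : X.Opens}
    (h : V ≤ D.W z hz) (b b' : Γ(X, V))
    (hbb' : ∀ y : V, X.presheaf.germ V y.1 y.2 b • fr D z hz y.1 =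
      X.presheaf.germ V y.1 y.2 b' • fr D z hz y.1) : b = b' := by
  let F : TopCat.Sheaf Ab X := ⟨M.presheaf, M.isSheaf⟩
  have hle : V ⊓ U ≤ D.W z hz ⊓ U := le_inf (inf_le_left.trans h) inf_le_right
  have hres : X.presheaf.map (homOfLE (inf_le_left : V ⊓ U ≤ V)).op b =
      X.presheaf.map (homOfLE (inf_le_left : V ⊓ U ≤ V)).op b' := by
    apply (hτ (V ⊓ U) hle).1
    change X.presheaf.map (homOfLE (inf_le_left : V ⊓ U ≤ V)).op b •
        M.presheaf.map (homOfLE hle).op (D.τ z hz) =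
      X.presheaf.map (homOfLE (inf_le_left : V ⊓ U ≤ V)).op b' •
        M.presheaf.map (homOfLE hle).op (D.τ z hz)
    apply TopCat.Presheaf.section_ext F
    intro y hy
    rw [germ_smul, germ_smul, TopCat.Presheaf.germ_res_apply, TopCat.Presheaf.germ_res_apply,
      TopCat.Presheaf.germ_res_apply]
    have h1 := hbb' ⟨y, hy.1⟩
    rw [fr, dif_pos (hle hy)] at h1
    exact congrArg Prod.fst h1
  apply TopCat.Presheaf.section_ext X.sheaf
  intro y hy
  by_cases hyU : y ∈ U
  · have hyVU : y ∈ V ⊓ U := mem_inf' hy hyU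
    have e1 : X.presheaf.germ V y hy b = X.presheaf.germ (V ⊓ U) y hyVU
        (X.presheaf.map (homOfLE (inf_le_left : V ⊓ U ≤ V)).op b) :=
      (TopCat.Presheaf.germ_res_apply X.presheaf _ y hyVU b).symm
    have e2 : X.presheaf.germ V y hy b' = X.presheaf.germ (V ⊓ U) y hyVU
        (X.presheaf.map (homOfLE (inf_le_left : V ⊓ U ≤ V)).op b') :=
      (TopCat.Presheaf.germ_res_apply X.presheaf _ y hyVU b').symm
    exact e1.trans ((congrArg _ hres).trans e2.symm)
  · have h1 := hbb' ⟨y, hy⟩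
    rw [fr, dif_neg (fun h => hyU h.2)] at h1
    have h2 := congrArg Prod.snd h1
    change X.presheaf.germ V y hy b * 1 = X.presheaf.germ V y hy b' * 1 at h2
    rwa [mul_one, mul_one] at h2

variable {D} in
/-- multiplying the frame is bijective onto the sections of the glued module. -/
theorem frame_bijective {z : X} {hz : z ∉ U} (hτ : GenAt D z hz) (V : X.Opens)
    (h : V ≤ D.W z hz) :
    Function.Bijective (fun b : Γ(X, V) =>
      (b • (glue D).presheaf.map (homOfLE h).op (frame D z hz) : Γ(glue D, V))) := by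
  constructor
  · intro b b' hbb'
    refine eq_of_smul_fr_eq hτ h b b' fun y => ?_
    have := congrArg (fun t : Γ(glue D, V) => t.1 y) hbb'
    exact this
  · intro u0
    let u : Γ(glue D, V) := u0
    have hloc : ∀ x : V, ∃ (V' : X.Opens) (_ : x.1 ∈ V') (hle : V' ≤ V) (b : Γ(X, V')),
        ∀ y : V', u.1 ⟨y.1, hle y.2⟩ = X.presheaf.germ V' y.1 y.2 b • fr D z hz y.1 := by
      intro x
      by_cases hx : x.1 ∈ U
      · obtain ⟨V', hx', i, hV'U, n, hn0⟩ := exists_isU D u.2 x hx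
        have hn : ∀ y : V', u.1 ⟨y.1, i.le y.2⟩ = (M.presheaf.germ V' y.1 y.2 n, 0) := hn0
        have hle : V' ≤ D.W z hz ⊓ U := le_inf (i.le.trans h) hV'U
        obtain ⟨b, hb⟩ := (hτ V' hle).2 n
        have hb' : b • M.presheaf.map (homOfLE hle).op (D.τ z hz) = n := hb
        refine ⟨V', hx', i.le, b, fun y => ?_⟩
        rw [hn y, fr, dif_pos (hle y.2), ← hb', germ_smul, TopCat.Presheaf.germ_res_apply]
        exact Prod.ext rfl (smul_zero _).symm
      · obtain ⟨V', hx', i, hV', b, hb0⟩ := exists_isZ D u.2 x hx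
        obtain ⟨x, hxV⟩ := x
        obtain rfl : x = z := D.only z hz x (h hxV) hx
        have hb : ∀ y : V', (∀ hy : y.1 ∈ U, u.1 ⟨y.1, i.le y.2⟩ =
            (X.presheaf.germ V' y.1 y.2 b •
              M.presheaf.germ (D.W x hz ⊓ U) y.1 (mem_inf' (hV' y.2) hy) (D.τ x hz), 0)) ∧
            (y.1 ∉ U → u.1 ⟨y.1, i.le y.2⟩ = (0, X.presheaf.germ V' y.1 y.2 b)) := hb0
        refine ⟨V', hx', i.le, b, fun y => ?_⟩
        by_cases hy : y.1 ∈ U
        · rw [(hb y).1 hy, fr, dif_pos (mem_inf' (hV' y.2) hy)]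
          exact Prod.ext rfl (smul_zero _).symm
        · rw [(hb y).2 hy, fr, dif_neg (fun h => hy h.2)]
          exact Prod.ext (smul_zero _).symm (mul_one _).symm
    choose V' hxV' hle b hb using hloc
    have hcov : V ≤ ⨆ x : V, V' x := fun y hy => Opens.mem_iSup.2 ⟨⟨y, hy⟩, hxV' ⟨y, hy⟩⟩
    have hcompat : TopCat.Presheaf.IsCompatible X.presheaf V' b := by
      intro x x'
      refine eq_of_smul_fr_eq hτ ((inf_le_left.trans (hle x)).trans h) _ _ fun y => ?_
      rw [TopCat.Presheaf.germ_res_apply, TopCat.Presheaf.germ_res_apply]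
      exact (hb x ⟨y.1, y.2.1⟩).symm.trans (hb x' ⟨y.1, y.2.2⟩)
    obtain ⟨b0, hb0, -⟩ := X.sheaf.existsUnique_gluing' V' V (fun x => homOfLE (hle x)) hcov b hcompat
    let b1 : Γ(X, V) := b0
    have hb1 : ∀ x : V, X.presheaf.map (homOfLE (hle x)).op b1 = b x := hb0
    refine ⟨b1, Subtype.ext (funext fun y => ?_)⟩
    change X.presheaf.germ V y.1 y.2 b1 • fr D z hz y.1 = u.1 y
    rw [← TopCat.Presheaf.germ_res_apply X.presheaf (homOfLE (hle y)) y.1 (hxV' y) b1, hb1 y]
    exact (hb y ⟨y.1, hxV' y⟩).symm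

/-! ### Invertibility -/

/-- the generating hypothesis on `M` over `U`: `M|_U` is locally generated by one section. -/
def GenU (M : X.Modules) (U : X.Opens) : Prop :=
  ∀ y ∈ U, ∃ (V : X.Opens) (_ : V ≤ U) (t : Γ(M, V)), y ∈ V ∧
    ∀ (V' : X.Opens) (h : V' ≤ V),
      Function.Bijective (fun b : Γ(X, V') => b • M.presheaf.map (homOfLE h).op t)

/-- the glued module is invertible. -/
theorem isInvertible_glue (hM : GenU M U) (hτ : ∀ (z : X) (hz : z ∉ U), GenAt D z hz) :
    PicF.IsInvertible (glue D) := by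
  intro x
  by_cases hx : x ∈ U
  · obtain ⟨V, hV, t, hxV, hbij⟩ := hM x hx
    refine ⟨V, hxV, Groth.Agent.Lib.Helper20.Triv.nonempty_iso_of_bijective (glue D) V
      (secU D hV t) fun V' h => ?_⟩
    have e : (fun r : Γ(X, V') => r • (glue D).presheaf.map (homOfLE h).op (secU D hV t)) =
        (secU D (h.trans hV)) ∘ (fun b : Γ(X, V') => b • M.presheaf.map (homOfLE h).op t) := by
      funext r
      rw [Function.comp_apply, secU_smul, secU_res]
    rw [e]
    exact (secU_bijective D _).comp (hbij V' h)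
  · exact ⟨D.W x hx, D.mem x hx,
      Groth.Agent.Lib.Helper20.Triv.nonempty_iso_of_bijective (glue D) _ (frame D x hx)
        (frame_bijective (hτ x hx))⟩

/-! ### The restriction to `U` -/

/-- a family of compatible linear bijections on the sections over the opens inside `U` gives an
isomorphism of the restrictions to `U`. -/
theorem nonempty_restrict_iso_of_bijective (A B : X.Modules) (U : X.Opens)
    (d : ∀ (V : X.Opens), V ≤ U → Γ(A, V) → Γ(B, V))
    (hadd : ∀ (V : X.Opens) (hV : V ≤ U) (a a' : Γ(A, V)),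
      d V hV (a + a') = d V hV a + d V hV a')
    (hsmul : ∀ (V : X.Opens) (hV : V ≤ U) (r : Γ(X, V)) (a : Γ(A, V)),
      d V hV (r • a) = r • d V hV a)
    (hres : ∀ (V V' : X.Opens) (hV : V ≤ U) (h : V' ≤ V) (a : Γ(A, V)),
      B.presheaf.map (homOfLE h).op (d V hV a) =
        d V' (h.trans hV) (A.presheaf.map (homOfLE h).op a))
    (hbij : ∀ (V : X.Opens) (hV : V ≤ U), Function.Bijective (d V hV)) :
    Nonempty (A.restrict U.ι ≅ B.restrict U.ι) := by
  have hle : ∀ V : (↑U : Scheme.{u}).Opens, U.ι ''ᵁ V ≤ U := fun V =>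
    Scheme.Opens.ι_image_le U V
  let φ : A.restrict U.ι ⟶ B.restrict U.ι :=
    ⟨PresheafOfModules.homMk (M₁ := (A.restrict U.ι).val) (M₂ := (B.restrict U.ι).val)
      { app := fun V => AddCommGrpCat.ofHom
          (AddMonoidHom.mk' (d (U.ι ''ᵁ V.unop) (hle V.unop)) (hadd _ _))
        naturality := by
          intro V V' i
          ext a
          exact (hres (U.ι ''ᵁ V.unop) (U.ι ''ᵁ V'.unop) (hle V.unop)
            (U.ι.opensFunctor.map i.unop).le a).symm }
      (fun V r a => hsmul (U.ι ''ᵁ V.unop) (hle V.unop) ((U.ι.appIso V.unop).inv r) a)⟩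
  have hφ : IsIso φ := by
    rw [Scheme.Modules.Hom.isIso_iff_isIso_app]
    intro V
    rw [ConcreteCategory.isIso_iff_bijective]
    exact hbij (U.ι ''ᵁ V) (hle V)
  exact ⟨asIso φ⟩

/-- the glued module restricts to `M` on `U`. -/
theorem nonempty_restrict_iso : Nonempty ((glue D).restrict U.ι ≅ M.restrict U.ι) := by
  obtain ⟨e⟩ := nonempty_restrict_iso_of_bijective M (glue D) U (fun V hV => secU D hV)
    (fun V hV => secU_add D hV) (fun V hV => secU_smul D hV)
    (fun V V' hV h => secU_res D hV h) (fun V hV => secU_bijective D hV)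
  exact ⟨e.symm⟩

/-! ### A global section and its generating locus -/

/-- compatible data for a global section of the glued module. -/
structure SecData where
  /-- the section of `M` over `U` -/
  σ : Γ(M, U)
  /-- its coefficient with respect to the frame at a point outside `U` -/
  β : ∀ (z : X) (hz : z ∉ U), Γ(X, D.W z hz)
  compat : ∀ (z : X) (hz : z ∉ U),
    M.presheaf.map (homOfLE (inf_le_right : D.W z hz ⊓ U ≤ U)).op σ =
      X.presheaf.map (homOfLE (inf_le_left : D.W z hz ⊓ U ≤ D.W z hz)).op (β z hz) • D.τ z hz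

variable {D} (S : SecData D)

open Classical in
/-- the value of the global section at a point. -/
noncomputable def glVal (y : X) : T M y :=
  if hy : y ∈ U then (M.presheaf.germ U y hy S.σ, 0)
  else (0, X.presheaf.germ (D.W y hy) y (D.mem y hy) (S.β y hy))

theorem glVal_pred (V : X.Opens) : (loc D).pred (fun y : V => glVal S y.1) := fun x => by
  by_cases hx : x.1 ∈ U
  · refine ⟨V ⊓ U, mem_inf' x.2 hx, homOfLE inf_le_left, Or.inl ⟨inf_le_right,
      M.presheaf.map (homOfLE (inf_le_right : V ⊓ U ≤ U)).op S.σ, fun y => ?_⟩⟩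
    change glVal S y.1 = _
    rw [glVal, dif_pos (show y.1 ∈ U from y.2.2), TopCat.Presheaf.germ_res_apply]
  · obtain ⟨x, hxV⟩ := x
    refine ⟨V ⊓ D.W x hx, mem_inf' hxV (D.mem x hx), homOfLE inf_le_left, Or.inr ⟨x, hx,
      inf_le_right, X.presheaf.map (homOfLE (inf_le_right : V ⊓ D.W x hx ≤ D.W x hx)).op (S.β x hx),
      fun y => ⟨fun hy => ?_, fun hy => ?_⟩⟩⟩
    · change glVal S y.1 = _
      rw [glVal, dif_pos hy, TopCat.Presheaf.germ_res_apply]
      have := congrArg (M.presheaf.germ (D.W x hx ⊓ U) y.1 (mem_inf' y.2.2 hy)) (S.compat x hx)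
      rw [germ_smul, TopCat.Presheaf.germ_res_apply, TopCat.Presheaf.germ_res_apply] at this
      rw [this]
    · have hyx : y.1 = x := D.only x hx y.1 y.2.2 hy
      obtain ⟨y, hyV⟩ := y
      have hyx' : y = x := hyx
      clear hyx
      subst hyx'
      change glVal S y = _
      rw [glVal, dif_neg hy, TopCat.Presheaf.germ_res_apply]

/-- the section over any open. -/
noncomputable def globV (V : X.Opens) : Γ(glue D, V) := ⟨fun y => glVal S y.1, glVal_pred S V⟩

/-- the section as a morphism from the structure sheaf. -/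
noncomputable def globHom : Coh.structureModule X ⟶ glue D :=
  (glue D).unitHomEquiv.symm
    (PresheafOfModules.sectionsMk (fun V => globV S V.unop) (fun _ _ _ => rfl))

theorem globHom_app (V : X.Opens) (r : Γ(X, V)) : (globHom S).app V r = r • globV S V := rfl

theorem globV_eq_secU {V : X.Opens} (hV : V ≤ U) :
    globV S V = secU D hV (M.presheaf.map (homOfLE hV).op S.σ) := by
  refine Subtype.ext (funext fun y => ?_)
  change glVal S y.1 = (M.presheaf.germ V y.1 y.2 (M.presheaf.map (homOfLE hV).op S.σ), 0)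
  rw [glVal, dif_pos (hV y.2), TopCat.Presheaf.germ_res_apply]

open Groth.Agent.Lib.Helper23.Extend Groth.Agent.Lib.Helper23.GenLocus in
/-- the generating locus of the section is `U` when `σ` generates `M` over `U` and the coefficients
`β z` are not units at `z`. -/
theorem genLocus_globHom
    (hσ : ∀ (V : X.Opens) (h : V ≤ U),
      Function.Bijective (fun b : Γ(X, V) => b • M.presheaf.map (homOfLE h).op S.σ))
    (hβ : ∀ (z : X) (hz : z ∉ U),
      ¬ IsUnit (X.presheaf.germ (D.W z hz) z (D.mem z hz) (S.β z hz))) :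
    CohB1.genLocus (glue D) (globHom S) = U := by
  ext x
  rw [SetLike.mem_coe, SetLike.mem_coe, mem_genLocus_iff]
  constructor
  · rintro ⟨V, hxV, hiso⟩
    by_contra hx
    have h1 : IsIso ((globHom S).app (V ⊓ D.W x hx)) := hiso _ inf_le_left
    rw [ConcreteCategory.isIso_iff_bijective] at h1
    obtain ⟨r0, hr⟩ := h1.2 ((glue D).presheaf.map
      (homOfLE (inf_le_right : V ⊓ D.W x hx ≤ D.W x hx)).op (frame D x hx))
    let r : Γ(X, V ⊓ D.W x hx) := r0
    have hr' : r • globV S (V ⊓ D.W x hx) = (glue D).presheaf.map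
      (homOfLE (inf_le_right : V ⊓ D.W x hx ≤ D.W x hx)).op (frame D x hx) := hr
    have hxm : x ∈ V ⊓ D.W x hx := mem_inf' hxV (D.mem x hx)
    have h2 := congrArg (fun t : Γ(glue D, V ⊓ D.W x hx) => (t.1 ⟨x, hxm⟩).2) hr'
    change X.presheaf.germ _ x hxm r * (glVal S x).2 = (fr D x hx x).2 at h2
    rw [glVal, dif_neg hx, fr, dif_neg (fun h => hx h.2)] at h2
    exact hβ x hx (IsUnit.of_mul_eq_one _ (by rw [mul_comm]; exact h2))
  · intro hx
    refine ⟨U, hx, fun V hV => ?_⟩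
    rw [ConcreteCategory.isIso_iff_bijective]
    have e : ∀ r : Γ(X, V), (globHom S).app V r =
        secU D hV (r • M.presheaf.map (homOfLE hV).op S.σ) := fun r => by
      rw [secU_smul, ← globV_eq_secU]
      rfl
    constructor
    · intro r0 r0' h
      let r : Γ(X, V) := r0
      let r' : Γ(X, V) := r0'
      change r = r'
      apply (hσ V hV).1
      apply secU_injective D hV
      exact (e r).symm.trans (h.trans (e r'))
    · intro t
      obtain ⟨n, hn⟩ := secU_surjective D hV t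
      obtain ⟨b, hb⟩ := (hσ V hV).2 n
      have hb' : b • M.presheaf.map (homOfLE hV).op S.σ = n := hb
      exact ⟨b, (e b).trans (by rw [hb']; exact hn)⟩

end Groth.Agent.R2.H8.GlueMod
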