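import Mathlib

/-!
# Commutative algebra for extending invertible modules across a point of dimension `≤ 1` (helper8)

* `finite_primeSpectrum_of_dim_le_one` : a Noetherian local ring of dimension `≤ 1` has finitely many primes.
* `exists_nbhd_of_generizations` : an open of `Spec A` containing all generizations of `p` inside `D(f)`
  contains `D(s) ∩ D(f)` for some `s ∉ p`.
* `exists_equation` : if `{p} = V(I)` with `I` finitely generated and `A_p` is Noetherian of dimension
  `≤ 1`, then `{p} = V(a)` on a neighbourhood `D(g)` of `p`.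
-/

set_option autoImplicit false
universe u

namespace Groth.Agent.R2.H8.GlueRing

open PrimeSpectrum

/-- a Noetherian local ring of dimension at most one has finitely many prime ideals. -/
theorem finite_primeSpectrum_of_dim_le_one (B : Type u) [CommRing B] [IsLocalRing B]
    [IsNoetherianRing B] (h : ringKrullDim B ≤ 1) : Finite (PrimeSpectrum B) := by
  have hK : Ring.KrullDimLE 1 B := Ring.krullDimLE_iff.2 h
  have hfin : (minimalPrimes B ∪ {IsLocalRing.maximalIdeal B}).Finite :=
    (minimalPrimes.finite_of_isNoetherianRing B).union (Set.finite_singleton _)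
  have := hfin.to_subtype
  let φ : PrimeSpectrum B → ↥(minimalPrimes B ∪ {IsLocalRing.maximalIdeal B}) := fun P =>
    ⟨P.asIdeal, by
      rcases Ring.krullDimLE_one_iff.1 hK P.asIdeal P.isPrime with h1 | h1
      · exact Or.inl h1
      · exact Or.inr (IsLocalRing.eq_maximalIdeal h1)⟩
  refine Finite.of_injective φ fun P P' hPP' => ?_
  exact PrimeSpectrum.ext (congrArg Subtype.val hPP')

/-- an open subset of `Spec A` containing every generization of `p` on which `f` does not vanish
contains `D(s) ∩ D(f)` for some `s ∉ p`. -/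
theorem exists_nbhd_of_generizations {A : Type u} [CommRing A] (p : Ideal A) [p.IsPrime] (f : A)
    (G : Set (PrimeSpectrum A)) (hG : IsOpen G)
    (h : ∀ q : PrimeSpectrum A, q.asIdeal ≤ p → f ∉ q.asIdeal → q ∈ G) :
    ∃ s : A, s ∉ p ∧ ∀ q : PrimeSpectrum A, s ∉ q.asIdeal → f ∉ q.asIdeal → q ∈ G := by
  have hcl : zeroLocus (vanishingIdeal Gᶜ : Set A) = Gᶜ := by
    rw [zeroLocus_vanishingIdeal_eq_closure, hG.isClosed_compl.closure_eq]
  let S : Submonoid A := p.primeCompl ⊔ Submonoid.powers f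
  have hnd : ¬ Disjoint ((vanishingIdeal Gᶜ : Ideal A) : Set A) (S : Set A) := by
    intro hd
    obtain ⟨q, hq, hle, hdis⟩ := Ideal.exists_le_prime_disjoint (vanishingIdeal Gᶜ) S hd
    have hqp : q ≤ p := by
      intro a ha
      by_contra hap
      exact Set.disjoint_left.1 hdis ha
        ((le_sup_left : p.primeCompl ≤ S) (show a ∈ p.primeCompl from hap))
    have hfq : f ∉ q := fun hf =>
      Set.disjoint_left.1 hdis hf
        ((le_sup_right : Submonoid.powers f ≤ S) (Submonoid.mem_powers f))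
    have h1 : (⟨q, hq⟩ : PrimeSpectrum A) ∈ G := h ⟨q, hq⟩ hqp hfq
    have h2 : (⟨q, hq⟩ : PrimeSpectrum A) ∈ Gᶜ := by
      rw [← hcl, mem_zeroLocus]
      exact hle
    exact h2 h1
  rw [Set.not_disjoint_iff] at hnd
  obtain ⟨x, hxJ, hxS⟩ := hnd
  obtain ⟨s, hs, t, ht, rfl⟩ := Submonoid.mem_sup.1 hxS
  obtain ⟨n, rfl⟩ := ht
  refine ⟨s, hs, fun q hsq hfq => ?_⟩
  by_contra hqG
  have h2 : q ∈ zeroLocus (vanishingIdeal Gᶜ : Set A) := by rw [hcl]; exact hqG
  rw [mem_zeroLocus] at h2
  rcases q.isPrime.mem_or_mem (h2 hxJ) with h3 | h3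
  · exact hsq h3
  · exact hfq (q.isPrime.mem_of_pow_mem n h3)

/-- if `{p} = V(I)` with `I` finitely generated and `A_p` is Noetherian of dimension `≤ 1`, then `p` is
cut out by one equation `a` on a neighbourhood `D(g)` of `p`. -/
theorem exists_equation {A : Type u} [CommRing A] (p : Ideal A) [p.IsPrime] (B : Type u)
    [CommRing B] [Algebra A B] [IsLocalization.AtPrime B p] [IsNoetherianRing B]
    (hdim : ringKrullDim B ≤ 1) (I : Ideal A) (hI : I.FG)
    (hIp : ∀ q : PrimeSpectrum A, I ≤ q.asIdeal ↔ q.asIdeal = p) :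
    ∃ a g : A, a ∈ p ∧ g ∉ p ∧
      ∀ q : PrimeSpectrum A, g ∉ q.asIdeal → (a ∈ q.asIdeal ↔ q.asIdeal = p) := by
  classical
  have : IsLocalRing B := IsLocalization.AtPrime.isLocalRing B p
  have hK : Ring.KrullDimLE 1 B := Ring.krullDimLE_iff.2 hdim
  -- an element of the maximal ideal outside the other minimal primes
  let Q : Finset (Ideal B) :=
    (minimalPrimes.finite_of_isNoetherianRing B).toFinset.filter (· ≠ IsLocalRing.maximalIdeal B)
  have hQ : ∀ q ∈ Q, q ∈ minimalPrimes B ∧ q ≠ IsLocalRing.maximalIdeal B := by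
    intro q hq
    rw [Finset.mem_filter, Set.Finite.mem_toFinset] at hq
    exact hq
  have hnot : ¬ (((IsLocalRing.maximalIdeal B : Ideal B) : Set B) ⊆
      ⋃ q ∈ (Q : Set (Ideal B)), ((id q : Ideal B) : Set B)) := by
    intro hsub
    obtain ⟨i, hi, hle⟩ := (Ideal.subset_union_prime (s := Q) (f := id)
      (IsLocalRing.maximalIdeal B) (IsLocalRing.maximalIdeal B)
      (fun i hi _ _ => (hQ i hi).1.1.1)).1 hsub
    have hip : (i : Ideal B).IsPrime := (hQ i hi).1.1.1
    exact (hQ i hi).2 ((IsLocalRing.maximalIdeal.isMaximal B).eq_of_le hip.ne_top hle).symm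
  obtain ⟨φ, hφm, hφQ⟩ := Set.not_subset.1 hnot
  have hφ : ∀ P : Ideal B, P.IsPrime → φ ∈ P → P = IsLocalRing.maximalIdeal B := by
    intro P hP hφP
    rcases Ring.krullDimLE_one_iff.1 hK P hP with h1 | h1
    · by_contra hne
      apply hφQ
      have hPQ : P ∈ Q := by
        rw [Finset.mem_filter, Set.Finite.mem_toFinset]
        exact ⟨h1, hne⟩
      exact Set.mem_biUnion (show P ∈ (Q : Set (Ideal B)) from hPQ) hφP
    · exact IsLocalRing.eq_maximalIdeal h1
  -- write `φ = a / s`
  obtain ⟨⟨a, s⟩, hs⟩ := IsLocalization.surj p.primeCompl φ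
  have hs' : φ * algebraMap A B s = algebraMap A B a := hs
  have hsu : IsUnit (algebraMap A B (s : A)) := IsLocalization.map_units B s
  have ha : ∀ P : Ideal B, P.IsPrime → algebraMap A B a ∈ P → P = IsLocalRing.maximalIdeal B := by
    intro P hP haP
    apply hφ P hP
    rw [← hs'] at haP
    rcases hP.mem_or_mem haP with h1 | h1
    · exact h1
    · exact absurd (P.eq_top_of_isUnit_mem h1 hsu) hP.ne_top
  have hap : a ∈ p := by
    rw [← IsLocalization.AtPrime.to_map_mem_maximal_iff B p a, ← hs']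
    exact Ideal.mul_mem_right _ _ hφm
  have hrad : IsLocalRing.maximalIdeal B ≤ (Ideal.span {algebraMap A B a}).radical := by
    rw [Ideal.radical_eq_sInf]
    refine le_sInf fun P hP => ?_
    rw [ha P hP.2 (hP.1 (Ideal.subset_span rfl))]
  -- every element of `p` has a power in `(a)` up to an element outside `p`
  have hpow : ∀ x : A, ∃ t : A, t ∉ p ∧ (x ∈ p → ∃ N : ℕ, t * x ^ N ∈ Ideal.span {a}) := by
    intro x
    by_cases hx : x ∈ p
    · have hxm : algebraMap A B x ∈ IsLocalRing.maximalIdeal B :=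
        (IsLocalization.AtPrime.to_map_mem_maximal_iff B p x).2 hx
      obtain ⟨N, hN⟩ := hrad hxm
      obtain ⟨c, hc⟩ := Ideal.mem_span_singleton'.1 hN
      obtain ⟨c', t, rfl⟩ := IsLocalization.exists_mk'_eq p.primeCompl c
      have h1 : algebraMap A B (x ^ N * t) = algebraMap A B (c' * a) := by
        rw [map_mul, map_mul, map_pow, ← hc, ← IsLocalization.mk'_spec B c' t]
        ring
      obtain ⟨t', ht'⟩ := (IsLocalization.eq_iff_exists p.primeCompl B).1 h1
      refine ⟨t' * t, (t' * t).2, fun _ => ⟨N, ?_⟩⟩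
      have : (t' : A) * t * x ^ N = (t' : A) * c' * a := by
        calc (t' : A) * t * x ^ N = t' * (x ^ N * t) := by ring
          _ = t' * (c' * a) := ht'
          _ = _ := by ring
      rw [this]
      exact Ideal.mul_mem_left _ _ (Ideal.subset_span rfl)
    · exact ⟨1, fun h => (Ideal.IsPrime.ne_top ‹_›) ((Ideal.eq_top_iff_one p).2 h),
        fun h => absurd h hx⟩
  choose t ht htx using hpow
  obtain ⟨T, hT⟩ := hI
  have hIle : I ≤ p := (hIp ⟨p, ‹_›⟩).2 rfl
  have hTp : ∀ x ∈ T, x ∈ p := fun x hx => hIle (hT ▸ Ideal.subset_span hx)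
  refine ⟨a, ∏ x ∈ T, t x, hap, ?_, fun q hgq => ⟨fun haq => ?_, fun hq => hq ▸ hap⟩⟩
  · intro hmem
    obtain ⟨x, -, hx⟩ := (Ideal.IsPrime.prod_mem_iff (hp := ‹p.IsPrime›)).1 hmem
    exact ht x hx
  · rw [← hIp q, ← hT, Ideal.span_le]
    intro x hx
    obtain ⟨N, hN⟩ := htx x (hTp x hx)
    have h1 : t x * x ^ N ∈ q.asIdeal :=
      (Ideal.span_le.2 (Set.singleton_subset_iff.2 haq)) hN
    rcases q.isPrime.mem_or_mem h1 with h2 | h2
    · exact absurd ((Ideal.IsPrime.prod_mem_iff (hp := q.isPrime)).2 ⟨x, hx, h2⟩) hgq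
    · exact q.isPrime.mem_of_pow_mem N h2

end Groth.Agent.R2.H8.GlueRing
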