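import Mathlib
import Groth.Agent.R2.H8GlueRing
import Groth.Agent.R2.H8GlueMod
import Groth.Agent.Lib.Helper10FinTriv

/-!
# Geometry for extending invertible modules across a discrete set of points of dimension `≤ 1` (helper8)

* `exists_nbhd_equation` : (Stacks, Varieties) `U ⊆ X` retrocompact open with discrete complement, `z ∉ U`
  with `O_{X,z}` Noetherian of dimension `≤ 1`: there are an affine open neighbourhood `W` of `z` with
  `W ∖ U = {z}` and `f ∈ Γ(X, W)` with `D(f) = W ∩ U`.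
-/

set_option autoImplicit false
set_option linter.style.haveILetI false
universe u

open CategoryTheory AlgebraicGeometry TopologicalSpace Opposite

namespace Groth.Agent.R2.H8.GlueGeom

open Groth.Agent.R2.H8.GlueRing Groth.Agent.R2.H8.GlueMod

variable {X : Scheme.{u}}

/-- membership in a basic open of an affine open, on the spectrum. -/
theorem fromSpec_mem_basicOpen_iff {W : X.Opens} (hW : IsAffineOpen W) (a : Γ(X, W))
    (q : PrimeSpectrum Γ(X, W)) : hW.fromSpec q ∈ X.basicOpen a ↔ a ∉ q.asIdeal := by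
  change q ∈ hW.fromSpec ⁻¹ᵁ X.basicOpen a ↔ _
  rw [hW.fromSpec_preimage_basicOpen]
  rfl

theorem fromSpec_mem {W : X.Opens} (hW : IsAffineOpen W) (q : PrimeSpectrum Γ(X, W)) :
    hW.fromSpec q ∈ W := by
  have : hW.fromSpec q ∈ Set.range hW.fromSpec := Set.mem_range_self q
  rw [hW.range_fromSpec] at this
  exact this

/-- a point outside `U` has an affine open neighbourhood on which `U` is a basic open. -/
theorem exists_nbhd_equation (U : X.Opens) [QuasiCompact U.ι]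
    (hdisc : DiscreteTopology ↥((U : Set X)ᶜ)) (z : X) (hz : z ∉ U)
    [IsNoetherianRing (X.presheaf.stalk z)] (hdim : ringKrullDim (X.presheaf.stalk z) ≤ 1) :
    ∃ (W : X.Opens) (f : Γ(X, W)), IsAffineOpen W ∧ z ∈ W ∧ (∀ y ∈ W, y ∉ U → y = z) ∧
      X.basicOpen f = W ⊓ U := by
  -- an open neighbourhood meeting the complement of `U` only in `z`
  have hopen : IsOpen ({⟨z, hz⟩} : Set ↥((U : Set X)ᶜ)) := isOpen_discrete _
  obtain ⟨O, hO, hOz⟩ := isOpen_induced_iff.1 hopen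
  have hzO : z ∈ O := by
    have : (⟨z, hz⟩ : ↥((U : Set X)ᶜ)) ∈ Subtype.val ⁻¹' O := by rw [hOz]; rfl
    exact this
  have honly : ∀ y ∈ O, y ∉ U → y = z := by
    intro y hyO hyU
    have : (⟨y, hyU⟩ : ↥((U : Set X)ᶜ)) ∈ Subtype.val ⁻¹' O := hyO
    rw [hOz] at this
    exact congrArg Subtype.val this
  -- an affine open neighbourhood inside
  obtain ⟨_, ⟨W₁, hW₁, rfl⟩, hzW₁, hW₁O⟩ :=
    X.isBasis_affineOpens.exists_subset_of_mem_open hzO hO
  have hW₁ : IsAffineOpen W₁ := hW₁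
  -- the trace of `U` on the spectrum
  let s : Set (PrimeSpectrum Γ(X, W₁)) := hW₁.fromSpec ⁻¹' (U : Set X)
  have hsopen : IsOpen s := U.isOpen.preimage hW₁.fromSpec.continuous
  have hc1 : IsCompact (U.ι ⁻¹' (W₁ : Set X)) :=
    QuasiCompact.isCompact_preimage (f := U.ι) _ W₁.isOpen hW₁.isCompact
  have hc2 : IsCompact ((W₁ : Set X) ∩ U) := by
    have := hc1.image U.ι.continuous
    rwa [Set.image_preimage_eq_inter_range, Scheme.Opens.range_ι] at this
  have hc3 : IsCompact s := by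
    have hs : s = hW₁.fromSpec ⁻¹' ((W₁ : Set X) ∩ U) := by
      ext q
      exact ⟨fun h => ⟨fromSpec_mem hW₁ q, h⟩, fun h => h.2⟩
    rw [hs]
    refine (hW₁.fromSpec.isOpenEmbedding.isInducing.isCompact_preimage_iff ?_).2 hc2
    rw [hW₁.range_fromSpec]
    exact Set.inter_subset_left
  obtain ⟨I, hI, hIs⟩ := PrimeSpectrum.isCompact_isOpen_iff_ideal.1 ⟨hc3, hsopen⟩
  -- the prime of `z`
  let p : PrimeSpectrum Γ(X, W₁) := hW₁.primeIdealOf ⟨z, hzW₁⟩
  have hpz : hW₁.fromSpec p = z := hW₁.fromSpec_primeIdealOf ⟨z, hzW₁⟩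
  have hinj : Function.Injective hW₁.fromSpec := hW₁.fromSpec.isOpenEmbedding.injective
  have hqU : ∀ q : PrimeSpectrum Γ(X, W₁), hW₁.fromSpec q ∈ U ↔ q.asIdeal ≠ p.asIdeal := by
    intro q
    constructor
    · intro hq heq
      have : q = p := PrimeSpectrum.ext heq
      rw [this, hpz] at hq
      exact hz hq
    · intro hne
      by_contra hq
      have h1 : hW₁.fromSpec q = z := honly _ (hW₁O (fromSpec_mem hW₁ q)) hq
      exact hne (congrArg PrimeSpectrum.asIdeal (hinj (h1.trans hpz.symm)))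
  have hIp : ∀ q : PrimeSpectrum Γ(X, W₁), I ≤ q.asIdeal ↔ q.asIdeal = p.asIdeal := by
    intro q
    have h1 : q ∈ (PrimeSpectrum.zeroLocus (I : Set Γ(X, W₁)))ᶜ ↔ hW₁.fromSpec q ∈ U := by
      rw [hIs]; rfl
    rw [hqU, Set.mem_compl_iff, PrimeSpectrum.mem_zeroLocus] at h1
    exact not_iff_not.1 h1
  -- the equation
  letI := TopCat.Presheaf.algebra_section_stalk X.presheaf ⟨z, hzW₁⟩
  haveI : IsLocalization.AtPrime (X.presheaf.stalk z) p.asIdeal := hW₁.isLocalization_stalk ⟨z, hzW₁⟩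
  obtain ⟨a, g, hap, hgp, hag⟩ := exists_equation p.asIdeal (X.presheaf.stalk z) hdim I hI hIp
  have hle : X.basicOpen g ≤ W₁ := X.basicOpen_le g
  refine ⟨X.basicOpen g, X.presheaf.map (homOfLE hle).op a, hW₁.basicOpen g, ?_,
    fun y hy hyU => honly y (hW₁O (hle hy)) hyU, ?_⟩
  · rw [← hpz, fromSpec_mem_basicOpen_iff]
    exact hgp
  · rw [Scheme.basicOpen_res]
    ext y
    simp only [Opens.coe_inf, Set.mem_inter_iff, SetLike.mem_coe, and_congr_right_iff]
    intro hyg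
    have hyW : y ∈ W₁ := hle hyg
    have hy : hW₁.fromSpec (hW₁.primeIdealOf ⟨y, hyW⟩) = y := hW₁.fromSpec_primeIdealOf ⟨y, hyW⟩
    rw [← hy] at hyg ⊢
    rw [fromSpec_mem_basicOpen_iff] at hyg
    rw [fromSpec_mem_basicOpen_iff, hqU, not_iff_not]
    exact hag _ hyg

theorem structureModule_map {V V' : X.Opens} (h : V' ≤ V) (r : Γ(X, V)) :
    (Coh.structureModule X).presheaf.map (homOfLE h).op r = X.presheaf.map (homOfLE h).op r := rfl

theorem structureModule_smul {V : X.Opens} (b r : Γ(X, V)) :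
    (b • (r : Γ(Coh.structureModule X, V)) : Γ(Coh.structureModule X, V)) = b * r := rfl

/-- multiplication by a unit section is bijective on the structure sheaf. -/
theorem bijective_smul_of_isUnit {V : X.Opens} (t : Γ(X, V)) (ht : IsUnit t) :
    Function.Bijective (fun b : Γ(X, V) =>
      (b • (t : Γ(Coh.structureModule X, V)) : Γ(Coh.structureModule X, V))) := by
  obtain ⟨w, rfl⟩ := ht
  constructor
  · intro b b' h
    have h' : b * (w : Γ(X, V)) = b' * (w : Γ(X, V)) := h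
    exact (Units.mul_left_inj w).1 h'
  · intro c0
    let c : Γ(X, V) := c0
    refine ⟨c * ((w⁻¹ : (Γ(X, V))ˣ) : Γ(X, V)), ?_⟩
    change c * ((w⁻¹ : (Γ(X, V))ˣ) : Γ(X, V)) * (w : Γ(X, V)) = c
    rw [mul_assoc, Units.inv_mul, mul_one]

/-- part (1): the invertible module with a section whose non-vanishing locus is `U`. -/
theorem exists_invertible_genLocus_eq (U : X.Opens) [QuasiCompact U.ι]
    (hdisc : DiscreteTopology ↥((U : Set X)ᶜ))
    (hloc : ∀ x : X, x ∉ U →
      IsNoetherianRing (X.presheaf.stalk x) ∧ ringKrullDim (X.presheaf.stalk x) ≤ 1) :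
    ∃ (L : X.Modules) (s : Coh.structureModule X ⟶ L),
      PicF.IsInvertible L ∧ CohB1.genLocus L s = U := by
  have key : ∀ (z : X) (hz : z ∉ U), ∃ (W : X.Opens) (f : Γ(X, W)), z ∈ W ∧
      (∀ y ∈ W, y ∉ U → y = z) ∧ X.basicOpen f = W ⊓ U := by
    intro z hz
    haveI := (hloc z hz).1
    obtain ⟨W, f, -, h1, h2, h3⟩ := exists_nbhd_equation U hdisc z hz (hloc z hz).2
    exact ⟨W, f, h1, h2, h3⟩
  choose W f hzW honly hbo using key
  have hunit : ∀ (z : X) (hz : z ∉ U),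
      IsUnit (X.presheaf.map (homOfLE (inf_le_left : W z hz ⊓ U ≤ W z hz)).op (f z hz)) := by
    intro z hz
    have hle : W z hz ⊓ U ≤ X.basicOpen (f z hz) := (hbo z hz).ge
    have h2 : IsUnit (X.presheaf.map (homOfLE hle).op
        (X.presheaf.map (homOfLE (X.basicOpen_le (f z hz))).op (f z hz))) :=
      (X.toRingedSpace.isUnit_res_basicOpen (f z hz)).map _
    rw [← ConcreteCategory.comp_apply, ← Functor.map_comp] at h2
    exact h2
  let D : Data (Coh.structureModule X) U :=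
    { W := W
      mem := hzW
      only := fun z hz y hy hyU => honly z hz y hy hyU
      τ := fun z hz => (((hunit z hz).unit⁻¹ : (Γ(X, W z hz ⊓ U))ˣ) : Γ(X, W z hz ⊓ U)) }
  let S : SecData D :=
    { σ := (1 : Γ(X, U))
      β := f
      compat := fun z hz => by
        change X.presheaf.map (homOfLE (inf_le_right : W z hz ⊓ U ≤ U)).op (1 : Γ(X, U)) =
          X.presheaf.map (homOfLE (inf_le_left : W z hz ⊓ U ≤ W z hz)).op (f z hz) *
            (((hunit z hz).unit⁻¹ : (Γ(X, W z hz ⊓ U))ˣ) : Γ(X, W z hz ⊓ U))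
        rw [map_one, IsUnit.mul_val_inv] }
  have hσ : ∀ (V : X.Opens) (h : V ≤ U), Function.Bijective (fun b : Γ(X, V) =>
      b • (Coh.structureModule X).presheaf.map (homOfLE h).op S.σ) := by
    intro V h
    refine bijective_smul_of_isUnit (X.presheaf.map (homOfLE h).op (1 : Γ(X, U))) ?_
    rw [map_one]
    exact isUnit_one
  refine ⟨glue D, globHom S, isInvertible_glue D ?_ ?_, genLocus_globHom S hσ ?_⟩
  · intro y hy
    exact ⟨U, le_rfl, S.σ, hy, fun V' h => hσ V' h⟩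
  · intro z hz V h
    exact bijective_smul_of_isUnit (X.presheaf.map (homOfLE h).op
      (((hunit z hz).unit⁻¹ : (Γ(X, W z hz ⊓ U))ˣ) : Γ(X, W z hz ⊓ U)))
      ((Units.isUnit _).map (X.presheaf.map (homOfLE h).op).hom)
  · intro z hz hu
    have h1 : z ∈ X.basicOpen (f z hz) := (X.mem_basicOpen (f z hz) z (hzW z hz)).2 hu
    rw [hbo z hz] at h1
    exact hz h1.2

/-! ### Part (2): extending an invertible module -/

open Groth.Agent.Lib.Helper20.RegMero Groth.Agent.Lib.Helper20.WeakAss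
  Groth.Agent.Lib.Helper10.FinTriv

section PartTwo

variable (U : X.Opens) (N : (↑U : Scheme.{u}).Modules)

/-- a section of `N` generating all stalks over `U.ι ⁻¹ᵁ V` generates `j_* N` over all opens inside
`V ≤ U`. -/
theorem bijective_smul_pushforward {V : X.Opens} (hVU : V ≤ U) (t : Γ(N, U.ι ⁻¹ᵁ V))
    (hgen : ∀ (x : (↑U : Scheme.{u})) (hx : x ∈ U.ι ⁻¹ᵁ V),
      IsGen N x (N.presheaf.germ (U.ι ⁻¹ᵁ V) x hx t))
    (V' : X.Opens) (h : V' ≤ V) :
    Function.Bijective (fun b : Γ(X, V') =>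
      b • ((Scheme.Modules.pushforward U.ι).obj N).presheaf.map (homOfLE h).op
        (show Γ((Scheme.Modules.pushforward U.ι).obj N, V) from t)) := by
  have hle : U.ι ⁻¹ᵁ V' ≤ U.ι ⁻¹ᵁ V := fun x hx => h hx
  have hb := bijective_of_isGen N t hgen (U.ι ⁻¹ᵁ V') hle
  have hiso : IsIso (U.ι.app V') :=
    Scheme.Hom.isIso_app U.ι V' (by rw [Scheme.Opens.opensRange_ι]; exact h.trans hVU)
  have hb2 : Function.Bijective (U.ι.app V') :=
    (ConcreteCategory.isIso_iff_bijective _).1 hiso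
  exact hb.comp hb2

/-- the pushforward of an invertible module on `U` is locally generated by one section over `U`. -/
theorem genU_pushforward (hN : PicF.IsInvertible N) :
    GenU ((Scheme.Modules.pushforward U.ι).obj N) U := by
  intro y hy
  obtain ⟨W₁, t, hyW₁, htgen, -⟩ := exists_local_generator' N hN ⟨y, hy⟩
  have heq : U.ι ⁻¹ᵁ (U.ι ''ᵁ W₁) = W₁ := U.ι.preimage_image_eq W₁
  have hle : U.ι ⁻¹ᵁ (U.ι ''ᵁ W₁) ≤ W₁ := heq.le
  refine ⟨U.ι ''ᵁ W₁, Scheme.Opens.ι_image_le U W₁,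
    (show Γ((Scheme.Modules.pushforward U.ι).obj N, U.ι ''ᵁ W₁) from
      N.presheaf.map (homOfLE hle).op t), ⟨⟨y, hy⟩, hyW₁, rfl⟩, fun V' h => ?_⟩
  refine bijective_smul_pushforward U N (Scheme.Opens.ι_image_le U W₁)
    (N.presheaf.map (homOfLE hle).op t) (fun x hx => ?_) V' h
  rw [TopCat.Presheaf.germ_res_apply]
  exact htgen x (hle hx)

/-- near a point `z ∉ U` the pushforward of an invertible module on `U` has a frame on a punctured
neighbourhood. -/
theorem exists_frame [QuasiCompact U.ι] (hdisc : DiscreteTopology ↥((U : Set X)ᶜ))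
    (hN : PicF.IsInvertible N) (z : X) (hz : z ∉ U)
    [IsNoetherianRing (X.presheaf.stalk z)] (hdim : ringKrullDim (X.presheaf.stalk z) ≤ 1) :
    ∃ (W : X.Opens) (τ : Γ((Scheme.Modules.pushforward U.ι).obj N, W ⊓ U)), z ∈ W ∧
      (∀ y ∈ W, y ∉ U → y = z) ∧
      ∀ (V : X.Opens) (h : V ≤ W ⊓ U), Function.Bijective (fun b : Γ(X, V) =>
        b • ((Scheme.Modules.pushforward U.ι).obj N).presheaf.map (homOfLE h).op τ) := by
  obtain ⟨W₀, f, hW₀, hzW₀, honly, hbo⟩ := exists_nbhd_equation U hdisc z hz hdim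
  -- the affine open `D(f) = W₀ ∩ U` of `U`
  have hDU : X.basicOpen f ≤ U := by rw [hbo]; exact inf_le_right
  have hD' : IsAffineOpen (U.ι ⁻¹ᵁ X.basicOpen f) :=
    (hW₀.basicOpen f).preimage_of_isOpenImmersion U.ι (by rw [Scheme.Opens.opensRange_ι]; exact hDU)
  -- finitely many generizations of `z`
  have hfinP : Finite (PrimeSpectrum (X.presheaf.stalk z)) :=
    finite_primeSpectrum_of_dim_le_one (X.presheaf.stalk z) hdim
  have hfin : {y : X | y ⤳ z}.Finite := by
    rw [← Scheme.range_fromSpecStalk]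
    haveI : Finite ↥(Spec (X.presheaf.stalk z)) := hfinP
    exact Set.finite_range _
  let g : ↥(U.ι ⁻¹ᵁ X.basicOpen f) → X := fun y => y.1.1
  have hg : Function.Injective g := fun y y' hyy' => Subtype.ext (Subtype.ext hyy')
  let S : Set ↥(U.ι ⁻¹ᵁ X.basicOpen f) := g ⁻¹' {y : X | y ⤳ z}
  have hS : S.Finite := hfin.preimage hg.injOn
  obtain ⟨m, hm⟩ := exists_section_isGen N hN hD' S hS
  -- the generating locus
  let G : Set (↑U : Scheme.{u}) := {x | ∃ hx : x ∈ U.ι ⁻¹ᵁ X.basicOpen f,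
    IsGen N x (N.presheaf.germ (U.ι ⁻¹ᵁ X.basicOpen f) x hx m)}
  have hG : IsOpen G := isOpen_setOf_isGen N hN m
  have hGX : IsOpen (U.ι '' G) := U.ι.isOpenEmbedding.isOpenMap _ hG
  -- the ring argument
  let p : PrimeSpectrum Γ(X, W₀) := hW₀.primeIdealOf ⟨z, hzW₀⟩
  have hpz : hW₀.fromSpec p = z := hW₀.fromSpec_primeIdealOf ⟨z, hzW₀⟩
  have hGA : IsOpen (hW₀.fromSpec ⁻¹' (U.ι '' G)) := hGX.preimage hW₀.fromSpec.continuous
  have hgenz : ∀ q : PrimeSpectrum Γ(X, W₀), q.asIdeal ≤ p.asIdeal → f ∉ q.asIdeal →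
      q ∈ hW₀.fromSpec ⁻¹' (U.ι '' G) := by
    intro q hqp hfq
    have hsp : hW₀.fromSpec q ⤳ z := by
      rw [← hpz]
      exact ((PrimeSpectrum.le_iff_specializes q p).1 hqp).map hW₀.fromSpec.continuous
    have hyD : hW₀.fromSpec q ∈ X.basicOpen f := (fromSpec_mem_basicOpen_iff hW₀ f q).2 hfq
    have hyU : hW₀.fromSpec q ∈ U := hDU hyD
    refine ⟨⟨hW₀.fromSpec q, hyU⟩, ⟨hyD, ?_⟩, rfl⟩
    exact hm ⟨⟨hW₀.fromSpec q, hyU⟩, hyD⟩ hsp
  obtain ⟨s, hsp, hs⟩ := exists_nbhd_of_generizations p.asIdeal f _ hGA hgenz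
  have hle : X.basicOpen s ≤ W₀ := X.basicOpen_le s
  have hWG : ∀ y ∈ X.basicOpen s ⊓ U, y ∈ U.ι '' G := by
    intro y hy
    have hyW : y ∈ W₀ := hle hy.1
    have hyq : hW₀.fromSpec (hW₀.primeIdealOf ⟨y, hyW⟩) = y := hW₀.fromSpec_primeIdealOf ⟨y, hyW⟩
    have h1 : y ∈ X.basicOpen s := hy.1
    have h2 : y ∈ X.basicOpen f := by rw [hbo]; exact ⟨hyW, hy.2⟩
    rw [← hyq] at h1 h2
    rw [fromSpec_mem_basicOpen_iff] at h1 h2
    have h3 : hW₀.fromSpec (hW₀.primeIdealOf ⟨y, hyW⟩) ∈ U.ι '' G := hs _ h1 h2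
    rw [hyq] at h3
    exact h3
  have hGmem : ∀ (x : (↑U : Scheme.{u})), x ∈ U.ι ⁻¹ᵁ (X.basicOpen s ⊓ U) → x ∈ G := by
    intro x hx
    obtain ⟨x', hx', hxx'⟩ := hWG (U.ι x) hx
    have : x' = x := U.ι.isOpenEmbedding.injective hxx'
    rwa [this] at hx'
  have hleD : U.ι ⁻¹ᵁ (X.basicOpen s ⊓ U) ≤ U.ι ⁻¹ᵁ X.basicOpen f := fun x hx => (hGmem x hx).1
  refine ⟨X.basicOpen s, (show Γ((Scheme.Modules.pushforward U.ι).obj N, X.basicOpen s ⊓ U) from
    N.presheaf.map (homOfLE hleD).op m), ?_, fun y hy hyU => honly y (hle hy) hyU, fun V h => ?_⟩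
  · rw [← hpz, fromSpec_mem_basicOpen_iff]
    exact hsp
  · refine bijective_smul_pushforward U N inf_le_right (N.presheaf.map (homOfLE hleD).op m)
      (fun x hx => ?_) V h
    rw [TopCat.Presheaf.germ_res_apply]
    exact (hGmem x hx).2

/-- part (2): every invertible module on `U` extends to an invertible module on `X`. -/
theorem exists_invertible_extension [QuasiCompact U.ι] (hdisc : DiscreteTopology ↥((U : Set X)ᶜ))
    (hloc : ∀ x : X, x ∉ U →
      IsNoetherianRing (X.presheaf.stalk x) ∧ ringKrullDim (X.presheaf.stalk x) ≤ 1)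
    (hN : PicF.IsInvertible N) :
    ∃ L : X.Modules, PicF.IsInvertible L ∧ Nonempty (L.restrict U.ι ≅ N) := by
  have key : ∀ (z : X) (hz : z ∉ U), ∃ (W : X.Opens)
      (τ : Γ((Scheme.Modules.pushforward U.ι).obj N, W ⊓ U)), z ∈ W ∧
      (∀ y ∈ W, y ∉ U → y = z) ∧
      ∀ (V : X.Opens) (h : V ≤ W ⊓ U), Function.Bijective (fun b : Γ(X, V) =>
        b • ((Scheme.Modules.pushforward U.ι).obj N).presheaf.map (homOfLE h).op τ) := by
    intro z hz
    haveI := (hloc z hz).1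
    exact exists_frame U N hdisc hN z hz (hloc z hz).2
  choose W τ hzW honly hτ using key
  let D : Data ((Scheme.Modules.pushforward U.ι).obj N) U :=
    { W := W
      mem := hzW
      only := fun z hz y hy hyU => honly z hz y hy hyU
      τ := τ }
  refine ⟨glue D, isInvertible_glue D (genU_pushforward U N hN) (fun z hz => hτ z hz), ?_⟩
  obtain ⟨e⟩ := nonempty_restrict_iso D
  exact ⟨e ≪≫ (Scheme.Modules.restrictFunctorAdjCounitIso U.ι).app N⟩

end PartTwo

end Groth.Agent.R2.H8.GlueGeom
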