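import Mathlib
import Groth.Agent.R2.H8GlueGeom

set_option autoImplicit false
set_option linter.style.haveILetI false
universe u
open CategoryTheory CategoryTheory.Limits AlgebraicGeometry TopologicalSpace Opposite

namespace Groth.Agent.R2.H29.DimOneGen

open Groth.Agent.R2.H8.GlueMod Groth.Agent.R2.H8.GlueGeom

variable {X : Scheme.{u}}

section Glue

variable {M : X.Modules} {U : X.Opens} {D : Data M U} (S : SecData D)

/-- if the coefficient of the section at `z` is `1`, the section is the frame near `z`. -/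
theorem globV_eq_frame (z : X) (hz : z ∉ U) (hβ : S.β z hz = 1) {V : X.Opens}
    (h : V ≤ D.W z hz) :
    globV S V = (glue D).presheaf.map (homOfLE h).op (frame D z hz) := by
  refine Subtype.ext (funext fun y => ?_)
  change glVal S y.1 = fr D z hz y.1
  by_cases hy : y.1 ∈ U
  · rw [glVal, dif_pos hy, fr, dif_pos (mem_inf' (h y.2) hy)]
    have h1 := congrArg (M.presheaf.germ (D.W z hz ⊓ U) y.1 (mem_inf' (h y.2) hy)) (S.compat z hz)
    rw [hβ, map_one, one_smul, TopCat.Presheaf.germ_res_apply] at h1
    rw [h1]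
  · have hyz : y.1 = z := D.only z hz y.1 (h y.2) hy
    obtain ⟨y, hyV⟩ := y
    have hyz' : y = z := hyz
    clear hyz
    subst hyz'
    rw [glVal, dif_neg hy, fr, dif_neg (fun h' => hy h'.2), hβ, map_one]

open Groth.Agent.Lib.Helper23.Extend Groth.Agent.Lib.Helper23.GenLocus in
/-- a point outside `U` at which the coefficient is `1` lies in the generating locus. -/
theorem mem_genLocus_globHom (z : X) (hz : z ∉ U) (hτ : GenAt D z hz) (hβ : S.β z hz = 1) :
    z ∈ CohB1.genLocus (glue D) (globHom S) := by
  rw [mem_genLocus_iff]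
  refine ⟨D.W z hz, D.mem z hz, fun V hV => ?_⟩
  rw [ConcreteCategory.isIso_iff_bijective]
  have hb := frame_bijective hτ V hV
  have e : ∀ r : Γ(X, V), (globHom S).app V r =
      (r • (glue D).presheaf.map (homOfLE hV).op (frame D z hz) : Γ(glue D, V)) := fun r => by
    rw [← globV_eq_frame S z hz hβ hV]
    rfl
  constructor
  · intro r0 r0' hr
    let r : Γ(X, V) := r0
    let r' : Γ(X, V) := r0'
    change r = r'
    exact hb.1 ((e r).symm.trans (hr.trans (e r')))
  · intro t
    obtain ⟨b, hb'⟩ := hb.2 t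
    exact ⟨b, (e b).trans hb'⟩

end Glue

/-- (B): from a function `f` on `U` with local inverses vanishing at the points outside `U`, an
invertible module with two sections `s = (1; g)` and `t = (f; 1)`: `X_s = U` and `X_t` contains the
complement of `U`. -/
theorem exists_invertible_two_sections (U : X.Opens) (f : Γ(X, U))
    (hloc : ∀ x : X, x ∉ U → ∃ (W : X.Opens) (g : Γ(X, W)), x ∈ W ∧ (∀ y ∈ W, y ∉ U → y = x) ∧
      x ∉ X.basicOpen g ∧
      X.presheaf.map (homOfLE (inf_le_right : W ⊓ U ≤ U)).op f *
        X.presheaf.map (homOfLE (inf_le_left : W ⊓ U ≤ W)).op g = 1) :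
    ∃ (L : X.Modules) (s t : Coh.structureModule X ⟶ L), PicF.IsInvertible L ∧
      CohB1.genLocus L s = U ∧ ∀ x : X, x ∉ U → x ∈ CohB1.genLocus L t := by
  choose W g hxW honly hxg heq using hloc
  let D : Data (Coh.structureModule X) U :=
    { W := W
      mem := hxW
      only := fun z hz y hy hyU => honly z hz y hy hyU
      τ := fun z hz => X.presheaf.map (homOfLE (inf_le_right : W z hz ⊓ U ≤ U)).op f }
  let S₁ : SecData D :=
    { σ := (1 : Γ(X, U))
      β := g
      compat := fun z hz => by
        change X.presheaf.map (homOfLE (inf_le_right : W z hz ⊓ U ≤ U)).op (1 : Γ(X, U)) =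
          X.presheaf.map (homOfLE (inf_le_left : W z hz ⊓ U ≤ W z hz)).op (g z hz) *
            X.presheaf.map (homOfLE (inf_le_right : W z hz ⊓ U ≤ U)).op f
        rw [map_one, mul_comm, heq z hz] }
  let S₂ : SecData D :=
    { σ := f
      β := fun z hz => (1 : Γ(X, W z hz))
      compat := fun z hz => by
        change X.presheaf.map (homOfLE (inf_le_right : W z hz ⊓ U ≤ U)).op f =
          X.presheaf.map (homOfLE (inf_le_left : W z hz ⊓ U ≤ W z hz)).op (1 : Γ(X, W z hz)) *
            X.presheaf.map (homOfLE (inf_le_right : W z hz ⊓ U ≤ U)).op f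
        rw [map_one, one_mul] }
  have hσ : ∀ (V : X.Opens) (h : V ≤ U), Function.Bijective (fun b : Γ(X, V) =>
      b • (Coh.structureModule X).presheaf.map (homOfLE h).op S₁.σ) := by
    intro V h
    refine bijective_smul_of_isUnit (X.presheaf.map (homOfLE h).op (1 : Γ(X, U))) ?_
    rw [map_one]
    exact isUnit_one
  have hτ : ∀ (z : X) (hz : z ∉ U), GenAt D z hz := by
    intro z hz V h
    refine bijective_smul_of_isUnit (X.presheaf.map (homOfLE h).op
      (X.presheaf.map (homOfLE (inf_le_right : W z hz ⊓ U ≤ U)).op f)) ?_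
    exact (IsUnit.of_mul_eq_one _ (heq z hz)).map (X.presheaf.map (homOfLE h).op).hom
  have hinv : PicF.IsInvertible (glue D) :=
    isInvertible_glue D (fun y hy => ⟨U, le_rfl, S₁.σ, hy, fun V' h => hσ V' h⟩) hτ
  refine ⟨glue D, globHom S₁, globHom S₂, hinv, genLocus_globHom S₁ hσ ?_, fun x hx => ?_⟩
  · intro z hz hu
    exact hxg z hz ((X.mem_basicOpen (g z hz) z (hxW z hz)).2 hu)
  · exact mem_genLocus_globHom S₂ x hx (hτ x hx) rfl

end Groth.Agent.R2.H29.DimOneGen
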