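import Mathlib
import Groth.Agent.R2.H29DimOneGenD
import Groth.Agent.R2.H29DimOneGenE
import Groth.Agent.Lib.Helper23SecTw7

set_option autoImplicit false
universe u
open CategoryTheory CategoryTheory.Limits AlgebraicGeometry TopologicalSpace Opposite

namespace Groth.Agent.R2.H29.DimOneGen

open Groth.Agent.R2.H29.DimOne
open Groth.Agent.Lib.Helper23.SecTw Groth.Agent.Lib.Helper23.TensorUnit
  Groth.Agent.Lib.Helper23.AmpleIso

variable {X : Scheme.{u}}

/-- a section of `L` gives a section of `L^{⊗ 1}` with the same locus. -/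
theorem exists_tensorPow_section (L : X.Modules) (σ : Coh.structureModule X ⟶ L) (x : X)
    (hx : x ∈ CohB1.genLocus L σ) (haff : IsAffineOpen (CohB1.genLocus L σ)) :
    ∃ (n : ℕ) (s : Coh.structureModule X ⟶ CohB1.tensorPow L (n + 1)),
      x ∈ CohB1.genLocus _ s ∧ IsAffineOpen (CohB1.genLocus _ s) := by
  let e : L ≅ CohB1.tensorPow L (0 + 1) := (unitTensorIso L).symm
  refine ⟨0, σ ≫ e.hom, ?_, ?_⟩
  · rw [genLocus_comp_iso e σ]; exact hx
  · rw [genLocus_comp_iso e σ]; exact haff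

/-- the finite set of generic points of irreducible components of a Noetherian scheme -/
theorem finite_generic_points (X : Scheme.{u}) [IsNoetherian X] :
    {η : X | closure ({η} : Set X) ∈ irreducibleComponents X}.Finite := by
  refine Set.Finite.of_finite_image (f := fun η : X => closure ({η} : Set X))
    ((NoetherianSpace.finite_irreducibleComponents (α := X)).subset ?_) ?_
  · rintro _ ⟨η, hη, rfl⟩; exact hη
  · intro η _ η' _ h
    have h1 : IsGenericPoint η (closure ({η'} : Set X)) := h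
    have h2 : IsGenericPoint η' (closure ({η'} : Set X)) := rfl
    exact h1.eq h2

/-- the points lying on two irreducible components -/
def badSet (X : Scheme.{u}) : Set X :=
  {x | ∃ η η' : X, closure ({η} : Set X) ∈ irreducibleComponents X ∧
    closure ({η'} : Set X) ∈ irreducibleComponents X ∧ η ≠ η' ∧
    x ∈ closure ({η} : Set X) ∧ x ∈ closure ({η'} : Set X)}

theorem isClosed_badSet (X : Scheme.{u}) [IsNoetherian X] : IsClosed (badSet X) := by
  have hfin := finite_generic_points X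
  have h : badSet X = ⋃ η ∈ {η : X | closure ({η} : Set X) ∈ irreducibleComponents X},
      ⋃ η' ∈ {η' : X | closure ({η'} : Set X) ∈ irreducibleComponents X ∧ η ≠ η'},
        closure ({η} : Set X) ∩ closure ({η'} : Set X) := by
    ext x
    simp only [badSet, Set.mem_ofPred_eq, Set.mem_iUnion, Set.mem_inter_iff, exists_prop]
    constructor
    · rintro ⟨η, η', h1, h2, h3, h4, h5⟩
      exact ⟨η, h1, η', ⟨h2, h3⟩, h4, h5⟩
    · rintro ⟨η, h1, η', ⟨h2, h3⟩, h4, h5⟩
      exact ⟨η, η', h1, h2, h3, h4, h5⟩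
  rw [h]
  refine Set.Finite.isClosed_biUnion hfin fun η _ => ?_
  exact Set.Finite.isClosed_biUnion (hfin.subset fun η' h => h.1)
    fun η' _ => isClosed_closure.inter isClosed_closure

theorem generic_notMem_badSet (X : Scheme.{u}) (ξ : X)
    (hξ : closure ({ξ} : Set X) ∈ irreducibleComponents X) : ξ ∉ badSet X := by
  rintro ⟨η, η', h1, h2, h3, h4, h5⟩
  have key : ∀ η : X, closure ({η} : Set X) ∈ irreducibleComponents X →
      ξ ∈ closure ({η} : Set X) → ξ = η := by
    intro η hη h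
    have hsub : closure ({ξ} : Set X) ⊆ closure ({η} : Set X) :=
      isClosed_closure.closure_subset_iff.mpr (Set.singleton_subset_iff.mpr h)
    have hsub' : closure ({η} : Set X) ⊆ closure ({ξ} : Set X) :=
      hξ.2 isIrreducible_singleton.closure hsub
    have e1 : IsGenericPoint ξ (closure ({η} : Set X)) := hsub.antisymm hsub'
    have e2 : IsGenericPoint η (closure ({η} : Set X)) := rfl
    exact e1.eq e2
  exact h3 ((key η h1 h4).symm.trans (key η' h2 h5))

/-- Stacks 09NZ: a Noetherian separated scheme of dimension `≤ 1` has an ample invertible module. -/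
theorem exists_ample (X : Scheme.{u}) [IsNoetherian X] [X.IsSeparated]
    (hdim : topologicalKrullDim X ≤ 1) : ∃ L : X.Modules, CohB1.IsAmple L := by
  classical
  have hGfin := finite_generic_points X
  have hBadfin : (badSet X).Finite :=
    finite_of_isClosed_of_forall_generic_notMem hdim _ (isClosed_badSet X)
      (generic_notMem_badSet X)
  have hirr : ∀ U : X.Opens, IsCompact (U : Set X) →
      (irreducibleComponents (U : Set X)).Finite :=
    fun U _ => NoetherianSpace.finite_irreducibleComponents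
  have hstalk : ∀ x : X, IsNoetherianRing (X.presheaf.stalk x) ∧
      ringKrullDim (X.presheaf.stalk x) ≤ 1 := fun x =>
    ⟨inferInstance, (Groth.Agent.Lib.Helper4.FibDim.ringKrullDim_stalk_le_topologicalKrullDim
      X x).trans hdim⟩
  -- the first chart
  obtain ⟨U₁, hU₁, hU₁s⟩ := main X hirr (hGfin.toFinset ∪ hBadfin.toFinset)
    (fun x _ => hstalk x)
  have hG₁ : ∀ η : X, closure ({η} : Set X) ∈ irreducibleComponents X → η ∈ U₁ :=
    fun η hη => hU₁s η (Finset.mem_union_left _ (hGfin.mem_toFinset.mpr hη))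
  have hBad₁ : ∀ x ∈ badSet X, x ∈ U₁ :=
    fun x hx => hU₁s x (Finset.mem_union_right _ (hBadfin.mem_toFinset.mpr hx))
  have hF₁fin : ((U₁ : Set X)ᶜ).Finite :=
    finite_of_isClosed_of_forall_generic_notMem hdim _ U₁.isOpen.isClosed_compl
      (fun η hη h => h (hG₁ η hη))
  -- the second chart
  obtain ⟨U₂, hU₂, hU₂s⟩ := main X hirr (hGfin.toFinset ∪ hBadfin.toFinset ∪ hF₁fin.toFinset)
    (fun x _ => hstalk x)
  have hG₂ : ∀ η : X, closure ({η} : Set X) ∈ irreducibleComponents X → η ∈ U₂ :=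
    fun η hη => hU₂s η (Finset.mem_union_left _
      (Finset.mem_union_left _ (hGfin.mem_toFinset.mpr hη)))
  have hBad₂ : ∀ x ∈ badSet X, x ∈ U₂ :=
    fun x hx => hU₂s x (Finset.mem_union_left _
      (Finset.mem_union_right _ (hBadfin.mem_toFinset.mpr hx)))
  have hcov : ∀ x : X, x ∉ U₁ → x ∈ U₂ :=
    fun x hx => hU₂s x (Finset.mem_union_right _ (hF₁fin.mem_toFinset.mpr hx))
  -- uniqueness of the component through a point outside a chart
  have hB : ∀ U : X.Opens, (∀ x ∈ badSet X, x ∈ U) → ∀ x : X, x ∉ U → ∀ η η' : X,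
      closure ({η} : Set X) ∈ irreducibleComponents X →
      closure ({η'} : Set X) ∈ irreducibleComponents X → x ∈ closure ({η} : Set X) →
      x ∈ closure ({η'} : Set X) → η = η' := by
    intro U hU x hx η η' h1 h2 h3 h4
    by_contra hne
    exact hx (hU x ⟨η, η', h1, h2, hne, h3, h4⟩)
  -- the two invertible modules
  have hmod : ∀ U : X.Opens, IsAffineOpen U →
      (∀ η : X, closure ({η} : Set X) ∈ irreducibleComponents X → η ∈ U) →
      (∀ x ∈ badSet X, x ∈ U) →
      ∃ (L : X.Modules) (s t : Coh.structureModule X ⟶ L), PicF.IsInvertible L ∧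
        CohB1.genLocus L s = U ∧ ∀ x : X, x ∉ U → x ∈ CohB1.genLocus L t := by
    intro U hU hG hBad
    obtain ⟨f, hf⟩ := exists_pole_function X hdim U hU hG (hB U hBad)
    refine exists_invertible_two_sections U f (fun x hx => ?_)
    obtain ⟨W, g, -, h1, h2, h3, h4⟩ := hf x hx
    exact ⟨W, g, h1, h2, h3, h4⟩
  obtain ⟨L₁, s₁, t₁, hL₁, hs₁, ht₁⟩ := hmod U₁ hU₁ hG₁ hBad₁
  obtain ⟨L₂, s₂, t₂, hL₂, hs₂, ht₂⟩ := hmod U₂ hU₂ hG₂ hBad₂
  refine ⟨CohB1.tensorMod L₁ L₂, isInvertible_tensorMod hL₁ hL₂, inferInstance, fun x => ?_⟩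
  by_cases hx₁ : x ∈ U₁
  · by_cases hx₂ : x ∈ U₂
    · refine exists_tensorPow_section _ (SecTwist.tmulHom s₁ s₂) x ?_ ?_
      · rw [genLocus_tmulHom hL₁ hL₂, hs₁, hs₂]; exact ⟨hx₁, hx₂⟩
      · rw [genLocus_tmulHom hL₁ hL₂, hs₁]
        exact isAffineOpen_inf_genLocus L₂ hL₂ s₂ U₁ hU₁
    · refine exists_tensorPow_section _ (SecTwist.tmulHom s₁ t₂) x ?_ ?_
      · rw [genLocus_tmulHom hL₁ hL₂, hs₁]; exact ⟨hx₁, ht₂ x hx₂⟩
      · rw [genLocus_tmulHom hL₁ hL₂, hs₁]
        exact isAffineOpen_inf_genLocus L₂ hL₂ t₂ U₁ hU₁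
  · have hx₂ : x ∈ U₂ := hcov x hx₁
    refine exists_tensorPow_section _ (SecTwist.tmulHom t₁ s₂) x ?_ ?_
    · rw [genLocus_tmulHom hL₁ hL₂, hs₂]; exact ⟨ht₁ x hx₁, hx₂⟩
    · rw [genLocus_tmulHom hL₁ hL₂, hs₂, inf_comm]
      exact isAffineOpen_inf_genLocus L₁ hL₁ t₁ U₂ hU₂

end Groth.Agent.R2.H29.DimOneGen
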