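import Groth.Prelude.Def_EtBase
import Groth.Agent.R2.H29EtLocConst

set_option autoImplicit false
set_option linter.style.haveILetI false
open CategoryTheory CategoryTheory.Limits AlgebraicGeometry Opposite
universe u
open Groth.Agent.R2.H29.ConstSheaf Groth.Agent.R2.H29.EtLocConst

namespace Groth.Agent.R2.H29.EtConn

variable {X : Scheme.{u}}

/-- if an abelian sheaf is constant with finite value `M₁` near `y₁` and constant with value `M₂`
near `y₂`, and `y₁`, `y₂` lie over the same point, then `M₁` embeds into `M₂` -/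
lemma exists_injective_of_common_point (F : Sheaf X.smallEtaleTopology AddCommGrpCat.{u+1})
    {U₁ U₂ : X.Etale} {M N : Type (u+1)} [AddCommGroup M] [AddCommGroup N] [Finite M]
    (α₁ : F.over U₁ ≅ (constantSheaf (X.smallEtaleTopology.over U₁) AddCommGrpCat.{u+1}).obj
      (AddCommGrpCat.of M))
    (β₁ : F.over U₂ ≅ (constantSheaf (X.smallEtaleTopology.over U₂) AddCommGrpCat.{u+1}).obj
      (AddCommGrpCat.of N))
    (y₁ : U₁.left) (y₂ : U₂.left) (hy : U₁.hom.base y₁ = U₂.hom.base y₂) :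
    ∃ h : M →+ N, Function.Injective h := by
  classical
  have hF := isTriv_of_iso X.smallEtaleTopology F U₁ α₁
  have hG := isTriv_of_iso X.smallEtaleTopology F U₂ β₁
  set τF := constSec (X.smallEtaleTopology.over U₁) _ (AddCommGrpCat.of M) (Over.mk (𝟙 U₁)) ≫
    α₁.inv.hom.app (op (Over.mk (𝟙 U₁))) with hτF
  set τG := constSec (X.smallEtaleTopology.over U₂) _ (AddCommGrpCat.of N) (Over.mk (𝟙 U₂)) ≫
    β₁.inv.hom.app (op (Over.mk (𝟙 U₂))) with hτG
  letI : Fintype M := Fintype.ofFinite M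
  obtain ⟨W, g₁, g₂, w, hw₁, hw₂, hloc⟩ := exists_local (𝟙 F) (τF := τF) hG y₁ y₂ hy
    (fun m : M => (m : ToType (AddCommGrpCat.of M))) Finset.univ
  have hFW := hF.restrict X.smallEtaleTopology g₁
  have hGW := hG.restrict X.smallEtaleTopology g₂
  have hinjF := hFW.injective X.smallEtaleTopology (bot_not_mem W w)
  have hinjG := hGW.injective X.smallEtaleTopology (bot_not_mem W w)
  obtain ⟨h, hh⟩ := exists_addMonoidHom_factor (τF ≫ F.obj.map g₁.op).hom
    (τG ≫ F.obj.map g₂.op).hom hinjG (by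
      intro m
      obtain ⟨n, hn⟩ := hloc m (Finset.mem_univ m)
      exact ⟨n, hn⟩)
  refine ⟨h, fun m m' hmm => hinjF ?_⟩
  have h1 := hh m
  have h2 := hh m'
  rw [hmm] at h1
  exact h1.trans h2.symm

/-- same, as an isomorphism, when both values are finite -/
lemma nonempty_addEquiv_of_common_point (F : Sheaf X.smallEtaleTopology AddCommGrpCat.{u+1})
    {U₁ U₂ : X.Etale} {M N : Type (u+1)} [AddCommGroup M] [AddCommGroup N] [Finite M] [Finite N]
    (α₁ : F.over U₁ ≅ (constantSheaf (X.smallEtaleTopology.over U₁) AddCommGrpCat.{u+1}).obj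
      (AddCommGrpCat.of M))
    (β₁ : F.over U₂ ≅ (constantSheaf (X.smallEtaleTopology.over U₂) AddCommGrpCat.{u+1}).obj
      (AddCommGrpCat.of N))
    (y₁ : U₁.left) (y₂ : U₂.left) (hy : U₁.hom.base y₁ = U₂.hom.base y₂) :
    Nonempty (M ≃+ N) := by
  obtain ⟨h, hh⟩ := exists_injective_of_common_point F α₁ β₁ y₁ y₂ hy
  obtain ⟨h', hh'⟩ := exists_injective_of_common_point F β₁ α₁ y₂ y₁ hy.symm
  have hc : Nat.card M = Nat.card N :=
    le_antisymm (Nat.card_le_card_of_injective h hh) (Nat.card_le_card_of_injective h' hh')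
  exact ⟨AddEquiv.ofBijective h ((Nat.bijective_iff_injective_and_card h).2 ⟨hh, hc⟩)⟩

end Groth.Agent.R2.H29.EtConn
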