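import Groth.Prelude.Def_EtMod2
import Groth.Agent.R2.H29EtLocConst
import Groth.Agent.R2.H29ConstExact

set_option autoImplicit false
set_option linter.style.haveILetI false
open CategoryTheory CategoryTheory.Limits AlgebraicGeometry Opposite
universe u
open Groth.Agent.R2.H29.ConstSheaf Groth.Agent.R2.H29.EtLocConst

namespace Groth.Agent.R2.H29.EtExt

section Alg

variable {Λ : Type*} [Ring Λ] {A₀ B₀ L P₂ P₃ : Type*}
  [AddCommGroup A₀] [AddCommGroup B₀] [AddCommGroup L] [AddCommGroup P₂] [AddCommGroup P₃]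
  [Module Λ A₀] [Module Λ B₀] [Module Λ L] [Module Λ P₂] [Module Λ P₃]

/-- the submodule of the middle term generated by the image of `A₀` and the chosen lifts -/
def midSub (ι₁ : A₀ →ₗ[Λ] P₂) (σ : L →ₗ[Λ] P₂) : Submodule Λ P₂ :=
  LinearMap.range (ι₁.coprod σ)

lemma mem_midSub (ι₁ : A₀ →ₗ[Λ] P₂) (σ : L →ₗ[Λ] P₂) (e : P₂) :
    e ∈ midSub ι₁ σ ↔ ∃ a l, ι₁ a + σ l = e := by
  constructor
  · rintro ⟨⟨a, l⟩, rfl⟩
    exact ⟨a, l, by simp⟩
  · rintro ⟨a, l, rfl⟩
    exact ⟨⟨a, l⟩, by simp⟩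

instance (ι₁ : A₀ →ₗ[Λ] P₂) (σ : L →ₗ[Λ] P₂) [Module.Finite Λ A₀] [Module.Finite Λ L] :
    Module.Finite Λ (midSub ι₁ σ) :=
  Module.Finite.range _

/-- the extension data -/
theorem exists_ext (ι₁ : A₀ →ₗ[Λ] P₂) (g : P₂ →ₗ[Λ] P₃) (τ₃ : B₀ →ₗ[Λ] P₃) (π : L →ₗ[Λ] B₀)
    (σ : L →ₗ[Λ] P₂) (hι₁ : Function.Injective ι₁) (hgι : ∀ a, g (ι₁ a) = 0)
    (hτ₃ : Function.Injective τ₃) (hπ : Function.Surjective π)
    (hσ : ∀ l, g (σ l) = τ₃ (π l)) (hK : ∀ l, π l = 0 → ∃ a, ι₁ a = σ l) :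
    ∃ (i : A₀ →ₗ[Λ] midSub ι₁ σ) (p : midSub ι₁ σ →ₗ[Λ] B₀),
      (∀ a, (i a : P₂) = ι₁ a) ∧ (∀ e, τ₃ (p e) = g e) ∧ Function.Injective i ∧
        Function.Surjective p ∧ (∀ e, p e = 0 ↔ ∃ a, i a = e) := by
  have hmem : ∀ e : midSub ι₁ σ, ∃ b, g e = τ₃ b := by
    rintro ⟨e, he⟩
    obtain ⟨a, l, rfl⟩ := (mem_midSub ι₁ σ e).1 he
    exact ⟨π l, by simp [hgι, hσ]⟩
  obtain ⟨p, hp⟩ : ∃ p : midSub ι₁ σ →ₗ[Λ] B₀, ∀ e, (g ∘ₗ (midSub ι₁ σ).subtype) e = τ₃ (p e) := by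
    have hle : LinearMap.range (g ∘ₗ (midSub ι₁ σ).subtype) ≤ LinearMap.range τ₃ := by
      rintro _ ⟨e, rfl⟩
      obtain ⟨b, hb⟩ := hmem e
      exact ⟨b, hb.symm⟩
    refine ⟨(LinearEquiv.ofInjective τ₃ hτ₃).symm.toLinearMap ∘ₗ
      ((g ∘ₗ (midSub ι₁ σ).subtype).codRestrict (LinearMap.range τ₃) (fun m => hle ⟨m, rfl⟩)),
      fun m => ?_⟩
    have := (LinearEquiv.ofInjective τ₃ hτ₃).apply_symm_apply
      ((g ∘ₗ (midSub ι₁ σ).subtype).codRestrict (LinearMap.range τ₃) (fun m => hle ⟨m, rfl⟩) m)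
    exact (congrArg Subtype.val this).symm
  let i : A₀ →ₗ[Λ] midSub ι₁ σ :=
    ι₁.codRestrict (midSub ι₁ σ) (fun a => (mem_midSub ι₁ σ _).2 ⟨a, 0, by simp⟩)
  refine ⟨i, p, fun a => rfl, fun e => (hp e).symm, ?_, ?_, ?_⟩
  · intro a a' h
    exact hι₁ (congrArg Subtype.val h)
  · intro b
    obtain ⟨l, rfl⟩ := hπ b
    refine ⟨⟨σ l, (mem_midSub ι₁ σ _).2 ⟨0, l, by simp⟩⟩, ?_⟩
    apply hτ₃
    rw [← hp]
    exact hσ l
  · rintro ⟨e, he⟩
    constructor
    · intro h0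
      obtain ⟨a, l, rfl⟩ := (mem_midSub ι₁ σ e).1 he
      have h1 := hp ⟨ι₁ a + σ l, he⟩
      rw [h0, map_zero] at h1
      have h2 : τ₃ (π l) = 0 := by
        rw [← hσ, ← h1]
        simp [hgι]
      have h3 : π l = 0 := hτ₃ (by rw [h2, map_zero])
      obtain ⟨a', ha'⟩ := hK l h3
      refine ⟨a + a', Subtype.ext ?_⟩
      show ι₁ (a + a') = ι₁ a + σ l
      rw [map_add, ha']
    · rintro ⟨a, ha⟩
      apply hτ₃
      rw [← hp, map_zero, ← ha]
      exact hgι a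

end Alg

section

variable {X : Scheme.{u}} {A : Type (u+2)} [Category.{u+1} A]
  {FA : A → A → Type*} {CA : A → Type (u+1)} [∀ X Y, FunLike (FA X Y) (CA X) (CA Y)]
  [ConcreteCategory.{u+1} A FA]

/-- finitely many sections lift along a locally surjective map on an etale neighbourhood of a
given point -/
lemma exists_refine_lift {F G : Sheaf X.smallEtaleTopology A} (φ : F ⟶ G)
    [Sheaf.IsLocallySurjective φ] {V : X.Etale} {ι : Type*} [DecidableEq ι]
    (y : ι → ToType (G.obj.obj (op V))) (s : Finset ι) (z : V.left) :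
    ∃ (W : X.Etale) (g : W ⟶ V) (w : W.left), g.left w = z ∧
      ∀ i ∈ s, ∃ t : ToType (F.obj.obj (op W)), φ.hom.app (op W) t = G.obj.map g.op (y i) := by
  have hmem : finSieve (fun i => Presheaf.imageSieve φ.hom (y i)) s ∈ X.smallEtaleTopology V :=
    finSieve_mem X.smallEtaleTopology _
      (fun i => Presheaf.imageSieve_mem X.smallEtaleTopology φ.hom (y i)) s
  obtain ⟨W, g, w, hg, hw⟩ := (mem_smallEtale_iff V _).1 hmem z
  exact ⟨W, g, w, hw, hg⟩

end

section Mod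

variable {Λ : Type (u + 1)} [CommRing Λ] {X : Scheme.{u}}

instance (W : X.Etale) :
    PreservesFiniteColimits (X.smallEtaleTopology.overPullback (ModuleCat.{u + 1} Λ) W) :=
  preservesFiniteColimits_overPullback _ _

lemma injective_app_of_mono_mod {F G : Sheaf X.smallEtaleTopology (ModuleCat.{u + 1} Λ)} (f : F ⟶ G)
    [Mono f] (U : X.Etaleᵒᵖ) : Function.Injective (f.hom.app U) := by
  have h1 : Mono f.hom := (Sheaf.Hom.mono_iff_presheaf_mono _ _ f).mp inferInstance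
  have h2 : Mono (f.hom.app U) := inferInstance
  exact (ModuleCat.mono_iff_injective _).mp h2

lemma exact_sections_mod {S : ShortComplex (Sheaf X.smallEtaleTopology (ModuleCat.{u + 1} Λ))}
    (hS : S.ShortExact) (W : X.Etale) (p : ToType (S.X₂.obj.obj (op W)))
    (hp : S.g.hom.app (op W) p = 0) : ∃ q : ToType (S.X₁.obj.obj (op W)), S.f.hom.app (op W) q = p := by
  haveI := hS.mono_f
  have hex := hS.exact.map_of_mono_of_preservesKernel
    (sheafToPresheaf X.smallEtaleTopology (ModuleCat.{u + 1} Λ) ⋙ (evaluation _ _).obj (op W))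
    inferInstance inferInstance
  exact (ShortComplex.moduleCat_exact_iff _).1 hex p hp

/-- core step: on a nonempty `W` where lifts of generators exist and the relations are constant,
the middle term is trivialized by a finitely generated module -/
lemma exists_isTriv_mid_mod {S : ShortComplex (Sheaf X.smallEtaleTopology (ModuleCat.{u + 1} Λ))}
    (hS : S.ShortExact) (W : X.Etale) (w : W.left)
    {A₀ B₀ : Type (u + 1)} [AddCommGroup A₀] [AddCommGroup B₀] [Module Λ A₀] [Module Λ B₀]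
    [Module.Finite Λ A₀]
    {τ₁ : ModuleCat.of Λ A₀ ⟶ S.X₁.obj.obj (op W)} {τ₃ : ModuleCat.of Λ B₀ ⟶ S.X₃.obj.obj (op W)}
    (h₁ : IsTriv X.smallEtaleTopology S.X₁ W τ₁) (h₃ : IsTriv X.smallEtaleTopology S.X₃ W τ₃)
    {r : ℕ} (b : Fin r → B₀) (hb : Submodule.span Λ (Set.range b) = ⊤)
    (t : Fin r → ToType (S.X₂.obj.obj (op W)))
    (ht : ∀ k, S.g.hom.app (op W) (t k) = τ₃ (b k))
    (hK : ∀ l : Fin r → Λ, Fintype.linearCombination Λ b l = 0 →
      ∃ a : A₀, S.f.hom.app (op W) (τ₁ a) = Fintype.linearCombination Λ t l) :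
    ∃ (E : Type (u + 1)) (_ : AddCommGroup E) (_ : Module Λ E) (_ : Module.Finite Λ E)
      (τ₂ : ModuleCat.of Λ E ⟶ S.X₂.obj.obj (op W)), IsTriv X.smallEtaleTopology S.X₂ W τ₂ := by
  haveI := hS.mono_f
  have hW := bot_not_mem W w
  have inj₁ := h₁.injective X.smallEtaleTopology hW
  have inj₃ := h₃.injective X.smallEtaleTopology hW
  have injf := injective_app_of_mono_mod S.f (op W)
  let ι₁ : A₀ →ₗ[Λ] ↑(S.X₂.obj.obj (op W)) := (τ₁ ≫ S.f.hom.app (op W)).hom
  let g : ↑(S.X₂.obj.obj (op W)) →ₗ[Λ] ↑(S.X₃.obj.obj (op W)) := (S.g.hom.app (op W)).hom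
  let π : (Fin r → Λ) →ₗ[Λ] B₀ := Fintype.linearCombination Λ b
  let σ : (Fin r → Λ) →ₗ[Λ] ↑(S.X₂.obj.obj (op W)) := Fintype.linearCombination Λ t
  have hzero : ∀ q : ToType (S.X₁.obj.obj (op W)),
      S.g.hom.app (op W) (S.f.hom.app (op W) q) = 0 := by
    intro q
    have e : S.f.hom.app (op W) ≫ S.g.hom.app (op W) = 0 := by
      rw [← NatTrans.comp_app, ← ObjectProperty.FullSubcategory.comp_hom, S.zero]
      rfl
    have := congrArg (fun k => (ConcreteCategory.hom k) q) e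
    simpa using this
  obtain ⟨i, p, hi, hp, hinj, hsurj, hex⟩ := exists_ext ι₁ g τ₃.hom π σ
    (fun a a' h => inj₁ (injf h)) (fun a => hzero _) inj₃
    ((span_range_eq_top_iff_surjective_fintypeLinearCombination Λ b).1 hb)
    (fun l => by
      simp only [σ, π, g, Fintype.linearCombination_apply, map_sum, map_smul]
      refine Finset.sum_congr rfl (fun k _ => ?_)
      congr 1
      exact ht k)
    hK
  let T : ShortComplex (ModuleCat.{u + 1} Λ) :=
    ShortComplex.mk (ModuleCat.ofHom i) (ModuleCat.ofHom p) (by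
      ext a
      exact (hex (i a)).2 ⟨a, rfl⟩)
  have hT : T.ShortExact :=
    { exact := (ShortComplex.moduleCat_exact_iff T).2 (fun e he => (hex e).1 he)
      mono_f := (ModuleCat.mono_iff_injective _).2 hinj
      epi_g := (ModuleCat.epi_iff_surjective _).2 hsurj }
  refine ⟨midSub ι₁ σ, inferInstance, inferInstance, inferInstance,
    ModuleCat.ofHom (midSub ι₁ σ).subtype, ?_⟩
  refine isTriv_of_shortExact X.smallEtaleTopology W hS hT τ₁
    (ModuleCat.ofHom (midSub ι₁ σ).subtype) τ₃ ?_ ?_ h₁ h₃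
  · ext a
    exact (hi a).symm
  · ext e
    exact (hp e).symm

/-- second step: lifts of generators exist on `V`; refine so that the relations become constant -/
lemma exists_isTriv_mid_mod' [IsNoetherianRing Λ]
    {S : ShortComplex (Sheaf X.smallEtaleTopology (ModuleCat.{u + 1} Λ))}
    (hS : S.ShortExact) (V : X.Etale) (z : V.left)
    {A₀ B₀ : Type (u + 1)} [AddCommGroup A₀] [AddCommGroup B₀] [Module Λ A₀] [Module Λ B₀]
    [Module.Finite Λ A₀]
    {τ₁ : ModuleCat.of Λ A₀ ⟶ S.X₁.obj.obj (op V)} {τ₃ : ModuleCat.of Λ B₀ ⟶ S.X₃.obj.obj (op V)}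
    (h₁ : IsTriv X.smallEtaleTopology S.X₁ V τ₁) (h₃ : IsTriv X.smallEtaleTopology S.X₃ V τ₃)
    {r : ℕ} (b : Fin r → B₀) (hb : Submodule.span Λ (Set.range b) = ⊤)
    (t : Fin r → ToType (S.X₂.obj.obj (op V)))
    (ht : ∀ k, S.g.hom.app (op V) (t k) = τ₃ (b k)) :
    ∃ (W : X.Etale) (g : W ⟶ V) (w : W.left), g.left w = z ∧
      ∃ (E : Type (u + 1)) (_ : AddCommGroup E) (_ : Module Λ E) (_ : Module.Finite Λ E)
        (τ₂ : ModuleCat.of Λ E ⟶ S.X₂.obj.obj (op W)), IsTriv X.smallEtaleTopology S.X₂ W τ₂ := by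
  classical
  let π : (Fin r → Λ) →ₗ[Λ] B₀ := Fintype.linearCombination Λ b
  let σ : (Fin r → Λ) →ₗ[Λ] ↑(S.X₂.obj.obj (op V)) := Fintype.linearCombination Λ t
  have hσ : ∀ l, S.g.hom.app (op V) (σ l) = τ₃ (π l) := by
    intro l
    show (S.g.hom.app (op V)).hom (σ l) = τ₃.hom (π l)
    simp only [σ, π, Fintype.linearCombination_apply, map_sum, map_smul]
    refine Finset.sum_congr rfl (fun k _ => ?_)
    congr 1
    exact ht k
  obtain ⟨κ, hκ⟩ : (LinearMap.ker π).FG := IsNoetherian.noetherian _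
  have hd : ∀ l : Fin r → Λ, π l = 0 →
      ∃ d : ToType (S.X₁.obj.obj (op V)), S.f.hom.app (op V) d = σ l := by
    intro l hl
    refine exact_sections_mod hS V (σ l) ?_
    rw [hσ, hl]
    exact map_zero τ₃.hom
  let d : (Fin r → Λ) → ToType (S.X₁.obj.obj (op V)) := fun l =>
    if hl : π l = 0 then (hd l hl).choose else 0
  have hdspec : ∀ l, π l = 0 → S.f.hom.app (op V) (d l) = σ l := by
    intro l hl
    simp only [d, dif_pos hl]
    exact (hd l hl).choose_spec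
  obtain ⟨W, g, w, hw, hconst⟩ := exists_refine_const h₁ d κ z
  refine ⟨W, g, w, hw, ?_⟩
  have h₁W := h₁.restrict X.smallEtaleTopology g
  have h₃W := h₃.restrict X.smallEtaleTopology g
  refine exists_isTriv_mid_mod hS W w h₁W h₃W b hb (fun k => S.X₂.obj.map g.op (t k)) ?_ ?_
  · intro k
    have h1 := congrArg (fun f => (ConcreteCategory.hom f) (t k)) (S.g.hom.naturality g.op)
    simp only [ConcreteCategory.comp_apply] at h1
    rw [h1, ht k, ConcreteCategory.comp_apply]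
  · have hσW : ∀ l, Fintype.linearCombination Λ (fun k => S.X₂.obj.map g.op (t k)) l =
        S.X₂.obj.map g.op (σ l) := by
      intro l
      show _ = (S.X₂.obj.map g.op).hom (σ l)
      simp only [σ, Fintype.linearCombination_apply, map_sum, map_smul]
    have hle : LinearMap.ker π ≤ Submodule.comap
        (Fintype.linearCombination Λ (fun k => S.X₂.obj.map g.op (t k)))
        (LinearMap.range ((τ₁ ≫ S.X₁.obj.map g.op) ≫ S.f.hom.app (op W)).hom) := by
      rw [← hκ, Submodule.span_le]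
      intro l hl
      have hlK : π l = 0 := by
        have : l ∈ LinearMap.ker π := hκ ▸ Submodule.subset_span hl
        exact this
      obtain ⟨a, ha⟩ := hconst l hl
      refine ⟨a, ?_⟩
      show S.f.hom.app (op W) ((S.X₁.obj.map g.op) (τ₁ a)) = _
      rw [hσW, ← hdspec l hlK, ← ha]
      have h1 := congrArg (fun f => (ConcreteCategory.hom f) (d l)) (S.f.hom.naturality g.op)
      simp only [ConcreteCategory.comp_apply] at h1
      exact h1
    intro l hl
    obtain ⟨a, ha⟩ := hle hl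
    exact ⟨a, ha⟩

/-- first step: lift generators locally -/
lemma exists_isTriv_mid_mod'' [IsNoetherianRing Λ]
    {S : ShortComplex (Sheaf X.smallEtaleTopology (ModuleCat.{u + 1} Λ))}
    (hS : S.ShortExact) (V : X.Etale) (z : V.left)
    {A₀ B₀ : Type (u + 1)} [AddCommGroup A₀] [AddCommGroup B₀] [Module Λ A₀] [Module Λ B₀]
    [Module.Finite Λ A₀] [Module.Finite Λ B₀]
    {τ₁ : ModuleCat.of Λ A₀ ⟶ S.X₁.obj.obj (op V)} {τ₃ : ModuleCat.of Λ B₀ ⟶ S.X₃.obj.obj (op V)}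
    (h₁ : IsTriv X.smallEtaleTopology S.X₁ V τ₁) (h₃ : IsTriv X.smallEtaleTopology S.X₃ V τ₃) :
    ∃ (W : X.Etale) (g : W ⟶ V) (w : W.left), g.left w = z ∧
      ∃ (E : Type (u + 1)) (_ : AddCommGroup E) (_ : Module Λ E) (_ : Module.Finite Λ E)
        (τ₂ : ModuleCat.of Λ E ⟶ S.X₂.obj.obj (op W)), IsTriv X.smallEtaleTopology S.X₂ W τ₂ := by
  classical
  obtain ⟨r, b, hb⟩ := Module.Finite.exists_fin (R := Λ) (M := B₀)
  haveI := hS.epi_g
  haveI : Sheaf.IsLocallySurjective S.g := (Sheaf.isLocallySurjective_iff_epi' _ S.g).2 inferInstance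
  obtain ⟨V', q, z', hz', hlift⟩ := exists_refine_lift S.g (fun k : Fin r => τ₃ (b k)) Finset.univ z
  choose t ht using fun k => hlift k (Finset.mem_univ k)
  obtain ⟨W, g, w, hw, hE⟩ := exists_isTriv_mid_mod' hS V' z'
    (h₁.restrict X.smallEtaleTopology q) (h₃.restrict X.smallEtaleTopology q) b hb t
    (fun k => by rw [ht k, ConcreteCategory.comp_apply])
  refine ⟨W, g ≫ q, w, ?_, hE⟩
  rw [← hz', ← hw]
  rfl

/-- an extension of sheaves of modules trivialized near a point (with finitely generated values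
over a noetherian ring) is trivialized near that point with finitely generated value -/
lemma exists_local_ext_mod [IsNoetherianRing Λ]
    {S : ShortComplex (Sheaf X.smallEtaleTopology (ModuleCat.{u + 1} Λ))} (hS : S.ShortExact)
    {U₁ U₃ : X.Etale} {A₀ B₀ : Type (u + 1)} [AddCommGroup A₀] [AddCommGroup B₀] [Module Λ A₀]
    [Module Λ B₀] [Module.Finite Λ A₀] [Module.Finite Λ B₀]
    (α₁ : S.X₁.over U₁ ≅ (constantSheaf (X.smallEtaleTopology.over U₁) (ModuleCat.{u + 1} Λ)).obj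
      (ModuleCat.of Λ A₀))
    (β₁ : S.X₃.over U₃ ≅ (constantSheaf (X.smallEtaleTopology.over U₃) (ModuleCat.{u + 1} Λ)).obj
      (ModuleCat.of Λ B₀))
    (y₁ : U₁.left) (y₃ : U₃.left) (hy : U₁.hom.base y₁ = U₃.hom.base y₃) :
    ∃ (W : X.Etale) (w : W.left), W.hom.base w = U₁.hom.base y₁ ∧
      ∃ (E : Type (u + 1)) (_ : AddCommGroup E) (_ : Module Λ E) (_ : Module.Finite Λ E),
        Nonempty (S.X₂.over W ≅
          (constantSheaf (X.smallEtaleTopology.over W) (ModuleCat.{u + 1} Λ)).obj (ModuleCat.of Λ E)) := by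
  have h₁ := isTriv_of_iso X.smallEtaleTopology S.X₁ U₁ α₁
  have h₃ := isTriv_of_iso X.smallEtaleTopology S.X₃ U₃ β₁
  obtain ⟨V, p₁, p₃, z, hz₁, hz₃⟩ := exists_common U₁ U₃ y₁ y₃ hy
  obtain ⟨W, g, w, hw, E, _, _, _, τ₂, h₂⟩ := exists_isTriv_mid_mod'' hS V z
    (h₁.restrict X.smallEtaleTopology p₁) (h₃.restrict X.smallEtaleTopology p₃)
  refine ⟨W, w, ?_, E, inferInstance, inferInstance, inferInstance, ⟨h₂.iso⟩⟩
  rw [← hz₁, ← hw]
  have e : (g ≫ p₁).left ≫ U₁.hom = W.hom := Over.w (g ≫ p₁).hom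
  rw [← e]
  rfl

end Mod

end Groth.Agent.R2.H29.EtExt
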