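import Mathlib
import Groth.Prelude.Def_EtMod2
import Groth.Agent.R2.H29EtLocConst

set_option autoImplicit false
set_option linter.style.haveILetI false
open CategoryTheory CategoryTheory.Limits AlgebraicGeometry Opposite
universe u
open Groth.Agent.R2.H29.ConstSheaf Groth.Agent.R2.H29.EtLocConst

namespace Groth.Agent.R2.H29.EtGeneric

section Generic

variable {C : Type (u+1)} [Category.{u} C] (J : GrothendieckTopology C)
  {A : Type (u+2)} [Category.{u+1} A] [HasWeakSheafify J A]
  [∀ V : C, HasWeakSheafify (J.over V) A] [HasLimitsOfSize.{u, u+1} A]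

/-- a constant sheaf is trivialized over every object by its constant sections -/
lemma isTriv_const (M : A) (V : C) :
    IsTriv J ((constantSheaf J A).obj M) V (constSec J A M V) := by
  have e : (pushforwardConstantIso (J.over V) J (Over.forget V) M).hom =
      trivMap J ((constantSheaf J A).obj M) V (constSec J A M V) := by
    rw [eq_trivMap_iff]
    exact constSec_pushforwardConstantIso_hom (J.over V) J (Over.forget V) M (Over.mk (𝟙 V))
  unfold IsTriv
  rw [← e]
  infer_instance

end Generic

section

variable {X : Scheme.{u}} {A : Type (u+2)} [Category.{u+1} A]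
  {FA : A → A → Type*} {CA : A → Type (u+1)} [∀ X Y, FunLike (FA X Y) (CA X) (CA Y)]
  [ConcreteCategory.{u+1} A FA] [HasColimitsOfSize.{u, u} A]
  [PreservesFilteredColimitsOfSize.{u, u} (forget A)]

/-- if `a` is surjective on the stalk at `ξ`, every section of the target is, on an etale
neighbourhood of any given lift of `ξ`, in the image of `a` -/
lemma exists_refine_of_stalk_surjective {F G : Sheaf X.smallEtaleTopology A} (a : F ⟶ G)
    {Ω : Type u} [Field Ω] [IsSepClosed Ω] (ξ : Spec (CommRingCat.of Ω) ⟶ X)
    (hsurj : Function.Surjective ((Scheme.pointSmallEtale ξ).sheafFiber.map a))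
    {U : X.Etale} (x₀ : (Scheme.pointSmallEtale ξ).fiber.obj U) (s : ToType (G.obj.obj (op U))) :
    ∃ (W : X.Etale) (g : W ⟶ U) (_ : (Scheme.pointSmallEtale ξ).fiber.obj W)
      (t : ToType (F.obj.obj (op W))), a.hom.app (op W) t = G.obj.map g.op s := by
  let Φ := Scheme.pointSmallEtale ξ
  obtain ⟨σ, hσ⟩ := hsurj (Φ.toPresheafFiber U x₀ G.obj s)
  obtain ⟨V, v, s', rfl⟩ := Φ.toPresheafFiber_jointly_surjective (P := F.obj) σ
  have n1 : Φ.sheafFiber.map a (Φ.toPresheafFiber V v F.obj s') =
      Φ.toPresheafFiber V v G.obj (a.hom.app (op V) s') :=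
    Φ.toPresheafFiber_naturality_apply a.hom V v s'
  let m : Φ.fiber.Elements := IsCofiltered.min (⟨V, v⟩ : Φ.fiber.Elements) ⟨U, x₀⟩
  let gV : m ⟶ ⟨V, v⟩ := IsCofiltered.minToLeft _ _
  let gU : m ⟶ ⟨U, x₀⟩ := IsCofiltered.minToRight _ _
  have hgV : Φ.fiber.map gV.1 m.2 = v := gV.2
  have hgU : Φ.fiber.map gU.1 m.2 = x₀ := gU.2
  have e1 : Φ.toPresheafFiber m.1 m.2 G.obj (G.obj.map gU.1.op s) =
      Φ.toPresheafFiber m.1 m.2 G.obj (G.obj.map gV.1.op (a.hom.app (op V) s')) := by
    rw [Φ.toPresheafFiber_w_apply, Φ.toPresheafFiber_w_apply, hgV, hgU, ← hσ, n1]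
  obtain ⟨W', g, w', hw', hg⟩ := (Φ.toPresheafFiber_eq_iff' m.1 m.2 _ _).mp e1
  refine ⟨W', g ≫ gU.1, w', F.obj.map (g ≫ gV.1).op s', ?_⟩
  have n2 := NatTrans.naturality_apply a.hom (g ≫ gV.1).op s'
  rw [n2]
  rw [op_comp, Functor.map_comp, ConcreteCategory.comp_apply, ← hg,
    ← ConcreteCategory.comp_apply, ← Functor.map_comp, ← op_comp]

end

/-- over an irreducible scheme, a geometric point over the generic point lifts to every nonempty
etale scheme -/
lemma exists_lift_generic {X : Scheme.{u}} [IrreducibleSpace ↥X]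
    {Ω : Type u} [Field Ω] [IsSepClosed Ω] (ξ : Spec (CommRingCat.of Ω) ⟶ X)
    (hξ : ξ.base default = genericPoint ↥X) (W : X.Etale) (w : W.left) :
    Nonempty ((Scheme.pointSmallEtale ξ).fiber.obj W) := by
  have hopen : IsOpen (Set.range W.hom.base) := W.hom.isOpenMap.isOpen_range
  have hmem : genericPoint ↥X ∈ Set.range W.hom.base := by
    rw [(genericPoint_spec ↥X).mem_open_set_iff hopen]
    exact ⟨W.hom.base w, trivial, w, rfl⟩
  obtain ⟨w', hw'⟩ := hmem
  obtain ⟨l, hl, -⟩ := Scheme.exists_fac_of_etale_of_isSepClosed W.hom ξ w' (hw'.trans hξ.symm)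
  exact ⟨Over.homMk l hl⟩

section Main

variable {X : Scheme.{u}} {A : Type (u+2)} [Category.{u+1} A]
  {FA : A → A → Type*} {CA : A → Type (u+1)} [∀ X Y, FunLike (FA X Y) (CA X) (CA Y)]
  [ConcreteCategory.{u+1} A FA] [HasColimitsOfSize.{u, u} A]
  [PreservesFilteredColimitsOfSize.{u, u} (forget A)]
  [HasWeakSheafify X.smallEtaleTopology A]
  [∀ V : X.Etale, HasWeakSheafify (X.smallEtaleTopology.over V) A]
  [∀ V : X.Etale, (X.smallEtaleTopology.over V).WEqualsLocallyBijective A]
  [HasLimitsOfSize.{u, u+1} A]

omit [HasColimitsOfSize.{u, u} A] [PreservesFilteredColimitsOfSize.{u, u} (forget A)]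
  [∀ V : X.Etale, HasWeakSheafify (X.smallEtaleTopology.over V) A]
  [∀ V : X.Etale, (X.smallEtaleTopology.over V).WEqualsLocallyBijective A]
  [HasLimitsOfSize.{u, u+1} A] in
lemma constSec_map_apply (M : A) {V W : X.Etale} (g : W ⟶ V) (n : ToType M) :
    ((constantSheaf X.smallEtaleTopology A).obj M).obj.map g.op
      (constSec X.smallEtaleTopology A M V n) = constSec X.smallEtaleTopology A M W n := by
  have := congrArg (fun f => (ConcreteCategory.hom f) n) (constSec_map X.smallEtaleTopology M g)
  simpa only [ConcreteCategory.comp_apply] using this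

omit [HasColimitsOfSize.{u, u} A] [PreservesFilteredColimitsOfSize.{u, u} (forget A)]
  [∀ V : X.Etale, HasWeakSheafify (X.smallEtaleTopology.over V) A]
  [∀ V : X.Etale, (X.smallEtaleTopology.over V).WEqualsLocallyBijective A]
  [HasLimitsOfSize.{u, u+1} A] in
lemma constSec_naturality_apply {M N : A} (i : M ⟶ N) (V : X.Etale) (n : ToType M) :
    ((constantSheaf X.smallEtaleTopology A).map i).hom.app (op V)
      (constSec X.smallEtaleTopology A M V n) = constSec X.smallEtaleTopology A N V (i n) := by
  have := congrArg (fun f => (ConcreteCategory.hom f) n)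
    (constSec_naturality X.smallEtaleTopology i V)
  simpa only [ConcreteCategory.comp_apply] using this

/-- the generic-stalk criterion, local surjectivity part -/
lemma isLocallySurjective_of_generic_stalk [IrreducibleSpace ↥X]
    {Ω : Type u} [Field Ω] [IsSepClosed Ω] (ξ : Spec (CommRingCat.of Ω) ⟶ X)
    (hξ : ξ.base default = genericPoint ↥X)
    {M' M : A} (i : M' ⟶ M) (G : Sheaf X.smallEtaleTopology A)
    (a : (constantSheaf X.smallEtaleTopology A).obj M' ⟶ G)
    (b : G ⟶ (constantSheaf X.smallEtaleTopology A).obj M)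
    (hb : ∀ U : X.Etaleᵒᵖ, Function.Injective (b.hom.app U))
    (hab : a ≫ b = (constantSheaf X.smallEtaleTopology A).map i)
    (hsurj : Function.Surjective ((Scheme.pointSmallEtale ξ).sheafFiber.map a)) :
    Sheaf.IsLocallySurjective a := by
  classical
  constructor
  intro U s
  rw [mem_smallEtale_iff]
  intro p
  -- naturality facts on elements
  have natb : ∀ {V W : X.Etale} (g : W ⟶ V) (y : ToType (G.obj.obj (op V))),
      b.hom.app (op W) (G.obj.map g.op y) =
        ((constantSheaf X.smallEtaleTopology A).obj M).obj.map g.op (b.hom.app (op V) y) := by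
    intro V W g y
    have := congrArg (fun f => (ConcreteCategory.hom f) y) (b.hom.naturality g.op)
    simpa only [ConcreteCategory.comp_apply] using this
  have nata : ∀ {V W : X.Etale} (g : W ⟶ V)
      (y : ToType (((constantSheaf X.smallEtaleTopology A).obj M').obj.obj (op V))),
      a.hom.app (op W) (((constantSheaf X.smallEtaleTopology A).obj M').obj.map g.op y) =
        G.obj.map g.op (a.hom.app (op V) y) := by
    intro V W g y
    have := congrArg (fun f => (ConcreteCategory.hom f) y) (a.hom.naturality g.op)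
    simpa only [ConcreteCategory.comp_apply] using this
  have hab' : ∀ (W : X.Etale)
      (y : ToType (((constantSheaf X.smallEtaleTopology A).obj M').obj.obj (op W))),
      b.hom.app (op W) (a.hom.app (op W) y) =
        ((constantSheaf X.smallEtaleTopology A).map i).hom.app (op W) y := by
    intro W y
    have := congrArg (fun k => (ConcreteCategory.hom (k.hom.app (op W))) y) hab
    simpa only [ObjectProperty.FullSubcategory.comp_hom, NatTrans.comp_app,
      ConcreteCategory.comp_apply] using this
  -- Step 2: `b s` is locally a constant section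
  obtain ⟨W₁, g₁, w₁, hw₁, hn⟩ := exists_refine_const (isTriv_const X.smallEtaleTopology M U)
    (fun _ : Unit => b.hom.app (op U) s) {()} p
  obtain ⟨n, hn⟩ := hn () (by simp)
  rw [constSec_map_apply] at hn
  -- Step 3: lift the geometric generic point and use surjectivity on the stalk
  obtain ⟨x₁⟩ := exists_lift_generic ξ hξ W₁ w₁
  obtain ⟨W', g', w', t, ht⟩ := exists_refine_of_stalk_surjective a ξ hsurj x₁ (G.obj.map g₁.op s)
  obtain ⟨W'', g'', w'', -, hn'⟩ := exists_refine_const (isTriv_const X.smallEtaleTopology M' W')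
    (fun _ : Unit => t) {()} ((w'.left : Spec (CommRingCat.of Ω) ⟶ W'.left) (default : Spec (CommRingCat.of Ω)))
  obtain ⟨n', hn'⟩ := hn' () (by simp)
  rw [constSec_map_apply] at hn'
  have key : n = i n' := by
    apply (isTriv_const X.smallEtaleTopology M W'').injective X.smallEtaleTopology
      (bot_not_mem W'' w'')
    calc constSec X.smallEtaleTopology A M W'' n
        = ((constantSheaf X.smallEtaleTopology A).obj M).obj.map g''.op
            (((constantSheaf X.smallEtaleTopology A).obj M).obj.map g'.op
              (constSec X.smallEtaleTopology A M W₁ n)) := by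
          rw [constSec_map_apply, constSec_map_apply]
      _ = b.hom.app (op W'') (G.obj.map g''.op (G.obj.map g'.op (G.obj.map g₁.op s))) := by
          rw [natb, natb, natb, hn]
      _ = b.hom.app (op W'') (a.hom.app (op W'')
            (((constantSheaf X.smallEtaleTopology A).obj M').obj.map g''.op t)) := by
          rw [nata, ht]
      _ = constSec X.smallEtaleTopology A M W'' (i n') := by
          rw [hab', hn', constSec_naturality_apply]
  refine ⟨W₁, g₁, w₁, ⟨constSec X.smallEtaleTopology A M' W₁ n', ?_⟩, hw₁⟩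
  apply hb
  rw [hab', constSec_naturality_apply, ← key, natb, hn]

end Main

end Groth.Agent.R2.H29.EtGeneric
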