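import Groth.Agent.R2.H29SubConstr

/-!
# Constructibility via generic local constancy on closures of points (locally noetherian schemes)
-/

set_option autoImplicit false
open CategoryTheory CategoryTheory.Limits AlgebraicGeometry Opposite TopologicalSpace Topology
universe u
open Groth.Agent.R2.H29.Strata Groth.Agent.R2.H29.Constr Groth.Agent.R2.H29.SubConstr

namespace Groth.Agent.R2.H29.Generic

variable {X : Scheme.{u}}

/-- `P` holds along a nonempty open piece of the closure of every point -/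
def GenericP (P : MorPred X) : Prop :=
  ∀ x : X, ∃ (V : X.Opens) (T : Scheme.{u}) (g : T ⟶ X), IsImmersion g ∧ x ∈ V ∧
    Set.range g = (V : Set X) ∩ closure {x} ∧ P g

lemma exists_piece_generic [IsNoetherian X] {P : MorPred X} (h : GenericP P) (Z : Set X)
    (hZ : IsClosed Z) (hne : Z.Nonempty) :
    ∃ (T : Scheme.{u}) (g : T ⟶ X) (O : Set X), IsImmersion g ∧ P g ∧ IsOpen O ∧
      (Z ∩ O).Nonempty ∧ Z ∩ O ⊆ Set.range g := by
  obtain ⟨z, hz⟩ := hne
  let z' : Z := ⟨z, hz⟩
  have hC₀ := irreducibleComponent_mem_irreducibleComponents z'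
  obtain ⟨o, ho, ⟨w, hw⟩, hoC⟩ :=
    NoetherianSpace.exists_isOpen_nonempty_subset_irreducibleComponent (irreducibleComponent z') hC₀
  have hirr : IsIrreducible (Subtype.val '' irreducibleComponent z') :=
    isIrreducible_irreducibleComponent.image _ continuous_subtype_val.continuousOn
  have hcl : IsClosed (Subtype.val '' irreducibleComponent z') :=
    hZ.isClosedEmbedding_subtypeVal.isClosedMap _ isClosed_irreducibleComponent
  obtain ⟨x, hx⟩ := QuasiSober.sober hirr hcl
  obtain ⟨O₂, hO₂, rfl⟩ := isOpen_induced_iff.1 ho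
  obtain ⟨V, T, g, hg, hxV, hrange, hPg⟩ := h x
  have hxO₂ : x ∈ O₂ := (hx.mem_open_set_iff hO₂).2 ⟨w.1, ⟨w, hoC hw, rfl⟩, hw⟩
  have hxC : x ∈ Subtype.val '' irreducibleComponent z' := by
    rw [← hx.def]; exact subset_closure rfl
  have hxZ : x ∈ Z := by
    obtain ⟨y, -, rfl⟩ := hxC
    exact y.2
  refine ⟨T, g, (V : Set X) ∩ O₂, hg, hPg, V.2.inter hO₂, ⟨x, hxZ, hxV, hxO₂⟩, ?_⟩
  rintro y ⟨hyZ, hyV, hyO⟩
  rw [hrange, hx.def]
  exact ⟨hyV, ⟨y, hyZ⟩, hoC (show (⟨y, hyZ⟩ : Z) ∈ Subtype.val ⁻¹' O₂ from hyO), rfl⟩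

lemma exists_cover_generic [IsNoetherian X] {P : MorPred X} (h : GenericP P) (Z : Closeds X) :
    ∃ (κ : Type) (_ : Finite κ) (S : κ → Scheme.{u}) (r : ∀ a, S a ⟶ X),
      (∀ a, IsImmersion (r a)) ∧ (∀ a, P (r a)) ∧ (Z : Set X) ⊆ ⋃ a, Set.range (r a) := by
  induction Z using WellFoundedLT.induction with
  | ind Z ih =>
    by_cases hne : (Z : Set X).Nonempty
    · obtain ⟨S, r, O, hr1, hr2, hO, hne', hsub⟩ := exists_piece_generic h Z Z.isClosed hne
      let Z' : Closeds X := ⟨(Z : Set X) ∩ Oᶜ, Z.isClosed.inter hO.isClosed_compl⟩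
      have hlt : Z' < Z := by
        refine lt_of_le_of_ne (fun x hx => hx.1) (fun h => ?_)
        obtain ⟨x, hxZ, hxO⟩ := hne'
        have : x ∈ Z' := by rw [h]; exact hxZ
        exact this.2 hxO
      obtain ⟨κ, hκ, S', r', h1, h2, h3⟩ := ih Z' hlt
      refine ⟨Option κ, inferInstance, fun a => a.elim S S',
        fun a => match a with
          | none => r
          | some b => r' b, ?_, ?_, ?_⟩
      · rintro (_ | b)
        · exact hr1
        · exact h1 b
      · rintro (_ | b)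
        · exact hr2
        · exact h2 b
      · intro x hx
        by_cases hxO : x ∈ O
        · exact Set.mem_iUnion.2 ⟨none, hsub ⟨hx, hxO⟩⟩
        · obtain ⟨b, hb⟩ := Set.mem_iUnion.1 (h3 (show x ∈ (Z' : Set X) from ⟨hx, hxO⟩))
          exact Set.mem_iUnion.2 ⟨some b, hb⟩
    · refine ⟨PEmpty, inferInstance, fun a => a.elim, fun a => a.elim, fun a => a.elim,
        fun a => a.elim, ?_⟩
      intro x hx
      exact (hne ⟨x, hx⟩).elim

theorem strataP_of_genericP [IsNoetherian X] {P : MorPred X} (hP : P.Stable) (h : GenericP P) :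
    StrataP P (Set.univ : Set X) := by
  obtain ⟨κ, hκ, S, r, h1, h2, h3⟩ := exists_cover_generic h ⊤
  refine StrataP.univ_of_finite_cover hP S r h1
    (fun a => have := h1 a; isConstructible_of_isLocallyClosed (r a).isLocallyClosed_range)
    (Set.eq_univ_of_univ_subset h3) h2

lemma GenericP.pull_open {P : MorPred X} (hP : P.Stable) (h : GenericP P) (U : X.Opens) :
    GenericP (P.pull U.ι) := by
  intro x
  obtain ⟨V, T, g, hg, hxV, hrange, hPg⟩ := h (U.ι x)
  refine ⟨U.ι ⁻¹ᵁ V, pullback g U.ι, pullback.snd g U.ι, inferInstance, hxV, ?_, ?_⟩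
  · rw [Scheme.Pullback.range_snd, hrange, Set.preimage_inter,
      U.ι.isEmbedding.isInducing.closure_eq_preimage_closure_image, Set.image_singleton]
    rfl
  · show P (pullback.snd g U.ι ≫ U.ι)
    rw [← pullback.condition]
    exact hP _ _ hPg

lemma genericP_of_strataP {P : MorPred X} (hP : P.Stable) (U : X.Opens)
    (hU : StrataP P (U : Set X)) (x : X) (hx : x ∈ U) :
    ∃ (V : X.Opens) (T : Scheme.{u}) (g : T ⟶ X), IsImmersion g ∧ x ∈ V ∧
      Set.range g = (V : Set X) ∩ closure {x} ∧ P g := by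
  obtain ⟨n, T, g, h1, h2, h3, h4, h5⟩ := hU
  have hx' : x ∈ ⋃ i, Set.range (g i) := by rw [h4]; exact hx
  obtain ⟨i, hi⟩ := Set.mem_iUnion.1 hx'
  have := h1 i
  obtain ⟨O, C, hO, hC, hOC⟩ := (g i).isLocallyClosed_range
  rw [hOC] at hi
  have hcl : closure {x} ⊆ C := hC.closure_subset_iff.2 (Set.singleton_subset_iff.2 hi.2)
  obtain ⟨T', j', hj'1, hj'2⟩ := exists_immersion_range_eq (O ∩ closure {x})
    (hO.isLocallyClosed.inter isClosed_closure.isLocallyClosed)
  refine ⟨⟨O, hO⟩, pullback (g i) j', pullback.fst (g i) j' ≫ g i, inferInstance, hi.1, ?_,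
    hP _ _ (h5 i)⟩
  rw [Scheme.Pullback.range_fst_comp, hj'2, hOC]
  ext y
  simp only [Set.mem_inter_iff, Opens.coe_mk]
  constructor
  · rintro ⟨-, h⟩
    exact h
  · rintro ⟨h1, h2⟩
    exact ⟨⟨h1, hcl h2⟩, h1, h2⟩

end Groth.Agent.R2.H29.Generic
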