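import Groth.Agent.R2.H29Strata

/-!
# Constructible topology lemmas and refinement of finite covers by constructible locally closed sets

* `isCompact_of_isConstructible`, `exists_finset_cover_of_isConstructible` (compactness of the constructible
  topology), `exists_compact_open_sdiff`, `isConstructible_image_of_isEmbedding`;
* `atom G σ`: atoms of the Boolean algebra generated by finitely many compact opens;
* `StrataP.univ_of_finite_cover`, `StrataP.univ_of_immersion_cover`.
-/

set_option autoImplicit false
open CategoryTheory CategoryTheory.Limits AlgebraicGeometry Opposite TopologicalSpace Topology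
universe u

namespace Groth.Agent.R2.H29.Strata

section Top

variable {X : Type*} [TopologicalSpace X]

/-- constructible subsets of a quasi-compact space are quasi-compact -/
lemma isCompact_of_isConstructible [CompactSpace X] {s : Set X} (hs : IsConstructible s) :
    IsCompact s := by
  induction s, hs using BooleanSubalgebra.closure_sdiff_sup_induction with
  | isSublattice =>
    exact ⟨fun s hs t ht ↦ ⟨hs.1.union ht.1, hs.2.union ht.2⟩,
      fun s hs t ht ↦ ⟨hs.1.inter ht.1, hs.2.inter_isOpen ht.2 ht.1⟩⟩
  | bot_mem => exact ⟨isOpen_empty, .empty⟩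
  | top_mem => exact ⟨isOpen_univ, .univ⟩
  | sdiff U hU V hV => exact hU.2.isCompact.diff hV.1
  | sup s _ t _ hs' ht' => exact hs'.union ht'

/-- constructible sets are open in the constructible topology -/
lemma isOpen_constructibleTopology_of_isConstructible [CompactSpace X] {s : Set X}
    (hs : IsConstructible s) : IsOpen[constructibleTopology X] s := by
  suffices h : IsOpen[constructibleTopology X] s ∧ IsOpen[constructibleTopology X] sᶜ from h.1
  induction hs using IsConstructible.empty_union_induction with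
  | open_retrocompact U hUopen hUcomp =>
    exact ⟨hUcomp.isCompact.isOpen_constructibleTopology_of_isOpen hUopen,
      IsCompact.isOpen_constructibleTopology_of_isClosed (by rw [compl_compl]; exact hUcomp.isCompact)
        hUopen.isClosed_compl⟩
  | union s hs t ht hs' ht' =>
    refine ⟨?_, ?_⟩
    · rw [← Set.sUnion_pair]
      refine (constructibleTopology X).isOpen_sUnion _ ?_
      rintro u (rfl | rfl)
      · exact hs'.1
      · exact ht'.1
    · rw [Set.compl_union]
      exact (constructibleTopology X).isOpen_inter _ _ hs'.2 ht'.2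
  | compl s hs hs' =>
    refine ⟨hs'.2, ?_⟩
    rw [compl_compl]
    exact hs'.1

/-- a cover of a spectral space by constructible sets has a finite subcover -/
lemma exists_finset_cover_of_isConstructible [CompactSpace X] [QuasiSober X] [PrespectralSpace X]
    [QuasiSeparatedSpace X] {ι : Type*} (R : ι → Set X) (hR : ∀ i, IsConstructible (R i))
    (hcov : (⋃ i, R i) = Set.univ) : ∃ t : Finset ι, (⋃ i ∈ t, R i) = Set.univ := by
  have hc : CompactSpace (WithConstructibleTopology X) := inferInstance
  obtain ⟨t, ht⟩ := (isCompact_univ (X := WithConstructibleTopology X)).elim_finite_subcover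
    (fun i => WithTopology.ofTopology ⁻¹' R i)
    (fun i => (WithTopology.isOpen_iff _).2 (isOpen_constructibleTopology_of_isConstructible (hR i)))
    (fun x _ => by
      have : WithTopology.ofTopology x ∈ ⋃ i, R i := by rw [hcov]; trivial
      obtain ⟨i, hi⟩ := Set.mem_iUnion.1 this
      exact Set.mem_iUnion.2 ⟨i, hi⟩)
  refine ⟨t, Set.eq_univ_of_forall fun x => ?_⟩
  have := ht (Set.mem_univ (WithTopology.toTopology _ x))
  obtain ⟨i, hi, hx⟩ := Set.mem_iUnion₂.1 this
  exact Set.mem_iUnion₂.2 ⟨i, hi, hx⟩

/-- a constructible locally closed subset of a spectral space is a difference of compact opens -/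
lemma exists_compact_open_sdiff [CompactSpace X] [PrespectralSpace X] [QuasiSeparatedSpace X]
    {R : Set X} (hc : IsConstructible R) (hl : IsLocallyClosed R) :
    ∃ O O' : Set X, IsOpen O ∧ IsCompact O ∧ IsOpen O' ∧ IsCompact O' ∧ R = O \ O' := by
  obtain ⟨U, C, hU, hC, rfl⟩ := hl
  obtain ⟨O, hOc, hOo, hRO, hOU⟩ := PrespectralSpace.exists_isCompact_and_isOpen_between
    (isCompact_of_isConstructible hc) hU Set.inter_subset_left
  have hR : U ∩ C = O ∩ C := by
    apply Set.Subset.antisymm
    · exact fun x hx => ⟨hRO hx, hx.2⟩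
    · exact fun x hx => ⟨hOU hx.1, hx.2⟩
  have hO' : O \ (U ∩ C) = O ∩ Cᶜ := by
    rw [hR]
    ext x
    simp only [Set.mem_sdiff, Set.mem_inter_iff, Set.mem_compl_iff]
    tauto
  refine ⟨O, O \ (U ∩ C), hOo, hOc, ?_, ?_, ?_⟩
  · rw [hO']
    exact hOo.inter hC.isOpen_compl
  · exact isCompact_of_isConstructible ((hOc.isConstructible hOo).sdiff hc)
  · rw [Set.sdiff_sdiff_cancel_left hRO]

/-- images of constructible sets under an embedding with constructible range -/
lemma isConstructible_image_of_isEmbedding [CompactSpace X] [PrespectralSpace X]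
    [QuasiSeparatedSpace X] {T : Type*} [TopologicalSpace T] {g : T → X} (hg : IsEmbedding g)
    (hr : IsConstructible (Set.range g)) {Z : Set T} (hZ : IsConstructible Z) :
    IsConstructible (g '' Z) := by
  have hT : CompactSpace T := by
    rw [← isCompact_univ_iff, hg.isCompact_iff, Set.image_univ]
    exact isCompact_of_isConstructible hr
  induction hZ using IsConstructible.empty_union_induction with
  | open_retrocompact V hVopen hVcomp =>
    obtain ⟨O, hO, rfl⟩ := hg.isInducing.isOpen_iff.1 hVopen
    have hVc : IsCompact (g '' (g ⁻¹' O)) := hVcomp.isCompact.image hg.continuous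
    obtain ⟨W, hWc, hWo, hVW, hWO⟩ := PrespectralSpace.exists_isCompact_and_isOpen_between hVc hO
      (by rw [Set.image_preimage_eq_inter_range]; exact Set.inter_subset_left)
    have e : g '' (g ⁻¹' O) = Set.range g ∩ W := by
      apply Set.Subset.antisymm
      · exact fun x hx => ⟨Set.image_subset_range _ _ hx, hVW hx⟩
      · rw [Set.image_preimage_eq_inter_range]
        exact fun x hx => ⟨hWO hx.2, hx.1⟩
    rw [e]
    exact hr.inter (hWc.isConstructible hWo)
  | union s hs t ht hs' ht' =>
    rw [Set.image_union]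
    exact hs'.union ht'
  | compl s hs hs' =>
    rw [Set.image_compl_eq_range_sdiff_image hg.injective]
    exact hr.sdiff hs'

/-- the atoms of the Boolean algebra generated by a finite family of compact opens -/
def atom {β : Type*} (G : β → Set X) (σ : β → Bool) : Set X :=
  (⋂ b ∈ {b | σ b = true}, G b) ∩ (⋂ b ∈ {b | σ b = false}, (G b)ᶜ)

omit [TopologicalSpace X] in
lemma mem_atom {β : Type*} (G : β → Set X) (σ : β → Bool) (x : X) :
    x ∈ atom G σ ↔ ∀ b, (σ b = true ↔ x ∈ G b) := by
  simp only [atom, Set.mem_inter_iff, Set.mem_iInter, Set.mem_ofPred_eq, Set.mem_compl_iff]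
  constructor
  · rintro ⟨h1, h2⟩ b
    refine ⟨h1 b, fun hx => ?_⟩
    by_contra hb
    exact h2 b (by simpa using hb) hx
  · intro h
    exact ⟨fun b hb => (h b).1 hb, fun b hb hx => by have := (h b).2 hx; simp [hb] at this⟩

lemma isLocallyClosed_atom {β : Type*} [Finite β] (G : β → Set X) (hG : ∀ b, IsOpen (G b))
    (σ : β → Bool) : IsLocallyClosed (atom G σ) :=
  ((Set.toFinite _).isOpen_biInter fun b _ => hG b).isLocallyClosed.inter
    (isClosed_biInter fun b _ => (hG b).isClosed_compl).isLocallyClosed

lemma isConstructible_atom [QuasiSeparatedSpace X] {β : Type*} [Finite β] (G : β → Set X)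
    (hG : ∀ b, IsOpen (G b)) (hG' : ∀ b, IsCompact (G b)) (σ : β → Bool) :
    IsConstructible (atom G σ) :=
  (IsConstructible.biInter (Set.toFinite _) fun b _ => (hG' b).isConstructible (hG b)).inter
    (IsConstructible.biInter (Set.toFinite _) fun b _ => ((hG' b).isConstructible (hG b)).compl)

omit [TopologicalSpace X] in
lemma disjoint_atom {β : Type*} (G : β → Set X) {σ σ' : β → Bool} (h : σ ≠ σ') :
    Disjoint (atom G σ) (atom G σ') := by
  rw [Set.disjoint_left]
  intro x hx hx'
  apply h
  funext b
  have h1 := (mem_atom G σ x).1 hx b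
  have h2 := (mem_atom G σ' x).1 hx' b
  by_cases hb : x ∈ G b
  · rw [h1.2 hb, h2.2 hb]
  · have e1 : σ b = false := by simpa using fun h => hb (h1.1 h)
    have e2 : σ' b = false := by simpa using fun h => hb (h2.1 h)
    rw [e1, e2]

omit [TopologicalSpace X] in
lemma iUnion_atom {β : Type*} (G : β → Set X) : (⋃ σ, atom G σ) = Set.univ := by
  classical
  refine Set.eq_univ_of_forall fun x => Set.mem_iUnion.2 ⟨fun b => decide (x ∈ G b), ?_⟩
  rw [mem_atom]
  intro b
  simp

end Top

variable {X : Scheme.{u}}

/-- a finite cover of a qcqs scheme by constructible ranges of immersions satisfying `P` can be refined to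
a stratification -/
lemma StrataP.univ_of_finite_cover {P : MorPred X} (hP : P.Stable) [CompactSpace X]
    [QuasiSeparatedSpace X] {κ : Type*} [Finite κ] (S : κ → Scheme.{u}) (r : ∀ a, S a ⟶ X)
    (hr1 : ∀ a, IsImmersion (r a)) (hr2 : ∀ a, IsConstructible (Set.range (r a)))
    (hcov : (⋃ a, Set.range (r a)) = Set.univ) (hr3 : ∀ a, P (r a)) :
    StrataP P (Set.univ : Set X) := by
  have hex : ∀ a, ∃ O O' : Set X, IsOpen O ∧ IsCompact O ∧ IsOpen O' ∧ IsCompact O' ∧
      Set.range (r a) = O \ O' := fun a =>
    have := hr1 a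
    exists_compact_open_sdiff (hr2 a) (r a).isLocallyClosed_range
  choose O O' hO1 hO2 hO'1 hO'2 hR using hex
  let G : κ × Bool → Set X := fun b => if b.2 then O b.1 else O' b.1
  have hG1 : ∀ b, IsOpen (G b) := by
    rintro ⟨a, _ | _⟩
    · exact hO'1 a
    · exact hO1 a
  have hG2 : ∀ b, IsCompact (G b) := by
    rintro ⟨a, _ | _⟩
    · exact hO'2 a
    · exact hO2 a
  -- an atom meeting a range is contained in it
  have hsub : ∀ (σ : κ × Bool → Bool) (x : X), x ∈ atom G σ → ∀ a, x ∈ Set.range (r a) →
      atom G σ ⊆ Set.range (r a) := by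
    intro σ x hx a hxa y hy
    rw [hR a] at hxa ⊢
    have hx1 := (mem_atom G σ x).1 hx
    have hy1 := (mem_atom G σ y).1 hy
    refine ⟨(hy1 (a, true)).1 ((hx1 (a, true)).2 hxa.1), fun hyO' => hxa.2 ?_⟩
    exact (hx1 (a, false)).1 ((hy1 (a, false)).2 hyO')
  let β := {σ : κ × Bool → Bool // (atom G σ).Nonempty}
  have hβ : ∀ k : β, ∃ a, atom G k.1 ⊆ Set.range (r a) := by
    rintro ⟨σ, x, hx⟩
    have hx' : x ∈ ⋃ a, Set.range (r a) := by rw [hcov]; trivial
    obtain ⟨a, ha⟩ := Set.mem_iUnion.1 hx'
    exact ⟨a, hsub σ x hx a ha⟩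
  choose a ha using hβ
  choose T' j hj1 hj2 using fun k : β => exists_immersion_range_eq (atom G k.1)
    (isLocallyClosed_atom G hG1 k.1)
  have hrange : ∀ k : β, Set.range (pullback.fst (r (a k)) (j k) ≫ r (a k)) = atom G k.1 := by
    intro k
    rw [Scheme.Pullback.range_fst_comp, hj2]
    exact Set.inter_eq_right.2 (ha k)
  refine StrataP.of_finite (ι := β) (fun k => Limits.pullback (r (a k)) (j k))
    (fun k => pullback.fst (r (a k)) (j k) ≫ r (a k)) (fun k => ?_) (fun k => ?_) ?_ ?_
    (fun k => hP _ _ (hr3 _))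
  · have := hr1 (a k)
    have := hj1 k
    infer_instance
  · rw [hrange]
    exact (isConstructible_atom G hG1 hG2 k.1).preimage_of_isOpenEmbedding
      isOpen_univ.isOpenEmbedding_subtypeVal
  · intro k k' hkk'
    show Disjoint (Set.range _) (Set.range _)
    rw [hrange, hrange]
    exact disjoint_atom G fun h => hkk' (Subtype.ext h)
  · simp only [hrange]
    refine Set.eq_univ_of_forall fun x => ?_
    have hx : x ∈ ⋃ σ, atom G σ := by rw [iUnion_atom]; trivial
    obtain ⟨σ, hσ⟩ := Set.mem_iUnion.1 hx
    exact Set.mem_iUnion.2 ⟨⟨σ, x, hσ⟩, hσ⟩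

/-- stratifications of the members of a cover by immersions with constructible ranges assemble -/
lemma StrataP.univ_of_immersion_cover {P : MorPred X} (hP : P.Stable) [CompactSpace X]
    [QuasiSeparatedSpace X] {ι : Type*} (T : ι → Scheme.{u}) (g : ∀ i, T i ⟶ X)
    [∀ i, IsImmersion (g i)] (hc : ∀ i, IsConstructible (Set.range (g i)))
    (hcov : (⋃ i, Set.range (g i)) = Set.univ)
    (h : ∀ i, StrataP (P.pull (g i)) (Set.univ : Set (T i))) : StrataP P (Set.univ : Set X) := by
  obtain ⟨t, ht⟩ := exists_finset_cover_of_isConstructible (fun i => Set.range (g i)) hc hcov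
  choose n S h' h1 h2 h3 h4 h5 using h
  have hrange : ∀ (i : ι) (l : Fin (n i)), Set.range (h' i l ≫ g i) = g i '' Set.range (h' i l) := by
    intro i l
    rw [Scheme.Hom.comp_base, TopCat.coe_comp, Set.range_comp]
  refine StrataP.univ_of_finite_cover hP (κ := Σ i : ↥t, Fin (n i.1)) (fun p => S p.1.1 p.2)
    (fun p => h' p.1.1 p.2 ≫ g p.1.1) (fun p => ?_) (fun p => ?_) ?_ (fun p => h5 p.1.1 p.2)
  · have := h1 p.1.1 p.2
    infer_instance
  · rw [hrange]
    refine isConstructible_image_of_isEmbedding (g p.1.1).isEmbedding (hc _) ?_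
    have := (h2 p.1.1 p.2).image_of_isOpenEmbedding isOpen_univ.isOpenEmbedding_subtypeVal
      (by rw [Subtype.range_coe]; exact IsRetrocompact.univ)
    rwa [Subtype.image_preimage_coe, Set.univ_inter] at this
  · refine Set.eq_univ_of_forall fun x => ?_
    have hx : x ∈ ⋃ i ∈ t, Set.range (g i) := by rw [ht]; trivial
    obtain ⟨i, hi, y, rfl⟩ := Set.mem_iUnion₂.1 hx
    have hy : y ∈ ⋃ l, Set.range (h' i l) := by rw [h4 i]; trivial
    obtain ⟨l, hl⟩ := Set.mem_iUnion.1 hy
    refine Set.mem_iUnion.2 ⟨⟨⟨i, hi⟩, l⟩, ?_⟩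
    show (g i) y ∈ Set.range (h' i l ≫ g i)
    rw [hrange]
    exact ⟨y, hl, rfl⟩

end Groth.Agent.R2.H29.Strata
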