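import Groth.Agent.R2.H29SubConstr
import Groth.Agent.R2.H29EtGeneric
import Groth.Agent.Lib.Helper16EtStalk

/-!
# Ascending chains of subsheaves of a constructible abelian sheaf on a noetherian scheme
-/

set_option autoImplicit false
set_option linter.style.haveILetI false
open CategoryTheory CategoryTheory.Limits AlgebraicGeometry Opposite TopologicalSpace Topology
universe u
open Groth.Agent.R2.H29.ConstSheaf Groth.Agent.R2.H29.EtLocConst Groth.Agent.R2.H29.EtExtAb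
  Groth.Agent.R2.H29.SubConst Groth.Agent.R2.H29.Strata Groth.Agent.R2.H29.Constr
  Groth.Agent.R2.H29.SubConstr

namespace Groth.Agent.R2.H29.SubChain

variable {X : Scheme.{u}}

section

variable {F : Sheaf X.smallEtaleTopology AddCommGrpCat.{u + 1}}
  (G : ℕ → Sheaf X.smallEtaleTopology AddCommGrpCat.{u + 1}) (ι : ∀ m, G m ⟶ F)
  (j : ∀ {m m' : ℕ}, m ≤ m' → (G m ⟶ G m')) (hj : ∀ {m m' : ℕ} (h : m ≤ m'), j h ≫ ι m' = ι m)
  {V : X.Etale} {M : AddCommGrpCat.{u + 1}} (τ : M ⟶ F.obj.obj (op V))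

include hj in
lemma NW_mono_chain {W : X.Etale} (g : W ⟶ V) {m m' : ℕ} (h : m ≤ m') :
    NW (ι m) τ g ≤ NW (ι m') τ g := by
  intro a ha
  obtain ⟨t, ht⟩ := (mem_NW (ι m) τ g a).1 ha
  refine (mem_NW (ι m') τ g a).2 ⟨(j h).hom.app (op W) t, ?_⟩
  rw [← ht, ← hj h]
  rfl

include hj in
/-- an etale `W₀` over `V` and an index `m₀` from which on the value subgroups are constant -/
lemma exists_maximal_NW_chain [Finite M] (v : V.left) :
    ∃ (W₀ : X.Etale) (g₀ : W₀ ⟶ V) (_ : W₀.left) (m₀ : ℕ),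
      ∀ (m : ℕ), m₀ ≤ m → ∀ (W : X.Etale) (h : W ⟶ W₀) (_ : W.left),
        NW (ι m) τ (h ≫ g₀) = NW (ι m₀) τ g₀ := by
  classical
  let P : ℕ → Prop := fun k => ∃ (W : X.Etale) (g : W ⟶ V) (_ : W.left) (m : ℕ),
    Nat.card M - Nat.card (NW (ι m) τ g) = k
  have hP : ∃ k, P k := ⟨_, V, 𝟙 V, v, 0, rfl⟩
  obtain ⟨W₀, g₀, w₀, m₀, h₀⟩ := Nat.find_spec hP
  refine ⟨W₀, g₀, w₀, m₀, fun m hm W h w => ?_⟩
  have hle : NW (ι m₀) τ g₀ ≤ NW (ι m) τ (h ≫ g₀) :=
    (NW_mono_chain G ι j hj τ g₀ hm).trans (NW_mono (ι m) τ g₀ h)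
  have hmin : Nat.find hP ≤ Nat.card M - Nat.card (NW (ι m) τ (h ≫ g₀)) :=
    Nat.find_min' hP ⟨W, h ≫ g₀, w, m, rfl⟩
  have h1 : Nat.card (NW (ι m) τ (h ≫ g₀)) ≤ Nat.card M :=
    Nat.card_le_card_of_injective _ Subtype.coe_injective
  have h2 : Nat.card (NW (ι m₀) τ g₀) ≤ Nat.card M :=
    Nat.card_le_card_of_injective _ Subtype.coe_injective
  exact (AddSubgroup.eq_of_le_of_card_ge hle (by omega)).symm

include hj in
/-- an increasing chain of subsheaves of a sheaf trivialized with finite value group is stationary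
over some nonempty etale `W₀` -/
lemma exists_stationary [∀ m, Mono (ι m)] [Finite M] (hτ : IsTriv X.smallEtaleTopology F V τ)
    (v : V.left) :
    ∃ (W₀ : X.Etale) (_ : W₀ ⟶ V) (_ : W₀.left) (m₀ : ℕ),
      ∀ (m : ℕ) (hm : m₀ ≤ m),
        IsIso ((X.smallEtaleTopology.overPullback AddCommGrpCat.{u + 1} W₀).map (j hm)) := by
  classical
  obtain ⟨W₀, g₀, w₀, m₀, hstab⟩ := exists_maximal_NW_chain G ι j hj τ v
  refine ⟨W₀, g₀, w₀, m₀, fun m hm => ?_⟩
  have hinj : ∀ (m : ℕ) (W : X.Etale), Function.Injective ((ι m).hom.app (op W)) :=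
    fun m W => injective_app_of_mono_ab (ι m) (op W)
  have hτW : IsTriv X.smallEtaleTopology F W₀ (τ ≫ F.obj.map g₀.op) :=
    hτ.restrict X.smallEtaleTopology g₀
  haveI : Mono (j hm) := by
    haveI : Mono (j hm ≫ ι m) := by rw [hj hm]; infer_instance
    exact mono_of_mono (j hm) (ι m)
  haveI : Mono ((X.smallEtaleTopology.overPullback AddCommGrpCat.{u + 1} W₀).map (j hm)) :=
    inferInstance
  haveI : Sheaf.IsLocallySurjective
      ((X.smallEtaleTopology.overPullback AddCommGrpCat.{u + 1} W₀).map (j hm)) := by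
    constructor
    intro Y s
    rw [GrothendieckTopology.mem_over_iff, mem_smallEtale_iff]
    intro x
    have hτY : IsTriv X.smallEtaleTopology F Y.left
        ((τ ≫ F.obj.map g₀.op) ≫ F.obj.map Y.hom.op) := hτW.restrict X.smallEtaleTopology Y.hom
    obtain ⟨W', k, w', hw', ha⟩ := exists_refine_const hτY
      (fun _ : Unit => (ι m).hom.app (op Y.left) s) {()} x
    obtain ⟨a, ha⟩ := ha () (by simp)
    have haN : a ∈ NW (ι m₀) τ g₀ := by
      rw [← hstab m hm W' (k ≫ Y.hom) w']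
      refine (mem_NW (ι m) τ ((k ≫ Y.hom) ≫ g₀) a).2 ⟨(G m).obj.map k.op s, ?_⟩
      rw [nat_apply, ha, map_comp_apply, map_comp_apply]
      rfl
    obtain ⟨t, ht⟩ := (mem_NW (ι m₀) τ g₀ a).1 haN
    refine ⟨W', k, w', ?_, hw'⟩
    rw [Sieve.overEquiv_iff]
    refine ⟨(G m₀).obj.map (k ≫ Y.hom).op t, ?_⟩
    apply hinj m W'
    show (ι m).hom.app (op W') ((j hm).hom.app (op W') ((G m₀).obj.map (k ≫ Y.hom).op t)) =
      (ι m).hom.app (op W') ((G m).obj.map k.op s)
    have e1 : (ι m).hom.app (op W') ((j hm).hom.app (op W') ((G m₀).obj.map (k ≫ Y.hom).op t)) =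
        (ι m₀).hom.app (op W') ((G m₀).obj.map (k ≫ Y.hom).op t) := by
      rw [← hj hm]
      rfl
    rw [e1, nat_apply, ht, nat_apply, ha, map_comp_apply]
    rfl
  haveI : Epi ((X.smallEtaleTopology.overPullback AddCommGrpCat.{u + 1} W₀).map (j hm)) :=
    Sheaf.epi_of_isLocallySurjective _
  exact isIso_of_mono_of_epi _

end

/-- a morphism of abelian etale sheaves which is an isomorphism over an etale `W₀` is surjective on the
stalks at geometric points lifting to `W₀` -/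
lemma stalk_surjective_of_isIso_over {T : Scheme.{u}} {P Q : EtCoh.Ab T} (ψ : P ⟶ Q) (W₀ : T.Etale)
    [IsIso ((T.smallEtaleTopology.overPullback AddCommGrpCat.{u + 1} W₀).map ψ)]
    {Ω : Type u} [Field Ω] [IsSepClosed Ω] (ξ : Spec (CommRingCat.of Ω) ⟶ T)
    (x₀ : (Scheme.pointSmallEtale ξ).fiber.obj W₀) :
    Function.Surjective ((EtCoh.stalk ξ).map ψ) := by
  have : PreservesFilteredColimitsOfSize.{u, u} (forget AddCommGrpCat.{u + 1}) :=
    preservesFilteredColimitsOfSize_shrink.{u, u + 1, u, u + 1} _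
  let Φ := Scheme.pointSmallEtale ξ
  have hs : ∀ (W : T.Etale) (_ : W ⟶ W₀), Function.Surjective (ψ.hom.app (op W)) := by
    intro W h
    haveI : IsIso ((T.smallEtaleTopology.overPullback AddCommGrpCat.{u + 1} W₀).map ψ).hom :=
      (inferInstance : IsIso ((sheafToPresheaf _ _).map
        ((T.smallEtaleTopology.overPullback AddCommGrpCat.{u + 1} W₀).map ψ)))
    have : IsIso (((T.smallEtaleTopology.overPullback AddCommGrpCat.{u + 1} W₀).map ψ).hom.app
      (op (Over.mk h))) := inferInstance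
    exact (ConcreteCategory.bijective_of_isIso
      (((T.smallEtaleTopology.overPullback AddCommGrpCat.{u + 1} W₀).map ψ).hom.app
        (op (Over.mk h)))).2
  intro σ
  obtain ⟨U, u, s, rfl⟩ := Φ.toPresheafFiber_jointly_surjective (P := Q.obj) σ
  let m : Φ.fiber.Elements := IsCofiltered.min (⟨U, u⟩ : Φ.fiber.Elements) ⟨W₀, x₀⟩
  let gU : m ⟶ ⟨U, u⟩ := IsCofiltered.minToLeft _ _
  let gW : m ⟶ ⟨W₀, x₀⟩ := IsCofiltered.minToRight _ _
  have hgU : Φ.fiber.map gU.1 m.2 = u := gU.2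
  obtain ⟨t, ht⟩ := hs m.1 gW.1 (Q.obj.map gU.1.op s)
  refine ⟨Φ.toPresheafFiber m.1 m.2 P.obj t, ?_⟩
  have n1 : Φ.sheafFiber.map ψ (Φ.toPresheafFiber m.1 m.2 P.obj t) =
      Φ.toPresheafFiber m.1 m.2 Q.obj (ψ.hom.app (op m.1) t) :=
    Φ.toPresheafFiber_naturality_apply ψ.hom m.1 m.2 t
  refine n1.trans ?_
  rw [ht, Φ.toPresheafFiber_w_apply, hgU]

/-- a point `Spec Ω ⟶ X` of a field lifts through an immersion whose range contains its image -/
lemma exists_lift_immersion {X S : Scheme.{u}} (r : S ⟶ X) [IsImmersion r] {Ω : Type u} [Field Ω]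
    (ξ : Spec (CommRingCat.of Ω) ⟶ X) (s : S) (hs : r s = ξ default) :
    ∃ ξ' : Spec (CommRingCat.of Ω) ⟶ S, ξ' ≫ r = ξ ∧ ξ' default = s := by
  obtain ⟨z, hz1, hz2⟩ := Scheme.Pullback.exists_preimage_pullback (f := ξ) (g := r) default s hs.symm
  have hsurj : Function.Surjective (pullback.fst ξ r) := fun y => ⟨z, hz1.trans (Subsingleton.elim _ _)⟩
  have : Surjective (pullback.fst ξ r) := ⟨hsurj⟩
  have : IsClosedImmersion (pullback.fst ξ r) :=
    .of_isPreimmersion _ (by rw [hsurj.range_eq]; exact isClosed_univ)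
  have : IsIso (pullback.fst ξ r) := isIso_of_isClosedImmersion_of_surjective _
  refine ⟨inv (pullback.fst ξ r) ≫ pullback.snd ξ r, ?_, ?_⟩
  · rw [Category.assoc, ← pullback.condition, IsIso.inv_hom_id_assoc]
  · apply r.isEmbedding.injective
    rw [hs]
    have : inv (pullback.fst ξ r) ≫ pullback.snd ξ r ≫ r = ξ := by
      rw [← pullback.condition, IsIso.inv_hom_id_assoc]
    exact congrArg (fun f : Spec (CommRingCat.of Ω) ⟶ X => f default) this


section Chain

variable {X : Scheme.{u}} {F : EtCoh.Ab X}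

/-- a nonempty closed subset contains a nonempty relatively open piece carrying a scheme structure
along which `F` is finite locally constant -/
lemma exists_piece_flc (hF : StrataP (PF F) (Set.univ : Set X)) (Z : Set X) (hZ : IsClosed Z)
    (hne : Z.Nonempty) :
    ∃ (T : Scheme.{u}) (t : T ⟶ X) (O : Set X), IsImmersion t ∧ PF F t ∧ IsOpen O ∧
      (Z ∩ O).Nonempty ∧ Set.range t = Z ∩ O := by
  obtain ⟨n, T, g, h1, h2, h3, h4, h5⟩ := hF
  obtain ⟨j, -, Ω', hΩ', hΩ'ne, hΩ'sub⟩ := exists_open_subset_of_locallyClosed_cover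
    (Y := Z) (fun j => (Subtype.val : Z → X) ⁻¹' Set.range (g j))
    (fun j => (have := h1 j; (g j).isLocallyClosed_range).preimage continuous_subtype_val)
    Finset.univ Set.univ isOpen_univ (by haveI := hne.to_subtype; exact Set.univ_nonempty) (by
      intro z _
      have hz : z.1 ∈ ⋃ i, Set.range (g i) := by rw [h4]; trivial
      obtain ⟨i, hi⟩ := Set.mem_iUnion.1 hz
      exact Set.mem_iUnion₂.2 ⟨i, Finset.mem_univ i, hi⟩)
  obtain ⟨O, hO, rfl⟩ := isOpen_induced_iff.1 hΩ'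
  have hL' : Z ∩ O ⊆ Set.range (g j) := by
    rintro x ⟨hxZ, hxO⟩
    exact (hΩ'sub (show (⟨x, hxZ⟩ : Z) ∈ Subtype.val ⁻¹' O from hxO)).2
  have hL'ne : (Z ∩ O).Nonempty := by
    obtain ⟨z, hz⟩ := hΩ'ne
    exact ⟨z.1, z.2, hz⟩
  obtain ⟨T', j', hj'1, hj'2⟩ := exists_immersion_range_eq (Z ∩ O)
    (hZ.isLocallyClosed.inter hO.isLocallyClosed)
  have := h1 j
  refine ⟨pullback (g j) j', pullback.fst (g j) j' ≫ g j, O, inferInstance,
    PF_stable F _ _ (h5 j), hO, hL'ne, ?_⟩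
  rw [Scheme.Pullback.range_fst_comp, hj'2]
  exact Set.inter_eq_right.2 hL'

variable (G : ℕ → EtCoh.Ab X) (ι : ∀ m, G m ⟶ F) [∀ m, Mono (ι m)]
  (j : ∀ {m m' : ℕ}, m ≤ m' → (G m ⟶ G m')) (hj : ∀ {m m' : ℕ} (h : m ≤ m'), j h ≫ ι m' = ι m)

include hj in
/-- one step of the noetherian induction for chains -/
lemma exists_piece_chain (hF : StrataP (PF F) (Set.univ : Set X)) (Z : Set X) (hZ : IsClosed Z)
    (hne : Z.Nonempty) :
    ∃ (T : Scheme.{u}) (t : T ⟶ X) (W₀ : T.Etale) (m₀ : ℕ) (O : Set X), IsImmersion t ∧ IsOpen O ∧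
      (Z ∩ O).Nonempty ∧ Z ∩ O ⊆ t '' Set.range W₀.hom.base ∧
      ∀ (m : ℕ) (hm : m₀ ≤ m), IsIso ((T.smallEtaleTopology.overPullback AddCommGrpCat.{u + 1} W₀).map
        ((EtCoh.pull t).map (j hm))) := by
  obtain ⟨T, t, O₁, ht1, hFt, hO₁, hne₁, hrange⟩ := exists_piece_flc hF Z hZ hne
  obtain ⟨x₀, hx₀⟩ := hne₁
  rw [← hrange] at hx₀
  obtain ⟨y₀, -⟩ := hx₀
  obtain ⟨ι', U, hU, h⟩ := hFt
  obtain ⟨i, y, hy⟩ := hU y₀
  obtain ⟨M, _, _, ⟨α⟩⟩ := h i
  have hτ := isTriv_of_iso T.smallEtaleTopology ((EtCoh.pull t).obj F) (U i) α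
  haveI : ∀ m, Mono ((EtCoh.pull t).map (ι m)) := fun m => Groth.Agent.S0101.mono_pull_map t (ι m)
  obtain ⟨W₀, g₀, w₀, m₀, hiso⟩ := exists_stationary (fun m => (EtCoh.pull t).obj (G m))
    (fun m => (EtCoh.pull t).map (ι m)) (fun h => (EtCoh.pull t).map (j h))
    (fun h => by rw [← Functor.map_comp, hj h]) _ hτ y
  obtain ⟨O'', hO'', hVO''⟩ := t.isEmbedding.isInducing.isOpen_iff.1
    W₀.hom.isOpenMap.isOpen_range
  have himg : t '' Set.range W₀.hom.base = Z ∩ (O₁ ∩ O'') := by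
    rw [← hVO'', Set.image_preimage_eq_range_inter, hrange, Set.inter_assoc]
  refine ⟨T, t, W₀, m₀, O₁ ∩ O'', ht1, hO₁.inter hO'', ?_, himg.symm.subset, hiso⟩
  rw [← himg]
  exact ⟨t (W₀.hom.base w₀), W₀.hom.base w₀, ⟨w₀, rfl⟩, rfl⟩

end Chain

section Final

variable {X : Scheme.{u}} {F : EtCoh.Ab X}
variable (G : ℕ → EtCoh.Ab X) (ι : ∀ m, G m ⟶ F) [∀ m, Mono (ι m)]
  (j : ∀ {m m' : ℕ}, m ≤ m' → (G m ⟶ G m')) (hj : ∀ {m m' : ℕ} (h : m ≤ m'), j h ≫ ι m' = ι m)

include hj in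
lemma j_comp {a b c : ℕ} (h₁ : a ≤ b) (h₂ : b ≤ c) : j h₁ ≫ j h₂ = j (h₁.trans h₂) := by
  rw [← cancel_mono (ι c), Category.assoc, hj, hj, hj]

include hj in
lemma isIso_upgrade {T : Scheme.{u}} (t : T ⟶ X) (W : T.Etale) {m₀ N : ℕ} (h : m₀ ≤ N)
    (hiso : ∀ (m : ℕ) (hm : m₀ ≤ m),
      IsIso ((T.smallEtaleTopology.overPullback AddCommGrpCat.{u + 1} W).map
        ((EtCoh.pull t).map (j hm))))
    (m : ℕ) (hm : N ≤ m) :
    IsIso ((T.smallEtaleTopology.overPullback AddCommGrpCat.{u + 1} W).map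
      ((EtCoh.pull t).map (j hm))) := by
  have h1 := hiso N h
  have h2 := hiso m (h.trans hm)
  rw [← j_comp G ι j hj h hm, Functor.map_comp, Functor.map_comp] at h2
  exact IsIso.of_isIso_comp_left
    ((T.smallEtaleTopology.overPullback AddCommGrpCat.{u + 1} W).map ((EtCoh.pull t).map (j h))) _

include hj in
/-- noetherian induction: a uniform level from which on the chain is stationary on etale pieces of
locally closed subschemes covering a given closed subset -/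
lemma exists_level [IsNoetherian X] (hF : StrataP (PF F) (Set.univ : Set X)) (Z : Closeds X) :
    ∃ N : ℕ, ∀ x ∈ (Z : Set X), ∃ (T : Scheme.{u}) (t : T ⟶ X) (W : T.Etale), IsImmersion t ∧
      x ∈ t '' Set.range W.hom.base ∧
      ∀ (m : ℕ) (hm : N ≤ m),
        IsIso ((T.smallEtaleTopology.overPullback AddCommGrpCat.{u + 1} W).map
          ((EtCoh.pull t).map (j hm))) := by
  induction Z using WellFoundedLT.induction with
  | ind Z ih =>
    by_cases hne : (Z : Set X).Nonempty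
    · obtain ⟨T, t, W₀, m₀, O, ht, hO, hne', hsub, hiso⟩ :=
        exists_piece_chain G ι j hj hF Z Z.isClosed hne
      let Z' : Closeds X := ⟨(Z : Set X) ∩ Oᶜ, Z.isClosed.inter hO.isClosed_compl⟩
      have hlt : Z' < Z := by
        refine lt_of_le_of_ne (fun x hx => hx.1) (fun h => ?_)
        obtain ⟨x, hxZ, hxO⟩ := hne'
        have : x ∈ Z' := by rw [h]; exact hxZ
        exact this.2 hxO
      obtain ⟨N', hN'⟩ := ih Z' hlt
      refine ⟨max m₀ N', fun x hx => ?_⟩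
      by_cases hxO : x ∈ O
      · exact ⟨T, t, W₀, ht, hsub ⟨hx, hxO⟩,
          isIso_upgrade G ι j hj t W₀ (le_max_left _ _) hiso⟩
      · obtain ⟨T', t', W', ht', hx', hiso'⟩ := hN' x (show x ∈ (Z' : Set X) from ⟨hx, hxO⟩)
        exact ⟨T', t', W', ht', hx', isIso_upgrade G ι j hj t' W' (le_max_right _ _) hiso'⟩
    · exact ⟨0, fun x hx => (hne ⟨x, hx⟩).elim⟩

include hj in
/-- an increasing chain of subsheaves of a constructible abelian sheaf on a noetherian scheme is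
stationary -/
theorem exists_isIso_chain [IsNoetherian X] (hF : StrataP (PF F) (Set.univ : Set X)) :
    ∃ N : ℕ, ∀ (m : ℕ) (hm : N ≤ m), IsIso (j hm) := by
  obtain ⟨N, hN⟩ := exists_level G ι j hj hF ⊤
  refine ⟨N, fun m hm => ?_⟩
  haveI : Mono (j hm) := by
    haveI : Mono (j hm ≫ ι m) := by rw [hj hm]; infer_instance
    exact mono_of_mono (j hm) (ι m)
  haveI : Epi (j hm) := by
    apply Groth.Agent.Lib.Helper16.EtStalk.epi_of_stalks
    intro Ω _ _ ξ
    obtain ⟨T, t, W, ht, ⟨y, ⟨w, hw⟩, hyx⟩, hiso⟩ := hN (ξ default) trivial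
    obtain ⟨ξ', hξ', hy⟩ := exists_lift_immersion t ξ y hyx
    subst hξ'
    obtain ⟨l, hl, -⟩ := Scheme.exists_fac_of_etale_of_isSepClosed W.hom ξ' w (hw.trans hy.symm)
    have := hiso m hm
    have hsurj := stalk_surjective_of_isIso_over ((EtCoh.pull t).map (j hm)) W ξ' (Over.homMk l hl)
    have hepi : Epi ((EtCoh.pull t ⋙ EtCoh.stalk ξ').map (j hm)) :=
      (AddCommGrpCat.epi_iff_surjective _).2 hsurj
    have nat := (Groth.Agent.S0101.stalkPullIso t ξ').hom.naturality (j hm)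
    have e : (EtCoh.stalk (ξ' ≫ t)).map (j hm) =
        (Groth.Agent.S0101.stalkPullIso t ξ').hom.app (G N) ≫
          (EtCoh.pull t ⋙ EtCoh.stalk ξ').map (j hm) ≫
            (Groth.Agent.S0101.stalkPullIso t ξ').inv.app (G m) := by
      rw [← Category.assoc, ← nat, Category.assoc, Iso.hom_inv_id_app, Category.comp_id]
    have : Epi ((EtCoh.stalk (ξ' ≫ t)).map (j hm)) := by
      rw [e]; infer_instance
    exact (AddCommGrpCat.epi_iff_surjective _).1 this
  exact isIso_of_mono_of_epi _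

end Final


end Groth.Agent.R2.H29.SubChain
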