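import Groth.Agent.R2.H29SubConstrMod
import Groth.Agent.R2.H29SubChain
import Groth.Agent.R2.H29ARStalk

/-!
# Ascending chains of subsheaves of a constructible sheaf of modules on a noetherian scheme
(module version of `H29SubChain`)
-/

set_option autoImplicit false
set_option linter.style.haveILetI false
open CategoryTheory CategoryTheory.Limits AlgebraicGeometry Opposite TopologicalSpace Topology
universe u
open Groth.Agent.R2.H29.ConstSheaf Groth.Agent.R2.H29.EtLocConst Groth.Agent.R2.H29.EtExt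
  Groth.Agent.R2.H29.SubConstMod Groth.Agent.R2.H29.Strata Groth.Agent.R2.H29.ConstrMod
  Groth.Agent.R2.H29.SubConstr Groth.Agent.R2.H29.SubConstrMod Groth.Agent.R2.H29.ARStalk

namespace Groth.Agent.R2.H29.SubChainMod

variable (Λ : Type (u + 1)) [CommRing Λ]

section Stalks

variable {X : Scheme.{u}}

set_option backward.isDefEq.respectTransparency.types false in
/-- a map of sheaves of modules surjective on all geometric stalks is locally surjective -/
lemma isLocallySurjective_of_stalks {F G : EtModW.Mod Λ X} (a : F ⟶ G)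
    (h : ∀ (Ω : Type u) [Field Ω] [IsSepClosed Ω] (ξ : Spec (CommRingCat.of Ω) ⟶ X),
      Function.Surjective ((EtModW.stalk Λ ξ).map a)) :
    Sheaf.IsLocallySurjective a := by
  constructor
  intro U t
  rw [mem_smallEtale_iff]
  intro p
  obtain ⟨Ω, _, _, ξ, x₀, hx₀⟩ := Groth.Agent.Lib.Helper16.EtStalk.exists_geometric_point U p
  let Φ := Scheme.pointSmallEtale ξ
  obtain ⟨σ, hσ⟩ := h Ω ξ (Φ.toPresheafFiber U x₀ G.obj t)
  obtain ⟨V, v, s, rfl⟩ := Φ.toPresheafFiber_jointly_surjective (P := F.obj) σ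
  have n1 : (EtModW.stalk Λ ξ).map a (Φ.toPresheafFiber V v F.obj s) =
      Φ.toPresheafFiber V v G.obj (a.hom.app (op V) s) :=
    Φ.toPresheafFiber_naturality_apply a.hom V v s
  let m : Φ.fiber.Elements := IsCofiltered.min (⟨V, v⟩ : Φ.fiber.Elements) ⟨U, x₀⟩
  let gV : m ⟶ ⟨V, v⟩ := IsCofiltered.minToLeft _ _
  let gU : m ⟶ ⟨U, x₀⟩ := IsCofiltered.minToRight _ _
  have hgV : Φ.fiber.map gV.1 m.2 = v := gV.2
  have hgU : Φ.fiber.map gU.1 m.2 = x₀ := gU.2
  have e1 : Φ.toPresheafFiber m.1 m.2 G.obj (G.obj.map gU.1.op t) =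
      Φ.toPresheafFiber m.1 m.2 G.obj (G.obj.map gV.1.op (a.hom.app (op V) s)) := by
    rw [Φ.toPresheafFiber_w_apply, Φ.toPresheafFiber_w_apply, hgV, hgU, ← hσ, n1]
  obtain ⟨W', g, w', hw', hg⟩ := (Φ.toPresheafFiber_eq_iff' m.1 m.2 _ _).mp e1
  refine ⟨W', g ≫ gU.1, (w'.left : Spec (CommRingCat.of Ω) ⟶ W'.left)
    (default : Spec (CommRingCat.of Ω)), ⟨F.obj.map (g ≫ gV.1).op s, ?_⟩, ?_⟩
  · have n2 := NatTrans.naturality_apply a.hom (g ≫ gV.1).op s
    rw [n2]
    rw [op_comp, Functor.map_comp, ConcreteCategory.comp_apply, ← hg,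
      ← ConcreteCategory.comp_apply, ← Functor.map_comp, ← op_comp]
  · have e3 : w'.left ≫ (g ≫ gU.1).left = x₀.left := by
      have h1 : Φ.fiber.map (g ≫ gU.1) w' = x₀ := by
        rw [Functor.map_comp]
        change Φ.fiber.map gU.1 (Φ.fiber.map g w') = x₀
        rw [hw', hgU]
      exact congrArg (fun m => m.left) h1
    rw [← hx₀]
    exact congrArg (fun m : Spec (CommRingCat.of Ω) ⟶ U.left => m default) e3

lemma epi_of_stalks {F G : EtModW.Mod Λ X} (a : F ⟶ G)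
    (h : ∀ (Ω : Type u) [Field Ω] [IsSepClosed Ω] (ξ : Spec (CommRingCat.of Ω) ⟶ X),
      Function.Surjective ((EtModW.stalk Λ ξ).map a)) : Epi a := by
  have := isLocallySurjective_of_stalks Λ a h
  exact Sheaf.epi_of_isLocallySurjective a

end Stalks

variable {Λ}

section

variable {X : Scheme.{u}} {F : Sheaf X.smallEtaleTopology (ModuleCat.{u + 1} Λ)}
  (G : ℕ → Sheaf X.smallEtaleTopology (ModuleCat.{u + 1} Λ)) (ι : ∀ m, G m ⟶ F)
  (j : ∀ {m m' : ℕ}, m ≤ m' → (G m ⟶ G m')) (hj : ∀ {m m' : ℕ} (h : m ≤ m'), j h ≫ ι m' = ι m)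
  {V : X.Etale} {M : ModuleCat.{u + 1} Λ} (τ : M ⟶ F.obj.obj (op V))

include hj in
lemma NW_mono_chain {W : X.Etale} (g : W ⟶ V) {m m' : ℕ} (h : m ≤ m') :
    NW (ι m) τ g ≤ NW (ι m') τ g := by
  intro a ha
  obtain ⟨t, ht⟩ := (mem_NW (ι m) τ g a).1 ha
  refine (mem_NW (ι m') τ g a).2 ⟨(j h).hom.app (op W) t, ?_⟩
  rw [← ht, ← hj h]
  rfl

include hj in
/-- an etale `W₀` over `V` and an index `m₀` from which on the value submodules are constant -/
lemma exists_maximal_NW_chain [IsNoetherian Λ M] (v : V.left) :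
    ∃ (W₀ : X.Etale) (g₀ : W₀ ⟶ V) (_ : W₀.left) (m₀ : ℕ),
      ∀ (m : ℕ), m₀ ≤ m → ∀ (W : X.Etale) (h : W ⟶ W₀) (_ : W.left),
        NW (ι m) τ (h ≫ g₀) = NW (ι m₀) τ g₀ := by
  classical
  let S : Set (Submodule Λ M) :=
    {N | ∃ (W : X.Etale) (g : W ⟶ V) (_ : W.left) (m : ℕ), NW (ι m) τ g = N}
  have hS : S.Nonempty := ⟨_, V, 𝟙 V, v, 0, rfl⟩
  obtain ⟨N₀, ⟨W₀, g₀, w₀, m₀, rfl⟩, hmax⟩ := (wellFounded_gt (α := Submodule Λ M)).has_min S hS
  refine ⟨W₀, g₀, w₀, m₀, fun m hm W h w => ?_⟩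
  have hle : NW (ι m₀) τ g₀ ≤ NW (ι m) τ (h ≫ g₀) :=
    (NW_mono_chain G ι j hj τ g₀ hm).trans (NW_mono (ι m) τ g₀ h)
  by_contra hne
  exact hmax _ ⟨W, h ≫ g₀, w, m, rfl⟩ (lt_of_le_of_ne hle (Ne.symm hne))

include hj in
/-- an increasing chain of subsheaves of a sheaf trivialized with Noetherian value module is
stationary over some nonempty etale `W₀` -/
lemma exists_stationary [∀ m, Mono (ι m)] [IsNoetherian Λ M]
    (hτ : IsTriv X.smallEtaleTopology F V τ) (v : V.left) :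
    ∃ (W₀ : X.Etale) (_ : W₀ ⟶ V) (_ : W₀.left) (m₀ : ℕ),
      ∀ (m : ℕ) (hm : m₀ ≤ m),
        IsIso ((X.smallEtaleTopology.overPullback (ModuleCat.{u + 1} Λ) W₀).map (j hm)) := by
  classical
  obtain ⟨W₀, g₀, w₀, m₀, hstab⟩ := exists_maximal_NW_chain G ι j hj τ v
  refine ⟨W₀, g₀, w₀, m₀, fun m hm => ?_⟩
  have hinj : ∀ (m : ℕ) (W : X.Etale), Function.Injective ((ι m).hom.app (op W)) :=
    fun m W => injective_app_of_mono_mod (ι m) (op W)
  have hτW : IsTriv X.smallEtaleTopology F W₀ (τ ≫ F.obj.map g₀.op) :=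
    hτ.restrict X.smallEtaleTopology g₀
  haveI : Mono (j hm) := by
    haveI : Mono (j hm ≫ ι m) := by rw [hj hm]; infer_instance
    exact mono_of_mono (j hm) (ι m)
  haveI : Mono ((X.smallEtaleTopology.overPullback (ModuleCat.{u + 1} Λ) W₀).map (j hm)) :=
    inferInstance
  haveI : Sheaf.IsLocallySurjective
      ((X.smallEtaleTopology.overPullback (ModuleCat.{u + 1} Λ) W₀).map (j hm)) := by
    constructor
    intro Y s
    rw [GrothendieckTopology.mem_over_iff, mem_smallEtale_iff]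
    intro x
    have hτY : IsTriv X.smallEtaleTopology F Y.left
        ((τ ≫ F.obj.map g₀.op) ≫ F.obj.map Y.hom.op) := hτW.restrict X.smallEtaleTopology Y.hom
    obtain ⟨W', k, w', hw', ha⟩ := exists_refine_const hτY
      (fun _ : Unit => (ι m).hom.app (op Y.left) s) {()} x
    obtain ⟨a, ha⟩ := ha () (by simp)
    have haN : a ∈ NW (ι m₀) τ g₀ := by
      rw [← hstab m hm W' (k ≫ Y.hom) w']
      refine (mem_NW (ι m) τ ((k ≫ Y.hom) ≫ g₀) a).2 ⟨(G m).obj.map k.op s, ?_⟩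
      rw [nat_apply, ha, map_comp_apply, map_comp_apply]
      rfl
    obtain ⟨t, ht⟩ := (mem_NW (ι m₀) τ g₀ a).1 haN
    refine ⟨W', k, w', ?_, hw'⟩
    rw [Sieve.overEquiv_iff]
    refine ⟨(G m₀).obj.map (k ≫ Y.hom).op t, ?_⟩
    apply hinj m W'
    show (ι m).hom.app (op W') ((j hm).hom.app (op W') ((G m₀).obj.map (k ≫ Y.hom).op t)) =
      (ι m).hom.app (op W') ((G m).obj.map k.op s)
    have e1 : (ι m).hom.app (op W') ((j hm).hom.app (op W') ((G m₀).obj.map (k ≫ Y.hom).op t)) =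
        (ι m₀).hom.app (op W') ((G m₀).obj.map (k ≫ Y.hom).op t) := by
      rw [← hj hm]
      rfl
    rw [e1, nat_apply, ht, nat_apply, ha, map_comp_apply]
    rfl
  haveI : Epi ((X.smallEtaleTopology.overPullback (ModuleCat.{u + 1} Λ) W₀).map (j hm)) :=
    Sheaf.epi_of_isLocallySurjective _
  exact isIso_of_mono_of_epi _

end

/-- a morphism of sheaves of modules which is an isomorphism over an etale `W₀` is surjective on the
stalks at geometric points lifting to `W₀` -/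
lemma stalk_surjective_of_isIso_over {T : Scheme.{u}} {P Q : EtModW.Mod Λ T} (ψ : P ⟶ Q)
    (W₀ : T.Etale)
    [IsIso ((T.smallEtaleTopology.overPullback (ModuleCat.{u + 1} Λ) W₀).map ψ)]
    {Ω : Type u} [Field Ω] [IsSepClosed Ω] (ξ : Spec (CommRingCat.of Ω) ⟶ T)
    (x₀ : (Scheme.pointSmallEtale ξ).fiber.obj W₀) :
    Function.Surjective ((EtModW.stalk Λ ξ).map ψ) := by
  let Φ := Scheme.pointSmallEtale ξ
  have hs : ∀ (W : T.Etale) (_ : W ⟶ W₀), Function.Surjective (ψ.hom.app (op W)) := by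
    intro W h
    haveI : IsIso ((T.smallEtaleTopology.overPullback (ModuleCat.{u + 1} Λ) W₀).map ψ).hom :=
      (inferInstance : IsIso ((sheafToPresheaf _ _).map
        ((T.smallEtaleTopology.overPullback (ModuleCat.{u + 1} Λ) W₀).map ψ)))
    have : IsIso (((T.smallEtaleTopology.overPullback (ModuleCat.{u + 1} Λ) W₀).map ψ).hom.app
      (op (Over.mk h))) := inferInstance
    exact (ConcreteCategory.bijective_of_isIso
      (((T.smallEtaleTopology.overPullback (ModuleCat.{u + 1} Λ) W₀).map ψ).hom.app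
        (op (Over.mk h)))).2
  intro σ
  obtain ⟨U, u, s, rfl⟩ := Φ.toPresheafFiber_jointly_surjective (P := Q.obj) σ
  let m : Φ.fiber.Elements := IsCofiltered.min (⟨U, u⟩ : Φ.fiber.Elements) ⟨W₀, x₀⟩
  let gU : m ⟶ ⟨U, u⟩ := IsCofiltered.minToLeft _ _
  let gW : m ⟶ ⟨W₀, x₀⟩ := IsCofiltered.minToRight _ _
  have hgU : Φ.fiber.map gU.1 m.2 = u := gU.2
  obtain ⟨t, ht⟩ := hs m.1 gW.1 (Q.obj.map gU.1.op s)
  refine ⟨Φ.toPresheafFiber m.1 m.2 P.obj t, ?_⟩
  have n1 : Φ.sheafFiber.map ψ (Φ.toPresheafFiber m.1 m.2 P.obj t) =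
      Φ.toPresheafFiber m.1 m.2 Q.obj (ψ.hom.app (op m.1) t) :=
    Φ.toPresheafFiber_naturality_apply ψ.hom m.1 m.2 t
  refine n1.trans ?_
  rw [ht, Φ.toPresheafFiber_w_apply, hgU]

section Chain

variable {X : Scheme.{u}} {F : EtModW.Mod Λ X}

/-- a nonempty closed subset contains a nonempty relatively open piece carrying a scheme structure
along which `F` is finite type locally constant -/
lemma exists_piece_ftlc (hF : StrataP (PFm Λ F) (Set.univ : Set X)) (Z : Set X) (hZ : IsClosed Z)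
    (hne : Z.Nonempty) :
    ∃ (T : Scheme.{u}) (t : T ⟶ X) (O : Set X), IsImmersion t ∧ PFm Λ F t ∧ IsOpen O ∧
      (Z ∩ O).Nonempty ∧ Set.range t = Z ∩ O := by
  obtain ⟨n, T, g, h1, h2, h3, h4, h5⟩ := hF
  obtain ⟨j, -, Ω', hΩ', hΩ'ne, hΩ'sub⟩ := exists_open_subset_of_locallyClosed_cover
    (Y := Z) (fun j => (Subtype.val : Z → X) ⁻¹' Set.range (g j))
    (fun j => (have := h1 j; (g j).isLocallyClosed_range).preimage continuous_subtype_val)
    Finset.univ Set.univ isOpen_univ (by haveI := hne.to_subtype; exact Set.univ_nonempty) (by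
      intro z _
      have hz : z.1 ∈ ⋃ i, Set.range (g i) := by rw [h4]; trivial
      obtain ⟨i, hi⟩ := Set.mem_iUnion.1 hz
      exact Set.mem_iUnion₂.2 ⟨i, Finset.mem_univ i, hi⟩)
  obtain ⟨O, hO, rfl⟩ := isOpen_induced_iff.1 hΩ'
  have hL' : Z ∩ O ⊆ Set.range (g j) := by
    rintro x ⟨hxZ, hxO⟩
    exact (hΩ'sub (show (⟨x, hxZ⟩ : Z) ∈ Subtype.val ⁻¹' O from hxO)).2
  have hL'ne : (Z ∩ O).Nonempty := by
    obtain ⟨z, hz⟩ := hΩ'ne
    exact ⟨z.1, z.2, hz⟩
  obtain ⟨T', j', hj'1, hj'2⟩ := exists_immersion_range_eq (Z ∩ O)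
    (hZ.isLocallyClosed.inter hO.isLocallyClosed)
  have := h1 j
  refine ⟨pullback (g j) j', pullback.fst (g j) j' ≫ g j, O, inferInstance,
    PFm_stable Λ F _ _ (h5 j), hO, hL'ne, ?_⟩
  rw [Scheme.Pullback.range_fst_comp, hj'2]
  exact Set.inter_eq_right.2 hL'

variable [IsNoetherianRing Λ]
variable (G : ℕ → EtModW.Mod Λ X) (ι : ∀ m, G m ⟶ F) [∀ m, Mono (ι m)]
  (j : ∀ {m m' : ℕ}, m ≤ m' → (G m ⟶ G m')) (hj : ∀ {m m' : ℕ} (h : m ≤ m'), j h ≫ ι m' = ι m)

include hj in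
/-- one step of the noetherian induction for chains -/
lemma exists_piece_chain (hF : StrataP (PFm Λ F) (Set.univ : Set X)) (Z : Set X) (hZ : IsClosed Z)
    (hne : Z.Nonempty) :
    ∃ (T : Scheme.{u}) (t : T ⟶ X) (W₀ : T.Etale) (m₀ : ℕ) (O : Set X), IsImmersion t ∧ IsOpen O ∧
      (Z ∩ O).Nonempty ∧ Z ∩ O ⊆ t '' Set.range W₀.hom.base ∧
      ∀ (m : ℕ) (hm : m₀ ≤ m),
        IsIso ((T.smallEtaleTopology.overPullback (ModuleCat.{u + 1} Λ) W₀).map
          ((EtModW.pull Λ t).map (j hm))) := by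
  obtain ⟨T, t, O₁, ht1, hFt, hO₁, hne₁, hrange⟩ := exists_piece_ftlc hF Z hZ hne
  obtain ⟨x₀, hx₀⟩ := hne₁
  rw [← hrange] at hx₀
  obtain ⟨y₀, -⟩ := hx₀
  obtain ⟨ι', U, hU, h⟩ := hFt
  obtain ⟨i, y, hy⟩ := hU y₀
  obtain ⟨M, _, _, _, ⟨α⟩⟩ := h i
  have hτ := isTriv_of_iso T.smallEtaleTopology ((EtModW.pull Λ t).obj F) (U i) α
  haveI : IsNoetherian Λ (ModuleCat.of Λ M) := isNoetherian_of_isNoetherianRing_of_finite Λ M
  haveI : ∀ m, Mono ((EtModW.pull Λ t).map (ι m)) := fun m => mono_pull_map Λ t (ι m)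
  obtain ⟨W₀, g₀, w₀, m₀, hiso⟩ := exists_stationary (fun m => (EtModW.pull Λ t).obj (G m))
    (fun m => (EtModW.pull Λ t).map (ι m)) (fun h => (EtModW.pull Λ t).map (j h))
    (fun h => by rw [← Functor.map_comp, hj h]) _ hτ y
  obtain ⟨O'', hO'', hVO''⟩ := t.isEmbedding.isInducing.isOpen_iff.1
    W₀.hom.isOpenMap.isOpen_range
  have himg : t '' Set.range W₀.hom.base = Z ∩ (O₁ ∩ O'') := by
    rw [← hVO'', Set.image_preimage_eq_range_inter, hrange, Set.inter_assoc]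
  refine ⟨T, t, W₀, m₀, O₁ ∩ O'', ht1, hO₁.inter hO'', ?_, himg.symm.subset, hiso⟩
  rw [← himg]
  exact ⟨t (W₀.hom.base w₀), W₀.hom.base w₀, ⟨w₀, rfl⟩, rfl⟩

omit [IsNoetherianRing Λ] in
include hj in
lemma j_comp {a b c : ℕ} (h₁ : a ≤ b) (h₂ : b ≤ c) : j h₁ ≫ j h₂ = j (h₁.trans h₂) := by
  rw [← cancel_mono (ι c), Category.assoc, hj, hj, hj]

omit [IsNoetherianRing Λ] in
include hj in
lemma isIso_upgrade {T : Scheme.{u}} (t : T ⟶ X) (W : T.Etale) {m₀ N : ℕ} (h : m₀ ≤ N)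
    (hiso : ∀ (m : ℕ) (hm : m₀ ≤ m),
      IsIso ((T.smallEtaleTopology.overPullback (ModuleCat.{u + 1} Λ) W).map
        ((EtModW.pull Λ t).map (j hm))))
    (m : ℕ) (hm : N ≤ m) :
    IsIso ((T.smallEtaleTopology.overPullback (ModuleCat.{u + 1} Λ) W).map
      ((EtModW.pull Λ t).map (j hm))) := by
  have h1 := hiso N h
  have h2 := hiso m (h.trans hm)
  rw [← j_comp G ι j hj h hm, Functor.map_comp, Functor.map_comp] at h2
  exact IsIso.of_isIso_comp_left
    ((T.smallEtaleTopology.overPullback (ModuleCat.{u + 1} Λ) W).map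
      ((EtModW.pull Λ t).map (j h))) _

include hj in
/-- noetherian induction: a uniform level from which on the chain is stationary on etale pieces of
locally closed subschemes covering a given closed subset -/
lemma exists_level [IsNoetherian X] (hF : StrataP (PFm Λ F) (Set.univ : Set X)) (Z : Closeds X) :
    ∃ N : ℕ, ∀ x ∈ (Z : Set X), ∃ (T : Scheme.{u}) (t : T ⟶ X) (W : T.Etale), IsImmersion t ∧
      x ∈ t '' Set.range W.hom.base ∧
      ∀ (m : ℕ) (hm : N ≤ m),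
        IsIso ((T.smallEtaleTopology.overPullback (ModuleCat.{u + 1} Λ) W).map
          ((EtModW.pull Λ t).map (j hm))) := by
  induction Z using WellFoundedLT.induction with
  | ind Z ih =>
    by_cases hne : (Z : Set X).Nonempty
    · obtain ⟨T, t, W₀, m₀, O, ht, hO, hne', hsub, hiso⟩ :=
        exists_piece_chain G ι j hj hF Z Z.isClosed hne
      let Z' : Closeds X := ⟨(Z : Set X) ∩ Oᶜ, Z.isClosed.inter hO.isClosed_compl⟩
      have hlt : Z' < Z := by
        refine lt_of_le_of_ne (fun x hx => hx.1) (fun h => ?_)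
        obtain ⟨x, hxZ, hxO⟩ := hne'
        have : x ∈ Z' := by rw [h]; exact hxZ
        exact this.2 hxO
      obtain ⟨N', hN'⟩ := ih Z' hlt
      refine ⟨max m₀ N', fun x hx => ?_⟩
      by_cases hxO : x ∈ O
      · exact ⟨T, t, W₀, ht, hsub ⟨hx, hxO⟩,
          isIso_upgrade G ι j hj t W₀ (le_max_left _ _) hiso⟩
      · obtain ⟨T', t', W', ht', hx', hiso'⟩ := hN' x (show x ∈ (Z' : Set X) from ⟨hx, hxO⟩)
        exact ⟨T', t', W', ht', hx', isIso_upgrade G ι j hj t' W' (le_max_right _ _) hiso'⟩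
    · exact ⟨0, fun x hx => (hne ⟨x, hx⟩).elim⟩

include hj in
/-- an increasing chain of subsheaves of a constructible sheaf of modules on a noetherian scheme is
stationary -/
theorem exists_isIso_chain [IsNoetherian X] (hF : StrataP (PFm Λ F) (Set.univ : Set X)) :
    ∃ N : ℕ, ∀ (m : ℕ) (hm : N ≤ m), IsIso (j hm) := by
  obtain ⟨N, hN⟩ := exists_level G ι j hj hF ⊤
  refine ⟨N, fun m hm => ?_⟩
  haveI : Mono (j hm) := by
    haveI : Mono (j hm ≫ ι m) := by rw [hj hm]; infer_instance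
    exact mono_of_mono (j hm) (ι m)
  haveI : Epi (j hm) := by
    apply epi_of_stalks Λ
    intro Ω _ _ ξ
    obtain ⟨T, t, W, ht, ⟨y, ⟨w, hw⟩, hyx⟩, hiso⟩ := hN (ξ default) trivial
    obtain ⟨ξ', hξ', hy⟩ := Groth.Agent.R2.H29.SubChain.exists_lift_immersion t ξ y hyx
    subst hξ'
    obtain ⟨l, hl, -⟩ := Scheme.exists_fac_of_etale_of_isSepClosed W.hom ξ' w (hw.trans hy.symm)
    have := hiso m hm
    have hsurj := stalk_surjective_of_isIso_over ((EtModW.pull Λ t).map (j hm)) W ξ'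
      (Over.homMk l hl)
    have hepi : Epi ((EtModW.pull Λ t ⋙ EtModW.stalk Λ ξ').map (j hm)) :=
      (ModuleCat.epi_iff_surjective _).2 hsurj
    have nat := (stalkPullIsoMod Λ t ξ').hom.naturality (j hm)
    have e : (EtModW.stalk Λ (ξ' ≫ t)).map (j hm) =
        (stalkPullIsoMod Λ t ξ').hom.app (G N) ≫
          (EtModW.pull Λ t ⋙ EtModW.stalk Λ ξ').map (j hm) ≫
            (stalkPullIsoMod Λ t ξ').inv.app (G m) := by
      rw [← Category.assoc, ← nat, Category.assoc, Iso.hom_inv_id_app, Category.comp_id]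
    have : Epi ((EtModW.stalk Λ (ξ' ≫ t)).map (j hm)) := by
      rw [e]; infer_instance
    exact (ModuleCat.epi_iff_surjective _).1 this
  exact isIso_of_mono_of_epi _

/-- constructible sheaves of modules on a noetherian scheme are noetherian objects -/
theorem isNoetherianObject_of_isConstructible [IsNoetherian X]
    (hF : EtModW.IsConstructible Λ F) : IsNoetherianObject F := by
  rw [isConstructible_iff] at hF
  have hF' : StrataP (PFm Λ F) (Set.univ : Set X) := StrataP.univ_of_affine (PFm_stable Λ F) hF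
  rw [isNoetherianObject_iff_monotone_chain_condition]
  intro c
  obtain ⟨N, hN⟩ := exists_isIso_chain (fun m => (c m : EtModW.Mod Λ X)) (fun m => (c m).arrow)
    (fun {m m'} h => Subobject.ofLE (c m) (c m') (c.monotone h))
    (fun {m m'} h => Subobject.ofLE_arrow (c.monotone h)) hF'
  refine ⟨N, fun m hm => (le_antisymm ?_ (c.monotone hm)).symm⟩
  have := hN m hm
  exact Subobject.le_of_comm (inv (Subobject.ofLE (c N) (c m) (c.monotone hm)))
    (by rw [IsIso.inv_comp_eq, Subobject.ofLE_arrow])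

end Chain

end Groth.Agent.R2.H29.SubChainMod
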