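import Groth.Agent.R2.H29EtExtAb
import Groth.Agent.R2.H29ConstExact

set_option autoImplicit false
set_option linter.style.haveILetI false
open CategoryTheory CategoryTheory.Limits AlgebraicGeometry Opposite
universe u
open Groth.Agent.R2.H29.ConstSheaf Groth.Agent.R2.H29.EtLocConst Groth.Agent.R2.H29.EtExtAb

namespace Groth.Agent.R2.H29.SubConst

variable {X : Scheme.{u}}


section

variable {F G : Sheaf X.smallEtaleTopology AddCommGrpCat.{u + 1}} (ι : G ⟶ F)

lemma nat_apply {P Q : Sheaf X.smallEtaleTopology AddCommGrpCat.{u + 1}} (φ : P ⟶ Q) {V W : X.Etale} (g : W ⟶ V)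
    (y : ToType (P.obj.obj (op V))) :
    φ.hom.app (op W) (P.obj.map g.op y) = Q.obj.map g.op (φ.hom.app (op V) y) := by
  have := congrArg (fun f => (ConcreteCategory.hom f) y) (φ.hom.naturality g.op)
  simpa only [ConcreteCategory.comp_apply] using this

lemma map_comp_apply (P : Sheaf X.smallEtaleTopology AddCommGrpCat.{u + 1}) {U V W : X.Etale} (g : W ⟶ V) (h : V ⟶ U)
    (y : ToType (P.obj.obj (op U))) :
    P.obj.map (g ≫ h).op y = P.obj.map g.op (P.obj.map h.op y) := by
  rw [op_comp, P.obj.map_comp, ConcreteCategory.comp_apply]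

variable {V : X.Etale} {M : AddCommGrpCat.{u + 1}} (τ : M ⟶ F.obj.obj (op V))

/-- the subgroup of those values whose constant section comes from `G` over `W` -/
def NW {W : X.Etale} (g : W ⟶ V) : AddSubgroup M :=
  AddSubgroup.comap (τ ≫ F.obj.map g.op).hom (AddMonoidHom.range (ι.hom.app (op W)).hom)

lemma mem_NW {W : X.Etale} (g : W ⟶ V) (m : M) :
    m ∈ NW ι τ g ↔ ∃ t : ToType (G.obj.obj (op W)), ι.hom.app (op W) t = F.obj.map g.op (τ m) :=
  Iff.rfl

lemma NW_mono {W W' : X.Etale} (g : W ⟶ V) (h : W' ⟶ W) : NW ι τ g ≤ NW ι τ (h ≫ g) := by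
  intro m hm
  obtain ⟨t, ht⟩ := (mem_NW ι τ g m).1 hm
  refine (mem_NW ι τ (h ≫ g) m).2 ⟨G.obj.map h.op t, ?_⟩
  rw [nat_apply, ht, map_comp_apply]

/-- an etale `W₀` over `V` on which the value subgroup is maximal, hence stable under refinement -/
lemma exists_maximal_NW [Finite M] (v : V.left) :
    ∃ (W₀ : X.Etale) (g₀ : W₀ ⟶ V) (_ : W₀.left),
      ∀ (W : X.Etale) (h : W ⟶ W₀) (_ : W.left), NW ι τ (h ≫ g₀) = NW ι τ g₀ := by
  classical
  let P : ℕ → Prop := fun k => ∃ (W : X.Etale) (g : W ⟶ V) (_ : W.left),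
    Nat.card M - Nat.card (NW ι τ g) = k
  have hP : ∃ k, P k := ⟨_, V, 𝟙 V, v, rfl⟩
  obtain ⟨W₀, g₀, w₀, h₀⟩ := Nat.find_spec hP
  refine ⟨W₀, g₀, w₀, fun W h w => ?_⟩
  have hle := NW_mono ι τ g₀ h
  have hmin : Nat.find hP ≤ Nat.card M - Nat.card (NW ι τ (h ≫ g₀)) :=
    Nat.find_min' hP ⟨W, h ≫ g₀, w, rfl⟩
  have h1 : Nat.card (NW ι τ (h ≫ g₀)) ≤ Nat.card M := Nat.card_le_card_of_injective _ Subtype.coe_injective
  have h2 : Nat.card (NW ι τ g₀) ≤ Nat.card M := Nat.card_le_card_of_injective _ Subtype.coe_injective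
  exact (AddSubgroup.eq_of_le_of_card_ge hle (by omega)).symm

/-- a subsheaf of a sheaf trivialized with finite value group is constant on some nonempty etale
scheme over the trivializing one -/
lemma exists_isTriv_sub [Mono ι] [Finite M] (hτ : IsTriv X.smallEtaleTopology F V τ) (v : V.left) :
    ∃ (W₀ : X.Etale) (_ : W₀ ⟶ V) (_ : W₀.left) (N : AddSubgroup M)
      (τ' : AddCommGrpCat.of N ⟶ G.obj.obj (op W₀)), IsTriv X.smallEtaleTopology G W₀ τ' := by
  classical
  obtain ⟨W₀, g₀, w₀, hstab⟩ := exists_maximal_NW ι τ v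
  have hinj : ∀ W : X.Etale, Function.Injective (ι.hom.app (op W)) :=
    fun W => injective_app_of_mono_ab ι (op W)
  let N : AddSubgroup M := NW ι τ g₀
  let ρ : M →+ F.obj.obj (op W₀) := (τ ≫ F.obj.map g₀.op).hom
  obtain ⟨f, hf⟩ := exists_addMonoidHom_factor (ρ.comp N.subtype) (ι.hom.app (op W₀)).hom (hinj W₀)
    (fun m => by
      obtain ⟨t, ht⟩ := (mem_NW ι τ g₀ m.1).1 m.2
      exact ⟨t, ht.symm⟩)
  let τ' : AddCommGrpCat.of N ⟶ G.obj.obj (op W₀) := AddCommGrpCat.ofHom f
  have hτW : IsTriv X.smallEtaleTopology F W₀ (τ ≫ F.obj.map g₀.op) :=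
    hτ.restrict X.smallEtaleTopology g₀
  have hcomp := trivMap_comp_eq X.smallEtaleTopology ι W₀ τ' (τ ≫ F.obj.map g₀.op)
    (AddCommGrpCat.ofHom N.subtype) (by
      ext m
      exact (hf m).symm)
  refine ⟨W₀, g₀, w₀, N, τ', ?_⟩
  -- mono
  have hmono : Mono (trivMap X.smallEtaleTopology G W₀ τ') := by
    haveI : IsIso (trivMap X.smallEtaleTopology F W₀ (τ ≫ F.obj.map g₀.op)) := hτW
    haveI : Mono (AddCommGrpCat.ofHom N.subtype) :=
      (AddCommGrpCat.mono_iff_injective _).2 N.subtype_injective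
    haveI : Mono ((constantSheaf (X.smallEtaleTopology.over W₀) AddCommGrpCat.{u + 1}).map
        (AddCommGrpCat.ofHom N.subtype)) := inferInstance
    haveI : Mono (trivMap X.smallEtaleTopology G W₀ τ' ≫
        (X.smallEtaleTopology.overPullback AddCommGrpCat.{u + 1} W₀).map ι) := by
      rw [hcomp]
      infer_instance
    exact mono_of_mono _ ((X.smallEtaleTopology.overPullback AddCommGrpCat.{u + 1} W₀).map ι)
  -- epi
  have hepi : Epi (trivMap X.smallEtaleTopology G W₀ τ') := by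
    haveI : Sheaf.IsLocallySurjective (trivMap X.smallEtaleTopology G W₀ τ') := by
      constructor
      intro Y s
      rw [GrothendieckTopology.mem_over_iff, mem_smallEtale_iff]
      intro x
      -- `ι s` is locally a constant section
      have hτY : IsTriv X.smallEtaleTopology F Y.left
          ((τ ≫ F.obj.map g₀.op) ≫ F.obj.map Y.hom.op) := hτW.restrict X.smallEtaleTopology Y.hom
      obtain ⟨W, k, w, hw, hm⟩ := exists_refine_const hτY
        (fun _ : Unit => ι.hom.app (op Y.left) s) {()} x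
      obtain ⟨m, hm⟩ := hm () (by simp)
      -- `m` lies in `N`
      have hmN : m ∈ N := by
        have e := hstab W (k ≫ Y.hom) w
        show m ∈ NW ι τ g₀
        rw [← e]
        refine (mem_NW ι τ ((k ≫ Y.hom) ≫ g₀) m).2 ⟨G.obj.map k.op s, ?_⟩
        rw [nat_apply, hm, map_comp_apply, map_comp_apply]
        rfl
      refine ⟨W, k, w, ?_, hw⟩
      rw [Sieve.overEquiv_iff]
      let Y' : Over W₀ := Over.mk (k ≫ Y.hom)
      refine ⟨constSec (X.smallEtaleTopology.over W₀) AddCommGrpCat.{u + 1} (AddCommGrpCat.of N) Y'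
        ⟨m, hmN⟩, ?_⟩
      have h2 := congrArg (fun φ => (ConcreteCategory.hom φ) (⟨m, hmN⟩ : N))
        (constSec_trivMap_app X.smallEtaleTopology G W₀ τ' Y')
      simp only [ConcreteCategory.comp_apply] at h2
      refine h2.trans ?_
      apply hinj W
      show ι.hom.app (op W) (G.obj.map (k ≫ Y.hom).op (f ⟨m, hmN⟩)) =
        ι.hom.app (op W) (G.obj.map k.op s)
      rw [nat_apply, nat_apply, ← hf ⟨m, hmN⟩, hm, map_comp_apply]
      rfl
    exact Sheaf.epi_of_isLocallySurjective _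
  exact isIso_of_mono_of_epi _

end

end Groth.Agent.R2.H29.SubConst
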