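import Groth.Agent.R2.H29SubConst
import Groth.Agent.R2.H29EtPull
import Groth.Agent.R2.H29Constr
import Groth.Agent.R2.H29Strata2

/-!
# Subsheaves of constructible abelian sheaves on noetherian schemes

`strataP_sub`: on a noetherian scheme a subsheaf of a constructible abelian etale sheaf is constructible.
Noetherian induction on closed subsets; the key step `exists_open_flc_sub` (a subsheaf of a finite locally
constant sheaf is finite locally constant on a nonempty open) comes from `H29SubConst.exists_isTriv_sub`.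
-/

set_option autoImplicit false
set_option linter.style.haveILetI false
open CategoryTheory CategoryTheory.Limits AlgebraicGeometry Opposite TopologicalSpace Topology
universe u
open Groth.Agent.R2.H29.ConstSheaf Groth.Agent.R2.H29.EtLocConst Groth.Agent.R2.H29.EtExtAb
  Groth.Agent.R2.H29.SubConst Groth.Agent.R2.H29.EtPull Groth.Agent.R2.H29.Strata
  Groth.Agent.R2.H29.Constr

namespace Groth.Agent.R2.H29.SubConstr

/-- if finitely many locally closed sets cover a nonempty open set, one of them contains a nonempty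
open subset of it -/
lemma exists_open_subset_of_locallyClosed_cover {Y : Type*} [TopologicalSpace Y] {ι : Type*}
    (L : ι → Set Y) (hL : ∀ j, IsLocallyClosed (L j)) (s : Finset ι) :
    ∀ (Ω : Set Y), IsOpen Ω → Ω.Nonempty → Ω ⊆ ⋃ j ∈ s, L j →
      ∃ j ∈ s, ∃ Ω' : Set Y, IsOpen Ω' ∧ Ω'.Nonempty ∧ Ω' ⊆ Ω ∩ L j := by
  classical
  induction s using Finset.induction_on with
  | empty =>
    intro Ω _ hne hcov
    obtain ⟨y, hy⟩ := hne
    have := hcov hy
    simp at this
  | insert a s ha ih =>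
    intro Ω hΩ hne hcov
    obtain ⟨O, C, hO, hC, hOC⟩ := hL a
    by_cases h1 : (Ω ∩ O) ⊆ C
    · by_cases h2 : (Ω ∩ O).Nonempty
      · refine ⟨a, Finset.mem_insert_self a s, Ω ∩ O, hΩ.inter hO, h2, ?_⟩
        intro y hy
        refine ⟨hy.1, ?_⟩
        rw [hOC]
        exact ⟨hy.2, h1 hy⟩
      · -- Ω is disjoint from `L a`
        have hcov' : Ω ⊆ ⋃ j ∈ s, L j := by
          intro y hy
          have := hcov hy
          simp only [Finset.mem_insert, Set.iUnion_iUnion_eq_or_left, Set.mem_union] at this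
          rcases this with h | h
          · exfalso
            rw [hOC] at h
            exact h2 ⟨y, hy, h.1⟩
          · exact h
        obtain ⟨j, hj, Ω', h1', h2', h3'⟩ := ih Ω hΩ hne hcov'
        exact ⟨j, Finset.mem_insert_of_mem hj, Ω', h1', h2', h3'⟩
    · -- the nonempty open `Ω ∩ O ∩ Cᶜ` is covered by the others
      have hne' : (Ω ∩ O ∩ Cᶜ).Nonempty := by
        rw [Set.not_subset] at h1
        obtain ⟨y, hy, hyC⟩ := h1
        exact ⟨y, hy, hyC⟩
      have hcov' : Ω ∩ O ∩ Cᶜ ⊆ ⋃ j ∈ s, L j := by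
        intro y hy
        have := hcov hy.1.1
        simp only [Finset.mem_insert, Set.iUnion_iUnion_eq_or_left, Set.mem_union] at this
        rcases this with h | h
        · exfalso
          rw [hOC] at h
          exact hy.2 h.2
        · exact h
      obtain ⟨j, hj, Ω', h1', h2', h3'⟩ := ih (Ω ∩ O ∩ Cᶜ) ((hΩ.inter hO).inter hC.isOpen_compl)
        hne' hcov'
      exact ⟨j, Finset.mem_insert_of_mem hj, Ω', h1', h2', fun y hy => ⟨(h3' hy).1.1.1, (h3' hy).2⟩⟩

/-- locally closed subsets of a noetherian space are constructible -/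
lemma isConstructible_of_isLocallyClosed {Y : Type*} [TopologicalSpace Y] [NoetherianSpace Y]
    {s : Set Y} (hs : IsLocallyClosed s) : IsConstructible s := by
  obtain ⟨O, C, hO, hC, rfl⟩ := hs
  have hopen : ∀ U : Set Y, IsOpen U → IsConstructible U := fun U hU =>
    IsRetrocompact.isConstructible hU (fun V _ _ => NoetherianSpace.isCompact _)
  exact (hopen O hO).inter (hopen _ hC.isOpen_compl).of_compl

/-- a subsheaf of a finite locally constant sheaf is finite locally constant on a nonempty open -/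
lemma exists_open_flc_sub {T : Scheme.{u}} {F G : EtCoh.Ab T} (ι : G ⟶ F) [Mono ι]
    (hF : EtCoh.IsFiniteLocallyConstant F) (x : T) :
    ∃ V : T.Opens, (V : Set T).Nonempty ∧
      EtCoh.IsFiniteLocallyConstant ((EtCoh.pull V.ι).obj G) := by
  obtain ⟨ι', U, hU, h⟩ := hF
  obtain ⟨i, y, hy⟩ := hU x
  obtain ⟨M, _, _, ⟨α⟩⟩ := h i
  have hτ := isTriv_of_iso T.smallEtaleTopology F (U i) α
  obtain ⟨W₀, g₀, w₀, N, τ', hτ'⟩ := exists_isTriv_sub ι _ hτ y
  obtain ⟨K, _, _, ⟨δ⟩⟩ := exists_small_model.{u} N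
  let V : T.Opens := ⟨Set.range W₀.hom.base, W₀.hom.isOpenMap.isOpen_range⟩
  refine ⟨V, ⟨W₀.hom.base w₀, w₀, rfl⟩, PUnit.{u + 1}, fun _ => (EtCoh.bc V.ι).obj W₀, ?_, fun _ => ?_⟩
  · intro v
    obtain ⟨w, hw⟩ := v.2
    obtain ⟨z, -, hz⟩ := Scheme.Pullback.exists_preimage_pullback (f := W₀.hom) (g := V.ι) w v hw
    exact ⟨PUnit.unit, z, hz⟩
  · exact ⟨K, inferInstance, inferInstance, nonempty_pull_over_iso_ab V.ι G W₀ _
      (hτ'.iso ≪≫ (constantSheaf (T.smallEtaleTopology.over W₀) AddCommGrpCat.{u + 1}).mapIso δ)⟩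

/-- one step: a nonempty closed subset contains a nonempty relatively open piece covered by an
immersion along which `G` is finite locally constant -/
lemma exists_piece {X : Scheme.{u}} {F G : EtCoh.Ab X} (ι : G ⟶ F) [Mono ι]
    (hF : StrataP (PF F) (Set.univ : Set X)) (Z : Set X) (hZ : IsClosed Z) (hne : Z.Nonempty) :
    ∃ (S : Scheme.{u}) (r : S ⟶ X) (O : Set X), IsImmersion r ∧ PF G r ∧ IsOpen O ∧
      (Z ∩ O).Nonempty ∧ Z ∩ O ⊆ Set.range r := by
  obtain ⟨n, T, g, h1, h2, h3, h4, h5⟩ := hF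
  -- a stratum containing a nonempty open piece of `Z`
  obtain ⟨j, -, Ω', hΩ', hΩ'ne, hΩ'sub⟩ := exists_open_subset_of_locallyClosed_cover
    (Y := Z) (fun j => (Subtype.val : Z → X) ⁻¹' Set.range (g j))
    (fun j => (have := h1 j; (g j).isLocallyClosed_range).preimage continuous_subtype_val)
    Finset.univ Set.univ isOpen_univ (by haveI := hne.to_subtype; exact Set.univ_nonempty) (by
      intro z _
      have hz : z.1 ∈ ⋃ i, Set.range (g i) := by rw [h4]; trivial
      obtain ⟨i, hi⟩ := Set.mem_iUnion.1 hz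
      exact Set.mem_iUnion₂.2 ⟨i, Finset.mem_univ i, hi⟩)
  obtain ⟨O, hO, rfl⟩ := isOpen_induced_iff.1 hΩ'
  have hL' : Z ∩ O ⊆ Set.range (g j) := by
    rintro x ⟨hxZ, hxO⟩
    exact (hΩ'sub (show (⟨x, hxZ⟩ : Z) ∈ Subtype.val ⁻¹' O from hxO)).2
  have hL'ne : (Z ∩ O).Nonempty := by
    obtain ⟨z, hz⟩ := hΩ'ne
    exact ⟨z.1, z.2, hz⟩
  -- the scheme structure on `Z ∩ O` induced from the stratum
  obtain ⟨T', j', hj'1, hj'2⟩ := exists_immersion_range_eq (Z ∩ O)
    (hZ.isLocallyClosed.inter hO.isLocallyClosed)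
  have := h1 j
  let t : pullback (g j) j' ⟶ X := pullback.fst (g j) j' ≫ g j
  have ht : Set.range t = Z ∩ O := by
    rw [Scheme.Pullback.range_fst_comp, hj'2]
    exact Set.inter_eq_right.2 hL'
  have hFt : PF F t := PF_stable F _ _ (h5 j)
  obtain ⟨x₀, hx₀⟩ := hL'ne
  rw [← ht] at hx₀
  obtain ⟨y₀, -⟩ := hx₀
  haveI : Mono ((EtCoh.pull t).map ι) := Groth.Agent.S0101.mono_pull_map t ι
  obtain ⟨V, hVne, hV⟩ := exists_open_flc_sub ((EtCoh.pull t).map ι) hFt y₀
  obtain ⟨O'', hO'', hVO''⟩ := t.isEmbedding.isInducing.isOpen_iff.1 V.2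
  have hr : Set.range (V.ι ≫ t) = Z ∩ O ∩ O'' := by
    rw [Scheme.Hom.comp_base, TopCat.coe_comp, Set.range_comp, Scheme.Opens.range_ι]
    have hVO : (V : Set _) = t ⁻¹' O'' := hVO''.symm
    rw [hVO, Set.image_preimage_eq_range_inter, ht]
  refine ⟨V, V.ι ≫ t, O ∩ O'', inferInstance, (PF_pull t G V.ι).2 hV, hO.inter hO'', ?_, ?_⟩
  · obtain ⟨y, hy⟩ := hVne
    refine ⟨t y, ?_⟩
    rw [← Set.inter_assoc, ← hr]
    exact ⟨⟨y, hy⟩, rfl⟩
  · rw [← Set.inter_assoc, ← hr]

/-- noetherian induction: every closed subset is covered by finitely many immersions along which `G`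
is finite locally constant -/
lemma exists_cover_sub {X : Scheme.{u}} [IsNoetherian X] {F G : EtCoh.Ab X} (ι : G ⟶ F) [Mono ι]
    (hF : StrataP (PF F) (Set.univ : Set X)) (Z : Closeds X) :
    ∃ (κ : Type) (_ : Finite κ) (S : κ → Scheme.{u}) (r : ∀ a, S a ⟶ X),
      (∀ a, IsImmersion (r a)) ∧ (∀ a, PF G (r a)) ∧ (Z : Set X) ⊆ ⋃ a, Set.range (r a) := by
  induction Z using WellFoundedLT.induction with
  | ind Z ih =>
    by_cases hne : (Z : Set X).Nonempty
    · obtain ⟨S, r, O, hr1, hr2, hO, hne', hsub⟩ := exists_piece ι hF Z Z.isClosed hne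
      let Z' : Closeds X := ⟨(Z : Set X) ∩ Oᶜ, Z.isClosed.inter hO.isClosed_compl⟩
      have hlt : Z' < Z := by
        refine lt_of_le_of_ne (fun x hx => hx.1) (fun h => ?_)
        obtain ⟨x, hxZ, hxO⟩ := hne'
        have : x ∈ Z' := by rw [h]; exact hxZ
        exact this.2 hxO
      obtain ⟨κ, hκ, S', r', h1, h2, h3⟩ := ih Z' hlt
      refine ⟨Option κ, inferInstance, fun a => a.elim S S',
        fun a => match a with
          | none => r
          | some b => r' b, ?_, ?_, ?_⟩
      · rintro (_ | b)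
        · exact hr1
        · exact h1 b
      · rintro (_ | b)
        · exact hr2
        · exact h2 b
      · intro x hx
        by_cases hxO : x ∈ O
        · exact Set.mem_iUnion.2 ⟨none, hsub ⟨hx, hxO⟩⟩
        · obtain ⟨b, hb⟩ := Set.mem_iUnion.1 (h3 (show x ∈ (Z' : Set X) from ⟨hx, hxO⟩))
          exact Set.mem_iUnion.2 ⟨some b, hb⟩
    · refine ⟨PEmpty, inferInstance, fun a => a.elim, fun a => a.elim, fun a => a.elim,
        fun a => a.elim, ?_⟩
      intro x hx
      exact (hne ⟨x, hx⟩).elim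

/-- on a noetherian scheme, a subsheaf of a constructible abelian sheaf is constructible (in terms of
global stratifications) -/
theorem strataP_sub {X : Scheme.{u}} [IsNoetherian X] {F G : EtCoh.Ab X} (ι : G ⟶ F) [Mono ι]
    (hF : StrataP (PF F) (Set.univ : Set X)) : StrataP (PF G) (Set.univ : Set X) := by
  obtain ⟨κ, hκ, S, r, h1, h2, h3⟩ := exists_cover_sub ι hF ⊤
  refine StrataP.univ_of_finite_cover (PF_stable G) S r h1
    (fun a => have := h1 a; isConstructible_of_isLocallyClosed (r a).isLocallyClosed_range)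
    (Set.eq_univ_of_univ_subset h3) h2

end Groth.Agent.R2.H29.SubConstr
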