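import Groth.Agent.R2.H29SubConstMod
import Groth.Agent.R2.H29EtPull
import Groth.Agent.R2.H29ConstrMod
import Groth.Agent.R2.H29Strata2
import Groth.Agent.R2.H29SubConstr
import Groth.Agent.S6646
import Groth.Agent.S4330

/-!
# Subsheaves of constructible sheaves of modules on noetherian schemes
(module version of `H29SubConstr`), with kernels, cokernels, extensions and quotients
-/

set_option autoImplicit false
set_option linter.style.haveILetI false
open CategoryTheory CategoryTheory.Limits AlgebraicGeometry Opposite TopologicalSpace Topology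
universe u
open Groth.Agent.R2.H29.ConstSheaf Groth.Agent.R2.H29.EtLocConst Groth.Agent.R2.H29.EtExt
  Groth.Agent.R2.H29.SubConstMod Groth.Agent.R2.H29.EtPull Groth.Agent.R2.H29.Strata
  Groth.Agent.R2.H29.ConstrMod Groth.Agent.R2.H29.SubConstr

namespace Groth.Agent.R2.H29.SubConstrMod

variable (Λ : Type (u + 1)) [CommRing Λ]

section Exact

variable {X : Scheme.{u}}

lemma mono_pull_map {T : Scheme.{u}} (t : T ⟶ X) {F G : EtModW.Mod Λ X} (a : F ⟶ G) [Mono a] :
    Mono ((EtModW.pull Λ t).map a) := by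
  have := Groth.Agent.S4330.pull_preservesFiniteLimits Λ t
  infer_instance

variable [IsNoetherianRing Λ]

/-- kernels and cokernels along a morphism -/
lemma PFm_kernel_cokernel {F G : EtModW.Mod Λ X} (φ : F ⟶ G) {T : Scheme.{u}} (g : T ⟶ X)
    (hF : PFm Λ F g) (hG : PFm Λ G g) : PFm Λ (kernel φ) g ∧ PFm Λ (cokernel φ) g := by
  have := Groth.Agent.S4330.pull_preservesFiniteLimits Λ g
  have h := (Groth.Agent.S6646.result Λ T).1 _ _ ((EtModW.pull Λ g).map φ) hF hG
  exact ⟨ftlc_of_iso Λ (PreservesKernel.iso (EtModW.pull Λ g) φ).symm h.1,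
    ftlc_of_iso Λ (PreservesCokernel.iso (EtModW.pull Λ g) φ).symm h.2⟩

/-- extensions along a morphism -/
lemma PFm_extension (S : ShortComplex (EtModW.Mod Λ X)) (hS : S.ShortExact) {T : Scheme.{u}}
    (g : T ⟶ X) (h1 : PFm Λ S.X₁ g) (h3 : PFm Λ S.X₃ g) : PFm Λ S.X₂ g := by
  have := Groth.Agent.S4330.pull_preservesFiniteLimits Λ g
  have hS' : (S.map (EtModW.pull Λ g)).ShortExact := hS.map_of_exact (EtModW.pull Λ g)
  exact (Groth.Agent.S6646.result Λ T).2.prop_X₂_of_shortExact hS' h1 h3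

/-- kernels and cokernels of maps of constructible sheaves of modules are constructible -/
theorem isConstructible_kernel_cokernel {F G : EtModW.Mod Λ X} (φ : F ⟶ G)
    (hF : EtModW.IsConstructible Λ F) (hG : EtModW.IsConstructible Λ G) :
    EtModW.IsConstructible Λ (kernel φ) ∧ EtModW.IsConstructible Λ (cokernel φ) := by
  rw [isConstructible_iff] at hF hG ⊢
  rw [isConstructible_iff]
  refine ⟨fun U hU => ?_, fun U hU => ?_⟩
  · exact (StrataP.inf (PFm_stable Λ F) (PFm_stable Λ G) (hF U hU) (hG U hU)).mono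
      fun T g hg => (PFm_kernel_cokernel Λ φ g hg.1 hg.2).1
  · exact (StrataP.inf (PFm_stable Λ F) (PFm_stable Λ G) (hF U hU) (hG U hU)).mono
      fun T g hg => (PFm_kernel_cokernel Λ φ g hg.1 hg.2).2

/-- extensions of constructible sheaves of modules are constructible -/
theorem isConstructible_extension (S : ShortComplex (EtModW.Mod Λ X)) (hS : S.ShortExact)
    (h1 : EtModW.IsConstructible Λ S.X₁) (h3 : EtModW.IsConstructible Λ S.X₃) :
    EtModW.IsConstructible Λ S.X₂ := by
  rw [isConstructible_iff] at h1 h3 ⊢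
  exact fun U hU => (StrataP.inf (PFm_stable Λ S.X₁) (PFm_stable Λ S.X₃) (h1 U hU) (h3 U hU)).mono
    fun T g hg => PFm_extension Λ S hS g hg.1 hg.2

end Exact

variable [IsNoetherianRing Λ]

/-- a subsheaf of a finite type locally constant sheaf is finite type locally constant on a
nonempty open -/
lemma exists_open_ftlc_sub {T : Scheme.{u}} {F G : EtModW.Mod Λ T} (ι : G ⟶ F) [Mono ι]
    (hF : EtModW.IsFTLocConst Λ F) (x : T) :
    ∃ V : T.Opens, (V : Set T).Nonempty ∧
      EtModW.IsFTLocConst Λ ((EtModW.pull Λ V.ι).obj G) := by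
  obtain ⟨ι', U, hU, h⟩ := hF
  obtain ⟨i, y, hy⟩ := hU x
  obtain ⟨M, _, _, _, ⟨α⟩⟩ := h i
  have hτ := isTriv_of_iso T.smallEtaleTopology F (U i) α
  haveI : IsNoetherian Λ (ModuleCat.of Λ M) := isNoetherian_of_isNoetherianRing_of_finite Λ M
  obtain ⟨W₀, g₀, w₀, N, τ', hτ'⟩ := exists_isTriv_sub ι _ hτ y
  let V : T.Opens := ⟨Set.range W₀.hom.base, W₀.hom.isOpenMap.isOpen_range⟩
  refine ⟨V, ⟨W₀.hom.base w₀, w₀, rfl⟩, PUnit.{u + 1}, fun _ => (EtCoh.bc V.ι).obj W₀, ?_, fun _ => ?_⟩
  · intro v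
    obtain ⟨w, hw⟩ := v.2
    obtain ⟨z, -, hz⟩ := Scheme.Pullback.exists_preimage_pullback (f := W₀.hom) (g := V.ι) w v hw
    exact ⟨PUnit.unit, z, hz⟩
  · haveI : IsNoetherian Λ M := isNoetherian_of_isNoetherianRing_of_finite Λ M
    exact ⟨N, inferInstance, inferInstance, Module.IsNoetherian.finite Λ N,
      nonempty_pull_over_iso_mod V.ι Λ G W₀ _ hτ'.iso⟩

/-- one step: a nonempty closed subset contains a nonempty relatively open piece covered by an
immersion along which `G` is finite type locally constant -/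
lemma exists_piece {X : Scheme.{u}} {F G : EtModW.Mod Λ X} (ι : G ⟶ F) [Mono ι]
    (hF : StrataP (PFm Λ F) (Set.univ : Set X)) (Z : Set X) (hZ : IsClosed Z) (hne : Z.Nonempty) :
    ∃ (S : Scheme.{u}) (r : S ⟶ X) (O : Set X), IsImmersion r ∧ PFm Λ G r ∧ IsOpen O ∧
      (Z ∩ O).Nonempty ∧ Z ∩ O ⊆ Set.range r := by
  obtain ⟨n, T, g, h1, h2, h3, h4, h5⟩ := hF
  -- a stratum containing a nonempty open piece of `Z`
  obtain ⟨j, -, Ω', hΩ', hΩ'ne, hΩ'sub⟩ := exists_open_subset_of_locallyClosed_cover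
    (Y := Z) (fun j => (Subtype.val : Z → X) ⁻¹' Set.range (g j))
    (fun j => (have := h1 j; (g j).isLocallyClosed_range).preimage continuous_subtype_val)
    Finset.univ Set.univ isOpen_univ (by haveI := hne.to_subtype; exact Set.univ_nonempty) (by
      intro z _
      have hz : z.1 ∈ ⋃ i, Set.range (g i) := by rw [h4]; trivial
      obtain ⟨i, hi⟩ := Set.mem_iUnion.1 hz
      exact Set.mem_iUnion₂.2 ⟨i, Finset.mem_univ i, hi⟩)
  obtain ⟨O, hO, rfl⟩ := isOpen_induced_iff.1 hΩ'
  have hL' : Z ∩ O ⊆ Set.range (g j) := by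
    rintro x ⟨hxZ, hxO⟩
    exact (hΩ'sub (show (⟨x, hxZ⟩ : Z) ∈ Subtype.val ⁻¹' O from hxO)).2
  have hL'ne : (Z ∩ O).Nonempty := by
    obtain ⟨z, hz⟩ := hΩ'ne
    exact ⟨z.1, z.2, hz⟩
  -- the scheme structure on `Z ∩ O` induced from the stratum
  obtain ⟨T', j', hj'1, hj'2⟩ := exists_immersion_range_eq (Z ∩ O)
    (hZ.isLocallyClosed.inter hO.isLocallyClosed)
  have := h1 j
  let t : pullback (g j) j' ⟶ X := pullback.fst (g j) j' ≫ g j
  have ht : Set.range t = Z ∩ O := by
    rw [Scheme.Pullback.range_fst_comp, hj'2]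
    exact Set.inter_eq_right.2 hL'
  have hFt : PFm Λ F t := PFm_stable Λ F _ _ (h5 j)
  obtain ⟨x₀, hx₀⟩ := hL'ne
  rw [← ht] at hx₀
  obtain ⟨y₀, -⟩ := hx₀
  haveI : Mono ((EtModW.pull Λ t).map ι) := mono_pull_map Λ t ι
  obtain ⟨V, hVne, hV⟩ := exists_open_ftlc_sub Λ ((EtModW.pull Λ t).map ι) hFt y₀
  obtain ⟨O'', hO'', hVO''⟩ := t.isEmbedding.isInducing.isOpen_iff.1 V.2
  have hr : Set.range (V.ι ≫ t) = Z ∩ O ∩ O'' := by
    rw [Scheme.Hom.comp_base, TopCat.coe_comp, Set.range_comp, Scheme.Opens.range_ι]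
    have hVO : (V : Set _) = t ⁻¹' O'' := hVO''.symm
    rw [hVO, Set.image_preimage_eq_range_inter, ht]
  refine ⟨V, V.ι ≫ t, O ∩ O'', inferInstance, (PFm_pull Λ t G V.ι).2 hV, hO.inter hO'', ?_, ?_⟩
  · obtain ⟨y, hy⟩ := hVne
    refine ⟨t y, ?_⟩
    rw [← Set.inter_assoc, ← hr]
    exact ⟨⟨y, hy⟩, rfl⟩
  · rw [← Set.inter_assoc, ← hr]

/-- noetherian induction: every closed subset is covered by finitely many immersions along which `G`
is finite type locally constant -/
lemma exists_cover_sub {X : Scheme.{u}} [IsNoetherian X] {F G : EtModW.Mod Λ X} (ι : G ⟶ F) [Mono ι]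
    (hF : StrataP (PFm Λ F) (Set.univ : Set X)) (Z : Closeds X) :
    ∃ (κ : Type) (_ : Finite κ) (S : κ → Scheme.{u}) (r : ∀ a, S a ⟶ X),
      (∀ a, IsImmersion (r a)) ∧ (∀ a, PFm Λ G (r a)) ∧ (Z : Set X) ⊆ ⋃ a, Set.range (r a) := by
  induction Z using WellFoundedLT.induction with
  | ind Z ih =>
    by_cases hne : (Z : Set X).Nonempty
    · obtain ⟨S, r, O, hr1, hr2, hO, hne', hsub⟩ := exists_piece Λ ι hF Z Z.isClosed hne
      let Z' : Closeds X := ⟨(Z : Set X) ∩ Oᶜ, Z.isClosed.inter hO.isClosed_compl⟩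
      have hlt : Z' < Z := by
        refine lt_of_le_of_ne (fun x hx => hx.1) (fun h => ?_)
        obtain ⟨x, hxZ, hxO⟩ := hne'
        have : x ∈ Z' := by rw [h]; exact hxZ
        exact this.2 hxO
      obtain ⟨κ, hκ, S', r', h1, h2, h3⟩ := ih Z' hlt
      refine ⟨Option κ, inferInstance, fun a => a.elim S S',
        fun a => match a with
          | none => r
          | some b => r' b, ?_, ?_, ?_⟩
      · rintro (_ | b)
        · exact hr1
        · exact h1 b
      · rintro (_ | b)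
        · exact hr2
        · exact h2 b
      · intro x hx
        by_cases hxO : x ∈ O
        · exact Set.mem_iUnion.2 ⟨none, hsub ⟨hx, hxO⟩⟩
        · obtain ⟨b, hb⟩ := Set.mem_iUnion.1 (h3 (show x ∈ (Z' : Set X) from ⟨hx, hxO⟩))
          exact Set.mem_iUnion.2 ⟨some b, hb⟩
    · refine ⟨PEmpty, inferInstance, fun a => a.elim, fun a => a.elim, fun a => a.elim,
        fun a => a.elim, ?_⟩
      intro x hx
      exact (hne ⟨x, hx⟩).elim

/-- on a noetherian scheme, a subsheaf of a constructible sheaf of modules is constructible (in terms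
of global stratifications) -/
theorem strataP_sub {X : Scheme.{u}} [IsNoetherian X] {F G : EtModW.Mod Λ X} (ι : G ⟶ F) [Mono ι]
    (hF : StrataP (PFm Λ F) (Set.univ : Set X)) : StrataP (PFm Λ G) (Set.univ : Set X) := by
  obtain ⟨κ, hκ, S, r, h1, h2, h3⟩ := exists_cover_sub Λ ι hF ⊤
  refine StrataP.univ_of_finite_cover (PFm_stable Λ G) S r h1
    (fun a => have := h1 a; isConstructible_of_isLocallyClosed (r a).isLocallyClosed_range)
    (Set.eq_univ_of_univ_subset h3) h2

/-- on a noetherian scheme, subobjects of constructible sheaves of modules are constructible -/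
theorem isConstructible_of_mono {X : Scheme.{u}} [IsNoetherian X] {F G : EtModW.Mod Λ X}
    (ι : G ⟶ F) [Mono ι] (hF : EtModW.IsConstructible Λ F) : EtModW.IsConstructible Λ G := by
  rw [isConstructible_iff] at hF ⊢
  have hF' : StrataP (PFm Λ F) (Set.univ : Set X) := StrataP.univ_of_affine (PFm_stable Λ F) hF
  exact fun U _ => StrataP.of_univ (PFm_stable Λ G) (strataP_sub Λ ι hF') U

/-- on a noetherian scheme, quotients of constructible sheaves of modules are constructible -/
theorem isConstructible_of_epi {X : Scheme.{u}} [IsNoetherian X] {F Q : EtModW.Mod Λ X}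
    (π : F ⟶ Q) [Epi π] (hF : EtModW.IsConstructible Λ F) : EtModW.IsConstructible Λ Q := by
  have hK : EtModW.IsConstructible Λ (kernel π) := isConstructible_of_mono Λ (kernel.ι π) hF
  have hC : EtModW.IsConstructible Λ (cokernel (kernel.ι π)) :=
    (isConstructible_kernel_cokernel Λ (kernel.ι π) hK hF).2
  let e : cokernel (kernel.ι π) ≅ Q :=
    (colimit.isColimit (parallelPair (kernel.ι π) 0)).coconePointUniqueUpToIso
      (Abelian.epiIsCokernelOfKernel (limit.cone (parallelPair π 0)) (limit.isLimit _))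
  exact isConstructible_of_iso Λ e hC

end Groth.Agent.R2.H29.SubConstrMod
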