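import Mathlib

set_option autoImplicit false
universe u
open CategoryTheory AlgebraicGeometry TopologicalSpace Opposite

namespace Groth.Agent.R2.H2.HomSh

noncomputable section

variable {X : Scheme.{u}} (M N : X.Modules)

/-- compatible family of linear maps over the opens contained in `U` -/
@[ext]
structure Fam (U : X.Opens) where
  app : ∀ V : X.Opens, V ≤ U → (Γ(M, V) →ₗ[Γ(X, V)] Γ(N, V))
  naturality : ∀ (V W : X.Opens) (hV : V ≤ U) (hWV : W ≤ V) (m : Γ(M, V)),
    N.presheaf.map (homOfLE hWV).op (app V hV m) =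
      app W (hWV.trans hV) (M.presheaf.map (homOfLE hWV).op m)

namespace Fam

variable {M N} {U : X.Opens}

instance : Zero (Fam M N U) := ⟨⟨fun _ _ => 0, fun _ _ _ _ _ => by simp⟩⟩

instance : Add (Fam M N U) :=
  ⟨fun φ ψ => ⟨fun V hV => φ.app V hV + ψ.app V hV, fun V W hV hWV m => by
    simp [φ.naturality V W hV hWV m, ψ.naturality V W hV hWV m]⟩⟩

instance : Neg (Fam M N U) :=
  ⟨fun φ => ⟨fun V hV => - φ.app V hV, fun V W hV hWV m => by
    simp [φ.naturality V W hV hWV m]⟩⟩

@[simp] theorem zero_app (V : X.Opens) (hV : V ≤ U) : (0 : Fam M N U).app V hV = 0 := rfl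
@[simp] theorem add_app (φ ψ : Fam M N U) (V : X.Opens) (hV : V ≤ U) :
    (φ + ψ).app V hV = φ.app V hV + ψ.app V hV := rfl
@[simp] theorem neg_app (φ : Fam M N U) (V : X.Opens) (hV : V ≤ U) :
    (-φ).app V hV = - φ.app V hV := rfl

instance : AddCommGroup (Fam M N U) where
  add_assoc a b c := by ext V hV m; simp [add_assoc]
  zero_add a := by ext V hV m; simp
  add_zero a := by ext V hV m; simp
  add_comm a b := by ext V hV m; simp [add_comm]
  neg_add_cancel a := by ext V hV m; simp
  nsmul := nsmulRec
  zsmul := zsmulRec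

instance : SMul Γ(X, U) (Fam M N U) :=
  ⟨fun r φ => ⟨fun V hV => (X.presheaf.map (homOfLE hV).op r) • φ.app V hV, fun V W hV hWV m => by
    simp only [LinearMap.smul_apply]
    rw [Scheme.Modules.map_smul, φ.naturality V W hV hWV m]
    congr 1
    rw [← CommRingCat.comp_apply, ← X.presheaf.map_comp]
    rfl⟩⟩

@[simp] theorem smul_app (r : Γ(X, U)) (φ : Fam M N U) (V : X.Opens) (hV : V ≤ U) :
    (r • φ).app V hV = (X.presheaf.map (homOfLE hV).op r) • φ.app V hV := rfl

instance : Module Γ(X, U) (Fam M N U) where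
  one_smul a := by ext V hV m; simp
  mul_smul r s a := by ext V hV m; simp [mul_smul]
  smul_zero r := by ext V hV m; simp
  smul_add r a b := by ext V hV m; simp
  add_smul r s a := by ext V hV m; simp [add_smul]
  zero_smul a := by ext V hV m; simp

/-- restriction of a family to a smaller open -/
def res {U U' : X.Opens} (h : U' ≤ U) (φ : Fam M N U) : Fam M N U' :=
  ⟨fun V hV => φ.app V (hV.trans h), fun V W hV hWV m => φ.naturality V W (hV.trans h) hWV m⟩

@[simp] theorem res_app {U U' : X.Opens} (h : U' ≤ U) (φ : Fam M N U) (V : X.Opens) (hV : V ≤ U') :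
    (res h φ).app V hV = φ.app V (hV.trans h) := rfl

end Fam

/-- the presheaf of abelian groups `U ↦ Fam M N U` -/
def homPre : (Opens X)ᵒᵖ ⥤ Ab.{u} where
  obj U := AddCommGrpCat.of (Fam M N U.unop)
  map {U V} f := AddCommGrpCat.ofHom
    { toFun := fun φ => Fam.res f.unop.le φ
      map_zero' := rfl
      map_add' := fun _ _ => rfl }
  map_id U := by ext φ; rfl
  map_comp f g := by ext φ; rfl

instance (U : (Opens X)ᵒᵖ) : Module ((X.ringCatSheaf.obj).obj U) ((homPre M N).obj U) :=
  inferInstanceAs (Module Γ(X, U.unop) (Fam M N U.unop))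

theorem homPre_map_smul ⦃U V : (Opens X)ᵒᵖ⦄ (f : U ⟶ V) (r : (X.ringCatSheaf.obj).obj U)
    (φ : (homPre M N).obj U) :
    (homPre M N).map f (r • φ) = (X.ringCatSheaf.obj).map f r • (homPre M N).map f φ := by
  apply Fam.ext
  funext W hW
  change (X.presheaf.map (homOfLE (hW.trans f.unop.le)).op r) • _ =
    (X.presheaf.map (homOfLE hW).op (X.presheaf.map f r)) • _
  congr 1
  rw [← CommRingCat.comp_apply, ← X.presheaf.map_comp]
  rfl

/-- the presheaf of modules `U ↦ Fam M N U` -/
def homPreMod : X.PresheafOfModules :=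
  PresheafOfModules.ofPresheaf (homPre M N) (homPre_map_smul M N)

/-- `N` as a sheaf of abelian groups -/
abbrev abSheaf (N : X.Modules) : TopCat.Sheaf Ab.{u} X := ⟨N.presheaf, N.isSheaf⟩

theorem isSheaf_homPre : TopCat.Presheaf.IsSheaf (homPre M N) := by
  rw [TopCat.Presheaf.isSheaf_iff_isSheafUniqueGluing]
  intro ι U sf hsf
  -- compatibility in usable form
  have hcomp : ∀ (i j : ι) (W : X.Opens) (hi : W ≤ U i) (hj : W ≤ U j),
      (sf i : Fam M N (U i)).app W hi = (sf j : Fam M N (U j)).app W hj := by
    intro i j W hi hj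
    have h := hsf i j
    have h2 := congrArg (fun (φ : Fam M N (U i ⊓ U j)) => φ.app W (le_inf hi hj)) h
    exact h2
  -- the glued family
  have key : ∀ (V : X.Opens) (hV : V ≤ iSup U) (m : Γ(M, V)),
      ∃! n : Γ(N, V), ∀ i : ι, N.presheaf.map (homOfLE (inf_le_left : V ⊓ U i ≤ V)).op n =
        (sf i : Fam M N (U i)).app (V ⊓ U i) inf_le_right
          (M.presheaf.map (homOfLE (inf_le_left : V ⊓ U i ≤ V)).op m) := by
    intro V hV m
    refine (abSheaf N).existsUnique_gluing' (fun i => V ⊓ U i) V (fun i => homOfLE inf_le_left) ?_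
      (fun i => (sf i : Fam M N (U i)).app (V ⊓ U i) inf_le_right
          (M.presheaf.map (homOfLE (inf_le_left : V ⊓ U i ≤ V)).op m)) ?_
    · intro x hx
      obtain ⟨i, hi⟩ := Opens.mem_iSup.mp (hV hx)
      exact Opens.mem_iSup.mpr ⟨i, hx, hi⟩
    · intro i j
      have e1 := (sf i : Fam M N (U i)).naturality (V ⊓ U i) ((V ⊓ U i) ⊓ (V ⊓ U j)) inf_le_right
        inf_le_left (M.presheaf.map (homOfLE (inf_le_left : V ⊓ U i ≤ V)).op m)
      have e2 := (sf j : Fam M N (U j)).naturality (V ⊓ U j) ((V ⊓ U i) ⊓ (V ⊓ U j)) inf_le_right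
        inf_le_right (M.presheaf.map (homOfLE (inf_le_left : V ⊓ U j ≤ V)).op m)
      refine e1.trans (Eq.trans ?_ e2.symm)
      rw [hcomp i j _ _ (inf_le_right.trans inf_le_right)]
      congr 1
      rw [← ConcreteCategory.comp_apply, ← ConcreteCategory.comp_apply, ← M.presheaf.map_comp,
        ← M.presheaf.map_comp]
      rfl
  choose g hg huniq using key
  have hchar : ∀ (V : X.Opens) (hV : V ≤ iSup U) (m : Γ(M, V)) (n : Γ(N, V)),
      (∀ i : ι, N.presheaf.map (homOfLE (inf_le_left : V ⊓ U i ≤ V)).op n =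
        (sf i : Fam M N (U i)).app (V ⊓ U i) inf_le_right
          (M.presheaf.map (homOfLE (inf_le_left : V ⊓ U i ≤ V)).op m)) → n = g V hV m :=
    fun V hV m n hn => huniq V hV m n hn
  let Φ : Fam M N (iSup U) :=
    { app := fun V hV =>
        { toFun := g V hV
          map_add' := fun m m' => by
            symm
            apply hchar
            intro i
            rw [map_add, map_add, map_add, hg, hg]
          map_smul' := fun r m => by
            symm
            apply hchar
            intro i
            simp only [RingHom.id_apply]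
            rw [Scheme.Modules.map_smul, Scheme.Modules.map_smul, hg, map_smul] }
      naturality := fun V W hV hWV m => by
        apply hchar
        intro i
        have e1 := (sf i : Fam M N (U i)).naturality (V ⊓ U i) (W ⊓ U i) inf_le_right
          (inf_le_inf_right _ hWV) (M.presheaf.map (homOfLE (inf_le_left : V ⊓ U i ≤ V)).op m)
        have e2 : N.presheaf.map (homOfLE (inf_le_left : W ⊓ U i ≤ W)).op
            (N.presheaf.map (homOfLE hWV).op (g V hV m)) =
            N.presheaf.map (homOfLE (inf_le_inf_right (U i) hWV)).op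
              (N.presheaf.map (homOfLE (inf_le_left : V ⊓ U i ≤ V)).op (g V hV m)) := by
          rw [← ConcreteCategory.comp_apply, ← ConcreteCategory.comp_apply, ← N.presheaf.map_comp,
            ← N.presheaf.map_comp]
          rfl
        change N.presheaf.map (homOfLE (inf_le_left : W ⊓ U i ≤ W)).op
            (N.presheaf.map (homOfLE hWV).op (g V hV m)) = _
        rw [e2, hg, e1]
        congr 1
        rw [← ConcreteCategory.comp_apply, ← ConcreteCategory.comp_apply, ← M.presheaf.map_comp,
          ← M.presheaf.map_comp]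
        rfl }
  refine ⟨Φ, ?_, ?_⟩
  · intro i
    apply Fam.ext
    funext W hW
    apply LinearMap.ext
    intro m
    change g W (hW.trans (le_iSup U i)) m = (sf i : Fam M N (U i)).app W hW m
    symm
    apply hchar
    intro j
    rw [(sf i : Fam M N (U i)).naturality W (W ⊓ U j) hW inf_le_left m]
    rw [hcomp i j (W ⊓ U j) (inf_le_left.trans hW) inf_le_right]
  · intro Ψ hΨ
    apply Fam.ext
    funext V hV
    apply LinearMap.ext
    intro m
    change (Ψ : Fam M N (iSup U)).app V hV m = g V hV m
    apply hchar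
    intro i
    rw [(Ψ : Fam M N (iSup U)).naturality V (V ⊓ U i) hV inf_le_left m]
    have := hΨ i
    have h2 := congrArg (fun (φ : Fam M N (U i)) => φ.app (V ⊓ U i) inf_le_right) this
    exact LinearMap.congr_fun h2 _

/-- the Hom sheaf `ℋom(M, N)` as an `𝒪_X`-module -/
def homSh : X.Modules where
  val := homPreMod M N
  isSheaf := isSheaf_homPre M N

/-- sections of the Hom sheaf are compatible families -/
def secEquiv (U : X.Opens) : Γ(homSh M N, U) ≃ₗ[Γ(X, U)] Fam M N U :=
  LinearEquiv.refl _ _

end

end Groth.Agent.R2.H2.HomSh
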