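import Mathlib
import Groth.Agent.R2.H2HomSh1
import Groth.Agent.Lib.Helper13PullbackUnit

set_option autoImplicit false
universe u
open CategoryTheory AlgebraicGeometry TopologicalSpace Opposite

namespace Groth.Agent.R2.H2.HomSh

noncomputable section

variable {X : Scheme.{u}} {M N : X.Modules}

/-- components of a family at equal opens agree (after transport) -/
theorem Fam.app_congr {U : X.Opens} (φ φ' : Fam M N U) {V V' : X.Opens} (e : V' = V) (hV : V ≤ U)
    (h : φ.app V hV = φ'.app V hV) : φ.app V' (e ▸ hV) = φ'.app V' (e ▸ hV) := by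
  subst e
  exact h

section Restrict

variable {Y : Scheme.{u}} (j : Y ⟶ X) [IsOpenImmersion j]

/-- a family over `U ⊇ range j` gives a morphism between the restrictions along `j` -/
def Fam.toRestrict {U : X.Opens} (hU : j.opensRange ≤ U) (φ : Fam M N U) :
    M.restrict j ⟶ N.restrict j :=
  ⟨PresheafOfModules.homMk
    { app := fun W => AddCommGrpCat.ofHom
        (φ.app (j ''ᵁ W.unop) ((j.image_le_opensRange _).trans hU)).toAddMonoidHom
      naturality := fun W₁ W₂ f => by
        ext m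
        exact (φ.naturality (j ''ᵁ W₁.unop) (j ''ᵁ W₂.unop) _ (j.image_mono f.unop.le) m).symm }
    (fun W r m => (φ.app (j ''ᵁ W.unop) ((j.image_le_opensRange _).trans hU)).map_smul _ m)⟩

theorem Fam.toRestrict_app {U : X.Opens} (hU : j.opensRange ≤ U) (φ : Fam M N U) (W : Y.Opens)
    (m : Γ(M, j ''ᵁ W)) :
    (φ.toRestrict j hU).app W m = φ.app (j ''ᵁ W) ((j.image_le_opensRange _).trans hU) m := rfl

/-- the component at `j ''ᵁ W` of a morphism between the restrictions, as a linear map -/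
def appLin (ψ : M.restrict j ⟶ N.restrict j) (W : Y.Opens) :
    Γ(M, j ''ᵁ W) →ₗ[Γ(X, j ''ᵁ W)] Γ(N, j ''ᵁ W) where
  toFun := fun m => ψ.app W m
  map_add' := fun m m' => map_add _ m m'
  map_smul' := fun r m => by
    have h := Scheme.Modules.Hom.app_smul ψ ((j.appIso W).hom r) (show Γ(M.restrict j, W) from m)
    have e : ∀ (K : X.Modules) (x : Γ(K, j ''ᵁ W)),
        ((j.appIso W).hom r) • (show Γ(K.restrict j, W) from x) = r • x := by
      intro K x
      change ((j.appIso W).inv ((j.appIso W).hom r)) • x = r • x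
      rw [← CommRingCat.comp_apply, Iso.hom_inv_id]
      rfl
    rw [e M m, e N] at h
    exact h

/-- transport of `appLin` to an open equal to `j ''ᵁ W` -/
def appAt (ψ : M.restrict j ⟶ N.restrict j) (W : Y.Opens) (V : X.Opens) (e : j ''ᵁ W = V) :
    Γ(M, V) →ₗ[Γ(X, V)] Γ(N, V) := by
  subst e
  exact appLin j ψ W

theorem appAt_naturality (ψ : M.restrict j ⟶ N.restrict j) (W₁ W₂ : Y.Opens) (hW : W₂ ≤ W₁)
    (V₁ V₂ : X.Opens) (e₁ : j ''ᵁ W₁ = V₁) (e₂ : j ''ᵁ W₂ = V₂) (hV : V₂ ≤ V₁) (m : Γ(M, V₁)) :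
    N.presheaf.map (homOfLE hV).op (appAt j ψ W₁ V₁ e₁ m) =
      appAt j ψ W₂ V₂ e₂ (M.presheaf.map (homOfLE hV).op m) := by
  subst e₁
  subst e₂
  have h := ConcreteCategory.congr_hom (ψ.mapPresheaf.naturality (homOfLE hW).op)
    (show Γ(M.restrict j, W₁) from m)
  exact h.symm

theorem image_preimage_eq_of_le {V : X.Opens} (hV : V ≤ j.opensRange) : j ''ᵁ (j ⁻¹ᵁ V) = V := by
  rw [Scheme.Hom.image_preimage_eq_opensRange_inf, inf_eq_right]
  exact hV

/-- a morphism between the restrictions along `j` gives a family over the range of `j` -/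
def Fam.ofRestrict (ψ : M.restrict j ⟶ N.restrict j) : Fam M N j.opensRange where
  app := fun V hV => appAt j ψ (j ⁻¹ᵁ V) V (image_preimage_eq_of_le j hV)
  naturality := fun V W _ hWV m =>
    appAt_naturality j ψ (j ⁻¹ᵁ V) (j ⁻¹ᵁ W) (j.preimage_mono hWV) V W _ _ hWV m

theorem appAt_eq (ψ : M.restrict j ⟶ N.restrict j) (W W' : Y.Opens) (V : X.Opens)
    (e : j ''ᵁ W = V) (e' : j ''ᵁ W' = V) : appAt j ψ W V e = appAt j ψ W' V e' := by
  have : W = W' := j.image_injective (e.trans e'.symm)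
  subst this
  rfl

theorem Fam.ofRestrict_app_image (ψ : M.restrict j ⟶ N.restrict j) (W : Y.Opens)
    (m : Γ(M, j ''ᵁ W)) :
    (Fam.ofRestrict j ψ).app (j ''ᵁ W) (j.image_le_opensRange W) m = ψ.app W m := by
  change appAt j ψ (j ⁻¹ᵁ (j ''ᵁ W)) (j ''ᵁ W) _ m = _
  rw [appAt_eq j ψ _ W (j ''ᵁ W) _ rfl]
  rfl

end Restrict

section Affine

variable {U : X.Opens} (hU : IsAffineOpen U)

theorem map_map_of_le (K : X.Modules) {A B C : X.Opens} (h₁ : A ≤ B) (h₂ : B ≤ C) (x : Γ(K, C)) :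
    K.presheaf.map (homOfLE h₁).op (K.presheaf.map (homOfLE h₂).op x) =
      K.presheaf.map (homOfLE (h₁.trans h₂)).op x := by
  rw [← ConcreteCategory.comp_apply, ← K.presheaf.map_comp]
  rfl

theorem map_self (K : X.Modules) {A : X.Opens} (h : A ≤ A) (x : Γ(K, A)) :
    K.presheaf.map (homOfLE h).op x = x := by
  have : (homOfLE h).op = 𝟙 (op A) := rfl
  rw [this, K.presheaf.map_id]
  rfl

theorem ring_map_map_of_le {A B C : X.Opens} (h₁ : A ≤ B) (h₂ : B ≤ C) (x : Γ(X, C)) :
    X.presheaf.map (homOfLE h₁).op (X.presheaf.map (homOfLE h₂).op x) =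
      X.presheaf.map (homOfLE (h₁.trans h₂)).op x := by
  rw [← CommRingCat.comp_apply, ← X.presheaf.map_comp]
  rfl

theorem ring_map_self {A : X.Opens} (h : A ≤ A) (x : Γ(X, A)) :
    X.presheaf.map (homOfLE h).op x = x := by
  have : (homOfLE h).op = 𝟙 (op A) := rfl
  rw [this, X.presheaf.map_id]
  rfl

include hU in
/-- for quasi-coherent `M`, a family over an affine open is determined by its top component -/
theorem Fam.ext_of_app_self [M.IsQuasicoherent] (φ φ' : Fam M N U)
    (h : φ.app U le_rfl = φ'.app U le_rfl) : φ = φ' := by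
  have hj : hU.fromSpec.opensRange = U := hU.opensRange_fromSpec
  have htop : hU.fromSpec ''ᵁ ⊤ = U := by
    rw [Scheme.Hom.image_top_eq_opensRange, hj]
  have hψ : φ.toRestrict hU.fromSpec hj.le = φ'.toRestrict hU.fromSpec hj.le := by
    apply Groth.Agent.Helper13PullbackUnit.hom_ext_top
    intro x
    rw [Fam.toRestrict_app, Fam.toRestrict_app]
    exact LinearMap.congr_fun (Fam.app_congr φ φ' htop le_rfl h) x
  apply Fam.ext
  funext V hV
  have e : V = hU.fromSpec ''ᵁ (hU.fromSpec ⁻¹ᵁ V) :=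
    (image_preimage_eq_of_le hU.fromSpec (hV.trans hj.ge)).symm
  refine Fam.app_congr φ φ' e ((hU.fromSpec.image_le_opensRange _).trans hj.le) ?_
  apply LinearMap.ext
  intro m
  have := congrArg (fun ψ : M.restrict hU.fromSpec ⟶ N.restrict hU.fromSpec =>
    ψ.app (hU.fromSpec ⁻¹ᵁ V) m) hψ
  exact this

include hU in
/-- for quasi-coherent `M`, every linear map on sections over an affine open extends to a family -/
theorem exists_fam_of_linearMap [M.IsQuasicoherent] (l : Γ(M, U) →ₗ[Γ(X, U)] Γ(N, U)) :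
    ∃ φ : Fam M N U, φ.app U le_rfl = l := by
  have hj : hU.fromSpec.opensRange = U := hU.opensRange_fromSpec
  have htop : hU.fromSpec ''ᵁ ⊤ = U := by
    rw [Scheme.Hom.image_top_eq_opensRange, hj]
  have h1 : hU.fromSpec ''ᵁ ⊤ ≤ U := htop.le
  have h2 : U ≤ hU.fromSpec ''ᵁ ⊤ := htop.ge
  let l' : Γ(M.restrict hU.fromSpec, ⊤) →+ Γ(N.restrict hU.fromSpec, ⊤) :=
    ((N.presheaf.map (homOfLE h1).op).hom).comp
      (l.toAddMonoidHom.comp (M.presheaf.map (homOfLE h2).op).hom)
  have hl' : ∀ (r : Γ(X, U)) (x : Γ(M.restrict hU.fromSpec, ⊤)), l' (r • x) = r • l' x := by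
    intro r x
    have e1 := Groth.Agent.Lib.Helper2.QCoh.restrict_fromSpec_smul hU M ⊤ r x
    have e2 := Groth.Agent.Lib.Helper2.QCoh.restrict_fromSpec_smul hU N ⊤ r (l' x)
    change N.presheaf.map (homOfLE h1).op (l (M.presheaf.map (homOfLE h2).op (r • x))) = r • l' x
    have e1' : (r • x : Γ(M.restrict hU.fromSpec, ⊤)) =
        (X.presheaf.map (homOfLE h1).op r) • (show Γ(M, hU.fromSpec ''ᵁ ⊤) from x) := e1
    have e2' : (r • l' x : Γ(N.restrict hU.fromSpec, ⊤)) =
        (X.presheaf.map (homOfLE h1).op r) • (show Γ(N, hU.fromSpec ''ᵁ ⊤) from l' x) := e2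
    rw [e2', e1', Scheme.Modules.map_smul, ring_map_map_of_le, ring_map_self, map_smul,
      Scheme.Modules.map_smul]
    rfl
  obtain ⟨ψ, hψ⟩ := Groth.Agent.Helper13PullbackUnit.exists_hom_of_top
    (M.restrict hU.fromSpec) (N.restrict hU.fromSpec) l' hl'
  refine ⟨Fam.res hj.ge (Fam.ofRestrict hU.fromSpec ψ), ?_⟩
  apply LinearMap.ext
  intro x
  rw [Fam.res_app]
  have hnat := (Fam.ofRestrict hU.fromSpec ψ).naturality (hU.fromSpec ''ᵁ ⊤) U
    (hU.fromSpec.image_le_opensRange ⊤) h2 (M.presheaf.map (homOfLE h1).op x)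
  rw [map_map_of_le, map_self] at hnat
  rw [← hnat, Fam.ofRestrict_app_image, hψ]
  change N.presheaf.map (homOfLE h2).op (N.presheaf.map (homOfLE h1).op
    (l (M.presheaf.map (homOfLE h2).op (M.presheaf.map (homOfLE h1).op x)))) = l x
  rw [map_map_of_le, map_self, map_map_of_le, map_self]

end Affine

end

end Groth.Agent.R2.H2.HomSh
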