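import Mathlib
import Groth.Agent.R2.H2HomSh2
import Groth.Agent.Lib.Helper2Push
import Groth.Agent.Lib.Helper23QCohLocal
import Groth.Agent.Lib.Helper23FinType2
import Groth.Prelude.Def_Coh

set_option autoImplicit false
universe u
open CategoryTheory AlgebraicGeometry TopologicalSpace Opposite

namespace Groth.Agent.R2.H2.HomSh

noncomputable section

open Groth.Agent.Lib.Helper2.Push

variable {X : Scheme.{u}}

section Loc

variable {U : X.Opens} (F : X.Modules) (f : Γ(X, U))

/-- sections over the basic open `D(f)`, as a `Γ(X, U)`-module -/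
def SecB : Type u := Γ(F, X.basicOpen f)

instance : AddCommGroup (SecB F f) := inferInstanceAs (AddCommGroup Γ(F, X.basicOpen f))

instance instModuleSecB' : Module Γ(X, X.basicOpen f) (SecB F f) :=
  inferInstanceAs (Module Γ(X, X.basicOpen f) Γ(F, X.basicOpen f))

/-- restriction of functions to the basic open -/
abbrev resRing : Γ(X, U) →+* Γ(X, X.basicOpen f) :=
  (X.presheaf.map (homOfLE (X.basicOpen_le f)).op).hom

instance instModuleSecB : Module Γ(X, U) (SecB F f) := Module.compHom _ (resRing f)

theorem secB_smul_def (r : Γ(X, U)) (y : SecB F f) :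
    r • y = (resRing f r) • (show Γ(F, X.basicOpen f) from y) := rfl

/-- restriction of sections to the basic open, as a linear map -/
def resLin : Γ(F, U) →ₗ[Γ(X, U)] SecB F f where
  toFun := fun m => F.presheaf.map (homOfLE (X.basicOpen_le f)).op m
  map_add' := fun m m' => map_add _ m m'
  map_smul' := fun r m => Scheme.Modules.map_smul F (homOfLE (X.basicOpen_le f)) r m

theorem resLin_apply (m : Γ(F, U)) :
    resLin F f m = F.presheaf.map (homOfLE (X.basicOpen_le f)).op m := rfl

theorem isUnit_resRing : IsUnit (resRing f f) :=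
  RingedSpace.isUnit_res_basicOpen X.toRingedSpace f

theorem isLocalizedModule_resLin (hF : IsLocOn F U) :
    IsLocalizedModule (Submonoid.powers f) (resLin F f) where
  map_units := by
    rintro ⟨_, n, rfl⟩
    rw [Module.End.isUnit_iff]
    have hu : IsUnit (resRing f (f ^ n)) := by
      rw [map_pow]; exact (isUnit_resRing f).pow n
    obtain ⟨u, hu⟩ := hu
    constructor
    · intro y y' h
      have h' : (resRing f (f ^ n)) • (show Γ(F, X.basicOpen f) from y) =
          (resRing f (f ^ n)) • (show Γ(F, X.basicOpen f) from y') := h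
      rw [← hu] at h'
      exact u.isUnit.smul_left_cancel.mp h'
    · intro y
      refine ⟨(↑u⁻¹ : Γ(X, X.basicOpen f)) • (show Γ(F, X.basicOpen f) from y), ?_⟩
      change (resRing f (f ^ n)) • ((↑u⁻¹ : Γ(X, X.basicOpen f)) •
        (show Γ(F, X.basicOpen f) from y)) = y
      rw [← hu, smul_smul, Units.mul_inv, one_smul]
  surj := by
    intro y
    obtain ⟨n, t, ht⟩ := hF.exists_extension f y
    refine ⟨⟨t, ⟨f ^ n, n, rfl⟩⟩, ?_⟩
    change (resRing f (f ^ n)) • (show Γ(F, X.basicOpen f) from y) = _
    rw [map_pow]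
    exact ht.symm
  exists_of_eq := by
    intro x₁ x₂ h
    have h0 : F.presheaf.map (homOfLE (X.basicOpen_le f)).op (x₁ - x₂) = 0 := by
      rw [map_sub]; exact sub_eq_zero.mpr h
    obtain ⟨n, hn⟩ := hF.exists_pow_smul_eq_zero f (x₁ - x₂) h0
    refine ⟨⟨f ^ n, n, rfl⟩, ?_⟩
    change f ^ n • x₁ = f ^ n • x₂
    rw [smul_sub] at hn
    exact sub_eq_zero.mp hn

end Loc

section QC

variable {M N : X.Modules}

theorem homSh_map_apply {U V : X.Opens} (h : V ≤ U) (t : Γ(homSh M N, U)) :
    (homSh M N).presheaf.map (homOfLE h).op t = Fam.res h (show Fam M N U from t) := rfl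

theorem homSh_smul {U : X.Opens} (r : Γ(X, U)) (t : Γ(homSh M N, U)) :
    r • t = r • (show Fam M N U from t) := rfl

theorem Fam.smul_app_self {U : X.Opens} (r : Γ(X, U)) (φ : Fam M N U) :
    (r • φ).app U le_rfl = r • φ.app U le_rfl := by
  rw [Fam.smul_app, ring_map_self]

variable {U : X.Opens} (hU : IsAffineOpen U) [M.IsQuasicoherent] [N.IsQuasicoherent]

include hU in
theorem isLocOn_homSh [Module.FinitePresentation Γ(X, U) Γ(M, U)] : IsLocOn (homSh M N) U where
  exists_extension := by
    intro f s
    let s' : Fam M N (X.basicOpen f) := s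
    let s₀ := s'.app (X.basicOpen f) le_rfl
    let g : Γ(M, U) →ₗ[Γ(X, U)] SecB N f :=
      { toFun := fun m => s₀ (M.presheaf.map (homOfLE (X.basicOpen_le f)).op m)
        map_add' := fun m m' => by rw [map_add, map_add]; rfl
        map_smul' := fun r m => by
          rw [Scheme.Modules.map_smul, map_smul]
          rfl }
    have hloc := isLocalizedModule_resLin N f (IsLocOn.of_isQuasicoherent hU N)
    obtain ⟨t₀, ⟨_, n, rfl⟩, ht₀⟩ :=
      Module.FinitePresentation.exists_lift_of_isLocalizedModule (S := Submonoid.powers f)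
        (f := resLin N f) g
    obtain ⟨t, ht⟩ := exists_fam_of_linearMap hU t₀
    refine ⟨n, t, ?_⟩
    rw [homSh_map_apply, homSh_smul]
    apply Fam.ext_of_app_self (hU.basicOpen f)
    rw [Fam.smul_app_self, Fam.res_app]
    apply LinearMap.ext
    intro x
    obtain ⟨k, m, hm⟩ := (IsLocOn.of_isQuasicoherent hU M).exists_extension f x
    have hu : IsUnit ((X.presheaf.map (homOfLE (X.basicOpen_le f)).op f) ^ k) :=
      (isUnit_resRing f).pow k
    apply hu.smul_left_cancel.mp
    rw [← map_smul, ← map_smul, ← hm]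
    have e1 := t.naturality U (X.basicOpen f) le_rfl (X.basicOpen_le f) m
    rw [← e1, ht]
    have e2 := LinearMap.congr_fun ht₀ m
    change N.presheaf.map (homOfLE (X.basicOpen_le f)).op (t₀ m) = _ at e2
    rw [e2]
    change (resRing f (f ^ n)) • s₀ (M.presheaf.map (homOfLE (X.basicOpen_le f)).op m) = _
    rw [map_pow]
    rfl
  exists_pow_smul_eq_zero := by
    intro f t ht
    let t' : Fam M N U := t
    let t₀ := t'.app U le_rfl
    have hloc := isLocalizedModule_resLin N f (IsLocOn.of_isQuasicoherent hU N)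
    have hcomp : (resLin N f).comp t₀ =
        (resLin N f).comp (0 : Γ(M, U) →ₗ[Γ(X, U)] Γ(N, U)) := by
      apply LinearMap.ext
      intro m
      rw [LinearMap.comp_apply, LinearMap.comp_apply, LinearMap.zero_apply, map_zero, resLin_apply]
      rw [t'.naturality U (X.basicOpen f) le_rfl (X.basicOpen_le f) m]
      rw [homSh_map_apply] at ht
      have := congrArg (fun φ : Fam M N (X.basicOpen f) => φ.app (X.basicOpen f) le_rfl
        (M.presheaf.map (homOfLE (X.basicOpen_le f)).op m)) ht
      exact this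
    obtain ⟨⟨_, n, rfl⟩, hn⟩ :=
      Module.Finite.exists_smul_of_comp_eq_of_isLocalizedModule (S := Submonoid.powers f)
        (f := resLin N f) t₀ (0 : Γ(M, U) →ₗ[Γ(X, U)] Γ(N, U)) hcomp
    refine ⟨n, ?_⟩
    rw [homSh_smul]
    apply Fam.ext_of_app_self hU
    rw [Fam.smul_app_self]
    exact hn.trans (smul_zero _)

include hU in
/-- the dictionary: sections of the Hom sheaf over an affine open are linear maps -/
def dictEquiv : Fam M N U ≃ₗ[Γ(X, U)] (Γ(M, U) →ₗ[Γ(X, U)] Γ(N, U)) :=
  LinearEquiv.ofBijective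
    { toFun := fun φ => φ.app U le_rfl
      map_add' := fun _ _ => rfl
      map_smul' := fun r φ => Fam.smul_app_self r φ }
    ⟨fun φ φ' h => Fam.ext_of_app_self hU φ φ' h, fun l => exists_fam_of_linearMap hU l⟩

theorem dictEquiv_apply (φ : Fam M N U) : dictEquiv hU φ = φ.app U le_rfl := rfl

end QC

section Coh

variable [IsLocallyNoetherian X] {M N : X.Modules}

theorem finitePresentation_sections (hM : Coh.IsCoh M) {U : X.Opens} (hU : IsAffineOpen U) :
    Module.FinitePresentation Γ(X, U) Γ(M, U) := by
  have : M.IsQuasicoherent := hM.1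
  have : SheafOfModules.IsFiniteType (R := X.ringCatSheaf) M := hM.2
  have : IsNoetherianRing Γ(X, U) := IsLocallyNoetherian.component_noetherian ⟨U, hU⟩
  have : Module.Finite Γ(X, U) Γ(M, U) :=
    Groth.Agent.Lib.Helper23.FinType.finite_of_isFiniteType M hU
  exact Module.finitePresentation_of_finite _ _

theorem isQuasicoherent_homSh (hM : Coh.IsCoh M) [N.IsQuasicoherent] :
    (homSh M N).IsQuasicoherent := by
  have : M.IsQuasicoherent := hM.1
  apply Groth.Agent.Lib.Helper23.QCohLocal.isQuasicoherent_of_isLocOn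
  intro V hV
  have := finitePresentation_sections hM hV
  exact isLocOn_homSh hV

theorem isCoh_homSh (hM : Coh.IsCoh M) (hN : Coh.IsCoh N) : Coh.IsCoh (homSh M N) := by
  have : M.IsQuasicoherent := hM.1
  have : N.IsQuasicoherent := hN.1
  have hq : (homSh M N).IsQuasicoherent := isQuasicoherent_homSh hM
  refine ⟨hq, ?_⟩
  rw [Groth.Agent.Lib.Helper23.FinType.isFiniteType_iff_forall_affine]
  intro U hU
  have : SheafOfModules.IsFiniteType (R := X.ringCatSheaf) M := hM.2
  have : SheafOfModules.IsFiniteType (R := X.ringCatSheaf) N := hN.2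
  have : IsNoetherianRing Γ(X, U) := IsLocallyNoetherian.component_noetherian ⟨U, hU⟩
  have : Module.Finite Γ(X, U) Γ(M, U) :=
    Groth.Agent.Lib.Helper23.FinType.finite_of_isFiniteType M hU
  have : Module.Finite Γ(X, U) Γ(N, U) :=
    Groth.Agent.Lib.Helper23.FinType.finite_of_isFiniteType N hU
  have : IsNoetherian Γ(X, U) Γ(N, U) := isNoetherian_of_isNoetherianRing_of_finite _ _
  have : Module.Finite Γ(X, U) (Γ(M, U) →ₗ[Γ(X, U)] Γ(N, U)) := inferInstance
  exact Module.Finite.equiv (dictEquiv (M := M) (N := N) hU).symm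

end Coh

end

end Groth.Agent.R2.H2.HomSh
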