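import Mathlib
import Groth.Agent.R2.H2HomSh3
import Groth.Prelude.Def_Formal

set_option autoImplicit false
universe u
open CategoryTheory AlgebraicGeometry TopologicalSpace Opposite

namespace Groth.Agent.R2.H2.HomSh

noncomputable section

variable {X : Scheme.{u}} {M N N' N'' : X.Modules}

/-- the component of a morphism of modules, as a linear map -/
def appLinear (g : N ⟶ N') (V : X.Opens) : Γ(N, V) →ₗ[Γ(X, V)] Γ(N', V) where
  toFun := fun x => g.app V x
  map_add' := fun x y => map_add _ x y
  map_smul' := fun r x => Scheme.Modules.Hom.app_smul g r x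

@[simp] theorem appLinear_apply (g : N ⟶ N') (V : X.Opens) (x : Γ(N, V)) :
    appLinear g V x = g.app V x := rfl

theorem app_res (g : N ⟶ N') {W W' : X.Opens} (h : W' ≤ W) (s : Γ(N, W)) :
    g.app W' (N.presheaf.map (homOfLE h).op s) = N'.presheaf.map (homOfLE h).op (g.app W s) :=
  ConcreteCategory.congr_hom (g.mapPresheaf.naturality (homOfLE h).op) s

/-- post-composition of a family with a morphism -/
def Fam.map (g : N ⟶ N') {U : X.Opens} (φ : Fam M N U) : Fam M N' U where
  app := fun V hV => (appLinear g V).comp (φ.app V hV)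
  naturality := fun V W hV hWV m => by
    simp only [LinearMap.comp_apply, appLinear_apply]
    rw [← app_res, φ.naturality V W hV hWV m]

@[simp] theorem Fam.map_app (g : N ⟶ N') {U : X.Opens} (φ : Fam M N U) (V : X.Opens) (hV : V ≤ U)
    (m : Γ(M, V)) : (Fam.map g φ).app V hV m = g.app V (φ.app V hV m) := rfl

/-- functoriality of the Hom sheaf in the second variable -/
def homShMap (g : N ⟶ N') : homSh M N ⟶ homSh M N' :=
  ⟨PresheafOfModules.homMk
    { app := fun U => AddCommGrpCat.ofHom
        { toFun := fun φ => Fam.map g (show Fam M N U.unop from φ)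
          map_zero' := by
            apply Fam.ext; funext V hV; apply LinearMap.ext; intro m
            exact map_zero (g.app V).hom
          map_add' := fun φ φ' => by
            apply Fam.ext; funext V hV; apply LinearMap.ext; intro m
            exact map_add (g.app V).hom _ _ }
      naturality := fun U V f => rfl }
    (fun U r φ => by
      apply Fam.ext; funext V hV; apply LinearMap.ext; intro m
      exact Scheme.Modules.Hom.app_smul g _ _)⟩

theorem homShMap_app (g : N ⟶ N') (U : X.Opens) (φ : Γ(homSh M N, U)) :
    (homShMap (M := M) g).app U φ = Fam.map g (show Fam M N U from φ) := rfl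

theorem homShMap_comp (g : N ⟶ N') (g' : N' ⟶ N'') :
    homShMap (M := M) (g ≫ g') = homShMap g ≫ homShMap g' := by
  apply Scheme.Modules.hom_ext
  intro U
  ext φ
  rfl

theorem homShMap_id : homShMap (M := M) (𝟙 N) = 𝟙 _ := by
  apply Scheme.Modules.hom_ext
  intro U
  ext φ
  rfl

theorem homShMap_zero : homShMap (M := M) (0 : N ⟶ N') = 0 := by
  apply Scheme.Modules.hom_ext
  intro U
  ext φ
  apply Fam.ext; funext V hV; apply LinearMap.ext; intro m
  rfl

/-- global sections of the Hom sheaf are morphisms -/
def globalEquiv : Fam M N ⊤ ≃+ (M ⟶ N) where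
  toFun := fun φ =>
    ⟨PresheafOfModules.homMk
      { app := fun V => AddCommGrpCat.ofHom (φ.app V.unop le_top).toAddMonoidHom
        naturality := fun V W f => by
          ext m
          exact (φ.naturality V.unop W.unop le_top f.unop.le m).symm }
      (fun V r m => (φ.app V.unop le_top).map_smul r m)⟩
  invFun := fun f =>
    { app := fun V _ => appLinear f V
      naturality := fun V W _ hWV m => (app_res f hWV m).symm }
  left_inv := fun φ => by
    apply Fam.ext; funext V hV; apply LinearMap.ext; intro m
    rfl
  right_inv := fun f => by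
    apply Scheme.Modules.hom_ext
    intro U
    ext m
    rfl
  map_add' := fun φ φ' => by
    apply Scheme.Modules.hom_ext
    intro U
    ext m
    rfl

theorem globalEquiv_app (φ : Fam M N ⊤) (V : X.Opens) (m : Γ(M, V)) :
    (globalEquiv φ).app V m = φ.app V le_top m := rfl

theorem globalEquiv_symm_app (f : M ⟶ N) (V : X.Opens) (hV : V ≤ ⊤) (m : Γ(M, V)) :
    (globalEquiv.symm f).app V hV m = f.app V m := rfl

theorem globalEquiv_map (g : N ⟶ N') (φ : Fam M N ⊤) :
    globalEquiv (Fam.map g φ) = globalEquiv φ ≫ g := by
  apply Scheme.Modules.hom_ext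
  intro U
  ext m
  rfl

section ALin

variable {A : Type u} [CommRing A] [X.Over (Spec (CommRingCat.of A))]

/-- `A`-linearity of the Hom sheaf -/
theorem smulModΓ_homSh (r : Coh.Γtop X) :
    Formal.smulModΓ (homSh M N) r = homShMap (Formal.smulModΓ N r) := by
  apply Scheme.Modules.hom_ext
  intro U
  ext φ
  apply Fam.ext; funext V hV; apply LinearMap.ext; intro m
  change (X.presheaf.map (homOfLE hV).op (X.presheaf.map (homOfLE (le_top : U ≤ ⊤)).op r)) •
    (show Fam M N U from φ).app V hV m = (X.presheaf.map (homOfLE (le_top : V ≤ ⊤)).op r) • _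
  rw [ring_map_map_of_le]

theorem smulMod_homSh (a : A) :
    Formal.smulMod A (homSh M N) a = homShMap (Formal.smulMod A N a) :=
  smulModΓ_homSh _

end ALin

end

end Groth.Agent.R2.H2.HomSh
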