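import Mathlib
import Groth.Agent.R2.H2HomSh4
import Groth.Agent.R2.H35FFReesCoh
import Groth.Agent.R2.H1ProLim

/-!
# Full faithfulness of completion, part 1: the two towers (helper2, PROJ:exist)

`H = homSh M N`.  The towers `P_n = H / I^(n+1) H` and `Q_n = homSh M (N / I^(n+1) N)` and the comparison
`α : P ⟶ Q`.
-/

set_option autoImplicit false
universe u
open CategoryTheory CategoryTheory.Limits AlgebraicGeometry TopologicalSpace Opposite

namespace Groth.Agent.R2.H2.ExistFF

open Groth.Agent.R2.H2.HomSh Groth.Agent.R2.H35.FFRees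

noncomputable section

variable {A : Type u} [CommRing A] {X : Scheme.{u}} [X.Over (Spec (CommRingCat.of A))]

/-- `homSh M -` as a functor -/
def homShFunctor (M : X.Modules) : X.Modules ⥤ X.Modules where
  obj := fun N => homSh M N
  map := fun g => homShMap g
  map_id := fun _ => homShMap_id
  map_comp := fun g g' => homShMap_comp g g'

variable (I : Ideal A) (M N : X.Modules)

instance epi_modPowπ (k : ℕ) (F : X.Modules) : Epi (Formal.modPowπ I k F) :=
  (shortExact_powMod I k F).epi_g

/-- `H ⟶ homSh M (N / I^k N)` -/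
def β (k : ℕ) : homSh M N ⟶ homSh M (Formal.modPow I k N) := homShMap (Formal.modPowπ I k N)

theorem smulFamily_β (k : ℕ) : Formal.smulFamily (I ^ k) (homSh M N) ≫ β I M N k = 0 := by
  rw [Groth.Agent.S9530.smulFamily_comp_eq_zero_iff]
  intro a ha
  rw [smulMod_homSh, β, ← homShMap_comp, smulMod_π_eq_zero I k N a ha, homShMap_zero]

/-- the comparison `H / I^k H ⟶ homSh M (N / I^k N)` -/
def α' (k : ℕ) : Formal.modPow I k (homSh M N) ⟶ homSh M (Formal.modPow I k N) :=
  cokernel.desc _ (β I M N k) (smulFamily_β I M N k)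

@[reassoc (attr := simp)]
theorem π_α' (k : ℕ) : Formal.modPowπ I k (homSh M N) ≫ α' I M N k = β I M N k :=
  cokernel.π_desc _ _ _

/-- the tower `H / I^(n+1) H` -/
abbrev P : ℕᵒᵖ ⥤ X.Modules := Formal.completion I (homSh M N)

/-- the tower `homSh M (N / I^(n+1) N)` -/
abbrev Q : ℕᵒᵖ ⥤ X.Modules := Formal.completion I N ⋙ homShFunctor M

/-- the projection to the `n`-th term of the completion tower, with the type of that term -/
def pc (F : X.Modules) (n : ℕ) : F ⟶ (Formal.completion I F).obj (op n) := Formal.modPowπ I (n + 1) F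

instance epi_pc (F : X.Modules) (n : ℕ) : Epi (pc I F n) := epi_modPowπ I (n + 1) F

theorem completion_map_succ (F : X.Modules) (n : ℕ) :
    (Formal.completion I F).map (homOfLE (Nat.le_add_right n 1)).op = Formal.modPowTrans I (n + 1) F :=
  Functor.ofOpSequence_map_homOfLE_succ _ n

theorem pc_succ (F : X.Modules) (n : ℕ) :
    pc I F (n + 1) ≫ (Formal.completion I F).map (homOfLE (Nat.le_add_right n 1)).op = pc I F n :=
  (congrArg (fun g => Formal.modPowπ I (n + 1 + 1) F ≫ g) (completion_map_succ I F n)).trans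
    (Formal.modPowπ_trans I (n + 1) F)

/-- `π_(m+1) ≫ (transition m → n) = π_(n+1)` -/
theorem pc_tr (F : X.Modules) {n m : ℕ} (h : n ≤ m) :
    pc I F m ≫ (Formal.completion I F).map (homOfLE h).op = pc I F n := by
  induction m, h using Nat.le_induction with
  | base =>
    have : (homOfLE (le_refl n)).op = 𝟙 (op n) := rfl
    rw [this, (Formal.completion I F).map_id, Category.comp_id]
  | succ m h ih =>
    have : (homOfLE (h.trans (Nat.le_succ m))).op =
        (homOfLE (Nat.le_add_right m 1)).op ≫ (homOfLE h).op := rfl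
    rw [this, (Formal.completion I F).map_comp, ← Category.assoc, pc_succ, ih]

/-- the `n`-th component of the comparison, with the types of the towers -/
def αc (n : ℕ) : (P I M N).obj (op n) ⟶ (Q I M N).obj (op n) := α' I M N (n + 1)

/-- `H ⟶ Q_n` -/
def βc (n : ℕ) : homSh M N ⟶ (Q I M N).obj (op n) := β I M N (n + 1)

theorem βc_eq (n : ℕ) : βc I M N n = homShMap (pc I N n) := rfl

theorem pc_αc (n : ℕ) : pc I (homSh M N) n ≫ αc I M N n = βc I M N n := π_α' I M N (n + 1)

theorem Q_map {n m : ℕ} (h : n ≤ m) :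
    (Q I M N).map (homOfLE h).op = homShMap ((Formal.completion I N).map (homOfLE h).op) := rfl

theorem βc_tr {n m : ℕ} (h : n ≤ m) :
    βc I M N m ≫ (Q I M N).map (homOfLE h).op = βc I M N n := by
  exact (homShMap_comp (M := M) (pc I N m) ((Formal.completion I N).map (homOfLE h).op)).symm.trans
    (congrArg (fun g => homShMap (M := M) g) (pc_tr I N h))

/-- the comparison of towers -/
def α : P I M N ⟶ Q I M N :=
  NatTrans.ofOpSequence (fun n => αc I M N n) (fun n => by
    rw [← cancel_epi (pc I (homSh M N) (n + 1)), ← Category.assoc, pc_succ, pc_αc, ← Category.assoc,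
      pc_αc, βc_tr])

theorem α_app (n : ℕ) : (α I M N).app (op n) = αc I M N n := rfl

theorem pc_α (n : ℕ) : pc I (homSh M N) n ≫ (α I M N).app (op n) = βc I M N n := pc_αc I M N n

end

end Groth.Agent.R2.H2.ExistFF
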