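import Mathlib
import Groth.Agent.R2.H2ExistFF1

/-!
# Essential surjectivity of completion from a presentation (helper2, PROJ:exist)

If a system `G` (killed levelwise by `I^(n+1)`) admits a levelwise right exact presentation
`E₁^ → E₀^ → G → 0` by completions of coherent modules, and the first map is the completion of
`φ : E₁ ⟶ E₀`, then `G ≅ (coker φ)^`.
-/

set_option autoImplicit false
set_option linter.unusedSectionVars false
set_option linter.style.haveILetI false
universe u
open CategoryTheory CategoryTheory.Limits AlgebraicGeometry TopologicalSpace Opposite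

namespace Groth.Agent.R2.H2.ExistProj

open Groth.Agent.R2.H2.ExistFF Groth.Agent.R2.H35.FFRees

noncomputable section

variable {A : Type u} [CommRing A] {X : Scheme.{u}} [X.Over (Spec (CommRingCat.of A))] (I : Ideal A)

theorem isCoh_cokernel {E F : X.Modules} (hE : Coh.IsCoh E) (hF : Coh.IsCoh F) (u : E ⟶ F) :
    Coh.IsCoh (cokernel u) := by
  have h1 : E.IsQuasicoherent := hE.1
  have h2 : F.IsQuasicoherent := hF.1
  have h3 : SheafOfModules.IsFiniteType (R := X.ringCatSheaf) F := hF.2
  have h4 : (cokernel u).IsQuasicoherent :=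
    Groth.Agent.Lib.Helper23.QCohLocal.isQuasicoherent_cokernel u
  exact ⟨h4, Groth.Agent.Lib.Helper23.FinType.isFiniteType_of_epi (cokernel.π u)⟩

/-- a map out of `F` into a module killed by `I^(n+1)` factors through the `n`-th term of the completion -/
def descKilled {F T : X.Modules} (n : ℕ) (hT : Formal.KilledBy (I ^ (n + 1)) T) (v : F ⟶ T) :
    (Formal.completion I F).obj (op n) ⟶ T :=
  cokernel.desc (Formal.smulFamily (I ^ (n + 1)) F) v (by
    rw [Groth.Agent.S9530.smulFamily_comp_eq_zero_iff]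
    intro a ha
    rw [Groth.Agent.S9530.smulMod_comp, hT a ha, comp_zero])

theorem pc_descKilled {F T : X.Modules} (n : ℕ) (hT : Formal.KilledBy (I ^ (n + 1)) T) (v : F ⟶ T) :
    pc I F n ≫ descKilled I n hT v = v :=
  cokernel.π_desc _ _ _

theorem killedBy_completion (F : X.Modules) (n : ℕ) :
    Formal.KilledBy (I ^ (n + 1)) ((Formal.completion I F).obj (op n)) := fun a ha => by
  rw [← cancel_epi (pc I F n), comp_zero, ← Groth.Agent.S9530.smulMod_comp]
  exact smulMod_π_eq_zero I (n + 1) F a ha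

/-- functoriality of the terms of the completion -/
def cMap {E F : X.Modules} (φ : E ⟶ F) (n : ℕ) :
    (Formal.completion I E).obj (op n) ⟶ (Formal.completion I F).obj (op n) :=
  descKilled I n (killedBy_completion I F n) (φ ≫ pc I F n)

theorem pc_cMap {E F : X.Modules} (φ : E ⟶ F) (n : ℕ) : pc I E n ≫ cMap I φ n = φ ≫ pc I F n :=
  pc_descKilled I n _ _

variable {G : ℕᵒᵖ ⥤ X.Modules} {E₀ E₁ : X.Modules}

/-- **Algebraization from a presentation.** -/
theorem exists_iso_of_presentation (hG : ∀ n, Formal.KilledBy (I ^ (n + 1)) (G.obj (op n)))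
    (hE₀ : Coh.IsCoh E₀) (hE₁ : Coh.IsCoh E₁)
    (p : Formal.completion I E₀ ⟶ G) (hp : ∀ n, Epi (p.app (op n)))
    (q : Formal.completion I E₁ ⟶ Formal.completion I E₀)
    (hex : ∀ n, ∃ w : q.app (op n) ≫ p.app (op n) = 0,
      (ShortComplex.mk (q.app (op n)) (p.app (op n)) w).Exact)
    (φ : E₁ ⟶ E₀)
    (hφ : ∀ n : ℕ, Formal.modPowπ I (n + 1) E₁ ≫ q.app (op n) = φ ≫ Formal.modPowπ I (n + 1) E₀) :
    ∃ M : X.Modules, Coh.IsCoh M ∧ Nonempty (Formal.completion I M ≅ G) := by
  refine ⟨cokernel φ, isCoh_cokernel hE₁ hE₀ φ, ?_⟩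
  have hφ' : ∀ n, pc I E₁ n ≫ q.app (op n) = φ ≫ pc I E₀ n := hφ
  let c : E₀ ⟶ cokernel φ := cokernel.π φ
  -- `v_n : F ⟶ G_n`
  have hv : ∀ n, φ ≫ pc I E₀ n ≫ p.app (op n) = 0 := by
    intro n
    obtain ⟨w, -⟩ := hex n
    rw [← Category.assoc, ← hφ', Category.assoc, w, comp_zero]
  let v : ∀ n, cokernel φ ⟶ G.obj (op n) := fun n => cokernel.desc φ (pc I E₀ n ≫ p.app (op n)) (hv n)
  have hcv : ∀ n, c ≫ v n = pc I E₀ n ≫ p.app (op n) := fun n => cokernel.π_desc _ _ _
  let u : ∀ n, (Formal.completion I (cokernel φ)).obj (op n) ⟶ G.obj (op n) :=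
    fun n => descKilled I n (hG n) (v n)
  have hu : ∀ n, pc I (cokernel φ) n ≫ u n = v n := fun n => pc_descKilled I n (hG n) (v n)
  -- the inverse
  have hqc : ∀ n, q.app (op n) ≫ cMap I c n = 0 := by
    intro n
    rw [← cancel_epi (pc I E₁ n), comp_zero, ← Category.assoc, hφ', Category.assoc, pc_cMap,
      ← Category.assoc, cokernel.condition, zero_comp]
  have hw : ∀ n, ∃ w : G.obj (op n) ⟶ (Formal.completion I (cokernel φ)).obj (op n),
      p.app (op n) ≫ w = cMap I c n := by
    intro n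
    obtain ⟨w, hS⟩ := hex n
    haveI := hp n
    exact ⟨hS.desc (cMap I c n) (hqc n), hS.g_desc (cMap I c n) (hqc n)⟩
  choose w hw using hw
  have hcu : ∀ n, cMap I c n ≫ u n = p.app (op n) := by
    intro n
    rw [← cancel_epi (pc I E₀ n), ← Category.assoc, pc_cMap, Category.assoc, hu, hcv]
  haveI : Epi c := inferInstanceAs (Epi (cokernel.π φ))
  have hiso : ∀ n, IsIso (u n) := by
    intro n
    haveI := hp n
    refine ⟨w n, ?_, ?_⟩
    · rw [← cancel_epi (pc I (cokernel φ) n), ← cancel_epi c, ← Category.assoc (pc I _ n), hu,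
        ← Category.assoc c, hcv, Category.assoc, hw, pc_cMap, Category.comp_id]
    · rw [← cancel_epi (p.app (op n)), ← Category.assoc, hw, hcu, Category.comp_id]
  let α : Formal.completion I (cokernel φ) ⟶ G := NatTrans.ofOpSequence u (fun n => by
    rw [← cancel_epi (pc I (cokernel φ) (n + 1)), ← cancel_epi c, ← Category.assoc (pc I _ (n + 1)),
      pc_succ, hu, hcv, ← Category.assoc (pc I _ (n + 1)), hu, ← Category.assoc c, hcv, Category.assoc,
      ← p.naturality, ← Category.assoc, pc_succ])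
  haveI : ∀ j : ℕᵒᵖ, IsIso (α.app j) := fun j => hiso j.unop
  haveI : IsIso α := NatIso.isIso_of_isIso_app α
  exact ⟨asIso α⟩

end

end Groth.Agent.R2.H2.ExistProj
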