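import Mathlib
import Groth.Agent.R2.H64FFGrFin
import Groth.Agent.R2.H35FFReesSpec

/-!
# Towers of `O_X`-modules with `I`-adic lifts (helper64, PROJ:exist package ES-gen, part 1)

`X` a scheme over `Spec A`, `a : Fin r → A`.  A `Tower a X` is an inverse system
`… → K (n+1) → K n → … → K 0` with epimorphic transition maps `τ n`, together with "divided
multiplications" `lift i n : K n ⟶ K (n+1)` with `τ n ≫ lift i n = a i` on `K (n+1)`.

* `Tower.kerSys 𝒦 : GrSys X r` : the graded system `N n = ker (τ n)` with the operators induced by the lifts;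
* `Tower.Hom`, `Tower.Hom.lift_comm`, `Tower.Hom.mapN`;
* `Tower.kerTower g` : the kernel of a morphism of towers inducing epimorphisms on the `N n`, and the
  monomorphism of graded systems `kerSys (kerTower g) ↪ kerSys 𝒦`;
* `locFin_of_mono` : a sub-system with coherent pieces of a `LocFin` system is `LocFin`
  (graded Hilbert basis theorem).
-/

set_option autoImplicit false
set_option linter.style.haveILetI false
universe u

open CategoryTheory CategoryTheory.Limits AlgebraicGeometry Opposite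

namespace Groth.Agent.R2.H64.ExistSys

open Groth.Agent.R2.H64.FFGr Groth.Agent.R2.H64.FFSpec Groth.Agent.R2.H64.FFGrFin
open Groth.Agent.R2.H40.FormalMod

variable {A : Type u} [CommRing A]

/-- An inverse system with epimorphic transitions and divided multiplications. -/
structure Tower {r : ℕ} (a : Fin r → A) (X : Scheme.{u}) [X.Over (Spec (CommRingCat.of A))] where
  /-- the levels -/
  K : ℕ → X.Modules
  /-- the transition maps -/
  τ : ∀ n, K (n + 1) ⟶ K n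
  epi : ∀ n, Epi (τ n)
  /-- divided multiplication by `a i` -/
  lift : Fin r → ∀ n, K n ⟶ K (n + 1)
  τ_lift : ∀ i n, τ n ≫ lift i n = Formal.smulMod A (K (n + 1)) (a i)

variable {X : Scheme.{u}} [X.Over (Spec (CommRingCat.of A))] {r : ℕ} {a : Fin r → A}

namespace Tower

variable (𝒦 : Tower a X)

instance (n : ℕ) : Epi (𝒦.τ n) := 𝒦.epi n

theorem lift_τ (i : Fin r) (n : ℕ) : 𝒦.lift i n ≫ 𝒦.τ n = Formal.smulMod A (𝒦.K n) (a i) := by
  rw [← cancel_epi (𝒦.τ n), ← Category.assoc, 𝒦.τ_lift, Groth.Agent.S9530.smulMod_comp]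

theorem lift_comm (i j : Fin r) (n : ℕ) :
    𝒦.lift i n ≫ 𝒦.lift j (n + 1) = 𝒦.lift j n ≫ 𝒦.lift i (n + 1) := by
  have key : 𝒦.lift j (n + 1) ≫ Formal.smulMod A (𝒦.K (n + 1 + 1)) (a i) =
      𝒦.lift i (n + 1) ≫ Formal.smulMod A (𝒦.K (n + 1 + 1)) (a j) := by
    rw [← cancel_epi (𝒦.τ (n + 1)), ← Category.assoc, ← Category.assoc, 𝒦.τ_lift, 𝒦.τ_lift,
      ← smulMod_mul, ← smulMod_mul, mul_comm]
  rw [← cancel_epi (𝒦.τ n), ← Category.assoc, ← Category.assoc, 𝒦.τ_lift, 𝒦.τ_lift,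
    Groth.Agent.S9530.smulMod_comp, Groth.Agent.S9530.smulMod_comp, key]

/-- the graded pieces `N n = ker (K (n+1) → K n)` -/
noncomputable abbrev N (n : ℕ) : X.Modules := kernel (𝒦.τ n)

theorem ι_smulMod (i : Fin r) (n : ℕ) :
    kernel.ι (𝒦.τ n) ≫ Formal.smulMod A (𝒦.K (n + 1)) (a i) = 0 := by
  rw [← 𝒦.τ_lift, ← Category.assoc, kernel.condition, zero_comp]

/-- the operators on the graded pieces -/
noncomputable def NT (i : Fin r) (n : ℕ) : 𝒦.N n ⟶ 𝒦.N (n + 1) :=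
  kernel.lift (𝒦.τ (n + 1)) (kernel.ι (𝒦.τ n) ≫ 𝒦.lift i (n + 1)) (by
    rw [Category.assoc, 𝒦.lift_τ, 𝒦.ι_smulMod])

@[reassoc (attr := simp)]
theorem NT_ι (i : Fin r) (n : ℕ) :
    𝒦.NT i n ≫ kernel.ι (𝒦.τ (n + 1)) = kernel.ι (𝒦.τ n) ≫ 𝒦.lift i (n + 1) :=
  kernel.lift_ι _ _ _

/-- the graded system of the kernels of the transition maps -/
noncomputable def kerSys : GrSys X r where
  G := 𝒦.N
  T := 𝒦.NT
  comm i j n := by
    rw [← cancel_mono (kernel.ι (𝒦.τ (n + 1 + 1))), Category.assoc, Category.assoc, NT_ι, NT_ι,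
      NT_ι_assoc, NT_ι_assoc, 𝒦.lift_comm]

/-- A morphism of towers. -/
structure Hom (𝒦 𝒦' : Tower a X) where
  /-- the components -/
  f : ∀ n, 𝒦.K n ⟶ 𝒦'.K n
  comm : ∀ n, 𝒦.τ n ≫ f n = f (n + 1) ≫ 𝒦'.τ n

variable {𝒦} {𝒦' : Tower a X} (g : Hom 𝒦 𝒦')

theorem Hom.lift_comm (i : Fin r) (n : ℕ) :
    g.f n ≫ 𝒦'.lift i n = 𝒦.lift i n ≫ g.f (n + 1) := by
  rw [← cancel_epi (𝒦.τ n), ← Category.assoc, g.comm, Category.assoc, 𝒦'.τ_lift,
    ← Category.assoc, 𝒦.τ_lift, Groth.Agent.S9530.smulMod_comp]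

/-- the induced map on graded pieces -/
noncomputable def Hom.mapN (n : ℕ) : 𝒦.N n ⟶ 𝒦'.N n :=
  kernel.map (𝒦.τ n) (𝒦'.τ n) (g.f (n + 1)) (g.f n) (g.comm n)

@[reassoc (attr := simp)]
theorem Hom.mapN_ι (n : ℕ) :
    g.mapN n ≫ kernel.ι (𝒦'.τ n) = kernel.ι (𝒦.τ n) ≫ g.f (n + 1) :=
  kernel.lift_ι _ _ _

/-- kernels of a morphism of towers: the transition maps -/
noncomputable def Hom.kτ (n : ℕ) : kernel (g.f (n + 1)) ⟶ kernel (g.f n) :=
  kernel.map (g.f (n + 1)) (g.f n) (𝒦.τ n) (𝒦'.τ n) (g.comm n).symm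

@[reassoc (attr := simp)]
theorem Hom.kτ_ι (n : ℕ) :
    g.kτ n ≫ kernel.ι (g.f n) = kernel.ι (g.f (n + 1)) ≫ 𝒦.τ n :=
  kernel.lift_ι _ _ _

/-- diagram chase: the transition maps of the kernel system are epimorphisms if `g` induces
epimorphisms on the graded pieces. -/
theorem Hom.epi_kτ (n : ℕ) (h : Epi (g.mapN n)) : Epi (g.kτ n) := by
  rw [epi_iff_surjective_up_to_refinements]
  intro T x
  -- lift `x ≫ ι` along the epimorphism `τ n`
  obtain ⟨T₁, π₁, hπ₁, y₁, hy₁⟩ :=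
    (epi_iff_surjective_up_to_refinements (𝒦.τ n)).1 inferInstance (x ≫ kernel.ι (g.f n))
  -- `y₁ ≫ g (n+1)` lands in `N' n`
  have h0 : (y₁ ≫ g.f (n + 1)) ≫ 𝒦'.τ n = 0 := by
    rw [Category.assoc, ← g.comm, ← Category.assoc, ← hy₁, Category.assoc, Category.assoc,
      kernel.condition, comp_zero, comp_zero]
  obtain ⟨T₂, π₂, hπ₂, z, hz⟩ :=
    (epi_iff_surjective_up_to_refinements (g.mapN n)).1 h (kernel.lift (𝒦'.τ n) _ h0)
  let w : T₂ ⟶ 𝒦.K (n + 1) := π₂ ≫ y₁ - z ≫ kernel.ι (𝒦.τ n)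
  have hw : w ≫ g.f (n + 1) = 0 := by
    have e1 : z ≫ kernel.ι (𝒦.τ n) ≫ g.f (n + 1) = π₂ ≫ y₁ ≫ g.f (n + 1) := by
      rw [← g.mapN_ι, ← Category.assoc, ← hz, Category.assoc, kernel.lift_ι]
    rw [Preadditive.sub_comp, Category.assoc, Category.assoc, e1, sub_self]
  refine ⟨T₂, π₂ ≫ π₁, epi_comp _ _, kernel.lift (g.f (n + 1)) w hw, ?_⟩
  rw [← cancel_mono (kernel.ι (g.f n)), Category.assoc, Category.assoc, Category.assoc, g.kτ_ι,
    kernel.lift_ι_assoc, hy₁, Preadditive.sub_comp, Category.assoc, Category.assoc,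
    kernel.condition, comp_zero, sub_zero]

/-- the kernel of a morphism of towers which induces epimorphisms on the graded pieces -/
noncomputable def kerTower (h : ∀ n, Epi (g.mapN n)) : Tower a X where
  K n := kernel (g.f n)
  τ n := g.kτ n
  epi n := g.epi_kτ n (h n)
  lift i n := kernel.map (g.f n) (g.f (n + 1)) (𝒦.lift i n) (𝒦'.lift i n) (g.lift_comm i n)
  τ_lift i n := by
    rw [← cancel_mono (kernel.ι (g.f (n + 1))), Category.assoc, kernel.lift_ι, g.kτ_ι_assoc,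
      𝒦.τ_lift, Groth.Agent.S9530.smulMod_comp]

/-- the inclusion of the graded pieces of the kernel tower -/
noncomputable def kerTowerN (h : ∀ n, Epi (g.mapN n)) (n : ℕ) : (kerTower g h).N n ⟶ 𝒦.N n :=
  kernel.map ((kerTower g h).τ n) (𝒦.τ n) (kernel.ι (g.f (n + 1))) (kernel.ι (g.f n)) (g.kτ_ι n)

@[reassoc (attr := simp)]
theorem kerTowerN_ι (h : ∀ n, Epi (g.mapN n)) (n : ℕ) :
    kerTowerN g h n ≫ kernel.ι (𝒦.τ n) =
      kernel.ι ((kerTower g h).τ n) ≫ kernel.ι (g.f (n + 1)) :=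
  kernel.lift_ι _ _ _

instance (h : ∀ n, Epi (g.mapN n)) (n : ℕ) : Mono (kerTowerN g h n) := by
  have h1 : Mono (kernel.ι (g.f (n + 1))) := inferInstanceAs (Mono (kernel.ι _))
  have h2 : Mono (kernel.ι ((kerTower g h).τ n)) := inferInstanceAs (Mono (kernel.ι _))
  have h3 : Mono (kernel.ι ((kerTower g h).τ n) ≫ kernel.ι (g.f (n + 1))) :=
    @mono_comp _ _ _ _ _ _ h2 _ h1
  exact @mono_of_mono_fac _ _ _ _ _ _ _ _ h3 (kerTowerN_ι g h n)

theorem kerTowerN_NT (h : ∀ n, Epi (g.mapN n)) (i : Fin r) (n : ℕ) :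
    (kerTower g h).NT i n ≫ kerTowerN g h (n + 1) = kerTowerN g h n ≫ 𝒦.NT i n := by
  rw [← cancel_mono (kernel.ι (𝒦.τ (n + 1))), Category.assoc, Category.assoc, kerTowerN_ι,
    NT_ι, NT_ι_assoc, kerTowerN_ι_assoc]
  have e : (kerTower g h).lift i (n + 1) ≫ kernel.ι (g.f (n + 1 + 1)) =
      kernel.ι (g.f (n + 1)) ≫ 𝒦.lift i (n + 1) := kernel.lift_ι _ _ _
  rw [e]
  rfl

end Tower

section sub

variable {Y : Scheme.{u}}

open Groth.Agent.Lib.Helper23.QCohLocal Groth.Agent.Lib.Helper23.FinType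
open Groth.Agent.Lib.Helper20.StalkExact

/-- **Sub-systems of `LocFin` systems are `LocFin`** (graded Hilbert basis theorem). -/
theorem locFin_of_mono [IsLocallyNoetherian Y] {s : ℕ} (𝒩 𝒬 : GrSys Y s)
    (j : ∀ n, 𝒩.G n ⟶ 𝒬.G n) (hj : ∀ n, Mono (j n))
    (hjT : ∀ i n, 𝒩.T i n ≫ j (n + 1) = j n ≫ 𝒬.T i n) (h𝒬 : LocFin 𝒬)
    (hcoh : ∀ n, Coh.IsCoh (𝒩.G n)) : LocFin 𝒩 where
  coh := hcoh
  gen U hU := by
    obtain ⟨d₀, hd₀⟩ := h𝒬.gen U hU
    haveI : IsNoetherianRing Γ(Y, U) := IsLocallyNoetherian.component_noetherian ⟨U, hU⟩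
    have hfin : ∀ n, Module.Finite Γ(Y, U) Γ(𝒬.G n, U) := by
      intro n
      haveI := (h𝒬.coh n).1
      haveI := (h𝒬.coh n).2
      exact finite_of_isFiniteType (𝒬.G n) hU
    let τ : Fin s → ∀ n, Γ(𝒬.G n, U) →ₗ[Γ(Y, U)] Γ(𝒬.G (n + 1), U) :=
      fun i n => appₗ (𝒬.T i n) U
    let ι : ∀ n, Γ(𝒩.G n, U) →ₗ[Γ(Y, U)] Γ(𝒬.G n, U) := fun n => appₗ (j n) U
    let W : ∀ n, Submodule Γ(Y, U) Γ(𝒬.G n, U) := fun n => LinearMap.range (ι n)
    have hcomp : ∀ i n (x : Γ(𝒩.G n, U)), τ i n (ι n x) = ι (n + 1) (appₗ (𝒩.T i n) U x) :=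
      fun i n x => congrArg (fun φ : 𝒩.G n ⟶ 𝒬.G (n + 1) => φ.app U x) (hjT i n).symm
    have hW : ∀ i n x, x ∈ W n → τ i n x ∈ W (n + 1) := by
      rintro i n _ ⟨x, rfl⟩
      exact ⟨_, (hcomp i n x).symm⟩
    obtain ⟨d, hd⟩ := exists_genFrom_of_sub τ (fun i k n x => appₗ_comm 𝒬 i k n U x) hfin d₀ hd₀ W hW
    refine ⟨d, fun n hn y _ => ?_⟩
    have hιy : ι (n + 1) y ∈ W (n + 1) := ⟨y, rfl⟩
    have h1 : ι (n + 1) y ∈ ⨆ i, (W n).map (τ i n) := hd n hn hιy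
    have h3 : (⨆ i, (W n).map (τ i n)) =
        (⨆ i, LinearMap.range (appₗ (𝒩.T i n) U)).map (ι (n + 1)) :=
      iSup_map_range_eq (ι n) (ι (n + 1)) (fun i => appₗ (𝒩.T i n) U) (fun i => τ i n)
        (fun i x => (hcomp i n x).symm)
    rw [h3] at h1
    obtain ⟨t, ht, hty⟩ := h1
    haveI := hj (n + 1)
    have hinj : Function.Injective (ι (n + 1)) := injective_app_of_mono (j (n + 1)) U
    have : t = y := hinj hty
    subst this
    simp only [Submodule.map_top]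
    exact ht

end sub

end Groth.Agent.R2.H64.ExistSys
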