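import Mathlib
import Groth.Agent.R2.H64ExistSys
import Groth.Agent.Lib.Helper23QCohSum

/-!
# Strict towers and generation of their graded systems (helper64, PROJ:exist package ES-gen, part 2)

* `mem_iSup_of_epi_desc`, `epi_desc_of_forall_mem`, `exists_epi_desc_of_locFin` : translation between
  "generated in degree `n → n+1`" on sections over affine opens and `Epi (biproduct.desc (𝒢.T · n))`;
* `Tower.IsStrict 𝒦 I` : `K n` is killed by `I^(n+1)` and `τ n` is the universal map killing `I^(n+1)`;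
* `IsStrict.epi_desc_NT` : for a strict tower the graded system of kernels is generated in degree `0`;
  `IsStrict.locFin_kerSys`;
* `IsStrict.epi_mapN` : a levelwise epimorphism onto a strict tower is an epimorphism on graded pieces;
* `formalTower hG a ha` (from `Formal.IsCohFormal I G`) and `complTower I a ha E` (from `Formal.completion I E`) are
  strict.
-/

set_option autoImplicit false
set_option linter.style.haveILetI false
universe u

open CategoryTheory CategoryTheory.Limits AlgebraicGeometry Opposite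

namespace Groth.Agent.R2.H64.ExistSys

open Groth.Agent.R2.H64.FFGr Groth.Agent.R2.H64.FFGrFin
open Groth.Agent.R2.H64.FFSpec hiding powMod
open Groth.Agent.R2.H40.FormalMod Groth.Agent.R2.H35.FFRees TopologicalSpace

attribute [local instance] Abelian.hasFiniteBiproducts

section gen

variable {Y : Scheme.{u}}

theorem desc_eq_sum {s : ℕ} {M : Fin s → Y.Modules} {N : Y.Modules} (f : ∀ i, M i ⟶ N) :
    biproduct.desc f = ∑ i, biproduct.π M i ≫ f i := by
  rw [← Category.id_comp (biproduct.desc f), ← biproduct.total, Preadditive.sum_comp]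
  refine Finset.sum_congr rfl fun i _ => ?_
  rw [Category.assoc, biproduct.ι_desc]

/-- categorical generation gives generation of the sections over affine opens -/
theorem mem_iSup_of_epi_desc {s : ℕ} (𝒢 : GrSys Y s) (n : ℕ) (hq : (𝒢.G n).IsQuasicoherent)
    (hq' : (𝒢.G (n + 1)).IsQuasicoherent) (h : Epi (biproduct.desc (fun i => 𝒢.T i n)))
    (U : Y.Opens) (hU : IsAffineOpen U) (y : Γ(𝒢.G (n + 1), U)) :
    y ∈ ⨆ i, (⊤ : Submodule Γ(Y, U) Γ(𝒢.G n, U)).map (appₗ (𝒢.T i n) U) := by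
  haveI : (⨁ fun _ : Fin s => 𝒢.G n).IsQuasicoherent :=
    Groth.Agent.Lib.Helper23.QCohLocal.isQuasicoherent_biproduct _ (fun _ => hq)
  obtain ⟨x, rfl⟩ := Groth.Agent.Lib.Helper23.FinType.surjective_app_of_epi
    (biproduct.desc (fun i => 𝒢.T i n)) hU y
  rw [desc_eq_sum, sum_app]
  refine Submodule.sum_mem _ fun i _ => ?_
  refine Submodule.mem_iSup_of_mem i ?_
  exact ⟨(biproduct.π (fun _ : Fin s => 𝒢.G n) i).app U x, Submodule.mem_top, rfl⟩

/-- generation of the sections over the members of an affine open cover gives categorical generation -/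
theorem epi_desc_of_forall_mem {s : ℕ} (𝒢 : GrSys Y s) (n : ℕ) (hq : (𝒢.G n).IsQuasicoherent)
    (hq' : (𝒢.G (n + 1)).IsQuasicoherent) {ι : Type*} (V : ι → Y.Opens) (hV : IsOpenCover V)
    (hVa : ∀ j, IsAffineOpen (V j))
    (h : ∀ j (y : Γ(𝒢.G (n + 1), V j)),
      y ∈ ⨆ i, (⊤ : Submodule Γ(Y, V j) Γ(𝒢.G n, V j)).map (appₗ (𝒢.T i n) (V j))) :
    Epi (biproduct.desc (fun i => 𝒢.T i n)) := by
  haveI : (⨁ fun _ : Fin s => 𝒢.G n).IsQuasicoherent :=
    Groth.Agent.Lib.Helper23.QCohLocal.isQuasicoherent_biproduct _ (fun _ => hq)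
  refine epi_of_surjective_app_cover' _ V hV hVa (fun j y => ?_)
  have key : ∀ z, z ∈ ⨆ i, (⊤ : Submodule Γ(Y, V j) Γ(𝒢.G n, V j)).map (appₗ (𝒢.T i n) (V j)) →
      ∃ x, (biproduct.desc (fun i => 𝒢.T i n)).app (V j) x = z := by
    intro z hz
    induction hz using Submodule.iSup_induction' with
    | mem i z hz =>
      obtain ⟨w, -, rfl⟩ := hz
      refine ⟨(biproduct.ι (fun _ : Fin s => 𝒢.G n) i).app (V j) w, ?_⟩
      exact congrArg (fun φ : 𝒢.G n ⟶ 𝒢.G (n + 1) => φ.app (V j) w)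
        (biproduct.ι_desc (fun i => 𝒢.T i n) i)
    | zero => exact ⟨0, map_zero _⟩
    | add y z _ _ hy hz =>
      obtain ⟨a, ha⟩ := hy
      obtain ⟨b, hb⟩ := hz
      exact ⟨a + b, by rw [map_add, ha, hb]⟩
  exact key y (h j y)

/-- a `LocFin` system on a quasi-compact scheme is categorically generated from some degree on -/
theorem exists_epi_desc_of_locFin [CompactSpace Y] {s : ℕ} (𝒢 : GrSys Y s) (h𝒢 : LocFin 𝒢) :
    ∃ d, ∀ n, d ≤ n → Epi (biproduct.desc (fun i => 𝒢.T i n)) := by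
  have hloc : ∀ x : Y, ∃ V : Y.Opens, IsAffineOpen V ∧ x ∈ V := by
    intro x
    obtain ⟨V, hV, hxV, -⟩ := (TopologicalSpace.Opens.isBasis_iff_nbhd.1 Y.isBasis_affineOpens)
      (TopologicalSpace.Opens.mem_top x)
    exact ⟨V, hV, hxV⟩
  choose Vx hVa hxV using hloc
  obtain ⟨t, ht⟩ := isCompact_univ.elim_finite_subcover (fun x : Y => (Vx x : Set Y))
    (fun x => (Vx x).2) (fun y _ => Set.mem_iUnion.2 ⟨y, hxV y⟩)
  choose dx hdx using fun x => h𝒢.gen (Vx x) (hVa x)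
  refine ⟨t.sup dx, fun n hn => ?_⟩
  refine epi_desc_of_forall_mem 𝒢 n (h𝒢.coh n).1 (h𝒢.coh (n + 1)).1 (fun x : t => Vx x.1) ?_
    (fun x => hVa x.1) (fun x y => ?_)
  · rw [IsOpenCover, eq_top_iff]
    intro y _
    obtain ⟨x, hx⟩ := Set.mem_iUnion.1 (ht (Set.mem_univ y))
    obtain ⟨hxt, hyx⟩ := Set.mem_iUnion.1 hx
    exact TopologicalSpace.Opens.mem_iSup.2 ⟨⟨x, hxt⟩, hyx⟩
  · exact hdx x.1 n ((Finset.le_sup (f := dx) x.2).trans hn) (Submodule.mem_top (x := y))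

end gen

variable {A : Type u} [CommRing A] {X : Scheme.{u}} [X.Over (Spec (CommRingCat.of A))]
  {r : ℕ} {a : Fin r → A}

/-- a map into a module killed by `I^k` vanishes on `I^k M` -/
theorem powModι_comp_eq_zero (I : Ideal A) (k : ℕ) {M T : X.Modules} (g : M ⟶ T)
    (hT : Formal.KilledBy (I ^ k) T) : powModι I k M ≫ g = 0 := by
  have h0 : Formal.smulFamily (I ^ k) M ≫ g = 0 := by
    rw [Groth.Agent.S9530.smulFamily_comp_eq_zero_iff]
    intro b hb
    rw [Groth.Agent.S9530.smulMod_comp, hT b hb, comp_zero]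
  have h1 : g = Formal.modPowπ I k M ≫ cokernel.desc _ g h0 := (cokernel.π_desc _ _ _).symm
  rw [h1, ← Category.assoc, powModι_π, zero_comp]

namespace Tower

variable (𝒦 : Tower a X)

/-- strictness: `K n` is the quotient of `K (n+1)` by `I^(n+1)` -/
structure IsStrict (I : Ideal A) : Prop where
  killed : ∀ n, Formal.KilledBy (I ^ (n + 1)) (𝒦.K n)
  fac : ∀ n (T : X.Modules) (g : 𝒦.K (n + 1) ⟶ T),
    (∀ b ∈ I ^ (n + 1), Formal.smulMod A (𝒦.K (n + 1)) b ≫ g = 0) → ∃ g', 𝒦.τ n ≫ g' = g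

variable {𝒦} {I : Ideal A}

/-- `I^(n+1) K (n+1) ⟶ N n` -/
noncomputable def powToN (hk : ∀ n, Formal.KilledBy (I ^ (n + 1)) (𝒦.K n)) (n : ℕ) :
    powMod I (n + 1) (𝒦.K (n + 1)) ⟶ 𝒦.N n :=
  kernel.lift (𝒦.τ n) (powModι I (n + 1) (𝒦.K (n + 1))) (powModι_comp_eq_zero I (n + 1) _ (hk n))

@[reassoc (attr := simp)]
theorem powToN_ι (hk : ∀ n, Formal.KilledBy (I ^ (n + 1)) (𝒦.K n)) (n : ℕ) :
    powToN hk n ≫ kernel.ι (𝒦.τ n) = powModι I (n + 1) (𝒦.K (n + 1)) :=
  kernel.lift_ι _ _ _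

theorem IsStrict.epi_powToN (h : 𝒦.IsStrict I) (n : ℕ) : Epi (powToN h.killed n) := by
  obtain ⟨g', hg'⟩ := h.fac n _ (Formal.modPowπ I (n + 1) (𝒦.K (n + 1)))
    (fun b hb => smulMod_π_eq_zero I (n + 1) _ b hb)
  have h0 : kernel.ι (𝒦.τ n) ≫ Formal.modPowπ I (n + 1) (𝒦.K (n + 1)) = 0 := by
    rw [← hg', ← Category.assoc, kernel.condition, zero_comp]
  have h1 : powModFac I (n + 1) (kernel.ι (𝒦.τ n)) h0 ≫ powToN h.killed n = 𝟙 _ := by
    have hm : Mono (kernel.ι (𝒦.τ n)) := inferInstanceAs (Mono (kernel.ι _))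
    rw [← cancel_mono (kernel.ι (𝒦.τ n)), Category.assoc, powToN_ι, powModFac_ι, Category.id_comp]
  exact (IsSplitEpi.mk' ⟨_, h1⟩).epi

/-- a map to `N (n+1)` from `I^(n+1) K (n+2)` -/
noncomputable def powToN' (hk : ∀ n, Formal.KilledBy (I ^ (n + 1)) (𝒦.K n)) (n : ℕ) :
    powMod I (n + 1) (𝒦.K (n + 1 + 1)) ⟶ 𝒦.N n :=
  kernel.lift (𝒦.τ n) (powModι I (n + 1) (𝒦.K (n + 1 + 1)) ≫ 𝒦.τ (n + 1)) (by
    rw [Category.assoc]
    exact powModι_comp_eq_zero I (n + 1) _ (hk n))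

@[reassoc (attr := simp)]
theorem powToN'_ι (hk : ∀ n, Formal.KilledBy (I ^ (n + 1)) (𝒦.K n)) (n : ℕ) :
    powToN' hk n ≫ kernel.ι (𝒦.τ n) = powModι I (n + 1) (𝒦.K (n + 1 + 1)) ≫ 𝒦.τ (n + 1) :=
  kernel.lift_ι _ _ _

theorem mulPow_powToN (hk : ∀ n, Formal.KilledBy (I ^ (n + 1)) (𝒦.K n)) (hai : ∀ i, a i ∈ I)
    (i : Fin r) (n : ℕ) :
    mulPow I (n + 1) (𝒦.K (n + 1 + 1)) (a i) (hai i) ≫ powToN hk (n + 1) =
      powToN' hk n ≫ 𝒦.NT i n := by
  have hm : Mono (kernel.ι (𝒦.τ (n + 1))) := inferInstanceAs (Mono (kernel.ι _))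
  rw [← cancel_mono (kernel.ι (𝒦.τ (n + 1))), Category.assoc, Category.assoc, powToN_ι, mulPow_ι,
    NT_ι, powToN'_ι_assoc, 𝒦.τ_lift]

/-- **Generation in degree `0`** of the graded system of a strict tower. -/
theorem IsStrict.epi_desc_NT (h : 𝒦.IsStrict I) (hI : Ideal.span (Set.range a) = I) (n : ℕ) :
    Epi (biproduct.desc (fun i => 𝒦.NT i n)) := by
  have hai : ∀ i, a i ∈ I := fun i => hI ▸ Ideal.subset_span ⟨i, rfl⟩
  haveI := epi_biproductDesc_mulPow I a hI (n + 1) (𝒦.K (n + 1 + 1))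
  haveI := h.epi_powToN (n + 1)
  have e : biproduct.desc (fun i : Fin r => mulPow I (n + 1) (𝒦.K (n + 1 + 1)) (a i) (hai i)) ≫
      powToN h.killed (n + 1) =
      biproduct.map (fun _ : Fin r => powToN' h.killed n) ≫ biproduct.desc (fun i => 𝒦.NT i n) := by
    apply biproduct.hom_ext'
    intro i
    rw [biproduct.ι_desc_assoc, biproduct.ι_map_assoc, biproduct.ι_desc, mulPow_powToN h.killed hai]
  haveI : Epi (biproduct.map (fun _ : Fin r => powToN' h.killed n) ≫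
      biproduct.desc (fun i => 𝒦.NT i n)) := by
    rw [← e]
    exact epi_comp _ _
  exact epi_of_epi (biproduct.map (fun _ : Fin r => powToN' h.killed n)) _

/-- the graded system of a strict tower of coherent modules is `LocFin` -/
theorem IsStrict.locFin_kerSys [IsLocallyNoetherian X] (h : 𝒦.IsStrict I)
    (hI : Ideal.span (Set.range a) = I) (hcoh : ∀ n, Coh.IsCoh (𝒦.K n)) : LocFin 𝒦.kerSys where
  coh n := isCoh_kernel (hcoh (n + 1)) (hcoh n) (𝒦.τ n)
  gen U hU := by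
    refine ⟨0, fun n _ y _ => ?_⟩
    exact mem_iSup_of_epi_desc 𝒦.kerSys n
      (isCoh_kernel (hcoh (n + 1)) (hcoh n) (𝒦.τ n)).1
      (isCoh_kernel (hcoh (n + 1 + 1)) (hcoh (n + 1)) (𝒦.τ (n + 1))).1
      (h.epi_desc_NT hI n) U hU y

/-- `∐_{b ∈ I^(n+1)} K (n+1) ⟶ N n` -/
noncomputable def sigmaToN (hk : ∀ n, Formal.KilledBy (I ^ (n + 1)) (𝒦.K n)) (n : ℕ) :
    (∐ fun _ : ↥(I ^ (n + 1)) => 𝒦.K (n + 1)) ⟶ 𝒦.N n :=
  toPowMod I (n + 1) (𝒦.K (n + 1)) ≫ powToN hk n

theorem sigmaToN_ι (hk : ∀ n, Formal.KilledBy (I ^ (n + 1)) (𝒦.K n)) (n : ℕ) :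
    sigmaToN hk n ≫ kernel.ι (𝒦.τ n) = Formal.smulFamily (I ^ (n + 1)) (𝒦.K (n + 1)) := by
  rw [sigmaToN, Category.assoc, powToN_ι, toPowMod_ι]

/-- a levelwise epimorphism onto a strict tower induces epimorphisms on the graded pieces -/
theorem IsStrict.epi_mapN {𝒦' : Tower a X} (g : Hom 𝒦 𝒦') (h' : 𝒦'.IsStrict I)
    (hk : ∀ n, Formal.KilledBy (I ^ (n + 1)) (𝒦.K n)) (hg : ∀ n, Epi (g.f n)) (n : ℕ) :
    Epi (g.mapN n) := by
  haveI := h'.epi_powToN n
  haveI : Epi (sigmaToN h'.killed n) := epi_comp _ _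
  haveI : ∀ b : ↥(I ^ (n + 1)), Epi ((fun _ : ↥(I ^ (n + 1)) => g.f (n + 1)) b) := fun _ => hg (n + 1)
  have e : sigmaToN hk n ≫ g.mapN n =
      Limits.Sigma.map (fun _ : ↥(I ^ (n + 1)) => g.f (n + 1)) ≫ sigmaToN h'.killed n := by
    have hm : Mono (kernel.ι (𝒦'.τ n)) := inferInstanceAs (Mono (kernel.ι _))
    rw [← cancel_mono (kernel.ι (𝒦'.τ n)), Category.assoc, Category.assoc, g.mapN_ι,
      ← Category.assoc, sigmaToN_ι, sigmaToN_ι]
    apply Sigma.hom_ext
    intro b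
    rw [Formal.smulFamily, Formal.smulFamily, Sigma.ι_desc_assoc, Sigma.ι_map_assoc, Sigma.ι_desc]
    exact Groth.Agent.S9530.smulMod_comp _ _
  haveI : Epi (sigmaToN hk n ≫ g.mapN n) := by
    rw [e]
    exact epi_comp _ _
  exact epi_of_epi (sigmaToN hk n) _

end Tower

section formal

variable (I : Ideal A)

theorem exists_formal_lift {G : ℕᵒᵖ ⥤ X.Modules} (hG : Formal.IsCohFormal I G) (b : A) (hb : b ∈ I)
    (n : ℕ) : ∃ l : G.obj (op n) ⟶ G.obj (op (n + 1)),
      G.map (homOfLE (Nat.le_succ n)).op ≫ l = Formal.smulMod A (G.obj (op (n + 1))) b :=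
  Groth.Agent.S9530.exists_factor hG n (n + 1) (Nat.le_succ n) _
    (Formal.smulMod A (G.obj (op (n + 1))) b) (fun c hc => by
      rw [← smulMod_mul]
      exact hG.2.1 (n + 1) _ (by rw [pow_succ']; exact Ideal.mul_mem_mul hb hc))

/-- the tower of a coherent formal module -/
noncomputable def formalTower {G : ℕᵒᵖ ⥤ X.Modules} (hG : Formal.IsCohFormal I G) (a : Fin r → A)
    (hai : ∀ i, a i ∈ I) : Tower a X where
  K n := G.obj (op n)
  τ n := G.map (homOfLE (Nat.le_succ n)).op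
  epi n := Groth.Agent.S9530.epi_succ hG n
  lift i n := (exists_formal_lift I hG (a i) (hai i) n).choose
  τ_lift i n := (exists_formal_lift I hG (a i) (hai i) n).choose_spec

theorem formalTower_isStrict {G : ℕᵒᵖ ⥤ X.Modules} (hG : Formal.IsCohFormal I G) (a : Fin r → A)
    (hai : ∀ i, a i ∈ I) : (formalTower I hG a hai).IsStrict I where
  killed n := by
    change Formal.KilledBy (I ^ (n + 1)) (G.obj (op n))
    exact hG.2.1 n
  fac n T g hg := by
    change ∃ g' : G.obj (op n) ⟶ T, G.map (homOfLE (Nat.le_succ n)).op ≫ g' = g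
    exact Groth.Agent.S9530.exists_factor hG n (n + 1) (Nat.le_succ n) T g hg

/-- the tower `E / I^(n+1) E` -/
noncomputable def complTower (a : Fin r → A) (hai : ∀ i, a i ∈ I) (E : X.Modules) : Tower a X where
  K n := Formal.modPow I (n + 1) E
  τ n := Formal.modPowTrans I (n + 1) E
  epi n := by
    haveI : Epi (Formal.modPowπ I (n + 1 + 1) E ≫ Formal.modPowTrans I (n + 1) E) := by
      rw [Formal.modPowπ_trans]
      exact inferInstanceAs (Epi (cokernel.π _))
    exact epi_of_epi (Formal.modPowπ I (n + 1 + 1) E) _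
  lift i n := quotMul I (n + 1) E (a i) (hai i)
  τ_lift i n := by
    haveI : Epi (Formal.modPowπ I (n + 1 + 1) E) := inferInstanceAs (Epi (cokernel.π _))
    rw [← cancel_epi (Formal.modPowπ I (n + 1 + 1) E), ← Category.assoc, Formal.modPowπ_trans,
      π_quotMul, Groth.Agent.S9530.smulMod_comp]

theorem complTower_isStrict (a : Fin r → A) (hai : ∀ i, a i ∈ I) (E : X.Modules) :
    (complTower I a hai E).IsStrict I where
  killed n := fun b hb => smulMod_modPow_eq_zero I E (n + 1) b hb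
  fac n T g hg := by
    change ∀ b ∈ I ^ (n + 1), Formal.smulMod A (Formal.modPow I (n + 1 + 1) E) b ≫
      (show Formal.modPow I (n + 1 + 1) E ⟶ T from g) = 0 at hg
    change ∃ g' : Formal.modPow I (n + 1) E ⟶ T, Formal.modPowTrans I (n + 1) E ≫ g' = g
    haveI : Epi (Formal.modPowπ I (n + 1 + 1) E) := inferInstanceAs (Epi (cokernel.π _))
    have h0 : Formal.smulFamily (I ^ (n + 1)) E ≫ Formal.modPowπ I (n + 1 + 1) E ≫ g = 0 := by
      rw [Groth.Agent.S9530.smulFamily_comp_eq_zero_iff]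
      intro b hb
      rw [← Category.assoc, Groth.Agent.S9530.smulMod_comp, Category.assoc, hg b hb, comp_zero]
    refine ⟨cokernel.desc _ _ h0, ?_⟩
    rw [← cancel_epi (Formal.modPowπ I (n + 1 + 1) E), ← Category.assoc, Formal.modPowπ_trans]
    exact cokernel.π_desc _ _ _

end formal

end Groth.Agent.R2.H64.ExistSys
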