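import Mathlib
import Groth.Agent.R2.H64ExistStrict

/-!
# Nakayama for towers and compatible liftings (helper64, PROJ:exist package ES-gen, part 3)

* `isZero_of_epi_desc_smulMod` : Nakayama's lemma for `O_X`-modules killed by a power of `I`;
* `Tower.epi_of_epi_comp_τ` : for a tower whose graded system is generated from degree `d` on and `n ≥ d + 1`, a map
  `φ : Z ⟶ K (n+1)` is an epimorphism as soon as `φ ≫ τ n` is;
* `Tower.exists_compatible_epi` : given an auto-equivalence `e` of `X.Modules` ("twisting"), an object `Z` such that maps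
  `Z ⟶ e (K n)` lift along `e (τ n)`, and an epimorphism `Z ⟶ e (K (d+2))`, there is a compatible family of
  epimorphisms `e⁻¹ Z ⟶ K n`;
* `Tower.exists_modPow_epi` : the same, as maps out of `e⁻¹ Z / I^(n+1)`.
-/

set_option autoImplicit false
set_option linter.style.haveILetI false
universe u

open CategoryTheory CategoryTheory.Limits AlgebraicGeometry Opposite

namespace Groth.Agent.R2.H64.ExistSys

open Groth.Agent.R2.H40.FormalMod Groth.Agent.R2.H35.FFRees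

attribute [local instance] Abelian.hasFiniteBiproducts

variable {A : Type u} [CommRing A] {X : Scheme.{u}} [X.Over (Spec (CommRingCat.of A))]
  {r : ℕ} {a : Fin r → A}

/-- a quotient of a module killed by `J` is killed by `J` -/
theorem killedBy_of_epi {J : Ideal A} {M C : X.Modules} (π : M ⟶ C) [Epi π]
    (hM : Formal.KilledBy J M) : Formal.KilledBy J C := by
  intro b hb
  rw [← cancel_epi π, comp_zero, ← Groth.Agent.S9530.smulMod_comp, hM b hb, zero_comp]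

/-- a submodule of a module killed by `J` is killed by `J` -/
theorem killedBy_of_mono {J : Ideal A} {K M : X.Modules} (ι : K ⟶ M) [Mono ι]
    (hM : Formal.KilledBy J M) : Formal.KilledBy J K := by
  intro b hb
  rw [← cancel_mono ι, zero_comp, Groth.Agent.S9530.smulMod_comp, hM b hb, comp_zero]

/-- **Nakayama's lemma**: `C = I C` and `I^k C = 0` imply `C = 0`. -/
theorem isZero_of_epi_desc_smulMod (I : Ideal A) (hai : ∀ i, a i ∈ I) (C : X.Modules)
    (h : Epi (biproduct.desc (fun i => Formal.smulMod A C (a i)))) :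
    ∀ k : ℕ, Formal.KilledBy (I ^ k) C → IsZero C := by
  intro k
  induction k with
  | zero =>
    intro hk
    have h1 : (1 : A) ∈ I ^ 0 := by rw [pow_zero, Ideal.one_eq_top]; exact Submodule.mem_top
    have h2 := hk 1 h1
    rw [smulMod_one] at h2
    exact (IsZero.iff_id_eq_zero C).2 h2
  | succ k ih =>
    intro hk
    apply ih
    intro b hb
    rw [← cancel_epi (biproduct.desc (fun i => Formal.smulMod A C (a i))), comp_zero]
    apply biproduct.hom_ext'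
    intro i
    rw [biproduct.ι_desc_assoc, comp_zero, ← smulMod_mul]
    exact hk _ (by rw [pow_succ]; exact Ideal.mul_mem_mul hb (hai i))

/-- if `f ≫ g` is an epimorphism, then `ker g ⟶ coker f` is an epimorphism -/
theorem epi_kernelι_cokernelπ {C : Type*} [Category C] [Abelian C] {Z B D : C} (f : Z ⟶ B) (g : B ⟶ D)
    (h : Epi (f ≫ g)) : Epi (kernel.ι g ≫ cokernel.π f) := by
  rw [epi_iff_surjective_up_to_refinements]
  intro T x
  obtain ⟨T₁, π₁, hπ₁, y, hy⟩ :=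
    (epi_iff_surjective_up_to_refinements (cokernel.π f)).1 inferInstance x
  obtain ⟨T₂, π₂, hπ₂, z, hz⟩ := (epi_iff_surjective_up_to_refinements (f ≫ g)).1 h (y ≫ g)
  have h0 : (π₂ ≫ y - z ≫ f) ≫ g = 0 := by
    rw [Preadditive.sub_comp, Category.assoc, Category.assoc, hz, sub_self]
  refine ⟨T₂, π₂ ≫ π₁, epi_comp _ _, kernel.lift g _ h0, ?_⟩
  rw [kernel.lift_ι_assoc, Preadditive.sub_comp, Category.assoc, Category.assoc, Category.assoc,
    cokernel.condition, comp_zero, sub_zero, hy]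

namespace Tower

variable (𝒦 : Tower a X) {I : Ideal A}

/-- **Nakayama for towers.** -/
theorem epi_of_epi_comp_τ (hk : ∀ n, Formal.KilledBy (I ^ (n + 1)) (𝒦.K n)) (hai : ∀ i, a i ∈ I)
    (m : ℕ) (hm : Epi (biproduct.desc (fun i => 𝒦.NT i m))) {Z : X.Modules}
    (φ : Z ⟶ 𝒦.K (m + 1 + 1)) (hφ : Epi (φ ≫ 𝒦.τ (m + 1))) : Epi φ := by
  apply Preadditive.epi_of_isZero_cokernel
  set π := cokernel.π φ with hπ
  -- step 1
  have h1 : Epi (kernel.ι (𝒦.τ (m + 1)) ≫ π) := epi_kernelι_cokernelπ φ (𝒦.τ (m + 1)) hφ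
  have h2 : Epi (biproduct.desc (fun i => 𝒦.NT i m) ≫ kernel.ι (𝒦.τ (m + 1)) ≫ π) := epi_comp _ _
  -- step 2 : the pullback of `N m ⟶ K (m+1)` along `τ (m+1)`
  let P := pullback (kernel.ι (𝒦.τ m)) (𝒦.τ (m + 1))
  let p₁ : P ⟶ 𝒦.N m := pullback.fst _ _
  let p₂ : P ⟶ 𝒦.K (m + 1 + 1) := pullback.snd _ _
  have hp : p₁ ≫ kernel.ι (𝒦.τ m) = p₂ ≫ 𝒦.τ (m + 1) := pullback.condition
  haveI : Epi p₁ := Abelian.epi_pullback_of_epi_g _ _
  have e : biproduct.map (fun _ : Fin r => p₁) ≫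
      (biproduct.desc (fun i => 𝒦.NT i m) ≫ kernel.ι (𝒦.τ (m + 1)) ≫ π) =
      biproduct.map (fun _ : Fin r => p₂ ≫ π) ≫
        biproduct.desc (fun i => Formal.smulMod A (cokernel φ) (a i)) := by
    apply biproduct.hom_ext'
    intro i
    rw [biproduct.ι_map_assoc, biproduct.ι_map_assoc, biproduct.ι_desc_assoc, biproduct.ι_desc,
      NT_ι_assoc]
    calc p₁ ≫ kernel.ι (𝒦.τ m) ≫ 𝒦.lift i (m + 1) ≫ π
        = (p₂ ≫ 𝒦.τ (m + 1)) ≫ 𝒦.lift i (m + 1) ≫ π := by rw [← hp, Category.assoc]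
      _ = p₂ ≫ (𝒦.τ (m + 1) ≫ 𝒦.lift i (m + 1)) ≫ π := by simp only [Category.assoc]
      _ = (p₂ ≫ π) ≫ Formal.smulMod A (cokernel φ) (a i) := by
        rw [𝒦.τ_lift, Groth.Agent.S9530.smulMod_comp, Category.assoc]
  have h3 : Epi (biproduct.map (fun _ : Fin r => p₂ ≫ π) ≫
      biproduct.desc (fun i => Formal.smulMod A (cokernel φ) (a i))) := by
    rw [← e]
    exact epi_comp _ _
  have h4 : Epi (biproduct.desc (fun i => Formal.smulMod A (cokernel φ) (a i))) :=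
    epi_of_epi (biproduct.map (fun _ : Fin r => p₂ ≫ π)) _
  exact isZero_of_epi_desc_smulMod I hai _ h4 (m + 1 + 1 + 1)
    (killedBy_of_epi π (hk (m + 1 + 1)))

/-- the functor `ℕᵒᵖ ⥤ X.Modules` of a tower -/
noncomputable def toFunctor : ℕᵒᵖ ⥤ X.Modules := Functor.ofOpSequence 𝒦.τ

theorem toFunctor_map_succ (n : ℕ) : 𝒦.toFunctor.map (homOfLE (Nat.le_add_right n 1)).op = 𝒦.τ n :=
  Functor.ofOpSequence_map_homOfLE_succ _ n

theorem epi_toFunctor_map (n k : ℕ) (h : n ≤ k) : Epi (𝒦.toFunctor.map (homOfLE h).op) := by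
  induction k, h using Nat.le_induction with
  | base =>
    have : (homOfLE (le_refl n)).op = 𝟙 (op n) := rfl
    rw [this, 𝒦.toFunctor.map_id]; infer_instance
  | succ k hk ih =>
    have : (homOfLE (hk.trans (Nat.le_succ k))).op =
        (homOfLE (Nat.le_add_right k 1)).op ≫ (homOfLE hk).op := rfl
    rw [this, 𝒦.toFunctor.map_comp, toFunctor_map_succ]
    exact @epi_comp _ _ _ _ _ _ (𝒦.epi k) _ ih

omit [X.Over (Spec (CommRingCat.of A))] in
theorem functor_compat (F : ℕᵒᵖ ⥤ X.Modules) (c n : ℕ) {E : X.Modules}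
    (φ1 : E ⟶ F.obj (op (c + (n + 1)))) (φ0 : E ⟶ F.obj (op (c + n)))
    (h : φ1 ≫ F.map (homOfLE (Nat.le_add_right (c + n) 1)).op = φ0) :
    (φ1 ≫ F.map (homOfLE (Nat.le_add_left (n + 1) c)).op) ≫ F.map (homOfLE (Nat.le_add_right n 1)).op =
      φ0 ≫ F.map (homOfLE (Nat.le_add_left n c)).op := by
  rw [← h, Category.assoc, Category.assoc, ← F.map_comp, ← F.map_comp]
  rfl

/-- **Compatible liftings.** -/
theorem exists_compatible_epi (hk : ∀ n, Formal.KilledBy (I ^ (n + 1)) (𝒦.K n))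
    (hai : ∀ i, a i ∈ I) (d : ℕ) (hd : ∀ n, d ≤ n → Epi (biproduct.desc (fun i => 𝒦.NT i n)))
    (e : X.Modules ≌ X.Modules) (Z : X.Modules)
    (hlift : ∀ n (σ : Z ⟶ e.functor.obj (𝒦.K n)),
      ∃ σ' : Z ⟶ e.functor.obj (𝒦.K (n + 1)), σ' ≫ e.functor.map (𝒦.τ n) = σ)
    (σ₀ : Z ⟶ e.functor.obj (𝒦.K (d + 1 + 1))) (hσ₀ : Epi σ₀) :
    ∃ φ : ∀ n, e.inverse.obj Z ⟶ 𝒦.K n, (∀ n, φ (n + 1) ≫ 𝒦.τ n = φ n) ∧ ∀ n, Epi (φ n) := by
  -- the untwisting
  let un : ∀ n, (Z ⟶ e.functor.obj (𝒦.K n)) → (e.inverse.obj Z ⟶ 𝒦.K n) :=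
    fun n σ => e.inverse.map σ ≫ (e.unitIso.app (𝒦.K n)).inv
  have hun : ∀ n (σ' : Z ⟶ e.functor.obj (𝒦.K (n + 1))),
      un (n + 1) σ' ≫ 𝒦.τ n = un n (σ' ≫ e.functor.map (𝒦.τ n)) := by
    intro n σ'
    change (e.inverse.map σ' ≫ (e.unitIso.app (𝒦.K (n + 1))).inv) ≫ 𝒦.τ n =
      e.inverse.map (σ' ≫ e.functor.map (𝒦.τ n)) ≫ (e.unitIso.app (𝒦.K n)).inv
    have nat := e.unitIso.inv.naturality (𝒦.τ n)
    simp only [Functor.comp_obj, Functor.comp_map, Functor.id_obj, Functor.id_map] at nat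
    rw [Functor.map_comp, Category.assoc, Category.assoc]
    congr 1
    exact nat.symm
  have hunepi : ∀ n (σ : Z ⟶ e.functor.obj (𝒦.K n)), Epi σ → Epi (un n σ) := by
    intro n σ hσ
    haveI : Epi (e.inverse.map σ) := inferInstance
    exact epi_comp _ _
  -- the upward sequence starting at `c = d + 2`
  let c := d + 1 + 1
  let t : ∀ k, Z ⟶ e.functor.obj (𝒦.K (c + k)) := fun k =>
    Nat.rec (motive := fun k => Z ⟶ e.functor.obj (𝒦.K (c + k))) σ₀
      (fun k σ => (hlift (c + k) σ).choose) k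
  have ht : ∀ k, t (k + 1) ≫ e.functor.map (𝒦.τ (c + k)) = t k :=
    fun k => (hlift (c + k) (t k)).choose_spec
  let φ' : ∀ k, e.inverse.obj Z ⟶ 𝒦.K (c + k) := fun k => un (c + k) (t k)
  have hφ' : ∀ k, φ' (k + 1) ≫ 𝒦.τ (c + k) = φ' k := by
    intro k
    exact (hun (c + k) (t (k + 1))).trans (congrArg (un (c + k)) (ht k))
  have hepi' : ∀ k, Epi (φ' k) := by
    intro k
    induction k with
    | zero => exact hunepi c σ₀ hσ₀
    | succ k ih =>
      have h1 : Epi (φ' (k + 1) ≫ 𝒦.τ (c + k)) := by rw [hφ']; exact ih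
      have h2 : c + k = (d + k) + 1 + 1 := by omega
      have key : ∀ (m : ℕ) (hm : c + k = m + 1) (ψ : e.inverse.obj Z ⟶ 𝒦.K (c + k + 1)),
          Epi (ψ ≫ 𝒦.τ (c + k)) → d ≤ m → Epi ψ := by
        intro m hm
        rw [hm]
        intro ψ hψ hdm
        exact 𝒦.epi_of_epi_comp_τ hk hai m (hd m hdm) ψ hψ
      exact key (d + k + 1) h2 (φ' (k + 1)) h1 (by omega)
  -- all levels
  let F := 𝒦.toFunctor
  let φ : ∀ n, e.inverse.obj Z ⟶ 𝒦.K n := fun n =>
    φ' n ≫ F.map (homOfLE (Nat.le_add_left n c)).op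
  refine ⟨φ, fun n => ?_, fun n => ?_⟩
  · change (φ' (n + 1) ≫ F.map (homOfLE (Nat.le_add_left (n + 1) c)).op) ≫ 𝒦.τ n =
      φ' n ≫ F.map (homOfLE (Nat.le_add_left n c)).op
    have h1 : φ' (n + 1) ≫ F.map (homOfLE (Nat.le_add_right (c + n) 1)).op = φ' n :=
      (congrArg (fun x => φ' (n + 1) ≫ x) (𝒦.toFunctor_map_succ (c + n))).trans (hφ' n)
    have h2 := functor_compat F c n (φ' (n + 1)) (φ' n) h1
    exact (congrArg (fun x => (φ' (n + 1) ≫ F.map (homOfLE (Nat.le_add_left (n + 1) c)).op) ≫ x)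
      (𝒦.toFunctor_map_succ n).symm).trans h2
  · exact @epi_comp _ _ _ _ _ _ (hepi' n) _ (𝒦.epi_toFunctor_map n (c + n) (Nat.le_add_left n c))

/-- **Compatible liftings**, as maps out of the completion. -/
theorem exists_modPow_epi (hk : ∀ n, Formal.KilledBy (I ^ (n + 1)) (𝒦.K n))
    (hai : ∀ i, a i ∈ I) (d : ℕ) (hd : ∀ n, d ≤ n → Epi (biproduct.desc (fun i => 𝒦.NT i n)))
    (e : X.Modules ≌ X.Modules) (Z : X.Modules)
    (hlift : ∀ n (σ : Z ⟶ e.functor.obj (𝒦.K n)),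
      ∃ σ' : Z ⟶ e.functor.obj (𝒦.K (n + 1)), σ' ≫ e.functor.map (𝒦.τ n) = σ)
    (σ₀ : Z ⟶ e.functor.obj (𝒦.K (d + 1 + 1))) (hσ₀ : Epi σ₀) :
    ∃ p : ∀ n, Formal.modPow I (n + 1) (e.inverse.obj Z) ⟶ 𝒦.K n,
      (∀ n, Formal.modPowTrans I (n + 1) (e.inverse.obj Z) ≫ p n = p (n + 1) ≫ 𝒦.τ n) ∧
      ∀ n, Epi (p n) := by
  obtain ⟨φ, hφ, hepi⟩ := 𝒦.exists_compatible_epi hk hai d hd e Z hlift σ₀ hσ₀
  have h0 : ∀ n, Formal.smulFamily (I ^ (n + 1)) (e.inverse.obj Z) ≫ φ n = 0 := by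
    intro n
    rw [Groth.Agent.S9530.smulFamily_comp_eq_zero_iff]
    intro b hb
    rw [Groth.Agent.S9530.smulMod_comp, hk n b hb, comp_zero]
  refine ⟨fun n => cokernel.desc _ (φ n) (h0 n), fun n => ?_, fun n => ?_⟩
  · haveI : Epi (Formal.modPowπ I (n + 1 + 1) (e.inverse.obj Z)) :=
      inferInstanceAs (Epi (cokernel.π _))
    rw [← cancel_epi (Formal.modPowπ I (n + 1 + 1) (e.inverse.obj Z)), ← Category.assoc,
      Formal.modPowπ_trans, ← Category.assoc]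
    have e1 : Formal.modPowπ I (n + 1) (e.inverse.obj Z) ≫ cokernel.desc _ (φ n) (h0 n) = φ n :=
      cokernel.π_desc _ _ _
    have e2 : Formal.modPowπ I (n + 1 + 1) (e.inverse.obj Z) ≫
        cokernel.desc _ (φ (n + 1)) (h0 (n + 1)) = φ (n + 1) := cokernel.π_desc _ _ _
    rw [e1, e2, hφ]
  · haveI := hepi n
    have e1 : Formal.modPowπ I (n + 1) (e.inverse.obj Z) ≫ cokernel.desc _ (φ n) (h0 n) = φ n :=
      cokernel.π_desc _ _ _
    haveI : Epi (Formal.modPowπ I (n + 1) (e.inverse.obj Z) ≫ cokernel.desc _ (φ n) (h0 n)) := by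
      rw [e1]; infer_instance
    exact epi_of_epi (Formal.modPowπ I (n + 1) (e.inverse.obj Z)) _

end Tower

end Groth.Agent.R2.H64.ExistSys
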