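import Mathlib
import Groth.Prelude.Def_Formal
import Groth.Prelude.Def_CohB1
import Groth.Agent.Lib.Helper16SectSupp
import Groth.Agent.Lib.Helper23FinTypeLocal
import Groth.Agent.R2.H35FFReesCoh

/-!
# Zariski connectedness, core step (helper64, PROJ:stein package ST-0)

`exists_section_of_clopen`: let `X` be a scheme over `Spec A`, `I` an ideal of `A`, `O = O_X`, and assume the
Mittag-Leffler statement of the theorem on formal functions (frozen conclusion of `S0058` for `M = O_X`,
`p = 0`) and that all `O/I^(n+1)O` are supported in `Z = Supp (O/IO)`.  Then for every decomposition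
`Z = U ⊔ U'` into disjoint closed subsets there is a global function `r` with `r ≡ 1` on `U` and `r ≡ 0` on `U'`
(in the residue fields).  Consequently, if `Γ(X, O_X)` is a local ring, `Z` is preconnected.
-/

set_option autoImplicit false
set_option linter.style.haveILetI false
universe u

open CategoryTheory CategoryTheory.Limits AlgebraicGeometry Opposite TopologicalSpace

namespace Groth.Agent.R2.H64.SteinCore

variable {X : Scheme.{u}}

/-- `H^0(X, M) ≃+ M(X)`. -/
noncomputable def hh0Equiv (X : Scheme.{u}) (M : X.Modules) :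
    Coh.HH X M 0 ≃+ (Coh.toAb M).obj.obj (op (⊤ : Opens X)) :=
  Sheaf.H.equiv₀ (Coh.toAb M) Limits.isTerminalTop

theorem hh0Equiv_map {M N : X.Modules} (φ : M ⟶ N) (x : Coh.HH X M 0) :
    hh0Equiv X N (Sheaf.H.map ((SheafOfModules.toSheaf X.ringCatSheaf).map φ) 0 x) =
      φ.app ⊤ (hh0Equiv X M x) :=
  (Sheaf.H.equiv₀_naturality Limits.isTerminalTop
    ((SheafOfModules.toSheaf X.ringCatSheaf).map φ) x).symm

theorem isQuasicoherent_structureModule (P : Scheme.{u}) :
    (Coh.structureModule P).IsQuasicoherent := by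
  unfold Coh.structureModule
  have h : (SheafOfModules.free (R := P.ringCatSheaf) PUnit.{u+1}).IsQuasicoherent := inferInstance
  exact (SheafOfModules.isQuasicoherent P.ringCatSheaf).prop_of_iso
    (coproductUniqueIso (fun (_ : PUnit.{u+1}) ↦ SheafOfModules.unit P.ringCatSheaf)) h

/-- sections over an open disjoint from the support vanish -/
theorem eq_zero_of_disjoint_support (M : X.Modules) (W : X.Opens)
    (hW : ∀ x ∈ W, x ∉ CohB1.support M) (s : Γ(M, W)) : s = 0 := by
  apply TopCat.Presheaf.section_ext (⟨M.presheaf, M.isSheaf⟩ : TopCat.Sheaf _ _) W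
  intro x hx
  have h1 := hW x hx
  simp only [CohB1.support, Set.mem_ofPred_eq, not_not] at h1
  exact Subsingleton.elim _ _

/-- naturality of `app` with respect to restriction -/
theorem app_res {M N : X.Modules} (φ : M ⟶ N) {W W' : X.Opens} (h : W' ≤ W) (s : Γ(M, W)) :
    φ.app W' (M.presheaf.map (homOfLE h).op s) = N.presheaf.map (homOfLE h).op (φ.app W s) :=
  ConcreteCategory.congr_hom (φ.mapPresheaf.naturality (homOfLE h).op) s

/-- If `φ : O_X ⟶ N` is an epimorphism onto a quasi-coherent module, `x` lies in the support of `N` and `r` is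
a function on a neighbourhood `W` of `x` with `φ(r) = 0`, then `r` is not invertible at `x`. -/
theorem notMem_basicOpen_of_app_eq_zero {N : X.Modules} [N.IsQuasicoherent]
    (φ : Coh.structureModule X ⟶ N) [Epi φ] (x : X) (hx : x ∈ CohB1.support N)
    (W : X.Opens) (r : Γ(X, W))
    (hr : φ.app W (show Γ(Coh.structureModule X, W) from r) = 0) : x ∉ X.basicOpen r := by
  intro hxr
  apply hx
  refine ⟨fun a b => ?_⟩
  have key : ∀ y : N.presheaf.stalk x, y = 0 := by
    intro y
    obtain ⟨W₂, hxW₂, t, rfl⟩ := N.presheaf.exists_germ_eq y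
    -- an affine neighbourhood inside `W₂ ⊓ X.basicOpen r`
    obtain ⟨W₁, hW₁aff, hxW₁, hW₁le⟩ := (Opens.isBasis_iff_nbhd.1 X.isBasis_affineOpens)
      (show x ∈ W₂ ⊓ X.basicOpen r from ⟨hxW₂, hxr⟩)
    have hW₁W₂ : W₁ ≤ W₂ := hW₁le.trans inf_le_left
    have hW₁r : W₁ ≤ X.basicOpen r := hW₁le.trans inf_le_right
    have hW₁W : W₁ ≤ W := hW₁r.trans (X.basicOpen_le r)
    -- `r` restricted to `W₁` is a unit
    have hu0 := X.toRingedSpace.isUnit_res_basicOpen r
    have hu : IsUnit (X.presheaf.map (homOfLE hW₁W).op r) := by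
      have e : X.presheaf.map (homOfLE hW₁W).op r =
          X.presheaf.map (homOfLE hW₁r).op
            (X.presheaf.map (homOfLE (X.basicOpen_le r)).op r) := by
        rw [← CommRingCat.comp_apply, ← Functor.map_comp]
        rfl
      rw [e]
      exact hu0.map _
    obtain ⟨u, hu⟩ := hu
    -- the restriction of `t` to `W₁` is in the image of `φ`
    haveI : (Coh.structureModule X).IsQuasicoherent := isQuasicoherent_structureModule X
    obtain ⟨s, hs⟩ := Groth.Agent.Lib.Helper23.FinType.surjective_app_of_epi φ hW₁aff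
      (N.presheaf.map (homOfLE hW₁W₂).op t)
    -- `s = (s * u⁻¹) * r|`, hence `φ s = (s * u⁻¹) • φ (r|) = 0`
    let s' : Γ(X, W₁) := s
    have hs' : s = ((s' * (↑u⁻¹ : Γ(X, W₁))) • (show Γ(Coh.structureModule X, W₁) from
        X.presheaf.map (homOfLE hW₁W).op r) : Γ(Coh.structureModule X, W₁)) := by
      change s' = (s' * (↑u⁻¹ : Γ(X, W₁))) * X.presheaf.map (homOfLE hW₁W).op r
      rw [← hu, mul_assoc, Units.inv_mul, mul_one]
    have h0 : φ.app W₁ s = 0 := by
      rw [hs', Scheme.Modules.Hom.app_smul]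
      have : φ.app W₁ (show Γ(Coh.structureModule X, W₁) from
          X.presheaf.map (homOfLE hW₁W).op r) = 0 := by
        have h1 := app_res φ hW₁W (show Γ(Coh.structureModule X, W) from r)
        rw [hr, map_zero] at h1
        exact h1
      rw [this, smul_zero]
    have h2 : N.presheaf.map (homOfLE hW₁W₂).op t = 0 := by rw [← hs, h0]
    have h3 : N.presheaf.germ W₁ x hxW₁ (N.presheaf.map (homOfLE hW₁W₂).op t) =
        N.presheaf.germ W₂ x hxW₂ t :=
      TopCat.Presheaf.germ_res_apply N.presheaf (homOfLE hW₁W₂) x hxW₁ t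
    rw [← h3, h2, map_zero]
  rw [key a, key b]

section Formal

variable {A : Type u} [CommRing A] [X.Over (Spec (CommRingCat.of A))]

/-- The projections `M ⟶ M/I^(k+1)M` are compatible with the transition maps of `Formal.completion`. -/
theorem π_completion_map (I : Ideal A) (M : X.Modules) {n k : ℕ} (h : n ≤ k) :
    Formal.modPowπ I (k + 1) M ≫ (Formal.completion I M).map (homOfLE h).op =
      Formal.modPowπ I (n + 1) M := by
  induction k, h using Nat.le_induction with
  | base =>
    have e : (Formal.completion I M).map (homOfLE (le_refl n)).op = 𝟙 _ :=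
      (Formal.completion I M).map_id (op n)
    rw [e]
    exact Category.comp_id _
  | succ k h ih =>
    have e1 : (Formal.completion I M).map (homOfLE (h.trans (Nat.le_succ k))).op =
        (Formal.completion I M).map (homOfLE (Nat.le_succ k)).op ≫
          (Formal.completion I M).map (homOfLE h).op := by
      rw [← Functor.map_comp]
      rfl
    have e2 : (Formal.completion I M).map (homOfLE (Nat.le_succ k)).op =
        Formal.modPowTrans I (k + 1) M :=
      Functor.ofOpSequence_map_homOfLE_succ _ k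
    have e3 : Formal.modPowπ I (k + 1 + 1) M ≫
        (Formal.completion I M).map (homOfLE (Nat.le_succ k)).op = Formal.modPowπ I (k + 1) M := by
      rw [e2]
      exact Formal.modPowπ_trans I (k + 1) M
    calc Formal.modPowπ I (k + 1 + 1) M ≫
          (Formal.completion I M).map (homOfLE (h.trans (Nat.le_succ k))).op
        = (Formal.modPowπ I (k + 1 + 1) M ≫
            (Formal.completion I M).map (homOfLE (Nat.le_succ k)).op) ≫
            (Formal.completion I M).map (homOfLE h).op := by
          rw [e1]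
          exact (Category.assoc _ _ _).symm
      _ = Formal.modPowπ I (n + 1) M := by rw [e3]; exact ih

/-- **Core step of Zariski's connectedness theorem.**  If the closed fibre `Supp (O_X / I O_X)` is the disjoint
union of closed subsets `U`, `U'`, then (given the Mittag-Leffler statement `S0058` for `O_X`, `p = 0`) there is
a global function `r` which is `≡ 1` at all points of `U` and `≡ 0` at all points of `U'`. -/
theorem exists_section_of_clopen (I : Ideal A)
    (hsupp : ∀ n, CohB1.support (Formal.modPow I (n + 1) (Coh.structureModule X)) ⊆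
      CohB1.support (Formal.modPow I 1 (Coh.structureModule X)))
    (h58 : ∃ c : ℕ, ∀ (n k : ℕ) (h : n ≤ k), n + c ≤ k →
      Set.range (Sheaf.H.map ((SheafOfModules.toSheaf X.ringCatSheaf).map
        ((Formal.completion I (Coh.structureModule X)).map (homOfLE h).op)) 0) =
        Set.range (Formal.toHHmodPow I (Coh.structureModule X) 0 n))
    (U U' : Set X) (hU : IsClosed U) (hU' : IsClosed U') (hd : Disjoint U U')
    (hUU' : U ∪ U' = CohB1.support (Formal.modPow I 1 (Coh.structureModule X))) :
    ∃ r : Γ(X, ⊤), (∀ x ∈ U, x ∉ X.basicOpen (1 - r)) ∧ (∀ x ∈ U', x ∉ X.basicOpen r) := by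
  obtain ⟨c, hc⟩ := h58
  let O : X.Modules := Coh.structureModule X
  let F : X.Modules := Formal.modPow I (c + 1) O
  let N : X.Modules := Formal.modPow I 1 O
  let πc : O ⟶ F := Formal.modPowπ I (c + 1) O
  let π₀ : O ⟶ N := Formal.modPowπ I 1 O
  let T : F ⟶ N := (Formal.completion I O).map (homOfLE (Nat.zero_le c)).op
  have hπT : πc ≫ T = π₀ := π_completion_map I O (Nat.zero_le c)
  let W : X.Opens := ⟨U'ᶜ, hU'.isOpen_compl⟩
  let W' : X.Opens := ⟨Uᶜ, hU.isOpen_compl⟩
  have hWW' : (⊤ : X.Opens) ≤ W ⊔ W' := by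
    intro x _
    by_cases hx : x ∈ U'
    · exact Or.inr (fun hxU => Set.disjoint_left.1 hd hxU hx)
    · exact Or.inl hx
  have hdisj : ∀ x ∈ W ⊓ W', x ∉ CohB1.support F := by
    intro x hx hxF
    have h1 : x ∈ U ∪ U' := by rw [hUU']; exact hsupp c hxF
    rcases h1 with h1 | h1
    · exact hx.2 h1
    · exact hx.1 h1
  let a : Γ(F, W) := πc.app W (show Γ(O, W) from (1 : Γ(X, W)))
  obtain ⟨e, he1, he2⟩ := Groth.Agent.Lib.Helper16.SectSupp.glue2 (Coh.toAb F) W W' ⊤ le_top le_top hWW'
    a 0 ((eq_zero_of_disjoint_support F (W ⊓ W') hdisj _).trans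
      (eq_zero_of_disjoint_support F (W ⊓ W') hdisj _).symm)
  let ec : Coh.HH X F 0 := (hh0Equiv X F).symm e
  have hmem : Sheaf.H.map ((SheafOfModules.toSheaf X.ringCatSheaf).map T) 0 ec ∈
      Set.range (Formal.toHHmodPow I O 0 0) := by
    rw [← hc 0 c (Nat.zero_le c) (by simp)]
    exact ⟨ec, rfl⟩
  obtain ⟨y, hy⟩ := hmem
  let r0 : Γ(X, ⊤) := hh0Equiv X O y
  have key : π₀.app ⊤ (show Γ(O, ⊤) from r0) = T.app ⊤ e := by
    have h1 := hh0Equiv_map π₀ y
    have h2 := hh0Equiv_map T ec
    have h2' : hh0Equiv X F ec = e := (hh0Equiv X F).apply_symm_apply e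
    rw [h2'] at h2
    have h3 : hh0Equiv X N (Formal.toHHmodPow I O 0 0 y) =
        hh0Equiv X N (Sheaf.H.map ((SheafOfModules.toSheaf X.ringCatSheaf).map T) 0 ec) :=
      congrArg _ hy
    exact h1.symm.trans (h3.trans h2)
  haveI : N.IsQuasicoherent :=
    Groth.Agent.R2.H35.FFRees.isQCoh_modPow I 1 O (isQuasicoherent_structureModule X)
  haveI : Epi π₀ := inferInstanceAs (Epi (cokernel.π _))
  refine ⟨r0, ?_, ?_⟩
  · intro x hxU hxr
    have hxN : x ∈ CohB1.support N := by rw [← hUU']; exact Or.inl hxU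
    have hxW : x ∈ W := fun hxU' => Set.disjoint_left.1 hd hxU hxU'
    have h0 : π₀.app W (show Γ(O, W) from
        X.presheaf.map (homOfLE (le_top : W ≤ ⊤)).op (1 - r0)) = 0 := by
      have h1 := app_res π₀ (le_top : W ≤ ⊤) (show Γ(O, ⊤) from r0)
      have h2 := app_res T (le_top : W ≤ ⊤) e
      rw [key, ← h2] at h1
      have h3 : F.presheaf.map (homOfLE (le_top : W ≤ ⊤)).op e = a := he1
      rw [h3] at h1
      have h4 : T.app W a = π₀.app W (show Γ(O, W) from (1 : Γ(X, W))) := by
        change T.app W (πc.app W _) = _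
        rw [← hπT]
        rfl
      rw [h4] at h1
      have h5 : (show Γ(O, W) from X.presheaf.map (homOfLE (le_top : W ≤ ⊤)).op (1 - r0)) =
          (show Γ(O, W) from (1 : Γ(X, W))) -
            O.presheaf.map (homOfLE (le_top : W ≤ ⊤)).op (show Γ(O, ⊤) from r0) := by
        change X.presheaf.map (homOfLE (le_top : W ≤ ⊤)).op (1 - r0) =
          (1 : Γ(X, W)) - X.presheaf.map (homOfLE (le_top : W ≤ ⊤)).op r0
        rw [map_sub, map_one]
      rw [h5, map_sub, h1, sub_self]
    have := notMem_basicOpen_of_app_eq_zero π₀ x hxN W _ h0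
    apply this
    rw [Scheme.basicOpen_res]
    exact ⟨hxW, hxr⟩
  · intro x hxU' hxr
    have hxN : x ∈ CohB1.support N := by rw [← hUU']; exact Or.inr hxU'
    have hxW' : x ∈ W' := fun hxU => Set.disjoint_left.1 hd hxU hxU'
    have h0 : π₀.app W' (show Γ(O, W') from
        X.presheaf.map (homOfLE (le_top : W' ≤ ⊤)).op r0) = 0 := by
      have h1 := app_res π₀ (le_top : W' ≤ ⊤) (show Γ(O, ⊤) from r0)
      have h2 := app_res T (le_top : W' ≤ ⊤) e
      rw [key, ← h2] at h1
      have h3 : F.presheaf.map (homOfLE (le_top : W' ≤ ⊤)).op e = 0 := he2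
      rw [h3, map_zero] at h1
      exact h1
    have := notMem_basicOpen_of_app_eq_zero π₀ x hxN W' _ h0
    apply this
    rw [Scheme.basicOpen_res]
    exact ⟨hxW', hxr⟩

/-- **Zariski connectedness, core form.** If `Γ(X, O_X)` is a local ring, the closed fibre
`Supp (O_X / I O_X)` is preconnected (given the Mittag-Leffler statement `S0058` for `O_X` in degree `0`). -/
theorem isPreconnected_of_isLocalRing (I : Ideal A) [IsLocalRing Γ(X, ⊤)]
    (hsupp : ∀ n, CohB1.support (Formal.modPow I (n + 1) (Coh.structureModule X)) ⊆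
      CohB1.support (Formal.modPow I 1 (Coh.structureModule X)))
    (h58 : ∃ c : ℕ, ∀ (n k : ℕ) (h : n ≤ k), n + c ≤ k →
      Set.range (Sheaf.H.map ((SheafOfModules.toSheaf X.ringCatSheaf).map
        ((Formal.completion I (Coh.structureModule X)).map (homOfLE h).op)) 0) =
        Set.range (Formal.toHHmodPow I (Coh.structureModule X) 0 n))
    (hZ : IsClosed (CohB1.support (Formal.modPow I 1 (Coh.structureModule X)))) :
    _root_.IsPreconnected (CohB1.support (Formal.modPow I 1 (Coh.structureModule X))) := by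
  rw [isPreconnected_closed_iff]
  intro t t' ht ht' hsub hne hne'
  by_contra hcon
  rw [Set.not_nonempty_iff_eq_empty] at hcon
  set Z := CohB1.support (Formal.modPow I 1 (Coh.structureModule X)) with hZdef
  have hd : Disjoint (Z ∩ t) (Z ∩ t') := by
    rw [Set.disjoint_left]
    intro x hx hx'
    have : x ∈ Z ∩ (t ∩ t') := ⟨hx.1, hx.2, hx'.2⟩
    rw [hcon] at this
    exact this
  have hun : (Z ∩ t) ∪ (Z ∩ t') = Z := by
    rw [← Set.inter_union_distrib_left]
    exact Set.inter_eq_left.2 hsub
  obtain ⟨r, hr1, hr2⟩ := exists_section_of_clopen I hsupp h58 (Z ∩ t) (Z ∩ t')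
    (hZ.inter ht) (hZ.inter ht') hd hun
  rcases IsLocalRing.isUnit_or_isUnit_one_sub_self r with hu | hu
  · obtain ⟨x, hx⟩ := hne'
    apply hr2 x hx
    rw [X.basicOpen_of_isUnit hu]
    trivial
  · obtain ⟨x, hx⟩ := hne
    apply hr1 x hx
    rw [X.basicOpen_of_isUnit hu]
    trivial

end Formal

end Groth.Agent.R2.H64.SteinCore
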