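import Mathlib
import Groth.Agent.R2.H64ExistNak
import Groth.Agent.R2.H64UnifVan
import Groth.Agent.R2.H64SteinCore
import Groth.Agent.R2.H5CohThick
import Groth.Agent.Lib.Helper21UnitHom
import Groth.Agent.R2.H54ProjInv
import Groth.Agent.R2.H12Dev5B
import Groth.Agent.R2.H35FFReesH
import Groth.Agent.Lib.Helper23SecTw

/-!
# The cohomological input of the existence theorem (helper64, PROJ:exist package ES-gen, part 4)

* `exists_lift_unit` : in a short exact sequence with `H^1(X, X₁) = 0`, maps `O_X ⟶ X₃` lift to `X₂`;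
* `exists_epi_sigma_unit` : a globally generated module whose `H^0` is a finite `A`-module is a quotient of `O_X^N`;
* `Tower.exists_epi_of_ample` : **(ES-gen)** for an invertible `L` satisfying Serre vanishing and eventual global
  generation, every tower with coherent levels `K n` killed by `I^(n+1)` and `LocFin` graded system receives
  compatible epimorphisms `E / I^(n+1) E ⟶ K n` from one coherent `E`.
-/

set_option autoImplicit false
set_option linter.style.haveILetI false
universe u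

open CategoryTheory CategoryTheory.Limits AlgebraicGeometry Opposite TopologicalSpace

namespace Groth.Agent.R2.H64.ExistSys

open Groth.Agent.R2.H64.FFSpec Groth.Agent.R2.H64.FFGrFin Groth.Agent.R2.H62.CohLES
open Groth.Agent.R2.H64.UnifVan Groth.Agent.R2.H64.SteinCore Groth.Agent.R2.H79.TwistCalc

attribute [local instance] Abelian.hasFiniteBiproducts

section lift

variable {X : Scheme.{u}}

/-- `Hom(O_X, M) ≃+ M(X)` -/
noncomputable abbrev unitEquiv (M : X.Modules) :
    (Coh.structureModule X ⟶ M) ≃+ M.val.obj (op (⊤ : Opens X)) :=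
  Groth.Agent.Lib.Helper21.UnitHom.unitHomAddEquiv (R := X.ringCatSheaf) Limits.isTerminalTop M

theorem unitEquiv_comp {M N : X.Modules} (σ : Coh.structureModule X ⟶ M) (φ : M ⟶ N) :
    unitEquiv N (σ ≫ φ) = φ.app ⊤ (unitEquiv M σ) := rfl

/-- the global section of `H^0` attached to a map `O_X ⟶ M` -/
noncomputable def homToHH (M : X.Modules) : (Coh.structureModule X ⟶ M) ≃+ Coh.HH X M 0 :=
  (unitEquiv M).trans (hh0Equiv X M).symm

theorem homToHH_comp {M N : X.Modules} (σ : Coh.structureModule X ⟶ M) (φ : M ⟶ N) :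
    homToHH N (σ ≫ φ) = HHmap φ 0 (homToHH M σ) := by
  apply (hh0Equiv X N).injective
  change hh0Equiv X N ((hh0Equiv X N).symm (unitEquiv N (σ ≫ φ))) =
    hh0Equiv X N (Sheaf.H.map ((SheafOfModules.toSheaf X.ringCatSheaf).map φ) 0
      ((hh0Equiv X M).symm (unitEquiv M σ)))
  rw [hh0Equiv_map, AddEquiv.apply_symm_apply, AddEquiv.apply_symm_apply]
  rfl

/-- maps from `O_X` lift along the epimorphism of a short exact sequence whose kernel has no `H^1` -/
theorem exists_lift_unit {S : ShortComplex X.Modules} (hS : S.ShortExact)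
    (h1 : Subsingleton (Coh.HH X S.X₁ 1)) (σ : Coh.structureModule X ⟶ S.X₃) :
    ∃ σ' : Coh.structureModule X ⟶ S.X₂, σ' ≫ S.g = σ := by
  have hsurj : Function.Surjective (HHmap S.g 0) := by
    intro y
    exact (Groth.Agent.R2.H62.CohLES.exact_g_δ hS 0 y).1 (Subsingleton.elim _ _)
  obtain ⟨x, hx⟩ := hsurj (homToHH S.X₃ σ)
  refine ⟨(homToHH S.X₂).symm x, ?_⟩
  apply (homToHH S.X₃).injective
  rw [homToHH_comp, AddEquiv.apply_symm_apply, hx]

/-- the same for maps from `O_X^N` -/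
theorem exists_lift_sigma_unit {S : ShortComplex X.Modules} (hS : S.ShortExact)
    (h1 : Subsingleton (Coh.HH X S.X₁ 1)) (N : ℕ)
    (σ : (∐ fun _ : Fin N => Coh.structureModule X) ⟶ S.X₃) :
    ∃ σ' : (∐ fun _ : Fin N => Coh.structureModule X) ⟶ S.X₂, σ' ≫ S.g = σ := by
  choose τ hτ using fun j : Fin N =>
    exists_lift_unit hS h1 (Sigma.ι (fun _ : Fin N => Coh.structureModule X) j ≫ σ)
  refine ⟨Sigma.desc τ, ?_⟩
  apply Sigma.hom_ext
  intro j
  rw [Sigma.ι_desc_assoc, hτ]

end lift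

section gen

variable {A : Type u} [CommRing A] {X : Scheme.{u}} [X.Over (Spec (CommRingCat.of A))]

theorem homToHH_smulMod {M : X.Modules} (σ : Coh.structureModule X ⟶ M) (b : A) :
    homToHH M (σ ≫ Formal.smulMod A M b) = b • homToHH M σ := by
  rw [homToHH_comp]
  rfl

/-- **Finitely many global sections generate.** -/
theorem exists_epi_sigma_unit (M : X.Modules) (hfin : Module.Finite A (Coh.HH X M 0))
    (hgg : Curv2.IsGloballyGenerated M) :
    ∃ (N : ℕ) (σ : (∐ fun _ : Fin N => Coh.structureModule X) ⟶ M), Epi σ := by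
  obtain ⟨N, x, hx⟩ := Module.Finite.exists_fin (R := A) (M := Coh.HH X M 0)
  let s : Fin N → (Coh.structureModule X ⟶ M) := fun j => (homToHH M).symm (x j)
  let D : (∐ fun _ : Fin N => Coh.structureModule X) ⟶ M := Sigma.desc s
  -- every map `O ⟶ M` factors through `D`
  have hfac : ∀ τ : Coh.structureModule X ⟶ M,
      ∃ f : Coh.structureModule X ⟶ ∐ fun _ : Fin N => Coh.structureModule X, f ≫ D = τ := by
    intro τ
    have hmem : homToHH M τ ∈ Submodule.span A (Set.range x) := by rw [hx]; exact Submodule.mem_top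
    obtain ⟨c, hc⟩ := (Submodule.mem_span_range_iff_exists_fun A).1 hmem
    refine ⟨∑ j, Formal.smulMod A (Coh.structureModule X) (c j) ≫
      Sigma.ι (fun _ : Fin N => Coh.structureModule X) j, ?_⟩
    apply (homToHH M).injective
    rw [Preadditive.sum_comp, map_sum, ← hc]
    refine Finset.sum_congr rfl fun j _ => ?_
    rw [Category.assoc, Sigma.ι_desc, Groth.Agent.S9530.smulMod_comp, homToHH_smulMod]
    change c j • homToHH M ((homToHH M).symm (x j)) = c j • x j
    rw [AddEquiv.apply_symm_apply]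
  obtain ⟨ι, p, hp⟩ := hgg
  choose f hf using fun i : ι => hfac (SheafOfModules.ιFree (R := X.ringCatSheaf) i ≫ p)
  have e : (Sigma.desc f : (SheafOfModules.free ι : X.Modules) ⟶ _) ≫ D = p := by
    apply Sigma.hom_ext
    intro i
    rw [Sigma.ι_desc_assoc]
    exact hf i
  refine ⟨N, D, ?_⟩
  haveI : Epi ((Sigma.desc f : (SheafOfModules.free ι : X.Modules) ⟶ _) ≫ D) := by rw [e]; exact hp
  exact epi_of_epi (Sigma.desc f : (SheafOfModules.free ι : X.Modules) ⟶ _) D

end gen

section main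

variable {A : Type u} [CommRing A] {X : Scheme.{u}} [X.Over (Spec (CommRingCat.of A))]
  [IsLocallyNoetherian X] [CompactSpace X] {r : ℕ} {a : Fin r → A}

/-- the twisting functors by the powers of an invertible module -/
noncomputable def twistFamily (L : X.Modules) (hL : PicF.IsInvertible L) : TwistFamily X where
  tw m := tensorRightF (CohB1.tensorPow L m)
  zero m := inferInstance
  exact m S hS := shortExact_map_tensorRightF _
    (Groth.Agent.Lib.Helper23.SecTw.isInvertible_tensorPow hL m) S hS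

/-- **(ES-gen)** -/
theorem Tower.exists_epi_of_ample (𝒦 : Tower a X) (I : Ideal A)
    (hk : ∀ n, Formal.KilledBy (I ^ (n + 1)) (𝒦.K n)) (hai : ∀ i, a i ∈ I)
    (hcoh : ∀ n, Coh.IsCoh (𝒦.K n)) (hLF : LocFin 𝒦.kerSys)
    (L : X.Modules) (hL : PicF.IsInvertible L)
    (hSV : ∀ M : X.Modules, Coh.IsCoh M → ∃ n₀ : ℕ, ∀ n : ℕ, n₀ ≤ n → ∀ p : ℕ, 0 < p →
      Subsingleton (Coh.HH X (CohB1.tensorMod M (CohB1.tensorPow L n)) p))
    (hgg : ∀ M : X.Modules, Coh.IsCoh M → ∃ n₀ : ℕ, ∀ n : ℕ, n₀ ≤ n →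
      Curv2.IsGloballyGenerated (CohB1.tensorMod M (CohB1.tensorPow L n)))
    (hfin : ∀ M : X.Modules, Coh.IsCoh M → Module.Finite A (Coh.HH X M 0)) :
    ∃ E : X.Modules, Coh.IsCoh E ∧ ∃ p : ∀ n, Formal.modPow I (n + 1) E ⟶ 𝒦.K n,
      (∀ n, Formal.modPowTrans I (n + 1) E ≫ p n = p (n + 1) ≫ 𝒦.τ n) ∧ ∀ n, Epi (p n) := by
  -- uniform vanishing
  obtain ⟨m₀, hm₀⟩ := uniformVanishing (twistFamily L hL) subQuot_top
    (fun M hM _ => hSV M hM) r 𝒦.kerSys hLF (fun _ => trivial)
  -- generation degree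
  obtain ⟨d, hd⟩ := exists_epi_desc_of_locFin 𝒦.kerSys hLF
  -- global generation at level `d + 2`
  obtain ⟨m₁, hm₁⟩ := hgg (𝒦.K (d + 1 + 1)) (hcoh _)
  let m := max m₀ m₁
  have hLm : PicF.IsInvertible (CohB1.tensorPow L m) :=
    Groth.Agent.Lib.Helper23.SecTw.isInvertible_tensorPow hL m
  obtain ⟨L', hL', ⟨iso⟩, -⟩ := Groth.Agent.R2.H34.InvDual.exists_inverse _ hLm
  let e : X.Modules ≌ X.Modules := Groth.Agent.R2.H54.ProjInv.tensorEquiv (CohB1.tensorPow L m) L' iso
  have hcohT : Coh.IsCoh (CohB1.tensorMod (𝒦.K (d + 1 + 1)) (CohB1.tensorPow L m)) :=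
    isCoh_tensorMod _ _ (hcoh _) hLm
  obtain ⟨N, σ₀, hσ₀⟩ := exists_epi_sigma_unit (A := A) _ (hfin _ hcohT) (hm₁ m (le_max_right _ _))
  let Z : X.Modules := ∐ fun _ : Fin N => Coh.structureModule X
  have hZ : Coh.IsCoh Z :=
    Groth.Agent.R2.H12.Dev.isCoh_sigma _ (Groth.Agent.R2.H5.CohThick.isCoh_structureModule X) N
  have hlift : ∀ n (σ : Z ⟶ e.functor.obj (𝒦.K n)),
      ∃ σ' : Z ⟶ e.functor.obj (𝒦.K (n + 1)), σ' ≫ e.functor.map (𝒦.τ n) = σ := by
    intro n σ
    have hS : (ShortComplex.mk (kernel.ι (𝒦.τ n)) (𝒦.τ n) (kernel.condition _)).ShortExact :=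
      { exact := ShortComplex.exact_kernel _
        mono_f := inferInstanceAs (Mono (kernel.ι _))
        epi_g := 𝒦.epi n }
    have hS' := shortExact_map_tensorRightF _ hLm _ hS
    have h1 : Subsingleton (Coh.HH X
        ((ShortComplex.mk (kernel.ι (𝒦.τ n)) (𝒦.τ n) (kernel.condition _)).map
          (tensorRightF (CohB1.tensorPow L m))).X₁ 1) :=
      hm₀ n m (le_max_left _ _) 1 Nat.one_pos
    exact exists_lift_sigma_unit hS' h1 N σ
  obtain ⟨p, hp, hepi⟩ := 𝒦.exists_modPow_epi hk hai d hd e Z hlift σ₀ hσ₀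
  exact ⟨e.inverse.obj Z, isCoh_tensorMod Z L' hZ hL', p, hp, hepi⟩

end main

end Groth.Agent.R2.H64.ExistSys
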