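import Mathlib
import Groth.Agent.R2.H64ExistCoh

/-!
# Grothendieck's existence theorem, the two key steps (helper64, PROJ:exist package ES-gen, part 5)

`X` a Noetherian scheme over `Spec A`, `A` Noetherian, `I` an ideal of `A`, `L` an invertible `O_X`-module with
Serre vanishing (`hSV`), eventual global generation (`hgg`) and finite `H^0` of coherent modules (`hfin`).

* `esA` : **(ES-A)** every coherent formal module `G` receives a levelwise epimorphism `E₀^ ⟶ G` from the completion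
  of a coherent module;
* `esB` : **(ES-B)** the levelwise kernel of such a `p : E₀^ ⟶ G` receives a levelwise epimorphism from `E₁^`, i.e.
  there is `q : E₁^ ⟶ E₀^` with `E₁^ ⟶ E₀^ ⟶ G` levelwise exact.

`A` is not assumed to be complete here.
-/

set_option autoImplicit false
set_option linter.style.haveILetI false
universe u

open CategoryTheory CategoryTheory.Limits AlgebraicGeometry Opposite TopologicalSpace

namespace Groth.Agent.R2.H64.ExistGen

open Groth.Agent.R2.H64.FFSpec Groth.Agent.R2.H64.FFGrFin Groth.Agent.R2.H64.ExistSys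
open Groth.Agent.R2.H35.FFRees

variable (A : Type u) [CommRing A] [IsNoetherianRing A] (I : Ideal A) (X : Scheme.{u})
  [X.Over (Spec (CommRingCat.of A))] [IsLocallyNoetherian X] [CompactSpace X]
  (L : X.Modules) (hL : PicF.IsInvertible L)
  (hSV : ∀ M : X.Modules, Coh.IsCoh M → ∃ n₀ : ℕ, ∀ n : ℕ, n₀ ≤ n → ∀ p : ℕ, 0 < p →
    Subsingleton (Coh.HH X (CohB1.tensorMod M (CohB1.tensorPow L n)) p))
  (hgg : ∀ M : X.Modules, Coh.IsCoh M → ∃ n₀ : ℕ, ∀ n : ℕ, n₀ ≤ n →
    Curv2.IsGloballyGenerated (CohB1.tensorMod M (CohB1.tensorPow L n)))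
  (hfin : ∀ M : X.Modules, Coh.IsCoh M → Module.Finite A (Coh.HH X M 0))

include hL hSV hgg hfin

/-- **(ES-A)** -/
theorem esA (G : ℕᵒᵖ ⥤ X.Modules) (hG : Formal.IsCohFormal I G) :
    ∃ E₀ : X.Modules, Coh.IsCoh E₀ ∧ ∃ p : Formal.completion I E₀ ⟶ G,
      ∀ n : ℕ, Epi (p.app (op n)) := by
  obtain ⟨r, a, ha⟩ := (Submodule.fg_iff_exists_fin_generating_family).1
    ((isNoetherianRing_iff_ideal_fg A).1 inferInstance I)
  have hai : ∀ i, a i ∈ I := fun i => ha ▸ Ideal.subset_span ⟨i, rfl⟩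
  let 𝒦 := formalTower I hG a hai
  have hst : 𝒦.IsStrict I := formalTower_isStrict I hG a hai
  have hcoh : ∀ n, Coh.IsCoh (𝒦.K n) := fun n => hG.1 n
  obtain ⟨E, hE, p, hp, hepi⟩ := 𝒦.exists_epi_of_ample I hst.killed hai hcoh
    (hst.locFin_kerSys ha hcoh) L hL hSV hgg hfin
  refine ⟨E, hE, NatTrans.ofOpSequence (F := Formal.completion I E) (G := G) p (fun n => ?_), fun n => hepi n⟩
  have e1 : (Formal.completion I E).map (homOfLE (Nat.le_add_right n 1)).op =
      Formal.modPowTrans I (n + 1) E := Functor.ofOpSequence_map_homOfLE_succ _ n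
  rw [e1]
  exact hp n

omit [IsNoetherianRing A] [IsLocallyNoetherian X] [CompactSpace X] hL hSV hgg hfin in
theorem mono_kerTowerN {r : ℕ} {a : Fin r → A} {𝒦 𝒦' : Tower a X} (g : Tower.Hom 𝒦 𝒦')
    (h : ∀ n, Epi (g.mapN n)) (n : ℕ) : Mono (Tower.kerTowerN g h n) := inferInstance

/-- **(ES-B)** -/
theorem esB (G : ℕᵒᵖ ⥤ X.Modules) (hG : Formal.IsCohFormal I G) (E₀ : X.Modules)
    (hE₀ : Coh.IsCoh E₀) (p : Formal.completion I E₀ ⟶ G) (hp : ∀ n : ℕ, Epi (p.app (op n))) :
    ∃ E₁ : X.Modules, Coh.IsCoh E₁ ∧ ∃ (q : Formal.completion I E₁ ⟶ Formal.completion I E₀)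
      (w : ∀ n : ℕ, q.app (op n) ≫ p.app (op n) = 0),
      ∀ n : ℕ, (ShortComplex.mk (q.app (op n)) (p.app (op n)) (w n)).Exact := by
  obtain ⟨r, a, ha⟩ := (Submodule.fg_iff_exists_fin_generating_family).1
    ((isNoetherianRing_iff_ideal_fg A).1 inferInstance I)
  have hai : ∀ i, a i ∈ I := fun i => ha ▸ Ideal.subset_span ⟨i, rfl⟩
  let 𝒦G := formalTower I hG a hai
  have hstG : 𝒦G.IsStrict I := formalTower_isStrict I hG a hai
  let 𝒦E := complTower I a hai E₀
  have hstE : 𝒦E.IsStrict I := complTower_isStrict I a hai E₀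
  have hcohE : ∀ n, Coh.IsCoh (𝒦E.K n) := fun n => isCoh_modPow I (n + 1) E₀ hE₀
  have hcohG : ∀ n, Coh.IsCoh (𝒦G.K n) := fun n => hG.1 n
  -- the morphism of towers
  let g : Tower.Hom 𝒦E 𝒦G :=
    { f := fun n => p.app (op n)
      comm := fun n => by
        have h1 := p.naturality (homOfLE (Nat.le_add_right n 1)).op
        have e1 : (Formal.completion I E₀).map (homOfLE (Nat.le_add_right n 1)).op =
            Formal.modPowTrans I (n + 1) E₀ := Functor.ofOpSequence_map_homOfLE_succ _ n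
        rw [e1] at h1
        exact h1 }
  have hmapN : ∀ n, Epi (g.mapN n) := Tower.IsStrict.epi_mapN g hstG hstE.killed hp
  let 𝒦 := Tower.kerTower g hmapN
  have hcoh : ∀ n, Coh.IsCoh (𝒦.K n) := fun n => isCoh_kernel (hcohE n) (hcohG n) (g.f n)
  have hk : ∀ n, Formal.KilledBy (I ^ (n + 1)) (𝒦.K n) := fun n =>
    @killedBy_of_mono _ _ _ _ _ _ _ (kernel.ι (g.f n)) (inferInstanceAs (Mono (kernel.ι _)))
      (hstE.killed n)
  have hLF : LocFin 𝒦.kerSys :=
    locFin_of_mono 𝒦.kerSys 𝒦E.kerSys (Tower.kerTowerN g hmapN) (fun n => mono_kerTowerN A X g hmapN n)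
      (fun i n => Tower.kerTowerN_NT g hmapN i n) (hstE.locFin_kerSys ha hcohE)
      (fun n => isCoh_kernel (hcoh (n + 1)) (hcoh n) (𝒦.τ n))
  obtain ⟨E, hE, p', hp', hepi⟩ := 𝒦.exists_epi_of_ample I hk hai hcoh hLF L hL hSV hgg hfin
  -- the map `q`
  let qa : ∀ n : ℕ, (Formal.completion I E).obj (op n) ⟶ (Formal.completion I E₀).obj (op n) :=
    fun n => p' n ≫ kernel.ι (g.f n)
  have hq : ∀ n : ℕ, (Formal.completion I E).map (homOfLE (Nat.le_add_right n 1)).op ≫ qa n =
      qa (n + 1) ≫ (Formal.completion I E₀).map (homOfLE (Nat.le_add_right n 1)).op := by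
    intro n
    have e1 : (Formal.completion I E).map (homOfLE (Nat.le_add_right n 1)).op =
        Formal.modPowTrans I (n + 1) E := Functor.ofOpSequence_map_homOfLE_succ _ n
    have e2 : (Formal.completion I E₀).map (homOfLE (Nat.le_add_right n 1)).op =
        Formal.modPowTrans I (n + 1) E₀ := Functor.ofOpSequence_map_homOfLE_succ _ n
    rw [e1, e2]
    change Formal.modPowTrans I (n + 1) E ≫ p' n ≫ kernel.ι (g.f n) =
      (p' (n + 1) ≫ kernel.ι (g.f (n + 1))) ≫ 𝒦E.τ n
    rw [← Category.assoc, hp' n, Category.assoc, Category.assoc]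
    congr 1
    exact g.kτ_ι n
  refine ⟨E, hE, NatTrans.ofOpSequence qa hq, fun n => ?_, fun n => ?_⟩
  · change (p' n ≫ kernel.ι (g.f n)) ≫ g.f n = 0
    exact (Category.assoc _ _ _).trans
      ((congrArg (fun x => p' n ≫ x) (kernel.condition (g.f n))).trans comp_zero)
  · rw [ShortComplex.exact_iff_epi_kernel_lift]
    have e3 : kernel.lift (p.app (op n)) (p' n ≫ kernel.ι (g.f n))
        (by rw [Category.assoc]; exact (congrArg (fun x => p' n ≫ x) (kernel.condition (g.f n))).trans comp_zero) =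
        p' n := by
      have hm : Mono (kernel.ι (p.app (op n))) := inferInstanceAs (Mono (kernel.ι _))
      rw [← cancel_mono (kernel.ι (p.app (op n))), kernel.lift_ι]
      rfl
    change Epi (kernel.lift (p.app (op n)) (p' n ≫ kernel.ι (g.f n)) _)
    rw [e3]
    exact hepi n

end Groth.Agent.R2.H64.ExistGen
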