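import Groth.Agent.S0050
import Groth.Agent.R2.H54AmpleSpec

/-!
# PROJ:ample, package A0 (helper54): Serre's cohomological criterion for ampleness, `H¹` form

`serreCrit : AmpleSpec.SerreCrit` is the frozen `S0050` in the interface shape of `R2/H54AmpleSpec.lean`.
-/

set_option autoImplicit false
universe u

open CategoryTheory AlgebraicGeometry

namespace Groth.Agent.R2.H54.AmpleA0

/-- **(A0)** Serre's criterion: `H¹(I ⊗ L^n) = 0` for every quasi-coherent ideal ⟹ `L` ample. -/
theorem serreCrit : Groth.Agent.R2.H54.AmpleSpec.SerreCrit.{u} :=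
  fun X _ L hL h => Groth.Agent.S0050.result X L hL h

end Groth.Agent.R2.H54.AmpleA0
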