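import Mathlib
import Groth.Agent.R2.H64ExistGen
import Groth.Agent.R2.H64FFFinal
import Groth.Agent.S0002
import Groth.Agent.S0051
import Groth.Agent.Lib.Helper23LocGen

/-!
# Grothendieck's existence theorem: the two key steps for a proper scheme with an ample module
(helper64, PROJ:exist package ES-gen, final form)

`A` Noetherian (not necessarily complete), `X` proper over `Spec A`, `L` ample on `X`, `I` an ideal of `A`.

* `exists_epi_completion` : **(ES-A)** for every coherent formal module `G` (`Formal.IsCohFormal I G`) there are a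
  coherent `E₀` and `p : Formal.completion I E₀ ⟶ G` with all `p.app (op n)` epimorphisms;
* `exists_exact_completion` : **(ES-B)** for such `E₀, p` there are a coherent `E₁` and
  `q : Formal.completion I E₁ ⟶ Formal.completion I E₀` with `q ≫ p = 0` levelwise and
  `E₁/I^(n+1) ⟶ E₀/I^(n+1) ⟶ G_n` exact for every `n`.
-/

set_option autoImplicit false
set_option linter.style.haveILetI false
universe u

open CategoryTheory CategoryTheory.Limits AlgebraicGeometry Opposite

namespace Groth.Agent.R2.H64.ExistGen

variable (A : Type u) [CommRing A] [IsNoetherianRing A] (I : Ideal A) (X : Scheme.{u})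
  [X.Over (Spec (CommRingCat.of A))] [IsProper (X ↘ Spec (CommRingCat.of A))]
  (L : X.Modules) (hL : CohB1.IsAmple L)

include hL

omit [IsNoetherianRing A] [IsProper (X ↘ Spec (CommRingCat.of A))] [X.Over (Spec (CommRingCat.of A))] in
theorem globallyGenerated_of_ample (M : X.Modules) (hM : Coh.IsCoh M) :
    ∃ n₀ : ℕ, ∀ n : ℕ, n₀ ≤ n →
      Curv2.IsGloballyGenerated (CohB1.tensorMod M (CohB1.tensorPow L n)) := by
  haveI : M.IsQuasicoherent := hM.1
  haveI : SheafOfModules.IsFiniteType (R := X.ringCatSheaf) M := hM.2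
  exact Groth.Agent.Lib.Helper23.LocGen.isGloballyGenerated_twist_eventually L hL M

/-- **(ES-A)** for `X` proper over a Noetherian ring with an ample invertible module. -/
theorem exists_epi_completion (G : ℕᵒᵖ ⥤ X.Modules) (hG : Formal.IsCohFormal I G) :
    ∃ E₀ : X.Modules, Coh.IsCoh E₀ ∧ ∃ p : Formal.completion I E₀ ⟶ G,
      ∀ n : ℕ, Epi (p.app (op n)) := by
  haveI := Groth.Agent.R2.H64.FFFinal.isLocallyNoetherian_of_proper A X
  haveI := Groth.Agent.R2.H64.FFFinal.compactSpace_of_proper A X
  exact esA A I X L hL.1 ((Groth.Agent.S0051.result A X (X ↘ Spec (CommRingCat.of A)) L hL.1).1 hL)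
    (globallyGenerated_of_ample X L hL)
    (fun M hM => Groth.Agent.S0002.result A X M hM 0) G hG

/-- **(ES-B)** for `X` proper over a Noetherian ring with an ample invertible module. -/
theorem exists_exact_completion (G : ℕᵒᵖ ⥤ X.Modules) (hG : Formal.IsCohFormal I G)
    (E₀ : X.Modules) (hE₀ : Coh.IsCoh E₀) (p : Formal.completion I E₀ ⟶ G)
    (hp : ∀ n : ℕ, Epi (p.app (op n))) :
    ∃ E₁ : X.Modules, Coh.IsCoh E₁ ∧ ∃ (q : Formal.completion I E₁ ⟶ Formal.completion I E₀)
      (w : ∀ n : ℕ, q.app (op n) ≫ p.app (op n) = 0),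
      ∀ n : ℕ, (ShortComplex.mk (q.app (op n)) (p.app (op n)) (w n)).Exact := by
  haveI := Groth.Agent.R2.H64.FFFinal.isLocallyNoetherian_of_proper A X
  haveI := Groth.Agent.R2.H64.FFFinal.compactSpace_of_proper A X
  exact esB A I X L hL.1 ((Groth.Agent.S0051.result A X (X ↘ Spec (CommRingCat.of A)) L hL.1).1 hL)
    (globallyGenerated_of_ample X L hL)
    (fun M hM => Groth.Agent.S0002.result A X M hM 0) G hG E₀ hE₀ p hp

end Groth.Agent.R2.H64.ExistGen
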