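import Mathlib
import Groth.Agent.R2.H88ExistSec
import Groth.Agent.Lib.Helper13PullbackUnit

/-!
# Sections of `F / I^n F` over affine opens, without Noetherian hypothesis on the base ring
(helper2, PROJ:exist)

`modPowπ_app_eq_zero_imp`: for `F` quasi-coherent, `U` affine, a section of `F` over `U` which dies in
`F / I^n F` lies in `(I Γ(X,U))^n Γ(F,U)`.  The test module is the push-forward to `X` of the tilde of
`Γ(F,U) / (I Γ(X,U))^n Γ(F,U)`.
-/

set_option autoImplicit false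
set_option linter.unusedSectionVars false
universe u
open CategoryTheory CategoryTheory.Limits AlgebraicGeometry TopologicalSpace Opposite

namespace Groth.Agent.R2.H2.ExistSec2

open Groth.Agent.R2.H88.ExistSec Groth.Agent.Helper13PullbackUnit

variable {A : Type u} [CommRing A] {X : Scheme.{u}} [X.Over (Spec (CommRingCat.of A))]

theorem modPowπ_app_eq_zero_imp (I : Ideal A) (n : ℕ) (F : X.Modules) [F.IsQuasicoherent]
    {U : X.Opens} (hU : IsAffineOpen U) (x : Γ(F, U)) (hx : (Formal.modPowπ I n F).app U x = 0) :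
    x ∈ (I.map (toSec A U)) ^ n • (⊤ : Submodule Γ(X, U) Γ(F, U)) := by
  let Nn : Submodule Γ(X, U) Γ(F, U) := (I.map (toSec A U)) ^ n • ⊤
  let Q : ModuleCat Γ(X, U) := ModuleCat.of Γ(X, U) (Γ(F, U) ⧸ Nn)
  let G' : (Spec Γ(X, U)).Modules := tilde Q
  let G : X.Modules := (Scheme.Modules.pushforward hU.fromSpec).obj G'
  have hT : (⊤ : (Spec Γ(X, U)).Opens) ≤ hU.fromSpec ⁻¹ᵁ U := hU.fromSpec_preimage_self.ge
  -- the linear map `Γ(F,U) → Q → Γ(G', ⊤)`
  let l₀ : Γ(F, U) →ₗ[Γ(X, U)] Γ(G', ⊤) := (tilde.toOpen Q ⊤).hom.comp Nn.mkQ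
  let l₁ : Γ(F, U) →+ Γ(G, U) :=
    (G'.presheaf.map (homOfLE (le_top : hU.fromSpec ⁻¹ᵁ U ≤ ⊤)).op).hom.comp l₀.toAddMonoidHom
  have hl₁ : ∀ (r : Γ(X, U)) (y : Γ(F, U)), l₁ (r • y) = r • l₁ y := by
    intro r y
    have e1 : l₁ (r • y) = G'.presheaf.map (homOfLE (le_top : hU.fromSpec ⁻¹ᵁ U ≤ ⊤)).op
      (l₀ (r • y)) := rfl
    have e2 : l₁ y = G'.presheaf.map (homOfLE (le_top : hU.fromSpec ⁻¹ᵁ U ≤ ⊤)).op (l₀ y) := rfl
    rw [e1, map_smul, pushforward_fromSpec_smul hU G' U le_rfl, e2]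
    erw [Scheme.Modules.map_smul_Spec]
    congr 1
    have h0 : (homOfLE (le_refl U)).op = 𝟙 (op U) := rfl
    rw [h0, X.presheaf.map_id]
    rfl
  obtain ⟨θ, hθ⟩ := exists_hom_of_app hU F G (bijective_GY hU G') l₁ hl₁
  -- `θ` kills `I^n F`
  have hkill : Formal.smulFamily (I ^ n) F ≫ θ = 0 := by
    rw [Groth.Agent.S9530.smulFamily_comp_eq_zero_iff]
    intro a ha
    apply hom_ext_of_app_eq hU F G (fun W => (bijective_GY hU G' W).1)
    intro y
    change θ.app U ((Formal.smulMod A F a).app U y) = 0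
    rw [smulMod_app, hθ]
    have hmem : toSec A U a • y ∈ Nn := by
      refine Submodule.smul_mem_smul ?_ Submodule.mem_top
      rw [← Ideal.map_pow]
      exact Ideal.mem_map_of_mem _ ha
    have h0 : l₀ (toSec A U a • y) = 0 := by
      change (tilde.toOpen Q ⊤).hom (Nn.mkQ (toSec A U a • y)) = 0
      have h00 : Nn.mkQ (toSec A U a • y) = 0 := (Submodule.Quotient.mk_eq_zero Nn).2 hmem
      rw [h00, map_zero]
    change G'.presheaf.map (homOfLE (le_top : hU.fromSpec ⁻¹ᵁ U ≤ ⊤)).op (l₀ (toSec A U a • y)) = 0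
    rw [h0, map_zero]
  -- factor through `F / I^n F`
  let θ' : Formal.modPow I n F ⟶ G := cokernel.desc _ θ hkill
  have hθ' : Formal.modPowπ I n F ≫ θ' = θ := cokernel.π_desc _ _ _
  have h1 : θ.app U x = 0 := by
    rw [← hθ']
    change θ'.app U ((Formal.modPowπ I n F).app U x) = 0
    rw [hx, map_zero]
  rw [hθ] at h1
  have h2 : l₀ x = 0 := by
    apply (map_bijective_of_eq G' hU.fromSpec_preimage_self
      (homOfLE (le_top : hU.fromSpec ⁻¹ᵁ U ≤ ⊤))).1
    rw [map_zero]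
    exact h1
  have h3 : Nn.mkQ x = 0 := by
    have hinj : Function.Injective (tilde.toOpen Q ⊤).hom :=
      ((ConcreteCategory.isIso_iff_bijective (tilde.toOpen Q ⊤)).1 inferInstance).1
    apply hinj
    rw [map_zero]
    exact h2
  exact (Submodule.Quotient.mk_eq_zero Nn).1 h3

/-- **(SEC-ker)** without hypotheses on the base ring. -/
theorem modPowπ_app_eq_zero_iff (I : Ideal A) (n : ℕ) (F : X.Modules) [F.IsQuasicoherent]
    {U : X.Opens} (hU : IsAffineOpen U) (x : Γ(F, U)) :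
    (Formal.modPowπ I n F).app U x = 0 ↔
      x ∈ (I.map (toSec A U)) ^ n • (⊤ : Submodule Γ(X, U) Γ(F, U)) :=
  ⟨modPowπ_app_eq_zero_imp I n F hU x, modPowπ_app_eq_zero_of_mem I n F U x⟩

end Groth.Agent.R2.H2.ExistSec2
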