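import Mathlib
import Groth.Agent.R2.H2ExistFF1
import Groth.Agent.R2.H88ExistSec
import Groth.Agent.R2.H2ExistSec2
import Groth.Agent.R2.H16HomAR

/-!
# Full faithfulness of completion, part 2: sections over affine opens (helper2, PROJ:exist)
-/

set_option autoImplicit false
universe u
open CategoryTheory CategoryTheory.Limits AlgebraicGeometry TopologicalSpace Opposite

namespace Groth.Agent.R2.H2.ExistFF

open Groth.Agent.R2.H2.HomSh Groth.Agent.R2.H35.FFRees Groth.Agent.R2.H88.ExistSec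

noncomputable section

variable {X : Scheme.{u}}

/-- a morphism out of a quasi-coherent module vanishing on the sections over the members of an affine open
cover is zero -/
theorem hom_eq_zero_of_affine_cover {F G : X.Modules} [F.IsQuasicoherent] (φ : F ⟶ G) {ι : Type*}
    (U : ι → X.Opens) (hU : ∀ i, IsAffineOpen (U i)) (hcov : (⊤ : X.Opens) ≤ iSup U)
    (h : ∀ i (x : Γ(F, U i)), φ.app (U i) x = 0) : φ = 0 := by
  have h1 : ∀ i (V : X.Opens) (hV : V ≤ U i) (x : Γ(F, V)), φ.app V x = 0 := by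
    intro i V hV x
    let ψ : Fam F G (U i) := Fam.res le_top (globalEquiv.symm φ)
    have h2 : ψ = 0 := Fam.ext_of_app_self (hU i) ψ 0 (LinearMap.ext fun y => h i y)
    exact congrArg (fun (ψ : Fam F G (U i)) => ψ.app V hV x) h2
  apply Scheme.Modules.hom_ext
  intro V
  ext x
  refine (abSheaf G).eq_of_locally_eq' (fun i => V ⊓ U i) V (fun i => homOfLE inf_le_left) ?_ _ _ ?_
  · intro y hy
    obtain ⟨i, hi⟩ := Opens.mem_iSup.mp (hcov (Set.mem_univ y))
    exact Opens.mem_iSup.mpr ⟨i, hy, hi⟩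
  · intro i
    have e := app_res φ (inf_le_left : V ⊓ U i ≤ V) x
    change G.presheaf.map (homOfLE (inf_le_left : V ⊓ U i ≤ V)).op (φ.app V x) =
      G.presheaf.map (homOfLE (inf_le_left : V ⊓ U i ≤ V)).op 0
    rw [← e, h1 i _ inf_le_right, map_zero]


variable {A : Type u} [CommRing A] [X.Over (Spec (CommRingCat.of A))] (I : Ideal A)

/-- the ideal `I Γ(X, U)` -/
abbrev Jsec (U : X.Opens) : Ideal Γ(X, U) := I.map (toSec A U)

section Sec

variable {U : X.Opens} (hU : IsAffineOpen U)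

include hU in
theorem ker_appLinear_modPowπ (F : X.Modules) [F.IsQuasicoherent] (k : ℕ) :
    Jsec I U ^ k • (⊤ : Submodule Γ(X, U) Γ(F, U)) =
      LinearMap.ker (appLinear (Formal.modPowπ I k F) U) := by
  ext x
  rw [LinearMap.mem_ker, appLinear_apply, Groth.Agent.R2.H2.ExistSec2.modPowπ_app_eq_zero_iff I k F hU]

/-- `F(U) / J^k F(U) ≃ Γ(F / I^k F, U)` -/
def secQuot (F : X.Modules) [F.IsQuasicoherent] (k : ℕ) :
    (Γ(F, U) ⧸ (Jsec I U ^ k • (⊤ : Submodule Γ(X, U) Γ(F, U)))) ≃ₗ[Γ(X, U)]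
      Γ(Formal.modPow I k F, U) :=
  (Submodule.quotEquivOfEq _ _ (ker_appLinear_modPowπ I hU F k)).trans
    ((appLinear (Formal.modPowπ I k F) U).quotKerEquivOfSurjective
      (modPowπ_app_surjective I k F hU))

theorem secQuot_mk (F : X.Modules) [F.IsQuasicoherent] (k : ℕ) (x : Γ(F, U)) :
    secQuot I hU F k (Submodule.Quotient.mk x) = (Formal.modPowπ I k F).app U x := rfl

theorem secQuot_symm_app (F : X.Modules) [F.IsQuasicoherent] (k : ℕ) (x : Γ(F, U)) :
    (secQuot I hU F k).symm ((Formal.modPowπ I k F).app U x) = Submodule.Quotient.mk x := by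
  rw [← secQuot_mk I hU, LinearEquiv.symm_apply_apply]

variable {M N : X.Modules}

include hU in
/-- **(KER′)** -/
theorem ker_sections [M.IsQuasicoherent] [N.IsQuasicoherent] [(homSh M N).IsQuasicoherent]
    {c : ℕ}
    (hc : ∀ n : ℕ, ∀ h : Γ(M, U) →ₗ[Γ(X, U)] Γ(N, U),
      (∀ m, h m ∈ Jsec I U ^ (n + c) • (⊤ : Submodule Γ(X, U) Γ(N, U))) →
        h ∈ Jsec I U ^ n • (⊤ : Submodule Γ(X, U) (Γ(M, U) →ₗ[Γ(X, U)] Γ(N, U))))
    {k k' : ℕ} (hkk' : k + c ≤ k') (h : Fam M N U)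
    (hh : Fam.map (Formal.modPowπ I k' N) h = 0) :
    (Formal.modPowπ I k (homSh M N)).app U h = 0 := by
  have h1 : ∀ m, dictEquiv hU h m ∈ Jsec I U ^ (k + c) • (⊤ : Submodule Γ(X, U) Γ(N, U)) := by
    intro m
    have h2 : (Formal.modPowπ I k' N).app U (h.app U le_rfl m) = 0 :=
      congrArg (fun (ψ : Fam M (Formal.modPow I k' N) U) => ψ.app U le_rfl m) hh
    rw [Groth.Agent.R2.H2.ExistSec2.modPowπ_app_eq_zero_iff I k' N hU] at h2
    exact Submodule.smul_mono (Ideal.pow_le_pow_right hkk') (le_refl _) h2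
  have h3 := hc k (dictEquiv hU h) h1
  have h4 : h ∈ Jsec I U ^ k • (⊤ : Submodule Γ(X, U) (Fam M N U)) := by
    have h5 : Submodule.map (dictEquiv hU).symm.toLinearMap
        (Jsec I U ^ k • (⊤ : Submodule Γ(X, U) (Γ(M, U) →ₗ[Γ(X, U)] Γ(N, U)))) ≤
        Jsec I U ^ k • (⊤ : Submodule Γ(X, U) (Fam M N U)) := by
      rw [Submodule.map_smul'']
      exact Submodule.smul_mono (le_refl _) le_top
    have h6 := h5 ⟨_, h3, rfl⟩
    simpa using h6
  rw [Groth.Agent.R2.H2.ExistSec2.modPowπ_app_eq_zero_iff I k (homSh M N) hU]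
  exact h4

include hU in
/-- **(COKER′)** -/
theorem coker_sections [M.IsQuasicoherent] [N.IsQuasicoherent] {c : ℕ}
    (hc : ∀ n : ℕ, ∀ t : Γ(M, U) →ₗ[Γ(X, U)]
        Γ(N, U) ⧸ (Jsec I U ^ (n + c) • (⊤ : Submodule Γ(X, U) Γ(N, U))),
      ∃ h : Γ(M, U) →ₗ[Γ(X, U)] Γ(N, U), ∀ m,
        Submodule.mkQ (Jsec I U ^ n • (⊤ : Submodule Γ(X, U) Γ(N, U))) (h m) =
          Submodule.factor (Groth.Agent.R2.H16.HomAR.pow_smul_top_le (Jsec I U) Γ(N, U) n c) (t m))
    {k k' : ℕ} (hkk' : k + c ≤ k') (g : Formal.modPow I k' N ⟶ Formal.modPow I k N)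
    (hg : Formal.modPowπ I k' N ≫ g = Formal.modPowπ I k N)
    (t : Fam M (Formal.modPow I k' N) U) :
    ∃ h : Fam M N U, Fam.map g t = Fam.map (Formal.modPowπ I k N) h := by
  have hle : Jsec I U ^ k' • (⊤ : Submodule Γ(X, U) Γ(N, U)) ≤
      Jsec I U ^ (k + c) • (⊤ : Submodule Γ(X, U) Γ(N, U)) :=
    Submodule.smul_mono (Ideal.pow_le_pow_right hkk') (le_refl _)
  let t₀ : Γ(M, U) →ₗ[Γ(X, U)] Γ(N, U) ⧸ (Jsec I U ^ (k + c) • (⊤ : Submodule Γ(X, U) Γ(N, U))) :=
    (Submodule.factor hle).comp ((secQuot I hU N k').symm.toLinearMap.comp (dictEquiv hU t))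
  obtain ⟨l, hl⟩ := hc k t₀
  refine ⟨(dictEquiv hU).symm l, ?_⟩
  apply Fam.ext_of_app_self hU
  apply LinearMap.ext
  intro m
  have e1 : ((dictEquiv hU).symm l).app U le_rfl = l := by
    rw [← dictEquiv_apply hU, LinearEquiv.apply_symm_apply]
  change g.app U (t.app U le_rfl m) =
    (Formal.modPowπ I k N).app U (((dictEquiv hU).symm l).app U le_rfl m)
  rw [e1]
  obtain ⟨y, hy⟩ := modPowπ_app_surjective I k' N hU (t.app U le_rfl m)
  have e2 : t₀ m = Submodule.mkQ _ y := by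
    change Submodule.factor hle ((secQuot I hU N k').symm (t.app U le_rfl m)) = _
    rw [← hy, secQuot_symm_app I hU]
    exact Submodule.factor_mk hle y
  have e3 := hl m
  rw [e2, Submodule.factor_mk, Submodule.mkQ_apply, Submodule.mkQ_apply, Submodule.Quotient.eq] at e3
  have e4 : (Formal.modPowπ I k N).app U (l m - y) = 0 := by
    rw [Groth.Agent.R2.H2.ExistSec2.modPowπ_app_eq_zero_iff I k N hU]
    exact e3
  rw [map_sub, sub_eq_zero] at e4
  rw [e4, ← hy, ← hg]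
  rfl

end Sec

end

end Groth.Agent.R2.H2.ExistFF
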