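import Mathlib
import Groth.Agent.R2.H2ExistFF2

/-!
# Full faithfulness of completion, part 3: the comparison of towers is a pro-isomorphism
(helper2, PROJ:exist)
-/

set_option autoImplicit false
set_option linter.unusedSectionVars false
universe u
open CategoryTheory CategoryTheory.Limits AlgebraicGeometry TopologicalSpace Opposite

namespace Groth.Agent.R2.H2.ExistFF

open Groth.Agent.R2.H2.HomSh Groth.Agent.R2.H35.FFRees Groth.Agent.R2.H88.ExistSec
open Groth.Agent.R2.H1.ProLim Groth.Agent.Lib.Helper23.QCohLocal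

noncomputable section

variable {X : Scheme.{u}} {A : Type u} [CommRing A] [X.Over (Spec (CommRingCat.of A))] (I : Ideal A)
  {M N : X.Modules}

theorem comp_app_apply {F G K : X.Modules} (f : F ⟶ G) (g : G ⟶ K) (U : X.Opens) (x : Γ(F, U)) :
    (f ≫ g).app U x = g.app U (f.app U x) := rfl

theorem zero_app_apply {F G : X.Modules} (U : X.Opens) (x : Γ(F, U)) :
    (0 : F ⟶ G).app U x = 0 := rfl

variable [IsLocallyNoetherian X]

theorem isQuasicoherent_P (hM : Coh.IsCoh M) (hN : Coh.IsCoh N) (n : ℕ) :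
    ((P I M N).obj (op n)).IsQuasicoherent := by
  have : N.IsQuasicoherent := hN.1
  exact isQCoh_modPow I (n + 1) _ (isQuasicoherent_homSh hM)

theorem isQuasicoherent_Q (hM : Coh.IsCoh M) (hN : Coh.IsCoh N) (n : ℕ) :
    ((Q I M N).obj (op n)).IsQuasicoherent := by
  have : (Formal.modPow I (n + 1) N).IsQuasicoherent := isQCoh_modPow I (n + 1) _ hN.1
  exact isQuasicoherent_homSh (N := Formal.modPow I (n + 1) N) hM

/-- **(P1′)** on one affine open -/
theorem ker_tr_app (hM : Coh.IsCoh M) (hN : Coh.IsCoh N) {U : X.Opens} (hU : IsAffineOpen U) {c : ℕ}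
    (hc : ∀ n : ℕ, ∀ h : Γ(M, U) →ₗ[Γ(X, U)] Γ(N, U),
      (∀ m, h m ∈ Jsec I U ^ (n + c) • (⊤ : Submodule Γ(X, U) Γ(N, U))) →
        h ∈ Jsec I U ^ n • (⊤ : Submodule Γ(X, U) (Γ(M, U) →ₗ[Γ(X, U)] Γ(N, U))))
    {C : ℕ} (hcC : c ≤ C) (n : ℕ) (x : Γ(kernel ((α I M N).app (op (n + C))), U)) :
    (kernel.ι ((α I M N).app (op (n + C))) ≫ tr (P I M N) (Nat.le_add_right n C)).app U x = 0 := by
  have : M.IsQuasicoherent := hM.1
  have : N.IsQuasicoherent := hN.1
  have : (homSh M N).IsQuasicoherent := isQuasicoherent_homSh hM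
  obtain ⟨h, hh⟩ := modPowπ_app_surjective I (n + C + 1) (homSh M N) hU
    ((kernel.ι ((α I M N).app (op (n + C)))).app U x)
  have hh' : (pc I (homSh M N) (n + C)).app U h =
    (kernel.ι ((α I M N).app (op (n + C)))).app U x := hh
  rw [comp_app_apply, ← hh', ← comp_app_apply, pc_tr]
  refine ker_sections I hU hc (k := n + 1) (k' := n + C + 1) (by omega) h ?_
  have e1 : (βc I M N (n + C)).app U h = 0 := by
    rw [← pc_α, comp_app_apply, hh', ← comp_app_apply, kernel.condition, zero_app_apply]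
  exact e1

/-- **(P2′)** on one affine open -/
theorem tr_coker_app (hM : Coh.IsCoh M) (hN : Coh.IsCoh N) {U : X.Opens} (hU : IsAffineOpen U) {c : ℕ}
    (hc : ∀ n : ℕ, ∀ t : Γ(M, U) →ₗ[Γ(X, U)]
        Γ(N, U) ⧸ (Jsec I U ^ (n + c) • (⊤ : Submodule Γ(X, U) Γ(N, U))),
      ∃ h : Γ(M, U) →ₗ[Γ(X, U)] Γ(N, U), ∀ m,
        Submodule.mkQ (Jsec I U ^ n • (⊤ : Submodule Γ(X, U) Γ(N, U))) (h m) =
          Submodule.factor (Groth.Agent.R2.H16.HomAR.pow_smul_top_le (Jsec I U) Γ(N, U) n c) (t m))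
    {C : ℕ} (hcC : c ≤ C) (n : ℕ) (t : Γ((Q I M N).obj (op (n + C)), U)) :
    (tr (Q I M N) (Nat.le_add_right n C) ≫ cokernel.π ((α I M N).app (op n))).app U t = 0 := by
  have : M.IsQuasicoherent := hM.1
  have : N.IsQuasicoherent := hN.1
  obtain ⟨h, hh⟩ := coker_sections I hU hc (k := n + 1) (k' := n + C + 1) (by omega)
    ((Formal.completion I N).map (homOfLE (Nat.le_add_right n C)).op) (pc_tr I N _) t
  have e1 : (tr (Q I M N) (Nat.le_add_right n C)).app U t = (βc I M N n).app U h := hh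
  rw [comp_app_apply, e1, ← pc_α, ← comp_app_apply, Category.assoc, cokernel.condition, comp_zero,
    zero_app_apply]

/-- **The comparison of towers is a pro-isomorphism**: kernels and cokernels are killed by the `c`-fold
transition maps. -/
theorem exists_ker_coker_bound [CompactSpace X] (hM : Coh.IsCoh M) (hN : Coh.IsCoh N) :
    ∃ c : ℕ,
      (∀ n, kernel.ι ((α I M N).app (op (n + c))) ≫ tr (P I M N) (Nat.le_add_right n c) = 0) ∧
      (∀ n, tr (Q I M N) (Nat.le_add_right n c) ≫ cokernel.π ((α I M N).app (op n)) = 0) := by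
  have : M.IsQuasicoherent := hM.1
  have : N.IsQuasicoherent := hN.1
  have : SheafOfModules.IsFiniteType (R := X.ringCatSheaf) M := hM.2
  have : SheafOfModules.IsFiniteType (R := X.ringCatSheaf) N := hN.2
  let 𝒰 := X.affineCover.finiteSubcover
  let U : 𝒰.I₀ → X.Opens := fun i => (𝒰.f i).opensRange
  have hU : ∀ i, IsAffineOpen (U i) := fun i => isAffineOpen_opensRange (𝒰.f i)
  have hcov : (⊤ : X.Opens) ≤ iSup U := 𝒰.iSup_opensRange.ge
  have hAR : ∀ i, ∃ c : ℕ, ∀ n : ℕ,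
      (∀ h : Γ(M, U i) →ₗ[Γ(X, U i)] Γ(N, U i),
        (∀ m, h m ∈ Jsec I (U i) ^ (n + c) • (⊤ : Submodule Γ(X, U i) Γ(N, U i))) →
        h ∈ Jsec I (U i) ^ n • (⊤ : Submodule Γ(X, U i) (Γ(M, U i) →ₗ[Γ(X, U i)] Γ(N, U i)))) ∧
      (∀ t : Γ(M, U i) →ₗ[Γ(X, U i)]
          Γ(N, U i) ⧸ (Jsec I (U i) ^ (n + c) • (⊤ : Submodule Γ(X, U i) Γ(N, U i))),
        ∃ h : Γ(M, U i) →ₗ[Γ(X, U i)] Γ(N, U i), ∀ m,
          Submodule.mkQ (Jsec I (U i) ^ n • (⊤ : Submodule Γ(X, U i) Γ(N, U i))) (h m) =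
            Submodule.factor
              (Groth.Agent.R2.H16.HomAR.pow_smul_top_le (Jsec I (U i)) Γ(N, U i) n c) (t m)) := by
    intro i
    have : IsNoetherianRing Γ(X, U i) := IsLocallyNoetherian.component_noetherian ⟨U i, hU i⟩
    have : Module.Finite Γ(X, U i) Γ(M, U i) :=
      Groth.Agent.Lib.Helper23.FinType.finite_of_isFiniteType M (hU i)
    have : Module.Finite Γ(X, U i) Γ(N, U i) :=
      Groth.Agent.Lib.Helper23.FinType.finite_of_isFiniteType N (hU i)
    exact Groth.Agent.R2.H16.HomAR.hom_artinRees (Jsec I (U i)) Γ(M, U i) Γ(N, U i)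
  choose c hc using hAR
  refine ⟨Finset.univ.sup c, fun n => ?_, fun n => ?_⟩
  · have hqP := isQuasicoherent_P I hM hN (n + Finset.univ.sup c)
    have hqQ := isQuasicoherent_Q I hM hN (n + Finset.univ.sup c)
    have : (kernel ((α I M N).app (op (n + Finset.univ.sup c)))).IsQuasicoherent :=
      Groth.Agent.Lib.Helper23.QCohLocal.isQuasicoherent_kernel _
    exact hom_eq_zero_of_affine_cover _ U hU hcov fun i x =>
      ker_tr_app I hM hN (hU i) (fun n => (hc i n).1) (Finset.le_sup (Finset.mem_univ i)) n x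
  · have hqQ := isQuasicoherent_Q I hM hN (n + Finset.univ.sup c)
    exact hom_eq_zero_of_affine_cover _ U hU hcov fun i t =>
      tr_coker_app I hM hN (hU i) (fun n => (hc i n).2) (Finset.le_sup (Finset.mem_univ i)) n t

end

end Groth.Agent.R2.H2.ExistFF
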