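import Mathlib
import Groth.Agent.R2.H2ExistFF3

/-!
# Full faithfulness of completion, part 4: assembly (helper2, PROJ:exist)

`ff_of`: for `A` Noetherian, `X` compact locally Noetherian over `Spec A`, `M N` coherent, if the comparison
map of the theorem on formal functions `H^0(X, H) → lim H^0(X, H / I^(n+1) H)` is bijective for the coherent
module `H = homSh M N`, then every morphism of towers `(M / I^(n+1) M) → (N / I^(n+1) N)` is induced by a
unique morphism `M → N`.
-/

set_option autoImplicit false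
set_option linter.unusedSectionVars false
universe u
open CategoryTheory CategoryTheory.Limits AlgebraicGeometry TopologicalSpace Opposite

namespace Groth.Agent.R2.H2.ExistFF

open Groth.Agent.R2.H2.HomSh Groth.Agent.R2.H35.FFRees
open Groth.Agent.R2.H1.ProLim

noncomputable section

variable {X : Scheme.{u}}

/-- `H^0(X, M) ≃+ M(X)`. -/
def hh0Equiv (X : Scheme.{u}) (M : X.Modules) :
    Coh.HH X M 0 ≃+ (Coh.toAb M).obj.obj (op (⊤ : Opens X)) :=
  Sheaf.H.equiv₀ (Coh.toAb M) Limits.isTerminalTop

theorem hh0Equiv_map {M N : X.Modules} (φ : M ⟶ N) (x : Coh.HH X M 0) :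
    hh0Equiv X N (Sheaf.H.map ((SheafOfModules.toSheaf X.ringCatSheaf).map φ) 0 x) =
      φ.app ⊤ (hh0Equiv X M x) :=
  (Sheaf.H.equiv₀_naturality Limits.isTerminalTop
    ((SheafOfModules.toSheaf X.ringCatSheaf).map φ) x).symm

/-- global sections, as a functor to types -/
def secTop : X.Modules ⥤ Type u where
  obj := fun F => Γ(F, ⊤)
  map := fun φ => TypeCat.ofHom (fun x => φ.app ⊤ x)
  map_id := fun _ => rfl
  map_comp := fun _ _ => rfl

theorem secTop_map {F G : X.Modules} (φ : F ⟶ G) (x : Γ(F, ⊤)) :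
    (secTop (X := X)).map φ x = φ.app ⊤ x := rfl

variable {A : Type u} [CommRing A] [X.Over (Spec (CommRingCat.of A))] (I : Ideal A) (M N : X.Modules)

/-- the compatible family of a global section of `H` -/
def xOf (ψ : Γ(homSh M N, ⊤)) : Fam (P I M N ⋙ secTop) :=
  ⟨fun n => (pc I (homSh M N) n).app ⊤ ψ, fun n => by
    change ((P I M N).map (homOfLE (Nat.le_add_right n 1)).op).app ⊤
      ((pc I (homSh M N) (n + 1)).app ⊤ ψ) = _
    rw [← comp_app_apply, pc_succ]⟩

theorem xOf_apply (ψ : Γ(homSh M N, ⊤)) (n : ℕ) :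
    (xOf I M N ψ).1 n = (pc I (homSh M N) n).app ⊤ ψ := rfl

theorem famMap_xOf (ψ : Γ(homSh M N, ⊤)) (n : ℕ) :
    (famMap (Functor.whiskerRight (α I M N) secTop) (xOf I M N ψ)).1 n =
      (show Γ((Q I M N).obj (op n), ⊤) from Fam.map (pc I N n) (show Fam M N ⊤ from ψ)) := by
  change ((α I M N).app (op n)).app ⊤ ((pc I (homSh M N) n).app ⊤ ψ) = _
  rw [← comp_app_apply, pc_α]
  rfl

theorem toHHlim_apply (F : X.Modules) (x : Coh.HH X F 0) (n : ℕ) :
    hh0Equiv X _ ((Formal.toHHlim I F 0 x).1 n) = (pc I F n).app ⊤ (hh0Equiv X F x) :=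
  hh0Equiv_map (Formal.modPowπ I (n + 1) F) x

/-- **(L)** under the formal functions hypothesis, `xOf` is bijective -/
theorem bijective_xOf (hFF : Function.Bijective (Formal.toHHlim I (homSh M N) 0)) :
    Function.Bijective (xOf I M N) := by
  constructor
  · intro ψ ψ' h
    have h1 : Formal.toHHlim I (homSh M N) 0 ((hh0Equiv X _).symm ψ) =
        Formal.toHHlim I (homSh M N) 0 ((hh0Equiv X _).symm ψ') := by
      apply Subtype.ext
      funext n
      apply (hh0Equiv X _).injective
      rw [toHHlim_apply, toHHlim_apply, AddEquiv.apply_symm_apply, AddEquiv.apply_symm_apply]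
      exact congrFun (congrArg Subtype.val h) n
    have h2 := hFF.1 h1
    exact (hh0Equiv X _).symm.injective h2
  · intro x
    let z : ∀ n, Formal.HHmodPow I (homSh M N) 0 n := fun n => (hh0Equiv X _).symm (x.1 n)
    have hz : z ∈ Formal.HHlim I (homSh M N) 0 := by
      intro n
      apply (hh0Equiv X _).injective
      change hh0Equiv X _ (Sheaf.H.map ((SheafOfModules.toSheaf X.ringCatSheaf).map
        (Formal.modPowTrans I (n + 1) (homSh M N))) 0 (z (n + 1))) = _
      rw [hh0Equiv_map]
      change (Formal.modPowTrans I (n + 1) (homSh M N)).app ⊤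
        (hh0Equiv X _ ((hh0Equiv X _).symm (x.1 (n + 1)))) = hh0Equiv X _ ((hh0Equiv X _).symm (x.1 n))
      rw [AddEquiv.apply_symm_apply, AddEquiv.apply_symm_apply]
      have h1 := x.2 n
      rw [← completion_map_succ I (homSh M N) n]
      exact h1
    obtain ⟨φ₀, hφ₀⟩ := hFF.2 ⟨z, hz⟩
    refine ⟨hh0Equiv X _ φ₀, ?_⟩
    apply Subtype.ext
    funext n
    rw [xOf_apply, ← toHHlim_apply, hφ₀]
    exact (hh0Equiv X _).apply_symm_apply (x.1 n)

variable {M N}

/-- the compatible family of `Q` attached to a morphism of towers -/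
def yOf (τ : Formal.completion I M ⟶ Formal.completion I N) : Fam (Q I M N ⋙ secTop) :=
  ⟨fun n => (show Γ((Q I M N).obj (op n), ⊤) from
      globalEquiv.symm (pc I M n ≫ τ.app (op n))), fun n => by
    change (show Γ((Q I M N).obj (op n), ⊤) from
      Fam.map ((Formal.completion I N).map (homOfLE (Nat.le_add_right n 1)).op)
        (globalEquiv.symm (pc I M (n + 1) ≫ τ.app (op (n + 1))))) = _
    apply (globalEquiv (M := M) (N := (Formal.completion I N).obj (op n))).injective
    rw [globalEquiv_map]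
    change globalEquiv (globalEquiv.symm (pc I M (n + 1) ≫ τ.app (op (n + 1)))) ≫ _ =
      globalEquiv (globalEquiv.symm (pc I M n ≫ τ.app (op n)))
    rw [AddEquiv.apply_symm_apply, AddEquiv.apply_symm_apply, Category.assoc, ← τ.naturality,
      ← Category.assoc, pc_succ]⟩

theorem famMap_xOf_eq_yOf_iff (τ : Formal.completion I M ⟶ Formal.completion I N)
    (ψ : Γ(homSh M N, ⊤)) :
    famMap (Functor.whiskerRight (α I M N) secTop) (xOf I M N ψ) = yOf I τ ↔
      ∀ n : ℕ, pc I M n ≫ τ.app (op n) = globalEquiv (show Fam M N ⊤ from ψ) ≫ pc I N n := by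
  constructor
  · intro h n
    have h1 := congrFun (congrArg Subtype.val h) n
    rw [famMap_xOf] at h1
    have h2 := congrArg (globalEquiv (M := M) (N := (Formal.completion I N).obj (op n))) h1
    rw [globalEquiv_map] at h2
    exact (h2.trans (AddEquiv.apply_symm_apply _ _)).symm
  · intro h
    apply Subtype.ext
    funext n
    rw [famMap_xOf]
    apply (globalEquiv (M := M) (N := (Formal.completion I N).obj (op n))).injective
    rw [globalEquiv_map]
    exact (h n).symm.trans (AddEquiv.apply_symm_apply _ _).symm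

variable [IsLocallyNoetherian X] [CompactSpace X]

/-- **Full faithfulness of completion from the theorem on formal functions for `homSh M N`.** -/
theorem ff_of (hM : Coh.IsCoh M) (hN : Coh.IsCoh N)
    (hFF : Function.Bijective (Formal.toHHlim I (homSh M N) 0))
    (τ : Formal.completion I M ⟶ Formal.completion I N) :
    ∃! φ : M ⟶ N, ∀ n : ℕ,
      Formal.modPowπ I (n + 1) M ≫ τ.app (op n) = φ ≫ Formal.modPowπ I (n + 1) N := by
  obtain ⟨c, ha, hb⟩ := exists_ker_coker_bound I hM hN
  have hbij := bijective_fam_of_ker_coker (α I M N) c ha hb secTop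
  have hx := bijective_xOf I M N hFF
  obtain ⟨x, hx1⟩ := hbij.2 (yOf I τ)
  obtain ⟨ψ, hψ⟩ := hx.2 x
  refine ⟨globalEquiv (show Fam M N ⊤ from ψ), ?_, ?_⟩
  · rw [← hψ] at hx1
    exact (famMap_xOf_eq_yOf_iff I τ ψ).1 hx1
  · intro φ' hφ'
    let ψ' : Γ(homSh M N, ⊤) := globalEquiv.symm φ'
    have h1 : famMap (Functor.whiskerRight (α I M N) secTop) (xOf I M N ψ') = yOf I τ := by
      rw [famMap_xOf_eq_yOf_iff]
      intro n
      change _ = globalEquiv (globalEquiv.symm φ') ≫ _
      rw [AddEquiv.apply_symm_apply]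
      exact hφ' n
    have h2 : xOf I M N ψ' = xOf I M N ψ := hbij.1 (h1.trans (hψ ▸ hx1).symm)
    have h3 : ψ' = ψ := hx.1 h2
    rw [← h3]
    exact (AddEquiv.apply_symm_apply _ _).symm

end

end Groth.Agent.R2.H2.ExistFF
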