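import Mathlib
import Groth.Agent.S0060
import Groth.Agent.R2.H2ExistProj
import Groth.Agent.R2.H64ExistFinal

/-!
# Grothendieck's existence theorem for a proper scheme with an ample invertible module
(helper2, PROJ:exist; inputs: helper64's (ES-A)/(ES-B), S0060)
-/

set_option autoImplicit false
universe u
open CategoryTheory CategoryTheory.Limits AlgebraicGeometry Opposite

namespace Groth.Agent.R2.H2.ExistAmple

/-- **Existence theorem, essential surjectivity, ample case.** -/
theorem exists_completion_iso_of_ample (A : Type u) [CommRing A] [IsNoetherianRing A] (I : Ideal A)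
    [IsAdicComplete I A] (X : Scheme.{u}) [X.Over (Spec (CommRingCat.of A))]
    [IsProper (X ↘ Spec (CommRingCat.of A))] (L : X.Modules) (hL : CohB1.IsAmple L)
    (G : ℕᵒᵖ ⥤ X.Modules) (hG : Formal.IsCohFormal I G) :
    ∃ M : X.Modules, Coh.IsCoh M ∧ Nonempty (Formal.completion I M ≅ G) := by
  obtain ⟨E₀, hE₀, p, hp⟩ := Groth.Agent.R2.H64.ExistGen.exists_epi_completion A I X L hL G hG
  obtain ⟨E₁, hE₁, q, w, hex⟩ :=
    Groth.Agent.R2.H64.ExistGen.exists_exact_completion A I X L hL G hG E₀ hE₀ p hp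
  obtain ⟨φ, hφ, -⟩ := Groth.Agent.S0060.result A I X E₁ E₀ hE₁ hE₀ q
  exact Groth.Agent.R2.H2.ExistProj.exists_iso_of_presentation I hG.2.1 hE₀ hE₁ p hp q
    (fun n => ⟨w n, hex n⟩) φ hφ

end Groth.Agent.R2.H2.ExistAmple
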