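import Mathlib
import Groth.Agent.R2.H2ExistFF4
import Groth.Agent.S0020
import Groth.Prelude.Def_ClSub2

/-!
# Full faithfulness of completion, part 5: the support of the Hom sheaf; proper supports
(helper2, PROJ:exist)
-/

set_option autoImplicit false
set_option linter.unusedSectionVars false
set_option linter.style.haveILetI false
universe u
open CategoryTheory CategoryTheory.Limits AlgebraicGeometry TopologicalSpace Opposite

namespace Groth.Agent.R2.H2.ExistFF

open Groth.Agent.R2.H2.HomSh

variable {X : Scheme.{u}}

/-- sections over an open disjoint from the support vanish -/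
theorem eq_zero_of_disjoint_support (M : X.Modules) (W : X.Opens)
    (hW : ∀ x ∈ W, x ∉ CohB1.support M) (s : Γ(M, W)) : s = 0 := by
  apply TopCat.Presheaf.section_ext (⟨M.presheaf, M.isSheaf⟩ : TopCat.Sheaf _ _) W
  intro x hx
  have h1 := hW x hx
  simp only [CohB1.support, Set.mem_ofPred_eq, not_not] at h1
  exact Subsingleton.elim _ _

theorem subsingleton_stalk_of_forall_eq_zero (F : X.Modules) (x : X) (W : X.Opens) (hxW : x ∈ W)
    (h : ∀ V : X.Opens, V ≤ W → ∀ s : Γ(F, V), s = 0) : Subsingleton (F.presheaf.stalk x) := by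
  have key : ∀ a : F.presheaf.stalk x, a = 0 := by
    intro a
    obtain ⟨U, hUW, hxU, s, rfl⟩ := F.presheaf.exists_le_germ_eq a hxW
    rw [h U hUW s, map_zero]
  exact ⟨fun a b => (key a).trans (key b).symm⟩

/-- the support of the Hom sheaf is contained in both supports (finite type modules) -/
theorem support_homSh_subset {M N : X.Modules} (hM : CohB1.IsFT M) (hN : CohB1.IsFT N) :
    CohB1.support (homSh M N) ⊆ CohB1.support M ∩ CohB1.support N := by
  intro x hx
  by_contra hcon
  apply hx
  rw [Set.mem_inter_iff, not_and_or] at hcon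
  rcases hcon with hcon | hcon
  · have hcl := Groth.Agent.S0020.result X M hM
    refine subsingleton_stalk_of_forall_eq_zero _ x ⟨(CohB1.support M)ᶜ, hcl.isOpen_compl⟩ hcon ?_
    intro V hV s
    refine Fam.ext (x := (show Fam M N V from s)) (y := (0 : Fam M N V)) ?_
    funext V' hV'
    apply LinearMap.ext
    intro m
    have hm : m = 0 := eq_zero_of_disjoint_support M V' (fun y hy => hV (hV' hy)) m
    rw [hm, map_zero, map_zero]
  · have hcl := Groth.Agent.S0020.result X N hN
    refine subsingleton_stalk_of_forall_eq_zero _ x ⟨(CohB1.support N)ᶜ, hcl.isOpen_compl⟩ hcon ?_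
    intro V hV s
    refine Fam.ext (x := (show Fam M N V from s)) (y := (0 : Fam M N V)) ?_
    funext V' hV'
    apply LinearMap.ext
    intro m
    exact eq_zero_of_disjoint_support N V' (fun y hy => hV (hV' hy)) _

/-- a closed subset of a closed set proper over the base is proper over the base -/
theorem isProperOver_of_subset {S : Scheme.{u}} (f : X ⟶ S) {Z₁ Z₂ : Set X}
    (h : ClSub.IsProperOver f Z₂) (hc : IsClosed Z₁) (hs : Z₁ ⊆ Z₂) : ClSub.IsProperOver f Z₁ := by
  obtain ⟨hc₂, hp⟩ := h
  refine ⟨hc, ?_⟩
  have hle : Scheme.IdealSheafData.vanishingIdeal ⟨Z₂, hc₂⟩ ≤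
      Scheme.IdealSheafData.vanishingIdeal ⟨Z₁, hc⟩ :=
    Scheme.IdealSheafData.vanishingIdeal_antimono hs
  haveI : IsClosedImmersion (Scheme.IdealSheafData.inclusion hle) := by
    have h1 := Scheme.IdealSheafData.inclusion_subschemeι hle
    have h2 : IsClosedImmersion (Scheme.IdealSheafData.inclusion hle ≫
        (Scheme.IdealSheafData.vanishingIdeal ⟨Z₂, hc₂⟩).subschemeι) := by
      rw [h1]; infer_instance
    exact IsClosedImmersion.of_comp (Scheme.IdealSheafData.inclusion hle)
      (Scheme.IdealSheafData.vanishingIdeal ⟨Z₂, hc₂⟩).subschemeι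
  rw [← Scheme.IdealSheafData.inclusion_subschemeι hle, Category.assoc]
  infer_instance

/-- the support of the Hom sheaf of two coherent modules is proper over the base as soon as the intersection
of the supports is -/
theorem isProperOver_support_homSh [IsLocallyNoetherian X] {S : Scheme.{u}} (f : X ⟶ S)
    {M N : X.Modules} (hM : Coh.IsCoh M) (hN : Coh.IsCoh N)
    (hs : ClSub.IsProperOver f (CohB1.support M ∩ CohB1.support N)) :
    ClSub.IsProperOver f (CohB1.support (homSh M N)) :=
  isProperOver_of_subset f hs (Groth.Agent.S0020.result X _ (isCoh_homSh hM hN).2)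
    (support_homSh_subset hM.2 hN.2)

end Groth.Agent.R2.H2.ExistFF
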