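import Mathlib
import Groth.Agent.R2.H2ExistFF4
import Groth.Agent.Lib.Helper20LocFree
import Groth.Agent.Lib.Helper2LocFree
import Groth.Prelude.Def_FlatMod2

/-!
# The Hom sheaf of two finite locally free modules is finite locally free

Used for S0840 (full faithfulness of completion on finite locally free modules from the degree-0
comparison for finite locally free modules).
-/

set_option autoImplicit false
universe u
open CategoryTheory AlgebraicGeometry TopologicalSpace Opposite

namespace Groth.Agent.R2.H2.ExistLF

open Groth.Agent.R2.H2.HomSh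
open Groth.Agent.Lib.Helper20.LocFree Groth.Agent.Lib.Helper20.PullbackAff
  Groth.Agent.Lib.Helper20.Thickening

section Alg

variable {R : Type u} [CommRing R] (P N : Type u) [AddCommGroup P] [Module R P]
  [AddCommGroup N] [Module R N]
  [Module.Finite R P] [Module.Projective R P] [Module.Finite R N] [Module.Projective R N]

/-- `Hom(P, N)` is finite projective when `P` and `N` are. -/
theorem finite_projective_linearMap :
    Module.Finite R (P →ₗ[R] N) ∧ Module.Projective R (P →ₗ[R] N) := by
  obtain ⟨n, f, g, -, -, hfg⟩ := Module.Finite.exists_comp_eq_id_of_projective R P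
  obtain ⟨m, f', g', -, -, hfg'⟩ := Module.Finite.exists_comp_eq_id_of_projective R N
  let a : (P →ₗ[R] N) →ₗ[R] ((Fin n → R) →ₗ[R] (Fin m → R)) :=
    { toFun := fun φ => g' ∘ₗ φ ∘ₗ f
      map_add' := fun φ φ' => by
        ext x
        simp
      map_smul' := fun r φ => by
        ext x
        simp }
  let b : ((Fin n → R) →ₗ[R] (Fin m → R)) →ₗ[R] (P →ₗ[R] N) :=
    { toFun := fun ψ => f' ∘ₗ ψ ∘ₗ g
      map_add' := fun φ φ' => by
        ext x
        simp
      map_smul' := fun r φ => by
        ext x
        simp }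
  have hba : b ∘ₗ a = LinearMap.id := by
    apply LinearMap.ext
    intro φ
    apply LinearMap.ext
    intro x
    change f' (g' (φ (f (g x)))) = φ x
    have h1 : f (g x) = x := LinearMap.congr_fun hfg x
    have h2 : f' (g' (φ x)) = φ x := LinearMap.congr_fun hfg' (φ x)
    rw [h1]
    exact h2
  refine ⟨Module.Finite.of_surjective b ?_, Module.Projective.of_split a b hba⟩
  intro φ
  exact ⟨a φ, LinearMap.congr_fun hba φ⟩

end Alg

variable {X : Scheme.{u}}

/-- finite locally free modules are quasi-coherent of finite type. -/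
theorem isCoh_of_isFinLocFree {M : X.Modules} (h : FlatMod.IsFinLocFree M) : Coh.IsCoh M := by
  haveI hfp := Groth.Agent.Lib.Helper2.LocFree.isFP_of_isFinLocFree M h
  exact ⟨{ nonempty_quasicoherentData :=
      ⟨(SheafOfModules.IsFinitePresentation.exists_quasicoherentData
        (R := X.ringCatSheaf) M).choose⟩ }, inferInstance⟩

variable [IsLocallyNoetherian X]

/-- sections of a finite locally free module over an affine open are finite projective. -/
theorem finite_projective_sections {E : X.Modules} (hE : FlatMod.IsFinLocFree E) {U : X.Opens}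
    (hU : IsAffineOpen U) :
    Module.Finite Γ(X, U) Γ(E, U) ∧ Module.Projective Γ(X, U) Γ(E, U) := by
  have hc := isCoh_of_isFinLocFree hE
  haveI : E.IsQuasicoherent := hc.1
  haveI : Module.FinitePresentation Γ(X, U) Γ(E, U) := finitePresentation_sections hc hU
  haveI : Module.Flat Γ(X, U) Γ(E, U) :=
    Groth.Agent.Lib.Helper2.LocFree.flat_sections_of_isFlatAt E hU
      (fun x _ => Groth.Agent.Lib.Helper2.LocFree.isFlat_of_isFinLocFree E hE x)
  exact ⟨inferInstance, Module.Flat.projective_of_finitePresentation⟩

/-- the Hom sheaf of two finite locally free modules is finite locally free. -/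
theorem isFinLocFree_homSh {E E' : X.Modules} (hE : FlatMod.IsFinLocFree E)
    (hE' : FlatMod.IsFinLocFree E') : FlatMod.IsFinLocFree (homSh E E') := by
  have hcE := isCoh_of_isFinLocFree hE
  have hcE' := isCoh_of_isFinLocFree hE'
  haveI : E.IsQuasicoherent := hcE.1
  haveI : E'.IsQuasicoherent := hcE'.1
  haveI : (homSh E E').IsQuasicoherent := isQuasicoherent_homSh hcE
  intro x
  obtain ⟨U, hU, hxU, -⟩ := exists_isAffineOpen_mem_and_subset (x := x) (U := ⊤) trivial
  obtain ⟨h1, h2⟩ := finite_projective_sections hE hU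
  obtain ⟨h1', h2'⟩ := finite_projective_sections hE' hU
  obtain ⟨h3, h4⟩ := finite_projective_linearMap (R := Γ(X, U)) Γ(E, U) Γ(E', U)
  let e : (Γ(E, U) →ₗ[Γ(X, U)] Γ(E', U)) ≃ₗ[Γ(X, U)] (ΓUF hU).obj (homSh E E') :=
    ((dictEquiv hU).symm.trans (secEquiv E E' U).symm).trans (ΓUEquiv hU (homSh E E'))
  haveI : Module.Finite Γ(X, U) ((ΓUF hU).obj (homSh E E')) := Module.Finite.equiv e
  haveI : Module.Projective Γ(X, U) ((ΓUF hU).obj (homSh E E')) := Module.Projective.of_equiv' e
  haveI : Module.FinitePresentation Γ(X, U) ((ΓUF hU).obj (homSh E E')) :=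
    Module.finitePresentation_of_projective _ _
  obtain ⟨D, m, hxD, -, hiso⟩ := exists_restrict_iso_freeMod (homSh E E') hU x hxU
  exact ⟨D, m, hxD, hiso⟩

end Groth.Agent.R2.H2.ExistLF
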