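import Mathlib
import Groth.Agent.R2.H2ExistFF4
import Groth.Agent.R2.H35FFLim

/-!
# Full faithfulness of completion when one of the modules is torsion (helper2, PROJ:exist)

* `bijective_toHHlim_of_killedBy`: if `I^c H = 0` then `H^p(X,H) → lim H^p(X, H/I^(n+1)H)` is bijective.
* `killedBy_homSh_left/right`: the Hom sheaf is killed by `I^c` if one of its arguments is.
* `ff_of_killedBy`: full faithfulness of completion on pairs of coherent modules one of which is killed by a
  power of `I` (X compact locally Noetherian, no hypothesis on the base ring).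
-/

set_option autoImplicit false
set_option linter.unusedSectionVars false
set_option linter.style.haveILetI false
universe u
open CategoryTheory CategoryTheory.Limits AlgebraicGeometry TopologicalSpace Opposite

namespace Groth.Agent.R2.H2.ExistTors

open Groth.Agent.R2.H2.HomSh Groth.Agent.R2.H2.ExistFF Groth.Agent.R2.H62.CohLES
  Groth.Agent.R2.H35.FFLim

variable {A : Type u} [CommRing A] {X : Scheme.{u}} [X.Over (Spec (CommRingCat.of A))] (I : Ideal A)

theorem smulFamily_eq_zero {H : X.Modules} {J : Ideal A} (h : Formal.KilledBy J H) :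
    Formal.smulFamily J H = 0 := by
  apply Sigma.hom_ext
  intro a
  simp [Formal.smulFamily, h a.1 a.2]

theorem isIso_cokernel_π_of_eq_zero {C : Type*} [Category C] [Abelian C] {P Q : C} (f : P ⟶ Q)
    (h : f = 0) : IsIso (cokernel.π f) := by
  subst h
  infer_instance

theorem isIso_modPowπ {H : X.Modules} {c k : ℕ} (hc : Formal.KilledBy (I ^ c) H) (hk : c ≤ k) :
    IsIso (Formal.modPowπ I k H) :=
  isIso_cokernel_π_of_eq_zero _
    (smulFamily_eq_zero (fun a ha => hc a (Ideal.pow_le_pow_right hk ha)))

theorem bijective_toHHmodPow {H : X.Modules} {c n : ℕ} (p : ℕ) (hc : Formal.KilledBy (I ^ c) H)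
    (hn : c ≤ n + 1) : Function.Bijective (Formal.toHHmodPow I H p n) := by
  haveI := isIso_modPowπ I hc hn
  have e : ∀ x, Formal.toHHmodPow I H p n x = HHmap (Formal.modPowπ I (n + 1) H) p x := fun _ => rfl
  constructor
  · intro x y h
    rw [e, e] at h
    have h2 := congrArg (HHmap (inv (Formal.modPowπ I (n + 1) H)) p) h
    rw [← HHmap_comp, ← HHmap_comp, IsIso.hom_inv_id, HHmap_id, HHmap_id] at h2
    exact h2
  · intro y
    refine ⟨HHmap (inv (Formal.modPowπ I (n + 1) H)) p y, ?_⟩
    rw [e, ← HHmap_comp, IsIso.inv_hom_id, HHmap_id]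

/-- formal functions for a module killed by a power of `I` -/
theorem bijective_toHHlim_of_killedBy {H : X.Modules} {c : ℕ} (p : ℕ)
    (hc : Formal.KilledBy (I ^ c) H) : Function.Bijective (Formal.toHHlim I H p) := by
  have hb : ∀ n, c ≤ n + 1 → Function.Bijective (Formal.toHHmodPow I H p n) :=
    fun n hn => bijective_toHHmodPow I p hc hn
  have hcompat : ∀ (x : Coh.HH X H p) (n : ℕ),
      Formal.HHmodPowTrans I H p n (Formal.toHHmodPow I H p (n + 1) x) = Formal.toHHmodPow I H p n x :=
    fun x n => (Formal.toHHlim I H p x).2 n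
  constructor
  · intro x y h
    exact (hb c (Nat.le_succ c)).1 (congrFun (congrArg Subtype.val h) c)
  · intro z
    obtain ⟨x, hx⟩ := (hb c (Nat.le_succ c)).2 (z.1 c)
    refine ⟨x, ?_⟩
    apply Subtype.ext
    funext n
    change Formal.toHHmodPow I H p n x = z.1 n
    rcases le_total n c with hnc | hnc
    · obtain ⟨j, rfl⟩ := Nat.exists_eq_add_of_le hnc
      have h1 := Tr_of_compat I H p (fun m => Formal.toHHmodPow I H p m x) (hcompat x) n j
      have h2 := Tr_of_compat I H p z.1 z.2 n j
      rw [← h1, ← h2]
      exact congrArg _ hx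
    · induction n, hnc using Nat.le_induction with
      | base => exact hx
      | succ n hn ih =>
        have hinj : Function.Injective (Formal.HHmodPowTrans I H p n) := by
          intro a b hab
          obtain ⟨a', rfl⟩ := (hb (n + 1) (by omega)).2 a
          obtain ⟨b', rfl⟩ := (hb (n + 1) (by omega)).2 b
          rw [hcompat, hcompat] at hab
          rw [(hb n (by omega)).1 hab]
        apply hinj
        rw [hcompat, z.2 n]
        exact ih

variable {M N : X.Modules}

theorem killedBy_homSh_right {J : Ideal A} (h : Formal.KilledBy J N) :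
    Formal.KilledBy J (homSh M N) := fun a ha => by
  rw [smulMod_homSh, h a ha, homShMap_zero]

theorem killedBy_homSh_left {J : Ideal A} (h : Formal.KilledBy J M) :
    Formal.KilledBy J (homSh M N) := fun a ha => by
  apply Scheme.Modules.hom_ext
  intro U
  ext φ
  apply Fam.ext (x := ((Formal.smulMod A (homSh M N) a).app U φ : Fam M N U)) (y := (0 : Fam M N U))
  funext V hV
  apply LinearMap.ext
  intro m
  have h1 : ((Formal.smulMod A (homSh M N) a).app U φ : Fam M N U).app V hV m =
      (Groth.Agent.R2.H88.ExistSec.toSec A V a) • (show Fam M N U from φ).app V hV m := by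
    change (X.presheaf.map (homOfLE hV).op (X.presheaf.map (homOfLE (le_top : U ≤ ⊤)).op _)) •
      (show Fam M N U from φ).app V hV m = _
    rw [ring_map_map_of_le]
    rfl
  rw [h1, ← map_smul]
  have h2 : Groth.Agent.R2.H88.ExistSec.toSec A V a • m = (Formal.smulMod A M a).app V m := rfl
  rw [h2, h a ha]
  exact map_zero _

variable [IsLocallyNoetherian X] [CompactSpace X]

/-- **Full faithfulness of completion when one of the two coherent modules is killed by a power of `I`.** -/
theorem ff_of_killedBy (hM : Coh.IsCoh M) (hN : Coh.IsCoh N)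
    (hc : ∃ c : ℕ, Formal.KilledBy (I ^ c) M ∨ Formal.KilledBy (I ^ c) N)
    (τ : Formal.completion I M ⟶ Formal.completion I N) :
    ∃! φ : M ⟶ N, ∀ n : ℕ,
      Formal.modPowπ I (n + 1) M ≫ τ.app (op n) = φ ≫ Formal.modPowπ I (n + 1) N := by
  obtain ⟨c, hc⟩ := hc
  have hk : Formal.KilledBy (I ^ c) (homSh M N) := by
    rcases hc with h | h
    · exact killedBy_homSh_left h
    · exact killedBy_homSh_right h
  exact ff_of I hM hN (bijective_toHHlim_of_killedBy I 0 hk) τ

end Groth.Agent.R2.H2.ExistTors
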