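import Mathlib

/-!
# Equalizers of finite étale algebras (helper2, round 2, project fet-galois)

For finite étale `R`-algebras `B`, `C` and `R`-algebra maps `f g : B →ₐ[R] C`:
* `flatCoker`: the cokernel of the linear map `f - g` is flat;
* `exists_regular`: `f - g` is von Neumann regular: `(f-g) ∘ s ∘ (f-g) = f-g` for some linear `s`;
* `finite_equalizer`, `projective_equalizer`, `etale_equalizer`: the equalizer subalgebra is finite étale;
* `bijective_tensorEqualizer`: the equalizer commutes with arbitrary base change.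
-/

set_option autoImplicit false
set_option linter.unusedSectionVars false
universe u
open Matrix

namespace Groth.Agent.R2.H2.FEtEq

section Graph

variable {ι κ : Type} [Fintype ι] [DecidableEq ι] [Fintype κ] [DecidableEq κ] (φ ψ : κ → ι)

/-- coboundary matrix of the graph with vertex set `ι`, edge set `κ`, edge `k` joining
`φ k` and `ψ k`. -/
def cob : Matrix κ ι ℤ := fun k i => (if φ k = i then 1 else 0) - (if ψ k = i then 1 else 0)

theorem cob_mulVec {A : Type*} [CommRing A] (x : ι → A) (k : κ) :
    ((cob φ ψ).map (Int.castRingHom A)).mulVec x k = x (φ k) - x (ψ k) := by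
  simp [Matrix.mulVec, dotProduct, cob, sub_mul, Finset.sum_sub_distrib]

theorem cob_mulVec_int (x : ι → ℤ) (k : κ) :
    (cob φ ψ).mulVec x k = x (φ k) - x (ψ k) := by
  simp [Matrix.mulVec, dotProduct, cob, sub_mul, Finset.sum_sub_distrib]

/-- the equivalence relation generated by the edges -/
def gsetoid : Setoid ι := Relation.EqvGen.setoid fun i j => ∃ k, φ k = i ∧ ψ k = j

theorem dvd_of_rel (N : ℤ) (z : ι → ℤ) (h : ∀ k, N ∣ z (φ k) - z (ψ k)) {i j : ι}
    (hij : (gsetoid φ ψ).r i j) : N ∣ z i - z j := by
  induction hij with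
  | rel i j h' => obtain ⟨k, rfl, rfl⟩ := h'; exact h k
  | refl i => simp
  | symm i j _ ih => rw [← neg_sub]; exact (dvd_neg).mpr ih
  | trans i j k _ _ ih1 ih2 => have := dvd_add ih1 ih2; simpa using this

/-- representative of the class of a vertex -/
noncomputable def rep (i : ι) : ι := (Quotient.mk (gsetoid φ ψ) i).out

theorem rep_rel (i : ι) : (gsetoid φ ψ).r (rep φ ψ i) i := Quotient.mk_out (s := gsetoid φ ψ) i

theorem rep_eq_of_rel {i j : ι} (h : (gsetoid φ ψ).r i j) : rep φ ψ i = rep φ ψ j := by
  unfold rep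
  rw [Quotient.sound (s := gsetoid φ ψ) h]

theorem rep_edge (k : κ) : rep φ ψ (φ k) = rep φ ψ (ψ k) :=
  rep_eq_of_rel φ ψ (Relation.EqvGen.rel _ _ ⟨k, rfl, rfl⟩)

/-- The cokernel of the coboundary over `ℤ` is torsion free. -/
theorem mem_range_of_smul_mem (N : ℤ) (hN : N ≠ 0) (y : κ → ℤ)
    (h : N • y ∈ LinearMap.range (Matrix.toLin' (cob φ ψ))) :
    y ∈ LinearMap.range (Matrix.toLin' (cob φ ψ)) := by
  obtain ⟨z, hz⟩ := h
  have hz' : ∀ k, z (φ k) - z (ψ k) = N * y k := by
    intro k
    have := congrFun hz k
    rw [Matrix.toLin'_apply, cob_mulVec_int] at this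
    simpa using this
  have hdvd : ∀ i, N ∣ z i - z (rep φ ψ i) := by
    intro i
    have := dvd_of_rel φ ψ N z (fun k => ⟨y k, hz' k⟩) (rep_rel φ ψ i)
    rw [← neg_sub]; exact (dvd_neg).mpr this
  choose z' hz'' using hdvd
  refine ⟨z', ?_⟩
  ext k
  rw [Matrix.toLin'_apply, cob_mulVec_int]
  have h1 := hz'' (φ k)
  have h2 := hz'' (ψ k)
  have h3 := hz' k
  rw [rep_edge φ ψ k] at h1
  have : N * (z' (φ k) - z' (ψ k)) = N * y k := by
    rw [mul_sub, ← h1, ← h2, ← h3]; ring
  exact mul_left_cancel₀ hN this





theorem exists_regular_inverse_int :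
    ∃ S : Matrix ι κ ℤ, cob φ ψ * S * cob φ ψ = cob φ ψ := by
  set D := Matrix.toLin' (cob φ ψ) with hD
  have : Module.IsTorsionFree ℤ ((κ → ℤ) ⧸ LinearMap.range D) := by
    refine ⟨fun r hr => isSMulRegular_iff_right_eq_zero_of_smul.mpr ?_⟩
    intro q hq
    obtain ⟨y, rfl⟩ := Submodule.Quotient.mk_surjective _ q
    have hr0 : r ≠ 0 := by
      rintro rfl
      exact hr.ne_zero rfl
    rw [← Submodule.Quotient.mk_smul, Submodule.Quotient.mk_eq_zero] at hq
    rw [Submodule.Quotient.mk_eq_zero]
    exact mem_range_of_smul_mem φ ψ r hr0 y hq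
  have : Module.Free ℤ ((κ → ℤ) ⧸ LinearMap.range D) := inferInstance
  obtain ⟨σ, hσ⟩ := Module.projective_lifting_property (LinearMap.range D).mkQ LinearMap.id
    (Submodule.mkQ_surjective _)
  let P : (κ → ℤ) →ₗ[ℤ] (κ → ℤ) := LinearMap.id - σ ∘ₗ (LinearMap.range D).mkQ
  have hP : ∀ y, P y ∈ LinearMap.range D := by
    intro y
    rw [← Submodule.Quotient.mk_eq_zero, ← Submodule.mkQ_apply]
    simp only [P, LinearMap.sub_apply, LinearMap.id_apply, LinearMap.comp_apply, map_sub]
    have := LinearMap.congr_fun hσ ((LinearMap.range D).mkQ y)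
    simp only [LinearMap.comp_apply, LinearMap.id_apply] at this
    rw [this, sub_self]
  have hPD : ∀ z, P (D z) = D z := by
    intro z
    simp only [P, LinearMap.sub_apply, LinearMap.id_apply, LinearMap.comp_apply]
    have : (LinearMap.range D).mkQ (D z) = 0 := by
      rw [Submodule.mkQ_apply, Submodule.Quotient.mk_eq_zero]; exact ⟨z, rfl⟩
    rw [this, map_zero, sub_zero]
  obtain ⟨S, hS⟩ := Module.projective_lifting_property D.rangeRestrict
    (P.codRestrict _ hP) D.surjective_rangeRestrict
  refine ⟨LinearMap.toMatrix' S, ?_⟩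
  apply Matrix.toLin'.injective
  rw [Matrix.toLin'_mul, Matrix.toLin'_mul, Matrix.toLin'_toMatrix', ← hD]
  refine LinearMap.ext fun z => ?_
  have := LinearMap.congr_fun hS (D z)
  have h2 := congrArg Subtype.val this
  simp only [LinearMap.comp_apply, LinearMap.codRestrict_apply, LinearMap.rangeRestrict] at h2
  simp only [LinearMap.comp_apply]
  rw [h2, hPD]





/-- the coboundary over an arbitrary ring -/
noncomputable def dA (A : Type*) [CommRing A] : (ι → A) →ₗ[A] (κ → A) :=
  Matrix.toLin' ((cob φ ψ).map (Int.castRingHom A))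

theorem dA_apply (A : Type*) [CommRing A] (x : ι → A) (k : κ) :
    dA φ ψ A x k = x (φ k) - x (ψ k) := by
  rw [dA, Matrix.toLin'_apply, cob_mulVec]

theorem exists_regular_inverse (A : Type*) [CommRing A] :
    ∃ s : (κ → A) →ₗ[A] (ι → A), dA φ ψ A ∘ₗ s ∘ₗ dA φ ψ A = dA φ ψ A := by
  obtain ⟨S, hS⟩ := exists_regular_inverse_int φ ψ
  refine ⟨Matrix.toLin' (S.map (Int.castRingHom A)), ?_⟩
  rw [dA, ← Matrix.toLin'_mul, ← Matrix.toLin'_mul, ← Matrix.map_mul, ← Matrix.map_mul,
    ← Matrix.mul_assoc, hS]

end Graph

section Split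

variable {ι κ : Type} [Fintype ι] [DecidableEq ι] [Fintype κ] [DecidableEq κ]

theorem algHom_pi_eq_eval {A : Type*} [CommRing A] [Nontrivial A]
    (hA : ∀ e : A, IsIdempotentElem e → e = 0 ∨ e = 1)
    (χ : (ι → A) →ₐ[A] A) : ∃ i, ∀ x, χ x = x i := by
  have hid : ∀ i, IsIdempotentElem (χ (Pi.single i 1)) := by
    intro i
    unfold IsIdempotentElem
    rw [← map_mul, ← Pi.single_mul, mul_one]
  have hsum : ∑ i, χ (Pi.single i 1) = 1 := by
    rw [← map_sum, Finset.univ_sum_single]
    exact map_one χ
  have horth : ∀ i j, i ≠ j → χ (Pi.single i 1) * χ (Pi.single j 1) = 0 := by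
    intro i j hij
    rw [← map_mul]
    have : (Pi.single i (1 : A) : ι → A) * Pi.single j 1 = 0 := by
      ext l
      simp only [Pi.mul_apply, Pi.single_apply, Pi.zero_apply]
      by_cases h1 : l = i
      · have : l ≠ j := fun h => hij (h1.symm.trans h)
        simp [this]
      · simp [h1]
    rw [this, map_zero]
  have hex : ∃ i, χ (Pi.single i 1) = 1 := by
    by_contra hne
    push Not at hne
    have : ∀ i, χ (Pi.single i 1) = 0 := fun i => (hA _ (hid i)).resolve_right (hne i)
    rw [Finset.sum_congr rfl (fun i _ => this i), Finset.sum_const_zero] at hsum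
    exact zero_ne_one hsum
  obtain ⟨i, hi⟩ := hex
  refine ⟨i, fun x => ?_⟩
  have hj : ∀ j, j ≠ i → χ (Pi.single j 1) = 0 := by
    intro j hji
    have := horth j i hji
    rwa [hi, mul_one] at this
  have hx : x = ∑ j, x j • (Pi.single j 1 : ι → A) := by
    ext l
    simp [Finset.sum_apply, Pi.single_apply]
  conv_lhs => rw [hx]
  rw [map_sum]
  simp only [map_smul, smul_eq_mul]
  rw [Finset.sum_eq_single i]
  · rw [hi, mul_one]
  · intro j _ hji; rw [hj j hji, mul_zero]
  · intro h; exact absurd (Finset.mem_univ i) h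

theorem algHom_pi_pi {A : Type*} [CommRing A] [Nontrivial A]
    (hA : ∀ e : A, IsIdempotentElem e → e = 0 ∨ e = 1)
    (F : (ι → A) →ₐ[A] (κ → A)) : ∃ φ : κ → ι, ∀ x k, F x k = x (φ k) := by
  have := fun k => algHom_pi_eq_eval hA ((Pi.evalAlgHom A (fun _ : κ => A) k).comp F)
  choose φ hφ using this
  exact ⟨φ, fun x k => hφ k x⟩

end Split



section RI

theorem projective_of_regular {A N₁ N₂ N₃ : Type*} [CommRing A] [AddCommGroup N₁] [AddCommGroup N₂]
    [AddCommGroup N₃] [Module A N₁] [Module A N₂] [Module A N₃] [Module.Projective A N₂]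
    (d : N₁ →ₗ[A] N₂) (p : N₂ →ₗ[A] N₃) (hp : Function.Surjective p) (hex : Function.Exact d p)
    (s : N₂ →ₗ[A] N₁) (hs : d ∘ₗ s ∘ₗ d = d) : Module.Projective A N₃ := by
  have hker : LinearMap.ker p ≤ LinearMap.ker (LinearMap.id - d ∘ₗ s) := by
    intro x hx
    obtain ⟨z, rfl⟩ := (hex x).mp hx
    have := LinearMap.congr_fun hs z
    simp only [LinearMap.comp_apply] at this
    simp [this]
  let σ : N₃ →ₗ[A] N₂ :=
    (LinearMap.ker p).liftQ (LinearMap.id - d ∘ₗ s) hker ∘ₗ
      (p.quotKerEquivOfSurjective hp).symm.toLinearMap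
  refine Module.Projective.of_split σ p ?_
  refine LinearMap.ext fun y => ?_
  obtain ⟨x, rfl⟩ := hp y
  have h1 : (p.quotKerEquivOfSurjective hp).symm (p x) = Submodule.Quotient.mk x := by
    rw [LinearEquiv.symm_apply_eq]
    rfl
  simp only [σ, LinearMap.comp_apply, LinearEquiv.coe_coe, h1, Submodule.liftQ_apply,
    LinearMap.sub_apply, LinearMap.id_apply, map_sub]
  rw [hex.apply_apply_eq_zero, sub_zero]

end RI



open TensorProduct

section Levels

/-- The cokernel of `f - g` is flat (formulated for every cokernel). -/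
def FlatCoker (R B C : Type u) [CommRing R] [CommRing B] [CommRing C] [Algebra R B] [Algebra R C]
    (f g : B →ₐ[R] C) : Prop :=
  ∀ (M : Type u) [AddCommGroup M] [Module R M] (p : C →ₗ[R] M), Function.Surjective p →
    Function.Exact (f.toLinearMap - g.toLinearMap) p → Module.Flat R M

variable {R B C : Type u} [CommRing R] [CommRing B] [CommRing C] [Algebra R B] [Algebra R C]
  (f g : B →ₐ[R] C)

theorem baseChange_sub (T : Type u) [CommRing T] [Algebra R T] :
    (Algebra.TensorProduct.map (AlgHom.id T T) f).toLinearMap -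
      (Algebra.TensorProduct.map (AlgHom.id T T) g).toLinearMap =
      (f.toLinearMap - g.toLinearMap).baseChange T := by
  apply TensorProduct.AlgebraTensorModule.curry_injective
  ext b
  simp

theorem flatCoker_level0 [Nontrivial R] (hR : ∀ e : R, IsIdempotentElem e → e = 0 ∨ e = 1)
    [Algebra.IsFiniteSplit R B] [Algebra.IsFiniteSplit R C] : FlatCoker R B C f g := by
  intro M _ _ p hp hex
  obtain ⟨n, ⟨eB⟩⟩ := Algebra.IsFiniteSplit.nonempty_algEquiv_fun R B
  obtain ⟨m, ⟨eC⟩⟩ := Algebra.IsFiniteSplit.nonempty_algEquiv_fun R C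
  obtain ⟨φ, hφ⟩ := algHom_pi_pi hR ((eC.toAlgHom.comp f).comp eB.symm.toAlgHom)
  obtain ⟨ψ, hψ⟩ := algHom_pi_pi hR ((eC.toAlgHom.comp g).comp eB.symm.toAlgHom)
  obtain ⟨s₀, hs₀⟩ := exists_regular_inverse φ ψ R
  have hd : ∀ b, eC (f b - g b) = dA φ ψ R (eB b) := by
    intro b
    ext k
    rw [dA_apply, map_sub, Pi.sub_apply]
    have h1 : eC (f b) k = eB b (φ k) := by
      have := hφ (eB b) k
      simpa using this
    have h2 : eC (g b) k = eB b (ψ k) := by
      have := hψ (eB b) k
      simpa using this
    rw [h1, h2]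
  let s : C →ₗ[R] B := eB.symm.toLinearMap ∘ₗ s₀ ∘ₗ eC.toLinearMap
  have hs : (f.toLinearMap - g.toLinearMap) ∘ₗ s ∘ₗ (f.toLinearMap - g.toLinearMap) =
      f.toLinearMap - g.toLinearMap := by
    refine LinearMap.ext fun b => ?_
    apply eC.injective
    simp only [LinearMap.comp_apply, LinearMap.sub_apply, AlgHom.toLinearMap_apply, s,
      AlgEquiv.toLinearMap_apply]
    rw [hd, hd, AlgEquiv.apply_symm_apply]
    have := LinearMap.congr_fun hs₀ (eB b)
    simpa using this
  have : Module.Projective R M := projective_of_regular _ p hp hex s hs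
  infer_instance

theorem flatCoker_of_faithfullyFlat (T : Type u) [CommRing T] [Algebra R T]
    [Module.FaithfullyFlat R T]
    (h : FlatCoker T (T ⊗[R] B) (T ⊗[R] C) (Algebra.TensorProduct.map (AlgHom.id T T) f)
      (Algebra.TensorProduct.map (AlgHom.id T T) g)) : FlatCoker R B C f g := by
  intro M _ _ p hp hex
  have h1 : Function.Surjective (p.baseChange T) := by
    rw [LinearMap.baseChange_eq_ltensor]
    exact LinearMap.lTensor_surjective T hp
  have h2 : Function.Exact ((f.toLinearMap - g.toLinearMap).baseChange T) (p.baseChange T) := by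
    rw [LinearMap.baseChange_eq_ltensor]
    exact lTensor_exact T hex hp
  rw [← baseChange_sub] at h2
  have := h (T ⊗[R] M) (p.baseChange T) h1 h2
  exact Module.Flat.of_flat_tensorProduct R M T





theorem flatCoker_baseChange_aux (T : Type u) [CommRing T] [Algebra R T]
    (h : FlatCoker T (T ⊗[R] B) (T ⊗[R] C) (Algebra.TensorProduct.map (AlgHom.id T T) f)
      (Algebra.TensorProduct.map (AlgHom.id T T) g))
    (M : Type u) [AddCommGroup M] [Module R M] (p : C →ₗ[R] M) (hp : Function.Surjective p)
    (hex : Function.Exact (f.toLinearMap - g.toLinearMap) p) : Module.Flat T (T ⊗[R] M) := by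
  have h1 : Function.Surjective (p.baseChange T) := by
    rw [LinearMap.baseChange_eq_ltensor]
    exact LinearMap.lTensor_surjective T hp
  have h2 : Function.Exact ((f.toLinearMap - g.toLinearMap).baseChange T) (p.baseChange T) := by
    rw [LinearMap.baseChange_eq_ltensor]
    exact lTensor_exact T hex hp
  rw [← baseChange_sub] at h2
  exact h (T ⊗[R] M) (p.baseChange T) h1 h2

theorem flatCoker_of_localization
    (h : ∀ (P : Ideal R) [P.IsMaximal], FlatCoker (Localization.AtPrime P)
      (Localization.AtPrime P ⊗[R] B) (Localization.AtPrime P ⊗[R] C)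
      (Algebra.TensorProduct.map (AlgHom.id _ _) f)
      (Algebra.TensorProduct.map (AlgHom.id _ _) g)) : FlatCoker R B C f g := by
  intro M _ _ p hp hex
  refine Module.flat_of_isLocalized_maximal R M (fun P _ => Localization.AtPrime P ⊗[R] M)
    (fun P _ => TensorProduct.mk R (Localization.AtPrime P) M 1) ?_
  intro P hP
  have : Module.Flat (Localization.AtPrime P) (Localization.AtPrime P ⊗[R] M) :=
    flatCoker_baseChange_aux f g _ (h P) M p hp hex
  exact Module.Flat.trans R (Localization.AtPrime P) _





theorem idem_of_isLocalRing {A : Type*} [CommRing A] [IsLocalRing A] (e : A)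
    (he : IsIdempotentElem e) : e = 0 ∨ e = 1 := by
  have h0 : e * (1 - e) = 0 := by rw [mul_sub, mul_one, he.eq, sub_self]
  rcases IsLocalRing.isUnit_or_isUnit_one_sub_self e with h | h
  · right
    have := h.mul_right_eq_zero.mp h0
    exact (sub_eq_zero.mp this).symm
  · left
    exact h.mul_left_eq_zero.mp h0

theorem flatCoker_level1 [Algebra.IsFiniteSplit R B] [Algebra.IsFiniteSplit R C] :
    FlatCoker R B C f g :=
  flatCoker_of_localization f g fun P _ =>
    flatCoker_level0 _ _ (fun e he => idem_of_isLocalRing e he)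

theorem flatCoker_level2a [Algebra.IsFiniteSplit R B] [Module.Finite R C] [Algebra.Etale R C]
    {m : ℕ} (hm : Module.rankAtStalk (R := R) C = m) : FlatCoker R B C f g := by
  obtain ⟨T, _, _, _, _, _, hT⟩ := Algebra.IsFiniteSplit.exists_tensorProduct_of_etale hm
  exact flatCoker_of_faithfullyFlat f g T (flatCoker_level1 _ _)

theorem flatCoker_level2b [Module.Finite R B] [Algebra.Etale R B] [Module.Finite R C]
    [Algebra.Etale R C] {n m : ℕ} (hn : Module.rankAtStalk (R := R) B = n)
    (hm : Module.rankAtStalk (R := R) C = m) : FlatCoker R B C f g := by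
  obtain ⟨T, _, _, _, _, _, hT⟩ := Algebra.IsFiniteSplit.exists_tensorProduct_of_etale hn
  refine flatCoker_of_faithfullyFlat f g T (flatCoker_level2a _ _ (m := m) ?_)
  ext p
  rw [Module.rankAtStalk_baseChange, hm]
  rfl

theorem flatCoker [Module.Finite R B] [Algebra.Etale R B] [Module.Finite R C]
    [Algebra.Etale R C] : FlatCoker R B C f g := by
  refine flatCoker_of_localization f g fun P _ => ?_
  have h1 : Module.Free (Localization.AtPrime P) (Localization.AtPrime P ⊗[R] B) :=
    Module.free_of_flat_of_isLocalRing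
  have h2 : Module.Free (Localization.AtPrime P) (Localization.AtPrime P ⊗[R] C) :=
    Module.free_of_flat_of_isLocalRing
  exact flatCoker_level2b _ _ (Module.rankAtStalk_eq_finrank_of_free)
    (Module.rankAtStalk_eq_finrank_of_free)





section Main

variable [Module.Finite R B] [Algebra.Etale R B] [Module.Finite R C] [Algebra.Etale R C]

theorem projective_of_finite_etale (R B : Type u) [CommRing R] [CommRing B] [Algebra R B]
    [Module.Finite R B] [Algebra.Etale R B] : Module.Projective R B := by
  have : Module.FinitePresentation R B := Module.FinitePresentation.of_finite_of_finitePresentation R B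
  exact Module.Flat.projective_of_finitePresentation

/-- `f - g` is von Neumann regular as a linear map. -/
theorem exists_regular : ∃ s : C →ₗ[R] B,
    (f.toLinearMap - g.toLinearMap) ∘ₗ s ∘ₗ (f.toLinearMap - g.toLinearMap) =
      f.toLinearMap - g.toLinearMap := by
  set d := f.toLinearMap - g.toLinearMap with hd
  have hCproj : Module.Projective R C := projective_of_finite_etale R C
  have hCfp : Module.FinitePresentation R C :=
    Module.FinitePresentation.of_finite_of_finitePresentation R C
  have hflat : Module.Flat R (C ⧸ LinearMap.range d) :=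
    flatCoker f g _ (LinearMap.range d).mkQ (Submodule.mkQ_surjective _)
      (LinearMap.exact_map_mkQ_range d)
  have hfp : Module.FinitePresentation R (C ⧸ LinearMap.range d) := by
    refine Module.finitePresentation_of_surjective (LinearMap.range d).mkQ
      (Submodule.mkQ_surjective _) ?_
    rw [Submodule.ker_mkQ, LinearMap.range_eq_map]
    exact (Module.Finite.fg_top).map d
  have hproj : Module.Projective R (C ⧸ LinearMap.range d) :=
    Module.Flat.projective_of_finitePresentation
  obtain ⟨σ, hσ⟩ := Module.projective_lifting_property (LinearMap.range d).mkQ LinearMap.id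
    (Submodule.mkQ_surjective _)
  have hmem : ∀ x : C, x - σ ((LinearMap.range d).mkQ x) ∈ LinearMap.range d := by
    intro x
    rw [← Submodule.Quotient.mk_eq_zero, ← Submodule.mkQ_apply, map_sub]
    have := LinearMap.congr_fun hσ ((LinearMap.range d).mkQ x)
    simp only [LinearMap.comp_apply, LinearMap.id_apply] at this
    rw [this, sub_self]
  let retr : C →ₗ[R] LinearMap.range d :=
    (LinearMap.id - σ ∘ₗ (LinearMap.range d).mkQ).codRestrict _ hmem
  have hretr : ∀ x : LinearMap.range d, retr x = x := by
    intro x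
    apply Subtype.ext
    simp only [retr, LinearMap.codRestrict_apply, LinearMap.sub_apply, LinearMap.id_apply,
      LinearMap.comp_apply]
    have : (LinearMap.range d).mkQ (x : C) = 0 := by
      rw [Submodule.mkQ_apply, Submodule.Quotient.mk_eq_zero]; exact x.2
    rw [this, map_zero, sub_zero]
  have hIproj : Module.Projective R (LinearMap.range d) :=
    Module.Projective.of_split (LinearMap.range d).subtype retr
      (LinearMap.ext fun x => hretr x)
  obtain ⟨τ, hτ⟩ := Module.projective_lifting_property d.rangeRestrict LinearMap.id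
    d.surjective_rangeRestrict
  refine ⟨τ ∘ₗ retr, LinearMap.ext fun b => ?_⟩
  simp only [LinearMap.comp_apply]
  have h1 : retr (d b) = ⟨d b, ⟨b, rfl⟩⟩ := hretr ⟨d b, ⟨b, rfl⟩⟩
  rw [h1]
  have h2 := LinearMap.congr_fun hτ ⟨d b, ⟨b, rfl⟩⟩
  have h3 := congrArg Subtype.val h2
  simpa [LinearMap.rangeRestrict] using h3







/-- the linear retraction of `B` onto the equalizer, with the complementary homotopy -/
theorem exists_retraction : ∃ (r : B →ₗ[R] AlgHom.equalizer f g) (s : C →ₗ[R] B),
    (∀ e : AlgHom.equalizer f g, r e = e) ∧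
    ∀ b : B, ((r b : AlgHom.equalizer f g) : B) + s (f b - g b) = b := by
  obtain ⟨s, hs⟩ := exists_regular f g
  have hs' : ∀ b, f (s (f b - g b)) - g (s (f b - g b)) = f b - g b := by
    intro b
    have := LinearMap.congr_fun hs b
    simpa using this
  have hmem : ∀ b : B, b - s (f b - g b) ∈ AlgHom.equalizer f g := by
    intro b
    rw [AlgHom.mem_equalizer]
    have := hs' b
    have e1 : f (b - s (f b - g b)) = f b - f (s (f b - g b)) := map_sub f _ _
    have e2 : g (b - s (f b - g b)) = g b - g (s (f b - g b)) := map_sub g _ _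
    rw [e1, e2]
    linear_combination (-1 : C) * this
  let r : B →ₗ[R] AlgHom.equalizer f g :=
    { toFun := fun b => ⟨b - s (f b - g b), hmem b⟩
      map_add' := fun b b' => by
        apply Subtype.ext
        change (b + b') - s (f (b + b') - g (b + b')) =
          (b - s (f b - g b)) + (b' - s (f b' - g b'))
        have : f (b + b') - g (b + b') = (f b - g b) + (f b' - g b') := by
          rw [map_add, map_add]; abel
        rw [this, map_add]
        abel
      map_smul' := fun a b => by
        apply Subtype.ext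
        change (a • b) - s (f (a • b) - g (a • b)) = a • (b - s (f b - g b))
        have : f (a • b) - g (a • b) = a • (f b - g b) := by
          rw [map_smul, map_smul, smul_sub]
        rw [this, map_smul, smul_sub] }
  refine ⟨r, s, ?_, ?_⟩
  · intro e
    apply Subtype.ext
    change (e : B) - s (f e - g e) = e
    have : f (e : B) = g e := e.2
    rw [this, sub_self, map_zero, sub_zero]
  · intro b
    change b - s (f b - g b) + s (f b - g b) = b
    abel

instance finite_equalizer : Module.Finite R (AlgHom.equalizer f g) := by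
  obtain ⟨r, s, h1, h2⟩ := exists_retraction f g
  exact Module.Finite.of_surjective r (fun e => ⟨e, h1 e⟩)

instance projective_equalizer : Module.Projective R (AlgHom.equalizer f g) := by
  obtain ⟨r, s, h1, h2⟩ := exists_retraction f g
  have : Module.Projective R B := projective_of_finite_etale R B
  exact Module.Projective.of_split (AlgHom.equalizer f g).val.toLinearMap r
    (LinearMap.ext fun e => h1 e)







theorem map_val_eq_lTensor (T : Type u) [CommRing T] [Algebra R T]
    (x : T ⊗[R] AlgHom.equalizer f g) :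
    Algebra.TensorProduct.map (AlgHom.id T T) (AlgHom.equalizer f g).val x =
      LinearMap.lTensor T (AlgHom.equalizer f g).val.toLinearMap x := by
  induction x with
  | zero => simp
  | tmul t e => simp
  | add x y hx hy => rw [map_add, map_add, hx, hy]

theorem map_sub_eq_lTensor (T : Type u) [CommRing T] [Algebra R T] (y : T ⊗[R] B) :
    Algebra.TensorProduct.map (AlgHom.id T T) f y - Algebra.TensorProduct.map (AlgHom.id T T) g y =
      LinearMap.lTensor T (f.toLinearMap - g.toLinearMap) y := by
  induction y with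
  | zero => simp
  | tmul t e => simp [tmul_sub]
  | add x y hx hy =>
    rw [map_add, map_add, map_add, ← hx, ← hy]; abel

/-- Base change of the equalizer along an arbitrary ring map. -/
theorem bijective_tensorEqualizer (T : Type u) [CommRing T] [Algebra R T] :
    Function.Bijective (AlgHom.tensorEqualizer T T f g) := by
  obtain ⟨r, s, h1, h2⟩ := exists_retraction f g
  have hr : ∀ x : T ⊗[R] AlgHom.equalizer f g,
      LinearMap.lTensor T r (LinearMap.lTensor T (AlgHom.equalizer f g).val.toLinearMap x) = x := by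
    intro x
    rw [← LinearMap.comp_apply, ← LinearMap.lTensor_comp]
    have : r ∘ₗ (AlgHom.equalizer f g).val.toLinearMap = LinearMap.id :=
      LinearMap.ext fun e => h1 e
    rw [this, LinearMap.lTensor_id, LinearMap.id_apply]
  have hs : ∀ y : T ⊗[R] B,
      LinearMap.lTensor T (AlgHom.equalizer f g).val.toLinearMap (LinearMap.lTensor T r y) +
        LinearMap.lTensor T s (LinearMap.lTensor T (f.toLinearMap - g.toLinearMap) y) = y := by
    intro y
    rw [← LinearMap.comp_apply, ← LinearMap.comp_apply, ← LinearMap.lTensor_comp,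
      ← LinearMap.lTensor_comp, ← LinearMap.add_apply, ← LinearMap.lTensor_add]
    have : (AlgHom.equalizer f g).val.toLinearMap ∘ₗ r + s ∘ₗ (f.toLinearMap - g.toLinearMap) =
        LinearMap.id := LinearMap.ext fun b => h2 b
    rw [this, LinearMap.lTensor_id, LinearMap.id_apply]
  constructor
  · intro x y hxy
    have h := congrArg Subtype.val hxy
    rw [AlgHom.coe_tensorEqualizer, AlgHom.coe_tensorEqualizer, map_val_eq_lTensor,
      map_val_eq_lTensor] at h
    rw [← hr x, ← hr y, h]
  · intro y
    refine ⟨LinearMap.lTensor T r (y : T ⊗[R] B), ?_⟩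
    apply Subtype.ext
    rw [AlgHom.coe_tensorEqualizer, map_val_eq_lTensor]
    have hy : Algebra.TensorProduct.map (AlgHom.id T T) f (y : T ⊗[R] B) =
        Algebra.TensorProduct.map (AlgHom.id T T) g y := y.2
    have h0 : LinearMap.lTensor T (f.toLinearMap - g.toLinearMap) (y : T ⊗[R] B) = 0 := by
      rw [← map_sub_eq_lTensor, hy, sub_self]
    have := hs (y : T ⊗[R] B)
    rw [h0, map_zero, add_zero] at this
    exact this







end Main

section Unr

theorem eq_of_rel {ι κ : Type} {A : Type*} (φ ψ : κ → ι) (x : ι → A)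
    (hx : ∀ k, x (φ k) = x (ψ k)) {i j : ι} (hij : (gsetoid φ ψ).r i j) : x i = x j := by
  induction hij with
  | rel i j h' => obtain ⟨k, rfl, rfl⟩ := h'; exact hx k
  | refl i => rfl
  | symm i j _ ih => exact ih.symm
  | trans i j k _ _ ih1 ih2 => exact ih1.trans ih2

theorem unr_level0 [Nontrivial R] (hR : ∀ e : R, IsIdempotentElem e → e = 0 ∨ e = 1)
    [Algebra.IsFiniteSplit R B] [Algebra.IsFiniteSplit R C] :
    Algebra.FormallyUnramified R (AlgHom.equalizer f g) := by
  obtain ⟨n, ⟨eB⟩⟩ := Algebra.IsFiniteSplit.nonempty_algEquiv_fun R B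
  obtain ⟨m, ⟨eC⟩⟩ := Algebra.IsFiniteSplit.nonempty_algEquiv_fun R C
  obtain ⟨φ, hφ⟩ := algHom_pi_pi hR ((eC.toAlgHom.comp f).comp eB.symm.toAlgHom)
  obtain ⟨ψ, hψ⟩ := algHom_pi_pi hR ((eC.toAlgHom.comp g).comp eB.symm.toAlgHom)
  have h1 : ∀ x k, eC (f (eB.symm x)) k = x (φ k) := fun x k => by
    have := hφ x k
    simpa using this
  have h2 : ∀ x k, eC (g (eB.symm x)) k = x (ψ k) := fun x k => by
    have := hψ x k
    simpa using this
  let ρ₀ : (Fin n → R) →ₐ[R] (Fin n → R) :=
    Pi.algHom R _ fun i => Pi.evalAlgHom R (fun _ : Fin n => R) (rep φ ψ i)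
  let ρ' : B →ₐ[R] B := (eB.symm.toAlgHom.comp ρ₀).comp eB.toAlgHom
  have hρ' : ∀ b, ρ' b ∈ AlgHom.equalizer f g := by
    intro b
    rw [AlgHom.mem_equalizer]
    apply eC.injective
    ext k
    change eC (f (eB.symm (ρ₀ (eB b)))) k = eC (g (eB.symm (ρ₀ (eB b)))) k
    rw [h1, h2]
    change eB b (rep φ ψ (φ k)) = eB b (rep φ ψ (ψ k))
    rw [rep_edge]
  let ρ : B →ₐ[R] AlgHom.equalizer f g := ρ'.codRestrict _ hρ'
  have hsurj : Function.Surjective ρ := by
    intro e
    refine ⟨e, Subtype.ext ?_⟩
    change eB.symm (ρ₀ (eB e)) = e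
    rw [AlgEquiv.symm_apply_eq]
    ext i
    change eB e (rep φ ψ i) = eB e i
    refine eq_of_rel φ ψ (eB (e : B)) (fun k => ?_) (rep_rel φ ψ i)
    have he : f (e : B) = g e := e.2
    have := congrFun (congrArg eC he) k
    rw [← eB.symm_apply_apply (e : B), h1, h2] at this
    exact this
  have : Algebra.FormallyUnramified R B := inferInstance
  exact Algebra.FormallyUnramified.of_surjective ρ hsurj







theorem unr_tensor_of_unr_equalizer (T : Type u) [CommRing T] [Algebra R T] [Module.Flat R T]
    (h : Algebra.FormallyUnramified T (AlgHom.equalizer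
      (Algebra.TensorProduct.map (AlgHom.id T T) f)
      (Algebra.TensorProduct.map (AlgHom.id T T) g))) :
    Algebra.FormallyUnramified T (T ⊗[R] AlgHom.equalizer f g) :=
  Algebra.FormallyUnramified.of_equiv (AlgHom.tensorEqualizerEquiv T T f g).symm

theorem unr_of_faithfullyFlat (T : Type u) [CommRing T] [Algebra R T]
    [Module.FaithfullyFlat R T]
    (h : Algebra.FormallyUnramified T (AlgHom.equalizer
      (Algebra.TensorProduct.map (AlgHom.id T T) f)
      (Algebra.TensorProduct.map (AlgHom.id T T) g))) :
    Algebra.FormallyUnramified R (AlgHom.equalizer f g) := by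
  have := unr_tensor_of_unr_equalizer f g T h
  exact Algebra.FormallyUnramified.of_formallyUnramified_tensorProduct_of_faithfullyFlat T

theorem unr_of_localization
    (h : ∀ (P : Ideal R) [P.IsMaximal], Algebra.FormallyUnramified (Localization.AtPrime P)
      (AlgHom.equalizer
        (Algebra.TensorProduct.map (AlgHom.id (Localization.AtPrime P) (Localization.AtPrime P)) f)
        (Algebra.TensorProduct.map (AlgHom.id (Localization.AtPrime P) (Localization.AtPrime P)) g))) :
    Algebra.FormallyUnramified R (AlgHom.equalizer f g) := by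
  constructor
  refine Module.subsingleton_of_localization_maximal
    (fun P _ => Localization.AtPrime P ⊗[R] Ω[AlgHom.equalizer f g⁄R])
    (fun P _ => TensorProduct.mk R (Localization.AtPrime P) Ω[AlgHom.equalizer f g⁄R] 1) ?_
  intro P hP
  have := unr_tensor_of_unr_equalizer f g (Localization.AtPrime P) (h P)
  let _ : Algebra (AlgHom.equalizer f g) (Localization.AtPrime P ⊗[R] AlgHom.equalizer f g) :=
    Algebra.TensorProduct.rightAlgebra
  exact (KaehlerDifferential.tensorKaehlerEquivBase R (Localization.AtPrime P)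
    (AlgHom.equalizer f g) (Localization.AtPrime P ⊗[R] AlgHom.equalizer f g)).subsingleton

theorem unr_level1 [Algebra.IsFiniteSplit R B] [Algebra.IsFiniteSplit R C] :
    Algebra.FormallyUnramified R (AlgHom.equalizer f g) :=
  unr_of_localization f g fun P _ =>
    unr_level0 _ _ (fun e he => idem_of_isLocalRing e he)

theorem unr_level2a [Algebra.IsFiniteSplit R B] [Module.Finite R C] [Algebra.Etale R C]
    {m : ℕ} (hm : Module.rankAtStalk (R := R) C = m) :
    Algebra.FormallyUnramified R (AlgHom.equalizer f g) := by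
  obtain ⟨T, _, _, _, _, _, hT⟩ := Algebra.IsFiniteSplit.exists_tensorProduct_of_etale hm
  exact unr_of_faithfullyFlat f g T (unr_level1 _ _)

theorem unr_level2b [Module.Finite R B] [Algebra.Etale R B] [Module.Finite R C]
    [Algebra.Etale R C] {n m : ℕ} (hn : Module.rankAtStalk (R := R) B = n)
    (hm : Module.rankAtStalk (R := R) C = m) :
    Algebra.FormallyUnramified R (AlgHom.equalizer f g) := by
  obtain ⟨T, _, _, _, _, _, hT⟩ := Algebra.IsFiniteSplit.exists_tensorProduct_of_etale hn
  refine unr_of_faithfullyFlat f g T (unr_level2a _ _ (m := m) ?_)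
  ext p
  rw [Module.rankAtStalk_baseChange, hm]
  rfl

variable [Module.Finite R B] [Algebra.Etale R B] [Module.Finite R C] [Algebra.Etale R C]

instance formallyUnramified_equalizer :
    Algebra.FormallyUnramified R (AlgHom.equalizer f g) := by
  refine unr_of_localization f g fun P _ => ?_
  have h1 : Module.Free (Localization.AtPrime P) (Localization.AtPrime P ⊗[R] B) :=
    Module.free_of_flat_of_isLocalRing
  have h2 : Module.Free (Localization.AtPrime P) (Localization.AtPrime P ⊗[R] C) :=
    Module.free_of_flat_of_isLocalRing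
  exact unr_level2b _ _ (Module.rankAtStalk_eq_finrank_of_free)
    (Module.rankAtStalk_eq_finrank_of_free)

instance etale_equalizer : Algebra.Etale R (AlgHom.equalizer f g) := by
  have : Module.FinitePresentation R (AlgHom.equalizer f g) :=
    Module.finitePresentation_of_projective _ _
  exact Algebra.Etale.of_formallyUnramified_of_flat

end Unr

end Levels

end Groth.Agent.R2.H2.FEtEq
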