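import Mathlib
import Groth.Agent.R2.H2FEtEq
import Groth.Prelude.Def_FEt

/-!
# Affine dictionary for finite étale covers (helper2, round 2, project fet-galois)

* `Q`, `W`: the ring hom property / morphism property "finite étale" on `CommRingCat`; it has
  finite products, equalizers and stable equalizers (from `H2FEtEq`), so `W.Under ⊤ R` has finite
  limits and `Under.pushout W ⊤ f` preserves them (Mathlib `Ring/Under/Property`).
* `specFun R : (W.Under ⊤ R)ᵒᵖ ⥤ FEt.Cat (Spec R)` is an equivalence; `bcIso f` is its
  compatibility with base change.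
* `HasFiniteColimits (FEt.Cat (Spec R))`, `PreservesFiniteColimits (FEt.restrict (Spec.map f))`.
* namespace `FEtLim`: `FEt.prop.HasOfPostcompProperty FEt.prop`, finite limits in `FEt.Cat X` and
  their preservation by `FEt.restrict`.
-/

set_option autoImplicit false
universe u
open CategoryTheory Limits TensorProduct

namespace Groth.Agent.R2.H2.FEtAff

/-- the ring hom property "finite étale" -/
abbrev Q : ∀ {R S : Type u} [CommRing R] [CommRing S], (R →+* S) → Prop :=
  fun f => f.Finite ∧ f.Etale

theorem Q_algebraMap {R S : Type u} [CommRing R] [CommRing S] [Algebra R S] :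
    Q (algebraMap R S) ↔ Module.Finite R S ∧ Algebra.Etale R S :=
  and_congr RingHom.finite_algebraMap RingHom.etale_algebraMap

theorem hasEqualizers_Q : RingHom.HasEqualizers Q.{u} := by
  intro R S T _ _ _ _ _ f g hS hT
  obtain ⟨_, _⟩ := Q_algebraMap.mp hS
  obtain ⟨_, _⟩ := Q_algebraMap.mp hT
  exact Q_algebraMap.mpr ⟨inferInstance, inferInstance⟩

theorem hasFiniteProducts_Q : RingHom.HasFiniteProducts Q.{u} := by
  intro R _ ι _ S _ _ h
  have h1 : ∀ i, Module.Finite R (S i) := fun i => (Q_algebraMap.mp (h i)).1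
  have h2 : ∀ i, Algebra.Etale R (S i) := fun i => (Q_algebraMap.mp (h i)).2
  exact Q_algebraMap.mpr ⟨inferInstance, inferInstance⟩

theorem hasStableEqualizers_Q : RingHom.HasStableEqualizers Q.{u} := by
  intro R S A B _ _ _ _ _ _ _ f g hA hB
  obtain ⟨_, _⟩ := Q_algebraMap.mp hA
  obtain ⟨_, _⟩ := Q_algebraMap.mp hB
  have := FEtEq.bijective_tensorEqualizer f g S
  exact this

theorem respectsIso_Q : RingHom.RespectsIso Q.{u} :=
  RingHom.finite_respectsIso.and RingHom.Etale.respectsIso

theorem isStableUnderBaseChange_Q : RingHom.IsStableUnderBaseChange Q.{u} :=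
  RingHom.finite_isStableUnderBaseChange.and RingHom.Etale.isStableUnderBaseChange



open AlgebraicGeometry MorphismProperty

/-- finite étale as a morphism property of commutative rings -/
abbrev W : MorphismProperty CommRingCat.{u} := RingHom.toMorphismProperty Q.{u}

instance : W.{u}.RespectsIso := RingHom.toMorphismProperty_respectsIso_iff.mp respectsIso_Q

instance : W.{u}.IsStableUnderCobaseChange :=
  RingHom.isStableUnderCobaseChange_toMorphismProperty_iff.mpr isStableUnderBaseChange_Q

theorem prop_specMap_iff {R S : CommRingCat.{u}} (φ : R ⟶ S) : FEt.prop (Spec.map φ) ↔ W φ := by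
  change (IsFinite (Spec.map φ) ∧ Etale (Spec.map φ)) ↔ (φ.hom.Finite ∧ φ.hom.Etale)
  rw [IsFinite.SpecMap_iff, HasRingHomProperty.Spec_iff (P := @Etale)]

variable (R : CommRingCat.{u})

instance : HasFiniteLimits (W.Under ⊤ R) :=
  CommRingCat.Under.hasFiniteLimits respectsIso_Q hasFiniteProducts_Q hasEqualizers_Q R

instance {R S : CommRingCat.{u}} (f : R ⟶ S) :
    PreservesFiniteLimits (MorphismProperty.Under.pushout W ⊤ f) :=
  RingHom.HasStableEqualizers.preservesFiniteLimits_pushout respectsIso_Q hasFiniteProducts_Q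
    hasEqualizers_Q hasStableEqualizers_Q f

/-- `Spec` as a functor from finite étale `R`-algebras to finite étale covers of `Spec R`. -/
noncomputable def specFun : (W.Under ⊤ R)ᵒᵖ ⥤ FEt.Cat (Spec R) where
  obj A := MorphismProperty.Over.mk ⊤ (Spec.map A.unop.hom) ((prop_specMap_iff _).mpr A.unop.prop)
  map {A B} φ := MorphismProperty.Over.homMk (Spec.map φ.unop.right) (by
    change Spec.map φ.unop.right ≫ Spec.map B.unop.hom = Spec.map A.unop.hom
    rw [← Spec.map_comp]
    congr 1
    exact MorphismProperty.Under.w φ.unop) trivial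
  map_id A := by
    apply MorphismProperty.Over.Hom.ext
    change Spec.map (𝟙 A.unop : A.unop ⟶ A.unop).right = 𝟙 _
    exact Spec.map_id _
  map_comp {A B C} f g := by
    apply MorphismProperty.Over.Hom.ext
    change Spec.map (g.unop ≫ f.unop).right = Spec.map f.unop.right ≫ Spec.map g.unop.right
    rw [← Spec.map_comp]
    rfl

@[simp] theorem specFun_obj_left (A : (W.Under ⊤ R)ᵒᵖ) :
    ((specFun R).obj A).left = Spec A.unop.right := rfl

@[simp] theorem specFun_obj_hom (A : (W.Under ⊤ R)ᵒᵖ) :
    ((specFun R).obj A).hom = Spec.map A.unop.hom := rfl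

@[simp] theorem specFun_map_left {A B : (W.Under ⊤ R)ᵒᵖ} (φ : A ⟶ B) :
    ((specFun R).map φ).left = Spec.map φ.unop.right := rfl

instance : (specFun R).Faithful where
  map_injective {A B} φ ψ h := by
    have h1 : Spec.map φ.unop.right = Spec.map ψ.unop.right :=
      congrArg (fun t => t.left) h
    have h2 := Spec.map_injective h1
    apply Quiver.Hom.unop_inj
    exact MorphismProperty.Under.Hom.ext h2

instance : (specFun R).Full where
  map_surjective {A B} ψ := by
    have hw : ψ.left ≫ Spec.map B.unop.hom = Spec.map A.unop.hom := MorphismProperty.Over.w ψ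
    let r : B.unop.right ⟶ A.unop.right := Spec.preimage ψ.left
    have hr : Spec.map r = ψ.left := Spec.map_preimage ψ.left
    have hcomm : B.unop.hom ≫ r = A.unop.hom := by
      apply Spec.map_injective
      rw [Spec.map_comp, hr]
      exact hw
    refine ⟨(MorphismProperty.Under.homMk r hcomm trivial : B.unop ⟶ A.unop).op, ?_⟩
    apply MorphismProperty.Over.Hom.ext
    exact hr



theorem exists_iso_specMap {X : Scheme.{u}} (f : X ⟶ Spec R) (hf : FEt.prop f) :
    ∃ (B : CommRingCat.{u}) (ρ : R ⟶ B) (e : X ≅ Spec B), W ρ ∧ e.hom ≫ Spec.map ρ = f := by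
  have hf1 : IsFinite f := hf.1
  have : IsAffine X := isAffine_of_isAffineHom f
  let ρ : R ⟶ Γ(X, ⊤) := (Scheme.ΓSpecIso R).inv ≫ f.appTop
  have hhom : X.isoSpec.hom ≫ Spec.map ρ = f := by
    have h1 := Scheme.isoSpec_hom_naturality f
    rw [Scheme.isoSpec_Spec_hom] at h1
    simp only [ρ, Spec.map_comp]
    rw [reassoc_of% h1, ← Spec.map_comp, Iso.inv_hom_id, Spec.map_id, Category.comp_id]
  have hρ : FEt.prop (Spec.map ρ) := by
    have : FEt.prop (X.isoSpec.hom ≫ Spec.map ρ) := by rw [hhom]; exact hf
    exact (MorphismProperty.cancel_left_of_respectsIso FEt.prop _ _).mp this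
  exact ⟨Γ(X, ⊤), ρ, X.isoSpec, (prop_specMap_iff ρ).mp hρ, hhom⟩

instance : (specFun R).EssSurj where
  mem_essImage Y := by
    obtain ⟨B, ρ, e, hρ, he⟩ := exists_iso_specMap R Y.hom Y.prop
    refine ⟨Opposite.op (MorphismProperty.Under.mk ⊤ ρ hρ), ⟨?_⟩⟩
    exact (MorphismProperty.Over.isoMk e he).symm

instance : (specFun R).IsEquivalence where

instance : HasFiniteColimits (FEt.Cat (Spec R)) :=
  ⟨fun _ _ _ => Adjunction.hasColimitsOfShape_of_equivalence (specFun R).inv⟩



section BaseChange

variable {R} {S : CommRingCat.{u}} (f : R ⟶ S)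

/-- `Spec` of the pushout is the pullback of the `Spec`s. -/
noncomputable def pbIso (A : W.Under ⊤ R) :
    Spec (pushout A.hom f) ≅ pullback (Spec.map A.hom) (Spec.map f) :=
  (isPullback_SpecMap_pushout A.hom f).isoPullback

@[reassoc (attr := simp)]
theorem pbIso_hom_fst (A : W.Under ⊤ R) :
    (pbIso f A).hom ≫ pullback.fst _ _ = Spec.map (pushout.inl A.hom f) :=
  IsPullback.isoPullback_hom_fst _

@[reassoc (attr := simp)]
theorem pbIso_hom_snd (A : W.Under ⊤ R) :
    (pbIso f A).hom ≫ pullback.snd _ _ = Spec.map (pushout.inr A.hom f) :=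
  IsPullback.isoPullback_hom_snd _

@[reassoc (attr := simp)]
theorem pbIso_inv_fst (A : W.Under ⊤ R) :
    (pbIso f A).inv ≫ Spec.map (pushout.inl A.hom f) = pullback.fst _ _ :=
  IsPullback.isoPullback_inv_fst _

@[reassoc (attr := simp)]
theorem pbIso_inv_snd (A : W.Under ⊤ R) :
    (pbIso f A).inv ≫ Spec.map (pushout.inr A.hom f) = pullback.snd _ _ :=
  IsPullback.isoPullback_inv_snd _

/-- base change of `Spec A → Spec R` along `Spec S → Spec R` is `Spec` of the pushout. -/
noncomputable def bcIsoApp (A : (W.Under ⊤ R)ᵒᵖ) :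
    (MorphismProperty.Over.pullback FEt.prop ⊤ (Spec.map f)).obj ((specFun R).obj A) ≅
      (specFun S).obj (Opposite.op ((MorphismProperty.Under.pushout W ⊤ f).obj A.unop)) :=
  MorphismProperty.Over.isoMk (pbIso f A.unop).symm (pbIso_inv_snd f A.unop)

theorem bcIsoApp_hom_left (A : (W.Under ⊤ R)ᵒᵖ) :
    (bcIsoApp f A).hom.left = (pbIso f A.unop).inv := rfl

set_option backward.isDefEq.respectTransparency false in
set_option backward.defeqAttrib.useBackward true in
/-- compatibility of `Spec` with base change -/
noncomputable def bcIso :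
    specFun R ⋙ MorphismProperty.Over.pullback FEt.prop ⊤ (Spec.map f) ≅
      (MorphismProperty.Under.pushout W ⊤ f).op ⋙ specFun S :=
  NatIso.ofComponents (fun A => bcIsoApp f A) (by
    intro A B φ
    apply MorphismProperty.Over.Hom.ext
    change ((MorphismProperty.Over.pullback FEt.prop ⊤ (Spec.map f)).map ((specFun R).map φ)).left ≫
        (pbIso f B.unop).inv =
      (pbIso f A.unop).inv ≫ Spec.map ((MorphismProperty.Under.pushout W ⊤ f).map φ.unop).right
    rw [Iso.comp_inv_eq]
    apply pullback.hom_ext
    · have e2 : Spec.map ((MorphismProperty.Under.pushout W ⊤ f).map φ.unop).right ≫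
          (pbIso f B.unop).hom ≫ pullback.fst (Spec.map B.unop.hom) (Spec.map f) =
          Spec.map (pushout.inl A.unop.hom f) ≫ Spec.map φ.unop.right := by
        rw [pbIso_hom_fst, ← Spec.map_comp, ← Spec.map_comp,
          MorphismProperty.Under.pushout_map_right, pushout.inl_desc]
      have e1 : ((MorphismProperty.Over.pullback FEt.prop ⊤ (Spec.map f)).map
          ((specFun R).map φ)).left ≫ pullback.fst (Spec.map B.unop.hom) (Spec.map f) =
          pullback.fst (Spec.map A.unop.hom) (Spec.map f) ≫ Spec.map φ.unop.right := by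
        simp
      simp only [Category.assoc]
      refine e1.trans ?_
      exact ((congrArg (fun t => (pbIso f A.unop).inv ≫ t) e2).trans
        (pbIso_inv_fst_assoc f A.unop _)).symm
    · have e2 : Spec.map ((MorphismProperty.Under.pushout W ⊤ f).map φ.unop).right ≫
          (pbIso f B.unop).hom ≫ pullback.snd (Spec.map B.unop.hom) (Spec.map f) =
          Spec.map (pushout.inr A.unop.hom f) := by
        rw [pbIso_hom_snd, ← Spec.map_comp,
          MorphismProperty.Under.pushout_map_right, pushout.inr_desc]
      have e1 : ((MorphismProperty.Over.pullback FEt.prop ⊤ (Spec.map f)).map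
          ((specFun R).map φ)).left ≫ pullback.snd (Spec.map B.unop.hom) (Spec.map f) =
          pullback.snd (Spec.map A.unop.hom) (Spec.map f) := by
        simp
      simp only [Category.assoc]
      refine e1.trans ?_
      exact ((congrArg (fun t => (pbIso f A.unop).inv ≫ t) e2).trans
        (pbIso_inv_snd f A.unop)).symm)

end BaseChange



section Preserves

variable {R} {S : CommRingCat.{u}} (f : R ⟶ S)

instance preservesFiniteColimits_restrict_specMap :
    PreservesFiniteColimits (FEt.restrict (Spec.map f)) := by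
  change PreservesFiniteColimits (MorphismProperty.Over.pullback FEt.prop ⊤ (Spec.map f))
  have h1 : PreservesFiniteColimits (MorphismProperty.Under.pushout W ⊤ f).op :=
    preservesFiniteColimits_op _
  have h2 : PreservesFiniteColimits
      ((specFun R).inv ⋙ (MorphismProperty.Under.pushout W ⊤ f).op ⋙ specFun S) :=
    inferInstance
  let e : (specFun R).inv ⋙ (MorphismProperty.Under.pushout W ⊤ f).op ⋙ specFun S ≅
      MorphismProperty.Over.pullback FEt.prop ⊤ (Spec.map f) :=
    Functor.isoWhiskerLeft (specFun R).inv (bcIso f).symm ≪≫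
      (Functor.associator _ _ _).symm ≪≫
      Functor.isoWhiskerRight (specFun R).asEquivalence.counitIso _ ≪≫ Functor.leftUnitor _
  exact preservesFiniteColimits_of_natIso e

end Preserves

end Groth.Agent.R2.H2.FEtAff

namespace Groth.Agent.R2.H2.FEtLim

open AlgebraicGeometry MorphismProperty

instance : FEt.prop.{u}.HasOfPostcompProperty FEt.prop.{u} where
  of_postcomp {X Y Z} f g hg hfg := by
    have h1 : IsFinite g := hg.1
    have h2 : Etale g := hg.2
    have h3 : IsFinite (f ≫ g) := hfg.1
    have h4 : Etale (f ≫ g) := hfg.2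
    refine ⟨?_, ?_⟩
    · exact MorphismProperty.of_postcomp (W := @IsFinite) (W' := @IsSeparated) f g inferInstance h3
    · exact MorphismProperty.of_postcomp (W := @Etale) (W' := @Etale) f g h2 h4

example (X : Scheme.{u}) : HasFiniteLimits (FEt.Cat X) := inferInstance

instance {X Y : Scheme.{u}} (f : X ⟶ Y) : PreservesFiniteLimits (FEt.restrict f) := by
  unfold FEt.restrict
  infer_instance

end Groth.Agent.R2.H2.FEtLim
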