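/-
helper2: gluing colimits of finite étale covers along a locally directed open cover.

* `Transport`: pseudo-functoriality of `FEt.restrict` (`restrictId`, `restrictComp`, `restrictCongr`),
  `restrictEquiv`, finite colimits in `FEt.Cat X` for affine `X`, preservation of finite colimits by
  `FEt.restrict f` for `f` between affine schemes.
* `Glue`: for a morphism property `P` (stable under base change, multiplicative, Zariski local at the target),
  a diagram `D : J ⥤ P.Over ⊤ S` and a locally directed open cover `𝒰` of `S`, given colimit cocones of the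
  restricted diagrams which are compatible with restriction (`GlueData`), we glue them to a colimit cocone of `D`
  (`gluedCocone`, `isColimitGluedCocone`), whose restriction to each `𝒰.X i` is again a colimit
  (`isColimitMapGluedCocone`).
-/
import Mathlib
import Groth.Agent.R2.H2FEtAff

set_option autoImplicit false
universe u
open CategoryTheory Limits AlgebraicGeometry MorphismProperty

namespace Groth.Agent.R2.H2.FEtGlue

open FEtAff FEtLim

section Transport

variable {X Y Z : Scheme.{u}}

set_option backward.isDefEq.respectTransparency false in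
set_option backward.defeqAttrib.useBackward true in
/-- restriction along the identity is the identity -/
noncomputable def restrictId (X : Scheme.{u}) : FEt.restrict (𝟙 X) ≅ 𝟭 (FEt.Cat X) :=
  NatIso.ofComponents (fun A => MorphismProperty.Over.isoMk (asIso (pullback.fst A.hom (𝟙 X)))
    (by simp [FEt.restrict, pullback.condition])) (by
      intro A B φ
      apply MorphismProperty.Over.Hom.ext
      simp [FEt.restrict])

/-- restriction along a composite -/
noncomputable def restrictComp (f : X ⟶ Y) (g : Y ⟶ Z) :
    FEt.restrict (f ≫ g) ≅ FEt.restrict g ⋙ FEt.restrict f :=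
  MorphismProperty.Over.pullbackComp f g

/-- restriction along equal morphisms -/
noncomputable def restrictCongr {f g : X ⟶ Y} (h : f = g) : FEt.restrict f ≅ FEt.restrict g :=
  MorphismProperty.Over.pullbackCongr h

/-- restriction along an isomorphism is an equivalence -/
noncomputable def restrictEquiv (e : X ≅ Y) : FEt.Cat Y ≌ FEt.Cat X :=
  CategoryTheory.Equivalence.mk (FEt.restrict e.hom) (FEt.restrict e.inv)
    ((restrictId Y).symm ≪≫ restrictCongr (by simp) ≪≫ restrictComp e.inv e.hom)
    ((restrictComp e.hom e.inv).symm ≪≫ restrictCongr (by simp) ≪≫ restrictId X)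

instance (f : X ⟶ Y) [IsIso f] : (FEt.restrict f).IsEquivalence :=
  (restrictEquiv (asIso f)).isEquivalence_functor

theorem hasFiniteColimits_of_isAffine (X : Scheme.{u}) [IsAffine X] :
    HasFiniteColimits (FEt.Cat X) :=
  ⟨fun _ _ _ => Adjunction.hasColimitsOfShape_of_equivalence (FEt.restrict X.isoSpec.inv)⟩

theorem preservesFiniteColimits_of_isAffine (f : X ⟶ Y) [IsAffine X] [IsAffine Y] :
    PreservesFiniteColimits (FEt.restrict f) := by
  have hf : f = X.isoSpec.hom ≫ Spec.map f.appTop ≫ Y.isoSpec.inv := by
    rw [← Category.assoc, Scheme.isoSpec_hom_naturality, Category.assoc, Iso.hom_inv_id,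
      Category.comp_id]
  have e : FEt.restrict f ≅ FEt.restrict Y.isoSpec.inv ⋙ FEt.restrict (Spec.map f.appTop) ⋙
      FEt.restrict X.isoSpec.hom :=
    restrictCongr hf ≪≫ restrictComp _ _ ≪≫
      Functor.isoWhiskerRight (restrictComp _ _) _ ≪≫ Functor.associator _ _ _
  exact preservesFiniteColimits_of_natIso e.symm

end Transport



section Glue

open AlgebraicGeometry.Scheme AlgebraicGeometry.Scheme.Cover

variable {P : MorphismProperty Scheme.{u}} [P.IsStableUnderBaseChange] [P.IsMultiplicative]
  {S : Scheme.{u}} {J : Type*} [Category J] (D : J ⥤ P.Over ⊤ S)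
  (𝒰 : S.OpenCover) [Category 𝒰.I₀] [𝒰.LocallyDirected]

/-- Variant of Mathlib's `ColimitGluingData` where the transition maps need not satisfy `P`;
instead the local colimits are assumed to be compatible with restriction. -/
structure GlueData where
  /-- The cocones on the `Dᵢ`. -/
  cocone (i : 𝒰.I₀) : Cocone (D ⋙ MorphismProperty.Over.pullback P ⊤ (𝒰.f i))
  /-- The cocones on the `Dᵢ` are colimiting. -/
  isColimit (i : 𝒰.I₀) : IsColimit (cocone i)
  /-- restriction preserves the local colimits -/
  pres {i j : 𝒰.I₀} (hij : i ⟶ j) :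
    IsColimit ((MorphismProperty.Over.pullback P ⊤ (𝒰.trans hij)).mapCocone (cocone j))

namespace GlueData

variable {D} {𝒰} (d : GlueData D 𝒰)

/-- the comparison of restricted diagrams -/
noncomputable def compIso {i j : 𝒰.I₀} (hij : i ⟶ j) :
    D ⋙ MorphismProperty.Over.pullback P ⊤ (𝒰.f i) ≅
      (D ⋙ MorphismProperty.Over.pullback P ⊤ (𝒰.f j)) ⋙
        MorphismProperty.Over.pullback P ⊤ (𝒰.trans hij) :=
  D.isoWhiskerLeft (MorphismProperty.Over.pullbackComp _ _ _) ≪≫ (Functor.associator _ _ _).symm

/-- the local colimit over `i` is the restriction of the one over `j` -/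
noncomputable def iso1 {i j : 𝒰.I₀} (hij : i ⟶ j) :
    (d.cocone i).pt ≅ (MorphismProperty.Over.pullback P ⊤ (𝒰.trans hij)).obj (d.cocone j).pt :=
  (d.isColimit i).coconePointsIsoOfNatIso (d.pres hij) (compIso hij)

/-- transition maps -/
noncomputable def transitionMap {i j : 𝒰.I₀} (hij : i ⟶ j) :
    (d.cocone i).pt.left ⟶ (d.cocone j).pt.left :=
  (d.iso1 hij).hom.left ≫ pullback.fst _ _

set_option backward.isDefEq.respectTransparency false in
set_option backward.defeqAttrib.useBackward true in
@[reassoc]
lemma transitionMap_hom {i j : 𝒰.I₀} (hij : i ⟶ j) :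
    d.transitionMap hij ≫ (d.cocone j).pt.hom = (d.cocone i).pt.hom ≫ 𝒰.trans hij := by
  have := MorphismProperty.Over.w (d.iso1 hij).hom
  simp only [transitionMap, Category.assoc, pullback.condition]
  rw [← Category.assoc]
  congr 1

set_option backward.isDefEq.respectTransparency false in
set_option backward.defeqAttrib.useBackward true in
@[reassoc]
lemma cocone_ι_transitionMap {i j : 𝒰.I₀} (hij : i ⟶ j) (a : J) :
    ((d.cocone i).ι.app a).left ≫ d.transitionMap hij =
      pullback.map (D.obj a).hom (𝒰.f i) (D.obj a).hom (𝒰.f j) (𝟙 _) (𝒰.trans hij) (𝟙 _)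
        (by simp) (by simp) ≫ ((d.cocone j).ι.app a).left := by
  have h := (d.isColimit i).comp_coconePointsIsoOfNatIso_hom (d.pres hij) (compIso hij) a
  have h' := congr($(h).left)
  simp only [MorphismProperty.Comma.comp_hom, CategoryTheory.Comma.comp_left,
    Functor.mapCocone_ι_app] at h'
  unfold transitionMap iso1
  rw [reassoc_of% h']
  simp only [MorphismProperty.Over.pullback_map_left, pullback.lift_fst]
  rw [← Category.assoc]
  congr 1
  apply pullback.hom_ext <;> simp [compIso]

set_option backward.isDefEq.respectTransparency false in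
set_option backward.defeqAttrib.useBackward true in
/-- morphisms out of the local colimit into a `P`-object over another base are determined by
their restrictions along the legs -/
lemma hom_ext' (i : 𝒰.I₀) {T : Scheme.{u}} (W : P.Over ⊤ T) (g : 𝒰.X i ⟶ T)
    (t t' : (d.cocone i).pt.left ⟶ W.left)
    (ht : t ≫ W.hom = (d.cocone i).pt.hom ≫ g) (ht' : t' ≫ W.hom = (d.cocone i).pt.hom ≫ g)
    (h : ∀ a, ((d.cocone i).ι.app a).left ≫ t = ((d.cocone i).ι.app a).left ≫ t') : t = t' := by
  let m : (d.cocone i).pt ⟶ (MorphismProperty.Over.pullback P ⊤ g).obj W :=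
    MorphismProperty.Over.homMk (pullback.lift t (d.cocone i).pt.hom ht) (by simp) trivial
  let m' : (d.cocone i).pt ⟶ (MorphismProperty.Over.pullback P ⊤ g).obj W :=
    MorphismProperty.Over.homMk (pullback.lift t' (d.cocone i).pt.hom ht') (by simp) trivial
  have hmm : m = m' := by
    refine (d.isColimit i).hom_ext fun a => ?_
    apply MorphismProperty.Over.Hom.ext
    simp only [MorphismProperty.Comma.comp_hom, CategoryTheory.Comma.comp_left]
    apply pullback.hom_ext
    · simp [m, m', h a]
    · simp [m, m']
  have h1 : m.left ≫ pullback.fst _ _ = t := by simp [m]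
  have h2 : m'.left ≫ pullback.fst _ _ = t' := by simp [m']
  rw [← h1, ← h2, hmm]

set_option backward.isDefEq.respectTransparency false in
set_option backward.defeqAttrib.useBackward true in
@[simp]
lemma transitionMap_id (i : 𝒰.I₀) : d.transitionMap (𝟙 i) = 𝟙 _ := by
  refine d.hom_ext' i (d.cocone i).pt (𝒰.trans (𝟙 i)) _ _ (d.transitionMap_hom _) (by simp) ?_
  intro a
  rw [cocone_ι_transitionMap]
  have : pullback.map (D.obj a).hom (𝒰.f i) (D.obj a).hom (𝒰.f i) (𝟙 _) (𝒰.trans (𝟙 i)) (𝟙 _)
      (by simp) (by simp) = 𝟙 _ := by
    apply pullback.hom_ext <;> simp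
  rw [this]
  simp

set_option backward.isDefEq.respectTransparency false in
set_option backward.defeqAttrib.useBackward true in
@[reassoc (attr := simp)]
lemma transitionMap_comp {i j k : 𝒰.I₀} (hij : i ⟶ j) (hjk : j ⟶ k) :
    d.transitionMap (hij ≫ hjk) = d.transitionMap hij ≫ d.transitionMap hjk := by
  refine d.hom_ext' i (d.cocone k).pt (𝒰.trans (hij ≫ hjk)) _ _ (d.transitionMap_hom _) ?_ ?_
  · rw [Category.assoc, transitionMap_hom, transitionMap_hom_assoc, 𝒰.trans_comp]
  · intro a
    rw [cocone_ι_transitionMap, cocone_ι_transitionMap_assoc, cocone_ι_transitionMap,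
      ← Category.assoc]
    congr 1
    apply pullback.hom_ext <;> simp [𝒰.trans_comp]

/-- (Implementation): Underlying functor of associated relative gluing datum. -/
@[simps]
noncomputable def functor : 𝒰.I₀ ⥤ Scheme where
  obj i := (d.cocone i).pt.left
  map {i j} hij := d.transitionMap hij

set_option backward.defeqAttrib.useBackward true in
set_option backward.isDefEq.respectTransparency false in
lemma isPullback {i j : 𝒰.I₀} (hij : i ⟶ j) :
    IsPullback (d.transitionMap hij) (d.cocone i).pt.hom
      (d.cocone j).pt.hom (𝒰.trans hij) := by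
  let iso2 : (d.cocone i).pt.left ≅ pullback (d.cocone j).pt.hom (𝒰.trans hij) :=
    (MorphismProperty.Over.forget _ _ _ ⋙ Over.forget _).mapIso (d.iso1 hij)
  refine .of_iso (IsPullback.of_hasPullback _ _) iso2.symm (.refl _) (.refl _) (.refl _) ?_ ?_
      (by simp) (by simp)
  · simp only [Iso.refl_hom, Category.comp_id, Iso.symm_hom]
    change _ = iso2.inv ≫ ((d.iso1 hij).hom.left ≫ pullback.fst _ _)
    have : iso2.inv ≫ (d.iso1 hij).hom.left = 𝟙 _ := iso2.inv_hom_id
    rw [reassoc_of% this]
  · simp only [Iso.refl_hom, Category.comp_id, Iso.symm_hom]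
    exact (MorphismProperty.Over.w (d.iso1 hij).inv).symm

set_option backward.isDefEq.respectTransparency false in
/-- The relative gluing datum associated to the family of the `colim Dᵢ`. -/
@[simps natTrans_app, simps -isSimp functor]
noncomputable
def relativeGluingData : 𝒰.RelativeGluingData where
  functor := d.functor
  natTrans :=
    { app := fun i => (d.cocone i).pt.hom
      naturality := fun _ _ hij => d.transitionMap_hom hij }
  equifibered {i j} hij := d.isPullback hij

variable [Quiver.IsThin 𝒰.I₀] [Small.{u} 𝒰.I₀] [IsZariskiLocalAtTarget P]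

set_option backward.isDefEq.respectTransparency false in
/-- The result of gluing the `colim Dᵢ`. -/
noncomputable def glued : P.Over ⊤ S :=
  MorphismProperty.Over.mk _ d.relativeGluingData.toBase <| by
    rw [IsZariskiLocalAtTarget.iff_of_openCover (P := P) 𝒰]
    intro i
    rw [Scheme.Cover.pullbackHom,
      ← (d.relativeGluingData.isPullback_natTrans_ι_toBase i).flip.isoPullback_inv_snd,
      P.cancel_left_of_respectsIso]
    exact (d.cocone i).pt.prop

set_option backward.isDefEq.respectTransparency false in
/-- `colim Dᵢ` is the pullback of the glued object over `S` along the inclusion `𝒰ᵢ ⟶ S`. -/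
noncomputable
def pullbackGluedIso (i : 𝒰.I₀) :
    (MorphismProperty.Over.pullback P ⊤ (𝒰.f i)).obj d.glued ≅ (d.cocone i).pt :=
  MorphismProperty.Over.isoMk
    (d.relativeGluingData.isPullback_natTrans_ι_toBase i).flip.isoPullback.symm

set_option backward.defeqAttrib.useBackward true in
set_option backward.isDefEq.respectTransparency false in
@[reassoc (attr := simp)]
lemma pullbackGluedIso_inv_fst (i : 𝒰.I₀) : (d.pullbackGluedIso i).inv.left ≫ pullback.fst _ _ =
    colimit.ι d.relativeGluingData.functor i := by
  simp [pullbackGluedIso, glued]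

set_option backward.defeqAttrib.useBackward true in
set_option backward.isDefEq.respectTransparency false in
@[reassoc (attr := simp)]
lemma pullbackGluedIso_inv_snd (i : 𝒰.I₀) :
    (d.pullbackGluedIso i).inv.left ≫ pullback.snd _ _ = (d.cocone i).pt.hom := by
  simp [pullbackGluedIso, glued]

set_option backward.defeqAttrib.useBackward true in
set_option backward.isDefEq.respectTransparency false in
/-- The cocone glued from the `colim Dᵢ`. -/
@[simps pt]
noncomputable def gluedCocone : Cocone D := by
  letI 𝒱 (a : J) : (D.obj a).left.OpenCover := 𝒰.pullback₁ (D.obj a).hom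
  refine { pt := d.glued, ι.app a := ?_, ι.naturality {a b} f := ?_ }
  · refine ⟨(𝒱 a).glueMorphismsOverOfLocallyDirected ?_ ?_ ?_, trivial, trivial⟩
    · intro i
      exact ((d.cocone i).ι.app a).left ≫ colimit.ι d.relativeGluingData.functor i
    · intro i j hij
      conv_rhs => rw [← colimit.w d.relativeGluingData.functor hij]
      simp only [← Category.assoc]
      congr 1
      exact (d.cocone_ι_transitionMap hij a).symm
    · intro
      simp [𝒱, pullback.condition, glued]
  · ext
    apply (𝒱 a).hom_ext
    intro i
    have : (𝒱 a).f i ≫ (D.map f).left =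
        ((D ⋙ MorphismProperty.Over.pullback _ _ (𝒰.f i)).map f).left ≫ (𝒱 b).f i := by
      simp [𝒱]
    dsimp
    simp only [Category.comp_id]
    rw [Scheme.OpenCover.map_glueMorphismsOverOfLocallyDirected_left,
      reassoc_of% this, Scheme.OpenCover.map_glueMorphismsOverOfLocallyDirected_left,
      ← Over.comp_left_assoc, ← MorphismProperty.Comma.comp_hom, ← Functor.comp_map, Cocone.w]

set_option backward.isDefEq.respectTransparency false in
@[reassoc]
lemma fst_gluedCocone_ι (a : J) (i : 𝒰.I₀) :
    pullback.fst (D.obj a).hom (𝒰.f i) ≫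
      (d.gluedCocone.ι.app a).left =
      ((d.cocone i).ι.app a).left ≫ colimit.ι d.relativeGluingData.functor i := by
  simp only [gluedCocone]
  generalize_proofs _ _ _ _ _ _ _ _ _ _ _ _ h1 h2
  let 𝒱 : (D.obj a).left.OpenCover := 𝒰.pullback₁ (D.obj a).hom
  apply 𝒱.map_glueMorphismsOverOfLocallyDirected_left _ h1 h2

set_option backward.defeqAttrib.useBackward true in
set_option backward.isDefEq.respectTransparency false in
lemma ι_desc_left_fst (s : Cocone D) (i : 𝒰.I₀) (a : J) :
    ((d.cocone i).ι.app a).left ≫
      ((d.isColimit i).desc ((MorphismProperty.Over.pullback P ⊤ (𝒰.f i)).mapCocone s)).left ≫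
        pullback.fst s.pt.hom (𝒰.f i) =
      pullback.fst (D.obj a).hom (𝒰.f i) ≫ (s.ι.app a).left := by
  have h := (d.isColimit i).fac ((MorphismProperty.Over.pullback P ⊤ (𝒰.f i)).mapCocone s) a
  have h' := congr($(h).left)
  simp only [MorphismProperty.Comma.comp_hom, CategoryTheory.Comma.comp_left,
    Functor.mapCocone_ι_app] at h'
  rw [reassoc_of% h']
  simp

set_option backward.defeqAttrib.useBackward true in
set_option backward.isDefEq.respectTransparency false in
lemma transitionMap_desc (s : Cocone D) {i j : 𝒰.I₀} (hij : i ⟶ j) :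
    d.transitionMap hij ≫
      ((d.isColimit j).desc ((MorphismProperty.Over.pullback P ⊤ (𝒰.f j)).mapCocone s)).left ≫
        pullback.fst s.pt.hom (𝒰.f j) =
      ((d.isColimit i).desc ((MorphismProperty.Over.pullback P ⊤ (𝒰.f i)).mapCocone s)).left ≫
        pullback.fst s.pt.hom (𝒰.f i) := by
  refine d.hom_ext' i s.pt (𝒰.f i) _ _ ?_ ?_ ?_
  · have : ((d.isColimit j).desc ((MorphismProperty.Over.pullback P ⊤ (𝒰.f j)).mapCocone s)).left ≫
        pullback.snd s.pt.hom (𝒰.f j) = (d.cocone j).pt.hom := MorphismProperty.Over.w
      ((d.isColimit j).desc ((MorphismProperty.Over.pullback P ⊤ (𝒰.f j)).mapCocone s))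
    simp only [Category.assoc, pullback.condition]
    rw [reassoc_of% this, transitionMap_hom_assoc, 𝒰.trans_map]
  · have : ((d.isColimit i).desc ((MorphismProperty.Over.pullback P ⊤ (𝒰.f i)).mapCocone s)).left ≫
        pullback.snd s.pt.hom (𝒰.f i) = (d.cocone i).pt.hom := MorphismProperty.Over.w
      ((d.isColimit i).desc ((MorphismProperty.Over.pullback P ⊤ (𝒰.f i)).mapCocone s))
    simp only [Category.assoc, pullback.condition]
    rw [reassoc_of% this]
  · intro a
    rw [cocone_ι_transitionMap_assoc, ι_desc_left_fst, ι_desc_left_fst, ← Category.assoc]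
    congr 1
    simp

set_option backward.defeqAttrib.useBackward true in
set_option backward.isDefEq.respectTransparency false in
/-- The glued cocone is colimiting. -/
noncomputable
def isColimitGluedCocone : IsColimit d.gluedCocone := by
  letI 𝒱 : d.glued.left.OpenCover := d.relativeGluingData.cover
  refine { desc s := ?_, fac := ?_, uniq := ?_ }
  · refine ⟨𝒱.glueMorphismsOverOfLocallyDirected ?_ ?_ ?_, trivial, trivial⟩
    · intro i
      exact ((d.isColimit i).desc (Functor.mapCocone _ s)).left ≫ pullback.fst _ _
    · intro i j hij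
      exact d.transitionMap_desc s hij
    · intro i
      have : _ ≫ pullback.snd _ _ = _ :=
        MorphismProperty.Over.w ((d.isColimit i).desc (Functor.mapCocone _ s))
      simp only [glued, Category.assoc, 𝒱, pullback.condition]
      rw [reassoc_of% this]
      simp
  · intro s a
    let 𝒲 (a : J) : (D.obj a).left.OpenCover := 𝒰.pullback₁ (D.obj a).hom
    ext
    refine (𝒲 a).hom_ext _ _ fun i ↦ ?_
    dsimp
    simp only [Precoverage.ZeroHypercover.pullback₁_toPreZeroHypercover,
      PreZeroHypercover.pullback₁_f, 𝒲, fst_gluedCocone_ι_assoc]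
    change _ ≫ 𝒱.f _ ≫ _ = _
    rw [Scheme.OpenCover.map_glueMorphismsOverOfLocallyDirected_left, ← Over.comp_left_assoc,
      ← MorphismProperty.Comma.comp_hom]
    simp
  · intro s m hm
    ext
    refine 𝒱.hom_ext _ _ fun i ↦ ?_
    have : (d.pullbackGluedIso i).inv ≫ (MorphismProperty.Over.pullback P ⊤ (𝒰.f i)).map m =
        (d.isColimit i).desc ((MorphismProperty.Over.pullback P ⊤ (𝒰.f i)).mapCocone s) := by
      refine (d.isColimit i).hom_ext fun a ↦ ?_
      rw [IsColimit.fac]
      ext
      apply pullback.hom_ext
      · dsimp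
        simp only [Category.assoc, limit.lift_π, PullbackCone.mk_π_app,
          pullbackGluedIso_inv_fst_assoc]
        rw [← congr($(hm a).left)]
        simp [fst_gluedCocone_ι_assoc]
      · simp
    rw [Scheme.OpenCover.map_glueMorphismsOverOfLocallyDirected_left]
    simp [𝒱, ← this]

set_option backward.defeqAttrib.useBackward true in
set_option backward.isDefEq.respectTransparency false in
/-- the legs of the glued cocone restrict to the local legs -/
lemma pullback_map_gluedCocone_ι (i : 𝒰.I₀) (a : J) :
    (MorphismProperty.Over.pullback P ⊤ (𝒰.f i)).map (d.gluedCocone.ι.app a) ≫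
      (d.pullbackGluedIso i).hom = (d.cocone i).ι.app a := by
  rw [← Iso.eq_comp_inv]
  ext
  apply pullback.hom_ext
  · simp [fst_gluedCocone_ι]
  · simp

set_option backward.defeqAttrib.useBackward true in
set_option backward.isDefEq.respectTransparency false in
/-- the restriction of the glued cocone to a member of the cover is a colimit -/
noncomputable def isColimitMapGluedCocone (i : 𝒰.I₀) :
    IsColimit ((MorphismProperty.Over.pullback P ⊤ (𝒰.f i)).mapCocone d.gluedCocone) :=
  (d.isColimit i).ofIsoColimit
    (Cocone.ext (d.pullbackGluedIso i).symm (fun a =>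
      (Iso.comp_inv_eq _).mpr (d.pullback_map_gluedCocone_ι i a).symm))

end GlueData

end Glue

end Groth.Agent.R2.H2.FEtGlue
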