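/-
helper2: `FEt.Cat X` has finite colimits for every scheme `X` (gluing the affine case along the directed affine cover).
-/
import Mathlib
import Groth.Agent.R2.H2FEtGlue

set_option autoImplicit false
universe u
open CategoryTheory Limits AlgebraicGeometry MorphismProperty

namespace Groth.Agent.R2.H2.FEtColim

open FEtAff FEtLim FEtGlue

variable {X : Scheme.{u}}

instance (i : X.directedAffineCover.I₀) : IsAffine (X.directedAffineCover.X i) :=
  inferInstanceAs <| IsAffine ((i : X.affineOpens).1 : Scheme)

/-- the glue data on the directed affine cover -/
noncomputable def glueDataAffine {J : Type} [SmallCategory J] [FinCategory J]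
    (D : J ⥤ FEt.Cat X) : GlueData D X.directedAffineCover where
  cocone i := by
    haveI := hasFiniteColimits_of_isAffine (X.directedAffineCover.X i)
    exact colimit.cocone _
  isColimit i := by
    haveI := hasFiniteColimits_of_isAffine (X.directedAffineCover.X i)
    exact colimit.isColimit _
  pres {i j} hij := by
    haveI := hasFiniteColimits_of_isAffine (X.directedAffineCover.X j)
    haveI := preservesFiniteColimits_of_isAffine (X.directedAffineCover.trans hij)
    exact isColimitOfPreserves (FEt.restrict (X.directedAffineCover.trans hij)) (colimit.isColimit _)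

theorem hasFiniteColimits (X : Scheme.{u}) : HasFiniteColimits (FEt.Cat X) :=
  ⟨fun _ _ _ => ⟨fun D => ⟨⟨⟨(glueDataAffine D).gluedCocone, (glueDataAffine D).isColimitGluedCocone⟩⟩⟩⟩⟩

end Groth.Agent.R2.H2.FEtColim
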