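/-
helper2: `FEt.restrict f` preserves finite colimits for every morphism of schemes `f`
(`preservesFiniteColimits_restrict`); isomorphisms in `FEt.Cat X` can be checked locally on `X`
(`isIso_of_isIso_restrict`); preservation of finite colimits is local on the source
(`preservesFiniteColimits_of_localSource`).
-/
import Mathlib
import Groth.Agent.R2.H2FEtColim

set_option autoImplicit false
universe u
open CategoryTheory Limits AlgebraicGeometry MorphismProperty

namespace Groth.Agent.R2.H2.FEtLoc

open FEtAff FEtLim FEtGlue FEtColim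

variable {X : Scheme.{u}}

set_option backward.isDefEq.respectTransparency false in
set_option backward.defeqAttrib.useBackward true in
/-- a morphism of finite étale covers is an isomorphism if it is so locally on the base -/
lemma isIso_of_isIso_restrict (𝒱 : X.OpenCover) {A B : FEt.Cat X} (φ : A ⟶ B)
    (h : ∀ k, IsIso ((FEt.restrict (𝒱.f k)).map φ)) : IsIso φ := by
  suffices hl : IsIso φ.left by
    have : IsIso ((MorphismProperty.Over.forget FEt.prop ⊤ X ⋙ CategoryTheory.Over.forget X).map φ) := hl
    exact isIso_of_reflects_iso φ (MorphismProperty.Over.forget FEt.prop ⊤ X ⋙ CategoryTheory.Over.forget X)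
  change MorphismProperty.isomorphisms Scheme φ.left
  rw [(MorphismProperty.isomorphisms Scheme).iff_of_zeroHypercover_target (𝒱.pullback₁ B.hom)]
  intro k
  have hk : IsIso ((FEt.restrict (𝒱.f k)).map φ).left := by
    have := h k
    exact inferInstanceAs (IsIso ((MorphismProperty.Over.forget FEt.prop ⊤ _ ⋙ CategoryTheory.Over.forget _).map
      ((FEt.restrict (𝒱.f k)).map φ)))
  have hsq : IsPullback (pullback.fst A.hom (𝒱.f k)) ((FEt.restrict (𝒱.f k)).map φ).left φ.left
      (pullback.fst B.hom (𝒱.f k)) := by
    refine IsPullback.of_bot ?_ ?_ (IsPullback.of_hasPullback B.hom (𝒱.f k))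
    · have e1 : ((FEt.restrict (𝒱.f k)).map φ).left ≫ pullback.snd B.hom (𝒱.f k) =
          pullback.snd A.hom (𝒱.f k) := by simp [FEt.restrict]
      have e2 : φ.left ≫ B.hom = A.hom := by simp
      rw [e1, e2]; exact IsPullback.of_hasPullback _ _
    · simp [FEt.restrict]
  have : pullback.snd φ.left ((𝒱.pullback₁ B.hom).f k) =
      hsq.isoPullback.inv ≫ ((FEt.restrict (𝒱.f k)).map φ).left := (hsq.isoPullback_inv_snd).symm
  rw [this]
  exact inferInstanceAs (IsIso _)


section LocalSource

open AlgebraicGeometry.Scheme AlgebraicGeometry.Scheme.Cover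

variable {X' Y : Scheme.{u}} (g : X' ⟶ Y) (𝒱 : X'.OpenCover) [Category 𝒱.I₀] [𝒱.LocallyDirected]
  {J : Type*} [Category J] {D : J ⥤ FEt.Cat Y} {c : Cocone D}

/-- the iso of functors -/
noncomputable def restrictTransIso {k l : 𝒱.I₀} (hkl : k ⟶ l) :
    FEt.restrict (𝒱.f k ≫ g) ≅
      FEt.restrict g ⋙ FEt.restrict (𝒱.f l) ⋙ FEt.restrict (𝒱.trans hkl) :=
  restrictCongr (by rw [← Category.assoc, 𝒱.trans_map]) ≪≫
    restrictComp (𝒱.trans hkl) (𝒱.f l ≫ g) ≪≫
    Functor.isoWhiskerRight (restrictComp (𝒱.f l) g) _ ≪≫ Functor.associator _ _ _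

/-- glue data on the source -/
noncomputable def glueDataSource (h : ∀ k, IsColimit ((FEt.restrict (𝒱.f k ≫ g)).mapCocone c)) :
    GlueData (D ⋙ FEt.restrict g) 𝒱 where
  cocone k := (FEt.restrict (𝒱.f k)).mapCocone ((FEt.restrict g).mapCocone c)
  isColimit k := IsColimit.mapCoconeEquiv (restrictComp (𝒱.f k) g) (h k)
  pres {k l} hkl := IsColimit.mapCoconeEquiv (restrictTransIso g 𝒱 hkl) (h k)

variable [Quiver.IsThin 𝒱.I₀] [Small.{u} 𝒱.I₀]

/-- `FEt.restrict g` preserves a colimit if all `FEt.restrict (𝒱.f k ≫ g)` do. -/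
noncomputable def isColimitOfLocalSource
    (h : ∀ k, IsColimit ((FEt.restrict (𝒱.f k ≫ g)).mapCocone c)) :
    IsColimit ((FEt.restrict g).mapCocone c) := by
  let d := glueDataSource g 𝒱 h
  let c' := (FEt.restrict g).mapCocone c
  let φ := d.isColimitGluedCocone.desc c'
  have hφ : IsIso φ := by
    refine isIso_of_isIso_restrict 𝒱 φ (fun k => ?_)
    let f : (FEt.restrict (𝒱.f k)).mapCocone d.gluedCocone ⟶ (FEt.restrict (𝒱.f k)).mapCocone c' :=
      { hom := (FEt.restrict (𝒱.f k)).map φ
        w := fun a => by
          change (FEt.restrict (𝒱.f k)).map (d.gluedCocone.ι.app a) ≫ (FEt.restrict (𝒱.f k)).map φ =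
            (FEt.restrict (𝒱.f k)).map (c'.ι.app a)
          rw [← Functor.map_comp]
          congr 1
          exact d.isColimitGluedCocone.fac c' a }
    have hf : IsIso f := IsColimit.hom_isIso (d.isColimitMapGluedCocone k) (d.isColimit k) f
    exact inferInstanceAs (IsIso ((Cocone.forget _).map f))
  exact IsColimit.ofIsoColimit d.isColimitGluedCocone
    (Cocone.ext (asIso φ) (fun a => d.isColimitGluedCocone.fac c' a))

theorem preservesFiniteColimits_of_localSource
    (h : ∀ k, PreservesFiniteColimits (FEt.restrict (𝒱.f k ≫ g))) :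
    PreservesFiniteColimits (FEt.restrict g) :=
  ⟨fun _ _ _ => ⟨fun {_} => ⟨fun {_} hc =>
    ⟨isColimitOfLocalSource g 𝒱 (fun k => isColimitOfPreserves _ hc)⟩⟩⟩⟩

end LocalSource


section Main

variable {X Y : Scheme.{u}}

/-- (a): target affine -/
theorem preservesFiniteColimits_of_isAffine_target (g : X ⟶ Y) [IsAffine Y] :
    PreservesFiniteColimits (FEt.restrict g) :=
  preservesFiniteColimits_of_localSource g X.directedAffineCover
    (fun k => preservesFiniteColimits_of_isAffine (X.directedAffineCover.f k ≫ g))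

/-- restriction to an affine open preserves finite colimits -/
theorem preservesFiniteColimits_affineOpen (V : Y.affineOpens) :
    PreservesFiniteColimits (FEt.restrict V.1.ι) :=
  ⟨fun _ _ _ => ⟨fun {D} =>
    preservesColimit_of_preserves_colimit_cocone (glueDataAffine D).isColimitGluedCocone
      ((glueDataAffine D).isColimitMapGluedCocone V)⟩⟩

instance (f : X ⟶ Y) : Quiver.IsThin (Y.directedAffineCover.pullback₁ f).I₀ :=
  inferInstanceAs <| Quiver.IsThin Y.directedAffineCover.I₀

instance (f : X ⟶ Y) : Small.{u} (Y.directedAffineCover.pullback₁ f).I₀ :=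
  inferInstanceAs <| Small.{u} Y.directedAffineCover.I₀

/-- (b): general case -/
theorem preservesFiniteColimits_restrict (f : X ⟶ Y) :
    PreservesFiniteColimits (FEt.restrict f) := by
  refine preservesFiniteColimits_of_localSource f (Y.directedAffineCover.pullback₁ f) (fun V => ?_)
  have e : FEt.restrict ((Y.directedAffineCover.pullback₁ f).f V ≫ f) ≅
      FEt.restrict (Y.directedAffineCover.f V) ⋙ FEt.restrict (pullback.snd f (Y.directedAffineCover.f V)) :=
    restrictCongr (pullback.condition) ≪≫ restrictComp _ _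
  haveI : PreservesFiniteColimits (FEt.restrict (Y.directedAffineCover.f V)) :=
    preservesFiniteColimits_affineOpen V
  haveI : PreservesFiniteColimits (FEt.restrict (pullback.snd f (Y.directedAffineCover.f V))) :=
    preservesFiniteColimits_of_isAffine_target _
  have h3 := comp_preservesFiniteColimits (FEt.restrict (Y.directedAffineCover.f V))
    (FEt.restrict (pullback.snd f (Y.directedAffineCover.f V)))
  exact @preservesFiniteColimits_of_natIso _ _ _ _ _ _ e.symm h3

end Main

end Groth.Agent.R2.H2.FEtLoc
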