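/-
helper2: fet-hes part 3: the Frobenius trick (`essSurj_of_frobIter_factor`): finite étale covers
descend along finite purely inseparable base field extensions (`essSurj_restrict_mLL_of_charP`,
`essSurj_restrict_mLL_sepSub`), and S0269 (`exists_clopen_immersion`).
-/
import Mathlib
import Groth.Agent.R2.H2FEtHES2
import Groth.Agent.Lib.Helper11PerfEt
import Groth.Agent.Lib.Helper20Perfection
import Groth.Agent.S12073

set_option autoImplicit false
set_option linter.style.haveILetI false
universe u
open CategoryTheory Limits AlgebraicGeometry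

namespace Groth.Agent.R2.H2.FEtFrob

open FrobSch FEtGlue

section Iter

variable (p : ℕ) [Fact p.Prime]

/-- iterated absolute Frobenius -/
noncomputable def frobIter (X : Scheme.{u}) [IsCharP X p] : ℕ → (X ⟶ X)
  | 0 => 𝟙 X
  | n + 1 => frob X p ≫ frobIter X n

theorem frobIter_comp {X Y : Scheme.{u}} [IsCharP X p] [IsCharP Y p] (f : X ⟶ Y) (n : ℕ) :
    frobIter p X n ≫ f = f ≫ frobIter p Y n := by
  induction n with
  | zero => simp [frobIter]
  | succ n ih =>
    simp only [frobIter, Category.assoc]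
    rw [ih, frob_comp_assoc]

/-- pulling back a finite étale cover along Frobenius gives an isomorphic cover -/
noncomputable def restrictFrobIso {T : Scheme.{u}} [IsCharP T p] (V : FEt.Cat T) :
    (FEt.restrict (frob T p)).obj V ≅ V :=
  let v : V.left ⟶ T := V.hom
  haveI : Etale v := V.prop.2
  have hiso : IsIso (relFrob v p) := Groth.Agent.Lib.Helper11PerfEt.isIso_relFrob_of_etale p v
  (MorphismProperty.Over.isoMk (@asIso _ _ _ _ (relFrob v p) hiso) (relFrob_snd v p)).symm

theorem nonempty_restrict_frobIter_iso {T : Scheme.{u}} [IsCharP T p] (n : ℕ) (V : FEt.Cat T) :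
    Nonempty ((FEt.restrict (frobIter p T n)).obj V ≅ V) := by
  induction n with
  | zero => exact ⟨(restrictId T).app V⟩
  | succ n ih =>
    obtain ⟨e⟩ := ih
    exact ⟨(restrictComp (frob T p) (frobIter p T n)).app V ≪≫
      (FEt.restrict (frob T p)).mapIso e ≪≫ restrictFrobIso p V⟩

/-- the Frobenius trick -/
theorem essSurj_of_frobIter_factor {S T : Scheme.{u}} [IsCharP T p] (π : T ⟶ S) (ρ : S ⟶ T)
    (n : ℕ) (h : π ≫ ρ = frobIter p T n) : (FEt.restrict π).EssSurj := by
  constructor
  intro V
  obtain ⟨e⟩ := nonempty_restrict_frobIter_iso p n V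
  exact ⟨(FEt.restrict ρ).obj V,
    ⟨((restrictComp π ρ).app V).symm ≪≫ (restrictCongr h).app V ≪≫ e⟩⟩

theorem frobIter_Spec (R : CommRingCat.{u}) (h : (p : R) = 0) [IsCharP (Spec R) p] (n : ℕ) :
    ∃ ψ : R →+* R, (∀ x, ψ x = x ^ p ^ n) ∧
      frobIter p (Spec R) n = Spec.map (CommRingCat.ofHom ψ) := by
  induction n with
  | zero =>
    refine ⟨RingHom.id R, fun x => by simp, ?_⟩
    rw [frobIter]
    exact (Spec.map_id R).symm
  | succ n ih =>
    obtain ⟨ψ, hψ, hψ'⟩ := ih
    refine ⟨(powHom p R h).comp ψ, fun x => ?_, ?_⟩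
    · rw [RingHom.comp_apply, powHom_apply, hψ, ← pow_mul, pow_succ]
    · rw [frobIter, hψ', Groth.Agent.Lib.Helper20.Perfection.frob_Spec p R h, ← Spec.map_comp]
      rfl

theorem frobIter_Spec_eq (R : CommRingCat.{u}) (h : (p : R) = 0) [IsCharP (Spec R) p] (n : ℕ)
    (ψ : R →+* R) (hψ : ∀ x, ψ x = x ^ p ^ n) :
    frobIter p (Spec R) n = Spec.map (CommRingCat.ofHom ψ) := by
  obtain ⟨ψ', hψ', h'⟩ := frobIter_Spec p R h n
  have : ψ = ψ' := RingHom.ext fun x => by rw [hψ, hψ']
  rw [this, h']

end Iter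

section Field

open Groth.Agent.Lib.Helper22.FieldLim FEtHES IsPurelyInseparable

variable {k K : Type u} [Field k] [Field K] [Algebra k K]
  {X : Scheme.{u}} (f : X ⟶ Spec (CommRingCat.of k))

/-- Frobenius trick for a finite purely inseparable step `L' ≤ L`, characteristic `p`. -/
theorem essSurj_restrict_mLL_of_charP (p : ℕ) [Fact p.Prime] [CharP k p] {L' L : FinSub k K}
    (h : L' ≤ L)
    (hpi : letI := (IntermediateField.inclusion h).toRingHom.toAlgebra
      IsPurelyInseparable L'.1 L.1) :
    (FEt.restrict (mLL f h)).EssSurj := by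
  letI alg := (IntermediateField.inclusion h).toRingHom.toAlgebra
  haveI := hpi
  haveI : IsScalarTower k L'.1 L.1 := IsScalarTower.of_algebraMap_eq (fun x => rfl)
  haveI := L.2
  haveI : FiniteDimensional L'.1 L.1 := Module.Finite.of_restrictScalars_finite k L'.1 L.1
  haveI : CharP L'.1 p := charP_of_injective_algebraMap (algebraMap k L'.1).injective p
  haveI : CharP L.1 p := charP_of_injective_algebraMap (algebraMap k L.1).injective p
  haveI : ExpChar L'.1 p := ExpChar.prime Fact.out
  let n := exponent L'.1 L.1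
  let φ : L.1 →+* L'.1 := iterateFrobenius L'.1 L.1 p (le_refl n)
  have hφ1 : ∀ a : L.1, algebraMap L'.1 L.1 (φ a) = a ^ p ^ n :=
    fun a => algebraMap_iterateFrobenius L'.1 p (le_refl n) a
  have hφ2 : ∀ a : L'.1, φ (algebraMap L'.1 L.1 a) = a ^ p ^ n :=
    fun a => iterateFrobenius_algebraMap L.1 p (le_refl n) a
  haveI : IsCharP (pullback f (sL L)) p := IsCharP.of_hom (pullback.snd f (sL L)) p
  haveI : IsCharP (pullback f (sL L')) p := IsCharP.of_hom (pullback.snd f (sL L')) p
  have h0L : (p : CommRingCat.of L.1) = 0 := CharP.cast_eq_zero L.1 p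
  have h0L' : (p : CommRingCat.of L'.1) = 0 := CharP.cast_eq_zero L'.1 p
  -- Frobenius on `Spec L` and `Spec L'`
  obtain ⟨ψL, hψL, hψL'⟩ := frobIter_Spec p (CommRingCat.of L.1) h0L n
  obtain ⟨ψL', hψL'1, hψL'2⟩ := frobIter_Spec p (CommRingCat.of L'.1) h0L' n
  have e1 : frobIter p (Spec (CommRingCat.of L'.1)) n ≫ sL L' =
      Spec.map (CommRingCat.ofHom φ) ≫ sL L := by
    rw [hψL'2, ← Spec.map_comp, ← Spec.map_comp]
    congr 1
    apply CommRingCat.hom_ext
    apply RingHom.ext
    intro x
    change ψL' (algebraMap k L'.1 x) = φ (algebraMap k L.1 x)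
    rw [hψL'1, IsScalarTower.algebraMap_apply k L'.1 L.1, hφ2]
  have e2 : tLL h ≫ Spec.map (CommRingCat.ofHom φ) = frobIter p (Spec (CommRingCat.of L.1)) n := by
    rw [hψL', ← Spec.map_comp]
    congr 1
    apply CommRingCat.hom_ext
    apply RingHom.ext
    intro x
    change algebraMap L'.1 L.1 (φ x) = ψL x
    rw [hφ1, hψL]
  let ρ : pullback f (sL L') ⟶ pullback f (sL L) :=
    pullback.lift (frobIter p (pullback f (sL L')) n ≫ pullback.fst f (sL L'))
      (pullback.snd f (sL L') ≫ Spec.map (CommRingCat.ofHom φ)) (by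
        rw [Category.assoc, pullback.condition, ← Category.assoc, frobIter_comp, Category.assoc,
          e1, Category.assoc])
  have hmain : mLL f h ≫ ρ = frobIter p (pullback f (sL L)) n := by
    apply pullback.hom_ext
    · rw [Category.assoc, pullback.lift_fst, ← Category.assoc, ← frobIter_comp, Category.assoc,
        mLL_fst]
    · rw [Category.assoc, pullback.lift_snd, mLL_snd_assoc, e2, frobIter_comp]
  exact essSurj_of_frobIter_factor p (mLL f h) ρ n hmain

theorem mLL_refl (L : FinSub k K) (h : L ≤ L) : mLL f h = 𝟙 _ := by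
  apply pullback.hom_ext
  · rw [mLL_fst, Category.id_comp]
  · have : tLL h = 𝟙 _ := by
      rw [← Spec.map_id]
      rfl
    rw [mLL_snd, this, Category.comp_id, Category.id_comp]

/-- characteristic zero: a purely inseparable step is trivial -/
theorem essSurj_restrict_mLL_of_charZero [CharZero k] {L' L : FinSub k K} (h : L' ≤ L)
    (hpi : letI := (IntermediateField.inclusion h).toRingHom.toAlgebra
      IsPurelyInseparable L'.1 L.1) :
    (FEt.restrict (mLL f h)).EssSurj := by
  letI alg := (IntermediateField.inclusion h).toRingHom.toAlgebra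
  haveI := hpi
  haveI : CharZero L'.1 := charZero_of_injective_algebraMap (algebraMap k L'.1).injective
  haveI : Algebra.IsAlgebraic L'.1 L.1 := IsPurelyInseparable.isAlgebraic L'.1 L.1
  have hsurj : Function.Surjective (algebraMap L'.1 L.1) :=
    IsPurelyInseparable.surjective_algebraMap_of_isSeparable L'.1 L.1
  have hle : L ≤ L' := by
    intro x hx
    obtain ⟨y, hy⟩ := hsurj ⟨x, hx⟩
    have h1 : (y : K) = x := congrArg Subtype.val hy
    rw [← h1]
    exact y.2
  obtain rfl : L' = L := le_antisymm h hle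
  have h2 : IsIso (mLL f h) := by
    rw [mLL_refl f L' h]
    infer_instance
  infer_instance

/-- finite étale covers descend along the purely inseparable part of a finite extension -/
theorem essSurj_restrict_mLL_sepSub [Algebra.IsAlgebraic k K] (L : FinSub k K) :
    (FEt.restrict (mLL f (sepSub_le L))).EssSurj := by
  obtain ⟨q, hq⟩ := ExpChar.exists k
  rcases hq with _ | ⟨hp⟩
  · exact essSurj_restrict_mLL_of_charZero f (sepSub_le L) (isPurelyInseparable_sepSub L)
  · haveI : Fact q.Prime := ⟨hp⟩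
    exact essSurj_restrict_mLL_of_charP f q (sepSub_le L) (isPurelyInseparable_sepSub L)

theorem mKL_mLL {L' L : FinSub k K} (h : L' ≤ L) : mKL f L ≫ mLL f h = mKL (K := K) f L' := by
  apply pullback.hom_ext
  · rw [Category.assoc, mLL_fst, mKL_fst, mKL_fst]
  · rw [Category.assoc, mLL_snd, mKL_snd_assoc, mKL_snd, tKL_tLL]

open FEtMono in
/-- S0269 in general form: every finite étale cover of `X_K` is a clopen subscheme of the base
change of a finite étale cover of `X`. -/
theorem exists_clopen_immersion [Algebra.IsAlgebraic k K] [CompactSpace X] [QuasiSeparatedSpace X]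
    (V : FEt.Cat (pullback f (sK : Spec (CommRingCat.of K) ⟶ _))) :
    ∃ (U : FEt.Cat X) (ι : V ⟶ (FEt.restrict (pullback.fst f
      (sK : Spec (CommRingCat.of K) ⟶ _))).obj U),
      IsOpenImmersion ι.left ∧ IsClosedImmersion ι.left := by
  obtain ⟨i, Vi, ⟨φ⟩⟩ := (Groth.Agent.S12073.result (D (K := K) f) (cone f) (coneIsLimit f)).1 V
  let L : FinSub k K := i.unop
  haveI := essSurj_restrict_mLL_sepSub f L
  let ψ : (FEt.restrict (mLL f (sepSub_le L))).obj
      ((FEt.restrict (mLL f (sepSub_le L))).objPreimage Vi) ≅ Vi :=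
    (FEt.restrict (mLL f (sepSub_le L))).objObjPreimageIso Vi
  let W : FEt.Cat (pullback f (sL (sepSub L))) :=
    (FEt.restrict (mLL f (sepSub_le L))).objPreimage Vi
  have hm : mKL (K := K) f (sepSub L) = mKL f L ≫ mLL f (sepSub_le L) :=
    (mKL_mLL f (sepSub_le L)).symm
  let φ' : (FEt.restrict (mKL f L)).obj Vi ≅ V := φ
  let θ : (FEt.restrict (mKL f (sepSub L))).obj W ≅ V :=
    (restrictCongr hm).app W ≪≫ (restrictComp _ _).app W ≪≫
      (FEt.restrict (mKL f L)).mapIso ψ ≪≫ φ'
  let w : W.left ⟶ pullback f (sL (sepSub L)) := W.hom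
  have hU : FEt.prop (w ≫ pullback.fst f (sL (sepSub L))) :=
    FEt.prop.comp_mem _ _ W.prop
      (MorphismProperty.pullback_fst (P := FEt.prop) f (sL (sepSub L)) (SL (sepSub L)).prop)
  let U : FEt.Cat X := MorphismProperty.Over.mk ⊤ (w ≫ pullback.fst f (sL (sepSub L))) hU
  let j : pullback w (mKL (K := K) f (sepSub L)) ⟶
      pullback (w ≫ pullback.fst f (sL (sepSub L))) (pullback.fst f
        (sK : Spec (CommRingCat.of K) ⟶ _)) :=
    pullback.lift (pullback.fst _ _) (pullback.snd _ _) (by
      rw [← Category.assoc, pullback.condition, Category.assoc, mKL_fst])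
  let ι₁ : (FEt.restrict (mKL (K := K) f (sepSub L))).obj W ⟶
      (FEt.restrict (pullback.fst f (sK : Spec (CommRingCat.of K) ⟶ _))).obj U :=
    MorphismProperty.Over.homMk j (pullback.lift_snd _ _ _) trivial
  have hj1 : j ≫ pullback.fst _ _ = pullback.fst _ _ := pullback.lift_fst _ _ _
  have hj2 : j ≫ pullback.snd _ _ = pullback.snd _ _ := pullback.lift_snd _ _ _
  have hmono : Mono j := ⟨fun a b hab => by
    apply pullback.hom_ext
    · rw [← hj1, ← Category.assoc, hab, Category.assoc]
    · rw [← hj2, ← Category.assoc, hab, Category.assoc]⟩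
  have hmono₁ : Mono ι₁ := by
    have : Mono ((MorphismProperty.Over.forget FEt.prop ⊤ _ ⋙ CategoryTheory.Over.forget _).map ι₁) :=
      hmono
    exact Functor.mono_of_mono_map
      (MorphismProperty.Over.forget FEt.prop ⊤ _ ⋙ CategoryTheory.Over.forget _) this
  have hmono₂ : Mono (θ.inv ≫ ι₁) := mono_comp _ _
  refine ⟨U, θ.inv ≫ ι₁, isOpenImmersion_left _, ?_⟩
  haveI := isOpenImmersion_left (θ.inv ≫ ι₁)
  exact IsClosedImmersion.of_isPreimmersion _ (isClopen_range (θ.inv ≫ ι₁).left).1

end Field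

end Groth.Agent.R2.H2.FEtFrob
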