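/-
helper2: gluing local extensions of a finite étale cover along a universal homeomorphism
(generalisation of Lib/Helper22ThickFEt from surjective closed immersions to integral, universally
injective, surjective morphisms; the existence over affine opens is a hypothesis `hex`).
-/
import Mathlib
import Groth.Prelude
import Groth.Agent.Lib.Helper20EtHom
import Groth.Agent.Lib.Helper20FEtFaith

set_option autoImplicit false
set_option linter.style.haveILetI false
universe u

namespace Groth.Agent.R2.H2.FEtUHGlue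
open AlgebraicGeometry CategoryTheory CategoryTheory.Limits
open Pi1

variable {X X' : Scheme.{u}} (i : X ⟶ X') (Y : FEt.Cat X)

/-- the part of `Y` over an open `U'` of `X'` -/
noncomputable abbrev piece (U' : X'.Opens) : Scheme.{u} := pullback (Y.hom ≫ i) U'.ι

/-- transition maps between the pieces -/
noncomputable abbrev pieceMap {V' U' : X'.Opens} (h : V' ≤ U') : piece i Y V' ⟶ piece i Y U' :=
  pullback.map (Y.hom ≫ i) V'.ι (Y.hom ≫ i) U'.ι (𝟙 _) (X'.homOfLE h) (𝟙 _)
    (by simp) (by simp)

/-- An extension of `Y` over the open `U'` of `X'`: a finite étale `Z → U'` whose base change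
along `i` is the part of `Y` over `U'`. -/
structure Ext (U' : X'.Opens) where
  Z : Scheme.{u}
  p : Z ⟶ (U' : Scheme.{u})
  fin : IsFinite p
  et : Etale p
  a : piece i Y U' ⟶ Z
  sq : IsPullback a (pullback.fst (Y.hom ≫ i) U'.ι ≫ Y.hom) (p ≫ U'.ι) i

namespace Ext

variable {i Y}
variable {U' V' : X'.Opens}

attribute [instance] Ext.fin Ext.et

@[reassoc]
theorem a_p (E : Ext i Y U') : E.a ≫ E.p = pullback.snd (Y.hom ≫ i) U'.ι := by
  rw [← cancel_mono U'.ι, Category.assoc, E.sq.w, Category.assoc, pullback.condition]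

theorem pieceMap_fst (h : V' ≤ U') :
    pieceMap i Y h ≫ pullback.fst (Y.hom ≫ i) U'.ι = pullback.fst (Y.hom ≫ i) V'.ι := by
  rw [pieceMap, pullback.map, pullback.lift_fst, Category.comp_id]

@[reassoc]
theorem pieceMap_snd (h : V' ≤ U') :
    pieceMap i Y h ≫ pullback.snd (Y.hom ≫ i) U'.ι =
      pullback.snd (Y.hom ≫ i) V'.ι ≫ X'.homOfLE h := pullback.lift_snd _ _ _

theorem pieceMap_refl : pieceMap i Y (le_refl U') = 𝟙 _ := by
  apply pullback.hom_ext
  · rw [pieceMap_fst, Category.id_comp]
  · rw [pieceMap_snd, Category.id_comp, Scheme.homOfLE_rfl, Category.comp_id]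

theorem pieceMap_comp {W' : X'.Opens} (h₁ : W' ≤ V') (h₂ : V' ≤ U') :
    pieceMap i Y h₁ ≫ pieceMap i Y h₂ = pieceMap i Y (h₁.trans h₂) := by
  apply pullback.hom_ext
  · rw [Category.assoc, pieceMap_fst, pieceMap_fst, pieceMap_fst]
  · rw [Category.assoc, pieceMap_snd, pieceMap_snd_assoc, pieceMap_snd, Scheme.homOfLE_homOfLE]

theorem isPullback_pieceMap (h : V' ≤ U') :
    IsPullback (pieceMap i Y h) (pullback.snd (Y.hom ≫ i) V'.ι) (pullback.snd (Y.hom ≫ i) U'.ι)
      (X'.homOfLE h) := by
  have h1 : IsPullback (pullback.fst (Y.hom ≫ i) U'.ι) (pullback.snd (Y.hom ≫ i) U'.ι)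
      (Y.hom ≫ i) U'.ι := IsPullback.of_hasPullback _ _
  have h2 : IsPullback (pullback.fst (Y.hom ≫ i) V'.ι) (pullback.snd (Y.hom ≫ i) V'.ι)
      (Y.hom ≫ i) V'.ι := IsPullback.of_hasPullback _ _
  refine IsPullback.of_right ?_ (pieceMap_snd h) h1
  rw [pieceMap_fst, X'.homOfLE_ι]
  exact h2

section

variable [IsIntegralHom i] [UniversallyInjective i] [Surjective i]

instance (E : Ext i Y U') : IsIntegralHom E.a :=
  MorphismProperty.of_isPullback (P := @IsIntegralHom) E.sq.flip ‹_›

instance (E : Ext i Y U') : UniversallyInjective E.a :=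
  MorphismProperty.of_isPullback (P := @UniversallyInjective) E.sq.flip ‹_›

instance (E : Ext i Y U') : Surjective E.a :=
  MorphismProperty.of_isPullback (P := @Surjective) E.sq.flip ‹_›

theorem hom_exists (h : V' ≤ U') (EV : Ext i Y V') (EU : Ext i Y U') :
    ∃ t : EV.Z ⟶ EU.Z, t ≫ EU.p = EV.p ≫ X'.homOfLE h ∧ EV.a ≫ t = pieceMap i Y h ≫ EU.a := by
  obtain ⟨φ, h1, h2⟩ := Groth.Agent.Lib.Helper20.EtHom.exists_lift EV.a EU.p
    (EV.p ≫ X'.homOfLE h) (pieceMap i Y h ≫ EU.a)
    (by rw [Category.assoc, EU.a_p, pieceMap_snd, EV.a_p_assoc])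
  exact ⟨φ, h1, h2⟩

omit [IsIntegralHom i] [UniversallyInjective i] in
theorem hom_unique (h : V' ≤ U') (EV : Ext i Y V') (EU : Ext i Y U') (t t' : EV.Z ⟶ EU.Z)
    (ht : t ≫ EU.p = EV.p ≫ X'.homOfLE h) (ht' : t' ≫ EU.p = EV.p ≫ X'.homOfLE h)
    (hat : EV.a ≫ t = EV.a ≫ t') : t = t' := by
  haveI : Etale (Over.mk EU.p).hom := EU.et
  have := Groth.Agent.Lib.Helper20.EtHom.over_hom_ext_of_surjective (S := (U' : Scheme.{u}))
    (X := Over.mk EU.p) (Y := Over.mk (EV.p ≫ X'.homOfLE h))
    (Over.homMk t ht) (Over.homMk t' ht') EV.a hat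
  exact congr($(this).left)

end

/-- restriction of an extension to a smaller open -/
noncomputable def restrict (h : V' ≤ U') (E : Ext i Y U') : Ext i Y V' where
  Z := pullback E.p (X'.homOfLE h)
  p := pullback.snd _ _
  fin := inferInstance
  et := inferInstance
  a := pullback.lift (pieceMap i Y h ≫ E.a) (pullback.snd _ _)
    (by rw [Category.assoc, E.a_p, pieceMap_snd])
  sq := by
    have L : IsPullback (pullback.lift (pieceMap i Y h ≫ E.a) (pullback.snd _ _)
        (by rw [Category.assoc, E.a_p, pieceMap_snd]) : piece i Y V' ⟶ pullback E.p (X'.homOfLE h))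
        (pieceMap i Y h) (pullback.fst E.p (X'.homOfLE h)) E.a := by
      refine IsPullback.of_right ?_ (pullback.lift_fst _ _ _)
        (IsPullback.of_hasPullback E.p (X'.homOfLE h)).flip
      rw [pullback.lift_snd, E.a_p]
      exact (isPullback_pieceMap h).flip
    have := L.paste_vert E.sq
    have e1 : pieceMap i Y h ≫ pullback.fst (Y.hom ≫ i) U'.ι ≫ Y.hom =
        pullback.fst (Y.hom ≫ i) V'.ι ≫ Y.hom := by
      rw [← Category.assoc, pieceMap_fst]
    have e2 : pullback.fst E.p (X'.homOfLE h) ≫ E.p ≫ U'.ι =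
        pullback.snd E.p (X'.homOfLE h) ≫ V'.ι := by
      rw [← Category.assoc, pullback.condition, Category.assoc, X'.homOfLE_ι]
    rw [e1, e2] at this
    exact this

/-- projection from the restricted extension -/
noncomputable def restrictFst (h : V' ≤ U') (E : Ext i Y U') : (E.restrict h).Z ⟶ E.Z :=
  pullback.fst E.p (X'.homOfLE h)

theorem restrict_a_fst (h : V' ≤ U') (E : Ext i Y U') :
    (E.restrict h).a ≫ restrictFst h E = pieceMap i Y h ≫ E.a := pullback.lift_fst _ _ _

theorem isPullback_restrict (h : V' ≤ U') (E : Ext i Y U') :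
    IsPullback (restrictFst h E) (E.restrict h).p E.p (X'.homOfLE h) :=
  IsPullback.of_hasPullback _ _

section

variable [IsIntegralHom i] [UniversallyInjective i] [Surjective i]

/-- two extensions over the same open are canonically isomorphic -/
theorem iso_exists (E₁ E₂ : Ext i Y U') :
    ∃ τ : E₁.Z ≅ E₂.Z, τ.hom ≫ E₂.p = E₁.p ∧ E₁.a ≫ τ.hom = E₂.a := by
  obtain ⟨t, ht1, ht2⟩ := hom_exists (le_refl U') E₁ E₂
  obtain ⟨s, hs1, hs2⟩ := hom_exists (le_refl U') E₂ E₁
  rw [Scheme.homOfLE_rfl, Category.comp_id] at ht1 hs1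
  rw [pieceMap_refl, Category.id_comp] at ht2 hs2
  refine ⟨⟨t, s, ?_, ?_⟩, ht1, ht2⟩
  · apply hom_unique (le_refl U') E₁ E₁ (t ≫ s) (𝟙 _)
    · rw [Category.assoc, hs1, ht1, Scheme.homOfLE_rfl, Category.comp_id]
    · rw [Category.id_comp, Scheme.homOfLE_rfl, Category.comp_id]
    · rw [← Category.assoc, ht2, hs2, Category.comp_id]
  · apply hom_unique (le_refl U') E₂ E₂ (s ≫ t) (𝟙 _)
    · rw [Category.assoc, ht1, hs1, Scheme.homOfLE_rfl, Category.comp_id]
    · rw [Category.id_comp, Scheme.homOfLE_rfl, Category.comp_id]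
    · rw [← Category.assoc, hs2, ht2, Category.comp_id]

theorem trans_exists (h : V' ≤ U') (EV : Ext i Y V') (EU : Ext i Y U') :
    ∃ t : EV.Z ⟶ EU.Z, EV.a ≫ t = pieceMap i Y h ≫ EU.a ∧
      IsPullback t EV.p EU.p (X'.homOfLE h) := by
  obtain ⟨τ, hτ1, hτ2⟩ := iso_exists EV (EU.restrict h)
  refine ⟨τ.hom ≫ restrictFst h EU, ?_, ?_⟩
  · rw [← Category.assoc, hτ2]
    exact restrict_a_fst h EU
  · refine IsPullback.of_iso (isPullback_restrict h EU) τ.symm (Iso.refl _) (Iso.refl _)
      (Iso.refl _) ?_ ?_ (by simp) (by simp)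
    · rw [Iso.refl_hom, Category.comp_id, Iso.symm_hom, Iso.inv_hom_id_assoc]
    · rw [Iso.refl_hom, Category.comp_id, Iso.symm_hom, Iso.eq_inv_comp]
      exact hτ1

end

end Ext



section Local

/-- unbundled essential surjectivity -/
theorem exists_isPullback_of_essSurj {S T : Scheme.{u}} (g : T ⟶ S)
    (hE : (FEt.restrict g).EssSurj) {W : Scheme.{u}} (w : W ⟶ T) [IsFinite w] [Etale w] :
    ∃ (Z : Scheme.{u}) (z : Z ⟶ S) (_ : IsFinite z) (_ : Etale z) (a : W ⟶ Z),
      IsPullback a w z g := by
  let Wo : FEt.Cat T := MorphismProperty.Over.mk ⊤ w ⟨‹_›, ‹_›⟩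
  obtain ⟨Zo, ⟨ε⟩⟩ := hE.mem_essImage Wo
  let εl : pullback Zo.hom g ≅ W := (MorphismProperty.Over.forget _ _ _ ⋙ Over.forget _).mapIso ε
  have hεl : εl.hom ≫ w = pullback.snd Zo.hom g := Over.w ε.hom.hom
  refine ⟨Zo.left, Zo.hom, Zo.prop.1, Zo.prop.2, εl.inv ≫ pullback.fst Zo.hom g, ?_⟩
  refine IsPullback.of_iso (IsPullback.of_hasPullback Zo.hom g) εl (Iso.refl _) (Iso.refl _)
    (Iso.refl _) ?_ ?_ (by simp) (by simp)
  · rw [Iso.refl_hom, Category.comp_id, Iso.hom_inv_id_assoc]
  · rw [Iso.refl_hom, Category.comp_id, hεl]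

end Local



section Glue

variable [IsIntegralHom i] [UniversallyInjective i] [Surjective i]
  (hex : ∀ U' : X'.AffineZariskiSite, Nonempty (Ext i Y U'.toOpens))

/-- chosen local extensions over the affine opens -/
noncomputable def chosen (U' : X'.AffineZariskiSite) : Ext i Y U'.toOpens :=
  (hex U').some

/-- chosen transition maps -/
noncomputable def trans {V' U' : X'.AffineZariskiSite} (h : V' ≤ U') :
    (chosen i Y hex V').Z ⟶ (chosen i Y hex U').Z :=
  (Ext.trans_exists (Scheme.AffineZariskiSite.toOpens_mono h) (chosen i Y hex V')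
    (chosen i Y hex U')).choose

theorem a_trans {V' U' : X'.AffineZariskiSite} (h : V' ≤ U') :
    (chosen i Y hex V').a ≫ trans i Y hex h =
      pieceMap i Y (Scheme.AffineZariskiSite.toOpens_mono h) ≫ (chosen i Y hex U').a :=
  (Ext.trans_exists (Scheme.AffineZariskiSite.toOpens_mono h) (chosen i Y hex V')
    (chosen i Y hex U')).choose_spec.1

theorem isPullback_trans {V' U' : X'.AffineZariskiSite} (h : V' ≤ U') :
    IsPullback (trans i Y hex h) (chosen i Y hex V').p (chosen i Y hex U').p
      (X'.homOfLE (Scheme.AffineZariskiSite.toOpens_mono h)) :=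
  (Ext.trans_exists (Scheme.AffineZariskiSite.toOpens_mono h) (chosen i Y hex V')
    (chosen i Y hex U')).choose_spec.2

theorem trans_unique {V' U' : X'.AffineZariskiSite} (h : V' ≤ U')
    (t : (chosen i Y hex V').Z ⟶ (chosen i Y hex U').Z)
    (ht : t ≫ (chosen i Y hex U').p =
      (chosen i Y hex V').p ≫ X'.homOfLE (Scheme.AffineZariskiSite.toOpens_mono h))
    (hat : (chosen i Y hex V').a ≫ t =
      pieceMap i Y (Scheme.AffineZariskiSite.toOpens_mono h) ≫ (chosen i Y hex U').a) :
    t = trans i Y hex h :=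
  Ext.hom_unique (Scheme.AffineZariskiSite.toOpens_mono h) _ _ _ _ ht (isPullback_trans i Y hex h).w
    (hat.trans (a_trans i Y hex h).symm)

/-- the diagram of local extensions -/
noncomputable def functor : X'.AffineZariskiSite ⥤ Scheme.{u} where
  obj U' := (chosen i Y hex U').Z
  map {V' U'} f := trans i Y hex f.le
  map_id U' := by
    symm
    apply trans_unique
    · rw [Category.id_comp, Scheme.homOfLE_rfl, Category.comp_id]
    · rw [Category.comp_id, Ext.pieceMap_refl, Category.id_comp]
  map_comp {W' V' U'} f g := by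
    symm
    apply trans_unique
    · rw [Category.assoc, (isPullback_trans i Y hex g.le).w, ← Category.assoc,
        (isPullback_trans i Y hex f.le).w, Category.assoc, Scheme.homOfLE_homOfLE]
    · rw [← Category.assoc, a_trans, Category.assoc, a_trans, ← Category.assoc,
        Ext.pieceMap_comp]

/-- the structure maps of the diagram -/
noncomputable def natTrans :
    functor i Y hex ⟶ (Scheme.AffineZariskiSite.directedCover X').functorOfLocallyDirected where
  app U' := (chosen i Y hex U').p
  naturality {V' U'} f := (isPullback_trans i Y hex f.le).w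

theorem equifibered : (natTrans i Y hex).Equifibered := fun {V' U'} f => isPullback_trans i Y hex f.le

/-- the relative gluing datum -/
noncomputable def gluingData : (Scheme.AffineZariskiSite.directedCover X').RelativeGluingData where
  functor := functor i Y hex
  natTrans := natTrans i Y hex
  equifibered := equifibered i Y hex

end Glue



section Final

variable [IsIntegralHom i] [UniversallyInjective i] [Surjective i]
  (hex : ∀ U' : X'.AffineZariskiSite, Nonempty (Ext i Y U'.toOpens))

instance instLD (d : (Scheme.AffineZariskiSite.directedCover X').RelativeGluingData) :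
    (d.functor ⋙ Scheme.forget).IsLocallyDirected :=
  Scheme.Cover.RelativeGluingData.instIsLocallyDirectedI₀CompFunctorForgetOfIsThin d

/-- the glued scheme -/
noncomputable abbrev glued : Scheme.{u} := (gluingData i Y hex).glued

/-- its structure map -/
noncomputable abbrev toBase : glued i Y hex ⟶ X' := (gluingData i Y hex).toBase

/-- the charts of the glued scheme -/
noncomputable abbrev chart (U' : X'.AffineZariskiSite) : (chosen i Y hex U').Z ⟶ glued i Y hex :=
  colimit.ι (gluingData i Y hex).functor U'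

theorem isPullback_chart (U' : X'.AffineZariskiSite) :
    IsPullback (chosen i Y hex U').p (chart i Y hex U') U'.toOpens.ι (toBase i Y hex) :=
  (gluingData i Y hex).isPullback_natTrans_ι_toBase U'

theorem trans_chart {V' U' : X'.AffineZariskiSite} (h : V' ≤ U') :
    trans i Y hex h ≫ chart i Y hex U' = chart i Y hex V' :=
  colimit.w (gluingData i Y hex).functor (homOfLE h)

@[reassoc]
theorem chart_toBase (U' : X'.AffineZariskiSite) :
    chart i Y hex U' ≫ toBase i Y hex = (chosen i Y hex U').p ≫ U'.toOpens.ι :=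
  (isPullback_chart i Y hex U').w.symm

set_option backward.isDefEq.respectTransparency.types false in
theorem prop_toBase (P : MorphismProperty Scheme.{u}) [IsZariskiLocalAtTarget P]
    (hP : ∀ U' : X'.AffineZariskiSite, P (chosen i Y hex U').p) : P (toBase i Y hex) := by
  apply IsZariskiLocalAtTarget.of_openCover (P := P)
    (Scheme.AffineZariskiSite.directedCover X')
  intro U'
  have h1 := (isPullback_chart i Y hex U').flip
  have h2 : h1.isoPullback.hom ≫ pullback.snd (toBase i Y hex) U'.toOpens.ι = (chosen i Y hex U').p :=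
    h1.isoPullback_hom_snd
  refine (MorphismProperty.cancel_left_of_respectsIso P h1.isoPullback.hom _).mp ?_
  rw [Scheme.Cover.pullbackHom, h2]
  exact hP U'

/-- the cover of `Y` by its pieces -/
noncomputable abbrev pieceCover : Y.left.OpenCover :=
  (Scheme.AffineZariskiSite.directedCover X').pullback₁ (Y.hom ≫ i)

theorem compat {V' U' : X'.AffineZariskiSite} (f : V' ⟶ U') :
    pieceMap i Y (Scheme.AffineZariskiSite.toOpens_mono f.le) ≫
      (chosen i Y hex U').a ≫ chart i Y hex U' = (chosen i Y hex V').a ≫ chart i Y hex V' := by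
  rw [← Category.assoc, ← a_trans i Y hex f.le, Category.assoc, trans_chart]

/-- the comparison map `Y ⟶ Y'` -/
noncomputable def toGlued : Y.left ⟶ glued i Y hex :=
  (pieceCover i Y).glueMorphismsOfLocallyDirected
    (fun U' => (chosen i Y hex U').a ≫ chart i Y hex U') (fun {V' U'} f => compat i Y hex f)

theorem piece_toGlued (U' : X'.AffineZariskiSite) :
    pullback.fst (Y.hom ≫ i) U'.toOpens.ι ≫ toGlued i Y hex = (chosen i Y hex U').a ≫ chart i Y hex U' :=
  (pieceCover i Y).map_glueMorphismsOfLocallyDirected _ _ U'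

@[reassoc]
theorem toGlued_toBase : toGlued i Y hex ≫ toBase i Y hex = Y.hom ≫ i := by
  apply (pieceCover i Y).hom_ext
  intro (U' : X'.AffineZariskiSite)
  change pullback.fst (Y.hom ≫ i) U'.toOpens.ι ≫ toGlued i Y hex ≫ toBase i Y hex =
    pullback.fst (Y.hom ≫ i) U'.toOpens.ι ≫ Y.hom ≫ i
  rw [← Category.assoc, piece_toGlued, Category.assoc, chart_toBase, Ext.a_p_assoc,
    pullback.condition]

theorem isPullback_a_chart (U' : X'.AffineZariskiSite) :
    IsPullback (chosen i Y hex U').a (pullback.fst (Y.hom ≫ i) U'.toOpens.ι) (chart i Y hex U')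
      (toGlued i Y hex) := by
  refine IsPullback.of_right ?_ (piece_toGlued i Y hex U').symm (isPullback_chart i Y hex U')
  rw [Ext.a_p, toGlued_toBase]
  exact (IsPullback.of_hasPullback (Y.hom ≫ i) U'.toOpens.ι).flip

theorem isPullback_toGlued : IsPullback (toGlued i Y hex) Y.hom (toBase i Y hex) i := by
  refine Scheme.isPullback_of_openCover _ _ _ _ (gluingData i Y hex).cover ?_
  intro (U' : X'.AffineZariskiSite)
  change IsPullback (pullback.snd (toGlued i Y hex) (chart i Y hex U'))
    (pullback.fst (toGlued i Y hex) (chart i Y hex U') ≫ Y.hom) (chart i Y hex U' ≫ toBase i Y hex) i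
  have hA := (isPullback_a_chart i Y hex U').flip
  have hsq := (chosen i Y hex U').sq
  rw [← chart_toBase] at hsq
  refine IsPullback.of_iso hsq hA.isoPullback (Iso.refl _) (Iso.refl _) (Iso.refl _) ?_ ?_
    (by simp) (by simp)
  · rw [Iso.refl_hom, Category.comp_id, hA.isoPullback_hom_snd]
  · rw [Iso.refl_hom, Category.comp_id, ← Category.assoc, hA.isoPullback_hom_fst]

end Final

section Main

variable [IsIntegralHom i] [UniversallyInjective i] [Surjective i]
  (hex : ∀ U' : X'.AffineZariskiSite, Nonempty (Ext i Y U'.toOpens))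

include hex in
set_option backward.isDefEq.respectTransparency.types false in
theorem exists_ext : ∃ Y' : FEt.Cat X', Nonempty ((FEt.restrict i).obj Y' ≅ Y) := by
  have hfin : IsFinite (toBase i Y hex) := prop_toBase i Y hex @IsFinite fun U' => (chosen i Y hex U').fin
  have het : Etale (toBase i Y hex) := prop_toBase i Y hex @Etale fun U' => (chosen i Y hex U').et
  let Y' : FEt.Cat X' := MorphismProperty.Over.mk ⊤ (toBase i Y hex) ⟨hfin, het⟩
  have hpb := isPullback_toGlued i Y hex
  refine ⟨Y', ⟨MorphismProperty.Over.isoMk hpb.isoPullback.symm ?_⟩⟩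
  change hpb.isoPullback.inv ≫ Y.hom = pullback.snd (toBase i Y hex) i
  exact hpb.isoPullback_inv_snd


end Main

end Groth.Agent.R2.H2.FEtUHGlue
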