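/-
helper2: fet-hes part 4: base change along a purely inseparable field extension (e.g. the perfect
closure) is an equivalence on finite étale covers (S0286), via the Frobenius trick on affine opens
and gluing along a universal homeomorphism (R2/H2FEtUHGlue).
-/
import Mathlib
import Groth.Agent.R2.H2FEtFrob
import Groth.Agent.R2.H2FEtUHGlue
import Groth.Agent.S0283

set_option autoImplicit false
set_option linter.style.haveILetI false
universe u
open CategoryTheory Limits AlgebraicGeometry

namespace Groth.Agent.R2.H2.FEtPerf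

open Groth.Agent.Lib.Helper22.FieldLim FEtHES FEtFrob FEtGlue FEtUHGlue

section UH

variable {X X' : Scheme.{u}} (i : X ⟶ X') (Y : FEt.Cat X)

/-- an extension over `U'` from essential surjectivity of the restriction over `U'` -/
theorem ext_of_essSurj {U' : X'.Opens}
    (hE : (FEt.restrict (pullback.snd i U'.ι)).EssSurj) : Nonempty (Ext i Y U') := by
  have hYfin : IsFinite Y.hom := Y.prop.1
  have hYet : Etale Y.hom := Y.prop.2
  let g : pullback i U'.ι ⟶ (U' : Scheme.{u}) := pullback.snd i U'.ι
  let w : piece i Y U' ⟶ pullback i U'.ι :=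
    pullback.lift (pullback.fst _ _ ≫ Y.hom) (pullback.snd _ _)
      (by rw [Category.assoc, pullback.condition])
  have hw1 : w ≫ pullback.fst i U'.ι = pullback.fst (Y.hom ≫ i) U'.ι ≫ Y.hom :=
    pullback.lift_fst _ _ _
  have hw2 : w ≫ g = pullback.snd (Y.hom ≫ i) U'.ι := pullback.lift_snd _ _ _
  have hwpb : IsPullback (pullback.fst (Y.hom ≫ i) U'.ι) w Y.hom (pullback.fst i U'.ι) := by
    refine IsPullback.of_bot ?_ hw1.symm (IsPullback.of_hasPullback i U'.ι)
    rw [hw2]
    exact IsPullback.of_hasPullback _ _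
  haveI : IsFinite w := MorphismProperty.of_isPullback (P := @IsFinite) hwpb hYfin
  haveI : Etale w := MorphismProperty.of_isPullback (P := @Etale) hwpb hYet
  obtain ⟨Z, z, hzf, hze, a, hpb⟩ := exists_isPullback_of_essSurj g hE w
  refine ⟨⟨Z, z, hzf, hze, a, ?_⟩⟩
  have := hpb.paste_vert (IsPullback.of_hasPullback i U'.ι).flip
  rw [hw1] at this
  exact this

end UH

section PI

variable {k K : Type u} [Field k] [Field K] [Algebra k K]
  {X : Scheme.{u}} (f : X ⟶ Spec (CommRingCat.of k))

/-- the bottom finite subextension -/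
noncomputable def botSub : FinSub k K := ⟨⊥, inferInstance⟩

theorem botSub_le (L : FinSub k K) : (botSub : FinSub k K) ≤ L :=
  (bot_le : (⊥ : IntermediateField k K) ≤ L.1)

instance isIso_sL_botSub : IsIso (sL (botSub : FinSub k K)) := by
  have hb : Function.Bijective (algebraMap k (⊥ : IntermediateField k K)) :=
    (IntermediateField.botEquiv k K).symm.bijective
  have : IsIso (CommRingCat.ofHom (algebraMap k (⊥ : IntermediateField k K))) :=
    (ConcreteCategory.isIso_iff_bijective _).mpr hb
  change IsIso (Spec.map (CommRingCat.ofHom (algebraMap k (⊥ : IntermediateField k K))))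
  infer_instance

theorem isPurelyInseparable_botSub [IsPurelyInseparable k K] (L : FinSub k K) :
    letI := (IntermediateField.inclusion (botSub_le L)).toRingHom.toAlgebra
    IsPurelyInseparable (botSub : FinSub k K).1 L.1 := by
  letI := (IntermediateField.inclusion (botSub_le L)).toRingHom.toAlgebra
  let q := ringExpChar k
  haveI : ExpChar k q := ringExpChar.expChar k
  haveI : ExpChar (botSub : FinSub k K).1 q :=
    expChar_of_injective_algebraMap (algebraMap k _).injective q
  rw [isPurelyInseparable_iff_pow_mem _ q]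
  intro x
  obtain ⟨n, c, hc⟩ := IsPurelyInseparable.pow_mem k q (x : K)
  refine ⟨n, ⟨⟨algebraMap k K c, IntermediateField.algebraMap_mem _ c⟩, Subtype.ext ?_⟩⟩
  exact hc

/-- for `K/k` purely inseparable (characteristic `p`) and `X` quasi-compact quasi-separated,
every finite étale cover of `X_K` comes from `X` -/
theorem essSurj_restrict_fst_of_purelyInseparable (p : ℕ) [Fact p.Prime] [CharP k p]
    [IsPurelyInseparable k K] [CompactSpace X] [QuasiSeparatedSpace X] :
    (FEt.restrict (pullback.fst f (sK : Spec (CommRingCat.of K) ⟶ _))).EssSurj := by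
  haveI : Algebra.IsAlgebraic k K := IsPurelyInseparable.isAlgebraic k K
  constructor
  intro V
  obtain ⟨i, Vi, ⟨φ⟩⟩ := (Groth.Agent.S12073.result (D (K := K) f) (cone f) (coneIsLimit f)).1 V
  let L : FinSub k K := i.unop
  let φ' : (FEt.restrict (mKL f L)).obj Vi ≅ V := φ
  haveI := essSurj_restrict_mLL_of_charP f p (botSub_le L) (isPurelyInseparable_botSub L)
  let W₀ : FEt.Cat (pullback f (sL (botSub : FinSub k K))) :=
    (FEt.restrict (mLL f (botSub_le L))).objPreimage Vi
  let ψ : (FEt.restrict (mLL f (botSub_le L))).obj W₀ ≅ Vi :=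
    (FEt.restrict (mLL f (botSub_le L))).objObjPreimageIso Vi
  let pr₀ : pullback f (sL (botSub : FinSub k K)) ⟶ X := pullback.fst f (sL botSub)
  haveI : IsIso pr₀ := inferInstanceAs (IsIso (pullback.fst f (sL (botSub : FinSub k K))))
  let W : FEt.Cat X := (FEt.restrict pr₀).objPreimage W₀
  let χ : (FEt.restrict pr₀).obj W ≅ W₀ := (FEt.restrict pr₀).objObjPreimageIso W₀
  have h1 : pullback.fst f (sK : Spec (CommRingCat.of K) ⟶ _) =
      (mKL f L ≫ mLL f (botSub_le L)) ≫ pr₀ := by
    rw [mKL_mLL, mKL_fst]
  refine ⟨W, ⟨(restrictCongr h1).app W ≪≫ (restrictComp _ _).app W ≪≫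
    (FEt.restrict (mKL f L ≫ mLL f (botSub_le L))).mapIso χ ≪≫
    (restrictComp _ _).app W₀ ≪≫ (FEt.restrict (mKL f L)).mapIso ψ ≪≫ φ'⟩⟩

/-- S0286 in general form: for `K/k` purely inseparable of characteristic `p`, base change to `K`
is an equivalence on finite étale covers, for every `k`-scheme `X`. -/
theorem isEquivalence_restrict_fst_of_purelyInseparable (p : ℕ) [Fact p.Prime] [CharP k p]
    [IsPurelyInseparable k K] :
    (FEt.restrict (pullback.fst f (sK : Spec (CommRingCat.of K) ⟶ _))).IsEquivalence := by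
  haveI : Algebra.IsIntegral k K := IsPurelyInseparable.isIntegral
  haveI h1 : IsIntegralHom (sK : Spec (CommRingCat.of K) ⟶ Spec (CommRingCat.of k)) :=
    isIntegralHom_specMap k K
  haveI h2 : UniversallyInjective (sK : Spec (CommRingCat.of K) ⟶ Spec (CommRingCat.of k)) :=
    universallyInjective_specMap k K
  haveI h3 : Surjective (sK : Spec (CommRingCat.of K) ⟶ Spec (CommRingCat.of k)) :=
    surjective_specMap_field k K
  let i : pullback f (sK : Spec (CommRingCat.of K) ⟶ _) ⟶ X := pullback.fst f sK
  haveI : IsIntegralHom i := MorphismProperty.pullback_fst (P := @IsIntegralHom) f sK h1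
  haveI : UniversallyInjective i := MorphismProperty.pullback_fst (P := @UniversallyInjective) f sK h2
  haveI : Surjective i := MorphismProperty.pullback_fst (P := @Surjective) f sK h3
  obtain ⟨hfull, hfaith⟩ := Groth.Agent.S0283.result i
  have hloc : ∀ U' : X.AffineZariskiSite,
      (FEt.restrict (pullback.snd i U'.toOpens.ι)).EssSurj := by
    intro U'
    haveI : IsAffine (U'.toOpens : Scheme.{u}) := U'.2
    have hq := essSurj_restrict_fst_of_purelyInseparable (K := K) (U'.toOpens.ι ≫ f) p
    let e : pullback i U'.toOpens.ι ≅ pullback (U'.toOpens.ι ≫ f)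
        (sK : Spec (CommRingCat.of K) ⟶ _) :=
      pullbackSymmetry _ _ ≪≫ pullbackRightPullbackFstIso f sK U'.toOpens.ι
    have he : pullback.snd i U'.toOpens.ι = e.hom ≫ pullback.fst (U'.toOpens.ι ≫ f) sK := by
      rw [Iso.trans_hom, Category.assoc, pullbackRightPullbackFstIso_hom_fst,
        pullbackSymmetry_hom_comp_fst]
    have iso : FEt.restrict (pullback.snd i U'.toOpens.ι) ≅
        FEt.restrict (pullback.fst (U'.toOpens.ι ≫ f) (sK : Spec (CommRingCat.of K) ⟶ _)) ⋙
          FEt.restrict e.hom :=
      restrictCongr he ≪≫ restrictComp _ _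
    haveI : (FEt.restrict (pullback.fst (U'.toOpens.ι ≫ f)
        (sK : Spec (CommRingCat.of K) ⟶ _)) ⋙ FEt.restrict e.hom).EssSurj :=
      Functor.essSurj_comp _ _
    exact Functor.essSurj_of_iso iso.symm
  haveI : (FEt.restrict i).EssSurj :=
    ⟨fun Y => exists_ext i Y (fun U' => ext_of_essSurj i Y (hloc U'))⟩
  exact { }

end PI

end Groth.Agent.R2.H2.FEtPerf
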