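import Groth.Prelude.Def_Wider
import Mathlib

/-! Self-equivalences of the category of finite length modules over a Noetherian local ring
(helper2, round 2). Used for S0362. -/

set_option autoImplicit false
set_option linter.unusedSectionVars false
universe u
open CategoryTheory IsLocalRing

namespace Groth.Agent.R2.H2.FinLenEquiv

variable {A : Type u} [CommRing A]

/-- the underlying linear map of a morphism of finite length modules -/
noncomputable def toLin {M N : Dual.FinLen A} (f : M ⟶ N) : M.obj →ₗ[A] N.obj := f.hom.hom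

/-- a linear map as a morphism of finite length modules -/
noncomputable def ofLin {M N : Dual.FinLen A} (g : M.obj →ₗ[A] N.obj) : M ⟶ N :=
  ObjectProperty.homMk (ModuleCat.ofHom g)

theorem toLin_ofLin {M N : Dual.FinLen A} (g : M.obj →ₗ[A] N.obj) : toLin (ofLin g) = g := rfl
theorem ofLin_toLin {M N : Dual.FinLen A} (f : M ⟶ N) : ofLin (toLin f) = f := rfl
theorem toLin_comp {M N K : Dual.FinLen A} (f : M ⟶ N) (g : N ⟶ K) :
    toLin (f ≫ g) = (toLin g).comp (toLin f) := rfl
theorem toLin_comp_apply {M N K : Dual.FinLen A} (f : M ⟶ N) (g : N ⟶ K) (x : M.obj) :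
    toLin (f ≫ g) x = toLin g (toLin f x) := rfl
theorem toLin_id (M : Dual.FinLen A) : toLin (𝟙 M) = LinearMap.id := rfl
theorem toLin_add {M N : Dual.FinLen A} (f g : M ⟶ N) : toLin (f + g) = toLin f + toLin g := rfl
theorem toLin_zero {M N : Dual.FinLen A} : toLin (0 : M ⟶ N) = 0 := rfl
theorem toLin_smul {M N : Dual.FinLen A} (a : A) (f : M ⟶ N) : toLin (a • f) = a • toLin f := rfl
theorem toLin_injective {M N : Dual.FinLen A} : Function.Injective (toLin : (M ⟶ N) → _) := by
  intro f g h
  apply ObjectProperty.hom_ext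
  apply ModuleCat.hom_ext
  exact h

theorem ofLin_comp {M N K : Dual.FinLen A} (f : M.obj →ₗ[A] N.obj) (g : N.obj →ₗ[A] K.obj) :
    ofLin (g.comp f) = ofLin f ≫ ofLin g := rfl

/-- an object of `FinLen A` from a finite length module -/
noncomputable def mkObj (M : Type u) [AddCommGroup M] [Module A M] (h : IsFiniteLength A M) :
    Dual.FinLen A := ⟨ModuleCat.of A M, h⟩

/-- a bijective linear map gives an isomorphism -/
noncomputable def isoOfBijective {M N : Dual.FinLen A} (g : M.obj →ₗ[A] N.obj)
    (hg : Function.Bijective g) : M ≅ N where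
  hom := ofLin g
  inv := ofLin (LinearEquiv.ofBijective g hg).symm.toLinearMap
  hom_inv_id := by
    apply toLin_injective
    rw [toLin_comp, toLin_ofLin, toLin_ofLin, toLin_id]
    ext x
    exact (LinearEquiv.ofBijective g hg).symm_apply_apply x
  inv_hom_id := by
    apply toLin_injective
    rw [toLin_comp, toLin_ofLin, toLin_ofLin, toLin_id]
    ext x
    exact (LinearEquiv.ofBijective g hg).apply_symm_apply x

theorem epi_of_surjective {M N : Dual.FinLen A} (f : M ⟶ N) (hf : Function.Surjective (toLin f)) :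
    Epi f := by
  constructor
  intro K g h e
  apply toLin_injective
  ext y
  obtain ⟨x, rfl⟩ := hf y
  have := congrArg (fun t => toLin t x) e
  simpa [toLin_comp_apply] using this

theorem surjective_of_epi {M N : Dual.FinLen A} (f : M ⟶ N) [Epi f] :
    Function.Surjective (toLin f) := by
  let R : Submodule A N.obj := LinearMap.range (toLin f)
  have hT : IsFiniteLength A (N.obj ⧸ R) := N.property.of_surjective (f := R.mkQ) R.mkQ_surjective
  let T : Dual.FinLen A := mkObj (N.obj ⧸ R) hT
  let q : N ⟶ T := ofLin R.mkQ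
  have h1 : f ≫ q = f ≫ 0 := by
    apply toLin_injective
    ext x
    rw [toLin_comp_apply]
    change R.mkQ (toLin f x) = 0
    rw [Submodule.mkQ_apply, Submodule.Quotient.mk_eq_zero]
    exact LinearMap.mem_range_self _ x
  have h2 : q = 0 := (cancel_epi f).mp h1
  have h3 : R.mkQ = 0 := congrArg toLin h2
  have h4 : R = ⊤ := by
    rw [← Submodule.ker_mkQ R, h3, LinearMap.ker_zero]
  exact LinearMap.range_eq_top.mp h4


/-- "local object": any two non-epimorphisms into `Q` are killed by a common nonzero map. -/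
def LocalObj (Q : Dual.FinLen A) : Prop :=
  ∀ (M N : Dual.FinLen A) (f : M ⟶ Q) (g : N ⟶ Q), ¬ Epi f → ¬ Epi g →
    ∃ (T : Dual.FinLen A) (h : Q ⟶ T), h ≠ 0 ∧ f ≫ h = 0 ∧ g ≫ h = 0

theorem LocalObj.map (F : Dual.FinLen A ≌ Dual.FinLen A) [F.functor.Additive]
    {P : Dual.FinLen A} (hP : LocalObj P) : LocalObj (F.functor.obj P) := by
  intro M N f g hf hg
  let eM : F.functor.obj (F.inverse.obj M) ≅ M := F.counitIso.app M
  let eN : F.functor.obj (F.inverse.obj N) ≅ N := F.counitIso.app N
  let f' : F.inverse.obj M ⟶ P := F.functor.preimage (eM.hom ≫ f)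
  let g' : F.inverse.obj N ⟶ P := F.functor.preimage (eN.hom ≫ g)
  have hf' : F.functor.map f' = eM.hom ≫ f := F.functor.map_preimage _
  have hg' : F.functor.map g' = eN.hom ≫ g := F.functor.map_preimage _
  have hf'' : ¬ Epi f' := by
    intro h
    apply hf
    have h1 : Epi (F.functor.map f') := inferInstance
    rw [hf'] at h1
    have : f = eM.inv ≫ (eM.hom ≫ f) := by simp
    rw [this]
    infer_instance
  have hg'' : ¬ Epi g' := by
    intro h
    apply hg
    have h1 : Epi (F.functor.map g') := inferInstance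
    rw [hg'] at h1
    have : g = eN.inv ≫ (eN.hom ≫ g) := by simp
    rw [this]
    infer_instance
  obtain ⟨T, h, h0, h1, h2⟩ := hP _ _ f' g' hf'' hg''
  refine ⟨F.functor.obj T, F.functor.map h, ?_, ?_, ?_⟩
  · intro e
    apply h0
    apply F.functor.map_injective
    rw [e, Functor.map_zero]
  · have : f = eM.inv ≫ F.functor.map f' := by rw [hf']; simp
    rw [this, Category.assoc, ← Functor.map_comp, h1, Functor.map_zero, Limits.comp_zero]
  · have : g = eN.inv ≫ F.functor.map g' := by rw [hg']; simp
    rw [this, Category.assoc, ← Functor.map_comp, h2, Functor.map_zero, Limits.comp_zero]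

/-- the inclusion of a submodule as a morphism in `FinLen A` -/
noncomputable def subObj (Q : Dual.FinLen A) (S : Submodule A Q.obj) : Dual.FinLen A :=
  mkObj S (Q.property.of_injective (f := S.subtype) S.injective_subtype)

noncomputable def subIncl (Q : Dual.FinLen A) (S : Submodule A Q.obj) : subObj Q S ⟶ Q :=
  ofLin S.subtype

theorem not_epi_subIncl (Q : Dual.FinLen A) (S : Submodule A Q.obj) (hS : S ≠ ⊤) :
    ¬ Epi (subIncl Q S) := by
  intro h
  apply hS
  have := surjective_of_epi (subIncl Q S)
  rw [eq_top_iff]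
  intro y _
  obtain ⟨x, hx⟩ := this y
  rw [← hx]
  exact x.2

theorem LocalObj.exists_generator {Q : Dual.FinLen A} (hQ : LocalObj Q) :
    ∃ u : Q.obj, Submodule.span A {u} = ⊤ := by
  by_cases hsub : Subsingleton Q.obj
  · exact ⟨0, Subsingleton.elim _ _⟩
  rw [not_subsingleton_iff_nontrivial] at hsub
  have : IsNoetherian A Q.obj := (isFiniteLength_iff_isNoetherian_isArtinian.mp Q.property).1
  obtain ⟨N, hN⟩ : ∃ N : Submodule A Q.obj, IsCoatom N := by
    obtain h | ⟨N, hN, -⟩ := eq_top_or_exists_le_coatom (⊥ : Submodule A Q.obj)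
    · exact absurd h bot_ne_top
    · exact ⟨N, hN⟩
  obtain ⟨x, hx⟩ : ∃ x : Q.obj, x ∉ N := by
    by_contra hcon
    push Not at hcon
    exact hN.1 (eq_top_iff.mpr fun y _ => hcon y)
  refine ⟨x, ?_⟩
  by_contra hS
  obtain ⟨T, h, h0, h1, h2⟩ := hQ _ _ (subIncl Q N) (subIncl Q (Submodule.span A {x}))
    (not_epi_subIncl Q N hN.1) (not_epi_subIncl Q _ hS)
  have hN' : N ≤ LinearMap.ker (toLin h) := by
    intro y hy
    have := congrArg (fun t => toLin t (show (subObj Q N).obj from (⟨y, hy⟩ : N))) h1
    exact this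
  have hx' : x ∈ LinearMap.ker (toLin h) := by
    have := congrArg (fun t => toLin t (show (subObj Q (Submodule.span A {x})).obj from
      (⟨x, Submodule.mem_span_singleton_self x⟩ : Submodule.span A {x}))) h2
    exact this
  have hlt : N < LinearMap.ker (toLin h) := lt_of_le_of_ne hN' (fun e => hx (e ▸ hx'))
  have htop : LinearMap.ker (toLin h) = ⊤ := hN.2 _ hlt
  apply h0
  apply toLin_injective
  rw [toLin_zero]
  exact LinearMap.ker_eq_top.mp htop


section Local

variable [IsLocalRing A] [IsNoetherianRing A]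

theorem isFiniteLength_of_finite_of_pow_smul (F : Type u) [AddCommGroup F] [Module A F]
    [Module.Finite A F] (k : ℕ) (hk : ∀ a ∈ maximalIdeal A ^ k, ∀ x : F, a • x = 0) :
    IsFiniteLength A F := by
  by_cases hF : Subsingleton F
  · exact IsFiniteLength.of_subsingleton
  have hk0 : k ≠ 0 := by
    rintro rfl
    apply hF
    refine ⟨fun x y => ?_⟩
    have h1 := hk 1 (by simp) x
    have h2 := hk 1 (by simp) y
    rw [one_smul] at h1 h2
    rw [h1, h2]
  have hp : maximalIdeal A ∈ (maximalIdeal A ^ k).minimalPrimes := by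
    refine ⟨⟨inferInstance, Ideal.pow_le_self hk0⟩, fun q hq _ => ?_⟩
    exact hq.1.le_of_pow_le hq.2
  have hart : IsArtinianRing (A ⧸ maximalIdeal A ^ k) :=
    IsLocalRing.quotient_artinian_of_mem_minimalPrimes_of_isLocalRing _ hp
  have hM : Module.IsTorsionBySet A F (maximalIdeal A ^ k : Ideal A) := fun x a => hk a.1 a.2 x
  let _ : Module (A ⧸ maximalIdeal A ^ k) F := hM.module
  have : IsScalarTower A (A ⧸ maximalIdeal A ^ k) F := hM.isScalarTower
  have : Module.Finite (A ⧸ maximalIdeal A ^ k) F := Module.Finite.of_restrictScalars_finite A _ F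
  have : IsArtinian (A ⧸ maximalIdeal A ^ k) F := inferInstance
  have hA : IsArtinian A F :=
    isArtinian_of_surjective_algebraMap (R := A ⧸ maximalIdeal A ^ k) Ideal.Quotient.mk_surjective
  have hN : IsNoetherian A F := isNoetherian_of_isNoetherianRing_of_finite A F
  exact isFiniteLength_iff_isNoetherian_isArtinian.mpr ⟨hN, hA⟩

theorem isFiniteLength_quot_pow (n : ℕ) : IsFiniteLength A (A ⧸ maximalIdeal A ^ n) := by
  apply isFiniteLength_of_finite_of_pow_smul _ n
  intro a ha x
  obtain ⟨b, rfl⟩ := Ideal.Quotient.mk_surjective x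
  change Ideal.Quotient.mk _ (a * b) = 0
  rw [Ideal.Quotient.eq_zero_iff_mem]
  exact Ideal.mul_mem_right _ _ ha

/-- the object `A / m^n` -/
noncomputable def P (n : ℕ) : Dual.FinLen A :=
  mkObj (A ⧸ maximalIdeal A ^ n) (isFiniteLength_quot_pow n)

/-- the class of `1` in `A / m^n` -/
noncomputable def one' (n : ℕ) : (P (A := A) n).obj :=
  (Ideal.Quotient.mk (maximalIdeal A ^ n) 1 : A ⧸ maximalIdeal A ^ n)

/-- `M` is killed by `m^n` -/
def Killed (n : ℕ) (M : Dual.FinLen A) : Prop :=
  ∀ a ∈ maximalIdeal A ^ n, ∀ x : M.obj, a • x = 0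

omit [IsNoetherianRing A] in
theorem exists_pow_smul_eq_zero_of_isFiniteLength (X : Type u) [AddCommGroup X] [Module A X]
    (h : IsFiniteLength A X) : ∃ k : ℕ, ∀ a ∈ maximalIdeal A ^ k, ∀ x : X, a • x = 0 := by
  induction h with
  | @of_subsingleton M _ _ _ => exact ⟨0, fun a _ x => Subsingleton.elim _ _⟩
  | @of_simple_quotient M _ _ N hs hN ih =>
    obtain ⟨k, hk⟩ := ih
    refine ⟨k + 1, ?_⟩
    have hmN : ∀ a ∈ maximalIdeal A, ∀ x : M, a • x ∈ N := by
      intro a ha x
      obtain ⟨I, hI, ⟨e⟩⟩ := isSimpleModule_iff_quot_maximal.mp hs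
      have hIm : I = maximalIdeal A := IsLocalRing.eq_maximalIdeal hI
      rw [← Submodule.Quotient.mk_eq_zero, Submodule.Quotient.mk_smul]
      apply e.injective
      rw [map_smul, map_zero]
      obtain ⟨c, hc⟩ := Ideal.Quotient.mk_surjective (e (Submodule.Quotient.mk x))
      rw [← hc]
      change Ideal.Quotient.mk I (a * c) = 0
      rw [Ideal.Quotient.eq_zero_iff_mem, hIm]
      exact Ideal.mul_mem_right _ _ ha
    intro a ha x
    rw [pow_succ] at ha
    refine Submodule.mul_induction_on ha ?_ ?_
    · intro b hb c hc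
      rw [mul_smul]
      have h1 := hk b hb ⟨c • x, hmN c hc x⟩
      exact congrArg Subtype.val h1
    · intro y z hy hz
      rw [add_smul, hy, hz, add_zero]

theorem exists_killed (M : Dual.FinLen A) : ∃ n, Killed n M :=
  exists_pow_smul_eq_zero_of_isFiniteLength M.obj M.property

omit [IsNoetherianRing A] in
theorem Killed.mono {n n' : ℕ} (h : n ≤ n') {M : Dual.FinLen A} (hM : Killed n M) : Killed n' M :=
  fun a ha x => hM a (Ideal.pow_le_pow_right h ha) x

theorem killed_P (n : ℕ) : Killed n (P (A := A) n) := by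
  intro a ha x
  obtain ⟨b, rfl⟩ := Ideal.Quotient.mk_surjective (I := maximalIdeal A ^ n) x
  change Ideal.Quotient.mk _ (a * b) = 0
  rw [Ideal.Quotient.eq_zero_iff_mem]
  exact Ideal.mul_mem_right _ _ ha

omit [IsNoetherianRing A] in
theorem smul_id_eq_zero {n : ℕ} {M : Dual.FinLen A} (hM : Killed n M) (a : A)
    (ha : a ∈ maximalIdeal A ^ n) : a • 𝟙 M = 0 := by
  apply toLin_injective
  rw [toLin_smul, toLin_id, toLin_zero]
  ext x
  exact hM a ha x

theorem Killed.map (F : Dual.FinLen A ≌ Dual.FinLen A) [F.functor.Additive] [F.functor.Linear A]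
    {n : ℕ} {M : Dual.FinLen A} (hM : Killed n M) : Killed n (F.functor.obj M) := by
  intro a ha y
  have h1 : a • 𝟙 (F.functor.obj M) = 0 := by
    rw [← F.functor.map_id, ← Functor.map_smul, smul_id_eq_zero hM a ha, Functor.map_zero]
  have h2 := congrArg (fun t => toLin t y) h1
  exact h2

/-- the morphism `A / m^n ⟶ M` sending `1` to `x` -/
noncomputable def phi {n : ℕ} {M : Dual.FinLen A} (hM : Killed n M) (x : M.obj) : P n ⟶ M :=
  ofLin (Submodule.liftQ (maximalIdeal A ^ n) (LinearMap.toSpanSingleton A M.obj x)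
    (fun a ha => by
      rw [LinearMap.mem_ker, LinearMap.toSpanSingleton_apply]
      exact hM a ha x))

theorem phi_one {n : ℕ} {M : Dual.FinLen A} (hM : Killed n M) (x : M.obj) :
    toLin (phi hM x) (one' n) = x := by
  change (Submodule.liftQ _ _ _) (Submodule.Quotient.mk (1 : A)) = x
  rw [Submodule.liftQ_apply, LinearMap.toSpanSingleton_apply, one_smul]

theorem hom_P_ext {n : ℕ} {M : Dual.FinLen A} (f g : P n ⟶ M)
    (h : toLin f (one' n) = toLin g (one' n)) : f = g := by
  apply toLin_injective
  let f' : (A ⧸ maximalIdeal A ^ n) →ₗ[A] M.obj := toLin f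
  let g' : (A ⧸ maximalIdeal A ^ n) →ₗ[A] M.obj := toLin g
  change f' = g'
  apply Submodule.linearMap_qext
  apply LinearMap.ext_ring
  exact h

theorem phi_comp {n : ℕ} {M N : Dual.FinLen A} (hM : Killed n M) (hN : Killed n N) (x : M.obj)
    (g : M ⟶ N) : phi hM x ≫ g = phi hN (toLin g x) := by
  apply hom_P_ext
  rw [toLin_comp_apply, phi_one, phi_one]

theorem phi_toLin {n : ℕ} {M : Dual.FinLen A} (hM : Killed n M) (f : P n ⟶ M) :
    phi hM (toLin f (one' n)) = f := by
  apply hom_P_ext
  rw [phi_one]

theorem phi_add {n : ℕ} {M : Dual.FinLen A} (hM : Killed n M) (x y : M.obj) :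
    phi hM (x + y) = phi hM x + phi hM y := by
  apply hom_P_ext
  rw [phi_one, toLin_add, LinearMap.add_apply, phi_one, phi_one]

theorem phi_smul {n : ℕ} {M : Dual.FinLen A} (hM : Killed n M) (a : A) (x : M.obj) :
    phi hM (a • x) = a • phi hM x := by
  apply hom_P_ext
  rw [phi_one, toLin_smul, LinearMap.smul_apply, phi_one]

/-- the projection `A / m^(n+1) ⟶ A / m^n` -/
noncomputable def pr (n : ℕ) : P (A := A) (n + 1) ⟶ P n :=
  phi ((killed_P n).mono (Nat.le_succ n)) (one' n)

theorem pr_phi {n : ℕ} {M : Dual.FinLen A} (hM : Killed n M) (x : M.obj) :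
    pr n ≫ phi hM x = phi (hM.mono (Nat.le_succ n)) x := by
  apply hom_P_ext
  rw [toLin_comp_apply, pr, phi_one, phi_one, phi_one]


theorem eq_zero_of_killed_zero {M : Dual.FinLen A} (hM : Killed 0 M) (x : M.obj) : x = 0 := by
  have := hM 1 (by simp) x
  rwa [one_smul] at this

theorem one'_ne_zero : one' (A := A) 1 ≠ 0 := by
  intro h
  have h1 : (Ideal.Quotient.mk (maximalIdeal A ^ 1) 1 : A ⧸ maximalIdeal A ^ 1) = 0 := h
  rw [Ideal.Quotient.eq_zero_iff_mem, pow_one] at h1
  exact (Ideal.ne_top_iff_one _).mp (IsLocalRing.maximalIdeal.isMaximal A).ne_top h1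

theorem mk_smul_one' (n : ℕ) (a : A) :
    ((Ideal.Quotient.mk (maximalIdeal A ^ n) a : A ⧸ maximalIdeal A ^ n) : (P (A := A) n).obj) =
      a • one' n := by
  change _ = a • (Ideal.Quotient.mk (maximalIdeal A ^ n) 1 : A ⧸ maximalIdeal A ^ n)
  rw [Algebra.smul_def, map_one, mul_one]
  rfl

theorem localObj_P (n : ℕ) : LocalObj (P (A := A) n) := by
  intro M N f g hf hg
  cases n with
  | zero =>
    exfalso
    apply hf
    apply epi_of_surjective
    intro y
    exact ⟨0, by rw [map_zero]; exact (eq_zero_of_killed_zero (killed_P 0) y).symm⟩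
  | succ n =>
    have hk : Killed (n + 1) (P (A := A) 1) := (killed_P 1).mono (Nat.succ_le_succ (Nat.zero_le n))
    refine ⟨P 1, phi hk (one' 1), ?_, ?_, ?_⟩
    · intro e
      have := congrArg (fun t => toLin t (one' (n + 1))) e
      simp only [phi_one, toLin_zero, LinearMap.zero_apply] at this
      exact one'_ne_zero this
    all_goals
      apply toLin_injective
      rw [toLin_zero]
      ext x
      rw [toLin_comp_apply, LinearMap.zero_apply]
    · obtain ⟨a, ha⟩ := Ideal.Quotient.mk_surjective (I := maximalIdeal A ^ (n + 1)) (toLin f x)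
      have hy : toLin f x = a • one' (n + 1) := ha.symm.trans (mk_smul_one' (n + 1) a)
      by_cases ham : a ∈ maximalIdeal A
      · rw [hy, map_smul, phi_one]
        have : a • one' (A := A) 1 = 0 := by
          apply killed_P 1
          rwa [pow_one]
        exact this
      · exfalso
        apply hf
        apply epi_of_surjective
        have hu : IsUnit a := by
          by_contra h
          exact ham ((IsLocalRing.mem_maximalIdeal a).mpr h)
        obtain ⟨v, rfl⟩ := hu
        intro z
        obtain ⟨b, hb⟩ := Ideal.Quotient.mk_surjective (I := maximalIdeal A ^ (n + 1)) z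
        refine ⟨(b * ↑v⁻¹) • x, ?_⟩
        rw [map_smul, hy, smul_smul, mul_assoc, Units.inv_mul, mul_one]
        exact (mk_smul_one' (n + 1) b).symm.trans hb
    · obtain ⟨a, ha⟩ := Ideal.Quotient.mk_surjective (I := maximalIdeal A ^ (n + 1)) (toLin g x)
      have hy : toLin g x = a • one' (n + 1) := ha.symm.trans (mk_smul_one' (n + 1) a)
      by_cases ham : a ∈ maximalIdeal A
      · rw [hy, map_smul, phi_one]
        have : a • one' (A := A) 1 = 0 := by
          apply killed_P 1
          rwa [pow_one]
        exact this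
      · exfalso
        apply hg
        apply epi_of_surjective
        have hu : IsUnit a := by
          by_contra h
          exact ham ((IsLocalRing.mem_maximalIdeal a).mpr h)
        obtain ⟨v, rfl⟩ := hu
        intro z
        obtain ⟨b, hb⟩ := Ideal.Quotient.mk_surjective (I := maximalIdeal A ^ (n + 1)) z
        refine ⟨(b * ↑v⁻¹) • x, ?_⟩
        rw [map_smul, hy, smul_smul, mul_assoc, Units.inv_mul, mul_one]
        exact (mk_smul_one' (n + 1) b).symm.trans hb


section Equiv

variable (F : Dual.FinLen A ≌ Dual.FinLen A) [F.functor.Additive] [F.functor.Linear A]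

theorem exists_generator_FP (n : ℕ) :
    ∃ u : (F.functor.obj (P n)).obj, Submodule.span A {u} = ⊤ :=
  ((localObj_P n).map F).exists_generator

theorem mem_pow_of_smul_generator_eq_zero {n : ℕ} (u : (F.functor.obj (P n)).obj)
    (hu : Submodule.span A {u} = ⊤) (a : A) (ha : a • u = 0) : a ∈ maximalIdeal A ^ n := by
  have h1 : a • 𝟙 (F.functor.obj (P n)) = 0 := by
    apply toLin_injective
    rw [toLin_smul, toLin_id, toLin_zero]
    ext y
    have hy : y ∈ Submodule.span A {u} := hu ▸ Submodule.mem_top
    obtain ⟨b, rfl⟩ := Submodule.mem_span_singleton.mp hy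
    rw [LinearMap.smul_apply, LinearMap.id_apply, LinearMap.zero_apply, smul_comm, ha, smul_zero]
  have h2 : F.functor.map (a • 𝟙 (P n)) = F.functor.map 0 := by
    rw [Functor.map_smul, F.functor.map_id, h1, Functor.map_zero]
  have h3 : a • 𝟙 (P (A := A) n) = 0 := F.functor.map_injective h2
  have h4 := congrArg (fun t => toLin t (one' n)) h3
  have h5 : a • one' (A := A) n = 0 := h4
  exact Ideal.Quotient.eq_zero_iff_mem.mp ((mk_smul_one' n a).trans h5)

theorem pr_surjective (n : ℕ) : Function.Surjective (toLin (pr (A := A) n)) := by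
  intro y
  obtain ⟨b, hb⟩ := Ideal.Quotient.mk_surjective (I := maximalIdeal A ^ n) y
  refine ⟨b • one' (n + 1), ?_⟩
  rw [map_smul, pr, phi_one]
  exact (mk_smul_one' n b).symm.trans hb

theorem exists_lift_generator (n : ℕ) (u : (F.functor.obj (P n)).obj)
    (hu : Submodule.span A {u} = ⊤) :
    ∃ u' : (F.functor.obj (P (n + 1))).obj, Submodule.span A {u'} = ⊤ ∧
      toLin (F.functor.map (pr n)) u' = u := by
  obtain ⟨w, hw⟩ := exists_generator_FP F (n + 1)
  have hepi : Epi (pr (A := A) n) := epi_of_surjective _ (pr_surjective n)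
  have hepi' : Epi (F.functor.map (pr (A := A) n)) := inferInstance
  have hsurj := surjective_of_epi (F.functor.map (pr (A := A) n))
  set wb := toLin (F.functor.map (pr n)) w with hwb
  have hwb_gen : ∀ y : (F.functor.obj (P n)).obj, ∃ c : A, c • wb = y := by
    intro y
    obtain ⟨z, rfl⟩ := hsurj y
    have hz : z ∈ Submodule.span A {w} := hw ▸ Submodule.mem_top
    obtain ⟨c, rfl⟩ := Submodule.mem_span_singleton.mp hz
    exact ⟨c, by rw [map_smul]⟩
  obtain ⟨a, ha⟩ := hwb_gen u
  have hwbu : wb ∈ Submodule.span A {u} := hu ▸ Submodule.mem_top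
  obtain ⟨b, hb⟩ := Submodule.mem_span_singleton.mp hwbu
  by_cases hau : IsUnit a
  · obtain ⟨v, rfl⟩ := hau
    refine ⟨(v : A) • w, ?_, ?_⟩
    · rw [eq_top_iff]
      intro y _
      have hy : y ∈ Submodule.span A {w} := hw ▸ Submodule.mem_top
      obtain ⟨c, rfl⟩ := Submodule.mem_span_singleton.mp hy
      refine Submodule.mem_span_singleton.mpr ⟨c * ↑v⁻¹, ?_⟩
      rw [smul_smul, mul_assoc, Units.inv_mul, mul_one]
    · rw [map_smul]
      exact ha
  · have ham : a ∈ maximalIdeal A := (IsLocalRing.mem_maximalIdeal a).mpr hau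
    have h1 : (1 - b * a) • wb = 0 := by
      rw [sub_smul, one_smul, mul_smul, ha, hb, sub_self]
    have h2 : IsUnit (1 - b * a) := by
      by_contra h
      have h3 : 1 - b * a ∈ maximalIdeal A := (IsLocalRing.mem_maximalIdeal _).mpr h
      have h4 : b * a ∈ maximalIdeal A := Ideal.mul_mem_left _ _ ham
      have h5 : (1 : A) ∈ maximalIdeal A := by
        have := Ideal.add_mem _ h3 h4
        rwa [sub_add_cancel] at this
      exact (Ideal.ne_top_iff_one _).mp (IsLocalRing.maximalIdeal.isMaximal A).ne_top h5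
    obtain ⟨v, hv⟩ := h2
    have h6 : wb = 0 := by
      have := congrArg (fun t => (↑v⁻¹ : A) • t) h1
      simp only [smul_zero] at this
      rwa [← hv, smul_smul, Units.inv_mul, one_smul] at this
    refine ⟨w, hw, ?_⟩
    rw [← ha, ← hwb, h6, smul_zero]

/-- a compatible system of generators of `F (A / m^n)` -/
noncomputable def genSeq :
    (n : ℕ) → {u : (F.functor.obj (P n)).obj // Submodule.span A {u} = ⊤}
  | 0 => ⟨Classical.choose (exists_generator_FP F 0),
      Classical.choose_spec (exists_generator_FP F 0)⟩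
  | n + 1 => ⟨Classical.choose (exists_lift_generator F n (genSeq n).1 (genSeq n).2),
      (Classical.choose_spec (exists_lift_generator F n (genSeq n).1 (genSeq n).2)).1⟩

theorem genSeq_compat (n : ℕ) :
    toLin (F.functor.map (pr n)) (genSeq F (n + 1)).1 = (genSeq F n).1 :=
  (Classical.choose_spec (exists_lift_generator F n (genSeq F n).1 (genSeq F n).2)).2

/-- the isomorphism `A / m^n ≅ F (A / m^n)` given by the chosen generator -/
noncomputable def psi (n : ℕ) : P n ⟶ F.functor.obj (P n) :=
  phi ((killed_P n).map F) (genSeq F n).1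

theorem psi_bijective (n : ℕ) : Function.Bijective (toLin (psi F n)) := by
  constructor
  · rw [← LinearMap.ker_eq_bot, eq_bot_iff]
    intro y hy
    obtain ⟨a, ha⟩ := Ideal.Quotient.mk_surjective (I := maximalIdeal A ^ n) y
    have hy' : y = a • one' n := ha.symm.trans (mk_smul_one' n a)
    rw [LinearMap.mem_ker, hy', map_smul, psi, phi_one] at hy
    have := mem_pow_of_smul_generator_eq_zero F _ (genSeq F n).2 a hy
    rw [Submodule.mem_bot, ← ha]
    exact Ideal.Quotient.eq_zero_iff_mem.mpr this
  · intro z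
    have hz : z ∈ Submodule.span A {(genSeq F n).1} := by
      rw [(genSeq F n).2]
      exact Submodule.mem_top
    obtain ⟨a, rfl⟩ := Submodule.mem_span_singleton.mp hz
    exact ⟨a • one' n, by rw [map_smul, psi, phi_one]⟩

instance psi_isIso (n : ℕ) : IsIso (psi F n) :=
  (isoOfBijective (toLin (psi F n)) (psi_bijective F n)).isIso_hom

theorem ev_bijective {n : ℕ} {N : Dual.FinLen A} (hN : Killed n N) :
    Function.Bijective (fun f : F.functor.obj (P n) ⟶ N => toLin f (genSeq F n).1) := by
  have h1 : (fun f : F.functor.obj (P n) ⟶ N => toLin f (genSeq F n).1) =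
      (fun g : P n ⟶ N => toLin g (one' n)) ∘ (fun f => psi F n ≫ f) := by
    funext f
    simp only [Function.comp_apply, toLin_comp_apply, psi, phi_one]
  rw [h1]
  refine Function.Bijective.comp ?_ ?_
  · constructor
    · intro f g h
      exact hom_P_ext f g h
    · intro x
      exact ⟨phi hN x, phi_one hN x⟩
  · constructor
    · intro f g h
      exact (cancel_epi (psi F n)).mp h
    · intro g
      exact ⟨inv (psi F n) ≫ g, by simp⟩

/-- the comparison map `M ⟶ F M` at level `n` -/
noncomputable def eta {n : ℕ} {M : Dual.FinLen A} (hM : Killed n M) :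
    M.obj →ₗ[A] (F.functor.obj M).obj where
  toFun x := toLin (F.functor.map (phi hM x)) (genSeq F n).1
  map_add' x y := by
    rw [phi_add, Functor.map_add, toLin_add, LinearMap.add_apply]
  map_smul' a x := by
    rw [phi_smul, Functor.map_smul, toLin_smul, LinearMap.smul_apply, RingHom.id_apply]

theorem eta_apply {n : ℕ} {M : Dual.FinLen A} (hM : Killed n M) (x : M.obj) :
    eta F hM x = toLin (F.functor.map (phi hM x)) (genSeq F n).1 := rfl

theorem eta_bijective {n : ℕ} {M : Dual.FinLen A} (hM : Killed n M) :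
    Function.Bijective (eta F hM) := by
  have hev := ev_bijective F (hM.map F)
  constructor
  · intro x y h
    have h1 : F.functor.map (phi hM x) = F.functor.map (phi hM y) := hev.1 h
    have h2 : phi hM x = phi hM y := F.functor.map_injective h1
    have h3 := congrArg (fun t => toLin t (one' n)) h2
    simpa only [phi_one] using h3
  · intro z
    obtain ⟨f, hf⟩ := hev.2 z
    obtain ⟨f', rfl⟩ := F.functor.map_surjective f
    refine ⟨toLin f' (one' n), ?_⟩
    rw [eta_apply, phi_toLin]
    exact hf

theorem eta_succ {n : ℕ} {M : Dual.FinLen A} (hM : Killed n M) :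
    eta F (hM.mono (Nat.le_succ n)) = eta F hM := by
  ext x
  rw [eta_apply, eta_apply, ← pr_phi hM x, Functor.map_comp, toLin_comp_apply, genSeq_compat]

theorem eta_mono {n n' : ℕ} (h : n ≤ n') {M : Dual.FinLen A} (hM : Killed n M) :
    eta F (hM.mono h) = eta F hM := by
  induction n', h using Nat.le_induction with
  | base => rfl
  | succ k hk ih =>
    have := eta_succ F (hM.mono hk)
    exact this.trans ih

theorem eta_natural {n : ℕ} {M N : Dual.FinLen A} (hM : Killed n M) (hN : Killed n N)
    (g : M ⟶ N) (x : M.obj) :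
    toLin (F.functor.map g) (eta F hM x) = eta F hN (toLin g x) := by
  rw [eta_apply, eta_apply, ← toLin_comp_apply, ← Functor.map_comp, phi_comp hM hN]

/-- the chosen level for `M` -/
noncomputable def lvl (M : Dual.FinLen A) : ℕ := Classical.choose (exists_killed M)

theorem lvl_spec (M : Dual.FinLen A) : Killed (lvl M) M := Classical.choose_spec (exists_killed M)

/-- the natural isomorphism `𝟭 ≅ F` -/
noncomputable def natIso : 𝟭 (Dual.FinLen A) ≅ F.functor :=
  NatIso.ofComponents
    (fun M => isoOfBijective (eta F (lvl_spec M)) (eta_bijective F (lvl_spec M)))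
    (by
      intro M N g
      apply toLin_injective
      ext x
      change eta F (lvl_spec N) (toLin g x) = toLin (F.functor.map g) (eta F (lvl_spec M) x)
      rw [← eta_mono F (le_max_left (lvl M) (lvl N)) (lvl_spec M),
        ← eta_mono F (le_max_right (lvl M) (lvl N)) (lvl_spec N), eta_natural])

theorem main : Nonempty (F.functor ≅ 𝟭 (Dual.FinLen A)) := ⟨(natIso F).symm⟩

end Equiv

end Local

end Groth.Agent.R2.H2.FinLenEquiv
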