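import Mathlib

set_option autoImplicit false
universe u
open PrimeSpectrum

namespace Groth.Agent.R2.H2.QFNowhere

variable {A B : Type u} [CommRing A] [CommRing B] [Algebra A B]

/-- `Gen I n p` : modulo `I`, near the prime `p` of `A`, the `A`-module `B` is generated by `n`
elements. -/
def Gen (I : Ideal B) (n : ℕ) (p : Ideal A) : Prop :=
  ∃ s : A, s ∉ p ∧ ∃ m : Fin n → B, ∀ x : B, ∃ c : Fin n → A,
    s • x - ∑ i, c i • m i ∈ I

theorem gen_of_span_eq_top (I : Ideal B) {N : ℕ} (β : Fin N → B)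
    (hβ : Submodule.span A (Set.range β) = ⊤) (p : Ideal A) [p.IsPrime] : Gen I N p := by
  refine ⟨1, p.one_notMem, β, fun x => ?_⟩
  have hx : x ∈ Submodule.span A (Set.range β) := hβ ▸ Submodule.mem_top
  obtain ⟨c, hc⟩ := (Submodule.mem_span_range_iff_exists_fun A).mp hx
  refine ⟨c, ?_⟩
  rw [one_smul, hc, sub_self]
  exact I.zero_mem

/-- dropping a generator whose coefficient in a relation is a unit near `p` -/
theorem gen_pred (I : Ideal B) {k : ℕ} (p : Ideal A) [p.IsPrime] (s : A) (hs : s ∉ p)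
    (m : Fin (k + 1) → B)
    (hm : ∀ x : B, ∃ c : Fin (k + 1) → A, s • x - ∑ i, c i • m i ∈ I)
    (d : Fin (k + 1) → A) (hd : ∑ i, d i • m i ∈ I) (i₀ : Fin (k + 1)) (hi₀ : d i₀ ∉ p) :
    Gen I k p := by
  refine ⟨d i₀ * s, ‹p.IsPrime›.mul_notMem hi₀ hs, fun j => m (i₀.succAbove j), fun x => ?_⟩
  obtain ⟨c, hc⟩ := hm x
  refine ⟨fun j => d i₀ * c (i₀.succAbove j) - c i₀ * d (i₀.succAbove j), ?_⟩
  have h1 : d i₀ • (s • x - ∑ i, c i • m i) ∈ I := by
    rw [Algebra.smul_def]; exact I.mul_mem_left _ hc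
  have h2 : c i₀ • (∑ i, d i • m i) ∈ I := by
    rw [Algebra.smul_def]; exact I.mul_mem_left _ hd
  have key : (d i₀ * s) • x - ∑ j, (d i₀ * c (i₀.succAbove j) - c i₀ * d (i₀.succAbove j)) •
      m (i₀.succAbove j) = d i₀ • (s • x - ∑ i, c i • m i) + c i₀ • (∑ i, d i • m i) := by
    rw [Fin.sum_univ_succAbove _ i₀, Fin.sum_univ_succAbove (fun i => d i • m i) i₀]
    simp only [smul_sub, smul_add, Finset.smul_sum, sub_smul, mul_smul, Finset.sum_sub_distrib]
    rw [smul_comm (c i₀) (d i₀) (m i₀)]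
    have : ∀ j, c i₀ • d (i₀.succAbove j) • m (i₀.succAbove j) =
        c i₀ • d (i₀.succAbove j) • m (i₀.succAbove j) := fun _ => rfl
    abel
  rw [key]
  exact I.add_mem h1 h2

end Groth.Agent.R2.H2.QFNowhere
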