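import Mathlib
import Groth.Agent.R2.H2QFCore1

set_option autoImplicit false
universe u
open PrimeSpectrum

namespace Groth.Agent.R2.H2.QFNowhere

variable {A B : Type u} [CommRing A] [CommRing B] [Algebra A B]

/-- nilpotence after localizing at a minimal prime, in elementary form: if `z` lies in every prime
`q` of `B` whose contraction is contained in `p`, then `t * z ^ N = 0` for some `t ∉ p`. -/
theorem exists_smul_pow_eq_zero (p : Ideal A) [p.IsPrime] (z : B)
    (hz : ∀ q : Ideal B, q.IsPrime → q.comap (algebraMap A B) ≤ p → z ∈ q) :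
    ∃ t : A, t ∉ p ∧ ∃ N : ℕ, algebraMap A B t * z ^ N = 0 := by
  by_contra hcon
  push Not at hcon
  let S : Submonoid B := Algebra.algebraMapSubmonoid B p.primeCompl ⊔ Submonoid.powers z
  have hdisj : Disjoint ((⊥ : Ideal B) : Set B) (S : Set B) := by
    rw [Set.disjoint_left]
    intro y hy hyS
    have hy0 : y = 0 := hy
    obtain ⟨u, ⟨t, ht, rfl⟩, v, ⟨N, rfl⟩, huv⟩ := Submonoid.mem_sup.mp hyS
    exact hcon t ht N (huv.trans hy0)
  obtain ⟨q, hq, -, hqS⟩ := Ideal.exists_le_prime_disjoint (⊥ : Ideal B) S hdisj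
  have hqp : q.comap (algebraMap A B) ≤ p := by
    intro t ht
    by_contra htp
    exact Set.disjoint_left.mp hqS ht
      (Submonoid.mem_sup_left ⟨t, htp, rfl⟩)
  exact Set.disjoint_left.mp hqS (hz q hq hqp) (Submonoid.mem_sup_right ⟨1, pow_one z⟩)

end Groth.Agent.R2.H2.QFNowhere
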