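import Mathlib
import Groth.Agent.R2.H2QFCore2

set_option autoImplicit false
universe u
open PrimeSpectrum

namespace Groth.Agent.R2.H2.QFNowhere

variable {A B : Type u} [CommRing A] [CommRing B] [Algebra A B]

/-- the image of a closed nowhere dense subset of `Spec B` in `Spec A` is nowhere dense, for `B`
finite over `A` -/
theorem isNowhereDense_image_of_finite [Module.Finite A B] (I : Ideal B)
    (hI : IsNowhereDense (zeroLocus (I : Set B))) :
    IsNowhereDense (comap (algebraMap A B) '' zeroLocus (I : Set B)) := by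
  classical
  have hint : (algebraMap A B).IsIntegral := Algebra.IsIntegral.isIntegral (R := A) (A := B)
  have hclosed : IsClosed (comap (algebraMap A B) '' zeroLocus (I : Set B)) :=
    isClosedMap_comap_of_isIntegral _ hint _ (isClosed_zeroLocus _)
  rw [IsNowhereDense, hclosed.closure_eq]
  by_contra hne
  obtain ⟨x, hx⟩ := Set.nonempty_iff_ne_empty.mpr hne
  obtain ⟨_, ⟨a, rfl⟩, hxa, haI'⟩ :=
    isTopologicalBasis_basic_opens.exists_subset_of_mem_open hx isOpen_interior
  have haI : ∀ p : PrimeSpectrum A, a ∉ p.asIdeal →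
      ∃ q : PrimeSpectrum B, I ≤ q.asIdeal ∧ q.asIdeal.comap (algebraMap A B) = p.asIdeal := by
    intro p hp
    obtain ⟨q, hq, hqp⟩ := interior_subset (haI' (show p ∈ (basicOpen a : Set _) from hp))
    refine ⟨q, (mem_zeroLocus _ _).mp hq, ?_⟩
    rw [← hqp]; rfl
  -- generators of `B`
  obtain ⟨N, β, hβ⟩ := Module.Finite.exists_fin (R := A) (M := B)
  -- the minimal number of generators modulo `I` near points of `D(a)`
  obtain ⟨n, ⟨p₀, hap₀, s, hsp₀, m, hm⟩, hmin⟩ : ∃ n : ℕ,
      (∃ p : PrimeSpectrum A, a ∉ p.asIdeal ∧ Gen I n p.asIdeal) ∧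
      ∀ p : PrimeSpectrum A, a ∉ p.asIdeal → ∀ k < n, ¬ Gen I k p.asIdeal := by
    have hP : ∃ n, ∃ p : PrimeSpectrum A, a ∉ p.asIdeal ∧ Gen I n p.asIdeal :=
      ⟨N, x, hxa, gen_of_span_eq_top I β hβ x.asIdeal⟩
    exact ⟨Nat.find hP, Nat.find_spec hP, fun p hp k hk hG => Nat.find_min hP hk ⟨p, hp, hG⟩⟩
  -- claim K
  have hK : ∀ p : PrimeSpectrum A, a ∉ p.asIdeal → s ∉ p.asIdeal → ∀ d : Fin n → A,
      ∑ i, d i • m i ∈ I → ∀ i, d i ∈ p.asIdeal := by
    intro p hap hsp d hd i₀
    by_contra hi₀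
    obtain ⟨k, rfl⟩ : ∃ k, n = k + 1 := ⟨n - 1, by have := i₀.pos; omega⟩
    exact hmin p hap k (Nat.lt_succ_self k) (gen_pred I p.asIdeal s hsp m hm d hd i₀ hi₀)
  -- the finitely generated ideal `I₀`
  choose c hc using fun j : Fin N => hm (β j)
  let ι : Fin N → B := fun j => s • β j - ∑ i, c j i • m i
  have hιI : ∀ j, ι j ∈ I := hc
  -- claim L
  have hL : ∀ q : Ideal B, q.IsPrime → algebraMap A B a ∉ q → algebraMap A B s ∉ q →
      (∀ j, ι j ∈ q) → I ≤ q := by
    intro q hq haq hsq hιq x hxI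
    let p' : PrimeSpectrum A := ⟨q.comap (algebraMap A B), inferInstance⟩
    have hxs : x ∈ Submodule.span A (Set.range β) := hβ ▸ Submodule.mem_top
    obtain ⟨e, he⟩ := (Submodule.mem_span_range_iff_exists_fun A).mp hxs
    have hsx : s • x = ∑ j, e j • ι j + ∑ i, (∑ j, e j * c j i) • m i := by
      rw [← he]
      simp only [ι, smul_sub, Finset.smul_sum, Finset.sum_sub_distrib, Finset.sum_smul, mul_smul]
      rw [Finset.sum_comm (f := fun i j => e j • c j i • m i)]
      simp only [smul_comm s]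
      abel
    have hd : ∑ i, (∑ j, e j * c j i) • m i ∈ I := by
      have h1 : s • x ∈ I := by rw [Algebra.smul_def]; exact I.mul_mem_left _ hxI
      have h2 : ∑ j, e j • ι j ∈ I := I.sum_mem fun j _ => by
        rw [Algebra.smul_def]; exact I.mul_mem_left _ (hιI j)
      have : ∑ i, (∑ j, e j * c j i) • m i = s • x - ∑ j, e j • ι j := by rw [hsx]; abel
      rw [this]
      exact I.sub_mem h1 h2
    have hdq := hK p' haq hsq _ hd
    have hsxq : s • x ∈ q := by
      rw [hsx]
      refine q.add_mem (q.sum_mem fun j _ => ?_) (q.sum_mem fun i _ => ?_)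
      · rw [Algebra.smul_def]; exact q.mul_mem_left _ (hιq j)
      · rw [Algebra.smul_def]; exact q.mul_mem_right _ (hdq i)
    rw [Algebra.smul_def] at hsxq
    exact (hq.mem_or_mem hsxq).resolve_left hsq
  -- a minimal prime `p` inside `D(a s)`
  obtain ⟨p, hpmin, hpp₀⟩ := Ideal.exists_minimalPrimes_le (bot_le : (⊥ : Ideal A) ≤ p₀.asIdeal)
  have hpprime : p.IsPrime := hpmin.1.1
  have hap : a ∉ p := fun h => hap₀ (hpp₀ h)
  have hsp : s ∉ p := fun h => hsp₀ (hpp₀ h)
  obtain ⟨q₁, hIq₁, hq₁p⟩ := haI ⟨p, hpprime⟩ hap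
  -- the fibre over `p`
  have hfib : (comap (algebraMap A B) ⁻¹' {(⟨p, hpprime⟩ : PrimeSpectrum A)}).Finite :=
    Algebra.QuasiFinite.finite_comap_preimage_singleton _
  let F : Finset (PrimeSpectrum B) := hfib.toFinset.erase q₁
  have hF : ∀ q : PrimeSpectrum B, q ∈ F ↔ q ≠ q₁ ∧ q.asIdeal.comap (algebraMap A B) = p := by
    intro q
    simp only [F, Finset.mem_erase, Set.Finite.mem_toFinset, Set.mem_preimage,
      Set.mem_singleton_iff, PrimeSpectrum.ext_iff]
    rfl
  have hy : ∀ q : PrimeSpectrum B, q ∈ F → ∃ y, y ∈ q.asIdeal ∧ y ∉ q₁.asIdeal := by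
    intro q hq
    obtain ⟨hne, hqp⟩ := (hF q).mp hq
    by_contra hcon
    push Not at hcon
    have hle : q.asIdeal ≤ q₁.asIdeal := hcon
    exact hne (PrimeSpectrum.ext (Algebra.QuasiFinite.eq_of_le_of_under_eq (R := A) _ _ hle
      (hqp.trans hq₁p.symm)))
  choose! y hyq hyq₁ using hy
  let b : B := ∏ q ∈ F, y q
  have hbq₁ : b ∉ q₁.asIdeal := by
    intro hb
    obtain ⟨q, hqF, hq⟩ := (q₁.isPrime.prod_mem_iff).mp hb
    exact hyq₁ q hqF hq
  have hbq : ∀ q ∈ F, b ∈ q.asIdeal := by
    intro q hq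
    rw [show b = y q * ∏ q' ∈ F.erase q, y q' from (Finset.mul_prod_erase F y hq).symm]
    exact Ideal.mul_mem_right _ _ (hyq q hq)
  -- nilpotence near `p`
  have hnil : ∀ j, ∃ t : A, t ∉ p ∧ ∃ K : ℕ, algebraMap A B t * (b * ι j) ^ K = 0 := by
    intro j
    refine exists_smul_pow_eq_zero p (b * ι j) (fun q hq hqp => ?_)
    have hqeq : q.comap (algebraMap A B) = p :=
      le_antisymm hqp (hpmin.2 ⟨inferInstance, bot_le⟩ hqp)
    by_cases hqq₁ : (⟨q, hq⟩ : PrimeSpectrum B) = q₁
    · have : ι j ∈ q := by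
        have := hIq₁ (hιI j)
        rw [← hqq₁] at this
        exact this
      exact q.mul_mem_left _ this
    · exact q.mul_mem_right _ (hbq ⟨q, hq⟩ ((hF _).mpr ⟨hqq₁, hqeq⟩))
  choose t htp K htK using hnil
  let T : A := a * s * ∏ j, t j
  have hTp : T ∉ p := by
    intro hT
    rcases hpprime.mem_or_mem hT with h | h
    · rcases hpprime.mem_or_mem h with h | h
      · exact hap h
      · exact hsp h
    · obtain ⟨j, -, hj⟩ := (hpprime.prod_mem_iff).mp h
      exact htp j hj
  -- the open set `D(T b)` lies in `V(I)`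
  have hsub : (basicOpen (algebraMap A B T * b) : Set (PrimeSpectrum B)) ⊆
      zeroLocus (I : Set B) := by
    intro q hq
    have hq' : algebraMap A B T * b ∉ q.asIdeal := hq
    have hTq : algebraMap A B T ∉ q.asIdeal := fun h => hq' (q.asIdeal.mul_mem_right _ h)
    have hbq' : b ∉ q.asIdeal := fun h => hq' (q.asIdeal.mul_mem_left _ h)
    have haq : algebraMap A B a ∉ q.asIdeal := fun h => hTq (by
      simp only [T, map_mul]
      exact q.asIdeal.mul_mem_right _ (q.asIdeal.mul_mem_right _ h))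
    have hsq : algebraMap A B s ∉ q.asIdeal := fun h => hTq (by
      simp only [T, map_mul]
      exact q.asIdeal.mul_mem_right _ (q.asIdeal.mul_mem_left _ h))
    have htq : ∀ j, algebraMap A B (t j) ∉ q.asIdeal := fun j h => hTq (by
      simp only [T, map_mul, map_prod]
      refine q.asIdeal.mul_mem_left _ ?_
      rw [← Finset.mul_prod_erase Finset.univ _ (Finset.mem_univ j)]
      exact q.asIdeal.mul_mem_right _ h)
    rw [mem_zeroLocus]
    refine hL q.asIdeal q.isPrime haq hsq (fun j => ?_)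
    have h0 : algebraMap A B (t j) * (b * ι j) ^ K j ∈ q.asIdeal := by
      rw [htK j]; exact q.asIdeal.zero_mem
    have h1 := (q.isPrime.mem_or_mem h0).resolve_left (htq j)
    have h2 := q.isPrime.mem_of_pow_mem _ h1
    exact (q.isPrime.mem_or_mem h2).resolve_left hbq'
  have hq₁mem : q₁ ∈ (basicOpen (algebraMap A B T * b) : Set (PrimeSpectrum B)) := by
    show algebraMap A B T * b ∉ q₁.asIdeal
    intro h
    rcases q₁.isPrime.mem_or_mem h with h | h
    · have hT' : T ∈ q₁.asIdeal.comap (algebraMap A B) := h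
      rw [hq₁p] at hT'
      exact hTp hT'
    · exact hbq₁ h
  have hint0 : interior (zeroLocus (I : Set B)) = ∅ := by
    have := hI
    rwa [IsNowhereDense, (isClosed_zeroLocus _).closure_eq] at this
  have : q₁ ∈ interior (zeroLocus (I : Set B)) :=
    interior_maximal hsub (basicOpen _).isOpen hq₁mem
  rw [hint0] at this
  exact this

end Groth.Agent.R2.H2.QFNowhere
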