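import Mathlib
import Groth.Agent.R2.H2QFCore3

set_option autoImplicit false
universe u
open PrimeSpectrum Topology

namespace Groth.Agent.R2.H2.QFNowhere

section Top

variable {X Y : Type*} [TopologicalSpace X] [TopologicalSpace Y]

theorem isNowhereDense_preimage_of_isOpenMap {e : X → Y} (hc : Continuous e) (ho : IsOpenMap e)
    {T : Set Y} (hT : IsNowhereDense T) : IsNowhereDense (e ⁻¹' T) := by
  rw [IsNowhereDense, Set.eq_empty_iff_forall_notMem]
  intro x hx
  have h1 : closure (e ⁻¹' T) ⊆ e ⁻¹' closure T := hc.closure_preimage_subset T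
  have h2 : e '' interior (closure (e ⁻¹' T)) ⊆ interior (closure T) := by
    refine interior_maximal ?_ (ho _ isOpen_interior)
    rintro _ ⟨z, hz, rfl⟩
    exact h1 (interior_subset hz)
  have : e x ∈ interior (closure T) := h2 ⟨x, hx, rfl⟩
  rw [hT] at this
  exact this

theorem isNowhereDense_union {s t : Set X} (hs : IsNowhereDense s) (ht : IsNowhereDense t) :
    IsNowhereDense (s ∪ t) := by
  rw [IsNowhereDense, closure_union,
    interior_union_isClosed_of_interior_empty isClosed_closure ht]
  exact hs

theorem isNowhereDense_biUnion_finset {ι : Type*} (F : Finset ι) (s : ι → Set X)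
    (h : ∀ i ∈ F, IsNowhereDense (s i)) : IsNowhereDense (⋃ i ∈ F, s i) := by
  classical
  induction F using Finset.induction_on with
  | empty => simp
  | insert i F hi ih =>
    rw [Finset.set_biUnion_insert]
    exact isNowhereDense_union (h i (Finset.mem_insert_self i F))
      (ih fun j hj => h j (Finset.mem_insert_of_mem hj))

end Top

variable {A B : Type u} [CommRing A] [CommRing B] [Algebra A B]

/-- one chart of Zariski's main theorem -/
theorem isNowhereDense_image_inter_basicOpen (S' : Subalgebra A B) (hS' : S'.toSubmodule.FG)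
    (r : S') (hr : Function.Bijective (Localization.awayMap S'.val.toRingHom r))
    (T : Set (PrimeSpectrum B)) (hT : IsNowhereDense T) :
    IsNowhereDense (comap (algebraMap A B) '' (T ∩ (basicOpen (r : B) : Set (PrimeSpectrum B)))) := by
  have : Module.Finite A S' := ⟨(Submodule.fg_top _).mpr hS'⟩
  let g : PrimeSpectrum B → PrimeSpectrum S' := comap S'.val.toRingHom
  let f' : PrimeSpectrum S' → PrimeSpectrum A := comap (algebraMap A S')
  have hfg : ∀ q, comap (algebraMap A B) q = f' (g q) := fun q => rfl
  let e : PrimeSpectrum (Localization.Away (r : B)) → PrimeSpectrum B :=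
    comap (algebraMap B (Localization.Away (r : B)))
  let e' : PrimeSpectrum (Localization.Away r) → PrimeSpectrum S' :=
    comap (algebraMap S' (Localization.Away r))
  have he : IsOpenEmbedding e := localization_away_isOpenEmbedding (Localization.Away (r : B)) (r : B)
  have he' : IsOpenEmbedding e' := localization_away_isOpenEmbedding (Localization.Away r) r
  have hre : Set.range e = (basicOpen (r : B) : Set (PrimeSpectrum B)) :=
    localization_away_comap_range (Localization.Away (r : B)) (r : B)
  let φ : Localization.Away r ≃+* Localization.Away (S'.val.toRingHom r) :=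
    RingEquiv.ofBijective _ hr
  let h : PrimeSpectrum (Localization.Away (r : B)) ≃ₜ PrimeSpectrum (Localization.Away r) :=
    (homeomorphOfRingEquiv φ).symm
  have hcomm : ∀ z, g (e z) = e' (h z) := by
    intro z
    apply PrimeSpectrum.ext
    ext x
    show algebraMap B (Localization.Away (r : B)) (S'.val.toRingHom x) ∈ z.asIdeal ↔
      (Localization.awayMap S'.val.toRingHom r) (algebraMap S' (Localization.Away r) x) ∈ z.asIdeal
    rw [Localization.awayMap, IsLocalization.Away.map, IsLocalization.map_eq]
    exact Iff.rfl
  -- the set in `Spec S'`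
  have h1 : IsNowhereDense (e ⁻¹' T) :=
    isNowhereDense_preimage_of_isOpenMap he.continuous he.isOpenMap hT
  have h2 : IsNowhereDense (h '' (e ⁻¹' T)) := h.isInducing.isNowhereDense_image h1
  have h3 : IsNowhereDense (e' '' (h '' (e ⁻¹' T))) := he'.isInducing.isNowhereDense_image h2
  have h4 : g '' (T ∩ (basicOpen (r : B) : Set (PrimeSpectrum B))) = e' '' (h '' (e ⁻¹' T)) := by
    rw [← hre, ← Set.image_preimage_eq_inter_range, Set.image_image, Set.image_image]
    exact Set.image_congr fun z _ => hcomm z
  have h5 : IsNowhereDense (closure (g '' (T ∩ (basicOpen (r : B) : Set (PrimeSpectrum B))))) := by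
    rw [h4]; exact h3.closure
  rw [← zeroLocus_vanishingIdeal_eq_closure] at h5
  have h6 := isNowhereDense_image_of_finite (A := A) (B := S') _ h5
  refine h6.mono ?_
  rintro _ ⟨q, hq, rfl⟩
  rw [zeroLocus_vanishingIdeal_eq_closure]
  exact ⟨g q, subset_closure ⟨q, hq, rfl⟩, rfl⟩

end Groth.Agent.R2.H2.QFNowhere
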