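import Mathlib
import Groth.Agent.R2.H2QFAff

set_option autoImplicit false
universe u
open PrimeSpectrum Topology

namespace Groth.Agent.R2.H2.QFNowhere

variable {A B : Type u} [CommRing A] [CommRing B] [Algebra A B]

/-- the image of a nowhere dense subset of `Spec B` in `Spec A` is nowhere dense, for `B`
quasi-finite of finite type over `A` -/
theorem isNowhereDense_image_of_quasiFinite [Algebra.FiniteType A B] [Algebra.QuasiFinite A B]
    (T : Set (PrimeSpectrum B)) (hT : IsNowhereDense T) :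
    IsNowhereDense (comap (algebraMap A B) '' T) := by
  choose S' hS' r hrq hr using fun q : PrimeSpectrum B =>
    Algebra.QuasiFiniteAt.exists_fg_and_exists_notMem_and_awayMap_bijective (R := A) q.asIdeal
  have hcov : (Set.univ : Set (PrimeSpectrum B)) ⊆
      ⋃ q, (basicOpen ((r q : S' q) : B) : Set (PrimeSpectrum B)) :=
    fun q _ => Set.mem_iUnion.mpr ⟨q, hrq q⟩
  obtain ⟨F, hF⟩ := isCompact_univ.elim_finite_subcover _ (fun q => (basicOpen _).isOpen) hcov
  have hsub : comap (algebraMap A B) '' T ⊆ ⋃ q ∈ F, comap (algebraMap A B) ''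
      (T ∩ (basicOpen ((r q : S' q) : B) : Set (PrimeSpectrum B))) := by
    rintro _ ⟨x, hx, rfl⟩
    obtain ⟨q, hqF, hxq⟩ := Set.mem_iUnion₂.mp (hF (Set.mem_univ x))
    exact Set.mem_iUnion₂.mpr ⟨q, hqF, x, ⟨hx, hxq⟩, rfl⟩
  exact (isNowhereDense_biUnion_finset F _ (fun q _ =>
    isNowhereDense_image_inter_basicOpen (S' q) (hS' q) (r q) (hr q) T hT)).mono hsub

end Groth.Agent.R2.H2.QFNowhere
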