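import Mathlib
import Groth.Agent.R2.H2QFCore2

set_option autoImplicit false
universe u
open PrimeSpectrum Topology

namespace Groth.Agent.R2.H2.QFNowhere

variable {A S : Type u} [CommRing A] [CommRing S] [Algebra A S]

/-- for an integral extension, the image of the complement of a quasi-compact dense open has dense
complement -/
theorem dense_compl_image_compl_of_isIntegral [Algebra.IsIntegral A S]
    (Ω : Set (PrimeSpectrum S)) (hΩo : IsOpen Ω) (hΩc : IsCompact Ω) (hΩd : Dense Ω) :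
    Dense (comap (algebraMap A S) '' Ωᶜ)ᶜ := by
  classical
  rw [dense_iff_inter_open]
  intro O hO ⟨x, hx⟩
  obtain ⟨η, hηmin, hηx⟩ := Ideal.exists_minimalPrimes_le (bot_le : (⊥ : Ideal A) ≤ x.asIdeal)
  have hηprime : η.IsPrime := hηmin.1.1
  let η' : PrimeSpectrum A := ⟨η, hηprime⟩
  have hηO : η' ∈ O := ((le_iff_specializes η' x).mp hηx).mem_open hO hx
  refine ⟨η', hηO, ?_⟩
  rintro ⟨z, hzΩ, hzη⟩
  have hzη' : z.asIdeal.comap (algebraMap A S) = η := congrArg PrimeSpectrum.asIdeal hzη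
  obtain ⟨t, ht⟩ := isCompact_isOpen_iff.mp ⟨hΩc, hΩo⟩
  have hzt : ∀ r ∈ t, r ∈ z.asIdeal := by
    have : z ∈ zeroLocus (t : Set S) := by
      by_contra h
      exact hzΩ (ht ▸ h)
    exact fun r hr => (mem_zeroLocus _ _).mp this hr
  -- `z` is a minimal prime of `S`
  have hzmin : ∀ q : Ideal S, q.IsPrime → q ≤ z.asIdeal → q = z.asIdeal := by
    intro q hq hqz
    by_contra hne
    have hlt : q < z.asIdeal := lt_of_le_of_ne hqz hne
    have h1 := Ideal.IsIntegral.comap_lt_comap (R := A) hlt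
    rw [hzη'] at h1
    exact absurd (hηmin.2 ⟨inferInstance, bot_le⟩ h1.le) (not_le_of_gt h1)
  have hnil : ∀ r ∈ t, ∃ u : S, u ∉ z.asIdeal ∧ ∃ K : ℕ, u * r ^ K = 0 := by
    intro r hr
    have := exists_smul_pow_eq_zero (A := S) (B := S) z.asIdeal r (fun q hq hqz => by
      have : q = z.asIdeal := hzmin q hq hqz
      rw [this]; exact hzt r hr)
    simpa using this
  choose! u huz K huK using hnil
  let T : S := ∏ r ∈ t, u r
  have hTz : T ∉ z.asIdeal := by
    intro h
    obtain ⟨r, hr, hur⟩ := (z.isPrime.prod_mem_iff).mp h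
    exact huz r hr hur
  obtain ⟨q, hqT, hqΩ⟩ := hΩd.inter_open_nonempty _ (basicOpen T).isOpen ⟨z, hTz⟩
  rw [← ht] at hqΩ
  have : ∃ r ∈ t, r ∉ q.asIdeal := by
    by_contra hcon
    push Not at hcon
    exact hqΩ ((mem_zeroLocus _ _).mpr hcon)
  obtain ⟨r, hr, hrq⟩ := this
  have h0 : u r * r ^ K r ∈ q.asIdeal := by rw [huK r hr]; exact q.asIdeal.zero_mem
  rcases q.isPrime.mem_or_mem h0 with h | h
  · apply hqT
    show T ∈ q.asIdeal
    rw [show T = u r * ∏ r' ∈ t.erase r, u r' from (Finset.mul_prod_erase t u hr).symm]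
    exact q.asIdeal.mul_mem_right _ h
  · exact hrq (q.isPrime.mem_of_pow_mem _ h)

end Groth.Agent.R2.H2.QFNowhere
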