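import Mathlib
import Groth.Agent.R2.H2QFAff2

set_option autoImplicit false
universe u
open CategoryTheory AlgebraicGeometry Topology

namespace Groth.Agent.R2.H2.QFNowhere

/-- affine chart version -/
theorem isNowhereDense_image_inter_affine {Y X : Scheme.{u}} (f : Y ⟶ X) [LocallyQuasiFinite f]
    [LocallyOfFiniteType f] {U : X.Opens} (hU : IsAffineOpen U) {V : Y.Opens}
    (hV : IsAffineOpen V) (e : V ≤ f ⁻¹ᵁ U) (T : Set Y) (hT : IsNowhereDense T) :
    IsNowhereDense (f '' (T ∩ (V : Set Y))) := by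
  have hqf : (f.appLE U V e).hom.QuasiFinite := LocallyQuasiFinite.quasiFinite_appLE hU hV e
  have hft : (f.appLE U V e).hom.FiniteType := f.finiteType_appLE hU hV e
  algebraize [(f.appLE U V e).hom]
  have hcomm : Spec.map (f.appLE U V e) ≫ hU.fromSpec = hV.fromSpec ≫ f :=
    IsAffineOpen.SpecMap_appLE_fromSpec f hU hV e
  have hVr : Set.range hV.fromSpec = (V : Set Y) := hV.range_fromSpec
  have h1 : IsNowhereDense (hV.fromSpec ⁻¹' T) :=
    isNowhereDense_preimage_of_isOpenMap hV.fromSpec.continuous hV.fromSpec.isOpenEmbedding.isOpenMap hT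
  have h2 : IsNowhereDense ((Spec.map (f.appLE U V e)) '' (hV.fromSpec ⁻¹' T)) :=
    isNowhereDense_image_of_quasiFinite (A := Γ(X, U)) (B := Γ(Y, V)) _ h1
  have h3 : IsNowhereDense (hU.fromSpec '' ((Spec.map (f.appLE U V e)) '' (hV.fromSpec ⁻¹' T))) :=
    hU.fromSpec.isOpenEmbedding.isInducing.isNowhereDense_image h2
  convert h3 using 1
  rw [← hVr, ← Set.image_preimage_eq_inter_range, Set.image_image, Set.image_image]
  refine Set.image_congr fun z _ => ?_
  rw [← Scheme.Hom.comp_apply, ← Scheme.Hom.comp_apply, hcomm]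

end Groth.Agent.R2.H2.QFNowhere
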