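import Mathlib
import Groth.Agent.R2.H2QFSch1

set_option autoImplicit false
universe u
open CategoryTheory AlgebraicGeometry Topology

namespace Groth.Agent.R2.H2.QFNowhere

/-- a quasi-finite morphism maps nowhere dense subsets to nowhere dense subsets -/
theorem isNowhereDense_image {Y X : Scheme.{u}} (f : Y ⟶ X) [LocallyQuasiFinite f]
    [LocallyOfFiniteType f] [QuasiCompact f] (T : Set Y) (hT : IsNowhereDense T) :
    IsNowhereDense (f '' T) := by
  classical
  rw [IsNowhereDense, Set.eq_empty_iff_forall_notMem]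
  intro x hx
  obtain ⟨_, ⟨U, hU, rfl⟩, hxU, -⟩ :=
    X.isBasis_affineOpens.exists_subset_of_mem_open (Set.mem_univ x) isOpen_univ
  have hc : IsCompact (f ⁻¹ᵁ U : Set Y) := f.isCompact_preimage hU.isCompact
  obtain ⟨s, hs, hsU⟩ := isCompact_iff_finite_and_eq_biUnion_affineOpens.mp hc
  have hle : ∀ i ∈ s, (i : Y.Opens) ≤ f ⁻¹ᵁ U := fun i hi => by
    rw [hsU]; exact le_iSup₂ (f := fun (i : Y.affineOpens) (_ : i ∈ s) => (i : Y.Opens)) i hi
  have hsub : f '' T ∩ (U : Set X) ⊆ ⋃ i ∈ hs.toFinset, f '' (T ∩ ((i : Y.Opens) : Set Y)) := by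
    rintro _ ⟨⟨y, hy, rfl⟩, hyU⟩
    have hy' : y ∈ f ⁻¹ᵁ U := hyU
    rw [hsU] at hy'
    simp only [TopologicalSpace.Opens.mem_iSup] at hy'
    obtain ⟨i, hi, hyi⟩ := hy'
    exact Set.mem_iUnion₂.mpr ⟨i, hs.mem_toFinset.mpr hi, y, ⟨hy, hyi⟩, rfl⟩
  have hnd : IsNowhereDense (f '' T ∩ (U : Set X)) :=
    (isNowhereDense_biUnion_finset hs.toFinset _ (fun i hi =>
      isNowhereDense_image_inter_affine f hU i.2 (hle i (hs.mem_toFinset.mp hi)) T hT)).mono hsub
  have hW : interior (closure (f '' T)) ∩ (U : Set X) ⊆ interior (closure (f '' T ∩ (U : Set X))) := by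
    refine interior_maximal ?_ (isOpen_interior.inter U.isOpen)
    rintro z ⟨hz1, hz2⟩
    have := U.isOpen.inter_closure (t := f '' T) ⟨hz2, interior_subset hz1⟩
    rwa [Set.inter_comm] at this
  have := hW ⟨hx, hxU⟩
  rw [hnd] at this
  exact this

end Groth.Agent.R2.H2.QFNowhere
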