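import Mathlib
import Groth.Agent.R2.H2QFInt1

set_option autoImplicit false
universe u
open CategoryTheory AlgebraicGeometry Topology

namespace Groth.Agent.R2.H2.QFNowhere

/-- scheme version of `dense_compl_image_compl_of_isIntegral` -/
theorem dense_compl_image_compl_of_isIntegralHom {N X₀ : Scheme.{u}} [IsAffine X₀]
    (ν : N ⟶ X₀) [IsIntegralHom ν] (Ω : Set N) (hΩo : IsOpen Ω) (hΩc : IsCompact Ω)
    (hΩd : Dense Ω) : Dense (ν '' Ωᶜ)ᶜ := by
  have : IsAffine N := isAffine_of_isAffineHom ν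
  have hint : ν.appTop.hom.IsIntegral := ν.isIntegral_app ⊤ (isAffineOpen_top X₀)
  algebraize [ν.appTop.hom]
  let hN : N ≃ₜ Spec Γ(N, ⊤) := Scheme.homeoOfIso N.isoSpec
  let hX : X₀ ≃ₜ Spec Γ(X₀, ⊤) := Scheme.homeoOfIso X₀.isoSpec
  have hnat : ∀ z : N, hX (ν z) = PrimeSpectrum.comap (algebraMap Γ(X₀, ⊤) Γ(N, ⊤)) (hN z) := by
    intro z
    have := Scheme.isoSpec_hom_naturality ν
    have h2 := congrArg (fun (k : N ⟶ Spec Γ(X₀, ⊤)) => k z) this
    simp only [Scheme.Hom.comp_apply] at h2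
    exact h2.symm
  have key := dense_compl_image_compl_of_isIntegral (A := Γ(X₀, ⊤)) (S := Γ(N, ⊤)) (hN '' Ω)
    (hN.isOpenMap _ hΩo) (hΩc.image hN.continuous)
    (hN.surjective.denseRange.dense_image hN.continuous hΩd)
  have heq : (ν '' Ωᶜ)ᶜ = hX ⁻¹' (PrimeSpectrum.comap (algebraMap Γ(X₀, ⊤) Γ(N, ⊤)) ''
      (hN '' Ω)ᶜ)ᶜ := by
    ext x
    constructor
    · rintro h ⟨z', hz', hzx⟩
      obtain ⟨z, rfl⟩ := hN.surjective z'
      refine h ⟨z, fun hz => hz' ⟨z, hz, rfl⟩, ?_⟩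
      apply hX.injective
      rw [hnat, hzx]
    · rintro h ⟨z, hz, rfl⟩
      refine h ⟨hN z, ?_, (hnat z).symm⟩
      rintro ⟨z₁, hz₁, he⟩
      exact hz (hN.injective he ▸ hz₁)
  rw [heq]
  exact key.preimage hX.isOpenMap

end Groth.Agent.R2.H2.QFNowhere
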