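import Mathlib
import Groth.Agent.R2.H2QFStep1

set_option autoImplicit false
universe u
open CategoryTheory AlgebraicGeometry Topology

namespace Groth.Agent.R2.H2.QFNowhere

/-- a separated quasi-finite morphism to an affine scheme is finite over a dense open -/
theorem exists_dense_forall_isFinite_restrict {V X₀ : Scheme.{u}} [IsAffine X₀] (g : V ⟶ X₀)
    [IsSeparated g] [QuasiCompact g] [LocallyOfFiniteType g] [LocallyQuasiFinite g] :
    ∃ D : X₀.Opens, Dense (D : Set X₀) ∧ ∀ W' : X₀.Opens, W' ≤ D → IsFinite (g ∣_ W') := by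
  let j := g.toNormalization
  let ν := g.fromNormalization
  have hjν : j ≫ ν = g := g.toNormalization_fromNormalization
  have : CompactSpace V := QuasiCompact.compactSpace_of_compactSpace g
  let Ω : Set g.normalization := Set.range j
  have hΩo : IsOpen Ω := j.isOpenEmbedding.isOpen_range
  have hΩc : IsCompact Ω := isCompact_range j.continuous
  have hΩd : Dense Ω := j.denseRange
  have hcl : IsClosed (ν '' Ωᶜ) := ν.isClosedMap _ hΩo.isClosed_compl
  refine ⟨⟨(ν '' Ωᶜ)ᶜ, hcl.isOpen_compl⟩,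
    dense_compl_image_compl_of_isIntegralHom ν Ω hΩo hΩc hΩd, fun W' hW' => ?_⟩
  suffices h : IsFinite ((j ≫ ν) ∣_ W') by
    have aux : ∀ g' : V ⟶ X₀, g' = g → IsFinite (g' ∣_ W') → IsFinite (g ∣_ W') := by
      rintro _ rfl h; exact h
    exact aux _ hjν h
  rw [morphismRestrict_comp]
  have hsurj : Surjective (j ∣_ (ν ⁻¹ᵁ W')) := by
    refine ⟨fun n => ?_⟩
    have hn : ν n.1 ∈ W' := n.2
    have hnΩ : n.1 ∈ Ω := by
      by_contra hcon
      exact hW' hn ⟨n.1, hcon, rfl⟩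
    obtain ⟨v, hv⟩ := hnΩ
    have hv' : v ∈ j ⁻¹ᵁ (ν ⁻¹ᵁ W') := by
      show j v ∈ ν ⁻¹ᵁ W'
      rw [hv]; exact n.2
    refine ⟨⟨v, hv'⟩, ?_⟩
    apply Subtype.ext
    rw [← hv]
    exact morphismRestrict_base_coe j (ν ⁻¹ᵁ W') ⟨v, hv'⟩
  have hiso : IsIso (j ∣_ (ν ⁻¹ᵁ W')) := by
    change MorphismProperty.isomorphisms Scheme _
    rw [isomorphisms_eq_isOpenImmersion_inf_surjective]
    exact ⟨inferInstance, hsurj⟩
  rw [IsFinite.iff_isIntegralHom_and_locallyOfFiniteType]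
  have hint1 : IsIntegralHom (j ∣_ (ν ⁻¹ᵁ W')) := inferInstance
  have hint2 : IsIntegralHom (ν ∣_ W') := inferInstance
  refine ⟨MorphismProperty.comp_mem _ _ _ hint1 hint2, ?_⟩
  rw [← morphismRestrict_comp]
  have aux : ∀ g' : V ⟶ X₀, g = g' → LocallyOfFiniteType (g' ∣_ W') := by
    rintro _ rfl; infer_instance
  exact aux _ hjν.symm

end Groth.Agent.R2.H2.QFNowhere
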