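import Mathlib

set_option autoImplicit false
universe u
open CategoryTheory AlgebraicGeometry Topology Limits

namespace Groth.Agent.R2.H2.QFNowhere

/-- an open immersion with closed range is a closed immersion -/
theorem isClosedImmersion_of_isOpenImmersion_of_isClosed_range {Q P : Scheme.{u}} (i : Q ⟶ P)
    [IsOpenImmersion i] (h : IsClosed (Set.range i)) : IsClosedImmersion i := by
  have : IsPreimmersion i := inferInstance
  exact IsClosedImmersion.of_isPreimmersion i h

/-- if `P` is a finite union of clopen subschemes each finite over `W`, then `P` is finite over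
`W`. -/
theorem isFinite_of_finite_clopen_cover_aux {ι : Type*} [DecidableEq ι] (s : Finset ι) :
    ∀ {P W : Scheme.{u}} (φ : P ⟶ W) (Q : ι → Scheme.{u}) (i : ∀ k, Q k ⟶ P)
      (_ : ∀ k, IsOpenImmersion (i k)), (∀ k, IsClosed (Set.range (i k))) →
      (∀ p : P, ∃ k ∈ s, p ∈ Set.range (i k)) → (∀ k ∈ s, IsFinite (i k ≫ φ) ∧ True) →
      (IsFinite φ ∧ True) := by
  induction s using Finset.induction_on with
  | empty =>
    intro P W φ Q i _ hcl hcov hfin
    have : IsEmpty P := ⟨fun p => by obtain ⟨k, hk, _⟩ := hcov p; simp at hk⟩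
    exact ⟨inferInstance, trivial⟩
  | insert k₀ s hk₀ ih =>
    intro P W φ Q i _ hcl hcov hfin
    refine ⟨?_, trivial⟩
    let C : P.Opens := ⟨(Set.range (i k₀))ᶜ, (hcl k₀).isOpen_compl⟩
    have hrange : ∀ k, Set.range ((i k) ∣_ C) = C.ι ⁻¹' (Set.range (i k)) := by
      intro k
      ext p
      constructor
      · rintro ⟨q, rfl⟩
        refine ⟨q.1, ?_⟩
        exact (morphismRestrict_base_coe (i k) C q).symm
      · rintro ⟨q, hq⟩
        have hq' : q ∈ (i k) ⁻¹ᵁ C := by
          show i k q ∈ C
          rw [hq]; exact p.2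
        refine ⟨⟨q, hq'⟩, ?_⟩
        apply Subtype.ext
        rw [morphismRestrict_base_coe]
        exact hq
    have hCfin : IsFinite (C.ι ≫ φ) := by
      refine (ih (C.ι ≫ φ) (fun k => (((i k) ⁻¹ᵁ C : (Q k).Opens) : Scheme.{u}))
        (fun k => (i k) ∣_ C) (fun k => inferInstance) ?_ ?_ ?_).1
      · intro k
        rw [hrange]
        exact (hcl k).preimage C.ι.continuous
      · intro p
        obtain ⟨k, hk, hp⟩ := hcov p.1
        rcases Finset.mem_insert.mp hk with rfl | hk
        · exact (p.2 hp).elim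
        · refine ⟨k, hk, ?_⟩
          rw [hrange]
          exact hp
      · intro k hk
        have e1 : (i k ∣_ C) ≫ C.ι ≫ φ = ((i k) ⁻¹ᵁ C).ι ≫ (i k ≫ φ) := by
          rw [← Category.assoc, morphismRestrict_ι, Category.assoc]
        rw [e1]
        have hclk : IsClosed (Set.range ((i k) ⁻¹ᵁ C).ι) := by
          rw [Scheme.Opens.range_ι]
          have hC : IsClosed ((Set.range (i k₀))ᶜ : Set P) :=
            (i k₀).isOpenEmbedding.isOpen_range.isClosed_compl
          exact hC.preimage (i k).continuous
        have : IsClosedImmersion ((i k) ⁻¹ᵁ C).ι :=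
          isClosedImmersion_of_isOpenImmersion_of_isClosed_range _ hclk
        have := (hfin k (Finset.mem_insert_of_mem hk)).1
        exact ⟨inferInstance, trivial⟩
    have hk₀fin := (hfin k₀ (Finset.mem_insert_self _ _)).1
    have hcompl : IsCompl (i k₀).opensRange C.ι.opensRange := by
      rw [Scheme.Opens.opensRange_ι]
      constructor
      · rw [disjoint_iff]
        ext x
        simp only [TopologicalSpace.Opens.coe_inf, Scheme.Hom.coe_opensRange, Set.mem_inter_iff,
          TopologicalSpace.Opens.coe_bot, Set.mem_empty_iff_false, iff_false, not_and]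
        intro hx hx'
        exact hx' hx
      · rw [codisjoint_iff]
        ext x
        simp only [TopologicalSpace.Opens.coe_sup, Scheme.Hom.coe_opensRange, Set.mem_union,
          TopologicalSpace.Opens.coe_top, Set.mem_univ, iff_true]
        exact em _
    obtain ⟨hcolim⟩ := nonempty_isColimit_binaryCofanMk_of_isCompl (i k₀) C.ι hcompl
    let e : Q k₀ ⨿ (C : Scheme.{u}) ≅ P := (colimit.isColimit _).coconePointUniqueUpToIso hcolim
    have hinl : coprod.inl ≫ e.hom = i k₀ :=
      (colimit.isColimit _).comp_coconePointUniqueUpToIso_hom hcolim ⟨WalkingPair.left⟩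
    have hinr : coprod.inr ≫ e.hom = C.ι :=
      (colimit.isColimit _).comp_coconePointUniqueUpToIso_hom hcolim ⟨WalkingPair.right⟩
    have he : e.hom ≫ φ = coprod.desc (i k₀ ≫ φ) (C.ι ≫ φ) := by
      apply coprod.hom_ext
      · rw [← Category.assoc, hinl, coprod.inl_desc]
      · rw [← Category.assoc, hinr, coprod.inr_desc]
    have h1 : IsFinite (e.hom ≫ φ) := by rw [he]; infer_instance
    have h2 : φ = e.inv ≫ (e.hom ≫ φ) := by simp
    rw [h2]; infer_instance

/-- if `P` is a finite union of clopen subschemes each finite over `W`, then `P` is finite over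
`W`. -/
theorem isFinite_of_finite_clopen_cover {ι : Type*} [DecidableEq ι] (s : Finset ι)
    {P W : Scheme.{u}} (φ : P ⟶ W) (Q : ι → Scheme.{u}) (i : ∀ k, Q k ⟶ P)
    [∀ k, IsOpenImmersion (i k)] (hcl : ∀ k, IsClosed (Set.range (i k)))
    (hcov : ∀ p : P, ∃ k ∈ s, p ∈ Set.range (i k)) (hfin : ∀ k ∈ s, IsFinite (i k ≫ φ)) :
    IsFinite φ :=
  (isFinite_of_finite_clopen_cover_aux s φ Q i inferInstance hcl hcov
    (fun k hk => ⟨hfin k hk, trivial⟩)).1

end Groth.Agent.R2.H2.QFNowhere
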