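import Mathlib
import Groth.Agent.R2.H2QFStep1b
import Groth.Agent.R2.H2QFUnion
import Groth.Agent.R2.H2QFSch2

set_option autoImplicit false
universe u
open CategoryTheory AlgebraicGeometry Topology Limits

namespace Groth.Agent.R2.H2.QFNowhere

theorem isNowhereDense_frontier_of_isOpen {X : Type*} [TopologicalSpace X] {U : Set X}
    (hU : IsOpen U) : IsNowhereDense (frontier U) := by
  rw [IsNowhereDense, isClosed_frontier.closure_eq, ← frontier_compl,
    interior_frontier hU.isClosed_compl]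

theorem dense_iInter_of_isOpen_of_finite {X : Type*} [TopologicalSpace X] {ι : Type*} [Finite ι]
    (s : ι → Set X) (ho : ∀ i, IsOpen (s i)) (hd : ∀ i, Dense (s i)) : Dense (⋂ i, s i) := by
  classical
  have : ∀ F : Finset ι, Dense (⋂ i ∈ F, s i) := by
    intro F
    induction F using Finset.induction_on with
    | empty => simp
    | insert i F hi ih =>
      rw [Finset.set_biInter_insert]
      exact (hd i).inter_of_isOpen_left ih (ho i)
  have _ := Fintype.ofFinite ι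
  simpa using this Finset.univ

theorem range_morphismRestrict {Q P : Scheme.{u}} (i : Q ⟶ P) (C : P.Opens) :
    Set.range (i ∣_ C) = C.ι ⁻¹' (Set.range i) := by
  ext p
  constructor
  · rintro ⟨q, rfl⟩
    refine ⟨q.1, ?_⟩
    exact (morphismRestrict_base_coe i C q).symm
  · rintro ⟨q, hq⟩
    have hq' : q ∈ i ⁻¹ᵁ C := by
      show i q ∈ C
      rw [hq]; exact p.2
    refine ⟨⟨q, hq'⟩, ?_⟩
    apply Subtype.ext
    rw [morphismRestrict_base_coe]
    exact hq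

/-- affine-base case: a quasi-finite morphism is finite over a dense open -/
theorem exists_dense_isFinite_restrict_of_isAffine {Y₀ X₀ : Scheme.{u}} [IsAffine X₀]
    (f₀ : Y₀ ⟶ X₀) [LocallyQuasiFinite f₀] [LocallyOfFiniteType f₀] [QuasiCompact f₀] :
    ∃ W' : X₀.Opens, Dense (W' : Set X₀) ∧ IsFinite (f₀ ∣_ W') := by
  classical
  have : CompactSpace Y₀ := QuasiCompact.compactSpace_of_compactSpace f₀
  let 𝒰 : Y₀.OpenCover := Y₀.affineCover.finiteSubcover
  have hfin𝒰 : Fintype 𝒰.I₀ := inferInstance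
  have haff : ∀ k, IsAffine (𝒰.X k) := fun k => inferInstance
  let g : ∀ k, 𝒰.X k ⟶ X₀ := fun k => 𝒰.f k ≫ f₀
  have hD : ∀ k, ∃ D : X₀.Opens, Dense (D : Set X₀) ∧
      ∀ W' : X₀.Opens, W' ≤ D → IsFinite (g k ∣_ W') := fun k =>
    exists_dense_forall_isFinite_restrict (g k)
  choose D hDd hDf using hD
  -- frontiers
  let Δ : 𝒰.I₀ → Set Y₀ := fun k => frontier (Set.range (𝒰.f k))
  have hΔ : ∀ k, IsNowhereDense (f₀ '' Δ k) := fun k =>
    isNowhereDense_image f₀ _ (isNowhereDense_frontier_of_isOpen (𝒰.f k).isOpenEmbedding.isOpen_range)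
  have hΔu : IsNowhereDense (⋃ k ∈ (Finset.univ : Finset 𝒰.I₀), f₀ '' Δ k) :=
    isNowhereDense_biUnion_finset _ _ (fun k _ => hΔ k)
  have hE : IsOpen (closure (⋃ k ∈ (Finset.univ : Finset 𝒰.I₀), f₀ '' Δ k))ᶜ ∧
      Dense (closure (⋃ k ∈ (Finset.univ : Finset 𝒰.I₀), f₀ '' Δ k))ᶜ :=
    isClosed_isNowhereDense_iff_compl.mp ⟨isClosed_closure, hΔu.closure⟩
  let W's : Set X₀ := (closure (⋃ k ∈ (Finset.univ : Finset 𝒰.I₀), f₀ '' Δ k))ᶜ ∩
    ⋂ k, (D k : Set X₀)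
  have hW'o : IsOpen W's := hE.1.inter (isOpen_iInter_of_finite fun k => (D k).isOpen)
  have hW'd : Dense W's :=
    hE.2.inter_of_isOpen_left
      (dense_iInter_of_isOpen_of_finite _ (fun k => (D k).isOpen) hDd) hE.1
  let W' : X₀.Opens := ⟨W's, hW'o⟩
  refine ⟨W', hW'd, ?_⟩
  have hW'D : ∀ k, W' ≤ D k := fun k x hx => Set.mem_iInter.mp hx.2 k
  have hW'Δ : ∀ k y, y ∈ Δ k → f₀ y ∉ W' := by
    intro k y hy hW
    exact hW.1 (subset_closure (Set.mem_iUnion₂.mpr ⟨k, Finset.mem_univ k, y, hy, rfl⟩))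
  refine isFinite_of_finite_clopen_cover (Finset.univ : Finset 𝒰.I₀) (f₀ ∣_ W')
    (fun k => ((𝒰.f k ⁻¹ᵁ (f₀ ⁻¹ᵁ W') : (𝒰.X k).Opens) : Scheme.{u}))
    (fun k => 𝒰.f k ∣_ (f₀ ⁻¹ᵁ W')) ?_ ?_ ?_
  · intro k
    rw [range_morphismRestrict]
    have : (f₀ ⁻¹ᵁ W').ι ⁻¹' Set.range (𝒰.f k) = (f₀ ⁻¹ᵁ W').ι ⁻¹' closure (Set.range (𝒰.f k)) := by
      ext p
      constructor
      · intro hp
        exact subset_closure hp
      · intro hp
        by_contra hcon
        have hp2 : f₀ ((f₀ ⁻¹ᵁ W').ι p) ∈ W' := p.2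
        refine hW'Δ k ((f₀ ⁻¹ᵁ W').ι p) ?_ hp2
        rw [show Δ k = frontier (Set.range (𝒰.f k)) from rfl,
          (𝒰.f k).isOpenEmbedding.isOpen_range.frontier_eq]
        exact ⟨hp, hcon⟩
    rw [this]
    exact isClosed_closure.preimage (f₀ ⁻¹ᵁ W').ι.continuous
  · intro p
    obtain ⟨k, y, hy⟩ := 𝒰.exists_eq ((f₀ ⁻¹ᵁ W').ι p)
    refine ⟨k, Finset.mem_univ k, ?_⟩
    rw [range_morphismRestrict]
    exact ⟨y, hy⟩
  · intro k _
    rw [← morphismRestrict_comp]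
    exact hDf k W' (hW'D k)

end Groth.Agent.R2.H2.QFNowhere
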