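import Mathlib
import Groth.Agent.R2.H2QFThmA

set_option autoImplicit false
universe u
open CategoryTheory AlgebraicGeometry Topology Limits

namespace Groth.Agent.R2.H2.QFNowhere

/-- a quasi-finite morphism is finite over a dense open of the target -/
theorem exists_dense_isFinite_restrict {Y X : Scheme.{u}} (f : Y ⟶ X) [LocallyQuasiFinite f]
    [LocallyOfFiniteType f] [QuasiCompact f] :
    ∃ U : X.Opens, Dense (U : Set X) ∧ IsFinite (f ∣_ U) := by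
  let U : X.Opens := sSup {T : X.Opens | IsFinite (f ∣_ T)}
  have hmem : ∀ x ∈ U, ∃ T : X.Opens, IsFinite (f ∣_ T) ∧ x ∈ T := by
    intro x hx
    obtain ⟨T, hT, hxT⟩ := TopologicalSpace.Opens.mem_sSup.mp hx
    exact ⟨T, hT, hxT⟩
  have hle : ∀ T : X.Opens, IsFinite (f ∣_ T) → T ≤ U := fun T hT => le_sSup hT
  refine ⟨U, ?_, ?_⟩
  · rw [dense_iff_inter_open]
    rintro O hO ⟨x, hx⟩
    have hex : ∃ W₀ : X.Opens, IsAffineOpen W₀ ∧ x ∈ W₀ := by
      obtain ⟨_, ⟨W₀, hW₀, rfl⟩, hxW₀, -⟩ :=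
        X.isBasis_affineOpens.exists_subset_of_mem_open (Set.mem_univ x) isOpen_univ
      exact ⟨W₀, hW₀, hxW₀⟩
    obtain ⟨W₀, hW₀, hxW₀⟩ := hex
    have : IsAffine (W₀ : Scheme.{u}) := hW₀
    obtain ⟨W', hW'd, hW'f⟩ := exists_dense_isFinite_restrict_of_isAffine (f ∣_ W₀)
    have hT : IsFinite (f ∣_ (W₀.ι ''ᵁ W')) :=
      (MorphismProperty.arrow_mk_iso_iff @IsFinite (morphismRestrictRestrict f W₀ W')).mp hW'f
    obtain ⟨w, hwO, hwW'⟩ := hW'd.inter_open_nonempty (W₀.ι ⁻¹' O)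
      (hO.preimage W₀.ι.continuous) ⟨⟨x, hxW₀⟩, hx⟩
    exact ⟨W₀.ι w, hwO, hle _ hT ⟨w, hwW', rfl⟩⟩
  · refine IsZariskiLocalAtTarget.of_forall_exists_morphismRestrict (P := @IsFinite) fun x => ?_
    obtain ⟨T, hT, hxT⟩ := hmem x.1 x.2
    refine ⟨U.ι ⁻¹ᵁ T, hxT, ?_⟩
    have heq : U.ι ''ᵁ (U.ι ⁻¹ᵁ T) = T := by
      rw [Scheme.Hom.image_preimage_eq_opensRange_inf, Scheme.Opens.opensRange_ι, inf_eq_right]
      exact hle T hT
    exact (MorphismProperty.arrow_mk_iso_iff @IsFinite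
      (morphismRestrictRestrict f U _ ≪≫ morphismRestrictEq f heq)).mpr hT

end Groth.Agent.R2.H2.QFNowhere
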