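import Mathlib
import Groth.Prelude
import Groth.Agent.Lib.Helper13AffBC
import Groth.Agent.Lib.Helper1PT4
import Groth.Agent.Lib.Helper2PullbackSec
import Groth.Agent.Lib.Helper23TensorQCoh
set_option backward.isDefEq.respectTransparency.types false

/-!
# Base change and pullback–tensor compatibilities as natural isomorphisms (helper30)

Namespace `Groth.Agent.R2.H30.FMBase`.  Tools for the Fourier–Mukai functors `M ↦ pr_{2,*}(pr_1^* M ⊗ K)`.

* `bcNat` : the base change transformation `f_* ⋙ g^* ⟶ g'^* ⋙ f'_*` of a commutative (pullback) square,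
  with components `Helper13AffBC.bcMap`; `isIso_bcNat_app` for `f` affine and quasi-coherent modules.
* `tensorRightPullIso h K : tensorRightMod K ⋙ h^* ≅ h^* ⋙ tensorRightMod (h^* K)`.
-/

set_option autoImplicit false
set_option linter.style.haveILetI false
universe u
open CategoryTheory CategoryTheory.Limits AlgebraicGeometry

namespace Groth.Agent.R2.H30.FMBase

open Scheme.Modules Groth.Agent.Helper13AffBC

section BC

variable {X S X' S' : Scheme.{u}} (f : X ⟶ S) (g : S' ⟶ S) (g' : X' ⟶ X) (f' : X' ⟶ S')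
  (h : IsPullback g' f' f g)

theorem vMap_naturality {F F' : X.Modules} (φ : F ⟶ F') :
    (pushforward f).map φ ≫ vMap f g g' f' h F' =
      vMap f g g' f' h F ≫
        (pushforward g).map ((pushforward f').map ((Scheme.Modules.pullback g').map φ)) := by
  unfold vMap
  have h1 := (pullbackPushforwardAdjunction g').unit.naturality φ
  have h2 := (pushforwardComp g' f).hom.naturality ((Scheme.Modules.pullback g').map φ)
  have h3 := (pushforwardCongr h.w).hom.naturality ((Scheme.Modules.pullback g').map φ)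
  have h4 := (pushforwardComp f' g).inv.naturality ((Scheme.Modules.pullback g').map φ)
  simp only [Functor.id_obj, Functor.comp_obj, Functor.id_map, Functor.comp_map] at h1 h2 h3 h4
  rw [← Category.assoc, ← Functor.map_comp, h1, Functor.map_comp]
  simp only [Category.assoc]
  rw [reassoc_of% h2, reassoc_of% h3, h4]

theorem bcMap_naturality {F F' : X.Modules} (φ : F ⟶ F') :
    (Scheme.Modules.pullback g).map ((pushforward f).map φ) ≫ bcMap f g g' f' h F' =
      bcMap f g g' f' h F ≫ (pushforward f').map ((Scheme.Modules.pullback g').map φ) := by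
  unfold bcMap
  rw [← Adjunction.homEquiv_naturality_left_symm, ← Adjunction.homEquiv_naturality_right_symm,
    vMap_naturality]

/-- the base change transformation `g^* f_* ⟶ f'_* g'^*` -/
noncomputable def bcNat : pushforward f ⋙ Scheme.Modules.pullback g ⟶
    Scheme.Modules.pullback g' ⋙ pushforward f' where
  app F := bcMap f g g' f' h F
  naturality _ _ φ := bcMap_naturality f g g' f' h φ

@[simp] theorem bcNat_app (F : X.Modules) : (bcNat f g g' f' h).app F = bcMap f g g' f' h F := rfl

end BC

section Tens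

open Groth.Agent.Lib.Helper1.PT

variable {X Y : Scheme.{u}} (h : X ⟶ Y)

theorem tensorRightMod_obj (K A : Y.Modules) :
    (DCoh.tensorRightMod K).obj A = ((DCoh.tensorBi (X := Y)).obj A).obj K := rfl

theorem tensorRightMod_map (K : Y.Modules) {A A' : Y.Modules} (φ : A ⟶ A') :
    (DCoh.tensorRightMod K).map φ = ((DCoh.tensorBi (X := Y)).map φ).app K := rfl

theorem tensorRightMod_obj_eq_tensorMod (K A : Y.Modules) :
    (DCoh.tensorRightMod K).obj A = CohB1.tensorMod A K := rfl

/-- pullback commutes with `- ⊗ K`, naturally. -/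
noncomputable def tensorRightPullIso (K : Y.Modules) :
    DCoh.tensorRightMod K ⋙ Scheme.Modules.pullback h ≅
      Scheme.Modules.pullback h ⋙ DCoh.tensorRightMod ((Scheme.Modules.pullback h).obj K) :=
  NatIso.ofComponents (fun A => ((pullTensorIso h).app A).app K) (fun {A A'} φ => by
    have := congrArg (fun t => t.app K) ((pullTensorIso h).hom.naturality φ)
    exact this)

end Tens

section FM

variable {X Y Y' P P' : Scheme.{u}} (p1 : P ⟶ X) (p2 : P ⟶ Y)

/-- the Fourier–Mukai type functor `M ↦ p2_*(p1^* M ⊗ K)` on all modules -/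
noncomputable abbrev fmAll (K : P.Modules) : X.Modules ⥤ Y.Modules :=
  Scheme.Modules.pullback p1 ⋙ DCoh.tensorRightMod K ⋙ Coh.push p2

theorem isQuasicoherent_pull_tens (K : P.Modules) [K.IsQuasicoherent] (M : X.Modules)
    [M.IsQuasicoherent] :
    ((DCoh.tensorRightMod K).obj ((Scheme.Modules.pullback p1).obj M)).IsQuasicoherent := by
  haveI : ((Scheme.Modules.pullback p1).obj M).IsQuasicoherent :=
    Groth.Agent.Lib.Helper2.PullbackSec.isQuasicoherent_pullback _ _
  exact Groth.Agent.Lib.Helper23.TensorQCoh.isQuasicoherent_tensorMod _ K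

variable [IsAffineHom p2] (g : Y' ⟶ Y) (h : P' ⟶ P) (p1' : P' ⟶ X) (p2' : P' ⟶ Y')

/-- `g^* ∘ F_K ≅ F_{h^* K}` on quasi-coherent modules, for a cartesian square `(h, p2', p2, g)` with `p2` affine. -/
theorem nonempty_fm_comp_pullback_iso (hsq : IsPullback h p2' p2 g) (hp1 : h ≫ p1 = p1')
    (K : P.Modules) [K.IsQuasicoherent] :
    Nonempty ((ObjectProperty.ι (QCohCat.isQCoh X) ⋙ Scheme.Modules.pullback p1 ⋙
        DCoh.tensorRightMod K ⋙ Coh.push p2) ⋙ Scheme.Modules.pullback g ≅
      ObjectProperty.ι (QCohCat.isQCoh X) ⋙ (Scheme.Modules.pullback p1' ⋙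
        DCoh.tensorRightMod ((Scheme.Modules.pullback h).obj K) ⋙ Coh.push p2')) := by
  let G : (QCohCat.isQCoh X).FullSubcategory ⥤ P.Modules :=
    ObjectProperty.ι (QCohCat.isQCoh X) ⋙ Scheme.Modules.pullback p1 ⋙ DCoh.tensorRightMod K
  have hG : ∀ M, (G.obj M).IsQuasicoherent := fun M => by
    haveI : M.obj.IsQuasicoherent := M.property
    exact isQuasicoherent_pull_tens p1 K M.obj
  have hiso : ∀ M, IsIso (bcMap p2 g h p2' hsq (G.obj M)) := fun M => by
    haveI := hG M
    exact isIso_bcMap p2 g h p2' hsq (G.obj M)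
  let e1 : (G ⋙ Coh.push p2) ⋙ Scheme.Modules.pullback g ≅
      G ⋙ Scheme.Modules.pullback h ⋙ Coh.push p2' :=
    NatIso.ofComponents (fun M => @asIso _ _ _ _ (bcMap p2 g h p2' hsq (G.obj M)) (hiso M))
      (fun {M M'} φ => bcMap_naturality p2 g h p2' hsq (G.map φ))
  let e2 : G ⋙ Scheme.Modules.pullback h ⋙ Coh.push p2' ≅
      (ObjectProperty.ι (QCohCat.isQCoh X) ⋙ Scheme.Modules.pullback p1) ⋙
        (Scheme.Modules.pullback h ⋙ DCoh.tensorRightMod ((Scheme.Modules.pullback h).obj K)) ⋙
          Coh.push p2' :=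
    Functor.isoWhiskerLeft (ObjectProperty.ι (QCohCat.isQCoh X) ⋙ Scheme.Modules.pullback p1)
      (Functor.isoWhiskerRight (tensorRightPullIso h K) (Coh.push p2'))
  let e3 : (ObjectProperty.ι (QCohCat.isQCoh X) ⋙ Scheme.Modules.pullback p1) ⋙
        (Scheme.Modules.pullback h ⋙ DCoh.tensorRightMod ((Scheme.Modules.pullback h).obj K)) ⋙
          Coh.push p2' ≅
      ObjectProperty.ι (QCohCat.isQCoh X) ⋙ (Scheme.Modules.pullback p1' ⋙
        DCoh.tensorRightMod ((Scheme.Modules.pullback h).obj K) ⋙ Coh.push p2') :=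
    Functor.isoWhiskerLeft (ObjectProperty.ι (QCohCat.isQCoh X))
      (Functor.isoWhiskerRight (Scheme.Modules.pullbackComp h p1 ≪≫ Scheme.Modules.pullbackCongr hp1)
        (DCoh.tensorRightMod ((Scheme.Modules.pullback h).obj K) ⋙ Coh.push p2'))
  exact ⟨e1 ≪≫ e2 ≪≫ e3⟩

end FM

end Groth.Agent.R2.H30.FMBase
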