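import Mathlib
import Groth.Prelude
import Groth.Agent.R2.H16CbcG2
import Groth.Agent.Lib.Helper23QCohLocal
import Groth.Agent.Lib.Helper13AffBC
import Groth.Agent.R2.H30FMBase
set_option backward.isDefEq.respectTransparency.types false

/-!
# Colimits of quasi-coherent modules and direct images along affine morphisms (helper30)

Namespace `Groth.Agent.R2.H30.FMColim`.

* `isQuasicoherent_colimit_spec`, `isQuasicoherent_colimit` : a small colimit (in `X.Modules`) of quasi-coherent
  modules is quasi-coherent.
* `preservesColimitsOfSize_ι` : the inclusion `QCoh X ⥤ X.Modules` preserves small colimits.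
* `preservesColimit_push_of_isAffineHom` : `f_*` (for `f` affine) preserves small colimits of diagrams of
  quasi-coherent modules.
* `preservesColimitsOfSize_fm` : `M ↦ p2_*(p1^* M ⊗ K)` on quasi-coherent modules preserves small colimits
  (`p2` affine, `K` quasi-coherent).
-/
set_option autoImplicit false
set_option linter.style.haveILetI false
universe u
open CategoryTheory CategoryTheory.Limits AlgebraicGeometry Opposite

namespace Groth.Agent.R2.H30.FMColim

section Spec

variable (R : CommRingCat.{u}) {J : Type u} [SmallCategory J]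

/-- a small colimit of quasi-coherent modules on `Spec R` is quasi-coherent -/
theorem isQuasicoherent_colimit_spec (E : J ⥤ (Spec R).Modules)
    (hE : ∀ j, (E.obj j).IsQuasicoherent) : (colimit E).IsQuasicoherent := by
  have hiso : ∀ j, IsIso ((tilde.adjunction (R := R)).counit.app (E.obj j)) := fun j => by
    haveI := hE j
    exact Scheme.Modules.isIso_fromTildeΓ_of_isQuasicoherent (E.obj j)
  let α : (E ⋙ moduleSpecΓFunctor (R := R)) ⋙ tilde.functor R ≅ E :=
    NatIso.ofComponents (fun j => @asIso _ _ _ _ _ (hiso j))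
      (fun f => (tilde.adjunction (R := R)).counit.naturality (E.map f))
  haveI : PreservesColimitsOfSize.{u, u} (tilde.functor R) :=
    (tilde.adjunction (R := R)).leftAdjoint_preservesColimits
  let e : colimit E ≅ (tilde.functor R).obj (colimit (E ⋙ moduleSpecΓFunctor (R := R))) :=
    (HasColimit.isoOfNatIso α.symm) ≪≫
      (preservesColimitIso (tilde.functor R) (E ⋙ moduleSpecΓFunctor (R := R))).symm
  haveI : ((tilde.functor R).obj (colimit (E ⋙ moduleSpecΓFunctor (R := R)))).IsQuasicoherent :=
    inferInstanceAs (tilde (R := R) _).IsQuasicoherent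
  exact Groth.Agent.Lib.Helper23.TensorQCoh.isQuasicoherent_of_iso e.symm

end Spec

section General

variable {X : Scheme.{u}} {J : Type u} [SmallCategory J]

/-- a small colimit of quasi-coherent modules is quasi-coherent -/
theorem isQuasicoherent_colimit (D : J ⥤ X.Modules) (hD : ∀ j, (D.obj j).IsQuasicoherent) :
    (colimit D).IsQuasicoherent := by
  refine Groth.Agent.Lib.Helper23.QCohLocal.isQuasicoherent_of_affine_cover (colimit D)
    (fun U : X.affineOpens => (U : X.Opens)) ?_ (fun U => U.2) (fun U => ?_)
  · exact iSup_affineOpens_eq_top X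
  · have hU : IsAffineOpen (U : X.Opens) := U.2
    haveI : PreservesColimit D (Scheme.Modules.restrictFunctor hU.fromSpec) := inferInstance
    let E : J ⥤ (Spec Γ(X, (U : X.Opens))).Modules := D ⋙ Scheme.Modules.restrictFunctor hU.fromSpec
    have hE : ∀ j, (E.obj j).IsQuasicoherent := fun j => by
      haveI := hD j
      exact Scheme.Modules.isQuasicoherent_restrictFunctor hU.fromSpec (D.obj j)
    have h1 := isQuasicoherent_colimit_spec _ E hE
    exact Groth.Agent.Lib.Helper23.TensorQCoh.isQuasicoherent_of_iso
      (preservesColimitIso (Scheme.Modules.restrictFunctor hU.fromSpec) D).symm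

end General

section Push

open Groth.Agent.R2.H11.CbcSpec Groth.Agent.R2.H16.CbcG2

variable {Z Y : Scheme.{u}} (f : Z ⟶ Y) {J : Type u} [SmallCategory J]

theorem push_comp_ΓAb (V : Y.Opens) : Coh.push f ⋙ ΓAb Y V = ΓAb Z (f ⁻¹ᵁ V) := rfl

theorem bijective_app_of_isIso_ΓAb {T : Scheme.{u}} {M N : T.Modules} (φ : M ⟶ N) (V : T.Opens)
    (h : IsIso ((ΓAb T V).map φ)) : Function.Bijective (φ.app V) :=
  (ConcreteCategory.isIso_iff_bijective ((ΓAb T V).map φ)).1 h

/-- the direct image along an affine morphism preserves small colimits of quasi-coherent modules -/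
theorem preservesColimit_push_of_isAffineHom [IsAffineHom f] (E : J ⥤ Z.Modules)
    (hE : ∀ j, (E.obj j).IsQuasicoherent) : PreservesColimit E (Coh.push f) := by
  refine preservesColimit_of_preserves_colimit_cocone (colimit.isColimit E) ?_
  let t : Cocone (E ⋙ Coh.push f) := (Coh.push f).mapCocone (colimit.cocone E)
  have hE' : ∀ j, ((E ⋙ Coh.push f).obj j).IsQuasicoherent := fun j => by
    haveI := hE j
    exact Groth.Agent.Lib.Helper23.QCohLocal.isQuasicoherent_pushforward f (E.obj j)
  suffices hφ : IsIso ((colimit.isColimit (E ⋙ Coh.push f)).desc t) from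
    IsColimit.ofPointIso (colimit.isColimit (E ⋙ Coh.push f))
  refine Groth.Agent.Helper13AffBC.isIso_of_bijective_on_basis _
    (fun V : Y.affineOpens => (V : Y.Opens)) ?_ (fun V => ?_)
  · have := Y.isBasis_affineOpens
    convert this
    ext W
    simp
  · have hV : IsAffineOpen (V : Y.Opens) := V.2
    refine bijective_app_of_isIso_ΓAb _ (V : Y.Opens) ?_
    -- both cocones become colimit cocones after taking sections over `V`
    haveI : PreservesColimit (E ⋙ Coh.push f) (ΓAb Y (V : Y.Opens)) :=
      preservesColimit_ΓAb hV _ hE'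
    haveI : PreservesColimit E (ΓAb Z (f ⁻¹ᵁ (V : Y.Opens))) :=
      preservesColimit_ΓAb (hV.preimage f) E hE
    have h1 : IsColimit ((ΓAb Y (V : Y.Opens)).mapCocone (colimit.cocone (E ⋙ Coh.push f))) :=
      isColimitOfPreserves _ (colimit.isColimit _)
    have h2 : IsColimit ((ΓAb Y (V : Y.Opens)).mapCocone t) := by
      have h3 : IsColimit ((ΓAb Z (f ⁻¹ᵁ (V : Y.Opens))).mapCocone (colimit.cocone E)) :=
        isColimitOfPreserves _ (colimit.isColimit _)
      exact h3
    have hdesc : (ΓAb Y (V : Y.Opens)).map ((colimit.isColimit (E ⋙ Coh.push f)).desc t) =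
        h1.desc ((ΓAb Y (V : Y.Opens)).mapCocone t) := by
      refine h1.hom_ext fun j => ?_
      rw [h1.fac]
      change (ΓAb Y (V : Y.Opens)).map _ ≫ (ΓAb Y (V : Y.Opens)).map _ = _
      rw [← Functor.map_comp, (colimit.isColimit (E ⋙ Coh.push f)).fac]
      rfl
    rw [hdesc]
    exact ⟨⟨h2.desc ((ΓAb Y (V : Y.Opens)).mapCocone (colimit.cocone (E ⋙ Coh.push f))),
      h1.hom_ext fun j => by rw [h1.fac_assoc, h2.fac]; exact (Category.comp_id _).symm,
      h2.hom_ext fun j => by rw [h2.fac_assoc, h1.fac]; exact (Category.comp_id _).symm⟩⟩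

end Push

section FM

variable {X Y P : Scheme.{u}} (p1 : P ⟶ X) (p2 : P ⟶ Y) [IsAffineHom p2] (K : P.Modules)
  [K.IsQuasicoherent]

/-- the inclusion of quasi-coherent modules preserves small colimits -/
theorem preservesColimitsOfSize_ι : PreservesColimitsOfSize.{u, u} (ObjectProperty.ι (QCohCat.isQCoh X)) := by
  constructor
  intro J _
  constructor
  intro D
  have hq : QCohCat.isQCoh X (colimit (D ⋙ ObjectProperty.ι (QCohCat.isQCoh X))) :=
    isQuasicoherent_colimit _ (fun j => (D.obj j).property)
  haveI : CreatesColimit D (ObjectProperty.ι (QCohCat.isQCoh X)) :=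
    createsColimitFullSubcategoryInclusion D hq
  exact preservesColimit_of_createsColimit_and_hasColimit D _

/-- The functor `M ↦ p2_*(p1^* M ⊗ K)` on quasi-coherent modules preserves all small colimits when `p2` is
affine and `K` quasi-coherent. -/
theorem preservesColimitsOfSize_fm :
    PreservesColimitsOfSize.{u, u} (ObjectProperty.ι (QCohCat.isQCoh X) ⋙
      Scheme.Modules.pullback p1 ⋙ DCoh.tensorRightMod K ⋙ Coh.push p2) := by
  haveI := preservesColimitsOfSize_ι (X := X)
  haveI : PreservesColimitsOfSize.{u, u} (Scheme.Modules.pullback p1) :=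
    (Scheme.Modules.pullbackPushforwardAdjunction p1).leftAdjoint_preservesColimits
  constructor
  intro J _
  constructor
  intro D
  haveI : PreservesColimit (((D ⋙ ObjectProperty.ι (QCohCat.isQCoh X)) ⋙
      Scheme.Modules.pullback p1) ⋙ DCoh.tensorRightMod K) (Coh.push p2) := by
    refine preservesColimit_push_of_isAffineHom p2 _ (fun j => ?_)
    haveI : (D.obj j).obj.IsQuasicoherent := (D.obj j).property
    exact Groth.Agent.R2.H30.FMBase.isQuasicoherent_pull_tens p1 K (D.obj j).obj
  haveI : PreservesColimit ((D ⋙ ObjectProperty.ι (QCohCat.isQCoh X)) ⋙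
      Scheme.Modules.pullback p1) (DCoh.tensorRightMod K ⋙ Coh.push p2) :=
    comp_preservesColimit _ _
  haveI : PreservesColimit (D ⋙ ObjectProperty.ι (QCohCat.isQCoh X))
      (Scheme.Modules.pullback p1 ⋙ DCoh.tensorRightMod K ⋙ Coh.push p2) :=
    comp_preservesColimit _ _
  exact comp_preservesColimit _ _

end FM

end Groth.Agent.R2.H30.FMColim
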