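import Mathlib
import Groth.Prelude.Def_FlatCA

/-!
# Weakly associated primes under localization, finite maps and finite flat base change (helper6, round 2)

Ring-level lemmas on `FlatCA.weakAss` used for the finite flat / etale / henselization statements.
-/

set_option autoImplicit false
universe u v w

namespace Groth.Agent.R2.H6.WeakAss

open TensorProduct

section Basic

variable {R : Type u} [CommRing R]

theorem mem_ann_iff {M : Type v} [AddCommGroup M] [Module R M] (m : M) (a : R) :
    a ∈ (Submodule.span R {m}).annihilator ↔ a • m = 0 :=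
  Submodule.mem_annihilator_span_singleton m a

/-- If `p` is minimal over `I` and `I ≤ J ≤ p`, then `p` is minimal over `J`. -/
theorem minimalPrimes_of_le_of_le {I J p : Ideal R} (hp : p ∈ I.minimalPrimes) (hIJ : I ≤ J)
    (hJp : J ≤ p) : p ∈ J.minimalPrimes :=
  ⟨⟨hp.1.1, hJp⟩, fun _ hq hqp => hp.2 ⟨hq.1, hIJ.trans hq.2⟩ hqp⟩

/-- If `p` is minimal over `I` and `x ∈ p` then `s * x ^ n ∈ I` for some `s ∉ p`. -/
theorem exists_notMem_mul_pow_mem {I p : Ideal R} (hp : p ∈ I.minimalPrimes) {x : R} (hx : x ∈ p) :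
    ∃ s ∉ p, ∃ n : ℕ, s * x ^ n ∈ I := by
  classical
  have := hp.1.1
  let T : Submonoid R := p.primeCompl ⊔ Submonoid.powers x
  by_contra hcon
  have hdisj : Disjoint (I : Set R) (T : Set R) := by
    rw [Set.disjoint_left]
    intro y hyI hyT
    obtain ⟨s, hs, t, ⟨n, rfl⟩, rfl⟩ := Submonoid.mem_sup.mp hyT
    exact hcon ⟨s, hs, n, hyI⟩
  obtain ⟨q, hq, hIq, hqT⟩ := Ideal.exists_le_prime_disjoint I T hdisj
  have hqp : q ≤ p := by
    intro y hy
    by_contra hyp
    exact Set.disjoint_left.mp hqT hy ((le_sup_left : p.primeCompl ≤ T) hyp)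
  have hpq : p ≤ q := hp.2 ⟨hq, hIq⟩ hqp
  exact Set.disjoint_left.mp hqT (hpq hx)
    ((le_sup_right : Submonoid.powers x ≤ T) (Submonoid.mem_powers x))

/-- Criterion for a prime to be minimal over an ideal. -/
theorem mem_minimalPrimes_of_forall {I p : Ideal R} [hp : p.IsPrime] (hI : I ≤ p)
    (h : ∀ x ∈ p, ∃ s ∉ p, ∃ n : ℕ, s * x ^ n ∈ I) : p ∈ I.minimalPrimes := by
  refine ⟨⟨hp, hI⟩, fun q hq hqp x hx => ?_⟩
  obtain ⟨s, hs, n, hsn⟩ := h x hx
  have h0 : s * x ^ n ∈ q := hq.2 hsn
  rcases hq.1.mem_or_mem h0 with h1 | h1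
  · exact absurd (hqp h1) hs
  · exact hq.1.mem_of_pow_mem n h1

theorem mem_minimalPrimes_iff_forall {I p : Ideal R} [hp : p.IsPrime] :
    p ∈ I.minimalPrimes ↔ I ≤ p ∧ ∀ x ∈ p, ∃ s ∉ p, ∃ n : ℕ, s * x ^ n ∈ I :=
  ⟨fun h => ⟨h.1.2, fun _ hx => exists_notMem_mul_pow_mem h hx⟩,
    fun h => mem_minimalPrimes_of_forall h.1 h.2⟩

/-- Element form of membership in `weakAss`. -/
theorem mem_weakAss_iff_exists {M : Type v} [AddCommGroup M] [Module R M] (p : Ideal R)
    [p.IsPrime] :
    p ∈ FlatCA.weakAss R M ↔ ∃ m : M, (∀ a : R, a • m = 0 → a ∈ p) ∧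
      ∀ x ∈ p, ∃ s ∉ p, ∃ n : ℕ, (s * x ^ n) • m = 0 := by
  constructor
  · rintro ⟨m, hm⟩
    rw [mem_minimalPrimes_iff_forall] at hm
    refine ⟨m, fun a ha => hm.1 ((mem_ann_iff m a).mpr ha), fun x hx => ?_⟩
    obtain ⟨s, hs, n, hsn⟩ := hm.2 x hx
    exact ⟨s, hs, n, (mem_ann_iff m _).mp hsn⟩
  · rintro ⟨m, h1, h2⟩
    refine ⟨m, mem_minimalPrimes_of_forall (fun a ha => h1 a ((mem_ann_iff m a).mp ha))
      (fun x hx => ?_)⟩
    obtain ⟨s, hs, n, hsn⟩ := h2 x hx
    exact ⟨s, hs, n, (mem_ann_iff m _).mpr hsn⟩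

/-- Weakly associated primes of a submodule (injective image) are weakly associated. -/
theorem mem_weakAss_of_injective {N : Type v} {N' : Type w} [AddCommGroup N] [AddCommGroup N']
    [Module R N] [Module R N'] (f : N →ₗ[R] N') (hf : Function.Injective f) {p : Ideal R}
    (h : p ∈ FlatCA.weakAss R N) : p ∈ FlatCA.weakAss R N' := by
  obtain ⟨m, hm⟩ := h
  refine ⟨f m, ?_⟩
  have : (Submodule.span R {f m}).annihilator = (Submodule.span R {m}).annihilator := by
    ext a
    rw [mem_ann_iff, mem_ann_iff, ← map_smul, map_eq_zero_iff f hf]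
  rwa [this]

/-- Weakly associated primes of a finite power of a module are weakly associated to the module. -/
theorem mem_weakAss_of_mem_weakAss_pi {ι : Type w} [Finite ι] {N : Type v} [AddCommGroup N]
    [Module R N] {p : Ideal R} (h : p ∈ FlatCA.weakAss R (ι → N)) : p ∈ FlatCA.weakAss R N := by
  classical
  cases nonempty_fintype ι
  obtain ⟨z, hz⟩ := h
  have hp : p.IsPrime := hz.1.1
  have hex : ∃ i, (Submodule.span R {z i}).annihilator ≤ p := by
    by_contra hcon
    push Not at hcon
    have hch : ∀ i, ∃ a, a ∈ (Submodule.span R {z i}).annihilator ∧ a ∉ p := fun i =>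
      Set.not_subset.mp (hcon i)
    choose a ha hap using hch
    have hprod : (∏ i, a i) ∈ (Submodule.span R {z}).annihilator := by
      rw [mem_ann_iff]
      funext i
      have h1 : a i • z i = 0 := (mem_ann_iff _ _).mp (ha i)
      obtain ⟨c, hc⟩ := Finset.dvd_prod_of_mem a (Finset.mem_univ i)
      rw [Pi.smul_apply, hc, mul_comm, mul_smul, h1, smul_zero, Pi.zero_apply]
    have : (∏ i, a i) ∈ p := hz.1.2 hprod
    rw [Ideal.IsPrime.prod_mem_iff] at this
    obtain ⟨i, -, hi⟩ := this
    exact hap i hi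
  obtain ⟨i, hi⟩ := hex
  refine ⟨z i, minimalPrimes_of_le_of_le hz ?_ hi⟩
  intro a ha
  rw [mem_ann_iff] at ha ⊢
  have := congrFun ha i
  simpa using this

/-- Localizing a module at `p` does not change whether `p` is weakly associated (everything
viewed over the base ring). -/
theorem mem_weakAss_iff_of_isLocalizedModule {N : Type v} {N' : Type w} [AddCommGroup N]
    [AddCommGroup N'] [Module R N] [Module R N'] (p : Ideal R) [hp : p.IsPrime] (g : N →ₗ[R] N')
    [IsLocalizedModule p.primeCompl g] :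
    p ∈ FlatCA.weakAss R N ↔ p ∈ FlatCA.weakAss R N' := by
  rw [mem_weakAss_iff_exists, mem_weakAss_iff_exists]
  constructor
  · rintro ⟨m, h1, h2⟩
    refine ⟨g m, fun a ha => ?_, fun x hx => ?_⟩
    · rw [← map_smul, IsLocalizedModule.eq_zero_iff p.primeCompl] at ha
      obtain ⟨s, hs⟩ := ha
      have h3 : ((s : R) * a) • m = 0 := by rw [mul_smul]; exact hs
      rcases hp.mem_or_mem (h1 _ h3) with h4 | h4
      · exact absurd h4 s.2
      · exact h4
    · obtain ⟨s, hs, n, hsn⟩ := h2 x hx
      exact ⟨s, hs, n, by rw [← map_smul, hsn, map_zero]⟩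
  · rintro ⟨y, h1, h2⟩
    obtain ⟨⟨m, s⟩, hms⟩ := IsLocalizedModule.surj p.primeCompl g y
    simp only at hms
    refine ⟨m, fun a ha => ?_, fun x hx => ?_⟩
    · have h3 : (a * (s : R)) • y = 0 := by
        rw [mul_smul]
        change a • (s • y) = 0
        rw [hms, ← map_smul, ha, map_zero]
      rcases hp.mem_or_mem (h1 _ h3) with h4 | h4
      · exact h4
      · exact absurd h4 s.2
    · obtain ⟨s', hs', n, hsn⟩ := h2 x hx
      have h3 : g ((s' * x ^ n) • m) = 0 := by
        rw [map_smul, ← hms]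
        change (s' * x ^ n) • ((s : R) • y) = 0
        rw [smul_comm, hsn, smul_zero]
      rw [IsLocalizedModule.eq_zero_iff p.primeCompl] at h3
      obtain ⟨s'', hs''⟩ := h3
      refine ⟨(s'' : R) * s', ?_, n, ?_⟩
      · exact hp.mul_notMem s''.2 hs'
      · rw [mul_assoc, mul_smul]
        exact hs''

end Basic

section Finite

variable {A : Type u} {B : Type v} [CommRing A] [CommRing B] [Algebra A B]

/-- Stacks 10.66.12 (hard direction): for a finite ring map, the contraction of a weakly associated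
prime of a `B`-module is weakly associated to the module viewed over `A`. -/
theorem comap_mem_weakAss_of_finite [Module.Finite A B] {N : Type w} [AddCommGroup N] [Module B N]
    [Module A N] [IsScalarTower A B N] {t : Ideal B} (ht : t ∈ FlatCA.weakAss B N) :
    t.comap (algebraMap A B) ∈ FlatCA.weakAss A N := by
  classical
  obtain ⟨z, hz⟩ := ht
  have htp : t.IsPrime := hz.1.1
  set p := t.comap (algebraMap A B) with hp
  have hpprime : p.IsPrime := Ideal.comap_isPrime _ t
  have : Algebra.IsIntegral A B := Algebra.IsIntegral.of_finite A B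
  have hfin : (p.primesOver B).Finite := Algebra.QuasiFinite.finite_primesOver p
  let others : Finset (Ideal B) := hfin.toFinset.erase t
  have hothers : ∀ Q ∈ others, Q ≠ t ∧ Q.IsPrime ∧ Q.comap (algebraMap A B) = p := by
    intro Q hQ
    rw [Finset.mem_erase, Set.Finite.mem_toFinset] at hQ
    obtain ⟨hne, hQprime, hQover⟩ := hQ
    exact ⟨hne, hQprime, hQover.over.symm⟩
  -- prime avoidance: an element of `t` outside the other primes over `p`
  have hav : ∃ x₀ ∈ t, ∀ Q ∈ others, x₀ ∉ Q := by
    by_contra hcon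
    have hsub : (t : Set B) ⊆ ⋃ Q ∈ (others : Set (Ideal B)), ((id Q : Ideal B) : Set B) := by
      intro a ha
      by_contra hna
      apply hcon
      refine ⟨a, ha, fun Q hQ haQ => hna ?_⟩
      exact Set.mem_biUnion (Finset.mem_coe.2 hQ) haQ
    rw [Ideal.subset_union_prime (f := id) t t (fun Q hQ _ _ => (hothers Q hQ).2.1)] at hsub
    obtain ⟨Q, hQ, htQ⟩ := hsub
    obtain ⟨hne, hQprime, hQover⟩ := hothers Q hQ
    have hlt : t < Q := lt_of_le_of_ne htQ (Ne.symm hne)
    obtain ⟨x, hxQ, hxt⟩ := Set.exists_of_ssubset hlt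
    have h5 : t.comap (algebraMap A B) < Q.comap (algebraMap A B) :=
      Ideal.comap_lt_comap_of_integral_mem_sdiff (R := A) htQ ⟨hxQ, hxt⟩
        (Algebra.IsIntegral.isIntegral x)
    rw [hQover] at h5
    exact lt_irrefl _ h5
  obtain ⟨x₀, hx₀t, hx₀⟩ := hav
  obtain ⟨y, hyt, k₀, hyk₀⟩ := exists_notMem_mul_pow_mem hz hx₀t
  rw [mem_ann_iff] at hyk₀
  rw [mem_weakAss_iff_exists]
  refine ⟨y • z, fun a ha => ?_, fun a ha => ?_⟩
  · -- annihilator of `y • z` over `A` lies in `p`
    have h1 : (algebraMap A B a * y) • z = 0 := by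
      rw [mul_smul, algebraMap_smul]; exact ha
    have h2 : algebraMap A B a * y ∈ t := hz.1.2 ((mem_ann_iff z _).mpr h1)
    rcases htp.mem_or_mem h2 with h3 | h3
    · exact h3
    · exact absurd h3 hyt
  · have hat : algebraMap A B a ∈ t := ha
    obtain ⟨c, hct, k, hck⟩ := exists_notMem_mul_pow_mem hz hat
    rw [mem_ann_iff] at hck
    set z' : N := (algebraMap A B a) ^ k • y • z with hz'
    have hcz : c • z' = 0 := by
      rw [hz', smul_comm ((algebraMap A B a) ^ k) y, smul_comm c y, ← mul_smul c, hck, smul_zero]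
    have hx₀z : x₀ ^ k₀ • z' = 0 := by
      rw [hz', smul_comm (x₀ ^ k₀), ← mul_smul (x₀ ^ k₀), mul_comm, hyk₀, smul_zero]
    by_contra hno
    push Not at hno
    let T : Submonoid B := Submonoid.map (algebraMap A B) p.primeCompl
    have hdisj : Disjoint (((Submodule.span B {z'}).annihilator : Ideal B) : Set B) (T : Set B) := by
      rw [Set.disjoint_left]
      rintro _ haI ⟨s, hs, rfl⟩
      rw [SetLike.mem_coe, mem_ann_iff] at haI
      apply hno s hs k
      rw [mul_smul, ← algebraMap_smul B s, ← algebraMap_smul B (a ^ k), map_pow]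
      exact haI
    obtain ⟨Q, hQprime, hIQ, hQT⟩ := Ideal.exists_le_prime_disjoint _ T hdisj
    have hQp : Q.comap (algebraMap A B) ≤ p := by
      intro s hs
      by_contra hsp
      exact (Set.disjoint_left.1 hQT) hs ⟨s, hsp, rfl⟩
    obtain ⟨Q', hQQ', hQ'prime, hQ'over⟩ :=
      Ideal.exists_ideal_over_prime_of_isIntegral_of_isPrime p Q hQp
    by_cases hQ't : Q' = t
    · apply hct
      rw [← hQ't]
      exact hQQ' (hIQ ((mem_ann_iff _ _).mpr hcz))
    · have hmem : Q' ∈ others := by
        rw [Finset.mem_erase, Set.Finite.mem_toFinset]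
        exact ⟨hQ't, hQ'prime, ⟨hQ'over.symm⟩⟩
      apply hx₀ Q' hmem
      exact hQ'prime.mem_of_pow_mem k₀ (hQQ' (hIQ ((mem_ann_iff _ _).mpr hx₀z)))

end Finite

section Localization

/-- Weakly associated primes and localization of the ring: for `B'` a localization of `B`, `N'` a
localization of the `B`-module `N`, and `u'` a prime of `B'`: `u'` is weakly associated to `N'` over
`B'` iff its contraction is weakly associated to `N` over `B`. -/
theorem mem_weakAss_iff_comap_of_isLocalization {B : Type u} [CommRing B] (S : Submonoid B)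
    (B' : Type v) [CommRing B'] [Algebra B B'] [IsLocalization S B']
    {N : Type w} {N' : Type*} [AddCommGroup N] [AddCommGroup N'] [Module B N] [Module B N']
    [Module B' N'] [IsScalarTower B B' N'] (g : N →ₗ[B] N') [IsLocalizedModule S g]
    (u' : Ideal B') [hu' : u'.IsPrime] :
    u' ∈ FlatCA.weakAss B' N' ↔ u'.comap (algebraMap B B') ∈ FlatCA.weakAss B N := by
  set u := u'.comap (algebraMap B B') with hu
  have hup : u.IsPrime := Ideal.comap_isPrime _ _
  have hunit : ∀ s : S, algebraMap B B' (s : B) ∉ u' := fun s hs =>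
    hu'.ne_top (Ideal.eq_top_of_isUnit_mem _ hs (IsLocalization.map_units B' s))
  have F1 : ∀ s : S, (s : B) ∉ u := fun s hs => hunit s hs
  have F3 : ∀ (b' : B') (b : B) (s : S), b' * algebraMap B B' (s : B) = algebraMap B B' b →
      (b' ∈ u' ↔ b ∈ u) := by
    intro b' b s h
    constructor
    · intro hb'
      change algebraMap B B' b ∈ u'
      rw [← h]; exact Ideal.mul_mem_right _ _ hb'
    · intro hb
      have : b' * algebraMap B B' (s : B) ∈ u' := by rw [h]; exact hb
      rcases hu'.mem_or_mem this with h1 | h1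
      · exact h1
      · exact absurd h1 (hunit s)
  rw [mem_weakAss_iff_exists, mem_weakAss_iff_exists]
  constructor
  · rintro ⟨y, h1, h2⟩
    obtain ⟨⟨n, s⟩, hns⟩ := IsLocalizedModule.surj S g y
    simp only at hns
    refine ⟨n, fun b hb => ?_, fun x hx => ?_⟩
    · have h3 : (algebraMap B B' (b * (s : B))) • y = 0 := by
        rw [algebraMap_smul, mul_smul]
        change b • (s • y) = 0
        rw [hns, ← map_smul, hb, map_zero]
      have h4 : b * (s : B) ∈ u := h1 _ h3
      rcases hup.mem_or_mem h4 with h5 | h5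
      · exact h5
      · exact absurd h5 (F1 s)
    · have hx' : algebraMap B B' x ∈ u' := hx
      obtain ⟨t', ht', k, htk⟩ := h2 _ hx'
      obtain ⟨⟨t, s1⟩, hts⟩ := IsLocalization.surj S t'
      simp only at hts
      have htu : t ∉ u := fun h => ht' ((F3 t' t s1 hts).mpr h)
      have h3 : g ((t * x ^ k) • n) = 0 := by
        rw [map_smul, ← hns]
        change (t * x ^ k) • ((s : B) • y) = 0
        rw [smul_comm, ← algebraMap_smul B' (t * x ^ k) y, map_mul, ← hts, map_pow,
          mul_comm t', mul_assoc, mul_smul, htk, smul_zero, smul_zero]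
      rw [IsLocalizedModule.eq_zero_iff S] at h3
      obtain ⟨s2, hs2⟩ := h3
      refine ⟨(s2 : B) * t, hup.mul_notMem (F1 s2) htu, k, ?_⟩
      rw [mul_assoc, mul_smul]
      exact hs2
  · rintro ⟨n, h1, h2⟩
    refine ⟨g n, fun b' hb' => ?_, fun x' hx' => ?_⟩
    · obtain ⟨⟨b, s⟩, hbs⟩ := IsLocalization.surj S b'
      simp only at hbs
      have h3 : g (b • n) = 0 := by
        rw [map_smul, ← algebraMap_smul B' b (g n), ← hbs, mul_comm, mul_smul, hb', smul_zero]
      rw [IsLocalizedModule.eq_zero_iff S] at h3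
      obtain ⟨s2, hs2⟩ := h3
      have h4 : (s2 : B) * b ∈ u := h1 _ (by rw [mul_smul]; exact hs2)
      rcases hup.mem_or_mem h4 with h5 | h5
      · exact absurd h5 (F1 s2)
      · exact (F3 b' b s hbs).mpr h5
    · obtain ⟨⟨x, s⟩, hxs⟩ := IsLocalization.surj S x'
      simp only at hxs
      have hxu : x ∈ u := (F3 x' x s hxs).mp hx'
      obtain ⟨t, ht, k, htk⟩ := h2 x hxu
      refine ⟨algebraMap B B' t * (algebraMap B B' (s : B)) ^ k, ?_, k, ?_⟩
      · intro h
        rcases hu'.mem_or_mem h with h5 | h5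
        · exact ht h5
        · exact hunit s (hu'.mem_of_pow_mem k h5)
      · have h3 : (algebraMap B B' t * (algebraMap B B' (s : B)) ^ k * x' ^ k) =
            algebraMap B B' (t * x ^ k) := by
          rw [map_mul, map_pow, ← hxs, mul_pow]; ring
        rw [h3, algebraMap_smul, ← map_smul, htk, map_zero]

end Localization

section Flat

variable {A : Type u} {B : Type v} [CommRing A] [CommRing B] [Algebra A B]

/-- For a flat `A`-algebra `B`, the annihilator in `B` of `1 ⊗ m` is the extension of the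
annihilator of `m`. -/
theorem ann_one_tmul_eq_map [Module.Flat A B] {M : Type w} [AddCommGroup M] [Module A M] (m : M) :
    (Submodule.span B {(1 : B) ⊗ₜ[A] m}).annihilator =
      ((Submodule.span A {m}).annihilator).map (algebraMap A B) := by
  set I := (Submodule.span A {m}).annihilator with hI
  have hb : ∀ b : B, b • ((1 : B) ⊗ₜ[A] m) = b ⊗ₜ[A] m := fun b => by
    rw [TensorProduct.smul_tmul', smul_eq_mul, mul_one]
  apply le_antisymm
  · intro b hbm
    rw [mem_ann_iff, hb] at hbm
    -- the injective map `A ⧸ I → M`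
    have hker : I ≤ LinearMap.ker (LinearMap.toSpanSingleton A M m) := by
      intro a ha
      rw [LinearMap.mem_ker, LinearMap.toSpanSingleton_apply]
      exact (mem_ann_iff m a).mp ha
    let f : (A ⧸ I) →ₗ[A] M := Submodule.liftQ I (LinearMap.toSpanSingleton A M m) hker
    have hf : Function.Injective f := by
      rw [← LinearMap.ker_eq_bot]
      apply Submodule.ker_liftQ_eq_bot
      intro a ha
      rw [LinearMap.mem_ker, LinearMap.toSpanSingleton_apply] at ha
      exact (mem_ann_iff m a).mpr ha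
    have hinj := Module.Flat.lTensor_preserves_injective_linearMap (M := B) f hf
    have h1 : (LinearMap.lTensor B f) (b ⊗ₜ[A] (Ideal.Quotient.mk I 1)) = 0 := by
      rw [LinearMap.lTensor_tmul]
      have : f (Ideal.Quotient.mk I 1) = m := by
        change (Submodule.liftQ I (LinearMap.toSpanSingleton A M m) hker) (Submodule.Quotient.mk 1) = m
        rw [Submodule.liftQ_apply, LinearMap.toSpanSingleton_apply, one_smul]
      rw [this]; exact hbm
    have h2 : b ⊗ₜ[A] (Ideal.Quotient.mk I 1) = 0 := hinj (by rw [h1, map_zero])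
    have h3 := congrArg (TensorProduct.tensorQuotEquivQuotSMul B I) h2
    rw [TensorProduct.tensorQuotEquivQuotSMul_tmul_mk, map_zero, one_smul,
      Submodule.Quotient.mk_eq_zero, Ideal.smul_top_eq_map] at h3
    exact h3
  · rw [Ideal.map_le_iff_le_comap]
    intro a ha
    rw [Ideal.mem_comap, mem_ann_iff, hb, Algebra.algebraMap_eq_smul_one, TensorProduct.smul_tmul,
      (mem_ann_iff m a).mp ha, TensorProduct.tmul_zero]

/-- Flat pullback of weakly associated primes: if `p` is weakly associated to `M`, `B` is flat over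
`A` and `t` is a prime of `B` over `p` which is minimal among the primes over `p` below it, then `t`
is weakly associated to `B ⊗ M`. -/
theorem mem_weakAss_tensor_of_flat_of_minimal_over [Module.Flat A B] {M : Type w} [AddCommGroup M]
    [Module A M] {p : Ideal A} (hp : p ∈ FlatCA.weakAss A M) (t : Ideal B) [ht : t.IsPrime]
    (htp : t.comap (algebraMap A B) = p)
    (hmin : ∀ t' : Ideal B, t'.IsPrime → t' ≤ t → t'.comap (algebraMap A B) = p → t' = t) :
    t ∈ FlatCA.weakAss B (B ⊗[A] M) := by
  obtain ⟨m, hm⟩ := hp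
  refine ⟨(1 : B) ⊗ₜ[A] m, ?_⟩
  rw [ann_one_tmul_eq_map]
  refine ⟨⟨ht, ?_⟩, ?_⟩
  · rw [Ideal.map_le_iff_le_comap, htp]
    exact hm.1.2
  · intro t' ht' ht't
    have h1 : (Submodule.span A {m}).annihilator ≤ t'.comap (algebraMap A B) :=
      Ideal.map_le_iff_le_comap.mp ht'.2
    have := ht'.1
    have h2 : t'.comap (algebraMap A B) ≤ p := by
      rw [← htp]; exact Ideal.comap_mono ht't
    have h3 : p ≤ t'.comap (algebraMap A B) := hm.2 ⟨Ideal.comap_isPrime _ _, h1⟩ h2
    exact (hmin t' ht'.1 ht't (le_antisymm h2 h3)).ge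

end Flat

section FiniteFlat

variable {A : Type u} [CommRing A]

/-- For a finite flat `A`-module `P`, weakly associated primes (over `A`) of `P ⊗ M` are weakly
associated to `M`. -/
theorem mem_weakAss_of_mem_weakAss_tensor_of_finite_flat (P : Type u) [AddCommGroup P] [Module A P]
    [Module.Finite A P] [Module.Flat A P] (M : Type u) [AddCommGroup M] [Module A M]
    (p : Ideal A) [p.IsPrime] (h : p ∈ FlatCA.weakAss A (P ⊗[A] M)) : p ∈ FlatCA.weakAss A M := by
  classical
  let Ap := Localization.AtPrime p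
  let Pp := Ap ⊗[A] P
  have : Module.Free Ap Pp := Module.free_of_flat_of_isLocalRing
  let b := Module.Free.chooseBasis Ap Pp
  let g1 : P →ₗ[A] Pp := TensorProduct.mk A Ap P 1
  have : IsLocalizedModule p.primeCompl g1 :=
    IsLocalization.tensorProduct_isLocalizedModule p.primeCompl Ap
  let g2 : P ⊗[A] M →ₗ[A] Pp ⊗[A] M := AlgebraTensorModule.rTensor A M g1
  have : IsLocalizedModule p.primeCompl g2 := IsLocalizedModule.rTensor A p.primeCompl g1
  have h1 : p ∈ FlatCA.weakAss A (Pp ⊗[A] M) := (mem_weakAss_iff_of_isLocalizedModule p g2).mp h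
  let e : Pp ≃ₗ[A] (Module.Free.ChooseBasisIndex Ap Pp → Ap) := b.equivFun.restrictScalars A
  let E : Pp ⊗[A] M ≃ₗ[A] (Module.Free.ChooseBasisIndex Ap Pp → Ap ⊗[A] M) :=
    (TensorProduct.congr e (LinearEquiv.refl A M)).trans
      (TensorProduct.piLeft A M (fun _ : Module.Free.ChooseBasisIndex Ap Pp => Ap))
  have h2 : p ∈ FlatCA.weakAss A (Module.Free.ChooseBasisIndex Ap Pp → Ap ⊗[A] M) :=
    mem_weakAss_of_injective E.toLinearMap E.injective h1
  have h3 : p ∈ FlatCA.weakAss A (Ap ⊗[A] M) := mem_weakAss_of_mem_weakAss_pi h2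
  have : IsLocalizedModule p.primeCompl (TensorProduct.mk A Ap M 1) :=
    IsLocalization.tensorProduct_isLocalizedModule p.primeCompl Ap
  exact (mem_weakAss_iff_of_isLocalizedModule p (TensorProduct.mk A Ap M 1)).mpr h3

end FiniteFlat

section Common

open TensorProduct

/-- If a localization `D` of `B` is also a localization of a finite flat `A`-algebra `C`, then
weakly associated primes of `B ⊗ M` which come from `D` contract to weakly associated primes of
`M`. -/
theorem comap_mem_weakAss_of_common_localization {A B C D : Type u} [CommRing A] [CommRing B]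
    [CommRing C] [CommRing D] [Algebra A B] [Algebra A C] [Algebra A D] [Algebra B D] [Algebra C D]
    [IsScalarTower A B D] [IsScalarTower A C D]
    (SB : Submonoid B) [IsLocalization SB D] (SC : Submonoid C) [IsLocalization SC D]
    [Module.Finite A C] [Module.Flat A C] (M : Type u) [AddCommGroup M] [Module A M]
    (u' : Ideal D) [u'.IsPrime]
    (h : u'.comap (algebraMap B D) ∈ FlatCA.weakAss B (B ⊗[A] M)) :
    u'.comap (algebraMap A D) ∈ FlatCA.weakAss A M := by
  -- pass to `D`
  let gB : B ⊗[A] M →ₗ[B] D ⊗[A] M := AlgebraTensorModule.rTensor A M (Algebra.linearMap B D)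
  have : IsLocalizedModule SB gB := IsLocalizedModule.rTensor B SB (Algebra.linearMap B D)
  have h1 : u' ∈ FlatCA.weakAss D (D ⊗[A] M) :=
    (mem_weakAss_iff_comap_of_isLocalization SB D gB u').mpr h
  -- pass to `C`
  let gC : C ⊗[A] M →ₗ[C] D ⊗[A] M := AlgebraTensorModule.rTensor A M (Algebra.linearMap C D)
  have : IsLocalizedModule SC gC := IsLocalizedModule.rTensor C SC (Algebra.linearMap C D)
  have h2 : u'.comap (algebraMap C D) ∈ FlatCA.weakAss C (C ⊗[A] M) :=
    (mem_weakAss_iff_comap_of_isLocalization SC D gC u').mp h1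
  -- pass to `A`
  have h3 := comap_mem_weakAss_of_finite (A := A) h2
  rw [Ideal.comap_comap, ← IsScalarTower.algebraMap_eq] at h3
  have : (u'.comap (algebraMap A D)).IsPrime := Ideal.comap_isPrime _ _
  exact mem_weakAss_of_mem_weakAss_tensor_of_finite_flat C M _ h3

end Common

end Groth.Agent.R2.H6.WeakAss
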