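import Mathlib
import Groth.Prelude.Def_FlatCA
import Groth.Agent.R2.H6WeakAss

/-!
# Flatness of localized modules over a base ring (helper6, round 2)

For a `B`-module `M` over an `A`-algebra `B` and a submonoid `S` of `B`, flatness over `A` of the
localization `S⁻¹M` is expressed by the elementwise condition `TorsionKer A S M`: for every injective
map of `A`-modules `X → P`, every element of the kernel of `M ⊗ X → M ⊗ P` is killed by an element
of `S`. This condition is transported along flat base change `B → C` (both directions).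
-/

set_option autoImplicit false
universe u

namespace Groth.Agent.R2.H6.FlatAt

open TensorProduct

section Def

variable (A : Type u) {B : Type u} [CommRing A] [CommRing B] [Algebra A B]

/-- Kernels of `M ⊗ X → M ⊗ P` (for injective `X → P`) are `S`-torsion. -/
def TorsionKer (S : Submonoid B) (M : Type u) [AddCommGroup M] [Module B M] [Module A M]
    [IsScalarTower A B M] : Prop :=
  ∀ (X P : Type u) [AddCommGroup X] [AddCommGroup P] [Module A X] [Module A P] (f : X →ₗ[A] P),
    Function.Injective f → ∀ k : M ⊗[A] X, (f.lTensor M) k = 0 → ∃ b ∈ S, b • k = 0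

variable {A}

theorem lTensor_smul {M : Type u} [AddCommGroup M] [Module B M]
    [Module A M] [IsScalarTower A B M] {X P : Type u} [AddCommGroup X] [AddCommGroup P] [Module A X]
    [Module A P] (f : X →ₗ[A] P) (b : B) (k : M ⊗[A] X) :
    (f.lTensor M) (b • k) = b • (f.lTensor M) k :=
  (AlgebraTensorModule.lTensor B M f).map_smul b k

theorem rTensor_lTensor_comm {M M' : Type u} [AddCommGroup M] [Module B M]
    [Module A M] [IsScalarTower A B M] [AddCommGroup M'] [Module B M'] [Module A M']
    [IsScalarTower A B M'] (g : M →ₗ[B] M') {X P : Type u} [AddCommGroup X] [AddCommGroup P]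
    [Module A X] [Module A P] (f : X →ₗ[A] P) (x : M ⊗[A] X) :
    (f.lTensor M') (AlgebraTensorModule.rTensor A X g x) =
        AlgebraTensorModule.rTensor A P g ((f.lTensor M) x) := by
  induction x using TensorProduct.induction_on with
  | zero => simp
  | tmul m y => simp
  | add a b ha hb => simp only [map_add, ha, hb]

/-- Flatness over `A` of a localization of `M` at `S ⊆ B` is equivalent to `TorsionKer A S M`. -/
theorem flat_iff_torsionKer (S : Submonoid B) {M M' : Type u} [AddCommGroup M] [Module B M]
    [Module A M] [IsScalarTower A B M] [AddCommGroup M'] [Module B M'] [Module A M']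
    [IsScalarTower A B M'] (g : M →ₗ[B] M') [IsLocalizedModule S g] :
    Module.Flat A M' ↔ TorsionKer A S M := by
  constructor
  · intro hflat X P _ _ _ _ f hf k hk
    have : IsLocalizedModule S (AlgebraTensorModule.rTensor A X g) :=
      IsLocalizedModule.rTensor B S g
    have h1 : (f.lTensor M') (AlgebraTensorModule.rTensor A X g k) = 0 := by
      rw [rTensor_lTensor_comm, hk, map_zero]
    have hinj := Module.Flat.lTensor_preserves_injective_linearMap (M := M') f hf
    have h2 : AlgebraTensorModule.rTensor A X g k = 0 := hinj (by rw [h1, map_zero])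
    obtain ⟨s, hs⟩ := (IsLocalizedModule.eq_zero_iff S (AlgebraTensorModule.rTensor A X g)).mp h2
    exact ⟨s, s.2, hs⟩
  · intro hT
    rw [Module.Flat.iff_lTensor_preserves_injective_linearMap']
    intro X P _ _ _ _ f hf
    rw [injective_iff_map_eq_zero]
    intro ζ hζ
    have : IsLocalizedModule S (AlgebraTensorModule.rTensor A X g) :=
      IsLocalizedModule.rTensor B S g
    have : IsLocalizedModule S (AlgebraTensorModule.rTensor A P g) :=
      IsLocalizedModule.rTensor B S g
    obtain ⟨⟨x, s⟩, hxs⟩ := IsLocalizedModule.surj S (AlgebraTensorModule.rTensor A X g) ζ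
    simp only at hxs
    -- `ψ x` is killed by some element of `S`
    have h1 : AlgebraTensorModule.rTensor A P g ((f.lTensor M) x) = 0 := by
      rw [← rTensor_lTensor_comm, ← hxs, Submonoid.smul_def, lTensor_smul, hζ, smul_zero]
    obtain ⟨s', hs'⟩ := (IsLocalizedModule.eq_zero_iff S (AlgebraTensorModule.rTensor A P g)).mp h1
    have h2 : (f.lTensor M) ((s' : B) • x) = 0 := by
      rw [lTensor_smul]
      exact hs'
    obtain ⟨b, hb, hbx⟩ := hT X P f hf _ h2
    have h4 : AlgebraTensorModule.rTensor A X g x = 0 := by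
      rw [IsLocalizedModule.eq_zero_iff S]
      refine ⟨⟨b, hb⟩ * s', ?_⟩
      rw [Submonoid.smul_def, Submonoid.coe_mul, mul_smul]
      exact hbx
    rw [h4] at hxs
    exact IsLocalizedModule.smul_injective (AlgebraTensorModule.rTensor A X g) s
      (by simpa using hxs)

/-- `FlatCA.FlatAt` in terms of `TorsionKer`. -/
theorem flatAt_iff_torsionKer (q : Ideal B) [q.IsPrime] (M : Type u) [AddCommGroup M] [Module B M]
    [Module A M] [IsScalarTower A B M] :
    FlatCA.FlatAt A q M ↔ TorsionKer A q.primeCompl M :=
  flat_iff_torsionKer q.primeCompl (LocalizedModule.mkLinearMap q.primeCompl M)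

end Def

section BaseChange

variable {A B C : Type u} [CommRing A] [CommRing B] [CommRing C] [Algebra A B] [Algebra B C]
  [Algebra A C] [IsScalarTower A B C] [Module.Flat B C]
  {M N : Type u} [AddCommGroup M] [Module B M] [Module A M] [IsScalarTower A B M]
  [AddCommGroup N] [Module C N] [Module B N] [Module A N] [IsScalarTower B C N]
  [IsScalarTower A C N] [IsScalarTower A B N]

theorem map_lTensor_comm (h : M →ₗ[B] N) {X P : Type u} [AddCommGroup X] [AddCommGroup P]
    [Module A X] [Module A P] (f : X →ₗ[A] P) (z : M ⊗[A] X) :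
    (f.lTensor N) ((AlgebraTensorModule.map h LinearMap.id : M ⊗[A] X →ₗ[B] N ⊗[A] X) z) =
      (AlgebraTensorModule.map h LinearMap.id : M ⊗[A] P →ₗ[B] N ⊗[A] P) ((f.lTensor M) z) := by
  induction z using TensorProduct.induction_on with
  | zero => simp
  | tmul m x => simp
  | add a b ha hb => simp only [map_add, ha, hb]

/-- Ascent of `TorsionKer` along a flat base change. -/
theorem torsionKer_of_isBaseChange (h : M →ₗ[B] N) (hh : IsBaseChange C h) (SB : Submonoid B)
    (SC : Submonoid C) (hS : ∀ b ∈ SB, algebraMap B C b ∈ SC) (hM : TorsionKer A SB M) :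
    TorsionKer A SC N := by
  intro X P _ _ _ _ f hf x' hx'
  let hX : M ⊗[A] X →ₗ[B] N ⊗[A] X := AlgebraTensorModule.map h LinearMap.id
  let hP : M ⊗[A] P →ₗ[B] N ⊗[A] P := AlgebraTensorModule.map h LinearMap.id
  have hbX : IsBaseChange C hX := isBaseChange_tensorProduct_map C hh
  have hbP : IsBaseChange C hP := isBaseChange_tensorProduct_map C hh
  let ψ : M ⊗[A] X →ₗ[B] M ⊗[A] P := AlgebraTensorModule.lTensor B M f
  have hψ : ∀ y, ψ y = (f.lTensor M) y := fun _ => rfl
  -- naturality
  have hnat : ∀ y : C ⊗[B] (M ⊗[A] X),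
      (f.lTensor N) (hbX.equiv y) = hbP.equiv ((ψ.lTensor C) y) := by
    intro y
    induction y using TensorProduct.induction_on with
    | zero => simp
    | tmul c z =>
      rw [LinearMap.lTensor_tmul, IsBaseChange.equiv_tmul, IsBaseChange.equiv_tmul,
        lTensor_smul (A := A) (B := C), hψ, map_lTensor_comm]
    | add a b ha hb => simp only [map_add, ha, hb]
  set y := hbX.equiv.symm x' with hy
  have hy0 : (ψ.lTensor C) y = 0 := by
    apply hbP.equiv.injective
    rw [← hnat, hy, LinearEquiv.apply_symm_apply, hx', map_zero]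
  -- exactness
  have hex : Function.Exact (LinearMap.ker ψ).subtype ψ := LinearMap.exact_subtype_ker_map ψ
  have hex' := Module.Flat.lTensor_exact C hex
  obtain ⟨w, hw⟩ := (hex' y).mp hy0
  -- every element of `C ⊗ ker ψ` is killed by an element of `SB`
  have hkill : ∀ w : C ⊗[B] (LinearMap.ker ψ), ∃ b ∈ SB, b • w = 0 := by
    intro w
    induction w using TensorProduct.induction_on with
    | zero => exact ⟨1, SB.one_mem, by simp⟩
    | tmul c k =>
      obtain ⟨b, hb, hbk⟩ := hM X P f hf (k : M ⊗[A] X) (by rw [← hψ]; exact k.2)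
      refine ⟨b, hb, ?_⟩
      have : b • k = 0 := Subtype.ext (by simpa using hbk)
      rw [TensorProduct.smul_tmul', TensorProduct.smul_tmul, this, TensorProduct.tmul_zero]
    | add a b ha hb =>
      obtain ⟨b1, hb1, h1⟩ := ha
      obtain ⟨b2, hb2, h2⟩ := hb
      refine ⟨b1 * b2, SB.mul_mem hb1 hb2, ?_⟩
      rw [smul_add, mul_smul b1 b2 b, h2, smul_zero, mul_comm, mul_smul, h1, smul_zero, add_zero]
  obtain ⟨b, hb, hbw⟩ := hkill w
  refine ⟨algebraMap B C b, hS b hb, ?_⟩
  have h1 : b • y = 0 := by
    rw [← hw, ← map_smul, hbw, map_zero]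
  have h2 : b • x' = 0 := by
    have : x' = hbX.equiv y := by rw [hy, LinearEquiv.apply_symm_apply]
    rw [this]
    have h3 : b • hbX.equiv y = hbX.equiv (b • y) := by
      rw [← algebraMap_smul C b (hbX.equiv y), ← map_smul, algebraMap_smul]
    rw [h3, h1, map_zero]
  rw [algebraMap_smul]
  exact h2

/-- Descent of `TorsionKer` along a flat base change, at a prime. -/
theorem torsionKer_of_isBaseChange_of_comap (h : M →ₗ[B] N) (hh : IsBaseChange C h) (r : Ideal C)
    [r.IsPrime] (hN : TorsionKer A r.primeCompl N) :
    TorsionKer A (r.comap (algebraMap B C)).primeCompl M := by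
  intro X P _ _ _ _ f hf k hk
  let hX : M ⊗[A] X →ₗ[B] N ⊗[A] X := AlgebraTensorModule.map h LinearMap.id
  have hbX : IsBaseChange C hX := isBaseChange_tensorProduct_map C hh
  have h1 : (f.lTensor N) (hX k) = 0 := by
    rw [map_lTensor_comm, hk, map_zero]
  obtain ⟨c, hc, hck⟩ := hN X P f hf (hX k) h1
  -- annihilator computation
  have hann : c ∈ ((Submodule.span B {k}).annihilator).map (algebraMap B C) := by
    rw [← Groth.Agent.R2.H6.WeakAss.ann_one_tmul_eq_map, Groth.Agent.R2.H6.WeakAss.mem_ann_iff]
    apply hbX.equiv.injective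
    rw [map_smul, IsBaseChange.equiv_tmul, one_smul, hck, map_zero]
  by_contra hcon
  push Not at hcon
  have hle : (Submodule.span B {k}).annihilator ≤ r.comap (algebraMap B C) := by
    intro b hb
    by_contra hbq
    exact hcon b hbq ((Groth.Agent.R2.H6.WeakAss.mem_ann_iff k b).mp hb)
  exact hc (Ideal.map_le_iff_le_comap.mpr hle hann)

end BaseChange

end Groth.Agent.R2.H6.FlatAt
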