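import Mathlib
import Groth.Prelude.Def_FlatCA
import Groth.Agent.R2.H6FlatAt
import Groth.Agent.Lib.Helper18StdEtaleCover

/-!
# Flatness above closed points under flat local base change (helper6, round 2)

* `flatAt_forall_iff`: for a flat ring map `B' → C'` and `N' = C' ⊗ M'`, flatness over `A'` of `M'`
  at all primes containing `IB` is equivalent to flatness of `N'` at all primes containing `IC`,
  provided `IB C' ⊆ IC` and each prime over `IB` lifts to a prime over `IC`.
* `exists_prime_over_of_isPushout`: for a local homomorphism of local rings `B → C` and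
  `C' = C ⊗_B B'`, every prime of `B'` containing `𝔪_B B'` lifts to a prime of `C'` containing
  `𝔪_C C'`.
* `flatAt_iff_of_linearEquiv`, `flatAt_forall_iff_of_isIntegral`, `map_maximalIdeal_le_of_isIntegral`:
  the analogous statements for an integral extension `B' → C'` (same module, two algebra structures).
-/

set_option autoImplicit false
universe u

namespace Groth.Agent.R2.H6.FlatAbove

open TensorProduct Groth.Agent.R2.H6.FlatAt

section Generic

variable {A' B' C' : Type u} [CommRing A'] [CommRing B'] [CommRing C'] [Algebra A' B']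
  [Algebra B' C'] [Algebra A' C'] [IsScalarTower A' B' C'] [Module.Flat B' C']
  {M' N' : Type u} [AddCommGroup M'] [Module B' M'] [Module A' M'] [IsScalarTower A' B' M']
  [AddCommGroup N'] [Module C' N'] [Module B' N'] [Module A' N'] [IsScalarTower B' C' N']
  [IsScalarTower A' C' N'] [IsScalarTower A' B' N']

/-- Flatness over `A'` of `M'` at all primes containing `IB` versus flatness of the flat base change
`N' = C' ⊗ M'` at all primes containing `IC`, when every prime over `IB` lifts to one over `IC`. -/
theorem flatAt_forall_iff (h : M' →ₗ[B'] N') (hh : IsBaseChange C' h) (IB : Ideal B') (IC : Ideal C')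
    (hle : IB.map (algebraMap B' C') ≤ IC)
    (hlift : ∀ q : Ideal B', q.IsPrime → IB ≤ q →
      ∃ r : Ideal C', r.IsPrime ∧ IC ≤ r ∧ r.comap (algebraMap B' C') = q) :
    (∀ (q : Ideal B') [q.IsPrime], IB ≤ q → FlatCA.FlatAt A' q M') ↔
      (∀ (r : Ideal C') [r.IsPrime], IC ≤ r → FlatCA.FlatAt A' r N') := by
  constructor
  · intro H r hr hIC
    have hq : IB ≤ r.comap (algebraMap B' C') :=
      Ideal.map_le_iff_le_comap.mp (hle.trans hIC)
    have h1 := (flatAt_iff_torsionKer (A := A') (r.comap (algebraMap B' C')) M').mp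
      (H (r.comap (algebraMap B' C')) hq)
    rw [flatAt_iff_torsionKer]
    exact torsionKer_of_isBaseChange h hh (r.comap (algebraMap B' C')).primeCompl r.primeCompl
      (fun b hb hbr => hb hbr) h1
  · intro H q hq hIB
    obtain ⟨r, hr, hICr, rfl⟩ := hlift q hq hIB
    rw [flatAt_iff_torsionKer]
    exact torsionKer_of_isBaseChange_of_comap h hh r ((flatAt_iff_torsionKer r N').mp (H r hICr))

end Generic

section Lift

open IsLocalRing

theorem exists_prime_over_of_isPushout {B C B' C' : Type u} [CommRing B] [IsLocalRing B]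
    [CommRing C] [IsLocalRing C] [Algebra B C] [IsLocalHom (algebraMap B C)] [CommRing B']
    [CommRing C'] [Algebra B B'] [Algebra B C'] [Algebra C C'] [Algebra B' C']
    [IsScalarTower B C C'] [IsScalarTower B B' C'] [Algebra.IsPushout B C B' C'] (q : Ideal B')
    [q.IsPrime] (hq : (maximalIdeal B).map (algebraMap B B') ≤ q) :
    ∃ r : Ideal C', r.IsPrime ∧ (maximalIdeal C).map (algebraMap C C') ≤ r ∧
      r.comap (algebraMap B' C') = q := by
  have hunder : (maximalIdeal C).under B = q.under B := by
    have h1 : (maximalIdeal C).under B = maximalIdeal B := IsLocalRing.maximalIdeal_comap _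
    have h2 : maximalIdeal B ≤ q.under B := Ideal.map_le_iff_le_comap.mp hq
    have h3 : q.under B ≤ maximalIdeal B :=
      IsLocalRing.le_maximalIdeal (Ideal.IsPrime.ne_top inferInstance)
    rw [h1]
    exact le_antisymm h2 h3
  obtain ⟨𝔔, h𝔔, hL, hR⟩ := Groth.Agent.Lib.Helper18StdEtaleCover.exists_prime_tensor B C B'
    (maximalIdeal C) q hunder
  let e := Algebra.IsPushout.equiv B C B' C'
  refine ⟨𝔔.comap e.symm.toRingHom, Ideal.comap_isPrime _ _, ?_, ?_⟩
  · rw [Ideal.map_le_iff_le_comap]
    intro c hc
    rw [Ideal.mem_comap, Ideal.mem_comap]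
    have : e.symm.toRingHom (algebraMap C C' c) = c ⊗ₜ 1 :=
      Algebra.IsPushout.equiv_symm_algebraMap_left B C B' C' c
    rw [this]
    rw [← hL] at hc
    exact hc
  · ext b
    rw [Ideal.mem_comap, Ideal.mem_comap]
    have : e.symm.toRingHom (algebraMap B' C' b) = 1 ⊗ₜ b :=
      Algebra.IsPushout.equiv_symm_algebraMap_right B C B' C' b
    rw [this]
    conv_rhs => rw [← hR]
    rfl

end Lift

section Equiv

variable {A' B' : Type u} [CommRing A'] [CommRing B'] [Algebra A' B']
  {M' N' : Type u} [AddCommGroup M'] [Module B' M'] [Module A' M'] [IsScalarTower A' B' M']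
  [AddCommGroup N'] [Module B' N'] [Module A' N'] [IsScalarTower A' B' N']

/-- `FlatAt` is invariant under linear equivalences over the algebra. -/
theorem flatAt_iff_of_linearEquiv (q : Ideal B') [q.IsPrime] (e : M' ≃ₗ[B'] N') :
    FlatCA.FlatAt A' q M' ↔ FlatCA.FlatAt A' q N' :=
  (flatAt_iff_torsionKer q M').trans
    (flat_iff_torsionKer (A := A') q.primeCompl
      ((LocalizedModule.mkLinearMap q.primeCompl N') ∘ₗ e.toLinearMap)).symm

end Equiv

section Integral

variable {A' B' C' : Type u} [CommRing A'] [CommRing B'] [CommRing C'] [Algebra A' B']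
  [Algebra B' C'] [Algebra A' C'] [IsScalarTower A' B' C'] [Algebra.IsIntegral B' C']
  {N' : Type u} [AddCommGroup N'] [Module C' N'] [Module B' N'] [Module A' N']
  [IsScalarTower B' C' N'] [IsScalarTower A' C' N'] [IsScalarTower A' B' N']

omit [IsScalarTower A' B' C'] in
/-- For an integral ring map `B' → C'` and a `C'`-module `N'`: flatness over `A'` of `N'` (as a
`B'`-module) at all primes containing `IB` is equivalent to flatness of `N'` (as a `C'`-module) at all
primes containing `IC`, provided `IB C' ⊆ IC` and each prime of `C'` lying over a prime containing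
`IB` contains `IC`. -/
theorem flatAt_forall_iff_of_isIntegral (IB : Ideal B') (IC : Ideal C')
    (hle : IB.map (algebraMap B' C') ≤ IC)
    (hover : ∀ r : Ideal C', r.IsPrime → IB ≤ r.comap (algebraMap B' C') → IC ≤ r) :
    (∀ (q : Ideal B') [q.IsPrime], IB ≤ q → FlatCA.FlatAt A' q N') ↔
      (∀ (r : Ideal C') [r.IsPrime], IC ≤ r → FlatCA.FlatAt A' r N') := by
  constructor
  · intro H r hr hIC
    have hq : IB ≤ r.comap (algebraMap B' C') :=
      Ideal.map_le_iff_le_comap.mp (hle.trans hIC)
    have h1 := (flatAt_iff_torsionKer (A := A') (r.comap (algebraMap B' C')) N').mp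
      (H (r.comap (algebraMap B' C')) hq)
    rw [flatAt_iff_torsionKer]
    intro X P _ _ _ _ f hf k hk
    obtain ⟨b, hb, hbk⟩ := h1 X P f hf k hk
    refine ⟨algebraMap B' C' b, hb, ?_⟩
    rw [algebraMap_smul]
    exact hbk
  · intro H q hq hIB
    rw [flatAt_iff_torsionKer]
    intro X P _ _ _ _ f hf k hk
    by_contra hcon
    push Not at hcon
    -- the annihilator of `k` in `C'`
    let J : Ideal C' := (Submodule.span C' {k}).annihilator
    have hJq : J.comap (algebraMap B' C') ≤ q := by
      intro b hb
      by_contra hbq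
      apply hcon b hbq
      have := (Groth.Agent.R2.H6.WeakAss.mem_ann_iff k (algebraMap B' C' b)).mp hb
      rwa [algebraMap_smul] at this
    obtain ⟨r, hJr, hr, hrq⟩ := Ideal.exists_ideal_over_prime_of_isIntegral q J hJq
    have hICr : IC ≤ r := hover r hr (by rw [hrq]; exact hIB)
    obtain ⟨c, hc, hck⟩ := (flatAt_iff_torsionKer (A := A') r N').mp (H r hICr) X P f hf k hk
    exact hc (hJr ((Groth.Agent.R2.H6.WeakAss.mem_ann_iff k c).mpr hck))

end Integral

section LocalIntegral

open IsLocalRing

/-- For an integral local homomorphism of local rings `B → C` and compatible algebras `B' → C'`, a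
prime of `C'` whose contraction to `B'` contains `𝔪_B B'` contains `𝔪_C C'`. -/
theorem map_maximalIdeal_le_of_isIntegral {B C B' C' : Type u} [CommRing B] [IsLocalRing B]
    [CommRing C] [IsLocalRing C] [Algebra B C] [Algebra.IsIntegral B C] [CommRing B']
    [CommRing C'] [Algebra B B'] [Algebra B C'] [Algebra C C'] [Algebra B' C']
    [IsScalarTower B C C'] [IsScalarTower B B' C'] (r : Ideal C') [r.IsPrime]
    (hr : (maximalIdeal B).map (algebraMap B B') ≤ r.comap (algebraMap B' C')) :
    (maximalIdeal C).map (algebraMap C C') ≤ r := by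
  rw [Ideal.map_le_iff_le_comap]
  have h1 : (r.comap (algebraMap C C')).comap (algebraMap B C) = maximalIdeal B := by
    apply le_antisymm (IsLocalRing.le_maximalIdeal (Ideal.IsPrime.ne_top inferInstance))
    rw [Ideal.comap_comap, ← IsScalarTower.algebraMap_eq, IsScalarTower.algebraMap_eq B B' C',
      ← Ideal.comap_comap]
    exact Ideal.map_le_iff_le_comap.mp hr
  have h2 : (r.comap (algebraMap C C')).IsMaximal :=
    Ideal.isMaximal_of_isIntegral_of_isMaximal_comap (R := B) _
      (by rw [h1]; exact maximalIdeal.isMaximal B)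
  exact (IsLocalRing.eq_maximalIdeal h2).ge

end LocalIntegral

end Groth.Agent.R2.H6.FlatAbove
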