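import Mathlib
import Groth.Prelude.Def_FlatCA
import Groth.Agent.R2.H6FlatAbove

/-!
# Descent of flatness at primes along a base change which is flat at the relevant primes (helper30)

Namespace `Groth.Agent.R2.H30.FlatDesc`.

* `exists_prime_over` : for a pushout square `S' = S ⊗_R R'`, primes `q ⊂ S`, `p' ⊂ R'` with the same
  contraction to `R` are both contractions of one prime `q'` of `S'`.
* `flat_of_flat_of_localization` : a module over `R'_{p'}` which is flat over `R'` is flat over `R` as soon as
  `R'_{p'}` is flat over `R`.
* `flat_localization_atPrime_of_isPushout` : `S'_{q'}` is flat over `S` when `R'_{p'}` is flat over `R`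
  (`p' = q' ∩ R'`).
* `flatAt_of_flatAt_baseChange` : the descent statement (one prime).
-/

set_option autoImplicit false
universe u

namespace Groth.Agent.R2.H30.FlatDesc

open TensorProduct Groth.Agent.R2.H6.FlatAt

section Prime

variable {R S R' S' : Type u} [CommRing R] [CommRing S] [CommRing R'] [CommRing S']
  [Algebra R S] [Algebra R R'] [Algebra S S'] [Algebra R' S'] [Algebra R S'] [IsScalarTower R S S']
  [IsScalarTower R R' S'] [Algebra.IsPushout R S R' S']

/-- In a pushout square `S' = S ⊗_R R'`, two primes `q ⊂ S` and `p' ⊂ R'` with the same contraction to `R`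
are the contractions of a common prime of `S'`. -/
theorem exists_prime_over (q : Ideal S) [q.IsPrime] (p' : Ideal R') [p'.IsPrime]
    (h : q.under R = p'.under R) :
    ∃ q' : Ideal S', q'.IsPrime ∧ q'.comap (algebraMap S S') = q ∧
      q'.comap (algebraMap R' S') = p' := by
  obtain ⟨𝔔, h𝔔, hL, hR⟩ := Groth.Agent.Lib.Helper18StdEtaleCover.exists_prime_tensor R S R' q p' h
  let e := Algebra.IsPushout.equiv R S R' S'
  refine ⟨𝔔.comap e.symm.toRingHom, Ideal.comap_isPrime _ _, ?_, ?_⟩
  · ext c
    rw [Ideal.mem_comap, Ideal.mem_comap]
    have : e.symm.toRingHom (algebraMap S S' c) = c ⊗ₜ 1 :=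
      Algebra.IsPushout.equiv_symm_algebraMap_left R S R' S' c
    rw [this]
    conv_rhs => rw [← hL]
    rfl
  · ext b
    rw [Ideal.mem_comap, Ideal.mem_comap]
    have : e.symm.toRingHom (algebraMap R' S' b) = 1 ⊗ₜ b :=
      Algebra.IsPushout.equiv_symm_algebraMap_right R S R' S' b
    rw [this]
    conv_rhs => rw [← hR]
    rfl

end Prime

section Trans

variable {R R' : Type u} [CommRing R] [CommRing R'] [Algebra R R'] (p' : Ideal R') [p'.IsPrime]

/-- A module over `R'_{p'}` which is flat over `R'` is flat over `R` when `R'_{p'}` is flat over `R`. -/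
theorem flat_of_flat_of_localization (hfl : Module.Flat R (Localization.AtPrime p'))
    (T : Type u) [AddCommGroup T] [Module R' T] [Module R T] [IsScalarTower R R' T]
    [Module (Localization.AtPrime p') T] [IsScalarTower R' (Localization.AtPrime p') T]
    (hT : Module.Flat R' T) : Module.Flat R T := by
  have h1 : Module.Flat (Localization.AtPrime p') T :=
    (Module.flat_iff_of_isLocalization (Localization.AtPrime p') p'.primeCompl T).mpr hT
  have : IsScalarTower R (Localization.AtPrime p') T := by
    refine IsScalarTower.of_algebraMap_smul fun r t => ?_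
    rw [IsScalarTower.algebraMap_apply R R' (Localization.AtPrime p'), algebraMap_smul,
      algebraMap_smul]
  exact Module.Flat.trans R (Localization.AtPrime p') T

end Trans

section LocMod

variable {R R' S' : Type u} [CommRing R] [CommRing R'] [CommRing S']
  [Algebra R R'] [Algebra R' S'] [Algebra R S'] [IsScalarTower R R' S']
  (p' : Ideal R') [p'.IsPrime] (q' : Ideal S') [q'.IsPrime]
  (M' : Type u) [AddCommGroup M'] [Module S' M'] [Module R' M'] [IsScalarTower R' S' M']
  [Module R M'] [IsScalarTower R S' M']

/-- `M'_{q'}` flat over `R'` and `R'_{p'}` flat over `R` (with `p' = q' ∩ R'`) imply `M'_{q'}` flat over `R`. -/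
theorem flat_localizedModule_of_flat (hp' : p' = q'.comap (algebraMap R' S'))
    (hfl : Module.Flat R (Localization.AtPrime p'))
    (hT : Module.Flat R' (LocalizedModule q'.primeCompl M')) :
    Module.Flat R (LocalizedModule q'.primeCompl M') := by
  letI : Algebra (Localization.AtPrime p') (Localization.AtPrime q') :=
    (Localization.localRingHom p' q' (algebraMap R' S') hp').toAlgebra
  letI : Module (Localization.AtPrime p') (LocalizedModule q'.primeCompl M') :=
    Module.compHom _ (algebraMap (Localization.AtPrime p') (Localization.AtPrime q'))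
  have hsm : ∀ (x : Localization.AtPrime p') (t : LocalizedModule q'.primeCompl M'),
      x • t = (Localization.localRingHom p' q' (algebraMap R' S') hp' x) • t := fun _ _ => rfl
  haveI : IsScalarTower R' (Localization.AtPrime p') (LocalizedModule q'.primeCompl M') := by
    refine IsScalarTower.of_algebraMap_smul fun r t => ?_
    rw [hsm, Localization.localRingHom_to_map, algebraMap_smul, algebraMap_smul]
  exact flat_of_flat_of_localization p' hfl _ hT

end LocMod

section FlatRing

variable {R S R' S' : Type u} [CommRing R] [CommRing S] [CommRing R'] [CommRing S']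
  [Algebra R S] [Algebra R R'] [Algebra S S'] [Algebra R' S'] [Algebra R S'] [IsScalarTower R S S']
  [IsScalarTower R R' S'] [Algebra.IsPushout R S R' S']
  (p' : Ideal R') [p'.IsPrime] (q' : Ideal S') [q'.IsPrime]

/-- the intermediate localisation `S'_{p'}` is flat over `S` -/
theorem flat_localization_algebraMapSubmonoid (hfl : Module.Flat R (Localization.AtPrime p')) :
    Module.Flat S (Localization (Algebra.algebraMapSubmonoid S' p'.primeCompl)) := by
  have : IsScalarTower R (Localization.AtPrime p')
      (Localization (Algebra.algebraMapSubmonoid S' p'.primeCompl)) := by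
    refine IsScalarTower.of_algebraMap_eq fun r => ?_
    rw [IsScalarTower.algebraMap_apply R R' (Localization.AtPrime p'),
      ← IsScalarTower.algebraMap_apply R' (Localization.AtPrime p')
        (Localization (Algebra.algebraMapSubmonoid S' p'.primeCompl)),
      ← IsScalarTower.algebraMap_apply R R'
        (Localization (Algebra.algebraMapSubmonoid S' p'.primeCompl))]
  have h1 : Algebra.IsPushout R' S' (Localization.AtPrime p')
      (Localization (Algebra.algebraMapSubmonoid S' p'.primeCompl)) :=
    Algebra.isPushout_of_isLocalization p'.primeCompl (Localization.AtPrime p') S' _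
  have h2 : Algebra.IsPushout R R' S S' := Algebra.IsPushout.symm inferInstance
  have h3 : Algebra.IsPushout R (Localization.AtPrime p') S
      (Localization (Algebra.algebraMapSubmonoid S' p'.primeCompl)) :=
    (Algebra.IsPushout.comp_iff R R' S (S' := S') (T := Localization.AtPrime p')
      (T' := Localization (Algebra.algebraMapSubmonoid S' p'.primeCompl))).mpr h1.symm
  have h4 : Algebra.IsPushout R S (Localization.AtPrime p')
      (Localization (Algebra.algebraMapSubmonoid S' p'.primeCompl)) := h3.symm
  exact Module.Flat.of_linearEquiv
    (Algebra.IsPushout.equiv R S (Localization.AtPrime p')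
      (Localization (Algebra.algebraMapSubmonoid S' p'.primeCompl))).symm.toLinearEquiv

end FlatRing

section FlatRing2

variable {R S R' S' : Type u} [CommRing R] [CommRing S] [CommRing R'] [CommRing S']
  [Algebra R S] [Algebra R R'] [Algebra S S'] [Algebra R' S'] [Algebra R S'] [IsScalarTower R S S']
  [IsScalarTower R R' S'] [Algebra.IsPushout R S R' S']
  (p' : Ideal R') [p'.IsPrime] (q' : Ideal S') [q'.IsPrime]

/-- `S'_{q'}` is flat over `S` when `R'_{p'}` is flat over `R`, `p' = q' ∩ R'`. -/
theorem flat_localization_atPrime (hp' : p' = q'.comap (algebraMap R' S'))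
    (hfl : Module.Flat R (Localization.AtPrime p')) :
    Module.Flat S (Localization.AtPrime q') := by
  have h1 := flat_localization_algebraMapSubmonoid (S := S) (S' := S') p' hfl
  have hle : Algebra.algebraMapSubmonoid S' p'.primeCompl ≤ q'.primeCompl := by
    rintro _ ⟨y, hy, rfl⟩
    intro hmem
    apply hy
    rw [hp']
    exact hmem
  letI : Algebra (Localization (Algebra.algebraMapSubmonoid S' p'.primeCompl))
      (Localization.AtPrime q') :=
    IsLocalization.localizationAlgebraOfSubmonoidLe _ _ _ q'.primeCompl hle
  haveI : IsScalarTower S' (Localization (Algebra.algebraMapSubmonoid S' p'.primeCompl))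
      (Localization.AtPrime q') :=
    IsLocalization.localization_isScalarTower_of_submonoid_le _ _ _ q'.primeCompl hle
  haveI : IsLocalization (q'.primeCompl.map
      (algebraMap S' (Localization (Algebra.algebraMapSubmonoid S' p'.primeCompl))))
      (Localization.AtPrime q') :=
    IsLocalization.isLocalization_of_submonoid_le _ _ _ q'.primeCompl hle
  haveI : Module.Flat (Localization (Algebra.algebraMapSubmonoid S' p'.primeCompl))
      (Localization.AtPrime q') :=
    IsLocalization.flat _ (q'.primeCompl.map
      (algebraMap S' (Localization (Algebra.algebraMapSubmonoid S' p'.primeCompl))))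
  haveI : IsScalarTower S (Localization (Algebra.algebraMapSubmonoid S' p'.primeCompl))
      (Localization.AtPrime q') := by
    refine IsScalarTower.of_algebraMap_eq fun r => ?_
    rw [IsScalarTower.algebraMap_apply S S' (Localization.AtPrime q'),
      IsScalarTower.algebraMap_apply S' (Localization (Algebra.algebraMapSubmonoid S' p'.primeCompl))
        (Localization.AtPrime q'),
      ← IsScalarTower.algebraMap_apply S S'
        (Localization (Algebra.algebraMapSubmonoid S' p'.primeCompl))]
  exact Module.Flat.trans S (Localization (Algebra.algebraMapSubmonoid S' p'.primeCompl))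
    (Localization.AtPrime q')

end FlatRing2

section Main

variable {R S R' S' : Type u} [CommRing R] [CommRing S] [CommRing R'] [CommRing S']
  [Algebra R S] [Algebra R R'] [Algebra S S'] [Algebra R' S'] [Algebra R S'] [IsScalarTower R S S']
  [IsScalarTower R R' S'] [Algebra.IsPushout R S R' S']
  {M M' : Type u} [AddCommGroup M] [Module S M] [Module R M] [IsScalarTower R S M]
  [AddCommGroup M'] [Module S' M'] [Module R' M'] [IsScalarTower R' S' M'] [Module S M']
  [IsScalarTower S S' M']

theorem torsionKer_congr {I J : Ideal S} [I.IsPrime] [J.IsPrime] (hIJ : I = J)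
    (h : TorsionKer R I.primeCompl M) : TorsionKer R J.primeCompl M := by
  subst hIJ
  exact h

/-- **Descent of flatness at a prime**: `M' = S' ⊗_S M`, `S' = S ⊗_R R'`, `q'` a prime of `S'` with
`p' = q' ∩ R'` such that `R'_{p'}` is flat over `R`.  If `M'_{q'}` is flat over `R'` then `M_q` is flat over `R`,
`q = q' ∩ S`. -/
theorem flatAt_of_flatAt_baseChange (f : M →ₗ[S] M') (hf : IsBaseChange S' f)
    (p' : Ideal R') [p'.IsPrime] (q' : Ideal S') [q'.IsPrime]
    (hp' : p' = q'.comap (algebraMap R' S'))
    (hfl : Module.Flat R (Localization.AtPrime p'))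
    (h : FlatCA.FlatAt R' q' M') :
    FlatCA.FlatAt R (q'.comap (algebraMap S S')) M := by
  letI : Module R M' := Module.compHom M' (algebraMap R S)
  have hsm : ∀ (r : R) (m : M'), r • m = algebraMap R S r • m := fun _ _ => rfl
  haveI : IsScalarTower R S M' := IsScalarTower.of_algebraMap_smul fun r m => rfl
  haveI : IsScalarTower R S' M' := by
    refine IsScalarTower.of_algebraMap_smul fun r m => ?_
    rw [IsScalarTower.algebraMap_apply R S S', algebraMap_smul, hsm]
  -- `T = M'_{q'}` is flat over `R`
  have hTR : Module.Flat R (LocalizedModule q'.primeCompl M') :=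
    flat_localizedModule_of_flat p' q' M' hp' hfl h
  -- `S'_{q'}` is flat over `S`
  haveI hflatS : Module.Flat S (Localization.AtPrime q') := flat_localization_atPrime p' q' hp' hfl
  -- `T` is the base change of `M` to `S'_{q'}`
  let g : M →ₗ[S] LocalizedModule q'.primeCompl M' :=
    ((LocalizedModule.mkLinearMap q'.primeCompl M').restrictScalars S).comp f
  have hg : IsBaseChange (Localization.AtPrime q') g :=
    IsBaseChange.comp hf (LocalizedModule.isBaseChange q'.primeCompl M')
  -- torsion kernels at the closed point of `S'_{q'}`
  let r := IsLocalRing.maximalIdeal (Localization.AtPrime q')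
  haveI : IsLocalizedModule r.primeCompl
      (LinearMap.id : LocalizedModule q'.primeCompl M' →ₗ[Localization.AtPrime q']
        LocalizedModule q'.primeCompl M') := by
    refine ⟨fun x => ?_, fun m => ⟨(m, 1), one_smul _ _⟩, fun hxy => ⟨1, congr_arg _ hxy⟩⟩
    have hx : IsUnit (x : Localization.AtPrime q') := by
      have hx2 : (x : Localization.AtPrime q') ∉ IsLocalRing.maximalIdeal (Localization.AtPrime q') :=
        x.2
      rwa [IsLocalRing.mem_maximalIdeal, mem_nonunits_iff, not_not] at hx2
    exact hx.map _
  have hN : TorsionKer R r.primeCompl (LocalizedModule q'.primeCompl M') :=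
    (flat_iff_torsionKer (A := R) r.primeCompl
      (LinearMap.id : LocalizedModule q'.primeCompl M' →ₗ[Localization.AtPrime q']
        LocalizedModule q'.primeCompl M')).mp hTR
  have key := torsionKer_of_isBaseChange_of_comap (A := R) g hg r hN
  have hcomap : r.comap (algebraMap S (Localization.AtPrime q')) = q'.comap (algebraMap S S') := by
    rw [IsScalarTower.algebraMap_eq S S' (Localization.AtPrime q'), ← Ideal.comap_comap]
    congr 1
    exact IsLocalization.AtPrime.under_maximalIdeal (Localization.AtPrime q') q' 
  rw [flatAt_iff_torsionKer]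
  exact torsionKer_congr hcomap key

end Main

end Groth.Agent.R2.H30.FlatDesc
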