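import Mathlib

/-!
Helper lemmas (helper30): localizations of flat modules over a base ring.
-/

set_option autoImplicit false

namespace Groth.Agent.R2.H30.FlatLoc

open TensorProduct

/-- If `N` is a `B`-module which is flat over `A`, then any localization of `N` at a submonoid of `B`
is again flat over `A`. -/
theorem flat_of_isLocalizedModule {A B : Type*} [CommRing A] [CommRing B] [Algebra A B]
    (T : Submonoid B) {N N' : Type*} [AddCommGroup N] [Module A N] [Module B N] [IsScalarTower A B N]
    [AddCommGroup N'] [Module A N'] [Module B N'] [IsScalarTower A B N']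
    (g : N →ₗ[B] N') [IsLocalizedModule T g] [H : Module.Flat A N] : Module.Flat A N' := by
  rw [Module.Flat.iff_lTensor_injectiveₛ] at H ⊢
  intro P _ _ Q
  have h1 := H Q
  rw [← AlgebraTensorModule.coe_lTensor (A := B)] at h1 ⊢
  rw [← IsLocalizedModule.map_lTensor B T Q.subtype g]
  exact IsLocalizedModule.map_injective T _ _ _ h1

end Groth.Agent.R2.H30.FlatLoc
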