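import Mathlib.Topology.Sheaves.Points
import Mathlib.Topology.Sheaves.Stalks
import Groth.Prelude.Def_ModSite2
import Groth.Agent.Lib.Helper1StalkTensorA
import Groth.Agent.Lib.Helper21StalkFlat

/-!
# Comparison of stalks at `Opens.pointGrothendieckTopology x` with stalks on the space (helper30)

For a topological space `X`, `x : X`, `p := Opens.pointGrothendieckTopology x` and a presheaf `P` on `X` with values in a
category with colimits: `fiberIso : p.presheafFiber.obj P ≅ P.stalk x`, compatible with germs.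
For a sheaf of rings `O` and `F : ModSite.Mod O`: `ρ : stalkRing p O ≃+* O.presheaf.stalk x`,
`μ : stalkAb p F ≃+ stalk of F`, `μ (r • m) = ρ r • μ m`.
-/

set_option autoImplicit false
universe u v
open CategoryTheory CategoryTheory.Limits TopologicalSpace Opposite

namespace Groth.Agent.R2.H30.StalkCmp

variable {X : TopCat.{u}} (x : X)

/-- the point of the site of opens -/
abbrev pt : GrothendieckTopology.Point.{u} (Opens.grothendieckTopology X) := Opens.pointGrothendieckTopology x

section General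

variable {A : Type v} [Category.{u} A] [HasColimitsOfSize.{u, u} A] (P : (Opens X)ᵒᵖ ⥤ A)

/-- from the fibre at the point of the site to the stalk -/
noncomputable def fwd : (pt x).presheafFiber.obj P ⟶ TopCat.Presheaf.stalk P x :=
  (pt x).presheafFiberDesc (fun U hx => TopCat.Presheaf.germ P U x hx.down.down) (by
    intro U V f hx
    exact TopCat.Presheaf.germ_res P f x hx.down.down)

@[reassoc (attr := simp)]
lemma toPresheafFiber_fwd (U : Opens X) (hx : x ∈ U) :
    (pt x).toPresheafFiber U ⟨⟨hx⟩⟩ P ≫ fwd x P = TopCat.Presheaf.germ P U x hx :=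
  (pt x).toPresheafFiber_presheafFiberDesc _ _ U ⟨⟨hx⟩⟩

/-- from the stalk to the fibre at the point of the site -/
noncomputable def bwd : TopCat.Presheaf.stalk P x ⟶ (pt x).presheafFiber.obj P :=
  colimit.desc ((OpenNhds.inclusion x).op ⋙ P)
    { pt := _
      ι :=
        { app := fun U => (pt x).toPresheafFiber U.unop.1 ⟨⟨U.unop.2⟩⟩ P
          naturality := by
            intro U V f
            exact ((pt x).toPresheafFiber_w ((OpenNhds.inclusion x).map f.unop) ⟨⟨V.unop.2⟩⟩ P).trans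
              (Category.comp_id _).symm } }

@[reassoc (attr := simp)]
lemma germ_bwd (U : Opens X) (hx : x ∈ U) :
    TopCat.Presheaf.germ P U x hx ≫ bwd x P = (pt x).toPresheafFiber U ⟨⟨hx⟩⟩ P :=
  colimit.ι_desc (F := (OpenNhds.inclusion x).op ⋙ P) _ (op (⟨U, hx⟩ : OpenNhds x))

/-- the comparison isomorphism -/
noncomputable def fiberIso : (pt x).presheafFiber.obj P ≅ TopCat.Presheaf.stalk P x where
  hom := fwd x P
  inv := bwd x P
  hom_inv_id := by
    apply (pt x).presheafFiber_hom_ext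
    intro U hx
    obtain ⟨⟨hx⟩⟩ := hx
    rw [toPresheafFiber_fwd_assoc, germ_bwd, Category.comp_id]
  inv_hom_id := by
    apply TopCat.Presheaf.stalk_hom_ext
    intro U hx
    rw [germ_bwd_assoc, toPresheafFiber_fwd, Category.comp_id]

end General

section Mod

open Groth.Agent.Lib.Helper1.StalkTensor

variable (O : Sheaf (Opens.grothendieckTopology X) CommRingCat.{u}) (F : ModSite.Mod O)

/-- the underlying presheaf of modules, over the presheaf of commutative rings `O.obj` -/
abbrev pm : PMod (X := X) O.obj := F.val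

/-- comparison of the stalks of the structure sheaf -/
noncomputable def ρ : ModSite.stalkRing (pt x) O ≃+* Rx (X := X) O.obj x :=
  (fiberIso x O.obj).commRingCatIsoToRingEquiv

/-- comparison of the stalks of a module -/
noncomputable def μ : ModSite.stalkAb (pt x) F ≃+ St (pm O F) x :=
  (fiberIso x (ModSite.toAb F).obj).addCommGroupIsoToAddEquiv

lemma ρ_germ (U : Opens X) (hx : x ∈ U) (r : O.obj.obj (op U)) :
    ρ x O (ModSite.germRing (pt x) U ⟨⟨hx⟩⟩ r) = gr (X := X) O.obj x U hx r :=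
  ConcreteCategory.congr_hom (toPresheafFiber_fwd x O.obj U hx) r

lemma μ_germ (U : Opens X) (hx : x ∈ U) (s : ModSite.sect F U) :
    μ x O F (ModSite.germ (pt x) F U ⟨⟨hx⟩⟩ s) = gm (pm O F) x U hx s :=
  ConcreteCategory.congr_hom (toPresheafFiber_fwd x (ModSite.toAb F).obj U hx) s

lemma μ_smul (r : ModSite.stalkRing (pt x) O) (m : ModSite.stalkAb (pt x) F) :
    μ x O F (r • m) = ρ x O r • μ x O F m := by
  obtain ⟨U, ⟨⟨hU⟩⟩, r0, rfl⟩ := (pt x).toPresheafFiber_jointly_surjective (P := O.obj) r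
  obtain ⟨V, ⟨⟨hV⟩⟩, m0, rfl⟩ := (pt x).toPresheafFiber_jointly_surjective (P := (ModSite.toAb F).obj) m
  have hW : x ∈ U ⊓ V := ⟨hU, hV⟩
  let w : (pt x).fiber.obj (U ⊓ V) := ⟨⟨hW⟩⟩
  let r' : O.obj.obj (op (U ⊓ V)) := (O.obj.map (homOfLE (inf_le_left : U ⊓ V ≤ U)).op).hom r0
  let s' : ModSite.sect F (U ⊓ V) := F.val.map (homOfLE (inf_le_right : U ⊓ V ≤ V)).op m0
  have h1 : (pt x).toPresheafFiber U ⟨⟨hU⟩⟩ O.obj r0 = ModSite.germRing (pt x) (U ⊓ V) w r' :=
    (Groth.Agent.Lib.Helper21.StalkFlat.germRing_w (pt x) (homOfLE inf_le_left) w r0).symm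
  have h2 : (pt x).toPresheafFiber V ⟨⟨hV⟩⟩ (ModSite.toAb F).obj m0 = ModSite.germ (pt x) F (U ⊓ V) w s' :=
    (Groth.Agent.Lib.Helper21.StalkFlat.germ_w (pt x) F (homOfLE inf_le_right) w m0).symm
  rw [h1, h2]
  calc μ x O F (ModSite.germRing (pt x) (U ⊓ V) w r' • ModSite.germ (pt x) F (U ⊓ V) w s')
      = μ x O F (ModSite.germ (pt x) F (U ⊓ V) w (r' • s')) :=
        congrArg (μ x O F) (ModSite.germ_smul (pt x) F (U ⊓ V) w r' s').symm
    _ = gm (pm O F) x (U ⊓ V) hW (r' • s') := μ_germ x O F (U ⊓ V) hW (r' • s')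
    _ = gr (X := X) O.obj x (U ⊓ V) hW r' • gm (pm O F) x (U ⊓ V) hW s' := gm_smul (P := pm O F) hW r' s'
    _ = ρ x O (ModSite.germRing (pt x) (U ⊓ V) w r') • μ x O F (ModSite.germ (pt x) F (U ⊓ V) w s') := by
        rw [← ρ_germ x O (U ⊓ V) hW r', ← μ_germ x O F (U ⊓ V) hW s']

end Mod

end Groth.Agent.R2.H30.StalkCmp
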