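import Groth.Agent.Lib.Helper1StalkTensorB
import Groth.Agent.R2.H30StalkCmp
import Groth.Agent.Lib.Helper2FlatOver

/-!
# Stalkwise flat modules on a ringed space are flat (helper30)

Generalisation of `Helper1StalkTensorB` from schemes to ringed spaces `(X, O)`, and the version with stalks taken at the
point `Opens.pointGrothendieckTopology x` of the site of opens.
-/

set_option autoImplicit false
universe u
open CategoryTheory TopCat TopologicalSpace Opposite TensorProduct MonoidalCategory

namespace Groth.Agent.R2.H30.FlatStalkTop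

open Groth.Agent.Lib.Helper21.ModTensor2 Groth.Agent.Lib.Helper1.StalkTensor

variable {X : TopCat.{u}} (O : Sheaf (Opens.grothendieckTopology X) CommRingCat.{u})

/-- the underlying presheaf of modules of an `O`-module -/
abbrev toPM (M : ModSite.Mod O) : PMod (X := X) O.obj := M.val

/-- the underlying morphism of presheaves of modules -/
abbrev toPMMap {M N : ModSite.Mod O} (φ : M ⟶ N) : toPM O M ⟶ toPM O N := φ.val

/-- the underlying presheaf of abelian groups, as a functor -/
noncomputable abbrev toPsh : ModSite.Mod O ⥤ (Opens X)ᵒᵖ ⥤ Ab.{u} :=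
  SheafOfModules.toSheaf (ModSite.ringSh O) ⋙ sheafToPresheaf _ _

/-- the underlying sheaf of abelian groups -/
noncomputable abbrev abSheaf (M : ModSite.Mod O) : TopCat.Sheaf Ab.{u} X := ModSite.toAb M

variable {O}

lemma sm_injective_of_mono {M N : ModSite.Mod O} (φ : M ⟶ N) [Mono φ] (x : X) :
    Function.Injective (sm (toPMMap O φ) x) := by
  have h1 : Mono ((toPsh O).map φ) := inferInstance
  rw [NatTrans.mono_iff_mono_app] at h1
  exact TopCat.Presheaf.stalkFunctor_map_injective_of_app_injective
    (f := (toPsh O).map φ)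
    (fun U => (AddCommGrpCat.mono_iff_injective _).1 (h1 (op U))) x

lemma mono_of_sm_injective {M N : ModSite.Mod O} (φ : M ⟶ N)
    (h : ∀ x : X, Function.Injective (sm (toPMMap O φ) x)) : Mono φ := by
  apply Functor.mono_of_mono_map (toPsh O)
  apply (config := { allowSynthFailures := true }) NatTrans.mono_of_mono_app
  intro U
  rw [AddCommGrpCat.mono_iff_injective]
  exact TopCat.Presheaf.app_injective_of_stalkFunctor_map_injective (F := abSheaf O M)
    ((toPsh O).map φ) U.unop (fun x _ => h x)

lemma sm_comp' {R : X.Presheaf CommRingCat.{u}} {P P' P'' : PMod R} (f : P ⟶ P') (g : P' ⟶ P'')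
    (x : X) (a : St P x) : sm (f ≫ g) x a = sm g x (sm f x a) := by
  obtain ⟨U, hU, p, rfl⟩ := exists_gm_eq a
  rw [sm_gm, sm_gm, sm_gm]
  rfl

variable (O)

/-- sheafification of presheaves of `O`-modules -/
noncomputable def shX : PMod (X := X) O.obj ⥤ ModSite.Mod O := shf O

/-- the unit of sheafification -/
noncomputable def etaX (T : PMod (X := X) O.obj) : T ⟶ toPM O ((shX O).obj T) := eta O T

lemma W_etaX (T : PMod (X := X) O.obj) :
    (Opens.grothendieckTopology X).W ((PresheafOfModules.toPresheaf _).map (etaX O T)) :=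
  W_eta (O := O) T

lemma sm_etaX_bijective (T : PMod (X := X) O.obj) (x : X) :
    Function.Bijective (sm (etaX O T) x) :=
  stalk_bijective_of_W _ (W_etaX O T) x

lemma etaX_naturality {T' T : PMod (X := X) O.obj} (τ : T' ⟶ T) :
    τ ≫ etaX O T = etaX O T' ≫ toPMMap O ((shX O).map τ) :=
  (adj O).unit.naturality τ

lemma sm_etaX_naturality {T' T : PMod (X := X) O.obj} (τ : T' ⟶ T) (x : X) (a : St T' x) :
    sm (etaX O T) x (sm τ x a) = sm (toPMMap O ((shX O).map τ)) x (sm (etaX O T') x a) := by
  rw [← sm_comp', ← sm_comp', etaX_naturality]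

lemma tensorBi_map_app {G' G : ModSite.Mod O} (φ : G' ⟶ G) (F : ModSite.Mod O) :
    ((ModSite.tensorBi O).map φ).app F = (shX O).map (toPMMap O φ ▷ toPM O F) := rfl

lemma mono_shX_map_of_sm_injective {T' T : PMod (X := X) O.obj} (τ : T' ⟶ T)
    (h : ∀ x : X, Function.Injective (sm τ x)) : Mono ((shX O).map τ) := by
  apply mono_of_sm_injective
  intro x a b hab
  obtain ⟨a', rfl⟩ := (sm_etaX_bijective O T' x).2 a
  obtain ⟨b', rfl⟩ := (sm_etaX_bijective O T' x).2 b
  rw [← sm_etaX_naturality, ← sm_etaX_naturality] at hab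
  rw [h x ((sm_etaX_bijective O T x).1 hab)]

/-- tensoring with a stalkwise flat module preserves monomorphisms -/
theorem mono_tensor_of_stalk_flat {G' G : ModSite.Mod O} (φ : G' ⟶ G) [Mono φ] (F : ModSite.Mod O)
    (hF : ∀ x : X, Module.Flat (Rx (X := X) O.obj x) (St (toPM O F) x)) :
    Mono (((ModSite.tensorBi O).map φ).app F) := by
  rw [tensorBi_map_app]
  apply mono_shX_map_of_sm_injective
  intro x a b hab
  have h2 := congrArg (α (toPM O G) (toPM O F) x) hab
  rw [α_nat_left, α_nat_left] at h2
  have : Module.Flat (Rx (X := X) O.obj x) (St (toPM O F) x) := hF x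
  have hinj : Function.Injective (LinearMap.rTensor (St (toPM O F) x) (smₗ (toPMMap O φ) x)) :=
    Module.Flat.rTensor_preserves_injective_linearMap _ (sm_injective_of_mono φ x)
  exact (α_bijective).1 (hinj h2)

open Groth.Agent.Lib.Helper21.ModTensor3 Groth.Agent.Lib.Helper21.ModTensor5 in
/-- a stalkwise flat `O`-module (stalks on the space) is flat in the sense of exactness of the tensor product -/
theorem isFlat_of_stalk_flat (F : ModSite.Mod O)
    (hF : ∀ x : X, Module.Flat (Rx (X := X) O.obj x) (St (toPM O F) x)) :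
    ModSite.IsFlat F := by
  rw [isFlat_iff, Functor.preservesFiniteLimits_iff_forall_exact_map_and_mono]
  intro S hS
  refine ⟨((Functor.preservesFiniteColimits_iff_forall_exact_map_and_epi (tR O F)).1
    inferInstance S hS).1, ?_⟩
  exact @mono_tensor_of_stalk_flat X O S.X₁ S.X₂ S.f hS.mono_f F hF

/-- the same with stalks at the point of the site of opens -/
theorem isFlat_of_stalkMod_flat (F : ModSite.Mod O)
    (hF : ∀ x : X, Module.Flat (ModSite.stalkRing (Opens.pointGrothendieckTopology x) O)
      (ModSite.stalkMod (Opens.pointGrothendieckTopology x) F)) :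
    ModSite.IsFlat F := by
  apply isFlat_of_stalk_flat
  intro x
  have := hF x
  exact Groth.Agent.Lib.Helper2.FlatOver.flat_of_semilinear_equiv (StalkCmp.ρ x O) (StalkCmp.μ x O F)
    (StalkCmp.μ_smul x O F)

end Groth.Agent.R2.H30.FlatStalkTop
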