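import Mathlib
import Groth.Prelude.Def_DRing4
import Groth.Agent.Lib.Helper1KF9
set_option backward.isDefEq.respectTransparency.types false

/-!
# The tensor–hom adjunction for complexes of modules, on cochains (helper61)

For complexes `P`, `E`, `J` of `A`-modules and `n : ℤ` we construct mutually inverse additive maps
`unc : Cochain P (Hom•(E, J)) n → Cochain (P ⊗ E) J n` and `cur` the other way, and show that they
commute with the differentials `δ` (no signs).
-/

set_option autoImplicit false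
universe u
open CategoryTheory CategoryTheory.Limits MonoidalCategory HomologicalComplex CochainComplex
  CochainComplex.HomComplex

namespace Groth.Agent.R2.H61.HT1

open Groth.Agent.Lib.Helper1.KF

variable {A : Type u} [CommRing A] (P E J : Cx A)

/-- evaluation of a cochain at given indices, as a linear map -/
noncomputable def vLin (n q m : ℤ) (h : q + n = m) :
    Cochain E J n →ₗ[A] (E.X q →ₗ[A] J.X m) where
  toFun z := (z.v q m h).hom
  map_add' z z' := by simp
  map_smul' a z := by simp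

@[simp] lemma vLin_apply (n q m : ℤ) (h : q + n = m) (z : Cochain E J n) (e : E.X q) :
    vLin E J n q m h z e = (z.v q m h).hom e := rfl

/-- the bilinear map `x, e ↦ (α x)(e)` -/
noncomputable def bil (n : ℤ) (α : Cochain P (DRing.homCx E J) n) (p q m : ℤ)
    (h : p + q + n = m) : P.X p →ₗ[A] E.X q →ₗ[A] J.X m :=
  (vLin E J (p + n) q m (by omega)) ∘ₗ (α.v p (p + n) rfl).hom

lemma bil_apply (n : ℤ) (α : Cochain P (DRing.homCx E J) n) (p q m : ℤ)
    (h : p + q + n = m) (x : P.X p) (e : E.X q) :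
    bil P E J n α p q m h x e =
      (((α.v p (p + n) rfl).hom x : Cochain E J (p + n)).v q m (by omega)).hom e := rfl

/-- the components of the uncurried cochain -/
noncomputable def uncV (n : ℤ) (α : Cochain P (DRing.homCx E J) n) (m m' : ℤ) (hm : m + n = m') :
    (P ⊗ E).X m ⟶ J.X m' :=
  mapBifunctorDesc (K₁ := P) (K₂ := E) (F := curriedTensor (ModuleCat.{u} A))
    (c := ComplexShape.up ℤ) (fun p q hpq =>
      ModuleCat.ofHom (TensorProduct.lift (bil P E J n α p q m'
        (by have : p + q = m := by simpa using hpq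
            omega))))

lemma ι_uncV (n : ℤ) (α : Cochain P (DRing.homCx E J) n) (m m' : ℤ) (hm : m + n = m')
    (p q : ℤ) (hpq : p + q = m) :
    ιTensorObj P E p q m hpq ≫ uncV P E J n α m m' hm =
      ModuleCat.ofHom (TensorProduct.lift (bil P E J n α p q m' (by omega))) := by
  unfold uncV
  erw [ι_mapBifunctorDesc]

/-- uncurrying: a cochain `P ⟶ Hom•(E, J)` gives a cochain `P ⊗ E ⟶ J` of the same degree -/
noncomputable def unc (n : ℤ) (α : Cochain P (DRing.homCx E J) n) : Cochain (P ⊗ E) J n :=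
  Cochain.mk (fun m m' hm => uncV P E J n α m m' hm)

@[simp] lemma unc_v (n : ℤ) (α : Cochain P (DRing.homCx E J) n) (m m' : ℤ) (hm : m + n = m') :
    (unc P E J n α).v m m' hm = uncV P E J n α m m' hm := rfl


lemma bil_apply' (n : ℤ) (α : Cochain P (DRing.homCx E J) n) (p p' q m : ℤ) (hp : p + n = p')
    (h : q + p' = m) (x : P.X p) (e : E.X q) :
    bil P E J n α p q m (by omega) x e =
      (((α.v p p' hp).hom x : Cochain E J p').v q m h).hom e := by
  subst hp
  rfl

lemma ι_uncV_apply (n : ℤ) (α : Cochain P (DRing.homCx E J) n) (m m' : ℤ) (hm : m + n = m')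
    (p p' q : ℤ) (hpq : p + q = m) (hp : p + n = p') (x : P.X p) (e : E.X q) :
    (uncV P E J n α m m' hm).hom ((ιTensorObj P E p q m hpq).hom (x ⊗ₜ[A] e)) =
      (((α.v p p' hp).hom x : Cochain E J p').v q m' (by omega)).hom e := by
  have h := ι_uncV P E J n α m m' hm p q hpq
  have h2 := congrArg (fun f => f.hom (x ⊗ₜ[A] e)) h
  simp only [ModuleCat.hom_comp, LinearMap.comp_apply] at h2
  rw [h2]
  simp only [ModuleCat.hom_ofHom]
  exact bil_apply' P E J n α p p' q m' hp (by omega) x e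

/-- for `x ∈ P^p`, the cochain `e ↦ β(x ⊗ e)` -/
noncomputable def curCochain (n : ℤ) (β : Cochain (P ⊗ E) J n) (p p' : ℤ) (hp : p + n = p')
    (x : P.X p) : Cochain E J p' :=
  Cochain.mk (fun q m hq => ModuleCat.ofHom
    ((ιTensorObj P E p q (p + q) rfl ≫ β.v (p + q) m (by omega)).hom ∘ₗ
      (TensorProduct.mk A (P.X p) (E.X q) x)))

lemma curCochain_v_apply (n : ℤ) (β : Cochain (P ⊗ E) J n) (p p' : ℤ) (hp : p + n = p')
    (x : P.X p) (q m : ℤ) (hq : q + p' = m) (e : E.X q) :
    ((curCochain P E J n β p p' hp x).v q m hq).hom e =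
      (β.v (p + q) m (by omega)).hom ((ιTensorObj P E p q (p + q) rfl).hom (x ⊗ₜ[A] e)) := rfl

/-- `x ↦ (e ↦ β(x ⊗ e))` as a linear map -/
noncomputable def curLin (n : ℤ) (β : Cochain (P ⊗ E) J n) (p p' : ℤ) (hp : p + n = p') :
    P.X p →ₗ[A] Cochain E J p' where
  toFun x := curCochain P E J n β p p' hp x
  map_add' x y := by
    ext q m hq e
    simp only [Cochain.add_v, ModuleCat.hom_add, LinearMap.add_apply, curCochain_v_apply,
      TensorProduct.add_tmul, map_add]
  map_smul' a x := by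
    ext q m hq e
    simp only [Cochain.smul_v, ModuleCat.hom_smul, LinearMap.smul_apply, curCochain_v_apply,
      RingHom.id_apply, ← TensorProduct.smul_tmul', map_smul]

/-- currying: a cochain `P ⊗ E ⟶ J` gives a cochain `P ⟶ Hom•(E, J)` of the same degree -/
noncomputable def cur (n : ℤ) (β : Cochain (P ⊗ E) J n) : Cochain P (DRing.homCx E J) n :=
  Cochain.mk (fun p p' hp => ModuleCat.ofHom (curLin P E J n β p p' hp))

lemma cur_v_apply (n : ℤ) (β : Cochain (P ⊗ E) J n) (p p' : ℤ) (hp : p + n = p') (x : P.X p) :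
    ((cur P E J n β).v p p' hp).hom x = curCochain P E J n β p p' hp x := rfl


lemma unc_v_apply (n : ℤ) (α : Cochain P (DRing.homCx E J) n) (m m' : ℤ) (hm : m + n = m')
    (p p' q : ℤ) (hpq : p + q = m) (hp : p + n = p') (x : P.X p) (e : E.X q) :
    ((unc P E J n α).v m m' hm).hom ((ιTensorObj P E p q m hpq).hom (x ⊗ₜ[A] e)) =
      (((α.v p p' hp).hom x : Cochain E J p').v q m' (by omega)).hom e :=
  ι_uncV_apply P E J n α m m' hm p p' q hpq hp x e

/-- extensionality for maps out of `(P ⊗ E)^m`, on elements -/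
lemma tensor_ext_apply {m : ℤ} {Y : ModuleCat.{u} A} {f g : (P ⊗ E).X m ⟶ Y}
    (h : ∀ (p q : ℤ) (hpq : p + q = m) (x : P.X p) (e : E.X q),
      f.hom ((ιTensorObj P E p q m hpq).hom (x ⊗ₜ[A] e)) =
        g.hom ((ιTensorObj P E p q m hpq).hom (x ⊗ₜ[A] e))) : f = g := by
  apply tensor_hom_ext
  intro p q hpq
  refine ModuleCat.hom_ext (TensorProduct.ext' fun x e => ?_)
  exact h p q hpq x e

lemma v_ι_congr (n : ℤ) (β : Cochain (P ⊗ E) J n) (p q m m' : ℤ) (hpq : p + q = m)
    (hm : m + n = m') (y : TensorProduct A (P.X p) (E.X q)) :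
    (β.v (p + q) m' (by omega)).hom ((ιTensorObj P E p q (p + q) rfl).hom y) =
      (β.v m m' hm).hom ((ιTensorObj P E p q m hpq).hom y) := by
  subst hpq
  rfl

lemma unc_cur (n : ℤ) (β : Cochain (P ⊗ E) J n) : unc P E J n (cur P E J n β) = β := by
  refine Cochain.ext _ _ (fun m m' hm => ?_)
  apply tensor_ext_apply
  intro p q hpq x e
  rw [unc_v_apply P E J n _ m m' hm p (p + n) q hpq rfl x e, cur_v_apply, curCochain_v_apply]
  exact v_ι_congr P E J n β p q m m' hpq hm _

lemma cur_unc (n : ℤ) (α : Cochain P (DRing.homCx E J) n) : cur P E J n (unc P E J n α) = α := by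
  refine Cochain.ext _ _ (fun p p' hp => ModuleCat.hom_ext (LinearMap.ext fun x => ?_))
  rw [cur_v_apply]
  refine Cochain.ext _ _ (fun q m hq => ModuleCat.hom_ext (LinearMap.ext fun e => ?_))
  rw [curCochain_v_apply, unc_v_apply P E J n α (p + q) m (by omega) p p' q rfl hp x e]

lemma unc_add (n : ℤ) (α α' : Cochain P (DRing.homCx E J) n) :
    unc P E J n (α + α') = unc P E J n α + unc P E J n α' := by
  refine Cochain.ext _ _ (fun m m' hm => ?_)
  apply tensor_ext_apply
  intro p q hpq x e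
  rw [Cochain.add_v, ModuleCat.hom_add, LinearMap.add_apply,
    unc_v_apply P E J n _ m m' hm p (p + n) q hpq rfl x e,
    unc_v_apply P E J n _ m m' hm p (p + n) q hpq rfl x e,
    unc_v_apply P E J n _ m m' hm p (p + n) q hpq rfl x e]
  erw [Cochain.add_v, ModuleCat.hom_add, LinearMap.add_apply]
  rfl

lemma unc_zero (n : ℤ) : unc P E J n 0 = 0 := by
  have := unc_add P E J n 0 0
  simpa using this

/-- the differential of `P ⊗ E` on elementary tensors -/
lemma tensor_d_apply (p q m m' : ℤ) (hpq : p + q = m) (hm : m + 1 = m') (x : P.X p)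
    (e : E.X q) :
    ((P ⊗ E).d m m').hom ((ιTensorObj P E p q m hpq).hom (x ⊗ₜ[A] e)) =
      (ιTensorObj P E (p + 1) q m' (by omega)).hom ((P.d p (p + 1)).hom x ⊗ₜ[A] e) +
        p.negOnePow • (ιTensorObj P E p (q + 1) m' (by omega)).hom
          (x ⊗ₜ[A] (E.d q (q + 1)).hom e) := by
  have h := ι_tensor_d P E p q m hpq (p + 1) (q + 1) m' rfl rfl hm
  have h2 := congrArg (fun f => f.hom (x ⊗ₜ[A] e)) h
  simp only [ModuleCat.hom_comp, LinearMap.comp_apply, ModuleCat.hom_add, LinearMap.add_apply,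
    ModuleCat.hom_smul, LinearMap.smul_apply] at h2
  exact h2

lemma δ_unc (n n' : ℤ) (hn : n + 1 = n') (α : Cochain P (DRing.homCx E J) n) :
    δ n n' (unc P E J n α) = unc P E J n' (δ n n' α) := by
  refine Cochain.ext _ _ (fun m m'' hm => ?_)
  apply tensor_ext_apply
  intro p q hpq x e
  rw [δ_v n n' hn (unc P E J n α) m m'' hm (m'' - 1) (m + 1) rfl rfl]
  simp only [ModuleCat.hom_add, ModuleCat.hom_comp, ModuleCat.hom_smul, LinearMap.add_apply,
    LinearMap.comp_apply, LinearMap.smul_apply]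
  rw [unc_v_apply P E J n α m (m'' - 1) (by omega) p (p + n) q hpq rfl x e,
    tensor_d_apply P E p q m (m + 1) hpq rfl x e, map_add, Units.smul_def p.negOnePow, map_zsmul,
    unc_v_apply P E J n α (m + 1) m'' (by omega) (p + 1) (p + n') q (by omega) (by omega) _ e,
    unc_v_apply P E J n α (m + 1) m'' (by omega) p (p + n) (q + 1) (by omega) rfl x _,
    unc_v_apply P E J n' (δ n n' α) m m'' hm p (p + n') q hpq rfl x e,
    δ_v n n' hn α p (p + n') rfl (p + n) (p + 1) (by omega) rfl]
  obtain ⟨z, hz⟩ : ∃ z : Cochain E J (p + n), z = (α.v p (p + n) rfl).hom x := ⟨_, rfl⟩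
  obtain ⟨w, hw⟩ : ∃ w : Cochain E J (p + n'),
    w = (α.v (p + 1) (p + n') (by omega)).hom ((P.d p (p + 1)).hom x) := ⟨_, rfl⟩
  have hR : (ModuleCat.Hom.hom (α.v p (p + n) rfl ≫ (DRing.homCx E J).d (p + n) (p + n') +
      n'.negOnePow • P.d p (p + 1) ≫ α.v (p + 1) (p + n') (by omega))) x =
      δ (p + n) (p + n') z + n'.negOnePow • w := by
    simp only [ModuleCat.hom_add, ModuleCat.hom_comp, ModuleCat.hom_smul, LinearMap.add_apply,
      LinearMap.comp_apply, LinearMap.smul_apply, hz, hw]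
    rfl
  rw [hR, Cochain.add_v, Cochain.units_smul_v,
    δ_v (p + n) (p + n') (by omega) _ q m'' (by omega) (m'' - 1) (q + 1) rfl rfl]
  simp only [ModuleCat.hom_add, ModuleCat.hom_comp, ModuleCat.hom_smul, LinearMap.add_apply,
    LinearMap.comp_apply, LinearMap.smul_apply, ← hz, ← hw]
  rw [smul_add, Int.negOnePow_add, mul_comm p.negOnePow, mul_smul, ← Units.smul_def]
  abel

lemma unc_injective (n : ℤ) : Function.Injective (unc P E J n) := fun α α' h => by
  rw [← cur_unc P E J n α, ← cur_unc P E J n α', h]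

lemma δ_cur (n n' : ℤ) (hn : n + 1 = n') (β : Cochain (P ⊗ E) J n) :
    δ n n' (cur P E J n β) = cur P E J n' (δ n n' β) := by
  apply unc_injective P E J n'
  rw [← δ_unc P E J n n' hn, unc_cur, unc_cur]

variable {P E J}

/-- uncurrying of chain maps -/
noncomputable def uncHom (α : P ⟶ DRing.homCx E J) : P ⊗ E ⟶ J :=
  Cocycle.homOf (Cocycle.mk (unc P E J 0 (Cochain.ofHom α)) 1 (zero_add 1)
    (by rw [δ_unc P E J 0 1 (zero_add 1), δ_ofHom, unc_zero]))

lemma ofHom_uncHom (α : P ⟶ DRing.homCx E J) :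
    Cochain.ofHom (uncHom α) = unc P E J 0 (Cochain.ofHom α) :=
  Cocycle.cochain_ofHom_homOf_eq_coe _

/-- currying of chain maps -/
noncomputable def curHom (β : P ⊗ E ⟶ J) : P ⟶ DRing.homCx E J :=
  Cocycle.homOf (Cocycle.mk (cur P E J 0 (Cochain.ofHom β)) 1 (zero_add 1)
    (by rw [δ_cur P E J 0 1 (zero_add 1), δ_ofHom]
        apply unc_injective P E J 1
        rw [unc_cur, unc_zero]))

lemma ofHom_curHom (β : P ⊗ E ⟶ J) :
    Cochain.ofHom (curHom β) = cur P E J 0 (Cochain.ofHom β) :=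
  Cocycle.cochain_ofHom_homOf_eq_coe _

lemma ofHom_injective {F G : Cx A} {f g : F ⟶ G} (h : Cochain.ofHom f = Cochain.ofHom g) :
    f = g := by
  ext i : 1
  have := Cochain.congr_v h i i (add_zero i)
  simpa using this

@[simp] lemma uncHom_curHom (β : P ⊗ E ⟶ J) : uncHom (curHom β) = β := by
  apply ofHom_injective
  rw [ofHom_uncHom, ofHom_curHom, unc_cur]

@[simp] lemma curHom_uncHom (α : P ⟶ DRing.homCx E J) : curHom (uncHom α) = α := by
  apply ofHom_injective
  rw [ofHom_curHom, ofHom_uncHom, cur_unc]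

/-- `uncHom` on elements -/
lemma uncHom_f_apply (α : P ⟶ DRing.homCx E J) (p q m : ℤ) (hpq : p + q = m) (x : P.X p)
    (e : E.X q) :
    ((uncHom α).f m).hom ((ιTensorObj P E p q m hpq).hom (x ⊗ₜ[A] e)) =
      (((α.f p).hom x : Cochain E J p).v q m (by omega)).hom e := by
  have h := Cochain.congr_v (ofHom_uncHom α) m m (add_zero m)
  rw [Cochain.ofHom_v] at h
  rw [h, unc_v_apply P E J 0 _ m m (add_zero m) p p q hpq (add_zero p) x e, Cochain.ofHom_v]

/-- homotopic maps have homotopic uncurryings -/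
lemma uncHom_homotopy {α α' : P ⟶ DRing.homCx E J} (h : Homotopy α α') :
    Nonempty (Homotopy (uncHom α) (uncHom α')) := by
  obtain ⟨z, hz⟩ := Cochain.equivHomotopy _ _ h
  refine ⟨(Cochain.equivHomotopy _ _).symm ⟨unc P E J (-1) z, ?_⟩⟩
  rw [ofHom_uncHom, ofHom_uncHom, hz, unc_add, δ_unc P E J (-1) 0 (by omega)]

/-- maps with homotopic uncurryings are homotopic -/
lemma homotopy_of_uncHom {α α' : P ⟶ DRing.homCx E J} (h : Homotopy (uncHom α) (uncHom α')) :
    Nonempty (Homotopy α α') := by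
  obtain ⟨z, hz⟩ := Cochain.equivHomotopy _ _ h
  refine ⟨(Cochain.equivHomotopy _ _).symm ⟨cur P E J (-1) z, ?_⟩⟩
  apply unc_injective P E J 0
  rw [unc_add, ← δ_unc P E J (-1) 0 (by omega), unc_cur, ← ofHom_uncHom, ← ofHom_uncHom, hz]

/-- naturality of `uncHom` in the first variable -/
lemma uncHom_comp {P' : Cx A} (f : P' ⟶ P) (α : P ⟶ DRing.homCx E J) :
    uncHom (f ≫ α) = (f ▷ E) ≫ uncHom α := by
  ext m : 1
  apply tensor_ext_apply
  intro p q hpq x e
  rw [uncHom_f_apply (f ≫ α) p q m hpq x e]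
  simp only [HomologicalComplex.comp_f, ModuleCat.hom_comp, LinearMap.comp_apply]
  have h := ι_whiskerRight f E p q m hpq
  have h2 := congrArg (fun t => t.hom (x ⊗ₜ[A] e)) h
  simp only [ModuleCat.hom_comp, LinearMap.comp_apply] at h2
  rw [h2]
  exact (uncHom_f_apply α p q m hpq ((f.f p).hom x) e).symm

/-- the evaluation map `Hom•(E, J) ⊗ E ⟶ J` -/
noncomputable def evCx (E J : Cx A) : DRing.homCx E J ⊗ E ⟶ J := uncHom (𝟙 _)

lemma uncHom_eq (α : P ⟶ DRing.homCx E J) : uncHom α = (α ▷ E) ≫ evCx E J := by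
  rw [evCx, ← uncHom_comp, Category.comp_id]

lemma evCx_f_apply (p q m : ℤ) (hpq : p + q = m) (z : Cochain E J p) (e : E.X q) :
    ((evCx E J).f m).hom ((ιTensorObj (DRing.homCx E J) E p q m hpq).hom (z ⊗ₜ[A] e)) =
      (z.v q m (by omega)).hom e :=
  uncHom_f_apply (𝟙 _) p q m hpq z e

end Groth.Agent.R2.H61.HT1
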