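import Mathlib
import Groth.Prelude.Def_DRing4
import Groth.Agent.R2.H61HT1
set_option backward.isDefEq.respectTransparency.types false

/-!
# helper30: `Hom•(K, Hom•(L, M)) ≅ Hom•(K ⊗ L, M)` as complexes of modules

Built on helper61's sign-free currying/uncurrying of cochains (`R2/H61HT1`).
-/

set_option autoImplicit false
universe u
open CategoryTheory CategoryTheory.Limits MonoidalCategory HomologicalComplex CochainComplex
  CochainComplex.HomComplex

namespace Groth.Agent.R2.H30.HomTensCx

open Groth.Agent.Lib.Helper1.KF Groth.Agent.R2.H61.HT1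

variable {A : Type u} [CommRing A] (P E J : Cx A)

lemma unc_smul (n : ℤ) (a : A) (α : Cochain P (DRing.homCx E J) n) :
    unc P E J n (a • α) = a • unc P E J n α := by
  refine Cochain.ext _ _ (fun m m' hm => ?_)
  apply tensor_ext_apply
  intro p q hpq x e
  rw [Cochain.smul_v, ModuleCat.hom_smul, LinearMap.smul_apply,
    unc_v_apply P E J n _ m m' hm p (p + n) q hpq rfl x e,
    unc_v_apply P E J n _ m m' hm p (p + n) q hpq rfl x e]
  erw [Cochain.smul_v, ModuleCat.hom_smul, LinearMap.smul_apply]
  rfl

/-- uncurrying as a linear equivalence in each degree -/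
noncomputable def uncEquiv (n : ℤ) :
    Cochain P (DRing.homCx E J) n ≃ₗ[A] Cochain (P ⊗ E) J n where
  toFun := unc P E J n
  invFun := cur P E J n
  map_add' := unc_add P E J n
  map_smul' a α := unc_smul P E J n a α
  left_inv := cur_unc P E J n
  right_inv := unc_cur P E J n

/-- `Hom•(P, Hom•(E, J)) ≅ Hom•(P ⊗ E, J)` -/
noncomputable def homCxIso : DRing.homCx P (DRing.homCx E J) ≅ DRing.homCx (P ⊗ E) J :=
  HomologicalComplex.Hom.isoOfComponents (fun n => (uncEquiv P E J n).toModuleIso) (by
    intro i j hij
    ext α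
    exact δ_unc P E J i j hij α)

end Groth.Agent.R2.H30.HomTensCx
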