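import Groth.Agent.Lib.Helper22MilnorGlue
import Mathlib.RingTheory.RingHom.Surjective

/-!
# Relative Milnor squares: glued modules over `D' → D ×_C C'` (helper30)

`WeakSq D' D C' C`: `D' → D` and `C' → C` surjective and every element of `ker (C' → C)` lifts to an element of
`ker (D' → D)`.  (This is what remains of a fibre square after a non-flat base change.)
Under `WeakSq`, the glued module of finite modules is finite (`weak_glue_finite`), and the relative situation
over a fibre square gives a `WeakSq` (`weakSq_of_pushout`).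
-/

set_option autoImplicit false

namespace Groth.Agent.R2.H30.MilnorRel

open TensorProduct Groth.Agent.Lib.Helper22

universe u

section Weak

variable (D' D C' C : Type u) [CommRing D'] [CommRing D] [CommRing C'] [CommRing C]
  [Algebra D' D] [Algebra D' C'] [Algebra D C] [Algebra C' C] [Algebra D' C]
  [IsScalarTower D' D C] [IsScalarTower D' C' C]

/-- weak form of a fibre square -/
structure WeakSq : Prop where
  surjD : Function.Surjective (algebraMap D' D)
  surjC : Function.Surjective (algebraMap C' C)
  lift : ∀ i' : C', algebraMap C' C i' = 0 → ∃ e : D', algebraMap D' D e = 0 ∧ algebraMap D' C' e = i'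

variable {D' D C' C}
variable {N M' : Type u} [AddCommGroup N] [Module D N] [Module D' N] [IsScalarTower D' D N]
  [AddCommGroup M'] [Module C' M'] [Module D' M'] [IsScalarTower D' C' M']
  (φ : C ⊗[D] N ≃ₗ[C] C ⊗[C'] M')

theorem glue_exists_snd' (hC : Function.Surjective (algebraMap C' C)) (n : N) :
    ∃ m' : M', (n, m') ∈ EtMil.glue D' φ := by
  obtain ⟨m', hm'⟩ := TensorProduct.mk_surjective C' M' C hC (φ ((1 : C) ⊗ₜ[D] n))
  exact ⟨m', hm'.symm⟩

theorem glue_span_snd' (hC : Function.Surjective (algebraMap C' C)) :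
    Submodule.span C' (Set.range (EtMil.glueSnd D' φ)) = ⊤ := by
  set S := Submodule.span C' (Set.range (EtMil.glueSnd D' φ)) with hS
  have h1 : ∀ t : C ⊗[D] N, ∃ s ∈ S, φ t = (1 : C) ⊗ₜ[C'] s := by
    intro t
    induction t using TensorProduct.induction_on with
    | zero => exact ⟨0, S.zero_mem, by rw [map_zero, TensorProduct.tmul_zero]⟩
    | tmul a n =>
      obtain ⟨a', rfl⟩ := hC a
      obtain ⟨m0, hm0⟩ := glue_exists_snd' (D' := D') φ hC n
      refine ⟨a' • m0, S.smul_mem a' (Submodule.subset_span ⟨⟨(n, m0), hm0⟩, rfl⟩), ?_⟩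
      have e : (algebraMap C' C a') ⊗ₜ[D] n = (algebraMap C' C a') • ((1 : C) ⊗ₜ[D] n) := by
        rw [TensorProduct.smul_tmul', smul_eq_mul, mul_one]
      rw [e, map_smul, (mem_glue_iff φ _).mp hm0, TensorProduct.smul_tmul', smul_eq_mul, mul_one,
        ← TensorProduct.smul_tmul, Algebra.smul_def, mul_one]
    | add x y hx hy =>
      obtain ⟨s1, hs1, e1⟩ := hx
      obtain ⟨s2, hs2, e2⟩ := hy
      exact ⟨s1 + s2, S.add_mem hs1 hs2, by rw [map_add, e1, e2, TensorProduct.tmul_add]⟩
  rw [eq_top_iff]
  intro m' _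
  obtain ⟨s, hs, e⟩ := h1 (φ.symm ((1 : C) ⊗ₜ[C'] m'))
  rw [LinearEquiv.apply_symm_apply] at e
  have h0 : ((1 : C) ⊗ₜ[C'] (m' - s) : C ⊗[C'] M') = 0 := by
    rw [TensorProduct.tmul_sub, e, sub_self]
  have h2 := mem_ker_smul_top_of_one_tmul_eq_zero hC (m' - s) h0
  have h3 : m' - s ∈ S := by
    refine Submodule.smul_induction_on h2 ?_ ?_
    · intro i hi m'' _
      exact Submodule.subset_span
        ⟨⟨(0, i • m''), glue_zero_smul_mem (B' := D') φ i (RingHom.mem_ker.mp hi) m''⟩, rfl⟩
    · intro x y hx hy
      exact S.add_mem hx hy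
  have := S.add_mem h3 hs
  rwa [sub_add_cancel] at this

/-- Over a weak square, the glued module of two finite modules is finite. -/
theorem weak_glue_finite (h : WeakSq D' D C' C) [Module.Finite D N] [Module.Finite C' M'] :
    Module.Finite D' ↥(EtMil.glue D' φ) := by
  classical
  set G := EtMil.glue D' φ with hG
  -- generators of `N`
  obtain ⟨SN, hSN⟩ := (Module.Finite.fg_top (R := D) (M := N))
  -- finitely many elements of the image of `glue → M'` generating `M'`
  have hfg : (Submodule.span C' (Set.range (EtMil.glueSnd D' φ))).FG := by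
    rw [glue_span_snd' φ h.surjC]; exact Module.Finite.fg_top
  obtain ⟨T, hT, hTspan⟩ := (Submodule.fg_span_iff_fg_span_finset_subset _).1 hfg
  rw [glue_span_snd' φ h.surjC] at hTspan
  -- lifts
  choose u hu using fun n : N => glue_exists_snd' (D' := D') φ h.surjC n
  have hv : ∀ t : M', t ∈ T → ∃ n : N, (n, t) ∈ G := by
    intro t ht
    obtain ⟨x, hx⟩ := hT ht
    refine ⟨x.1.1, ?_⟩
    have : (x.1.1, t) = x.1 := by rw [← hx]; rfl
    rw [this]; exact x.2
  let v : M' → N := fun t => if ht : t ∈ T then (hv t ht).choose else 0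
  have hvmem : ∀ t ∈ T, (v t, t) ∈ G := by
    intro t ht
    simp only [v, dif_pos ht]
    exact (hv t ht).choose_spec
  let gens : Finset (N × M') := SN.image (fun n => (n, u n)) ∪ T.image (fun t => (v t, t))
  set W := Submodule.span D' (gens : Set (N × M')) with hW
  have hWG : W ≤ G := by
    rw [hW, Submodule.span_le]
    intro x hx
    simp only [gens, Finset.coe_union, Finset.coe_image, Set.mem_union, Set.mem_image] at hx
    rcases hx with ⟨n, _, rfl⟩ | ⟨t, ht, rfl⟩
    · exact hu n
    · exact hvmem t ht
  -- step 2: `(0, m) ∈ W` for `m ∈ J M'`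
  have key : ∀ m' : M', ∀ i : C', algebraMap C' C i = 0 → ((0 : N), i • m') ∈ W := by
    intro m'
    have hm' : m' ∈ Submodule.span C' (T : Set M') := by rw [← hTspan]; trivial
    induction hm' using Submodule.span_induction with
    | mem t ht =>
      intro i hi
      obtain ⟨e, he1, he2⟩ := h.lift i hi
      have hmem : (v t, t) ∈ W := Submodule.subset_span (by
        simp only [gens, Finset.coe_union, Finset.coe_image, Set.mem_union, Set.mem_image]
        exact Or.inr ⟨t, ht, rfl⟩)
      have : ((0 : N), i • t) = e • (v t, t) := by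
        apply Prod.ext
        · show (0 : N) = e • v t
          rw [← algebraMap_smul D e (v t), he1, zero_smul]
        · show i • t = e • t
          rw [← algebraMap_smul C' e t, he2]
      rw [this]
      exact W.smul_mem e hmem
    | zero =>
      intro i _
      rw [smul_zero]; exact W.zero_mem
    | add x y _ _ hx hy =>
      intro i hi
      have := W.add_mem (hx i hi) (hy i hi)
      rwa [Prod.mk_add_mk, add_zero, ← smul_add] at this
    | smul a x _ hx =>
      intro i hi
      have := hx (i * a) (by rw [map_mul, hi, zero_mul])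
      rwa [mul_smul] at this
  have key2 : ∀ m ∈ (RingHom.ker (algebraMap C' C)) • (⊤ : Submodule C' M'), ((0 : N), m) ∈ W := by
    intro m hm
    refine Submodule.smul_induction_on hm ?_ ?_
    · intro i hi m'' _
      exact key m'' i (RingHom.mem_ker.mp hi)
    · intro a b ha hb
      have := W.add_mem ha hb
      rwa [Prod.mk_add_mk, add_zero] at this
  -- step 1: first projection of `W` is onto
  have hfst : ∀ n : N, ∃ w ∈ W, w.1 = n := by
    intro n
    have hn : n ∈ Submodule.span D' (SN : Set N) := by
      rw [← Submodule.restrictScalars_span D' D h.surjD, hSN]; trivial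
    induction hn using Submodule.span_induction with
    | mem y hy =>
      exact ⟨(y, u y), Submodule.subset_span (by
        simp only [gens, Finset.coe_union, Finset.coe_image, Set.mem_union, Set.mem_image]
        exact Or.inl ⟨y, hy, rfl⟩), rfl⟩
    | zero => exact ⟨0, W.zero_mem, rfl⟩
    | add x y _ _ hx hy =>
      obtain ⟨w1, hw1, e1⟩ := hx
      obtain ⟨w2, hw2, e2⟩ := hy
      exact ⟨w1 + w2, W.add_mem hw1 hw2, by rw [Prod.fst_add, e1, e2]⟩
    | smul a x _ hx =>
      obtain ⟨w1, hw1, e1⟩ := hx
      exact ⟨a • w1, W.smul_mem a hw1, by rw [Prod.smul_fst, e1]⟩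
  have hGW : G ≤ W := by
    intro ξ hξ
    obtain ⟨w, hw, e⟩ := hfst ξ.1
    have hd : ξ - w ∈ G := G.sub_mem hξ (hWG hw)
    have hd1 : (ξ - w).1 = 0 := by rw [Prod.fst_sub, e, sub_self]
    have hx2 : ((1 : C) ⊗ₜ[C'] (ξ - w).2 : C ⊗[C'] M') = 0 := by
      rw [← (mem_glue_iff φ _).mp hd, hd1, TensorProduct.tmul_zero, map_zero]
    have h2 := mem_ker_smul_top_of_one_tmul_eq_zero h.surjC _ hx2
    have h3 := key2 _ h2
    have h4 : ξ - w = ((0 : N), (ξ - w).2) := Prod.ext hd1 rfl
    rw [← h4] at h3
    have := W.add_mem h3 hw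
    rwa [sub_add_cancel] at this
  have hEq : G = W := le_antisymm hGW hWG
  rw [Module.Finite.iff_fg, hEq]
  exact Submodule.fg_span (Finset.finite_toSet gens)

end Weak

section Relative

set_option linter.unusedVariables false in
theorem surjD {B' B A' A : Type u} [CommRing B'] [CommRing B] [CommRing A'] [CommRing A]
    [Algebra B' B] [Algebra B' A'] [Algebra B A] [Algebra A' A] [Algebra B' A] [IsScalarTower B' B A] [IsScalarTower B' A' A]
    (hsq : EtMil.IsFibreSquare B' B A' A)
    (D' D C' C : Type u) [CommRing D'] [CommRing D] [CommRing C'] [CommRing C]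
    [Algebra B' D'] [Algebra B D] [Algebra A' C'] [Algebra A C]
    [Algebra D' D] [Algebra B' D] [IsScalarTower B' B D] [IsScalarTower B' D' D] [Algebra.IsPushout B' B D' D]
    [Algebra D' C'] [Algebra B' C'] [IsScalarTower B' A' C'] [IsScalarTower B' D' C'] [Algebra.IsPushout B' A' D' C']
    [Algebra D' C] [Algebra B' C] [IsScalarTower B' A C] [IsScalarTower B' D' C] [Algebra.IsPushout B' A D' C]
    [Algebra D C] [IsScalarTower D' D C] [Algebra B C] [IsScalarTower B A C] [IsScalarTower B D C]
    [Algebra C' C] [IsScalarTower D' C' C] [Algebra A' C] [IsScalarTower A' A C] [IsScalarTower A' C' C] :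
    Function.Surjective (algebraMap D' D) :=
  RingHom.surjective_isStableUnderBaseChange B' B D' D (fs_surjective hsq)

set_option linter.unusedVariables false in
theorem surjC {B' B A' A : Type u} [CommRing B'] [CommRing B] [CommRing A'] [CommRing A]
    [Algebra B' B] [Algebra B' A'] [Algebra B A] [Algebra A' A] [Algebra B' A] [IsScalarTower B' B A] [IsScalarTower B' A' A]
    (hsq : EtMil.IsFibreSquare B' B A' A)
    (D' D C' C : Type u) [CommRing D'] [CommRing D] [CommRing C'] [CommRing C]
    [Algebra B' D'] [Algebra B D] [Algebra A' C'] [Algebra A C]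
    [Algebra D' D] [Algebra B' D] [IsScalarTower B' B D] [IsScalarTower B' D' D] [Algebra.IsPushout B' B D' D]
    [Algebra D' C'] [Algebra B' C'] [IsScalarTower B' A' C'] [IsScalarTower B' D' C'] [Algebra.IsPushout B' A' D' C']
    [Algebra D' C] [Algebra B' C] [IsScalarTower B' A C] [IsScalarTower B' D' C] [Algebra.IsPushout B' A D' C]
    [Algebra D C] [IsScalarTower D' D C] [Algebra B C] [IsScalarTower B A C] [IsScalarTower B D C]
    [Algebra C' C] [IsScalarTower D' C' C] [Algebra A' C] [IsScalarTower A' A C] [IsScalarTower A' C' C] :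
    Function.Surjective (algebraMap C' C) := by
  intro c
  have hb : IsBaseChange A (IsScalarTower.toAlgHom B' D' C).toLinearMap :=
    (Algebra.IsPushout.out : IsBaseChange A (IsScalarTower.toAlgHom B' D' C).toLinearMap)
  refine hb.inductionOn c (fun c => ∃ c', algebraMap C' C c' = c) ⟨0, map_zero _⟩ ?_ ?_ ?_
  · intro d'
    exact ⟨algebraMap D' C' d', (IsScalarTower.algebraMap_apply D' C' C d').symm⟩
  · rintro a c ⟨c', rfl⟩
    obtain ⟨a', rfl⟩ := hsq.1 a
    refine ⟨algebraMap A' C' a' * c', ?_⟩
    rw [map_mul, Algebra.smul_def, ← IsScalarTower.algebraMap_apply, ← IsScalarTower.algebraMap_apply]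
  · rintro c1 c2 ⟨c1', rfl⟩ ⟨c2', rfl⟩
    exact ⟨c1' + c2', map_add _ _ _⟩

set_option linter.unusedVariables false in
theorem liftKer {B' B A' A : Type u} [CommRing B'] [CommRing B] [CommRing A'] [CommRing A]
    [Algebra B' B] [Algebra B' A'] [Algebra B A] [Algebra A' A] [Algebra B' A] [IsScalarTower B' B A] [IsScalarTower B' A' A]
    (hsq : EtMil.IsFibreSquare B' B A' A)
    (D' D C' C : Type u) [CommRing D'] [CommRing D] [CommRing C'] [CommRing C]
    [Algebra B' D'] [Algebra B D] [Algebra A' C'] [Algebra A C]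
    [Algebra D' D] [Algebra B' D] [IsScalarTower B' B D] [IsScalarTower B' D' D] [Algebra.IsPushout B' B D' D]
    [Algebra D' C'] [Algebra B' C'] [IsScalarTower B' A' C'] [IsScalarTower B' D' C'] [Algebra.IsPushout B' A' D' C']
    [Algebra D' C] [Algebra B' C] [IsScalarTower B' A C] [IsScalarTower B' D' C] [Algebra.IsPushout B' A D' C]
    [Algebra D C] [IsScalarTower D' D C] [Algebra B C] [IsScalarTower B A C] [IsScalarTower B D C]
    [Algebra C' C] [IsScalarTower D' C' C] [Algebra A' C] [IsScalarTower A' A C] [IsScalarTower A' C' C] (i' : C') (hi' : algebraMap C' C i' = 0) :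
    ∃ e : D', algebraMap D' D e = 0 ∧ algebraMap D' C' e = i' := by
  have hb' : IsBaseChange A' (IsScalarTower.toAlgHom B' D' C').toLinearMap :=
    (Algebra.IsPushout.out : IsBaseChange A' (IsScalarTower.toAlgHom B' D' C').toLinearMap)
  have hb : IsBaseChange A (IsScalarTower.toAlgHom B' D' C).toLinearMap :=
    (Algebra.IsPushout.out : IsBaseChange A (IsScalarTower.toAlgHom B' D' C).toLinearMap)
  let g : A' →ₗ[B'] A := (IsScalarTower.toAlgHom B' A' A).toLinearMap
  have hg : Function.Surjective g := hsq.1
  have hex : Function.Exact (LinearMap.ker g).subtype g := LinearMap.exact_subtype_ker_map g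
  have hex' := rTensor_exact D' hex hg
  have compat : ∀ t : A' ⊗[B'] D', algebraMap C' C (hb'.equiv t) = hb.equiv (LinearMap.rTensor D' g t) := by
    intro t
    induction t using TensorProduct.induction_on with
    | zero => simp
    | tmul a' d' =>
      rw [LinearMap.rTensor_tmul, IsBaseChange.equiv_tmul, IsBaseChange.equiv_tmul]
      change algebraMap C' C (a' • algebraMap D' C' d') = (algebraMap A' A a') • algebraMap D' C d'
      rw [Algebra.smul_def, Algebra.smul_def, map_mul, ← IsScalarTower.algebraMap_apply,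
        ← IsScalarTower.algebraMap_apply, ← IsScalarTower.algebraMap_apply]
    | add x y hx hy => simp only [map_add, hx, hy]
  have h0 : LinearMap.rTensor D' g (hb'.equiv.symm i') = 0 := by
    apply hb.equiv.injective
    rw [← compat, LinearEquiv.apply_symm_apply, hi', map_zero]
  obtain ⟨t', ht'⟩ := (hex' _).1 h0
  have P : ∀ t' : (LinearMap.ker g) ⊗[B'] D', ∃ e : D', algebraMap D' D e = 0 ∧
      hb'.equiv (LinearMap.rTensor D' (LinearMap.ker g).subtype t') = algebraMap D' C' e := by
    intro t'
    induction t' using TensorProduct.induction_on with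
    | zero => exact ⟨0, map_zero _, by simp⟩
    | tmul i d' =>
      obtain ⟨j, hj1, hj2⟩ := fs_exists_lift_ker hsq i.1 i.2
      refine ⟨algebraMap B' D' j * d', ?_, ?_⟩
      · rw [map_mul, ← IsScalarTower.algebraMap_apply, IsScalarTower.algebraMap_apply B' B D, hj1,
          map_zero, zero_mul]
      · rw [LinearMap.rTensor_tmul, IsBaseChange.equiv_tmul]
        change i.1 • algebraMap D' C' d' = _
        rw [Algebra.smul_def, map_mul, ← IsScalarTower.algebraMap_apply B' D' C',
          IsScalarTower.algebraMap_apply B' A' C', hj2]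
    | add x y hx hy =>
      obtain ⟨e1, h1, h1'⟩ := hx
      obtain ⟨e2, h2, h2'⟩ := hy
      exact ⟨e1 + e2, by rw [map_add, h1, h2, add_zero], by simp only [map_add, h1', h2']⟩
  obtain ⟨e, he1, he2⟩ := P t'
  refine ⟨e, he1, ?_⟩
  rw [← he2, ht', LinearEquiv.apply_symm_apply]

theorem weakSq_of_pushout {B' B A' A : Type u} [CommRing B'] [CommRing B] [CommRing A'] [CommRing A]
    [Algebra B' B] [Algebra B' A'] [Algebra B A] [Algebra A' A] [Algebra B' A] [IsScalarTower B' B A] [IsScalarTower B' A' A]
    (hsq : EtMil.IsFibreSquare B' B A' A)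
    (D' D C' C : Type u) [CommRing D'] [CommRing D] [CommRing C'] [CommRing C]
    [Algebra B' D'] [Algebra B D] [Algebra A' C'] [Algebra A C]
    [Algebra D' D] [Algebra B' D] [IsScalarTower B' B D] [IsScalarTower B' D' D] [Algebra.IsPushout B' B D' D]
    [Algebra D' C'] [Algebra B' C'] [IsScalarTower B' A' C'] [IsScalarTower B' D' C'] [Algebra.IsPushout B' A' D' C']
    [Algebra D' C] [Algebra B' C] [IsScalarTower B' A C] [IsScalarTower B' D' C] [Algebra.IsPushout B' A D' C]
    [Algebra D C] [IsScalarTower D' D C] [Algebra B C] [IsScalarTower B A C] [IsScalarTower B D C]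
    [Algebra C' C] [IsScalarTower D' C' C] [Algebra A' C] [IsScalarTower A' A C] [IsScalarTower A' C' C] : WeakSq D' D C' C :=
  ⟨surjD hsq D' D C' C, surjC hsq D' D C' C, liftKer hsq D' D C' C⟩

end Relative

end Groth.Agent.R2.H30.MilnorRel
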