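import Groth.Agent.R2.H30MilnorRel
import Groth.Agent.Lib.Helper22MilnorFlat
import Mathlib.RingTheory.Flat.Equalizer

/-!
# Relative Milnor squares II: base change of glued modules, descent of finiteness, finite presentation (helper30)

Port of `Helper22MilnorGlue` (`glue_fst_bijective`, `glue_snd_bijective`) to weak squares, descent of finiteness in the
relative situation, and finite presentation of the glued module (`rel_glue_finitePresentation`).
-/

set_option autoImplicit false

namespace Groth.Agent.R2.H30.MilnorRel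

open TensorProduct Groth.Agent.Lib.Helper22

universe u

section Weak

variable {D' D C' C : Type u} [CommRing D'] [CommRing D] [CommRing C'] [CommRing C]
  [Algebra D' D] [Algebra D' C'] [Algebra D C] [Algebra C' C] [Algebra D' C]
  [IsScalarTower D' D C] [IsScalarTower D' C' C]
variable {N M' : Type u} [AddCommGroup N] [Module D N] [Module D' N] [IsScalarTower D' D N]
  [AddCommGroup M'] [Module C' M'] [Module D' M'] [IsScalarTower D' C' M']
  (φ : C ⊗[D] N ≃ₗ[C] C ⊗[C'] M')

theorem glue_exists_mem_smul' (h : WeakSq D' D C' C) (m' : M') :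
    ∀ i : C', algebraMap C' C i = 0 →
      ∃ y ∈ (RingHom.ker (algebraMap D' D)) • (⊤ : Submodule D' (EtMil.glue D' φ)),
        (y : N × M') = (0, i • m') := by
  have hm : m' ∈ Submodule.span C' (Set.range (EtMil.glueSnd D' φ)) := by
    rw [glue_span_snd' φ h.surjC]; trivial
  induction hm using Submodule.span_induction with
  | mem m hm =>
    obtain ⟨x, rfl⟩ := hm
    intro i hi
    obtain ⟨j, hj1, hj2⟩ := h.lift i hi
    refine ⟨j • x, Submodule.smul_mem_smul (RingHom.mem_ker.mpr hj1) Submodule.mem_top, ?_⟩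
    rw [Submodule.coe_smul]
    apply Prod.ext
    · show j • (x : N × M').1 = 0
      rw [← algebraMap_smul D j, hj1, zero_smul]
    · show j • (x : N × M').2 = i • (EtMil.glueSnd D' φ x)
      rw [← algebraMap_smul C' j, hj2]
      rfl
  | zero =>
    intro i _
    exact ⟨0, Submodule.zero_mem _, by rw [smul_zero]; rfl⟩
  | add x y _ _ hx hy =>
    intro i hi
    obtain ⟨y1, h1, e1⟩ := hx i hi
    obtain ⟨y2, h2, e2⟩ := hy i hi
    refine ⟨y1 + y2, Submodule.add_mem _ h1 h2, ?_⟩
    rw [Submodule.coe_add, e1, e2, smul_add, Prod.mk_add_mk, add_zero]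
  | smul a x _ hx =>
    intro i hi
    obtain ⟨y1, h1, e1⟩ := hx (i * a) (by rw [map_mul, hi, zero_mul])
    exact ⟨y1, h1, by rw [e1, smul_smul]⟩

theorem glue_mem_smul_of_fst_eq_zero' (h : WeakSq D' D C' C)
    (x : EtMil.glue D' φ) (hx : (x : N × M').1 = 0) :
    x ∈ (RingHom.ker (algebraMap D' D)) • (⊤ : Submodule D' (EtMil.glue D' φ)) := by
  have hx2 : ((1 : C) ⊗ₜ[C'] (x : N × M').2 : C ⊗[C'] M') = 0 := by
    rw [← (mem_glue_iff φ _).mp x.2, hx, TensorProduct.tmul_zero, map_zero]
  have h2 := mem_ker_smul_top_of_one_tmul_eq_zero h.surjC _ hx2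
  have key : ∀ m ∈ (RingHom.ker (algebraMap C' C)) • (⊤ : Submodule C' M'),
      ∃ y ∈ (RingHom.ker (algebraMap D' D)) • (⊤ : Submodule D' (EtMil.glue D' φ)),
        (y : N × M') = (0, m) := by
    intro m hm
    refine Submodule.smul_induction_on hm ?_ ?_
    · intro i hi m'' _
      exact glue_exists_mem_smul' φ h m'' i (RingHom.mem_ker.mp hi)
    · rintro a b ⟨y1, h1, e1⟩ ⟨y2, h2, e2⟩
      refine ⟨y1 + y2, Submodule.add_mem _ h1 h2, ?_⟩
      rw [Submodule.coe_add, e1, e2, Prod.mk_add_mk, add_zero]
  obtain ⟨y, hy, e⟩ := key _ h2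
  have hxy : x = y := Subtype.ext (by rw [e]; exact Prod.ext hx rfl)
  rw [hxy]
  exact hy

/-- `D ⊗_{D'} (N ×_φ M') → N` is bijective. -/
theorem glue_fst_bijective' (h : WeakSq D' D C' C) :
    Function.Bijective (LinearMap.liftBaseChange D (EtMil.glueFst D' φ)) := by
  constructor
  · rw [injective_iff_map_eq_zero]
    intro t ht
    obtain ⟨x, rfl⟩ := TensorProduct.mk_surjective D' (EtMil.glue D' φ) D h.surjD t
    rw [TensorProduct.mk_apply] at ht ⊢
    rw [LinearMap.liftBaseChange_tmul, one_smul] at ht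
    exact one_tmul_eq_zero_of_mem_ker_smul _ (glue_mem_smul_of_fst_eq_zero' φ h x ht)
  · intro n
    obtain ⟨m', hm'⟩ := glue_exists_snd' (D' := D') φ h.surjC n
    exact ⟨(1 : D) ⊗ₜ[D'] ⟨(n, m'), hm'⟩, by rw [LinearMap.liftBaseChange_tmul, one_smul]; rfl⟩

/-- `C' ⊗_{D'} (N ×_φ M') → M'` is bijective. -/
theorem glue_snd_bijective' (h : WeakSq D' D C' C) :
    Function.Bijective (LinearMap.liftBaseChange C' (EtMil.glueSnd D' φ)) := by
  constructor
  · -- injectivity
    let e1 : D ⊗[D'] (EtMil.glue D' φ) ≃ₗ[D] N :=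
      LinearEquiv.ofBijective _ (glue_fst_bijective' φ h)
    have he1 : ∀ x : EtMil.glue D' φ, e1 ((1 : D) ⊗ₜ[D'] x) = (x : N × M').1 := by
      intro x
      show (LinearMap.liftBaseChange D (EtMil.glueFst D' φ)) ((1 : D) ⊗ₜ[D'] x) = _
      rw [LinearMap.liftBaseChange_tmul, one_smul]
      rfl
    let Ξ : C ⊗[D'] (EtMil.glue D' φ) ≃ₗ[C] C ⊗[D] N :=
      (AlgebraTensorModule.cancelBaseChange D' D C C (EtMil.glue D' φ)).symm ≪≫ₗ
        (AlgebraTensorModule.congr (LinearEquiv.refl C C) e1)
    have hΞ : ∀ (a : C) (x : EtMil.glue D' φ), Ξ (a ⊗ₜ[D'] x) = a ⊗ₜ[D] (x : N × M').1 := by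
      intro a x
      show (AlgebraTensorModule.congr (LinearEquiv.refl C C) e1)
        ((AlgebraTensorModule.cancelBaseChange D' D C C (EtMil.glue D' φ)).symm (a ⊗ₜ[D'] x)) = _
      rw [AlgebraTensorModule.cancelBaseChange_symm_tmul, AlgebraTensorModule.congr_tmul, he1]
      rfl
    let π : C' →ₗ[D'] C := (IsScalarTower.toAlgHom D' C' C).toLinearMap
    have hπ : ∀ a', π a' = algebraMap C' C a' := fun _ => rfl
    have hπsurj : Function.Surjective π := h.surjC
    have hcomp : ∀ t : C' ⊗[D'] (EtMil.glue D' φ),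
        φ (Ξ (π.rTensor (EtMil.glue D' φ) t)) =
          (1 : C) ⊗ₜ[C'] (LinearMap.liftBaseChange C' (EtMil.glueSnd D' φ) t) := by
      intro t
      induction t using TensorProduct.induction_on with
      | zero => simp
      | tmul a' x =>
        rw [LinearMap.rTensor_tmul, hΞ, LinearMap.liftBaseChange_tmul, hπ]
        have e : (algebraMap C' C a') ⊗ₜ[D] (x : N × M').1 =
            (algebraMap C' C a') • ((1 : C) ⊗ₜ[D] (x : N × M').1) := by
          rw [TensorProduct.smul_tmul', smul_eq_mul, mul_one]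
        rw [e, map_smul, (mem_glue_iff φ _).mp x.2, TensorProduct.smul_tmul', smul_eq_mul, mul_one,
          ← TensorProduct.smul_tmul, Algebra.smul_def, mul_one]
        rfl
      | add x y hx hy =>
        rw [map_add, map_add, map_add, hx, hy, map_add, TensorProduct.tmul_add]
    have hex : Function.Exact ((LinearMap.ker π).subtype.rTensor (EtMil.glue D' φ))
        (π.rTensor (EtMil.glue D' φ)) :=
      rTensor_exact _ (LinearMap.exact_subtype_ker_map π) hπsurj
    have hker : ∀ s : (LinearMap.ker π) ⊗[D'] (EtMil.glue D' φ),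
        ∃ y ∈ (RingHom.ker (algebraMap D' D)) • (⊤ : Submodule D' (EtMil.glue D' φ)),
          (LinearMap.ker π).subtype.rTensor (EtMil.glue D' φ) s = (1 : C') ⊗ₜ[D'] y := by
      intro s
      induction s using TensorProduct.induction_on with
      | zero => exact ⟨0, Submodule.zero_mem _, by rw [map_zero, TensorProduct.tmul_zero]⟩
      | tmul i x =>
        have hi : algebraMap C' C (i : C') = 0 := i.2
        obtain ⟨j, hj1, hj2⟩ := h.lift (i : C') hi
        refine ⟨j • x, Submodule.smul_mem_smul (RingHom.mem_ker.mpr hj1) Submodule.mem_top, ?_⟩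
        rw [LinearMap.rTensor_tmul, Submodule.subtype_apply, ← TensorProduct.smul_tmul,
          Algebra.smul_def, mul_one, hj2]
      | add a b ha hb =>
        obtain ⟨y1, h1, e1⟩ := ha
        obtain ⟨y2, h2, e2⟩ := hb
        exact ⟨y1 + y2, Submodule.add_mem _ h1 h2, by rw [map_add, e1, e2, TensorProduct.tmul_add]⟩
    rw [injective_iff_map_eq_zero]
    intro t ht
    have h1 : π.rTensor (EtMil.glue D' φ) t = 0 := by
      have := hcomp t
      rw [ht, TensorProduct.tmul_zero] at this
      have h' := φ.injective (this.trans (map_zero φ).symm)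
      exact Ξ.injective (h'.trans (map_zero Ξ).symm)
    obtain ⟨s, rfl⟩ := (hex t).mp h1
    obtain ⟨y, hy, e⟩ := hker s
    rw [e] at ht ⊢
    rw [LinearMap.liftBaseChange_tmul, one_smul] at ht
    have hy1 : (y : N × M').1 = 0 := glue_fst_eq_zero_of_mem_smul (B' := D') φ y hy
    have hy2 : (y : N × M').2 = 0 := ht
    have : y = 0 := Subtype.ext (Prod.ext hy1 hy2)
    rw [this, TensorProduct.tmul_zero]
  · rw [← LinearMap.range_eq_top, eq_top_iff, ← glue_span_snd' (D' := D') φ h.surjC, Submodule.span_le]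
    rintro _ ⟨x, rfl⟩
    exact ⟨(1 : C') ⊗ₜ[D'] x, by rw [LinearMap.liftBaseChange_tmul, one_smul]⟩

end Weak

section General

/-- If `S ⊗ ker f → S ⊗ F` is injective, `F` finite and `S ⊗ L` finitely presented over `S`, then `S ⊗ ker f` is a
finite `S`-module. -/
theorem finite_baseChange_ker_of_injective {R S : Type*} [CommRing R] [CommRing S] [Algebra R S]
    {F L : Type*} [AddCommGroup F] [Module R F] [Module.Finite R F] [AddCommGroup L] [Module R L]
    [Module.FinitePresentation S (S ⊗[R] L)] (f : F →ₗ[R] L)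
    (hf : Function.Surjective f) (hinj : Function.Injective ((LinearMap.ker f).subtype.lTensor S)) :
    Module.Finite S (S ⊗[R] (LinearMap.ker f)) := by
  have hex : Function.Exact ((LinearMap.ker f).subtype.lTensor S) (f.lTensor S) :=
    lTensor_exact S (LinearMap.exact_subtype_ker_map f) hf
  have hsurj : Function.Surjective (f.baseChange S) := by
    rw [LinearMap.baseChange_eq_ltensor]
    exact LinearMap.lTensor_surjective S hf
  have hfg : (LinearMap.ker (f.baseChange S)).FG :=
    Module.FinitePresentation.fg_ker (f.baseChange S) hsurj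
  have hinj' : Function.Injective ((LinearMap.ker f).subtype.baseChange S) := by
    rw [LinearMap.baseChange_eq_ltensor]
    exact hinj
  have hrange : LinearMap.range ((LinearMap.ker f).subtype.baseChange S) =
      LinearMap.ker (f.baseChange S) := by
    ext x
    rw [LinearMap.mem_range, LinearMap.mem_ker, LinearMap.baseChange_eq_ltensor,
      LinearMap.baseChange_eq_ltensor]
    exact ((hex x).symm)
  rw [← hrange] at hfg
  have : Module.Finite S (LinearMap.range ((LinearMap.ker f).subtype.baseChange S)) :=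
    Module.Finite.iff_fg.mpr hfg
  exact Module.Finite.equiv
    (LinearEquiv.ofInjective ((LinearMap.ker f).subtype.baseChange S) hinj').symm

/-- Injectivity of `B ⊗[A] K → B ⊗[A] F` follows from that of `S ⊗[R] K → S ⊗[R] F` when `B = S ⊗[R] A`. -/
theorem lTensor_injective_of_pushout (R S A B : Type*) [CommRing R] [CommRing S] [CommRing A] [CommRing B]
    [Algebra R S] [Algebra R A] [Algebra R B] [Algebra A B] [Algebra S B]
    [IsScalarTower R A B] [IsScalarTower R S B] [Algebra.IsPushout R S A B]
    {K F : Type*} [AddCommGroup K] [Module R K] [Module A K] [IsScalarTower R A K]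
    [AddCommGroup F] [Module R F] [Module A F] [IsScalarTower R A F]
    (g : K →ₗ[A] F) (h : Function.Injective ((g.restrictScalars R).lTensor S)) :
    Function.Injective (g.lTensor B) := by
  have key : ∀ y : S ⊗[R] K, g.lTensor B ((Algebra.IsPushout.cancelBaseChange R S A B K).symm y) =
      (Algebra.IsPushout.cancelBaseChange R S A B F).symm ((g.restrictScalars R).lTensor S y) := by
    intro y
    induction y using TensorProduct.induction_on with
    | zero => simp
    | tmul s k =>
      rw [Algebra.IsPushout.cancelBaseChange_symm_tmul, LinearMap.lTensor_tmul, LinearMap.lTensor_tmul,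
        Algebra.IsPushout.cancelBaseChange_symm_tmul]
      rfl
    | add x y hx hy => simp only [map_add, hx, hy]
  intro x1 x2 hx
  have h1 := key (Algebra.IsPushout.cancelBaseChange R S A B K x1)
  have h2 := key (Algebra.IsPushout.cancelBaseChange R S A B K x2)
  rw [LinearEquiv.symm_apply_apply] at h1 h2
  rw [h1, h2] at hx
  have := h ((Algebra.IsPushout.cancelBaseChange R S A B F).symm.injective hx)
  exact (Algebra.IsPushout.cancelBaseChange R S A B K).injective this

end General

section Relative

/-- Relative descent of finiteness: a `D'`-module is finite as soon as its base changes to `D` and `C'` are finite. -/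
theorem rel_finite_of_baseChange {B' B A' A : Type u} [CommRing B'] [CommRing B] [CommRing A'] [CommRing A]
    [Algebra B' B] [Algebra B' A'] [Algebra B A] [Algebra A' A] [Algebra B' A] [IsScalarTower B' B A] [IsScalarTower B' A' A]
    (hsq : EtMil.IsFibreSquare B' B A' A)
    (D' D C' C : Type u) [CommRing D'] [CommRing D] [CommRing C'] [CommRing C]
    [Algebra B' D'] [Algebra B D] [Algebra A' C'] [Algebra A C]
    [Algebra D' D] [Algebra B' D] [IsScalarTower B' B D] [IsScalarTower B' D' D] [Algebra.IsPushout B' B D' D]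
    [Algebra D' C'] [Algebra B' C'] [IsScalarTower B' A' C'] [IsScalarTower B' D' C'] [Algebra.IsPushout B' A' D' C']
    [Algebra D' C] [Algebra B' C] [IsScalarTower B' A C] [IsScalarTower B' D' C] [Algebra.IsPushout B' A D' C]
    [Algebra D C] [IsScalarTower D' D C] [Algebra B C] [IsScalarTower B A C] [IsScalarTower B D C]
    [Algebra C' C] [IsScalarTower D' C' C] [Algebra A' C] [IsScalarTower A' A C] [IsScalarTower A' C' C]
    (L' : Type u) [AddCommGroup L'] [Module D' L']
    [Module.Finite D (D ⊗[D'] L')] [Module.Finite C' (C' ⊗[D'] L')] : Module.Finite D' L' := by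
  obtain ⟨N1, hN1, h1⟩ := exists_fg_forall_one_tmul_mkQ_eq_zero D' D L'
  obtain ⟨N2, hN2, h2⟩ := exists_fg_forall_one_tmul_mkQ_eq_zero D' C' L'
  have hfg : (N1 ⊔ N2).FG := hN1.sup hN2
  have htop : N1 ⊔ N2 = ⊤ := by
    rw [eq_top_iff]
    intro l _
    letI : Module B' (L' ⧸ (N1 ⊔ N2)) := Module.compHom (L' ⧸ (N1 ⊔ N2)) (algebraMap B' D')
    haveI : IsScalarTower B' D' (L' ⧸ (N1 ⊔ N2)) := IsScalarTower.of_algebraMap_smul (fun r x => rfl)
    have hA : ∀ q : L' ⧸ (N1 ⊔ N2), ((1 : A') ⊗ₜ[B'] q : A' ⊗[B'] (L' ⧸ (N1 ⊔ N2))) = 0 := by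
      intro q
      obtain ⟨m, rfl⟩ := (N1 ⊔ N2).mkQ_surjective q
      have := Algebra.IsPushout.cancelBaseChange_tmul B' A' D' C' (L' ⧸ (N1 ⊔ N2)) ((N1 ⊔ N2).mkQ m)
      rw [← this, h2 _ le_sup_right m, map_zero]
    have hB : ((1 : B) ⊗ₜ[B'] ((N1 ⊔ N2).mkQ l) : B ⊗[B'] (L' ⧸ (N1 ⊔ N2))) = 0 := by
      have := Algebra.IsPushout.cancelBaseChange_tmul B' B D' D (L' ⧸ (N1 ⊔ N2)) ((N1 ⊔ N2).mkQ l)
      rw [← this, h1 _ le_sup_left l, map_zero]
    have hq : (N1 ⊔ N2).mkQ l = 0 := fs_eq_zero_of_forall hsq hA _ hB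
    rwa [Submodule.mkQ_apply, Submodule.Quotient.mk_eq_zero] at hq
  rw [htop] at hfg
  exact ⟨hfg⟩

/-- In the relative situation, the glued module of finitely presented modules, flat over the base square, is finitely
presented. -/
theorem rel_glue_finitePresentation {B' B A' A : Type u} [CommRing B'] [CommRing B] [CommRing A'] [CommRing A]
    [Algebra B' B] [Algebra B' A'] [Algebra B A] [Algebra A' A] [Algebra B' A] [IsScalarTower B' B A] [IsScalarTower B' A' A]
    (hsq : EtMil.IsFibreSquare B' B A' A)
    (D' D C' C : Type u) [CommRing D'] [CommRing D] [CommRing C'] [CommRing C]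
    [Algebra B' D'] [Algebra B D] [Algebra A' C'] [Algebra A C]
    [Algebra D' D] [Algebra B' D] [IsScalarTower B' B D] [IsScalarTower B' D' D] [Algebra.IsPushout B' B D' D]
    [Algebra D' C'] [Algebra B' C'] [IsScalarTower B' A' C'] [IsScalarTower B' D' C'] [Algebra.IsPushout B' A' D' C']
    [Algebra D' C] [Algebra B' C] [IsScalarTower B' A C] [IsScalarTower B' D' C] [Algebra.IsPushout B' A D' C]
    [Algebra D C] [IsScalarTower D' D C] [Algebra B C] [IsScalarTower B A C] [IsScalarTower B D C]
    [Algebra C' C] [IsScalarTower D' C' C] [Algebra A' C] [IsScalarTower A' A C] [IsScalarTower A' C' C]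
    {N M' : Type u} [AddCommGroup N] [Module D N] [Module D' N] [IsScalarTower D' D N]
    [AddCommGroup M'] [Module C' M'] [Module D' M'] [IsScalarTower D' C' M'] (φ : C ⊗[D] N ≃ₗ[C] C ⊗[C'] M')
    [Module B N] [IsScalarTower B D N] [Module A' M'] [IsScalarTower A' C' M']
    [Module.FinitePresentation D N] [Module.Flat B N] [Module.FinitePresentation C' M'] [Module.Flat A' M'] :
    Module.FinitePresentation D' ↥(EtMil.glue D' φ) := by
  have hW := weakSq_of_pushout hsq D' D C' C
  have : Module.Finite D' ↥(EtMil.glue D' φ) := weak_glue_finite φ hW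
  -- the two base changes of the glued module
  let e3 : D ⊗[D'] (EtMil.glue D' φ) ≃ₗ[D] N := LinearEquiv.ofBijective _ (glue_fst_bijective' φ hW)
  let e4 : C' ⊗[D'] (EtMil.glue D' φ) ≃ₗ[C'] M' := LinearEquiv.ofBijective _ (glue_snd_bijective' φ hW)
  have : Module.FinitePresentation D (D ⊗[D'] (EtMil.glue D' φ)) := Module.FinitePresentation.of_equiv e3.symm
  have : Module.FinitePresentation C' (C' ⊗[D'] (EtMil.glue D' φ)) := Module.FinitePresentation.of_equiv e4.symm
  -- `B'`-module structure
  letI : Module B' ↥(EtMil.glue D' φ) := Module.compHom _ (algebraMap B' D')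
  have : IsScalarTower B' D' ↥(EtMil.glue D' φ) := IsScalarTower.of_algebraMap_smul (fun r x => rfl)
  have : Module.Flat B (B ⊗[B'] ↥(EtMil.glue D' φ)) :=
    Module.Flat.of_linearEquiv
      ((Algebra.IsPushout.cancelBaseChange B' B D' D ↥(EtMil.glue D' φ)).symm ≪≫ₗ e3.restrictScalars B)
  have : Module.Flat A' (A' ⊗[B'] ↥(EtMil.glue D' φ)) :=
    Module.Flat.of_linearEquiv
      ((Algebra.IsPushout.cancelBaseChange B' A' D' C' ↥(EtMil.glue D' φ)).symm ≪≫ₗ e4.restrictScalars A')
  have : Module.Flat B' ↥(EtMil.glue D' φ) := fs_flat hsq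
  -- a presentation
  obtain ⟨n, π, hπ⟩ := Module.Finite.exists_fin' D' ↥(EtMil.glue D' φ)
  have hexB : Function.Exact ((LinearMap.ker π).subtype.restrictScalars B') (π.restrictScalars B') :=
    LinearMap.exact_subtype_ker_map π
  have hinjB : Function.Injective (((LinearMap.ker π).subtype.restrictScalars B').lTensor B) :=
    LinearMap.lTensor_injective_of_exact_of_flat (π.restrictScalars B') hπ
      ((LinearMap.ker π).subtype.restrictScalars B') (LinearMap.ker π).subtype_injective hexB B
  have hinjA : Function.Injective (((LinearMap.ker π).subtype.restrictScalars B').lTensor A') :=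
    LinearMap.lTensor_injective_of_exact_of_flat (π.restrictScalars B') hπ
      ((LinearMap.ker π).subtype.restrictScalars B') (LinearMap.ker π).subtype_injective hexB A'
  have hinjD : Function.Injective ((LinearMap.ker π).subtype.lTensor D) :=
    lTensor_injective_of_pushout B' B D' D _ hinjB
  have hinjC : Function.Injective ((LinearMap.ker π).subtype.lTensor C') :=
    lTensor_injective_of_pushout B' A' D' C' _ hinjA
  have : Module.Finite D (D ⊗[D'] (LinearMap.ker π)) := finite_baseChange_ker_of_injective π hπ hinjD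
  have : Module.Finite C' (C' ⊗[D'] (LinearMap.ker π)) := finite_baseChange_ker_of_injective π hπ hinjC
  have hK : Module.Finite D' (LinearMap.ker π) := rel_finite_of_baseChange hsq D' D C' C _
  exact Module.finitePresentation_of_surjective π hπ (Module.Finite.iff_fg.mp hK)

end Relative

end Groth.Agent.R2.H30.MilnorRel
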