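import Mathlib
import Groth.Agent.Lib.Helper1Sky2
import Groth.Agent.Lib.Helper21FlatCalc
import Groth.Agent.R2.H30FlatStalkTop
set_option backward.isDefEq.respectTransparency.types false

/-!
# Skyscraper modules on a ringed space, stalk ⊣ skyscraper, stalk of a pullback (helper30)

Generalises helper1's `Helper1Sky2/3/4` from schemes to ringed spaces `(X, O)` with
`O : Sheaf (Opens.grothendieckTopology X) CommRingCat`.
-/

set_option autoImplicit false
universe u
open CategoryTheory CategoryTheory.Limits TopCat TopologicalSpace Opposite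

namespace Groth.Agent.R2.H30.RSSky

set_option linter.style.haveILetI false

open Groth.Agent.Lib.Helper1.Sky Groth.Agent.Lib.Helper1.StalkTensor
open Groth.Agent.R2.H30.FlatStalkTop

section one

variable {X : TopCat.{u}} (O : Sheaf (Opens.grothendieckTopology X) CommRingCat.{u}) (x : X)

/-- the stalk of the structure sheaf, as a ring -/
abbrev Ox : Type u := Rx (X := X) O.obj x

/-- the skyscraper `O`-module at `x` with value `N` -/
noncomputable def skyMod (N : ModuleCat.{u} (Ox O x)) : ModSite.Mod O where
  val := skyP (X := X) O.obj x N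
  isSheaf := isSheaf_skyP (X := X) O.obj x N

/-- the skyscraper functor -/
noncomputable def skyFun : ModuleCat.{u} (Ox O x) ⥤ ModSite.Mod O where
  obj N := skyMod O x N
  map f := ⟨skyMap f.hom⟩
  map_id N := by
    ext U s
    rfl
  map_comp f g := by
    ext U s
    rfl

lemma sm_id' {R : X.Presheaf CommRingCat.{u}} (P : PMod R) (a : St P x) :
    sm (𝟙 P) x a = a := by
  obtain ⟨U, hU, p, rfl⟩ := exists_gm_eq a
  rw [sm_gm]
  rfl

/-- the stalk functor -/
noncomputable def stalkFun : ModSite.Mod O ⥤ ModuleCat.{u} (Ox O x) where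
  obj M := ModuleCat.of (Ox O x) (St (toPM O M) x)
  map φ := ModuleCat.ofHom (smₗ (toPMMap O φ) x)
  map_id M := by
    ext a
    exact sm_id' x (toPM O M) a
  map_comp f g := by
    ext a
    exact sm_comp' (toPMMap O f) (toPMMap O g) x a

/-- the adjunction between stalk and skyscraper -/
noncomputable def stalkSkyAdj : stalkFun O x ⊣ skyFun O x :=
  Adjunction.mkOfHomEquiv
    { homEquiv := fun M N =>
        { toFun := fun g => ⟨ofStalk (R := O.obj) (x := x) (N := N) (P := toPM O M) g.hom⟩
          invFun := fun φ => ModuleCat.ofHom (toStalk (R := O.obj) (x := x) (N := N) (P := toPM O M) φ.val)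
          left_inv := fun g => by
            ext a
            exact LinearMap.congr_fun ((homEquiv (R := O.obj) (x := x) (P := toPM O M) (N := N)).right_inv g.hom) a
          right_inv := fun φ => by
            apply SheafOfModules.hom_ext
            exact (homEquiv (R := O.obj) (x := x) (P := toPM O M) (N := N)).left_inv φ.val }
      homEquiv_naturality_left_symm := fun {M' M N} f g => by
        ext a
        exact LinearMap.congr_fun (toStalk_comp_left (toPMMap O f) g.val) a
      homEquiv_naturality_right := fun {M N N'} f g => by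
        apply SheafOfModules.hom_ext
        apply (homEquiv (R := O.obj) (x := x) (P := toPM O M) (N := N')).injective
        change toStalk (ofStalk (f ≫ g).hom) = toStalk (ofStalk f.hom ≫ skyMap g.hom)
        rw [toStalk_comp_right]
        have h1 := (homEquiv (R := O.obj) (x := x) (P := toPM O M) (N := N')).right_inv (f ≫ g).hom
        have h2 := (homEquiv (R := O.obj) (x := x) (P := toPM O M) (N := N)).right_inv f.hom
        change toStalk (ofStalk (f ≫ g).hom) = _ at h1
        change toStalk (ofStalk f.hom) = _ at h2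
        rw [h1, h2]
        rfl }

instance : (stalkFun O x).IsLeftAdjoint := (stalkSkyAdj O x).isLeftAdjoint

attribute [local instance] preservesBinaryBiproducts_of_preservesBinaryCoproducts in
instance additive_stalkFun : (stalkFun O x).Additive :=
  Functor.additive_of_preservesBinaryBiproducts _

lemma stalkFun_map_apply {M N : ModSite.Mod O} (φ : M ⟶ N) (a : St (toPM O M) x) :
    ((stalkFun O x).map φ).hom a = sm (toPMMap O φ) x a := rfl

end one

section two

variable {X Y : TopCat.{u}} (f : X ⟶ Y)
  (O_X : Sheaf (Opens.grothendieckTopology X) CommRingCat.{u})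
  (O_Y : Sheaf (Opens.grothendieckTopology Y) CommRingCat.{u})
  (c : O_Y ⟶ ((TopologicalSpace.Opens.map f).sheafPushforwardContinuous CommRingCat.{u}
      (Opens.grothendieckTopology Y) (Opens.grothendieckTopology X)).obj O_X)

/-- the morphism of ringed sites attached to a morphism of ringed spaces -/
noncomputable abbrev rm : ModSite.RMor O_X O_Y := ModSite.RMor.ofFlat (TopologicalSpace.Opens.map f) c

/-- the ring map on stalks -/
noncomputable def stalkMapR (x : X) :
    TopCat.Presheaf.stalk (C := CommRingCat.{u}) (X := Y) O_Y.obj (f x) ⟶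
      TopCat.Presheaf.stalk (C := CommRingCat.{u}) (X := X) O_X.obj x :=
  (TopCat.Presheaf.stalkFunctor CommRingCat.{u} (f x)).map
      (show O_Y.obj ⟶ (TopCat.Presheaf.pushforward CommRingCat.{u} f).obj O_X.obj from c.hom) ≫
    TopCat.Presheaf.stalkPushforward CommRingCat.{u} f O_X.obj x

/-- the ring map on sections -/
noncomputable def cApp (V : Opens Y) :
    O_Y.obj.obj (op V) →+* O_X.obj.obj (op ((Opens.map f).obj V)) := (c.hom.app (op V)).hom

lemma stalkMapR_gr (x : X) (V : Opens Y) (hy : f x ∈ V) (r : O_Y.obj.obj (op V)) :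
    (stalkMapR f O_X O_Y c x).hom (gr (X := Y) O_Y.obj (f x) V hy r) =
      gr (X := X) O_X.obj x ((Opens.map f).obj V) hy (cApp f O_X O_Y c V r) := by
  unfold stalkMapR gr cApp
  have h1 := TopCat.Presheaf.stalkFunctor_map_germ (C := CommRingCat.{u}) V (f x) hy
    (show O_Y.obj ⟶ (TopCat.Presheaf.pushforward CommRingCat.{u} f).obj O_X.obj from c.hom)
  have h2 := TopCat.Presheaf.stalkPushforward_germ CommRingCat.{u} f O_X.obj V x hy
  have h3 := ConcreteCategory.congr_hom h1 r
  have h4 := ConcreteCategory.congr_hom h2 ((c.hom.app (op V)).hom r)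
  exact (congrArg (TopCat.Presheaf.stalkPushforward CommRingCat.{u} f O_X.obj x).hom h3).trans h4

/-- restriction of scalars along the stalk map -/
noncomputable abbrev resStalk (x : X) : ModuleCat.{u} (Ox O_X x) ⥤ ModuleCat.{u} (Ox O_Y (f x)) :=
  ModuleCat.restrictScalars (stalkMapR f O_X O_Y c x).hom

variable (x : X) (N : ModuleCat.{u} (Ox O_X x))

example (V : Opens Y) : ((((rm f O_X O_Y c).push).obj (skyMod O_X x N)).val.obj (op V) : Type u) =
  SkyT (X := X) O_X.obj x N ((Opens.map f).obj V) := rfl

example (V : Opens Y) : ((skyMod O_Y (f x) ((resStalk f O_X O_Y c x).obj N)).val.obj (op V) : Type u) =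
  SkyT (X := Y) O_Y.obj (f x) N V := rfl

/-- the comparison on sections -/
def pushSkyEquiv (V : Opens Y) :
    SkyT (X := X) O_X.obj x N ((Opens.map f).obj V) ≃+
      SkyT (X := Y) O_Y.obj (f x) ((resStalk f O_X O_Y c x).obj N) V where
  toFun s := SkyT.mk fun hy => SkyT.ev (X := X) O_X.obj ((Opens.map f).obj V) s hy
  invFun t := SkyT.mk fun hx => SkyT.ev (X := Y) O_Y.obj V t hx
  left_inv _ := rfl
  right_inv _ := rfl
  map_add' _ _ := rfl

lemma pushSkyEquiv_smul (V : Opens Y) (r : O_Y.obj.obj (op V))
    (s : SkyT (X := X) O_X.obj x N ((Opens.map f).obj V)) :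
    pushSkyEquiv f O_X O_Y c x N V (cApp f O_X O_Y c V r • s) =
      r • pushSkyEquiv f O_X O_Y c x N V s := by
  apply SkyT.ext (R := O_Y.obj) (U := V)
  intro hy
  rw [SkyT.smul_ev]
  change SkyT.ev (X := X) O_X.obj ((Opens.map f).obj V) (cApp f O_X O_Y c V r • s) hy = _
  rw [SkyT.smul_ev]
  change _ = (stalkMapR f O_X O_Y c x).hom (gr (X := Y) O_Y.obj (f x) V hy r) •
    SkyT.ev (X := X) O_X.obj ((Opens.map f).obj V) s hy
  congr 1
  exact (stalkMapR_gr f O_X O_Y c x V hy r).symm

/-- the comparison on sections, as a linear equivalence -/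
noncomputable def pushSkyLin (V : (Opens Y)ᵒᵖ) :
    ↑((((rm f O_X O_Y c).push).obj (skyMod O_X x N)).val.obj V) ≃ₗ[↑((ModSite.ringSh O_Y).obj.obj V)]
      ↑((skyMod O_Y (f x) ((resStalk f O_X O_Y c x).obj N)).val.obj V) :=
  { pushSkyEquiv f O_X O_Y c x N V.unop with
    map_smul' := fun r s => pushSkyEquiv_smul f O_X O_Y c x N V.unop r s }

/-- the pushforward of a skyscraper is a skyscraper, on underlying presheaves of modules -/
noncomputable def pushSkyIsoP :
    (((rm f O_X O_Y c).push).obj (skyMod O_X x N)).val ≅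
      (skyMod O_Y (f x) ((resStalk f O_X O_Y c x).obj N)).val :=
  PresheafOfModules.isoMk (fun V => (pushSkyLin f O_X O_Y c x N V).toModuleIso)
    (fun V W i => by
      ext s
      rfl)

/-- the pushforward of a skyscraper is a skyscraper -/
noncomputable def pushSkyIso :
    ((rm f O_X O_Y c).push).obj (skyMod O_X x N) ≅
      skyMod O_Y (f x) ((resStalk f O_X O_Y c x).obj N) where
  hom := ⟨(pushSkyIsoP f O_X O_Y c x N).hom⟩
  inv := ⟨(pushSkyIsoP f O_X O_Y c x N).inv⟩
  hom_inv_id := by
    apply SheafOfModules.hom_ext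
    exact (pushSkyIsoP f O_X O_Y c x N).hom_inv_id
  inv_hom_id := by
    apply SheafOfModules.hom_ext
    exact (pushSkyIsoP f O_X O_Y c x N).inv_hom_id

/-- the pushforward of a skyscraper is a skyscraper, naturally -/
noncomputable def pushSkyNatIso :
    skyFun O_X x ⋙ (rm f O_X O_Y c).push ≅ resStalk f O_X O_Y c x ⋙ skyFun O_Y (f x) :=
  NatIso.ofComponents (fun N => pushSkyIso f O_X O_Y c x N) (fun {N N'} g => by
    apply SheafOfModules.hom_ext
    ext V s
    rfl)

/-- the stalk of a pullback: `(f^* M)_x ≅ O_{X,x} ⊗_{O_{Y,f x}} M_{f x}`, naturally in `M` -/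
noncomputable def stalkPullbackIso :
    (rm f O_X O_Y c).pull ⋙ stalkFun O_X x ≅
      stalkFun O_Y (f x) ⋙ ModuleCat.extendScalars.{u, u, u} (stalkMapR f O_X O_Y c x).hom :=
  Adjunction.leftAdjointUniq
    ((((rm f O_X O_Y c).adj).comp (stalkSkyAdj O_X x)).ofNatIsoRight
      (pushSkyNatIso f O_X O_Y c x))
    ((stalkSkyAdj O_Y (f x)).comp
      (ModuleCat.extendRestrictScalarsAdj.{u, u, u} (stalkMapR f O_X O_Y c x).hom))

/-- pullback along a morphism with flat stalk maps preserves monomorphisms -/
theorem mono_pull_map (hflat : ∀ x : X, (stalkMapR f O_X O_Y c x).hom.Flat)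
    {M M' : ModSite.Mod O_Y} (φ : M ⟶ M') [Mono φ] :
    Mono ((rm f O_X O_Y c).pull.map φ) := by
  apply FlatStalkTop.mono_of_sm_injective
  intro x
  have h1 : Function.Injective (smₗ (toPMMap O_Y φ) (f x)) :=
    FlatStalkTop.sm_injective_of_mono φ (f x)
  letI : Algebra (Ox O_Y (f x)) (Ox O_X x) := (stalkMapR f O_X O_Y c x).hom.toAlgebra
  haveI : Module.Flat (Ox O_Y (f x)) (Ox O_X x) := hflat x
  have hinj : Function.Injective ((ModuleCat.extendScalars.{u, u, u}
      (stalkMapR f O_X O_Y c x).hom).map ((stalkFun O_Y (f x)).map φ)).hom :=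
    Module.Flat.lTensor_preserves_injective_linearMap (M := Ox O_X x) _ h1
  have hnat := (stalkPullbackIso f O_X O_Y c x).hom.naturality φ
  intro a b hab
  have e1 := (ConcreteCategory.bijective_of_isIso
    ((stalkPullbackIso f O_X O_Y c x).hom.app M)).1
  apply e1
  apply hinj
  have h4 := ConcreteCategory.congr_hom hnat a
  have h5 := ConcreteCategory.congr_hom hnat b
  simp only [Functor.comp_map, ConcreteCategory.comp_apply] at h4 h5
  rw [← h4, ← h5]
  congr 1

instance : (rm f O_X O_Y c).pull.IsLeftAdjoint := (rm f O_X O_Y c).adj.isLeftAdjoint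

/-- a morphism of ringed spaces with flat stalk maps is flat -/
theorem isFlat_of_stalkMapR_flat (hflat : ∀ x : X, (stalkMapR f O_X O_Y c x).hom.Flat) :
    ModSite.RMor.IsFlat (rm f O_X O_Y c) := by
  have : (rm f O_X O_Y c).pull.Additive := (rm f O_X O_Y c).adj.left_adjoint_additive
  exact Groth.Agent.Lib.Helper21.FlatCalc.preservesFiniteLimits_of_mono (rm f O_X O_Y c).pull
    (fun φ hφ => mono_pull_map f O_X O_Y c hflat φ)

end two

end Groth.Agent.R2.H30.RSSky
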