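import Mathlib
import Groth.Prelude.Def_ModSite2
import Groth.Agent.R2.H30RSDict

/-!
# helper30: the subsheaf of sections locally spanned by given sections over an open

For `F : Mod O` on a ringed space, `U` open and `t : I → F(U)`, the subsheaf `spanSh F U t ⊆ F` of
sections which, near every point of `U`, are linear combinations of the `t i`. It is all of `F`
iff the `t i` locally span `F|_U` (`locSpan_of_epi_spanι`).
-/

set_option autoImplicit false
set_option linter.style.haveILetI false
set_option linter.unusedVariables false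
universe u
open CategoryTheory CategoryTheory.Limits Opposite TopologicalSpace

namespace Groth.Agent.R2.H30.RSSpanSub

open Groth.Agent.R2.H30.GenSite Groth.Agent.R2.H30.RSDict

variable {X : TopCat.{u}} {O : Sheaf (Opens.grothendieckTopology X) CommRingCat.{u}}
  (F : ModSite.Mod O) (U : Opens X) {I : Type*} (t : I → F.val.obj (op U))

/-- `τ ∈ F(W)` is, near every point of `W ∩ U`, a linear combination of the `t i` -/
def InSpanNear (W : Opens X) (τ : F.val.obj (op W)) : Prop :=
  ∀ x : X, x ∈ W → x ∈ U → ∃ (W' : Opens X) (h1 : W' ≤ W) (h2 : W' ≤ U), x ∈ W' ∧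
    res F h1 τ ∈ Submodule.span (Γr O W') (Set.range fun i => res F h2 (t i))

variable {F U t}

theorem span_res_le {W' W'' : Opens X} (h2 : W' ≤ U) (h : W'' ≤ W') {τ : F.val.obj (op W')}
    (hτ : τ ∈ Submodule.span (Γr O W') (Set.range fun i => res F h2 (t i))) :
    res F h τ ∈ Submodule.span (Γr O W'') (Set.range fun i => res F (h.trans h2) (t i)) := by
  induction hτ using Submodule.span_induction with
  | mem y hy =>
    obtain ⟨i, rfl⟩ := hy
    exact Submodule.subset_span ⟨i, (res_res F h2 h (t i)).symm⟩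
  | zero => rw [res_zero]; exact Submodule.zero_mem _
  | add a b _ _ ha hb => rw [res_add]; exact Submodule.add_mem _ ha hb
  | smul a y _ hy => rw [res_smul]; exact Submodule.smul_mem _ _ hy

theorem InSpanNear.res {W W₂ : Opens X} {τ : F.val.obj (op W)} (hτ : InSpanNear F U t W τ)
    (h : W₂ ≤ W) : InSpanNear F U t W₂ (res F h τ) := by
  intro x hx hxU
  obtain ⟨W', h1, h2, hxW', hmem⟩ := hτ x (h hx) hxU
  refine ⟨W' ⊓ W₂, inf_le_right, inf_le_left.trans h2, ⟨hxW', hx⟩, ?_⟩
  have := span_res_le (F := F) (t := t) h2 (inf_le_left : W' ⊓ W₂ ≤ W') hmem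
  rw [res_res] at this
  rw [res_res]
  exact this

variable (F U t)

/-- the family of submodules of sections locally (near points of `U`) spanned by the `t i` -/
def spanSub : F.val.Submodule where
  obj W :=
    { carrier := {τ | InSpanNear F U t W.unop τ}
      add_mem' := by
        intro a b ha hb x hx hxU
        obtain ⟨W₁, h1, h2, hx1, hm1⟩ := ha x hx hxU
        obtain ⟨W₂, h1', h2', hx2, hm2⟩ := hb x hx hxU
        refine ⟨W₁ ⊓ W₂, inf_le_left.trans h1, inf_le_left.trans h2, ⟨hx1, hx2⟩, ?_⟩
        have e1 := span_res_le (F := F) (t := t) h2 (inf_le_left : W₁ ⊓ W₂ ≤ W₁) hm1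
        have e2 := span_res_le (F := F) (t := t) h2' (inf_le_right : W₁ ⊓ W₂ ≤ W₂) hm2
        rw [res_res] at e1 e2
        rw [res_add]
        exact Submodule.add_mem _ e1 e2
      zero_mem' := by
        intro x hx hxU
        refine ⟨W.unop ⊓ U, inf_le_left, inf_le_right, ⟨hx, hxU⟩, ?_⟩
        rw [res_zero]
        exact Submodule.zero_mem _
      smul_mem' := by
        intro c a ha x hx hxU
        obtain ⟨W₁, h1, h2, hx1, hm1⟩ := ha x hx hxU
        refine ⟨W₁, h1, h2, hx1, ?_⟩
        rw [res_smul]
        exact Submodule.smul_mem _ _ hm1 }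
  map {W W₂} f := by
    intro τ hτ
    exact InSpanNear.res hτ f.unop.le

theorem mem_spanSub_iff (W : (Opens X)ᵒᵖ) (τ : F.val.obj W) :
    τ ∈ (spanSub F U t).obj W ↔ InSpanNear F U t W.unop τ := Iff.rfl

/-- locality -/
theorem inSpanNear_of_locally {W : Opens X} (τ : F.val.obj (op W))
    (h : ∀ x : X, x ∈ W → ∃ (W₁ : Opens X) (h1 : W₁ ≤ W), x ∈ W₁ ∧ InSpanNear F U t W₁ (res F h1 τ)) :
    InSpanNear F U t W τ := by
  intro x hx hxU
  obtain ⟨W₁, h1, hx1, hτ⟩ := h x hx
  obtain ⟨W', h1', h2', hx', hm⟩ := hτ x hx1 hxU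
  refine ⟨W', h1'.trans h1, h2', hx', ?_⟩
  rw [res_res] at hm
  exact hm

/-- `spanSub` as a subfunctor of the underlying presheaf of types -/
noncomputable def subF : Subfunctor (F.val.presheaf ⋙ forget AddCommGrpCat.{u}) where
  obj W := {τ | InSpanNear F U t W.unop τ}
  map {W W₂} f := by
    intro τ hτ
    exact (spanSub F U t).map f hτ

theorem isSheaf_subF : Presieve.IsSheaf (Opens.grothendieckTopology X) (subF F U t).toFunctor := by
  have hM : Presieve.IsSheaf (Opens.grothendieckTopology X)
      (F.val.presheaf ⋙ forget AddCommGrpCat.{u}) :=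
    (isSheaf_iff_isSheaf_of_type _ _).1
      ((Presheaf.isSheaf_iff_isSheaf_forget _ F.val.presheaf (forget AddCommGrpCat.{u})).1 F.isSheaf)
  rw [Subfunctor.isSheaf_iff _ hM]
  intro W τ hτ
  apply inSpanNear_of_locally
  intro x hx
  obtain ⟨W₁, g, hg, hx1⟩ := hτ x hx
  exact ⟨W₁, g.le, hx1, hg⟩

/-- comparison of the underlying presheaves of types -/
noncomputable def subFIso : (spanSub F U t).toPresheafOfModules.presheaf ⋙ forget AddCommGrpCat.{u} ≅
    (subF F U t).toFunctor :=
  NatIso.ofComponents (fun W => Iso.refl _) (fun {W W₂} f => by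
    ext τ
    rfl)

theorem isSheaf_spanSub :
    Presheaf.IsSheaf (Opens.grothendieckTopology X) (spanSub F U t).toPresheafOfModules.presheaf := by
  rw [Presheaf.isSheaf_iff_isSheaf_forget _ _ (forget AddCommGrpCat.{u}), isSheaf_iff_isSheaf_of_type]
  exact Presieve.isSheaf_iso _ (subFIso F U t).symm (isSheaf_subF F U t)

/-- the subsheaf of modules of sections locally spanned by the `t i` -/
noncomputable def spanSh : ModSite.Mod O where
  val := (spanSub F U t).toPresheafOfModules
  isSheaf := isSheaf_spanSub F U t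

/-- the inclusion of `spanSh` -/
noncomputable def spanι : spanSh F U t ⟶ F := ⟨(spanSub F U t).ι⟩

instance mono_spanι : Mono (spanι F U t) :=
  (SheafOfModules.forget _).mono_of_mono_map (inferInstanceAs (Mono (spanSub F U t).ι))

/-- if the inclusion of `spanSh` is an epimorphism, the `t i` locally span `F|_U` -/
theorem locSpan_of_epi_spanι [Epi (spanι F U t)] : LocSpan F U t := by
  haveI : IsIso (spanι F U t) := isIso_of_mono_of_epi _
  intro V hV τ y hy
  haveI : IsIso ((SheafOfModules.forget _).map (spanι F U t)) := inferInstance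
  haveI : IsIso ((PresheafOfModules.evaluation _ (op V)).map
      ((SheafOfModules.forget _).map (spanι F U t))) := inferInstance
  have hsurj : Function.Surjective ((spanι F U t).val.app (op V)).hom :=
    ((ModuleCat.epi_iff_surjective _).1 (inferInstanceAs (Epi ((PresheafOfModules.evaluation _ (op V)).map
      ((SheafOfModules.forget _).map (spanι F U t))))))
  obtain ⟨τ', rfl⟩ := hsurj τ
  obtain ⟨W', h1, h2, hyW', hm⟩ := τ'.2 y hy (hV hy)
  exact ⟨W', h1, hyW', hm⟩

end Groth.Agent.R2.H30.RSSpanSub
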