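import Mathlib
import Groth.Prelude.Def_ModSite2
import Groth.Agent.R2.H30RSSpanSub
import Groth.Agent.R2.H30RSSky

/-!
# helper30: pullback of modules along a morphism of ringed spaces preserves local generation

`locSpan_pull`: if sections `s i ∈ G(V)` locally span `G|_V`, then the sections `η(s i)` of `f^*G`
over `f⁻¹V` locally span `(f^*G)|_{f⁻¹V}` (`η` the unit `G ⟶ f_* f^* G`).
-/

set_option autoImplicit false
set_option linter.style.haveILetI false
set_option linter.unusedVariables false
universe u
open CategoryTheory CategoryTheory.Limits Opposite TopologicalSpace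

namespace Groth.Agent.R2.H30.RSPullGen

open Groth.Agent.R2.H30.GenSite Groth.Agent.R2.H30.RSDict Groth.Agent.R2.H30.RSSpanSub
open Groth.Agent.R2.H30.RSSky

variable {X Y : TopCat.{u}} (f : X ⟶ Y)
  (O_X : Sheaf (Opens.grothendieckTopology X) CommRingCat.{u})
  (O_Y : Sheaf (Opens.grothendieckTopology Y) CommRingCat.{u})
  (c : O_Y ⟶ ((TopologicalSpace.Opens.map f).sheafPushforwardContinuous CommRingCat.{u}
      (Opens.grothendieckTopology Y) (Opens.grothendieckTopology X)).obj O_X)
  (G : ModSite.Mod O_Y)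

/-- the pullback module -/
noncomputable abbrev pullG : ModSite.Mod O_X := (rm f O_X O_Y c).pull.obj G

/-- the unit `G ⟶ f_* f^* G` -/
noncomputable abbrev η : G ⟶ (rm f O_X O_Y c).push.obj (pullG f O_X O_Y c G) :=
  (rm f O_X O_Y c).adj.unit.app G

/-- preimage of an open -/
abbrev pre (V : Opens Y) : Opens X := (Opens.map f).obj V

/-- the ring map on sections, with `Γr` types -/
noncomputable def cR (V : Opens Y) : Γr O_Y V →+* Γr O_X (pre f V) :=
  ((rm f O_X O_Y c).sharpR.hom.app (op V)).hom

/-- a morphism to a pushforward, on sections -/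
noncomputable def pushApp {M : ModSite.Mod O_Y} {N : ModSite.Mod O_X}
    (φ : M ⟶ (rm f O_X O_Y c).push.obj N) (V : Opens Y) (s : M.val.obj (op V)) :
    N.val.obj (op (pre f V)) :=
  (φ.val.app (op V)).hom s

section pushApp

variable {M : ModSite.Mod O_Y} {N : ModSite.Mod O_X} (φ : M ⟶ (rm f O_X O_Y c).push.obj N)

theorem pushApp_add (V : Opens Y) (s s' : M.val.obj (op V)) :
    pushApp f O_X O_Y c φ V (s + s') = pushApp f O_X O_Y c φ V s + pushApp f O_X O_Y c φ V s' :=
  map_add _ _ _

theorem pushApp_zero (V : Opens Y) :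
    pushApp f O_X O_Y c φ V (0 : M.val.obj (op V)) = 0 :=
  map_zero _

theorem pushApp_smul (V : Opens Y) (b : Γr O_Y V) (s : M.val.obj (op V)) :
    pushApp f O_X O_Y c φ V (b • s) = cR f O_X O_Y c V b • pushApp f O_X O_Y c φ V s :=
  (φ.val.app (op V)).hom.map_smul b s

theorem pushApp_res {V V' : Opens Y} (h : V' ≤ V) (s : M.val.obj (op V)) :
    pushApp f O_X O_Y c φ V' (res M h s) =
      res N ((Opens.map f).map (homOfLE h)).le (pushApp f O_X O_Y c φ V s) :=
  PresheafOfModules.naturality_apply φ.val (homOfLE h).op s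

theorem pushApp_mem_span {I : Type*} (V : Opens Y) (s : I → M.val.obj (op V)) {τ : M.val.obj (op V)}
    (hτ : τ ∈ Submodule.span (Γr O_Y V) (Set.range s)) :
    pushApp f O_X O_Y c φ V τ ∈ Submodule.span (Γr O_X (pre f V))
      (Set.range fun i => pushApp f O_X O_Y c φ V (s i)) := by
  induction hτ using Submodule.span_induction with
  | mem y hy =>
    obtain ⟨i, rfl⟩ := hy
    exact Submodule.subset_span ⟨i, rfl⟩
  | zero => rw [pushApp_zero]; exact Submodule.zero_mem _
  | add a b _ _ ha hb => rw [pushApp_add]; exact Submodule.add_mem _ ha hb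
  | smul a y _ hy => rw [pushApp_smul]; exact Submodule.smul_mem _ _ hy

end pushApp

section main

variable {I : Type*} (V : Opens Y) (s : I → G.val.obj (op V))

/-- the images of the sections under the unit -/
noncomputable abbrev tsec (i : I) : (pullG f O_X O_Y c G).val.obj (op (pre f V)) :=
  pushApp f O_X O_Y c (η f O_X O_Y c G) V (s i)

variable {V s}

/-- the unit lands in the subsheaf spanned by the images of the generators -/
theorem eta_mem (hs : LocSpan G V s) (V' : Opens Y) (σ : G.val.obj (op V')) :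
    InSpanNear (pullG f O_X O_Y c G) (pre f V) (tsec f O_X O_Y c G V s) (pre f V')
      (pushApp f O_X O_Y c (η f O_X O_Y c G) V' σ) := by
  intro x hx hxU
  obtain ⟨V'', hV'', hy, hm⟩ := hs (V' ⊓ V) inf_le_right (res G inf_le_left σ) (f x) ⟨hx, hxU⟩
  refine ⟨pre f V'', ((Opens.map f).map (homOfLE (hV''.trans inf_le_left))).le,
    ((Opens.map f).map (homOfLE (hV''.trans inf_le_right))).le, hy, ?_⟩
  rw [res_res] at hm
  have h1 := pushApp_mem_span f O_X O_Y c (η f O_X O_Y c G) V''
    (fun i => res G (hV''.trans inf_le_right) (s i)) hm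
  rw [pushApp_res] at h1
  have h2 : (fun i => pushApp f O_X O_Y c (η f O_X O_Y c G) V'' (res G (hV''.trans inf_le_right) (s i))) =
      fun i => res (pullG f O_X O_Y c G) ((Opens.map f).map (homOfLE (hV''.trans inf_le_right))).le
        (tsec f O_X O_Y c G V s i) := by
    funext i
    exact pushApp_res f O_X O_Y c (η f O_X O_Y c G) _ _
  rw [h2] at h1
  exact h1

variable (hs : LocSpan G V s)

/-- the lift of the unit to the subsheaf, on sections -/
noncomputable def liftApp (V' : (Opens Y)ᵒᵖ) :
    G.val.obj V' ⟶ ((rm f O_X O_Y c).push.obj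
      (spanSh (pullG f O_X O_Y c G) (pre f V) (tsec f O_X O_Y c G V s))).val.obj V' :=
  ModuleCat.ofHom (Y := ((rm f O_X O_Y c).push.obj
      (spanSh (pullG f O_X O_Y c G) (pre f V) (tsec f O_X O_Y c G V s))).val.obj V')
    { toFun := fun σ =>
        (⟨pushApp f O_X O_Y c (η f O_X O_Y c G) V'.unop σ, eta_mem f O_X O_Y c G hs V'.unop σ⟩ :
          ↥((spanSub (pullG f O_X O_Y c G) (pre f V) (tsec f O_X O_Y c G V s)).obj
            (op (pre f V'.unop))))
      map_add' := fun σ σ' => Subtype.ext (pushApp_add f O_X O_Y c (η f O_X O_Y c G) V'.unop σ σ')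
      map_smul' := fun b σ => Subtype.ext (pushApp_smul f O_X O_Y c (η f O_X O_Y c G) V'.unop b σ) }

/-- the lift of the unit to the subsheaf -/
noncomputable def lift : G ⟶ (rm f O_X O_Y c).push.obj
    (spanSh (pullG f O_X O_Y c G) (pre f V) (tsec f O_X O_Y c G V s)) :=
  ⟨{ app := fun V' => liftApp f O_X O_Y c G hs V'
     naturality := fun {V₁ V₂} g => by
      ext σ
      apply Subtype.ext
      exact PresheafOfModules.naturality_apply (η f O_X O_Y c G).val g σ }⟩

theorem lift_comp : lift f O_X O_Y c G hs ≫ (rm f O_X O_Y c).push.map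
    (spanι (pullG f O_X O_Y c G) (pre f V) (tsec f O_X O_Y c G V s)) = η f O_X O_Y c G := by
  apply SheafOfModules.hom_ext
  ext V' σ
  rfl

include hs in
/-- **pullback preserves local generation**: the images under the unit of locally spanning sections
locally span the pullback -/
theorem locSpan_pull :
    LocSpan (pullG f O_X O_Y c G) (pre f V) (tsec f O_X O_Y c G V s) := by
  let ι := spanι (pullG f O_X O_Y c G) (pre f V) (tsec f O_X O_Y c G V s)
  let φ := ((rm f O_X O_Y c).adj.homEquiv G _).symm (lift f O_X O_Y c G hs)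
  have h1 : φ ≫ ι = 𝟙 _ := by
    have := (rm f O_X O_Y c).adj.homEquiv_naturality_right_symm (lift f O_X O_Y c G hs) ι
    rw [← this, lift_comp]
    apply ((rm f O_X O_Y c).adj.homEquiv G _).injective
    rw [Equiv.apply_symm_apply, Adjunction.homEquiv_id]
  haveI : IsSplitEpi ι := ⟨⟨φ, h1⟩⟩
  haveI : Epi (spanι (pullG f O_X O_Y c G) (pre f V) (tsec f O_X O_Y c G V s)) :=
    inferInstanceAs (Epi ι)
  exact locSpan_of_epi_spanι _ _ _

end main

end Groth.Agent.R2.H30.RSPullGen
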