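import Mathlib
import Groth.Prelude.Def_ModSite2
import Groth.Agent.Lib.Helper21StalkFlat
import Groth.Agent.R2.H30RSDict

/-!
# helper30: stalks (at the points of the site of opens) of modules on a ringed space, concretely
-/

set_option autoImplicit false
set_option linter.style.haveILetI false
set_option linter.unusedVariables false
universe u
open CategoryTheory CategoryTheory.Limits Opposite TopologicalSpace

namespace Groth.Agent.R2.H30.RSStalk

open Groth.Agent.R2.H30.RSDict Groth.Agent.Lib.Helper21.StalkFlat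

variable {X : TopCat.{u}} {O : Sheaf (Opens.grothendieckTopology X) CommRingCat.{u}}

/-- the point of the site of opens given by `x` -/
abbrev pt (x : X) : GrothendieckTopology.Point.{u} (Opens.grothendieckTopology X) :=
  Opens.pointGrothendieckTopology x

/-- germ at `x` of a section over `U ∋ x` -/
noncomputable abbrev gx (F : ModSite.Mod O) (x : X) (U : Opens X) (hx : x ∈ U) (t : F.val.obj (op U)) :
    ModSite.stalkAb (pt x) F :=
  ModSite.germ (pt x) F U ⟨⟨hx⟩⟩ t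

/-- germ at `x` of a function over `U ∋ x` -/
noncomputable abbrev gr (O : Sheaf (Opens.grothendieckTopology X) CommRingCat.{u}) (x : X) (U : Opens X)
    (hx : x ∈ U) (a : Γr O U) : ModSite.stalkRing (pt x) O :=
  ModSite.germRing (pt x) U ⟨⟨hx⟩⟩ a

section basic

variable (F : ModSite.Mod O) (x : X)

theorem gx_res {U V : Opens X} (h : V ≤ U) (hx : x ∈ V) (t : F.val.obj (op U)) :
    gx F x V hx (res F h t) = gx F x U (h hx) t :=
  germ_w (pt x) F (homOfLE h) ⟨⟨hx⟩⟩ t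

theorem gr_res {U V : Opens X} (h : V ≤ U) (hx : x ∈ V) (a : Γr O U) :
    gr O x V hx (resR O h a) = gr O x U (h hx) a :=
  germRing_w (pt x) (homOfLE h) ⟨⟨hx⟩⟩ a

theorem gx_add {U : Opens X} (hx : x ∈ U) (t t' : F.val.obj (op U)) :
    gx F x U hx (t + t') = gx F x U hx t + gx F x U hx t' :=
  map_add ((pt x).toPresheafFiber U ⟨⟨hx⟩⟩ (ModSite.toAb F).obj).hom t t'

theorem gx_zero {U : Opens X} (hx : x ∈ U) : gx F x U hx 0 = 0 :=
  germ_zero (pt x) F U ⟨⟨hx⟩⟩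

theorem gx_sub {U : Opens X} (hx : x ∈ U) (t t' : F.val.obj (op U)) :
    gx F x U hx (t - t') = gx F x U hx t - gx F x U hx t' :=
  map_sub ((pt x).toPresheafFiber U ⟨⟨hx⟩⟩ (ModSite.toAb F).obj).hom t t'

theorem gx_smul {U : Opens X} (hx : x ∈ U) (a : Γr O U) (t : F.val.obj (op U)) :
    gx F x U hx (a • t) = gr O x U hx a • gx F x U hx t :=
  ModSite.germ_smul (pt x) F U ⟨⟨hx⟩⟩ a t

theorem gx_sum {U : Opens X} (hx : x ∈ U) {ι : Type*} (S : Finset ι) (t : ι → F.val.obj (op U)) :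
    gx F x U hx (∑ i ∈ S, t i) = ∑ i ∈ S, gx F x U hx (t i) :=
  germ_sum (pt x) F U ⟨⟨hx⟩⟩ S t

/-- every element of the stalk is a germ -/
theorem gx_surj (m : ModSite.stalkAb (pt x) F) :
    ∃ (U : Opens X) (hx : x ∈ U) (t : F.val.obj (op U)), gx F x U hx t = m := by
  obtain ⟨U, ⟨⟨hx⟩⟩, t, ht⟩ := (pt x).toPresheafFiber_jointly_surjective (P := (ModSite.toAb F).obj) m
  exact ⟨U, hx, t, ht⟩

theorem gr_surj (r : ModSite.stalkRing (pt x) O) :
    ∃ (U : Opens X) (hx : x ∈ U) (a : Γr O U), gr O x U hx a = r := by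
  obtain ⟨U, ⟨⟨hx⟩⟩, t, ht⟩ := (pt x).toPresheafFiber_jointly_surjective (P := O.obj) r
  exact ⟨U, hx, t, ht⟩

/-- two sections over `U` have the same germ iff they agree on a smaller neighbourhood -/
theorem gx_eq_iff {U : Opens X} (hx : x ∈ U) (t t' : F.val.obj (op U)) :
    gx F x U hx t = gx F x U hx t' ↔
      ∃ (W : Opens X) (hW : W ≤ U), x ∈ W ∧ res F hW t = res F hW t' := by
  refine ((pt x).toPresheafFiber_eq_iff' (P := (ModSite.toAb F).obj) U ⟨⟨hx⟩⟩ t t').trans ?_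
  constructor
  · rintro ⟨W, f, ⟨⟨hxW⟩⟩, -, h⟩
    exact ⟨W, f.le, hxW, h⟩
  · rintro ⟨W, hW, hxW, h⟩
    exact ⟨W, homOfLE hW, ⟨⟨hxW⟩⟩, rfl, h⟩

theorem gx_eq_zero_iff {U : Opens X} (hx : x ∈ U) (t : F.val.obj (op U)) :
    gx F x U hx t = 0 ↔ ∃ (W : Opens X) (hW : W ≤ U), x ∈ W ∧ res F hW t = 0 := by
  rw [← gx_zero F x hx, gx_eq_iff]
  simp only [res_zero]

/-- germs of sections over different neighbourhoods -/
theorem gx_eq_iff' {U U' : Opens X} (hx : x ∈ U) (hx' : x ∈ U') (t : F.val.obj (op U))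
    (t' : F.val.obj (op U')) :
    gx F x U hx t = gx F x U' hx' t' ↔
      ∃ (W : Opens X) (hW : W ≤ U) (hW' : W ≤ U'), x ∈ W ∧ res F hW t = res F hW' t' := by
  rw [← gx_res F x (inf_le_left : U ⊓ U' ≤ U) ⟨hx, hx'⟩ t,
    ← gx_res F x (inf_le_right : U ⊓ U' ≤ U') ⟨hx, hx'⟩ t', gx_eq_iff]
  constructor
  · rintro ⟨W, hW, hxW, h⟩
    refine ⟨W, hW.trans inf_le_left, hW.trans inf_le_right, hxW, ?_⟩
    rw [res_res, res_res] at h
    exact h
  · rintro ⟨W, hW, hW', hxW, h⟩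
    refine ⟨W, le_inf hW hW', hxW, ?_⟩
    rw [res_res, res_res]
    exact h

theorem stalkMap_gx {F G : ModSite.Mod O} (φ : F ⟶ G) (x : X) {U : Opens X} (hx : x ∈ U)
    (t : F.val.obj (op U)) :
    (ModSite.stalkMap (pt x) φ).hom (gx F x U hx t) = gx G x U hx ((φ.val.app (op U)).hom t) :=
  (pt x).toPresheafFiber_naturality_apply ((SheafOfModules.toSheaf (ModSite.ringSh O)).map φ).hom U
    ⟨⟨hx⟩⟩ t

theorem gr_add {U : Opens X} (hx : x ∈ U) (a b : Γr O U) :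
    gr O x U hx (a + b) = gr O x U hx a + gr O x U hx b :=
  map_add ((pt x).toPresheafFiber U ⟨⟨hx⟩⟩ O.obj).hom a b

theorem gr_mul {U : Opens X} (hx : x ∈ U) (a b : Γr O U) :
    gr O x U hx (a * b) = gr O x U hx a * gr O x U hx b :=
  germRing_mul (pt x) U ⟨⟨hx⟩⟩ a b

theorem gr_zero {U : Opens X} (hx : x ∈ U) : gr O x U hx 0 = 0 :=
  germRing_zero (pt x) U ⟨⟨hx⟩⟩

theorem gr_one {U : Opens X} (hx : x ∈ U) : gr O x U hx 1 = 1 :=
  map_one ((pt x).toPresheafFiber U ⟨⟨hx⟩⟩ O.obj).hom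

theorem gr_sum {U : Opens X} (hx : x ∈ U) {ι : Type*} (S : Finset ι) (a : ι → Γr O U) :
    gr O x U hx (∑ i ∈ S, a i) = ∑ i ∈ S, gr O x U hx (a i) :=
  germRing_sum (pt x) U ⟨⟨hx⟩⟩ S a

theorem gr_sub {U : Opens X} (hx : x ∈ U) (a b : Γr O U) :
    gr O x U hx (a - b) = gr O x U hx a - gr O x U hx b :=
  map_sub ((pt x).toPresheafFiber U ⟨⟨hx⟩⟩ O.obj).hom a b

/-- two functions over `U` have the same germ iff they agree on a smaller neighbourhood -/
theorem gr_eq_iff {U : Opens X} (hx : x ∈ U) (a b : Γr O U) :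
    gr O x U hx a = gr O x U hx b ↔
      ∃ (W : Opens X) (hW : W ≤ U), x ∈ W ∧ resR O hW a = resR O hW b := by
  refine ((pt x).toPresheafFiber_eq_iff' (P := O.obj) U ⟨⟨hx⟩⟩ a b).trans ?_
  constructor
  · rintro ⟨W, f, ⟨⟨hxW⟩⟩, -, h⟩
    exact ⟨W, f.le, hxW, h⟩
  · rintro ⟨W, hW, hxW, h⟩
    exact ⟨W, homOfLE hW, ⟨⟨hxW⟩⟩, rfl, h⟩

theorem gr_eq_zero_iff {U : Opens X} (hx : x ∈ U) (a : Γr O U) :
    gr O x U hx a = 0 ↔ ∃ (W : Opens X) (hW : W ≤ U), x ∈ W ∧ resR O hW a = 0 := by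
  rw [← gr_zero (O := O) x hx, gr_eq_iff]
  constructor
  · rintro ⟨W, hW, hxW, h⟩
    exact ⟨W, hW, hxW, h.trans (map_zero ((ModSite.ringSh O).obj.map (homOfLE hW).op).hom)⟩
  · rintro ⟨W, hW, hxW, h⟩
    exact ⟨W, hW, hxW, h.trans (map_zero ((ModSite.ringSh O).obj.map (homOfLE hW).op).hom).symm⟩

end basic

section ext

/-- sections of a module which agree locally are equal -/
theorem res_ext (F : ModSite.Mod O) {V : Opens X} (t t' : F.val.obj (op V))
    (h : ∀ y ∈ V, ∃ (W : Opens X) (hW : W ≤ V), y ∈ W ∧ res F hW t = res F hW t') : t = t' := by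
  choose W hW hyW hres using h
  let Fs : TopCat.Sheaf AddCommGrpCat.{u} X := (SheafOfModules.toSheaf (ModSite.ringSh O)).obj F
  refine TopCat.Sheaf.eq_of_locally_eq' Fs (fun y : V => W y.1 y.2) V (fun y => homOfLE (hW y.1 y.2)) ?_
    t t' (fun y => hres y.1 y.2)
  intro y hy
  exact Opens.mem_iSup.2 ⟨⟨y, hy⟩, hyW y hy⟩

/-- sections of the structure sheaf which agree locally are equal -/
theorem resR_ext {V : Opens X} (a b : Γr O V)
    (h : ∀ y ∈ V, ∃ (W : Opens X) (hW : W ≤ V), y ∈ W ∧ resR O hW a = resR O hW b) : a = b := by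
  choose W hW hyW hres using h
  let Os : TopCat.Sheaf CommRingCat.{u} X := O
  refine TopCat.Sheaf.eq_of_locally_eq' Os (fun y : V => W y.1 y.2) V (fun y => homOfLE (hW y.1 y.2)) ?_
    a b (fun y => hres y.1 y.2)
  intro y hy
  exact Opens.mem_iSup.2 ⟨⟨y, hy⟩, hyW y hy⟩

end ext

end Groth.Agent.R2.H30.RSStalk
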