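import Mathlib
import Groth.Prelude.Def_ModSite2
import Groth.Agent.R2.H30RSPullGen
import Groth.Agent.R2.H30RSStalk

/-!
# helper30: pushforward of modules along a (closed) embedding of ringed spaces and local generation
-/

set_option autoImplicit false
set_option linter.style.haveILetI false
set_option linter.unusedVariables false
universe u
open CategoryTheory CategoryTheory.Limits Opposite TopologicalSpace

namespace Groth.Agent.R2.H30.RSClosedEmb

open Groth.Agent.R2.H30.GenSite Groth.Agent.R2.H30.RSDict Groth.Agent.R2.H30.RSSky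
open Groth.Agent.R2.H30.RSPullGen Groth.Agent.R2.H30.RSStalk

variable {Z X : TopCat.{u}} (i : Z ⟶ X)
  (O_Z : Sheaf (Opens.grothendieckTopology Z) CommRingCat.{u})
  (O_X : Sheaf (Opens.grothendieckTopology X) CommRingCat.{u})
  (c : O_X ⟶ ((TopologicalSpace.Opens.map i).sheafPushforwardContinuous CommRingCat.{u}
      (Opens.grothendieckTopology X) (Opens.grothendieckTopology Z)).obj O_Z)
  (N : ModSite.Mod O_Z)

/-- the pushforward module -/
noncomputable abbrev pushN : ModSite.Mod O_X := (rm i O_Z O_X c).push.obj N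

/-- a section of the pushforward as a section of the module -/
def dn (V : Opens X) (τ : (pushN i O_Z O_X c N).val.obj (op V)) : N.val.obj (op (pre i V)) := τ

/-- a section of the module as a section of the pushforward -/
def up (V : Opens X) (τ : N.val.obj (op (pre i V))) : (pushN i O_Z O_X c N).val.obj (op V) := τ

theorem pre_mono {V V' : Opens X} (h : V' ≤ V) : pre i V' ≤ pre i V :=
  ((Opens.map i).map (homOfLE h)).le

section dict

variable {V V' : Opens X}

theorem dn_up (τ : N.val.obj (op (pre i V))) : dn i O_Z O_X c N V (up i O_Z O_X c N V τ) = τ := rfl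
theorem up_dn (τ : (pushN i O_Z O_X c N).val.obj (op V)) :
    up i O_Z O_X c N V (dn i O_Z O_X c N V τ) = τ := rfl

theorem dn_res (h : V' ≤ V) (τ : (pushN i O_Z O_X c N).val.obj (op V)) :
    dn i O_Z O_X c N V' (res (pushN i O_Z O_X c N) h τ) =
      res N (pre_mono i h) (dn i O_Z O_X c N V τ) := rfl

theorem up_res (h : V' ≤ V) (τ : N.val.obj (op (pre i V))) :
    up i O_Z O_X c N V' (res N (pre_mono i h) τ) =
      res (pushN i O_Z O_X c N) h (up i O_Z O_X c N V τ) := rfl

theorem dn_smul (b : Γr O_X V) (τ : (pushN i O_Z O_X c N).val.obj (op V)) :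
    dn i O_Z O_X c N V (b • τ) = cR i O_Z O_X c V b • dn i O_Z O_X c N V τ := rfl

theorem up_smul (b : Γr O_X V) (τ : N.val.obj (op (pre i V))) :
    up i O_Z O_X c N V (cR i O_Z O_X c V b • τ) = b • up i O_Z O_X c N V τ := rfl

theorem dn_add (τ τ' : (pushN i O_Z O_X c N).val.obj (op V)) :
    dn i O_Z O_X c N V (τ + τ') = dn i O_Z O_X c N V τ + dn i O_Z O_X c N V τ' := rfl

theorem up_add (τ τ' : N.val.obj (op (pre i V))) :
    up i O_Z O_X c N V (τ + τ') = up i O_Z O_X c N V τ + up i O_Z O_X c N V τ' := rfl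

theorem dn_zero : dn i O_Z O_X c N V 0 = 0 := rfl

theorem up_zero : up i O_Z O_X c N V 0 = 0 := rfl

theorem cR_resR (h : V' ≤ V) (b : Γr O_X V) :
    cR i O_Z O_X c V' (resR O_X h b) = resR O_Z (pre_mono i h) (cR i O_Z O_X c V b) := by
  have := (rm i O_Z O_X c).sharpR.hom.naturality (homOfLE h).op
  exact congrArg (fun φ => (φ.hom : _ → _) b) this

theorem dn_mem_span {I : Type*} (v : I → (pushN i O_Z O_X c N).val.obj (op V))
    {τ : (pushN i O_Z O_X c N).val.obj (op V)}
    (hτ : τ ∈ Submodule.span (Γr O_X V) (Set.range v)) :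
    dn i O_Z O_X c N V τ ∈ Submodule.span (Γr O_Z (pre i V))
      (Set.range fun j => dn i O_Z O_X c N V (v j)) := by
  induction hτ using Submodule.span_induction with
  | mem y hy =>
    obtain ⟨j, rfl⟩ := hy
    exact Submodule.subset_span ⟨j, rfl⟩
  | zero => exact Submodule.zero_mem _
  | add a b _ _ ha hb => rw [dn_add]; exact Submodule.add_mem _ ha hb
  | smul a y _ hy => rw [dn_smul]; exact Submodule.smul_mem _ _ hy

end dict

section inducing

variable (hi : Topology.IsInducing i)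

include hi in
/-- every open of `Z` inside `i⁻¹V` is the preimage of an open inside `V` -/
theorem exists_pre_eq {V : Opens X} (U' : Opens Z) (hU' : U' ≤ pre i V) :
    ∃ V' : Opens X, V' ≤ V ∧ pre i V' = U' := by
  obtain ⟨V'', hV'', hpre⟩ := hi.isOpen_iff.1 U'.2
  refine ⟨⟨V'', hV''⟩ ⊓ V, inf_le_right, ?_⟩
  ext z
  constructor
  · rintro ⟨h1, h2⟩
    have : z ∈ (i : Z → X) ⁻¹' V'' := h1
    rw [hpre] at this
    exact this
  · intro hz
    refine ⟨?_, hU' hz⟩
    have : z ∈ (i : Z → X) ⁻¹' V'' := by rw [hpre]; exact hz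
    exact this

include hi in
/-- local generation of `i_*N` over `V` gives local generation of `N` over `i⁻¹V` -/
theorem locSpan_of_push {I : Type*} (V : Opens X) (s : I → (pushN i O_Z O_X c N).val.obj (op V))
    (hs : LocSpan (pushN i O_Z O_X c N) V s) :
    LocSpan N (pre i V) (fun j => dn i O_Z O_X c N V (s j)) := by
  intro U' hU' τ z' hz'
  obtain ⟨V', hV', e⟩ := exists_pre_eq i hi U' hU'
  have hz'' : i z' ∈ V' := by
    have : z' ∈ pre i V' := by rw [e]; exact hz'
    exact this
  obtain ⟨W, hW, hyW, hm⟩ := hs V' hV' (up i O_Z O_X c N V' (res N (le_of_eq e) τ)) (i z') hz''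
  have hWU : pre i W ≤ U' := (pre_mono i hW).trans (le_of_eq e)
  refine ⟨pre i W, hWU, hyW, ?_⟩
  have h1 := dn_mem_span i O_Z O_X c N _ hm
  rw [dn_res, dn_up, res_res] at h1
  exact h1

end inducing

section closed

/-- sections over an open without points are unique -/
theorem eq_of_isEmpty {W : Opens Z} (hW : ∀ z : Z, z ∉ W) (τ τ' : N.val.obj (op W)) : τ = τ' :=
  res_ext N τ τ' (fun z hz => (hW z hz).elim)

variable (hi : Topology.IsClosedEmbedding i) (hc : Sheaf.IsLocallySurjective c)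

include hc in
/-- local surjectivity of the comorphism, concretely -/
theorem exists_cR_eq {W₁ : Opens X} (a : Γr O_Z (pre i W₁)) (y : X) (hy : y ∈ W₁) :
    ∃ (W : Opens X) (hW : W ≤ W₁) (_ : y ∈ W) (b : Γr O_X W),
      cR i O_Z O_X c W b = resR O_Z (pre_mono i hW) a := by
  have h := Presheaf.imageSieve_mem (Opens.grothendieckTopology X) c.hom (U := op W₁) a
  obtain ⟨W, g, ⟨b, hb⟩, hyW⟩ := h y hy
  exact ⟨W, g.le, hyW, b, hb⟩

include hc in
/-- finitely many sections of `O_Z` lift simultaneously near a point -/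
theorem exists_cR_eq_fin {n : ℕ} {W₁ : Opens X} (a : Fin n → Γr O_Z (pre i W₁)) (y : X)
    (hy : y ∈ W₁) :
    ∃ (W : Opens X) (hW : W ≤ W₁) (_ : y ∈ W) (b : Fin n → Γr O_X W),
      ∀ j, cR i O_Z O_X c W (b j) = resR O_Z (pre_mono i hW) (a j) := by
  choose Wj hWj hyWj bj hbj using fun j => exists_cR_eq i O_Z O_X c hc (a j) y hy
  obtain ⟨W, hyW, hWle⟩ := exists_nbhd_le y Wj hyWj
  refine ⟨W ⊓ W₁, inf_le_right, ⟨hyW, hy⟩,
    fun j => resR O_X (inf_le_left.trans (hWle j)) (bj j), fun j => ?_⟩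
  rw [cR_resR, hbj, resR_resR]

theorem dn_sum {V : Opens X} {ι : Type*} (S : Finset ι)
    (v : ι → (pushN i O_Z O_X c N).val.obj (op V)) :
    dn i O_Z O_X c N V (∑ j ∈ S, v j) = ∑ j ∈ S, dn i O_Z O_X c N V (v j) :=
  map_sum (AddMonoidHom.mk' (dn i O_Z O_X c N V) (dn_add i O_Z O_X c N)) v S

theorem dn_injective {V : Opens X} {τ τ' : (pushN i O_Z O_X c N).val.obj (op V)}
    (h : dn i O_Z O_X c N V τ = dn i O_Z O_X c N V τ') : τ = τ' := h

include hi hc in
/-- local generation of `N` over `i⁻¹V` by finitely many sections gives local generation of `i_*N`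
over `V`, for a closed embedding with locally surjective comorphism -/
theorem locSpan_push {n : ℕ} (V : Opens X) (s : Fin n → N.val.obj (op (pre i V)))
    (hs : LocSpan N (pre i V) s) :
    LocSpan (pushN i O_Z O_X c N) V (fun j => up i O_Z O_X c N V (s j)) := by
  intro V' hV' τ y hy
  by_cases hyZ : y ∈ Set.range i
  · obtain ⟨z', rfl⟩ := hyZ
    obtain ⟨W_Z, hW_Z, hz', hm⟩ := hs (pre i V') (pre_mono i hV') (dn i O_Z O_X c N V' τ) z' hy
    obtain ⟨a, ha⟩ := (Submodule.mem_span_range_iff_exists_fun _).1 hm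
    obtain ⟨W₁, hW₁, e⟩ := exists_pre_eq i hi.isInducing W_Z hW_Z
    have hz₁ : i z' ∈ W₁ := by
      have : z' ∈ pre i W₁ := by rw [e]; exact hz'
      exact this
    obtain ⟨W, hW, hyW, b, hb⟩ := exists_cR_eq_fin i O_Z O_X c hc
      (fun j => resR O_Z (le_of_eq e) (a j)) (i z') hz₁
    refine ⟨W, hW.trans hW₁, hyW, ?_⟩
    have key : res (pushN i O_Z O_X c N) (hW.trans hW₁) τ =
        ∑ j, b j • res (pushN i O_Z O_X c N) ((hW.trans hW₁).trans hV') (up i O_Z O_X c N V (s j)) := by
      apply dn_injective i O_Z O_X c N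
      rw [dn_sum, dn_res]
      have hle : pre i W ≤ W_Z := (pre_mono i hW).trans (le_of_eq e)
      have h1 : res N (pre_mono i (hW.trans hW₁)) (dn i O_Z O_X c N V' τ) =
          res N hle (res N hW_Z (dn i O_Z O_X c N V' τ)) := (res_res N _ _ _).symm
      rw [h1, ← ha, res_sum]
      refine Finset.sum_congr rfl (fun j _ => ?_)
      rw [res_smul, res_res, dn_smul, hb j, resR_resR]
      rfl
    rw [key]
    exact Submodule.sum_mem _ (fun j _ => Submodule.smul_mem _ _ (Submodule.subset_span ⟨j, rfl⟩))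
  · let V₀ : Opens X := ⟨(Set.range i)ᶜ, hi.isClosed_range.isOpen_compl⟩
    refine ⟨V' ⊓ V₀, inf_le_left, ⟨hy, hyZ⟩, ?_⟩
    have h0 : res (pushN i O_Z O_X c N) (inf_le_left : V' ⊓ V₀ ≤ V') τ = 0 := by
      apply dn_injective i O_Z O_X c N
      apply eq_of_isEmpty
      rintro z ⟨_, hz⟩
      exact hz ⟨z, rfl⟩
    rw [h0]
    exact Submodule.zero_mem _

end closed

end Groth.Agent.R2.H30.RSClosedEmb
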