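import Mathlib
import Groth.Prelude.Def_ModSite2
import Groth.Agent.R2.H30RSDict
import Groth.Agent.R2.H30RSStalk

/-!
# helper30: the subsheaf of sections locally in a sub-presheaf of modules; gluing of sections

For `F : Mod O` on a ringed space and `K : F.val.Submodule` (a sub-presheaf of modules), `locSh F K`
is the subsheaf of sections of `F` which locally lie in `K`; morphisms into `F` whose values lie
locally in `K` factor through it (`liftLoc`).
-/

set_option autoImplicit false
set_option linter.style.haveILetI false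
set_option linter.unusedVariables false
universe u
open CategoryTheory CategoryTheory.Limits Opposite TopologicalSpace

namespace Groth.Agent.R2.H30.RSLocSub

open Groth.Agent.R2.H30.GenSite Groth.Agent.R2.H30.RSDict Groth.Agent.R2.H30.RSStalk

variable {X : TopCat.{u}} {O : Sheaf (Opens.grothendieckTopology X) CommRingCat.{u}}
  (F : ModSite.Mod O) (K : F.val.Submodule)

/-- `τ ∈ F(W)` lies locally in `K` -/
def InLoc (W : Opens X) (τ : F.val.obj (op W)) : Prop :=
  ∀ x : X, x ∈ W → ∃ (W' : Opens X) (h : W' ≤ W), x ∈ W' ∧ res F h τ ∈ K.obj (op W')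

variable {F K}

theorem InLoc.res {W W₂ : Opens X} {τ : F.val.obj (op W)} (hτ : InLoc F K W τ)
    (h : W₂ ≤ W) : InLoc F K W₂ (res F h τ) := by
  intro x hx
  obtain ⟨W', h1, hxW', hmem⟩ := hτ x (h hx)
  refine ⟨W' ⊓ W₂, inf_le_right, ⟨hxW', hx⟩, ?_⟩
  have := K.map_mem (homOfLE (inf_le_left : W' ⊓ W₂ ≤ W')).op hmem
  have e : RSDict.res F (inf_le_left : W' ⊓ W₂ ≤ W') (RSDict.res F h1 τ) =
      RSDict.res F (inf_le_right : W' ⊓ W₂ ≤ W₂) (RSDict.res F h τ) := by
    rw [res_res, res_res]
  exact e ▸ this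

theorem inLoc_of_mem {W : Opens X} {τ : F.val.obj (op W)} (hτ : τ ∈ K.obj (op W)) :
    InLoc F K W τ := by
  intro x hx
  refine ⟨W, le_refl W, hx, ?_⟩
  rw [res_self]
  exact hτ

variable (F K)

/-- the family of submodules of sections locally in `K` -/
def locSub : F.val.Submodule where
  obj W :=
    { carrier := {τ | InLoc F K W.unop τ}
      add_mem' := by
        intro a b ha hb x hx
        obtain ⟨W₁, h1, hx1, hm1⟩ := ha x hx
        obtain ⟨W₂, h2, hx2, hm2⟩ := hb x hx
        refine ⟨W₁ ⊓ W₂, inf_le_left.trans h1, ⟨hx1, hx2⟩, ?_⟩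
        have e1 := K.map_mem (homOfLE (inf_le_left : W₁ ⊓ W₂ ≤ W₁)).op hm1
        have e2 := K.map_mem (homOfLE (inf_le_right : W₁ ⊓ W₂ ≤ W₂)).op hm2
        have e1' : RSDict.res F (inf_le_left.trans h1 : W₁ ⊓ W₂ ≤ W.unop) a ∈ K.obj (op (W₁ ⊓ W₂)) := by
          rw [← res_res F h1 inf_le_left]; exact e1
        have e2' : RSDict.res F (inf_le_left.trans h1 : W₁ ⊓ W₂ ≤ W.unop) b ∈ K.obj (op (W₁ ⊓ W₂)) := by
          rw [← res_res F h2 inf_le_right]; exact e2
        rw [res_add]
        exact Submodule.add_mem _ e1' e2'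
      zero_mem' := by
        intro x hx
        refine ⟨W.unop, le_refl _, hx, ?_⟩
        rw [res_zero]
        exact Submodule.zero_mem _
      smul_mem' := by
        intro c a ha x hx
        obtain ⟨W₁, h1, hx1, hm1⟩ := ha x hx
        refine ⟨W₁, h1, hx1, ?_⟩
        rw [res_smul]
        exact Submodule.smul_mem _ _ hm1 }
  map {W W₂} f := by
    intro τ hτ
    exact InLoc.res hτ f.unop.le

/-- locality -/
theorem inLoc_of_locally {W : Opens X} (τ : F.val.obj (op W))
    (h : ∀ x : X, x ∈ W → ∃ (W₁ : Opens X) (h1 : W₁ ≤ W), x ∈ W₁ ∧ InLoc F K W₁ (res F h1 τ)) :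
    InLoc F K W τ := by
  intro x hx
  obtain ⟨W₁, h1, hx1, hτ⟩ := h x hx
  obtain ⟨W', h1', hx', hm⟩ := hτ x hx1
  refine ⟨W', h1'.trans h1, hx', ?_⟩
  rw [res_res] at hm
  exact hm

/-- `locSub` as a subfunctor of the underlying presheaf of types -/
noncomputable def subF : Subfunctor (F.val.presheaf ⋙ forget AddCommGrpCat.{u}) where
  obj W := {τ | InLoc F K W.unop τ}
  map {W W₂} f := by
    intro τ hτ
    exact (locSub F K).map f hτ

theorem isSheaf_subF : Presieve.IsSheaf (Opens.grothendieckTopology X) (subF F K).toFunctor := by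
  have hM : Presieve.IsSheaf (Opens.grothendieckTopology X)
      (F.val.presheaf ⋙ forget AddCommGrpCat.{u}) :=
    (isSheaf_iff_isSheaf_of_type _ _).1
      ((Presheaf.isSheaf_iff_isSheaf_forget _ F.val.presheaf (forget AddCommGrpCat.{u})).1 F.isSheaf)
  rw [Subfunctor.isSheaf_iff _ hM]
  intro W τ hτ
  apply inLoc_of_locally
  intro x hx
  obtain ⟨W₁, g, hg, hx1⟩ := hτ x hx
  exact ⟨W₁, g.le, hx1, hg⟩

/-- comparison of the underlying presheaves of types -/
noncomputable def subFIso : (locSub F K).toPresheafOfModules.presheaf ⋙ forget AddCommGrpCat.{u} ≅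
    (subF F K).toFunctor :=
  NatIso.ofComponents (fun W => Iso.refl _) (fun {W W₂} f => by
    ext τ
    rfl)

theorem isSheaf_locSub :
    Presheaf.IsSheaf (Opens.grothendieckTopology X) (locSub F K).toPresheafOfModules.presheaf := by
  rw [Presheaf.isSheaf_iff_isSheaf_forget _ _ (forget AddCommGrpCat.{u}), isSheaf_iff_isSheaf_of_type]
  exact Presieve.isSheaf_iso _ (subFIso F K).symm (isSheaf_subF F K)

/-- the subsheaf of modules of sections locally in `K` -/
noncomputable def locSh : ModSite.Mod O where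
  val := (locSub F K).toPresheafOfModules
  isSheaf := isSheaf_locSub F K

/-- the inclusion of `locSh` -/
noncomputable def locι : locSh F K ⟶ F := ⟨(locSub F K).ι⟩

instance mono_locι : Mono (locι F K) :=
  (SheafOfModules.forget _).mono_of_mono_map (inferInstanceAs (Mono (locSub F K).ι))

/-- if the inclusion of `locSh` is an epimorphism, every section lies locally in `K` -/
theorem inLoc_of_epi_locι [Epi (locι F K)] (W : Opens X) (τ : F.val.obj (op W)) :
    InLoc F K W τ := by
  haveI : IsIso (locι F K) := isIso_of_mono_of_epi _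
  haveI : IsIso ((SheafOfModules.forget _).map (locι F K)) := inferInstance
  haveI : IsIso ((PresheafOfModules.evaluation _ (op W)).map
      ((SheafOfModules.forget _).map (locι F K))) := inferInstance
  have hsurj : Function.Surjective ((locι F K).val.app (op W)).hom :=
    ((ModuleCat.epi_iff_surjective _).1 (inferInstanceAs (Epi ((PresheafOfModules.evaluation _ (op W)).map
      ((SheafOfModules.forget _).map (locι F K))))))
  obtain ⟨τ', rfl⟩ := hsurj τ
  exact τ'.2

section lift

variable {F K} {M : ModSite.Mod O} (φ : M ⟶ F)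
  (hφ : ∀ (W : Opens X) (t : M.val.obj (op W)), InLoc F K W ((φ.val.app (op W)).hom t))

/-- a morphism with values locally in `K` factors through `locSh` -/
noncomputable def liftLoc : M ⟶ locSh F K :=
  ⟨{ app := fun W => ModuleCat.ofHom (Y := (locSh F K).val.obj W)
        { toFun := fun t => (⟨(φ.val.app W).hom t, hφ W.unop t⟩ : ↥((locSub F K).obj W))
          map_add' := fun t t' => Subtype.ext (map_add _ t t')
          map_smul' := fun a t => Subtype.ext ((φ.val.app W).hom.map_smul a t) }
     naturality := fun {W₁ W₂} g => by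
      ext t
      apply Subtype.ext
      exact PresheafOfModules.naturality_apply φ.val g t }⟩

theorem liftLoc_comp : liftLoc φ hφ ≫ locι F K = φ := by
  apply SheafOfModules.hom_ext
  ext W t
  rfl

end lift

/-- gluing of sections of a sheaf of modules -/
theorem exists_glue {κ : Type*} (W : κ → Opens X) (V : Opens X) (hW : ∀ k, W k ≤ V)
    (hcov : ∀ x ∈ V, ∃ k, x ∈ W k) (sf : ∀ k, F.val.obj (op (W k)))
    (hcomp : ∀ k l, res F (inf_le_left : W k ⊓ W l ≤ W k) (sf k) =
      res F (inf_le_right : W k ⊓ W l ≤ W l) (sf l)) :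
    ∃ s : F.val.obj (op V), ∀ k, res F (hW k) s = sf k := by
  let Fs : TopCat.Sheaf AddCommGrpCat.{u} X := (SheafOfModules.toSheaf (ModSite.ringSh O)).obj F
  obtain ⟨s, hs, -⟩ := TopCat.Sheaf.existsUnique_gluing' Fs W V (fun k => homOfLE (hW k))
    (fun x hx => by
      obtain ⟨k, hk⟩ := hcov x hx
      exact Opens.mem_iSup.2 ⟨k, hk⟩) sf (fun k l => hcomp k l)
  exact ⟨s, hs⟩

end Groth.Agent.R2.H30.RSLocSub
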