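import Mathlib
import Groth.Prelude.Def_ModSite2
import Groth.Agent.R2.H30RSLocSub

/-!
# helper30: sections of a coproduct of sheaves of modules on a ringed space

* `exists_locally_eq_sum`: a section of `∐ F` is locally a finite sum of images of sections of the
  `F i`;
* `eq_zero_of_sum_ι_eq_zero`: such a finite sum vanishes only if all the terms do;
* `exists_eq_sum_of_isCompact`: over a quasi-compact open a section of `∐ F` is a finite sum of
  images of sections of the `F i`.
-/

set_option autoImplicit false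
set_option linter.style.haveILetI false
set_option linter.unusedVariables false
universe u
open CategoryTheory CategoryTheory.Limits Opposite TopologicalSpace

namespace Groth.Agent.R2.H30.RSCoprod

open Groth.Agent.R2.H30.GenSite Groth.Agent.R2.H30.RSDict Groth.Agent.R2.H30.RSStalk
open Groth.Agent.R2.H30.RSLocSub

variable {X : TopCat.{u}} {O : Sheaf (Opens.grothendieckTopology X) CommRingCat.{u}}
  {I : Type u} (F : I → ModSite.Mod O) [HasCoproduct F]

/-- the image of a section under a coproduct inclusion -/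
noncomputable def ιs (i : I) (W : Opens X) (t : (F i).val.obj (op W)) : (∐ F).val.obj (op W) :=
  ((Sigma.ι F i).val.app (op W)).hom t

theorem ιs_add (i : I) (W : Opens X) (t t' : (F i).val.obj (op W)) :
    ιs F i W (t + t') = ιs F i W t + ιs F i W t' := map_add _ _ _

theorem ιs_zero (i : I) (W : Opens X) : ιs F i W 0 = 0 := map_zero _

theorem ιs_sub (i : I) (W : Opens X) (t t' : (F i).val.obj (op W)) :
    ιs F i W (t - t') = ιs F i W t - ιs F i W t' := map_sub _ _ _

theorem ιs_res (i : I) {W W' : Opens X} (h : W' ≤ W) (t : (F i).val.obj (op W)) :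
    res (∐ F) h (ιs F i W t) = ιs F i W' (res (F i) h t) :=
  (app_res (Sigma.ι F i) h t).symm

/-- the sub-presheaf of modules of `∐ F` generated by the images of the `F i` -/
noncomputable def imgSub : (∐ F).val.Submodule where
  obj W := ⨆ i, LinearMap.range ((Sigma.ι F i).val.app W).hom
  map {W W₂} f := by
    intro τ hτ
    refine Submodule.iSup_induction (fun i => LinearMap.range ((Sigma.ι F i).val.app W).hom)
      (motive := fun τ => (∐ F).val.restrictₛₗ f τ ∈
        ⨆ i, LinearMap.range ((Sigma.ι F i).val.app W₂).hom)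
      hτ ?_ ?_ ?_
    · rintro i y ⟨t, rfl⟩
      have h := PresheafOfModules.naturality_apply (Sigma.ι F i).val f t
      refine Submodule.mem_iSup_of_mem i ⟨(F i).val.map f t, ?_⟩
      exact h
    · rw [map_zero]
      exact Submodule.zero_mem _
    · intro a b ha hb
      rw [map_add]
      exact Submodule.add_mem _ ha hb

theorem ιs_mem_imgSub (i : I) (W : Opens X) (t : (F i).val.obj (op W)) :
    ιs F i W t ∈ (imgSub F).obj (op W) :=
  Submodule.mem_iSup_of_mem i ⟨t, rfl⟩

/-- the lift of a coproduct inclusion to the subsheaf of sections locally in the images -/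
noncomputable def ιlift (i : I) : F i ⟶ locSh (∐ F) (imgSub F) :=
  liftLoc (Sigma.ι F i) (fun W t => inLoc_of_mem (ιs_mem_imgSub F i W t))

theorem ιlift_comp (i : I) : ιlift F i ≫ locι (∐ F) (imgSub F) = Sigma.ι F i :=
  liftLoc_comp _ _

instance : IsSplitEpi (locι (∐ F) (imgSub F)) :=
  ⟨⟨Sigma.desc (ιlift F), by
    apply Sigma.hom_ext
    intro i
    rw [Sigma.ι_desc_assoc, ιlift_comp, Category.comp_id]⟩⟩

/-- a section of a coproduct is locally a finite sum of images of sections of the summands -/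
theorem exists_locally_eq_sum (W : Opens X) (s : (∐ F).val.obj (op W)) (x : X) (hx : x ∈ W) :
    ∃ (W' : Opens X) (h : W' ≤ W) (_ : x ∈ W') (T : Finset I) (t : ∀ i, (F i).val.obj (op W')),
      res (∐ F) h s = ∑ i ∈ T, ιs F i W' (t i) := by
  obtain ⟨W', h, hxW', hm⟩ := inLoc_of_epi_locι (∐ F) (imgSub F) W s x hx
  obtain ⟨g, hg, hsum⟩ := (Submodule.mem_iSup_iff_exists_finsupp _ _).1 hm
  choose t ht using hg
  refine ⟨W', h, hxW', g.support, t, ?_⟩
  rw [← hsum]
  exact Finset.sum_congr rfl (fun i _ => (ht i).symm)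

section proj

open Classical in
/-- the projection of a coproduct onto a summand, on sections -/
noncomputable def πs (j : I) (W : Opens X) (s : (∐ F).val.obj (op W)) : (F j).val.obj (op W) :=
  ((Sigma.π F j).val.app (op W)).hom s

theorem πs_add (j : I) (W : Opens X) (s s' : (∐ F).val.obj (op W)) :
    πs F j W (s + s') = πs F j W s + πs F j W s' := map_add _ _ _

theorem πs_zero (j : I) (W : Opens X) : πs F j W 0 = 0 := map_zero _

theorem πs_ιs_self (j : I) (W : Opens X) (t : (F j).val.obj (op W)) :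
    πs F j W (ιs F j W t) = t := by
  classical
  have h := Sigma.ι_π_eq_id F j
  exact congrArg (fun φ : F j ⟶ F j => (φ.val.app (op W)).hom t) h

theorem πs_ιs_of_ne {i j : I} (h : i ≠ j) (W : Opens X) (t : (F i).val.obj (op W)) :
    πs F j W (ιs F i W t) = 0 := by
  classical
  have h := Sigma.ι_π_of_ne F h
  exact congrArg (fun φ : F i ⟶ F j => (φ.val.app (op W)).hom t) h

theorem πs_sum (j : I) (W : Opens X) (T : Finset I) (t : ∀ i, (F i).val.obj (op W)) :
    πs F j W (∑ i ∈ T, ιs F i W (t i)) = ∑ i ∈ T, πs F j W (ιs F i W (t i)) :=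
  map_sum _ _ _

theorem πs_sum_of_mem {j : I} (W : Opens X) (T : Finset I) (t : ∀ i, (F i).val.obj (op W))
    (hj : j ∈ T) : πs F j W (∑ i ∈ T, ιs F i W (t i)) = t j := by
  classical
  rw [πs_sum, Finset.sum_eq_single j]
  · exact πs_ιs_self F j W (t j)
  · intro i _ hij
    exact πs_ιs_of_ne F hij W (t i)
  · intro h
    exact (h hj).elim

/-- a finite sum of images of sections of the summands vanishes only if all terms vanish -/
theorem eq_zero_of_sum_ιs_eq_zero (W : Opens X) (T : Finset I) (t : ∀ i, (F i).val.obj (op W))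
    (h : ∑ i ∈ T, ιs F i W (t i) = 0) : ∀ i ∈ T, t i = 0 := by
  intro j hj
  rw [← πs_sum_of_mem F W T t hj, h, πs_zero]

end proj

section compact

theorem res_sum_ιs {W W' : Opens X} (h : W' ≤ W) (T : Finset I) (t : ∀ i, (F i).val.obj (op W)) :
    res (∐ F) h (∑ i ∈ T, ιs F i W (t i)) = ∑ i ∈ T, ιs F i W' (res (F i) h (t i)) := by
  rw [res_sum]
  exact Finset.sum_congr rfl (fun i _ => ιs_res F i h (t i))

/-- over a quasi-compact open, a section of a coproduct is a finite sum of images of sections of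
the summands -/
theorem exists_eq_sum_of_isCompact (U : Opens X) (hU : IsCompact (U : Set X))
    (s : (∐ F).val.obj (op U)) :
    ∃ (T : Finset I) (t : ∀ i, (F i).val.obj (op U)), s = ∑ i ∈ T, ιs F i U (t i) := by
  classical
  choose W hW hxW Tx tx hs using fun x : U => exists_locally_eq_sum F U s x.1 x.2
  obtain ⟨A, hA⟩ := hU.elim_finite_subcover (fun x : U => (W x : Set X)) (fun x => (W x).2)
    (fun y hy => Set.mem_iUnion.2 ⟨⟨y, hy⟩, hxW ⟨y, hy⟩⟩)
  let T : Finset I := A.biUnion Tx
  let t' : ∀ (x : U) (i : I), (F i).val.obj (op (W x)) := fun x i => if i ∈ Tx x then tx x i else 0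
  have hs' : ∀ x ∈ A, res (∐ F) (hW x) s = ∑ i ∈ T, ιs F i (W x) (t' x i) := by
    intro x hx
    rw [hs x]
    have hsub : Tx x ⊆ T := Finset.subset_biUnion_of_mem Tx hx
    rw [← Finset.sum_subset hsub]
    · refine Finset.sum_congr rfl (fun i hi => ?_)
      simp only [t', if_pos hi]
    · intro i _ hi
      simp only [t', if_neg hi]
      exact ιs_zero F i _
  have ht'0 : ∀ (x : U), x ∈ A → ∀ i, i ∉ T → t' x i = 0 := by
    intro x hx i hi
    have : i ∉ Tx x := fun h => hi (Finset.subset_biUnion_of_mem Tx hx h)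
    simp only [t', if_neg this]
  have hcomp : ∀ (i : I) (x y : U), x ∈ A → y ∈ A →
      res (F i) (inf_le_left : W x ⊓ W y ≤ W x) (t' x i) =
        res (F i) (inf_le_right : W x ⊓ W y ≤ W y) (t' y i) := by
    intro i x y hx hy
    by_cases hi : i ∈ T
    · have h1 := congrArg (res (∐ F) (inf_le_left : W x ⊓ W y ≤ W x)) (hs' x hx)
      have h2 := congrArg (res (∐ F) (inf_le_right : W x ⊓ W y ≤ W y)) (hs' y hy)
      rw [res_res, res_sum_ιs] at h1 h2
      have h3 : ∑ i ∈ T, ιs F i (W x ⊓ W y)
          (res (F i) (inf_le_left : W x ⊓ W y ≤ W x) (t' x i) -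
            res (F i) (inf_le_right : W x ⊓ W y ≤ W y) (t' y i)) = 0 := by
        simp only [ιs_sub, Finset.sum_sub_distrib]
        rw [← h1, ← h2, sub_self]
      exact sub_eq_zero.1 (eq_zero_of_sum_ιs_eq_zero F _ T _ h3 i hi)
    · rw [ht'0 x hx i hi, ht'0 y hy i hi, res_zero, res_zero]
  have hcov : ∀ y ∈ U, ∃ k : {x : U // x ∈ A}, y ∈ W k.1 := by
    intro y hy
    have := hA hy
    simp only [Set.mem_iUnion] at this
    obtain ⟨x, hx, hyx⟩ := this
    exact ⟨⟨x, hx⟩, hyx⟩
  have hglue : ∀ i, ∃ ti : (F i).val.obj (op U), ∀ k : {x : U // x ∈ A},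
      res (F i) (hW k.1) ti = t' k.1 i := fun i =>
    exists_glue (F i) (fun k : {x : U // x ∈ A} => W k.1) U (fun k => hW k.1) hcov
      (fun k => t' k.1 i) (fun k l => hcomp i k.1 l.1 k.2 l.2)
  choose t ht using hglue
  refine ⟨T, t, ?_⟩
  apply res_ext (∐ F)
  intro y hy
  obtain ⟨k, hyk⟩ := hcov y hy
  refine ⟨W k.1, hW k.1, hyk, ?_⟩
  rw [hs' k.1 k.2, res_sum_ιs]
  exact Finset.sum_congr rfl (fun i _ => by rw [ht i k])

end compact

end Groth.Agent.R2.H30.RSCoprod
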