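import Mathlib
import Groth.Prelude.Def_ModSite2
import Groth.Agent.R2.H30RSCoprod
import Groth.Agent.Lib.Helper21ModTensor5

/-!
# helper30: directed colimits of sheaves of modules with finite type colimit (quasi-compact space)
-/

set_option autoImplicit false
set_option linter.style.haveILetI false
set_option linter.unusedVariables false
universe u
open CategoryTheory CategoryTheory.Limits Opposite TopologicalSpace

namespace Groth.Agent.R2.H30.RSColimFT

open Groth.Agent.R2.H30.GenSite Groth.Agent.R2.H30.RSDict Groth.Agent.R2.H30.RSStalk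
open Groth.Agent.R2.H30.RSLocSub Groth.Agent.R2.H30.RSCoprod

variable {X : TopCat.{u}} {O : Sheaf (Opens.grothendieckTopology X) CommRingCat.{u}}
  {I : Type u} [Preorder I] (D : I ⥤ ModSite.Mod O) (c : Cocone D)

/-- the cocone map on sections -/
noncomputable def cs (i : I) (W : Opens X) (u : (D.obj i).val.obj (op W)) : c.pt.val.obj (op W) :=
  ((c.ι.app i).val.app (op W)).hom u

/-- the transition map on sections -/
noncomputable def ds {i j : I} (h : i ≤ j) (W : Opens X) (u : (D.obj i).val.obj (op W)) :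
    (D.obj j).val.obj (op W) :=
  ((D.map (homOfLE h)).val.app (op W)).hom u

theorem cs_ds {i j : I} (h : i ≤ j) (W : Opens X) (u : (D.obj i).val.obj (op W)) :
    cs D c j W (ds D h W u) = cs D c i W u := by
  have := c.w (homOfLE h)
  exact congrArg (fun φ : D.obj i ⟶ c.pt => (φ.val.app (op W)).hom u) this

theorem cs_add (i : I) (W : Opens X) (u u' : (D.obj i).val.obj (op W)) :
    cs D c i W (u + u') = cs D c i W u + cs D c i W u' := map_add _ _ _

theorem cs_sum (i : I) (W : Opens X) {κ : Type*} (S : Finset κ) (u : κ → (D.obj i).val.obj (op W)) :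
    cs D c i W (∑ k ∈ S, u k) = ∑ k ∈ S, cs D c i W (u k) := map_sum _ _ _

theorem cs_smul (i : I) (W : Opens X) (a : Γr O W) (u : (D.obj i).val.obj (op W)) :
    cs D c i W (a • u) = a • cs D c i W u :=
  ((c.ι.app i).val.app (op W)).hom.map_smul a u

theorem cs_res (i : I) {W W' : Opens X} (h : W' ≤ W) (u : (D.obj i).val.obj (op W)) :
    cs D c i W' (res (D.obj i) h u) = res c.pt h (cs D c i W u) :=
  app_res (c.ι.app i) h u

variable {c}

/-- the canonical map from the coproduct to a colimit is an epimorphism -/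
theorem epi_sigmaDesc (hc : IsColimit c) : Epi (Sigma.desc fun i => c.ι.app i) :=
  ⟨fun g h e => hc.hom_ext (fun i => by
    have := congrArg (fun φ => Sigma.ι D.obj i ≫ φ) e
    simpa using this)⟩

theorem sigmaDesc_ιs (i : I) (W : Opens X) (u : (D.obj i).val.obj (op W)) :
    ((Sigma.desc fun i => c.ι.app i).val.app (op W)).hom (ιs D.obj i W u) = cs D c i W u := by
  have := Sigma.ι_desc (fun i => c.ι.app i) i
  exact congrArg (fun φ : D.obj i ⟶ c.pt => (φ.val.app (op W)).hom u) this

variable [Nonempty I] [IsDirected I (· ≤ ·)]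

/-- every section of a directed colimit comes locally from some stage -/
theorem exists_nbhd_cs (hc : IsColimit c) (V : Opens X) (τ : c.pt.val.obj (op V)) (x : X)
    (hx : x ∈ V) :
    ∃ (W : Opens X) (hW : W ≤ V) (_ : x ∈ W) (i : I) (u : (D.obj i).val.obj (op W)),
      cs D c i W u = res c.pt hW τ := by
  classical
  haveI := epi_sigmaDesc D hc
  obtain ⟨W₁, hW₁, hx₁, σ, hσ⟩ := (epi_iff (Sigma.desc fun i => c.ι.app i)).1 inferInstance V τ x hx
  obtain ⟨W₂, hW₂, hx₂, T, t, ht⟩ := exists_locally_eq_sum D.obj W₁ σ x hx₁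
  obtain ⟨i₀, hi₀⟩ := T.exists_le
  refine ⟨W₂, hW₂.trans hW₁, hx₂, i₀,
    ∑ i ∈ T.attach, ds D (hi₀ i.1 i.2) W₂ (t i.1), ?_⟩
  rw [cs_sum]
  have h1 : ∀ i : {i // i ∈ T}, cs D c i₀ W₂ (ds D (hi₀ i.1 i.2) W₂ (t i.1)) =
      ((Sigma.desc fun i => c.ι.app i).val.app (op W₂)).hom (ιs D.obj i.1 W₂ (t i.1)) := by
    intro i
    rw [cs_ds, sigmaDesc_ιs]
  rw [Finset.sum_congr rfl (fun i _ => h1 i),
    Finset.sum_attach T (fun i => ((Sigma.desc fun i => c.ι.app i).val.app (op W₂)).hom
      (ιs D.obj i W₂ (t i))), ← map_sum, ← ht, app_res, hσ, res_res]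

omit [Nonempty I] [IsDirected I (· ≤ ·)] in
theorem ds_res {i j : I} (h : i ≤ j) {W W' : Opens X} (hW : W' ≤ W)
    (u : (D.obj i).val.obj (op W)) :
    ds D h W' (res (D.obj i) hW u) = res (D.obj j) hW (ds D h W u) :=
  app_res (D.map (homOfLE h)) hW u

/-- finitely many sections of a directed colimit come locally from a common stage -/
theorem exists_nbhd_cs_fin (hc : IsColimit c) {n : ℕ} (V : Opens X)
    (τ : Fin n → c.pt.val.obj (op V)) (x : X) (hx : x ∈ V) :
    ∃ (W : Opens X) (hW : W ≤ V) (_ : x ∈ W) (i : I) (u : Fin n → (D.obj i).val.obj (op W)),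
      ∀ j, cs D c i W (u j) = res c.pt hW (τ j) := by
  choose Wj hWj hxj ij uj huj using fun j => exists_nbhd_cs D hc V (τ j) x hx
  obtain ⟨W, hxW, hWle⟩ := exists_nbhd_le x Wj hxj
  obtain ⟨i₀, hi₀⟩ := Finite.exists_le ij
  refine ⟨W ⊓ V, inf_le_right, ⟨hxW, hx⟩, i₀,
    fun j => ds D (hi₀ j) (W ⊓ V) (res (D.obj (ij j)) (inf_le_left.trans (hWle j)) (uj j)), ?_⟩
  intro j
  rw [cs_ds, cs_res, huj j, res_res]

variable [CompactSpace X]

/-- **finite type colimit on a quasi-compact space**: some stage surjects onto the colimit -/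
theorem exists_epi_ι (hc : IsColimit c)
    (hft : SheafOfModules.IsFiniteType (R := ModSite.ringSh O) c.pt) :
    ∃ i : I, Epi (c.ι.app i) := by
  classical
  rw [isFiniteType_iff] at hft
  choose U hxU n s hs using hft
  choose W hW hxW ix ux hux using fun x : X => exists_nbhd_cs_fin D hc (U x) (s x) x (hxU x)
  obtain ⟨A, hA⟩ := isCompact_univ.elim_finite_subcover (fun x : X => (W x : Set X))
    (fun x => (W x).2) (fun y _ => Set.mem_iUnion.2 ⟨y, hxW y⟩)
  obtain ⟨i₀, hi₀⟩ := (A.image ix).exists_le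
  refine ⟨i₀, (epi_iff (c.ι.app i₀)).2 ?_⟩
  intro V τ y hy
  have hyA := hA (Set.mem_univ y)
  simp only [Set.mem_iUnion] at hyA
  obtain ⟨x, hxA, hyx⟩ := hyA
  have hle : ix x ≤ i₀ := hi₀ _ (Finset.mem_image_of_mem ix hxA)
  obtain ⟨W', hW', hyW', hm⟩ := hs x (V ⊓ W x) (inf_le_right.trans (hW x))
    (res c.pt inf_le_left τ) y ⟨hy, hyx⟩
  obtain ⟨a, ha⟩ := (Submodule.mem_span_range_iff_exists_fun _).1 hm
  refine ⟨W', hW'.trans inf_le_left, hyW',
    ∑ j, a j • ds D hle W' (res (D.obj (ix x)) (hW'.trans inf_le_right) (ux x j)), ?_⟩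
  change cs D c i₀ W' _ = res c.pt (hW'.trans inf_le_left) τ
  rw [cs_sum]
  rw [res_res] at ha
  refine Eq.trans ?_ ha
  refine Finset.sum_congr rfl (fun j _ => ?_)
  rw [cs_smul, cs_ds, cs_res, hux x j, res_res]

/-- if moreover the transition maps are monomorphisms, some stage is isomorphic to the colimit -/
theorem exists_isIso_ι (hc : IsColimit c)
    (hft : SheafOfModules.IsFiniteType (R := ModSite.ringSh O) c.pt)
    (hmono : ∀ (i j : I) (f : i ⟶ j), Mono (D.map f)) :
    ∃ i : I, IsIso (c.ι.app i) := by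
  obtain ⟨i, hi⟩ := exists_epi_ι D hc hft
  haveI := Groth.Agent.Lib.Helper21.ModTensor5.hasExactColimitsOfShape_filtered O (Under i)
  haveI : Mono (c.ι.app i) := IsColimit.mono_ι_app_of_isFiltered hc i
  exact ⟨i, isIso_of_mono_of_epi _⟩

end Groth.Agent.R2.H30.RSColimFT
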