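import Mathlib
import Groth.Prelude.Def_ModSite2
import Groth.Agent.R2.H30FlatStalkTop
import Groth.Agent.R2.H30RSDict
set_option backward.isDefEq.respectTransparency.types false

/-!
# helper30: tensor sections and the stalk of the tensor product on a ringed space

* `tens O A B = A ⊗_O B` (`ModSite.tensorBi`), `ts W a b ∈ (A ⊗ B)(W)` the tensor of two sections;
* `stalkTens : (A ⊗ B)_x ≃ₗ[O_x] A_x ⊗[O_x] B_x` with `stalkTens (gm (ts a b)) = gm a ⊗ₜ gm b`;
* `desc`: morphisms out of `A ⊗ B` from bilinear families.
-/

set_option autoImplicit false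
set_option linter.style.haveILetI false
universe u
open CategoryTheory CategoryTheory.Limits TopCat TopologicalSpace Opposite TensorProduct
open MonoidalCategory

namespace Groth.Agent.R2.H30.RSTensorSec

open Groth.Agent.R2.H30.FlatStalkTop Groth.Agent.R2.H30.RSDict
open Groth.Agent.Lib.Helper1.StalkTensor
open Groth.Agent.Lib.Helper21.ModTensor2

variable {X : TopCat.{u}} (O : Sheaf (Opens.grothendieckTopology X) CommRingCat.{u})
  (A B : ModSite.Mod O)

/-- the presheaf tensor product of the underlying presheaves of modules -/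
noncomputable abbrev ptens : PMod (X := X) O.obj := toPM O A ⊗ toPM O B

/-- the tensor product `A ⊗_O B` -/
noncomputable abbrev tens : ModSite.Mod O := ((ModSite.tensorBi O).obj A).obj B

example : tens O A B = (shX O).obj (ptens O A B) := rfl

/-- the tensor of two sections, as a section of `A ⊗ B` -/
noncomputable def ts (W : Opens X) (a : A.val.obj (op W)) (b : B.val.obj (op W)) :
    (tens O A B).val.obj (op W) :=
  ((etaX O (ptens O A B)).app (op W)).hom (tm (toPM O A) (toPM O B) a b)

variable {A B}

theorem ts_add_left (W : Opens X) (a a' : A.val.obj (op W)) (b : B.val.obj (op W)) :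
    ts O A B W (a + a') b = ts O A B W a b + ts O A B W a' b :=
  (congrArg ((etaX O (ptens O A B)).app (op W)).hom
    (tm_add_left (P := toPM O A) (Q := toPM O B) a a' b)).trans (map_add _ _ _)

theorem ts_add_right (W : Opens X) (a : A.val.obj (op W)) (b b' : B.val.obj (op W)) :
    ts O A B W a (b + b') = ts O A B W a b + ts O A B W a b' :=
  (congrArg ((etaX O (ptens O A B)).app (op W)).hom
    (tm_add_right (P := toPM O A) (Q := toPM O B) a b b')).trans (map_add _ _ _)

theorem ts_smul_left (W : Opens X) (r : Γr O W) (a : A.val.obj (op W)) (b : B.val.obj (op W)) :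
    ts O A B W (r • a) b = r • ts O A B W a b :=
  (congrArg ((etaX O (ptens O A B)).app (op W)).hom
    (smul_tm (P := toPM O A) (Q := toPM O B) (U := W) r a b).symm).trans
    (((etaX O (ptens O A B)).app (op W)).hom.map_smul r _)

theorem ts_smul_right (W : Opens X) (r : Γr O W) (a : A.val.obj (op W)) (b : B.val.obj (op W)) :
    ts O A B W a (r • b) = r • ts O A B W a b :=
  (congrArg ((etaX O (ptens O A B)).app (op W)).hom
    (tm_smul (P := toPM O A) (Q := toPM O B) (U := W) r a b).symm).trans (ts_smul_left O W r a b)

theorem ts_zero_left (W : Opens X) (b : B.val.obj (op W)) : ts O A B W 0 b = 0 := by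
  have h := ts_add_left O W (0 : A.val.obj (op W)) 0 b
  rw [add_zero] at h
  exact left_eq_add.1 h

theorem ts_zero_right (W : Opens X) (a : A.val.obj (op W)) : ts O A B W a 0 = 0 := by
  have h := ts_add_right O W a (0 : B.val.obj (op W)) 0
  rw [add_zero] at h
  exact left_eq_add.1 h

theorem ts_res {W W' : Opens X} (h : W' ≤ W) (a : A.val.obj (op W)) (b : B.val.obj (op W)) :
    res (tens O A B) h (ts O A B W a b) = ts O A B W' (res A h a) (res B h b) := by
  unfold ts
  have := PresheafOfModules.naturality_apply (etaX O (ptens O A B)) (homOfLE h).op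
    (tm (toPM O A) (toPM O B) a b)
  exact this.symm

variable (A B)

/-- the stalk of the tensor product is the tensor product of the stalks -/
noncomputable def stalkTens (x : X) :
    St (toPM O (tens O A B)) x ≃ₗ[Rx (X := X) O.obj x]
      St (toPM O A) x ⊗[Rx (X := X) O.obj x] St (toPM O B) x :=
  (LinearEquiv.ofBijective (smₗ (etaX O (ptens O A B)) x)
    (sm_etaX_bijective O (ptens O A B) x)).symm ≪≫ₗ αLin (toPM O A) (toPM O B) x

variable {A B}

theorem stalkTens_gm_ts (x : X) (W : Opens X) (hx : x ∈ W) (a : A.val.obj (op W))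
    (b : B.val.obj (op W)) :
    stalkTens O A B x (gm (toPM O (tens O A B)) x W hx (ts O A B W a b)) =
      gm (toPM O A) x W hx a ⊗ₜ[Rx (X := X) O.obj x] gm (toPM O B) x W hx b := by
  have h1 : gm (toPM O (tens O A B)) x W hx (ts O A B W a b) =
      smₗ (etaX O (ptens O A B)) x (gm (ptens O A B) x W hx (tm (toPM O A) (toPM O B) a b)) :=
    (sm_gm (etaX O (ptens O A B)) hx _).symm
  have h3 : stalkTens O A B x (smₗ (etaX O (ptens O A B)) x
      (gm (ptens O A B) x W hx (tm (toPM O A) (toPM O B) a b))) =
      αLin (toPM O A) (toPM O B) x (gm (ptens O A B) x W hx (tm (toPM O A) (toPM O B) a b)) :=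
    congrArg (αLin (toPM O A) (toPM O B) x)
      ((LinearEquiv.ofBijective (smₗ (etaX O (ptens O A B)) x)
        (sm_etaX_bijective O (ptens O A B) x)).symm_apply_apply _)
  refine (congrArg (stalkTens O A B x) h1).trans (h3.trans ?_)
  rw [αLin_apply, α_gm_tm]

/-- a family of bilinear maps on sections, compatible with restriction -/
structure BilinFam (A B N : ModSite.Mod O) where
  /-- the maps -/
  f : ∀ W : Opens X, A.val.obj (op W) → B.val.obj (op W) → N.val.obj (op W)
  add_left : ∀ W a a' b, f W (a + a') b = f W a b + f W a' b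
  add_right : ∀ W a b b', f W a (b + b') = f W a b + f W a b'
  smul_left : ∀ W (r : Γr O W) a b, f W (r • a) b = r • f W a b
  smul_right : ∀ W (r : Γr O W) a b, f W a (r • b) = r • f W a b
  res : ∀ {W W' : Opens X} (h : W' ≤ W) a b,
    RSDict.res N h (f W a b) = f W' (RSDict.res A h a) (RSDict.res B h b)

variable {O} {N : ModSite.Mod O}

/-- the linear map on sections over `W` attached to a bilinear family -/
noncomputable def BilinFam.lin (β : BilinFam O A B N) (W : Opens X) :
    ((toPM O A).obj (op W)) ⊗[O.obj.obj (op W)] ((toPM O B).obj (op W)) →ₗ[O.obj.obj (op W)]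
      (toPM O N).obj (op W) :=
  TensorProduct.lift (LinearMap.mk₂ (O.obj.obj (op W)) (β.f W) (β.add_left W)
    (fun r a b => β.smul_left W r a b) (β.add_right W) (fun r a b => β.smul_right W r a b))

theorem BilinFam.lin_tmul (β : BilinFam O A B N) (W : Opens X) (a : A.val.obj (op W))
    (b : B.val.obj (op W)) :
    β.lin W (a ⊗ₜ b) = β.f W a b := rfl

/-- the morphism of presheaves of modules out of the presheaf tensor product -/
noncomputable def BilinFam.pdesc (β : BilinFam O A B N) : ptens O A B ⟶ toPM O N where
  app W := ModuleCat.ofHom (X := (ptens O A B).obj W) (Y := (toPM O N).obj W) (β.lin W.unop)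
  naturality {W W'} g := by
    ext t
    induction t using tm_induction with
    | zero => rw [map_zero, map_zero]
    | tmul p q => exact (β.res g.unop.le p q).symm
    | add s t hs ht => rw [map_add, map_add, hs, ht]

theorem BilinFam.pdesc_tm (β : BilinFam O A B N) (W : Opens X) (a : A.val.obj (op W)) (b : B.val.obj (op W)) :
    (β.pdesc.app (op W)).hom (tm (toPM O A) (toPM O B) a b) = β.f W a b := rfl

/-- the morphism out of the tensor product attached to a bilinear family -/
noncomputable def BilinFam.desc (β : BilinFam O A B N) : tens O A B ⟶ N :=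
  ((adj O).homEquiv (ptens O A B) N).symm β.pdesc

theorem BilinFam.desc_ts (β : BilinFam O A B N) (W : Opens X) (a : A.val.obj (op W)) (b : B.val.obj (op W)) :
    (β.desc.val.app (op W)).hom (ts O A B W a b) = β.f W a b := by
  have h : etaX O (ptens O A B) ≫ toPMMap O β.desc = β.pdesc := by
    have := ((adj O).homEquiv (ptens O A B) N).apply_symm_apply β.pdesc
    rw [Adjunction.homEquiv_unit] at this
    exact this
  have h2 := congrArg (fun φ => (φ.app (op W)).hom (tm (toPM O A) (toPM O B) a b)) h
  exact h2.trans (β.pdesc_tm W a b)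

end Groth.Agent.R2.H30.RSTensorSec
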