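import Mathlib
import Groth.Prelude.Def_ModSite2
import Groth.Agent.R2.H30RSTensorSec
import Groth.Agent.R2.H30StalkCmp
set_option backward.isDefEq.respectTransparency.types false

/-!
# helper30: the locus where a section of an invertible module generates is open

On a ringed space `(X, O)` with local stalks, `L` with a tensor inverse `L'` (`e : L ⊗ L' ≅ O`):
* every stalk `L_y` is free of rank one (`stalk_linearEquiv`);
* for `s ∈ L(U)`: if `s_x ∉ 𝔪_x L_x` then `a ↦ a s_x` is bijective and `s_y ∉ 𝔪_y L_y` for `y` near `x`.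
-/

set_option autoImplicit false
set_option linter.style.haveILetI false
universe u
open CategoryTheory CategoryTheory.Limits TopCat TopologicalSpace Opposite TensorProduct

namespace Groth.Agent.R2.H30.RSInvLoc

section algebra

/-- over a local ring, an element of a free module of rank one outside `𝔪 M` is a basis -/
theorem bijective_smul_of_not_mem {R : Type*} [CommRing R] [IsLocalRing R] {M : Type*}
    [AddCommGroup M] [Module R M] (ι : M ≃ₗ[R] R) (m : M)
    (hm : m ∉ IsLocalRing.maximalIdeal R • (⊤ : Submodule R M)) :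
    Function.Bijective (fun a : R => a • m) := by
  have hu : IsUnit (ι m) := by
    by_contra h
    apply hm
    have h1 : ι m ∈ IsLocalRing.maximalIdeal R := (IsLocalRing.mem_maximalIdeal _).2 h
    have h2 : m = ι m • ι.symm 1 := by
      apply ι.injective
      rw [map_smul, ι.apply_symm_apply, smul_eq_mul, mul_one]
    rw [h2]
    exact Submodule.smul_mem_smul h1 trivial
  have h3 : (fun a : R => a • m) = ι.symm ∘ (fun a : R => a * ι m) := by
    funext a
    apply ι.injective
    simp
  rw [h3]
  exact ι.symm.bijective.comp (IsUnit.isUnit_iff_mulRight_bijective.1 hu)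

/-- membership in `I • ⊤` transports along semilinear maps -/
theorem mem_smul_top_of_semilinear {R R' M M' : Type*} [CommRing R] [CommRing R']
    [AddCommGroup M] [Module R M] [AddCommGroup M'] [Module R' M'] (ρ : R →+* R') (μ : M →+ M')
    (hμ : ∀ r m, μ (r • m) = ρ r • μ m) (I : Ideal R) (I' : Ideal R') (hI : ∀ a ∈ I, ρ a ∈ I')
    {m : M} (hm : m ∈ I • (⊤ : Submodule R M)) : μ m ∈ I' • (⊤ : Submodule R' M') := by
  refine Submodule.smul_induction_on (p := fun m => μ m ∈ I' • (⊤ : Submodule R' M')) hm ?_ ?_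
  · intro r hr n _
    rw [hμ]
    exact Submodule.smul_mem_smul (hI r hr) trivial
  · intro x y hx hy
    rw [map_add]
    exact add_mem hx hy

end algebra

open Groth.Agent.R2.H30.FlatStalkTop Groth.Agent.R2.H30.RSDict Groth.Agent.R2.H30.RSTensorSec
open Groth.Agent.Lib.Helper1.StalkTensor

variable {X : TopCat.{u}} (O : Sheaf (Opens.grothendieckTopology X) CommRingCat.{u})

section unit

/-- a section of the structure sheaf as a section of the unit module -/
def toU (W : Opens X) (r : O.obj.obj (op W)) : (ModSite.unit O).val.obj (op W) := r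

/-- the section `1` of the unit module -/
def one (W : Opens X) : (ModSite.unit O).val.obj (op W) := toU O W 1

theorem toU_eq_smul_one (W : Opens X) (r : O.obj.obj (op W)) :
    toU O W r = (r : Γr O W) • one O W :=
  (mul_one r).symm

theorem rs_toU {W W' : Opens X} (i : W' ⟶ W) (r : O.obj.obj (op W)) :
    rs (toPM O (ModSite.unit O)) i (toU O W r) = toU O W' (rr O.obj i r) := rfl

theorem rs_one {W W' : Opens X} (i : W' ⟶ W) :
    rs (toPM O (ModSite.unit O)) i (one O W) = one O W' :=
  (rs_toU O i 1).trans (congrArg (toU O W') (map_one (rr O.obj i)))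

theorem gm_one (y : X) (W : Opens X) (hy : y ∈ W) :
    gm (toPM O (ModSite.unit O)) y W hy (one O W) =
      gm (toPM O (ModSite.unit O)) y ⊤ trivial (one O ⊤) := by
  rw [← rs_one O (homOfLE le_top : W ⟶ ⊤), gm_rs]

theorem gm_toU (y : X) (W : Opens X) (hy : y ∈ W) (r : O.obj.obj (op W)) :
    gm (toPM O (ModSite.unit O)) y W hy (toU O W r) =
      gr O.obj y W hy r • gm (toPM O (ModSite.unit O)) y ⊤ trivial (one O ⊤) := by
  rw [toU_eq_smul_one, gm_smul, gm_one]

/-- `a ↦ a • 1_y`, from the stalk of the ring to the stalk of the unit module -/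
noncomputable def νmap (y : X) :
    Rx (X := X) O.obj y →ₗ[Rx (X := X) O.obj y] St (toPM O (ModSite.unit O)) y :=
  LinearMap.toSpanSingleton _ _ (gm (toPM O (ModSite.unit O)) y ⊤ trivial (one O ⊤))

theorem νmap_gr (y : X) (W : Opens X) (hy : y ∈ W) (r : O.obj.obj (op W)) :
    νmap O y (gr O.obj y W hy r) = gm (toPM O (ModSite.unit O)) y W hy (toU O W r) :=
  (gm_toU O y W hy r).symm

theorem νmap_bijective (y : X) : Function.Bijective (νmap O y) := by
  constructor
  · rw [injective_iff_map_eq_zero]
    intro a ha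
    obtain ⟨W, hy, r, rfl⟩ := exists_gr_eq a
    rw [νmap_gr] at ha
    have h0 : gm (toPM O (ModSite.unit O)) y W hy (toU O W r) =
        gm (toPM O (ModSite.unit O)) y W hy 0 := ha.trans (map_zero _).symm
    obtain ⟨W', hy', iU, iV, hres⟩ := gm_eq hy hy _ _ h0
    rw [rs_toU, map_zero] at hres
    have h1 : rr O.obj iU r = 0 := hres
    rw [← gr_rr iU hy', h1, map_zero]
  · intro m
    obtain ⟨W, hy, t, rfl⟩ := exists_gm_eq m
    exact ⟨gr O.obj y W hy t, νmap_gr O y W hy t⟩

/-- the stalk of the unit module is the stalk of the ring -/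
noncomputable def ν (y : X) :
    Rx (X := X) O.obj y ≃ₗ[Rx (X := X) O.obj y] St (toPM O (ModSite.unit O)) y :=
  LinearEquiv.ofBijective (νmap O y) (νmap_bijective O y)

theorem ν_one (y : X) (W : Opens X) (hy : y ∈ W) :
    ν O y 1 = gm (toPM O (ModSite.unit O)) y W hy (one O W) := by
  have h := νmap_gr O y W hy 1
  rw [map_one] at h
  exact h

end unit

section stalkfree

variable {O}

theorem sm_id' {R : X.Presheaf CommRingCat.{u}} (P : PMod R) (x : X) (a : St P x) :
    sm (𝟙 P) x a = a := by
  obtain ⟨U, hU, p, rfl⟩ := exists_gm_eq a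
  rw [sm_gm]
  rfl

/-- an isomorphism of modules is bijective on stalks -/
theorem sm_bijective_of_iso {M N : ModSite.Mod O} (e : M ≅ N) (y : X) :
    Function.Bijective (smₗ (toPMMap O e.hom) y) := by
  have h1 : ∀ a, sm (toPMMap O e.inv) y (sm (toPMMap O e.hom) y a) = a := fun a => by
    rw [← sm_comp']
    have : toPMMap O e.hom ≫ toPMMap O e.inv = 𝟙 _ :=
      congrArg (fun φ : M ⟶ M => φ.val) e.hom_inv_id
    rw [this, sm_id']
  have h2 : ∀ a, sm (toPMMap O e.hom) y (sm (toPMMap O e.inv) y a) = a := fun a => by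
    rw [← sm_comp']
    have : toPMMap O e.inv ≫ toPMMap O e.hom = 𝟙 _ :=
      congrArg (fun φ : N ⟶ N => φ.val) e.inv_hom_id
    rw [this, sm_id']
  exact ⟨Function.LeftInverse.injective h1, Function.RightInverse.surjective h2⟩

variable (L L' : ModSite.Mod O) (e : tens O L L' ≅ ModSite.unit O)

/-- the stalk of `L ⊗ L' ≅ O` -/
noncomputable def stalkE (y : X) :
    St (toPM O L) y ⊗[Rx (X := X) O.obj y] St (toPM O L') y ≃ₗ[Rx (X := X) O.obj y]
      Rx (X := X) O.obj y :=
  (stalkTens O L L' y).symm ≪≫ₗ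
    LinearEquiv.ofBijective (smₗ (toPMMap O e.hom) y) (sm_bijective_of_iso e y) ≪≫ₗ (ν O y).symm

include e in
theorem stalk_invertible (y : X) : Module.Invertible (Rx (X := X) O.obj y) (St (toPM O L) y) :=
  Module.Invertible.left (stalkE L L' e y)

include e in
/-- every stalk of an invertible module on a locally ringed space is free of rank one -/
theorem stalk_linearEquiv (y : X) [IsLocalRing (Rx (X := X) O.obj y)] :
    Nonempty (St (toPM O L) y ≃ₗ[Rx (X := X) O.obj y] Rx (X := X) O.obj y) := by
  haveI := stalk_invertible L L' e y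
  exact Module.Invertible.free_iff_linearEquiv.1 inferInstance

end stalkfree

section locus

variable {O} (L L' : ModSite.Mod O) (e : tens O L L' ≅ ModSite.unit O)

theorem e_hom_inv (W : Opens X) (t : (ModSite.unit O).val.obj (op W)) :
    (e.hom.val.app (op W)).hom ((e.inv.val.app (op W)).hom t) = t := by
  have h : e.inv ≫ e.hom = 𝟙 _ := e.inv_hom_id
  exact congrArg (fun φ : ModSite.unit O ⟶ ModSite.unit O => (φ.val.app (op W)).hom t) h

/-- near a point where `s` generates the stalk of `L`, there is a section `t` of `L'` with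
`e (s ⊗ t) = 1` -/
theorem exists_dual_section {U : Opens X} (s : L.val.obj (op U)) (x : X) (hx : x ∈ U)
    (hsurj : Function.Surjective
      (fun a : Rx (X := X) O.obj x => a • gm (toPM O L) x U hx s)) :
    ∃ (W : Opens X) (hW : W ≤ U) (_ : x ∈ W) (t : L'.val.obj (op W)),
      (e.hom.val.app (op W)).hom (ts O L L' W (res L hW s) t) = one O W := by
  let τ : (tens O L L').val.obj (op ⊤) := (e.inv.val.app (op ⊤)).hom (one O ⊤)
  have hz : ∀ z : St (toPM O L) x ⊗[Rx (X := X) O.obj x] St (toPM O L') x,
      ∃ t, z = gm (toPM O L) x U hx s ⊗ₜ[Rx (X := X) O.obj x] t := by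
    intro z
    induction z using TensorProduct.induction_on with
    | zero => exact ⟨0, (tmul_zero _ _).symm⟩
    | tmul l t =>
      obtain ⟨a, rfl⟩ := hsurj l
      exact ⟨a • t, smul_tmul _ _ _⟩
    | add z z' hz hz' =>
      obtain ⟨t, rfl⟩ := hz
      obtain ⟨t', rfl⟩ := hz'
      exact ⟨t + t', (tmul_add _ _ _).symm⟩
  obtain ⟨tx, htx⟩ := hz (stalkTens O L L' x (gm (toPM O (tens O L L')) x ⊤ trivial τ))
  obtain ⟨W1, hx1, t1, rfl⟩ := exists_gm_eq tx
  have hx2 : x ∈ W1 ⊓ U := ⟨hx1, hx⟩
  have h2 : gm (toPM O (tens O L L')) x (W1 ⊓ U) hx2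
      (ts O L L' (W1 ⊓ U) (res L inf_le_right s) (res L' inf_le_left t1)) =
      gm (toPM O (tens O L L')) x ⊤ trivial τ := by
    apply (stalkTens O L L' x).injective
    rw [stalkTens_gm_ts, htx]
    congr 1
    · exact gm_rs (P := toPM O L) (homOfLE inf_le_right) hx2 s
    · exact gm_rs (P := toPM O L') (homOfLE inf_le_left) hx2 t1
  obtain ⟨W3, hx3, i2, iT, hres⟩ := gm_eq (V := ⊤) hx2 _root_.trivial _ _ h2
  refine ⟨W3, i2.le.trans inf_le_right, hx3, res L' (i2.le.trans inf_le_left) t1, ?_⟩
  have h3 : ts O L L' W3 (res L (i2.le.trans inf_le_right) s)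
      (res L' (i2.le.trans inf_le_left) t1) = res (tens O L L') le_top τ := by
    have := ts_res O i2.le (res L inf_le_right s) (res L' inf_le_left t1)
    rw [res_res, res_res] at this
    exact this.symm.trans hres
  rw [h3, app_res, e_hom_inv]
  exact rs_one O (homOfLE le_top)

/-- where `e (s ⊗ t) = 1`, the section `s` does not lie in `𝔪_y L_y` -/
theorem not_mem_of_dual_section {W : Opens X} (s : L.val.obj (op W)) (t : L'.val.obj (op W))
    (h : (e.hom.val.app (op W)).hom (ts O L L' W s t) = one O W) (y : X) (hy : y ∈ W)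
    [IsLocalRing (Rx (X := X) O.obj y)] :
    gm (toPM O L) y W hy s ∉ IsLocalRing.maximalIdeal (Rx (X := X) O.obj y) •
      (⊤ : Submodule (Rx (X := X) O.obj y) (St (toPM O L) y)) := by
  intro hmem
  let φ : St (toPM O L) y →ₗ[Rx (X := X) O.obj y] Rx (X := X) O.obj y :=
    (stalkE L L' e y).toLinearMap ∘ₗ
      (TensorProduct.mk (Rx (X := X) O.obj y) (St (toPM O L) y) (St (toPM O L') y)).flip
        (gm (toPM O L') y W hy t)
  have h1 : φ (gm (toPM O L) y W hy s) = 1 := by
    show (stalkE L L' e y) (gm (toPM O L) y W hy s ⊗ₜ[Rx (X := X) O.obj y]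
      gm (toPM O L') y W hy t) = 1
    rw [← stalkTens_gm_ts]
    unfold stalkE
    simp only [LinearEquiv.trans_apply, LinearEquiv.symm_apply_apply,
      LinearEquiv.ofBijective_apply]
    rw [smₗ_apply, sm_gm, LinearEquiv.symm_apply_eq, ν_one O y W hy]
    exact congrArg (gm (toPM O (ModSite.unit O)) y W hy) h
  have h2 := mem_smul_top_of_semilinear (RingHom.id _) φ.toAddMonoidHom
    (fun r m => map_smul φ r m) _ (IsLocalRing.maximalIdeal (Rx (X := X) O.obj y))
    (fun a ha => ha) hmem
  rw [LinearMap.toAddMonoidHom_coe, h1, smul_eq_mul, Ideal.mul_top] at h2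
  exact (IsLocalRing.mem_maximalIdeal _).1 h2 isUnit_one

include e in
/-- the main statement for the topological stalks -/
theorem top_main (hloc : ∀ y : X, IsLocalRing (Rx (X := X) O.obj y)) {U : Opens X}
    (s : L.val.obj (op U)) :
    IsOpen {x : X | ∃ hx : x ∈ U, gm (toPM O L) x U hx s ∉
        (@IsLocalRing.maximalIdeal (Rx (X := X) O.obj x) _ (hloc x)) •
          (⊤ : Submodule (Rx (X := X) O.obj x) (St (toPM O L) x))} ∧
      ∀ (x : X) (hx : x ∈ U), gm (toPM O L) x U hx s ∉
          (@IsLocalRing.maximalIdeal (Rx (X := X) O.obj x) _ (hloc x)) •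
            (⊤ : Submodule (Rx (X := X) O.obj x) (St (toPM O L) x)) →
        Function.Bijective (fun a : Rx (X := X) O.obj x => a • gm (toPM O L) x U hx s) := by
  have hbij : ∀ (x : X) (hx : x ∈ U), gm (toPM O L) x U hx s ∉
      (@IsLocalRing.maximalIdeal (Rx (X := X) O.obj x) _ (hloc x)) •
        (⊤ : Submodule (Rx (X := X) O.obj x) (St (toPM O L) x)) →
      Function.Bijective (fun a : Rx (X := X) O.obj x => a • gm (toPM O L) x U hx s) := by
    intro x hx hmem
    haveI := hloc x
    obtain ⟨ι⟩ := stalk_linearEquiv L L' e x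
    exact bijective_smul_of_not_mem ι _ hmem
  refine ⟨?_, hbij⟩
  rw [isOpen_iff_forall_mem_open]
  rintro x ⟨hx, hmem⟩
  obtain ⟨W, hW, hxW, t, ht⟩ := exists_dual_section L L' e s x hx (hbij x hx hmem).2
  refine ⟨W, ?_, W.isOpen, hxW⟩
  intro y hy
  refine ⟨hW hy, ?_⟩
  haveI := hloc y
  have h := not_mem_of_dual_section L L' e (res L hW s) t ht y hy
  rwa [show gm (toPM O L) y W hy (res L hW s) = gm (toPM O L) y U (hW hy) s from
    gm_rs (P := toPM O L) (homOfLE hW) hy s] at h

end locus

section site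

open Groth.Agent.R2.H30.StalkCmp

variable {O} (L L' : ModSite.Mod O) (e : tens O L L' ≅ ModSite.unit O)

theorem μ_symm_smul (x : X) (r : Rx (X := X) O.obj x) (m : St (toPM O L) x) :
    (μ x O L).symm (r • m) = (ρ x O).symm r • (μ x O L).symm m := by
  apply (μ x O L).injective
  rw [μ_smul, AddEquiv.apply_symm_apply, AddEquiv.apply_symm_apply, RingEquiv.apply_symm_apply]

theorem mem_iff (x : X) (h1 : IsLocalRing (ModSite.stalkRing (pt x) O))
    (h2 : IsLocalRing (Rx (X := X) O.obj x)) (m : ModSite.stalkAb (pt x) L) :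
    m ∈ (@IsLocalRing.maximalIdeal (ModSite.stalkRing (pt x) O) _ h1) •
        (⊤ : Submodule (ModSite.stalkRing (pt x) O) (ModSite.stalkAb (pt x) L)) ↔
      μ x O L m ∈ (@IsLocalRing.maximalIdeal (Rx (X := X) O.obj x) _ h2) •
        (⊤ : Submodule (Rx (X := X) O.obj x) (St (toPM O L) x)) := by
  constructor
  · intro h
    refine mem_smul_top_of_semilinear (ρ x O).toRingHom (μ x O L).toAddMonoidHom
      (μ_smul x O L) _ _ ?_ h
    intro a ha
    exact (IsLocalRing.mem_maximalIdeal _).2 (fun hu =>
      (IsLocalRing.mem_maximalIdeal _).1 ha ((MulEquiv.isUnit_map (ρ x O)).1 hu))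
  · intro h
    have := mem_smul_top_of_semilinear (ρ x O).symm.toRingHom (μ x O L).symm.toAddMonoidHom
      (μ_symm_smul L x) _ (@IsLocalRing.maximalIdeal (ModSite.stalkRing (pt x) O) _ h1) ?_ h
    · simpa using this
    · intro a ha
      exact (IsLocalRing.mem_maximalIdeal _).2 (fun hu =>
        (IsLocalRing.mem_maximalIdeal _).1 ha ((MulEquiv.isUnit_map (ρ x O).symm).1 hu))

include e in
/-- **the generating locus of a section of an invertible module is open**, and the section is a
basis of the stalk at each of its points -/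
theorem site_main
    (hO : ∀ x : X, IsLocalRing (ModSite.stalkRing (Opens.pointGrothendieckTopology x) O))
    (U : Opens X) (s : ModSite.sect L U) :
    IsOpen {x : X | ∃ hx : x ∈ U, ModSite.germ (Opens.pointGrothendieckTopology x) L U ⟨⟨hx⟩⟩ s ∉
        (@IsLocalRing.maximalIdeal (ModSite.stalkRing (Opens.pointGrothendieckTopology x) O) _
          (hO x)) •
          (⊤ : Submodule (ModSite.stalkRing (Opens.pointGrothendieckTopology x) O)
            (ModSite.stalkAb (Opens.pointGrothendieckTopology x) L))} ∧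
      ∀ (x : X) (hx : x ∈ U), ModSite.germ (Opens.pointGrothendieckTopology x) L U ⟨⟨hx⟩⟩ s ∉
          (@IsLocalRing.maximalIdeal (ModSite.stalkRing (Opens.pointGrothendieckTopology x) O) _
            (hO x)) •
            (⊤ : Submodule (ModSite.stalkRing (Opens.pointGrothendieckTopology x) O)
              (ModSite.stalkAb (Opens.pointGrothendieckTopology x) L)) →
        Function.Bijective (fun a : ModSite.stalkRing (Opens.pointGrothendieckTopology x) O =>
          a • ModSite.germ (Opens.pointGrothendieckTopology x) L U ⟨⟨hx⟩⟩ s) := by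
  have hloc : ∀ y : X, IsLocalRing (Rx (X := X) O.obj y) := fun y =>
    haveI := hO y
    (ρ y O).isLocalRing
  obtain ⟨hopen, hbij⟩ := top_main L L' e hloc s
  have hiff : ∀ (x : X) (hx : x ∈ U),
      ModSite.germ (Opens.pointGrothendieckTopology x) L U ⟨⟨hx⟩⟩ s ∈
        (@IsLocalRing.maximalIdeal (ModSite.stalkRing (Opens.pointGrothendieckTopology x) O) _
          (hO x)) •
          (⊤ : Submodule (ModSite.stalkRing (Opens.pointGrothendieckTopology x) O)
            (ModSite.stalkAb (Opens.pointGrothendieckTopology x) L)) ↔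
      gm (toPM O L) x U hx s ∈ (@IsLocalRing.maximalIdeal (Rx (X := X) O.obj x) _ (hloc x)) •
          (⊤ : Submodule (Rx (X := X) O.obj x) (St (toPM O L) x)) := by
    intro x hx
    have := mem_iff L x (hO x) (hloc x) (ModSite.germ (pt x) L U ⟨⟨hx⟩⟩ s)
    rw [μ_germ] at this
    exact this
  constructor
  · convert hopen using 1
    ext x
    constructor
    · rintro ⟨hx, h⟩
      exact ⟨hx, fun h' => h ((hiff x hx).2 h')⟩
    · rintro ⟨hx, h⟩
      exact ⟨hx, fun h' => h ((hiff x hx).1 h')⟩
  · intro x hx h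
    have hb := hbij x hx (fun h' => h ((hiff x hx).2 h'))
    have heq : (fun a : ModSite.stalkRing (Opens.pointGrothendieckTopology x) O =>
        a • ModSite.germ (Opens.pointGrothendieckTopology x) L U ⟨⟨hx⟩⟩ s) =
        (μ x O L).symm ∘ (fun b : Rx (X := X) O.obj x => b • gm (toPM O L) x U hx s) ∘
          (ρ x O) := by
      funext a
      apply (μ x O L).injective
      simp only [Function.comp_apply, AddEquiv.apply_symm_apply]
      rw [μ_smul, μ_germ]
    rw [heq]
    exact (μ x O L).symm.bijective.comp (hb.comp (ρ x O).bijective)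

end site

end Groth.Agent.R2.H30.RSInvLoc
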