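import Mathlib
import Groth.Prelude.Def_ModSite2
import Groth.Agent.R2.H30RSSky
import Groth.Agent.R2.H30StalkCmp
import Groth.Agent.Lib.Helper2FlatOver
set_option backward.isDefEq.respectTransparency.types false

/-!
# helper30: the stalk of the pulled-back structure sheaf `f⁻¹O_Y` on a ringed space

For a morphism of ringed spaces `f : (X, O_X) → (Y, O_Y)` and `x : X`, the stalk at `x` of
`f⁻¹O_Y` (`RMor.invRing`) is `O_{Y, f x}` (Mathlib's `Point.sheafFiberComapIso`), and under this
identification the stalk of `invSharp` is the stalk map `O_{Y, f x} → O_{X, x}`.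
-/

set_option autoImplicit false
set_option linter.style.haveILetI false
universe u
open CategoryTheory CategoryTheory.Limits TopCat TopologicalSpace Opposite

namespace Groth.Agent.R2.H30.RSInvStalk

open Groth.Agent.R2.H30.RSSky Groth.Agent.R2.H30.StalkCmp
open Groth.Agent.Lib.Helper1.StalkTensor

section abstract

variable {C D : Type*} [Category C] [Category D] {L₁ L₂ : C ⥤ D} {R₁ R₂ : D ⥤ C}
  (adj₁ : L₁ ⊣ R₁) (adj₂ : L₂ ⊣ R₂)

theorem homEquiv_conjugateEquiv_symm (α : R₁ ⟶ R₂) (X : C) (Z : D) (h : L₁.obj X ⟶ Z) :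
    adj₂.homEquiv X Z (((conjugateEquiv adj₁ adj₂).symm α).app X ≫ h) =
      adj₁.homEquiv X Z h ≫ α.app Z := by
  rw [Adjunction.homEquiv_unit, Adjunction.homEquiv_unit, Functor.map_comp,
    ← Category.assoc, ← unit_conjugateEquiv_symm, Category.assoc, Category.assoc, α.naturality]

end abstract

variable {X Y : TopCat.{u}} (f : X ⟶ Y)
  (O_X : Sheaf (Opens.grothendieckTopology X) CommRingCat.{u})
  (O_Y : Sheaf (Opens.grothendieckTopology Y) CommRingCat.{u})
  (c : O_Y ⟶ ((TopologicalSpace.Opens.map f).sheafPushforwardContinuous CommRingCat.{u}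
      (Opens.grothendieckTopology Y) (Opens.grothendieckTopology X)).obj O_X) (x : X)

theorem hcp : CoverPreserving (Opens.grothendieckTopology Y) (Opens.grothendieckTopology X)
    (Opens.map f) :=
  _root_.coverPreserving_opens_map f

instance : InitiallySmall.{u} (Opens.map f ⋙ (pt x).fiber).Elements :=
  initiallySmall_of_essentiallySmall _

/-- the point `f x` of `Y` as the inverse image of the point `x` -/
noncomputable abbrev q : GrothendieckTopology.Point.{u} (Opens.grothendieckTopology Y) :=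
  (pt x).comap (Opens.map f) (hcp f)

example : q f x = pt (f x) := rfl

/-- the stalk of `f⁻¹O_Y` at `x` is the stalk of `O_Y` at `f x` -/
noncomputable def ψ : ModSite.stalkRing (pt (f x)) O_Y ≅
    ModSite.stalkRing (pt x) (rm f O_X O_Y c).invRing :=
  ((pt x).sheafFiberComapIso (Opens.map f) (hcp f) CommRingCat.{u}).app O_Y

/-- the stalk map at the points of the sites, through `f⁻¹O_Y` -/
noncomputable def gmap : ModSite.stalkRing (pt (f x)) O_Y ⟶ ModSite.stalkRing (pt x) O_X :=
  (ψ f O_X O_Y c x).hom ≫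
    ((pt x).sheafFiber (A := CommRingCat.{u})).map (rm f O_X O_Y c).invSharp

/-- the sheaf adjunction of `f` for sheaves of rings -/
noncomputable abbrev adjS := (Opens.map f).sheafAdjunctionContinuous CommRingCat.{u}
  (Opens.grothendieckTopology Y) (Opens.grothendieckTopology X)

theorem homEquiv_gmap :
    ((pt (f x)).skyscraperSheafAdjunction (A := CommRingCat.{u})).homEquiv O_Y _ (gmap f O_X O_Y c x) =
      c ≫ ((Opens.map f).sheafPushforwardContinuous CommRingCat.{u}
        (Opens.grothendieckTopology Y) (Opens.grothendieckTopology X)).map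
          (((pt x).skyscraperSheafAdjunction (A := CommRingCat.{u})).unit.app O_X) := by
  let adj₁ := (adjS f).comp ((pt x).skyscraperSheafAdjunction (A := CommRingCat.{u}))
  let adj₂ := (q f x).skyscraperSheafAdjunction (A := CommRingCat.{u})
  let α := ((pt x).skyscraperSheafFunctorCompSheafPushforwardContinuous (Opens.map f) (hcp f)
    CommRingCat.{u}).hom
  let h := ((pt x).sheafFiber (A := CommRingCat.{u})).map (rm f O_X O_Y c).invSharp
  have e1 : adj₂.homEquiv O_Y _ (gmap f O_X O_Y c x) = adj₁.homEquiv O_Y _ h ≫ α.app _ :=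
    homEquiv_conjugateEquiv_symm adj₁ adj₂ α O_Y _ h
  have e2 : adj₁.homEquiv O_Y _ h = (adjS f).homEquiv _ _
      (((pt x).skyscraperSheafAdjunction (A := CommRingCat.{u})).homEquiv _ _ h) := by
    simp only [adj₁, Adjunction.comp_homEquiv]
    rfl
  have e3 : ((pt x).skyscraperSheafAdjunction (A := CommRingCat.{u})).homEquiv _ _ h =
      (rm f O_X O_Y c).invSharp ≫
        ((pt x).skyscraperSheafAdjunction (A := CommRingCat.{u})).unit.app O_X := by
    rw [Adjunction.homEquiv_unit]
    exact (((pt x).skyscraperSheafAdjunction (A := CommRingCat.{u})).unit.naturality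
      (rm f O_X O_Y c).invSharp).symm
  have e4 : (adjS f).homEquiv _ _ ((rm f O_X O_Y c).invSharp ≫
        ((pt x).skyscraperSheafAdjunction (A := CommRingCat.{u})).unit.app O_X) =
      c ≫ ((Opens.map f).sheafPushforwardContinuous CommRingCat.{u}
        (Opens.grothendieckTopology Y) (Opens.grothendieckTopology X)).map
          (((pt x).skyscraperSheafAdjunction (A := CommRingCat.{u})).unit.app O_X) := by
    rw [Adjunction.homEquiv_naturality_right]
    congr 1
    exact Equiv.apply_symm_apply _ _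
  have e5 := e2.trans ((congrArg ((adjS f).homEquiv O_Y _) e3).trans e4)
  refine e1.trans ?_
  exact (congrArg (fun t => t ≫ α.app _) e5).trans (Category.comp_id _)

theorem unit_hom_app_π (U : Opens X) (hx : x ∈ U) :
    (((pt x).skyscraperSheafAdjunction (A := CommRingCat.{u})).unit.app O_X).hom.app (op U) ≫
        Pi.π (fun (_ : (pt x).fiber.obj U) => (pt x).presheafFiber.obj O_X.obj) ⟨⟨hx⟩⟩ =
      (pt x).toPresheafFiber U ⟨⟨hx⟩⟩ O_X.obj := by
  have h1 : ((pt x).skyscraperSheafAdjunction (A := CommRingCat.{u})).unit.app O_X =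
      ((pt x).skyscraperSheafAdjunction (A := CommRingCat.{u})).homEquiv O_X _ (𝟙 _) :=
    (Adjunction.homEquiv_id _ _).symm
  have h2 := (pt x).skyscraperSheafAdjunction_homEquiv_apply_hom (A := CommRingCat.{u}) (F := O_X)
    (𝟙 ((pt x).presheafFiber.obj O_X.obj))
  have h3 := (pt x).skyscraperPresheafHomEquiv_app_π (A := CommRingCat.{u}) (P := O_X.obj)
    (𝟙 ((pt x).presheafFiber.obj O_X.obj)) U ⟨⟨hx⟩⟩
  rw [Category.comp_id] at h3
  rw [h1]
  refine Eq.trans ?_ h3
  congr 2

theorem toPresheafFiber_gmap (V : Opens Y) (hx : f x ∈ V) :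
    (pt (f x)).toPresheafFiber V ⟨⟨hx⟩⟩ O_Y.obj ≫ gmap f O_X O_Y c x =
      c.hom.app (op V) ≫ (pt x).toPresheafFiber ((Opens.map f).obj V) ⟨⟨hx⟩⟩ O_X.obj := by
  have h1 := homEquiv_gmap f O_X O_Y c x
  have h2 : gmap f O_X O_Y c x =
      (((pt (f x)).skyscraperSheafAdjunction (A := CommRingCat.{u})).homEquiv O_Y _).symm
        (c ≫ ((Opens.map f).sheafPushforwardContinuous CommRingCat.{u}
          (Opens.grothendieckTopology Y) (Opens.grothendieckTopology X)).map
            (((pt x).skyscraperSheafAdjunction (A := CommRingCat.{u})).unit.app O_X)) :=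
    ((Equiv.symm_apply_eq _).2 h1.symm).symm
  have h3 := (pt (f x)).skyscraperSheafAdjunction_homEquiv_symm_apply (A := CommRingCat.{u})
    (c ≫ ((Opens.map f).sheafPushforwardContinuous CommRingCat.{u}
          (Opens.grothendieckTopology Y) (Opens.grothendieckTopology X)).map
            (((pt x).skyscraperSheafAdjunction (A := CommRingCat.{u})).unit.app O_X))
  have h4 := (pt (f x)).toPresheafFiber_skyscraperPresheafHomEquiv_symm (A := CommRingCat.{u})
    (c ≫ ((Opens.map f).sheafPushforwardContinuous CommRingCat.{u}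
          (Opens.grothendieckTopology Y) (Opens.grothendieckTopology X)).map
            (((pt x).skyscraperSheafAdjunction (A := CommRingCat.{u})).unit.app O_X)).hom V ⟨⟨hx⟩⟩
  have h5 := unit_hom_app_π O_X x ((Opens.map f).obj V) hx
  rw [h2]
  refine (congrArg (fun t => (pt (f x)).toPresheafFiber V ⟨⟨hx⟩⟩ O_Y.obj ≫ t) h3).trans
    (h4.trans ?_)
  rw [← h5]
  rfl

/-- the stalk map through `f⁻¹O_Y` agrees with the stalk map of the ringed spaces -/
theorem ρ_gmap (r' : ModSite.stalkRing (pt (f x)) O_Y) :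
    ρ x O_X ((gmap f O_X O_Y c x).hom r') =
      (stalkMapR f O_X O_Y c x).hom (ρ (f x) O_Y r') := by
  obtain ⟨V, ⟨⟨hV⟩⟩, r0, rfl⟩ := (pt (f x)).toPresheafFiber_jointly_surjective (P := O_Y.obj) r'
  have h1 := ConcreteCategory.congr_hom (toPresheafFiber_gmap f O_X O_Y c x V hV) r0
  have h2 : (gmap f O_X O_Y c x).hom ((pt (f x)).toPresheafFiber V ⟨⟨hV⟩⟩ O_Y.obj r0) =
      ModSite.germRing (pt x) ((Opens.map f).obj V) ⟨⟨hV⟩⟩ (cApp f O_X O_Y c V r0) := h1
  rw [h2, ρ_germ]
  have h3 : ρ (f x) O_Y ((pt (f x)).toPresheafFiber V ⟨⟨hV⟩⟩ O_Y.obj r0) =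
      gr (X := Y) O_Y.obj (f x) V hV r0 := ρ_germ (f x) O_Y V hV r0
  rw [h3, stalkMapR_gr]

/-- **flatness over `Y`**: the hypothesis of flatness of the stalk `F_x` over the stalk of `f⁻¹O_Y`
(through the stalk of `invSharp`) gives flatness of the topological stalk over `O_{Y, f x}` through
the stalk map -/
theorem flat_stalk_of_flat_invRing (F : ModSite.Mod O_X)
    (hF : @Module.Flat (ModSite.stalkRing (pt x) (rm f O_X O_Y c).invRing)
      (ModSite.stalkAb (pt x) F) _ _
      (Module.compHom (ModSite.stalkAb (pt x) F)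
        (((pt x).sheafFiber (A := CommRingCat.{u})).map (rm f O_X O_Y c).invSharp).hom)) :
    @Module.Flat (Rx (X := Y) O_Y.obj (f x)) (St (pm O_X F) x) _ _
      (Module.compHom (St (pm O_X F) x) (stalkMapR f O_X O_Y c x).hom) := by
  letI m1 : Module (ModSite.stalkRing (pt x) (rm f O_X O_Y c).invRing) (ModSite.stalkAb (pt x) F) :=
    Module.compHom (ModSite.stalkAb (pt x) F)
      (((pt x).sheafFiber (A := CommRingCat.{u})).map (rm f O_X O_Y c).invSharp).hom
  letI m2 : Module (Rx (X := Y) O_Y.obj (f x)) (St (pm O_X F) x) :=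
    Module.compHom (St (pm O_X F) x) (stalkMapR f O_X O_Y c x).hom
  haveI : Module.Flat (ModSite.stalkRing (pt x) (rm f O_X O_Y c).invRing)
    (ModSite.stalkAb (pt x) F) := hF
  let σ : ModSite.stalkRing (pt x) (rm f O_X O_Y c).invRing ≃+* Rx (X := Y) O_Y.obj (f x) :=
    ((ψ f O_X O_Y c x).symm.commRingCatIsoToRingEquiv).trans (ρ (f x) O_Y)
  refine Groth.Agent.Lib.Helper2.FlatOver.flat_of_semilinear_equiv σ (μ x O_X F) ?_
  intro r m
  change μ x O_X F ((((pt x).sheafFiber (A := CommRingCat.{u})).map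
    (rm f O_X O_Y c).invSharp).hom r • m) = (stalkMapR f O_X O_Y c x).hom (σ r) • μ x O_X F m
  rw [μ_smul]
  congr 1
  have h1 := ρ_gmap f O_X O_Y c x ((ψ f O_X O_Y c x).inv.hom r)
  refine Eq.trans ?_ h1
  congr 1
  change _ = (((pt x).sheafFiber (A := CommRingCat.{u})).map (rm f O_X O_Y c).invSharp).hom
    ((ψ f O_X O_Y c x).hom.hom ((ψ f O_X O_Y c x).inv.hom r))
  congr 1
  have := ConcreteCategory.congr_hom (ψ f O_X O_Y c x).inv_hom_id r
  exact this.symm

end Groth.Agent.R2.H30.RSInvStalk
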