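import Mathlib
import Groth.Prelude.Def_ModSite2
import Groth.Agent.R2.H30RSCoker
import Groth.Agent.R2.H30RSStalk

/-!
# helper30: local freeness of finitely presented modules on a ringed space
-/

set_option autoImplicit false
set_option linter.style.haveILetI false
set_option linter.unusedVariables false
set_option linter.unusedSectionVars false
universe u
open CategoryTheory CategoryTheory.Limits Opposite TopologicalSpace

namespace Groth.Agent.R2.H30.RSLocFree

open Groth.Agent.R2.H30.GenSite Groth.Agent.R2.H30.RSDict Groth.Agent.R2.H30.FreeSec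
  Groth.Agent.R2.H30.RSFree Groth.Agent.R2.H30.RSKer Groth.Agent.R2.H30.RSStalk

variable {X : TopCat.{u}} {O : Sheaf (Opens.grothendieckTopology X) CommRingCat.{u}}

section transition

variable {F : ModSite.Mod O} {U : Opens X} {I₀ I₁ Jt : Type u} [Fintype I₀] [Fintype I₁] [Fintype Jt]
  [DecidableEq Jt]

/-- a family `t` related to the generators of a presentation by matrices `A'`, `B` with `B A' = 1`
and `r A' = 0` is a basis -/
theorem isBasis_of_transition (P : LocPres F U I₀ I₁) (t : Jt → F.val.obj (op U))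
    (A' : I₀ → Jt → Γr O U) (hA' : ∀ i, P.s i = ∑ j, A' i j • t j)
    (B : Jt → I₀ → Γr O U) (hB : ∀ j, t j = ∑ i, B j i • P.s i)
    (H1 : ∀ j' j, ∑ i, B j' i * A' i j = if j' = j then 1 else 0)
    (H2 : ∀ k j, ∑ i, P.r k i * A' i j = 0) : IsBasis F U t := by
  refine ⟨?_, ?_⟩
  · intro V hV w y hy
    obtain ⟨W, hW, hyW, hmem⟩ := P.span V hV w y hy
    refine ⟨W, hW, hyW, ?_⟩
    refine Submodule.span_le.2 ?_ hmem
    rintro _ ⟨i, rfl⟩
    show res F (hW.trans hV) (P.s i) ∈ _
    rw [hA' i, res_sum]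
    refine Submodule.sum_mem _ fun j _ => ?_
    rw [res_smul]
    exact Submodule.smul_mem _ _ (Submodule.subset_span ⟨j, rfl⟩)
  · intro V hV a ha
    funext j₀
    apply resR_ext
    intro y hy
    -- the induced relation among the generators
    have hrel : ∑ i, (∑ j, a j * resR O hV (B j i)) • res F hV (P.s i) = 0 := by
      simp only [Finset.sum_smul, mul_smul]
      rw [Finset.sum_comm, ← ha]
      refine Finset.sum_congr rfl fun j _ => ?_
      rw [hB j, res_sum, Finset.smul_sum]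
      refine Finset.sum_congr rfl fun i _ => ?_
      rw [res_smul]
    obtain ⟨W, hW, hyW, hmem⟩ := P.relSpan V hV _ hrel y hy
    obtain ⟨b, hb⟩ := (Submodule.mem_span_range_iff_exists_fun _).1 hmem
    refine ⟨W, hW, hyW, ?_⟩
    have hWU : W ≤ U := hW.trans hV
    -- compute `res a j₀` in two ways
    have e1 : ∀ i, ∑ j, resR O hW (a j) * resR O hWU (B j i) = ∑ k, b k * resR O hWU (P.r k i) := by
      intro i
      have := congrFun hb i
      simp only [Finset.sum_apply, Pi.smul_apply, smul_eq_mul] at this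
      rw [this, resR_sum]
      refine Finset.sum_congr rfl fun j _ => ?_
      rw [resR_mul, resR_resR]
    have e2 : ∑ i, (∑ j, resR O hW (a j) * resR O hWU (B j i)) * resR O hWU (A' i j₀) =
        resR O hW (a j₀) := by
      simp only [Finset.sum_mul, mul_assoc]
      rw [Finset.sum_comm]
      simp only [← Finset.mul_sum]
      have h3 : ∀ j, ∑ i, resR O hWU (B j i) * resR O hWU (A' i j₀) = if j = j₀ then 1 else 0 := by
        intro j
        have := congrArg (resR O hWU) (H1 j j₀)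
        rw [resR_sum] at this
        simp only [resR_mul] at this
        rw [this]
        split_ifs
        · exact resR_one hWU
        · exact resR_zero hWU
      simp only [h3, mul_ite, mul_one, mul_zero, Finset.sum_ite_eq', Finset.mem_univ, if_true]
    have e3 : ∑ i, (∑ k, b k * resR O hWU (P.r k i)) * resR O hWU (A' i j₀) = 0 := by
      simp only [Finset.sum_mul, mul_assoc]
      rw [Finset.sum_comm]
      simp only [← Finset.mul_sum]
      have h4 : ∀ k, ∑ i, resR O hWU (P.r k i) * resR O hWU (A' i j₀) = 0 := by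
        intro k
        have := congrArg (resR O hWU) (H2 k j₀)
        rw [resR_sum, resR_zero] at this
        simp only [resR_mul] at this
        exact this
      simp only [h4, mul_zero, Finset.sum_const_zero]
    rw [← e2]
    simp only [e1]
    rw [e3]
    exact (resR_zero hW).symm

end transition

section stalk

variable (F : ModSite.Mod O) (x : X)

/-- finitely many sections of `F` with equal germs at `x` agree on a common neighbourhood -/
theorem exists_nbhd_res_eq {U : Opens X} (hx : x ∈ U) {ι : Type*} [Finite ι] (a b : ι → F.val.obj (op U))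
    (h : ∀ i, gx F x U hx (a i) = gx F x U hx (b i)) :
    ∃ (W : Opens X) (hW : W ≤ U), x ∈ W ∧ ∀ i, res F hW (a i) = res F hW (b i) := by
  have h1 := fun i => (gx_eq_iff F x hx (a i) (b i)).1 (h i)
  choose W hW hxW hres using h1
  obtain ⟨W', hxW', hW'⟩ := exists_nbhd_le x W hxW
  refine ⟨W' ⊓ U, inf_le_right, ⟨hxW', hx⟩, fun i => ?_⟩
  have := congrArg (res F (inf_le_left.trans (hW' i) : W' ⊓ U ≤ W i)) (hres i)
  rw [res_res, res_res] at this
  exact this

/-- finitely many functions with equal germs at `x` agree on a common neighbourhood -/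
theorem exists_nbhd_resR_eq {U : Opens X} (hx : x ∈ U) {ι : Type*} [Finite ι] (a b : ι → Γr O U)
    (h : ∀ i, gr O x U hx (a i) = gr O x U hx (b i)) :
    ∃ (W : Opens X) (hW : W ≤ U), x ∈ W ∧ ∀ i, resR O hW (a i) = resR O hW (b i) := by
  have h1 := fun i => (gr_eq_iff (O := O) x hx (a i) (b i)).1 (h i)
  choose W hW hxW hres using h1
  obtain ⟨W', hxW', hW'⟩ := exists_nbhd_le x W hxW
  refine ⟨W' ⊓ U, inf_le_right, ⟨hxW', hx⟩, fun i => ?_⟩
  have := congrArg (resR O (inf_le_left.trans (hW' i) : W' ⊓ U ≤ W i)) (hres i)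
  rw [resR_resR, resR_resR] at this
  exact this

/-- finitely many germs of sections have representatives on a common neighbourhood -/
theorem exists_nbhd_gx_eq {ι : Type*} [Finite ι] (m : ι → ModSite.stalkAb (pt x) F) :
    ∃ (U : Opens X) (hx : x ∈ U) (t : ι → F.val.obj (op U)), ∀ i, gx F x U hx (t i) = m i := by
  choose W hxW t ht using fun i => gx_surj F x (m i)
  obtain ⟨W', hxW', hW'⟩ := exists_nbhd_le x W hxW
  refine ⟨W', hxW', fun i => res F (hW' i) (t i), fun i => ?_⟩
  rw [gx_res, ht]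

/-- finitely many germs of functions have representatives on a common neighbourhood -/
theorem exists_nbhd_gr_eq {ι : Type*} [Finite ι] (m : ι → ModSite.stalkRing (pt x) O) :
    ∃ (U : Opens X) (hx : x ∈ U) (a : ι → Γr O U), ∀ i, gr O x U hx (a i) = m i := by
  choose W hxW t ht using fun i => gr_surj (O := O) x (m i)
  obtain ⟨W', hxW', hW'⟩ := exists_nbhd_le x W hxW
  refine ⟨W', hxW', fun i => resR O (hW' i) (t i), fun i => ?_⟩
  rw [gr_res, ht]

/-- a family of functions killing sections whose germs are linearly independent vanishes near `x` -/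
theorem exists_nbhd_resR_eq_zero {U : Opens X} (hx : x ∈ U) {Jt : Type*} [Fintype Jt]
    (t : Jt → F.val.obj (op U))
    (hli : LinearIndependent (ModSite.stalkRing (pt x) O) (fun j => gx F x U hx (t j)))
    {ι : Type*} [Finite ι] (c : ι → Jt → Γr O U) (hc : ∀ k, ∑ j, c k j • t j = 0) :
    ∃ (W : Opens X) (hW : W ≤ U), x ∈ W ∧ ∀ k j, resR O hW (c k j) = 0 := by
  have h1 : ∀ p : ι × Jt, gr O x U hx (c p.1 p.2) = gr O x U hx 0 := by
    rintro ⟨k, j⟩
    have h2 := congrArg (gx F x U hx) (hc k)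
    rw [gx_sum, gx_zero] at h2
    simp only [gx_smul] at h2
    rw [gr_zero]
    exact Fintype.linearIndependent_iff.1 hli (fun j => gr O x U hx (c k j)) h2 j
  haveI : Finite (ι × Jt) := inferInstance
  obtain ⟨W, hW, hxW, hres⟩ := exists_nbhd_resR_eq (O := O) x hx (fun p : ι × Jt => c p.1 p.2)
    (fun _ => 0) h1
  exact ⟨W, hW, hxW, fun k j => (hres (k, j)).trans (resR_zero hW)⟩

end stalk

section frame

variable (F : ModSite.Mod O)

/-- restricting a linear combination -/
theorem res_eq_sum_smul {U U' : Opens X} (h : U' ≤ U) {ι : Type*} [Fintype ι] {s : F.val.obj (op U)}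
    {a : ι → Γr O U} {t : ι → F.val.obj (op U)} (hs : s = ∑ j, a j • t j) :
    res F h s = ∑ j, resR O h (a j) • res F h (t j) := by
  rw [hs, res_sum]
  exact Finset.sum_congr rfl fun j _ => res_smul F h _ _

/-- a presentation together with a candidate basis and transition matrices -/
structure Frame (U : Opens X) (I₀ I₁ Jt : Type u) [Fintype I₀] [Fintype I₁] [Fintype Jt] where
  P : LocPres F U I₀ I₁
  t : Jt → F.val.obj (op U)
  A : I₀ → Jt → Γr O U
  B : Jt → I₀ → Γr O U
  hB : ∀ j, t j = ∑ i, B j i • P.s i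

variable {F} {U : Opens X} {I₀ I₁ Jt : Type u} [Fintype I₀] [Fintype I₁] [Fintype Jt]

/-- restriction of a frame -/
noncomputable def Frame.restrict (Φ : Frame F U I₀ I₁ Jt) {U' : Opens X} (h : U' ≤ U) :
    Frame F U' I₀ I₁ Jt where
  P := Φ.P.restrict h
  t := fun j => res F h (Φ.t j)
  A := fun i j => resR O h (Φ.A i j)
  B := fun j i => resR O h (Φ.B j i)
  hB := fun j => res_eq_sum_smul F h (Φ.hB j)

theorem Frame.restrict_hA (Φ : Frame F U I₀ I₁ Jt) {U' : Opens X} (h : U' ≤ U)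
    (hA : ∀ i, Φ.P.s i = ∑ j, Φ.A i j • Φ.t j) :
    ∀ i, (Φ.restrict h).P.s i = ∑ j, (Φ.restrict h).A i j • (Φ.restrict h).t j :=
  fun i => res_eq_sum_smul F h (hA i)

/-- the relation vectors attached to a frame -/
noncomputable def Frame.relVec [DecidableEq Jt] (Φ : Frame F U I₀ I₁ Jt) : Jt ⊕ I₁ → Jt → Γr O U :=
  Sum.elim (fun j' j => (if j' = j then 1 else 0) - ∑ i, Φ.B j' i * Φ.A i j)
    (fun k j => ∑ i, Φ.P.r k i * Φ.A i j)

theorem Frame.relVec_rel [DecidableEq Jt] (Φ : Frame F U I₀ I₁ Jt)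
    (hA : ∀ i, Φ.P.s i = ∑ j, Φ.A i j • Φ.t j) (q : Jt ⊕ I₁) :
    ∑ j, Φ.relVec q j • Φ.t j = 0 := by
  have key : ∀ (d : I₀ → Γr O U), ∑ j, (∑ i, d i * Φ.A i j) • Φ.t j = ∑ i, d i • Φ.P.s i := by
    intro d
    simp only [Finset.sum_smul, mul_smul]
    rw [Finset.sum_comm]
    refine Finset.sum_congr rfl fun i _ => ?_
    rw [hA i, Finset.smul_sum]
  rcases q with j' | k
  · show ∑ j, ((if j' = j then 1 else 0) - ∑ i, Φ.B j' i * Φ.A i j) • Φ.t j = 0
    simp only [sub_smul, Finset.sum_sub_distrib]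
    rw [key (fun i => Φ.B j' i), ← Φ.hB j']
    simp only [ite_smul, one_smul, zero_smul, Finset.sum_ite_eq, Finset.mem_univ, if_true, sub_self]
  · show ∑ j, (∑ i, Φ.P.r k i * Φ.A i j) • Φ.t j = 0
    rw [key (fun i => Φ.P.r k i)]
    exact Φ.P.rel k

/-- a frame whose relation vectors vanish gives a basis -/
theorem Frame.isBasis [DecidableEq Jt] (Φ : Frame F U I₀ I₁ Jt)
    (hA : ∀ i, Φ.P.s i = ∑ j, Φ.A i j • Φ.t j) (hvan : ∀ q j, Φ.relVec q j = 0) :
    IsBasis F U Φ.t := by
  refine isBasis_of_transition Φ.P Φ.t Φ.A hA Φ.B Φ.hB ?_ ?_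
  · intro j' j
    have := hvan (Sum.inl j') j
    exact (sub_eq_zero.1 this).symm
  · intro k j
    exact hvan (Sum.inr k) j

theorem Frame.relVec_restrict [DecidableEq Jt] (Φ : Frame F U I₀ I₁ Jt) {U' : Opens X} (h : U' ≤ U)
    (q : Jt ⊕ I₁) (j : Jt) : (Φ.restrict h).relVec q j = resR O h (Φ.relVec q j) := by
  rcases q with j' | k
  · show (if j' = j then 1 else 0) - ∑ i, resR O h (Φ.B j' i) * resR O h (Φ.A i j) =
      resR O h ((if j' = j then 1 else 0) - ∑ i, Φ.B j' i * Φ.A i j)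
    rw [resR_sub, resR_sum]
    simp only [resR_mul]
    congr 1
    split_ifs
    · exact (resR_one h).symm
    · exact (resR_zero h).symm
  · show ∑ i, resR O h (Φ.P.r k i) * resR O h (Φ.A i j) = resR O h (∑ i, Φ.P.r k i * Φ.A i j)
    rw [resR_sum]
    simp only [resR_mul]

end frame

section main

variable (F : ModSite.Mod O) (x : X)

/-- **a finitely presented module whose stalk at `x` is free is free near `x`** -/
theorem exists_isBasis_of_stalk_basis [SheafOfModules.IsFinitePresentation (R := ModSite.ringSh O) F]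
    {Jt : Type u} [Fintype Jt]
    (b : Module.Basis Jt (ModSite.stalkRing (pt x) O) (ModSite.stalkAb (pt x) F)) :
    ∃ (U : Opens X) (_ : x ∈ U) (t : Jt → F.val.obj (op U)), IsBasis F U t := by
  classical
  obtain ⟨U₁, hx₁, I₀, I₁, _, _, ⟨P⟩⟩ := (isFinitePresentation_iff (O := O) F).1 inferInstance x
  obtain ⟨Ut, hxt, t₀, ht₀⟩ := exists_nbhd_gx_eq F x (fun j => b j)
  obtain ⟨Ua, hxa, A₀, hA₀⟩ := exists_nbhd_gr_eq (O := O) x
    (fun p : I₀ × Jt => b.repr (gx F x U₁ hx₁ (P.s p.1)) p.2)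
  let U₂ : Opens X := U₁ ⊓ Ut ⊓ Ua
  have hx₂ : x ∈ U₂ := ⟨⟨hx₁, hxt⟩, hxa⟩
  have h21 : U₂ ≤ U₁ := inf_le_left.trans inf_le_left
  have h2t : U₂ ≤ Ut := inf_le_left.trans inf_le_right
  have h2a : U₂ ≤ Ua := inf_le_right
  -- the basis sections in terms of the generators
  have hB : ∀ j, ∃ (W : Opens X) (hW : W ≤ U₂) (_ : x ∈ W) (B : I₀ → Γr O W),
      res F (hW.trans h2t) (t₀ j) = ∑ i, B i • res F (hW.trans h21) (P.s i) := by
    intro j
    obtain ⟨W, hW, hxW, hmem⟩ := P.span U₂ h21 (res F h2t (t₀ j)) x hx₂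
    obtain ⟨B, hB⟩ := (Submodule.mem_span_range_iff_exists_fun _).1 hmem
    refine ⟨W, hW, hxW, B, ?_⟩
    rw [hB, res_res]
  choose Wb hWb hxWb B₀ hB₀ using hB
  obtain ⟨W', hxW', hW'⟩ := exists_nbhd_le x Wb hxWb
  let U₃ : Opens X := W' ⊓ U₂
  have hx₃ : x ∈ U₃ := ⟨hxW', hx₂⟩
  have h32 : U₃ ≤ U₂ := inf_le_right
  have h3b : ∀ j, U₃ ≤ Wb j := fun j => inf_le_left.trans (hW' j)
  let Φ₃ : Frame F U₃ I₀ I₁ Jt :=
    { P := P.restrict (h32.trans h21)
      t := fun j => res F (h32.trans h2t) (t₀ j)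
      A := fun i j => resR O (h32.trans h2a) (A₀ (i, j))
      B := fun j i => resR O (h3b j) (B₀ j i)
      hB := fun j => by
        have := res_eq_sum_smul F (h3b j) (hB₀ j)
        rw [res_res] at this
        refine this.trans (Finset.sum_congr rfl fun i _ => ?_)
        rw [res_res]
        rfl }
  -- germ facts
  have g1 : ∀ j, gx F x U₃ hx₃ (Φ₃.t j) = b j := by
    intro j
    show gx F x U₃ hx₃ (res F (h32.trans h2t) (t₀ j)) = b j
    rw [gx_res, ht₀]
  have g2 : ∀ i j, gr O x U₃ hx₃ (Φ₃.A i j) = b.repr (gx F x U₁ hx₁ (P.s i)) j := by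
    intro i j
    show gr O x U₃ hx₃ (resR O (h32.trans h2a) (A₀ (i, j))) = _
    rw [gr_res, hA₀]
  have g3 : ∀ i, gx F x U₃ hx₃ (Φ₃.P.s i) = gx F x U₃ hx₃ (∑ j, Φ₃.A i j • Φ₃.t j) := by
    intro i
    show gx F x U₃ hx₃ (res F (h32.trans h21) (P.s i)) = _
    rw [gx_res, gx_sum]
    simp only [gx_smul, g1, g2]
    exact (b.sum_repr _).symm
  obtain ⟨U₄, h43, hx₄, hE1⟩ := exists_nbhd_res_eq F x hx₃ (fun i => Φ₃.P.s i)
    (fun i => ∑ j, Φ₃.A i j • Φ₃.t j) g3
  let Φ₄ := Φ₃.restrict h43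
  have hA₄ : ∀ i, Φ₄.P.s i = ∑ j, Φ₄.A i j • Φ₄.t j := by
    intro i
    show res F h43 (Φ₃.P.s i) = ∑ j, resR O h43 (Φ₃.A i j) • res F h43 (Φ₃.t j)
    rw [hE1 i, res_sum]
    exact Finset.sum_congr rfl fun j _ => res_smul F h43 _ _
  have hli : LinearIndependent (ModSite.stalkRing (pt x) O) (fun j => gx F x U₄ hx₄ (Φ₄.t j)) := by
    have : (fun j => gx F x U₄ hx₄ (Φ₄.t j)) = ⇑b := by
      funext j
      show gx F x U₄ hx₄ (res F h43 (Φ₃.t j)) = b j
      rw [gx_res, g1]
    rw [this]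
    exact b.linearIndependent
  obtain ⟨U, hU4, hxU, hvan⟩ := exists_nbhd_resR_eq_zero F x hx₄ Φ₄.t hli Φ₄.relVec
    (Φ₄.relVec_rel hA₄)
  refine ⟨U, hxU, (Φ₄.restrict hU4).t, (Φ₄.restrict hU4).isBasis (Φ₄.restrict_hA hU4 hA₄) ?_⟩
  intro q j
  rw [Frame.relVec_restrict]
  exact hvan q j

end main

end Groth.Agent.R2.H30.RSLocFree
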