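import Mathlib
import Groth.Prelude.Def_ModSite2
import Groth.Agent.R2.H30RSSky
import Groth.Agent.R2.H30RSPullGen
set_option backward.isDefEq.respectTransparency.types false

/-!
# helper30: the stalk of a pullback on germs of unit sections

`stalkPullbackIso_gm_η`: under `(f^*G)_x ≅ O_{X,x} ⊗ G_{f x}`, the germ at `x` of `η(s)` (`η` the
unit `G ⟶ f_* f^* G`, `s ∈ G(V)`) corresponds to `1 ⊗ s_{f x}`.
-/

set_option autoImplicit false
set_option linter.style.haveILetI false
universe u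
open CategoryTheory CategoryTheory.Limits TopCat TopologicalSpace Opposite TensorProduct ChangeOfRings

namespace Groth.Agent.R2.H30.RSPullGerm

open Groth.Agent.R2.H30.RSSky Groth.Agent.R2.H30.FlatStalkTop Groth.Agent.R2.H30.RSPullGen
open Groth.Agent.Lib.Helper1.StalkTensor Groth.Agent.Lib.Helper1.Sky

variable {X Y : TopCat.{u}} (f : X ⟶ Y)
  (O_X : Sheaf (Opens.grothendieckTopology X) CommRingCat.{u})
  (O_Y : Sheaf (Opens.grothendieckTopology Y) CommRingCat.{u})
  (c : O_Y ⟶ ((TopologicalSpace.Opens.map f).sheafPushforwardContinuous CommRingCat.{u}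
      (Opens.grothendieckTopology Y) (Opens.grothendieckTopology X)).obj O_X)
  (x : X) (G : ModSite.Mod O_Y)

/-- the first adjunction used to define `stalkPullbackIso` -/
noncomputable abbrev adj1 :
    (rm f O_X O_Y c).pull ⋙ stalkFun O_X x ⊣ resStalk f O_X O_Y c x ⋙ skyFun O_Y (f x) :=
  (((rm f O_X O_Y c).adj).comp (stalkSkyAdj O_X x)).ofNatIsoRight (pushSkyNatIso f O_X O_Y c x)

/-- the second adjunction used to define `stalkPullbackIso` -/
noncomputable abbrev adj2 :
    stalkFun O_Y (f x) ⋙ ModuleCat.extendScalars.{u, u, u} (stalkMapR f O_X O_Y c x).hom ⊣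
      resStalk f O_X O_Y c x ⋙ skyFun O_Y (f x) :=
  (stalkSkyAdj O_Y (f x)).comp
    (ModuleCat.extendRestrictScalarsAdj.{u, u, u} (stalkMapR f O_X O_Y c x).hom)

theorem stalkPullbackIso_eq :
    stalkPullbackIso f O_X O_Y c x =
      Adjunction.leftAdjointUniq (adj1 f O_X O_Y c x) (adj2 f O_X O_Y c x) := rfl

/-- evaluation of `adj1.homEquiv h` on a section -/
theorem adj1_homEquiv_ev (N : ModuleCat.{u} (Ox O_X x))
    (h : ((rm f O_X O_Y c).pull ⋙ stalkFun O_X x).obj G ⟶ N) (V : Opens Y) (hy : f x ∈ V)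
    (s : G.val.obj (op V)) :
    SkyT.ev (X := Y) O_Y.obj V
      ((((adj1 f O_X O_Y c x).homEquiv G N h).val.app (op V)).hom s) hy =
      h.hom (gm (toPM O_X ((rm f O_X O_Y c).pull.obj G)) x (pre f V) hy
        (pushApp f O_X O_Y c (η f O_X O_Y c G) V s)) := by
  rw [Adjunction.homEquiv_ofNatIsoRight_apply, Adjunction.comp_homEquiv]
  rfl

/-- evaluation of the unit of `adj2` on a section -/
theorem adj2_unit_ev (V : Opens Y) (hy : f x ∈ V) (s : G.val.obj (op V)) :
    SkyT.ev (X := Y) O_Y.obj V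
      ((((adj2 f O_X O_Y c x).unit.app G).val.app (op V)).hom s) hy =
      (1 : Ox O_X x) ⊗ₜ[Ox O_Y (f x), (stalkMapR f O_X O_Y c x).hom]
        gm (toPM O_Y G) (f x) V hy s := by
  rw [Adjunction.comp_unit_app]
  rfl

/-- **the stalk of the pullback on germs of unit sections** -/
theorem stalkPullbackIso_gm_η (V : Opens Y) (hy : f x ∈ V) (s : G.val.obj (op V)) :
    ((stalkPullbackIso f O_X O_Y c x).hom.app G).hom
      (gm (toPM O_X ((rm f O_X O_Y c).pull.obj G)) x (pre f V) hy
        (pushApp f O_X O_Y c (η f O_X O_Y c G) V s)) =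
      (1 : Ox O_X x) ⊗ₜ[Ox O_Y (f x), (stalkMapR f O_X O_Y c x).hom]
        gm (toPM O_Y G) (f x) V hy s := by
  have h := Adjunction.homEquiv_leftAdjointUniq_hom_app (adj1 f O_X O_Y c x) (adj2 f O_X O_Y c x) G
  have h1 := adj1_homEquiv_ev f O_X O_Y c x G _
    ((Adjunction.leftAdjointUniq (adj1 f O_X O_Y c x) (adj2 f O_X O_Y c x)).hom.app G) V hy s
  rw [h] at h1
  rw [adj2_unit_ev] at h1
  exact h1.symm

end Groth.Agent.R2.H30.RSPullGerm
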