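import Mathlib

/-!
# helper30: an abstract bijectivity criterion for comparison maps `P → PA ⊗ PB` under base change
-/

set_option autoImplicit false
universe u
open TensorProduct

namespace Groth.Agent.R2.H30.TensorBC

variable {R S : Type u} [CommRing R] [CommRing S] [Algebra R S]
  {M N MN : Type u} [AddCommGroup M] [AddCommGroup N] [AddCommGroup MN]
  [Module R M] [Module R N] [Module R MN]
  {P T PA PB : Type u} [AddCommGroup P] [AddCommGroup T] [AddCommGroup PA] [AddCommGroup PB]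
  [Module S P] [Module S T] [Module S PA] [Module S PB]

/-- Suppose `P ≅ S ⊗ MN`, `MN ≅ M ⊗ N`, `PA ≅ S ⊗ M`, `PB ≅ S ⊗ N`, `T ≅ PA ⊗_S PB`, and `θ : P → T`
is `S`-linear and sends the element corresponding to `1 ⊗ (m ⊗ n)` to the element corresponding to
`(1 ⊗ m) ⊗ (1 ⊗ n)`. Then `θ` is bijective. -/
theorem bijective_of_generators (iP : P ≃ₗ[S] S ⊗[R] MN) (tMN : MN ≃ₗ[R] M ⊗[R] N)
    (iA : PA ≃ₗ[S] S ⊗[R] M) (iB : PB ≃ₗ[S] S ⊗[R] N) (tT : T ≃ₗ[S] PA ⊗[S] PB)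
    (θ : P →ₗ[S] T)
    (h : ∀ (m : M) (n : N), ∃ (g : P) (mn : MN) (pa : PA) (pb : PB),
      iP g = 1 ⊗ₜ[R] mn ∧ tMN mn = m ⊗ₜ[R] n ∧ iA pa = 1 ⊗ₜ[R] m ∧ iB pb = 1 ⊗ₜ[R] n ∧
        tT (θ g) = pa ⊗ₜ[S] pb) :
    Function.Bijective θ := by
  let E₁ : P ≃ₗ[S] S ⊗[R] (M ⊗[R] N) := iP ≪≫ₗ (LinearEquiv.baseChange R S MN (M ⊗[R] N) tMN)
  let E₂ : T ≃ₗ[S] (S ⊗[R] M) ⊗[S] (S ⊗[R] N) := tT ≪≫ₗ TensorProduct.congr iA iB
  let Δ := TensorProduct.AlgebraTensorModule.distribBaseChange R S M N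
  have key1 : ∀ mn : M ⊗[R] N, E₂ (θ (E₁.symm ((1 : S) ⊗ₜ[R] mn))) = Δ ((1 : S) ⊗ₜ[R] mn) := by
    intro mn
    induction mn using TensorProduct.induction_on with
    | zero => simp
    | add a b ha hb =>
      rw [TensorProduct.tmul_add, map_add, map_add, map_add, map_add, ha, hb]
    | tmul m n =>
      obtain ⟨g, mn', pa, pb, h1, h2, h3, h4, h5⟩ := h m n
      have e1 : E₁ g = (1 : S) ⊗ₜ[R] (m ⊗ₜ[R] n) := by
        change LinearEquiv.baseChange R S MN (M ⊗[R] N) tMN (iP g) = _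
        rw [h1]
        change (1 : S) ⊗ₜ[R] tMN mn' = _
        rw [h2]
      rw [← e1, LinearEquiv.symm_apply_apply]
      change TensorProduct.congr iA iB (tT (θ g)) = _
      rw [h5, TensorProduct.congr_tmul, h3, h4, e1]
      exact (TensorProduct.AlgebraTensorModule.distribBaseChange_tmul (R := R) (A := S) m n
        (1 : S)).symm
  have key : ∀ w : S ⊗[R] (M ⊗[R] N), E₂ (θ (E₁.symm w)) = Δ w := by
    intro w
    induction w using TensorProduct.induction_on with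
    | zero => simp
    | add a b ha hb => rw [map_add, map_add, map_add, map_add, ha, hb]
    | tmul s mn =>
      have hs : s ⊗ₜ[R] mn = s • ((1 : S) ⊗ₜ[R] mn) := by
        rw [TensorProduct.smul_tmul', smul_eq_mul, mul_one]
      rw [hs, map_smul, map_smul, map_smul, map_smul, key1]
  have hθ : (θ : P → T) = E₂.symm ∘ Δ ∘ E₁ := by
    funext z
    have := key (E₁ z)
    rw [LinearEquiv.symm_apply_apply] at this
    change θ z = E₂.symm (Δ (E₁ z))
    rw [← this, LinearEquiv.symm_apply_apply]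
  rw [hθ]
  exact E₂.symm.bijective.comp (Δ.bijective.comp E₁.bijective)

end Groth.Agent.R2.H30.TensorBC
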