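import Mathlib
import Groth.Prelude.Def_ModSite2
import Groth.Agent.R2.H30RSTensorSec
import Groth.Agent.R2.H30RSPullGerm
import Groth.Agent.R2.H30RSClosedEmb
import Groth.Agent.R2.H30TensorBC
set_option backward.isDefEq.respectTransparency.types false

/-!
# helper30: the comparison `f^*(A ⊗ B) ⟶ f^*A ⊗ f^*B` on a ringed space and its stalks
-/

set_option autoImplicit false
set_option linter.style.haveILetI false
universe u
open CategoryTheory CategoryTheory.Limits TopCat TopologicalSpace Opposite TensorProduct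
open MonoidalCategory ChangeOfRings

namespace Groth.Agent.R2.H30.RSPullTensIso

open Groth.Agent.R2.H30.RSSky Groth.Agent.R2.H30.FlatStalkTop Groth.Agent.R2.H30.RSPullGen
open Groth.Agent.R2.H30.RSTensorSec Groth.Agent.R2.H30.RSPullGerm Groth.Agent.R2.H30.RSDict
open Groth.Agent.Lib.Helper1.StalkTensor Groth.Agent.Lib.Helper1.Sky
open Groth.Agent.R2.H30.RSClosedEmb

variable {X Y : TopCat.{u}} (f : X ⟶ Y)
  (O_X : Sheaf (Opens.grothendieckTopology X) CommRingCat.{u})
  (O_Y : Sheaf (Opens.grothendieckTopology Y) CommRingCat.{u})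
  (c : O_Y ⟶ ((TopologicalSpace.Opens.map f).sheafPushforwardContinuous CommRingCat.{u}
      (Opens.grothendieckTopology Y) (Opens.grothendieckTopology X)).obj O_X)
  (A B : ModSite.Mod O_Y)

/-- `f^*A` -/
noncomputable abbrev pA : ModSite.Mod O_X := (rm f O_X O_Y c).pull.obj A

/-- `f^*A ⊗ f^*B` -/
noncomputable abbrev Q : ModSite.Mod O_X :=
  tens O_X ((rm f O_X O_Y c).pull.obj A) ((rm f O_X O_Y c).pull.obj B)

/-- the unit on sections -/
noncomputable abbrev ηs (G : ModSite.Mod O_Y) (V : Opens Y) (s : G.val.obj (op V)) :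
    ((rm f O_X O_Y c).pull.obj G).val.obj (op (pre f V)) :=
  pushApp f O_X O_Y c (η f O_X O_Y c G) V s

/-- the bilinear family `(a, b) ↦ η a ⊗ η b` -/
noncomputable def βθ : BilinFam O_Y A B ((rm f O_X O_Y c).push.obj (Q f O_X O_Y c A B)) where
  f V a b := up f O_X O_Y c (Q f O_X O_Y c A B) V
    (ts O_X _ _ (pre f V) (ηs f O_X O_Y c A V a) (ηs f O_X O_Y c B V b))
  add_left V a a' b := by
    simp only [ηs]
    rw [pushApp_add, ts_add_left, up_add]
  add_right V a b b' := by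
    simp only [ηs]
    rw [pushApp_add, ts_add_right, up_add]
  smul_left V r a b := by
    simp only [ηs]
    rw [pushApp_smul, ts_smul_left, up_smul]
  smul_right V r a b := by
    simp only [ηs]
    rw [pushApp_smul, ts_smul_right, up_smul]
  res {V V'} h a b := by
    simp only [ηs]
    rw [← up_res, ts_res, ← pushApp_res, ← pushApp_res]

/-- the adjunct of the comparison map -/
noncomputable def θ' : tens O_Y A B ⟶ (rm f O_X O_Y c).push.obj (Q f O_X O_Y c A B) :=
  (βθ f O_X O_Y c A B).desc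

/-- the comparison map `f^*(A ⊗ B) ⟶ f^*A ⊗ f^*B` -/
noncomputable def θ : (rm f O_X O_Y c).pull.obj (tens O_Y A B) ⟶ Q f O_X O_Y c A B :=
  ((rm f O_X O_Y c).adj.homEquiv _ _).symm (θ' f O_X O_Y c A B)

theorem θ_ηs_ts (V : Opens Y) (a : A.val.obj (op V)) (b : B.val.obj (op V)) :
    ((θ f O_X O_Y c A B).val.app (op (pre f V))).hom
        (ηs f O_X O_Y c (tens O_Y A B) V (ts O_Y A B V a b)) =
      ts O_X _ _ (pre f V) (ηs f O_X O_Y c A V a) (ηs f O_X O_Y c B V b) := by
  have h : η f O_X O_Y c (tens O_Y A B) ≫ (rm f O_X O_Y c).push.map (θ f O_X O_Y c A B) =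
      θ' f O_X O_Y c A B := by
    have := ((rm f O_X O_Y c).adj.homEquiv _ _).apply_symm_apply (θ' f O_X O_Y c A B)
    rw [Adjunction.homEquiv_unit] at this
    exact this
  have h2 := congrArg (fun φ => (φ.val.app (op V)).hom (ts O_Y A B V a b)) h
  exact h2.trans ((βθ f O_X O_Y c A B).desc_ts V a b)

/-- the comparison map is bijective on stalks -/
theorem sm_θ_bijective (x : X) :
    Function.Bijective (smₗ (toPMMap O_X (θ f O_X O_Y c A B)) x) := by
  letI : Algebra (Ox O_Y (f x)) (Ox O_X x) := (stalkMapR f O_X O_Y c x).hom.toAlgebra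
  refine TensorBC.bijective_of_generators (R := Ox O_Y (f x)) (S := Ox O_X x)
    (M := St (toPM O_Y A) (f x)) (N := St (toPM O_Y B) (f x))
    (MN := St (toPM O_Y (tens O_Y A B)) (f x))
    ((stalkPullbackIso f O_X O_Y c x).app (tens O_Y A B)).toLinearEquiv
    (stalkTens O_Y A B (f x))
    ((stalkPullbackIso f O_X O_Y c x).app A).toLinearEquiv
    ((stalkPullbackIso f O_X O_Y c x).app B).toLinearEquiv
    (stalkTens O_X ((rm f O_X O_Y c).pull.obj A) ((rm f O_X O_Y c).pull.obj B) x)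
    (smₗ (toPMMap O_X (θ f O_X O_Y c A B)) x) ?_
  intro m n
  obtain ⟨V, hV, a, b, rfl, rfl⟩ := exists_rep₂ m n
  refine ⟨gm (toPM O_X ((rm f O_X O_Y c).pull.obj (tens O_Y A B))) x (pre f V) hV
      (ηs f O_X O_Y c (tens O_Y A B) V (ts O_Y A B V a b)),
    gm (toPM O_Y (tens O_Y A B)) (f x) V hV (ts O_Y A B V a b),
    gm (toPM O_X ((rm f O_X O_Y c).pull.obj A)) x (pre f V) hV (ηs f O_X O_Y c A V a),
    gm (toPM O_X ((rm f O_X O_Y c).pull.obj B)) x (pre f V) hV (ηs f O_X O_Y c B V b),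
    ?_, ?_, ?_, ?_, ?_⟩
  · exact stalkPullbackIso_gm_η f O_X O_Y c x (tens O_Y A B) V hV (ts O_Y A B V a b)
  · exact stalkTens_gm_ts O_Y (f x) V hV a b
  · exact stalkPullbackIso_gm_η f O_X O_Y c x A V hV a
  · exact stalkPullbackIso_gm_η f O_X O_Y c x B V hV b
  · have h := θ_ηs_ts f O_X O_Y c A B V a b
    have h2 := stalkTens_gm_ts O_X (A := (rm f O_X O_Y c).pull.obj A)
      (B := (rm f O_X O_Y c).pull.obj B) x (pre f V) hV (ηs f O_X O_Y c A V a)
      (ηs f O_X O_Y c B V b)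
    have h3 : smₗ (toPMMap O_X (θ f O_X O_Y c A B)) x
        (gm (toPM O_X ((rm f O_X O_Y c).pull.obj (tens O_Y A B))) x (pre f V) hV
          (ηs f O_X O_Y c (tens O_Y A B) V (ts O_Y A B V a b))) =
        gm (toPM O_X (Q f O_X O_Y c A B)) x (pre f V) hV
          (ts O_X _ _ (pre f V) (ηs f O_X O_Y c A V a) (ηs f O_X O_Y c B V b)) :=
      (sm_gm (toPMMap O_X (θ f O_X O_Y c A B)) hV _).trans
        (congrArg (gm (toPM O_X (Q f O_X O_Y c A B)) x (pre f V) hV) h)
    exact (congrArg (stalkTens O_X ((rm f O_X O_Y c).pull.obj A)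
      ((rm f O_X O_Y c).pull.obj B) x) h3).trans h2

section iso

variable {O_X} in
/-- a morphism of sheaves of modules on a ringed space which is bijective on stalks is an
isomorphism -/
theorem isIso_of_sm_bijective {M N : ModSite.Mod O_X} (φ : M ⟶ N)
    (h : ∀ x : X, Function.Bijective (sm (toPMMap O_X φ) x)) : IsIso φ := by
  haveI : Mono φ := FlatStalkTop.mono_of_sm_injective φ (fun x => (h x).1)
  haveI : Epi φ := by
    rw [epi_iff]
    intro V t y hy
    obtain ⟨z, hz⟩ := (h y).2 (gm (toPM O_X N) y V hy t)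
    obtain ⟨W, hW, a, rfl⟩ := exists_gm_eq z
    rw [sm_gm] at hz
    obtain ⟨W', hyW', iU, iV, hres⟩ := gm_eq (P := toPM O_X N) hW hy _ _ hz
    refine ⟨W', iV.le, hyW', RSDict.res M iU.le a, ?_⟩
    rw [app_res]
    exact hres
  exact isIso_of_mono_of_epi φ

/-- the comparison map `f^*(A ⊗ B) ⟶ f^*A ⊗ f^*B` is an isomorphism -/
instance isIso_θ : IsIso (θ f O_X O_Y c A B) :=
  isIso_of_sm_bijective (θ f O_X O_Y c A B) (fun x => sm_θ_bijective f O_X O_Y c A B x)

/-- pullback is monoidal on objects: `f^*(A ⊗ B) ≅ f^*A ⊗ f^*B` -/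
noncomputable def pullTensIso : (rm f O_X O_Y c).pull.obj (tens O_Y A B) ≅
    tens O_X ((rm f O_X O_Y c).pull.obj A) ((rm f O_X O_Y c).pull.obj B) :=
  asIso (θ f O_X O_Y c A B)

end iso

end Groth.Agent.R2.H30.RSPullTensIso
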