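import Mathlib
import Groth.Prelude.Def_ModSite2
import Groth.Agent.R2.H30RSPullTensIso
import Groth.Agent.Lib.Helper21ModTensor7
set_option backward.isDefEq.respectTransparency.types false

/-!
# helper30: the pullback of an invertible module along a morphism of ringed spaces is invertible
-/

set_option autoImplicit false
set_option linter.style.haveILetI false
universe u
open CategoryTheory CategoryTheory.Limits TopCat TopologicalSpace Opposite

namespace Groth.Agent.R2.H30.RSPullInv

open Groth.Agent.R2.H30.RSSky Groth.Agent.R2.H30.RSTensorSec Groth.Agent.R2.H30.RSPullTensIso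
open Groth.Agent.Lib.Helper21.ModTensor3 Groth.Agent.Lib.Helper21.ModTensor5
open Groth.Agent.Lib.Helper21.ModTensor6 Groth.Agent.Lib.Helper21.ModTensor7

instance opensMap_final {X Y : TopCat.{u}} (f : X ⟶ Y) : (Opens.map f).Final := by
  constructor
  intro U
  let T : StructuredArrow U (Opens.map f) :=
    StructuredArrow.mk (Y := (⊤ : Opens Y)) (homOfLE (fun _ _ => trivial) : U ⟶ (Opens.map f).obj ⊤)
  have hT : IsTerminal T := IsTerminal.ofUniqueHom
    (fun V => StructuredArrow.homMk (homOfLE le_top) (Subsingleton.elim _ _))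
    (fun V m => by
      apply StructuredArrow.ext
      exact Subsingleton.elim _ _)
  have : HasTerminal (StructuredArrow U (Opens.map f)) := hT.hasTerminal
  exact isConnected_of_hasTerminal _

section one

variable {C : Type u} [SmallCategory C] {J : GrothendieckTopology C} (O : Sheaf J CommRingCat.{u})

/-- a module with a tensor inverse is invertible -/
theorem isEquivalence_tL_of_iso (A B : ModSite.Mod O)
    (e : ((ModSite.tensorBi O).obj A).obj B ≅ ModSite.unit O) :
    ((ModSite.tensorBi O).obj A).IsEquivalence := by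
  let e2 : tL O B ⋙ tL O A ≅ 𝟭 (ModSite.Mod O) :=
    (tLTensorIso O A B).symm ≪≫ (ModSite.tensorBi O).mapIso e ≪≫ tLUnitIso O
  let e3 : tL O A ⋙ tL O B ≅ 𝟭 (ModSite.Mod O) :=
    (tLTensorIso O B A).symm ≪≫ (ModSite.tensorBi O).mapIso (brdApp O B A ≪≫ e) ≪≫ tLUnitIso O
  exact (CategoryTheory.Equivalence.mk (tL O A) (tL O B) e3.symm e2).isEquivalence_functor

end one

variable {X Y : TopCat.{u}} (f : X ⟶ Y)
  (O_X : Sheaf (Opens.grothendieckTopology X) CommRingCat.{u})
  (O_Y : Sheaf (Opens.grothendieckTopology Y) CommRingCat.{u})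
  (c : O_Y ⟶ ((TopologicalSpace.Opens.map f).sheafPushforwardContinuous CommRingCat.{u}
      (Opens.grothendieckTopology Y) (Opens.grothendieckTopology X)).obj O_X)

/-- the pullback of the structure sheaf is the structure sheaf -/
noncomputable def pullUnitIso : (rm f O_X O_Y c).pull.obj (ModSite.unit O_Y) ≅ ModSite.unit O_X :=
  haveI : (rm f O_X O_Y c).fn.Final := opensMap_final f
  asIso (SheafOfModules.pullbackObjUnitToUnit.{u} (rm f O_X O_Y c).sharpR)

/-- **the pullback of an invertible module is invertible** -/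
theorem isEquivalence_tL_pull (L : ModSite.Mod O_Y)
    (hL : ((ModSite.tensorBi O_Y).obj L).IsEquivalence) :
    ((ModSite.tensorBi O_X).obj ((rm f O_X O_Y c).pull.obj L)).IsEquivalence := by
  haveI := hL
  let L' : ModSite.Mod O_Y := ((ModSite.tensorBi O_Y).obj L).objPreimage (ModSite.unit O_Y)
  let e : ((ModSite.tensorBi O_Y).obj L).obj L' ≅ ModSite.unit O_Y :=
    ((ModSite.tensorBi O_Y).obj L).objObjPreimageIso (ModSite.unit O_Y)
  let e' : ((ModSite.tensorBi O_X).obj ((rm f O_X O_Y c).pull.obj L)).obj
      ((rm f O_X O_Y c).pull.obj L') ≅ ModSite.unit O_X :=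
    (pullTensIso f O_X O_Y c L L').symm ≪≫ (rm f O_X O_Y c).pull.mapIso e ≪≫
      pullUnitIso f O_X O_Y c
  exact isEquivalence_tL_of_iso O_X _ _ e'

end Groth.Agent.R2.H30.RSPullInv
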