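import Mathlib
import Groth.Prelude.Def_ModSite2
import Groth.Agent.R2.H30RSSky
import Groth.Agent.R2.H30RSInvStalk
import Groth.Agent.Lib.Helper21ModTensor5
set_option backward.isDefEq.respectTransparency.types false

/-!
# helper30: exactness of `G ↦ f^*G ⊗ F` for `F` flat over `Y` (ringed spaces)
-/

set_option autoImplicit false
set_option linter.style.haveILetI false
universe u
open CategoryTheory CategoryTheory.Limits TopCat TopologicalSpace Opposite TensorProduct

namespace Groth.Agent.R2.H30.RSPullTensor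

open Groth.Agent.R2.H30.RSSky Groth.Agent.R2.H30.StalkCmp Groth.Agent.R2.H30.FlatStalkTop
open Groth.Agent.Lib.Helper1.StalkTensor

section algebra

variable {R A : Type u} [CommRing R] [CommRing A] [Algebra R A]
  {M : Type u} [AddCommGroup M] [Module A M] [Module R M] [IsScalarTower R A M]
  {N' N : Type u} [AddCommGroup N'] [AddCommGroup N] [Module R N'] [Module R N]

/-- `(A ⊗[R] N) ⊗[A] M ≃ M ⊗[R] N` -/
noncomputable def Θ (N : Type u) [AddCommGroup N] [Module R N] :
    (A ⊗[R] N) ⊗[A] M ≃ₗ[A] M ⊗[R] N :=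
  (TensorProduct.comm A (A ⊗[R] N) M) ≪≫ₗ
    TensorProduct.AlgebraTensorModule.cancelBaseChange R A A M N

theorem Θ_tmul (a : A) (n : N) (m : M) :
    Θ (R := R) (A := A) (M := M) N ((a ⊗ₜ[R] n) ⊗ₜ[A] m) = (a • m) ⊗ₜ[R] n := by
  simp [Θ]

theorem Θ_nat (ℓ : N' →ₗ[R] N) (z : (A ⊗[R] N') ⊗[A] M) :
    Θ (R := R) (A := A) (M := M) N (LinearMap.rTensor M (LinearMap.baseChange A ℓ) z) =
      LinearMap.lTensor M ℓ (Θ (R := R) (A := A) (M := M) N' z) := by
  induction z using TensorProduct.induction_on with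
  | zero => simp
  | add a b ha hb => rw [map_add, map_add, map_add, map_add, ha, hb]
  | tmul y m =>
    induction y using TensorProduct.induction_on with
    | zero => simp
    | add a b ha hb =>
      rw [TensorProduct.add_tmul, map_add, map_add, map_add, map_add, ha, hb]
    | tmul a n =>
      rw [LinearMap.rTensor_tmul, LinearMap.baseChange_tmul, Θ_tmul, Θ_tmul, LinearMap.lTensor_tmul]

theorem rTensor_baseChange_injective [Module.Flat R M] (ℓ : N' →ₗ[R] N)
    (hℓ : Function.Injective ℓ) :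
    Function.Injective (LinearMap.rTensor M (LinearMap.baseChange A ℓ)) := by
  intro a b hab
  apply (Θ (R := R) (A := A) (M := M) N').injective
  apply Module.Flat.lTensor_preserves_injective_linearMap (M := M) ℓ hℓ
  rw [← Θ_nat, ← Θ_nat, hab]

end algebra

section conj

variable {A : Type u} [CommRing A] {P' P Q' Q M : Type u} [AddCommGroup P'] [AddCommGroup P]
  [AddCommGroup Q'] [AddCommGroup Q] [AddCommGroup M] [Module A P'] [Module A P] [Module A Q']
  [Module A Q] [Module A M]

theorem rTensor_injective_of_conj (k : P' →ₗ[A] P) (b : Q' →ₗ[A] Q) (e' : P' ≃ₗ[A] Q')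
    (e : P ≃ₗ[A] Q) (h : e.toLinearMap ∘ₗ k = b ∘ₗ e'.toLinearMap)
    (hb : Function.Injective (LinearMap.rTensor M b)) :
    Function.Injective (LinearMap.rTensor M k) := by
  have h1 : LinearMap.rTensor M e.toLinearMap ∘ₗ LinearMap.rTensor M k =
      LinearMap.rTensor M b ∘ₗ LinearMap.rTensor M e'.toLinearMap := by
    rw [← LinearMap.rTensor_comp, ← LinearMap.rTensor_comp, h]
  have h2 : Function.Injective (LinearMap.rTensor M b ∘ₗ LinearMap.rTensor M e'.toLinearMap) := by
    rw [LinearMap.coe_comp]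
    exact hb.comp (LinearEquiv.rTensor M e').injective
  rw [← h1, LinearMap.coe_comp] at h2
  exact Function.Injective.of_comp h2

end conj

section sheaf

variable {X Y : TopCat.{u}} (f : X ⟶ Y)
  (O_X : Sheaf (Opens.grothendieckTopology X) CommRingCat.{u})
  (O_Y : Sheaf (Opens.grothendieckTopology Y) CommRingCat.{u})
  (c : O_Y ⟶ ((TopologicalSpace.Opens.map f).sheafPushforwardContinuous CommRingCat.{u}
      (Opens.grothendieckTopology Y) (Opens.grothendieckTopology X)).obj O_X)

/-- for `F` flat over `Y` (stalkwise), `G ↦ f^*G ⊗ F` preserves monomorphisms -/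
theorem mono_tensor_pull (F : ModSite.Mod O_X)
    (hF : ∀ x : X, @Module.Flat (Rx (X := Y) O_Y.obj (f x)) (St (toPM O_X F) x) _ _
      (Module.compHom (St (toPM O_X F) x) (stalkMapR f O_X O_Y c x).hom))
    {G' G : ModSite.Mod O_Y} (φ : G' ⟶ G) [Mono φ] :
    Mono (((ModSite.tensorBi O_X).map ((rm f O_X O_Y c).pull.map φ)).app F) := by
  rw [FlatStalkTop.tensorBi_map_app]
  apply FlatStalkTop.mono_shX_map_of_sm_injective
  intro x a b hab
  have h2 := congrArg (α (toPM O_X ((rm f O_X O_Y c).pull.obj G)) (toPM O_X F) x) hab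
  rw [α_nat_left, α_nat_left] at h2
  letI : Algebra (Ox O_Y (f x)) (Ox O_X x) := (stalkMapR f O_X O_Y c x).hom.toAlgebra
  letI : Module (Ox O_Y (f x)) (St (toPM O_X F) x) :=
    Module.compHom (St (toPM O_X F) x) (stalkMapR f O_X O_Y c x).hom
  haveI : IsScalarTower (Ox O_Y (f x)) (Ox O_X x) (St (toPM O_X F) x) :=
    ⟨fun r a m => by
      change ((stalkMapR f O_X O_Y c x).hom r * a) • m = (stalkMapR f O_X O_Y c x).hom r • (a • m)
      rw [mul_smul]⟩
  haveI : Module.Flat (Ox O_Y (f x)) (St (toPM O_X F) x) := hF x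
  have hℓ : Function.Injective (smₗ (toPMMap O_Y φ) (f x)) :=
    FlatStalkTop.sm_injective_of_mono φ (f x)
  have hb := rTensor_baseChange_injective (A := Ox O_X x) (M := St (toPM O_X F) x)
    (smₗ (toPMMap O_Y φ) (f x)) hℓ
  let bM := (ModuleCat.extendScalars.{u, u, u} (stalkMapR f O_X O_Y c x).hom).map
    ((stalkFun O_Y (f x)).map φ)
  have hb' : Function.Injective (LinearMap.rTensor (St (toPM O_X F) x) bM.hom) := hb
  let kM := (stalkFun O_X x).map ((rm f O_X O_Y c).pull.map φ)
  have hnat : kM ≫ (stalkPullbackIso f O_X O_Y c x).hom.app G =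
      (stalkPullbackIso f O_X O_Y c x).hom.app G' ≫ bM :=
    (stalkPullbackIso f O_X O_Y c x).hom.naturality φ
  have hconj : (((stalkPullbackIso f O_X O_Y c x).app G).toLinearEquiv).toLinearMap ∘ₗ kM.hom =
      bM.hom ∘ₗ (((stalkPullbackIso f O_X O_Y c x).app G').toLinearEquiv).toLinearMap :=
    congrArg ModuleCat.Hom.hom hnat
  have hinj : Function.Injective (LinearMap.rTensor (St (toPM O_X F) x) kM.hom) :=
    rTensor_injective_of_conj (M := St (toPM O_X F) x) kM.hom bM.hom
      ((stalkPullbackIso f O_X O_Y c x).app G').toLinearEquiv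
      ((stalkPullbackIso f O_X O_Y c x).app G).toLinearEquiv hconj hb'
  exact (α_bijective).1 (hinj h2)

open Groth.Agent.Lib.Helper21.ModTensor3 Groth.Agent.Lib.Helper21.ModTensor5 in
/-- for `F` flat over `Y` (stalkwise), `G ↦ f^*G ⊗ F` is exact -/
theorem exact_pull_tensor (F : ModSite.Mod O_X)
    (hF : ∀ x : X, @Module.Flat (Rx (X := Y) O_Y.obj (f x)) (St (toPM O_X F) x) _ _
      (Module.compHom (St (toPM O_X F) x) (stalkMapR f O_X O_Y c x).hom)) :
    PreservesFiniteLimits ((rm f O_X O_Y c).pull ⋙ (ModSite.tensorBi O_X).flip.obj F) ∧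
      PreservesFiniteColimits ((rm f O_X O_Y c).pull ⋙ (ModSite.tensorBi O_X).flip.obj F) := by
  have : (rm f O_X O_Y c).pull.Additive := (rm f O_X O_Y c).adj.left_adjoint_additive
  haveI : PreservesFiniteColimits (tR O_X F) := inferInstance
  haveI : (tR O_X F).Additive := inferInstance
  haveI hc : PreservesFiniteColimits ((rm f O_X O_Y c).pull ⋙ tR O_X F) := inferInstance
  haveI : ((rm f O_X O_Y c).pull ⋙ tR O_X F).Additive := inferInstance
  refine ⟨?_, hc⟩
  exact Groth.Agent.Lib.Helper21.FlatCalc.preservesFiniteLimits_of_mono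
    ((rm f O_X O_Y c).pull ⋙ tR O_X F)
    (fun φ hφ => mono_tensor_pull f O_X O_Y c F hF φ)

end sheaf

end Groth.Agent.R2.H30.RSPullTensor
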