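import Mathlib
import Groth.Prelude.Def_ModSite2
import Groth.Agent.R2.H30RSLocFree

/-!
# helper30: stalks of free modules on a ringed space; stalk maps
-/

set_option autoImplicit false
set_option linter.style.haveILetI false
set_option linter.unusedVariables false
set_option linter.unusedSectionVars false
universe u
open CategoryTheory CategoryTheory.Limits Opposite TopologicalSpace

namespace Groth.Agent.R2.H30.RSStalkBasis

open Groth.Agent.R2.H30.GenSite Groth.Agent.R2.H30.RSDict Groth.Agent.R2.H30.FreeSec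
  Groth.Agent.R2.H30.RSFree Groth.Agent.R2.H30.RSKer Groth.Agent.R2.H30.RSStalk
  Groth.Agent.R2.H30.RSLocFree

variable {X : TopCat.{u}} {O : Sheaf (Opens.grothendieckTopology X) CommRingCat.{u}}

section span

variable {F : ModSite.Mod O} {U : Opens X} {I : Type*}

/-- germs of a locally spanning family span the stalk -/
theorem span_gx_eq_top_of_locSpan {s : I → F.val.obj (op U)} (hs : LocSpan F U s) (y : X) (hy : y ∈ U) :
    Submodule.span (ModSite.stalkRing (pt y) O) (Set.range fun i => gx F y U hy (s i)) = ⊤ := by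
  rw [eq_top_iff]
  rintro m -
  obtain ⟨V, hyV, w, rfl⟩ := gx_surj F y m
  obtain ⟨W, hW, hyW, hmem⟩ := hs (V ⊓ U) inf_le_right (res F inf_le_left w) y ⟨hyV, hy⟩
  have h1 : gx F y V hyV w = gx F y W hyW (res F hW (res F inf_le_left w)) := by
    rw [gx_res, gx_res]
  rw [h1]
  clear h1
  have key : ∀ z : F.val.obj (op W),
      z ∈ Submodule.span (Γr O W) (Set.range fun i => res F (hW.trans inf_le_right) (s i)) →
      gx F y W hyW z ∈
        Submodule.span (ModSite.stalkRing (pt y) O) (Set.range fun i => gx F y U hy (s i)) := by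
    intro z hz
    induction hz using Submodule.span_induction with
    | mem z hz =>
      obtain ⟨i, rfl⟩ := hz
      refine Submodule.subset_span ⟨i, ?_⟩
      show gx F y U hy (s i) = gx F y W hyW (res F _ (s i))
      rw [gx_res]
    | zero => rw [gx_zero]; exact Submodule.zero_mem _
    | add a b _ _ ha hb => rw [gx_add]; exact Submodule.add_mem _ ha hb
    | smul a z _ hz => rw [gx_smul]; exact Submodule.smul_mem _ _ hz
  exact key _ hmem

end span

section basis

variable {F : ModSite.Mod O} {U : Opens X} {I : Type u} [Fintype I]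

/-- germs of a basis are linearly independent -/
theorem linearIndependent_gx_of_isBasis {t : I → F.val.obj (op U)} (ht : IsBasis F U t) (y : X)
    (hy : y ∈ U) :
    LinearIndependent (ModSite.stalkRing (pt y) O) (fun i => gx F y U hy (t i)) := by
  rw [Fintype.linearIndependent_iff]
  intro c hc i₀
  obtain ⟨V, hyV, a, ha⟩ := exists_nbhd_gr_eq (O := O) y c
  -- everything on `V ⊓ U`
  have hyVU : y ∈ V ⊓ U := ⟨hyV, hy⟩
  have h1 : gx F y (V ⊓ U) hyVU (∑ i, resR O (inf_le_left : V ⊓ U ≤ V) (a i) •
      res F (inf_le_right : V ⊓ U ≤ U) (t i)) = 0 := by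
    rw [gx_sum, ← hc]
    refine Finset.sum_congr rfl fun i _ => ?_
    rw [gx_smul, gr_res, gx_res, ha]
  obtain ⟨W, hW, hyW, hres⟩ := (gx_eq_zero_iff F y hyVU _).1 h1
  rw [res_sum] at hres
  have h2 : ∑ i, resR O (hW.trans inf_le_left) (a i) • res F (hW.trans inf_le_right) (t i) = 0 := by
    rw [← hres]
    refine Finset.sum_congr rfl fun i _ => ?_
    rw [res_smul, resR_resR, res_res]
  have h3 := ht.indep W (hW.trans inf_le_right) _ h2
  have h4 : resR O (hW.trans inf_le_left) (a i₀) = 0 := congrFun h3 i₀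
  rw [← ha i₀, ← gr_res (O := O) y (hW.trans inf_le_left) hyW, h4, gr_zero]

/-- the basis of the stalk given by the germs of a basis -/
noncomputable def stalkBasis {t : I → F.val.obj (op U)} (ht : IsBasis F U t) (y : X) (hy : y ∈ U) :
    Module.Basis I (ModSite.stalkRing (pt y) O) (ModSite.stalkAb (pt y) F) :=
  Module.Basis.mk (linearIndependent_gx_of_isBasis ht y hy)
    (span_gx_eq_top_of_locSpan ht.span y hy).ge

theorem stalkBasis_apply {t : I → F.val.obj (op U)} (ht : IsBasis F U t) (y : X) (hy : y ∈ U) (i : I) :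
    stalkBasis ht y hy i = gx F y U hy (t i) :=
  Module.Basis.mk_apply _ _ i

end basis

section stalkMap

variable {F G H : ModSite.Mod O} (x : X)

theorem stalkMap_id_apply (m : ModSite.stalkAb (pt x) F) :
    (ModSite.stalkMap (pt x) (𝟙 F)).hom m = m := by
  obtain ⟨U, hxU, t, rfl⟩ := gx_surj F x m
  rw [stalkMap_gx]
  rfl

theorem stalkMap_comp_apply (φ : F ⟶ G) (ψ : G ⟶ H) (m : ModSite.stalkAb (pt x) F) :
    (ModSite.stalkMap (pt x) (φ ≫ ψ)).hom m =
      (ModSite.stalkMap (pt x) ψ).hom ((ModSite.stalkMap (pt x) φ).hom m) := by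
  obtain ⟨U, hxU, t, rfl⟩ := gx_surj F x m
  rw [stalkMap_gx, stalkMap_gx, stalkMap_gx]
  rfl

/-- epimorphisms are surjective on stalks -/
theorem stalkMap_surjective_of_epi (φ : F ⟶ G) [Epi φ] :
    Function.Surjective (ModSite.stalkMap (pt x) φ).hom := by
  intro m
  obtain ⟨U, hxU, t, rfl⟩ := gx_surj G x m
  obtain ⟨W, hW, hxW, a, ha⟩ := (epi_iff (O := O) φ).1 inferInstance U t x hxU
  refine ⟨gx F x W hxW a, ?_⟩
  rw [stalkMap_gx, ha, gx_res]

/-- a morphism which is injective on all stalks is a monomorphism -/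
theorem mono_of_stalkMap_injective (φ : F ⟶ G)
    (h : ∀ x : X, Function.Injective (ModSite.stalkMap (pt x) φ).hom) : Mono φ := by
  apply mono_of_injective_app
  intro V
  rw [injective_iff_map_eq_zero]
  intro z hz
  apply res_ext F z 0
  intro y hy
  have h1 : (ModSite.stalkMap (pt y) φ).hom (gx F y V.unop hy z) = 0 := by
    rw [stalkMap_gx]
    have : (φ.val.app (op V.unop)).hom z = 0 := hz
    rw [this, gx_zero]
  have h2 := h y (h1.trans (map_zero _).symm)
  obtain ⟨W, hW, hyW, hres⟩ := (gx_eq_zero_iff F y hy z).1 h2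
  exact ⟨W, hW, hyW, hres.trans (res_zero F hW).symm⟩

end stalkMap

end Groth.Agent.R2.H30.RSStalkBasis
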