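import Mathlib
import Groth.Prelude.Def_ModSite2
import Groth.Agent.R2.H30RSStalkBasis
import Groth.Agent.R2.H30StalkCmp

/-!
# helper30: free modules of arbitrary rank on a ringed space; the rank of a locally free module
-/

set_option autoImplicit false
set_option linter.style.haveILetI false
set_option linter.unusedVariables false
set_option linter.unusedSectionVars false
universe u
open CategoryTheory CategoryTheory.Limits Opposite TopologicalSpace

namespace Groth.Agent.R2.H30.RSRank

open Groth.Agent.R2.H30.GenSite Groth.Agent.R2.H30.RSDict Groth.Agent.R2.H30.FreeSec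
  Groth.Agent.R2.H30.RSFree Groth.Agent.R2.H30.RSKer Groth.Agent.R2.H30.RSStalk
  Groth.Agent.R2.H30.RSLocFree Groth.Agent.R2.H30.RSStalkBasis
  Groth.Agent.Lib.Helper21.LocFact

variable {X : TopCat.{u}} {O : Sheaf (Opens.grothendieckTopology X) CommRingCat.{u}}

section site

variable {C : Type u} [SmallCategory C] {J : GrothendieckTopology C} (R : Sheaf J RingCat.{u})
  {I : Type u}

/-- the value of the `i`-th tautological section of `free I` -/
noncomputable def fs (i : I) (Y : Cᵒᵖ) : (SheafOfModules.free (R := R) I).val.obj Y :=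
  (SheafOfModules.freeSection (R := R) i).val Y

theorem fs_eq (i : I) (Y : Cᵒᵖ) :
    fs R i Y = ((SheafOfModules.ιFree (R := R) i).val.app Y).hom (1 : R.obj.obj Y) := by
  have h : SheafOfModules.freeSection (R := R) i =
      (SheafOfModules.free (R := R) I).unitHomEquiv (SheafOfModules.ιFree i ≫ 𝟙 _) := rfl
  unfold fs
  rw [h, Category.comp_id]
  rfl

open Classical in
theorem πFree_fs (i j : I) (Y : Cᵒᵖ) :
    ((πFree R j).val.app Y).hom (fs R i Y) = if i = j then (1 : R.obj.obj Y) else 0 := by
  rw [fs_eq]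
  have h1 := ιFree_πFree R i j
  have h2 : ((SheafOfModules.ιFree (R := R) i ≫ πFree R j).val.app Y).hom (1 : R.obj.obj Y) =
      if i = j then (1 : R.obj.obj Y) else 0 := by
    rw [h1]
    split_ifs <;> rfl
  exact h2

/-- the tautological sections of `free I` are linearly independent over every object -/
theorem fs_indep (Y : Cᵒᵖ) (S : Finset I) (a : I → R.obj.obj Y)
    (h : ∑ i ∈ S, a i • fs R i Y = 0) : ∀ i ∈ S, a i = 0 := by
  classical
  intro j hj
  have h1 := congrArg ((πFree R j).val.app Y).hom h
  rw [map_sum, map_zero] at h1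
  have h2 : ∀ i ∈ S, ((πFree R j).val.app Y).hom (a i • fs R i Y) = if i = j then a i else 0 := by
    intro i _
    rw [map_smul, πFree_fs]
    split_ifs
    · exact mul_one (a i)
    · exact mul_zero (a i)
  rw [Finset.sum_congr rfl h2] at h1
  have h3 := (Finset.sum_eq_single (s := S) (f := fun i => if i = j then a i else 0) j
    (fun i _ hij => if_neg hij) (fun hj' => absurd hj hj')).trans (if_pos rfl)
  exact h3.symm.trans h1

end site

section basis

variable {F : ModSite.Mod O} {U : Opens X} {I : Type u}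

/-- `s` is a basis of `F|_U` (arbitrary index type) -/
structure IsBasis' (F : ModSite.Mod O) (U : Opens X) (s : I → F.val.obj (op U)) : Prop where
  span : LocSpan F U s
  indep : ∀ (V : Opens X) (hV : V ≤ U) (S : Finset I) (a : I → Γr O V),
    ∑ i ∈ S, a i • res F hV (s i) = 0 → ∀ i ∈ S, a i = 0

theorem genHom_fs (s : I → F.val.obj (op U)) (i : I) (Y : (Over U)ᵒᵖ) :
    ((genHom F U s).val.app Y).hom (fs (RU O U) i Y) = res F Y.unop.hom.le (s i) := by
  have := SheafOfModules.sectionsMap_freeHomEquiv_symm_freeSection (M := F.over U)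
    (fun i => secOver F U (s i)) i
  exact congrArg (fun σ => σ.val Y) this

theorem isBasis'_of_isIso_genHom {s : I → F.val.obj (op U)} (h : IsIso (genHom F U s)) :
    IsBasis' F U s := by
  refine ⟨locSpan_of_epi inferInstance, ?_⟩
  intro V hV S a ha
  have h1 : ((genHom F U s).val.app (op (ov hV))).hom (∑ i ∈ S, a i • fs (RU O U) i (op (ov hV))) = 0 := by
    rw [map_sum]
    refine Eq.trans (Finset.sum_congr rfl fun i _ => ?_) ha
    have h2 := genHom_fs s i (op (ov hV))
    exact (map_smul ((genHom F U s).val.app (op (ov hV))).hom (a i) _).trans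
      (congrArg (fun z => a i • z) h2)
  have h3 := (bijective_app_of_isIso (genHom F U s) (op (ov hV))).1
  have h4 : ∑ i ∈ S, a i • fs (RU O U) i (op (ov hV)) = 0 := h3 (h1.trans (map_zero _).symm)
  exact fs_indep (RU O U) (op (ov hV)) S a h4

theorem exists_isBasis'_of_iso (e : (ModSite.restr O U).obj F ≅ SheafOfModules.free I) :
    ∃ s : I → F.val.obj (op U), IsBasis' F U s := by
  let σ : I → (F.over U).sections := (F.over U).freeHomEquiv e.inv
  refine ⟨fun i => (σ i).val (op (Over.mk (𝟙 U))), ?_⟩
  apply isBasis'_of_isIso_genHom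
  have h1 : (fun i => secOver F U ((σ i).val (op (Over.mk (𝟙 U))))) = σ :=
    funext fun i => (eq_secOver (σ i)).symm
  have h2 : genHom F U (fun i => (σ i).val (op (Over.mk (𝟙 U)))) = e.inv := by
    unfold genHom
    rw [h1]
    exact (F.over U).freeHomEquiv.symm_apply_apply e.inv
  rw [h2]
  infer_instance

/-- germs of a basis are linearly independent -/
theorem linearIndependent_gx_of_isBasis' {t : I → F.val.obj (op U)} (ht : IsBasis' F U t) (y : X)
    (hy : y ∈ U) :
    LinearIndependent (ModSite.stalkRing (pt y) O) (fun i => gx F y U hy (t i)) := by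
  classical
  rw [linearIndependent_iff']
  intro S c hc i₀ hi₀
  obtain ⟨V, hyV, a, ha⟩ := exists_nbhd_gr_eq (O := O) y (fun i : S => c i.1)
  let a' : I → Γr O V := fun i => if h : i ∈ S then a ⟨i, h⟩ else 0
  have ha' : ∀ i ∈ S, gr O y V hyV (a' i) = c i := by
    intro i hi
    simp only [a', dif_pos hi]
    exact ha ⟨i, hi⟩
  have hyVU : y ∈ V ⊓ U := ⟨hyV, hy⟩
  have h1 : gx F y (V ⊓ U) hyVU (∑ i ∈ S, resR O (inf_le_left : V ⊓ U ≤ V) (a' i) •
      res F (inf_le_right : V ⊓ U ≤ U) (t i)) = 0 := by
    rw [gx_sum, ← hc]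
    refine Finset.sum_congr rfl fun i hi => ?_
    rw [gx_smul, gr_res, gx_res, ha' i hi]
  obtain ⟨W, hW, hyW, hres⟩ := (gx_eq_zero_iff F y hyVU _).1 h1
  rw [res_sum] at hres
  have h2 : ∑ i ∈ S, resR O (hW.trans inf_le_left) (a' i) • res F (hW.trans inf_le_right) (t i) = 0 := by
    rw [← hres]
    refine Finset.sum_congr rfl fun i _ => ?_
    rw [res_smul, resR_resR, res_res]
  have h3 := ht.indep W (hW.trans inf_le_right) S _ h2 i₀ hi₀
  rw [← ha' i₀ hi₀, ← gr_res (O := O) y (hW.trans inf_le_left) hyW, h3, gr_zero]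

/-- the basis of the stalk given by the germs of a basis -/
noncomputable def stalkBasis' {t : I → F.val.obj (op U)} (ht : IsBasis' F U t) (y : X) (hy : y ∈ U) :
    Module.Basis I (ModSite.stalkRing (pt y) O) (ModSite.stalkAb (pt y) F) :=
  Module.Basis.mk (linearIndependent_gx_of_isBasis' ht y hy)
    (span_gx_eq_top_of_locSpan ht.span y hy).ge

end basis

end Groth.Agent.R2.H30.RSRank
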