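import Mathlib
import Groth.Prelude.Def_ModSite2
import Groth.Agent.R2.H30RSStalkBasis
import Groth.Agent.R2.H30StalkCmp
import Groth.Agent.S6833

/-!
# helper30: retracts of finite locally free modules on a locally ringed space
-/

set_option autoImplicit false
set_option linter.style.haveILetI false
set_option linter.unusedVariables false
set_option linter.unusedSectionVars false
universe u
open CategoryTheory CategoryTheory.Limits Opposite TopologicalSpace

namespace Groth.Agent.R2.H30.RSRetract

open Groth.Agent.R2.H30.GenSite Groth.Agent.R2.H30.RSDict Groth.Agent.R2.H30.FreeSec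
  Groth.Agent.R2.H30.RSFree Groth.Agent.R2.H30.RSKer Groth.Agent.R2.H30.RSStalk
  Groth.Agent.R2.H30.RSLocFree Groth.Agent.R2.H30.RSStalkBasis

variable {X : TopCat.{u}} {O : Sheaf (Opens.grothendieckTopology X) CommRingCat.{u}}

/-- the presentation (without relations) given by a basis -/
noncomputable def locPresOfIsBasis {F : ModSite.Mod O} {U : Opens X} {I : Type u} [Fintype I]
    {t : I → F.val.obj (op U)} (ht : IsBasis F U t) : LocPres F U I PEmpty.{u + 1} where
  s := t
  span := ht.span
  r := fun k => PEmpty.elim k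
  rel := fun k => PEmpty.elim k
  relSpan := by
    intro V hV a ha y hy
    refine ⟨V, le_rfl, hy, ?_⟩
    have h0 := ht.indep V hV a ha
    have : (fun i => resR O (le_refl V) (a i)) = 0 := by
      funext i
      rw [h0]
      exact RSKer.resR_zero _
    rw [this]
    exact Submodule.zero_mem _

/-- finite locally free modules are finitely presented -/
theorem isFinitePresentation_of_locallyFree (H : ModSite.Mod O)
    (hH : ∀ x : X, ∃ (U : Opens X) (n : ℕ), x ∈ U ∧
      Nonempty ((ModSite.restr O U).obj H ≅ SheafOfModules.free (ULift.{u} (Fin n)))) :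
    SheafOfModules.IsFinitePresentation (R := ModSite.ringSh O) H := by
  apply isFinitePresentation_of_locPres
  intro x
  obtain ⟨U, n, hxU, ⟨e⟩⟩ := hH x
  obtain ⟨t, ht⟩ := exists_isBasis_of_iso (O := O) e
  exact ⟨U, hxU, ULift.{u} (Fin n), PEmpty.{u + 1}, inferInstance, inferInstance,
    ⟨locPresOfIsBasis ht⟩⟩

/-- the stalk at the site-point is local as soon as the usual stalk is -/
theorem isLocalRing_stalkRing (x : X)
    (h : IsLocalRing (Groth.Agent.Lib.Helper1.StalkTensor.Rx (X := X) O.obj x)) :
    IsLocalRing (ModSite.stalkRing (pt x) O) := by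
  haveI := h
  exact (Groth.Agent.R2.H30.StalkCmp.ρ x O).symm.isLocalRing

/-- a retract of a finitely presented module is finitely presented -/
theorem isFinitePresentation_of_retract {F H : ModSite.Mod O}
    [SheafOfModules.IsFinitePresentation (R := ModSite.ringSh O) H]
    (i : F ⟶ H) (p : H ⟶ F) (hip : i ≫ p = 𝟙 F) :
    SheafOfModules.IsFinitePresentation (R := ModSite.ringSh O) F := by
  let d : H ⟶ H := 𝟙 H - p ≫ i
  haveI : SheafOfModules.IsFinitePresentation (R := ModSite.ringSh O) (cokernel d) :=
    Groth.Agent.S6833.result O d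
  have hd : d ≫ p = 0 := by
    simp only [d, Preadditive.sub_comp, Category.id_comp, Category.assoc, hip, Category.comp_id,
      sub_self]
  have hπ : (p ≫ i) ≫ cokernel.π d = cokernel.π d := by
    have h1 : d ≫ cokernel.π d = 0 := cokernel.condition d
    simp only [d, Preadditive.sub_comp, Category.id_comp] at h1
    exact (sub_eq_zero.1 h1).symm
  let e : F ≅ cokernel d :=
    { hom := i ≫ cokernel.π d
      inv := cokernel.desc d p hd
      hom_inv_id := by rw [Category.assoc, cokernel.π_desc, hip]
      inv_hom_id := by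
        rw [← cancel_epi (cokernel.π d), cokernel.π_desc_assoc, Category.comp_id, ← Category.assoc]
        exact hπ }
  exact (SheafOfModules.isFinitePresentation (ModSite.ringSh O)).prop_of_iso e.symm inferInstance

/-- **direct summands of finite locally free modules are finite locally free** (local stalks) -/
theorem exists_iso_free_of_retract (hO : ∀ x : X, IsLocalRing (ModSite.stalkRing (pt x) O))
    {F H : ModSite.Mod O}
    (hH : ∀ x : X, ∃ (U : Opens X) (n : ℕ), x ∈ U ∧
      Nonempty ((ModSite.restr O U).obj H ≅ SheafOfModules.free (ULift.{u} (Fin n))))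
    (i : F ⟶ H) (p : H ⟶ F) (hip : i ≫ p = 𝟙 F) (x : X) :
    ∃ (U : Opens X) (n : ℕ), x ∈ U ∧
      Nonempty ((ModSite.restr O U).obj F ≅ SheafOfModules.free (ULift.{u} (Fin n))) := by
  classical
  haveI := isFinitePresentation_of_locallyFree H hH
  haveI := isFinitePresentation_of_retract i p hip
  obtain ⟨U₀, n₀, hx₀, ⟨e₀⟩⟩ := hH x
  obtain ⟨tH, htH⟩ := exists_isBasis_of_iso (O := O) e₀
  let bH := stalkBasis htH x hx₀
  let ix : ModSite.stalkAb (pt x) F →ₗ[ModSite.stalkRing (pt x) O] ModSite.stalkAb (pt x) H :=
    (ModSite.stalkMap (pt x) i).hom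
  let px : ModSite.stalkAb (pt x) H →ₗ[ModSite.stalkRing (pt x) O] ModSite.stalkAb (pt x) F :=
    (ModSite.stalkMap (pt x) p).hom
  have hpi : px ∘ₗ ix = LinearMap.id := by
    apply LinearMap.ext
    intro m
    show (ModSite.stalkMap (pt x) p).hom ((ModSite.stalkMap (pt x) i).hom m) = m
    rw [← stalkMap_comp_apply, hip, stalkMap_id_apply]
  haveI : Module.Finite (ModSite.stalkRing (pt x) O) (ModSite.stalkAb (pt x) H) :=
    Module.Finite.of_basis bH
  haveI : Module.Projective (ModSite.stalkRing (pt x) O) (ModSite.stalkAb (pt x) H) :=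
    Module.Projective.of_basis bH
  have hsurj : Function.Surjective px := fun m => ⟨ix m, LinearMap.congr_fun hpi m⟩
  haveI : Module.Finite (ModSite.stalkRing (pt x) O) (ModSite.stalkAb (pt x) F) :=
    Module.Finite.of_surjective px hsurj
  haveI : Module.Projective (ModSite.stalkRing (pt x) O) (ModSite.stalkAb (pt x) F) :=
    Module.Projective.of_split ix px hpi
  haveI := hO x
  haveI : Module.Free (ModSite.stalkRing (pt x) O) (ModSite.stalkAb (pt x) F) :=
    Module.free_of_flat_of_isLocalRing
  let b := Module.Free.chooseBasis (ModSite.stalkRing (pt x) O) (ModSite.stalkAb (pt x) F)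
  let n := Fintype.card (Module.Free.ChooseBasisIndex (ModSite.stalkRing (pt x) O)
    (ModSite.stalkAb (pt x) F))
  let b' := b.reindex ((Fintype.equivFin _).trans Equiv.ulift.{u, 0}.symm)
  obtain ⟨U, hxU, t, ht⟩ := exists_isBasis_of_stalk_basis (O := O) F x b'
  exact ⟨U, n, hxU, nonempty_iso_free_of_isBasis ht⟩

end Groth.Agent.R2.H30.RSRetract
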