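import Mathlib
import Groth.Prelude.Def_ModSite2
import Groth.Agent.R2.H30RSTensorSec
import Groth.Agent.R2.H30RSDict
set_option backward.isDefEq.respectTransparency.types false

/-!
# helper30: generators of a tensor product of modules on a ringed space

Sections of `A ⊗_O B` are locally finite sums of tensors of sections; if `s` locally spans `A|_U`
and `s'` locally spans `B|_{U'}` then the `s_i ⊗ s'_j` locally span `(A ⊗ B)|_{U ∩ U'}`.
Consequences: tensor products of modules locally generated by sections (resp. of finite type) are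
locally generated by sections (resp. of finite type).
-/

set_option autoImplicit false
set_option linter.style.haveILetI false
universe u
open CategoryTheory CategoryTheory.Limits TopCat TopologicalSpace Opposite TensorProduct
open MonoidalCategory

namespace Groth.Agent.R2.H30.RSTensGen

open Groth.Agent.R2.H30.FlatStalkTop Groth.Agent.R2.H30.RSDict Groth.Agent.R2.H30.RSTensorSec
open Groth.Agent.Lib.Helper1.StalkTensor

variable {X : TopCat.{u}} (O : Sheaf (Opens.grothendieckTopology X) CommRingCat.{u})
  {A B : ModSite.Mod O}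

/-- the span of the tensors of sections over `W` -/
noncomputable def pureSpan (W : Opens X) : Submodule (Γr O W) ((tens O A B).val.obj (op W)) :=
  Submodule.span (Γr O W) {t | ∃ a b, t = ts O A B W a b}

theorem etaX_mem_pureSpan (W : Opens X) (p : (ptens O A B).obj (op W)) :
    ((etaX O (ptens O A B)).app (op W)).hom p ∈ pureSpan O (A := A) (B := B) W := by
  refine tm_induction (P := toPM O A) (Q := toPM O B)
    (motive := fun p => ((etaX O (ptens O A B)).app (op W)).hom p ∈
      pureSpan O (A := A) (B := B) W) ?_ ?_ ?_ p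
  · rw [map_zero]
    exact Submodule.zero_mem _
  · intro a b
    exact Submodule.subset_span ⟨a, b, rfl⟩
  · intro s t hs ht
    rw [map_add]
    exact Submodule.add_mem _ hs ht

theorem res_mem_pureSpan {W W' : Opens X} (h : W' ≤ W) {t : (tens O A B).val.obj (op W)}
    (ht : t ∈ pureSpan O W) : res (tens O A B) h t ∈ pureSpan O W' := by
  induction ht using Submodule.span_induction with
  | mem x hx =>
    obtain ⟨a, b, rfl⟩ := hx
    rw [ts_res]
    exact Submodule.subset_span ⟨_, _, rfl⟩
  | zero => rw [res_zero]; exact Submodule.zero_mem _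
  | add x y _ _ hx hy => rw [res_add]; exact Submodule.add_mem _ hx hy
  | smul a x _ hx => rw [res_smul]; exact Submodule.smul_mem _ _ hx

/-- sections of `A ⊗ B` are locally finite sums of tensors of sections -/
theorem exists_nbhd_mem_pureSpan (V : Opens X) (τ : (tens O A B).val.obj (op V)) (y : X)
    (hy : y ∈ V) :
    ∃ (W : Opens X) (hW : W ≤ V), y ∈ W ∧ res (tens O A B) hW τ ∈ pureSpan O W := by
  obtain ⟨z, hz⟩ := (sm_etaX_bijective O (ptens O A B) y).2 (gm (toPM O (tens O A B)) y V hy τ)
  obtain ⟨W1, hy1, p, rfl⟩ := exists_gm_eq z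
  rw [sm_gm] at hz
  obtain ⟨W2, hy2, i1, iV, hres⟩ := gm_eq (P := toPM O (tens O A B)) hy1 hy _ _ hz
  refine ⟨W2, iV.le, hy2, ?_⟩
  have h1 : res (tens O A B) iV.le τ =
      res (tens O A B) i1.le (((etaX O (ptens O A B)).app (op W1)).hom p) := hres.symm
  rw [h1]
  exact res_mem_pureSpan O i1.le (etaX_mem_pureSpan O W1 p)

section span

variable {O}
variable {U U' : Opens X} {I I' : Type*} (s : I → A.val.obj (op U)) (s' : I' → B.val.obj (op U'))

/-- the tensors `s_i ⊗ s'_j` over `U ⊓ U'` -/
noncomputable def tsFam : I × I' → (tens O A B).val.obj (op (U ⊓ U')) := fun p =>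
  ts O A B (U ⊓ U') (res A inf_le_left (s p.1)) (res B inf_le_right (s' p.2))

theorem res_tsFam {W : Opens X} (hW : W ≤ U ⊓ U') (p : I × I') :
    res (tens O A B) hW (tsFam s s' p) =
      ts O A B W (res A (hW.trans inf_le_left) (s p.1)) (res B (hW.trans inf_le_right) (s' p.2)) := by
  unfold tsFam
  rw [ts_res, res_res, res_res]

/-- bilinearity: tensors of elements of the spans lie in the span of the tensors -/
theorem ts_mem_span {W : Opens X} (hW : W ≤ U ⊓ U') {a : A.val.obj (op W)} {b : B.val.obj (op W)}
    (ha : a ∈ Submodule.span (Γr O W) (Set.range fun i => res A (hW.trans inf_le_left) (s i)))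
    (hb : b ∈ Submodule.span (Γr O W) (Set.range fun j => res B (hW.trans inf_le_right) (s' j))) :
    ts O A B W a b ∈
      Submodule.span (Γr O W) (Set.range fun p => res (tens O A B) hW (tsFam s s' p)) := by
  induction ha using Submodule.span_induction with
  | mem x hx =>
    obtain ⟨i, rfl⟩ := hx
    induction hb using Submodule.span_induction with
    | mem z hz =>
      obtain ⟨j, rfl⟩ := hz
      exact Submodule.subset_span ⟨(i, j), res_tsFam s s' hW (i, j)⟩
    | zero => rw [ts_zero_right]; exact Submodule.zero_mem _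
    | add z w _ _ hz hw => rw [ts_add_right]; exact Submodule.add_mem _ hz hw
    | smul r z _ hz => rw [ts_smul_right]; exact Submodule.smul_mem _ _ hz
  | zero => rw [ts_zero_left]; exact Submodule.zero_mem _
  | add x z _ _ hx hz => rw [ts_add_left]; exact Submodule.add_mem _ hx hz
  | smul r x _ hx => rw [ts_smul_left]; exact Submodule.smul_mem _ _ hx

/-- **generators of a tensor product** -/
theorem locSpan_tsFam (hs : LocSpan A U s) (hs' : LocSpan B U' s') :
    LocSpan (tens O A B) (U ⊓ U') (tsFam s s') := by
  have claim : ∀ (W : Opens X) (hW : W ≤ U ⊓ U') (z : (tens O A B).val.obj (op W)),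
      z ∈ pureSpan O W → ∀ y ∈ W, ∃ (W' : Opens X) (hW' : W' ≤ W), y ∈ W' ∧
        res (tens O A B) hW' z ∈ Submodule.span (Γr O W')
          (Set.range fun p => res (tens O A B) (hW'.trans hW) (tsFam s s' p)) := by
    intro W hW z hz
    induction hz using Submodule.span_induction with
    | mem x hx =>
      obtain ⟨a, b, rfl⟩ := hx
      intro y hy
      obtain ⟨Wa, hWa, hya, ha⟩ := hs W (hW.trans inf_le_left) a y hy
      obtain ⟨Wb, hWb, hyb, hb⟩ := hs' W (hW.trans inf_le_right) b y hy
      refine ⟨Wa ⊓ Wb, inf_le_left.trans hWa, ⟨hya, hyb⟩, ?_⟩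
      rw [ts_res]
      refine ts_mem_span s s' ((inf_le_left.trans hWa).trans hW) ?_ ?_
      · have := res_mem_span s (hWa.trans (hW.trans inf_le_left)) (inf_le_left : Wa ⊓ Wb ≤ Wa) ha
        rw [res_res] at this
        exact this
      · have := res_mem_span s' (hWb.trans (hW.trans inf_le_right)) (inf_le_right : Wa ⊓ Wb ≤ Wb) hb
        rw [res_res] at this
        exact this
    | zero =>
      intro y hy
      refine ⟨W, le_refl W, hy, ?_⟩
      rw [res_zero]
      exact Submodule.zero_mem _
    | add x z _ _ hx hz =>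
      intro y hy
      obtain ⟨W1, hW1, hy1, h1⟩ := hx y hy
      obtain ⟨W2, hW2, hy2, h2⟩ := hz y hy
      refine ⟨W1 ⊓ W2, inf_le_left.trans hW1, ⟨hy1, hy2⟩, ?_⟩
      rw [res_add]
      refine Submodule.add_mem _ ?_ ?_
      · have := res_mem_span (tsFam s s') (hW1.trans hW) (inf_le_left : W1 ⊓ W2 ≤ W1) h1
        rw [res_res] at this
        exact this
      · have := res_mem_span (tsFam s s') (hW2.trans hW) (inf_le_right : W1 ⊓ W2 ≤ W2) h2
        rw [res_res] at this
        exact this
    | smul r x _ hx =>
      intro y hy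
      obtain ⟨W1, hW1, hy1, h1⟩ := hx y hy
      refine ⟨W1, hW1, hy1, ?_⟩
      rw [res_smul]
      exact Submodule.smul_mem _ _ h1
  intro V hV t y hy
  obtain ⟨W1, hW1, hy1, h1⟩ := exists_nbhd_mem_pureSpan O V t y hy
  obtain ⟨W2, hW2, hy2, h2⟩ := claim W1 (hW1.trans hV) _ h1 y hy1
  refine ⟨W2, hW2.trans hW1, hy2, ?_⟩
  rw [res_res] at h2
  exact h2

end span

section perm

variable (F G : ModSite.Mod O)

/-- the tensor product of modules locally generated by sections is locally generated by
sections -/
theorem nonempty_localGeneratorsData_tens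
    (hF : Nonempty (SheafOfModules.LocalGeneratorsData.{u} (R := ModSite.ringSh O) F))
    (hG : Nonempty (SheafOfModules.LocalGeneratorsData.{u} (R := ModSite.ringSh O) G)) :
    Nonempty (SheafOfModules.LocalGeneratorsData.{u} (R := ModSite.ringSh O) (tens O F G)) := by
  rw [nonempty_localGeneratorsData_iff] at hF hG ⊢
  intro x
  obtain ⟨U, hxU, I, s, hs⟩ := hF x
  obtain ⟨U', hxU', I', s', hs'⟩ := hG x
  exact ⟨U ⊓ U', ⟨hxU, hxU'⟩, I × I', tsFam s s', locSpan_tsFam s s' hs hs'⟩

/-- the tensor product of modules of finite type is of finite type -/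
theorem isFiniteType_tens (hF : SheafOfModules.IsFiniteType (R := ModSite.ringSh O) F)
    (hG : SheafOfModules.IsFiniteType (R := ModSite.ringSh O) G) :
    SheafOfModules.IsFiniteType (R := ModSite.ringSh O) (tens O F G) := by
  rw [isFiniteType_iff] at hF hG
  apply isFiniteType_of_locSpan
  intro x
  obtain ⟨U, hxU, n, s, hs⟩ := hF x
  obtain ⟨U', hxU', m, s', hs'⟩ := hG x
  exact ⟨U ⊓ U', ⟨hxU, hxU'⟩, Fin n × Fin m, inferInstance, tsFam s s',
    locSpan_tsFam s s' hs hs'⟩

end perm

end Groth.Agent.R2.H30.RSTensGen
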