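import Mathlib
import Groth.Prelude.Def_ModSite2
import Groth.Agent.Lib.Helper21ModTensor7
set_option backward.isDefEq.respectTransparency.types false

/-!
# helper30: the tensor product of two presentations of sheaves of modules

On a ringed site `(C, O)`: `free I ⊗ free I' ≅ free (I × I')`, the tensor product of two cokernel
diagrams is a cokernel diagram, and the tensor product of two modules with (global) presentations
has a presentation with generators `I₀ × J₀` and relations `I₁ × J₀ ⊕ I₀ × J₁`.
-/

set_option autoImplicit false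
set_option linter.style.haveILetI false
universe u
open CategoryTheory CategoryTheory.Limits Opposite

namespace Groth.Agent.R2.H30.TensPres

open Groth.Agent.Lib.Helper21.ModTensor Groth.Agent.Lib.Helper21.ModTensor2
  Groth.Agent.Lib.Helper21.ModTensor3 Groth.Agent.Lib.Helper21.ModTensor5
  Groth.Agent.Lib.Helper21.ModTensor6 Groth.Agent.Lib.Helper21.ModTensor7

variable {C : Type u} [SmallCategory C] {J : GrothendieckTopology C} (O : Sheaf J CommRingCat.{u})

/-- the free `O`-module on `I` -/
noncomputable abbrev fr (I : Type u) : ModSite.Mod O := SheafOfModules.free (R := ModSite.ringSh O) I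

/-- `A ⊗_O B` -/
noncomputable abbrev tn (A B : ModSite.Mod O) : ModSite.Mod O := ((ModSite.tensorBi O).obj A).obj B

section cokernel

variable {O}

/-- `f ⊗ B` -/
noncomputable def mapL {A A' : ModSite.Mod O} (f : A ⟶ A') (B : ModSite.Mod O) :
    tn O A B ⟶ tn O A' B :=
  (tR O B).map f

/-- `A ⊗ g` -/
noncomputable def mapR (A : ModSite.Mod O) {B B' : ModSite.Mod O} (g : B ⟶ B') :
    tn O A B ⟶ tn O A B' :=
  (tL O A).map g

theorem mapL_comp {A A' A'' : ModSite.Mod O} (f : A ⟶ A') (f' : A' ⟶ A'') (B : ModSite.Mod O) :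
    mapL (f ≫ f') B = mapL f B ≫ mapL f' B :=
  (tR O B).map_comp f f'

theorem mapR_comp (A : ModSite.Mod O) {B B' B'' : ModSite.Mod O} (g : B ⟶ B') (g' : B' ⟶ B'') :
    mapR A (g ≫ g') = mapR A g ≫ mapR A g' :=
  (tL O A).map_comp g g'

theorem mapL_zero {A A' : ModSite.Mod O} (B : ModSite.Mod O) :
    mapL (0 : A ⟶ A') B = 0 :=
  (tR O B).map_zero _ _

theorem mapR_zero (A : ModSite.Mod O) {B B' : ModSite.Mod O} :
    mapR A (0 : B ⟶ B') = 0 :=
  (tL O A).map_zero _ _

theorem mapL_mapR_comm {A A' B B' : ModSite.Mod O} (a : A ⟶ A') (b : B ⟶ B') :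
    mapL a B ≫ mapR A' b = mapR A b ≫ mapL a B' :=
  (((ModSite.tensorBi O).map a).naturality b).symm

instance epi_mapL {A A' : ModSite.Mod O} (f : A ⟶ A') [Epi f] (B : ModSite.Mod O) :
    Epi (mapL f B) := by
  unfold mapL
  infer_instance

instance epi_mapR (A : ModSite.Mod O) {B B' : ModSite.Mod O} (g : B ⟶ B') [Epi g] :
    Epi (mapR A g) := by
  unfold mapR
  infer_instance

variable {A₁ A₀ M B₁ B₀ N : ModSite.Mod O} (f : A₁ ⟶ A₀) (p : A₀ ⟶ M) (wp : f ≫ p = 0)
  (hp : IsColimit (CokernelCofork.ofπ p wp)) (g : B₁ ⟶ B₀) (q : B₀ ⟶ N) (wq : g ≫ q = 0)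
  (hq : IsColimit (CokernelCofork.ofπ q wq))

/-- `p ⊗ q` -/
noncomputable def pq : tn O A₀ B₀ ⟶ tn O M N := mapL p B₀ ≫ mapR M q

include hp hq in
theorem epi_pq : Epi (pq p q) := by
  haveI : Epi p := epi_of_isColimit_cofork hp
  haveI : Epi q := epi_of_isColimit_cofork hq
  unfold pq
  infer_instance

include hp hq in
/-- the universal property of `A₀ ⊗ B₀ ⟶ M ⊗ N` -/
theorem exists_desc {Z : ModSite.Mod O} (h : tn O A₀ B₀ ⟶ Z) (h1 : mapL f B₀ ≫ h = 0)
    (h2 : mapR A₀ g ≫ h = 0) : ∃ d : tn O M N ⟶ Z, pq p q ≫ d = h := by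
  have hp' := CokernelCofork.mapIsColimit _ hp (tR O B₀)
  have hq' := CokernelCofork.mapIsColimit _ hq (tL O M)
  obtain ⟨d1, hd1⟩ := CokernelCofork.IsColimit.desc' hp' h h1
  have hd1' : mapL p B₀ ≫ d1 = h := hd1
  haveI : Epi p := epi_of_isColimit_cofork hp
  have h3 : mapR M g ≫ d1 = 0 := by
    rw [← cancel_epi (mapL p B₁), ← Category.assoc, mapL_mapR_comm, Category.assoc, hd1', h2,
      comp_zero]
  obtain ⟨d2, hd2⟩ := CokernelCofork.IsColimit.desc' hq' d1 h3
  have hd2' : mapR M q ≫ d2 = d1 := hd2
  exact ⟨d2, by unfold pq; rw [Category.assoc, hd2', hd1']⟩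

end cokernel

section free

/-- `free I ⊗ free I' ≅ free (I × I')` -/
noncomputable def freeTensIso (I I' : Type u) :
    tn O (SheafOfModules.free I) (SheafOfModules.free I') ≅ SheafOfModules.free (I × I') :=
  haveI h : ∀ _ : I, HasCoproduct (fun _ : I' => ModSite.unit O) := fun _ => inferInstance
  PreservesCoproduct.iso (tR O (SheafOfModules.free I')) (fun _ : I => ModSite.unit O) ≪≫
    Sigma.mapIso (fun _ : I => (tLUnitIso O).app (SheafOfModules.free I')) ≪≫
    @sigmaSigmaIso (ModSite.Mod O) _ I (fun _ : I => (I' : Type u))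
      (fun (_ : I) (_ : I') => ModSite.unit O) h inferInstance ≪≫
    (Sigma.whiskerEquiv (f := fun _ : (Σ _ : I, I') => ModSite.unit O)
      (g := fun _ : I × I' => ModSite.unit O) (Equiv.sigmaEquivProd I I') (fun _ => Iso.refl _) :
      (∐ fun _ : (Σ _ : I, I') => ModSite.unit O) ≅ ∐ fun _ : I × I' => ModSite.unit O)

end free

section freeSum

variable {O}

theorem freeHomEquiv_freeMap_comp {K K' : Type u} (φ : K → K') {Z : ModSite.Mod O}
    (v : SheafOfModules.free K' ⟶ Z) :
    Z.freeHomEquiv (SheafOfModules.freeMap φ ≫ v) = Z.freeHomEquiv v ∘ φ := by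
  funext k
  rw [SheafOfModules.freeHomEquiv_comp_apply, SheafOfModules.freeHomEquiv_freeMap]
  rfl

variable {K₁ K₂ : Type u} {Z : ModSite.Mod O}

theorem free_sum_hom_ext (v w : SheafOfModules.free (K₁ ⊕ K₂) ⟶ Z)
    (h1 : SheafOfModules.freeMap Sum.inl ≫ v = SheafOfModules.freeMap Sum.inl ≫ w)
    (h2 : SheafOfModules.freeMap Sum.inr ≫ v = SheafOfModules.freeMap Sum.inr ≫ w) : v = w := by
  apply Z.freeHomEquiv.injective
  funext k
  rcases k with k | k
  · have := congrFun (congrArg Z.freeHomEquiv h1) k
    rwa [freeHomEquiv_freeMap_comp, freeHomEquiv_freeMap_comp] at this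
  · have := congrFun (congrArg Z.freeHomEquiv h2) k
    rwa [freeHomEquiv_freeMap_comp, freeHomEquiv_freeMap_comp] at this

/-- the copairing of two morphisms out of free modules -/
noncomputable def freeSumDesc (r₁ : SheafOfModules.free K₁ ⟶ Z) (r₂ : SheafOfModules.free K₂ ⟶ Z) :
    SheafOfModules.free (K₁ ⊕ K₂) ⟶ Z :=
  Z.freeHomEquiv.symm (Sum.elim (Z.freeHomEquiv r₁) (Z.freeHomEquiv r₂))

theorem inl_freeSumDesc (r₁ : SheafOfModules.free K₁ ⟶ Z) (r₂ : SheafOfModules.free K₂ ⟶ Z) :
    SheafOfModules.freeMap Sum.inl ≫ freeSumDesc r₁ r₂ = r₁ := by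
  apply Z.freeHomEquiv.injective
  rw [freeHomEquiv_freeMap_comp]
  unfold freeSumDesc
  rw [Equiv.apply_symm_apply]
  rfl

theorem inr_freeSumDesc (r₁ : SheafOfModules.free K₁ ⟶ Z) (r₂ : SheafOfModules.free K₂ ⟶ Z) :
    SheafOfModules.freeMap Sum.inr ≫ freeSumDesc r₁ r₂ = r₂ := by
  apply Z.freeHomEquiv.injective
  rw [freeHomEquiv_freeMap_comp]
  unfold freeSumDesc
  rw [Equiv.apply_symm_apply]
  rfl

end freeSum

section pres

variable {O} {M N : ModSite.Mod O} (P : SheafOfModules.Presentation M)
  (Q : SheafOfModules.Presentation N)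

/-- the relations map of a presentation -/
noncomputable def relMap : fr O P.relations.I ⟶ fr O P.generators.I :=
  (SheafOfModules.freeHomEquiv _).symm P.relations.s ≫ kernel.ι _

theorem relMap_π : relMap P ≫ P.generators.π = 0 := by
  unfold relMap
  simp

/-- the cokernel property of a presentation -/
noncomputable def presIsColimit : IsColimit (CokernelCofork.ofπ P.generators.π (relMap_π P)) :=
  P.isColimit

/-- the generators map of the tensor product of two presentations -/
noncomputable def tensπ : fr O (P.generators.I × Q.generators.I) ⟶ tn O M N :=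
  (freeTensIso O P.generators.I Q.generators.I).inv ≫ pq P.generators.π Q.generators.π

/-- first half of the relations -/
noncomputable def rel₁ : fr O (P.relations.I × Q.generators.I) ⟶
    fr O (P.generators.I × Q.generators.I) :=
  (freeTensIso O P.relations.I Q.generators.I).inv ≫ mapL (relMap P) (fr O Q.generators.I) ≫
    (freeTensIso O P.generators.I Q.generators.I).hom

/-- second half of the relations -/
noncomputable def rel₂ : fr O (P.generators.I × Q.relations.I) ⟶
    fr O (P.generators.I × Q.generators.I) :=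
  (freeTensIso O P.generators.I Q.relations.I).inv ≫ mapR (fr O P.generators.I) (relMap Q) ≫
    (freeTensIso O P.generators.I Q.generators.I).hom

/-- the relations map of the tensor product of two presentations -/
noncomputable def tensRel :
    fr O ((P.relations.I × Q.generators.I) ⊕ (P.generators.I × Q.relations.I)) ⟶
      fr O (P.generators.I × Q.generators.I) :=
  freeSumDesc (rel₁ P Q) (rel₂ P Q)

theorem rel₁_π : rel₁ P Q ≫ tensπ P Q = 0 := by
  unfold rel₁ tensπ pq
  simp only [Category.assoc, Iso.hom_inv_id_assoc]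
  rw [← Category.assoc (mapL (relMap P) _), ← mapL_comp, relMap_π, mapL_zero, zero_comp, comp_zero]

theorem rel₂_π : rel₂ P Q ≫ tensπ P Q = 0 := by
  unfold rel₂ tensπ pq
  simp only [Category.assoc, Iso.hom_inv_id_assoc]
  rw [mapL_mapR_comm, ← Category.assoc (mapR _ (relMap Q)), ← mapR_comp, relMap_π, mapR_zero,
    zero_comp, comp_zero]

theorem tensRel_π : tensRel P Q ≫ tensπ P Q = 0 := by
  apply free_sum_hom_ext
  · unfold tensRel
    rw [← Category.assoc, inl_freeSumDesc, rel₁_π, comp_zero]
  · unfold tensRel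
    rw [← Category.assoc, inr_freeSumDesc, rel₂_π, comp_zero]

instance epi_tensπ : Epi (tensπ P Q) := by
  haveI := epi_pq _ _ _ (presIsColimit P) _ _ _ (presIsColimit Q)
  unfold tensπ
  infer_instance

theorem exists_desc_tens {A : ModSite.Mod O} (k : fr O (P.generators.I × Q.generators.I) ⟶ A)
    (hk : tensRel P Q ≫ k = 0) : ∃ l : tn O M N ⟶ A, tensπ P Q ≫ l = k := by
  have hk1 : rel₁ P Q ≫ k = 0 := by
    have := congrArg (fun φ => SheafOfModules.freeMap Sum.inl ≫ φ) hk
    simp only [comp_zero] at this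
    unfold tensRel at this
    rwa [← Category.assoc, inl_freeSumDesc] at this
  have hk2 : rel₂ P Q ≫ k = 0 := by
    have := congrArg (fun φ => SheafOfModules.freeMap Sum.inr ≫ φ) hk
    simp only [comp_zero] at this
    unfold tensRel at this
    rwa [← Category.assoc, inr_freeSumDesc] at this
  have h1 : mapL (relMap P) (fr O Q.generators.I) ≫
      ((freeTensIso O P.generators.I Q.generators.I).hom ≫ k) = 0 := by
    unfold rel₁ at hk1
    rw [Category.assoc, Category.assoc] at hk1
    exact (cancel_epi (freeTensIso O P.relations.I Q.generators.I).inv).1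
      (hk1.trans comp_zero.symm)
  have h2 : mapR (fr O P.generators.I) (relMap Q) ≫
      ((freeTensIso O P.generators.I Q.generators.I).hom ≫ k) = 0 := by
    unfold rel₂ at hk2
    rw [Category.assoc, Category.assoc] at hk2
    exact (cancel_epi (freeTensIso O P.generators.I Q.relations.I).inv).1
      (hk2.trans comp_zero.symm)
  obtain ⟨d, hd⟩ := exists_desc (relMap P) P.generators.π (relMap_π P) (presIsColimit P)
    (relMap Q) Q.generators.π (relMap_π Q) (presIsColimit Q)
    ((freeTensIso O P.generators.I Q.generators.I).hom ≫ k) h1 h2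
  refine ⟨d, ?_⟩
  unfold tensπ
  rw [Category.assoc, hd, Iso.inv_hom_id_assoc]

/-- the tensor product of two cokernel presentations is a cokernel presentation -/
noncomputable def isColimitTens :
    IsColimit (CokernelCofork.ofπ (tensπ P Q) (tensRel_π P Q)) :=
  CokernelCofork.IsColimit.ofπ' _ _ (fun k hk =>
    ⟨(exists_desc_tens P Q k hk).choose, (exists_desc_tens P Q k hk).choose_spec⟩)

/-- **the tensor product of two presentations** -/
noncomputable def tensorPresentation : SheafOfModules.Presentation (tn O M N) :=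
  SheafOfModules.presentationOfIsCokernelFree (tensRel P Q) (tensπ P Q) (tensRel_π P Q)
    (isColimitTens P Q)

theorem tensorPresentation_generators_I :
    (tensorPresentation P Q).generators.I = (P.generators.I × Q.generators.I) := rfl

theorem tensorPresentation_relations_I :
    (tensorPresentation P Q).relations.I =
      ((P.relations.I × Q.generators.I) ⊕ (P.generators.I × Q.relations.I)) := rfl

end pres

end Groth.Agent.R2.H30.TensPres
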