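import Mathlib
import Groth.Prelude.Def_ModSite2
import Groth.Agent.Lib.Helper21ModRestr
import Groth.Agent.R2.H30TensPres
set_option backward.isDefEq.respectTransparency.types false

/-!
# helper30: quasi-coherent data with index types in a given class, and tensor products

`HasQData PP M`: `M` has `QuasicoherentData` all of whose local presentations have index types
`(generators, relations)` in the class `PP`.  `PP = ⊤` is quasi-coherence, `PP = (Finite, Finite)` is
finite presentation, `PP = (-, IsEmpty)` is local freeness.  Stability under restriction, gluing,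
isomorphisms and (for classes stable under the relevant operation) tensor products.
-/

set_option autoImplicit false
set_option linter.style.haveILetI false
universe u
open CategoryTheory CategoryTheory.Limits Opposite

namespace Groth.Agent.R2.H30.TensQC

open Groth.Agent.R2.H30.TensPres

variable {C : Type u} [SmallCategory C] {J : GrothendieckTopology C}

section general

variable {R : Sheaf J RingCat.{u}} (PP : Type u → Type u → Prop)

/-- `M` has quasi-coherent data whose presentations have index types in `PP` -/
def HasQData (M : SheafOfModules.{u} R) : Prop :=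
  ∃ q : SheafOfModules.QuasicoherentData.{u} (R := R) M,
    ∀ i, PP (q.presentation i).generators.I (q.presentation i).relations.I

/-- the class `PP` is stable under the index operation of tensor products of presentations -/
def TensStable' (PP : Type u → Type u → Prop) : Prop :=
  ∀ I₀ I₁ J₀ J₁ : Type u, PP I₀ I₁ → PP J₀ J₁ → PP (I₀ × J₀) ((I₁ × J₀) ⊕ (I₀ × J₁))

variable {PP}

theorem HasQData.of_iso [HasBinaryProducts C] {M N : SheafOfModules.{u} R} (e : M ≅ N)
    (h : HasQData PP M) : HasQData PP N := by
  obtain ⟨q, hq⟩ := h
  refine ⟨SheafOfModules.QuasicoherentData.ofIsIso (M := M) (N := N) e.hom q, ?_⟩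
  intro i
  exact hq i

open SheafOfModules in
theorem HasQData.over [HasBinaryProducts C] [HasPullbacks C] {M : SheafOfModules.{u} R}
    (h : HasQData PP M) (X : C) : HasQData PP (M.over X) := by
  obtain ⟨q, hq⟩ := h
  have hh : ∀ (X' : Over X) (Y : C) (f : (Over.forget X).obj X' ⟶ Y),
      PreservesColimitsOfSize.{u, u} <|
      pushforward.{u} (R := (R.over Y)) (F := Over.post (X := X') (Over.forget X) ⋙ Over.map f)
        (((Over.forget X').sheafPushforwardContinuous RingCat.{u} ((J.over X).over X')
          (J.over X)).map (𝟙 (R.over X))) := by
    intro X' Y f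
    let G' := Over.post (X := X') (Over.forget X) ⋙ Over.map f
    have : G'.IsContinuous ((J.over X).over X') (J.over Y) :=
      Functor.isContinuous_comp _ _ _ (J.over _) _
    have : G'.IsCocontinuous ((J.over X).over X') (J.over Y) :=
      isCocontinuous_comp _ _ _ (J.over _)
    let a : (R.over X).over X' ⟶
        (G'.sheafPushforwardContinuous RingCat.{u} ((J.over X).over X') (J.over Y)).obj
          (R.over Y) :=
      ((Over.forget X').sheafPushforwardContinuous RingCat.{u} ((J.over X).over X')
        (J.over X)).map (𝟙 (R.over X))
    haveI : IsIso a := by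
      dsimp only [a]
      erw [CategoryTheory.Functor.map_id]
      exact IsIso.id _
    have : (pushforward.{u} a).IsLeftAdjoint := isLeftAdjoint_pushforward_of_isIso a
    infer_instance
  refine ⟨QuasicoherentData.pushforward (Over.forget X) (𝟙 (R.over X)) (Iso.refl _) hh q, ?_⟩
  intro i
  exact hq i.2.1

open SheafOfModules in
theorem HasQData.of_coversTop [HasBinaryProducts C] (M : SheafOfModules.{u} R) {I : Type u}
    (X : I → C) (hX : J.CoversTop X) (h : ∀ i, HasQData PP (M.over (X i))) : HasQData PP M := by
  choose D hD using h
  refine ⟨QuasicoherentData.bind M X hX D, ?_⟩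
  rintro ⟨i, j⟩
  exact hD i j

end general

section classes

variable {R : Sheaf J RingCat.{u}} (M : SheafOfModules.{u} R)

theorem isQuasicoherent_iff_hasQData :
    SheafOfModules.IsQuasicoherent M ↔ HasQData (fun _ _ => True) M := by
  constructor
  · rintro ⟨⟨q⟩⟩
    exact ⟨q, fun _ => trivial⟩
  · rintro ⟨q, -⟩
    exact q.isQuasicoherent

theorem isFinitePresentation_iff_hasQData :
    SheafOfModules.IsFinitePresentation M ↔ HasQData (fun I₀ I₁ => Finite I₀ ∧ Finite I₁) M := by
  constructor
  · rintro ⟨q, hq⟩
    refine ⟨q, fun i => ?_⟩
    have h := hq.isFinite_presentation i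
    exact ⟨h.isFiniteType_generators.finite, h.isFiniteType_relations.finite⟩
  · rintro ⟨q, hq⟩
    have hfp : q.IsFinitePresentation :=
      { isFinite_presentation := fun i =>
          { isFiniteType_generators := { finite := (hq i).1 }
            isFiniteType_relations := { finite := (hq i).2 } } }
    exact { exists_quasicoherentData := ⟨q, hfp⟩ }

theorem isZero_free_of_isEmpty (I : Type u) [IsEmpty I] :
    IsZero (SheafOfModules.free (R := R) I) := by
  rw [IsZero.iff_id_eq_zero]
  apply (SheafOfModules.freeHomEquiv _).injective
  funext i
  exact isEmptyElim i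

theorem isIso_π_of_isEmpty {N : SheafOfModules.{u} R} (P : SheafOfModules.Presentation N)
    [IsEmpty P.relations.I] : IsIso P.generators.π := by
  have hz : IsZero (kernel P.generators.π) := by
    rw [IsZero.iff_id_eq_zero]
    haveI := P.relations.epi
    rw [← cancel_epi ((kernel P.generators.π).freeHomEquiv.symm P.relations.s)]
    exact (isZero_free_of_isEmpty P.relations.I).eq_of_src _ _
  haveI : Mono P.generators.π := Preadditive.mono_of_isZero_kernel _ hz
  exact isIso_of_mono_of_epi _

theorem isLocallyFree_iff_hasQData :
    SheafOfModules.IsLocallyFree M ↔ HasQData (fun _ I₁ => IsEmpty I₁) M := by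
  constructor
  · rintro ⟨q, hq⟩
    refine ⟨q.quasiCoherentData, fun i => ?_⟩
    exact (inferInstance : IsEmpty (ULift Empty))
  · rintro ⟨q, hq⟩
    have hlf : SheafOfModules.LocalGeneratorsData.IsLocallyFreeData (R := R) (M := M)
        q.localGeneratorsData :=
      { isIso := fun i => by
          haveI := hq i
          exact isIso_π_of_isEmpty (q.presentation i) }
    exact SheafOfModules.LocalGeneratorsData.isLocallyFree (R := R) (M := M) q.localGeneratorsData

theorem tensStable_true : TensStable' (fun _ _ : Type u => True) := fun _ _ _ _ _ _ => trivial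

theorem tensStable_finite :
    TensStable' (fun I₀ I₁ : Type u => Finite I₀ ∧ Finite I₁) := by
  rintro I₀ I₁ J₀ J₁ ⟨h1, h2⟩ ⟨h3, h4⟩
  exact ⟨inferInstance, inferInstance⟩

theorem tensStable_isEmpty : TensStable' (fun _ I₁ : Type u => IsEmpty I₁) := by
  intro I₀ I₁ J₀ J₁ h1 h2
  haveI := h1
  haveI := h2
  infer_instance

end classes

section tensor

variable [HasBinaryProducts C] (O : Sheaf J CommRingCat.{u}) {PP : Type u → Type u → Prop}

/-- restriction of a global presentation to `C/x` -/
noncomputable def presOver {M : ModSite.Mod O} (P : SheafOfModules.Presentation M) (x : C) :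
    SheafOfModules.Presentation (R := ModSite.ringSh (O.over x)) ((ModSite.restr O x).obj M) :=
  P.map (SheafOfModules.pushforward (𝟙 ((ModSite.ringSh O).over x))) (by rfl)

theorem presOver_generators_I {M : ModSite.Mod O} (P : SheafOfModules.Presentation M) (x : C) :
    (presOver O P x).generators.I = P.generators.I := rfl

theorem presOver_relations_I {M : ModSite.Mod O} (P : SheafOfModules.Presentation M) (x : C) :
    (presOver O P x).relations.I = P.relations.I := rfl

/-- the local presentation of `M ⊗ N` over `x` from a global presentation of `M` and a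
presentation of `N` over `x` -/
noncomputable def tensPresOver {M N : ModSite.Mod O} (P : SheafOfModules.Presentation M) (x : C)
    (Q : SheafOfModules.Presentation (R := ModSite.ringSh (O.over x)) ((ModSite.restr O x).obj N)) :
    SheafOfModules.Presentation (R := ModSite.ringSh (O.over x))
      ((ModSite.restr O x).obj (tn O M N)) :=
  SheafOfModules.Presentation.ofIsIso
    (Groth.Agent.Lib.Helper21.ModRestr.restrTensorIso O x M N).inv
    (tensorPresentation (O := O.over x) (presOver O P x) Q)

theorem tensPresOver_generators_I {M N : ModSite.Mod O} (P : SheafOfModules.Presentation M) (x : C)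
    (Q : SheafOfModules.Presentation (R := ModSite.ringSh (O.over x)) ((ModSite.restr O x).obj N)) :
    (tensPresOver O P x Q).generators.I = (P.generators.I × Q.generators.I) := rfl

theorem tensPresOver_relations_I {M N : ModSite.Mod O} (P : SheafOfModules.Presentation M) (x : C)
    (Q : SheafOfModules.Presentation (R := ModSite.ringSh (O.over x)) ((ModSite.restr O x).obj N)) :
    (tensPresOver O P x Q).relations.I =
      ((P.relations.I × Q.generators.I) ⊕ (P.generators.I × Q.relations.I)) := rfl

theorem hasQData_tens_of_presentation (hPP : TensStable' PP) {M N : ModSite.Mod O}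
    (P : SheafOfModules.Presentation M) (hP : PP P.generators.I P.relations.I)
    (hN : HasQData (R := ModSite.ringSh O) PP N) :
    HasQData (R := ModSite.ringSh O) PP (tn O M N) := by
  obtain ⟨q, hq⟩ := hN
  refine ⟨{ I := q.I
            X := q.X
            coversTop := q.coversTop
            presentation := fun i => tensPresOver O P (q.X i) (q.presentation i) }, ?_⟩
  intro i
  exact hPP _ _ _ _ hP (hq i)

/-- **tensor products preserve quasi-coherent data with index types in a tensor-stable class** -/
theorem hasQData_tens [HasPullbacks C] [∀ x : C, HasBinaryProducts (Over x)]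
    (hPP : TensStable' PP) {M N : ModSite.Mod O}
    (hM : HasQData (R := ModSite.ringSh O) PP M) (hN : HasQData (R := ModSite.ringSh O) PP N) :
    HasQData (R := ModSite.ringSh O) PP (tn O M N) := by
  obtain ⟨q, hq⟩ := hM
  apply HasQData.of_coversTop (tn O M N) q.X q.coversTop
  intro i
  have hN' : HasQData (R := ModSite.ringSh (O.over (q.X i))) PP ((ModSite.restr O (q.X i)).obj N) :=
    hN.over (q.X i)
  have h := hasQData_tens_of_presentation (O.over (q.X i)) hPP (q.presentation i) (hq i) hN'
  exact h.of_iso (Groth.Agent.Lib.Helper21.ModRestr.restrTensorIso O (q.X i) M N).symm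

end tensor

end Groth.Agent.R2.H30.TensQC
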