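import Groth.Agent.R2.H31ExtAR
import Mathlib.Algebra.Homology.DerivedCategory.SingleTriangle

/-!
# Essential constancy of `Ext^i(K, M/I^n M)` for pseudo-coherent `K` (helper31)
-/

set_option autoImplicit false
universe u
open CategoryTheory Limits Pretriangulated DerivedCategory
attribute [local instance] HasDerivedCategory.standard
open CAlg

namespace Groth.Agent.R2.H31.ExtEC

open Groth.Agent.R2.H31.ExtAR

section Tri
variable {C : Type*} [Category C] [Preadditive C] [HasZeroObject C] [HasShift C ℤ]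
  [∀ n : ℤ, (shiftFunctor C n).Additive] [Pretriangulated C]

lemma shift_dist (T : Triangle C) (hT : T ∈ distTriang C) (i : ℤ) :
    Triangle.mk (i.negOnePow • T.mor₁⟦i⟧') (i.negOnePow • T.mor₂⟦i⟧')
      (i.negOnePow • T.mor₃⟦i⟧' ≫ (shiftFunctorComm C 1 i).hom.app T.obj₁) ∈ distTriang C :=
  Triangle.shift_distinguished T hT i

lemma exact_shift₂ (T : Triangle C) (hT : T ∈ distTriang C) (i : ℤ) {X : C}
    (f : X ⟶ T.obj₂⟦i⟧) (hf : f ≫ T.mor₂⟦i⟧' = 0) :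
    ∃ g : X ⟶ T.obj₁⟦i⟧, f = g ≫ T.mor₁⟦i⟧' := by
  have h0 : f ≫ (i.negOnePow • T.mor₂⟦i⟧') = 0 := by
    rw [Linear.comp_units_smul, hf, smul_zero]
  obtain ⟨g, hg⟩ : ∃ g : X ⟶ T.obj₁⟦i⟧, f = g ≫ (i.negOnePow • T.mor₁⟦i⟧') :=
    Triangle.coyoneda_exact₂ _ (shift_dist T hT i) f h0
  refine ⟨i.negOnePow • g, ?_⟩
  rw [hg, Linear.comp_units_smul, Linear.units_smul_comp]

lemma exact_shift₃ (T : Triangle C) (hT : T ∈ distTriang C) (i : ℤ) {X : C}
    (f : X ⟶ T.obj₃⟦i⟧) (hf : f ≫ T.mor₃⟦i⟧' = 0) :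
    ∃ g : X ⟶ T.obj₂⟦i⟧, f = g ≫ T.mor₂⟦i⟧' := by
  have h0 : f ≫ (i.negOnePow • T.mor₃⟦i⟧' ≫ (shiftFunctorComm C 1 i).hom.app T.obj₁) = 0 := by
    rw [Linear.comp_units_smul, reassoc_of% hf, zero_comp, smul_zero]
  obtain ⟨g, hg⟩ : ∃ g : X ⟶ T.obj₂⟦i⟧, f = g ≫ (i.negOnePow • T.mor₂⟦i⟧') :=
    Triangle.coyoneda_exact₃ _ (shift_dist T hT i) f h0
  refine ⟨i.negOnePow • g, ?_⟩
  rw [hg, Linear.comp_units_smul, Linear.units_smul_comp]

end Tri

section Mod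
variable {A : Type u} [CommRing A]

lemma exists_pow_kill (I : Ideal A) (E : Type*) [AddCommGroup E] [Module A E] [Module.Finite A E]
    (h : ∀ e : E, ∃ n : ℕ, ∀ x ∈ I ^ n, x • e = 0) :
    ∃ N : ℕ, ∀ x ∈ I ^ N, ∀ e : E, x • e = 0 := by
  obtain ⟨s, hs⟩ := (Module.finite_def (R := A) (M := E)).1 inferInstance
  choose n hn using h
  refine ⟨s.sup n, fun x hx e => ?_⟩
  have hle : Submodule.span A (s : Set E) ≤ LinearMap.ker (LinearMap.lsmul A E x) := by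
    rw [Submodule.span_le]
    intro e he
    rw [SetLike.mem_coe, LinearMap.mem_ker, LinearMap.lsmul_apply]
    exact hn e x (Ideal.pow_le_pow_right (Finset.le_sup he) hx)
  have he : e ∈ Submodule.span A (s : Set E) := by rw [hs]; trivial
  have := hle he
  rwa [LinearMap.mem_ker, LinearMap.lsmul_apply] at this

variable {M : Type u} [AddCommGroup M] [Module A M]

/-- the short exact sequence `0 → P → M → M/P → 0`. -/
noncomputable def ses (P : Submodule A M) : ShortComplex (ModuleCat.{u} A) :=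
  ShortComplex.mk (ModuleCat.ofHom P.subtype) (ModuleCat.ofHom P.mkQ)
    (ModuleCat.hom_ext (LinearMap.ext fun y =>
      (LinearMap.exact_subtype_mkQ P).apply_apply_eq_zero y))

lemma ses_shortExact (P : Submodule A M) : (ses P).ShortExact :=
  ModuleCat.shortComplex_shortExact _ (LinearMap.exact_subtype_mkQ P)
    (Submodule.injective_subtype _) (Submodule.mkQ_surjective _)

/-- the morphism of short exact sequences for `P ≤ P'`. -/
noncomputable def sesMap {P P' : Submodule A M} (h : P ≤ P') : ses P ⟶ ses P' where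
  τ₁ := ModuleCat.ofHom (Submodule.inclusion h)
  τ₂ := 𝟙 _
  τ₃ := ModuleCat.ofHom (Submodule.mapQ P P' LinearMap.id (by simpa using h))
  comm₁₂ := by
    apply ModuleCat.hom_ext
    rfl
  comm₂₃ := by
    apply ModuleCat.hom_ext
    rfl

lemma range_inclusion_le (I : Ideal A) (n k : ℕ) :
    LinearMap.range (Submodule.inclusion (Submodule.smul_mono_left (Ideal.pow_le_pow_right
      (Nat.le_add_right n k)) : (I ^ (n + k) • ⊤ : Submodule A M) ≤ I ^ n • ⊤)) ≤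
      (I ^ k • ⊤ : Submodule A ↥(I ^ n • ⊤ : Submodule A M)) := by
  rintro _ ⟨⟨x, hx⟩, rfl⟩
  have h1 : (I ^ (n + k) • ⊤ : Submodule A M) =
      Submodule.map (I ^ n • ⊤ : Submodule A M).subtype (I ^ k • ⊤) := by
    rw [Submodule.map_smul'', Submodule.map_subtype_top, add_comm, pow_add, Submodule.mul_smul]
  have hx' := hx
  rw [h1] at hx'
  obtain ⟨y, hy, hyx⟩ := hx'
  have : Submodule.inclusion (Submodule.smul_mono_left (Ideal.pow_le_pow_right
      (Nat.le_add_right n k)) : (I ^ (n + k) • ⊤ : Submodule A M) ≤ I ^ n • ⊤) ⟨x, hx⟩ = y :=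
    Subtype.ext hyx.symm
  rw [this]
  exact hy

variable [IsNoetherianRing A]

theorem part1 (I : Ideal A) (K : Dual.D A) (hK : DRing.IsPseudoCoherent' A K)
    (M : Type u) [AddCommGroup M] [Module A M] [Module.Finite A M] (i : ℤ)
    (htors : ∀ e : K ⟶ (Dual.inD A M)⟦i⟧, ∃ n : ℕ, ∀ x ∈ I ^ n, x • e = 0) :
    ∃ m : ℕ, Function.Injective (fun e : K ⟶ (Dual.inD A M)⟦i⟧ =>
      e ≫ ((singleFunctor (ModuleCat.{u} A) 0).map
        (ModuleCat.ofHom (I ^ m • ⊤ : Submodule A M).mkQ))⟦i⟧') := by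
  have := finite_hom_of_pc K hK M i
  obtain ⟨N, hN⟩ := exists_pow_kill I (K ⟶ (Dual.inD A M)⟦i⟧) htors
  obtain ⟨c, hc⟩ := ext_artin_rees I K hK M i
  refine ⟨c + N, fun e e' hee' => ?_⟩
  have hT := (ses_shortExact (I ^ (c + N) • ⊤ : Submodule A M)).singleTriangle_distinguished
  have h0 : (e - e') ≫ ((singleFunctor (ModuleCat.{u} A) 0).map
        (ModuleCat.ofHom (I ^ (c + N) • ⊤ : Submodule A M).mkQ))⟦i⟧' = 0 := by
    rw [Preadditive.sub_comp, sub_eq_zero]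
    exact hee'
  obtain ⟨g, hg⟩ := exact_shift₂ _ hT i (e - e') h0
  have hmem := hc (c + N) (Nat.le_add_right c N) ↥(I ^ (c + N) • ⊤ : Submodule A M)
    (I ^ (c + N) • ⊤ : Submodule A M).subtype (by rw [Submodule.range_subtype]) g
  have hbot : (I ^ N • ⊤ : Submodule A (K ⟶ (Dual.inD A M)⟦i⟧)) = ⊥ := by
    rw [eq_bot_iff, Submodule.smul_le]
    intro r hr e _
    rw [Submodule.mem_bot]
    exact hN r hr e
  rw [Nat.add_sub_cancel_left, hbot, Submodule.mem_bot] at hmem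
  have : e - e' = 0 := hg.trans hmem
  exact sub_eq_zero.1 this

theorem part2 (I : Ideal A) (K : Dual.D A) (hK : DRing.IsPseudoCoherent' A K)
    (M : Type u) [AddCommGroup M] [Module A M] [Module.Finite A M] (i : ℤ) (n : ℕ)
    (htors : ∀ e : K ⟶ (Dual.inD A ↥(I ^ n • ⊤ : Submodule A M))⟦i + 1⟧,
      ∃ k : ℕ, ∀ x ∈ I ^ k, x • e = 0) :
    ∃ (m' : ℕ) (hnm : n ≤ m'),
      ∀ x' : K ⟶ (Dual.inD A (M ⧸ (I ^ m' • ⊤ : Submodule A M)))⟦i⟧,
      ∃ e : K ⟶ (Dual.inD A M)⟦i⟧,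
        e ≫ ((singleFunctor (ModuleCat.{u} A) 0).map
          (ModuleCat.ofHom (I ^ n • ⊤ : Submodule A M).mkQ))⟦i⟧' =
        x' ≫ ((singleFunctor (ModuleCat.{u} A) 0).map (ModuleCat.ofHom
          (Submodule.mapQ (I ^ m' • ⊤ : Submodule A M) (I ^ n • ⊤ : Submodule A M)
            (LinearMap.id : M →ₗ[A] M)
            (Submodule.smul_mono_left (Ideal.pow_le_pow_right hnm)))))⟦i⟧' := by
  have : Module.Finite A ↥(I ^ n • ⊤ : Submodule A M) := inferInstance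
  have := finite_hom_of_pc K hK ↥(I ^ n • ⊤ : Submodule A M) (i + 1)
  obtain ⟨N', hN'⟩ := exists_pow_kill I
    (K ⟶ (Dual.inD A ↥(I ^ n • ⊤ : Submodule A M))⟦i + 1⟧) htors
  obtain ⟨c', hc'⟩ := ext_artin_rees I K hK ↥(I ^ n • ⊤ : Submodule A M) (i + 1)
  refine ⟨n + (c' + N'), Nat.le_add_right _ _, fun x' => ?_⟩
  have hle : (I ^ (n + (c' + N')) • ⊤ : Submodule A M) ≤ I ^ n • ⊤ :=
    Submodule.smul_mono_left (Ideal.pow_le_pow_right (Nat.le_add_right _ _))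
  have hT := (ses_shortExact (I ^ n • ⊤ : Submodule A M)).singleTriangle_distinguished
  let ι₁ : Dual.inD A ↥(I ^ (n + (c' + N')) • ⊤ : Submodule A M) ⟶
      Dual.inD A ↥(I ^ n • ⊤ : Submodule A M) :=
    (singleFunctor (ModuleCat.{u} A) 0).map (ModuleCat.ofHom (Submodule.inclusion hle))
  let q₃ : Dual.inD A (M ⧸ (I ^ (n + (c' + N')) • ⊤ : Submodule A M)) ⟶
      Dual.inD A (M ⧸ (I ^ n • ⊤ : Submodule A M)) :=
    (singleFunctor (ModuleCat.{u} A) 0).map (ModuleCat.ofHom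
      (Submodule.mapQ (I ^ (n + (c' + N')) • ⊤ : Submodule A M) (I ^ n • ⊤ : Submodule A M)
        (LinearMap.id : M →ₗ[A] M) (Submodule.smul_mono_left
          (Ideal.pow_le_pow_right (Nat.le_add_right _ _)))))
  let δ' : Dual.inD A (M ⧸ (I ^ (n + (c' + N')) • ⊤ : Submodule A M)) ⟶
      (Dual.inD A ↥(I ^ (n + (c' + N')) • ⊤ : Submodule A M))⟦(1 : ℤ)⟧ :=
    (ses_shortExact (I ^ (n + (c' + N')) • ⊤ : Submodule A M)).singleδ
  let δ : Dual.inD A (M ⧸ (I ^ n • ⊤ : Submodule A M)) ⟶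
      (Dual.inD A ↥(I ^ n • ⊤ : Submodule A M))⟦(1 : ℤ)⟧ :=
    (ses_shortExact (I ^ n • ⊤ : Submodule A M)).singleδ
  have hcomm : δ' ≫ ι₁⟦(1 : ℤ)⟧' = q₃ ≫ δ :=
    (ShortComplex.ShortExact.singleTriangle.map
      (ses_shortExact (I ^ (n + (c' + N')) • ⊤ : Submodule A M))
      (ses_shortExact (I ^ n • ⊤ : Submodule A M)) (sesMap hle)).comm₃
  -- the key vanishing
  have hbot : (I ^ N' • ⊤ :
      Submodule A (K ⟶ (Dual.inD A ↥(I ^ n • ⊤ : Submodule A M))⟦i + 1⟧)) = ⊥ := by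
    rw [eq_bot_iff, Submodule.smul_le]
    intro r hr e _
    rw [Submodule.mem_bot]
    exact hN' r hr e
  have hy0 : (x' ≫ δ'⟦i⟧') ≫ (ι₁⟦(1 : ℤ)⟧')⟦i⟧' = 0 := by
    have hmem := hc' (c' + N') (Nat.le_add_right _ _)
      ↥(I ^ (n + (c' + N')) • ⊤ : Submodule A M) (Submodule.inclusion hle)
      (range_inclusion_le I n (c' + N'))
      ((x' ≫ δ'⟦i⟧') ≫ (shiftFunctorAdd' (Dual.D A) 1 i (i + 1) (add_comm _ _)).inv.app _)
    rw [Nat.add_sub_cancel_left, hbot, Submodule.mem_bot] at hmem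
    have hnat := (shiftFunctorAdd' (Dual.D A) 1 i (i + 1) (add_comm _ _)).inv.naturality ι₁
    have h2 : (ι₁⟦(1 : ℤ)⟧')⟦i⟧' =
        (shiftFunctorAdd' (Dual.D A) 1 i (i + 1) (add_comm _ _)).inv.app _ ≫ ι₁⟦i + 1⟧' ≫
          (shiftFunctorAdd' (Dual.D A) 1 i (i + 1) (add_comm _ _)).hom.app _ := by
      rw [← Category.assoc, ← hnat]
      simp
    rw [h2, ← Category.assoc, ← Category.assoc]
    exact (congrArg (· ≫ (shiftFunctorAdd' (Dual.D A) 1 i (i + 1) (add_comm _ _)).hom.app _) hmem).trans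
      zero_comp
  have h0 : (x' ≫ q₃⟦i⟧') ≫ δ⟦i⟧' = 0 := by
    rw [Category.assoc, ← Functor.map_comp, ← hcomm, Functor.map_comp, ← Category.assoc]
    exact hy0
  obtain ⟨g, hg⟩ := exact_shift₃ _ hT i (x' ≫ q₃⟦i⟧') h0
  exact ⟨g, hg.symm⟩

end Mod

end Groth.Agent.R2.H31.ExtEC
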