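import Mathlib
import Groth.Agent.R2.H31ExtEC
import Groth.Agent.S14388

/-!
# Contravariant Artin–Rees for `Ext` into torsion modules, and dévissage (helper31)

For a Noetherian ring `A`, an ideal `I`, a finite module `M` and a module `N` killed by a power of
`I`, the restriction `Ext^d(M, N) → Ext^d(I^m M, N)` vanishes for `m` large.  By dévissage the same
holds with `N[d]` replaced by any cohomologically bounded object of `D(A)` whose cohomology
modules are killed by powers of `I`.
-/

set_option autoImplicit false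
universe u
open CategoryTheory Limits Pretriangulated DerivedCategory
attribute [local instance] HasDerivedCategory.standard

namespace Groth.Agent.R2.H31.KL

variable {A : Type u} [CommRing A]

/-- a module placed in degree `0` of `D(A)` -/
noncomputable abbrev sg (M : ModuleCat.{u} A) : DerivedCategory (ModuleCat.{u} A) :=
  (singleFunctor (ModuleCat.{u} A) 0).obj M

lemma lemmaV (F N : ModuleCat.{u} A) [Projective F] (p : ℤ) (hp : 0 < p)
    (y : sg F ⟶ (sg N)⟦p⟧) : y = 0 := by
  let e : (sg N)⟦p⟧ ≅ (singleFunctor (ModuleCat.{u} A) (-p)).obj N :=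
    ((singleFunctors (ModuleCat.{u} A)).shiftIso p (-p) 0 (by omega)).app N
  have h : y ≫ e.hom = 0 :=
    from_singleFunctor_obj_eq_zero_of_projective (P := F)
      (L := (CochainComplex.singleFunctor (ModuleCat.{u} A) (-p)).obj N) (i := 0)
      (y ≫ e.hom) (-p) (by omega)
  rw [← cancel_mono e.hom, h, zero_comp]

/-- the vanishing property: all maps `M[0] → F` die on `I^m M` for `m` large (uniformly). -/
def Van (I : Ideal A) (F : DerivedCategory (ModuleCat.{u} A)) : Prop :=
  ∀ (M : ModuleCat.{u} A) [Module.Finite A M], ∃ m : ℕ, ∀ (M' : ModuleCat.{u} A) (ι : M' ⟶ M),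
    LinearMap.range ι.hom ≤ (I ^ m • ⊤ : Submodule A M) → ∀ y : sg M ⟶ F,
      (singleFunctor (ModuleCat.{u} A) 0).map ι ≫ y = 0

lemma Van.of_iso {I : Ideal A} {F F' : DerivedCategory (ModuleCat.{u} A)} (e : F ≅ F')
    (h : Van I F) : Van I F' := by
  intro M _
  obtain ⟨m, hm⟩ := h M
  refine ⟨m, fun M' ι hι y => ?_⟩
  have := hm M' ι hι (y ≫ e.inv)
  rw [← cancel_mono e.inv, Category.assoc, this, zero_comp]

lemma Van.of_isZero {I : Ideal A} {F : DerivedCategory (ModuleCat.{u} A)} (h : IsZero F) :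
    Van I F := fun _ _ => ⟨0, fun _ _ _ y => by rw [h.eq_of_tgt y 0, comp_zero]⟩

section Noeth
variable [IsNoetherianRing A]

/-- closure under extensions -/
lemma Van.ext {I : Ideal A} (T : Triangle (DerivedCategory (ModuleCat.{u} A)))
    (hT : T ∈ distTriang _) (h₁ : Van I T.obj₁) (h₃ : Van I T.obj₃) : Van I T.obj₂ := by
  intro M _
  obtain ⟨m₃, hm₃⟩ := h₃ M
  let M₃ : ModuleCat.{u} A := ModuleCat.of A ↥(I ^ m₃ • ⊤ : Submodule A M)
  obtain ⟨m₁, hm₁⟩ := h₁ M₃
  refine ⟨m₃ + m₁, fun M' ι hι y => ?_⟩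
  -- factor `ι` through `I^{m₃} M`
  have hι3 : ∀ x, ι.hom x ∈ (I ^ m₃ • ⊤ : Submodule A M) := fun x =>
    Submodule.smul_mono_left (Ideal.pow_le_pow_right (Nat.le_add_right _ _)) (hι ⟨x, rfl⟩)
  let ι₀ : M' ⟶ M₃ := ModuleCat.ofHom (LinearMap.codRestrict _ ι.hom hι3)
  let inc : M₃ ⟶ M := ModuleCat.ofHom (I ^ m₃ • ⊤ : Submodule A M).subtype
  have hfac : ι = ι₀ ≫ inc := by
    apply ModuleCat.hom_ext
    rfl
  have h3 : ((singleFunctor (ModuleCat.{u} A) 0).map inc ≫ y) ≫ T.mor₂ = 0 := by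
    rw [Category.assoc]
    exact hm₃ M₃ inc (by
      show LinearMap.range (I ^ m₃ • ⊤ : Submodule A M).subtype ≤ _
      rw [Submodule.range_subtype]) (y ≫ T.mor₂)
  obtain ⟨z, hz⟩ := Triangle.coyoneda_exact₂ T hT _ h3
  have hι0 : LinearMap.range ι₀.hom ≤ (I ^ m₁ • ⊤ : Submodule A M₃) := by
    rintro _ ⟨x, rfl⟩
    have h1 : (I ^ (m₃ + m₁) • ⊤ : Submodule A M) =
        Submodule.map (I ^ m₃ • ⊤ : Submodule A M).subtype (I ^ m₁ • ⊤) := by
      rw [Submodule.map_smul'', Submodule.map_subtype_top, add_comm, pow_add, Submodule.mul_smul]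
    have hx : ι.hom x ∈ (I ^ (m₃ + m₁) • ⊤ : Submodule A M) := hι ⟨x, rfl⟩
    rw [h1] at hx
    obtain ⟨w, hw, hwx⟩ := hx
    have : ι₀.hom x = w := Subtype.ext hwx.symm
    rw [this]
    exact hw
  have := hm₁ M' ι₀ hι0 z
  rw [hfac, Functor.map_comp, Category.assoc, hz, reassoc_of% this, zero_comp]

/-- the key lemma: `Ext^d(M, N) → Ext^d(I^m M, N)` vanishes for `N` killed by a power of `I`. -/
theorem kl0 (I : Ideal A) (N : ModuleCat.{u} A) (k : ℕ) (hN : ∀ x ∈ I ^ k, ∀ z : N, x • z = 0) :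
    ∀ d : ℕ, Van I ((sg N)⟦(d : ℤ)⟧) := by
  intro d
  induction d with
  | zero =>
    intro M _
    refine ⟨k, fun M' ι hι y => ?_⟩
    let e0 := (shiftFunctorZero' (DerivedCategory (ModuleCat.{u} A)) (((0 : ℕ) : ℤ))
      (by simp)).app (sg N)
    obtain ⟨g, hg⟩ := (singleFunctor (ModuleCat.{u} A) 0).map_surjective (y ≫ e0.hom)
    have hιg : ι ≫ g = 0 := by
      apply ModuleCat.hom_ext
      apply LinearMap.ext
      intro x
      show g.hom (ι.hom x) = 0
      have hx : ι.hom x ∈ (I ^ k • ⊤ : Submodule A M) := hι ⟨x, rfl⟩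
      refine Submodule.smul_induction_on hx (fun r hr n _ => ?_) (fun a b ha hb => ?_)
      · rw [map_smul]
        exact hN r hr _
      · rw [map_add, ha, hb, add_zero]
    rw [← cancel_mono e0.hom, Category.assoc, ← hg, ← Functor.map_comp, hιg, Functor.map_zero,
      zero_comp]
  | succ d ih =>
    intro M _
    obtain ⟨r, π, hπ⟩ := Module.Finite.exists_fin' A M
    let F : ModuleCat.{u} A := ModuleCat.of A (Fin r → A)
    have hFproj : Projective F := ModuleCat.projective_of_categoryTheory_projective F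
    let K : Submodule A (Fin r → A) := LinearMap.ker π
    let S : ShortComplex (ModuleCat.{u} A) :=
      ShortComplex.mk (ModuleCat.ofHom K.subtype) (ModuleCat.ofHom π)
        (ModuleCat.hom_ext (LinearMap.ext fun x => x.2))
    have hS : S.ShortExact :=
      ModuleCat.shortComplex_shortExact _ (LinearMap.exact_subtype_ker_map π)
        (Submodule.injective_subtype _) hπ
    obtain ⟨m₁, hm₁⟩ := ih (ModuleCat.of A K)
    obtain ⟨c, hc⟩ := Ideal.exists_pow_inf_eq_pow_smul I K
    refine ⟨m₁ + c, fun M' ι hι y => ?_⟩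
    -- reduce to the inclusion of `I^m M`
    let Mm : Submodule A M := I ^ (m₁ + c) • ⊤
    let Fm : Submodule A (Fin r → A) := I ^ (m₁ + c) • ⊤
    let ι₀ : M' ⟶ ModuleCat.of A Mm := ModuleCat.ofHom (LinearMap.codRestrict _ ι.hom
      (fun x => hι ⟨x, rfl⟩))
    let inc : ModuleCat.of A Mm ⟶ M := ModuleCat.ofHom Mm.subtype
    have hfac : ι = ι₀ ≫ inc := by
      apply ModuleCat.hom_ext
      rfl
    suffices hsuff : (singleFunctor (ModuleCat.{u} A) 0).map inc ≫ y = 0 by
      rw [hfac, Functor.map_comp, Category.assoc, hsuff, comp_zero]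
    -- the sub short exact sequence
    have hmap : Submodule.map π Fm = Mm := by
      show Submodule.map π (I ^ (m₁ + c) • ⊤) = I ^ (m₁ + c) • ⊤
      rw [Submodule.map_smul'', Submodule.map_top, LinearMap.range_eq_top.2 hπ]
    let πm : Fm →ₗ[A] Mm := π.restrict (fun x hx => by
      rw [← hmap]
      exact Submodule.mem_map_of_mem hx)
    have hπm : Function.Surjective πm := by
      rintro ⟨y, hy⟩
      have hy' : y ∈ Submodule.map π Fm := by rw [hmap]; exact hy
      obtain ⟨x, hx, hxy⟩ := hy'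
      exact ⟨⟨x, hx⟩, Subtype.ext hxy⟩
    let Km : Submodule A Fm := LinearMap.ker πm
    let Sm : ShortComplex (ModuleCat.{u} A) :=
      ShortComplex.mk (ModuleCat.ofHom (X := Km) (Y := Fm) Km.subtype)
        (ModuleCat.ofHom (X := Fm) (Y := Mm) πm)
        (ModuleCat.hom_ext (LinearMap.ext fun x => x.2))
    have hSm : Sm.ShortExact :=
      ModuleCat.shortComplex_shortExact _ (LinearMap.exact_subtype_ker_map πm)
        (Submodule.injective_subtype _) hπm
    let τ₁' : Km →ₗ[A] K := LinearMap.codRestrict K (Fm.subtype ∘ₗ Km.subtype) (fun x => by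
      show π x.1.1 = 0
      exact congrArg Subtype.val (x.2 : πm x.1 = 0))
    let φ : Sm ⟶ S :=
      { τ₁ := ModuleCat.ofHom τ₁'
        τ₂ := ModuleCat.ofHom Fm.subtype
        τ₃ := ModuleCat.ofHom Mm.subtype
        comm₁₂ := by apply ModuleCat.hom_ext; rfl
        comm₂₃ := by apply ModuleCat.hom_ext; rfl }
    have hcomm : hSm.singleδ ≫ ((singleFunctor (ModuleCat.{u} A) 0).map φ.τ₁)⟦(1 : ℤ)⟧' =
        (singleFunctor (ModuleCat.{u} A) 0).map φ.τ₃ ≫ hS.singleδ :=
      (ShortComplex.ShortExact.singleTriangle.map hSm hS φ).comm₃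
    -- `y` comes from `Ext^d(K, N)`
    have hy0 : (singleFunctor (ModuleCat.{u} A) 0).map S.g ≫ y = 0 :=
      lemmaV F N _ (by push_cast; omega) _
    obtain ⟨y', hy''⟩ : ∃ y' : (sg (ModuleCat.of A K))⟦(1 : ℤ)⟧ ⟶ (sg N)⟦((d + 1 : ℕ) : ℤ)⟧,
        y = hS.singleδ ≫ y' :=
      Triangle.yoneda_exact₃ _ hS.singleTriangle_distinguished y hy0
    let ea := (shiftFunctorAdd' (DerivedCategory (ModuleCat.{u} A)) (d : ℤ) 1 ((d + 1 : ℕ) : ℤ)
      (by push_cast; ring)).app (sg N)
    obtain ⟨y₀, hy₀⟩ := (shiftFunctor (DerivedCategory (ModuleCat.{u} A)) (1 : ℤ)).map_surjective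
      (y' ≫ ea.hom)
    -- the restriction of `y₀` to `K ∩ I^m F` vanishes
    have hτ : LinearMap.range (ModuleCat.Hom.hom φ.τ₁) ≤
        (I ^ m₁ • ⊤ : Submodule A (ModuleCat.of A K)) := by
      rintro _ ⟨x, rfl⟩
      show τ₁' x ∈ (I ^ m₁ • ⊤ : Submodule A K)
      rw [Submodule.mem_smul_top_iff]
      have h1 : (x.1.1 : Fin r → A) ∈ (I ^ (m₁ + c) • ⊤ : Submodule A (Fin r → A)) ⊓ K :=
        ⟨x.1.2, (τ₁' x).2⟩
      rw [hc (m₁ + c) (Nat.le_add_left _ _), Nat.add_sub_cancel] at h1
      exact Submodule.smul_mono le_rfl inf_le_right h1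
    have h0 := hm₁ (ModuleCat.of A Km) φ.τ₁ hτ y₀
    have : ((singleFunctor (ModuleCat.{u} A) 0).map φ.τ₁)⟦(1 : ℤ)⟧' ≫ y' = 0 := by
      rw [← cancel_mono ea.hom, Category.assoc, ← hy₀, ← Functor.map_comp, h0, Functor.map_zero,
        zero_comp]
    show (singleFunctor (ModuleCat.{u} A) 0).map φ.τ₃ ≫ y = 0
    rw [hy'', ← Category.assoc, ← hcomm, Category.assoc, this, comp_zero]

open Groth.Agent.S14388 in
/-- cohomology modules killed by powers of `I` -/
def Tors (I : Ideal A) (F : DerivedCategory (ModuleCat.{u} A)) : Prop :=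
  ∀ i : ℤ, ∃ k : ℕ, ∀ x ∈ I ^ k, ∀ z : ((homologyFunctor (ModuleCat.{u} A) i).obj F : ModuleCat.{u} A),
    x • z = 0

lemma kill_of_iso {H₁ H₂ : ModuleCat.{u} A} (e : H₁ ≅ H₂) (J : Ideal A)
    (h : ∀ x ∈ J, ∀ z : H₁, x • z = 0) : ∀ x ∈ J, ∀ z : H₂, x • z = 0 := by
  intro x hx z
  have h1 : z = e.hom.hom (e.inv.hom z) := by
    have := congrArg (fun t => t.hom z) e.inv_hom_id
    exact this.symm
  rw [h1, ← map_smul, h x hx, map_zero]

lemma kill_of_isZero {H : ModuleCat.{u} A} (hH : IsZero H) (J : Ideal A) :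
    ∀ x ∈ J, ∀ z : H, x • z = 0 := by
  intro x _ z
  have := ModuleCat.subsingleton_of_isZero hH
  exact Subsingleton.elim _ _

open Groth.Agent.S14388 in
/-- dévissage: a cohomologically bounded object with `I`-power torsion cohomology satisfies the
vanishing property. -/
theorem van_of_tors (I : Ideal A) : ∀ (k : ℕ) (p : ℤ) (F : DerivedCategory (ModuleCat.{u} A)),
    F.IsGE p → F.IsLE (p + k - 1) → Tors I F → Van I F := by
  intro k
  induction k with
  | zero =>
    intro p F hGE hLE _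
    exact Van.of_isZero (tt.isZero F (p + ((0 : ℕ) : ℤ) - 1) p (by simp))
  | succ k ih =>
    intro p F hGE hLE hF
    have hLE' : F.IsLE (p + k) := by
      have e : p + ((k + 1 : ℕ) : ℤ) - 1 = p + k := by push_cast; ring
      rwa [e] at hLE
    have hT := tt.triangleLTGE_distinguished (p + k) F
    refine Van.ext _ hT ?_ ?_
    · -- the truncation `τ_{< p+k}`
      show Van I ((tt.truncLT (p + k)).obj F)
      apply ih p
      · infer_instance
      · exact tt.isLE_truncLT_obj F (p + k) (p + k - 1) (by omega)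
      · intro i
        by_cases hi : i < p + k
        · obtain ⟨n, hn⟩ := hF i
          have := isIso_homology_truncLTι (p + k) i hi F
          exact ⟨n, kill_of_iso (asIso ((homologyFunctor (ModuleCat.{u} A) i).map
            ((tt.truncLTι (p + k)).app F))).symm _ hn⟩
        · have : ((tt.truncLT (p + k)).obj F).IsLE (p + k - 1) := inferInstance
          exact ⟨0, kill_of_isZero
            (isZero_of_isLE ((tt.truncLT (p + k)).obj F) (p + k - 1) i (by omega)) _⟩
    · -- the top cohomology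
      show Van I ((tt.truncGE (p + k)).obj F)
      have h1 : ((tt.truncGE (p + k)).obj F).IsGE (p + k) := inferInstance
      have h2 : ((tt.truncGE (p + k)).obj F).IsLE (p + k) := inferInstance
      obtain ⟨H, ⟨e⟩⟩ := exists_iso_singleFunctor_obj_of_isGE_of_isLE
        ((tt.truncGE (p + k)).obj F) (p + k)
      by_cases hq : 0 < p + k
      · -- no maps from degree `≤ 0` objects
        intro M _
        refine ⟨0, fun M' ι _ y => ?_⟩
        have : y = 0 := tt.zero_of_isLE_of_isGE y 0 (p + k) hq inferInstance h1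
        rw [this, comp_zero]
      · obtain ⟨d, hd⟩ : ∃ d : ℕ, (d : ℤ) = -(p + k) := ⟨(-(p + k)).toNat, by omega⟩
        obtain ⟨n, hn⟩ := hF (p + k)
        have hH : ∀ x ∈ I ^ n, ∀ z : H, x • z = 0 := by
          have := isIso_homology_truncGEπ (p + k) (p + k) le_rfl F
          let e1 := asIso ((homologyFunctor (ModuleCat.{u} A) (p + k)).map
            ((tt.truncGEπ (p + k)).app F))
          let e2 := (homologyFunctor (ModuleCat.{u} A) (p + k)).mapIso e
          let e3 := (singleFunctorCompHomologyFunctorIso (ModuleCat.{u} A) (p + k)).app H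
          exact kill_of_iso (e1 ≪≫ e2 ≪≫ e3) _ hn
        have hv := kl0 I H n hH d
        let e4 : (sg H)⟦(d : ℤ)⟧ ≅ (singleFunctor (ModuleCat.{u} A) (p + k)).obj H :=
          ((singleFunctors (ModuleCat.{u} A)).shiftIso (d : ℤ) (p + k) 0 (by omega)).app H
        exact (hv.of_iso e4).of_iso e.symm

end Noeth

end Groth.Agent.R2.H31.KL
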