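import Mathlib
import Groth.Prelude.Def_Koszul
import Groth.Agent.R2.H31KoszulPerf
import Groth.Agent.R2.H31KL

/-!
# Koszul complexes: nilpotent action of the sequence, unit and augmentation (helper31)
-/

set_option autoImplicit false
universe u
open CategoryTheory Limits Pretriangulated DerivedCategory CochainComplex
attribute [local instance] HasDerivedCategory.standard

namespace Groth.Agent.R2.H31.KosFac

section Tri
variable {D : Type*} [Category D] [Preadditive D] [HasZeroObject D] [HasShift D ℤ]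
  [∀ n : ℤ, (CategoryTheory.shiftFunctor D n).Additive] [Pretriangulated D]
  {R : Type*} [CommRing R] [Linear R D] [∀ n : ℤ, (CategoryTheory.shiftFunctor D n).Linear R]

/-- on the cone of `f • 𝟙`, `f²` acts as zero -/
lemma sq_smul_cone {X C : D} (φ : X ⟶ X) (i : X ⟶ C) (p : C ⟶ X⟦(1 : ℤ)⟧)
    (hT : Triangle.mk φ i p ∈ distTriang D) (f : R) (hφ : φ = f • 𝟙 X) :
    (f * f) • 𝟙 C = 0 := by
  have h31 : p ≫ φ⟦(1 : ℤ)⟧' = 0 := comp_distTriang_mor_zero₃₁ _ hT
  have h12 : φ ≫ i = 0 := comp_distTriang_mor_zero₁₂ _ hT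
  have h1 : (f • 𝟙 C) ≫ p = 0 := by
    rw [Linear.smul_comp, Category.id_comp]
    have : f • p = p ≫ φ⟦(1 : ℤ)⟧' := by
      rw [hφ, Functor.map_smul, CategoryTheory.Functor.map_id, Linear.comp_smul, Category.comp_id]
    rw [this, h31]
  obtain ⟨u, hu⟩ : ∃ u : C ⟶ X, f • 𝟙 C = u ≫ i :=
    Triangle.coyoneda_exact₃ _ hT (f • 𝟙 C) h1
  rw [mul_smul, hu, ← Linear.comp_smul]
  have : f • i = φ ≫ i := by rw [hφ, Linear.smul_comp, Category.id_comp]
  rw [this, h12, comp_zero]

/-- if `a` acts as zero on `X` then `a²` acts as zero on the cone of any endomorphism of `X`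
commuting with scalars -/
lemma sq_smul_cone' {X C : D} (φ : X ⟶ X) (i : X ⟶ C) (p : C ⟶ X⟦(1 : ℤ)⟧)
    (hT : Triangle.mk φ i p ∈ distTriang D) (a : R) (ha : a • 𝟙 X = 0) :
    (a * a) • 𝟙 C = 0 := by
  have h1 : i ≫ (a • 𝟙 C) = 0 := by
    rw [Linear.comp_smul, Category.comp_id]
    have : a • i = (a • 𝟙 X) ≫ i := by rw [Linear.smul_comp, Category.id_comp]
    rw [this, ha, zero_comp]
  obtain ⟨v, hv⟩ : ∃ v : X⟦(1 : ℤ)⟧ ⟶ C, a • 𝟙 C = p ≫ v :=
    Triangle.yoneda_exact₃ _ hT (a • 𝟙 C) h1
  rw [mul_smul, hv, ← Linear.smul_comp]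
  have : a • p = p ≫ (a • 𝟙 X)⟦(1 : ℤ)⟧' := by
    rw [Functor.map_smul, CategoryTheory.Functor.map_id, Linear.comp_smul, Category.comp_id]
  rw [this, ha, Functor.map_zero, comp_zero, zero_comp]

end Tri

variable (A : Type u) [CommRing A]

/-- every element of the sequence acts nilpotently on the Koszul complex in `D(A)`. -/
theorem koszul_nilpotent : ∀ (l : List A) (f : A), f ∈ l →
    ∃ k : ℕ, (f ^ k) • 𝟙 (Q.obj (Koszul.koszul A l)) = 0
  | [], f, hf => by simp at hf
  | g :: l, f, hf => by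
    have hT := mappingCone_triangle_distinguished (g • 𝟙 (Koszul.koszul A l))
    have hg : Q.map (g • 𝟙 (Koszul.koszul A l)) = g • 𝟙 (Q.obj (Koszul.koszul A l)) := by
      rw [Functor.map_smul, CategoryTheory.Functor.map_id]
    by_cases hfg : f = g
    · subst hfg
      refine ⟨2, ?_⟩
      rw [pow_two]
      exact sq_smul_cone _ _ _ hT f hg
    · have hfl : f ∈ l := by
        rcases List.mem_cons.1 hf with h | h
        · exact absurd h hfg
        · exact h
      obtain ⟨k, hk⟩ := koszul_nilpotent l f hfl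
      refine ⟨k + k, ?_⟩
      rw [pow_add]
      exact sq_smul_cone' _ _ _ hT (f ^ k) hk

/-- the unit map `A[0] → K(l)` -/
noncomputable def kη : ∀ l : List A,
    (CochainComplex.singleFunctor (ModuleCat.{u} A) 0).obj (ModuleCat.of A A) ⟶ Koszul.koszul A l
  | [] => 𝟙 _
  | g :: l => kη l ≫ mappingCone.inr (g • 𝟙 (Koszul.koszul A l))

variable {A}

lemma smul_single_eq_zero (N : ModuleCat.{u} A) (g : A) (hg : ∀ z : N, g • z = 0) :
    g • 𝟙 ((CochainComplex.singleFunctor (ModuleCat.{u} A) 0).obj N) = 0 := by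
  have h1 : g • 𝟙 N = 0 := by
    apply ModuleCat.hom_ext
    apply LinearMap.ext
    intro z
    exact hg z
  have := congrArg (fun t => (CochainComplex.singleFunctor (ModuleCat.{u} A) 0).map t) h1
  simpa [Functor.map_smul] using this

/-- the augmentation `K(l) → N[0]` for a module `N` killed by the sequence -/
noncomputable def kγ (N : ModuleCat.{u} A) (g₀ : ModuleCat.of A A ⟶ N) : ∀ l : List A,
    (∀ g ∈ l, ∀ z : N, g • z = 0) →
    (Koszul.koszul A l ⟶ (CochainComplex.singleFunctor (ModuleCat.{u} A) 0).obj N)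
  | [], _ => (CochainComplex.singleFunctor (ModuleCat.{u} A) 0).map g₀
  | g :: l, h =>
    mappingCone.desc (g • 𝟙 (Koszul.koszul A l)) 0
      (kγ N g₀ l (fun g' hg' => h g' (List.mem_cons_of_mem _ hg'))) (by
        have h0 : (g • 𝟙 (Koszul.koszul A l)) ≫
            kγ N g₀ l (fun g' hg' => h g' (List.mem_cons_of_mem _ hg')) = 0 := by
          rw [Linear.smul_comp, Category.id_comp]
          have : g • kγ N g₀ l (fun g' hg' => h g' (List.mem_cons_of_mem _ hg')) =
              kγ N g₀ l (fun g' hg' => h g' (List.mem_cons_of_mem _ hg')) ≫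
                (g • 𝟙 _) := by
            rw [Linear.comp_smul, Category.comp_id]
          rw [this, smul_single_eq_zero N g (h g (List.mem_cons_self ..)), comp_zero]
        rw [h0]
        simp)

lemma kη_kγ (N : ModuleCat.{u} A) (g₀ : ModuleCat.of A A ⟶ N) : ∀ (l : List A)
    (h : ∀ g ∈ l, ∀ z : N, g • z = 0),
    kη A l ≫ kγ N g₀ l h = (CochainComplex.singleFunctor (ModuleCat.{u} A) 0).map g₀
  | [], _ => by
    rw [kη, kγ]
    exact Category.id_comp _
  | g :: l, h => by
    rw [kη, kγ]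
    refine (Category.assoc _ _ _).trans ?_
    refine (congrArg (kη A l ≫ ·) (mappingCone.inr_desc _ _ _ _)).trans ?_
    exact kη_kγ N g₀ l _

lemma homologyMap_smul' {K L : CochainComplex (ModuleCat.{u} A) ℤ} (a : A) (φ : K ⟶ L) (i : ℤ) :
    HomologicalComplex.homologyMap (a • φ) i = a • HomologicalComplex.homologyMap φ i := by
  have : (HomologicalComplex.shortComplexFunctor (ModuleCat.{u} A) (ComplexShape.up ℤ) i).map
      (a • φ) =
      a • (HomologicalComplex.shortComplexFunctor (ModuleCat.{u} A) (ComplexShape.up ℤ) i).map φ := by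
    ext <;> rfl
  show ShortComplex.homologyMap _ = a • ShortComplex.homologyMap _
  rw [this, ShortComplex.homologyMap_smul]
  rfl

/-- if `a • 𝟙` vanishes in `D(A)` on `Q E` then `a` kills the cohomology of `E` -/
lemma smul_homology_eq_zero (E : CochainComplex (ModuleCat.{u} A) ℤ) (a : A)
    (ha : a • 𝟙 (Q.obj E) = 0) (i : ℤ) (z : (E.homology i : ModuleCat.{u} A)) : a • z = 0 := by
  have h1 : Q.map (a • 𝟙 E) = 0 := by
    rw [Functor.map_smul, CategoryTheory.Functor.map_id, ha]
  have h2 := homologyFunctorFactors_hom_naturality (C := ModuleCat.{u} A) (a • 𝟙 E) i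
  rw [h1, Functor.map_zero, zero_comp] at h2
  have h3 : HomologicalComplex.homologyMap (a • 𝟙 E) i = 0 :=
    (cancel_epi ((homologyFunctorFactors (ModuleCat.{u} A) i).hom.app E)).1
      (h2.symm.trans comp_zero.symm)
  rw [homologyMap_smul', HomologicalComplex.homologyMap_id] at h3
  have := congrArg (fun t => t.hom z) h3
  exact this

/-- the cohomology of the Koszul complex on `N`-th powers of generators of `I` is killed by powers
of `I` -/
theorem tors_koszul [IsNoetherianRing A] (I : Ideal A) (l : List A)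
    (hl : Ideal.span {x | x ∈ l} = I) (N : ℕ) :
    KL.Tors I (Q.obj (Koszul.koszul A (l.map (· ^ N)))) := by
  classical
  intro i
  set E := Koszul.koszul A (l.map (· ^ N)) with hE
  have hfg : I.FG := by
    rw [← hl]
    exact ⟨l.toFinset, by congr 1; ext x; simp⟩
  have hrad : I ≤ (Module.annihilator A (E.homology i : ModuleCat.{u} A)).radical := by
    rw [← hl, Ideal.span_le]
    intro f hf
    obtain ⟨k, hk⟩ := koszul_nilpotent A (l.map (· ^ N)) (f ^ N) (List.mem_map.2 ⟨f, hf, rfl⟩)
    refine ⟨N * k, ?_⟩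
    rw [Module.mem_annihilator]
    intro z
    rw [pow_mul]
    exact smul_homology_eq_zero E _ hk i z
  obtain ⟨K, hK⟩ := Ideal.exists_pow_le_of_le_radical_of_fg hrad hfg
  refine ⟨K, ?_⟩
  apply KL.kill_of_iso ((homologyFunctorFactors (ModuleCat.{u} A) i).app E).symm
  intro x hx z
  exact Module.mem_annihilator.1 (hK hx) z

end Groth.Agent.R2.H31.KosFac
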