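import Mathlib
import Groth.Agent.S6587
import Groth.Agent.S6588

/-!
# A uniform criterion for pro-isomorphisms in a derived category (helper31)
-/

set_option autoImplicit false
universe w v u
open CategoryTheory CategoryTheory.Limits Opposite

namespace Groth.Agent.R2.H31.ProU

open DerivedCategory Pretriangulated
open Groth.Agent.S6615 (tr_comp tr_refl tr_nat)
open Groth.Agent.S14388

/-- transfer of pro-isomorphisms along levelwise isomorphisms -/
lemma isProIso_of_iso {C : Type u} [Category.{v} C] {X X' Y Y' : ARSys.PS C} (e₁ : X ≅ X')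
    (e₂ : Y' ≅ Y) (f' : X' ⟶ Y') (h : DerCA.IsProIso f') :
    DerCA.IsProIso (e₁.hom ≫ f' ≫ e₂.hom) := by
  intro n
  obtain ⟨m, hm, b', hb1, hb2⟩ := h n
  refine ⟨m, hm, e₂.inv.app (op m) ≫ b' ≫ e₁.inv.app (op n), ?_, ?_⟩
  · simp only [NatTrans.comp_app, Category.assoc, Iso.hom_inv_id_app_assoc]
    rw [reassoc_of% hb1]
    have := tr_nat e₁.inv hm
    rw [this, Iso.hom_inv_id_app_assoc]
  · simp only [NatTrans.comp_app, Category.assoc, Iso.inv_hom_id_app_assoc]
    rw [reassoc_of% hb2]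
    have := tr_nat e₂.hom hm
    rw [this, Iso.inv_hom_id_app_assoc]

section der
variable {A : Type u} [Category.{v} A] [Abelian A] [HasDerivedCategory.{w} A]

/-- a system in `D(A)`, uniformly bounded above, whose transition maps eventually kill the
truncations `τ_{<j₀}` and are eventually zero on each cohomology object, is pro-zero. -/
theorem proZero_of_uniform (Z : ARSys.PS (DerivedCategory A)) (j₀ b : ℤ)
    (hZ : ∀ n : ℕ, (Z.obj (op n)).IsLE b)
    (hU : ∀ n : ℕ, ∃ (m : ℕ) (hm : n ≤ m),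
      (tt.truncLTι j₀).app (Z.obj (op m)) ≫ ARSys.tr Z hm = 0)
    (hH : ∀ (i : ℤ) (n : ℕ), ∃ (m : ℕ) (hm : n ≤ m),
      (homologyFunctor A i).map (ARSys.tr Z hm) = 0) :
    DerCA.IsProZero Z := by
  let Z' : ARSys.PS (DerivedCategory A) := Z ⋙ tt.truncGE j₀
  have hZ' : DerCA.IsProZero Z' := by
    apply Groth.Agent.S6588.proZero_of_amp (b + 1 - j₀).toNat j₀ Z'
    · intro n
      show ((tt.truncGE j₀).obj (Z.obj (op n))).IsGE j₀
      infer_instance
    · intro n
      have := hZ n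
      have h1 : (Z.obj (op n)).IsLE (j₀ + ((b + 1 - j₀).toNat : ℤ) - 1) :=
        tt.isLE_of_le _ b _ (by omega)
      show ((tt.truncGE j₀).obj (Z.obj (op n))).IsLE (j₀ + ((b + 1 - j₀).toNat : ℤ) - 1)
      infer_instance
    · -- uniform vanishing on homology
      have key : ∀ (j : ℕ) (n : ℕ), ∃ (m : ℕ) (hm : n ≤ m), ∀ q : ℤ, j₀ ≤ q → q < j₀ + j →
          (homologyFunctor A q).map (ARSys.tr Z hm) = 0 := by
        intro j
        induction j with
        | zero =>
          intro n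
          exact ⟨n, le_rfl, fun q h1 h2 => by omega⟩
        | succ j ih =>
          intro n
          obtain ⟨m₁, hm₁, h₁⟩ := ih n
          obtain ⟨m₂, hm₂, h₂⟩ := hH (j₀ + j) n
          refine ⟨max m₁ m₂, hm₁.trans (le_max_left _ _), fun q hq1 hq2 => ?_⟩
          by_cases hq : q < j₀ + j
          · rw [← tr_comp Z hm₁ (le_max_left m₁ m₂), Functor.map_comp, h₁ q hq1 hq, comp_zero]
          · have : q = j₀ + j := by push_cast at hq2; omega
            subst this
            rw [← tr_comp Z hm₂ (le_max_right m₁ m₂), Functor.map_comp, h₂, comp_zero]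
      intro n
      obtain ⟨m, hm, h⟩ := key (b + 1 - j₀).toNat n
      refine ⟨m, hm, fun q => ?_⟩
      show (homologyFunctor A q).map ((tt.truncGE j₀).map (ARSys.tr Z hm)) = 0
      by_cases hq : j₀ ≤ q ∧ q < j₀ + ((b + 1 - j₀).toNat : ℤ)
      · exact homology_truncGE_map_eq_zero' j₀ q _ (h q hq.1 hq.2)
      · by_cases hq1 : j₀ ≤ q
        · apply homology_truncGE_map_eq_zero' j₀ q
          have := hZ n
          have hq2 : b < q := by omega
          have hz : IsZero ((homologyFunctor A q).obj (Z.obj (op n))) :=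
            (isLE_iff (Z.obj (op n)) b).1 inferInstance q hq2
          exact hz.eq_of_tgt _ _
        · have hz : IsZero ((homologyFunctor A q).obj ((tt.truncGE j₀).obj (Z.obj (op n)))) :=
            (isGE_iff ((tt.truncGE j₀).obj (Z.obj (op n))) j₀).1 inferInstance q (by omega)
          exact hz.eq_of_tgt _ _
  intro n
  obtain ⟨m₁, hm₁, hU1⟩ := hU n
  obtain ⟨M, hM, h0⟩ := hZ' m₁
  refine ⟨M, hm₁.trans hM, ?_⟩
  rw [← tr_comp Z hm₁ hM]
  obtain ⟨θ, hθ'⟩ : ∃ θ : (tt.truncGE j₀).obj (Z.obj (op m₁)) ⟶ Z.obj (op n),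
      ARSys.tr Z hm₁ = (tt.truncGEπ j₀).app (Z.obj (op m₁)) ≫ θ :=
    Triangle.yoneda_exact₂ _
      (tt.triangleLTGE_distinguished j₀ (Z.obj (op m₁))) (ARSys.tr Z hm₁) hU1
  rw [hθ', ← Category.assoc]
  have hnat := (tt.truncGEπ j₀).naturality (ARSys.tr Z hM)
  dsimp at hnat
  rw [hnat]
  rw [show (tt.truncGE j₀).map (ARSys.tr Z hM) = ARSys.tr Z' hM from rfl, h0, comp_zero,
    zero_comp]

/-- the uniform criterion: a system of distinguished triangles `X → Y → Z →` in `D(A)` with `Y`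
uniformly bounded below, `Z` uniformly bounded above, the transition maps of `X` factoring through
objects uniformly bounded below, and the transition maps of `Z` eventually zero on each cohomology
object, has `X → Y` a pro-isomorphism. -/
theorem isProIso_of_uniform
    (X Y Z : ARSys.PS (DerivedCategory A)) (f : X ⟶ Y) (g : Y ⟶ Z)
    (h : Z ⟶ X ⋙ shiftFunctor (DerivedCategory A) (1 : ℤ))
    (hT : ∀ n : ℕ, Triangle.mk (f.app (op n)) (g.app (op n)) (h.app (op n)) ∈
      distTriang (DerivedCategory A))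
    (a b c : ℤ)
    (hY : ∀ n : ℕ, (Y.obj (op n)).IsGE a)
    (hZ : ∀ n : ℕ, (Z.obj (op n)).IsLE b)
    (hX : ∀ n : ℕ, ∃ (m : ℕ) (hm : n ≤ m) (G : DerivedCategory A) (_ : G.IsGE c)
      (u : X.obj (op m) ⟶ G) (v : G ⟶ X.obj (op n)), ARSys.tr X hm = u ≫ v)
    (hH : ∀ (i : ℤ) (n : ℕ), ∃ (m : ℕ) (hm : n ≤ m),
      (homologyFunctor A i).map (ARSys.tr Z hm) = 0) :
    DerCA.IsProIso f := by
  apply Groth.Agent.S6587.result X Y Z f g h hT
  apply proZero_of_uniform Z (min a (c - 1)) b hZ _ hH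
  intro n
  obtain ⟨m, hm, G, hG, u, v, huv⟩ := hX n
  refine ⟨m, hm, ?_⟩
  have h1 : ((tt.truncLTι (min a (c - 1))).app (Z.obj (op m)) ≫ ARSys.tr Z hm) ≫
      h.app (op n) = 0 := by
    have hnat := tr_nat h hm
    rw [Category.assoc, hnat]
    have e : ARSys.tr (X ⋙ shiftFunctor (DerivedCategory A) (1 : ℤ)) hm =
        (ARSys.tr X hm)⟦(1 : ℤ)⟧' := rfl
    rw [e, huv, Functor.map_comp, ← Category.assoc, ← Category.assoc]
    have hG1 : (G⟦(1 : ℤ)⟧).IsGE (c - 1) := tt.isGE_shift G c 1 (c - 1) (by omega)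
    have hz : ((tt.truncLTι (min a (c - 1))).app (Z.obj (op m)) ≫ h.app (op m)) ≫
        u⟦(1 : ℤ)⟧' = 0 :=
      tt.zero_of_isLE_of_isGE _ (min a (c - 1) - 1) (c - 1) (by omega) inferInstance hG1
    rw [hz, zero_comp]
  obtain ⟨w, hw⟩ := Triangle.coyoneda_exact₃ _ (hT n) _ h1
  have hw0 : w = 0 :=
    tt.zero_of_isLE_of_isGE _ (min a (c - 1) - 1) a (by omega) inferInstance (hY n)
  rw [hw, hw0]
  exact zero_comp

end der

end Groth.Agent.R2.H31.ProU
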