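import Mathlib
import Groth.Prelude.Def_ega3
import Groth.Agent.R2.H31KosFac
import Groth.Agent.R2.H31ProU

/-!
# Factorisation of `A/I^{m+1} → A/I^{n+1}` in `D(A)` through a Koszul complex (helper31)
-/

set_option autoImplicit false
universe u
open CategoryTheory Limits Pretriangulated DerivedCategory CochainComplex Opposite
attribute [local instance] HasDerivedCategory.standard

namespace Groth.Agent.R2.H31.Fac

open Groth.Agent.R2.H31.KL Groth.Agent.R2.H31.KosFac Groth.Agent.R2.H31.KoszulPerf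
open Groth.Agent.S14388

variable {A : Type u} [CommRing A]

lemma isGE_Q_of_isZero (K : CochainComplex (ModuleCat.{u} A) ℤ) (c : ℤ)
    (h : ∀ i : ℤ, i < c → IsZero (K.X i)) : (Q.obj K).IsGE c := by
  have : K.IsStrictlyGE c := by
    rw [CochainComplex.isStrictlyGE_iff]
    exact h
  infer_instance

lemma isLE_Q_of_isZero (K : CochainComplex (ModuleCat.{u} A) ℤ) (c : ℤ)
    (h : ∀ i : ℤ, c < i → IsZero (K.X i)) : (Q.obj K).IsLE c := by
  have : K.IsStrictlyLE c := by
    rw [CochainComplex.isStrictlyLE_iff]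
    exact h
  infer_instance

variable (I : Ideal A) (M : ModuleCat.{u} A)

/-- the quotient map `M → M/I^{n+1}M` -/
noncomputable def qmap (n : ℕ) : M ⟶ (CohIII.adicSystem I M).obj (op n) :=
  ModuleCat.ofHom (I ^ (n + 1) • (⊤ : Submodule A M)).mkQ

lemma qmap_surjective (n : ℕ) : Function.Surjective (qmap I M n).hom :=
  Submodule.mkQ_surjective _

instance (n : ℕ) : Epi (qmap I M n) := (ModuleCat.epi_iff_surjective _).2 (qmap_surjective I M n)

lemma qmap_tr {n m : ℕ} (h : n ≤ m) :
    qmap I M m ≫ ARSys.tr (CohIII.adicSystem I M) h = qmap I M n := by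
  induction m, h using Nat.le_induction with
  | base =>
    rw [Groth.Agent.S6615.tr_refl]
    exact Category.comp_id _
  | succ m h ih =>
    rw [← Groth.Agent.S6615.tr_comp (CohIII.adicSystem I M) h (Nat.le_succ m), ← Category.assoc]
    have h1 : qmap I M (m + 1) ≫ ARSys.tr (CohIII.adicSystem I M) (Nat.le_succ m) =
        qmap I M m := by
      show _ ≫ (CohIII.adicSystem I M).map _ = _
      unfold CohIII.adicSystem
      rw [Functor.ofOpSequence_map_homOfLE_succ]
      apply ModuleCat.hom_ext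
      rfl
    rw [h1, ih]

variable [IsNoetherianRing A]

/-- the single-degree complex functor -/
noncomputable abbrev sgl (N : ModuleCat.{u} A) : CochainComplex (ModuleCat.{u} A) ℤ :=
  (HomologicalComplex.single (ModuleCat.{u} A) (ComplexShape.up ℤ) 0).obj N

/-- **Koszul factorisation.** There is `r` such that for every `n` the transition map
`A/I^{m+1} → A/I^{n+1}` factors in `D(A)`, for some `m ≥ n`, through a complex of finite projective
modules concentrated in degrees `[-r, 0]`. -/
theorem exists_factorisation (I : Ideal A) : ∃ r : ℕ, ∀ n : ℕ, ∃ (m : ℕ) (hm : n ≤ m)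
    (E : CochainComplex (ModuleCat.{u} A) ℤ),
    (∀ i : ℤ, Module.Finite A (E.X i) ∧ Module.Projective A (E.X i)) ∧
    (∀ i : ℤ, i < -(r : ℤ) → IsZero (E.X i)) ∧ (∀ i : ℤ, 0 < i → IsZero (E.X i)) ∧
    ∃ (β : Q.obj (sgl ((CohIII.adicSystem I (ModuleCat.of A A)).obj (op m))) ⟶ Q.obj E)
      (γ : E ⟶ sgl ((CohIII.adicSystem I (ModuleCat.of A A)).obj (op n))),
      β ≫ Q.map γ = Q.map ((HomologicalComplex.single (ModuleCat.{u} A) (ComplexShape.up ℤ) 0).map
        (ARSys.tr (CohIII.adicSystem I (ModuleCat.of A A)) hm)) := by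
  classical
  obtain ⟨s, hs⟩ : I.FG := IsNoetherian.noetherian I
  let l : List A := s.toList
  have hl : Ideal.span {x | x ∈ l} = I := by
    rw [← hs]
    congr 1
    ext x
    simp [l]
  have hlI : ∀ f ∈ l, f ∈ I := fun f hf => by
    rw [← hl]
    exact Ideal.subset_span hf
  refine ⟨l.length, fun n => ?_⟩
  let AA : ModuleCat.{u} A := ModuleCat.of A A
  let l' : List A := l.map (· ^ (n + 1))
  let E := Koszul.koszul A l'
  have hlen : l'.length = l.length := List.length_map _
  have hE2 : ∀ i : ℤ, i < -(l.length : ℤ) → IsZero (E.X i) := fun i hi =>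
    koszul_isZero_X_neg A l' i (by rw [hlen]; exact hi)
  have hE3 : ∀ i : ℤ, 0 < i → IsZero (E.X i) := fun i hi => koszul_isZero_X_pos A l' i hi
  have hGE : (Q.obj E).IsGE (-(l.length : ℤ)) := isGE_Q_of_isZero E _ hE2
  have hLE0 : (Q.obj E).IsLE 0 := isLE_Q_of_isZero E _ hE3
  have hLE : (Q.obj E).IsLE (-(l.length : ℤ) + ((l.length + 1 : ℕ) : ℤ) - 1) :=
    tt.isLE_of_le _ 0 _ (by push_cast; omega)
  have hvan : Van I (Q.obj E) :=
    van_of_tors I (l.length + 1) (-(l.length : ℤ)) (Q.obj E) hGE hLE (tors_koszul I l hl (n + 1))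
  obtain ⟨m₀, hm₀⟩ := hvan AA
  let m := max n m₀
  let P : Submodule A A := I ^ (m + 1) • ⊤
  let ι : ModuleCat.of A P ⟶ AA := ModuleCat.ofHom P.subtype
  have hι : LinearMap.range ι.hom ≤ (I ^ m₀ • ⊤ : Submodule A AA) := by
    show LinearMap.range P.subtype ≤ _
    rw [Submodule.range_subtype]
    exact Submodule.smul_mono_left (Ideal.pow_le_pow_right (by omega))
  let y : sg AA ⟶ Q.obj E := Q.map (kη A l')
  have h0 := hm₀ _ ι hι y
  have hT := (Groth.Agent.R2.H31.ExtEC.ses_shortExact P).singleTriangle_distinguished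
  obtain ⟨β₀, hβ₀⟩ := Triangle.yoneda_exact₂ _ hT y h0
  let β : sg ((CohIII.adicSystem I AA).obj (op m)) ⟶ Q.obj E := β₀
  have hβ : y = (DerivedCategory.singleFunctor (ModuleCat.{u} A) 0).map (qmap I AA m) ≫ β := hβ₀
  -- the augmentation
  have hkill : ∀ g ∈ l', ∀ z : ((CohIII.adicSystem I AA).obj (op n) : ModuleCat.{u} A),
      g • z = 0 := by
    intro g hg z
    obtain ⟨f, hf, rfl⟩ := List.mem_map.1 hg
    obtain ⟨a, rfl⟩ := qmap_surjective I AA n z
    rw [← map_smul]
    show Submodule.Quotient.mk _ = 0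
    rw [Submodule.Quotient.mk_eq_zero]
    exact Submodule.smul_mem_smul (Ideal.pow_mem_pow (hlI f hf) _) Submodule.mem_top
  let γ : E ⟶ sgl ((CohIII.adicSystem I AA).obj (op n)) := kγ _ (qmap I AA n) l' hkill
  have hηγ : kη A l' ≫ γ = (HomologicalComplex.single (ModuleCat.{u} A) (ComplexShape.up ℤ) 0).map
      (qmap I AA n) := kη_kγ _ (qmap I AA n) l' hkill
  refine ⟨m, le_max_left _ _, E, fun i => koszul_finite_projective A l' i, hE2, hE3, β, γ, ?_⟩
  obtain ⟨t, ht⟩ := (DerivedCategory.singleFunctor (ModuleCat.{u} A) 0).map_surjective (β ≫ Q.map γ)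
  have h1 : (DerivedCategory.singleFunctor (ModuleCat.{u} A) 0).map (qmap I AA m ≫ t) =
      (DerivedCategory.singleFunctor (ModuleCat.{u} A) 0).map (qmap I AA n) := by
    have e1 : (DerivedCategory.singleFunctor (ModuleCat.{u} A) 0).map (qmap I AA m ≫ t) =
        (DerivedCategory.singleFunctor (ModuleCat.{u} A) 0).map (qmap I AA m) ≫
          (β ≫ Q.map γ) :=
      (Functor.map_comp _ _ _).trans (congrArg (_ ≫ ·) ht)
    have e2 : (DerivedCategory.singleFunctor (ModuleCat.{u} A) 0).map (qmap I AA m) ≫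
          (β ≫ Q.map γ) = y ≫ Q.map γ :=
      (Category.assoc _ _ _).symm.trans (congrArg (· ≫ Q.map γ) hβ.symm)
    have e3 : y ≫ Q.map γ = Q.map (kη A l' ≫ γ) := (Functor.map_comp _ _ _).symm
    have e4 : Q.map (kη A l' ≫ γ) =
        Q.map ((HomologicalComplex.single (ModuleCat.{u} A) (ComplexShape.up ℤ) 0).map
          (qmap I AA n)) := congrArg (fun t => Q.map t) hηγ
    exact e1.trans (e2.trans (e3.trans e4))
  have h2 : qmap I AA m ≫ t = qmap I AA n := (DerivedCategory.singleFunctor (ModuleCat.{u} A) 0).map_injective h1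
  have h3 : t = ARSys.tr (CohIII.adicSystem I AA) (le_max_left n m₀) := by
    rw [← cancel_epi (qmap I AA m), h2, qmap_tr]
  exact ht.symm.trans (congrArg (fun t => (DerivedCategory.singleFunctor (ModuleCat.{u} A) 0).map t) h3)

end Groth.Agent.R2.H31.Fac
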