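import Mathlib
import Groth.Agent.Lib.Helper1DT5

/-!
# Tensoring a complex with a module in degree `0` on the right, termwise (helper31)
-/

set_option autoImplicit false
set_option maxHeartbeats 400000
universe u
open CategoryTheory CategoryTheory.Limits MonoidalCategory HomologicalComplex

namespace Groth.Agent.R2.H31.TwSgl

open Groth.Agent.Lib.Helper1.KF Groth.Agent.Lib.Helper1.DT

variable {R : Type u} [CommRing R]

/-- the termwise tensor product `C^n ⊗ N`, as a functor of the complex `C` -/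
noncomputable abbrev twF (N : ModuleCat.{u} R) : Cx R ⥤ Cx R :=
  (tensorRight N).mapHomologicalComplex (ComplexShape.up ℤ)

/-- functoriality of the termwise tensor product in the module -/
noncomputable abbrev twN {N N' : ModuleCat.{u} R} (g : N ⟶ N') : twF N ⟶ twF N' :=
  NatTrans.mapHomologicalComplex ((tensoringRight (ModuleCat.{u} R)).map g) (ComplexShape.up ℤ)

variable (C : Cx R) (N : ModuleCat.{u} R)

lemma isZero_tensor_sgl (q : ℤ) (hq : q ≠ 0) (Y : ModuleCat.{u} R) :
    IsZero (Y ⊗ (sgl N).X q) :=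
  (tensorLeft Y).map_isZero (isZero_single_obj_X (ComplexShape.up ℤ) 0 N q hq)

/-- the inclusion of `C^n ⊗ N` into `(C ⊗ N[0])^n` -/
noncomputable def rι (n : ℤ) : C.X n ⊗ N ⟶ (C ⊗ sgl N).X n :=
  (C.X n ◁ (singleObjXSelf (ComplexShape.up ℤ) 0 N).inv) ≫
    ιTensorObj C (sgl N) n 0 n (add_zero n)

/-- the projection of `(C ⊗ N[0])^n` onto `C^n ⊗ N` -/
noncomputable def rπ (n : ℤ) : (C ⊗ sgl N).X n ⟶ C.X n ⊗ N :=
  mapBifunctorDesc (K₁ := C) (K₂ := sgl N) (F := curriedTensor (ModuleCat.{u} R))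
    (c := ComplexShape.up ℤ) (fun p q hpq =>
      if hq : q = 0 then
        C.X p ◁ ((sgl N).XIsoOfEq hq).hom ≫ C.X p ◁ (singleObjXSelf (ComplexShape.up ℤ) 0 N).hom ≫
          (C.XIsoOfEq (show p = n by subst hq; simpa using hpq)).hom ▷ N
      else 0)

lemma ι_rπ_zero (n : ℤ) :
    ιTensorObj C (sgl N) n 0 n (add_zero n) ≫ rπ C N n =
      C.X n ◁ (singleObjXSelf (ComplexShape.up ℤ) 0 N).hom := by
  unfold rπ
  erw [ι_mapBifunctorDesc]
  rw [dif_pos rfl]
  simp only [XIsoOfEq_rfl, Iso.refl_hom, id_whiskerRight, MonoidalCategory.whiskerLeft_id]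
  exact (Category.id_comp _).trans (Category.comp_id _)

lemma rι_rπ (n : ℤ) : rι C N n ≫ rπ C N n = 𝟙 _ := by
  unfold rι
  rw [Category.assoc, ι_rπ_zero, ← MonoidalCategory.whiskerLeft_comp, Iso.inv_hom_id,
    MonoidalCategory.whiskerLeft_id]

lemma rπ_rι (n : ℤ) : rπ C N n ≫ rι C N n = 𝟙 _ := by
  apply tensor_hom_ext
  intro p q hpq
  by_cases hq : q = 0
  · subst hq
    obtain rfl : p = n := by omega
    rw [← Category.assoc, ι_rπ_zero]
    unfold rι
    rw [← Category.assoc, ← MonoidalCategory.whiskerLeft_comp, Iso.hom_inv_id,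
      MonoidalCategory.whiskerLeft_id, Category.id_comp]
    exact (Category.comp_id _).symm
  · exact (isZero_tensor_sgl N q hq (C.X p)).eq_of_src _ _

lemma rι_comm (n : ℤ) :
    rι C N n ≫ (C ⊗ sgl N).d n (n + 1) = (C.d n (n + 1) ▷ N) ≫ rι C N (n + 1) := by
  unfold rι
  rw [Category.assoc, ι_tensor_d C (sgl N) n 0 n (add_zero n) (n + 1) 1 (n + 1) rfl rfl rfl,
    single_obj_d, MonoidalPreadditive.whiskerLeft_zero, zero_comp, smul_zero, add_zero,
    ← Category.assoc, ← Category.assoc, whisker_exchange]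

/-- `C ⊗ N[0]` is the termwise tensor product -/
noncomputable def rsIso : (twF N).obj C ≅ C ⊗ sgl N :=
  HomologicalComplex.Hom.isoOfComponents
    (fun n => { hom := rι C N n, inv := rπ C N n, hom_inv_id := rι_rπ C N n,
                inv_hom_id := rπ_rι C N n })
    (fun n n' h => by
      obtain rfl : n + 1 = n' := h
      exact rι_comm C N n)

@[simp] lemma rsIso_hom_f (n : ℤ) : (rsIso C N).hom.f n = rι C N n := rfl

variable {C N}

/-- naturality in the complex -/
lemma rsIso_hom_naturality_left {C' : Cx R} (φ : C ⟶ C') :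
    (twF N).map φ ≫ (rsIso C' N).hom = (rsIso C N).hom ≫ (φ ▷ sgl N) := by
  refine HomologicalComplex.hom_ext _ _ (fun n => ?_)
  show (φ.f n ▷ N) ≫ rι C' N n = rι C N n ≫ (φ ▷ sgl N).f n
  unfold rι
  rw [Category.assoc, ι_whiskerRight, ← Category.assoc, ← Category.assoc]
  congr 1
  rw [whisker_exchange]

/-- naturality in the module -/
lemma rsIso_hom_naturality_right {N' : ModuleCat.{u} R} (g : N ⟶ N') :
    (twN g).app C ≫ (rsIso C N').hom = (rsIso C N).hom ≫
      (C ◁ (HomologicalComplex.single (ModuleCat.{u} R) (ComplexShape.up ℤ) 0).map g) := by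
  refine HomologicalComplex.hom_ext _ _ (fun n => ?_)
  show (C.X n ◁ g) ≫ rι C N' n = rι C N n ≫
    (C ◁ (HomologicalComplex.single (ModuleCat.{u} R) (ComplexShape.up ℤ) 0).map g).f n
  unfold rι
  rw [Category.assoc, ι_whiskerLeft, ← Category.assoc, ← Category.assoc]
  congr 1
  rw [← MonoidalCategory.whiskerLeft_comp, ← MonoidalCategory.whiskerLeft_comp]
  congr 1

end Groth.Agent.R2.H31.TwSgl
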