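import Mathlib
import Groth.Agent.R2.H31TwSgl
import Groth.Agent.R2.H31Fac

/-!
# Artin–Rees: the cohomology of `C/I^n C` is pro-zero for `C` exact (helper31)
-/

set_option autoImplicit false
set_option maxHeartbeats 400000
universe u
open CategoryTheory CategoryTheory.Limits MonoidalCategory HomologicalComplex Opposite

namespace Groth.Agent.R2.H31.ARCone

open Groth.Agent.Lib.Helper1.KF Groth.Agent.R2.H31.TwSgl Groth.Agent.R2.H31.Fac

variable {R : Type u} [CommRing R] (I : Ideal R)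

/-- `R/I^{k+1}` as in the adic system -/
noncomputable abbrev Nk (k : ℕ) : ModuleCat.{u} R :=
  (CohIII.adicSystem I (ModuleCat.of R R)).obj (op k)

/-- the ideal `I^{k+1} • ⊤` of `R` -/
abbrev Jk (k : ℕ) : Ideal R := I ^ (k + 1) • (⊤ : Submodule R R)

lemma Jk_eq (k : ℕ) : Jk I k = I ^ (k + 1) := by
  show I ^ (k + 1) • (⊤ : Ideal R) = _
  rw [smul_eq_mul, Ideal.mul_top]

/-- `y ↦ y ⊗ 1 : V → V ⊗ R/I^{k+1}` -/
noncomputable def ek (V : ModuleCat.{u} R) (k : ℕ) : V ⟶ V ⊗ Nk I k :=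
  (ρ_ V).inv ≫ (V ◁ qmap I (ModuleCat.of R R) k)

lemma ek_apply (V : ModuleCat.{u} R) (k : ℕ) (y : V) :
    (ek I V k).hom y = y ⊗ₜ[R] (Submodule.Quotient.mk (1 : R) : R ⧸ Jk I k) := rfl

lemma ek_surjective (V : ModuleCat.{u} R) (k : ℕ) : Function.Surjective (ek I V k).hom := by
  intro x
  induction x using TensorProduct.induction_on with
  | zero => exact ⟨0, map_zero _⟩
  | tmul y z =>
    obtain ⟨a, rfl⟩ := Submodule.Quotient.mk_surjective _ z
    refine ⟨a • y, ?_⟩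
    rw [ek_apply, TensorProduct.smul_tmul]
    congr 1
    show a • (Submodule.Quotient.mk (1 : R) : R ⧸ Jk I k) = _
    rw [← Submodule.Quotient.mk_smul, smul_eq_mul, mul_one]
  | add x y hx hy =>
    obtain ⟨a, rfl⟩ := hx
    obtain ⟨b, rfl⟩ := hy
    exact ⟨a + b, map_add _ _ _⟩

lemma ek_eq_zero_iff (V : ModuleCat.{u} R) (k : ℕ) (y : V) :
    (ek I V k).hom y = 0 ↔ y ∈ (I ^ (k + 1) • ⊤ : Submodule R V) := by
  have h2 : TensorProduct.tensorQuotEquivQuotSMul V (Jk I k)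
      (y ⊗ₜ[R] (Ideal.Quotient.mk (Jk I k) 1)) = Submodule.Quotient.mk ((1 : R) • y) :=
    TensorProduct.tensorQuotEquivQuotSMul_tmul_mk (Jk I k) y 1
  rw [one_smul] at h2
  rw [ek_apply, ← Jk_eq I k]
  constructor
  · intro h
    have h' : (y ⊗ₜ[R] (Ideal.Quotient.mk (Jk I k) 1) : TensorProduct R V (R ⧸ Jk I k)) = 0 := h
    have := h2.symm.trans ((congrArg _ h').trans (map_zero _))
    exact (Submodule.Quotient.mk_eq_zero _).1 this
  · intro h
    have : TensorProduct.tensorQuotEquivQuotSMul V (Jk I k)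
        (y ⊗ₜ[R] (Ideal.Quotient.mk (Jk I k) 1)) =
        TensorProduct.tensorQuotEquivQuotSMul V (Jk I k) 0 :=
      (h2.trans ((Submodule.Quotient.mk_eq_zero _).2 h)).trans (map_zero _).symm
    exact (TensorProduct.tensorQuotEquivQuotSMul V (Jk I k)).injective this

lemma ek_naturality {V W : ModuleCat.{u} R} (f : V ⟶ W) (k : ℕ) :
    ek I V k ≫ (f ▷ Nk I k) = f ≫ ek I W k := by
  unfold ek
  rw [Category.assoc, whisker_exchange, ← Category.assoc, ← rightUnitor_inv_naturality,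
    Category.assoc]

lemma ek_tr (V : ModuleCat.{u} R) {n m : ℕ} (τ : Nk I m ⟶ Nk I n)
    (hτ : qmap I (ModuleCat.of R R) m ≫ τ = qmap I (ModuleCat.of R R) n) :
    ek I V m ≫ (V ◁ τ) = ek I V n := by
  unfold ek
  rw [Category.assoc, ← MonoidalCategory.whiskerLeft_comp, hτ]

variable [IsNoetherianRing R]

/-- **Artin–Rees for an exact complex**: if `C` is exact in degree `j + 1` and `C^{j+2}` is a
finite module, then the maps `H^{j+1}(C/I^{m+1}) → H^{j+1}(C/I^{n+1})` vanish for `m ≥ n + c`. -/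
theorem homologyMap_tw_eq_zero (C : Cx R) (j : ℤ) (hex : C.ExactAt (j + 1))
    [Module.Finite R (C.X (j + 1 + 1))] :
    ∃ c : ℕ, ∀ (n m : ℕ), n + c ≤ m → ∀ (τ : Nk I m ⟶ Nk I n),
      qmap I (ModuleCat.of R R) m ≫ τ = qmap I (ModuleCat.of R R) n →
      HomologicalComplex.homologyMap ((twN τ).app C) (j + 1) = 0 := by
  -- exactness in terms of elements
  have hex' : ∀ y : C.X (j + 1), (C.d (j + 1) (j + 1 + 1)).hom y = 0 →
      ∃ w : C.X j, (C.d j (j + 1)).hom w = y := by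
    have h := (C.exactAt_iff' j (j + 1) (j + 1 + 1) (by simp) (by simp)).1 hex
    rw [ShortComplex.moduleCat_exact_iff] at h
    exact h
  let Z : Submodule R (C.X (j + 1 + 1)) := LinearMap.range (C.d (j + 1) (j + 1 + 1)).hom
  obtain ⟨c, hc⟩ := Ideal.exists_pow_inf_eq_pow_smul I Z
  refine ⟨c, fun n m hnm τ hτ => ?_⟩
  set φ := (twN τ).app C with hφ
  have hφf : ∀ p : ℤ, φ.f p = C.X p ◁ τ := fun p => rfl
  rw [← cancel_epi (((twF (Nk I m)).obj C).homologyπ (j + 1)), comp_zero,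
    homologyπ_naturality]
  apply ModuleCat.hom_ext
  apply LinearMap.ext
  intro z
  show (((twF (Nk I n)).obj C).homologyπ (j + 1)).hom ((cyclesMap φ (j + 1)).hom z) = 0
  -- lift the cycle
  obtain ⟨y, hy⟩ := ek_surjective I (C.X (j + 1)) m ((((twF (Nk I m)).obj C).iCycles (j + 1)).hom z)
  have hdz := d_iCycles ((twF (Nk I m)).obj C) (j + 1) z
  rw [← hy] at hdz
  have hdy : (ek I (C.X (j + 1 + 1)) m).hom ((C.d (j + 1) (j + 1 + 1)).hom y) = 0 := by
    have := congrArg (fun t => t.hom y) (ek_naturality I (C.d (j + 1) (j + 1 + 1)) m)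
    exact this.symm.trans hdz
  rw [ek_eq_zero_iff] at hdy
  have hmem : (C.d (j + 1) (j + 1 + 1)).hom y ∈ I ^ (m + 1) • ⊤ ⊓ Z := ⟨hdy, ⟨y, rfl⟩⟩
  rw [hc (m + 1) (by omega)] at hmem
  have hmem2 : (C.d (j + 1) (j + 1 + 1)).hom y ∈
      Submodule.map (C.d (j + 1) (j + 1 + 1)).hom (I ^ (m + 1 - c) • ⊤) := by
    rw [Submodule.map_smul'', Submodule.map_top]
    exact Submodule.smul_mono le_rfl inf_le_right hmem
  obtain ⟨y', hy', hyy'⟩ := hmem2
  obtain ⟨w, hw⟩ := hex' (y - y') (by rw [map_sub, hyy', sub_self])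
  -- the image of the cycle is the boundary of `w ⊗ 1`
  have hy'0 : (ek I (C.X (j + 1)) n).hom y' = 0 := by
    rw [ek_eq_zero_iff]
    exact Submodule.smul_mono_left (Ideal.pow_le_pow_right (by omega)) hy'
  have h1 : (C.X (j + 1) ◁ τ).hom ((ek I (C.X (j + 1)) m).hom y) = (ek I (C.X (j + 1)) n).hom y :=
    congrArg (fun t => t.hom y) (ek_tr I (C.X (j + 1)) τ hτ)
  have h2 : (((twF (Nk I n)).obj C).d j (j + 1)).hom ((ek I (C.X j) n).hom w) =
      (ek I (C.X (j + 1)) n).hom ((C.d j (j + 1)).hom w) :=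
    congrArg (fun t => t.hom w) (ek_naturality I (C.d j (j + 1)) n)
  have h3 : (ek I (C.X (j + 1)) n).hom y = (ek I (C.X (j + 1)) n).hom ((C.d j (j + 1)).hom w) := by
    rw [hw, map_sub, hy'0, sub_zero]
  have hkey : (((twF (Nk I n)).obj C).iCycles (j + 1)).hom ((cyclesMap φ (j + 1)).hom z) =
      (((twF (Nk I n)).obj C).iCycles (j + 1)).hom
        ((((twF (Nk I n)).obj C).toCycles j (j + 1)).hom ((ek I (C.X j) n).hom w)) := by
    refine (iCycles_cyclesMap (j + 1) φ z).trans ?_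
    refine Eq.trans ?_ (iCycles_toCycles ((twF (Nk I n)).obj C) j _).symm
    rw [← hy]
    exact h1.trans (h3.trans h2.symm)
  rw [iCycles_injective _ _ hkey]
  exact homologyπ_toCycles ((twF (Nk I n)).obj C) j _

end Groth.Agent.R2.H31.ARCone
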