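import Mathlib

/-!
# Completion along an element in a linear triangulated category (helper31)

In an `R`-linear pretriangulated category `C` (with linear shift functors), for `f : R`:
* `IsLoc f X`: multiplication by `f` on `X` is invertible.
* `IsCpl f E`: every map from an `f`-local object to `E` vanishes.
* `IsPow P K π`: `P` with the projections `π n` is a countable power of `K`.
* for a countable power `P` of `K`, with shift `S` and `D = 1 - f S`: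
  `D` invertible implies `IsCpl f K`; the cone of `D` is `f`-local; the object `K^f` obtained
  from the cone is `f`-complete and `K ⟶ K^f` is universal towards `f`-complete objects.
-/

set_option autoImplicit false

universe w v u

open CategoryTheory CategoryTheory.Limits CategoryTheory.Category Pretriangulated

namespace Groth.Agent.R2.H31.Tri

variable {C : Type u} [Category.{v} C] [Preadditive C] [HasZeroObject C] [HasShift C ℤ]
  [∀ n : ℤ, (shiftFunctor C n).Additive] [Pretriangulated C]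
  {R : Type w} [CommRing R] [Linear R C] [∀ n : ℤ, (shiftFunctor C n).Linear R]

/-- multiplication by `f` on `X` is invertible. -/
def IsLoc (f : R) (X : C) : Prop := IsIso (f • 𝟙 X)

/-- every map from an `f`-local object vanishes. -/
def IsCpl (f : R) (E : C) : Prop := ∀ (X : C), IsLoc f X → ∀ φ : X ⟶ E, φ = 0

/-- all maps `Y ⟶ K⟦n⟧` vanish. -/
def Orth (Y K : C) : Prop := ∀ (n : ℤ) (φ : Y ⟶ K⟦n⟧), φ = 0

section Basic

variable (f : R)

omit [HasZeroObject C] [HasShift C ℤ] [∀ n : ℤ, (shiftFunctor C n).Additive] [Pretriangulated C]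
  [∀ n : ℤ, (shiftFunctor C n).Linear R] in
lemma smul_id_comp {X Y : C} (φ : X ⟶ Y) : (f • 𝟙 X) ≫ φ = φ ≫ (f • 𝟙 Y) := by
  rw [Linear.smul_comp, Linear.comp_smul, id_comp, comp_id]

omit [HasZeroObject C] [HasShift C ℤ] [∀ n : ℤ, (shiftFunctor C n).Additive] [Pretriangulated C]
  [∀ n : ℤ, (shiftFunctor C n).Linear R] in
lemma IsLoc.of_iso {X Y : C} (h : IsLoc f X) (e : X ≅ Y) : IsLoc f Y := by
  have : f • 𝟙 Y = e.inv ≫ (f • 𝟙 X) ≫ e.hom := by
    rw [smul_id_comp, e.inv_hom_id_assoc]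
  unfold IsLoc
  rw [this]
  have : IsIso (f • 𝟙 X) := h
  infer_instance

omit [HasZeroObject C] [Pretriangulated C] in
lemma IsLoc.shift {X : C} (h : IsLoc f X) (n : ℤ) : IsLoc f (X⟦n⟧) := by
  have : f • 𝟙 (X⟦n⟧) = (f • 𝟙 X)⟦n⟧' := by
    rw [Functor.map_smul, CategoryTheory.Functor.map_id]
  unfold IsLoc
  rw [this]
  have : IsIso (f • 𝟙 X) := h
  infer_instance

omit [HasZeroObject C] [HasShift C ℤ] [∀ n : ℤ, (shiftFunctor C n).Additive] [Pretriangulated C]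
  [∀ n : ℤ, (shiftFunctor C n).Linear R] in
lemma IsCpl.of_iso {E E' : C} (h : IsCpl f E) (e : E ≅ E') : IsCpl f E' := by
  intro X hX φ
  have := h X hX (φ ≫ e.inv)
  rw [← cancel_mono e.inv, this, zero_comp]

/-- for local `X`, the inverse of multiplication by `f`. -/
noncomputable def IsLoc.inv {X : C} (h : IsLoc f X) : X ⟶ X :=
  haveI : IsIso (f • 𝟙 X) := h
  CategoryTheory.inv (f • 𝟙 X)

omit [HasZeroObject C] [HasShift C ℤ] [∀ n : ℤ, (shiftFunctor C n).Additive] [Pretriangulated C]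
  [∀ n : ℤ, (shiftFunctor C n).Linear R] in
lemma IsLoc.smul_inv_comp {X Y : C} (h : IsLoc f X) (ψ : X ⟶ Y) : f • (h.inv ≫ ψ) = ψ := by
  have : IsIso (f • 𝟙 X) := h
  have key : f • h.inv = 𝟙 X := by
    have h1 : (f • 𝟙 X) ≫ h.inv = 𝟙 X := IsIso.hom_inv_id _
    rwa [Linear.smul_comp, id_comp] at h1
  rw [← Linear.smul_comp, key, id_comp]

omit [HasZeroObject C] [HasShift C ℤ] [∀ n : ℤ, (shiftFunctor C n).Additive] [Pretriangulated C]
  [∀ n : ℤ, (shiftFunctor C n).Linear R] in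
lemma IsLoc.inv_comp_smul {X Y : C} (h : IsLoc f X) (ψ : X ⟶ Y) : h.inv ≫ (f • ψ) = ψ := by
  rw [Linear.comp_smul]
  exact h.smul_inv_comp f ψ

omit [HasZeroObject C] [HasShift C ℤ] [∀ n : ℤ, (shiftFunctor C n).Additive] [Pretriangulated C]
  [∀ n : ℤ, (shiftFunctor C n).Linear R] in
lemma IsLoc.eq_zero_of_smul_eq_zero {X Y : C} (h : IsLoc f X) (ψ : X ⟶ Y) (hψ : f • ψ = 0) :
    ψ = 0 := by
  rw [← h.inv_comp_smul f ψ, hψ, comp_zero]

end Basic

/-- a countable power. -/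
structure IsPow (P K : C) (π : ℕ → (P ⟶ K)) : Prop where
  lift_exists : ∀ {W : C} (g : ℕ → (W ⟶ K)), ∃ l : W ⟶ P, ∀ n, l ≫ π n = g n
  hom_ext : ∀ {W : C} (l l' : W ⟶ P), (∀ n, l ≫ π n = l' ≫ π n) → l = l'

omit [Preadditive C] [HasZeroObject C] [HasShift C ℤ] [∀ n : ℤ, (shiftFunctor C n).Additive]
  [Pretriangulated C] in
lemma IsPow.of_isLimit {K : C} (c : Fan (fun _ : ℕ => K)) (hc : IsLimit c) :
    IsPow c.pt K c.proj where
  lift_exists g := ⟨Fan.IsLimit.lift hc g, fun n => Fan.IsLimit.fac hc g n⟩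
  hom_ext l l' h := Fan.IsLimit.hom_ext hc l l' h

omit [Preadditive C] [HasZeroObject C] [∀ n : ℤ, (shiftFunctor C n).Additive]
  [Pretriangulated C] in
lemma IsPow.shift {P K : C} {π : ℕ → (P ⟶ K)} (h : IsPow P K π) (n : ℤ) :
    IsPow (P⟦n⟧) (K⟦n⟧) (fun i => (π i)⟦n⟧') := by
  classical
  -- build a limit fan from `h`
  have hc : IsLimit (Fan.mk P π) :=
    Fan.IsLimit.mk _ (fun s => (h.lift_exists s.proj).choose)
      (fun s j => (h.lift_exists s.proj).choose_spec j)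
      (fun s m hm => h.hom_ext _ _ (fun j => (hm j).trans
        ((h.lift_exists s.proj).choose_spec j).symm))
  have hc' := isLimitFanMkObjOfIsLimit (shiftFunctor C n) _ _ hc
  exact IsPow.of_isLimit _ hc'

section Pow

variable (f : R) {P K : C} {π : ℕ → (P ⟶ K)} (hP : IsPow P K π)

/-- the shift endomorphism of a countable power. -/
noncomputable def IsPow.S : P ⟶ P := (hP.lift_exists (fun n => π (n + 1))).choose

omit [Preadditive C] [HasZeroObject C] [HasShift C ℤ] [∀ n : ℤ, (shiftFunctor C n).Additive]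
  [Pretriangulated C] in
@[reassoc]
lemma IsPow.S_π (n : ℕ) : hP.S ≫ π n = π (n + 1) :=
  (hP.lift_exists (fun n => π (n + 1))).choose_spec n

/-- `1 - f S`. -/
noncomputable def IsPow.D : P ⟶ P := 𝟙 P - f • hP.S

omit [HasZeroObject C] [HasShift C ℤ] [∀ n : ℤ, (shiftFunctor C n).Additive]
  [Pretriangulated C] [∀ n : ℤ, (shiftFunctor C n).Linear R] in
@[reassoc]
lemma IsPow.D_π (n : ℕ) : hP.D f ≫ π n = π n - f • π (n + 1) := by
  rw [IsPow.D, Preadditive.sub_comp, id_comp, Linear.smul_comp, hP.S_π]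

omit [HasZeroObject C] [HasShift C ℤ] [∀ n : ℤ, (shiftFunctor C n).Additive]
  [Pretriangulated C] [∀ n : ℤ, (shiftFunctor C n).Linear R] in
/-- Lemma A: if `D` is invertible, then `K` is `f`-complete. -/
theorem IsPow.isCpl_of_isIso_D (hD : IsIso (hP.D f)) : IsCpl f K := by
  intro X hX φ
  -- ψ n = inv^n ≫ φ
  let ψ : ℕ → (X ⟶ K) := fun n => Nat.rec φ (fun _ g => hX.inv ≫ g) n
  have hψ0 : ψ 0 = φ := rfl
  have hψs : ∀ n, ψ (n + 1) = hX.inv ≫ ψ n := fun n => rfl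
  obtain ⟨Ψ, hΨ⟩ := hP.lift_exists ψ
  have h0 : Ψ ≫ hP.D f = 0 := by
    apply hP.hom_ext
    intro n
    rw [assoc, hP.D_π, Preadditive.comp_sub, Linear.comp_smul, hΨ, hΨ, hψs,
      hX.smul_inv_comp, sub_self, zero_comp]
  have hΨ0 : Ψ = 0 := by
    have := hD
    rw [← cancel_mono (hP.D f), h0, zero_comp]
  rw [← hψ0, ← hΨ 0, hΨ0, zero_comp]

omit [HasZeroObject C] [HasShift C ℤ] [∀ n : ℤ, (shiftFunctor C n).Additive]
  [Pretriangulated C] [∀ n : ℤ, (shiftFunctor C n).Linear R] in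
/-- for local `X`, composition with `D` is surjective on `Hom(X, P)`. -/
lemma IsPow.exists_comp_D_eq {X : C} (hX : IsLoc f X) (y : X ⟶ P) :
    ∃ m : X ⟶ P, m ≫ hP.D f = y := by
  let mm : ℕ → (X ⟶ K) := fun n => Nat.rec 0 (fun k g => hX.inv ≫ (g - y ≫ π k)) n
  have hm0 : mm 0 = 0 := rfl
  have hms : ∀ n, mm (n + 1) = hX.inv ≫ (mm n - y ≫ π n) := fun n => rfl
  obtain ⟨m, hm⟩ := hP.lift_exists mm
  refine ⟨m, hP.hom_ext _ _ (fun n => ?_)⟩
  rw [assoc, hP.D_π, Preadditive.comp_sub, Linear.comp_smul, hm, hm, hms, hX.smul_inv_comp]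
  abel

omit [HasZeroObject C] [HasShift C ℤ] [∀ n : ℤ, (shiftFunctor C n).Additive]
  [Pretriangulated C] [∀ n : ℤ, (shiftFunctor C n).Linear R] in
/-- for local `X`, an element of the kernel of `D` on `Hom(X, P)` is determined by its
zeroth component. -/
lemma IsPow.eq_zero_of_comp_D_eq_zero {X : C} (hX : IsLoc f X) (m : X ⟶ P)
    (hm : m ≫ hP.D f = 0) (h0 : m ≫ π 0 = 0) : m = 0 := by
  have key : ∀ n, m ≫ π n = 0 := by
    intro n
    induction n with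
    | zero => exact h0
    | succ n ih =>
      have := congrArg (· ≫ π n) hm
      simp only [assoc, zero_comp] at this
      rw [hP.D_π, Preadditive.comp_sub, ih, zero_sub, neg_eq_zero, Linear.comp_smul] at this
      exact hX.eq_zero_of_smul_eq_zero f _ this
  apply hP.hom_ext
  intro n
  rw [key n, zero_comp]

omit [HasZeroObject C] [HasShift C ℤ] [∀ n : ℤ, (shiftFunctor C n).Additive]
  [Pretriangulated C] [∀ n : ℤ, (shiftFunctor C n).Linear R] in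
/-- for local `X`, every `g : X ⟶ K` is the zeroth component of an element of the kernel
of `D`. -/
lemma IsPow.exists_comp_D_eq_zero {X : C} (hX : IsLoc f X) (g : X ⟶ K) :
    ∃ m : X ⟶ P, m ≫ hP.D f = 0 ∧ m ≫ π 0 = g := by
  let mm : ℕ → (X ⟶ K) := fun n => Nat.rec g (fun _ g' => hX.inv ≫ g') n
  have hm0 : mm 0 = g := rfl
  have hms : ∀ n, mm (n + 1) = hX.inv ≫ mm n := fun n => rfl
  obtain ⟨m, hm⟩ := hP.lift_exists mm
  refine ⟨m, hP.hom_ext _ _ (fun n => ?_), (hm 0).trans hm0⟩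
  rw [assoc, hP.D_π, Preadditive.comp_sub, Linear.comp_smul, hm, hm, hms, hX.smul_inv_comp,
    sub_self, zero_comp]

end Pow


section Cone

variable (f : R)

omit [∀ n : ℤ, (shiftFunctor C n).Linear R] in
/-- Lemma C: the cone of `1 - f S` is `f`-local, for any endomorphism `S`. -/
theorem isLoc_cone [∀ n : ℤ, (shiftFunctor C n).Linear R] {P Cc : C} (S : P ⟶ P) (a : P ⟶ Cc)
    (b : Cc ⟶ P⟦(1 : ℤ)⟧) (hT : Triangle.mk (𝟙 P - f • S) a b ∈ distTriang C) : IsLoc f Cc := by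
  obtain ⟨σ, hσ1, hσ2⟩ : ∃ σ : Cc ⟶ Cc, a ≫ σ = S ≫ a ∧ b ≫ S⟦(1 : ℤ)⟧' = σ ≫ b :=
    complete_distinguished_triangle_morphism _ _ hT hT S S (by
      show (𝟙 P - f • S) ≫ S = S ≫ (𝟙 P - f • S)
      rw [Preadditive.sub_comp, Preadditive.comp_sub, Linear.smul_comp, Linear.comp_smul,
        id_comp, comp_id])
  have z12 : (𝟙 P - f • S) ≫ a = 0 := comp_distTriang_mor_zero₁₂ _ hT
  have z31 : b ≫ (𝟙 P - f • S)⟦(1 : ℤ)⟧' = 0 := comp_distTriang_mor_zero₃₁ _ hT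
  have z31' : b - f • (b ≫ S⟦(1 : ℤ)⟧') = 0 := by
    rw [Functor.map_sub, Functor.map_smul, CategoryTheory.Functor.map_id, Preadditive.comp_sub,
      comp_id, Linear.comp_smul] at z31
    exact z31
  have z12' : a - f • (S ≫ a) = 0 := by
    rw [Preadditive.sub_comp, id_comp, Linear.smul_comp] at z12
    exact z12
  obtain ⟨N, hN⟩ : ∃ N : Cc ⟶ Cc, N = f • σ - 𝟙 Cc := ⟨_, rfl⟩
  have aN : a ≫ N = 0 := by
    rw [hN, Preadditive.comp_sub, comp_id, Linear.comp_smul, hσ1, ← neg_eq_zero, neg_sub]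
    exact z12'
  have Nb : N ≫ b = 0 := by
    rw [hN, Preadditive.sub_comp, id_comp, Linear.smul_comp, ← hσ2, ← neg_eq_zero, neg_sub]
    exact z31'
  obtain ⟨t, ht⟩ : ∃ t : P⟦(1 : ℤ)⟧ ⟶ Cc, N = b ≫ t := Triangle.yoneda_exact₃ _ hT N aN
  have NN : N ≫ N = 0 := by
    nth_rw 2 [ht]
    rw [← assoc, Nb, zero_comp]
  have hfσ : f • σ = 𝟙 Cc + N := by
    rw [hN]
    abel
  have key : (𝟙 Cc + N) ≫ (𝟙 Cc - N) = 𝟙 Cc := by
    rw [Preadditive.add_comp, id_comp, Preadditive.comp_sub, comp_id, NN]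
    abel
  refine ⟨⟨σ ≫ (𝟙 Cc - N), ?_, ?_⟩⟩
  · rw [Linear.smul_comp, id_comp, ← Linear.smul_comp, hfσ, key]
  · rw [Linear.comp_smul, comp_id, ← Linear.smul_comp, hfσ, key]

end Cone

section Exact

omit [∀ n : ℤ, (shiftFunctor C n).Linear R] in
/-- if composition with `mor₃` is injective on `Hom(X, obj₃)` and surjective on
`Hom(X⟦1⟧, obj₃)`, then `Hom(X, obj₂) = 0`. -/
lemma eq_zero_of_mor₃_bij (T : Triangle C) (hT : T ∈ distTriang C) {X : C}
    (hinj : ∀ θ : X ⟶ T.obj₃, θ ≫ T.mor₃ = 0 → θ = 0)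
    (hsurj : ∀ ψ : X⟦(1 : ℤ)⟧ ⟶ T.obj₁⟦(1 : ℤ)⟧, ∃ θ : X⟦(1 : ℤ)⟧ ⟶ T.obj₃, θ ≫ T.mor₃ = ψ)
    (φ : X ⟶ T.obj₂) : φ = 0 := by
  have h1 : φ ≫ T.mor₂ = 0 := hinj _ (by rw [assoc, comp_distTriang_mor_zero₂₃ _ hT, comp_zero])
  obtain ⟨φ', rfl⟩ := Triangle.coyoneda_exact₂ _ hT φ h1
  obtain ⟨θ, hθ⟩ := hsurj (φ'⟦(1 : ℤ)⟧')
  apply (shiftFunctor C (1 : ℤ)).map_injective
  rw [Functor.map_comp, ← hθ, assoc, comp_distTriang_mor_zero₃₁ _ hT, comp_zero, Functor.map_zero]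

end Exact

section OrthLemmas

omit [∀ n : ℤ, (shiftFunctor C n).Linear R] [HasZeroObject C] [∀ n : ℤ, (shiftFunctor C n).Additive]
  [Pretriangulated C] in
lemma Orth.of_iso {Y K K' : C} (h : Orth Y K) (e : K ≅ K') : Orth Y K' := by
  intro n φ
  have := h n (φ ≫ (e.inv)⟦n⟧')
  rw [← cancel_mono ((e.inv)⟦n⟧'), this, zero_comp]

omit [∀ n : ℤ, (shiftFunctor C n).Linear R] [HasZeroObject C] [∀ n : ℤ, (shiftFunctor C n).Additive]
  [Pretriangulated C] in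
lemma Orth.of_pow {Y P K : C} {π : ℕ → (P ⟶ K)} (hP : IsPow P K π) (h : Orth Y K) : Orth Y P := by
  intro n φ
  apply (hP.shift n).hom_ext
  intro i
  rw [zero_comp]
  exact h n _

omit [∀ n : ℤ, (shiftFunctor C n).Linear R] [HasZeroObject C] [∀ n : ℤ, (shiftFunctor C n).Additive]
  [Pretriangulated C] in
lemma Orth.shift_one {Y K : C} (h : Orth Y K) : Orth Y (K⟦(1 : ℤ)⟧) := by
  intro n φ
  have := h (1 + n) (φ ≫ ((shiftFunctorAdd' C (1 : ℤ) n (1 + n) rfl).app K).inv)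
  rw [← cancel_mono ((shiftFunctorAdd' C (1 : ℤ) n (1 + n) rfl).app K).inv, this, zero_comp]

omit [∀ n : ℤ, (shiftFunctor C n).Linear R] in
lemma Orth.obj₂ {Y : C} (T : Triangle C) (hT : T ∈ distTriang C) (h1 : Orth Y T.obj₁)
    (h3 : Orth Y T.obj₃) : Orth Y T.obj₂ := by
  intro n φ
  have hT' := Triangle.shift_distinguished T hT n
  have hz : φ ≫ ((Triangle.shiftFunctor C n).obj T).mor₂ = 0 := h3 n _
  obtain ⟨g, hg⟩ := Triangle.coyoneda_exact₂ _ hT' φ hz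
  have hg0 : g = 0 := h1 n g
  rw [hg, hg0]
  exact zero_comp

omit [∀ n : ℤ, (shiftFunctor C n).Linear R] in
lemma Orth.obj₃ {Y : C} (T : Triangle C) (hT : T ∈ distTriang C) (h1 : Orth Y T.obj₁)
    (h2 : Orth Y T.obj₂) : Orth Y T.obj₃ :=
  Orth.obj₂ T.rotate (rot_of_distTriang _ hT) h2 h1.shift_one

omit [HasZeroObject C] [∀ n : ℤ, (shiftFunctor C n).Additive] [Pretriangulated C] in
/-- Lemma S. -/
lemma orth_of_isCpl (f : R) {Y Z : C} (hY : ∀ m : ℤ, IsLoc f (Y⟦m⟧)) (hZ : IsCpl f Z) :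
    Orth Y Z := by
  intro n φ
  have h0 := hZ _ (hY (-n))
    (φ⟦-n⟧' ≫ (shiftFunctorCompIsoId C n (-n) (add_neg_cancel n)).hom.app Z)
  have h1 : φ⟦-n⟧' = 0 := by
    rw [← cancel_mono ((shiftFunctorCompIsoId C n (-n) (add_neg_cancel n)).hom.app Z), h0,
      zero_comp]
  apply (shiftFunctor C (-n)).map_injective
  rw [h1, Functor.map_zero]

end OrthLemmas

section Construction

variable (f : R)

omit [HasZeroObject C] [∀ n : ℤ, (shiftFunctor C n).Additive] [Pretriangulated C] in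
lemma IsPow.S_shift {P K : C} {π : ℕ → (P ⟶ K)} (hP : IsPow P K π) (n : ℤ) :
    (hP.S)⟦n⟧' = (hP.shift n).S := by
  apply (hP.shift n).hom_ext
  intro i
  rw [(hP.shift n).S_π, ← Functor.map_comp, hP.S_π]

omit [HasZeroObject C] [Pretriangulated C] in
lemma IsPow.D_shift {P K : C} {π : ℕ → (P ⟶ K)} (hP : IsPow P K π) (n : ℤ) :
    (hP.D f)⟦n⟧' = (hP.shift n).D f := by
  rw [IsPow.D, IsPow.D, Functor.map_sub, Functor.map_smul, CategoryTheory.Functor.map_id,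
    hP.S_shift]

/-- the data of the completion of `K` along `f`. -/
structure CplData (K : C) where
  /-- the countable power -/
  P : C
  /-- the projections -/
  π : ℕ → (P ⟶ K)
  hP : IsPow P K π
  /-- the cone of `D` -/
  Cc : C
  /-- second map of the first triangle -/
  a : P ⟶ Cc
  /-- third map of the first triangle -/
  b : Cc ⟶ P⟦(1 : ℤ)⟧
  hT1 : Triangle.mk (hP.D f) a b ∈ distTriang C
  /-- the completion -/
  Kf : C
  /-- the canonical map -/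
  η : K ⟶ Kf
  /-- the map to the cone -/
  ε : Kf ⟶ Cc
  hT2 : Triangle.mk η ε (b ≫ (π 0)⟦(1 : ℤ)⟧') ∈ distTriang C

omit [∀ n : ℤ, (shiftFunctor C n).Linear R] in
lemma nonempty_cplData {P K : C} {π : ℕ → (P ⟶ K)} (hP : IsPow P K π) :
    Nonempty (CplData f K) := by
  obtain ⟨Cc, a, b, hT1⟩ := distinguished_cocone_triangle (hP.D f)
  obtain ⟨Kf, η, ε, hT2⟩ := distinguished_cocone_triangle₂ (b ≫ (π 0)⟦(1 : ℤ)⟧')
  exact ⟨⟨P, π, hP, Cc, a, b, hT1, Kf, η, ε, hT2⟩⟩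

variable {f} {K : C} (d : CplData f K)

lemma CplData.isLoc_Cc : IsLoc f d.Cc :=
  isLoc_cone f d.hP.S d.a d.b d.hT1

/-- Lemma D: the completion is complete. -/
theorem CplData.isCpl_Kf : IsCpl f d.Kf := by
  intro X hX φ
  refine eq_zero_of_mor₃_bij _ d.hT2 ?_ ?_ φ
  · intro (θ : X ⟶ d.Cc) hθ
    replace hθ : θ ≫ d.b ≫ (d.π 0)⟦(1 : ℤ)⟧' = 0 := hθ
    have h1 : (θ ≫ d.b) ≫ (d.hP.shift 1).D f = 0 := by
      rw [← d.hP.D_shift f 1, assoc]
      have : d.b ≫ (d.hP.D f)⟦(1 : ℤ)⟧' = 0 := comp_distTriang_mor_zero₃₁ _ d.hT1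
      rw [this, comp_zero]
    have h2 : θ ≫ d.b = 0 :=
      (d.hP.shift 1).eq_zero_of_comp_D_eq_zero f hX _ h1 (by rw [assoc]; exact hθ)
    obtain ⟨θ', hθ'⟩ : ∃ θ' : X ⟶ d.P, θ = θ' ≫ d.a := Triangle.coyoneda_exact₃ _ d.hT1 θ h2
    obtain ⟨m', hm'⟩ := d.hP.exists_comp_D_eq f hX θ'
    have : d.hP.D f ≫ d.a = 0 := comp_distTriang_mor_zero₁₂ _ d.hT1
    rw [hθ', ← hm', assoc, this]
    exact comp_zero
  · intro (ψ : X⟦(1 : ℤ)⟧ ⟶ K⟦(1 : ℤ)⟧)
    obtain ⟨m, hm1, hm2⟩ := (d.hP.shift 1).exists_comp_D_eq_zero f (hX.shift f 1) ψ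
    rw [← d.hP.D_shift f 1] at hm1
    obtain ⟨θ, hθ⟩ : ∃ θ : X⟦(1 : ℤ)⟧ ⟶ d.Cc, m = θ ≫ d.b :=
      Triangle.coyoneda_exact₁ _ d.hT1 m hm1
    refine ⟨θ, ?_⟩
    show θ ≫ d.b ≫ (d.π 0)⟦(1 : ℤ)⟧' = ψ
    rw [← assoc, ← hθ, hm2]

/-- Lemma E: the universal property. -/
theorem CplData.bijective_comp_η {E : C} (hE : IsCpl f E) :
    Function.Bijective (fun ψ : d.Kf ⟶ E => d.η ≫ ψ) := by
  constructor
  · intro ψ ψ' h
    dsimp at h
    have h0 : d.η ≫ (ψ - ψ') = 0 := by rw [Preadditive.comp_sub, h, sub_self]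
    obtain ⟨θ, hθ⟩ : ∃ θ : d.Cc ⟶ E, ψ - ψ' = d.ε ≫ θ := Triangle.yoneda_exact₂ _ d.hT2 _ h0
    have : θ = 0 := hE _ d.isLoc_Cc θ
    rw [this, comp_zero] at hθ
    exact sub_eq_zero.1 hθ
  · intro φ
    have hT := inv_rot_of_distTriang _ d.hT2
    have h0 : (Triangle.mk d.η d.ε (d.b ≫ (d.π 0)⟦(1 : ℤ)⟧')).invRotate.mor₁ ≫ φ = 0 :=
      hE _ (d.isLoc_Cc.shift f (-1)) _
    obtain ⟨g, hg⟩ : ∃ g : d.Kf ⟶ E, φ = d.η ≫ g := Triangle.yoneda_exact₂ _ hT φ h0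
    exact ⟨g, hg.symm⟩

omit [∀ n : ℤ, (shiftFunctor C n).Linear R] in
/-- orthogonality is preserved by the completion. -/
theorem CplData.orth_Kf {Y : C} (h : Orth Y K) : Orth Y d.Kf := by
  have hP : Orth Y d.P := Orth.of_pow d.hP h
  have hC : Orth Y d.Cc := Orth.obj₃ _ d.hT1 hP hP
  exact Orth.obj₂ _ d.hT2 h hC

end Construction

end Groth.Agent.R2.H31.Tri
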