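import Mathlib
import Groth.Prelude.Def_DRing3
import Groth.Agent.Lib.Helper10DerComplete5
import Groth.Agent.Lib.Helper17QProd1
import Groth.Agent.R2.H31Tri

/-!
# Countable powers of complexes of modules and the map `1 - f S` (helper31)

* `piCx K`: the concrete countable power of a complex of modules, a product in complexes and
  (after `Q`) in the derived category.
* `piCxD f K = 1 - f S` on `piCx K`; it is a quasi-isomorphism as soon as all cohomology
  modules of `K` satisfy the elementwise criterion `Crit f`.
-/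

set_option autoImplicit false

universe u

open CategoryTheory CategoryTheory.Limits DerivedCategory

attribute [local instance] HasDerivedCategory.standard

namespace Groth.Agent.R2.H31.PiCx

open Groth.Agent.R2.H31.Tri Groth.Agent.Lib.Helper10.DerComplete

variable {A : Type u} [CommRing A]

/-! ### Element-level API for homology of complexes of modules -/

section Elem

variable {ι : Type*} {c : ComplexShape ι} (C : HomologicalComplex (ModuleCat.{u} A) c)

theorem homologyπ_surjective (n : ι) : Function.Surjective (C.homologyπ n) :=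
  (ModuleCat.epi_iff_surjective _).1 inferInstance

theorem iCycles_injective (n : ι) : Function.Injective (C.iCycles n) :=
  (ModuleCat.mono_iff_injective _).1 inferInstance

theorem d_iCycles (n m : ι) (z : C.cycles n) : C.d n m (C.iCycles n z) = 0 := by
  rw [← ModuleCat.comp_apply, C.iCycles_d]
  rfl

theorem exists_cycle (n m : ι) (hnm : c.next n = m) (x : C.X n) (hx : C.d n m x = 0) :
    ∃ z : C.cycles n, C.iCycles n z = x := by
  have h := ShortComplex.exact_of_f_is_kernel
    (ShortComplex.mk (C.iCycles n) (C.d n m) (C.iCycles_d n m)) (C.cyclesIsKernel n m hnm)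
  rw [ShortComplex.moduleCat_exact_iff] at h
  exact h x hx

theorem exists_of_homologyπ_eq_zero (n m : ι) (hnm : c.prev m = n) (z : C.cycles m)
    (hz : C.homologyπ m z = 0) : ∃ y : C.X n, C.toCycles n m y = z := by
  have h := ShortComplex.exact_of_g_is_cokernel
    (ShortComplex.mk (C.toCycles n m) (C.homologyπ m) (C.toCycles_comp_homologyπ n m))
    (C.homologyIsCokernel n m hnm)
  rw [ShortComplex.moduleCat_exact_iff] at h
  exact h z hz

theorem homologyπ_toCycles (n m : ι) (y : C.X n) : C.homologyπ m (C.toCycles n m y) = 0 := by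
  rw [← ModuleCat.comp_apply, C.toCycles_comp_homologyπ]
  rfl

theorem iCycles_toCycles (n m : ι) (y : C.X n) : C.iCycles m (C.toCycles n m y) = C.d n m y := by
  rw [← ModuleCat.comp_apply, C.toCycles_i]

variable {C} {D : HomologicalComplex (ModuleCat.{u} A) c} (φ : C ⟶ D)

theorem iCycles_cyclesMap (n : ι) (z : C.cycles n) :
    D.iCycles n (HomologicalComplex.cyclesMap φ n z) = φ.f n (C.iCycles n z) := by
  rw [← ModuleCat.comp_apply, ← ModuleCat.comp_apply, HomologicalComplex.cyclesMap_i]

theorem homologyMap_homologyπ (n : ι) (z : C.cycles n) :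
    HomologicalComplex.homologyMap φ n (C.homologyπ n z) =
      D.homologyπ n (HomologicalComplex.cyclesMap φ n z) := by
  rw [← ModuleCat.comp_apply, ← ModuleCat.comp_apply,
    HomologicalComplex.homologyπ_naturality]

theorem homologyMap_smul (a : A) (n : ι) :
    HomologicalComplex.homologyMap (a • φ) n = a • HomologicalComplex.homologyMap φ n := by
  ext x
  obtain ⟨z, rfl⟩ := homologyπ_surjective C n x
  have h1 : HomologicalComplex.cyclesMap (a • φ) n z = a • HomologicalComplex.cyclesMap φ n z := by
    apply iCycles_injective D n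
    rw [iCycles_cyclesMap, map_smul, iCycles_cyclesMap]
    rfl
  rw [homologyMap_homologyπ, h1, map_smul, ← homologyMap_homologyπ]
  rfl

end Elem

/-! ### The concrete countable power -/

section Pi

/-- the concrete countable power of a complex of modules. -/
noncomputable def piCx (K : DRing.Cx A) : DRing.Cx A where
  X i := ModuleCat.of A (ℕ → K.X i)
  d i j := ModuleCat.ofHom (LinearMap.pi fun n => (K.d i j).hom ∘ₗ LinearMap.proj n)
  shape i j h := by
    ext x n
    show (K.d i j).hom (x n) = 0
    rw [K.shape i j h]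
    rfl
  d_comp_d' i j k _ _ := by
    ext x n
    show (K.d j k).hom ((K.d i j).hom (x n)) = 0
    rw [← LinearMap.comp_apply, ← ModuleCat.hom_comp, K.d_comp_d]
    rfl

@[simp]
lemma piCx_d_apply (K : DRing.Cx A) (i j : ℤ) (x : ℕ → K.X i) (n : ℕ) :
    ((piCx K).d i j).hom x n = (K.d i j).hom (x n) := rfl

/-- the projections. -/
noncomputable def piCxπ (K : DRing.Cx A) (n : ℕ) : piCx K ⟶ K where
  f i := ModuleCat.ofHom (LinearMap.proj n)
  comm' i j _ := by
    ext x
    rfl

@[simp]
lemma piCxπ_f_apply (K : DRing.Cx A) (n : ℕ) (i : ℤ) (x : ℕ → K.X i) :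
    ((piCxπ K n).f i).hom x = x n := rfl

/-- lifting to the power. -/
noncomputable def piCxLift {K L : DRing.Cx A} (g : ℕ → (L ⟶ K)) : L ⟶ piCx K where
  f i := ModuleCat.ofHom (LinearMap.pi fun n => ((g n).f i).hom)
  comm' i j _ := by
    ext x
    funext n
    exact congrArg (fun t => t.hom x) ((g n).comm i j)

@[simp]
lemma piCxLift_f_apply {K L : DRing.Cx A} (g : ℕ → (L ⟶ K)) (i : ℤ) (x : L.X i) (n : ℕ) :
    ((piCxLift g).f i).hom x n = ((g n).f i).hom x := rfl

@[reassoc (attr := simp)]
lemma piCxLift_π {K L : DRing.Cx A} (g : ℕ → (L ⟶ K)) (n : ℕ) :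
    piCxLift g ≫ piCxπ K n = g n := by
  ext i x
  rfl

lemma piCx_hom_ext {K L : DRing.Cx A} (l l' : L ⟶ piCx K)
    (h : ∀ n, l ≫ piCxπ K n = l' ≫ piCxπ K n) : l = l' := by
  ext i x
  funext n
  have := congrArg (fun t => (t.f i).hom x) (h n)
  exact this

/-- the concrete power is a product of complexes. -/
noncomputable def isLimitPiCx (K : DRing.Cx A) :
    IsLimit (Fan.mk (piCx K) (piCxπ K)) :=
  Fan.IsLimit.mk _ (fun s => piCxLift s.proj) (fun _ n => piCxLift_π _ n)
    (fun _ _ hm => piCx_hom_ext _ _ (fun n => (hm n).trans (piCxLift_π _ n).symm))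

/-- after localization, the concrete power is a countable power in the derived category. -/
lemma isPow_Q_piCx (K : DRing.Cx A) :
    IsPow (Q.obj (piCx K)) (Q.obj K) (fun n => Q.map (piCxπ K n)) :=
  IsPow.of_isLimit _ (Groth.Agent.Lib.Helper17.QProd.isLimitQMapFan _ (isLimitPiCx K))

/-- the shift on the concrete power. -/
noncomputable def piCxS (K : DRing.Cx A) : piCx K ⟶ piCx K :=
  piCxLift (fun n => piCxπ K (n + 1))

/-- `1 - f S` on the concrete power. -/
noncomputable def piCxD (f : A) (K : DRing.Cx A) : piCx K ⟶ piCx K :=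
  𝟙 _ - f • piCxS K

lemma piCxD_π (f : A) (K : DRing.Cx A) (n : ℕ) :
    piCxD f K ≫ piCxπ K n = piCxπ K n - f • piCxπ K (n + 1) := by
  rw [piCxD, Preadditive.sub_comp, Category.id_comp, Linear.smul_comp, piCxS, piCxLift_π]

lemma Q_map_piCxD (f : A) (K : DRing.Cx A) :
    Q.map (piCxD f K) = (isPow_Q_piCx K).D f := by
  apply (isPow_Q_piCx K).hom_ext
  intro n
  rw [(isPow_Q_piCx K).D_π, ← Functor.map_comp, piCxD_π, Functor.map_sub, Functor.map_smul]

end Pi

/-! ### Homology of the concrete power -/

section Homology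

variable (K : DRing.Cx A) (i : ℤ)

/-- the comparison map from the homology of the power to the power of the homology. -/
noncomputable def Φ : (piCx K).homology i →ₗ[A] (ℕ → K.homology i) :=
  LinearMap.pi fun n => (HomologicalComplex.homologyMap (piCxπ K n) i).hom

@[simp]
lemma Φ_apply (x : (piCx K).homology i) (n : ℕ) :
    Φ K i x n = (HomologicalComplex.homologyMap (piCxπ K n) i).hom x := rfl

lemma Φ_injective : Function.Injective (Φ K i) := by
  rw [← LinearMap.ker_eq_bot, LinearMap.ker_eq_bot']
  intro x hx
  obtain ⟨z, rfl⟩ := homologyπ_surjective (piCx K) i x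
  have h1 : ∀ n, ∃ y : K.X (i - 1), K.d (i - 1) i y = (piCx K).iCycles i z n := by
    intro n
    have h2 : K.homologyπ i (HomologicalComplex.cyclesMap (piCxπ K n) i z) = 0 := by
      have := congrFun hx n
      rw [Φ_apply] at this
      rw [← homologyMap_homologyπ]
      exact this
    obtain ⟨y, hy⟩ := exists_of_homologyπ_eq_zero K (i - 1) i (by simp) _ h2
    refine ⟨y, ?_⟩
    rw [← iCycles_toCycles, hy, iCycles_cyclesMap]
    rfl
  choose y hy using h1
  obtain ⟨yy, hyy⟩ : ∃ yy : (piCx K).X (i - 1), yy = y := ⟨y, rfl⟩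
  have h3 : (piCx K).toCycles (i - 1) i yy = z := by
    apply iCycles_injective (piCx K) i
    rw [iCycles_toCycles]
    funext n
    rw [hyy]
    exact hy n
  rw [← h3, homologyπ_toCycles]

lemma Φ_surjective : Function.Surjective (Φ K i) := by
  intro h
  have h1 : ∀ n, ∃ z : K.cycles i, K.homologyπ i z = h n :=
    fun n => homologyπ_surjective K i (h n)
  choose z hz using h1
  let w : ℕ → K.X i := fun n => K.iCycles i (z n)
  have hw : (piCx K).d i (i + 1) (w : (piCx K).X i) = 0 := by
    funext n
    exact d_iCycles K i (i + 1) (z n)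
  obtain ⟨zz, hzz⟩ := exists_cycle (piCx K) i (i + 1) (by simp) _ hw
  refine ⟨(piCx K).homologyπ i zz, ?_⟩
  funext n
  rw [Φ_apply]
  have : HomologicalComplex.cyclesMap (piCxπ K n) i zz = z n := by
    apply iCycles_injective K i
    rw [iCycles_cyclesMap, hzz]
    rfl
  have h2 := homologyMap_homologyπ (piCxπ K n) i zz
  rw [this, hz] at h2
  exact h2

lemma Φ_homologyMap_piCxD (f : A) (x : (piCx K).homology i) :
    Φ K i ((HomologicalComplex.homologyMap (piCxD f K) i).hom x) =
      ((LinearMap.id : (ℕ → K.homology i) →ₗ[A] (ℕ → K.homology i)) -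
        f • shiftL A (K.homology i)) (Φ K i x) := by
  funext n
  have h1 : HomologicalComplex.homologyMap (piCxD f K) i ≫
      HomologicalComplex.homologyMap (piCxπ K n) i =
      HomologicalComplex.homologyMap (piCxπ K n) i -
        f • HomologicalComplex.homologyMap (piCxπ K (n + 1)) i := by
    rw [← HomologicalComplex.homologyMap_comp, piCxD_π, HomologicalComplex.homologyMap_sub,
      homologyMap_smul]
  have h2 := congrArg (fun t => t.hom x) h1
  simp only [LinearMap.sub_apply, LinearMap.id_apply, LinearMap.smul_apply, Pi.sub_apply,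
    Pi.smul_apply, shiftL_apply, Φ_apply]
  exact h2

/-- if the cohomology of `K` satisfies the elementwise criterion, `1 - f S` is a
quasi-isomorphism. -/
theorem quasiIso_piCxD (f : A) (h : ∀ i, Crit f (K.homology i)) : QuasiIso (piCxD f K) := by
  rw [quasiIso_iff]
  intro i
  rw [quasiIsoAt_iff_isIso_homologyMap, ConcreteCategory.isIso_iff_bijective]
  have hb := (crit_iff_bijective (M := K.homology i) f).1 (h i)
  constructor
  · intro x x' hxx'
    apply Φ_injective K i
    apply hb.1
    rw [← Φ_homologyMap_piCxD, ← Φ_homologyMap_piCxD]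
    exact congrArg _ hxx'
  · intro y
    obtain ⟨m, hm⟩ := hb.2 (Φ K i y)
    obtain ⟨x, rfl⟩ := Φ_surjective K i m
    refine ⟨x, Φ_injective K i ?_⟩
    rw [← hm]
    exact Φ_homologyMap_piCxD K i f x

theorem isIso_Q_map_piCxD (f : A) (h : ∀ i, Crit f (K.homology i)) :
    IsIso (Q.map (piCxD f K)) := by
  have := quasiIso_piCxD K f h
  infer_instance

end Homology

end Groth.Agent.R2.H31.PiCx
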