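import Mathlib
import Groth.Prelude.Def_DRing3
import Groth.Prelude.Def_DDual2
import Groth.Agent.Lib.Helper10DerComplete4
import Groth.Agent.Lib.Helper10DerComplete6
import Groth.Agent.R2.H31PiCx

/-!
# Derived completeness in `D(A)` via `f`-local objects, and existence of derived completion
(helper31)

* `isCpl_iff_orth`: `K` is right orthogonal to all `f`-local objects iff all maps
  `A_f ⟶ K⟦n⟧` vanish (the frozen definition of derived completeness for one element).
* `isLoc_Q_of_bijective`, `isLoc_restrictD`: examples of `f`-local objects.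
* `exists_cpl_list`: derived completion with respect to a finite list of elements.
* `hasDerivedCompletion_of_fg`: derived completion exists for finitely generated ideals.
-/

set_option autoImplicit false

universe u

open CategoryTheory CategoryTheory.Limits DerivedCategory

attribute [local instance] HasDerivedCategory.standard

namespace Groth.Agent.R2.H31.DComp

open Groth.Agent.R2.H31.Tri Groth.Agent.R2.H31.PiCx Groth.Agent.Lib.Helper10.DerComplete

variable {A : Type u} [CommRing A]

section Local

variable (f : A)

/-- a complex on whose terms `f` acts bijectively is `f`-local in the derived category. -/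
lemma isLoc_Q_of_bijective (X : DRing.Cx A)
    (h : ∀ i, Function.Bijective (fun x : X.X i => f • x)) : IsLoc f (Q.obj X) := by
  have h0 : ∀ i, IsIso ((f • 𝟙 X : X ⟶ X).f i) := by
    intro i
    rw [ConcreteCategory.isIso_iff_bijective]
    exact h i
  have h1 : IsIso (f • 𝟙 X) := HomologicalComplex.Hom.isIso_of_components _
  have h2 : f • 𝟙 (Q.obj X) = Q.map (f • 𝟙 X) := by
    rw [Functor.map_smul, CategoryTheory.Functor.map_id]
  unfold IsLoc
  rw [h2]
  infer_instance

lemma bijective_smul_away :
    Function.Bijective (fun x : Localization.Away f => f • x) := by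
  have hu : IsUnit (algebraMap A (Localization.Away f) f) :=
    IsLocalization.Away.algebraMap_isUnit f
  have h1 : (fun x : Localization.Away f => f • x) = fun x => hu.unit • x := by
    funext x
    rw [Algebra.smul_def]
    rfl
  rw [h1]
  exact MulAction.bijective hu.unit

lemma isLoc_inD_away : IsLoc f (Dual.inD A (Localization.Away f)) := by
  have h1 : IsIso (f • 𝟙 (ModuleCat.of A (Localization.Away f))) := by
    rw [ConcreteCategory.isIso_iff_bijective]
    exact bijective_smul_away f
  have h2 : f • 𝟙 (Dual.inD A (Localization.Away f)) =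
      (singleFunctor (ModuleCat.{u} A) 0).map (f • 𝟙 (ModuleCat.of A (Localization.Away f))) := by
    rw [Functor.map_smul, CategoryTheory.Functor.map_id]
  unfold IsLoc
  rw [h2]
  infer_instance

lemma isLoc_restrictD (E : Dual.D (Localization.Away f)) :
    IsLoc f ((DRing.restrictD (algebraMap A (Localization.Away f))).obj E) := by
  let E' : DRing.Cx (Localization.Away f) := Q.objPreimage E
  let e : Q.obj E' ≅ E := Q.objObjPreimageIso E
  let e' : (DRing.restrictD (algebraMap A (Localization.Away f))).obj (Q.obj E') ≅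
      Q.obj ((DRing.restrictCx (algebraMap A (Localization.Away f))).obj E') :=
    (Functor.mapDerivedCategoryFactors
      (ModuleCat.restrictScalars.{u} (algebraMap A (Localization.Away f)))).app E'
  have h : IsLoc f (Q.obj ((DRing.restrictCx (algebraMap A (Localization.Away f))).obj E')) := by
    apply isLoc_Q_of_bijective
    intro i
    have hu : IsUnit (algebraMap A (Localization.Away f) f) :=
      IsLocalization.Away.algebraMap_isUnit f
    have h1 : (fun x : ((DRing.restrictCx (algebraMap A (Localization.Away f))).obj E').X i =>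
        f • x) = fun x => (hu.unit • (x : E'.X i) : E'.X i) := by
      funext x
      rfl
    rw [h1]
    exact MulAction.bijective (α := (Localization.Away f)ˣ) (β := E'.X i) hu.unit
  exact (h.of_iso f e'.symm).of_iso f
    ((DRing.restrictD (algebraMap A (Localization.Away f))).mapIso e)

end Local

section Char

variable (f : A)

theorem orth_iff_crit (K : Dual.D A) :
    Orth (Dual.inD A (Localization.Away f)) K ↔ ∀ i : ℤ, Crit f (Dual.HD A K i) :=
  V_shift_iff_crit f K

theorem orth_iff_subsingleton (K : Dual.D A) :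
    Orth (Dual.inD A (Localization.Away f)) K ↔
      ∀ n : ℤ, Subsingleton (Dual.inD A (Localization.Away f) ⟶ K⟦n⟧) :=
  forall_congr' fun n => V_iff_subsingleton f (K⟦n⟧)

/-- right orthogonality to all `f`-local objects is the frozen derived `f`-completeness. -/
theorem isCpl_iff_orth (K : Dual.D A) :
    IsCpl f K ↔ Orth (Dual.inD A (Localization.Away f)) K := by
  constructor
  · intro h
    exact orth_of_isCpl f (fun m => (isLoc_inD_away f).shift f m) h
  · intro h
    have hc := (orth_iff_crit f K).1 h
    let K' : DRing.Cx A := Q.objPreimage K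
    let e : Q.obj K' ≅ K := Q.objObjPreimageIso K
    have hc' : ∀ i, Crit f (K'.homology i) := fun i =>
      (Crit.HD_of_iso e.symm i (hc i)).of_linearEquiv
        ((homologyFunctorFactors (ModuleCat.{u} A) i).app K').toLinearEquiv
    have hD : IsIso ((isPow_Q_piCx K').D f) := by
      rw [← Q_map_piCxD]
      exact isIso_Q_map_piCxD K' f hc'
    exact ((isPow_Q_piCx K').isCpl_of_isIso_D f hD).of_iso f e

theorem isDerivedComplete_iff_isCpl (I : Ideal A) (K : Dual.D A) :
    DRing.IsDerivedComplete I K ↔ ∀ f ∈ I, IsCpl f K := by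
  refine forall₂_congr fun f _ => ?_
  rw [isCpl_iff_orth, orth_iff_subsingleton]

/-- derived completeness can be checked on generators. -/
theorem isDerivedComplete_of_generators (s : Set A) (K : Dual.D A)
    (h : ∀ g ∈ s, IsCpl g K) : DRing.IsDerivedComplete (Ideal.span s) K := by
  rw [isDerivedComplete_iff_forall_crit]
  intro f hf i
  have hle : Ideal.span s ≤ critIdeal A (Dual.HD A K i) := by
    rw [Ideal.span_le]
    intro g hg
    exact ((orth_iff_crit g K).1 ((isCpl_iff_orth g K).1 (h g hg))) i
  exact hle hf

end Char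

section Existence

omit [CommRing A] in
lemma IsPow.of_iso {C : Type*} [Category C] {P K K₂ : C} {π : ℕ → (P ⟶ K)} (h : IsPow P K π)
    (e : K ≅ K₂) : IsPow P K₂ (fun n => π n ≫ e.hom) where
  lift_exists g := by
    obtain ⟨l, hl⟩ := h.lift_exists (fun n => g n ≫ e.inv)
    exact ⟨l, fun n => by rw [← Category.assoc, hl, Category.assoc, e.inv_hom_id, Category.comp_id]⟩
  hom_ext l l' hh := h.hom_ext l l' (fun n => by
    have := hh n
    rw [← Category.assoc, ← Category.assoc] at this
    exact (cancel_mono e.hom).1 this)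

/-- every object of `D(A)` has a countable power. -/
lemma exists_isPow (K : Dual.D A) : ∃ (P : Dual.D A) (π : ℕ → (P ⟶ K)), IsPow P K π := by
  let K' : DRing.Cx A := Q.objPreimage K
  let e : Q.obj K' ≅ K := Q.objObjPreimageIso K
  exact ⟨_, _, IsPow.of_iso (isPow_Q_piCx K') e⟩

/-- one step of derived completion. -/
theorem exists_cpl_step (f : A) (K : Dual.D A) :
    ∃ (Kf : Dual.D A) (η : K ⟶ Kf), IsCpl f Kf ∧ (∀ Y : Dual.D A, Orth Y K → Orth Y Kf) ∧
      ∀ E : Dual.D A, IsCpl f E → Function.Bijective (fun ψ : Kf ⟶ E => η ≫ ψ) := by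
  obtain ⟨P, π, hP⟩ := exists_isPow K
  obtain ⟨d⟩ := nonempty_cplData f hP
  exact ⟨d.Kf, d.η, d.isCpl_Kf, fun Y h => d.orth_Kf h, fun E hE => d.bijective_comp_η hE⟩

/-- derived completion with respect to a finite list of elements. -/
theorem exists_cpl_list (l : List A) (K : Dual.D A) :
    ∃ (K' : Dual.D A) (η : K ⟶ K'), (∀ g ∈ l, IsCpl g K') ∧
      ∀ E : Dual.D A, (∀ g ∈ l, IsCpl g E) → Function.Bijective (fun ψ : K' ⟶ E => η ≫ ψ) := by
  induction l with
  | nil =>
    refine ⟨K, 𝟙 K, by simp, fun E _ => ?_⟩
    simp only [Category.id_comp]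
    exact Function.bijective_id
  | cons g l ih =>
    obtain ⟨K₁, η₁, h₁, u₁⟩ := ih
    obtain ⟨K₂, η₂, h₂, o₂, u₂⟩ := exists_cpl_step g K₁
    refine ⟨K₂, η₁ ≫ η₂, ?_, ?_⟩
    · intro g' hg'
      rcases List.mem_cons.1 hg' with rfl | hg'
      · exact h₂
      · exact (isCpl_iff_orth g' K₂).2 (o₂ _ ((isCpl_iff_orth g' K₁).1 (h₁ g' hg')))
    · intro E hE
      have b₂ := u₂ E (hE g (List.mem_cons_self))
      have b₁ := u₁ E (fun g' hg' => hE g' (List.mem_cons_of_mem _ hg'))
      have : (fun ψ : K₂ ⟶ E => (η₁ ≫ η₂) ≫ ψ) =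
          (fun ψ : K₁ ⟶ E => η₁ ≫ ψ) ∘ (fun ψ : K₂ ⟶ E => η₂ ≫ ψ) := by
        funext ψ
        simp
      rw [this]
      exact b₁.comp b₂

/-- derived completion with respect to a finitely generated ideal, objectwise. -/
theorem exists_completion (I : Ideal A) (hI : I.FG) (K : Dual.D A) :
    ∃ (K' : Dual.D A) (η : K ⟶ K'), DRing.IsDerivedComplete I K' ∧
      ∀ E : Dual.D A, DRing.IsDerivedComplete I E →
        Function.Bijective (fun ψ : K' ⟶ E => η ≫ ψ) := by
  obtain ⟨s, rfl⟩ := hI
  obtain ⟨K', η, h, u⟩ := exists_cpl_list s.toList K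
  refine ⟨K', η, ?_, ?_⟩
  · apply isDerivedComplete_of_generators
    intro g hg
    exact h g (Finset.mem_toList.2 hg)
  · intro E hE
    apply u
    intro g hg
    exact (isDerivedComplete_iff_isCpl _ E).1 hE g (Ideal.subset_span (Finset.mem_toList.1 hg))

/-- derived completion exists for finitely generated ideals. -/
theorem hasDerivedCompletion_of_fg (I : Ideal A) (hI : I.FG) : DRing.HasDerivedCompletion I := by
  classical
  choose Kc η hc hu using exists_completion I hI
  let F_obj : Dual.D A → DRing.DComp I := fun K => ⟨Kc K, hc K⟩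
  let e : ∀ (K : Dual.D A) (E : DRing.DComp I),
      (F_obj K ⟶ E) ≃ (K ⟶ (ObjectProperty.ι (DRing.IsDerivedComplete I)).obj E) := fun K E =>
    { toFun := fun ψ => η K ≫ ψ.hom
      invFun := fun φ => ObjectProperty.homMk
        ((Equiv.ofBijective _ (hu K E.obj E.property)).symm φ)
      left_inv := fun ψ => by
        apply ObjectProperty.hom_ext
        exact (Equiv.ofBijective _ (hu K E.obj E.property)).symm_apply_apply ψ.hom
      right_inv := fun φ =>
        (Equiv.ofBijective _ (hu K E.obj E.property)).apply_symm_apply φ }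
  have he : ∀ X Y Y' g h, e X Y' (h ≫ g) =
      e X Y h ≫ (ObjectProperty.ι (DRing.IsDerivedComplete I)).map g := by
    intro X Y Y' g h
    show η X ≫ (h.hom ≫ g.hom) = (η X ≫ h.hom) ≫ g.hom
    rw [Category.assoc]
  exact (Adjunction.adjunctionOfEquivLeft e he).isRightAdjoint

end Existence

end Groth.Agent.R2.H31.DComp
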