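import Mathlib

/-!
# Universal arrows towards a class of objects in a pretriangulated category (helper31)

For a predicate `P` on the objects of a pretriangulated category, `IsUniv P η` says that
`η : K ⟶ K'` induces bijections `Hom(K', E) ≃ Hom(K, E)` for all `E` satisfying `P`.
* `IsUniv.shift_one`: if `P` is stable under `⟦-1⟧`, then `η⟦1⟧'` is again universal.
* `exists_univ_cone`: the cone of universal arrows is universal.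
* `IsUniv.exists_iso`: uniqueness of universal arrows.
-/

set_option autoImplicit false

universe v u

open CategoryTheory CategoryTheory.Limits CategoryTheory.Category Pretriangulated

namespace Groth.Agent.R2.H31.Univ

variable {C : Type u} [Category.{v} C]

/-- `η` is universal towards objects satisfying `P`. -/
def IsUniv (P : C → Prop) {K K' : C} (η : K ⟶ K') : Prop :=
  ∀ E : C, P E → Function.Bijective (fun ψ : K' ⟶ E => η ≫ ψ)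

lemma IsUniv.exists_iso {P : C → Prop} {K K₁ K₂ : C} {η₁ : K ⟶ K₁} {η₂ : K ⟶ K₂}
    (h₁ : IsUniv P η₁) (h₂ : IsUniv P η₂) (p₁ : P K₁) (p₂ : P K₂) :
    ∃ e : K₁ ≅ K₂, η₁ ≫ e.hom = η₂ := by
  obtain ⟨α, hα⟩ := (h₁ K₂ p₂).2 η₂
  obtain ⟨β, hβ⟩ := (h₂ K₁ p₁).2 η₁
  dsimp at hα hβ
  refine ⟨⟨α, β, ?_, ?_⟩, hα⟩
  · apply (h₁ K₁ p₁).1
    dsimp
    rw [← assoc, hα, hβ, comp_id]
  · apply (h₂ K₂ p₂).1
    dsimp
    rw [← assoc, hβ, hα, comp_id]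

lemma IsUniv.of_iso {P : C → Prop} {K K₁ K₂ : C} {η₁ : K ⟶ K₁} (h₁ : IsUniv P η₁)
    (e : K₁ ≅ K₂) : IsUniv P (η₁ ≫ e.hom) := by
  intro E hE
  have : (fun ψ : K₂ ⟶ E => (η₁ ≫ e.hom) ≫ ψ) =
      (fun ψ : K₁ ⟶ E => η₁ ≫ ψ) ∘ (fun ψ : K₂ ⟶ E => e.hom ≫ ψ) := by
    funext ψ
    simp
  rw [this]
  refine (h₁ E hE).comp ⟨fun ψ ψ' h => (cancel_epi e.hom).1 h, fun ψ => ⟨e.inv ≫ ψ, ?_⟩⟩
  simp

variable [Preadditive C] [HasZeroObject C] [HasShift C ℤ]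
  [∀ n : ℤ, (shiftFunctor C n).Additive] [Pretriangulated C]

omit [Preadditive C] [HasZeroObject C] [∀ n : ℤ, (shiftFunctor C n).Additive]
  [Pretriangulated C] in
lemma IsUniv.shift_one {P : C → Prop} (hP : ∀ E, P E → P (E⟦(-1 : ℤ)⟧)) {K K' : C}
    {η : K ⟶ K'} (h : IsUniv P η) : IsUniv P (η⟦(1 : ℤ)⟧') := by
  intro E hE
  let e : (E⟦(-1 : ℤ)⟧)⟦(1 : ℤ)⟧ ≅ E := (shiftFunctorCompIsoId C (-1 : ℤ) 1 (by simp)).app E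
  have hb := h _ (hP E hE)
  constructor
  · intro ψ ψ' hψ
    dsimp at hψ
    obtain ⟨ψ₀, h₀⟩ := (shiftFunctor C (1 : ℤ)).map_surjective (ψ ≫ e.inv)
    obtain ⟨ψ₀', h₀'⟩ := (shiftFunctor C (1 : ℤ)).map_surjective (ψ' ≫ e.inv)
    have h1 : (shiftFunctor C (1 : ℤ)).map (η ≫ ψ₀) = (shiftFunctor C (1 : ℤ)).map (η ≫ ψ₀') := by
      rw [Functor.map_comp, Functor.map_comp, h₀, h₀', ← assoc, ← assoc, hψ]
    have h2 : ψ₀ = ψ₀' := hb.1 ((shiftFunctor C (1 : ℤ)).map_injective h1)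
    rw [h2, h₀'] at h₀
    exact ((cancel_mono e.inv).1 h₀).symm
  · intro φ
    obtain ⟨φ₀, h₀⟩ := (shiftFunctor C (1 : ℤ)).map_surjective (φ ≫ e.inv)
    obtain ⟨ψ₀, hψ₀⟩ := hb.2 φ₀
    dsimp at hψ₀
    refine ⟨ψ₀⟦(1 : ℤ)⟧' ≫ e.hom, ?_⟩
    dsimp
    rw [← assoc, ← Functor.map_comp, hψ₀, h₀, assoc, e.inv_hom_id, comp_id]

/-- the cone of universal arrows is universal. -/
theorem exists_univ_cone {P : C → Prop} {K L Z K' L' Z' : C} (φ : K ⟶ L) (a : L ⟶ Z)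
    (b : Z ⟶ K⟦(1 : ℤ)⟧) (hT : Triangle.mk φ a b ∈ distTriang C)
    (φ' : K' ⟶ L') (α : L' ⟶ Z') (β : Z' ⟶ K'⟦(1 : ℤ)⟧)
    (hT' : Triangle.mk φ' α β ∈ distTriang C)
    (ηK : K ⟶ K') (ηL : L ⟶ L') (comm : φ ≫ ηL = ηK ≫ φ')
    (hK : IsUniv P ηK) (hL : IsUniv P ηL) (hK1 : IsUniv P (ηK⟦(1 : ℤ)⟧'))
    (hL1 : IsUniv P (ηL⟦(1 : ℤ)⟧')) :
    ∃ ζ : Z ⟶ Z', a ≫ ζ = ηL ≫ α ∧ b ≫ ηK⟦(1 : ℤ)⟧' = ζ ≫ β ∧ IsUniv P ζ := by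
  obtain ⟨ζ, hζ1, hζ2⟩ : ∃ ζ : Z ⟶ Z', a ≫ ζ = ηL ≫ α ∧ b ≫ ηK⟦(1 : ℤ)⟧' = ζ ≫ β :=
    complete_distinguished_triangle_morphism _ _ hT hT' ηK ηL comm
  refine ⟨ζ, hζ1, hζ2, ?_⟩
  intro E hE
  have z31' : β ≫ φ'⟦(1 : ℤ)⟧' = 0 := comp_distTriang_mor_zero₃₁ _ hT'
  have z12 : φ ≫ a = 0 := comp_distTriang_mor_zero₁₂ _ hT
  constructor
  · -- injectivity
    suffices key : ∀ ψ : Z' ⟶ E, ζ ≫ ψ = 0 → ψ = 0 by
      intro ψ ψ' h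
      dsimp at h
      have := key (ψ - ψ') (by rw [Preadditive.comp_sub, h, sub_self])
      exact sub_eq_zero.1 this
    intro ψ hψ
    have h1 : α ≫ ψ = 0 := by
      apply (hL E hE).1
      dsimp
      rw [← assoc, ← hζ1, assoc, hψ, comp_zero, comp_zero]
    obtain ⟨r, hr⟩ : ∃ r : K'⟦(1 : ℤ)⟧ ⟶ E, ψ = β ≫ r := Triangle.yoneda_exact₃ _ hT' ψ h1
    have h2 : b ≫ (ηK⟦(1 : ℤ)⟧' ≫ r) = 0 := by
      rw [← assoc, hζ2, assoc, ← hr, hψ]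
    obtain ⟨ρ, hρ⟩ : ∃ ρ : L⟦(1 : ℤ)⟧ ⟶ E, ηK⟦(1 : ℤ)⟧' ≫ r = (-φ⟦(1 : ℤ)⟧') ≫ ρ :=
      Triangle.yoneda_exact₃ _ (rot_of_distTriang _ hT) (ηK⟦(1 : ℤ)⟧' ≫ r) h2
    obtain ⟨ρ', hρ'⟩ := (hL1 E hE).2 ρ
    dsimp at hρ'
    have h3 : r = (-φ'⟦(1 : ℤ)⟧') ≫ ρ' := by
      apply (hK1 E hE).1
      dsimp
      rw [hρ, ← hρ', Preadditive.neg_comp, Preadditive.neg_comp, Preadditive.comp_neg,
        ← assoc, ← assoc, ← Functor.map_comp, ← Functor.map_comp, comm]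
    rw [hr, h3, Preadditive.neg_comp, Preadditive.comp_neg, ← assoc, z31', zero_comp, neg_zero]
  · -- surjectivity
    intro θ
    obtain ⟨l, hl⟩ := (hL E hE).2 (a ≫ θ)
    dsimp at hl
    have h1 : φ' ≫ l = 0 := by
      apply (hK E hE).1
      dsimp
      rw [← assoc, ← comm, assoc, hl, ← assoc, z12, zero_comp, comp_zero]
    obtain ⟨ψ₀, hψ₀⟩ : ∃ ψ₀ : Z' ⟶ E, l = α ≫ ψ₀ := Triangle.yoneda_exact₂ _ hT' l h1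
    have h2 : a ≫ (ζ ≫ ψ₀ - θ) = 0 := by
      rw [Preadditive.comp_sub, ← assoc, hζ1, assoc, ← hψ₀, hl, sub_self]
    obtain ⟨μ, hμ⟩ : ∃ μ : K⟦(1 : ℤ)⟧ ⟶ E, ζ ≫ ψ₀ - θ = b ≫ μ :=
      Triangle.yoneda_exact₃ _ hT _ h2
    obtain ⟨μ', hμ'⟩ := (hK1 E hE).2 μ
    dsimp at hμ'
    refine ⟨ψ₀ - β ≫ μ', ?_⟩
    dsimp
    rw [Preadditive.comp_sub, ← assoc ζ, ← hζ2, assoc, hμ', ← hμ]
    abel

end Groth.Agent.R2.H31.Univ
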