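import Mathlib
import Groth.Prelude.Def_DRing3
import Groth.Agent.R2.H31DComp
import Groth.Agent.R2.H31Univ

/-!
# Cohomological amplitude of derived completion (helper31)

* `isZero_homology_obj₃_iff`: vanishing of `H^n` of a cone in terms of `H^n`, `H^{n+1}` of the map.
* `IsCpl.shift`, `IsCpl.obj₃`, `isDerivedComplete_shift`, `isDerivedComplete_obj₃`.
* `isUniv_toDerivedCompletion`: the unit of derived completion is universal.
* `isZero_homology_of_univ_le`: derived completion preserves `D^{≤ m}`.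
* `exists_completion_amp`: derived completion w.r.t. `r` elements sends `D^{≥ n}` to `D^{≥ n - r}`.
* `map_completion_le`, `map_completion_ge`: the statements on maps.
-/

set_option autoImplicit false

universe w v u

open CategoryTheory CategoryTheory.Limits CategoryTheory.Category Pretriangulated DerivedCategory

namespace Groth.Agent.R2.H31.Amp

open Groth.Agent.R2.H31.Tri Groth.Agent.R2.H31.PiCx Groth.Agent.R2.H31.DComp
  Groth.Agent.R2.H31.Univ Groth.Agent.Lib.Helper10.DerComplete

section LES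

variable {C : Type u} [Category.{v} C] [Abelian C] [HasDerivedCategory.{w} C]

lemma isZero_homology_obj₃_iff (T : Triangle (DerivedCategory C)) (hT : T ∈ distTriang _)
    (n₀ n₁ : ℤ) (h : n₀ + 1 = n₁) :
    IsZero ((homologyFunctor C n₀).obj T.obj₃) ↔
      Epi ((homologyFunctor C n₀).map T.mor₁) ∧ Mono ((homologyFunctor C n₁).map T.mor₁) := by
  rw [HomologySequence.epi_homologyMap_mor₁_iff _ hT,
    HomologySequence.mono_homologyMap_mor₁_iff _ hT n₀ n₁ h]
  constructor
  · intro hz
    exact ⟨hz.eq_of_tgt _ _, hz.eq_of_src _ _⟩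
  · rintro ⟨h1, h2⟩
    exact (HomologySequence.exact₃ T hT n₀ n₁ h).isZero_of_both_zeros h1 h2

lemma isZero_homology_obj₂ (T : Triangle (DerivedCategory C)) (hT : T ∈ distTriang _)
    (n : ℤ) (h1 : IsZero ((homologyFunctor C n).obj T.obj₁))
    (h3 : IsZero ((homologyFunctor C n).obj T.obj₃)) :
    IsZero ((homologyFunctor C n).obj T.obj₂) :=
  (HomologySequence.exact₂ T hT n).isZero_of_both_zeros (h1.eq_of_src _ _) (h3.eq_of_tgt _ _)

lemma isZero_homology_obj₃ (T : Triangle (DerivedCategory C)) (hT : T ∈ distTriang _)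
    (n₀ n₁ : ℤ) (h : n₀ + 1 = n₁) (h2 : IsZero ((homologyFunctor C n₀).obj T.obj₂))
    (h1 : IsZero ((homologyFunctor C n₁).obj T.obj₁)) :
    IsZero ((homologyFunctor C n₀).obj T.obj₃) :=
  (HomologySequence.exact₃ T hT n₀ n₁ h).isZero_of_both_zeros (h2.eq_of_src _ _)
    (h1.eq_of_tgt _ _)

end LES

section CplStab

variable {C : Type u} [Category.{v} C] [Preadditive C] [HasZeroObject C] [HasShift C ℤ]
  [∀ n : ℤ, (shiftFunctor C n).Additive] [Pretriangulated C]
  {R : Type w} [CommRing R] [Linear R C] [∀ n : ℤ, (shiftFunctor C n).Linear R]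

omit [HasZeroObject C] [Pretriangulated C] in
lemma IsCpl.shift (f : R) {E : C} (h : IsCpl f E) (n : ℤ) : IsCpl f (E⟦n⟧) := by
  intro X hX φ
  let e : (E⟦n⟧)⟦-n⟧ ≅ E := (shiftFunctorCompIsoId C n (-n) (by simp)).app E
  have h1 : φ⟦-n⟧' ≫ e.hom = 0 := h _ (hX.shift f (-n)) _
  have h2 : φ⟦-n⟧' = 0 := by
    rw [← cancel_mono e.hom, h1, zero_comp]
  apply (shiftFunctor C (-n)).map_injective
  rw [h2, Functor.map_zero]

lemma IsCpl.obj₃ (f : R) (T : Triangle C) (hT : T ∈ distTriang C) (h1 : IsCpl f T.obj₁)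
    (h2 : IsCpl f T.obj₂) : IsCpl f T.obj₃ := by
  intro X hX φ
  have h0 : φ ≫ T.mor₃ = 0 := (IsCpl.shift f h1 1) X hX _
  obtain ⟨ψ, hψ⟩ := Triangle.coyoneda_exact₃ T hT φ h0
  rw [hψ, h2 X hX ψ, zero_comp]

end CplStab

attribute [local instance] HasDerivedCategory.standard

variable {A : Type u} [CommRing A]

section DC

variable (I : Ideal A)

lemma isDerivedComplete_shift {K : Dual.D A} (h : DRing.IsDerivedComplete I K) (n : ℤ) :
    DRing.IsDerivedComplete I (K⟦n⟧) := by
  rw [isDerivedComplete_iff_isCpl] at h ⊢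
  exact fun f hf => IsCpl.shift f (h f hf) n

lemma isDerivedComplete_obj₃ (T : Triangle (Dual.D A)) (hT : T ∈ distTriang _)
    (h1 : DRing.IsDerivedComplete I T.obj₁) (h2 : DRing.IsDerivedComplete I T.obj₂) :
    DRing.IsDerivedComplete I T.obj₃ := by
  rw [isDerivedComplete_iff_isCpl] at h1 h2 ⊢
  exact fun f hf => IsCpl.obj₃ f T hT (h1 f hf) (h2 f hf)

lemma isDerivedComplete_of_iso {K K' : Dual.D A} (e : K ≅ K')
    (h : DRing.IsDerivedComplete I K) : DRing.IsDerivedComplete I K' := by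
  rw [isDerivedComplete_iff_isCpl] at h ⊢
  exact fun f hf => (h f hf).of_iso f e

omit [CommRing A] in
lemma isZero_of_isIso_of_eq_zero {D : Type*} [Category D] [HasZeroMorphisms D] {X Y : D}
    (g : X ⟶ Y) [IsIso g] (h : g = 0) : IsZero X := by
  subst h
  rw [IsZero.iff_id_eq_zero, ← IsIso.hom_inv_id (0 : X ⟶ Y), zero_comp]

lemma crit_of_subsingleton (f : A) (M : Type*) [AddCommGroup M] [Module A M] [Subsingleton M] :
    Crit f M :=
  ⟨fun _ _ _ => Subsingleton.elim _ _, fun _ => ⟨0, fun _ => Subsingleton.elim _ _⟩⟩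

lemma isUniv_toDerivedCompletion [DRing.HasDerivedCompletion I] (K : Dual.D A) :
    IsUniv (DRing.IsDerivedComplete I) (DRing.toDerivedCompletion I K) := by
  intro E hE
  let E' : DRing.DComp I := ⟨E, hE⟩
  constructor
  · intro ψ ψ' h
    have h1 : (DRing.derivedCompletionAdj I).homEquiv K E' (ObjectProperty.homMk ψ) =
        (DRing.derivedCompletionAdj I).homEquiv K E' (ObjectProperty.homMk ψ') := by
      rw [Adjunction.homEquiv_unit, Adjunction.homEquiv_unit]
      exact h
    have h2 := ((DRing.derivedCompletionAdj I).homEquiv K E').injective h1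
    exact congrArg (fun x => x.hom) h2
  · intro φ
    refine ⟨(((DRing.derivedCompletionAdj I).homEquiv K E').symm φ).hom, ?_⟩
    have h1 := ((DRing.derivedCompletionAdj I).homEquiv K E').apply_symm_apply φ
    rw [Adjunction.homEquiv_unit] at h1
    exact h1

lemma toDerivedCompletion_naturality [DRing.HasDerivedCompletion I] {K L : Dual.D A}
    (φ : K ⟶ L) :
    φ ≫ DRing.toDerivedCompletion I L =
      DRing.toDerivedCompletion I K ≫ ((DRing.derivedCompletion I).map φ).hom :=
  (DRing.derivedCompletionAdj I).unit.naturality φ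

/-- derived completion preserves `D^{≤ m - 1}`. -/
theorem isZero_homology_of_univ_le {Z Z' : Dual.D A} (ζ : Z ⟶ Z')
    (hζ : IsUniv (DRing.IsDerivedComplete I) ζ) (hZ' : DRing.IsDerivedComplete I Z') (m : ℤ)
    (hZ : ∀ i : ℤ, m ≤ i → IsZero ((homologyFunctor (ModuleCat.{u} A) i).obj Z)) :
    ∀ i : ℤ, m ≤ i → IsZero ((homologyFunctor (ModuleCat.{u} A) i).obj Z') := by
  let tt : Triangulated.TStructure (Dual.D A) := DerivedCategory.TStructure.t
  let W : Dual.D A := (tt.truncGE m).obj Z'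
  let t : Z' ⟶ W := (tt.truncGEπ m).app Z'
  have hW : DRing.IsDerivedComplete I W := by
    rw [isDerivedComplete_iff_forall_crit] at hZ' ⊢
    intro f hf i
    by_cases hi : m ≤ i
    · exact (hZ' f hf i).of_linearEquiv (hGE m i hi Z').toLinearEquiv
    · have hz : IsZero ((homologyFunctor (ModuleCat.{u} A) i).obj W) :=
        DerivedCategory.isZero_of_isGE W m i (by omega)
      have : Subsingleton (Dual.HD A W i) := ModuleCat.subsingleton_of_isZero hz
      exact crit_of_subsingleton f _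
  have hZle : tt.IsLE Z (m - 1) := by
    have : Z.IsLE (m - 1) := by
      rw [DerivedCategory.isLE_iff]
      intro i hi
      exact hZ i (by omega)
    exact this
  have hWge : tt.IsGE W m := by
    dsimp only [W]
    infer_instance
  have h0 : ζ ≫ t = 0 := tt.zero_of_isLE_of_isGE _ (m - 1) m (by omega) hZle hWge
  have ht : t = 0 := by
    apply (hζ W hW).1
    dsimp only
    rw [h0, comp_zero]
  intro i hi
  have hiso := Groth.Agent.S14388.isIso_homology_truncGEπ m i hi Z'
  have h1 : (homologyFunctor (ModuleCat.{u} A) i).map ((tt.truncGEπ m).app Z') = 0 := by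
    show (homologyFunctor (ModuleCat.{u} A) i).map t = 0
    rw [ht, Functor.map_zero]
  exact isZero_of_isIso_of_eq_zero _ h1

end DC

section AmpGE

/-- one step of derived completion, with control of the amplitude. -/
theorem exists_cpl_step_amp (f : A) (K : Dual.D A) (n : ℤ)
    (hK : ∀ i : ℤ, i < n → IsZero ((homologyFunctor (ModuleCat.{u} A) i).obj K)) :
    ∃ (Kf : Dual.D A) (η : K ⟶ Kf), IsCpl f Kf ∧ (∀ Y : Dual.D A, Orth Y K → Orth Y Kf) ∧
      (∀ E : Dual.D A, IsCpl f E → Function.Bijective (fun ψ : Kf ⟶ E => η ≫ ψ)) ∧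
      ∀ i : ℤ, i < n - 1 → IsZero ((homologyFunctor (ModuleCat.{u} A) i).obj Kf) := by
  let K' : DRing.Cx A := Q.objPreimage K
  let e : Q.obj K' ≅ K := Q.objObjPreimageIso K
  have hP := IsPow.of_iso (isPow_Q_piCx K') e
  obtain ⟨Cc, a, b, hT1⟩ := distinguished_cocone_triangle (hP.D f)
  obtain ⟨Kf, η, ε, hT2⟩ := distinguished_cocone_triangle₂
    (b ≫ ((fun n => Q.map (piCxπ K' n) ≫ e.hom) 0)⟦(1 : ℤ)⟧')
  let d : CplData f K := ⟨_, _, hP, Cc, a, b, hT1, Kf, η, ε, hT2⟩
  refine ⟨Kf, η, d.isCpl_Kf, fun Y h => d.orth_Kf h, fun E hE => d.bijective_comp_η hE, ?_⟩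
  -- amplitude
  have hK' : ∀ i : ℤ, i < n → Subsingleton (K'.homology i) := by
    intro i hi
    apply ModuleCat.subsingleton_of_isZero
    exact (hK i hi).of_iso (((homologyFunctorFactors (ModuleCat.{u} A) i).app K').symm ≪≫
      (homologyFunctor (ModuleCat.{u} A) i).mapIso e)
  have hPz : ∀ i : ℤ, i < n →
      IsZero ((homologyFunctor (ModuleCat.{u} A) i).obj (Q.obj (piCx K'))) := by
    intro i hi
    have := hK' i hi
    have h1 : Subsingleton ((piCx K').homology i) := (Φ_injective K' i).subsingleton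
    have hz : IsZero ((piCx K').homology i) := ModuleCat.isZero_of_subsingleton _
    exact hz.of_iso ((homologyFunctorFactors (ModuleCat.{u} A) i).app (piCx K'))
  have hCz : ∀ i : ℤ, i < n - 1 → IsZero ((homologyFunctor (ModuleCat.{u} A) i).obj Cc) := by
    intro i hi
    exact isZero_homology_obj₃ _ hT1 i (i + 1) rfl (hPz i (by omega)) (hPz (i + 1) (by omega))
  intro i hi
  exact isZero_homology_obj₂ _ hT2 i (hK i (by omega)) (hCz i hi)

/-- derived completion with respect to a finite list of elements, with control of the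
amplitude. -/
theorem exists_cpl_list_amp (l : List A) (K : Dual.D A) (n : ℤ)
    (hK : ∀ i : ℤ, i < n → IsZero ((homologyFunctor (ModuleCat.{u} A) i).obj K)) :
    ∃ (K' : Dual.D A) (η : K ⟶ K'), (∀ g ∈ l, IsCpl g K') ∧
      (∀ E : Dual.D A, (∀ g ∈ l, IsCpl g E) → Function.Bijective (fun ψ : K' ⟶ E => η ≫ ψ)) ∧
      ∀ i : ℤ, i < n - (l.length : ℤ) →
        IsZero ((homologyFunctor (ModuleCat.{u} A) i).obj K') := by
  induction l with
  | nil =>
    refine ⟨K, 𝟙 K, by simp, fun E _ => ?_, fun i hi => hK i (by simpa using hi)⟩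
    simp only [Category.id_comp]
    exact Function.bijective_id
  | cons g l ih =>
    obtain ⟨K₁, η₁, h₁, u₁, z₁⟩ := ih
    obtain ⟨K₂, η₂, h₂, o₂, u₂, z₂⟩ := exists_cpl_step_amp g K₁ (n - (l.length : ℤ)) z₁
    refine ⟨K₂, η₁ ≫ η₂, ?_, ?_, ?_⟩
    · intro g' hg'
      rcases List.mem_cons.1 hg' with rfl | hg'
      · exact h₂
      · exact (isCpl_iff_orth g' K₂).2 (o₂ _ ((isCpl_iff_orth g' K₁).1 (h₁ g' hg')))
    · intro E hE
      have b₂ := u₂ E (hE g (List.mem_cons_self))
      have b₁ := u₁ E (fun g' hg' => hE g' (List.mem_cons_of_mem _ hg'))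
      have : (fun ψ : K₂ ⟶ E => (η₁ ≫ η₂) ≫ ψ) =
          (fun ψ : K₁ ⟶ E => η₁ ≫ ψ) ∘ (fun ψ : K₂ ⟶ E => η₂ ≫ ψ) := by
        funext ψ
        simp
      rw [this]
      exact b₁.comp b₂
    · intro i hi
      apply z₂
      simp only [List.length_cons, Nat.cast_add, Nat.cast_one] at hi
      omega

/-- derived completion with respect to the ideal generated by a finite set `s` sends
`D^{≥ n}` to `D^{≥ n - |s|}`. -/
theorem exists_completion_amp (s : Finset A) (K : Dual.D A) (n : ℤ)
    (hK : ∀ i : ℤ, i < n → IsZero ((homologyFunctor (ModuleCat.{u} A) i).obj K)) :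
    ∃ (K' : Dual.D A) (η : K ⟶ K'), DRing.IsDerivedComplete (Ideal.span (s : Set A)) K' ∧
      IsUniv (DRing.IsDerivedComplete (Ideal.span (s : Set A))) η ∧
      ∀ i : ℤ, i < n - (s.card : ℤ) →
        IsZero ((homologyFunctor (ModuleCat.{u} A) i).obj K') := by
  obtain ⟨K', η, h, u, z⟩ := exists_cpl_list_amp s.toList K n hK
  refine ⟨K', η, ?_, ?_, ?_⟩
  · apply isDerivedComplete_of_generators
    intro g hg
    exact h g (Finset.mem_toList.2 hg)
  · intro E hE
    apply u
    intro g hg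
    exact (isDerivedComplete_iff_isCpl _ E).1 hE g (Ideal.subset_span (Finset.mem_toList.1 hg))
  · intro i hi
    apply z
    rw [Finset.length_toList]
    exact hi

end AmpGE

section Maps

variable (I : Ideal A) [DRing.HasDerivedCompletion I]

/-- the cone of `φ^` is the completion of the cone of `φ`. -/
theorem exists_cone_completion {K L : Dual.D A} (φ : K ⟶ L) :
    ∃ (Z Z' : Dual.D A) (a : L ⟶ Z) (b : Z ⟶ K⟦(1 : ℤ)⟧)
      (α : ((DRing.derivedCompletion I).obj L).obj ⟶ Z')
      (β : Z' ⟶ (((DRing.derivedCompletion I).obj K).obj)⟦(1 : ℤ)⟧) (ζ : Z ⟶ Z'),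
      Triangle.mk φ a b ∈ distTriang (Dual.D A) ∧
      Triangle.mk ((DRing.derivedCompletion I).map φ).hom α β ∈ distTriang (Dual.D A) ∧
      DRing.IsDerivedComplete I Z' ∧ IsUniv (DRing.IsDerivedComplete I) ζ := by
  obtain ⟨Z, a, b, hT⟩ := distinguished_cocone_triangle φ
  obtain ⟨Z', α, β, hT'⟩ := distinguished_cocone_triangle ((DRing.derivedCompletion I).map φ).hom
  have hm1 : ∀ E, DRing.IsDerivedComplete I E → DRing.IsDerivedComplete I (E⟦(-1 : ℤ)⟧) :=
    fun E hE => isDerivedComplete_shift I hE (-1)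
  obtain ⟨ζ, -, -, hζ⟩ := exists_univ_cone φ a b hT _ α β hT'
    (DRing.toDerivedCompletion I K) (DRing.toDerivedCompletion I L)
    (toDerivedCompletion_naturality I φ) (isUniv_toDerivedCompletion I K)
    (isUniv_toDerivedCompletion I L) ((isUniv_toDerivedCompletion I K).shift_one hm1)
    ((isUniv_toDerivedCompletion I L).shift_one hm1)
  refine ⟨Z, Z', a, b, α, β, ζ, hT, hT', ?_, hζ⟩
  exact isDerivedComplete_obj₃ I _ hT' ((DRing.derivedCompletion I).obj K).property
    ((DRing.derivedCompletion I).obj L).property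

theorem map_completion_le {K L : Dual.D A} (φ : K ⟶ L)
    (hiso : ∀ i : ℤ, 1 ≤ i → IsIso ((homologyFunctor (ModuleCat.{u} A) i).map φ))
    (hepi : Epi ((homologyFunctor (ModuleCat.{u} A) 0).map φ)) :
    (∀ i : ℤ, 1 ≤ i → IsIso ((homologyFunctor (ModuleCat.{u} A) i).map
        ((DRing.derivedCompletion I).map φ).hom)) ∧
      Epi ((homologyFunctor (ModuleCat.{u} A) 0).map ((DRing.derivedCompletion I).map φ).hom) := by
  obtain ⟨Z, Z', a, b, α, β, ζ, hT, hT', hZ', hζ⟩ := exists_cone_completion I φ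
  have hZ : ∀ i : ℤ, 0 ≤ i → IsZero ((homologyFunctor (ModuleCat.{u} A) i).obj Z) := by
    intro i hi
    refine (isZero_homology_obj₃_iff _ hT i (i + 1) rfl).2 ⟨?_, ?_⟩
    · show Epi ((homologyFunctor (ModuleCat.{u} A) i).map φ)
      rcases hi.eq_or_lt with rfl | hi'
      · exact hepi
      · have := hiso i (by omega)
        infer_instance
    · show Mono ((homologyFunctor (ModuleCat.{u} A) (i + 1)).map φ)
      have := hiso (i + 1) (by omega)
      infer_instance
  have hZ'z := isZero_homology_of_univ_le I ζ hζ hZ' 0 hZ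
  have key : ∀ i : ℤ, 0 ≤ i → Epi ((homologyFunctor (ModuleCat.{u} A) i).map
        ((DRing.derivedCompletion I).map φ).hom) ∧
      Mono ((homologyFunctor (ModuleCat.{u} A) (i + 1)).map
        ((DRing.derivedCompletion I).map φ).hom) :=
    fun i hi => (isZero_homology_obj₃_iff _ hT' i (i + 1) rfl).1 (hZ'z i hi)
  refine ⟨fun i hi => ?_, (key 0 le_rfl).1⟩
  have h1 := (key i (by omega)).1
  have h2 := (key (i - 1) (by omega)).2
  rw [sub_add_cancel] at h2
  exact isIso_of_mono_of_epi _

theorem map_completion_ge (s : Finset A) (hs : Ideal.span (s : Set A) = I)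
    {K L : Dual.D A} (φ : K ⟶ L)
    (hiso : ∀ i : ℤ, i ≤ -1 → IsIso ((homologyFunctor (ModuleCat.{u} A) i).map φ))
    (hmono : Mono ((homologyFunctor (ModuleCat.{u} A) 0).map φ)) :
    (∀ i : ℤ, i ≤ -(s.card : ℤ) - 1 → IsIso ((homologyFunctor (ModuleCat.{u} A) i).map
        ((DRing.derivedCompletion I).map φ).hom)) ∧
      Mono ((homologyFunctor (ModuleCat.{u} A) (-(s.card : ℤ))).map
        ((DRing.derivedCompletion I).map φ).hom) := by
  subst hs
  obtain ⟨Z, Z', a, b, α, β, ζ, hT, hT', hZ', hζ⟩ := exists_cone_completion (Ideal.span (s : Set A)) φ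
  have hZ : ∀ i : ℤ, i < 0 → IsZero ((homologyFunctor (ModuleCat.{u} A) i).obj Z) := by
    intro i hi
    refine (isZero_homology_obj₃_iff _ hT i (i + 1) rfl).2 ⟨?_, ?_⟩
    · show Epi ((homologyFunctor (ModuleCat.{u} A) i).map φ)
      have := hiso i (by omega)
      infer_instance
    · show Mono ((homologyFunctor (ModuleCat.{u} A) (i + 1)).map φ)
      rcases (show i + 1 ≤ 0 by omega).eq_or_lt with h0 | h0
      · rw [h0]
        exact hmono
      · have := hiso (i + 1) (by omega)
        infer_instance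
  obtain ⟨Zc, ηc, hZc, hηc, zc⟩ := exists_completion_amp s Z 0 hZ
  obtain ⟨e, -⟩ := hζ.exists_iso hηc hZ' hZc
  have hZ'z : ∀ i : ℤ, i < -(s.card : ℤ) →
      IsZero ((homologyFunctor (ModuleCat.{u} A) i).obj Z') := by
    intro i hi
    exact (zc i (by omega)).of_iso ((homologyFunctor (ModuleCat.{u} A) i).mapIso e)
  have key : ∀ i : ℤ, i < -(s.card : ℤ) → Epi ((homologyFunctor (ModuleCat.{u} A) i).map
        ((DRing.derivedCompletion (Ideal.span (s : Set A))).map φ).hom) ∧
      Mono ((homologyFunctor (ModuleCat.{u} A) (i + 1)).map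
        ((DRing.derivedCompletion (Ideal.span (s : Set A))).map φ).hom) :=
    fun i hi => (isZero_homology_obj₃_iff _ hT' i (i + 1) rfl).1 (hZ'z i hi)
  refine ⟨fun i hi => ?_, ?_⟩
  · have h1 := (key i (by omega)).1
    have h2 := (key (i - 1) (by omega)).2
    rw [sub_add_cancel] at h2
    exact isIso_of_mono_of_epi _
  · have h2 := (key (-(s.card : ℤ) - 1) (by omega)).2
    rw [sub_add_cancel] at h2
    exact h2

end Maps

end Groth.Agent.R2.H31.Amp
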