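import Mathlib
import Groth.Agent.Lib.Helper1TorM
import Groth.Agent.Lib.Helper1TorD
import Groth.Agent.R2.H31Amp

/-!
# Dévissage over iterated cones (helper31)

For a termwise flat complex `R`, exactness of `N ⊗ R` for the modules `N` on which the elements of
a list `l` act nilpotently implies exactness of the iterated cone `kos l R` of the elements of `l`.
-/

set_option autoImplicit false
universe u
open CategoryTheory Limits Pretriangulated DerivedCategory HomologicalComplex
attribute [local instance] HasDerivedCategory.standard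

namespace Groth.Agent.R2.H31.Dev

open Groth.Agent.Lib.Helper1.Tor Groth.Agent.Lib.Helper1.TorM
open Groth.Agent.R2.H31.Amp

variable {A : Type u} [CommRing A]

omit [CommRing A] in
lemma epi_iff_of_eq {C : Type*} [Category C] {X Y X' Y' : C} (a : X ≅ X') (b : Y ≅ Y')
    (f : X ⟶ Y) (g : X' ⟶ Y') (h : f = a.hom ≫ g ≫ b.inv) : Epi f ↔ Epi g := by
  have h' : g = a.inv ≫ f ≫ b.hom := by
    rw [h]
    simp
  constructor
  · intro _
    rw [h']
    infer_instance
  · intro _
    rw [h]
    infer_instance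

omit [CommRing A] in
lemma mono_iff_of_eq {C : Type*} [Category C] {X Y X' Y' : C} (a : X ≅ X') (b : Y ≅ Y')
    (f : X ⟶ Y) (g : X' ⟶ Y') (h : f = a.hom ≫ g ≫ b.inv) : Mono f ↔ Mono g := by
  have h' : g = a.inv ≫ f ≫ b.hom := by
    rw [h]
    simp
  constructor
  · intro _
    rw [h']
    infer_instance
  · intro _
    rw [h]
    infer_instance

/-- the comparison of homology in `D(A)` and of complexes -/
noncomputable def hIso (K : DRing.Cx A) (n : ℤ) :
    (DerivedCategory.homologyFunctor (ModuleCat.{u} A) n).obj (Q.obj K) ≅ K.homology n :=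
  (homologyFunctorFactors (ModuleCat.{u} A) n).app K

lemma hIso_naturality {K L : DRing.Cx A} (φ : K ⟶ L) (n : ℤ) :
    (DerivedCategory.homologyFunctor (ModuleCat.{u} A) n).map (Q.map φ) =
      (hIso K n).hom ≫ homologyMap φ n ≫ (hIso L n).inv := by
  have h2 : (DerivedCategory.homologyFunctor (ModuleCat.{u} A) n).map (Q.map φ) ≫
      (hIso L n).hom = (hIso K n).hom ≫ homologyMap φ n :=
    (homologyFunctorFactors (ModuleCat.{u} A) n).hom.naturality φ
  exact ((Iso.eq_comp_inv _).2 h2).trans (Category.assoc _ _ _)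

/-- vanishing of the homology of a mapping cone -/
lemma isZero_homology_mappingCone_iff {K L : DRing.Cx A} (φ : K ⟶ L) (i j : ℤ) (hij : i + 1 = j) :
    IsZero ((CochainComplex.mappingCone φ).homology i) ↔
      Epi (homologyMap φ i) ∧ Mono (homologyMap φ j) := by
  have hT := DerivedCategory.mappingCone_triangle_distinguished φ
  have h := isZero_homology_obj₃_iff _ hT i j hij
  rw [← epi_iff_of_eq _ _ _ _ (hIso_naturality φ i), ← mono_iff_of_eq _ _ _ _ (hIso_naturality φ j)]
  exact ⟨fun hz => h.1 (hz.of_iso (hIso _ i)), fun hc => (h.2 hc).of_iso (hIso _ i).symm⟩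

lemma TC_map_smul (N : ModuleCat.{u} A) (R : DRing.Cx A) (f : A) :
    (TC N).map (f • 𝟙 R) = f • 𝟙 ((TC N).obj R) := by
  ext n : 1
  dsimp
  simp

lemma TCmap_smul (N : ModuleCat.{u} A) (R : DRing.Cx A) (f : A) :
    (TCmap (f • 𝟙 N)).app R = f • 𝟙 ((TC N).obj R) := by
  ext n : 1
  rw [TCmap_app_f]
  dsimp
  simp
  rfl

lemma TCmap_comp {N N' N'' : ModuleCat.{u} A} (p : N ⟶ N') (j : N' ⟶ N'') (R : DRing.Cx A) :
    (TCmap (p ≫ j)).app R = (TCmap p).app R ≫ (TCmap j).app R := by
  ext n : 1
  rw [HomologicalComplex.comp_f, TCmap_app_f, TCmap_app_f, TCmap_app_f]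
  exact MonoidalCategory.comp_whiskerRight p j (R.X n)

/-- exactness above `n₀` -/
def ExAbove (Z : DRing.Cx A) (n₀ : ℤ) : Prop := ∀ i : ℤ, n₀ < i → Z.ExactAt i

lemma ExAbove.of_iso {Z Z' : DRing.Cx A} {n₀ : ℤ} (h : ExAbove Z n₀) (e : Z ≅ Z') :
    ExAbove Z' n₀ := fun i hi => (h i hi).of_iso e

/-- the one-step lemma of the dévissage -/
theorem step (R : DRing.Cx A) (hR : DRing.TermwiseFlat R) (f : A) (n₀ : ℤ)
    {K' N Im C' : ModuleCat.{u} A} (i : K' ⟶ N) (p : N ⟶ Im) (j : Im ⟶ N) (q : N ⟶ C')
    (w₁ : i ≫ p = 0) (w₂ : j ≫ q = 0) (h₁ : (ShortComplex.mk i p w₁).ShortExact)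
    (h₂ : (ShortComplex.mk j q w₂).ShortExact) (hf : p ≫ j = f • 𝟙 N)
    (hK : ExAbove ((TC K').obj R) n₀) (hC : ExAbove ((TC C').obj R) n₀) :
    ExAbove ((TC N).obj (CochainComplex.mappingCone (f • 𝟙 R))) n₀ := by
  intro k hk
  have hTa := TCshort_shortExact _ h₁ R hR
  have hTb := TCshort_shortExact _ h₂ R hR
  have zK : ∀ n : ℤ, n₀ < n → IsZero (((TC K').obj R).homology n) := fun n hn =>
    (HomologicalComplex.exactAt_iff_isZero_homology _ _).1 (hK n hn)
  have zC : ∀ n : ℤ, n₀ < n → IsZero (((TC C').obj R).homology n) := fun n hn =>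
    (HomologicalComplex.exactAt_iff_isZero_homology _ _).1 (hC n hn)
  -- `α`
  have hαm : ∀ n : ℤ, n₀ < n → Mono (homologyMap ((TCmap p).app R) n) := fun n hn =>
    (hTa.homology_exact₂ n).mono_g ((zK n hn).eq_of_src _ _)
  have hαe : ∀ n : ℤ, n₀ < n → Epi (homologyMap ((TCmap p).app R) n) := fun n hn =>
    (hTa.homology_exact₃ n (n + 1) rfl).epi_f ((zK (n + 1) (by omega)).eq_of_tgt _ _)
  -- `β`
  have hβe : ∀ n : ℤ, n₀ < n → Epi (homologyMap ((TCmap j).app R) n) := fun n hn =>
    (hTb.homology_exact₂ n).epi_f ((zC n hn).eq_of_tgt _ _)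
  have hβm : ∀ n : ℤ, n₀ + 1 < n → Mono (homologyMap ((TCmap j).app R) n) := fun n hn =>
    (hTb.homology_exact₁ (n - 1) n (by simp)).mono_g ((zC (n - 1) (by omega)).eq_of_src _ _)
  have hcomp : ∀ n : ℤ, homologyMap (f • 𝟙 ((TC N).obj R)) n =
      homologyMap ((TCmap p).app R) n ≫ homologyMap ((TCmap j).app R) n := by
    intro n
    rw [← homologyMap_comp, ← TCmap_comp, hf, TCmap_smul]
  have hE : Epi (homologyMap (f • 𝟙 ((TC N).obj R)) k) := by
    rw [hcomp]
    have := hαe k hk
    have := hβe k hk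
    infer_instance
  have hM : Mono (homologyMap (f • 𝟙 ((TC N).obj R)) (k + 1)) := by
    rw [hcomp]
    have := hαm (k + 1) (by omega)
    have := hβm (k + 1) (by omega)
    infer_instance
  have hz := (isZero_homology_mappingCone_iff (f • 𝟙 ((TC N).obj R)) k (k + 1) rfl).2 ⟨hE, hM⟩
  have e : (TC N).obj (CochainComplex.mappingCone (f • 𝟙 R)) ≅
      CochainComplex.mappingCone (f • 𝟙 ((TC N).obj R)) := by
    have e0 := CochainComplex.mappingCone.mapHomologicalComplexIso (f • 𝟙 R) (T N)
    rw [show ((T N).mapHomologicalComplex (ComplexShape.up ℤ)).map (f • 𝟙 R) =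
      f • 𝟙 ((TC N).obj R) from TC_map_smul N R f] at e0
    exact e0
  rw [HomologicalComplex.exactAt_iff_isZero_homology]
  exact hz.of_iso ((HomologicalComplex.homologyFunctor _ _ k).mapIso e)

/-- iterated cones of the elements of a list -/
noncomputable def kos : List A → DRing.Cx A → DRing.Cx A
  | [], X => X
  | f :: l, X => CochainComplex.mappingCone (f • 𝟙 (kos l X))

lemma kos_cons (f : A) (l : List A) (X : DRing.Cx A) :
    kos (f :: l) X = CochainComplex.mappingCone (f • 𝟙 (kos l X)) := rfl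

lemma termwiseFlat_kos (l : List A) (X : DRing.Cx A) (hX : DRing.TermwiseFlat X) :
    DRing.TermwiseFlat (kos l X) := by
  induction l with
  | nil => exact hX
  | cons f l ih => exact termwiseFlat_mappingCone _ ih ih

/-- the elements of `l` act nilpotently on `N` -/
def Nil (l : List A) (N : ModuleCat.{u} A) : Prop := ∀ g ∈ l, ∃ k : ℕ, ∀ x : N, g ^ k • x = 0

/-- dévissage over the iterated cones -/
theorem dev (n₀ : ℤ) : ∀ (l l₀ : List A) (R : DRing.Cx A), DRing.TermwiseFlat R →
    (∀ N : ModuleCat.{u} A, Nil (l₀ ++ l) N → ExAbove ((TC N).obj R) n₀) →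
    ∀ N : ModuleCat.{u} A, Nil l₀ N → ExAbove ((TC N).obj (kos l R)) n₀ := by
  intro l
  induction l with
  | nil =>
    intro l₀ R _ h N hN
    exact h N (by rwa [List.append_nil])
  | cons f l ih =>
    intro l₀ R hR h N hN
    have ih' := ih (f :: l₀) R hR (fun N' hN' => h N' (fun g hg => hN' g (by
      simp only [List.mem_append, List.mem_cons] at hg ⊢
      tauto)))
    let μ : N →ₗ[A] N := LinearMap.lsmul A N f
    let K' : Submodule A N := LinearMap.ker μ.rangeRestrict
    let Im : Submodule A N := LinearMap.range μ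
    have hK' : Nil (f :: l₀) (ModuleCat.of A K') := by
      intro g hg
      rcases List.mem_cons.1 hg with rfl | hg
      · refine ⟨1, fun x => ?_⟩
        have hx : μ.rangeRestrict x.1 = 0 := x.2
        have hx' : (g • x.1 : N) = 0 := congrArg Subtype.val hx
        apply Subtype.ext
        rw [pow_one]
        exact hx'
      · obtain ⟨k, hk⟩ := hN g hg
        exact ⟨k, fun x => Subtype.ext (hk x.1)⟩
    have hC' : Nil (f :: l₀) (ModuleCat.of A (N ⧸ Im)) := by
      intro g hg
      rcases List.mem_cons.1 hg with rfl | hg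
      · refine ⟨1, fun x => ?_⟩
        induction x using Submodule.Quotient.induction_on with
        | _ y =>
          rw [pow_one, ← Submodule.Quotient.mk_smul, Submodule.Quotient.mk_eq_zero]
          exact ⟨y, rfl⟩
      · obtain ⟨k, hk⟩ := hN g hg
        refine ⟨k, fun x => ?_⟩
        induction x using Submodule.Quotient.induction_on with
        | _ y => rw [← Submodule.Quotient.mk_smul, hk y, Submodule.Quotient.mk_zero]
    have w₁ : ModuleCat.ofHom K'.subtype ≫ ModuleCat.ofHom μ.rangeRestrict = 0 := by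
      apply ModuleCat.hom_ext
      apply LinearMap.ext
      intro x
      exact x.2
    have w₂ : ModuleCat.ofHom Im.subtype ≫ ModuleCat.ofHom Im.mkQ = 0 := by
      apply ModuleCat.hom_ext
      apply LinearMap.ext
      intro x
      show Im.mkQ x.1 = 0
      rw [Submodule.mkQ_apply, Submodule.Quotient.mk_eq_zero]
      exact x.2
    have h₁ : (ShortComplex.mk _ _ w₁).ShortExact :=
      { exact := by
          rw [ShortComplex.ShortExact.moduleCat_exact_iff_function_exact]
          exact LinearMap.exact_subtype_ker_map μ.rangeRestrict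
        mono_f := (ModuleCat.mono_iff_injective _).2 K'.subtype_injective
        epi_g := (ModuleCat.epi_iff_surjective _).2 μ.surjective_rangeRestrict }
    have h₂ : (ShortComplex.mk _ _ w₂).ShortExact :=
      { exact := by
          rw [ShortComplex.ShortExact.moduleCat_exact_iff_function_exact]
          exact LinearMap.exact_subtype_mkQ Im
        mono_f := (ModuleCat.mono_iff_injective _).2 Im.subtype_injective
        epi_g := (ModuleCat.epi_iff_surjective _).2 Im.mkQ_surjective }
    have hf : ModuleCat.ofHom μ.rangeRestrict ≫ ModuleCat.ofHom Im.subtype = f • 𝟙 N := by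
      apply ModuleCat.hom_ext
      apply LinearMap.ext
      intro x
      rfl
    exact step (kos l R) (termwiseFlat_kos l R hR) f n₀ _ _ _ _ w₁ w₂ h₁ h₂ hf
      (ih' _ hK') (ih' _ hC')

end Groth.Agent.R2.H31.Dev
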