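import Mathlib
import Groth.Agent.Lib.Helper1DT2
import Groth.Agent.Lib.Helper1TorN
import Groth.Agent.Lib.Helper1LT
import Groth.Agent.R2.H31Dev

/-!
# Derived Nakayama for complexes (helper31)

`exAbove_kos`: if `P` is K-projective with flat terms and `P ⊗ A/I` is exact above `n₀`, the
iterated cone `kos l P` on generators of `I` is exact above `n₀`.
`nak`: a derived complete object whose iterated cone vanishes is zero.
-/

set_option autoImplicit false
universe u
open CategoryTheory Limits Pretriangulated DerivedCategory HomologicalComplex MonoidalCategory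
attribute [local instance] HasDerivedCategory.standard

namespace Groth.Agent.R2.H31.Nak

open Groth.Agent.Lib.Helper1.Tor Groth.Agent.Lib.Helper1.TorM Groth.Agent.Lib.Helper1.TorN
open Groth.Agent.R2.H31.Amp Groth.Agent.R2.H31.Dev Groth.Agent.R2.H31.Tri

variable {A : Type u} [CommRing A]

/-- nilpotent action of generators gives annihilation by a power of the ideal -/
lemma exists_pow_le_annihilator (N : ModuleCat.{u} A) : ∀ l : List A, Nil l N →
    ∃ k : ℕ, (Ideal.span {x | x ∈ l}) ^ k ≤ Module.annihilator A N := by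
  intro l
  induction l with
  | nil =>
    intro _
    refine ⟨1, ?_⟩
    simp
  | cons g l ih =>
    intro h
    obtain ⟨k₂, hk₂⟩ := ih (fun x hx => h x (List.mem_cons_of_mem _ hx))
    obtain ⟨k₁, hk₁⟩ := h g (List.mem_cons_self)
    refine ⟨k₁ + k₂, ?_⟩
    have hs : Ideal.span {x | x ∈ g :: l} = Ideal.span {g} ⊔ Ideal.span {x | x ∈ l} := by
      rw [← Ideal.span_union]
      congr 1
      ext x
      simp
    rw [hs]
    refine Ideal.sup_pow_add_le_pow_sup_pow.trans (sup_le ?_ hk₂)
    rw [Ideal.span_singleton_pow, Ideal.span_le]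
    intro x hx
    rw [Set.mem_singleton_iff] at hx
    subst hx
    exact Module.mem_annihilator.2 hk₁

/-- `A ⊗ X ≅ X` for complexes -/
noncomputable def unitTC (X : DRing.Cx A) : (TC (ModuleCat.of A A)).obj X ≅ X :=
  HomologicalComplex.Hom.isoOfComponents (fun n => λ_ (X.X n)) (fun i j _ =>
    (MonoidalCategory.leftUnitor_naturality (X.d i j)).symm)

lemma termwiseFlat_of_projective (P : DRing.Cx A) (hP : ∀ n, Projective (P.X n)) :
    DRing.TermwiseFlat P := by
  intro n
  have : Module.Projective A (P.X n) := by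
    have := hP n
    exact (IsProjective.iff_projective (R := A) (P := P.X n)).2 this
  infer_instance

/-- the iterated cone on generators of `I` is exact above `n₀` if `P ⊗ A/I` is. -/
theorem exAbove_kos (I : Ideal A) (l : List A) (hl : Ideal.span {x | x ∈ l} = I)
    (P : DRing.Cx A) [P.IsKProjective] (hPf : DRing.TermwiseFlat P) (n₀ : ℤ)
    (h : ExAbove ((TC (ModuleCat.of A (A ⧸ I))).obj P) n₀) : ExAbove (kos l P) n₀ := by
  have h1 : ∀ N : ModuleCat.{u} A, Nil ([] ++ l) N → ExAbove ((TC N).obj P) n₀ := by
    intro N hN i hi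
    obtain ⟨k, hk⟩ := exists_pow_le_annihilator N l (by simpa using hN)
    rw [hl] at hk
    exact exactAt_TC_of_pow_smul_eq_zero I P hPf n₀ h i hi k N
      (fun r hr x => Module.mem_annihilator.1 (hk hr) x)
  have h2 := dev n₀ l [] P hPf h1 (ModuleCat.of A A) (fun g hg => by simp at hg)
  exact h2.of_iso (unitTC _)

lemma isCpl_kos (g : A) (l : List A) (X : DRing.Cx A) (h : IsCpl g (Q.obj X)) :
    IsCpl g (Q.obj (kos l X)) := by
  induction l with
  | nil => exact h
  | cons f l ih =>
    have hT := DerivedCategory.mappingCone_triangle_distinguished (f • 𝟙 (kos l X))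
    exact IsCpl.obj₃ g _ hT ih ih

/-- derived Nakayama: a complete object whose iterated cone vanishes is zero. -/
theorem nak : ∀ (l : List A) (X : DRing.Cx A), (∀ f ∈ l, IsCpl f (Q.obj X)) →
    IsZero (Q.obj (kos l X)) → IsZero (Q.obj X)
  | [], _, _, h => h
  | f :: l, X, hc, h => by
    have hT := DerivedCategory.mappingCone_triangle_distinguished (f • 𝟙 (kos l X))
    have hiso : IsIso (Q.map (f • 𝟙 (kos l X))) := (Triangle.isZero₃_iff_isIso₁ _ hT).1 h
    rw [Functor.map_smul, CategoryTheory.Functor.map_id] at hiso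
    have hloc : IsLoc f (Q.obj (kos l X)) := hiso
    have hcpl := isCpl_kos f l X (hc f List.mem_cons_self)
    have h0 : 𝟙 (Q.obj (kos l X)) = 0 := hcpl _ hloc _
    exact nak l X (fun g hg => hc g (List.mem_cons_of_mem _ hg)) ((IsZero.iff_id_eq_zero _).2 h0)

/-- an object of `D(A)` represented by an acyclic complex is zero -/
lemma isZero_Q_of_exact (X : DRing.Cx A) (h : ∀ i : ℤ, X.ExactAt i) : IsZero (Q.obj X) := by
  rw [IsZero.iff_id_eq_zero]
  have : IsIso (Q.map (0 : X ⟶ X)) := by
    rw [DerivedCategory.isIso_Q_map_iff_quasiIso]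
    exact ⟨fun i => by
      rw [quasiIsoAt_iff_exactAt (0 : X ⟶ X) i (h i)]
      exact h i⟩
  rw [Functor.map_zero] at this
  exact (cancel_mono (0 : Q.obj X ⟶ Q.obj X)).1 (by simp)

lemma exactAt_of_isZero_Q (X : DRing.Cx A) (h : IsZero (Q.obj X)) (i : ℤ) : X.ExactAt i := by
  rw [HomologicalComplex.exactAt_iff_isZero_homology]
  exact ((DerivedCategory.homologyFunctor (ModuleCat.{u} A) i).map_isZero h).of_iso (hIso X i).symm

lemma subsingleton_HD_iff (K : Dual.D A) (P : DRing.Cx A) (e : Q.obj P ≅ K) (i : ℤ) :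
    Subsingleton (Dual.HD A K i) ↔ P.ExactAt i := by
  rw [HomologicalComplex.exactAt_iff_isZero_homology]
  have e' : (DerivedCategory.homologyFunctor (ModuleCat.{u} A) i).obj K ≅ P.homology i :=
    (DerivedCategory.homologyFunctor (ModuleCat.{u} A) i).mapIso e.symm ≪≫ hIso P i
  constructor
  · intro h
    exact (ModuleCat.isZero_of_subsingleton _).of_iso e'.symm
  · intro h
    exact ModuleCat.subsingleton_of_isZero (h.of_iso e')

open Groth.Agent.Lib.Helper10.DerComplete Groth.Agent.R2.H31.DComp in
/-- the cohomology modules of an `f`-complete object satisfy the elementwise criterion -/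
lemma crit_homology (f : A) (Y : DRing.Cx A) (h : IsCpl f (Q.obj Y)) (i : ℤ) :
    Crit f (Y.homology i) := by
  have hc := (orth_iff_crit f (Q.obj Y)).1 ((isCpl_iff_orth f (Q.obj Y)).1 h)
  exact (hc i).of_linearEquiv ((homologyFunctorFactors (ModuleCat.{u} A) i).app Y).toLinearEquiv

open Groth.Agent.Lib.Helper10.DerComplete in
/-- derived Nakayama with a bound: a complete object whose iterated cone is exact above `n₀` is
exact above `n₀`. -/
theorem nakLE (n₀ : ℤ) : ∀ (l : List A) (X : DRing.Cx A), (∀ f ∈ l, IsCpl f (Q.obj X)) →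
    ExAbove (kos l X) n₀ → ExAbove X n₀
  | [], _, _, h => h
  | f :: l, X, hc, h => by
    apply nakLE n₀ l X (fun g hg => hc g (List.mem_cons_of_mem _ hg))
    intro k hk
    have hz : IsZero ((CochainComplex.mappingCone (f • 𝟙 (kos l X))).homology k) :=
      (HomologicalComplex.exactAt_iff_isZero_homology _ _).1 (h k hk)
    have hE := ((isZero_homology_mappingCone_iff (f • 𝟙 (kos l X)) k (k + 1) rfl).1 hz).1
    rw [Groth.Agent.R2.H31.PiCx.homologyMap_smul, HomologicalComplex.homologyMap_id] at hE
    have hs : Function.Surjective fun x : ((kos l X).homology k : ModuleCat.{u} A) => f • x :=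
      (ModuleCat.epi_iff_surjective _).1 hE
    have hcr := crit_homology f (kos l X) (isCpl_kos f l X (hc f List.mem_cons_self)) k
    rw [HomologicalComplex.exactAt_iff_isZero_homology]
    have : Subsingleton ((kos l X).homology k : ModuleCat.{u} A) :=
      ⟨fun x y => by rw [hcr.eq_zero_of_surjective hs x, hcr.eq_zero_of_surjective hs y]⟩
    exact ModuleCat.isZero_of_subsingleton _

end Groth.Agent.R2.H31.Nak
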