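import Mathlib
import Groth.Agent.R2.H31Nak

/-!
# A criterion for orthogonality to derived complete objects (helper31)

If the iterated cone `kos l X` of a complex `X` is acyclic, then `Q X` is left orthogonal to all
objects which are complete for the elements of `l`.
-/

set_option autoImplicit false
universe u
open CategoryTheory Limits Pretriangulated DerivedCategory HomologicalComplex
attribute [local instance] HasDerivedCategory.standard

namespace Groth.Agent.R2.H31.CK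

open Groth.Agent.R2.H31.Amp Groth.Agent.R2.H31.Dev Groth.Agent.R2.H31.Tri Groth.Agent.R2.H31.Nak
  Groth.Agent.R2.H31.PiCx

variable {A : Type u} [CommRing A]

/-- maps into an `f`-complete object which are infinitely `f`-divisible (uniformly) vanish. -/
lemma eq_zero_of_div (f : A) (E : Dual.D A) (hE : IsCpl f E) (Y : Dual.D A)
    (hdiv : ∀ ψ : Y ⟶ E, ∃ ψ₁ : Y ⟶ E, ψ = f • ψ₁) (ψ : Y ⟶ E) : ψ = 0 := by
  let K' : DRing.Cx A := Q.objPreimage E
  let e : Q.obj K' ≅ E := Q.objObjPreimageIso E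
  have hcr : ∀ i, Groth.Agent.Lib.Helper10.DerComplete.Crit f (K'.homology i) :=
    crit_homology f K' (hE.of_iso f e.symm)
  have hD : IsIso ((isPow_Q_piCx K').D f) := by
    rw [← Q_map_piCxD]
    exact isIso_Q_map_piCxD K' f hcr
  have hdiv' : ∀ ψ : Y ⟶ Q.obj K', ∃ ψ₁ : Y ⟶ Q.obj K', ψ = f • ψ₁ := by
    intro ψ
    obtain ⟨ψ₁, h⟩ := hdiv (ψ ≫ e.hom)
    refine ⟨ψ₁ ≫ e.inv, ?_⟩
    rw [← Linear.smul_comp, ← h, Category.assoc, Iso.hom_inv_id, Category.comp_id]
  let g : ℕ → (Y ⟶ Q.obj K') := fun n => Nat.rec (ψ ≫ e.inv) (fun _ x => (hdiv' x).choose) n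
  have hg : ∀ n, g n = f • g (n + 1) := fun n => (hdiv' (g n)).choose_spec
  obtain ⟨Φ, hΦ⟩ := (isPow_Q_piCx K').lift_exists g
  have h0 : Φ ≫ (isPow_Q_piCx K').D f = 0 := by
    apply (isPow_Q_piCx K').hom_ext
    intro n
    rw [Category.assoc, (isPow_Q_piCx K').D_π, Preadditive.comp_sub, Linear.comp_smul, hΦ, hΦ,
      zero_comp, ← hg n, sub_self]
  have hΦ0 : Φ = 0 := by
    rw [← cancel_mono ((isPow_Q_piCx K').D f), h0, zero_comp]
  have : ψ ≫ e.inv = 0 := by
    have := hΦ 0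
    rw [hΦ0, zero_comp] at this
    exact this.symm
  rw [← cancel_mono e.inv, this, zero_comp]

lemma orth_shift_left {Y K : Dual.D A} (h : Orth Y K) (m : ℤ) : Orth (Y⟦m⟧) K := by
  intro n φ
  let a : (Y⟦m⟧)⟦-m⟧ ≅ Y := (shiftFunctorCompIsoId (Dual.D A) m (-m) (add_neg_cancel m)).app Y
  let b : (K⟦n⟧)⟦-m⟧ ≅ K⟦n + -m⟧ := ((shiftFunctorAdd' (Dual.D A) n (-m) (n + -m) rfl).app K).symm
  have h0 : a.inv ≫ φ⟦-m⟧' ≫ b.hom = 0 := h _ _
  have h1 : φ⟦-m⟧' = 0 := by
    rw [← cancel_epi a.inv, ← cancel_mono b.hom, Category.assoc, h0, comp_zero, zero_comp]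
  apply (shiftFunctor (Dual.D A) (-m)).map_injective
  rw [h1, Functor.map_zero]

/-- if the cone of `f` on `Y` is orthogonal to an `f`-complete `E`, so is `Y`. -/
lemma orth_of_cone (f : A) (E : Dual.D A) (hE : IsCpl f E) {Y C' : Dual.D A} (a : Y ⟶ C')
    (b : C' ⟶ Y⟦(1 : ℤ)⟧) (hT : Triangle.mk (f • 𝟙 Y) a b ∈ distTriang (Dual.D A))
    (h : Orth C' E) : Orth Y E := by
  intro n ψ
  refine eq_zero_of_div f (E⟦n⟧) (IsCpl.shift f hE n) Y (fun ψ => ?_) ψ
  have hT' := inv_rot_of_distTriang _ hT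
  have h0 : (Triangle.mk (f • 𝟙 Y) a b).invRotate.mor₁ ≫ ψ = 0 :=
    orth_shift_left h (-1) n _
  obtain ⟨g, hg⟩ : ∃ g : Y ⟶ E⟦n⟧, ψ = (f • 𝟙 Y) ≫ g := Triangle.yoneda_exact₂ _ hT' ψ h0
  refine ⟨g, ?_⟩
  rw [hg, Linear.smul_comp, Category.id_comp]

/-- orthogonality descends along iterated cones. -/
theorem orth_kos (E : Dual.D A) : ∀ (l : List A) (X : DRing.Cx A), (∀ f ∈ l, IsCpl f E) →
    Orth (Q.obj (kos l X)) E → Orth (Q.obj X) E
  | [], _, _, h => h
  | f :: l, X, hc, h => by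
    apply orth_kos E l X (fun g hg => hc g (List.mem_cons_of_mem _ hg))
    have hT := DerivedCategory.mappingCone_triangle_distinguished (f • 𝟙 (kos l X))
    have hT' : Triangle.mk (f • 𝟙 (Q.obj (kos l X)))
        (Q.mapTriangle.obj (CochainComplex.mappingCone.triangle (f • 𝟙 (kos l X)))).mor₂
        (Q.mapTriangle.obj (CochainComplex.mappingCone.triangle (f • 𝟙 (kos l X)))).mor₃ ∈
        distTriang (Dual.D A) := by
      have e : (Q.mapTriangle.obj (CochainComplex.mappingCone.triangle (f • 𝟙 (kos l X)))).mor₁ =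
          f • 𝟙 (Q.obj (kos l X)) := by
        show Q.map (f • 𝟙 (kos l X)) = _
        rw [Functor.map_smul, CategoryTheory.Functor.map_id]
      rw [← e]
      exact hT
    exact orth_of_cone f E (hc f List.mem_cons_self) _ _ hT' h

/-- acyclic iterated cone implies orthogonality to complete objects -/
theorem orth_of_kos_exact (E : Dual.D A) (l : List A) (X : DRing.Cx A)
    (hc : ∀ f ∈ l, IsCpl f E) (h : ∀ i : ℤ, (kos l X).ExactAt i) : Orth (Q.obj X) E :=
  orth_kos E l X hc (fun _ _ => (isZero_Q_of_exact _ h).eq_of_src _ _)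

/-- the first map of a distinguished triangle whose third object is left orthogonal to `E` induces
a bijection on maps to `E`. -/
lemma bijective_comp_of_orth_obj₃ (T : Triangle (Dual.D A)) (hT : T ∈ distTriang (Dual.D A))
    {E : Dual.D A} (hZ : Orth T.obj₃ E) :
    Function.Bijective (fun ψ : T.obj₂ ⟶ E => T.mor₁ ≫ ψ) := by
  let e0 := (shiftFunctorZero (Dual.D A) ℤ).app E
  have hz : ∀ (m : ℤ) (θ : (T.obj₃)⟦m⟧ ⟶ E), θ = 0 := by
    intro m θ
    have := orth_shift_left hZ m 0 (θ ≫ e0.inv)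
    rw [← cancel_mono e0.inv, this, zero_comp]
  constructor
  · intro ψ ψ' h
    dsimp at h
    have h0 : T.mor₁ ≫ (ψ - ψ') = 0 := by rw [Preadditive.comp_sub, h, sub_self]
    obtain ⟨θ, hθ⟩ : ∃ θ : T.obj₃ ⟶ E, ψ - ψ' = T.mor₂ ≫ θ := Triangle.yoneda_exact₂ _ hT _ h0
    have : θ = 0 := by
      have := hZ 0 (θ ≫ e0.inv)
      rw [← cancel_mono e0.inv, this, zero_comp]
    rw [this, comp_zero] at hθ
    exact sub_eq_zero.1 hθ
  · intro φ
    have hT' := inv_rot_of_distTriang _ hT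
    have h0 : T.invRotate.mor₁ ≫ φ = 0 := hz (-1) _
    obtain ⟨g, hg⟩ : ∃ g : T.obj₂ ⟶ E, φ = T.mor₁ ≫ g := Triangle.yoneda_exact₂ _ hT' φ h0
    exact ⟨g, hg.symm⟩

end Groth.Agent.R2.H31.CK
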