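import Mathlib
import Groth.Prelude.Def_DRing4
import Groth.Agent.Lib.Helper1KF2
import Groth.Agent.Lib.Helper1KF4
import Groth.Agent.Lib.Helper1PC
import Groth.Agent.Lib.Helper1LBC
import Groth.Agent.Lib.Helper21SPerf

/-!
# Contravariant functoriality of the Hom complex and K-flatness of `Hom•(P, K)` for perfect `P`
(helper31)
-/

set_option autoImplicit false
universe u
open CategoryTheory Limits HomologicalComplex CochainComplex HomComplex MonoidalCategory

namespace Groth.Agent.R2.H31.HomPre

open DRing Groth.Agent.Lib.Helper1.KF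

variable {A : Type u} [CommRing A]

section Pre

/-- precomposition of cochains with a family of maps (not necessarily a chain map) -/
noncomputable def preFam {X Y : DRing.Cx A} (u : ∀ p : ℤ, Y.X p ⟶ X.X p) (K : DRing.Cx A)
    (i : ℤ) : Cochain X K i →ₗ[A] Cochain Y K i where
  toFun z := (Cochain.ofHoms u).comp z (zero_add i)
  map_add' z z' := by simp
  map_smul' a z := by simp

lemma preFam_v {X Y : DRing.Cx A} (u : ∀ p : ℤ, Y.X p ⟶ X.X p) (K : DRing.Cx A) (i : ℤ)
    (z : Cochain X K i) (p q : ℤ) (hpq : p + i = q) :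
    (preFam u K i z).v p q hpq = u p ≫ z.v p q hpq := by
  show ((Cochain.ofHoms u).comp z (zero_add i)).v p q hpq = _
  rw [Cochain.zero_cochain_comp_v, Cochain.ofHoms_v]

lemma preFam_comp {X Y Z : DRing.Cx A} (u : ∀ p : ℤ, Y.X p ⟶ X.X p)
    (v : ∀ p : ℤ, Z.X p ⟶ Y.X p) (K : DRing.Cx A) (i : ℤ) (z : Cochain X K i) :
    preFam v K i (preFam u K i z) = preFam (fun p => v p ≫ u p) K i z := by
  ext p q hpq
  rw [preFam_v, preFam_v, preFam_v, Category.assoc]

lemma preFam_id {X : DRing.Cx A} (K : DRing.Cx A) (i : ℤ) (z : Cochain X K i) :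
    preFam (fun p => 𝟙 (X.X p)) K i z = z := by
  ext p q hpq
  rw [preFam_v, Category.id_comp]

lemma preFam_add {X Y : DRing.Cx A} (u u' : ∀ p : ℤ, Y.X p ⟶ X.X p) (K : DRing.Cx A) (i : ℤ)
    (z : Cochain X K i) :
    preFam (fun p => u p + u' p) K i z = preFam u K i z + preFam u' K i z := by
  ext p q hpq
  rw [Cochain.add_v, preFam_v, preFam_v, preFam_v, Preadditive.add_comp]

/-- contravariant functoriality of the Hom complex in the first variable -/
noncomputable def homCxPre {X Y : DRing.Cx A} (g : Y ⟶ X) (K : DRing.Cx A) :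
    homCx X K ⟶ homCx Y K where
  f i := ModuleCat.ofHom (preFam (fun p => g.f p) K i)
  comm' i j _ := by
    ext z
    change δ i j ((Cochain.ofHom g).comp z (zero_add i)) =
      (Cochain.ofHom g).comp (δ i j z) (zero_add j)
    exact δ_ofHom_comp g z j

lemma homCxPre_f_apply {X Y : DRing.Cx A} (g : Y ⟶ X) (K : DRing.Cx A) (i : ℤ)
    (z : Cochain X K i) :
    ((homCxPre g K).f i).hom z = (Cochain.ofHom g).comp z (zero_add i) := rfl

lemma homCxPre_id (X K : DRing.Cx A) : homCxPre (𝟙 X) K = 𝟙 _ := by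
  refine HomologicalComplex.hom_ext _ _ fun i => ModuleCat.hom_ext (LinearMap.ext fun
    (z : Cochain X K i) => ?_)
  exact preFam_id K i z

lemma homCxPre_comp {X Y Z : DRing.Cx A} (g : Y ⟶ X) (h : Z ⟶ Y) (K : DRing.Cx A) :
    homCxPre (h ≫ g) K = homCxPre g K ≫ homCxPre h K := by
  refine HomologicalComplex.hom_ext _ _ fun i => ModuleCat.hom_ext (LinearMap.ext fun
    (z : Cochain X K i) => ?_)
  exact (preFam_comp (fun p => g.f p) (fun p => h.f p) K i z).symm

end Pre

section Htpy

variable {X Y : DRing.Cx A}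

/-- left composition with a cochain of degree `-1`, as a linear map -/
noncomputable def compLin (z₀ : Cochain Y X (-1)) (K : DRing.Cx A) (n m : ℤ) (hnm : -1 + n = m) :
    Cochain X K n →ₗ[A] Cochain Y K m where
  toFun w := z₀.comp w hnm
  map_add' w w' := by simp
  map_smul' a w := by simp

/-- the `(-1)`-cochain of Hom complexes induced by a `(-1)`-cochain -/
noncomputable def preHtpyCochain (z₀ : Cochain Y X (-1)) (K : DRing.Cx A) :
    Cochain (homCx X K) (homCx Y K) (-1) :=
  Cochain.mk (fun n m hnm => ModuleCat.ofHom (n.negOnePow • compLin z₀ K n m (by omega)))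

lemma preHtpy_spec {g g' : Y ⟶ X} (z₀ : Cochain Y X (-1))
    (hz : Cochain.ofHom g = δ (-1) 0 z₀ + Cochain.ofHom g') (K : DRing.Cx A) :
    Cochain.ofHom (homCxPre g K) =
      δ (-1) 0 (preHtpyCochain z₀ K) + Cochain.ofHom (homCxPre g' K) := by
  refine Cochain.ext _ _ (fun p q hpq => ?_)
  obtain rfl : p = q := by omega
  rw [Cochain.add_v, Cochain.ofHom_v, Cochain.ofHom_v,
    δ_v (-1) 0 (by omega) _ p p (add_zero p) (p - 1) (p + 1) (by omega) (by omega)]
  refine ModuleCat.hom_ext (LinearMap.ext fun (w : Cochain X K p) => ?_)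
  show (Cochain.ofHom g).comp w (zero_add p) =
    δ (p - 1) p (p.negOnePow • z₀.comp w (by omega)) +
      (Int.negOnePow 0) • ((p + 1).negOnePow • z₀.comp (δ p (p + 1) w) (by omega)) +
      (Cochain.ofHom g').comp w (zero_add p)
  rw [δ_units_smul, δ_comp z₀ w (show -1 + p = p - 1 by omega) 0 (p + 1) p (by omega) (by omega) rfl,
    hz, Cochain.add_comp, Int.negOnePow_zero, one_smul, Int.negOnePow_succ, smul_add, smul_smul,
    Int.units_mul_self, one_smul, Units.neg_smul]
  abel

/-- homotopic maps induce homotopic maps on Hom complexes -/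
noncomputable def homCxPreHomotopy {g g' : Y ⟶ X} (h : Homotopy g g') (K : DRing.Cx A) :
    Homotopy (homCxPre g K) (homCxPre g' K) :=
  (Cochain.equivHomotopy _ _).symm ⟨preHtpyCochain (Cochain.equivHomotopy g g' h).1 K,
    preHtpy_spec _ (Cochain.equivHomotopy g g' h).2 K⟩

/-- the Hom complex is homotopy invariant in the first variable -/
noncomputable def homCxPreHomotopyEquiv (e : HomotopyEquiv X Y) (K : DRing.Cx A) :
    HomotopyEquiv (homCx Y K) (homCx X K) where
  hom := homCxPre e.hom K
  inv := homCxPre e.inv K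
  homotopyHomInvId :=
    (Homotopy.ofEq (homCxPre_comp e.hom e.inv K).symm).trans
      ((homCxPreHomotopy e.homotopyInvHomId K).trans (Homotopy.ofEq (homCxPre_id Y K)))
  homotopyInvHomId :=
    (Homotopy.ofEq (homCxPre_comp e.inv e.hom K).symm).trans
      ((homCxPreHomotopy e.homotopyHomInvId K).trans (Homotopy.ofEq (homCxPre_id X K)))

end Htpy

section Split

lemma homCxPre_zero (X Y K : DRing.Cx A) : homCxPre (0 : Y ⟶ X) K = 0 := by
  refine HomologicalComplex.hom_ext _ _ fun i => ModuleCat.hom_ext (LinearMap.ext fun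
    (z : Cochain X K i) => ?_)
  show (Cochain.ofHom (0 : Y ⟶ X)).comp z (zero_add i) = 0
  simp

variable (S : ShortComplex (DRing.Cx A)) (K : DRing.Cx A)

/-- the short complex of Hom complexes induced by a short complex of complexes -/
noncomputable def homShort : ShortComplex (DRing.Cx A) :=
  ShortComplex.mk (homCxPre S.g K) (homCxPre S.f K) (by
    rw [← homCxPre_comp, S.zero, homCxPre_zero])

variable {S}

/-- a degreewise splitting induces a degreewise splitting of the Hom complexes -/
noncomputable def homShortSplitting' (r : ∀ p : ℤ, S.X₂.X p ⟶ S.X₁.X p)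
    (s : ∀ p : ℤ, S.X₃.X p ⟶ S.X₂.X p) (f_r : ∀ p, S.f.f p ≫ r p = 𝟙 _)
    (s_g : ∀ p, s p ≫ S.g.f p = 𝟙 _) (hid : ∀ p, r p ≫ S.f.f p + S.g.f p ≫ s p = 𝟙 _) (n : ℤ) :
    ((homShort S K).map (eval _ _ n)).Splitting where
  r := ModuleCat.ofHom (preFam s K n)
  s := ModuleCat.ofHom (preFam r K n)
  f_r := by
    refine ModuleCat.hom_ext (LinearMap.ext fun (z : Cochain S.X₃ K n) => ?_)
    show preFam s K n (preFam (fun p => S.g.f p) K n z) = z
    rw [preFam_comp]
    have : (fun p => s p ≫ S.g.f p) = fun p => 𝟙 (S.X₃.X p) := funext s_g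
    rw [this, preFam_id]
  s_g := by
    refine ModuleCat.hom_ext (LinearMap.ext fun (z : Cochain S.X₁ K n) => ?_)
    show preFam (fun p => S.f.f p) K n (preFam r K n z) = z
    rw [preFam_comp]
    have : (fun p => S.f.f p ≫ r p) = fun p => 𝟙 (S.X₁.X p) := funext f_r
    rw [this, preFam_id]
  id := by
    refine ModuleCat.hom_ext (LinearMap.ext fun (z : Cochain S.X₂ K n) => ?_)
    show preFam (fun p => S.g.f p) K n (preFam s K n z) +
      preFam r K n (preFam (fun p => S.f.f p) K n z) = z
    rw [preFam_comp, preFam_comp, ← preFam_add]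
    have : (fun p => S.g.f p ≫ s p + r p ≫ S.f.f p) = fun p => 𝟙 (S.X₂.X p) :=
      funext fun p => (add_comm _ _).trans (hid p)
    rw [this, preFam_id]

/-- a degreewise splitting induces a degreewise splitting of the Hom complexes -/
noncomputable def homShortSplitting (σ : ∀ n, (S.map (eval _ _ n)).Splitting) (n : ℤ) :
    ((homShort S K).map (eval _ _ n)).Splitting :=
  homShortSplitting' K (fun p => (σ p).r) (fun p => (σ p).s) (fun p => (σ p).f_r)
    (fun p => (σ p).s_g) (fun p => (σ p).id) n

/-- K-flatness of Hom complexes: two out of three along degreewise split sequences -/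
theorem kflat_homCx_X₂ (σ : ∀ n, (S.map (eval _ _ n)).Splitting)
    (h₁ : KFlat (homCx S.X₁ K)) (h₃ : KFlat (homCx S.X₃ K)) : KFlat (homCx S.X₂ K) :=
  KFlat.X₂ (S := homShort S K)
    (fun L => tensorLeft_shortExact_of_splitting L _ (homShortSplitting K σ)) h₃ h₁

end Split

section Twist

/-- multiplication by a sign, as a linear equivalence -/
noncomputable def signEquiv (ε : ℤˣ) (M : Type*) [AddCommGroup M] [Module A M] : M ≃ₗ[A] M where
  toFun x := ε • x
  invFun x := ε⁻¹ • x
  left_inv x := by simp [smul_smul]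
  right_inv x := by simp [smul_smul]
  map_add' x y := smul_add _ _ _
  map_smul' a x := by
    show ε • (a • x) = a • (ε • x)
    rw [Units.smul_def, Units.smul_def, smul_comm]

/-- two complexes whose terms are isomorphic compatibly with the differentials up to a fixed sign
are isomorphic -/
noncomputable def twistIso {X Y : DRing.Cx A} (ε : ℤˣ) (φ : ∀ n : ℤ, X.X n ≃ₗ[A] Y.X n)
    (h : ∀ (n : ℤ) (x : X.X n), (Y.d n (n + 1)).hom (φ n x) =
      ε • φ (n + 1) ((X.d n (n + 1)).hom x)) : X ≅ Y :=
  HomologicalComplex.Hom.isoOfComponents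
    (fun n => ((φ n).trans (signEquiv (ε ^ n) (Y.X n))).toModuleIso) (by
      intro i j hij
      obtain rfl : i + 1 = j := hij
      apply ModuleCat.hom_ext
      apply LinearMap.ext
      intro x
      show (Y.d i (i + 1)).hom (ε ^ i • φ i x) = ε ^ (i + 1) • φ (i + 1) ((X.d i (i + 1)).hom x)
      have h1 : (Y.d i (i + 1)).hom (ε ^ i • φ i x) = ε ^ i • (Y.d i (i + 1)).hom (φ i x) := by
        rw [Units.smul_def, Units.smul_def, map_zsmul]
      rw [h1, h, smul_smul, zpow_add, zpow_one])

end Twist

section Single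

/-- cochains out of a module placed in degree `p` -/
noncomputable def fromSingleLE (p : ℤ) (M : ModuleCat.{u} A) (L : DRing.Cx A) (n q : ℤ)
    (h : p + n = q) :
    Cochain ((CochainComplex.singleFunctor (ModuleCat.{u} A) p).obj M) L n ≃ₗ[A] (M ⟶ L.X q) :=
  { Cochain.fromSingleEquiv (X := M) (K := L) h with
    map_smul' := fun a z => by
      show (HomologicalComplex.singleObjXSelf (.up ℤ) p M).inv ≫ (a • z).v p q h =
        a • ((HomologicalComplex.singleObjXSelf (.up ℤ) p M).inv ≫ z.v p q h)
      rw [Cochain.smul_v]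
      exact Linear.comp_smul (R := A) (C := ModuleCat.{u} A) _ _ _ _ _ _ }

lemma fromSingleLE_fromSingleMk (p : ℤ) (M : ModuleCat.{u} A) (L : DRing.Cx A) (n q : ℤ)
    (h : p + n = q) (φ : M ⟶ L.X q) :
    fromSingleLE p M L n q h (Cochain.fromSingleMk φ h) = φ :=
  Cochain.fromSingleEquiv_fromSingleMk φ h

lemma fromSingleLE_δ (p : ℤ) (M : ModuleCat.{u} A) (L : DRing.Cx A) (n n' q q' : ℤ)
    (h : p + n = q) (h' : p + n' = q')
    (z : Cochain ((CochainComplex.singleFunctor (ModuleCat.{u} A) p).obj M) L n) :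
    fromSingleLE p M L n' q' h' (δ n n' z) = fromSingleLE p M L n q h z ≫ L.d q q' := by
  obtain ⟨φ, rfl⟩ := Cochain.fromSingleMk_surjective z q h
  rw [Cochain.δ_fromSingleMk φ h n' q' h', fromSingleLE_fromSingleMk, fromSingleLE_fromSingleMk]

/-- maps out of the ring are elements -/
noncomputable def evalOne (N : ModuleCat.{u} A) : (ModuleCat.of A A ⟶ N) ≃ₗ[A] N where
  toFun f := f.hom (1 : A)
  invFun x := ModuleCat.ofHom (LinearMap.toSpanSingleton A N x)
  left_inv f := by
    apply ModuleCat.hom_ext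
    apply LinearMap.ext_ring
    simp
  right_inv x := by simp
  map_add' f g := rfl
  map_smul' a f := rfl

/-- `Hom•(A[-p], K) ≅ K[p]` -/
noncomputable def homSingleRingIso (p : ℤ) (K : DRing.Cx A) :
    homCx ((CochainComplex.singleFunctor (ModuleCat.{u} A) p).obj (ModuleCat.of A A)) K ≅
      K⟦p⟧ :=
  twistIso (p.negOnePow)
    (fun n => (fromSingleLE p (ModuleCat.of A A) K n (n + p) (add_comm p n)).trans
      (evalOne (K.X (n + p)))) (by
      intro n z
      have hd : ((CategoryTheory.shiftFunctor (DRing.Cx A) p).obj K).d n (n + 1) =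
          p.negOnePow • K.d (n + p) (n + 1 + p) := CochainComplex.shiftFunctor_obj_d' K p n (n + 1)
      have h1 := fromSingleLE_δ p (ModuleCat.of A A) K n (n + 1) (n + p) (n + 1 + p)
        (add_comm p n) (add_comm p (n + 1)) z
      rw [hd]
      show p.negOnePow • (K.d (n + p) (n + 1 + p)).hom
          ((fromSingleLE p (ModuleCat.of A A) K n (n + p) (add_comm p n) z).hom (1 : A)) =
        p.negOnePow • (fromSingleLE p (ModuleCat.of A A) K (n + 1) (n + 1 + p)
          (add_comm p (n + 1)) (δ n (n + 1) z)).hom (1 : A)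
      rw [h1]
      rfl)

lemma homCxPre_add {X Y : DRing.Cx A} (g g' : Y ⟶ X) (K : DRing.Cx A) :
    homCxPre (g + g') K = homCxPre g K + homCxPre g' K := by
  refine HomologicalComplex.hom_ext _ _ fun i => ModuleCat.hom_ext (LinearMap.ext fun
    (z : Cochain X K i) => ?_)
  exact preFam_add (fun p => g.f p) (fun p => g'.f p) K i z

lemma homCxPre_sum {ι : Type*} {X Y : DRing.Cx A} (s : Finset ι) (g : ι → (Y ⟶ X))
    (K : DRing.Cx A) : homCxPre (∑ j ∈ s, g j) K = ∑ j ∈ s, homCxPre (g j) K := by
  classical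
  induction s using Finset.induction_on with
  | empty => simpa using homCxPre_zero X Y K
  | insert a s ha ih => rw [Finset.sum_insert ha, Finset.sum_insert ha, homCxPre_add, ih]

lemma kflat_homCx_single_ring (p : ℤ) (K : DRing.Cx A) (hK : KFlat K) :
    KFlat (homCx ((CochainComplex.singleFunctor (ModuleCat.{u} A) p).obj (ModuleCat.of A A)) K) :=
  KFlat.of_homotopyEquiv (HomotopyEquiv.ofIso (homSingleRingIso p K).symm) (hK.shift p)

/-- `Hom•(M[-p], K)` is K-flat for a finite projective module `M` and K-flat `K` -/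
theorem kflat_homCx_single (p : ℤ) (M : ModuleCat.{u} A) [Module.Finite A M]
    [Module.Projective A M] (K : DRing.Cx A) (hK : KFlat K) :
    KFlat (homCx ((CochainComplex.singleFunctor (ModuleCat.{u} A) p).obj M) K) := by
  obtain ⟨n, f, g, -, -, hfg⟩ := Module.Finite.exists_comp_eq_id_of_projective A M
  intro L hL i
  let α : Fin n → (M ⟶ ModuleCat.of A A) := fun j =>
    ModuleCat.ofHom (LinearMap.proj (R := A) (φ := fun _ : Fin n => A) j ∘ₗ g)
  let β : Fin n → (ModuleCat.of A A ⟶ M) := fun j =>
    ModuleCat.ofHom (f ∘ₗ LinearMap.single A (fun _ : Fin n => A) j)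
  have hsum : ∑ j, α j ≫ β j = 𝟙 M := by
    apply ModuleCat.hom_ext
    apply LinearMap.ext
    intro x
    rw [ModuleCat.hom_sum]
    simp only [α, β, ModuleCat.hom_comp, ModuleCat.hom_ofHom, ModuleCat.hom_id, LinearMap.sum_apply,
      LinearMap.comp_apply, LinearMap.proj_apply, LinearMap.single_apply, LinearMap.id_apply]
    rw [← map_sum, LinearMap.sum_single_apply (fun _ : Fin n => A) (g x)]
    exact LinearMap.congr_fun hfg x
  let Sg := CochainComplex.singleFunctor (ModuleCat.{u} A) p
  have hid : 𝟙 (homCx (Sg.obj M) K) =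
      ∑ j, homCxPre (Sg.map (β j)) K ≫ homCxPre (Sg.map (α j)) K := by
    rw [← homCxPre_id, ← Sg.map_id, ← hsum, Functor.map_sum, homCxPre_sum]
    refine Finset.sum_congr rfl (fun j _ => ?_)
    rw [Sg.map_comp, homCxPre_comp]
  have hA := kflat_homCx_single_ring p K hK L hL i
  rw [IsZero.iff_id_eq_zero]
  have h1 : 𝟙 ((L ⊗ homCx (Sg.obj M) K).homology i) =
      (HomologicalComplex.homologyFunctor _ _ i).map ((tensorLeft L).map
        (𝟙 (homCx (Sg.obj M) K))) := by
    rw [CategoryTheory.Functor.map_id, CategoryTheory.Functor.map_id]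
    rfl
  rw [h1, hid, Functor.map_sum, Functor.map_sum]
  refine Finset.sum_eq_zero (fun j _ => ?_)
  rw [Functor.map_comp, Functor.map_comp]
  have h2 : (HomologicalComplex.homologyFunctor _ _ i).map ((tensorLeft L).map
      (homCxPre (Sg.map (β j)) K)) = 0 := hA.eq_of_tgt _ _
  rw [h2]
  exact zero_comp

end Single

section Trunc

open Groth.Agent.Lib.Helper1.PC

/-- the Hom complex out of a termwise zero complex is zero -/
lemma isZero_homCx_of_isZero_X (E K : DRing.Cx A) (hE : ∀ i, IsZero (E.X i)) :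
    IsZero (homCx E K) := by
  rw [IsZero.iff_id_eq_zero]
  refine HomologicalComplex.hom_ext _ _ fun i => ModuleCat.hom_ext (LinearMap.ext fun
    (z : Cochain E K i) => ?_)
  show z = 0
  refine Cochain.ext _ _ (fun p q hpq => ?_)
  exact (hE p).eq_of_src _ _

lemma kflat_of_isZero (Z : DRing.Cx A) (hZ : IsZero Z) : KFlat Z := by
  intro L _ i
  have h1 : IsZero (L ⊗ Z) := (tensorLeft L).map_isZero hZ
  exact (HomologicalComplex.homologyFunctor _ _ i).map_isZero h1

/-- the projection of a complex vanishing below `a` onto its term of degree `a` -/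
noncomputable def toSingle (E : DRing.Cx A) (a : ℤ) (h : IsZero (E.X (a - 1))) :
    E ⟶ (HomologicalComplex.single (ModuleCat.{u} A) (ComplexShape.up ℤ) a).obj (E.X a) :=
  HomologicalComplex.mkHomToSingle (𝟙 (E.X a)) (by
    intro i hi
    obtain rfl : i = a - 1 := by
      have : i + 1 = a := hi
      omega
    exact h.eq_of_src _ _)

lemma toSingle_f (E : DRing.Cx A) (a : ℤ) (h : IsZero (E.X (a - 1))) :
    (toSingle E a h).f a = (HomologicalComplex.singleObjXSelf (ComplexShape.up ℤ) a (E.X a)).inv := by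
  refine (HomologicalComplex.mkHomToSingle_f _ _).trans ?_
  exact Category.id_comp _

/-- the brutal truncation sequence `σ_{≥ a+1} E ⟶ E ⟶ E^a[-a]` -/
noncomputable def truncShort (E : DRing.Cx A) (a : ℤ) (h : IsZero (E.X (a - 1))) :
    ShortComplex (DRing.Cx A) :=
  ShortComplex.mk (sigmaGEι E (a + 1)) (toSingle E a h) (by
    apply HomologicalComplex.to_single_hom_ext
    exact (isZero_sigmaGE_X E (a + 1) a (by omega)).eq_of_src _ _)

lemma nonempty_truncShort_splitting (E : DRing.Cx A) (a : ℤ) (hE : ∀ i : ℤ, i < a → IsZero (E.X i))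
    (n : ℤ) :
    Nonempty (((truncShort E a (hE _ (by omega))).map (eval _ _ n)).Splitting) := by
  have hX₃ : n ≠ a → IsZero
      (((HomologicalComplex.single (ModuleCat.{u} A) (ComplexShape.up ℤ) a).obj (E.X a)).X n) :=
    fun hn => HomologicalComplex.isZero_single_obj_X (ComplexShape.up ℤ) a (E.X a) n hn
  rcases lt_trichotomy n a with hn | hn | hn
  · have hX₁ : IsZero ((sigmaGE E (a + 1)).X n) := isZero_sigmaGE_X E (a + 1) n (by omega)
    have hX₂ : IsZero (E.X n) := hE n hn
    exact ⟨{ r := 0, s := 0, f_r := hX₁.eq_of_src _ _, s_g := (hX₃ (by omega)).eq_of_src _ _,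
             id := hX₂.eq_of_src _ _ }⟩
  · subst hn
    have hX₁ : IsZero ((sigmaGE E (n + 1)).X n) := isZero_sigmaGE_X E (n + 1) n (by omega)
    have h0 : IsZero (E.X (n - 1)) := hE _ (by omega)
    have hf := toSingle_f E n h0
    exact ⟨{ r := 0, s := (HomologicalComplex.singleObjXSelf (ComplexShape.up ℤ) n (E.X n)).hom
             f_r := hX₁.eq_of_src _ _
             s_g := by
              show (HomologicalComplex.singleObjXSelf (ComplexShape.up ℤ) n (E.X n)).hom ≫
                (toSingle E n h0).f n = 𝟙 _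
              rw [hf, Iso.hom_inv_id]
             id := by
              have e1 : (0 : E.X n ⟶ (sigmaGE E (n + 1)).X n) ≫ (sigmaGEι E (n + 1)).f n = 0 :=
                zero_comp
              have e2 : (toSingle E n h0).f n ≫
                  (HomologicalComplex.singleObjXSelf (ComplexShape.up ℤ) n (E.X n)).hom =
                  𝟙 (E.X n) := by
                rw [hf, Iso.inv_hom_id]
              exact (congrArg₂ (· + ·) e1 e2).trans (zero_add _) }⟩
  · have h0 : IsZero (E.X (a - 1)) := hE _ (by omega)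
    have hf := sigmaGEXIso_hom E (a + 1) n (by omega)
    exact ⟨{ r := (sigmaGEXIso E (a + 1) n (by omega)).inv, s := 0
             f_r := by
              show (sigmaGEι E (a + 1)).f n ≫ (sigmaGEXIso E (a + 1) n (by omega)).inv = 𝟙 _
              rw [← hf, Iso.hom_inv_id]
             s_g := (hX₃ (by omega)).eq_of_src _ _
             id := by
              have e1 : (sigmaGEXIso E (a + 1) n (by omega)).inv ≫ (sigmaGEι E (a + 1)).f n =
                  𝟙 (E.X n) := by
                rw [← hf, Iso.inv_hom_id]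
              have e2 : (toSingle E a h0).f n ≫ (0 : _ ⟶ E.X n) = 0 := comp_zero
              exact (congrArg₂ (· + ·) e1 e2).trans (add_zero _) }⟩

lemma vanishesOutside_sigmaGE (E : DRing.Cx A) (a b : ℤ) (hE : DRing.VanishesOutside E a b) :
    DRing.VanishesOutside (sigmaGE E (a + 1)) (a + 1) b := by
  intro i hi
  rcases hi with hi | hi
  · exact isZero_sigmaGE_X E (a + 1) i hi
  · exact isZero_sigmaGE_X' E (a + 1) i (hE i (Or.inr hi))

lemma termwiseFiniteProjective_sigmaGE (E : DRing.Cx A) (n : ℤ)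
    (hE : DRing.TermwiseFiniteProjective E) : DRing.TermwiseFiniteProjective (sigmaGE E n) := by
  intro i
  by_cases hi : n ≤ i
  · have := (hE i).1
    have := (hE i).2
    let e := (sigmaGEXIso E n i hi).toLinearEquiv
    exact ⟨Module.Finite.equiv e.symm, Module.Projective.of_equiv e.symm⟩
  · have : Subsingleton ((sigmaGE E n).X i) :=
      ModuleCat.subsingleton_of_isZero (isZero_sigmaGE_X E n i (by omega))
    exact ⟨inferInstance, inferInstance⟩

/-- one step of the induction: peel off the lowest term -/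
lemma kflat_homCx_step (K : DRing.Cx A) (hK : KFlat K) (E : DRing.Cx A) (a : ℤ)
    (hlow : ∀ i : ℤ, i < a → IsZero (E.X i))
    (hp : DRing.TermwiseFiniteProjective E)
    (h₁ : KFlat (homCx (sigmaGE E (a + 1)) K)) : KFlat (homCx E K) := by
  have h0 : IsZero (E.X (a - 1)) := hlow _ (by omega)
  have σ : ∀ n, ((truncShort E a h0).map (eval _ _ n)).Splitting := fun n =>
    (nonempty_truncShort_splitting E a hlow n).some
  have := (hp a).1
  have := (hp a).2
  have h₃ : KFlat (homCx
      ((HomologicalComplex.single (ModuleCat.{u} A) (ComplexShape.up ℤ) a).obj (E.X a)) K) :=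
    kflat_homCx_single a (E.X a) K hK
  exact kflat_homCx_X₂ (S := truncShort E a h0) K σ h₁ h₃

/-- `Hom•(E, K)` is K-flat for a bounded complex `E` of finite projective modules and K-flat `K` -/
theorem kflat_homCx_of_bounded (K : DRing.Cx A) (hK : KFlat K) (m : ℕ) :
    ∀ (E : DRing.Cx A) (a b : ℤ), b < a + m → DRing.VanishesOutside E a b →
      DRing.TermwiseFiniteProjective E → KFlat (homCx E K) := by
  induction m with
  | zero =>
    intro E a b hab hE _
    refine kflat_of_isZero _ (isZero_homCx_of_isZero_X E K (fun i => hE i ?_))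
    push_cast at hab
    omega
  | succ m ih =>
    intro E a b hab hE hp
    refine kflat_homCx_step K hK E a (fun i hi => hE i (Or.inl hi)) hp ?_
    refine ih (sigmaGE E (a + 1)) (a + 1) b ?_ (vanishesOutside_sigmaGE E a b hE)
      (termwiseFiniteProjective_sigmaGE E (a + 1) hp)
    push_cast at hab
    omega

end Trunc

section Main

attribute [local instance] HasDerivedCategory.standard

open DerivedCategory

/-- K-projective complexes which are isomorphic in the derived category are homotopy equivalent -/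
lemma nonempty_homotopyEquiv {P E : DRing.Cx A} [P.IsKProjective] [E.IsKProjective]
    (e : Q.obj E ≅ Q.obj P) : Nonempty (HomotopyEquiv P E) := by
  obtain ⟨f, hf⟩ := Groth.Agent.Lib.Helper21.SPerf.exists_map_eq_of_isKProjective E P e.hom
  obtain ⟨g, hg⟩ := Groth.Agent.Lib.Helper21.SPerf.exists_map_eq_of_isKProjective P E e.inv
  obtain ⟨h1⟩ := Groth.Agent.Lib.Helper21.SPerf.homotopy_of_Q_map_eq P P (g ≫ f) (𝟙 P) (by
    rw [Functor.map_comp, hf, hg, Iso.inv_hom_id, CategoryTheory.Functor.map_id])
  obtain ⟨h2⟩ := Groth.Agent.Lib.Helper21.SPerf.homotopy_of_Q_map_eq E E (f ≫ g) (𝟙 E) (by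
    rw [Functor.map_comp, hf, hg, Iso.hom_inv_id, CategoryTheory.Functor.map_id])
  exact ⟨⟨g, f, h1, h2⟩⟩

/-- `Hom•(P, K)` is K-flat for a bounded above complex of projectives `P` which is perfect and a
K-flat complex `K`. -/
theorem kflat_homCx_of_perfect (P K : DRing.Cx A) (b : ℤ) (hPb : DRing.VanishesAbove P b)
    (hPp : ∀ i : ℤ, Module.Projective A (P.X i)) (hperf : DRing.IsPerfect A (DRing.toD P))
    (hK : KFlat K) : KFlat (homCx P K) := by
  obtain ⟨E, a, c, hE, hEp, ⟨e⟩⟩ := hperf
  have : P.IsKProjective :=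
    Groth.Agent.Lib.Helper1.LDer.isKProjective_of_vanishesAbove P b hPb hPp
  have : E.IsKProjective :=
    Groth.Agent.Lib.Helper1.LDer.isKProjective_of_vanishesAbove E c (fun i hi => hE i (Or.inr hi))
      (fun i => (hEp i).2)
  obtain ⟨he⟩ := nonempty_homotopyEquiv (P := P) (E := E) e
  refine KFlat.of_homotopyEquiv (homCxPreHomotopyEquiv he K)
    (kflat_homCx_of_bounded K hK (c - a + 1).toNat E a c ?_ hE hEp)
  have := Int.self_le_toNat (c - a + 1)
  omega

end Main

end Groth.Agent.R2.H31.HomPre
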