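import Mathlib
import Groth.Prelude.Def_DRing4
import Groth.Agent.R2.H31PiCx

/-!
# The functor `Hom•(K, -)` on complexes of modules (helper31)

* `homCxFunctor_map_add/smul/...`: additivity and linearity.
* `homCxHomotopy`: `Hom•(K, -)` preserves homotopies.
* `homCxSplitting`: `Hom•(K, -)` preserves degreewise split short exact sequences.
* `homCxPiIso`: `Hom•(K, -)` commutes with countable powers.
-/

set_option autoImplicit false

universe u

open CategoryTheory CategoryTheory.Limits CochainComplex CochainComplex.HomComplex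

attribute [local instance] HasDerivedCategory.standard

namespace Groth.Agent.R2.H31.RHom

open Groth.Agent.R2.H31.PiCx

variable {A : Type u} [CommRing A] (K : DRing.Cx A)

lemma homCxFunctor_map_f_apply {L L' : DRing.Cx A} (f : L ⟶ L') (i : ℤ) (z : Cochain K L i) :
    (((DRing.homCxFunctor K).map f).f i).hom z = z.comp (Cochain.ofHom f) (add_zero i) := rfl

lemma homCx_d_apply (L : DRing.Cx A) (i j : ℤ) (z : Cochain K L i) :
    ((DRing.homCx K L).d i j).hom z = δ i j z := rfl

lemma homCxFunctor_map_add {L L' : DRing.Cx A} (f g : L ⟶ L') :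
    (DRing.homCxFunctor K).map (f + g) = (DRing.homCxFunctor K).map f +
      (DRing.homCxFunctor K).map g := by
  refine HomologicalComplex.hom_ext _ _ fun i => ModuleCat.hom_ext (LinearMap.ext fun
    (z : Cochain K L i) => ?_)
  show z.comp (Cochain.ofHom (f + g)) (add_zero i) =
    z.comp (Cochain.ofHom f) (add_zero i) + z.comp (Cochain.ofHom g) (add_zero i)
  rw [Cochain.ofHom_add, Cochain.comp_add]

instance : (DRing.homCxFunctor K).Additive where
  map_add := homCxFunctor_map_add K _ _

lemma ofHom_smul {L L' : DRing.Cx A} (a : A) (f : L ⟶ L') :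
    Cochain.ofHom (a • f) = a • Cochain.ofHom f := by
  ext p
  simp

lemma homCxFunctor_map_smul {L L' : DRing.Cx A} (a : A) (f : L ⟶ L') :
    (DRing.homCxFunctor K).map (a • f) = a • (DRing.homCxFunctor K).map f := by
  refine HomologicalComplex.hom_ext _ _ fun i => ModuleCat.hom_ext (LinearMap.ext fun
    (z : Cochain K L i) => ?_)
  show z.comp (Cochain.ofHom (a • f)) (add_zero i) =
    a • z.comp (Cochain.ofHom f) (add_zero i)
  rw [ofHom_smul, Cochain.comp_smul]

lemma homCxFunctor_map_sub {L L' : DRing.Cx A} (f g : L ⟶ L') :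
    (DRing.homCxFunctor K).map (f - g) = (DRing.homCxFunctor K).map f -
      (DRing.homCxFunctor K).map g :=
  Functor.map_sub _

/-- the cochain of degree `-1` on Hom complexes induced by a cochain of degree `-1`. -/
noncomputable def hoCochain {L L' : DRing.Cx A} (c : Cochain L L' (-1)) :
    Cochain (DRing.homCx K L) (DRing.homCx K L') (-1) :=
  Cochain.mk (fun p q hpq => ModuleCat.ofHom
    { toFun := fun z : Cochain K L p => (z.comp c hpq : Cochain K L' q)
      map_add' := fun z z' => Cochain.add_comp z z' c hpq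
      map_smul' := fun a z => Cochain.smul_comp a z c hpq })

lemma hoCochain_v_apply {L L' : DRing.Cx A} (c : Cochain L L' (-1)) (p q : ℤ)
    (hpq : p + (-1) = q) (z : Cochain K L p) :
    ((hoCochain K c).v p q hpq).hom z = z.comp c hpq := rfl

lemma ofHom_eq_δ_hoCochain {L L' : DRing.Cx A} {f g : L ⟶ L'} (c : Cochain L L' (-1))
    (hc : Cochain.ofHom f = δ (-1) 0 c + Cochain.ofHom g) :
    Cochain.ofHom (DRing.homCxMap K f) =
      δ (-1) 0 (hoCochain K c) + Cochain.ofHom (DRing.homCxMap K g) := by
  ext p z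
  change Cochain K L p at z
  rw [Cochain.add_v, Cochain.ofHom_v, Cochain.ofHom_v,
    δ_v (-1) 0 (neg_add_cancel 1) _ p p (add_zero p) (p - 1) (p + 1) rfl rfl]
  simp only [Int.negOnePow_zero, one_smul]
  show z.comp (Cochain.ofHom f) (add_zero p) =
    δ (p - 1) p (z.comp c (by omega)) + (δ p (p + 1) z).comp c (by omega) +
      z.comp (Cochain.ofHom g) (add_zero p)
  rw [δ_comp z c (show p + (-1) = p - 1 by omega) (p + 1) 0 p (by omega) rfl (by omega), hc,
    Cochain.comp_add]
  simp only [Int.negOnePow_neg, Int.negOnePow_one, Units.neg_smul, one_smul]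
  abel

/-- `Hom•(K, -)` preserves homotopies. -/
noncomputable def homCxHomotopy {L L' : DRing.Cx A} {f g : L ⟶ L'} (h : Homotopy f g) :
    Homotopy ((DRing.homCxFunctor K).map f) ((DRing.homCxFunctor K).map g) :=
  ((Cochain.equivHomotopy (DRing.homCxMap K f) (DRing.homCxMap K g)).symm
    ⟨hoCochain K (Cochain.ofHomotopy h),
      ofHom_eq_δ_hoCochain K _ ((Cochain.equivHomotopy f g) h).2⟩ :)

/-- `Hom•(K, -)` preserves homotopy equivalences. -/
noncomputable def homCxHomotopyEquiv {L L' : DRing.Cx A} (e : HomotopyEquiv L L') :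
    HomotopyEquiv (DRing.homCx K L) (DRing.homCx K L') where
  hom := (DRing.homCxFunctor K).map e.hom
  inv := (DRing.homCxFunctor K).map e.inv
  homotopyHomInvId := by
    have h := homCxHomotopy K e.homotopyHomInvId
    rw [Functor.map_comp, CategoryTheory.Functor.map_id] at h
    exact h
  homotopyInvHomId := by
    have h := homCxHomotopy K e.homotopyInvHomId
    rw [Functor.map_comp, CategoryTheory.Functor.map_id] at h
    exact h

lemma isInvertedBy_homCxQ :
    (HomologicalComplex.homotopyEquivalences (ModuleCat.{u} A) (ComplexShape.up ℤ)).IsInvertedBy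
      (DRing.homCxQ K) := by
  rintro L L' f ⟨e, rfl⟩
  have : QuasiIso ((DRing.homCxFunctor K).map e.hom) :=
    (homCxHomotopyEquiv K e).quasiIso_hom
  show IsIso (DerivedCategory.Q.map ((DRing.homCxFunctor K).map e.hom))
  infer_instance

/-! ### Degreewise split short exact sequences -/

section Split

/-- postcomposition with a family of morphisms. -/
noncomputable def postFam {L L' : DRing.Cx A} (t : ∀ q, L.X q ⟶ L'.X q) (i : ℤ) :
    Cochain K L i →ₗ[A] Cochain K L' i where
  toFun z := z.comp (Cochain.ofHoms t) (add_zero i)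
  map_add' z z' := by simp
  map_smul' a z := by simp

lemma postFam_apply_v {L L' : DRing.Cx A} (t : ∀ q, L.X q ⟶ L'.X q) (i : ℤ)
    (z : Cochain K L i) (p q : ℤ) (hpq : p + i = q) :
    (postFam K t i z).v p q hpq = z.v p q hpq ≫ t q := by
  show (z.comp (Cochain.ofHoms t) (add_zero i)).v p q hpq = _
  rw [Cochain.comp_zero_cochain_v, Cochain.ofHoms_v]

lemma postcompLin_apply_v {L L' : DRing.Cx A} (f : L ⟶ L') (i : ℤ)
    (z : Cochain K L i) (p q : ℤ) (hpq : p + i = q) :
    (DRing.postcompLin K f i z).v p q hpq = z.v p q hpq ≫ f.f q := by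
  show (z.comp (Cochain.ofHom f) (add_zero i)).v p q hpq = _
  rw [Cochain.comp_zero_cochain_v, Cochain.ofHom_v]

/-- `Hom•(K, -)` preserves degreewise splittings (unbundled version). -/
noncomputable def homCxSplitting' {X₁ X₂ X₃ : DRing.Cx A} (f : X₁ ⟶ X₂) (g : X₂ ⟶ X₃)
    (w : f ≫ g = 0) (r : ∀ q, X₂.X q ⟶ X₁.X q) (s : ∀ q, X₃.X q ⟶ X₂.X q)
    (f_r : ∀ q, f.f q ≫ r q = 𝟙 _) (s_g : ∀ q, s q ≫ g.f q = 𝟙 _)
    (id : ∀ q, r q ≫ f.f q + g.f q ≫ s q = 𝟙 _) (i : ℤ) :
    (((ShortComplex.mk f g w).map (DRing.homCxFunctor K)).map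
      (HomologicalComplex.eval _ _ i)).Splitting where
  r := ModuleCat.ofHom (postFam K r i)
  s := ModuleCat.ofHom (postFam K s i)
  f_r := by
    apply ModuleCat.hom_ext
    apply LinearMap.ext
    intro z
    change Cochain K X₁ i at z
    show postFam K r i (DRing.postcompLin K f i z) = z
    refine Cochain.ext _ _ (fun p q hpq => ?_)
    rw [postFam_apply_v, postcompLin_apply_v, Category.assoc, f_r, Category.comp_id]
  s_g := by
    apply ModuleCat.hom_ext
    apply LinearMap.ext
    intro z
    change Cochain K X₃ i at z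
    show DRing.postcompLin K g i (postFam K s i z) = z
    refine Cochain.ext _ _ (fun p q hpq => ?_)
    rw [postcompLin_apply_v, postFam_apply_v, Category.assoc, s_g, Category.comp_id]
  id := by
    apply ModuleCat.hom_ext
    apply LinearMap.ext
    intro z
    change Cochain K X₂ i at z
    show DRing.postcompLin K f i (postFam K r i z) +
      postFam K s i (DRing.postcompLin K g i z) = z
    refine Cochain.ext _ _ (fun p q hpq => ?_)
    rw [Cochain.add_v, postcompLin_apply_v, postFam_apply_v, postFam_apply_v,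
      postcompLin_apply_v, Category.assoc, Category.assoc, ← Preadditive.comp_add, id,
      Category.comp_id]

lemma shortExact_homCx (S : ShortComplex (DRing.Cx A))
    (σ : ∀ n, (S.map (HomologicalComplex.eval _ _ n)).Splitting) :
    (S.map (DRing.homCxFunctor K)).ShortExact :=
  HomologicalComplex.shortExact_of_degreewise_shortExact _
    (fun i => (homCxSplitting' K S.f S.g S.zero (fun q => (σ q).r) (fun q => (σ q).s)
      (fun q => (σ q).f_r) (fun q => (σ q).s_g) (fun q => (σ q).id) i).shortExact)

end Split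

/-! ### Countable powers -/

section Pow

/-- the comparison `Hom•(K, E^ℕ) ⟶ Hom•(K, E)^ℕ`. -/
noncomputable def homCxPi (E : DRing.Cx A) :
    (DRing.homCxFunctor K).obj (piCx E) ⟶ piCx ((DRing.homCxFunctor K).obj E) :=
  piCxLift (fun n => (DRing.homCxFunctor K).map (piCxπ E n))

lemma homCxPi_π (E : DRing.Cx A) (n : ℕ) :
    homCxPi K E ≫ piCxπ _ n = (DRing.homCxFunctor K).map (piCxπ E n) :=
  piCxLift_π _ n

lemma homCxPi_f_apply (E : DRing.Cx A) (i : ℤ) (z : Cochain K (piCx E) i) (n : ℕ) :
    ((homCxPi K E).f i).hom z n = DRing.postcompLin K (piCxπ E n) i z := rfl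

lemma bijective_homCxPi_f (E : DRing.Cx A) (i : ℤ) :
    Function.Bijective ((homCxPi K E).f i).hom := by
  constructor
  · intro z z' h
    change Cochain K (piCx E) i at z z'
    show z = z'
    refine Cochain.ext _ _ (fun p q hpq => ?_)
    apply ModuleCat.hom_ext
    apply LinearMap.ext
    intro x
    funext n
    have h1 := congrFun h n
    rw [homCxPi_f_apply, homCxPi_f_apply] at h1
    have h2 := congrArg (fun w : Cochain K E i => (w.v p q hpq).hom x) h1
    simp only [postcompLin_apply_v] at h2
    exact h2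
  · intro w
    change ℕ → Cochain K E i at w
    let z : Cochain K (piCx E) i := Cochain.mk (fun p q hpq =>
      ModuleCat.ofHom (LinearMap.pi fun n => ((w n).v p q hpq).hom))
    refine ⟨z, ?_⟩
    funext n
    rw [homCxPi_f_apply]
    show DRing.postcompLin K (piCxπ E n) i z = w n
    refine Cochain.ext _ _ (fun p q hpq => ?_)
    rw [postcompLin_apply_v]
    rfl

instance isIso_homCxPi (E : DRing.Cx A) : IsIso (homCxPi K E) := by
  have : ∀ i, IsIso ((homCxPi K E).f i) := fun i => by
    rw [ConcreteCategory.isIso_iff_bijective]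
    exact bijective_homCxPi_f K E i
  exact HomologicalComplex.Hom.isIso_of_components _

lemma homCxPi_comp_piCxD (f : A) (E : DRing.Cx A) :
    homCxPi K E ≫ piCxD f ((DRing.homCxFunctor K).obj E) =
      (DRing.homCxFunctor K).map (piCxD f E) ≫ homCxPi K E := by
  apply piCx_hom_ext
  intro n
  rw [Category.assoc, Category.assoc, piCxD_π, homCxPi_π, Preadditive.comp_sub,
    Linear.comp_smul, homCxPi_π, homCxPi_π, ← Functor.map_comp, piCxD_π,
    homCxFunctor_map_sub, homCxFunctor_map_smul]

/-- if `1 - f S` on `E^ℕ` is a homotopy equivalence, then `1 - f S` on `Hom•(K, E)^ℕ` is a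
quasi-isomorphism. -/
lemma quasiIso_piCxD_homCx (f : A) (E : DRing.Cx A) (e : HomotopyEquiv (piCx E) (piCx E))
    (he : e.hom = piCxD f E) : QuasiIso (piCxD f ((DRing.homCxFunctor K).obj E)) := by
  have h1 : QuasiIso ((DRing.homCxFunctor K).map (piCxD f E)) := by
    rw [← he]
    exact (homCxHomotopyEquiv K e).quasiIso_hom
  have h2 : piCxD f ((DRing.homCxFunctor K).obj E) =
      inv (homCxPi K E) ≫ (DRing.homCxFunctor K).map (piCxD f E) ≫ homCxPi K E := by
    rw [← homCxPi_comp_piCxD, IsIso.inv_hom_id_assoc]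
  rw [h2]
  infer_instance

end Pow

end Groth.Agent.R2.H31.RHom
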