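import Mathlib
import Groth.Prelude.Def_DRing4
import Groth.Agent.R2.H31RHom1
import Groth.Agent.R2.H31DComp
import Groth.Agent.R2.H31Univ
import Groth.Agent.R2.H31Amp
import Groth.Agent.Lib.Helper17KInjD5

/-!
# `RHom(K, -)` and derived completion (helper31)

* `isIso_app_of_isKInjective`: the unit of `RHom(K, -)` is an isomorphism at K-injective complexes.
* `isCpl_Q_homCx`, `isLoc_Q_homCx`: `Hom•(K, -)` preserves complete / local K-injective complexes.
* `exists_step`, `exists_list`: a K-injective model for derived completion along finitely many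
  elements which is preserved by `Hom•(K, -)`.
* `rhomCx_completion`: `RHom(K, L^)` is the derived completion of `RHom(K, L)`.
-/

set_option autoImplicit false

universe u

open CategoryTheory CategoryTheory.Limits CochainComplex CochainComplex.HomComplex
  Pretriangulated DerivedCategory

attribute [local instance] HasDerivedCategory.standard

namespace Groth.Agent.R2.H31.RHom

open Groth.Agent.R2.H31.PiCx Groth.Agent.R2.H31.Tri Groth.Agent.R2.H31.DComp
  Groth.Agent.R2.H31.Univ Groth.Agent.R2.H31.Amp Groth.Agent.Lib.Helper17.KInj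
  Groth.Agent.Lib.Helper17.QProd Groth.Agent.Lib.Helper10.DerComplete

variable {A : Type u} [CommRing A]

section Unit

variable (K : DRing.Cx A) (RG : Dual.D A ⥤ Dual.D A) (β : DRing.homCxQ K ⟶ Q ⋙ RG)
  [RG.IsRightDerivedFunctor β (HomologicalComplex.quasiIso (ModuleCat.{u} A) (ComplexShape.up ℤ))]

lemma isIso_app_of_fibrant (I : DRing.Cx A) (hI : fibrant.{u} (ModuleCat.{u} A) I) :
    IsIso (β.app I) :=
  (fibLocalizerMorphism_derives.{u} _
    (isInvertedBy_homCxQ K)).isIso_of_isRightDerivedFunctor β ⟨I, hI⟩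

lemma isIso_app_of_isKInjective (I : DRing.Cx A) [I.IsKInjective] : IsIso (β.app I) := by
  have hι := trivCof_fibReplι₀.{u} (ModuleCat.{u} A) I
  have := hι.2
  have := (fibrant_fibRepl₀.{u} (ModuleCat.{u} A) I).isKInjective
  obtain ⟨ι, hι'⟩ : ∃ ι : I ⟶ (fibRepl₀.{u} (ModuleCat.{u} A)).obj I,
    ι = (fibReplι₀.{u} (ModuleCat.{u} A)).app I := ⟨_, rfl⟩
  have : QuasiIso ι := by rw [hι']; infer_instance
  obtain ⟨e, he⟩ := homotopyEquiv_of_quasiIso ι
  rw [hι'] at he
  have := isIso_app_of_fibrant K RG β _ (fibrant_fibRepl₀.{u} (ModuleCat.{u} A) I)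
  have nat := β.naturality ((fibReplι₀.{u} (ModuleCat.{u} A)).app I)
  have : IsIso ((DRing.homCxQ K).map ((fibReplι₀.{u} (ModuleCat.{u} A)).app I)) :=
    isInvertedBy_homCxQ K _ ⟨e, he⟩
  have : IsIso ((DerivedCategory.Q ⋙ RG).map ((fibReplι₀.{u} (ModuleCat.{u} A)).app I)) := by
    dsimp
    infer_instance
  have h2 : β.app I = (DRing.homCxQ K).map ((fibReplι₀.{u} (ModuleCat.{u} A)).app I) ≫
      β.app ((fibRepl₀.{u} (ModuleCat.{u} A)).obj I) ≫
      inv ((DerivedCategory.Q ⋙ RG).map ((fibReplι₀.{u} (ModuleCat.{u} A)).app I)) := by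
    rw [← Category.assoc, IsIso.eq_comp_inv]
    exact nat.symm
  rw [h2]
  infer_instance

end Unit

section KInj

instance isKInjective_piCx (E : DRing.Cx A) [E.IsKInjective] : (piCx E).IsKInjective := by
  have : (prodCx (fun _ : ℕ => E)).IsKInjective := isKInjective_prodCx _
  have e : prodCx (fun _ : ℕ => E) ≅ piCx E :=
    (isLimitProdCx (fun _ : ℕ => E)).conePointUniqueUpToIso (isLimitPiCx E)
  exact isKInjective_of_iso e

variable (K : DRing.Cx A)

/-- `Hom•(K, -)` preserves `f`-local K-injective complexes. -/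
lemma isLoc_Q_homCx (f : A) (E : DRing.Cx A) [E.IsKInjective] (h : IsLoc f (Q.obj E)) :
    IsLoc f (Q.obj ((DRing.homCxFunctor K).obj E)) := by
  have h1 : IsIso (Q.map (f • 𝟙 E)) := by
    rw [Functor.map_smul, CategoryTheory.Functor.map_id]
    exact h
  have h2 : QuasiIso (f • 𝟙 E) := (isIso_Q_map_iff_quasiIso _ _).1 h1
  obtain ⟨e, he⟩ := homotopyEquiv_of_quasiIso (f • 𝟙 E)
  have h3 : QuasiIso ((DRing.homCxFunctor K).map (f • 𝟙 E)) := by
    rw [← he]
    exact (homCxHomotopyEquiv K e).quasiIso_hom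
  rw [homCxFunctor_map_smul, CategoryTheory.Functor.map_id] at h3
  have h4 : IsIso (Q.map (f • 𝟙 ((DRing.homCxFunctor K).obj E))) :=
    (isIso_Q_map_iff_quasiIso _ _).2 h3
  rw [Functor.map_smul, CategoryTheory.Functor.map_id] at h4
  exact h4

/-- `Hom•(K, -)` preserves `f`-complete K-injective complexes. -/
lemma isCpl_Q_homCx (f : A) (E : DRing.Cx A) [E.IsKInjective] (h : IsCpl f (Q.obj E)) :
    IsCpl f (Q.obj ((DRing.homCxFunctor K).obj E)) := by
  have hc := (orth_iff_crit f (Q.obj E)).1 ((isCpl_iff_orth f (Q.obj E)).1 h)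
  have hc' : ∀ i, Crit f (E.homology i) := fun i =>
    (hc i).of_linearEquiv ((homologyFunctorFactors (ModuleCat.{u} A) i).app E).toLinearEquiv
  have h1 : QuasiIso (piCxD f E) := quasiIso_piCxD E f hc'
  obtain ⟨e, he⟩ := homotopyEquiv_of_quasiIso (piCxD f E)
  have h2 := quasiIso_piCxD_homCx K f E e he
  have hD : IsIso ((isPow_Q_piCx ((DRing.homCxFunctor K).obj E)).D f) := by
    rw [← Q_map_piCxD]
    infer_instance
  exact (isPow_Q_piCx ((DRing.homCxFunctor K).obj E)).isCpl_of_isIso_D f hD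

end KInj

section Abstract

universe w' v' u'

variable {C : Type u'} [Category.{v'} C] [Preadditive C] [HasZeroObject C] [HasShift C ℤ]
  [∀ n : ℤ, (CategoryTheory.shiftFunctor C n).Additive] [Pretriangulated C]
  {R : Type w'} [CommRing R] [Linear R C] [∀ n : ℤ, (CategoryTheory.shiftFunctor C n).Linear R]

/-- the first map of a distinguished triangle with `f`-local third object is universal towards
`f`-complete objects. -/
lemma bijective_comp_of_isLoc_obj₃ (f : R) (T : Triangle C) (hT : T ∈ distTriang C)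
    (hZ : IsLoc f T.obj₃) {E : C} (hE : IsCpl f E) :
    Function.Bijective (fun ψ : T.obj₂ ⟶ E => T.mor₁ ≫ ψ) := by
  constructor
  · intro ψ ψ' h
    dsimp at h
    have h0 : T.mor₁ ≫ (ψ - ψ') = 0 := by rw [Preadditive.comp_sub, h, sub_self]
    obtain ⟨θ, hθ⟩ : ∃ θ : T.obj₃ ⟶ E, ψ - ψ' = T.mor₂ ≫ θ := Triangle.yoneda_exact₂ _ hT _ h0
    have : θ = 0 := hE _ hZ θ
    rw [this, comp_zero] at hθ
    exact sub_eq_zero.1 hθ
  · intro φ
    have hT' := inv_rot_of_distTriang _ hT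
    have h0 : T.invRotate.mor₁ ≫ φ = 0 := hE _ (hZ.shift f (-1)) _
    obtain ⟨g, hg⟩ : ∃ g : T.obj₂ ⟶ E, φ = T.mor₁ ≫ g := Triangle.yoneda_exact₂ _ hT' φ h0
    exact ⟨g, hg.symm⟩

end Abstract

section Step

variable (K : DRing.Cx A) (f : A) (J : DRing.Cx A) [J.IsKInjective]

/-- one step of derived completion on K-injective complexes, compatible with `Hom•(K, -)`. -/
theorem exists_step : ∃ (J' : DRing.Cx A) (_ : J'.IsKInjective) (η : J ⟶ J'),
    IsCpl f (Q.obj J') ∧ (∀ Y : Dual.D A, Orth Y (Q.obj J) → Orth Y (Q.obj J')) ∧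
    (∀ E : Dual.D A, IsCpl f E → Function.Bijective (fun ψ : Q.obj J' ⟶ E => Q.map η ≫ ψ)) ∧
    (∀ E : Dual.D A, IsCpl f E → Function.Bijective
      (fun ψ : Q.obj ((DRing.homCxFunctor K).obj J') ⟶ E =>
        Q.map ((DRing.homCxFunctor K).map η) ≫ ψ)) := by
  let D : piCx J ⟶ piCx J := piCxD f J
  let C0 : DRing.Cx A := mappingCocone D
  let γ : C0 ⟶ J := mappingCocone.fst D ≫ piCxπ J 0
  let J' : DRing.Cx A := mappingCone γ
  have hJ' : J'.IsKInjective := isKInjective_mappingCone γ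
  let η : J ⟶ J' := mappingCone.inr γ
  have hT1' := mappingCocone_triangle_distinguished D
  have hT2' := mappingCone_triangle_distinguished γ
  obtain ⟨a, ha⟩ : ∃ a : Q.obj (piCx J) ⟶ (Q.obj C0)⟦(1 : ℤ)⟧,
    a = (Q.mapTriangle.obj (mappingCocone.triangle D)).mor₃ := ⟨_, rfl⟩
  obtain ⟨ε, hε⟩ : ∃ ε : Q.obj J' ⟶ (Q.obj C0)⟦(1 : ℤ)⟧,
    ε = (Q.mapTriangle.obj (mappingCone.triangle γ)).mor₃ := ⟨_, rfl⟩
  have hT1 : Triangle.mk ((isPow_Q_piCx J).D f) a
      (-(Q.map (mappingCocone.fst D))⟦(1 : ℤ)⟧') ∈ distTriang (Dual.D A) := by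
    rw [← Q_map_piCxD]
    subst ha
    exact rot_of_distTriang _ hT1'
  have hT2 : Triangle.mk (Q.map η) ε
      ((-(Q.map (mappingCocone.fst D))⟦(1 : ℤ)⟧') ≫ (Q.map (piCxπ J 0))⟦(1 : ℤ)⟧') ∈
      distTriang (Dual.D A) := by
    have h := rot_of_distTriang _ hT2'
    have e : (-(Q.map (mappingCocone.fst D))⟦(1 : ℤ)⟧') ≫ (Q.map (piCxπ J 0))⟦(1 : ℤ)⟧' =
        -(Q.map γ)⟦(1 : ℤ)⟧' := by
      rw [Preadditive.neg_comp, ← Functor.map_comp, ← Functor.map_comp]
    rw [e]
    subst hε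
    exact h
  let d : CplData f (Q.obj J) :=
    { P := Q.obj (piCx J)
      π := fun n => Q.map (piCxπ J n)
      hP := isPow_Q_piCx J
      Cc := (Q.obj C0)⟦(1 : ℤ)⟧
      a := a
      b := -(Q.map (mappingCocone.fst D))⟦(1 : ℤ)⟧'
      hT1 := hT1
      Kf := Q.obj J'
      η := Q.map η
      ε := ε
      hT2 := hT2 }
  refine ⟨J', hJ', η, d.isCpl_Kf, fun Y h => d.orth_Kf h, fun E hE => d.bijective_comp_η hE, ?_⟩
  intro E hE
  have hS := shortExact_homCx K (mappingCone.triangleRotateShortComplex γ)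
    (mappingCone.triangleRotateShortComplexSplitting γ)
  have hT := triangleOfSES_distinguished hS
  have hloc0 : IsLoc f (Q.obj (C0⟦(1 : ℤ)⟧)) :=
    d.isLoc_Cc.of_iso f ((Q.commShiftIso (1 : ℤ)).app C0).symm
  have hloc : IsLoc f (Q.obj ((DRing.homCxFunctor K).obj (C0⟦(1 : ℤ)⟧))) :=
    isLoc_Q_homCx K f _ hloc0
  exact bijective_comp_of_isLoc_obj₃ f _ hT hloc hE

end Step

section ListStep

variable (K : DRing.Cx A)

/-- derived completion along a finite list on K-injective complexes, compatible with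
`Hom•(K, -)`. -/
theorem exists_list (l : List A) (J : DRing.Cx A) [J.IsKInjective] :
    ∃ (J' : DRing.Cx A) (_ : J'.IsKInjective) (η : J ⟶ J'),
      (∀ g ∈ l, IsCpl g (Q.obj J')) ∧
      (∀ E : Dual.D A, (∀ g ∈ l, IsCpl g E) →
        Function.Bijective (fun ψ : Q.obj J' ⟶ E => Q.map η ≫ ψ)) ∧
      (∀ E : Dual.D A, (∀ g ∈ l, IsCpl g E) → Function.Bijective
        (fun ψ : Q.obj ((DRing.homCxFunctor K).obj J') ⟶ E =>
          Q.map ((DRing.homCxFunctor K).map η) ≫ ψ)) := by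
  induction l with
  | nil =>
    refine ⟨J, inferInstance, 𝟙 J, by simp, fun E _ => ?_, fun E _ => ?_⟩
    · simp only [CategoryTheory.Functor.map_id, Category.id_comp]
      exact Function.bijective_id
    · simp only [CategoryTheory.Functor.map_id, Category.id_comp]
      exact Function.bijective_id
  | cons g l ih =>
    obtain ⟨J₁, hJ₁, η₁, h₁, u₁, v₁⟩ := ih
    obtain ⟨J₂, hJ₂, η₂, h₂, o₂, u₂, v₂⟩ := exists_step K g J₁
    refine ⟨J₂, hJ₂, η₁ ≫ η₂, ?_, ?_, ?_⟩
    · intro g' hg'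
      rcases List.mem_cons.1 hg' with rfl | hg'
      · exact h₂
      · exact (isCpl_iff_orth g' _).2 (o₂ _ ((isCpl_iff_orth g' _).1 (h₁ g' hg')))
    · intro E hE
      have b₂ := u₂ E (hE g (List.mem_cons_self))
      have b₁ := u₁ E (fun g' hg' => hE g' (List.mem_cons_of_mem _ hg'))
      have : (fun ψ : Q.obj J₂ ⟶ E => Q.map (η₁ ≫ η₂) ≫ ψ) =
          (fun ψ : Q.obj J₁ ⟶ E => Q.map η₁ ≫ ψ) ∘ (fun ψ : Q.obj J₂ ⟶ E => Q.map η₂ ≫ ψ) := by
        funext ψ
        simp
      rw [this]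
      exact b₁.comp b₂
    · intro E hE
      have b₂ := v₂ E (hE g (List.mem_cons_self))
      have b₁ := v₁ E (fun g' hg' => hE g' (List.mem_cons_of_mem _ hg'))
      have : (fun ψ : Q.obj ((DRing.homCxFunctor K).obj J₂) ⟶ E =>
          Q.map ((DRing.homCxFunctor K).map (η₁ ≫ η₂)) ≫ ψ) =
          (fun ψ : Q.obj ((DRing.homCxFunctor K).obj J₁) ⟶ E =>
            Q.map ((DRing.homCxFunctor K).map η₁) ≫ ψ) ∘
          (fun ψ : Q.obj ((DRing.homCxFunctor K).obj J₂) ⟶ E =>
            Q.map ((DRing.homCxFunctor K).map η₂) ≫ ψ) := by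
        funext ψ
        simp
      rw [this]
      exact b₁.comp b₂

end ListStep

section Main

omit [CommRing A] in
lemma bijective_comp_iso {C : Type*} [Category C] {X X' Y Y' E : C} (e₁ : X' ≅ X)
    (e₂ : Y ≅ Y') (η : X ⟶ Y) (h : Function.Bijective (fun ψ : Y ⟶ E => η ≫ ψ)) :
    Function.Bijective (fun ψ : Y' ⟶ E => (e₁.hom ≫ η ≫ e₂.hom) ≫ ψ) := by
  have : (fun ψ : Y' ⟶ E => (e₁.hom ≫ η ≫ e₂.hom) ≫ ψ) =
      (fun ψ : X ⟶ E => e₁.hom ≫ ψ) ∘ (fun ψ : Y ⟶ E => η ≫ ψ) ∘
        (fun ψ : Y' ⟶ E => e₂.hom ≫ ψ) := by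
    funext ψ
    simp
  rw [this]
  refine Function.Bijective.comp ?_ (h.comp ?_)
  · exact ⟨fun ψ ψ' hh => (cancel_epi e₁.hom).1 hh, fun ψ => ⟨e₁.inv ≫ ψ, by simp⟩⟩
  · exact ⟨fun ψ ψ' hh => (cancel_epi e₂.hom).1 hh, fun ψ => ⟨e₂.inv ≫ ψ, by simp⟩⟩

/-- `RHom(K, L^)` is the derived completion of `RHom(K, L)`. -/
theorem rhomCx_completion (I : Ideal A) (hI : I.FG) [DRing.HasDerivedCompletion I]
    (K : DRing.Cx A) [DRing.HasRHomCx K] (L : Dual.D A) :
    DRing.IsDerivedComplete I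
        ((DRing.RHomCx K).obj ((DRing.derivedCompletion I).obj L).obj) ∧
      ∀ E : Dual.D A, DRing.IsDerivedComplete I E →
        Function.Bijective
          (fun φ : (DRing.RHomCx K).obj ((DRing.derivedCompletion I).obj L).obj ⟶ E =>
            (DRing.RHomCx K).map (DRing.toDerivedCompletion I L) ≫ φ) := by
  obtain ⟨s, rfl⟩ := hI
  -- the unit of the derived functor
  let β : DRing.homCxQ K ⟶ Q ⋙ DRing.RHomCx K :=
    (DRing.homCxQ K).totalRightDerivedUnit Q
      (HomologicalComplex.quasiIso (ModuleCat.{u} A) (ComplexShape.up ℤ))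
  -- a K-injective model of `L`
  let L' : DRing.Cx A := Q.objPreimage L
  let J : DRing.Cx A := (fibRepl₀.{u} (ModuleCat.{u} A)).obj L'
  have hJ : J.IsKInjective := (fibrant_fibRepl₀.{u} (ModuleCat.{u} A) L').isKInjective
  let ι : L' ⟶ J := (fibReplι₀.{u} (ModuleCat.{u} A)).app L'
  have hι : QuasiIso ι := (trivCof_fibReplι₀.{u} (ModuleCat.{u} A) L').2
  let e : Q.obj J ≅ L := (asIso (Q.map ι)).symm ≪≫ Q.objObjPreimageIso L
  obtain ⟨J', hJ', η, hc, hu, hv⟩ := exists_list K s.toList J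
  have hβJ : IsIso (β.app J) := isIso_app_of_isKInjective K _ β J
  have hβJ' : IsIso (β.app J') := isIso_app_of_isKInjective K _ β J'
  -- completeness
  have hcJ' : DRing.IsDerivedComplete (Ideal.span (s : Set A)) (Q.obj J') := by
    apply isDerivedComplete_of_generators
    intro g hg
    exact hc g (Finset.mem_toList.2 hg)
  have hcGJ' : DRing.IsDerivedComplete (Ideal.span (s : Set A))
      (Q.obj ((DRing.homCxFunctor K).obj J')) := by
    apply isDerivedComplete_of_generators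
    intro g hg
    exact isCpl_Q_homCx K g J' (hc g (Finset.mem_toList.2 hg))
  -- the comparison with the abstract completion
  have huniv : IsUniv (DRing.IsDerivedComplete (Ideal.span (s : Set A))) (e.inv ≫ Q.map η) := by
    intro E hE
    have hb := hu E (fun g hg => (isDerivedComplete_iff_isCpl _ E).1 hE g
      (Ideal.subset_span (Finset.mem_toList.1 hg)))
    have := bijective_comp_iso e.symm (Iso.refl _) (Q.map η) hb
    simpa using this
  obtain ⟨θ, hθ⟩ := (isUniv_toDerivedCompletion (Ideal.span (s : Set A)) L).exists_iso huniv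
    ((DRing.derivedCompletion (Ideal.span (s : Set A))).obj L).property hcJ'
  -- the iso `RHom(K, L^) ≅ Q Hom(K, J')`
  let e₂ : Q.obj ((DRing.homCxFunctor K).obj J') ≅
      (DRing.RHomCx K).obj ((DRing.derivedCompletion (Ideal.span (s : Set A))).obj L).obj :=
    asIso (β.app J') ≪≫ (DRing.RHomCx K).mapIso θ.symm
  let e₁ : (DRing.RHomCx K).obj L ≅ Q.obj ((DRing.homCxFunctor K).obj J) :=
    (DRing.RHomCx K).mapIso e.symm ≪≫ (asIso (β.app J)).symm
  have key : (DRing.RHomCx K).map (DRing.toDerivedCompletion (Ideal.span (s : Set A)) L) =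
      e₁.hom ≫ Q.map ((DRing.homCxFunctor K).map η) ≫ e₂.hom := by
    have h1 : DRing.toDerivedCompletion (Ideal.span (s : Set A)) L =
        e.inv ≫ Q.map η ≫ θ.inv := by
      rw [← Category.assoc, ← hθ, Category.assoc, θ.hom_inv_id, Category.comp_id]
    have nat : β.app J ≫ (DRing.RHomCx K).map (Q.map η) =
        Q.map ((DRing.homCxFunctor K).map η) ≫ β.app J' := (β.naturality η).symm
    rw [h1, Functor.map_comp, Functor.map_comp]
    dsimp only [e₁, e₂, Iso.trans_hom, Iso.symm_hom, Functor.mapIso_hom, asIso_hom, asIso_inv,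
      Functor.mapIso_inv, Iso.symm_inv]
    have h2 : (DRing.RHomCx K).map (Q.map η) =
        inv (β.app J) ≫ Q.map ((DRing.homCxFunctor K).map η) ≫ β.app J' := by
      rw [← nat, IsIso.inv_hom_id_assoc]
    rw [h2]
    simp only [Category.assoc]
  refine ⟨isDerivedComplete_of_iso _ e₂ hcGJ', fun E hE => ?_⟩
  have hb := hv E (fun g hg => (isDerivedComplete_iff_isCpl _ E).1 hE g
    (Ideal.subset_span (Finset.mem_toList.1 hg)))
  rw [key]
  exact bijective_comp_iso e₁ e₂ _ hb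

end Main

end Groth.Agent.R2.H31.RHom
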