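import Mathlib
import Groth.Prelude.Def_DRing4
import Groth.Agent.R2.H31HomPre
import Groth.Agent.R2.H30HomCx
import Groth.Agent.R2.H31RHom2

/-!
# Duals of perfect complexes (helper31)

* `precompClass_bijective`, `quasiIso_homCxPre`: `Hom•(-, I)` preserves quasi-isomorphisms for
  K-injective `I`.
* `rhomCx_iso_of_isKProjective`: `RHom(E, L) ≅ Hom•(P, L)` for `P` K-projective isomorphic to `E`
  in the derived category.
* the dual of a strictly perfect complex and biduality.
-/

set_option autoImplicit false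
universe u
open CategoryTheory Limits HomologicalComplex CochainComplex HomComplex

namespace Groth.Agent.R2.H31.Dual

section General

variable {C : Type*} [Category C] [Abelian C] [HasDerivedCategory C]
variable {K K' : CochainComplex C ℤ} (f : K' ⟶ K) (L : CochainComplex C ℤ) (n : ℤ)

/-- precomposition on cocycles, as an additive map -/
def precompCocycle : Cocycle K L n →+ Cocycle K' L n where
  toFun z := z.precomp f
  map_zero' := by ext p q hpq; simp
  map_add' z z' := by ext p q hpq; simp

omit [HasDerivedCategory C] in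
lemma precomp_mem_coboundaries (z : Cocycle K L n) (hz : z ∈ coboundaries K L n) :
    z.precomp f ∈ coboundaries K' L n := by
  rw [mem_coboundaries_iff z (n - 1) (by simp)] at hz
  obtain ⟨β, hβ⟩ := hz
  rw [mem_coboundaries_iff _ (n - 1) (by simp)]
  refine ⟨(Cochain.ofHom f).comp β (zero_add _), ?_⟩
  rw [δ_ofHom_comp, hβ]
  rfl

/-- precomposition on cohomology classes -/
def precompClass : CohomologyClass K L n →+ CohomologyClass K' L n :=
  CohomologyClass.descAddMonoidHom
    ((CohomologyClass.mkAddMonoidHom K' L n).comp (precompCocycle f L n)) (by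
    intro z hz
    rw [AddMonoidHom.mem_ker, AddMonoidHom.comp_apply]
    exact (CohomologyClass.mk_eq_zero_iff _).2 (precomp_mem_coboundaries f L n z hz))

lemma precompClass_mk (z : Cocycle K L n) :
    precompClass f L n (CohomologyClass.mk z) = CohomologyClass.mk (z.precomp f) := rfl

lemma toHom_precompClass (x : CohomologyClass K L n) :
    CohomologyClass.toHom (precompClass f L n x) =
      (HomotopyCategory.quotient C _).map f ≫ CohomologyClass.toHom x := by
  obtain ⟨z, rfl⟩ := x.mk_surjective
  rw [precompClass_mk, CohomologyClass.toHom_mk, CohomologyClass.toHom_mk,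
    Cocycle.equivHomShift_symm_precomp, Functor.map_comp]

theorem precompClass_bijective [L.IsKInjective] [QuasiIso f] :
    Function.Bijective (precompClass f L n) := by
  have hiso : IsIso (DerivedCategory.Qh.map ((HomotopyCategory.quotient C _).map f)) := by
    have h := DerivedCategory.quotientCompQhIso_hom_naturality f
    have : DerivedCategory.Qh.map ((HomotopyCategory.quotient C _).map f) =
        (DerivedCategory.quotientCompQhIso C).hom.app _ ≫ DerivedCategory.Q.map f ≫
          (DerivedCategory.quotientCompQhIso C).inv.app _ := by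
      rw [← reassoc_of% h]; simp
    rw [this]; infer_instance
  have hsq : ∀ x, DerivedCategory.Qh.map (CohomologyClass.toHom (precompClass f L n x)) =
      DerivedCategory.Qh.map ((HomotopyCategory.quotient C _).map f) ≫
        DerivedCategory.Qh.map (CohomologyClass.toHom x) := by
    intro x; rw [toHom_precompClass, Functor.map_comp]
  have b1 := (CochainComplex.IsKInjective.Qh_map_bijective
    ((HomotopyCategory.quotient C _).obj K) (L⟦n⟧)).comp (CohomologyClass.toHom_bijective K L n)
  have b2 := (CochainComplex.IsKInjective.Qh_map_bijective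
    ((HomotopyCategory.quotient C _).obj K') (L⟦n⟧)).comp (CohomologyClass.toHom_bijective K' L n)
  constructor
  · intro x y hxy
    apply b1.1
    have := congrArg (fun t => DerivedCategory.Qh.map (CohomologyClass.toHom t)) hxy
    simp only [hsq] at this
    exact (cancel_epi _).1 this
  · intro y
    obtain ⟨x, hx⟩ := b1.2 (inv (DerivedCategory.Qh.map ((HomotopyCategory.quotient C _).map f)) ≫
      DerivedCategory.Qh.map (CohomologyClass.toHom y))
    refine ⟨x, b2.1 ?_⟩
    change DerivedCategory.Qh.map (CohomologyClass.toHom (precompClass f L n x)) = _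
    rw [hsq]
    change DerivedCategory.Qh.map (CohomologyClass.toHom x) = _ at hx
    rw [hx]; simp

/-- bijectivity of precomposition on cohomology classes from bijectivity in the derived category -/
theorem precompClass_bijective_of_Q [L.IsKInjective]
    (hQ : Function.Bijective (fun ψ : DerivedCategory.Q.obj K ⟶ DerivedCategory.Q.obj (L⟦n⟧) =>
      DerivedCategory.Q.map f ≫ ψ)) :
    Function.Bijective (precompClass f L n) := by
  have hfac : DerivedCategory.Qh.map ((HomotopyCategory.quotient C _).map f) =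
      (DerivedCategory.quotientCompQhIso C).hom.app _ ≫ DerivedCategory.Q.map f ≫
        (DerivedCategory.quotientCompQhIso C).inv.app _ := by
    have h := DerivedCategory.quotientCompQhIso_hom_naturality f
    rw [← reassoc_of% h]; simp
  have hP : Function.Bijective
      (fun ψ : DerivedCategory.Qh.obj ((HomotopyCategory.quotient C _).obj K) ⟶
        DerivedCategory.Qh.obj ((HomotopyCategory.quotient C _).obj (L⟦n⟧)) =>
        DerivedCategory.Qh.map ((HomotopyCategory.quotient C _).map f) ≫ ψ) := by
    let a := (DerivedCategory.quotientCompQhIso C).app K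
    let a' := (DerivedCategory.quotientCompQhIso C).app K'
    let b := (DerivedCategory.quotientCompQhIso C).app (L⟦n⟧)
    have : (fun ψ : DerivedCategory.Qh.obj ((HomotopyCategory.quotient C _).obj K) ⟶
        DerivedCategory.Qh.obj ((HomotopyCategory.quotient C _).obj (L⟦n⟧)) =>
        DerivedCategory.Qh.map ((HomotopyCategory.quotient C _).map f) ≫ ψ) =
        (Iso.homCongr a' b).symm ∘ (fun ψ : DerivedCategory.Q.obj K ⟶ DerivedCategory.Q.obj (L⟦n⟧) =>
          DerivedCategory.Q.map f ≫ ψ) ∘ (Iso.homCongr a b) := by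
      funext ψ
      rw [hfac]
      simp [Iso.homCongr, a, a', b]
    rw [this]
    exact (Equiv.bijective _).comp (hQ.comp (Equiv.bijective _))
  have hsq : ∀ x, DerivedCategory.Qh.map (CohomologyClass.toHom (precompClass f L n x)) =
      DerivedCategory.Qh.map ((HomotopyCategory.quotient C _).map f) ≫
        DerivedCategory.Qh.map (CohomologyClass.toHom x) := by
    intro x; rw [toHom_precompClass, Functor.map_comp]
  have b1 := (CochainComplex.IsKInjective.Qh_map_bijective
    ((HomotopyCategory.quotient C _).obj K) (L⟦n⟧)).comp (CohomologyClass.toHom_bijective K L n)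
  have b2 := (CochainComplex.IsKInjective.Qh_map_bijective
    ((HomotopyCategory.quotient C _).obj K') (L⟦n⟧)).comp (CohomologyClass.toHom_bijective K' L n)
  constructor
  · intro x y hxy
    apply b1.1
    have := congrArg (fun t => DerivedCategory.Qh.map (CohomologyClass.toHom t)) hxy
    simp only [hsq] at this
    exact hP.1 this
  · intro y
    obtain ⟨ψ, hψ⟩ := hP.2 (DerivedCategory.Qh.map (CohomologyClass.toHom y))
    obtain ⟨x, hx⟩ := b1.2 ψ
    refine ⟨x, b2.1 ?_⟩
    change DerivedCategory.Qh.map (CohomologyClass.toHom (precompClass f L n x)) = _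
    rw [hsq]
    change DerivedCategory.Qh.map (CohomologyClass.toHom x) = _ at hx
    rw [hx]
    exact hψ

end General

section ModuleCat

open Groth.Agent.R2.H31.HomPre Groth.Agent.R2.H30.HomCx

attribute [local instance] HasDerivedCategory.standard

variable {A : Type u} [CommRing A]

/-- `Hom•(f, L)` is a quasi-isomorphism as soon as precomposition with `f` is bijective on
cohomology classes -/
theorem quasiIso_homCxPre_of_bijective {K K' : DRing.Cx A} (f : K' ⟶ K) (L : DRing.Cx A)
    (hbij : ∀ n : ℤ, Function.Bijective (precompClass f L n)) : QuasiIso (homCxPre f L) := by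
  rw [quasiIso_iff]
  intro n
  rw [quasiIsoAt_iff]
  have hb := hbij n
  have hm : (ComplexShape.up ℤ).prev n + 1 = n := by simp
  apply quasiIso_moduleCat_of
  · intro y hy
    change Cochain K' L n at y
    have hy' : δ n (n + 1) y = 0 := by
      have h1 : ((DRing.homCx K' L).d n ((ComplexShape.up ℤ).next n)).hom y = 0 := hy
      rw [homCx_d_apply] at h1
      rwa [CochainComplex.next] at h1
    obtain ⟨x, hx⟩ := hb.2 (CohomologyClass.mk (Cocycle.mk y (n + 1) rfl hy'))
    obtain ⟨z, rfl⟩ := x.mk_surjective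
    rw [precompClass_mk, ← sub_eq_zero, ← CohomologyClass.mk_sub, CohomologyClass.mk_eq_zero_iff,
      mem_coboundaries_iff _ _ hm] at hx
    obtain ⟨β, hβ⟩ := hx
    refine ⟨z.1, -β, ?_, ?_⟩
    · change δ n ((ComplexShape.up ℤ).next n) z.1 = 0
      exact z.δ_eq_zero _
    · change y = (Cochain.ofHom f).comp z.1 (zero_add n) + δ _ n (-β)
      rw [δ_neg, hβ]
      simp
  · intro x hx hw
    change Cochain K L n at x
    have hx' : δ n (n + 1) x = 0 := by
      have h1 : ((DRing.homCx K L).d n ((ComplexShape.up ℤ).next n)).hom x = 0 := hx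
      rw [homCx_d_apply] at h1
      rwa [CochainComplex.next] at h1
    obtain ⟨w', hw'⟩ := hw
    change (Cochain.ofHom f).comp x (zero_add n) = δ _ n w' at hw'
    have h0 : precompClass f L n (CohomologyClass.mk (Cocycle.mk x (n + 1) rfl hx')) = 0 := by
      rw [precompClass_mk, CohomologyClass.mk_eq_zero_iff, mem_coboundaries_iff _ _ hm]
      exact ⟨w', hw'.symm⟩
    have h1 : CohomologyClass.mk (Cocycle.mk x (n + 1) rfl hx') = 0 := hb.1 (by rw [h0, map_zero])
    rw [CohomologyClass.mk_eq_zero_iff, mem_coboundaries_iff _ _ hm] at h1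
    obtain ⟨β, hβ⟩ := h1
    exact ⟨β, hβ.symm⟩

/-- `Hom•(-, I)` preserves quasi-isomorphisms for K-injective `I` -/
theorem quasiIso_homCxPre {K K' : DRing.Cx A} (f : K' ⟶ K) [QuasiIso f] (L : DRing.Cx A)
    [L.IsKInjective] : QuasiIso (homCxPre f L) :=
  quasiIso_homCxPre_of_bijective f L (fun n => precompClass_bijective f L n)

/-- `RHom(E, L)` is computed by `Hom•(P, L)` for any K-projective `P` isomorphic to `E` in the
derived category. -/
theorem rhomCx_iso_of_isKProjective (E : DRing.Cx A) [DRing.HasRHomCx E] (P : DRing.Cx A)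
    [P.IsKProjective] (e : DerivedCategory.Q.obj P ≅ DerivedCategory.Q.obj E) (L : DRing.Cx A) :
    Nonempty ((DRing.RHomCx E).obj (DerivedCategory.Q.obj L) ≅
      DerivedCategory.Q.obj (DRing.homCx P L)) := by
  -- a K-injective resolution of `L`
  have hι := Groth.Agent.Lib.Helper17.KInj.trivCof_fibReplι₀.{u} (ModuleCat.{u} A) L
  have := hι.2
  have := (Groth.Agent.Lib.Helper17.KInj.fibrant_fibRepl₀.{u} (ModuleCat.{u} A) L).isKInjective
  obtain ⟨I, _, ι, hι'⟩ : ∃ (I : DRing.Cx A) (_ : I.IsKInjective) (ι : L ⟶ I), QuasiIso ι := by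
    refine ⟨(Groth.Agent.Lib.Helper17.KInj.fibRepl₀.{u} (ModuleCat.{u} A)).obj L, inferInstance,
      (Groth.Agent.Lib.Helper17.KInj.fibReplι₀.{u} (ModuleCat.{u} A)).app L, ?_⟩
    infer_instance
  -- a quasi-isomorphism `P ⟶ E`
  obtain ⟨f, hf⟩ := Groth.Agent.Lib.Helper21.SPerf.exists_map_eq_of_isKProjective P E e.hom
  have : IsIso (DerivedCategory.Q.map f) := by rw [hf]; infer_instance
  have : QuasiIso f := (DerivedCategory.isIso_Q_map_iff_quasiIso (φ := f)).1 inferInstance
  have h1 : QuasiIso (homCxPre f I) := quasiIso_homCxPre f I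
  have h2 : QuasiIso (DRing.homCxMap P ι) := quasiIso_homCxMap P ι
  have h1' : IsIso (DerivedCategory.Q.map (homCxPre f I)) := inferInstance
  have h2' : IsIso (DerivedCategory.Q.map (DRing.homCxMap P ι)) := inferInstance
  have h3 := Groth.Agent.R2.H31.RHom.isIso_app_of_isKInjective E (DRing.RHomCx E)
    ((DRing.homCxQ E).totalRightDerivedUnit DerivedCategory.Q
      (HomologicalComplex.quasiIso (ModuleCat.{u} A) (ComplexShape.up ℤ))) I
  let i1 : (DRing.RHomCx E).obj (DerivedCategory.Q.obj L) ≅
      (DRing.RHomCx E).obj (DerivedCategory.Q.obj I) :=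
    (DRing.RHomCx E).mapIso (asIso (DerivedCategory.Q.map ι))
  let i2 : DerivedCategory.Q.obj (DRing.homCx E I) ≅
      (DRing.RHomCx E).obj (DerivedCategory.Q.obj I) :=
    @asIso _ _ _ _ (((DRing.homCxQ E).totalRightDerivedUnit DerivedCategory.Q
      (HomologicalComplex.quasiIso (ModuleCat.{u} A) (ComplexShape.up ℤ))).app I) h3
  let i3 : DerivedCategory.Q.obj (DRing.homCx E I) ≅ DerivedCategory.Q.obj (DRing.homCx P I) :=
    asIso (DerivedCategory.Q.map (homCxPre f I))
  let i4 : DerivedCategory.Q.obj (DRing.homCx P L) ≅ DerivedCategory.Q.obj (DRing.homCx P I) :=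
    asIso (DerivedCategory.Q.map (DRing.homCxMap P ι))
  exact ⟨i1 ≪≫ i2.symm ≪≫ i3 ≪≫ i4.symm⟩

end ModuleCat

section DualCx

open Groth.Agent.R2.H31.HomPre

variable {A : Type u} [CommRing A]

/-- cochains into a module placed in degree `q` -/
noncomputable def toSingleLE (E : DRing.Cx A) (q : ℤ) (M : ModuleCat.{u} A) (n p : ℤ)
    (h : p + n = q) :
    Cochain E ((CochainComplex.singleFunctor (ModuleCat.{u} A) q).obj M) n ≃ₗ[A] (E.X p ⟶ M) :=
  { Cochain.toSingleEquiv (X := M) (K := E) h with
    map_smul' := fun a z => by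
      show (a • z).v p q h ≫ (HomologicalComplex.singleObjXSelf (.up ℤ) q M).hom =
        a • (z.v p q h ≫ (HomologicalComplex.singleObjXSelf (.up ℤ) q M).hom)
      rw [Cochain.smul_v]
      exact Linear.smul_comp (R := A) (C := ModuleCat.{u} A) _ _ _ _ _ _ }

lemma toSingleLE_toSingleMk (E : DRing.Cx A) (q : ℤ) (M : ModuleCat.{u} A) (n p : ℤ)
    (h : p + n = q) (φ : E.X p ⟶ M) :
    toSingleLE E q M n p h (Cochain.toSingleMk φ h) = φ :=
  Cochain.toSingleEquiv_toSingleMk φ h

lemma toSingleLE_δ (E : DRing.Cx A) (q : ℤ) (M : ModuleCat.{u} A) (n n' p p' : ℤ)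
    (h : p + n = q) (h' : p' + n' = q)
    (z : Cochain E ((CochainComplex.singleFunctor (ModuleCat.{u} A) q).obj M) n) :
    toSingleLE E q M n' p' h' (δ n n' z) =
      n'.negOnePow • (E.d p' p ≫ toSingleLE E q M n p h z) := by
  obtain ⟨φ, rfl⟩ := Cochain.toSingleMk_surjective z p h
  rw [Cochain.δ_toSingleMk φ h n' p' h', toSingleLE_toSingleMk, Units.smul_def, map_zsmul,
    toSingleLE_toSingleMk, Units.smul_def]

/-- the ring as a complex in degree `0` -/
noncomputable abbrev A0 (A : Type u) [CommRing A] : DRing.Cx A :=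
  (CochainComplex.singleFunctor (ModuleCat.{u} A) 0).obj (ModuleCat.of A A)

/-- the terms of the dual complex -/
noncomputable def dualLE (E : DRing.Cx A) (n p : ℤ) (h : p + n = 0) :
    Cochain E (A0 A) n ≃ₗ[A] Module.Dual A (E.X p) :=
  (toSingleLE E 0 (ModuleCat.of A A) n p h).trans (ModuleCat.homLinearEquiv (S := A))

lemma dualLE_δ (E : DRing.Cx A) (n n' p p' : ℤ) (h : p + n = 0) (h' : p' + n' = 0)
    (z : Cochain E (A0 A) n) :
    dualLE E n' p' h' (δ n n' z) = n'.negOnePow • (dualLE E n p h z) ∘ₗ (E.d p' p).hom := by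
  show (toSingleLE E 0 (ModuleCat.of A A) n' p' h' (δ n n' z)).hom = _
  rw [toSingleLE_δ E 0 (ModuleCat.of A A) n n' p p' h h' z]
  rfl

/-- the dual complex `Hom•(E, A)` -/
noncomputable abbrev dualCx (E : DRing.Cx A) : DRing.Cx A := DRing.homCx E (A0 A)

lemma vanishesOutside_dualCx (E : DRing.Cx A) (a b : ℤ) (hE : DRing.VanishesOutside E a b) :
    DRing.VanishesOutside (dualCx E) (-b) (-a) := by
  intro i hi
  have h0 : IsZero (E.X (-i)) := hE (-i) (by omega)
  have : Subsingleton (E.X (-i)) := ModuleCat.subsingleton_of_isZero h0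
  have : Subsingleton (Cochain E (A0 A) i) :=
    (dualLE E i (-i) (by omega)).toEquiv.subsingleton
  exact ModuleCat.isZero_of_subsingleton (ModuleCat.of A (Cochain E (A0 A) i))

lemma termwiseFiniteProjective_dualCx (E : DRing.Cx A) (hE : DRing.TermwiseFiniteProjective E) :
    DRing.TermwiseFiniteProjective (dualCx E) := by
  intro i
  have := (hE (-i)).1
  have := (hE (-i)).2
  let e := dualLE E i (-i) (by omega)
  exact ⟨Module.Finite.equiv e.symm, Module.Projective.of_equiv e.symm⟩

/-- the terms of the bidual complex -/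
noncomputable def biLE (E : DRing.Cx A) (n : ℤ) :
    Cochain (dualCx E) (A0 A) n ≃ₗ[A] Module.Dual A (Module.Dual A (E.X n)) :=
  (dualLE (dualCx E) n (-n) (by omega)).trans
    (LinearEquiv.dualMap (dualLE E (-n) n (by omega)).symm)

lemma biLE_apply (E : DRing.Cx A) (n : ℤ) (w : Cochain (dualCx E) (A0 A) n)
    (g : Module.Dual A (E.X n)) :
    biLE E n w g = dualLE (dualCx E) n (-n) (by omega) w
      ((dualLE E (-n) n (by omega)).symm g) := rfl

lemma biLE_δ (E : DRing.Cx A) (n : ℤ) (w : Cochain (dualCx E) (A0 A) n) :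
    biLE E (n + 1) (δ n (n + 1) w) =
      -((biLE E n w) ∘ₗ (E.d n (n + 1)).hom.dualMap) := by
  apply LinearMap.ext
  intro g'
  rw [biLE_apply, dualLE_δ (dualCx E) n (n + 1) (-n) (-(n + 1)) (by omega) (by omega) w]
  let D : Cochain E (A0 A) (-n) →ₗ[A] A := dualLE (dualCx E) n (-n) (by omega) w
  let y : Cochain E (A0 A) (-n) :=
    (dualLE E (-n) n (by omega)).symm (g' ∘ₗ (E.d n (n + 1)).hom)
  set z' := (dualLE E (-(n + 1)) (n + 1) (by omega)).symm g' with hz'
  have h2 : δ (-(n + 1)) (-n) z' = (-n).negOnePow • y := by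
    have : δ (-(n + 1)) (-n) z' = (dualLE E (-n) n (by omega)).symm
        ((-n).negOnePow • g' ∘ₗ (E.d n (n + 1)).hom) := by
      rw [LinearEquiv.eq_symm_apply,
        dualLE_δ E (-(n + 1)) (-n) (n + 1) n (by omega) (by omega) z', hz',
        LinearEquiv.apply_symm_apply]
    rw [this, Units.smul_def, map_zsmul, Units.smul_def]
  have h3 : ((n + 1).negOnePow • (dualLE (dualCx E) n (-n) (by omega) w) ∘ₗ
      ((dualCx E).d (-(n + 1)) (-n)).hom) z' = (n + 1).negOnePow • D ((-n).negOnePow • y) := by
    rw [← h2]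
    rfl
  have h4 : (-(biLE E n w ∘ₗ (E.d n (n + 1)).hom.dualMap)) g' = -D y := rfl
  refine h3.trans (Eq.trans ?_ h4.symm)
  rw [Units.smul_def ((-n).negOnePow), map_zsmul, Units.smul_def, smul_smul]
  have hs : (((n + 1).negOnePow : ℤˣ) : ℤ) * (((-n).negOnePow : ℤˣ) : ℤ) = -1 := by
    rw [Int.negOnePow_succ, Int.negOnePow_neg, Units.val_neg, neg_mul, ← Units.val_mul,
      Int.units_mul_self, Units.val_one]
  rw [hs, neg_one_zsmul]

/-- biduality for complexes of finite projective modules -/
noncomputable def bidualIso (E : DRing.Cx A) (hE : DRing.TermwiseFiniteProjective E) :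
    E ≅ dualCx (dualCx E) :=
  haveI : ∀ n, Module.Finite A (E.X n) := fun n => (hE n).1
  haveI : ∀ n, Module.Projective A (E.X n) := fun n => (hE n).2
  twistIso (-1) (fun n => (Module.evalEquiv A (E.X n)).trans (biLE E n).symm) (by
    intro n x
    apply (biLE E (n + 1)).injective
    show biLE E (n + 1) (δ n (n + 1) ((biLE E n).symm (Module.evalEquiv A (E.X n) x))) =
      biLE E (n + 1) ((-1 : ℤˣ) • (biLE E (n + 1)).symm
        (Module.evalEquiv A (E.X (n + 1)) ((E.d n (n + 1)).hom x)))
    rw [biLE_δ, LinearEquiv.apply_symm_apply, Units.smul_def, map_zsmul,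
      LinearEquiv.apply_symm_apply, Units.val_neg, Units.val_one, neg_one_zsmul]
    congr 1)

end DualCx

section Main

attribute [local instance] HasDerivedCategory.standard

variable (A : Type u) [CommRing A]

/-- the dual of a perfect complex is perfect, and biduality -/
theorem isPerfect_dual_and_double_dual (K : Dual.D A) (hK : DRing.IsPerfect A K)
    (E : DRing.Cx A) (eK : DRing.toD E ≅ K) [DRing.HasRHomCx E] :
    DRing.IsPerfect A ((DRing.RHomCx E).obj (Dual.inD A A)) ∧
      ∀ (E' : DRing.Cx A) (_ : DRing.toD E' ≅ (DRing.RHomCx E).obj (Dual.inD A A))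
        [DRing.HasRHomCx E'], Nonempty ((DRing.RHomCx E').obj (Dual.inD A A) ≅ K) := by
  obtain ⟨P, a, b, hP, hPp, ⟨e⟩⟩ := hK
  have : P.IsKProjective :=
    Groth.Agent.Lib.Helper1.LDer.isKProjective_of_vanishesAbove P b (fun i hi => hP i (Or.inr hi))
      (fun i => (hPp i).2)
  let iA : Dual.inD A A ≅ DerivedCategory.Q.obj (A0 A) :=
    (DerivedCategory.singleFunctorIsoCompQ (ModuleCat.{u} A) 0).app (ModuleCat.of A A)
  obtain ⟨i1⟩ := rhomCx_iso_of_isKProjective E P (e ≪≫ eK.symm) (A0 A)
  let j1 : (DRing.RHomCx E).obj (Dual.inD A A) ≅ DerivedCategory.Q.obj (dualCx P) :=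
    (DRing.RHomCx E).mapIso iA ≪≫ i1
  have hD := vanishesOutside_dualCx P a b hP
  have hDp := termwiseFiniteProjective_dualCx P hPp
  refine ⟨⟨dualCx P, -b, -a, hD, hDp, ⟨j1.symm⟩⟩, ?_⟩
  intro E' eK' _
  have : (dualCx P).IsKProjective :=
    Groth.Agent.Lib.Helper1.LDer.isKProjective_of_vanishesAbove (dualCx P) (-a)
      (fun i hi => hD i (Or.inr hi)) (fun i => (hDp i).2)
  obtain ⟨i2⟩ := rhomCx_iso_of_isKProjective E' (dualCx P) (j1.symm ≪≫ eK'.symm) (A0 A)
  exact ⟨(DRing.RHomCx E').mapIso iA ≪≫ i2 ≪≫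
    DerivedCategory.Q.mapIso (bidualIso P hPp).symm ≪≫ e⟩

end Main

end Groth.Agent.R2.H31.Dual
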