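import Mathlib
import Groth.Prelude.Def_DRing4
import Groth.Prelude.Def_DerCA
import Groth.Agent.R2.H31Dual
import Groth.Agent.R2.H61HT1
import Groth.Agent.Lib.Helper1ExtCech
import Groth.Agent.Lib.Helper1ExtCech4
import Groth.Agent.Lib.Helper1KF12
import Groth.Agent.Lib.Helper1DT5
import Groth.Agent.Lib.Helper1TorD

/-!
# Derived completion as `RHom` out of the extended Čech complex (helper31)
-/

set_option autoImplicit false

universe u

open CategoryTheory CategoryTheory.Limits CochainComplex CochainComplex.HomComplex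
  Pretriangulated DerivedCategory

attribute [local instance] HasDerivedCategory.standard

namespace Groth.Agent.R2.H31.CechRHom

open DerCA Groth.Agent.R2.H31.Tri Groth.Agent.R2.H31.DComp Groth.Agent.R2.H31.Univ
  Groth.Agent.R2.H31.Amp Groth.Agent.R2.H31.RHom Groth.Agent.R2.H31.Dual
  Groth.Agent.R2.H31.HomPre Groth.Agent.Lib.Helper1.ExtCech Groth.Agent.Lib.Helper1.ExtCech4

variable {A : Type u} [CommRing A]

section Loc

/-- `f` acts invertibly on a complex localized at `f` -/
lemma isIso_smul_locCx (f : A) (Y : DRing.Cx A) :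
    IsIso (f • 𝟙 ((locCx (Submonoid.powers f)).obj Y)) := by
  have : ∀ i, IsIso ((f • 𝟙 ((locCx (Submonoid.powers f)).obj Y)).f i) := fun i => by
    rw [ConcreteCategory.isIso_iff_bijective]
    have hu := IsLocalizedModule.map_units
      (LocalizedModule.mkLinearMap (Submonoid.powers f) (Y.X i)) ⟨f, Submonoid.mem_powers f⟩
    exact (Module.End.isUnit_iff _).1 hu
  exact HomologicalComplex.Hom.isIso_of_components _

lemma isLoc_Q_locCx (f : A) (Y : DRing.Cx A) :
    IsLoc f (Q.obj ((locCx (Submonoid.powers f)).obj Y)) := by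
  have := isIso_smul_locCx f Y
  have h : IsIso (Q.map (f • 𝟙 ((locCx (Submonoid.powers f)).obj Y))) := inferInstance
  rw [Functor.map_smul, CategoryTheory.Functor.map_id] at h
  exact h

end Loc

section Aug

/-- precomposition with the augmentation of the extended Čech complex is bijective on maps to
objects which are complete along the list -/
theorem bijective_comp_aug (M : ModuleCat.{u} A) (E : Dual.D A) :
    ∀ fs : List A, (∀ g ∈ fs, IsCpl g E) →
      Function.Bijective (fun ψ : Q.obj ((HomologicalComplex.single (ModuleCat.{u} A)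
        (ComplexShape.up ℤ) 0).obj M) ⟶ E => Q.map (aug M fs) ≫ ψ)
  | [], _ => by
    have : (fun ψ : Q.obj ((HomologicalComplex.single (ModuleCat.{u} A)
        (ComplexShape.up ℤ) 0).obj M) ⟶ E => Q.map (aug M []) ≫ ψ) = id := by
      funext ψ
      show Q.map (𝟙 _) ≫ ψ = ψ
      rw [CategoryTheory.Functor.map_id, Category.id_comp]
    rw [this]
    exact Function.bijective_id
  | f :: fs, h => by
    have ih := bijective_comp_aug M E fs (fun g hg => h g (List.mem_cons_of_mem _ hg))
    have hT := mappingCocone_triangle_distinguished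
      (locCxUnit (Submonoid.powers f) (extCech M fs))
    have hb := bijective_comp_of_isLoc_obj₃ f _ hT (isLoc_Q_locCx f (extCech M fs))
      (h f List.mem_cons_self)
    have : (fun ψ : Q.obj ((HomologicalComplex.single (ModuleCat.{u} A)
        (ComplexShape.up ℤ) 0).obj M) ⟶ E => Q.map (aug M (f :: fs)) ≫ ψ) =
        (fun ψ : Q.obj (extCech M fs) ⟶ E =>
          Q.map (mappingCocone.fst (locCxUnit (Submonoid.powers f) (extCech M fs))) ≫ ψ) ∘
        (fun ψ : Q.obj ((HomologicalComplex.single (ModuleCat.{u} A)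
          (ComplexShape.up ℤ) 0).obj M) ⟶ E => Q.map (aug M fs) ≫ ψ) := by
      funext ψ
      have h1 : Q.map (aug M (f :: fs)) =
          (Q.mapTriangle.obj (mappingCocone.triangle
            (locCxUnit (Submonoid.powers f) (extCech M fs)))).mor₁ ≫ Q.map (aug M fs) :=
        Q.map_comp (mappingCocone.fst (locCxUnit (Submonoid.powers f) (extCech M fs)))
          (aug M fs)
      exact (congrArg (· ≫ ψ) h1).trans (Category.assoc _ _ _)
    rw [this]
    exact Function.Bijective.comp hb ih

/-- for `J'` K-injective and complete along `fs`, `Hom•(aug, J')` is a quasi-isomorphism -/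
theorem quasiIso_homCxPre_aug (M : ModuleCat.{u} A) (fs : List A) (J' : DRing.Cx A)
    [J'.IsKInjective] (hc : ∀ g ∈ fs, IsCpl g (Q.obj J')) :
    QuasiIso (homCxPre (aug M fs) J') := by
  apply quasiIso_homCxPre_of_bijective
  intro n
  apply precompClass_bijective_of_Q
  have hE : ∀ g ∈ fs, IsCpl g (Q.obj (J'⟦n⟧)) := fun g hg =>
    IsCpl.of_iso g (IsCpl.shift g (hc g hg) n) ((Q.commShiftIso n).app J').symm
  exact bijective_comp_aug M (Q.obj (J'⟦n⟧)) fs hE

/-- `RHom(Č, J') ≅ J'` for `J'` K-injective and complete along `fs` -/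
theorem nonempty_iso_homCx_extCech (fs : List A) (J' : DRing.Cx A) [J'.IsKInjective]
    (hc : ∀ g ∈ fs, IsCpl g (Q.obj J')) :
    Nonempty (Q.obj (DRing.homCx (extCech (ModuleCat.of A A) fs) J') ≅ Q.obj J') := by
  have := quasiIso_homCxPre_aug (ModuleCat.of A A) fs J' hc
  have h1 : IsIso (Q.map (homCxPre (aug (ModuleCat.of A A) fs) J')) := inferInstance
  let i1 : Q.obj (DRing.homCx ((HomologicalComplex.single (ModuleCat.{u} A)
      (ComplexShape.up ℤ) 0).obj (ModuleCat.of A A)) J') ≅
      Q.obj (DRing.homCx (extCech (ModuleCat.of A A) fs) J') :=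
    @asIso _ _ _ _ (Q.map (homCxPre (aug (ModuleCat.of A A) fs) J')) h1
  let i2 : DRing.homCx ((HomologicalComplex.single (ModuleCat.{u} A)
      (ComplexShape.up ℤ) 0).obj (ModuleCat.of A A)) J' ≅ J'⟦(0 : ℤ)⟧ :=
    homSingleRingIso 0 J'
  exact ⟨i1.symm ≪≫ Q.mapIso i2 ≪≫ Q.mapIso ((shiftFunctorZero (DRing.Cx A) ℤ).app J')⟩

end Aug

section Flat

open Groth.Agent.Lib.Helper1.KF Groth.Agent.Lib.Helper1.DT MonoidalCategory

lemma termwiseFlat_locCx (S : Submonoid A) (K : DRing.Cx A) (hK : DRing.TermwiseFlat K) :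
    DRing.TermwiseFlat ((locCx S).obj K) := by
  intro i
  have := hK i
  have h1 : Module.Flat (Localization S) (LocalizedModule S (K.X i)) := inferInstance
  exact Module.Flat.trans A (Localization S) (LocalizedModule S (K.X i))

lemma termwiseFlat_extCech (M : ModuleCat.{u} A) [Module.Flat A M] :
    ∀ fs : List A, DRing.TermwiseFlat (extCech M fs)
  | [] => by
    intro i
    by_cases hi : i = 0
    · subst hi
      exact Module.Flat.of_linearEquiv
        (HomologicalComplex.singleObjXSelf (ComplexShape.up ℤ) 0 M).toLinearEquiv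
    · have : Subsingleton ((extCech M []).X i) := ModuleCat.subsingleton_of_isZero
        (HomologicalComplex.isZero_single_obj_X (ComplexShape.up ℤ) 0 M i hi)
      infer_instance
  | f :: fs => by
    have ih := termwiseFlat_extCech M fs
    intro i
    exact Groth.Agent.Lib.Helper1.Tor.termwiseFlat_mappingCone
      (locCxUnit (Submonoid.powers f) (extCech M fs)) ih
      (termwiseFlat_locCx (Submonoid.powers f) _ ih) (i + -1)

lemma vanishesAbove_extCech (M : ModuleCat.{u} A) :
    ∀ fs : List A, DRing.VanishesAbove (extCech M fs) fs.length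
  | [] => fun i hi => HomologicalComplex.isZero_single_obj_X (ComplexShape.up ℤ) 0 M i (by
      simp at hi; omega)
  | f :: fs => by
    have ih := vanishesAbove_extCech M fs
    have h2 : DRing.VanishesAbove ((locCx (Submonoid.powers f)).obj (extCech M fs)) fs.length :=
      fun i hi => (locFunctor (Submonoid.powers f)).map_isZero (ih i hi)
    have h3 := Groth.Agent.Lib.Helper1.Tor.vanishesAbove_mappingCone
      (locCxUnit (Submonoid.powers f) (extCech M fs)) _ _ ih h2
    intro i hi
    refine h3 (i + -1) ?_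
    simp only [List.length_cons, Nat.cast_add, Nat.cast_one] at hi
    rw [max_self]
    omega

lemma kflat_extCech (M : ModuleCat.{u} A) [Module.Flat A M] (fs : List A) :
    KFlat (extCech M fs) :=
  kflat_of_boundedAbove_flat _ fs.length (vanishesAbove_extCech M fs) (termwiseFlat_extCech M fs)

end Flat

section Cpl

open Groth.Agent.Lib.Helper1.KF Groth.Agent.Lib.Helper1.DT MonoidalCategory
  Groth.Agent.R2.H61.HT1 Groth.Agent.Lib.Helper17.KInj

lemma uncHom_zero (P E J : DRing.Cx A) : uncHom (0 : P ⟶ DRing.homCx E J) = 0 := by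
  apply ofHom_injective
  rw [ofHom_uncHom, Cochain.ofHom_zero, Cochain.ofHom_zero, unc_zero]

lemma acyclic_of_acyc {K : DRing.Cx A} (h : Acyc K) : K.Acyclic := fun i =>
  (HomologicalComplex.exactAt_iff_isZero_homology _ _).2 (h i)

/-- `Hom•(C, J)` is K-injective for `C` K-flat and `J` K-injective -/
lemma isKInjective_homCx (C J : DRing.Cx A) (hC : KFlat C) [J.IsKInjective] :
    (DRing.homCx C J).IsKInjective := by
  refine ⟨fun {Z} f hZ => ?_⟩
  have hZ' : Acyc Z := fun i => (HomologicalComplex.exactAt_iff_isZero_homology _ _).1 (hZ i)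
  have hZC : (Z ⊗ C).Acyclic := acyclic_of_acyc (hC Z hZ')
  obtain ⟨h⟩ := IsKInjective.nonempty_homotopy_zero (uncHom f) hZC
  exact homotopy_of_uncHom (h.trans (Homotopy.ofEq (uncHom_zero Z C J).symm))

/-- maps in the derived category from `Z` to `Hom•(C, J)` vanish if `Z ⊗ C` is acyclic -/
lemma eq_zero_of_acyc_tensor (Z C J : DRing.Cx A) (hC : KFlat C) [J.IsKInjective]
    (hZ : Acyc (Z ⊗ C)) (ψ : Q.obj Z ⟶ Q.obj (DRing.homCx C J)) : ψ = 0 := by
  have := isKInjective_homCx C J hC
  obtain ⟨α, rfl⟩ := exists_Q_map_eq ψ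
  obtain ⟨h⟩ := IsKInjective.nonempty_homotopy_zero (uncHom α) (acyclic_of_acyc hZ)
  obtain ⟨h'⟩ := homotopy_of_uncHom (h.trans (Homotopy.ofEq (uncHom_zero Z C J).symm))
  rw [DerivedCategory.Q_map_eq_of_homotopy _ h', Functor.map_zero]

omit [CommRing A] in
/-- orthogonality can be tested by shifting the source -/
lemma orth_of_shift_source {C : Type*} [Category C] [Preadditive C] [HasShift C ℤ]
    [∀ n : ℤ, (CategoryTheory.shiftFunctor C n).Additive] (Y K : C)
    (h : ∀ (n : ℤ) (φ : Y⟦n⟧ ⟶ K), φ = 0) : Orth Y K := by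
  intro n φ
  have h1 := h (-n) (φ⟦-n⟧' ≫ (shiftFunctorCompIsoId C n (-n) (by omega)).hom.app K)
  have h2 : φ⟦-n⟧' = 0 := by
    rw [← cancel_mono ((shiftFunctorCompIsoId C n (-n) (by omega)).hom.app K), h1, zero_comp]
  exact (CategoryTheory.shiftFunctor C (-n)).map_injective
    (h2.trans (Functor.map_zero _ _ _).symm)

/-- tensoring a `g`-power torsion module with the localization at `g` gives zero -/
lemma subsingleton_away_tensor (g : A) (H : Type*) [AddCommGroup H] [Module A H]
    (hH : PT g H) : Subsingleton (TensorProduct A (Localization.Away g) H) := by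
  refine ⟨fun t t' => ?_⟩
  have hz : ∀ t : TensorProduct A (Localization.Away g) H, t = 0 := by
    intro t
    induction t using TensorProduct.induction_on with
    | zero => rfl
    | tmul a x =>
      obtain ⟨n, hn⟩ := hH x
      have hu : IsUnit (algebraMap A (Localization.Away g) (g ^ n)) :=
        IsLocalization.map_units (Localization.Away g)
          (⟨g ^ n, ⟨n, rfl⟩⟩ : Submonoid.powers g)
      obtain ⟨u, hu'⟩ := hu
      have ha : a = (g ^ n) • (a * ↑u⁻¹) := by
        rw [Algebra.smul_def, ← hu', mul_comm a, ← mul_assoc, Units.mul_inv, one_mul]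
      rw [ha, TensorProduct.smul_tmul, hn, TensorProduct.tmul_zero]
    | add x y hx hy => rw [hx, hy, add_zero]
  rw [hz t, hz t']

/-- termwise tensor product with a flat module commutes with homology -/
lemma acyc_TCx_of_flat (M : ModuleCat.{u} A) [Module.Flat A M] (C : DRing.Cx A)
    (h : ∀ i : ℤ, IsZero (M ⊗ C.homology i)) : Acyc (TCx M C) := fun i =>
  IsZero.of_iso (h i) ((C.sc i).mapHomologyIso (tensorLeft M))

/-- `A_g ⊗ Č` is acyclic for `g` in the list -/
lemma acyc_sgl_tensor_extCech (fs : List A) (g : A) (hg : g ∈ fs) (n : ℤ) :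
    Acyc (((sgl (ModuleCat.of A (Localization.Away g)))⟦n⟧) ⊗
      extCech (ModuleCat.of A A) fs) := by
  have h1 : Acyc (TCx (ModuleCat.of A (Localization.Away g)) (extCech (ModuleCat.of A A) fs)) := by
    apply acyc_TCx_of_flat
    intro i
    have : Subsingleton (TensorProduct A (Localization.Away g)
        ((extCech (ModuleCat.of A A) fs).homology i)) :=
      subsingleton_away_tensor g _ (pt_extCechH fs (ModuleCat.of A A) g hg i)
    exact ModuleCat.isZero_of_subsingleton (ModuleCat.of A (TensorProduct A (Localization.Away g)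
        ((extCech (ModuleCat.of A A) fs).homology i)))
  have h2 : Acyc (sgl (ModuleCat.of A (Localization.Away g)) ⊗ extCech (ModuleCat.of A A) fs) :=
    h1.of_iso (singleTensorIso _ _)
  exact (h2.shift n).of_iso (tensorShiftLeftIso _ _ n).symm

/-- `RHom(Č, J)` is derived complete along the list -/
theorem isCpl_Q_homCx_extCech (fs : List A) (J : DRing.Cx A) [J.IsKInjective] (g : A)
    (hg : g ∈ fs) : IsCpl g (Q.obj (DRing.homCx (extCech (ModuleCat.of A A) fs) J)) := by
  apply (isCpl_iff_orth g _).2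
  apply orth_of_shift_source
  intro n φ
  have hC : KFlat (extCech (ModuleCat.of A A) fs) := kflat_extCech _ fs
  let e1 : Dual.inD A (Localization.Away g) ≅
      Q.obj (sgl (ModuleCat.of A (Localization.Away g))) :=
    (DerivedCategory.singleFunctorIsoCompQ (ModuleCat.{u} A) 0).app _
  let e2 : Q.obj ((sgl (ModuleCat.of A (Localization.Away g)))⟦n⟧) ≅
      (Q.obj (sgl (ModuleCat.of A (Localization.Away g))))⟦n⟧ :=
    (Q.commShiftIso n).app _
  have hz := eq_zero_of_acyc_tensor _ _ J hC (acyc_sgl_tensor_extCech fs g hg n)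
    (e2.hom ≫ (e1.inv)⟦n⟧' ≫ φ)
  have h3 : (e1.inv)⟦n⟧' ≫ φ = 0 := by
    rw [← cancel_epi e2.hom, hz, comp_zero]
  have : IsIso ((e1.inv)⟦n⟧') := inferInstance
  rw [← cancel_epi ((e1.inv)⟦n⟧'), h3, comp_zero]

end Cpl

section Main

open Groth.Agent.Lib.Helper17.KInj Groth.Agent.Lib.Helper10.DerComplete

omit [CommRing A] in
lemma isUniv_id {C : Type*} [Category C] (P : C → Prop) (T : C) : IsUniv P (𝟙 T) := by
  intro E _
  have : (fun ψ : T ⟶ E => 𝟙 T ≫ ψ) = id := by
    funext ψ
    simp
  rw [this]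
  exact Function.bijective_id

/-- derived completion is `RHom` out of the extended Čech complex -/
theorem derivedCompletion_iso_RHomCx_extCech (fs : List A) (I : Ideal A)
    (hI : Ideal.span {x : A | x ∈ fs} = I) [DRing.HasDerivedCompletion I]
    [DRing.HasRHomCx (extCech (ModuleCat.of A A) fs)] (K : Dual.D A) :
    Nonempty (((DRing.derivedCompletion I).obj K).obj ≅
      (DRing.RHomCx (extCech (ModuleCat.of A A) fs)).obj K) := by
  subst hI
  -- the unit of the derived functor
  let β : DRing.homCxQ (extCech (ModuleCat.of A A) fs) ⟶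
      Q ⋙ DRing.RHomCx (extCech (ModuleCat.of A A) fs) :=
    (DRing.homCxQ (extCech (ModuleCat.of A A) fs)).totalRightDerivedUnit Q
      (HomologicalComplex.quasiIso (ModuleCat.{u} A) (ComplexShape.up ℤ))
  -- a K-injective model of `K`
  let K' : DRing.Cx A := Q.objPreimage K
  let J : DRing.Cx A := (fibRepl₀.{u} (ModuleCat.{u} A)).obj K'
  have hJ : J.IsKInjective := (fibrant_fibRepl₀.{u} (ModuleCat.{u} A) K').isKInjective
  let ι : K' ⟶ J := (fibReplι₀.{u} (ModuleCat.{u} A)).app K'
  have hι : QuasiIso ι := (trivCof_fibReplι₀.{u} (ModuleCat.{u} A) K').2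
  let e : Q.obj J ≅ K := (asIso (Q.map ι)).symm ≪≫ Q.objObjPreimageIso K
  obtain ⟨J', hJ', η, hc, hu, hv⟩ := exists_list (extCech (ModuleCat.of A A) fs) fs J
  have hβJ : IsIso (β.app J) := isIso_app_of_isKInjective _ _ β J
  -- `T ≅ T'`
  have hT : ∀ g ∈ fs, IsCpl g (Q.obj (DRing.homCx (extCech (ModuleCat.of A A) fs) J)) :=
    fun g hg => isCpl_Q_homCx_extCech fs J g hg
  have hT' : ∀ g ∈ fs, IsCpl g (Q.obj (DRing.homCx (extCech (ModuleCat.of A A) fs) J')) :=
    fun g hg => isCpl_Q_homCx_extCech fs J' g hg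
  have hv' : IsUniv (fun E : Dual.D A => ∀ g ∈ fs, IsCpl g E)
      (Q.map ((DRing.homCxFunctor (extCech (ModuleCat.of A A) fs)).map η)) := fun E hE => hv E hE
  obtain ⟨θ₁, -⟩ := (isUniv_id (fun E : Dual.D A => ∀ g ∈ fs, IsCpl g E) _).exists_iso hv' hT hT'
  -- `T' ≅ Q J'`
  obtain ⟨θ₂⟩ := nonempty_iso_homCx_extCech fs J' hc
  -- `Q J' ≅ K^`
  have hcJ' : DRing.IsDerivedComplete (Ideal.span {x : A | x ∈ fs}) (Q.obj J') := by
    apply isDerivedComplete_of_generators
    intro g hg
    exact hc g hg
  have huniv : IsUniv (DRing.IsDerivedComplete (Ideal.span {x : A | x ∈ fs}))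
      (e.inv ≫ Q.map η) := by
    intro E hE
    have hb := hu E (fun g hg => (isDerivedComplete_iff_isCpl _ E).1 hE g
      (Ideal.subset_span hg))
    have := bijective_comp_iso e.symm (Iso.refl _) (Q.map η) hb
    simpa using this
  obtain ⟨θ₃, -⟩ := (isUniv_toDerivedCompletion (Ideal.span {x : A | x ∈ fs}) K).exists_iso huniv
    ((DRing.derivedCompletion (Ideal.span {x : A | x ∈ fs})).obj K).property hcJ'
  -- `RHom(Č, K) ≅ T`
  let e₁ : (DRing.RHomCx (extCech (ModuleCat.of A A) fs)).obj K ≅
      Q.obj (DRing.homCx (extCech (ModuleCat.of A A) fs) J) :=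
    (DRing.RHomCx (extCech (ModuleCat.of A A) fs)).mapIso e.symm ≪≫ (asIso (β.app J)).symm
  exact ⟨θ₃ ≪≫ θ₂.symm ≪≫ θ₁.symm ≪≫ e₁.symm⟩

end Main

end Groth.Agent.R2.H31.CechRHom
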