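import Mathlib
import Groth.Agent.Lib.Helper1KF4
import Groth.Agent.R2.H31Dev

/-!
# The iterated cone functor (helper31)

`kosFunctor l` is the iterated cone functor on complexes; it preserves short exact sequences and
acyclicity, and sends the cone of `u` to an acyclic complex as soon as it sends `u` to a
quasi-isomorphism.
-/

set_option autoImplicit false
universe u
open CategoryTheory Limits HomologicalComplex CochainComplex
attribute [local instance] HasDerivedCategory.standard

namespace Groth.Agent.R2.H31.KosF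

open Groth.Agent.R2.H31.Dev Groth.Agent.Lib.Helper1.KF

variable {A : Type u} [CommRing A]

section ConeF
variable (f : A)

/-- the map induced on cones of multiplication by `f` -/
noncomputable def cmap {X Y : DRing.Cx A} (φ : X ⟶ Y) :
    mappingCone (f • 𝟙 X) ⟶ mappingCone (f • 𝟙 Y) :=
  mappingCone.map (f • 𝟙 X) (f • 𝟙 Y) φ φ (by
    rw [Linear.smul_comp, Linear.comp_smul, Category.id_comp, Category.comp_id])

/-- the cone of multiplication by `f`, as a functor -/
noncomputable def coneF : DRing.Cx A ⥤ DRing.Cx A where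
  obj X := mappingCone (f • 𝟙 X)
  map {X Y} φ := cmap f φ
  map_id X := mappingCone.map_id _
  map_comp {X Y Z} φ ψ := mappingCone.map_comp _ _ _ _ _ _ _ _ _

instance : (coneF (A := A) f).PreservesZeroMorphisms where
  map_zero X Y := by
    apply HomologicalComplex.hom_ext
    intro n
    apply mappingCone.ext_from (f • 𝟙 X) (n + 1) n rfl
    · simp [coneF, cmap, mappingCone.map]
      exact Limits.comp_zero.symm
    · simp [coneF, cmap, mappingCone.map]
      exact Limits.comp_zero.symm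

variable {f}

lemma coneF_map_f_fst {X Y : DRing.Cx A} (φ : X ⟶ Y) (n : ℤ) :
    (cmap f φ).f n ≫ (mappingCone.fst (f • 𝟙 Y)).1.v n (n + 1) rfl =
      (mappingCone.fst (f • 𝟙 X)).1.v n (n + 1) rfl ≫ φ.f (n + 1) := by
  simp [cmap, mappingCone.ext_from_iff _ (n + 1) n rfl, mappingCone.map]

lemma coneF_map_f_snd {X Y : DRing.Cx A} (φ : X ⟶ Y) (n : ℤ) :
    (cmap f φ).f n ≫ (mappingCone.snd (f • 𝟙 Y)).v n n (add_zero n) =
      (mappingCone.snd (f • 𝟙 X)).v n n (add_zero n) ≫ φ.f n := by
  simp [cmap, mappingCone.ext_from_iff _ (n + 1) n rfl, mappingCone.map]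

lemma inl_coneF_map_f {X Y : DRing.Cx A} (φ : X ⟶ Y) (n : ℤ) :
    (mappingCone.inl (f • 𝟙 X)).v (n + 1) n (by omega) ≫ (cmap f φ).f n =
      φ.f (n + 1) ≫ (mappingCone.inl (f • 𝟙 Y)).v (n + 1) n (by omega) := by
  simp [coneF, cmap, mappingCone.map]

lemma inr_coneF_map_f {X Y : DRing.Cx A} (φ : X ⟶ Y) (n : ℤ) :
    (mappingCone.inr (f • 𝟙 X)).f n ≫ (cmap f φ).f n =
      φ.f n ≫ (mappingCone.inr (f • 𝟙 Y)).f n := by
  simp [coneF, cmap, mappingCone.map]

section Elem

variable {X : DRing.Cx A} (α : X ⟶ X) (n : ℤ)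

/-- first coordinate -/
noncomputable abbrev c1 : (mappingCone α).X n ⟶ X.X (n + 1) := (mappingCone.fst α).1.v n (n + 1) rfl
/-- second coordinate -/
noncomputable abbrev c2 : (mappingCone α).X n ⟶ X.X n := (mappingCone.snd α).v n n (add_zero n)
/-- first inclusion -/
noncomputable abbrev i1 : X.X (n + 1) ⟶ (mappingCone α).X n :=
  (mappingCone.inl α).v (n + 1) n (by omega)
/-- second inclusion -/
noncomputable abbrev i2 : X.X n ⟶ (mappingCone α).X n := (mappingCone.inr α).f n

lemma elem_decomp (z : ((mappingCone α).X n : ModuleCat.{u} A)) :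
    z = (i1 α n).hom ((c1 α n).hom z) + (i2 α n).hom ((c2 α n).hom z) := by
  have h := congrArg (fun t => t.hom z) (mappingCone.id_X α n (n + 1) rfl)
  simpa using h.symm

lemma c1_i1 (x : (X.X (n + 1) : ModuleCat.{u} A)) : (c1 α n).hom ((i1 α n).hom x) = x := by
  exact congrArg (fun t => t.hom x) (mappingCone.inl_v_fst_v α (n + 1) n rfl)

lemma c2_i1 (x : (X.X (n + 1) : ModuleCat.{u} A)) : (c2 α n).hom ((i1 α n).hom x) = 0 := by
  exact congrArg (fun t => t.hom x) (mappingCone.inl_v_snd_v α (n + 1) n (by omega))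

lemma c1_i2 (x : (X.X n : ModuleCat.{u} A)) : (c1 α n).hom ((i2 α n).hom x) = 0 := by
  exact congrArg (fun t => t.hom x) (mappingCone.inr_f_fst_v α n (n + 1) rfl)

lemma c2_i2 (x : (X.X n : ModuleCat.{u} A)) : (c2 α n).hom ((i2 α n).hom x) = x := by
  exact congrArg (fun t => t.hom x) (mappingCone.inr_f_snd_v α n)

end Elem

section Exact

variable {X Y : DRing.Cx A} (φ : X ⟶ Y) (n : ℤ)

lemma c1_map (z : ((mappingCone (f • 𝟙 X)).X n : ModuleCat.{u} A)) :
    (c1 (f • 𝟙 Y) n).hom (((cmap f φ).f n).hom z) =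
      (φ.f (n + 1)).hom ((c1 (f • 𝟙 X) n).hom z) :=
  congrArg (fun t => t.hom z) (coneF_map_f_fst (f := f) φ n)

lemma c2_map (z : ((mappingCone (f • 𝟙 X)).X n : ModuleCat.{u} A)) :
    (c2 (f • 𝟙 Y) n).hom (((cmap f φ).f n).hom z) =
      (φ.f n).hom ((c2 (f • 𝟙 X) n).hom z) :=
  congrArg (fun t => t.hom z) (coneF_map_f_snd (f := f) φ n)

lemma map_i1 (x : (X.X (n + 1) : ModuleCat.{u} A)) :
    ((cmap f φ).f n).hom ((i1 (f • 𝟙 X) n).hom x) =
      (i1 (f • 𝟙 Y) n).hom ((φ.f (n + 1)).hom x) :=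
  congrArg (fun t => t.hom x) (inl_coneF_map_f (f := f) φ n)

lemma map_i2 (x : (X.X n : ModuleCat.{u} A)) :
    ((cmap f φ).f n).hom ((i2 (f • 𝟙 X) n).hom x) =
      (i2 (f • 𝟙 Y) n).hom ((φ.f n).hom x) :=
  congrArg (fun t => t.hom x) (inr_coneF_map_f (f := f) φ n)

end Exact

section Degreewise

variable {X₁ X₂ X₃ : DRing.Cx A} (a : X₁ ⟶ X₂) (b : X₂ ⟶ X₃) (n : ℤ)

lemma coneF_injective (inj : ∀ m : ℤ, Function.Injective (a.f m).hom) :
    Function.Injective ((cmap f a).f n).hom := by
  rw [injective_iff_map_eq_zero]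
  intro z hz
  have h1 : (c1 (f • 𝟙 X₁) n).hom z = 0 := by
    apply inj (n + 1)
    rw [← c1_map, hz, map_zero, map_zero]
  have h2 : (c2 (f • 𝟙 X₁) n).hom z = 0 := by
    apply inj n
    rw [← c2_map, hz, map_zero, map_zero]
  rw [elem_decomp _ n z, h1, h2, map_zero, map_zero, add_zero]

lemma coneF_surjective (surj : ∀ m : ℤ, Function.Surjective (b.f m).hom) :
    Function.Surjective ((cmap f b).f n).hom := by
  intro w
  obtain ⟨x, hx⟩ := surj (n + 1) ((c1 (f • 𝟙 X₃) n).hom w)
  obtain ⟨y, hy⟩ := surj n ((c2 (f • 𝟙 X₃) n).hom w)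
  refine ⟨(i1 (f • 𝟙 X₂) n).hom x + (i2 (f • 𝟙 X₂) n).hom y, ?_⟩
  rw [map_add, map_i1, map_i2, hx, hy]
  exact (elem_decomp _ n w).symm

lemma coneF_exact (hab : a ≫ b = 0) (ex : ∀ m : ℤ, Function.Exact (a.f m).hom (b.f m).hom) :
    Function.Exact ((cmap f a).f n).hom ((cmap f b).f n).hom := by
  intro z
  constructor
  · intro hz
    have h1 : (b.f (n + 1)).hom ((c1 (f • 𝟙 X₂) n).hom z) = 0 := by
      rw [← c1_map, hz, map_zero]
    have h2 : (b.f n).hom ((c2 (f • 𝟙 X₂) n).hom z) = 0 := by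
      rw [← c2_map, hz, map_zero]
    obtain ⟨x, hx⟩ := (ex (n + 1) _).1 h1
    obtain ⟨y, hy⟩ := (ex n _).1 h2
    refine ⟨(i1 (f • 𝟙 X₁) n).hom x + (i2 (f • 𝟙 X₁) n).hom y, ?_⟩
    rw [map_add, map_i1, map_i2, hx, hy]
    exact (elem_decomp _ n z).symm
  · rintro ⟨w, rfl⟩
    have h0 : cmap f a ≫ cmap f b = 0 := by
      have := (coneF f).map_comp a b
      rw [hab, Functor.map_zero] at this
      exact this.symm
    exact congrArg (fun t => (t.f n).hom w) h0

end Degreewise

/-- the cone functor preserves short exact sequences -/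
theorem coneF_shortExact (S : ShortComplex (DRing.Cx A)) (hS : S.ShortExact) :
    (S.map (coneF f)).ShortExact := by
  rw [HomologicalComplex.shortExact_iff_degreewise_shortExact] at hS ⊢
  intro n
  have inj : ∀ m : ℤ, Function.Injective (S.f.f m).hom := fun m =>
    (ModuleCat.mono_iff_injective _).1 (hS m).mono_f
  have surj : ∀ m : ℤ, Function.Surjective (S.g.f m).hom := fun m =>
    (ModuleCat.epi_iff_surjective _).1 (hS m).epi_g
  have ex : ∀ m : ℤ, Function.Exact (S.f.f m).hom (S.g.f m).hom := fun m =>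
    (ShortComplex.ShortExact.moduleCat_exact_iff_function_exact _).1 (hS m).exact
  refine { exact := ?_, mono_f := ?_, epi_g := ?_ }
  · rw [ShortComplex.ShortExact.moduleCat_exact_iff_function_exact]
    exact coneF_exact (f := f) S.f S.g n S.zero ex
  · rw [ModuleCat.mono_iff_injective]
    exact coneF_injective (f := f) S.f n inj
  · rw [ModuleCat.epi_iff_surjective]
    exact coneF_surjective (f := f) S.g n surj

end ConeF

/-- the cone functor preserves acyclicity -/
lemma acyc_coneF (f : A) (X : DRing.Cx A) (h : Acyc X) : Acyc ((coneF f).obj X) := by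
  intro i
  refine (isZero_homology_mappingCone_iff (f • 𝟙 X) i (i + 1) rfl).2 ⟨?_, ?_⟩
  · exact ⟨fun _ _ _ => (h i).eq_of_src _ _⟩
  · exact ⟨fun _ _ _ => (h (i + 1)).eq_of_tgt _ _⟩

/-- the iterated cone functor -/
noncomputable def kosFunctor : List A → (DRing.Cx A ⥤ DRing.Cx A)
  | [] => 𝟭 _
  | f :: l => kosFunctor l ⋙ coneF f

lemma kosFunctor_obj (l : List A) (X : DRing.Cx A) : (kosFunctor l).obj X = kos l X := by
  induction l with
  | nil => rfl
  | cons f l ih =>
    show mappingCone (f • 𝟙 ((kosFunctor l).obj X)) = mappingCone (f • 𝟙 (kos l X))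
    rw [ih]

instance kosFunctor_preservesZero (l : List A) : (kosFunctor (A := A) l).PreservesZeroMorphisms := by
  induction l with
  | nil => exact inferInstanceAs (𝟭 _).PreservesZeroMorphisms
  | cons f l ih =>
    exact inferInstanceAs (kosFunctor l ⋙ coneF f).PreservesZeroMorphisms

theorem kos_shortExact (l : List A) (S : ShortComplex (DRing.Cx A)) (hS : S.ShortExact) :
    (S.map (kosFunctor l)).ShortExact := by
  induction l with
  | nil => exact hS
  | cons f l ih => exact coneF_shortExact (S.map (kosFunctor l)) ih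

lemma acyc_kosFunctor (l : List A) (X : DRing.Cx A) (h : Acyc X) :
    Acyc ((kosFunctor l).obj X) := by
  induction l with
  | nil => exact h
  | cons f l ih => exact acyc_coneF f _ ih

/-- if the iterated cone functor sends `u` to a quasi-isomorphism, it sends the cone of `u` to an
acyclic complex. -/
theorem acyc_kos_cone (l : List A) {X Y : DRing.Cx A} (u : X ⟶ Y)
    [QuasiIso ((kosFunctor l).map u)] : Acyc ((kosFunctor l).obj (mappingCone u)) := by
  let ψ := (kosFunctor l).mapShortComplex.map (coneMap u)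
  have hτ₃ : QuasiIso ψ.τ₃ := by
    have e : ψ.τ₃ = 𝟙 ((kosFunctor l).obj (X⟦(1 : ℤ)⟧)) := by
      show (kosFunctor l).map (coneMap u).τ₃ = 𝟙 _
      rw [coneMap_τ₃]
      exact (kosFunctor l).map_id _
    have h : QuasiIso (𝟙 ((kosFunctor l).obj (X⟦(1 : ℤ)⟧))) := inferInstance
    rw [e]; exact h
  have hτ₁ : QuasiIso ψ.τ₁ := by
    show QuasiIso ((kosFunctor l).map u)
    infer_instance
  exact acyclic_middle_of_quasiIso ψ (kos_shortExact l _ (coneSES_shortExact (𝟙 X)))
    (kos_shortExact l _ (coneSES_shortExact u)) (acyc_kosFunctor l _ (acyc_cone_id X))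

end Groth.Agent.R2.H31.KosF
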