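import Mathlib
import Groth.Agent.R2.H31KosF
import Groth.Agent.R2.H31CK
import Groth.Agent.Lib.Helper1TorM
import Groth.Agent.R2.H31KosFac
import Groth.Agent.S7048

/-!
# Flat base change for iterated cones (helper31)
-/

set_option autoImplicit false
universe u
open CategoryTheory Limits HomologicalComplex CochainComplex MonoidalCategory
attribute [local instance] HasDerivedCategory.standard

namespace Groth.Agent.R2.H31.FlatBC

open Groth.Agent.Lib.Helper1.Tor Groth.Agent.R2.H31.Dev Groth.Agent.R2.H31.KosF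
  Groth.Agent.R2.H31.KosFac DerivedCategory Pretriangulated Groth.Agent.R2.H31.CK
  Groth.Agent.R2.H31.Univ Groth.Agent.R2.H31.DComp Groth.Agent.R2.H31.Tri
  Groth.Agent.R2.H31.Amp Groth.Agent.Lib.Helper10.DerComplete

variable {A : Type u} [CommRing A] {B : ModuleCat.{u} A} (η : ModuleCat.of A A ⟶ B)

/-- the natural map `M ⟶ B ⊗ M` induced by `η : A ⟶ B` -/
noncomputable def uM : 𝟭 (ModuleCat.{u} A) ⟶ tensorLeft B where
  app M := (λ_ M).inv ≫ η ▷ M
  naturality M N g := by
    dsimp
    rw [Category.assoc, ← whisker_exchange, ← Category.assoc, ← Category.assoc]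
    congr 1

/-- the natural map `X ⟶ B ⊗ X` on complexes -/
noncomputable def uX (X : DRing.Cx A) : X ⟶ (TC B).obj X where
  f n := (uM η).app (X.X n)
  comm' i j _ := ((uM η).naturality (X.d i j)).symm

lemma uX_naturality {X Y : DRing.Cx A} (φ : X ⟶ Y) :
    φ ≫ uX η Y = uX η X ≫ (TC B).map φ := by
  ext n : 1
  exact (uM η).naturality (φ.f n)

lemma uX_cone {X Y : DRing.Cx A} (φ : X ⟶ Y) :
    uX η (mappingCone φ) ≫ (mappingCone.mapHomologicalComplexIso φ (T B)).hom =
      mappingCone.map φ ((TC B).map φ) (uX η X) (uX η Y) (uX_naturality η φ) := by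
  ext n : 1
  have h1 : ∀ (Z : DRing.Cx A) (m : ℤ) {N : ModuleCat.{u} A} (g : Z.X m ⟶ N),
      (uX η Z).f m ≫ (T B).map g = g ≫ (uM η).app N :=
    fun _ _ _ g => ((uM η).naturality g).symm
  rw [HomologicalComplex.comp_f]
  dsimp [mappingCone.mapHomologicalComplexIso, mappingCone.map]
  rw [mappingCone.desc_f _ _ _ _ n (n + 1) rfl]
  simp only [HomologicalComplex.Hom.isoOfComponents_hom_f]
  have e2 : (uX η X).f (n + 1) = (uM η).app (X.X (n + 1)) := rfl
  have e3 : (uX η Y).f n = (uM η).app (Y.X n) := rfl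
  have e4 : (mappingCone.mapHomologicalComplexXIso φ (T B) n).hom =
      (T B).map ((mappingCone.fst φ).1.v n (n + 1) rfl) ≫
        (mappingCone.inl ((TC B).map φ)).v (n + 1) n (by omega) +
      (T B).map ((mappingCone.snd φ).v n n (add_zero n)) ≫
        (mappingCone.inr ((TC B).map φ)).f n := rfl
  rw [e4]
  refine (Preadditive.comp_add _ _ _ _ _ _).trans ?_
  congr 1
  · refine (Category.assoc _ _ _).symm.trans ?_
    refine (congrArg (· ≫ (mappingCone.inl ((TC B).map φ)).v (n + 1) n (by omega)) (h1 _ _ _)).trans ?_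
    simp [← e2]
    exact Category.assoc _ _ _

lemma cone_step_aux {X X' : DRing.Cx A} (a : X ⟶ X') {φ : X ⟶ X} {ψ ψ' : X' ⟶ X'} (hψ : ψ = ψ')
    (c1 : φ ≫ a = a ≫ ψ) :
    ∃ e : mappingCone ψ ≅ mappingCone ψ',
      mappingCone.map φ ψ a a c1 ≫ e.hom = mappingCone.map φ ψ' a a (hψ ▸ c1) := by
  subst hψ
  exact ⟨Iso.refl _, Category.comp_id _⟩

/-- the iterated cone functor commutes with `B ⊗ -`, compatibly with the unit maps. -/
theorem exists_iso_kos (l : List A) (X : DRing.Cx A) :
    ∃ e : (TC B).obj ((kosFunctor l).obj X) ≅ (kosFunctor l).obj ((TC B).obj X),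
      uX η ((kosFunctor l).obj X) ≫ e.hom = (kosFunctor l).map (uX η X) := by
  induction l with
  | nil => exact ⟨Iso.refl _, Category.comp_id _⟩
  | cons f l ih =>
    obtain ⟨e, he⟩ := ih
    obtain ⟨e', he'⟩ := cone_step_aux (uX η ((kosFunctor l).obj X))
      (TC_map_smul B ((kosFunctor l).obj X) f) (uX_naturality η (f • 𝟙 ((kosFunctor l).obj X)))
    refine ⟨mappingCone.mapHomologicalComplexIso (f • 𝟙 ((kosFunctor l).obj X)) (T B) ≪≫ e' ≪≫
      (coneF f).mapIso e, ?_⟩
    show uX η (mappingCone (f • 𝟙 ((kosFunctor l).obj X))) ≫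
      ((mappingCone.mapHomologicalComplexIso (f • 𝟙 ((kosFunctor l).obj X)) (T B)).hom ≫ e'.hom ≫
        cmap f e.hom) = cmap f ((kosFunctor l).map (uX η X))
    rw [← Category.assoc, uX_cone, ← Category.assoc, he', ← he]
    exact ((coneF f).map_comp _ _).symm

lemma isIso_of_conj {C : Type*} [Category C] {X X' Y Y' : C} (a : X' ≅ X) (b : Y' ≅ Y)
    (m : X' ⟶ Y') (h : IsIso (a.inv ≫ m ≫ b.hom)) : IsIso m := by
  have : m = a.hom ≫ (a.inv ≫ m ≫ b.hom) ≫ b.inv := by simp
  rw [this]
  infer_instance

section MapHomologyIsoId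

variable {C : Type*} [Category C] [HasZeroMorphisms C]

lemma homologyIso_map_id (S : ShortComplex C) [S.HasHomology] (h : S.LeftHomologyData) :
    ((h.map (𝟭 C)).homologyIso.hom : S.homology ⟶ h.H) = h.homologyIso.hom := by
  let x : S.cycles ⟶ h.K := (h.map (𝟭 C)).cyclesIso.hom
  let y : S.homology ⟶ h.H := (h.map (𝟭 C)).homologyIso.hom
  have hx : x ≫ h.i = S.iCycles := (h.map (𝟭 C)).cyclesIso_hom_comp_i
  have h1 : x = h.cyclesIso.hom := by
    rw [← cancel_mono h.i, hx, h.cyclesIso_hom_comp_i]
  have hy : S.homologyπ ≫ y = x ≫ h.π := (h.map (𝟭 C)).homologyπ_comp_homologyIso_hom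
  show y = _
  rw [← cancel_epi S.homologyπ, hy, h.homologyπ_comp_homologyIso_hom, h1]

lemma mapHomologyIso_id (S : ShortComplex C) [S.HasHomology] :
    ((S.mapHomologyIso (𝟭 C)).hom : S.homology ⟶ S.homology) = 𝟙 S.homology := by
  refine (homologyIso_map_id S S.homologyData.left).trans ?_
  simp only [ShortComplex.LeftHomologyData.homologyIso, ShortComplex.leftHomologyIso,
    ShortComplex.LeftHomologyData.leftHomologyIso]
  exact Iso.inv_hom_id _

lemma mapHomologyIso_id_inv (S : ShortComplex C) [S.HasHomology] :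
    ((S.mapHomologyIso (𝟭 C)).inv : S.homology ⟶ S.homology) = 𝟙 S.homology := by
  have h1 : ((S.mapHomologyIso (𝟭 C)).inv : S.homology ⟶ S.homology) ≫
      ((S.mapHomologyIso (𝟭 C)).hom : S.homology ⟶ S.homology) = 𝟙 S.homology :=
    (S.mapHomologyIso (𝟭 C)).inv_hom_id
  rw [mapHomologyIso_id] at h1
  exact (Category.comp_id _).symm.trans h1

end MapHomologyIsoId

section Flat

variable [Module.Flat A B]

/-- flat base change for the unit map -/
lemma isIso_homologyMap_uX (Z : DRing.Cx A) (n : ℤ) (h : IsIso ((uM η).app (Z.homology n))) :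
    IsIso (HomologicalComplex.homologyMap (uX η Z) n) := by
  have key := NatTrans.app_homology (uM η) (Z.sc n)
  have e : HomologicalComplex.homologyMap (uX η Z) n =
      ShortComplex.homologyMap ((Z.sc n).mapNatTrans (uM η)) := rfl
  rw [e]
  have h' : IsIso ((uM η).app (Z.sc n).homology) := h
  rw [key] at h'
  exact isIso_of_conj _ _ _ h'

/-- flat base change for the unit map, with the comparison isomorphism -/
lemma homologyMap_uX_bc (Z : DRing.Cx A) (n : ℤ) :
    HomologicalComplex.homologyMap (uX η Z) n ≫ ((Z.sc n).mapHomologyIso (tensorLeft B)).hom =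
      (uM η).app (Z.homology n) := by
  have key := NatTrans.app_homology (uM η) (Z.sc n)
  refine Eq.trans ?_ key.symm
  have ha := mapHomologyIso_id_inv (Z.sc n)
  exact ((Category.id_comp _).symm.trans (congrArg (· ≫ _) ha.symm))

end Flat

section Module

open TensorProduct

lemma uM_app_apply (H : ModuleCat.{u} A) (x : H) :
    ((uM η).app H).hom x = (η.hom (1 : A)) ⊗ₜ[A] x := by
  show ((λ_ H).inv ≫ η ▷ H).hom x = _
  rw [ModuleCat.hom_comp, LinearMap.comp_apply, ModuleCat.MonoidalCategory.leftUnitor_inv_apply,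
    ModuleCat.MonoidalCategory.whiskerRight_apply]

variable [IsNoetherianRing A] (I : Ideal A)

/-- `Â` as an `A`-module -/
noncomputable abbrev Ahat : ModuleCat.{u} A := ModuleCat.of A (AdicCompletion I A)

/-- the canonical map `A → Â` -/
noncomputable abbrev ηI : ModuleCat.of A A ⟶ Ahat I := ModuleCat.ofHom (AdicCompletion.of I A)

instance : Module.Flat A (Ahat I) := AdicCompletion.flat_of_isNoetherian I

omit [IsNoetherianRing A] in
lemma isAdicComplete_of_pow_smul (H : Type u) [AddCommGroup H] [Module A H] (N : ℕ)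
    (h : I ^ N • (⊤ : Submodule A H) = ⊥) : IsAdicComplete I H := by
  have hanti : ∀ {a b : ℕ}, a ≤ b → (I ^ b • ⊤ : Submodule A H) ≤ I ^ a • ⊤ := fun h =>
    Submodule.smul_mono_left (Ideal.pow_le_pow_right h)
  refine { haus' := ?_, prec' := ?_ }
  · intro x hx
    have := hx N
    rw [SModEq.zero, h] at this
    exact (Submodule.mem_bot A).1 this
  · intro f hf
    refine ⟨f N, fun n => ?_⟩
    rcases le_total n N with hn | hn
    · exact hf hn
    · have h1 := hf hn
      rw [h, SModEq.bot] at h1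
      rw [h1]

/-- for a finite adically complete module, `H → Â ⊗ H` is an isomorphism -/
lemma isIso_uM_app (H : ModuleCat.{u} A) [Module.Finite A H] [IsAdicComplete I H] :
    IsIso ((uM (ηI I)).app H) := by
  rw [ConcreteCategory.isIso_iff_bijective]
  have hb : Function.Bijective (AdicCompletion.ofTensorProduct I H) :=
    AdicCompletion.ofTensorProduct_bijective_of_finite_of_isNoetherian I H
  have hc : (AdicCompletion.ofTensorProduct I H) ∘ ((uM (ηI I)).app H).hom =
      AdicCompletion.of I H := by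
    funext x
    rw [Function.comp_apply, uM_app_apply]
    show AdicCompletion.ofTensorProduct I H ((AdicCompletion.of I A (1 : A)) ⊗ₜ[A] x) = _
    rw [AdicCompletion.ofTensorProduct_tmul]
    have h1 : AdicCompletion.of I A (1 : A) = 1 :=
      (algebraMap A (AdicCompletion I A)).map_one
    rw [h1, one_smul]
  have h2 : Function.Bijective ((AdicCompletion.ofTensorProduct I H) ∘ ((uM (ηI I)).app H).hom) := by
    rw [hc]
    exact AdicCompletion.of_bijective_iff.2 (inferInstanceAs (IsAdicComplete I H))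
  exact (Function.Bijective.of_comp_iff' hb _).1 h2

end Module

section Tors

/-- every element of the list acts nilpotently on the iterated cone in `D(A)`. -/
theorem kos_nilpotent (X : DRing.Cx A) : ∀ (l : List A) (f : A), f ∈ l →
    ∃ k : ℕ, (f ^ k) • 𝟙 (Q.obj ((kosFunctor l).obj X)) = 0
  | [], f, hf => by simp at hf
  | g :: l, f, hf => by
    have hT := mappingCone_triangle_distinguished (g • 𝟙 ((kosFunctor l).obj X))
    have hg : Q.map (g • 𝟙 ((kosFunctor l).obj X)) = g • 𝟙 (Q.obj ((kosFunctor l).obj X)) := by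
      rw [Functor.map_smul, CategoryTheory.Functor.map_id]
    by_cases hfg : f = g
    · subst hfg
      refine ⟨2, ?_⟩
      rw [pow_two]
      exact sq_smul_cone _ _ _ hT f hg
    · have hfl : f ∈ l := by
        rcases List.mem_cons.1 hf with h | h
        · exact absurd h hfg
        · exact h
      obtain ⟨k, hk⟩ := kos_nilpotent X l f hfl
      refine ⟨k + k, ?_⟩
      rw [pow_add]
      exact sq_smul_cone' _ _ _ hT (f ^ k) hk

/-- the cohomology of the iterated cone on generators of `I` is killed by a power of `I` -/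
theorem exists_pow_smul_homology_kos (I : Ideal A) (l : List A)
    (hl : Ideal.span {x | x ∈ l} = I) (X : DRing.Cx A) (i : ℤ) :
    ∃ N : ℕ, I ^ N • (⊤ : Submodule A (((kosFunctor l).obj X).homology i : ModuleCat.{u} A)) = ⊥ := by
  classical
  set E := (kosFunctor l).obj X with hE
  have hfg : I.FG := by
    rw [← hl]
    exact ⟨l.toFinset, by congr 1; ext x; simp⟩
  have hrad : I ≤ (Module.annihilator A (E.homology i : ModuleCat.{u} A)).radical := by
    rw [← hl, Ideal.span_le]
    intro f hf
    obtain ⟨k, hk⟩ := kos_nilpotent X l f hf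
    refine ⟨k, ?_⟩
    rw [Module.mem_annihilator]
    intro z
    exact smul_homology_eq_zero E _ hk i z
  obtain ⟨K, hK⟩ := Ideal.exists_pow_le_of_le_radical_of_fg hrad hfg
  refine ⟨K, le_bot_iff.1 (Submodule.smul_le.2 fun a ha x _ => ?_)⟩
  rw [Module.mem_annihilator.1 (hK ha) x]
  exact Submodule.zero_mem _

end Tors

section Fin

variable [IsNoetherianRing A]

/-- middle term of a (half) exact sequence of modules over a Noetherian ring -/
lemma finite_of_exact {M₁ M₂ M₃ : Type*} [AddCommGroup M₁] [Module A M₁]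
    [AddCommGroup M₂] [Module A M₂] [AddCommGroup M₃] [Module A M₃]
    (f : M₁ →ₗ[A] M₂) (g : M₂ →ₗ[A] M₃) (h : ∀ x, g x = 0 → ∃ y, f y = x)
    [Module.Finite A M₁] [Module.Finite A M₃] : Module.Finite A M₂ := by
  have hN3 : IsNoetherian A M₃ := isNoetherian_of_isNoetherianRing_of_finite A M₃
  have hfr : Module.Finite A (LinearMap.range f) := Module.Finite.range f
  have hNr : IsNoetherian A (LinearMap.range f) := isNoetherian_of_isNoetherianRing_of_finite A _
  refine ⟨(⊤ : Submodule A M₂).fg_of_fg_map_of_fg_inf_ker g ?_ ?_⟩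
  · exact IsNoetherian.noetherian _
  · rw [top_inf_eq]
    refine (isNoetherian_submodule.1 hNr) _ ?_
    intro x hx
    obtain ⟨y, hy⟩ := h x hx
    exact ⟨y, hy⟩

lemma finite_HD_obj₃ (T : Triangle (Dual.D A)) (hT : T ∈ distTriang _) (n₀ n₁ : ℤ)
    (h : n₀ + 1 = n₁) (h2 : Module.Finite A (Dual.HD A T.obj₂ n₀))
    (h1 : Module.Finite A (Dual.HD A T.obj₁ n₁)) : Module.Finite A (Dual.HD A T.obj₃ n₀) := by
  have ex := HomologySequence.exact₃ T hT n₀ n₁ h
  rw [ShortComplex.moduleCat_exact_iff] at ex
  exact finite_of_exact _ _ ex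

lemma finite_homology_kos (l : List A) (X : DRing.Cx A)
    (hX : ∀ n, Module.Finite A (X.homology n : ModuleCat.{u} A)) :
    ∀ n, Module.Finite A (((kosFunctor l).obj X).homology n : ModuleCat.{u} A) := by
  induction l with
  | nil => exact hX
  | cons f l ih =>
    intro n
    have hT := mappingCone_triangle_distinguished (f • 𝟙 ((kosFunctor l).obj X))
    have h2 : Module.Finite A (Dual.HD A (Q.obj ((kosFunctor l).obj X)) n) :=
      Module.Finite.equiv (hIso _ n).symm.toLinearEquiv
    have h1 : Module.Finite A (Dual.HD A (Q.obj ((kosFunctor l).obj X)) (n + 1)) :=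
      Module.Finite.equiv (hIso _ (n + 1)).symm.toLinearEquiv
    have h3 : Module.Finite A (Dual.HD A
        (Q.obj (mappingCone (f • 𝟙 ((kosFunctor l).obj X)))) n) :=
      finite_HD_obj₃ _ hT n (n + 1) rfl h2 h1
    exact Module.Finite.equiv (hIso (mappingCone (f • 𝟙 ((kosFunctor l).obj X))) n).toLinearEquiv

end Fin

section Main

variable [IsNoetherianRing A] (I : Ideal A)

/-- for a complex with finite cohomology, the iterated cone functor on generators of `I` sends
`X ⟶ Â ⊗ X` to a quasi-isomorphism. -/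
theorem quasiIso_kos_uX (l : List A) (hl : Ideal.span {x | x ∈ l} = I) (X : DRing.Cx A)
    (hX : ∀ n, Module.Finite A (X.homology n : ModuleCat.{u} A)) :
    QuasiIso ((kosFunctor l).map (uX (ηI I) X)) := by
  obtain ⟨e, he⟩ := exists_iso_kos (ηI I) l X
  have hq : QuasiIso (uX (ηI I) ((kosFunctor l).obj X)) := by
    rw [quasiIso_iff]
    intro n
    rw [quasiIsoAt_iff_isIso_homologyMap]
    apply isIso_homologyMap_uX
    have hfin := finite_homology_kos l X hX n
    obtain ⟨N, hN⟩ := exists_pow_smul_homology_kos I l hl X n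
    have hc : IsAdicComplete I (((kosFunctor l).obj X).homology n : ModuleCat.{u} A) :=
      isAdicComplete_of_pow_smul I _ N hN
    exact isIso_uM_app I _
  rw [← he]
  infer_instance

/-- for a complex with finite cohomology, `X ⟶ Â ⊗ X` is universal towards derived complete
objects. -/
theorem isUniv_Q_uX (X : DRing.Cx A)
    (hX : ∀ n, Module.Finite A (X.homology n : ModuleCat.{u} A)) :
    IsUniv (DRing.IsDerivedComplete I) (Q.map (uX (ηI I) X)) := by
  classical
  obtain ⟨s, hs⟩ := (IsNoetherian.noetherian I : I.FG)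
  have hl : Ideal.span {x | x ∈ s.toList} = I := by
    rw [← hs]
    congr 1
    ext x
    simp
  intro E hE
  have hc : ∀ f ∈ s.toList, IsCpl f E := fun f hf =>
    (isDerivedComplete_iff_isCpl I E).1 hE f (by
      rw [← hl]
      exact Ideal.subset_span hf)
  have hq := quasiIso_kos_uX I s.toList hl X hX
  have hac := acyc_kos_cone s.toList (uX (ηI I) X)
  rw [kosFunctor_obj] at hac
  have hex : ∀ i : ℤ, (kos s.toList (mappingCone (uX (ηI I) X))).ExactAt i := fun i =>
    (HomologicalComplex.exactAt_iff_isZero_homology _ _).2 (hac i)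
  have horth := orth_of_kos_exact E s.toList (mappingCone (uX (ηI I) X)) hc hex
  exact bijective_comp_of_orth_obj₃ _ (mappingCone_triangle_distinguished (uX (ηI I) X)) horth

end Main

section Compare

variable [IsNoetherianRing A] (I : Ideal A)

/-- the comparison `H^i(Â ⊗ X) ≃ (H^i X)^` -/
noncomputable def Φ (X : DRing.Cx A) (i : ℤ) [Module.Finite A (X.homology i : ModuleCat.{u} A)] :
    Dual.HD A (Q.obj ((TC (Ahat I)).obj X)) i ≃ₗ[A]
      AdicCompletion I (X.homology i : ModuleCat.{u} A) :=
  (hIso ((TC (Ahat I)).obj X) i).toLinearEquiv ≪≫ₗ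
    ((X.sc i).mapHomologyIso (tensorLeft (Ahat I))).toLinearEquiv ≪≫ₗ
    (AdicCompletion.ofTensorProductEquivOfFiniteNoetherian I
      (X.homology i : ModuleCat.{u} A)).restrictScalars A

lemma Φ_apply (X : DRing.Cx A) (i : ℤ) [Module.Finite A (X.homology i : ModuleCat.{u} A)]
    (x : Dual.HD A (Q.obj X) i) :
    Φ I X i (((DerivedCategory.homologyFunctor (ModuleCat.{u} A) i).map
      (Q.map (uX (ηI I) X))).hom x) =
      AdicCompletion.of I (X.homology i : ModuleCat.{u} A) ((hIso X i).hom.hom x) := by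
  have h1 : (DerivedCategory.homologyFunctor (ModuleCat.{u} A) i).map (Q.map (uX (ηI I) X)) ≫
      (hIso ((TC (Ahat I)).obj X) i).hom = (hIso X i).hom ≫ homologyMap (uX (ηI I) X) i :=
    (homologyFunctorFactors (ModuleCat.{u} A) i).hom.naturality (uX (ηI I) X)
  have h2 := homologyMap_uX_bc (ηI I) X i
  have h3 : (hIso ((TC (Ahat I)).obj X) i).hom.hom
      (((DerivedCategory.homologyFunctor (ModuleCat.{u} A) i).map
        (Q.map (uX (ηI I) X))).hom x) = (homologyMap (uX (ηI I) X) i).hom ((hIso X i).hom.hom x) :=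
    congrArg (fun t => t.hom x) h1
  have h4 : ((X.sc i).mapHomologyIso (tensorLeft (Ahat I))).hom.hom
      ((homologyMap (uX (ηI I) X) i).hom ((hIso X i).hom.hom x)) =
      ((uM (ηI I)).app (X.homology i)).hom ((hIso X i).hom.hom x) :=
    congrArg (fun t => t.hom ((hIso X i).hom.hom x)) h2
  show AdicCompletion.ofTensorProduct I (X.homology i : ModuleCat.{u} A)
    (((X.sc i).mapHomologyIso (tensorLeft (Ahat I))).hom.hom
      ((hIso ((TC (Ahat I)).obj X) i).hom.hom _)) = _
  rw [h3, h4, uM_app_apply]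
  show AdicCompletion.ofTensorProduct I (X.homology i : ModuleCat.{u} A)
    ((AdicCompletion.of I A (1 : A)) ⊗ₜ[A] _) = _
  rw [AdicCompletion.ofTensorProduct_tmul]
  have h5 : AdicCompletion.of I A (1 : A) = 1 := (algebraMap A (AdicCompletion I A)).map_one
  rw [h5, one_smul]

end Compare

section Final

variable [IsNoetherianRing A] (I : Ideal A)

/-- `Â ⊗ X` is derived complete when `X` has finite cohomology -/
theorem isDerivedComplete_Q_TC (X : DRing.Cx A)
    (hX : ∀ n, Module.Finite A (X.homology n : ModuleCat.{u} A)) :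
    DRing.IsDerivedComplete I (Q.obj ((TC (Ahat I)).obj X)) := by
  rw [isDerivedComplete_iff_forall_crit]
  intro f hf i
  have := hX i
  have hfg : I.FG := IsNoetherian.noetherian I
  have hc : IsAdicComplete I (AdicCompletion I (X.homology i : ModuleCat.{u} A)) :=
    AdicCompletion.isAdicComplete hfg
  have h1 := Groth.Agent.S7048.result I (AdicCompletion I (X.homology i : ModuleCat.{u} A))
  have h2 := (isDerivedComplete_iff_crit I _).1 h1 f hf
  exact h2.of_linearEquiv (Φ I X i).symm

lemma IsUniv.precomp_iso {C : Type*} [Category C] {P : C → Prop} {K₀ K K' : C} (a : K₀ ≅ K)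
    {η : K ⟶ K'} (h : IsUniv P η) : IsUniv P (a.hom ≫ η) := by
  intro E hE
  have : (fun ψ : K' ⟶ E => (a.hom ≫ η) ≫ ψ) =
      (fun ψ : K ⟶ E => a.hom ≫ ψ) ∘ (fun ψ : K' ⟶ E => η ≫ ψ) := by
    funext ψ
    simp
  rw [this]
  refine Function.Bijective.comp ⟨fun ψ ψ' h => (cancel_epi a.hom).1 h, fun ψ => ⟨a.inv ≫ ψ, ?_⟩⟩
    (h E hE)
  simp

/-- the cohomology of the derived completion of an object with finite cohomology is the adic
completion of the cohomology. -/
theorem exists_equiv [DRing.HasDerivedCompletion I] (K : Dual.D A)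
    (hK : ∀ n : ℤ, Module.Finite A (Dual.HD A K n)) (n : ℤ) :
    ∃ e : Dual.HD A ((DRing.derivedCompletion I).obj K).obj n ≃ₗ[A]
        AdicCompletion I (Dual.HD A K n),
      ∀ x : Dual.HD A K n,
        e (((DerivedCategory.homologyFunctor (ModuleCat.{u} A) n).map
          (DRing.toDerivedCompletion I K)).hom x) = AdicCompletion.of I (Dual.HD A K n) x := by
  let X : DRing.Cx A := Q.objPreimage K
  let e : Q.obj X ≅ K := Q.objObjPreimageIso K
  have hX : ∀ m, Module.Finite A (X.homology m : ModuleCat.{u} A) := fun m =>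
    Module.Finite.equiv
      ((((DerivedCategory.homologyFunctor (ModuleCat.{u} A) m).mapIso e.symm).toLinearEquiv) ≪≫ₗ
        (hIso X m).toLinearEquiv)
  have hu := isUniv_Q_uX I X hX
  have hu' : IsUniv (DRing.IsDerivedComplete I) (e.inv ≫ Q.map (uX (ηI I) X)) :=
    IsUniv.precomp_iso e.symm hu
  have hd := isDerivedComplete_Q_TC I X hX
  obtain ⟨ε, hε⟩ := (isUniv_toDerivedCompletion I K).exists_iso hu'
    ((DRing.derivedCompletion I).obj K).property hd
  have := hX n
  let ψ : (X.homology n : ModuleCat.{u} A) ≃ₗ[A] Dual.HD A K n :=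
    (hIso X n).symm.toLinearEquiv ≪≫ₗ
      ((DerivedCategory.homologyFunctor (ModuleCat.{u} A) n).mapIso e).toLinearEquiv
  refine ⟨((DerivedCategory.homologyFunctor (ModuleCat.{u} A) n).mapIso ε).toLinearEquiv ≪≫ₗ
    Φ I X n ≪≫ₗ (AdicCompletion.congr I ψ).restrictScalars A, ?_⟩
  intro x
  have h1 : ((DerivedCategory.homologyFunctor (ModuleCat.{u} A) n).map ε.hom).hom
      (((DerivedCategory.homologyFunctor (ModuleCat.{u} A) n).map
        (DRing.toDerivedCompletion I K)).hom x) =
      ((DerivedCategory.homologyFunctor (ModuleCat.{u} A) n).map (Q.map (uX (ηI I) X))).hom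
        (((DerivedCategory.homologyFunctor (ModuleCat.{u} A) n).map e.inv).hom x) := by
    have := congrArg (fun t => ((DerivedCategory.homologyFunctor (ModuleCat.{u} A) n).map t).hom x) hε
    simpa [Functor.map_comp] using this
  show (AdicCompletion.congr I ψ) (Φ I X n
    (((DerivedCategory.homologyFunctor (ModuleCat.{u} A) n).map ε.hom).hom
      (((DerivedCategory.homologyFunctor (ModuleCat.{u} A) n).map
        (DRing.toDerivedCompletion I K)).hom x))) = _
  rw [h1, Φ_apply, AdicCompletion.congr_apply, AdicCompletion.map_of]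
  congr 1
  show ((DerivedCategory.homologyFunctor (ModuleCat.{u} A) n).map e.hom).hom
    ((hIso X n).inv.hom ((hIso X n).hom.hom
      (((DerivedCategory.homologyFunctor (ModuleCat.{u} A) n).map e.inv).hom x))) = x
  have h2 : ∀ y, (hIso X n).inv.hom ((hIso X n).hom.hom y) = y := fun y =>
    congrArg (fun t => t.hom y) (hIso X n).hom_inv_id
  rw [h2]
  have h3 : (DerivedCategory.homologyFunctor (ModuleCat.{u} A) n).map e.inv ≫
      (DerivedCategory.homologyFunctor (ModuleCat.{u} A) n).map e.hom = 𝟙 _ := by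
    rw [← Functor.map_comp, e.inv_hom_id, CategoryTheory.Functor.map_id]
  exact congrArg (fun t => t.hom x) h3

end Final

end Groth.Agent.R2.H31.FlatBC
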