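import Mathlib
import Groth.Agent.R2.H31FlatBC
import Groth.Agent.S3866
import Groth.Agent.Lib.Helper19ComplNoeth2
import Groth.Agent.Lib.Helper19ComplNoeth

/-!
# Derived complete modules with finite reduction (helper31)
-/

set_option autoImplicit false
universe u
open CategoryTheory Limits HomologicalComplex CochainComplex MonoidalCategory
attribute [local instance] HasDerivedCategory.standard

namespace Groth.Agent.R2.H31.DCFin

open Groth.Agent.Lib.Helper1.Tor Groth.Agent.R2.H31.Dev Groth.Agent.R2.H31.FlatBC
  DerivedCategory Groth.Agent.R2.H31.Univ Groth.Agent.Lib.Helper10.DerComplete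

variable {A : Type u} [CommRing A] [IsNoetherianRing A] (I : Ideal A)

/-- maps from a finite module to a derived complete module extend to the adic completion. -/
theorem exists_extension (N : Type u) [AddCommGroup N] [Module A N] [Module.Finite A N]
    (M : Type u) [AddCommGroup M] [Module A M] (hc : DRing.IsDerivedComplete I (Dual.inD A M))
    (φ : N →ₗ[A] M) :
    ∃ g : AdicCompletion I N →ₗ[A] M, ∀ x, g (AdicCompletion.of I N x) = φ x := by
  let X : DRing.Cx A := (CochainComplex.singleFunctor (ModuleCat.{u} A) 0).obj (ModuleCat.of A N)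
  let e0 : Q.obj X ≅ Dual.inD A N :=
    ((DerivedCategory.singleFunctorIsoCompQ (ModuleCat.{u} A) 0).app (ModuleCat.of A N)).symm
  let s := singleFunctorCompHomologyFunctorIso (ModuleCat.{u} A) 0
  let θ : (X.homology 0 : ModuleCat.{u} A) ≃ₗ[A] N :=
    ((hIso X 0).symm ≪≫ (DerivedCategory.homologyFunctor (ModuleCat.{u} A) 0).mapIso e0 ≪≫
      s.app (ModuleCat.of A N)).toLinearEquiv
  have hX : ∀ n, Module.Finite A (X.homology n : ModuleCat.{u} A) := by
    intro n
    by_cases hn : n = 0
    · subst hn
      exact Module.Finite.equiv θ.symm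
    · have hz : IsZero (X.homology n) :=
        HomologicalComplex.isZero_single_obj_homology (ComplexShape.up ℤ) 0 (ModuleCat.of A N) n hn
      have := ModuleCat.subsingleton_of_isZero hz
      infer_instance
  have hu := isUniv_Q_uX I X hX
  let φ' : Dual.inD A N ⟶ Dual.inD A M :=
    (DerivedCategory.singleFunctor (ModuleCat.{u} A) 0).map (ModuleCat.ofHom φ)
  obtain ⟨ψ, hψ⟩ := (hu _ hc).2 (e0.hom ≫ φ')
  dsimp only at hψ
  have := hX 0
  let sM : Dual.HD A (Dual.inD A M) 0 ≃ₗ[A] M := (s.app (ModuleCat.of A M)).toLinearEquiv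
  let g₀ : AdicCompletion I (X.homology 0 : ModuleCat.{u} A) →ₗ[A] M :=
    sM.toLinearMap ∘ₗ ((DerivedCategory.homologyFunctor (ModuleCat.{u} A) 0).map ψ).hom ∘ₗ
      (Φ I X 0).symm.toLinearMap
  refine ⟨g₀ ∘ₗ ((AdicCompletion.congr I θ.symm).restrictScalars A).toLinearMap, fun x => ?_⟩
  have e1 : (AdicCompletion.congr I θ.symm) (AdicCompletion.of I N x) =
      AdicCompletion.of I _ (θ.symm x) := by
    rw [AdicCompletion.congr_apply, AdicCompletion.map_of]
    rfl
  let x₀ : Dual.HD A (Q.obj X) 0 := (hIso X 0).inv.hom (θ.symm x)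
  have e2 : (hIso X 0).hom.hom x₀ = θ.symm x :=
    congrArg (fun t => t.hom (θ.symm x)) (hIso X 0).inv_hom_id
  have e3 : (Φ I X 0).symm (AdicCompletion.of I _ (θ.symm x)) =
      ((DerivedCategory.homologyFunctor (ModuleCat.{u} A) 0).map (Q.map (uX (ηI I) X))).hom x₀ := by
    rw [LinearEquiv.symm_apply_eq, Φ_apply, e2]
  have e4 : ((DerivedCategory.homologyFunctor (ModuleCat.{u} A) 0).map ψ).hom
      (((DerivedCategory.homologyFunctor (ModuleCat.{u} A) 0).map (Q.map (uX (ηI I) X))).hom x₀) =
      ((DerivedCategory.homologyFunctor (ModuleCat.{u} A) 0).map φ').hom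
        (((DerivedCategory.homologyFunctor (ModuleCat.{u} A) 0).map e0.hom).hom x₀) := by
    have := congrArg
      (fun t => ((DerivedCategory.homologyFunctor (ModuleCat.{u} A) 0).map t).hom x₀) hψ
    simpa [Functor.map_comp] using this
  have e5 : ∀ z, sM (((DerivedCategory.homologyFunctor (ModuleCat.{u} A) 0).map φ').hom z) =
      φ ((s.app (ModuleCat.of A N)).hom.hom z) := by
    intro z
    exact congrArg (fun t => t.hom z) (s.hom.naturality (ModuleCat.ofHom φ))
  show sM (((DerivedCategory.homologyFunctor (ModuleCat.{u} A) 0).map ψ).hom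
    ((Φ I X 0).symm ((AdicCompletion.congr I θ.symm) (AdicCompletion.of I N x)))) = φ x
  rw [e1, e3, e4, e5]
  congr 1
  exact θ.apply_symm_apply x

section Alg

variable (M : Type u) [AddCommGroup M] [Module A M]

/-- derived Nakayama: a map to a derived complete module which is surjective modulo `I` is
surjective, if its source is derived complete. -/
theorem surjective_of_sup_eq_top (hM : ∀ f ∈ I, Crit f M) {P : Type u} [AddCommGroup P]
    [Module A P] (hP : ∀ f ∈ I, Crit f P) (g : P →ₗ[A] M)
    (hg : LinearMap.range g ⊔ I • (⊤ : Submodule A M) = ⊤) : Function.Surjective g := by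
  classical
  obtain ⟨s, hs⟩ := (IsNoetherian.noetherian I : I.FG)
  have hmem : ∀ f ∈ s, f ∈ I := fun f hf => hs ▸ Ideal.subset_span hf
  have hQ : Subsingleton (M ⧸ LinearMap.range g) := by
    apply subsingleton_of_crit_of_smul_top_eq_top s
    · intro f hf
      exact Crit.coker g (hP f (hmem f hf)) (hM f (hmem f hf))
    · have hs' : Ideal.span (s : Set A) = I := hs
      rw [hs', eq_top_iff]
      rintro x' -
      obtain ⟨x, rfl⟩ := Submodule.mkQ_surjective _ x'
      have hx : x ∈ LinearMap.range g ⊔ I • (⊤ : Submodule A M) := by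
        rw [hg]
        exact Submodule.mem_top
      obtain ⟨y, hy, z, hz, rfl⟩ := Submodule.mem_sup.1 hx
      have hy0 : (LinearMap.range g).mkQ y = 0 := by
        rw [Submodule.mkQ_apply, Submodule.Quotient.mk_eq_zero]
        exact hy
      rw [map_add, hy0, zero_add]
      have := Submodule.mem_map_of_mem (f := (LinearMap.range g).mkQ) hz
      rw [Submodule.map_smul''] at this
      exact Submodule.smul_mono le_rfl le_top this
  rw [← LinearMap.range_eq_top]
  exact Submodule.Quotient.subsingleton_iff.1 hQ

/-- every element of `Â` is congruent to an element of `A` modulo `I Â` -/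
lemma exists_sub_mem (a : AdicCompletion I A) :
    ∃ α : A, a - algebraMap A (AdicCompletion I A) α ∈
      (I • ⊤ : Submodule A (AdicCompletion I A)) := by
  have hfg : I.FG := IsNoetherian.noetherian I
  obtain ⟨α, hα⟩ := Submodule.mkQ_surjective _ (AdicCompletion.eval I A 1 a)
  refine ⟨α, ?_⟩
  have h1 : (I ^ 1 • ⊤ : Submodule A (AdicCompletion I A)) = LinearMap.ker (AdicCompletion.eval I A 1) :=
    AdicCompletion.pow_smul_top_eq_ker_eval hfg
  have h3 : a - algebraMap A (AdicCompletion I A) α ∈
      (I ^ 1 • ⊤ : Submodule A (AdicCompletion I A)) := by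
    rw [h1, LinearMap.mem_ker, map_sub, sub_eq_zero]
    have h2 : algebraMap A (AdicCompletion I A) α = AdicCompletion.of I A α := rfl
    rw [h2, AdicCompletion.eval_of, hα]
  simpa using h3

/-- a derived complete quotient of the completion of a finite module is adically complete. -/
theorem complete_of_surjective (hM : ∀ f ∈ I, Crit f M) (N : Type u) [AddCommGroup N] [Module A N]
    [Module.Finite A N] (g : AdicCompletion I N →ₗ[A] M) (hg : Function.Surjective g) :
    IsAdicComplete I M := by
  classical
  have hfg : I.FG := IsNoetherian.noetherian I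
  obtain ⟨s, hs⟩ := id hfg
  have hs' : Ideal.span (s : Set A) = I := hs
  have hmem : ∀ f ∈ s, f ∈ I := fun f hf => hs ▸ Ideal.subset_span hf
  have : IsNoetherianRing (AdicCompletion I A) :=
    Groth.Agent.Lib.Helper19.isNoetherianRing_adicCompletion I
  have h1 : IsAdicComplete I (AdicCompletion I A) := AdicCompletion.isAdicComplete hfg
  have h2 : IsAdicComplete (I.map (algebraMap A (AdicCompletion I A))) (AdicCompletion I A) :=
    (IsAdicComplete.map_algebraMap_iff (I := I) (S := AdicCompletion I A)
      (M := AdicCompletion I A)).mpr h1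
  have : Module.Finite (AdicCompletion I A) (AdicCompletion I N) :=
    Module.Finite.equiv (AdicCompletion.ofTensorProductEquivOfFiniteNoetherian I N)
  let S : Submodule (AdicCompletion I A) (AdicCompletion I N) :=
    Submodule.span (AdicCompletion I A) (LinearMap.ker g : Set (AdicCompletion I N))
  have hM'c : IsAdicComplete (I.map (algebraMap A (AdicCompletion I A)))
      (AdicCompletion I N ⧸ S) :=
    Groth.Agent.S3866.result (AdicCompletion I A) _ (AdicCompletion I N ⧸ S)
  have hM'A : IsAdicComplete I (AdicCompletion I N ⧸ S) :=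
    (IsAdicComplete.map_algebraMap_iff (I := I) (S := AdicCompletion I A)
      (M := AdicCompletion I N ⧸ S)).mp hM'c
  have hM'crit : ∀ f ∈ I, Crit f (AdicCompletion I N ⧸ S) :=
    (isDerivedComplete_iff_crit I _).1 (Groth.Agent.S7048.result I (AdicCompletion I N ⧸ S))
  let π : AdicCompletion I N →ₗ[A] (AdicCompletion I N ⧸ S) := (S.mkQ).restrictScalars A
  have hπ : ∀ p, π p = 0 ↔ p ∈ S := fun p => Submodule.Quotient.mk_eq_zero S
  have hker : LinearMap.ker g ≤ LinearMap.ker π := fun p hp =>
    LinearMap.mem_ker.2 ((hπ p).2 (Submodule.subset_span hp))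
  let q : M →ₗ[A] (AdicCompletion I N ⧸ S) :=
    (Submodule.liftQ (LinearMap.ker g) π hker) ∘ₗ (g.quotKerEquivOfSurjective hg).symm.toLinearMap
  have hq : ∀ p, q (g p) = π p := by
    intro p
    have : (g.quotKerEquivOfSurjective hg).symm (g p) = Submodule.Quotient.mk p := by
      rw [LinearEquiv.symm_apply_eq]
      rfl
    show Submodule.liftQ (LinearMap.ker g) π hker ((g.quotKerEquivOfSurjective hg).symm (g p)) = _
    rw [this]
    rfl
  have hS : ∀ p ∈ S, g p ∈ I • LinearMap.ker q := by
    intro p hp
    induction hp using Submodule.span_induction with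
    | mem p hp =>
      rw [LinearMap.mem_ker.1 hp]
      exact Submodule.zero_mem _
    | zero =>
      rw [map_zero]
      exact Submodule.zero_mem _
    | add p p' _ _ h h' =>
      rw [map_add]
      exact Submodule.add_mem _ h h'
    | smul a p hp h =>
      obtain ⟨α, hα⟩ := exists_sub_mem I a
      have hb : ∀ b ∈ (I • ⊤ : Submodule A (AdicCompletion I A)),
          g (b • p) ∈ I • LinearMap.ker q := by
        intro b hb
        refine Submodule.smul_induction_on (p := fun b => g (b • p) ∈ I • LinearMap.ker q) hb ?_ ?_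
        · intro c hc β _
          rw [smul_assoc, map_smul]
          refine Submodule.smul_mem_smul hc ?_
          rw [LinearMap.mem_ker, hq, hπ]
          exact S.smul_mem β hp
        · intro b b' h h'
          rw [add_smul, map_add]
          exact Submodule.add_mem _ h h'
      have e : a • p = α • p + (a - algebraMap A (AdicCompletion I A) α) • p := by
        rw [sub_smul, algebraMap_smul]
        abel
      rw [e, map_add, map_smul]
      exact Submodule.add_mem _ (Submodule.smul_mem _ α h) (hb _ hα)
  have hK : ∀ x ∈ LinearMap.ker q, x ∈ I • LinearMap.ker q := by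
    intro x hx
    obtain ⟨p, rfl⟩ := hg x
    rw [LinearMap.mem_ker, hq, hπ] at hx
    exact hS p hx
  have hsub : Subsingleton (LinearMap.ker q) := by
    apply subsingleton_of_crit_of_smul_top_eq_top s
    · intro f hf
      exact Crit.ker q (hM f (hmem f hf)) (hM'crit f (hmem f hf))
    · rw [hs', eq_top_iff]
      rintro x -
      rw [Submodule.mem_smul_top_iff]
      exact hK x.1 x.2
  have hqinj : Function.Injective q := by
    rw [← LinearMap.ker_eq_bot]
    exact Submodule.eq_bot_of_subsingleton
  have hHaus : IsHausdorff I M := by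
    refine ⟨fun x hx => ?_⟩
    apply hqinj
    rw [map_zero]
    apply IsHausdorff.haus hM'A.toIsHausdorff
    intro n
    have h3 := hx n
    rw [SModEq.zero] at h3 ⊢
    have h4 := Submodule.mem_map_of_mem (f := q) h3
    rw [Submodule.map_smul''] at h4
    exact Submodule.smul_mono le_rfl le_top h4
  have hPrec : IsPrecomplete I M := by
    have hcP : IsAdicComplete I (AdicCompletion I N) := AdicCompletion.isAdicComplete hfg
    have hsurjP : Function.Surjective (AdicCompletion.of I (AdicCompletion I N)) :=
      AdicCompletion.of_surjective_iff.2 hcP.toIsPrecomplete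
    have hmap : Function.Surjective (AdicCompletion.map I g) := AdicCompletion.map_surjective I hg
    have : Function.Surjective (AdicCompletion.of I M) := by
      intro y
      obtain ⟨z, rfl⟩ := hmap y
      obtain ⟨p, rfl⟩ := hsurjP z
      exact ⟨g p, (AdicCompletion.map_of I g p).symm⟩
    exact AdicCompletion.of_surjective_iff.1 this
  exact { toIsHausdorff := hHaus, toIsPrecomplete := hPrec }

/-- finiteness of the completion over the completed ring -/
theorem finite_of_surjective [hMc : IsAdicComplete I M] (N : Type u) [AddCommGroup N] [Module A N]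
    [Module.Finite A N] (φ : N →ₗ[A] M) (g : AdicCompletion I N →ₗ[A] M)
    (hgφ : ∀ x, g (AdicCompletion.of I N x) = φ x) (hg : Function.Surjective g) :
    Module.Finite (AdicCompletion I A) (AdicCompletion I M) := by
  have hfg : I.FG := IsNoetherian.noetherian I
  have : Module.Finite (AdicCompletion I A) (AdicCompletion I N) :=
    Module.Finite.equiv (AdicCompletion.ofTensorProductEquivOfFiniteNoetherian I N)
  have hcM : IsAdicComplete I (AdicCompletion I M) := AdicCompletion.isAdicComplete hfg
  let d : AdicCompletion I N →ₗ[A] AdicCompletion I M :=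
    (AdicCompletion.map I φ).restrictScalars A - (AdicCompletion.of I M) ∘ₗ g
  have hd0 : ∀ n, d (AdicCompletion.of I N n) = 0 := by
    intro n
    show AdicCompletion.map I φ (AdicCompletion.of I N n) -
      AdicCompletion.of I M (g (AdicCompletion.of I N n)) = 0
    rw [AdicCompletion.map_of, hgφ, sub_self]
  have key : ∀ p, d p = 0 := by
    intro p
    apply IsHausdorff.haus hcM.toIsHausdorff
    intro k
    rw [SModEq.zero]
    obtain ⟨n, hn⟩ := Submodule.mkQ_surjective _ (AdicCompletion.eval I N k p)
    have hr : p - AdicCompletion.of I N n ∈ (I ^ k • ⊤ : Submodule A (AdicCompletion I N)) := by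
      rw [AdicCompletion.pow_smul_top_eq_ker_eval hfg, LinearMap.mem_ker, map_sub,
        AdicCompletion.eval_of, hn, sub_self]
    have e : d p = d (p - AdicCompletion.of I N n) := by
      rw [map_sub, hd0, sub_zero]
    rw [e]
    have h4 := Submodule.mem_map_of_mem (f := d) hr
    rw [Submodule.map_smul''] at h4
    exact Submodule.smul_mono le_rfl le_top h4
  have hsurj : Function.Surjective (AdicCompletion.map I φ) := by
    intro y
    obtain ⟨m, rfl⟩ := (AdicCompletion.of_bijective_iff.2 hMc).2 y
    obtain ⟨p, rfl⟩ := hg m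
    refine ⟨p, ?_⟩
    have := key p
    exact sub_eq_zero.1 this
  exact Module.Finite.of_surjective (AdicCompletion.map I φ) hsurj

end Alg

/-- a derived complete module with finite reduction is adically complete and its completion is
finite over the completed ring. -/
theorem main (M : Type u) [AddCommGroup M] [Module A M]
    (hc : DRing.IsDerivedComplete I (Dual.inD A M))
    (hf : Module.Finite A (M ⧸ I • (⊤ : Submodule A M))) :
    IsAdicComplete I M ∧ Module.Finite (AdicCompletion I A) (AdicCompletion I M) := by
  have hfg : I.FG := IsNoetherian.noetherian I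
  have hM : ∀ f ∈ I, Crit f M := (isDerivedComplete_iff_crit I M).1 hc
  obtain ⟨t, φ₀, hφ₀⟩ := Module.Finite.exists_fin' A (M ⧸ I • (⊤ : Submodule A M))
  obtain ⟨φ, hφ⟩ : ∃ φ : (Fin t → A) →ₗ[A] M, (I • (⊤ : Submodule A M)).mkQ ∘ₗ φ = φ₀ :=
    Module.projective_lifting_property ((I • (⊤ : Submodule A M)).mkQ) φ₀
      (Submodule.mkQ_surjective _)
  obtain ⟨g, hg⟩ := exists_extension I (Fin t → A) M hc φ
  have hP : ∀ f ∈ I, Crit f (AdicCompletion I (Fin t → A)) := by
    have : IsAdicComplete I (AdicCompletion I (Fin t → A)) := AdicCompletion.isAdicComplete hfg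
    exact (isDerivedComplete_iff_crit I _).1 (Groth.Agent.S7048.result I _)
  have hsup : LinearMap.range g ⊔ I • (⊤ : Submodule A M) = ⊤ := by
    rw [eq_top_iff]
    rintro x -
    obtain ⟨v, hv⟩ := hφ₀ ((I • (⊤ : Submodule A M)).mkQ x)
    have h1 : (I • (⊤ : Submodule A M)).mkQ (φ v) = (I • (⊤ : Submodule A M)).mkQ x := by
      rw [← hv, ← hφ]
      rfl
    have h2 : x - φ v ∈ I • (⊤ : Submodule A M) := by
      rw [← Submodule.Quotient.mk_eq_zero, Submodule.Quotient.mk_sub]
      exact sub_eq_zero.2 h1.symm
    have h3 : x = g (AdicCompletion.of I (Fin t → A) v) + (x - φ v) := by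
      rw [hg]
      abel
    rw [h3]
    exact Submodule.add_mem_sup ⟨_, rfl⟩ h2
  have hsurj := surjective_of_sup_eq_top I M hM hP g hsup
  have hcomp := complete_of_surjective I M hM (Fin t → A) g hsurj
  exact ⟨hcomp, finite_of_surjective I M (Fin t → A) φ g hg hsurj⟩

end Groth.Agent.R2.H31.DCFin
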