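import Mathlib
import Groth.Prelude.Def_DRing2
import Groth.Agent.Lib.Helper1CompactPC

/-!
# `Ext` out of a pseudo-coherent object via cocycles; Artin–Rees for `Ext` (helper31)

For a K-projective complex `E` and a module `M`, the group `Hom(Q E, M[p])` is a quotient of the
module of cocycles `Zc E j M ⊆ Hom(E^j, M)` (`j = -p`), via the linear map `Psi`.
* `finite_hom_of_pc`: over a Noetherian ring, `Ext^p(K, M)` is finite for `K` pseudo-coherent, `M`
  finite.
* `ext_artin_rees`: the image of `Ext^p(K, N) → Ext^p(K, M)` is contained in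
  `I^(n-c) Ext^p(K, M)` whenever `N → M` has image in `I^n M`.
-/

set_option autoImplicit false
universe u
open CategoryTheory CategoryTheory.Limits DerivedCategory
attribute [local instance] HasDerivedCategory.standard

namespace Groth.Agent.R2.H31.ExtAR

open Groth.Agent.Lib.Helper1.Compact

variable {A : Type u} [CommRing A]

section Psi

variable (E : DRing.Cx A) (j : ℤ)

/-- cocycles in `Hom(E^j, M)`. -/
def Zc (M : Type u) [AddCommGroup M] [Module A M] : Submodule A (E.X j →ₗ[A] M) :=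
  LinearMap.ker (LinearMap.lcomp A M (E.d (j - 1) j).hom)

variable {E j}

lemma mem_Zc {M : Type u} [AddCommGroup M] [Module A M] (g : E.X j →ₗ[A] M) :
    g ∈ Zc E j M ↔ g ∘ₗ (E.d (j - 1) j).hom = 0 := by
  rw [Zc, LinearMap.mem_ker]
  rfl

lemma Zc_comp {M : Type u} [AddCommGroup M] [Module A M] (g : Zc E j M) :
    E.d (j - 1) j ≫ ModuleCat.ofHom g.1 = 0 := by
  apply ModuleCat.hom_ext
  exact (mem_Zc g.1).1 g.2

lemma toSingle_add {N : ModuleCat.{u} A} (g g' : E.X j ⟶ N) (hg : E.d (j - 1) j ≫ g = 0)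
    (hg' : E.d (j - 1) j ≫ g' = 0) :
    toSingle E j (g + g') (by rw [Preadditive.comp_add, hg, hg', add_zero]) =
      toSingle E j g hg + toSingle E j g' hg' := by
  apply HomologicalComplex.to_single_hom_ext
  rw [HomologicalComplex.add_f_apply, toSingle_f, toSingle_f, toSingle_f, Preadditive.add_comp]

lemma toSingle_smul {N : ModuleCat.{u} A} (a : A) (g : E.X j ⟶ N) (hg : E.d (j - 1) j ≫ g = 0) :
    toSingle E j (a • g) (by rw [Linear.comp_smul, hg, smul_zero]) = a • toSingle E j g hg := by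
  apply HomologicalComplex.to_single_hom_ext
  rw [HomologicalComplex.smul_f_apply, toSingle_f, toSingle_f, Linear.smul_comp]

variable (E j) in
/-- the class of a cocycle. -/
noncomputable def Psi (p : ℤ) (hpj : p + j = 0) (M : Type u) [AddCommGroup M] [Module A M] :
    Zc E j M →ₗ[A] (Q.obj E ⟶ (Dual.inD A M)⟦p⟧) where
  toFun g := Q.map (toSingle E j (ModuleCat.ofHom g.1) (Zc_comp g)) ≫
    (shiftSingleIso p j hpj (ModuleCat.of A M)).inv
  map_add' g g' := by
    have : toSingle E j (ModuleCat.ofHom (g + g').1) (Zc_comp (g + g')) =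
        toSingle E j (ModuleCat.ofHom g.1) (Zc_comp g) +
          toSingle E j (ModuleCat.ofHom g'.1) (Zc_comp g') :=
      toSingle_add _ _ (Zc_comp g) (Zc_comp g')
    rw [this, Functor.map_add, Preadditive.add_comp]
  map_smul' a g := by
    have : toSingle E j (ModuleCat.ofHom (a • g).1) (Zc_comp (a • g)) =
        a • toSingle E j (ModuleCat.ofHom g.1) (Zc_comp g) :=
      toSingle_smul a _ (Zc_comp g)
    rw [this, Functor.map_smul, Linear.smul_comp]
    rfl

lemma Psi_surjective [E.IsKProjective] (p : ℤ) (hpj : p + j = 0) (M : Type u) [AddCommGroup M]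
    [Module A M] : Function.Surjective (Psi E j p hpj M) := by
  intro x
  obtain ⟨g, hg, h⟩ := exists_cocycle E j (ModuleCat.of A M)
    (x ≫ (shiftSingleIso p j hpj (ModuleCat.of A M)).hom)
  have hg' : g.hom ∈ Zc E j M := by
    rw [mem_Zc]
    exact congrArg ModuleCat.Hom.hom hg
  refine ⟨⟨g.hom, hg'⟩, ?_⟩
  show Q.map (toSingle E j (ModuleCat.ofHom g.hom) _) ≫ _ = x
  rw [← cancel_mono (shiftSingleIso p j hpj (ModuleCat.of A M)).hom, Category.assoc,
    Iso.inv_hom_id, Category.comp_id, h]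
  rfl

lemma Psi_comp (p : ℤ) (hpj : p + j = 0) {N M : Type u} [AddCommGroup N] [Module A N]
    [AddCommGroup M] [Module A M] (ι : N →ₗ[A] M) (g : Zc E j N)
    (hg : ι ∘ₗ g.1 ∈ Zc E j M) :
    Psi E j p hpj N g ≫ ((singleFunctor (ModuleCat.{u} A) 0).map (ModuleCat.ofHom ι))⟦p⟧' =
      Psi E j p hpj M ⟨ι ∘ₗ g.1, hg⟩ := by
  show (Q.map (toSingle E j (ModuleCat.ofHom g.1) (Zc_comp g)) ≫
    (shiftSingleIso p j hpj (ModuleCat.of A N)).inv) ≫ _ =
    Q.map (toSingle E j (ModuleCat.ofHom (ι ∘ₗ g.1)) _) ≫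
      (shiftSingleIso p j hpj (ModuleCat.of A M)).inv
  have nat := shiftSingleIso_naturality p j hpj (ModuleCat.ofHom ι)
  have h1 : (shiftSingleIso p j hpj (ModuleCat.of A N)).inv ≫
      ((singleFunctor (ModuleCat.{u} A) 0).map (ModuleCat.ofHom ι))⟦p⟧' =
      Q.map ((HomologicalComplex.single (ModuleCat.{u} A) (ComplexShape.up ℤ) j).map
        (ModuleCat.ofHom ι)) ≫ (shiftSingleIso p j hpj (ModuleCat.of A M)).inv := by
    rw [Iso.inv_comp_eq, ← Category.assoc, ← nat, Category.assoc, Iso.hom_inv_id, Category.comp_id]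
  rw [Category.assoc, h1, ← Category.assoc, ← Functor.map_comp, toSingle_comp]
  rfl

end Psi

section Main

/-- a linear map from a finite free module with image in `J M` lies in `J • ⊤`. -/
lemma mem_smul_top_of_range_le {F M : Type u} [AddCommGroup F] [Module A F] [Module.Finite A F]
    [Module.Free A F] [AddCommGroup M] [Module A M] (J : Ideal A) (g : F →ₗ[A] M)
    (hg : LinearMap.range g ≤ J • ⊤) : g ∈ (J • ⊤ : Submodule A (F →ₗ[A] M)) := by
  classical
  let b := Module.Free.chooseBasis A F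
  have hsum : g = ∑ i, LinearMap.smulRightₗ (b.coord i) (g (b i)) := by
    apply b.ext
    intro k
    rw [LinearMap.sum_apply]
    simp only [LinearMap.smulRightₗ_apply]
    rw [Finset.sum_eq_single k]
    · simp
    · intro i _ hik
      rw [LinearMap.smulRight_apply, Module.Basis.coord_apply, Module.Basis.repr_self,
        Finsupp.single_apply, if_neg (Ne.symm hik), zero_smul]
    · intro h
      exact absurd (Finset.mem_univ k) h
  rw [hsum]
  refine Submodule.sum_mem _ (fun i _ => ?_)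
  have h1 : g (b i) ∈ (J • ⊤ : Submodule A M) := hg ⟨b i, rfl⟩
  have h2 : (LinearMap.smulRightₗ (b.coord i) : M →ₗ[A] F →ₗ[A] M) (g (b i)) ∈
      Submodule.map (LinearMap.smulRightₗ (b.coord i) : M →ₗ[A] F →ₗ[A] M) (J • ⊤) :=
    Submodule.mem_map_of_mem h1
  rw [Submodule.map_smul''] at h2
  exact Submodule.smul_mono le_rfl le_top h2

/-- the data attached to a pseudo-coherent object: a surjection from a finite module of
cocycles. -/
lemma exists_psi (K : Dual.D A) (hK : DRing.IsPseudoCoherent' A K) (p : ℤ) :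
    ∃ (E : DRing.Cx A) (_ : E.IsKProjective) (j : ℤ) (_ : p + j = 0) (_ : Q.obj E ≅ K),
      Module.Finite A (E.X j) ∧ Module.Free A (E.X j) := by
  obtain ⟨E, b, hb, hff, ⟨e0⟩⟩ := hK
  have hEle : E.IsStrictlyLE b := by
    rw [CochainComplex.isStrictlyLE_iff]
    exact hb
  have : ∀ i : ℤ, Projective (E.X i) := fun i =>
    have := (hff i).2
    ModuleCat.projective_of_categoryTheory_projective _
  have hKP : E.IsKProjective := CochainComplex.isKProjective_of_projective E b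
  exact ⟨E, hKP, -p, by omega, e0, (hff _).1, (hff _).2⟩

variable [IsNoetherianRing A]

/-- over a Noetherian ring, `Ext^p(K, M)` is a finite module for `K` pseudo-coherent and `M`
finite. -/
theorem finite_hom_of_pc (K : Dual.D A) (hK : DRing.IsPseudoCoherent' A K) (M : Type u)
    [AddCommGroup M] [Module A M] [Module.Finite A M] (p : ℤ) :
    Module.Finite A (K ⟶ (Dual.inD A M)⟦p⟧) := by
  obtain ⟨E, hKP, j, hpj, e0, h1, h2⟩ := exists_psi K hK p
  have : Module.Finite A (E.X j →ₗ[A] M) := inferInstance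
  have : IsNoetherian A (E.X j →ₗ[A] M) := inferInstance
  have : Module.Finite A (Zc E j M) := inferInstance
  let Ψ : Zc E j M →ₗ[A] (K ⟶ (Dual.inD A M)⟦p⟧) :=
    (Linear.leftComp A ((Dual.inD A M)⟦p⟧) e0.inv) ∘ₗ Psi E j p hpj M
  have hΨ : Function.Surjective Ψ := by
    intro x
    obtain ⟨g, hg⟩ := Psi_surjective p hpj M (e0.hom ≫ x)
    refine ⟨g, ?_⟩
    show e0.inv ≫ Psi E j p hpj M g = x
    rw [hg, Iso.inv_hom_id_assoc]
  exact Module.Finite.of_surjective Ψ hΨ

/-- Artin–Rees for `Ext` out of a pseudo-coherent object. -/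
theorem ext_artin_rees (I : Ideal A) (K : Dual.D A) (hK : DRing.IsPseudoCoherent' A K)
    (M : Type u) [AddCommGroup M] [Module A M] [Module.Finite A M] (p : ℤ) :
    ∃ c : ℕ, ∀ n : ℕ, c ≤ n → ∀ (N : Type u) [AddCommGroup N] [Module A N] (ι : N →ₗ[A] M),
      LinearMap.range ι ≤ I ^ n • ⊤ → ∀ e : K ⟶ (Dual.inD A N)⟦p⟧,
      e ≫ ((singleFunctor (ModuleCat.{u} A) 0).map (ModuleCat.ofHom ι))⟦p⟧' ∈
        (I ^ (n - c) • ⊤ : Submodule A (K ⟶ (Dual.inD A M)⟦p⟧)) := by
  obtain ⟨E, hKP, j, hpj, e0, h1, h2⟩ := exists_psi K hK p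
  have : Module.Finite A (E.X j →ₗ[A] M) := inferInstance
  obtain ⟨c, hc⟩ := Ideal.exists_pow_inf_eq_pow_smul I (Zc E j M)
  refine ⟨c, fun n hn N _ _ ι hι e => ?_⟩
  let Ψ : Zc E j M →ₗ[A] (K ⟶ (Dual.inD A M)⟦p⟧) :=
    (Linear.leftComp A ((Dual.inD A M)⟦p⟧) e0.inv) ∘ₗ Psi E j p hpj M
  obtain ⟨g', hg'⟩ := Psi_surjective p hpj N (e0.hom ≫ e)
  have hgZ : ι ∘ₗ g'.1 ∈ Zc E j M := by
    rw [mem_Zc, LinearMap.comp_assoc, (mem_Zc g'.1).1 g'.2, LinearMap.comp_zero]
  have hcomp := Psi_comp p hpj ι g' hgZ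
  have heq : e ≫ ((singleFunctor (ModuleCat.{u} A) 0).map (ModuleCat.ofHom ι))⟦p⟧' =
      Ψ ⟨ι ∘ₗ g'.1, hgZ⟩ := by
    show _ = e0.inv ≫ Psi E j p hpj M ⟨ι ∘ₗ g'.1, hgZ⟩
    rw [← hcomp, hg', Category.assoc, Iso.inv_hom_id_assoc]
  have hmem1 : ι ∘ₗ g'.1 ∈ (I ^ n • ⊤ : Submodule A (E.X j →ₗ[A] M)) := by
    apply mem_smul_top_of_range_le
    exact (LinearMap.range_comp_le_range _ _).trans hι
  have hmem2 : ι ∘ₗ g'.1 ∈ I ^ (n - c) • Zc E j M := by
    have h3 : ι ∘ₗ g'.1 ∈ I ^ n • ⊤ ⊓ Zc E j M := ⟨hmem1, hgZ⟩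
    rw [hc n hn] at h3
    exact Submodule.smul_mono le_rfl inf_le_right h3
  have hmem3 : (⟨ι ∘ₗ g'.1, hgZ⟩ : Zc E j M) ∈ (I ^ (n - c) • ⊤ : Submodule A (Zc E j M)) := by
    rw [Submodule.mem_smul_top_iff]
    exact hmem2
  rw [heq]
  have h4 : Ψ ⟨ι ∘ₗ g'.1, hgZ⟩ ∈ Submodule.map Ψ (I ^ (n - c) • ⊤) :=
    Submodule.mem_map_of_mem hmem3
  rw [Submodule.map_smul''] at h4
  exact Submodule.smul_mono le_rfl le_top h4

end Main

end Groth.Agent.R2.H31.ExtAR
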