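import Mathlib
import Groth.Agent.R2.H31KL

/-!
# Artin–Rees for `Ext`: factorisation through `I^k N` (helper31)

For a Noetherian ring `A`, an ideal `I`, a finite module `M` and any module `N`, there is `c` such
that for `k + c ≤ n` every class `e ∈ Ext^d(M, N)`, restricted to `I^n M`, comes from
`Ext^d(I^n M, I^k N)`.
-/

set_option autoImplicit false
universe u
open CategoryTheory Limits Pretriangulated DerivedCategory
attribute [local instance] HasDerivedCategory.standard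

namespace Groth.Agent.R2.H31.ExtFac

open Groth.Agent.R2.H31.KL

variable {A : Type u} [CommRing A]

/-- the inclusion `I^k N → N` -/
noncomputable abbrev incl (I : Ideal A) (N : ModuleCat.{u} A) (k : ℕ) :
    ModuleCat.of A ↥(I ^ k • ⊤ : Submodule A N) ⟶ N :=
  ModuleCat.ofHom (I ^ k • ⊤ : Submodule A N).subtype

/-- the factorisation property in degree `d` -/
def Fac (I : Ideal A) (N : ModuleCat.{u} A) (d : ℕ) : Prop :=
  ∀ (M : ModuleCat.{u} A) [Module.Finite A M], ∃ c : ℕ, ∀ n k : ℕ, k + c ≤ n →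
    ∀ (M' : ModuleCat.{u} A) (ι : M' ⟶ M),
      LinearMap.range ι.hom ≤ (I ^ n • ⊤ : Submodule A M) → ∀ e : sg M ⟶ (sg N)⟦(d : ℤ)⟧,
        ∃ e' : sg M' ⟶ (sg (ModuleCat.of A ↥(I ^ k • ⊤ : Submodule A N)))⟦(d : ℤ)⟧,
          e' ≫ ((singleFunctor (ModuleCat.{u} A) 0).map (incl I N k))⟦(d : ℤ)⟧' =
            (singleFunctor (ModuleCat.{u} A) 0).map ι ≫ e

variable [IsNoetherianRing A]

theorem fac (I : Ideal A) (N : ModuleCat.{u} A) : ∀ d : ℕ, Fac I N d := by
  intro d
  induction d with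
  | zero =>
    intro M _
    refine ⟨0, fun n k hnk M' ι hι e => ?_⟩
    let e0 := (shiftFunctorZero' (DerivedCategory (ModuleCat.{u} A)) (((0 : ℕ) : ℤ))
      (by simp)).app (sg N)
    let e0' := (shiftFunctorZero' (DerivedCategory (ModuleCat.{u} A)) (((0 : ℕ) : ℤ))
      (by simp)).app (sg (ModuleCat.of A ↥(I ^ k • ⊤ : Submodule A N)))
    obtain ⟨g, hg⟩ := (singleFunctor (ModuleCat.{u} A) 0).map_surjective (e ≫ e0.hom)
    have hmem : ∀ x : M', g.hom (ι.hom x) ∈ (I ^ k • ⊤ : Submodule A N) := by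
      intro x
      have hx : ι.hom x ∈ (I ^ n • ⊤ : Submodule A M) := hι ⟨x, rfl⟩
      have hx' : ι.hom x ∈ (I ^ k • ⊤ : Submodule A M) :=
        Submodule.smul_mono_left (Ideal.pow_le_pow_right (by omega)) hx
      refine Submodule.smul_induction_on hx' (fun r hr m _ => ?_) (fun a b ha hb => ?_)
      · rw [map_smul]
        exact Submodule.smul_mem_smul hr Submodule.mem_top
      · rw [map_add]
        exact Submodule.add_mem _ ha hb
    let g' : M' ⟶ ModuleCat.of A ↥(I ^ k • ⊤ : Submodule A N) :=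
      ModuleCat.ofHom (LinearMap.codRestrict _ (g.hom ∘ₗ ι.hom) hmem)
    have hg' : g' ≫ incl I N k = ι ≫ g := by
      apply ModuleCat.hom_ext
      rfl
    refine ⟨(singleFunctor (ModuleCat.{u} A) 0).map g' ≫ e0'.inv, ?_⟩
    have hnat : e0'.inv ≫ ((singleFunctor (ModuleCat.{u} A) 0).map (incl I N k))⟦((0 : ℕ) : ℤ)⟧' =
        (singleFunctor (ModuleCat.{u} A) 0).map (incl I N k) ≫ e0.inv :=
      ((shiftFunctorZero' (DerivedCategory (ModuleCat.{u} A)) (((0 : ℕ) : ℤ))
        (by simp)).inv.naturality ((singleFunctor (ModuleCat.{u} A) 0).map (incl I N k))).symm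
    rw [Category.assoc, hnat, ← Category.assoc, ← Functor.map_comp, hg', Functor.map_comp,
      Category.assoc, hg, Category.assoc, Iso.hom_inv_id, Category.comp_id]
  | succ d ih =>
    intro M _
    obtain ⟨r, π, hπ⟩ := Module.Finite.exists_fin' A M
    let F : ModuleCat.{u} A := ModuleCat.of A (Fin r → A)
    have hFproj : Projective F := ModuleCat.projective_of_categoryTheory_projective F
    let K : Submodule A (Fin r → A) := LinearMap.ker π
    let S : ShortComplex (ModuleCat.{u} A) :=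
      ShortComplex.mk (ModuleCat.ofHom K.subtype) (ModuleCat.ofHom π)
        (ModuleCat.hom_ext (LinearMap.ext fun x => x.2))
    have hS : S.ShortExact :=
      ModuleCat.shortComplex_shortExact _ (LinearMap.exact_subtype_ker_map π)
        (Submodule.injective_subtype _) hπ
    obtain ⟨c₂, hc₂⟩ := ih (ModuleCat.of A K)
    obtain ⟨c₁, hc₁⟩ := Ideal.exists_pow_inf_eq_pow_smul I K
    refine ⟨c₁ + c₂, fun n k hnk M' ι hι e => ?_⟩
    -- reduce to the inclusion of `I^n M`
    let Mm : Submodule A M := I ^ n • ⊤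
    let Fm : Submodule A (Fin r → A) := I ^ n • ⊤
    let ι₀ : M' ⟶ ModuleCat.of A Mm := ModuleCat.ofHom (LinearMap.codRestrict _ ι.hom
      (fun x => hι ⟨x, rfl⟩))
    let inc : ModuleCat.of A Mm ⟶ M := ModuleCat.ofHom Mm.subtype
    have hfac : ι = ι₀ ≫ inc := by
      apply ModuleCat.hom_ext
      rfl
    suffices hsuff : ∃ e' : sg (ModuleCat.of A Mm) ⟶
        (sg (ModuleCat.of A ↥(I ^ k • ⊤ : Submodule A N)))⟦((d + 1 : ℕ) : ℤ)⟧,
        e' ≫ ((singleFunctor (ModuleCat.{u} A) 0).map (incl I N k))⟦((d + 1 : ℕ) : ℤ)⟧' =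
          (singleFunctor (ModuleCat.{u} A) 0).map inc ≫ e by
      obtain ⟨e', he'⟩ := hsuff
      refine ⟨(singleFunctor (ModuleCat.{u} A) 0).map ι₀ ≫ e', ?_⟩
      rw [Category.assoc, he', hfac, Functor.map_comp, Category.assoc]
    -- the sub short exact sequence
    have hmap : Submodule.map π Fm = Mm := by
      show Submodule.map π (I ^ n • ⊤) = I ^ n • ⊤
      rw [Submodule.map_smul'', Submodule.map_top, LinearMap.range_eq_top.2 hπ]
    let πm : Fm →ₗ[A] Mm := π.restrict (fun x hx => by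
      rw [← hmap]
      exact Submodule.mem_map_of_mem hx)
    have hπm : Function.Surjective πm := by
      rintro ⟨y, hy⟩
      have hy' : y ∈ Submodule.map π Fm := by rw [hmap]; exact hy
      obtain ⟨x, hx, hxy⟩ := hy'
      exact ⟨⟨x, hx⟩, Subtype.ext hxy⟩
    let Km : Submodule A Fm := LinearMap.ker πm
    let Sm : ShortComplex (ModuleCat.{u} A) :=
      ShortComplex.mk (ModuleCat.ofHom (X := Km) (Y := Fm) Km.subtype)
        (ModuleCat.ofHom (X := Fm) (Y := Mm) πm)
        (ModuleCat.hom_ext (LinearMap.ext fun x => x.2))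
    have hSm : Sm.ShortExact :=
      ModuleCat.shortComplex_shortExact _ (LinearMap.exact_subtype_ker_map πm)
        (Submodule.injective_subtype _) hπm
    let τ₁' : Km →ₗ[A] K := LinearMap.codRestrict K (Fm.subtype ∘ₗ Km.subtype) (fun x => by
      show π x.1.1 = 0
      exact congrArg Subtype.val (x.2 : πm x.1 = 0))
    let φ : Sm ⟶ S :=
      { τ₁ := ModuleCat.ofHom τ₁'
        τ₂ := ModuleCat.ofHom Fm.subtype
        τ₃ := ModuleCat.ofHom Mm.subtype
        comm₁₂ := by apply ModuleCat.hom_ext; rfl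
        comm₂₃ := by apply ModuleCat.hom_ext; rfl }
    have hcomm : hSm.singleδ ≫ ((singleFunctor (ModuleCat.{u} A) 0).map φ.τ₁)⟦(1 : ℤ)⟧' =
        (singleFunctor (ModuleCat.{u} A) 0).map φ.τ₃ ≫ hS.singleδ :=
      (ShortComplex.ShortExact.singleTriangle.map hSm hS φ).comm₃
    -- `e` comes from `Ext^d(K, N)`
    have hy0 : (singleFunctor (ModuleCat.{u} A) 0).map S.g ≫ e = 0 :=
      lemmaV F N _ (by push_cast; omega) _
    obtain ⟨y', hy''⟩ : ∃ y' : (sg (ModuleCat.of A K))⟦(1 : ℤ)⟧ ⟶ (sg N)⟦((d + 1 : ℕ) : ℤ)⟧,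
        e = hS.singleδ ≫ y' :=
      Triangle.yoneda_exact₃ _ hS.singleTriangle_distinguished e hy0
    let ea := (shiftFunctorAdd' (DerivedCategory (ModuleCat.{u} A)) (d : ℤ) 1 ((d + 1 : ℕ) : ℤ)
      (by push_cast; ring)).app (sg N)
    let ea' := (shiftFunctorAdd' (DerivedCategory (ModuleCat.{u} A)) (d : ℤ) 1 ((d + 1 : ℕ) : ℤ)
      (by push_cast; ring)).app (sg (ModuleCat.of A ↥(I ^ k • ⊤ : Submodule A N)))
    obtain ⟨y₀, hy₀⟩ := (shiftFunctor (DerivedCategory (ModuleCat.{u} A)) (1 : ℤ)).map_surjective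
      (y' ≫ ea.hom)
    -- the restriction of `y₀` to `K ∩ I^n F` factors
    have hτ : LinearMap.range (ModuleCat.Hom.hom φ.τ₁) ≤
        (I ^ (n - c₁) • ⊤ : Submodule A (ModuleCat.of A K)) := by
      rintro _ ⟨x, rfl⟩
      show τ₁' x ∈ (I ^ (n - c₁) • ⊤ : Submodule A K)
      rw [Submodule.mem_smul_top_iff]
      have h1 : (x.1.1 : Fin r → A) ∈ (I ^ n • ⊤ : Submodule A (Fin r → A)) ⊓ K :=
        ⟨x.1.2, (τ₁' x).2⟩
      rw [hc₁ n (by omega)] at h1
      exact Submodule.smul_mono le_rfl inf_le_right h1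
    obtain ⟨z, hz⟩ := hc₂ (n - c₁) k (by omega) (ModuleCat.of A Km) φ.τ₁ hτ y₀
    refine ⟨hSm.singleδ ≫ z⟦(1 : ℤ)⟧' ≫ ea'.inv, ?_⟩
    have hnat : ea'.inv ≫
        ((singleFunctor (ModuleCat.{u} A) 0).map (incl I N k))⟦((d + 1 : ℕ) : ℤ)⟧' =
        (((singleFunctor (ModuleCat.{u} A) 0).map (incl I N k))⟦(d : ℤ)⟧')⟦(1 : ℤ)⟧' ≫ ea.inv :=
      ((shiftFunctorAdd' (DerivedCategory (ModuleCat.{u} A)) (d : ℤ) 1 ((d + 1 : ℕ) : ℤ)
        (by push_cast; ring)).inv.naturality
          ((singleFunctor (ModuleCat.{u} A) 0).map (incl I N k))).symm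
    have hy1 : y' = y₀⟦(1 : ℤ)⟧' ≫ ea.inv := by
      rw [hy₀, Category.assoc, Iso.hom_inv_id, Category.comp_id]
    show _ = (singleFunctor (ModuleCat.{u} A) 0).map φ.τ₃ ≫ e
    rw [Category.assoc, Category.assoc, hnat, ← Category.assoc (z⟦(1 : ℤ)⟧'), ← Functor.map_comp,
      hz, Functor.map_comp, hy'', ← Category.assoc ((singleFunctor (ModuleCat.{u} A) 0).map φ.τ₃),
      ← hcomm, hy1]
    simp only [Category.assoc]

end Groth.Agent.R2.H31.ExtFac
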