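import Mathlib
import Groth.Agent.R2.H31FlatBC
import Groth.Agent.R2.H31Amp
import Groth.Agent.Lib.Helper1TorN
import Groth.Agent.Lib.Helper1KF9
import Groth.Agent.Lib.Helper1DT2
import Groth.Agent.Lib.Helper1LT

/-!
# Derived completion commutes with `- ⊗^L M` for finite `M` (helper31)
-/

set_option autoImplicit false
universe u
open CategoryTheory Limits HomologicalComplex CochainComplex MonoidalCategory
attribute [local instance] HasDerivedCategory.standard

namespace Groth.Agent.R2.H31.LTFin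

open Groth.Agent.Lib.Helper1.Tor Groth.Agent.R2.H31.Dev Groth.Agent.R2.H31.KosF
  Groth.Agent.R2.H31.KosFac DerivedCategory Pretriangulated Groth.Agent.R2.H31.CK
  Groth.Agent.R2.H31.Univ Groth.Agent.R2.H31.DComp Groth.Agent.R2.H31.Tri
  Groth.Agent.R2.H31.Amp Groth.Agent.Lib.Helper10.DerComplete Groth.Agent.R2.H31.FlatBC

section KProj

variable {C : Type*} [Category C] [Abelian C]

/-- the mapping cone of a morphism of K-projective complexes is K-projective -/
lemma isKProjective_mappingCone {K L : CochainComplex C ℤ} (φ : K ⟶ L) [K.IsKProjective]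
    [L.IsKProjective] : (mappingCone φ).IsKProjective := by
  rw [isKProjective_iff_leftOrthogonal]
  exact (HomotopyCategory.subcategoryAcyclic C).leftOrthogonal.ext_of_isTriangulatedClosed₃ _
    (HomotopyCategory.mappingCone_triangleh_distinguished φ)
    (IsKProjective.leftOrthogonal K) (IsKProjective.leftOrthogonal L)

end KProj

variable {A : Type u} [CommRing A]

instance isKProjective_kosFunctor (l : List A) (P : DRing.Cx A) [P.IsKProjective] :
    ((kosFunctor l).obj P).IsKProjective := by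
  induction l with
  | nil => exact inferInstanceAs P.IsKProjective
  | cons f l ih =>
    exact isKProjective_mappingCone (f • 𝟙 ((kosFunctor l).obj P))

/-- an object on which a power of `f` acts by zero is `f`-complete -/
lemma isCpl_of_pow_smul_eq_zero (f : A) (T : Dual.D A) (k : ℕ) (h : (f ^ k) • 𝟙 T = 0) :
    IsCpl f T := by
  intro X hX φ
  have h1 : (f ^ k) • φ = 0 := by
    have : (f ^ k) • φ = φ ≫ ((f ^ k) • 𝟙 T) := by
      rw [Linear.comp_smul, Category.comp_id]
    rw [this, h, comp_zero]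
  clear h
  induction k with
  | zero => simpa using h1
  | succ k ih =>
    apply ih
    apply hX.eq_zero_of_smul_eq_zero f
    rw [smul_smul, ← pow_succ']
    exact h1

/-- left orthogonality to all derived complete objects -/
def LO (I : Ideal A) (Y : Dual.D A) : Prop :=
  ∀ E : Dual.D A, DRing.IsDerivedComplete I E → Orth Y E

lemma LO.of_iso {I : Ideal A} {Y Y' : Dual.D A} (h : LO I Y) (e : Y ≅ Y') : LO I Y' := by
  intro E hE n φ
  have := h E hE n (e.hom ≫ φ)
  rw [← cancel_epi e.hom, this, comp_zero]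

lemma LO.obj₃ {I : Ideal A} (T : Triangle (Dual.D A)) (hT : T ∈ distTriang (Dual.D A))
    (h1 : LO I T.obj₁) (h2 : LO I T.obj₂) : LO I T.obj₃ := by
  intro E hE n ψ
  have h0 : T.mor₂ ≫ ψ = 0 := h2 E hE n _
  obtain ⟨θ, hθ⟩ : ∃ θ : T.obj₁⟦(1 : ℤ)⟧ ⟶ E⟦n⟧, ψ = T.mor₃ ≫ θ :=
    Triangle.yoneda_exact₃ _ hT ψ h0
  rw [hθ, orth_shift_left (h1 E hE) 1 n θ, comp_zero]

lemma lo_kos {I : Ideal A} (l : List A) (X : DRing.Cx A) (h : LO I (Q.obj X)) :
    LO I (Q.obj ((kosFunctor l).obj X)) := by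
  induction l with
  | nil => exact h
  | cons f l ih =>
    exact LO.obj₃ _ (mappingCone_triangle_distinguished (f • 𝟙 ((kosFunctor l).obj X))) ih ih

/-- if `Q X` is left orthogonal to the derived complete objects, the iterated cone of `X` on
generators of `I` is acyclic. -/
theorem isZero_Q_kos_of_lo (I : Ideal A) (l : List A) (hl : Ideal.span {x | x ∈ l} = I)
    (X : DRing.Cx A) (h : LO I (Q.obj X)) : IsZero (Q.obj ((kosFunctor l).obj X)) := by
  set T := Q.obj ((kosFunctor l).obj X) with hT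
  have hc : DRing.IsDerivedComplete I T := by
    rw [← hl]
    refine isDerivedComplete_of_generators _ T (fun g hg => ?_)
    obtain ⟨k, hk⟩ := kos_nilpotent X l g hg
    exact isCpl_of_pow_smul_eq_zero g T k hk
  have h0 := lo_kos l X h T hc 0 ((shiftFunctorZero (Dual.D A) ℤ).inv.app T)
  rw [IsZero.iff_id_eq_zero]
  have h1 : (shiftFunctorZero (Dual.D A) ℤ).inv.app T ≫ (shiftFunctorZero (Dual.D A) ℤ).hom.app T =
      𝟙 T := Iso.inv_hom_id_app _ _
  rw [← h1, h0, zero_comp]

/-- the cone of a universal arrow towards derived complete objects is left orthogonal to them -/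
theorem lo_obj₃_of_isUniv (I : Ideal A) (T : Triangle (Dual.D A))
    (hT : T ∈ distTriang (Dual.D A))
    (h : IsUniv (DRing.IsDerivedComplete I) T.mor₁) : LO I T.obj₃ := by
  intro E hE n ψ
  have hEn : DRing.IsDerivedComplete I (E⟦n⟧) := isDerivedComplete_shift I hE n
  have h1 : T.mor₂ ≫ ψ = 0 := by
    apply (h _ hEn).1
    dsimp
    rw [← Category.assoc, comp_distTriang_mor_zero₁₂ _ hT, zero_comp, comp_zero]
  obtain ⟨θ, hθ⟩ : ∃ θ : T.obj₁⟦(1 : ℤ)⟧ ⟶ E⟦n⟧, ψ = T.mor₃ ≫ θ :=
    Triangle.yoneda_exact₃ _ hT ψ h1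
  have h1' : IsUniv (DRing.IsDerivedComplete I) (T.mor₁⟦(1 : ℤ)⟧') :=
    IsUniv.shift_one (P := DRing.IsDerivedComplete I)
      (fun E hE => isDerivedComplete_shift I hE (-1)) h
  obtain ⟨θ', hθ'⟩ := (h1' _ hEn).2 θ
  dsimp at hθ'
  rw [hθ, ← hθ', ← Category.assoc, comp_distTriang_mor_zero₃₁ _ hT, zero_comp]

section Univ

open Groth.Agent.Lib.Helper1.KF

/-- for a chain map `u` of K-projective complexes which is universal towards derived complete
objects, so is `M ⊗ u` (on maps to derived complete objects). -/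
theorem bijective_comp_TC (I : Ideal A) (hI : I.FG) (M : ModuleCat.{u} A) {P P' : DRing.Cx A}
    [P.IsKProjective] [P'.IsKProjective] (u : P ⟶ P')
    (hu : IsUniv (DRing.IsDerivedComplete I) (Q.map u)) (E : Dual.D A)
    (hE : DRing.IsDerivedComplete I E) :
    Function.Bijective (fun ψ : Q.obj ((TC M).obj P') ⟶ E => Q.map ((TC M).map u) ≫ ψ) := by
  classical
  obtain ⟨s, hs⟩ := hI
  have hl : Ideal.span {x | x ∈ s.toList} = I := by
    rw [← hs]
    congr 1
    ext x
    simp
  have hc : ∀ f ∈ s.toList, IsCpl f E := fun f hf =>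
    (isDerivedComplete_iff_isCpl I E).1 hE f (by
      rw [← hl]
      exact Ideal.subset_span hf)
  have hLO : LO I (Q.obj (mappingCone u)) :=
    lo_obj₃_of_isUniv I _ (mappingCone_triangle_distinguished u) hu
  have hz := isZero_Q_kos_of_lo I s.toList hl (mappingCone u) hLO
  have : (mappingCone u).IsKProjective := isKProjective_mappingCone u
  set KC := (kosFunctor s.toList).obj (mappingCone u) with hKC
  have hac : KC.Acyclic := fun i => Groth.Agent.R2.H31.Nak.exactAt_of_isZero_Q _ hz i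
  have h0 : Homotopy (𝟙 KC) 0 := IsKProjective.homotopyZero (𝟙 KC) hac
  have h1 : Homotopy (𝟙 ((TC M).obj KC)) 0 :=
    (Homotopy.ofEq (by simp)).trans (((T M).mapHomotopy h0).trans (Homotopy.ofEq (by simp)))
  have h2 : Acyc ((TC M).obj KC) := acyc_of_homotopy_id_zero h1
  obtain ⟨e, -⟩ := exists_iso_kos (B := M) (0 : ModuleCat.of A A ⟶ M) s.toList (mappingCone u)
  have h3 : Acyc ((kosFunctor s.toList).obj ((TC M).obj (mappingCone u))) := h2.of_iso e
  have h4 : Acyc ((kosFunctor s.toList).obj (mappingCone ((TC M).map u))) :=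
    h3.of_iso ((kosFunctor s.toList).mapIso (mappingCone.mapHomologicalComplexIso u (T M)))
  rw [kosFunctor_obj] at h4
  have hex : ∀ i : ℤ, (kos s.toList (mappingCone ((TC M).map u))).ExactAt i := fun i =>
    (HomologicalComplex.exactAt_iff_isZero_homology _ _).2 (h4 i)
  have horth := orth_of_kos_exact E s.toList (mappingCone ((TC M).map u)) hc hex
  exact bijective_comp_of_orth_obj₃ _ (mappingCone_triangle_distinguished ((TC M).map u)) horth

lemma bijective_comp_conj {C : Type*} [Category C] {X X' Y Y' E : C} (α : X' ≅ X) (β : Y ≅ Y')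
    (m : X ⟶ Y) (h : Function.Bijective (fun ψ : Y ⟶ E => m ≫ ψ)) :
    Function.Bijective (fun ψ : Y' ⟶ E => (α.hom ≫ m ≫ β.hom) ≫ ψ) := by
  have : (fun ψ : Y' ⟶ E => (α.hom ≫ m ≫ β.hom) ≫ ψ) =
      (fun ψ : X ⟶ E => α.hom ≫ ψ) ∘ (fun ψ : Y ⟶ E => m ≫ ψ) ∘
        (fun ψ : Y' ⟶ E => β.hom ≫ ψ) := by
    funext ψ
    simp
  rw [this]
  refine Function.Bijective.comp ⟨fun ψ ψ' h => (cancel_epi α.hom).1 h, fun ψ => ⟨α.inv ≫ ψ, ?_⟩⟩
    (Function.Bijective.comp h
      ⟨fun ψ ψ' h => (cancel_epi β.hom).1 h, fun ψ => ⟨β.inv ≫ ψ, ?_⟩⟩)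
  · simp
  · simp

open Groth.Agent.Lib.Helper1.LDer Groth.Agent.Lib.Helper1.DT in
/-- `- ⊗^L M` preserves universal arrows towards derived complete objects. -/
theorem bijective_comp_LTensor (I : Ideal A) (hI : I.FG) (M : ModuleCat.{u} A)
    [DRing.HasLTensor A M] {K K' : Dual.D A} (η : K ⟶ K')
    (hη : IsUniv (DRing.IsDerivedComplete I) η) (E : Dual.D A)
    (hE : DRing.IsDerivedComplete I E) :
    Function.Bijective (fun φ : (DRing.LTensor A M).obj K' ⟶ E =>
      (DRing.LTensor A M).map η ≫ φ) := by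
  obtain ⟨P, hP, -, ⟨e⟩⟩ := exists_kproj_iso K
  obtain ⟨P', hP', -, ⟨e'⟩⟩ := exists_kproj_iso K'
  obtain ⟨u, hu⟩ := Q_map_surjective P P' (e.hom ≫ η ≫ e'.inv)
  have hu' : IsUniv (DRing.IsDerivedComplete I) (Q.map u) := by
    rw [hu, ← Category.assoc]
    exact IsUniv.of_iso (IsUniv.precomp_iso e hη) e'.symm
  have hb := bijective_comp_TC I hI M u hu' E hE
  let a := tCxIsoTC M
  let α : (DRing.LTensor A M).obj K ≅ Q.obj ((TC M).obj P) :=
    (DRing.LTensor A M).mapIso e.symm ≪≫ ltIso M P ≪≫ Q.mapIso (a.app P)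
  let β : Q.obj ((TC M).obj P') ≅ (DRing.LTensor A M).obj K' :=
    Q.mapIso (a.app P').symm ≪≫ (ltIso M P').symm ≪≫ (DRing.LTensor A M).mapIso e'
  have key : (DRing.LTensor A M).map η = α.hom ≫ Q.map ((TC M).map u) ≫ β.hom := by
    have h1 : η = e.inv ≫ Q.map u ≫ e'.hom := by
      rw [hu]
      simp
    have h2 : (DRing.LTensor A M).map (Q.map u) =
        (ltIso M P).hom ≫ Q.map ((tCx M).map u) ≫ (ltIso M P').inv := by
      rw [← Category.assoc, ← ltIso_hom_naturality, Category.assoc, Iso.hom_inv_id,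
        Category.comp_id]
    have h3 : (tCx M).map u = (a.app P).hom ≫ (TC M).map u ≫ (a.app P').inv := by
      rw [Iso.app_inv, Iso.app_hom, ← a.hom.naturality_assoc u, Iso.hom_inv_id_app,
        Category.comp_id]
    rw [h1, Functor.map_comp, Functor.map_comp, h2, h3, Functor.map_comp, Functor.map_comp]
    simp [α, β]
  rw [key]
  exact bijective_comp_conj α β _ hb

end Univ

section AC

open ZeroObject

/-- `AC I Z c`: `Z` receives a map from a derived complete object whose cone has no cohomology in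
degrees `≥ c`. -/
def AC (I : Ideal A) (Z : Dual.D A) (c : ℤ) : Prop :=
  ∃ (W D : Dual.D A) (φ : W ⟶ Z) (a : Z ⟶ D) (b : D ⟶ W⟦(1 : ℤ)⟧),
    Triangle.mk φ a b ∈ distTriang (Dual.D A) ∧ DRing.IsDerivedComplete I W ∧
      ∀ j : ℤ, c ≤ j → IsZero ((homologyFunctor (ModuleCat.{u} A) j).obj D)

lemma isDerivedComplete_of_isZero (I : Ideal A) (W : Dual.D A) (h : IsZero W) :
    DRing.IsDerivedComplete I W := by
  rw [isDerivedComplete_iff_isCpl]
  intro f _ X _ φ
  exact h.eq_of_tgt _ _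

lemma AC.base (I : Ideal A) (Z : Dual.D A) (c : ℤ)
    (h : ∀ j : ℤ, c ≤ j → IsZero ((homologyFunctor (ModuleCat.{u} A) j).obj Z)) : AC I Z c :=
  ⟨(0 : Dual.D A), Z, 0, 𝟙 Z, 0, contractible_distinguished₁ Z,
    isDerivedComplete_of_isZero I _ (isZero_zero _), h⟩

lemma AC.step (I : Ideal A) {Z₁ Z₂ Z₃ : Dual.D A} (u : Z₁ ⟶ Z₂) (v : Z₂ ⟶ Z₃)
    (w : Z₃ ⟶ Z₁⟦(1 : ℤ)⟧) (hT : Triangle.mk u v w ∈ distTriang (Dual.D A))
    (h2 : DRing.IsDerivedComplete I Z₂) (c : ℤ) (h : AC I Z₁ (c + 1)) : AC I Z₃ c := by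
  obtain ⟨W₁, D₁, φ₁, a₁, b₁, hT₁, hW₁, hD₁⟩ := h
  obtain ⟨W, α, β, hT₃⟩ := distinguished_cocone_triangle (φ₁ ≫ u)
  have hW : DRing.IsDerivedComplete I W := isDerivedComplete_obj₃ I _ hT₃ hW₁ h2
  let oct := Triangulated.someOctahedron rfl hT₁ hT hT₃
  refine ⟨W, D₁⟦(1 : ℤ)⟧, oct.m₃, w ≫ a₁⟦(1 : ℤ)⟧', -oct.m₁⟦(1 : ℤ)⟧',
    rot_of_distTriang _ oct.mem, hW, ?_⟩
  intro j hj
  exact (hD₁ (j + 1) (by omega)).of_iso
    (((homologyFunctor (ModuleCat.{u} A) 0).shiftIso 1 j (j + 1) (by omega)).app D₁)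

theorem isDerivedComplete_of_forall_AC (I : Ideal A) (Z : Dual.D A) (h : ∀ c : ℤ, AC I Z c) :
    DRing.IsDerivedComplete I Z := by
  rw [isDerivedComplete_iff_forall_crit]
  intro f hf i
  obtain ⟨W, D, φ, a, b, hT, hW, hD⟩ := h (i - 1)
  have hm : Mono ((homologyFunctor (ModuleCat.{u} A) i).map φ) :=
    ((isZero_homology_obj₃_iff _ hT (i - 1) i (by omega)).1 (hD (i - 1) le_rfl)).2
  have he : Epi ((homologyFunctor (ModuleCat.{u} A) i).map φ) :=
    ((isZero_homology_obj₃_iff _ hT i (i + 1) rfl).1 (hD i (by omega))).1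
  have hi : IsIso ((homologyFunctor (ModuleCat.{u} A) i).map φ) := isIso_of_mono_of_epi _
  have hWc := (isDerivedComplete_iff_forall_crit I W).1 hW f hf i
  exact hWc.of_linearEquiv (asIso ((homologyFunctor (ModuleCat.{u} A) i).map φ)).toLinearEquiv

end AC

section Free

open Groth.Agent.Lib.Helper1.TorM

lemma TCmap_id (N : ModuleCat.{u} A) (R : DRing.Cx A) : (TCmap (𝟙 N)).app R = 𝟙 _ := by
  ext n : 1
  rw [TCmap_app_f]
  exact MonoidalCategory.id_whiskerRight N (R.X n)

lemma TCmap_zero (N N' : ModuleCat.{u} A) (R : DRing.Cx A) :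
    (TCmap (0 : N ⟶ N')).app R = 0 := by
  ext n : 1
  rw [TCmap_app_f]
  exact MonoidalPreadditive.zero_whiskerRight (C := ModuleCat.{u} A)

lemma TCmap_add {N N' : ModuleCat.{u} A} (p q : N ⟶ N') (R : DRing.Cx A) :
    (TCmap (p + q)).app R = (TCmap p).app R + (TCmap q).app R := by
  ext n : 1
  rw [HomologicalComplex.add_f_apply, TCmap_app_f, TCmap_app_f, TCmap_app_f]
  exact MonoidalPreadditive.add_whiskerRight (C := ModuleCat.{u} A) p q

lemma TCmap_sum {ι : Type*} {N N' : ModuleCat.{u} A} (s : Finset ι) (g : ι → (N ⟶ N'))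
    (R : DRing.Cx A) :
    (TCmap (∑ i ∈ s, g i)).app R = ∑ i ∈ s, (TCmap (g i)).app R := by
  classical
  induction s using Finset.induction_on with
  | empty => simpa using TCmap_zero N N' R
  | insert a s ha ih => rw [Finset.sum_insert ha, Finset.sum_insert ha, TCmap_add, ih]

/-- `A ⊗ P ≅ P` on complexes -/
noncomputable def TCunit (R : DRing.Cx A) : (TC (ModuleCat.of A A)).obj R ≅ R :=
  (NatIso.mapHomologicalComplex (leftUnitorNatIso (ModuleCat.{u} A)) (ComplexShape.up ℤ)).app R ≪≫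
    (Functor.mapHomologicalComplexIdIso (ModuleCat.{u} A) (ComplexShape.up ℤ)).app R

lemma sum_proj_single (n : ℕ) :
    ∑ i : Fin n, (ModuleCat.ofHom (LinearMap.proj (R := A) (φ := fun _ : Fin n => A) i) ≫
      ModuleCat.ofHom (LinearMap.single A (fun _ : Fin n => A) i)) =
      𝟙 (ModuleCat.of A (Fin n → A)) := by
  apply ModuleCat.hom_ext
  apply LinearMap.ext
  intro v
  rw [ModuleCat.hom_sum]
  simp only [ModuleCat.hom_comp, ModuleCat.hom_ofHom, ModuleCat.hom_id, LinearMap.sum_apply,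
    LinearMap.comp_apply, LinearMap.proj_apply, LinearMap.single_apply, LinearMap.id_apply]
  exact LinearMap.sum_single_apply _ v

/-- `A^n ⊗ P` is derived complete when `P` is -/
theorem isDerivedComplete_TC_free (I : Ideal A) (R : DRing.Cx A)
    (hR : DRing.IsDerivedComplete I (Q.obj R)) (n : ℕ) :
    DRing.IsDerivedComplete I (Q.obj ((TC (ModuleCat.of A (Fin n → A))).obj R)) := by
  have hA : DRing.IsDerivedComplete I (Q.obj ((TC (ModuleCat.of A A)).obj R)) :=
    isDerivedComplete_of_iso I (Q.mapIso (TCunit R)).symm hR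
  rw [isDerivedComplete_iff_isCpl] at hA ⊢
  intro f hf X hX φ
  let pr : ∀ i : Fin n, ModuleCat.of A (Fin n → A) ⟶ ModuleCat.of A A := fun i =>
    ModuleCat.ofHom (LinearMap.proj (R := A) (φ := fun _ : Fin n => A) i)
  let inn : ∀ i : Fin n, ModuleCat.of A A ⟶ ModuleCat.of A (Fin n → A) := fun i =>
    ModuleCat.ofHom (LinearMap.single A (fun _ : Fin n => A) i)
  have h1 : 𝟙 (Q.obj ((TC (ModuleCat.of A (Fin n → A))).obj R)) =
      ∑ i : Fin n, Q.map ((TCmap (pr i)).app R) ≫ Q.map ((TCmap (inn i)).app R) := by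
    rw [← Q.map_id, ← TCmap_id, ← sum_proj_single n, TCmap_sum, Functor.map_sum]
    refine Finset.sum_congr rfl (fun i _ => ?_)
    rw [TCmap_comp, Functor.map_comp]
  rw [← Category.comp_id φ, h1, Preadditive.comp_sum]
  refine Finset.sum_eq_zero (fun i _ => ?_)
  rw [← Category.assoc, hA f hf X hX (φ ≫ Q.map ((TCmap (pr i)).app R)), zero_comp]

end Free

section Induction

open Groth.Agent.Lib.Helper1.TorM Groth.Agent.Lib.Helper1.TorN Groth.Agent.Lib.Helper1.KF

variable [IsNoetherianRing A]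

theorem ac_TC (I : Ideal A) (R : DRing.Cx A) [R.IsKProjective] (hflat : DRing.TermwiseFlat R)
    (hR : DRing.IsDerivedComplete I (Q.obj R)) (b : ℤ) (hb : ∀ i : ℤ, b < i → R.ExactAt i) :
    ∀ (k : ℕ) (N : Type u) [AddCommGroup N] [Module A N] [Module.Finite A N],
      AC I (Q.obj ((TC (ModuleCat.of A N)).obj R)) (b + 1 - k) := by
  intro k
  induction k with
  | zero =>
    intro N _ _ _
    refine AC.base I _ _ (fun j hj => ?_)
    have h1 := exactAt_TC_of_exactAt_above R (kflat_of_isKProjective R) b hb (ModuleCat.of A N) j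
      (by push_cast at hj; omega)
    rw [HomologicalComplex.exactAt_iff_isZero_homology] at h1
    exact h1.of_iso (hIso _ j)
  | succ k ih =>
    intro N _ _ _
    obtain ⟨n, π, hπ⟩ := Module.Finite.exists_fin' A N
    let S₀ : ShortComplex (ModuleCat.{u} A) :=
      ShortComplex.mk (ModuleCat.ofHom (LinearMap.ker π).subtype) (ModuleCat.ofHom π) (by
        ext x
        exact x.2)
    have hS₀ : S₀.ShortExact :=
      { exact := by
          rw [ShortComplex.moduleCat_exact_iff]
          intro x hx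
          exact ⟨⟨x, hx⟩, rfl⟩
        mono_f := (ModuleCat.mono_iff_injective _).2 (Submodule.injective_subtype _)
        epi_g := (ModuleCat.epi_iff_surjective _).2 hπ }
    have hfin : Module.Finite A (LinearMap.ker π) := Module.IsNoetherian.finite A _
    have h1 := ih (LinearMap.ker π)
    have hT := triangleOfSES_distinguished (TCshort_shortExact S₀ hS₀ R hflat)
    refine AC.step I _ _ _ hT (isDerivedComplete_TC_free I R hR n) _ ?_
    have e : b + 1 - ((k + 1 : ℕ) : ℤ) + 1 = b + 1 - (k : ℤ) := by push_cast; ring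
    rw [e]
    exact h1

/-- `M ⊗ R` is derived complete for a finite module `M` and a derived complete K-projective
(termwise flat) complex `R` with bounded above cohomology -/
theorem isDerivedComplete_TC_finite (I : Ideal A) (R : DRing.Cx A) [R.IsKProjective]
    (hflat : DRing.TermwiseFlat R) (hR : DRing.IsDerivedComplete I (Q.obj R)) (b : ℤ)
    (hb : ∀ i : ℤ, b < i → R.ExactAt i) (N : Type u) [AddCommGroup N] [Module A N]
    [Module.Finite A N] :
    DRing.IsDerivedComplete I (Q.obj ((TC (ModuleCat.of A N)).obj R)) := by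
  refine isDerivedComplete_of_forall_AC I _ (fun c => ?_)
  obtain ⟨W, D, φ, a, β, hT, hW, hD⟩ := ac_TC I R hflat hR b hb (b + 1 - c).toNat N
  refine ⟨W, D, φ, a, β, hT, hW, fun j hj => hD j ?_⟩
  have := Int.self_le_toNat (b + 1 - c)
  omega

end Induction

end Groth.Agent.R2.H31.LTFin
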