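import Mathlib
import Groth.Prelude.Def_DRing4
import Groth.Agent.R2.H31LTFin
import Groth.Agent.R2.H31RHom2
import Groth.Agent.R2.H31HomPre
import Groth.Agent.R2.H61HT1
import Groth.Agent.Lib.Helper1TorL
import Groth.Agent.Lib.Helper1PC
import Groth.Agent.Lib.Helper1TensPerf
import Groth.Agent.Lib.Helper17KInjD1

/-!
# Derived completion commutes with `- ⊗^L F` for pseudo-coherent `F` (helper31)

* `bijective_comp_LTensorCx`: `- ⊗^L F` preserves universal arrows towards derived complete
  objects (any complex `F`), via the tensor-hom adjunction on complexes.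
* `isDerivedComplete_tensor_of_bounded`: `R ⊗ G` is derived complete for derived complete `R` and a
  bounded complex `G` of finite free modules.
* `isDerivedComplete_tensor_of_boundedAbove`: the same for `R` strictly bounded above and `G`
  bounded above.
-/

set_option autoImplicit false
universe u
open CategoryTheory Limits HomologicalComplex CochainComplex MonoidalCategory
attribute [local instance] HasDerivedCategory.standard

namespace Groth.Agent.R2.H31.LTPc

open DerivedCategory Pretriangulated Groth.Agent.R2.H31.Univ Groth.Agent.R2.H31.DComp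
  Groth.Agent.R2.H31.Amp Groth.Agent.Lib.Helper10.DerComplete Groth.Agent.Lib.Helper1.KF
  Groth.Agent.R2.H61.HT1

variable {A : Type u} [CommRing A]

section Univ

open Groth.Agent.Lib.Helper1.DT

/-- `Hom•(F, J)` is derived complete when the K-injective complex `J` is -/
lemma isDerivedComplete_Q_homCx (I : Ideal A) (F J : DRing.Cx A) [J.IsKInjective]
    (hJ : DRing.IsDerivedComplete I (Q.obj J)) :
    DRing.IsDerivedComplete I (Q.obj (DRing.homCx F J)) := by
  rw [isDerivedComplete_iff_isCpl] at hJ ⊢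
  exact fun f hf => Groth.Agent.R2.H31.RHom.isCpl_Q_homCx F f J (hJ f hf)

/-- for a chain map `u` of K-projective complexes which is universal towards derived complete
objects, so is `u ⊗ F` (on maps to derived complete K-injective complexes). -/
theorem bijective_comp_whiskerRight (I : Ideal A) (F : DRing.Cx A) {P P' : DRing.Cx A}
    [P.IsKProjective] [P'.IsKProjective] (u : P ⟶ P')
    (hu : IsUniv (DRing.IsDerivedComplete I) (Q.map u)) (J : DRing.Cx A) [J.IsKInjective]
    (hJ : DRing.IsDerivedComplete I (Q.obj J)) :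
    Function.Bijective (fun ψ : Q.obj (P' ⊗ F) ⟶ Q.obj J => Q.map (u ▷ F) ≫ ψ) := by
  have hb := hu _ (isDerivedComplete_Q_homCx I F J hJ)
  constructor
  · intro ψ₁ ψ₂ h
    dsimp only at h
    obtain ⟨g₁, rfl⟩ := Groth.Agent.Lib.Helper17.KInj.exists_Q_map_eq ψ₁
    obtain ⟨g₂, rfl⟩ := Groth.Agent.Lib.Helper17.KInj.exists_Q_map_eq ψ₂
    rw [← Functor.map_comp, ← Functor.map_comp] at h
    obtain ⟨h1⟩ := Groth.Agent.Lib.Helper17.KInj.homotopy_of_Q_map_eq h
    have e₁ : uncHom (u ≫ curHom g₁) = (u ▷ F) ≫ g₁ := by rw [uncHom_comp, uncHom_curHom]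
    have e₂ : uncHom (u ≫ curHom g₂) = (u ▷ F) ≫ g₂ := by rw [uncHom_comp, uncHom_curHom]
    obtain ⟨h2⟩ := homotopy_of_uncHom (α := u ≫ curHom g₁) (α' := u ≫ curHom g₂)
      ((Homotopy.ofEq e₁).trans (h1.trans (Homotopy.ofEq e₂.symm)))
    have h3 : Q.map u ≫ Q.map (curHom g₁) = Q.map u ≫ Q.map (curHom g₂) := by
      rw [← Functor.map_comp, ← Functor.map_comp]
      exact Q_map_eq_of_homotopy h2
    have h4 : Q.map (curHom g₁) = Q.map (curHom g₂) := hb.1 h3
    obtain ⟨h5⟩ := homotopy_of_Q_map_eq P' _ _ _ h4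
    obtain ⟨h6⟩ := uncHom_homotopy h5
    rw [uncHom_curHom, uncHom_curHom] at h6
    exact Q_map_eq_of_homotopy h6
  · intro ψ
    obtain ⟨g, rfl⟩ := Groth.Agent.Lib.Helper17.KInj.exists_Q_map_eq ψ
    obtain ⟨θ, hθ⟩ := hb.2 (Q.map (curHom g))
    dsimp only at hθ
    obtain ⟨β, rfl⟩ := Q_map_surjective P' _ θ
    rw [← Functor.map_comp] at hθ
    obtain ⟨h1⟩ := homotopy_of_Q_map_eq P _ _ _ hθ
    obtain ⟨h2⟩ := uncHom_homotopy h1
    rw [uncHom_curHom, uncHom_comp] at h2
    refine ⟨Q.map (uncHom β), ?_⟩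
    dsimp only
    rw [← Functor.map_comp]
    exact Q_map_eq_of_homotopy h2

lemma bijective_comp_of_iso_target {C : Type*} [Category C] {X Y E E' : C} (e : E' ≅ E)
    (m : X ⟶ Y) (h : Function.Bijective (fun ψ : Y ⟶ E' => m ≫ ψ)) :
    Function.Bijective (fun ψ : Y ⟶ E => m ≫ ψ) := by
  have : (fun ψ : Y ⟶ E => m ≫ ψ) =
      (fun ψ : X ⟶ E' => ψ ≫ e.hom) ∘ (fun ψ : Y ⟶ E' => m ≫ ψ) ∘
        (fun ψ : Y ⟶ E => ψ ≫ e.inv) := by
    funext ψ
    simp
  rw [this]
  refine Function.Bijective.comp ⟨fun ψ ψ' h => (cancel_mono e.hom).1 h, fun ψ => ⟨ψ ≫ e.inv, ?_⟩⟩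
    (Function.Bijective.comp h
      ⟨fun ψ ψ' h => (cancel_mono e.inv).1 h, fun ψ => ⟨ψ ≫ e.hom, ?_⟩⟩)
  · simp
  · simp

open Groth.Agent.R2.H31.LTFin Groth.Agent.Lib.Helper1.TorL Groth.Agent.R2.H31.FlatBC
  Groth.Agent.Lib.Helper17.KInj in
/-- `- ⊗^L F` preserves universal arrows towards derived complete objects (any complex `F`). -/
theorem bijective_comp_LTensorCx (I : Ideal A) (F : DRing.Cx A) [DRing.HasLTensorCx A F]
    {K K' : Dual.D A} (η : K ⟶ K') (hη : IsUniv (DRing.IsDerivedComplete I) η) (E : Dual.D A)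
    (hE : DRing.IsDerivedComplete I E) :
    Function.Bijective (fun φ : (DRing.LTensorCx A F).obj K' ⟶ E =>
      (DRing.LTensorCx A F).map η ≫ φ) := by
  obtain ⟨P, hP, -, ⟨e⟩⟩ := exists_kproj_iso K
  obtain ⟨P', hP', -, ⟨e'⟩⟩ := exists_kproj_iso K'
  obtain ⟨u, hu⟩ := Q_map_surjective P P' (e.hom ≫ η ≫ e'.inv)
  have hu' : IsUniv (DRing.IsDerivedComplete I) (Q.map u) := by
    rw [hu, ← Category.assoc]
    exact IsUniv.of_iso (IsUniv.precomp_iso e hη) e'.symm
  -- a K-injective model of `E`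
  let E₀ : DRing.Cx A := Q.objPreimage E
  let J : DRing.Cx A := (fibRepl₀.{u} (ModuleCat.{u} A)).obj E₀
  have hJ : J.IsKInjective := (fibrant_fibRepl₀.{u} (ModuleCat.{u} A) E₀).isKInjective
  let ι : E₀ ⟶ J := (fibReplι₀.{u} (ModuleCat.{u} A)).app E₀
  have hι : QuasiIso ι := (trivCof_fibReplι₀.{u} (ModuleCat.{u} A) E₀).2
  let eJ : Q.obj J ≅ E := (asIso (Q.map ι)).symm ≪≫ Q.objObjPreimageIso E
  have hJc : DRing.IsDerivedComplete I (Q.obj J) := isDerivedComplete_of_iso I eJ.symm hE
  have hb := bijective_comp_of_iso_target eJ _ (bijective_comp_whiskerRight I F u hu' J hJc)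
  let ε := (DRing.tensorCxQ A F).totalLeftDerivedCounit Q
    (HomologicalComplex.quasiIso (ModuleCat.{u} A) (ComplexShape.up ℤ))
  have i1 : IsIso (ε.app P) := isIso_counit_LTensorCx F P
  have i2 : IsIso (ε.app P') := isIso_counit_LTensorCx F P'
  let α : (DRing.LTensorCx A F).obj K ≅ Q.obj (P ⊗ F) :=
    (DRing.LTensorCx A F).mapIso e.symm ≪≫ @asIso _ _ _ _ (ε.app P) i1
  let β : Q.obj (P' ⊗ F) ≅ (DRing.LTensorCx A F).obj K' :=
    (@asIso _ _ _ _ (ε.app P') i2).symm ≪≫ (DRing.LTensorCx A F).mapIso e'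
  have key : (DRing.LTensorCx A F).map η = α.hom ≫ Q.map (u ▷ F) ≫ β.hom := by
    have h1 : η = e.inv ≫ Q.map u ≫ e'.hom := by
      rw [hu]
      simp
    have h2 : (DRing.LTensorCx A F).map (Q.map u) ≫ ε.app P' = ε.app P ≫ Q.map (u ▷ F) :=
      ε.naturality u
    have h3 : (DRing.LTensorCx A F).map (Q.map u) = ε.app P ≫ Q.map (u ▷ F) ≫ inv (ε.app P') := by
      rw [← Category.assoc, ← h2, Category.assoc, IsIso.hom_inv_id, Category.comp_id]
    rw [h1, Functor.map_comp, Functor.map_comp, h3]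
    simp [α, β]
  rw [key]
  exact bijective_comp_conj α β _ hb

end Univ

section Bounded

open Groth.Agent.R2.H31.LTFin Groth.Agent.R2.H31.HomPre Groth.Agent.Lib.Helper1.PC

/-- an additive functor from modules to `D(A)` with derived complete value at `A` has derived
complete values at finite free modules -/
lemma isDerivedComplete_obj_of_free (I : Ideal A) (G : ModuleCat.{u} A ⥤ Dual.D A) [G.Additive]
    (hA : DRing.IsDerivedComplete I (G.obj (ModuleCat.of A A))) (M : ModuleCat.{u} A)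
    [Module.Finite A M] [Module.Free A M] : DRing.IsDerivedComplete I (G.obj M) := by
  classical
  let b := Module.Free.chooseBasis A M
  rw [isDerivedComplete_iff_isCpl] at hA ⊢
  intro f hf X hX φ
  let pr : ∀ i : Module.Free.ChooseBasisIndex A M, M ⟶ ModuleCat.of A A := fun i =>
    ModuleCat.ofHom (b.coord i)
  let inn : ∀ i : Module.Free.ChooseBasisIndex A M, ModuleCat.of A A ⟶ M := fun i =>
    ModuleCat.ofHom (LinearMap.toSpanSingleton A M (b i))
  have h0 : ∑ i, pr i ≫ inn i = 𝟙 M := by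
    apply ModuleCat.hom_ext
    apply LinearMap.ext
    intro v
    rw [ModuleCat.hom_sum]
    simp only [pr, inn, ModuleCat.hom_comp, ModuleCat.hom_ofHom, ModuleCat.hom_id,
      LinearMap.sum_apply, LinearMap.comp_apply, LinearMap.id_apply,
      LinearMap.toSpanSingleton_apply, Module.Basis.coord_apply]
    exact b.sum_repr v
  have h1 : 𝟙 (G.obj M) = ∑ i, G.map (pr i) ≫ G.map (inn i) := by
    rw [← G.map_id, ← h0, Functor.map_sum]
    exact Finset.sum_congr rfl (fun i _ => G.map_comp _ _)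
  rw [← Category.comp_id φ, h1, Preadditive.comp_sum]
  refine Finset.sum_eq_zero (fun i _ => ?_)
  rw [← Category.assoc, hA f hf X hX (φ ≫ G.map (pr i)), zero_comp]

/-- `R ⊗ A[-a] ≅ R[-a]` -/
noncomputable def tensorSingleUnitIso (R : DRing.Cx A) (a : ℤ) :
    R ⊗ (HomologicalComplex.single (ModuleCat.{u} A) (ComplexShape.up ℤ) a).obj
      (ModuleCat.of A A) ≅ R⟦-a⟧ :=
  whiskerLeftIso R (((CochainComplex.singleFunctors (ModuleCat.{u} A)).shiftIso (-a) a 0
      (by omega)).app (ModuleCat.of A A)).symm ≪≫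
    tensorShiftRightIso R (𝟙_ (DRing.Cx A)) (-a) ≪≫
    (CategoryTheory.shiftFunctor (DRing.Cx A) (-a)).mapIso (ρ_ R)

/-- `R ⊗ M[-a]` is derived complete for finite free `M` and derived complete `R` -/
theorem isDerivedComplete_tensor_single (I : Ideal A) (R : DRing.Cx A)
    (hR : DRing.IsDerivedComplete I (Q.obj R)) (a : ℤ) (M : ModuleCat.{u} A)
    [Module.Finite A M] [Module.Free A M] :
    DRing.IsDerivedComplete I (Q.obj
      (R ⊗ (HomologicalComplex.single (ModuleCat.{u} A) (ComplexShape.up ℤ) a).obj M)) := by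
  let G : ModuleCat.{u} A ⥤ Dual.D A :=
    HomologicalComplex.single (ModuleCat.{u} A) (ComplexShape.up ℤ) a ⋙ tensorLeft R ⋙ Q
  have : G.Additive := by
    dsimp only [G]
    infer_instance
  refine isDerivedComplete_obj_of_free I G ?_ M
  exact isDerivedComplete_of_iso I
    (((Q.commShiftIso (-a)).app R).symm ≪≫ (Q.mapIso (tensorSingleUnitIso R a)).symm)
    (isDerivedComplete_shift I hR (-a))

lemma isZero_of_isZero_X (Z : DRing.Cx A) (h : ∀ i, IsZero (Z.X i)) : IsZero Z := by
  rw [IsZero.iff_id_eq_zero]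
  ext i : 1
  exact (h i).eq_of_src _ _

lemma termwiseFiniteFree_sigmaGE (E : DRing.Cx A) (n : ℤ) (hE : DRing.TermwiseFiniteFree E) :
    DRing.TermwiseFiniteFree (sigmaGE E n) := by
  intro i
  by_cases hi : n ≤ i
  · have := (hE i).1
    have := (hE i).2
    let e := (sigmaGEXIso E n i hi).toLinearEquiv
    exact ⟨Module.Finite.equiv e.symm, Module.Free.of_equiv e.symm⟩
  · have : Subsingleton ((sigmaGE E n).X i) :=
      ModuleCat.subsingleton_of_isZero (isZero_sigmaGE_X E n i (by omega))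
    exact ⟨inferInstance, inferInstance⟩

/-- one step of the induction: peel off the lowest term -/
lemma isDerivedComplete_tensor_step (I : Ideal A) (R : DRing.Cx A)
    (hR : DRing.IsDerivedComplete I (Q.obj R)) (E : DRing.Cx A) (a : ℤ)
    (hlow : ∀ i : ℤ, i < a → IsZero (E.X i)) (hp : DRing.TermwiseFiniteFree E)
    (h₁ : DRing.IsDerivedComplete I (Q.obj (R ⊗ sigmaGE E (a + 1)))) :
    DRing.IsDerivedComplete I (Q.obj (R ⊗ E)) := by
  have h0 : IsZero (E.X (a - 1)) := hlow _ (by omega)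
  have σ : ∀ n, ((truncShort E a h0).map (eval _ _ n)).Splitting := fun n =>
    (nonempty_truncShort_splitting E a hlow n).some
  have := (hp a).1
  have := (hp a).2
  have h₃ := isDerivedComplete_tensor_single I R hR a (E.X a)
  have hS := tensorLeft_shortExact_of_splitting R (truncShort E a h0) σ
  have hT := inv_rot_of_distTriang _ (triangleOfSES_distinguished hS)
  exact isDerivedComplete_obj₃ I _ hT (isDerivedComplete_shift I h₃ (-1)) h₁

/-- `R ⊗ G` is derived complete for derived complete `R` and a bounded complex `G` of finite free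
modules -/
theorem isDerivedComplete_tensor_of_bounded (I : Ideal A) (R : DRing.Cx A)
    (hR : DRing.IsDerivedComplete I (Q.obj R)) (m : ℕ) :
    ∀ (E : DRing.Cx A) (a b : ℤ), b < a + m → DRing.VanishesOutside E a b →
      DRing.TermwiseFiniteFree E → DRing.IsDerivedComplete I (Q.obj (R ⊗ E)) := by
  induction m with
  | zero =>
    intro E a b hab hE _
    refine isDerivedComplete_of_isZero I _ (Q.map_isZero ((tensorLeft R).map_isZero
      (isZero_of_isZero_X E (fun i => hE i ?_))))
    push_cast at hab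
    omega
  | succ m ih =>
    intro E a b hab hE hp
    refine isDerivedComplete_tensor_step I R hR E a (fun i hi => hE i (Or.inl hi)) hp ?_
    refine ih (sigmaGE E (a + 1)) (a + 1) b ?_ (vanishesOutside_sigmaGE E a b hE)
      (termwiseFiniteFree_sigmaGE E (a + 1) hp)
    push_cast at hab
    omega

end Bounded

section BoundedAbove

open Groth.Agent.R2.H31.LTFin Groth.Agent.R2.H31.HomPre Groth.Agent.Lib.Helper1.PC
  Groth.Agent.Lib.Helper1.TensPerf

/-- the cokernel of `σ_{≥ m} E ⟶ E` vanishes in degrees `≥ m` -/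
lemma isZero_cokernel_sigmaGEι_X (E : DRing.Cx A) (m i : ℤ) (hi : m ≤ i) :
    IsZero ((cokernel (sigmaGEι E m)).X i) := by
  have := isIso_sigmaGEι_f E m i hi
  exact IsZero.of_iso (isZero_cokernel_of_epi ((sigmaGEι E m).f i))
    (PreservesCokernel.iso (HomologicalComplex.eval _ _ i) (sigmaGEι E m))

/-- the terms of the cokernel of `σ_{≥ m} E ⟶ E` are flat if those of `E` are -/
lemma flat_cokernel_sigmaGEι_X (E : DRing.Cx A) (hE : ∀ i, Module.Flat A (E.X i)) (m i : ℤ) :
    Module.Flat A ((cokernel (sigmaGEι E m)).X i) := by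
  by_cases hi : m ≤ i
  · have := ModuleCat.subsingleton_of_isZero (isZero_cokernel_sigmaGEι_X E m i hi)
    infer_instance
  · have h0 : (sigmaGEι E m).f i = 0 := (isZero_sigmaGE_X E m i (by omega)).eq_of_src _ _
    have e : E.X i ≅ (cokernel (sigmaGEι E m)).X i :=
      (cokernelZeroIsoTarget (X := (sigmaGE E m).X i) (Y := E.X i)).symm ≪≫
        (cokernelIsoOfEq h0).symm ≪≫
        (PreservesCokernel.iso (HomologicalComplex.eval _ _ i) (sigmaGEι E m)).symm
    have := hE i
    exact Module.Flat.of_linearEquiv e.toLinearEquiv.symm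

/-- the short exact sequence `σ_{≥ m} E ⟶ E ⟶ coker` -/
noncomputable def sigmaShort (E : DRing.Cx A) (m : ℤ) : ShortComplex (DRing.Cx A) :=
  ShortComplex.mk (sigmaGEι E m) (cokernel.π (sigmaGEι E m)) (cokernel.condition _)

lemma sigmaShort_shortExact (E : DRing.Cx A) (m : ℤ) : (sigmaShort E m).ShortExact :=
  { exact := ShortComplex.exact_cokernel (sigmaGEι E m)
    mono_f := inferInstanceAs (Mono (sigmaGEι E m))
    epi_g := inferInstanceAs (Epi (cokernel.π (sigmaGEι E m))) }

/-- `R ⊗ σ_{≥ m} F ⟶ R ⊗ F` is an isomorphism in degrees `≥ m + b` when `R` vanishes above `b` -/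
lemma whiskerLeft_sigmaGEι (R : DRing.Cx A) (b : ℤ) (hRb : ∀ i : ℤ, b < i → IsZero (R.X i))
    (F : DRing.Cx A) (hF : ∀ i, Module.Flat A (F.X i)) (m : ℤ) :
    Mono (R ◁ sigmaGEι F m) ∧ ∀ j : ℤ, m + b ≤ j → IsIso ((R ◁ sigmaGEι F m).f j) := by
  have hS := tensorLeft_shortExact_of_termwiseFlat R (sigmaShort F m) (sigmaShort_shortExact F m)
    (flat_cokernel_sigmaGEι_X F hF m)
  refine ⟨hS.mono_f, fun j hj => ?_⟩
  have hSj : (((sigmaShort F m).map (tensorLeft R)).map (eval _ _ j)).ShortExact := by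
    have := hS.mono_f
    have := hS.epi_g
    exact hS.map_of_exact (eval _ _ j)
  have hz : IsZero ((R ⊗ cokernel (sigmaGEι F m)).X j) := by
    apply isZero_tensor_X
    intro p q hpq
    by_cases hp : b < p
    · exact Or.inl (hRb p hp)
    · exact Or.inr (isZero_cokernel_sigmaGEι_X F m q (by omega))
  have hm : Mono ((R ◁ sigmaGEι F m).f j) := hSj.mono_f
  have he : Epi ((R ◁ sigmaGEι F m).f j) :=
    hSj.exact.epi_f (hz.eq_of_tgt _ _)
  exact isIso_of_mono_of_epi _

/-- `R ⊗ F` is derived complete for a derived complete `R` vanishing above `b` and a bounded above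
complex `F` of finite free modules -/
theorem isDerivedComplete_tensor_of_boundedAbove (I : Ideal A) (R : DRing.Cx A) (b : ℤ)
    (hRb : ∀ i : ℤ, b < i → IsZero (R.X i)) (hR : DRing.IsDerivedComplete I (Q.obj R))
    (F : DRing.Cx A) (c : ℤ) (hFc : DRing.VanishesAbove F c) (hFf : DRing.TermwiseFiniteFree F) :
    DRing.IsDerivedComplete I (Q.obj (R ⊗ F)) := by
  rw [isDerivedComplete_iff_forall_crit]
  intro f hf i
  have hflat : ∀ i, Module.Flat A (F.X i) := fun i => by
    have := (hFf i).2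
    infer_instance
  obtain ⟨hmono, hiso⟩ := whiskerLeft_sigmaGEι R b hRb F hflat (i - b - 1)
  have hconn := conn_Q_map_of_isIso_f (R ◁ sigmaGEι F (i - b - 1)) (i - b - 1 + b) hiso
  have hi : IsIso ((homologyFunctor (ModuleCat.{u} A) i).map
      (Q.map (R ◁ sigmaGEι F (i - b - 1)))) := hconn.1 i (by omega)
  have hW : DRing.IsDerivedComplete I (Q.obj (R ⊗ sigmaGE F (i - b - 1))) := by
    refine isDerivedComplete_tensor_of_bounded I R hR (c + 1 - (i - b - 1)).toNat
      (sigmaGE F (i - b - 1)) (i - b - 1) c ?_ ?_ (termwiseFiniteFree_sigmaGE F _ hFf)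
    · have := Int.self_le_toNat (c + 1 - (i - b - 1))
      omega
    · rintro k (hk | hk)
      · exact isZero_sigmaGE_X F _ k hk
      · exact isZero_sigmaGE_X' F _ k (hFc k hk)
  have hWc := (isDerivedComplete_iff_forall_crit I _).1 hW f hf i
  exact hWc.of_linearEquiv (asIso ((homologyFunctor (ModuleCat.{u} A) i).map
      (Q.map (R ◁ sigmaGEι F (i - b - 1))))).toLinearEquiv

end BoundedAbove

section Main

open Groth.Agent.Lib.Helper1.TorL Groth.Agent.Lib.Helper1.Tor

/-- `(Q R) ⊗^L F ≅ Q (R ⊗ F)` for K-flat `F` -/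
theorem nonempty_iso_LTensorCx_of_kflat (F : DRing.Cx A) [DRing.HasLTensorCx A F] (hF : KFlat F)
    (R : DRing.Cx A) : Nonempty ((DRing.LTensorCx A F).obj (Q.obj R) ≅ Q.obj (R ⊗ F)) := by
  obtain ⟨P, π, hP, -, hπ, -⟩ := exists_kprojective_resolution R
  have hπi : IsIso (Q.map π) := (DerivedCategory.isIso_Q_map_iff_quasiIso (φ := π)).2 hπ
  have i1 := isIso_counit_LTensorCx F P
  have q3 : QuasiIso (π ▷ F) := quasiIso_whiskerRight_of_kflat π F hF
  have i3 : IsIso (Q.map (π ▷ F)) := (DerivedCategory.isIso_Q_map_iff_quasiIso (φ := π ▷ F)).2 q3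
  exact ⟨(DRing.LTensorCx A F).mapIso (asIso (Q.map π)).symm ≪≫
    asIso (((DRing.tensorCxQ A F).totalLeftDerivedCounit Q
      (HomologicalComplex.quasiIso (ModuleCat.{u} A) (ComplexShape.up ℤ))).app P) ≪≫
    asIso (Q.map (π ▷ F))⟩

/-- `Y ⊗^L F` is derived complete for a derived complete `Y` with bounded above cohomology and a
bounded above complex `F` of finite free modules -/
theorem isDerivedComplete_LTensorCx (I : Ideal A) (F : DRing.Cx A) (c : ℤ)
    (hFc : DRing.VanishesAbove F c) (hFf : DRing.TermwiseFiniteFree F) [DRing.HasLTensorCx A F]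
    (Y : Dual.D A) (hY : DRing.IsDerivedComplete I Y) (b : ℤ)
    (hYb : ∀ i : ℤ, b < i → IsZero ((homologyFunctor (ModuleCat.{u} A) i).obj Y)) :
    DRing.IsDerivedComplete I ((DRing.LTensorCx A F).obj Y) := by
  have hle : Y.IsLE b := by
    rw [DerivedCategory.isLE_iff]
    exact hYb
  obtain ⟨R, hR, ⟨e⟩⟩ := DerivedCategory.exists_iso_Q_obj_of_isLE Y b
  have hRb : ∀ i : ℤ, b < i → IsZero (R.X i) := fun i hi => R.isZero_of_isStrictlyLE b i hi
  have hRc : DRing.IsDerivedComplete I (Q.obj R) := isDerivedComplete_of_iso I e hY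
  have hflat : ∀ i, Module.Flat A (F.X i) := fun i => by
    have := (hFf i).2
    infer_instance
  have hF : KFlat F := kflat_of_boundedAbove_flat F c hFc hflat
  obtain ⟨θ⟩ := nonempty_iso_LTensorCx_of_kflat F hF R
  exact isDerivedComplete_of_iso I ((DRing.LTensorCx A F).mapIso e ≪≫ θ).symm
    (isDerivedComplete_tensor_of_boundedAbove I R b hRb hRc F c hFc hFf)

end Main

end Groth.Agent.R2.H31.LTPc
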