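import Groth.Prelude.Def_CotT
import Groth.Prelude.Def_LCI2

/-!
# PROJ:lci-smooth (helper56): deformations of an affine local complete intersection are unobstructed — package specification

* `PkgL`: for a local complete intersection `A₀` over a field `k` (`LCI.IsLCI k A₀`: finite type and the kernel of some polynomial
  presentation is a Koszul-regular ideal) the second cotangent module `T²(A₀/k, M)` of the choice-free presentation vanishes for
  every `A₀`-module `M`.
-/

set_option autoImplicit false

universe u

namespace Groth.Agent.R2.H56.LciSpec

/-- PKG-L: `T²(A₀/k, M) = 0` for a local complete intersection. -/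
def PkgL : Prop :=
  ∀ (k A₀ : Type u) [Field k] [CommRing A₀] [Algebra k A₀], LCI.IsLCI k A₀ →
    ∀ (M : Type u) [AddCommGroup M] [Module A₀ M], Subsingleton (CotT.T2 (CotT.canon k A₀) M)

end Groth.Agent.R2.H56.LciSpec
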