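import Mathlib
import Groth.Prelude.Def_Koszul

/-!
# Low-degree analysis of the mapping-cone Koszul complex

For `K l = Koszul.koszul A l` we construct `eps l : K⁰ ≃ A`, `coord l : K⁻¹ → (Fin l.length → A)`
and show that the differential `K⁻¹ → K⁰` is `z ↦ Σ coord z i * l[i]`, that boundaries from `K⁻²`
have coordinates in the ideal generated by `l`, and that `coord` is surjective.
-/

set_option autoImplicit false
universe u

namespace Groth.Agent.R2.H93.KoszulLow

open CategoryTheory CategoryTheory.Limits CochainComplex HomComplex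

section Cone

variable {A : Type u} [CommRing A] {F G : CochainComplex (ModuleCat.{u} A) ℤ} (φ : F ⟶ G)

/-- first projection on elements -/
noncomputable def cfst (p q : ℤ) (hpq : p + 1 = q) : (mappingCone φ).X p →ₗ[A] F.X q :=
  ((mappingCone.fst φ).1.v p q hpq).hom

/-- second projection on elements -/
noncomputable def csnd (p : ℤ) : (mappingCone φ).X p →ₗ[A] G.X p :=
  ((mappingCone.snd φ).v p p (add_zero p)).hom

/-- left inclusion on elements -/
noncomputable def cinl (q p : ℤ) (hpq : p + 1 = q) : F.X q →ₗ[A] (mappingCone φ).X p :=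
  ((mappingCone.inl φ).v q p (by omega)).hom

/-- right inclusion on elements -/
noncomputable def cinr (p : ℤ) : G.X p →ₗ[A] (mappingCone φ).X p :=
  ((mappingCone.inr φ).f p).hom

lemma cfst_cinl (p q : ℤ) (hpq : p + 1 = q) (x : F.X q) :
    cfst φ p q hpq (cinl φ q p hpq x) = x := by
  exact congrArg (fun m => m.hom x) (mappingCone.inl_v_fst_v φ q p hpq)

lemma csnd_cinl (p q : ℤ) (hpq : p + 1 = q) (x : F.X q) :
    csnd φ p (cinl φ q p hpq x) = 0 := by
  exact congrArg (fun m => m.hom x) (mappingCone.inl_v_snd_v φ q p (by omega))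

lemma cfst_cinr (p q : ℤ) (hpq : p + 1 = q) (y : G.X p) :
    cfst φ p q hpq (cinr φ p y) = 0 := by
  exact congrArg (fun m => m.hom y) (mappingCone.inr_f_fst_v φ p q hpq)

lemma csnd_cinr (p : ℤ) (y : G.X p) :
    csnd φ p (cinr φ p y) = y := by
  exact congrArg (fun m => m.hom y) (mappingCone.inr_f_snd_v φ p)

lemma decomp (p q : ℤ) (hpq : p + 1 = q) (z : (mappingCone φ).X p) :
    z = cinl φ q p hpq (cfst φ p q hpq z) + cinr φ p (csnd φ p z) := by
  have := congrArg (fun m => m.hom z) (mappingCone.id_X φ p q hpq)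
  simpa [cfst, csnd, cinl, cinr] using this.symm

lemma cfst_d (i j k : ℤ) (hij : i + 1 = j) (hjk : j + 1 = k) (z : (mappingCone φ).X i) :
    cfst φ j k hjk (((mappingCone φ).d i j).hom z) = -(F.d j k).hom (cfst φ i j hij z) := by
  have := congrArg (fun m => m.hom z) (mappingCone.d_fst_v φ i j k hij hjk)
  simpa [cfst] using this

lemma csnd_d (i j : ℤ) (hij : i + 1 = j) (z : (mappingCone φ).X i) :
    csnd φ j (((mappingCone φ).d i j).hom z) =
      (φ.f j).hom (cfst φ i j hij z) + (G.d i j).hom (csnd φ i z) := by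
  have := congrArg (fun m => m.hom z) (mappingCone.d_snd_v φ i j hij)
  simpa [cfst, csnd] using this

end Cone

section Kz

variable (A : Type u) [CommRing A]

lemma koszul_cons (f : A) (l : List A) :
    Koszul.koszul A (f :: l) = mappingCone (f • 𝟙 (Koszul.koszul A l)) := rfl

lemma isZero_X_of_pos : ∀ (l : List A) (n : ℤ), 0 < n → IsZero ((Koszul.koszul A l).X n)
  | [], n, hn =>
      HomologicalComplex.isZero_single_obj_X (ComplexShape.up ℤ) 0 (ModuleCat.of A A) n
        (ne_of_gt hn)
  | f :: l, n, hn =>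
      (mappingCone.isZero_X_iff _ _).2
        ⟨isZero_X_of_pos l (n + 1) (by omega), isZero_X_of_pos l n hn⟩

/-- the augmentation `K⁰ → A` -/
noncomputable def eps : ∀ l : List A, (Koszul.koszul A l).X 0 →ₗ[A] A
  | [] => (HomologicalComplex.singleObjXSelf (ComplexShape.up ℤ) 0 (ModuleCat.of A A)).hom.hom
  | f :: l => (eps l) ∘ₗ csnd (f • 𝟙 (Koszul.koszul A l)) 0

/-- the unit `A → K⁰` -/
noncomputable def unit : ∀ l : List A, A →ₗ[A] (Koszul.koszul A l).X 0
  | [] => (HomologicalComplex.singleObjXSelf (ComplexShape.up ℤ) 0 (ModuleCat.of A A)).inv.hom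
  | f :: l => cinr (f • 𝟙 (Koszul.koszul A l)) 0 ∘ₗ unit l

lemma eps_unit : ∀ (l : List A) (a : A), eps A l (unit A l a) = a
  | [], a => by
      change ((HomologicalComplex.singleObjXSelf (ComplexShape.up ℤ) 0 (ModuleCat.of A A)).inv ≫
        (HomologicalComplex.singleObjXSelf (ComplexShape.up ℤ) 0 (ModuleCat.of A A)).hom).hom a = a
      rw [Iso.inv_hom_id]
      rfl
  | f :: l, a => by
      change eps A l (csnd _ 0 (cinr _ 0 (unit A l a))) = a
      rw [csnd_cinr, eps_unit l a]

lemma unit_eps : ∀ (l : List A) (z : (Koszul.koszul A l).X 0), unit A l (eps A l z) = z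
  | [], z => by
      change ((HomologicalComplex.singleObjXSelf (ComplexShape.up ℤ) 0 (ModuleCat.of A A)).hom ≫
        (HomologicalComplex.singleObjXSelf (ComplexShape.up ℤ) 0 (ModuleCat.of A A)).inv).hom z = z
      rw [Iso.hom_inv_id]
      rfl
  | f :: l, z => by
      change cinr _ 0 (unit A l (eps A l (csnd _ 0 z))) = z
      rw [unit_eps l]
      have hz := decomp (f • 𝟙 (Koszul.koszul A l)) 0 1 rfl z
      have h0 : cfst (f • 𝟙 (Koszul.koszul A l)) 0 1 rfl z = 0 :=
        (ModuleCat.subsingleton_of_isZero (isZero_X_of_pos A l 1 one_pos)).elim _ _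
      rw [h0, map_zero, zero_add] at hz
      exact hz.symm

/-- the step of the recursion defining `coord` -/
noncomputable def coordCons (f : A) (l : List A)
    (c : (Koszul.koszul A l).X (-1) →ₗ[A] (Fin l.length → A)) :
    (mappingCone (f • 𝟙 (Koszul.koszul A l))).X (-1) →ₗ[A] (Fin (l.length + 1) → A) where
  toFun z := Fin.cons (eps A l (cfst (f • 𝟙 (Koszul.koszul A l)) (-1) 0 (by norm_num) z))
    (c (csnd (f • 𝟙 (Koszul.koszul A l)) (-1) z))
  map_add' z w := by
    funext i
    refine Fin.cases ?_ (fun j => ?_) i <;> simp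
  map_smul' a z := by
    funext i
    refine Fin.cases ?_ (fun j => ?_) i <;> simp

/-- coordinates of an element of `K⁻¹` -/
noncomputable def coord : ∀ l : List A, (Koszul.koszul A l).X (-1) →ₗ[A] (Fin l.length → A)
  | [] => 0
  | f :: l => coordCons A f l (coord l)

lemma coord_cons_zero (f : A) (l : List A) (z : (Koszul.koszul A (f :: l)).X (-1)) :
    coord A (f :: l) z (0 : Fin (l.length + 1)) =
      eps A l (cfst (f • 𝟙 (Koszul.koszul A l)) (-1) 0 (by norm_num) z) := rfl

lemma coord_cons_succ (f : A) (l : List A) (z : (Koszul.koszul A (f :: l)).X (-1))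
    (j : Fin l.length) :
    coord A (f :: l) z (j.succ : Fin (l.length + 1)) =
      coord A l (csnd (f • 𝟙 (Koszul.koszul A l)) (-1) z) j := rfl

lemma smul_id_f_apply (f : A) (K : CochainComplex (ModuleCat.{u} A) ℤ) (n : ℤ) (x : K.X n) :
    ((f • 𝟙 K : K ⟶ K).f n).hom x = f • x := rfl

/-- the differential `K⁻¹ → K⁰` in coordinates -/
lemma eps_d : ∀ (l : List A) (z : (Koszul.koszul A l).X (-1)),
    eps A l (((Koszul.koszul A l).d (-1) 0).hom z) = ∑ i, coord A l z i * l.get i
  | [], z => by
      have hz : z = 0 :=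
        (ModuleCat.subsingleton_of_isZero
          (HomologicalComplex.isZero_single_obj_X (ComplexShape.up ℤ) 0 (ModuleCat.of A A) (-1)
            (by norm_num))).elim _ _
      rw [hz, map_zero, map_zero]
      simp
  | f :: l, z => by
      change eps A l (csnd (f • 𝟙 (Koszul.koszul A l)) 0
        (((mappingCone (f • 𝟙 (Koszul.koszul A l))).d (-1) 0).hom z)) = _
      rw [csnd_d (f • 𝟙 (Koszul.koszul A l)) (-1) 0 (by norm_num) z, map_add, smul_id_f_apply,
        map_smul, eps_d l]
      have hsum : ∑ i : Fin (l.length + 1), coord A (f :: l) z i * (f :: l).get i =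
          coord A (f :: l) z (0 : Fin (l.length + 1)) * f +
            ∑ j : Fin l.length, coord A (f :: l) z j.succ * l.get j := by
        rw [Fin.sum_univ_succ]
        rfl
      rw [show (∑ i, coord A (f :: l) z i * (f :: l).get i) =
        ∑ i : Fin (l.length + 1), coord A (f :: l) z i * (f :: l).get i from rfl, hsum,
        coord_cons_zero, smul_eq_mul, mul_comm f]
      rfl

/-- boundaries from `K⁻²` have coordinates in the ideal generated by the sequence -/
lemma coord_d_mem : ∀ (l : List A) (y : (Koszul.koszul A l).X (-2)) (i : Fin l.length),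
    coord A l (((Koszul.koszul A l).d (-2) (-1)).hom y) i ∈ Ideal.ofList l
  | [], _, i => i.elim0
  | f :: l, y, i => by
      have hle : Ideal.ofList l ≤ Ideal.ofList (f :: l) := by
        rw [Ideal.ofList_cons]
        exact le_sup_right
      have hf : f ∈ Ideal.ofList (f :: l) := by
        rw [Ideal.ofList_cons]
        exact Ideal.mem_sup_left (Ideal.mem_span_singleton_self f)
      refine Fin.cases ?_ (fun j => ?_) (i : Fin (l.length + 1))
      · rw [coord_cons_zero]
        change eps A l (cfst (f • 𝟙 (Koszul.koszul A l)) (-1) 0 (by norm_num)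
          (((mappingCone (f • 𝟙 (Koszul.koszul A l))).d (-2) (-1)).hom y)) ∈ _
        rw [cfst_d (f • 𝟙 (Koszul.koszul A l)) (-2) (-1) 0 (by norm_num) (by norm_num) y,
          map_neg, eps_d]
        refine Ideal.neg_mem_iff _ |>.2 (Ideal.sum_mem _ fun k _ => ?_)
        exact Ideal.mul_mem_left _ _ (hle (Ideal.subset_span (List.get_mem l k)))
      · rw [coord_cons_succ]
        change coord A l (csnd (f • 𝟙 (Koszul.koszul A l)) (-1)
          (((mappingCone (f • 𝟙 (Koszul.koszul A l))).d (-2) (-1)).hom y)) j ∈ _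
        rw [csnd_d (f • 𝟙 (Koszul.koszul A l)) (-2) (-1) (by norm_num) y, map_add,
          smul_id_f_apply, map_smul, Pi.add_apply, Pi.smul_apply, smul_eq_mul]
        exact Ideal.add_mem _ (Ideal.mul_mem_right _ _ hf) (hle (coord_d_mem l _ j))

/-- `coord` is surjective -/
lemma coord_surjective : ∀ (l : List A) (a : Fin l.length → A),
    ∃ z : (Koszul.koszul A l).X (-1), coord A l z = a
  | [], a => ⟨0, by funext i; exact i.elim0⟩
  | f :: l, a => by
      obtain ⟨z', hz'⟩ := coord_surjective l (Fin.tail (a : Fin (l.length + 1) → A))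
      refine ⟨cinl (f • 𝟙 (Koszul.koszul A l)) 0 (-1) (by norm_num)
        (unit A l ((a : Fin (l.length + 1) → A) 0)) + cinr (f • 𝟙 (Koszul.koszul A l)) (-1) z', ?_⟩
      funext i
      refine Fin.cases ?_ (fun j => ?_) (i : Fin (l.length + 1))
      · change eps A l (cfst (f • 𝟙 (Koszul.koszul A l)) (-1) 0 (by norm_num)
          (cinl (f • 𝟙 (Koszul.koszul A l)) 0 (-1) (by norm_num)
            (unit A l ((a : Fin (l.length + 1) → A) 0)) +
              cinr (f • 𝟙 (Koszul.koszul A l)) (-1) z')) = _
        rw [map_add, cfst_cinl, cfst_cinr, add_zero, eps_unit]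
      · change coord A l (csnd (f • 𝟙 (Koszul.koszul A l)) (-1)
          (cinl (f • 𝟙 (Koszul.koszul A l)) 0 (-1) (by norm_num)
            (unit A l ((a : Fin (l.length + 1) → A) 0)) +
              cinr (f • 𝟙 (Koszul.koszul A l)) (-1) z')) j = _
        rw [map_add, csnd_cinl, csnd_cinr, zero_add, hz']
        rfl

/-- if `H⁻¹` of the Koszul complex vanishes, every relation among the elements of the sequence has
its coefficients in the ideal generated by the sequence -/
theorem mem_of_relation (l : List A) (hH : IsZero ((Koszul.koszul A l).homology (-1)))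
    (a : Fin l.length → A) (ha : ∑ i, a i * l.get i = 0) (i : Fin l.length) :
    a i ∈ Ideal.ofList l := by
  obtain ⟨z, rfl⟩ := coord_surjective A l a
  have hdz : ((Koszul.koszul A l).d (-1) 0).hom z = 0 := by
    rw [← unit_eps A l (((Koszul.koszul A l).d (-1) 0).hom z), eps_d, ha, map_zero]
  have hex : (Koszul.koszul A l).ExactAt (-1) :=
    (HomologicalComplex.exactAt_iff_isZero_homology _ _).2 hH
  rw [HomologicalComplex.exactAt_iff' _ (-2) (-1) 0 (by simp) (by simp),
    ShortComplex.moduleCat_exact_iff] at hex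
  obtain ⟨y, hy⟩ := hex z hdz
  rw [← hy]
  exact coord_d_mem A l y i

end Kz

end Groth.Agent.R2.H93.KoszulLow
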