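import Mathlib
import Groth.Agent.R2.H56LciSpec
import Groth.Agent.Lib.Helper19CotTReg
import Groth.Agent.Lib.Helper19LciH1B
import Groth.Agent.Lib.Helper19CotBC
import Groth.Agent.S18939

/-!
# PROJ:lci-smooth, package L (helper32): `T²(A₀/k, M) = 0` for a local complete intersection over
a field.

* `flat_cotangent`: the conormal module `I/I²` of a Koszul-regular ideal is flat over `R/I`.
* `projective_cotangent`: ... and finite projective when `R` is Noetherian.
* `pkgL`.
-/

set_option autoImplicit false

universe u v w t m

open TensorProduct

namespace Groth.Agent.R2.H32.LciL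

section Flat

/-- flatness of a localization away from `r` can be tested after any base change to a model of the
localization. -/
theorem flat_localizedModule_away {B : Type u} [CommRing B] (r : B) (M : Type u) [AddCommGroup M]
    [Module B M] (B' : Type u) [CommRing B'] [Algebra B B'] [IsLocalization.Away r B']
    (h : Module.Flat B' (B' ⊗[B] M)) : Module.Flat B (LocalizedModule.Away r M) := by
  have hloc : IsLocalizedModule (Submonoid.powers r) (TensorProduct.mk B B' M 1) :=
    (isLocalizedModule_iff_isBaseChange (Submonoid.powers r) B' _).mpr
      (TensorProduct.isBaseChange B M B')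
  have hB' : Module.Flat B B' := IsLocalization.flat B' (Submonoid.powers r)
  have h1 : Module.Flat B (B' ⊗[B] M) := Module.Flat.trans B B' _
  exact Module.Flat.of_linearEquiv
    (IsLocalizedModule.iso (Submonoid.powers r) (TensorProduct.mk B B' M 1))

variable {R : Type u} [CommRing R] (I : Ideal R)

/-- after inverting `g`, if `I` becomes generated by a Koszul-regular sequence then the base change
of the conormal module is flat. -/
theorem flat_baseChange_cotangent (g : R) (l : List (Localization.Away g))
    (hl : LCI.IsKoszulRegularSeq (Localization.Away g) l)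
    (hspan : I.map (algebraMap R (Localization.Away g)) = Ideal.span {x | x ∈ l}) :
    Module.Flat (Localization.Away g ⧸ I.map (algebraMap R (Localization.Away g)))
      ((Localization.Away g ⧸ I.map (algebraMap R (Localization.Away g))) ⊗[R ⧸ I] I.Cotangent) := by
  obtain ⟨e⟩ := (Groth.Agent.Lib.Helper19.CotBC.cotangent_baseChange (R' := Localization.Away g) I).1
  suffices h : Module.Flat (Localization.Away g ⧸ I.map (algebraMap R (Localization.Away g)))
      (I.map (algebraMap R (Localization.Away g))).Cotangent from
    Module.Flat.of_linearEquiv e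
  by_cases htop : I.map (algebraMap R (Localization.Away g)) = ⊤
  · have : Subsingleton (Localization.Away g ⧸ I.map (algebraMap R (Localization.Away g))) :=
      Ideal.Quotient.subsingleton_iff.mpr htop
    have : Subsingleton (I.map (algebraMap R (Localization.Away g))).Cotangent :=
      Module.subsingleton (Localization.Away g ⧸ I.map (algebraMap R (Localization.Away g))) _
    infer_instance
  · have hmem : ∀ i : Fin l.length, l.get i ∈ I.map (algebraMap R (Localization.Away g)) := by
      intro i
      rw [hspan]
      exact Ideal.subset_span (List.get_mem l i)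
    obtain ⟨b, -⟩ := Groth.Agent.S18939.result htop l.length (fun i => ⟨l.get i, hmem i⟩)
      (by simpa [List.ofFn_get] using hl)
      (by
        refine Eq.trans ?_ hspan.symm
        congr 1
        ext x
        simp only [Set.mem_range, Set.mem_ofPred_eq]
        constructor
        · rintro ⟨i, rfl⟩; exact List.get_mem l i
        · intro hx
          obtain ⟨i, hi⟩ := List.get_of_mem hx
          exact ⟨i, hi⟩)
    have : Module.Free (Localization.Away g ⧸ I.map (algebraMap R (Localization.Away g)))
        (I.map (algebraMap R (Localization.Away g))).Cotangent := Module.Free.of_basis b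
    infer_instance

/-- **The conormal module of a Koszul-regular ideal is flat.** -/
theorem flat_cotangent (hI : LCI.IsKoszulRegularIdeal I) : Module.Flat (R ⧸ I) I.Cotangent := by
  let s : Set (R ⧸ I) := {r | Module.Flat (R ⧸ I) (LocalizedModule.Away r I.Cotangent)}
  have hs : Ideal.span s = ⊤ := by
    by_contra hne
    obtain ⟨m, hm, hsm⟩ := Ideal.exists_le_maximal _ hne
    have hmp : m.IsPrime := hm.isPrime
    let p : Ideal R := m.comap (Ideal.Quotient.mk I)
    have hpp : p.IsPrime := Ideal.comap_isPrime _ m
    have hIp : I ≤ p := by
      intro x hx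
      change Ideal.Quotient.mk I x ∈ m
      rw [Ideal.Quotient.eq_zero_iff_mem.mpr hx]
      exact m.zero_mem
    obtain ⟨g, hg, l, hl, hspan⟩ := hI ⟨p, hpp⟩ hIp
    apply hg
    change Ideal.Quotient.mk I g ∈ m
    apply hsm
    apply Ideal.subset_span
    change Module.Flat (R ⧸ I) (LocalizedModule.Away (Ideal.Quotient.mk I g) I.Cotangent)
    have hloc : IsLocalization.Away (Ideal.Quotient.mk I g)
        (Localization.Away g ⧸ I.map (algebraMap R (Localization.Away g))) := by
      have h := (inferInstance : IsLocalization
        (Algebra.algebraMapSubmonoid (R ⧸ I) (Submonoid.powers g))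
        (Localization.Away g ⧸ I.map (algebraMap R (Localization.Away g))))
      rw [Algebra.algebraMapSubmonoid, Submonoid.map_powers] at h
      exact h
    exact flat_localizedModule_away _ _
      (Localization.Away g ⧸ I.map (algebraMap R (Localization.Away g)))
      (flat_baseChange_cotangent I g l hl hspan)
  exact Module.flat_of_localized_span _ _ s hs (fun r => r.2)

/-- ... and finite projective over a Noetherian ring. -/
theorem projective_cotangent [IsNoetherianRing R] (hI : LCI.IsKoszulRegularIdeal I) :
    Module.Projective (R ⧸ I) I.Cotangent := by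
  have hflat := flat_cotangent I hI
  have hfinR : Module.Finite R I.Cotangent :=
    Module.Finite.of_surjective I.toCotangent I.toCotangent_surjective
  have hfin : Module.Finite (R ⧸ I) I.Cotangent := Module.Finite.of_restrictScalars_finite R _ _
  have hfp : Module.FinitePresentation (R ⧸ I) I.Cotangent :=
    Module.finitePresentation_of_finite _ _
  exact Module.Flat.projective_of_finitePresentation

end Flat

section Ext

open Algebra

variable {A B : Type u} [CommRing A] [CommRing B] [Algebra A B] (P : Extension.{u} A B)

/-- transfer of projectivity from `I/I²` over `R/I` to the cotangent module of an extension -/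
theorem projective_extension_cotangent
    (h : Module.Projective (P.Ring ⧸ P.ker) P.ker.Cotangent) :
    Module.Projective B P.Cotangent := by
  let e₁ : (P.Ring ⧸ P.ker) ≃+* B :=
    RingHom.quotientKerEquivOfSurjective (f := algebraMap P.Ring B) P.algebraMap_surjective
  let _ : RingHomInvPair e₁.toRingHom e₁.symm.toRingHom := RingHomInvPair.of_ringEquiv e₁
  let _ : RingHomInvPair e₁.symm.toRingHom e₁.toRingHom := RingHomInvPair.of_ringEquiv e₁.symm
  let e₂ : P.ker.Cotangent ≃ₛₗ[e₁.toRingHom] P.Cotangent :=
    { toFun := fun x => Extension.Cotangent.of x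
      invFun := fun x => x.val
      left_inv := fun _ => rfl
      right_inv := fun _ => rfl
      map_add' := fun _ _ => rfl
      map_smul' := by
        intro c x
        obtain ⟨r, rfl⟩ := Ideal.Quotient.mk_surjective c
        apply Extension.Cotangent.ext
        change ((Ideal.Quotient.mk P.ker r) • x) = ((algebraMap P.Ring B r) • Extension.Cotangent.of x).val
        rw [algebraMap_smul, Extension.Cotangent.val_smul']
        rfl }
  exact Module.Projective.of_equiv e₂

end Ext

section T2

open Algebra Groth.Agent.Lib.Helper19.CotTReg

variable {A : Type u} {B : Type v} [CommRing A] [CommRing B] [Algebra A B] {ι : Type w}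
  {σ : Type t} (P : Algebra.Presentation A B ι σ)

/-- `T² = 0` when `I/I²` is projective and `d₂` is injective (copy of helper19's
`T2_subsingleton_of_d2_injective` with formal smoothness replaced by projectivity). -/
theorem T2_subsingleton_of_projective [Module.Projective B P.toExtension.Cotangent]
    (hinj : Function.Injective (CotT.d2 P)) (M : Type m) [AddCommGroup M] [Module B M] :
    Subsingleton (CotT.T2 P M) := by
  obtain ⟨s, hs⟩ := Module.projective_lifting_property (CotT.toCot P) LinearMap.id
    (toCot_surjective P)
  have htfae := ((exact_d2_toCot P).split_tfae'.out 0 1 rfl rfl).mp ⟨hinj, s, hs⟩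
  obtain ⟨_, ρ, hρ⟩ := htfae
  have hz : ∀ x : CotT.T2 P M, x = 0 := by
    intro x
    obtain ⟨ψ, rfl⟩ := Submodule.Quotient.mk_surjective _ x
    rw [Submodule.Quotient.mk_eq_zero]
    refine ⟨ψ ∘ₗ ρ, ?_⟩
    rw [CotT.d2Star_apply, LinearMap.comp_assoc, hρ, LinearMap.comp_id]
  exact ⟨fun a b => by rw [hz a, hz b]⟩

end T2

/-- **PKG-L.** -/
theorem pkgL : Groth.Agent.R2.H56.LciSpec.PkgL.{u} := by
  intro k A₀ _ _ _ hlci M _ _
  obtain ⟨hft, n, f, hf, hK⟩ := hlci
  have hval : (MvPolynomial.aeval (R := k) (fun i : Fin n => f (MvPolynomial.X i))) = f := by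
    refine MvPolynomial.algHom_ext fun i => ?_
    rw [MvPolynomial.aeval_X]
  let Pg : Algebra.Generators k A₀ (Fin n) :=
    Algebra.Generators.ofSurjective (fun i => f (MvPolynomial.X i)) (by rw [hval]; exact hf)
  let P0 : Algebra.Presentation k A₀ (Fin n) Pg.ker :=
    { __ := Pg
      relation := Subtype.val
      span_range_relation_eq_ker := by
        refine le_antisymm (Ideal.span_le.mpr ?_) fun x hx => Ideal.subset_span ⟨⟨x, hx⟩, rfl⟩
        rintro _ ⟨r, rfl⟩
        exact r.2 }
  have halg : ∀ x : P0.toExtension.Ring, algebraMap P0.toExtension.Ring A₀ x = f x := by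
    intro x
    have h1 : algebraMap P0.toExtension.Ring A₀ x =
        MvPolynomial.aeval (R := k) (fun i : Fin n => f (MvPolynomial.X i)) x := rfl
    rw [h1, hval]
  have hker : P0.toExtension.ker = RingHom.ker f.toRingHom := by
    ext x
    change algebraMap P0.toExtension.Ring A₀ x = 0 ↔ f x = 0
    rw [halg]
  have hK' : LCI.IsKoszulRegularIdeal P0.toExtension.ker := by rw [hker]; exact hK
  have : IsNoetherianRing P0.toExtension.Ring :=
    inferInstanceAs (IsNoetherianRing (MvPolynomial (Fin n) k))
  have hinj : Function.Injective (CotT.d2 P0) :=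
    Groth.Agent.Lib.Helper19.CotTReg.d2_injective_of_local P0 (fun p _ hp =>
      Groth.Agent.Lib.Helper19.LciH1.exists_local_regular _ hK' p hp)
  have : Module.Projective A₀ P0.toExtension.Cotangent :=
    projective_extension_cotangent _ (projective_cotangent _ hK')
  have h0 := T2_subsingleton_of_projective P0 hinj M
  obtain ⟨e⟩ := Groth.Agent.Lib.Helper19.CotTReg.nonempty_T2_equiv_presentations'
    (CotT.canon k A₀) P0 M
  exact e.toEquiv.subsingleton

end Groth.Agent.R2.H32.LciL
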