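import Mathlib
import Groth.Prelude.Def_SheafNL

/-!
# Base change of the naive cotangent complex (helper6, round 2)

For the prelude's `NLCx` (two-term naive cotangent complexes `cx`, `bcCx`, maps `map`, `bcMap`, `bcH1Map`):

* `tensorCotangent`, `tensorCotangent_bijective`: copy of Mathlib's `Extension.tensorCotangent` for extensions
  over DIFFERENT base rings: if `Q ⊗_P P.ker → Q.ker` is bijective then `T ⊗_S I/I² → J/J²` is bijective.
* `mapKer_liftBaseChange_surjective/_injective`, `cotangent_liftBaseChange_surjective`: criteria for the above.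
* `ker_le_map_of_isPushout`: in a pushout situation the kernel of `R'[x] → S'` is generated by that of `R[x] → S`.
* `sameVars_halg`, `sameVars_ker_le`, `sameVars_cotangent_surjective`, `sameVars_cotangent_bijective_of_flat`,
  `cotangentSpace_sameVars_bijective`: the base-changed presentation on the same variables.
* `isIso_bcMap`, `isIso_map`, `bcMap_f_negOne/zero`, `map_f_negOne/zero`: componentwise criteria / formulas.
* `bcH1Map_surjective`, `bcH1Map_comp`, `bcMap_comp`, `map_comp'`, `map_id'`.
* `midGen`, `midHom`, `defaultHom_eq`: factor `Generators.defaultHom (self R S) (self R' S')` through the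
  presentation of `S'` over `R'` on the variables indexed by `S`.
* `homotopyOfDouble`, `mapHomotopy`, `mapHomotopyEquiv`: two morphisms of extensions give homotopic maps of
  naive cotangent complexes; two presentations give homotopy equivalent complexes.
* `loc_cotangent_bijective`, `loc_cotangentSpace_bijective`: localization of the base.
-/

universe u
open TensorProduct Algebra Algebra.Extension CategoryTheory

namespace Groth.Agent.R2.H6.NLBase

section TensorCotangent

variable {R S R' T : Type*} [CommRing R] [CommRing S] [CommRing R'] [CommRing T]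
  [Algebra R S] [Algebra R' T] [Algebra R R'] [Algebra S T] [Algebra R T]
  [IsScalarTower R R' T] [IsScalarTower R S T]
variable {P : Extension.{u} R S} {Q : Extension.{u} R' T} (f : P.Hom Q)

attribute [local instance] SMulCommClass.of_commMonoid

/-- (copy of Mathlib's `tensorCotangentInvFun`, for extensions over different base rings) -/
noncomputable
def tensorCotangentInvFun
    [alg : Algebra P.Ring Q.Ring] (halg : algebraMap P.Ring Q.Ring = f.toRingHom)
    (H : Function.Bijective ((f.mapKer halg).liftBaseChange Q.Ring)) :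
    Q.Cotangent →+ T ⊗[S] P.Cotangent :=
  letI := ((algebraMap S T).comp (algebraMap P.Ring S)).toAlgebra
  haveI : IsScalarTower P.Ring S T := .of_algebraMap_eq' rfl
  haveI : IsScalarTower P.Ring Q.Ring T :=
    .of_algebraMap_eq fun r ↦ halg ▸ (f.algebraMap_toRingHom r).symm
  letI e := LinearEquiv.ofBijective _ H
  letI f' : Q.ker →ₗ[Q.Ring] T ⊗[S] P.Cotangent :=
    (LinearMap.liftBaseChange _
      ((TensorProduct.mk _ _ _ 1).restrictScalars _ ∘ₗ Cotangent.mk)) ∘ₗ e.symm.toLinearMap
  QuotientAddGroup.lift _ f' <| by
    intro x hx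
    refine Submodule.smul_induction_on hx ?_ fun _ _ ↦ add_mem
    clear x hx
    rintro a ha b -
    obtain ⟨x, hx⟩ := e.surjective ⟨a, ha⟩
    obtain rfl : (e x).1 = a := congr_arg Subtype.val hx
    obtain ⟨y, rfl⟩ := e.surjective b
    simp only [AddMonoidHom.mem_ker, AddMonoidHom.coe_coe, map_smul,
      LinearMap.coe_comp, LinearEquiv.coe_coe, Function.comp_apply,
      LinearEquiv.symm_apply_apply, f']
    clear hx ha
    induction x with
    | zero => simp only [map_zero, ZeroMemClass.coe_zero, zero_smul]
    | add x y _ _ =>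
      simp only [map_add, Submodule.coe_add, add_smul, zero_add, *]
    | tmul a b =>
      induction y with
      | zero => simp only [map_zero, smul_zero]
      | add x y hx hy => simp only [LinearMap.map_add, smul_add, hx, hy, zero_add]
      | tmul c d =>
        simp only [LinearMap.liftBaseChange_tmul, LinearMap.coe_comp, SetLike.val_smul,
          LinearMap.coe_restrictScalars, Function.comp_apply, mk_apply, smul_eq_mul, e,
          LinearMap.liftBaseChange_tmul, LinearEquiv.ofBijective_apply]
        have h₂ : b.1 • Cotangent.mk d = 0 := by ext; simp [Cotangent.smul_eq_zero_of_mem _ b.2]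
        rw [TensorProduct.smul_tmul', mul_smul, f.mapKer_apply_coe, ← halg,
          algebraMap_smul, ← TensorProduct.tmul_smul, h₂, tmul_zero, smul_zero]

lemma tensorCotangentInvFun_smul_mk
    [alg : Algebra P.Ring Q.Ring] (halg : algebraMap P.Ring Q.Ring = f.toRingHom)
    (H : Function.Bijective ((f.mapKer halg).liftBaseChange Q.Ring)) (x : Q.Ring) (y : P.ker) :
    tensorCotangentInvFun f halg H (x • .mk ⟨f.toRingHom y, (f.mapKer halg y).2⟩) =
      x • 1 ⊗ₜ .mk y := by
  let := ((algebraMap S T).comp (algebraMap P.Ring S)).toAlgebra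
  have : IsScalarTower P.Ring S T := .of_algebraMap_eq' rfl
  have : IsScalarTower P.Ring Q.Ring T :=
    .of_algebraMap_eq fun r ↦ halg ▸ (f.algebraMap_toRingHom r).symm
  let e := LinearEquiv.ofBijective _ H
  trans tensorCotangentInvFun f halg H (.mk ((f.mapKer halg).liftBaseChange Q.Ring (x ⊗ₜ y)))
  · simp; rfl
  change ((TensorProduct.mk _ _ _ 1).restrictScalars _ ∘ₗ Cotangent.mk).liftBaseChange _
    (e.symm (e (x ⊗ₜ y))) = _
  rw [e.symm_apply_apply]
  simp

/-- If `J ≃ Q ⊗ₚ I`, then `T ⊗ₛ I/I² ≃ J/J²` (extensions over different base rings). -/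
noncomputable
def tensorCotangent [alg : Algebra P.Ring Q.Ring] (halg : algebraMap P.Ring Q.Ring = f.toRingHom)
    (H : Function.Bijective ((f.mapKer halg).liftBaseChange Q.Ring)) :
    T ⊗[S] P.Cotangent ≃ₗ[T] Q.Cotangent :=
  { __ := (Cotangent.map f).liftBaseChange T
    invFun := tensorCotangentInvFun f halg H
    left_inv x := by
      simp only [AddHom.toFun_eq_coe, LinearMap.coe_toAddHom]
      induction x with
      | zero => simp only [map_zero]
      | add x y _ _ => simp only [map_add, *]
      | tmul a b =>
        obtain ⟨b, rfl⟩ := Cotangent.mk_surjective b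
        obtain ⟨a, rfl⟩ := Q.algebraMap_surjective a
        simp only [LinearMap.liftBaseChange_tmul, Cotangent.map_mk, Hom.toAlgHom_apply,
          algebraMap_smul]
        refine (tensorCotangentInvFun_smul_mk f halg H a b).trans ?_
        simp [algebraMap_eq_smul_one, TensorProduct.smul_tmul']
    right_inv x := by
      obtain ⟨x, rfl⟩ := Cotangent.mk_surjective x
      obtain ⟨x, rfl⟩ := H.surjective x
      simp only [AddHom.toFun_eq_coe, LinearMap.coe_toAddHom]
      induction x with
      | zero => simp only [map_zero]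
      | add x y _ _ => simp only [map_add, *]
      | tmul a b =>
        simp only [LinearMap.liftBaseChange_tmul, map_smul]
        simp [Hom.mapKer, tensorCotangentInvFun_smul_mk] }

lemma tensorCotangent_bijective [alg : Algebra P.Ring Q.Ring]
    (halg : algebraMap P.Ring Q.Ring = f.toRingHom)
    (H : Function.Bijective ((f.mapKer halg).liftBaseChange Q.Ring)) :
    Function.Bijective ((Cotangent.map f).liftBaseChange T) :=
  (tensorCotangent f halg H).bijective

end TensorCotangent



section KerBaseChange

variable {R S R' T : Type*} [CommRing R] [CommRing S] [CommRing R'] [CommRing T]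
  [Algebra R S] [Algebra R' T] [Algebra R R'] [Algebra S T] [Algebra R T]
  [IsScalarTower R R' T] [IsScalarTower R S T]
variable {P : Extension.{u} R S} {Q : Extension.{u} R' T} (f : P.Hom Q)

omit [Algebra R T] [IsScalarTower R R' T] [IsScalarTower R S T] in
/-- If `Q.ker` is generated by the image of `P.ker`, then `Q ⊗_P P.ker → Q.ker` is surjective. -/
lemma mapKer_liftBaseChange_surjective [alg : Algebra P.Ring Q.Ring]
    (halg : algebraMap P.Ring Q.Ring = f.toRingHom)
    (hle : Q.ker ≤ P.ker.map (algebraMap P.Ring Q.Ring)) :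
    Function.Surjective ((f.mapKer halg).liftBaseChange Q.Ring) := by
  have key : ∀ y ∈ P.ker.map (algebraMap P.Ring Q.Ring),
      ∃ t : Q.Ring ⊗[P.Ring] P.ker, (((f.mapKer halg).liftBaseChange Q.Ring t : Q.ker) : Q.Ring) = y := by
    intro y hy
    refine Submodule.span_induction ?_ ?_ ?_ ?_ hy
    · rintro _ ⟨x, hx, rfl⟩
      exact ⟨1 ⊗ₜ ⟨x, hx⟩, by simp [halg]⟩
    · exact ⟨0, by simp⟩
    · rintro a b _ _ ⟨ta, rfl⟩ ⟨tb, rfl⟩
      exact ⟨ta + tb, by simp⟩
    · rintro q a _ ⟨ta, rfl⟩
      exact ⟨q • ta, by simp⟩
  intro y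
  obtain ⟨t, ht⟩ := key y.1 (hle y.2)
  exact ⟨t, Subtype.ext ht⟩

omit [Algebra R T] [IsScalarTower R R' T] [IsScalarTower R S T] in
/-- If `Q ⊗_P P.ker → Q ⊗_P P` is injective, then `Q ⊗_P P.ker → Q.ker` is injective. -/
lemma mapKer_liftBaseChange_injective [alg : Algebra P.Ring Q.Ring]
    (halg : algebraMap P.Ring Q.Ring = f.toRingHom)
    (hinj : Function.Injective (P.ker.subtype.lTensor Q.Ring)) :
    Function.Injective ((f.mapKer halg).liftBaseChange Q.Ring) := by
  have key : (Q.ker.subtype.restrictScalars P.Ring) ∘ₗ
      (((f.mapKer halg).liftBaseChange Q.Ring).restrictScalars P.Ring) =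
      (TensorProduct.rid P.Ring Q.Ring).toLinearMap ∘ₗ P.ker.subtype.lTensor Q.Ring := by
    ext q x
    simp [halg, Algebra.smul_def, mul_comm]
  intro a b hab
  apply hinj
  apply (TensorProduct.rid P.Ring Q.Ring).injective
  have := congr($key a)
  have := congr($key b)
  simp only [LinearMap.coe_comp, LinearMap.coe_restrictScalars, Function.comp_apply,
    LinearEquiv.coe_coe] at *
  simp_all

/-- If `Q ⊗_P P.ker → Q.ker` is surjective, then `T ⊗_S P.Cotangent → Q.Cotangent` is surjective. -/
lemma cotangent_liftBaseChange_surjective [alg : Algebra P.Ring Q.Ring]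
    (halg : algebraMap P.Ring Q.Ring = f.toRingHom)
    (H : Function.Surjective ((f.mapKer halg).liftBaseChange Q.Ring)) :
    Function.Surjective ((Cotangent.map f).liftBaseChange T) := by
  have key : ∀ t : Q.Ring ⊗[P.Ring] P.ker,
      Cotangent.mk ((f.mapKer halg).liftBaseChange Q.Ring t) ∈
        LinearMap.range ((Cotangent.map f).liftBaseChange T) := by
    intro t
    induction t with
    | zero => simp
    | add a b ha hb => rw [map_add, map_add]; exact add_mem ha hb
    | tmul q x =>
      refine ⟨algebraMap Q.Ring T q ⊗ₜ Cotangent.mk x, ?_⟩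
      rw [LinearMap.liftBaseChange_tmul, LinearMap.liftBaseChange_tmul, map_smul,
        Cotangent.map_mk, algebraMap_smul]
      rfl
  intro y
  obtain ⟨y, rfl⟩ := Cotangent.mk_surjective y
  obtain ⟨t, rfl⟩ := H y
  exact key t

end KerBaseChange



section LemmaA

variable {R R' P Q S S' : Type*} [CommRing R] [CommRing R'] [CommRing P] [CommRing Q]
  [CommRing S] [CommRing S']
  [Algebra R R'] [Algebra R P] [Algebra R' Q] [Algebra R Q] [Algebra P Q]
  [IsScalarTower R R' Q] [IsScalarTower R P Q] [Algebra.IsPushout R R' P Q]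
  [Algebra R S] [Algebra R' S'] [Algebra R S'] [Algebra S S']
  [IsScalarTower R R' S'] [IsScalarTower R S S'] [Algebra.IsPushout R R' S S']

/-- In a pushout situation `Q = R' ⊗_R P`, `S' = R' ⊗_R S`, the kernel of `Q → S'` is generated by
the kernel of `P → S`. -/
lemma ker_le_map_of_isPushout (π : P →ₐ[R] S) (hπ : Function.Surjective π) (π' : Q →ₐ[R'] S')
    (hcomm : ∀ p, π' (algebraMap P Q p) = algebraMap S S' (π p)) :
    RingHom.ker (π' : Q →+* S') ≤ (RingHom.ker (π : P →+* S)).map (algebraMap P Q) := by
  intro y hy
  have hQ : IsBaseChange R' (IsScalarTower.toAlgHom R P Q).toLinearMap := Algebra.IsPushout.out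
  have hS : IsBaseChange R' (IsScalarTower.toAlgHom R S S').toLinearMap := Algebra.IsPushout.out
  let I : Submodule R P := (RingHom.ker (π : P →+* S)).restrictScalars R
  have hex : Function.Exact I.subtype π.toLinearMap := by
    intro p
    simp only [AlgHom.toLinearMap_apply, Submodule.coe_subtype, Set.mem_range, Subtype.exists,
      exists_prop, exists_eq_right]
    rfl
  have hex' := lTensor_exact R' hex hπ
  have hnat : ∀ t : R' ⊗[R] P, hS.equiv (π.toLinearMap.lTensor R' t) = π' (hQ.equiv t) := by
    intro t
    induction t with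
    | zero => simp
    | add a b ha hb => simp only [map_add, ha, hb]
    | tmul r p =>
      simp [IsBaseChange.equiv_tmul, hcomm]
  obtain ⟨t, rfl⟩ := hQ.equiv.surjective y
  have ht : π.toLinearMap.lTensor R' t = 0 := by
    apply hS.equiv.injective
    rw [hnat, map_zero]
    exact hy
  obtain ⟨w, rfl⟩ := (hex' t).mp ht
  clear ht hy
  induction w with
  | zero => simp
  | add a b ha hb => simp only [map_add]; exact add_mem ha hb
  | tmul r x =>
    simp only [LinearMap.lTensor_tmul, Submodule.coe_subtype, IsBaseChange.equiv_tmul,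
      AlgHom.toLinearMap_apply, IsScalarTower.coe_toAlgHom']
    rw [Algebra.smul_def]
    exact Ideal.mul_mem_left _ _ (Ideal.mem_map_of_mem _ x.2)

end LemmaA



section SameVars
variable {R S R' S' : Type u} [CommRing R] [CommRing S] [CommRing R'] [CommRing S'] [Algebra R S]
  [Algebra R' S'] [Algebra R R'] [Algebra S S'] [Algebra R S'] [IsScalarTower R R' S']
  [IsScalarTower R S S']
variable {ι : Type u} (G : Generators R S ι) (G' : Generators R' S' ι)
  (h : ∀ i, G'.val i = algebraMap S S' (G.val i))

omit [Algebra R S'] [IsScalarTower R R' S'] [IsScalarTower R S S'] in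
lemma sameVarsHom_toAlgHom_X (i : ι) : (NLCx.sameVarsHom G G' h).toAlgHom (.X i) = .X i := by
  simp [NLCx.sameVarsHom]

lemma cotangentSpace_sameVars_bijective :
    Function.Bijective
      ((CotangentSpace.map (NLCx.sameVarsHom G G' h).toExtensionHom).liftBaseChange S') := by
  have key : (CotangentSpace.map (NLCx.sameVarsHom G G' h).toExtensionHom).liftBaseChange S' =
      ((G.cotangentSpaceBasis.baseChange S').equiv G'.cotangentSpaceBasis
        (Equiv.refl ι)).toLinearMap := by
    apply (G.cotangentSpaceBasis.baseChange S').ext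
    intro i
    rw [LinearEquiv.coe_coe, Module.Basis.equiv_apply, Module.Basis.baseChange_apply,
      LinearMap.liftBaseChange_tmul, one_smul, Generators.cotangentSpaceBasis_apply,
      Equiv.refl_apply, Generators.cotangentSpaceBasis_apply]
    refine (CotangentSpace.map_tmul _ _ _).trans ?_
    rw [map_one]
    congr 2
    exact sameVarsHom_toAlgHom_X G G' h i
  rw [key]; exact LinearEquiv.bijective _

end SameVars


section IsoCrit
variable {R S R' S' : Type u} [CommRing R] [CommRing S] [CommRing R'] [CommRing S'] [Algebra R S]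
  [Algebra R' S'] [Algebra R R'] [Algebra S S'] [Algebra R S'] [IsScalarTower R R' S']
  [IsScalarTower R S S']
variable {P : Algebra.Extension.{u} R S} {P' : Algebra.Extension.{u} R' S'}

lemma isIso_of_bijective_linearMap {A : Type u} [CommRing A] {M N : Type u} [AddCommGroup M]
    [AddCommGroup N] [Module A M] [Module A N] (l : M →ₗ[A] N) (hl : Function.Bijective l) :
    IsIso (ModuleCat.ofHom l) :=
  (ConcreteCategory.isIso_iff_bijective (ModuleCat.ofHom l)).mpr hl

lemma bcMap_f_negOne (f : P.Hom P') :
    (NLCx.bcMap (S' := S') f).f (-1) =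
      (HomologicalComplex.doubleXIso₀ _ _).hom ≫
        ModuleCat.ofHom ((Cotangent.map f).liftBaseChange S') ≫
          (HomologicalComplex.doubleXIso₀ (ModuleCat.ofHom P'.cotangentComplex) _).inv :=
  HomologicalComplex.mkHomFromDouble_f₀ _ _ _ _ _ _

lemma bcMap_f_zero (f : P.Hom P') :
    (NLCx.bcMap (S' := S') f).f 0 =
      (HomologicalComplex.doubleXIso₁ _ _ (by decide)).hom ≫
        ModuleCat.ofHom ((CotangentSpace.map f).liftBaseChange S') ≫
          (HomologicalComplex.doubleXIso₁ (ModuleCat.ofHom P'.cotangentComplex) _ (by decide)).inv :=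
  HomologicalComplex.mkHomFromDouble_f₁ _ _ _ _ _ _

lemma isIso_bcMap (f : P.Hom P')
    (h₀ : Function.Bijective ((Cotangent.map f).liftBaseChange S'))
    (h₁ : Function.Bijective ((CotangentSpace.map f).liftBaseChange S')) :
    IsIso (NLCx.bcMap (S' := S') f) := by
  have : ∀ n, IsIso ((NLCx.bcMap (S' := S') f).f n) := by
    intro n
    by_cases hn0 : n = -1
    · subst hn0
      have := isIso_of_bijective_linearMap _ h₀
      rw [bcMap_f_negOne]
      exact IsIso.comp_isIso' (Iso.isIso_hom _) (IsIso.comp_isIso' this (Iso.isIso_inv _))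
    · by_cases hn1 : n = 0
      · subst hn1
        have := isIso_of_bijective_linearMap _ h₁
        rw [bcMap_f_zero]
        exact IsIso.comp_isIso' (Iso.isIso_hom _) (IsIso.comp_isIso' this (Iso.isIso_inv _))
      · have hs : Limits.IsZero ((NLCx.bcCx P S').X n) :=
          HomologicalComplex.isZero_double_X _ _ n hn0 hn1
        have ht : Limits.IsZero ((NLCx.cx P').X n) :=
          HomologicalComplex.isZero_double_X _ _ n hn0 hn1
        exact ⟨⟨0, hs.eq_of_src _ _, ht.eq_of_src _ _⟩⟩
  exact HomologicalComplex.Hom.isIso_of_components _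

end IsoCrit

section IsoCritSame
variable {R S R' : Type u} [CommRing R] [CommRing S] [CommRing R'] [Algebra R S]
  [Algebra R' S] [Algebra R R'] [IsScalarTower R R' S]
variable {P : Algebra.Extension.{u} R S} {P' : Algebra.Extension.{u} R' S}

lemma map_f_negOne (f : P.Hom P') :
    (NLCx.map f).f (-1) =
      (HomologicalComplex.doubleXIso₀ _ _).hom ≫
        ModuleCat.ofHom (Cotangent.map f) ≫
          (HomologicalComplex.doubleXIso₀ (ModuleCat.ofHom P'.cotangentComplex) _).inv :=
  HomologicalComplex.mkHomFromDouble_f₀ _ _ _ _ _ _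

lemma map_f_zero (f : P.Hom P') :
    (NLCx.map f).f 0 =
      (HomologicalComplex.doubleXIso₁ _ _ (by decide)).hom ≫
        ModuleCat.ofHom (CotangentSpace.map f) ≫
          (HomologicalComplex.doubleXIso₁ (ModuleCat.ofHom P'.cotangentComplex) _ (by decide)).inv :=
  HomologicalComplex.mkHomFromDouble_f₁ _ _ _ _ _ _

lemma isIso_map (f : P.Hom P')
    (h₀ : Function.Bijective (Cotangent.map f))
    (h₁ : Function.Bijective (CotangentSpace.map f)) :
    IsIso (NLCx.map f) := by
  have : ∀ n, IsIso ((NLCx.map f).f n) := by
    intro n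
    by_cases hn0 : n = -1
    · subst hn0
      have := isIso_of_bijective_linearMap _ h₀
      rw [map_f_negOne]
      exact IsIso.comp_isIso' (Iso.isIso_hom _) (IsIso.comp_isIso' this (Iso.isIso_inv _))
    · by_cases hn1 : n = 0
      · subst hn1
        have := isIso_of_bijective_linearMap _ h₁
        rw [map_f_zero]
        exact IsIso.comp_isIso' (Iso.isIso_hom _) (IsIso.comp_isIso' this (Iso.isIso_inv _))
      · have hs : Limits.IsZero ((NLCx.cx P).X n) :=
          HomologicalComplex.isZero_double_X _ _ n hn0 hn1
        have ht : Limits.IsZero ((NLCx.cx P').X n) :=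
          HomologicalComplex.isZero_double_X _ _ n hn0 hn1
        exact ⟨⟨0, hs.eq_of_src _ _, ht.eq_of_src _ _⟩⟩
  exact HomologicalComplex.Hom.isIso_of_components _

end IsoCritSame


section PushoutSameVars
variable {R S R' S' : Type u} [CommRing R] [CommRing S] [CommRing R'] [CommRing S'] [Algebra R S]
  [Algebra R' S'] [Algebra R R'] [Algebra S S'] [Algebra R S'] [IsScalarTower R R' S']
  [IsScalarTower R S S']
variable {ι : Type u} (G : Generators R S ι) (G' : Generators R' S' ι)
  (h : ∀ i, G'.val i = algebraMap S S' (G.val i))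

attribute [local instance] MvPolynomial.algebraMvPolynomial

/-- The algebra structure `R[ι] → R'[ι]` on the rings of two presentations on the same variables. -/
@[reducible] noncomputable def sameVarsAlg {R S R' S' : Type u} [CommRing R] [CommRing S] [CommRing R']
    [CommRing S'] [Algebra R S] [Algebra R' S'] [Algebra R R'] {ι : Type u}
    (G : Generators R S ι) (G' : Generators R' S' ι) :
    Algebra G.toExtension.Ring G'.toExtension.Ring :=
  (MvPolynomial.algebraMvPolynomial : Algebra (MvPolynomial ι R) (MvPolynomial ι R'))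

attribute [local instance] sameVarsAlg

/-- The ring map underlying `sameVarsHom` is `MvPolynomial.map`. -/
lemma sameVars_halg :
    algebraMap G.toExtension.Ring G'.toExtension.Ring =
      (NLCx.sameVarsHom G G' h).toExtensionHom.toRingHom := by
  apply MvPolynomial.ringHom_ext
  · intro r
    change MvPolynomial.map (algebraMap R R') (MvPolynomial.C r) =
      (NLCx.sameVarsHom G G' h).toAlgHom (MvPolynomial.C r)
    rw [Generators.Hom.toAlgHom_C, MvPolynomial.map_C]
  · intro i
    change MvPolynomial.map (algebraMap R R') (MvPolynomial.X i) =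
      (NLCx.sameVarsHom G G' h).toAlgHom (MvPolynomial.X i)
    rw [sameVarsHom_toAlgHom_X, MvPolynomial.map_X]

variable [Algebra.IsPushout R R' S S']

include h in
lemma sameVars_ker_le :
    G'.toExtension.ker ≤ G.toExtension.ker.map (algebraMap G.toExtension.Ring G'.toExtension.Ring) := by
  have := ker_le_map_of_isPushout (R := R) (R' := R') (P := MvPolynomial ι R)
    (Q := MvPolynomial ι R') (S := S) (S' := S') (MvPolynomial.aeval G.val)
    G.aeval_val_surjective (MvPolynomial.aeval G'.val) (by
      intro p
      have := (NLCx.sameVarsHom G G' h).algebraMap_toAlgHom p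
      rw [← this]
      congr 1
      exact DFunLike.congr_fun (sameVars_halg G G' h) p)
  have e1 : G.toExtension.ker = RingHom.ker (MvPolynomial.aeval G.val) := G.ker_eq_ker_aeval_val
  have e2 : G'.toExtension.ker = RingHom.ker (MvPolynomial.aeval G'.val) :=
    G'.ker_eq_ker_aeval_val
  rw [e1, e2]
  exact this

lemma sameVars_mapKer_surjective :
    Function.Surjective (((NLCx.sameVarsHom G G' h).toExtensionHom.mapKer
      (sameVars_halg G G' h)).liftBaseChange G'.toExtension.Ring) :=
  mapKer_liftBaseChange_surjective _ _ (sameVars_ker_le G G' h)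

/-- Degree `-1` surjectivity for the base-changed presentation. -/
lemma sameVars_cotangent_surjective :
    Function.Surjective
      ((Cotangent.map (NLCx.sameVarsHom G G' h).toExtensionHom).liftBaseChange S') :=
  cotangent_liftBaseChange_surjective _ (sameVars_halg G G' h) (sameVars_mapKer_surjective G G' h)

/-- Degree `-1` bijectivity for the base-changed presentation, flat base change. -/
lemma sameVars_cotangent_bijective_of_flat [Module.Flat R R'] :
    Function.Bijective
      ((Cotangent.map (NLCx.sameVarsHom G G' h).toExtensionHom).liftBaseChange S') := by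
  refine tensorCotangent_bijective _ (sameVars_halg G G' h)
    ⟨mapKer_liftBaseChange_injective _ _ ?_, sameVars_mapKer_surjective G G' h⟩
  have hpo : Algebra.IsPushout R (MvPolynomial ι R) R' (MvPolynomial ι R') := inferInstance
  have : Module.Flat G.toExtension.Ring G'.toExtension.Ring :=
    Module.Flat.isBaseChange (R := R) (M := R') (S := MvPolynomial ι R) (MvPolynomial ι R')
      hpo.out
  exact Module.Flat.lTensor_preserves_injective_linearMap (M := G'.toExtension.Ring) _
    (Submodule.injective_subtype _)

end PushoutSameVars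



section H1Surj
variable {R S R' S' : Type u} [CommRing R] [CommRing S] [CommRing R'] [CommRing S'] [Algebra R S]
  [Algebra R' S'] [Algebra R R'] [Algebra S S'] [Algebra R S'] [IsScalarTower R R' S']
  [IsScalarTower R S S']
variable {P : Algebra.Extension.{u} R S} {P' : Algebra.Extension.{u} R' S'}

lemma bcMap_comm (f : P.Hom P') :
    P'.cotangentComplex ∘ₗ LinearMap.liftBaseChange S' (Cotangent.map f) =
      LinearMap.liftBaseChange S' (CotangentSpace.map f) ∘ₗ P.cotangentComplex.baseChange S' := by
  ext y
  simpa using (CotangentSpace.map_cotangentComplex f y).symm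

lemma bcH1Map_apply_coe (f : P.Hom P') (x : NLCx.bcH1 P S') :
    (NLCx.bcH1Map f x).1 = LinearMap.liftBaseChange S' (Cotangent.map f) x.1 := rfl

lemma bcH1Map_surjective (f : P.Hom P')
    (h₀ : Function.Surjective ((Cotangent.map f).liftBaseChange S'))
    (h₁ : Function.Injective ((CotangentSpace.map f).liftBaseChange S')) :
    Function.Surjective (NLCx.bcH1Map (S' := S') f) := by
  intro y
  obtain ⟨x, hx⟩ := h₀ y.1
  have hx0 : P.cotangentComplex.baseChange S' x = 0 := by
    apply h₁
    have := congr($(bcMap_comm (S' := S') f) x)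
    simp only [LinearMap.coe_comp, Function.comp_apply] at this
    rw [← this, hx, map_zero]
    exact y.2
  refine ⟨⟨x, hx0⟩, ?_⟩
  apply Subtype.ext
  rw [bcH1Map_apply_coe]
  exact hx

end H1Surj



section Comp
variable {R S R' S' : Type u} [CommRing R] [CommRing S] [CommRing R'] [CommRing S'] [Algebra R S]
  [Algebra R' S'] [Algebra R R'] [Algebra S S'] [Algebra R S'] [IsScalarTower R R' S']
  [IsScalarTower R S S']
variable {P : Algebra.Extension.{u} R S} {P' P'' : Algebra.Extension.{u} R' S'}

lemma cotangent_liftBaseChange_comp (f : P.Hom P') (g : P'.Hom P'') :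
    (Cotangent.map (g.comp f)).liftBaseChange S' =
      Cotangent.map g ∘ₗ (Cotangent.map f).liftBaseChange S' := by
  ext x
  simp [Cotangent.map_comp]

lemma cotangentSpace_liftBaseChange_comp (f : P.Hom P') (g : P'.Hom P'') :
    (CotangentSpace.map (g.comp f)).liftBaseChange S' =
      CotangentSpace.map g ∘ₗ (CotangentSpace.map f).liftBaseChange S' := by
  ext x
  simp [CotangentSpace.map_comp]

lemma bcH1Map_comp (f : P.Hom P') (g : P'.Hom P'') (x : NLCx.bcH1 P S') :
    NLCx.bcH1Map (g.comp f) x = H1Cotangent.map g (NLCx.bcH1Map f x) := by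
  apply Subtype.ext
  change LinearMap.liftBaseChange S' (Cotangent.map (g.comp f)) x.1 =
    Cotangent.map g (LinearMap.liftBaseChange S' (Cotangent.map f) x.1)
  rw [cotangent_liftBaseChange_comp]
  rfl

lemma bcMap_comp (f : P.Hom P') (g : P'.Hom P'') :
    NLCx.bcMap (S' := S') (g.comp f) = NLCx.bcMap (S' := S') f ≫ NLCx.map g := by
  apply HomologicalComplex.from_double_hom_ext
  · rw [HomologicalComplex.comp_f, bcMap_f_negOne, bcMap_f_negOne, map_f_negOne,
      cotangent_liftBaseChange_comp]
    dsimp only [NLCx.cx, NLCx.bcCx]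
    simp only [Category.assoc, Iso.inv_hom_id_assoc]
    rfl
  · rw [HomologicalComplex.comp_f, bcMap_f_zero, bcMap_f_zero, map_f_zero,
      cotangentSpace_liftBaseChange_comp]
    dsimp only [NLCx.cx, NLCx.bcCx]
    simp only [Category.assoc, Iso.inv_hom_id_assoc]
    rfl

end Comp



section SelfPresentation

lemma aeval_algebraMap_surjective (R S R' S' : Type u) [CommRing R] [CommRing S] [CommRing R']
    [CommRing S'] [Algebra R S]
    [Algebra R' S'] [Algebra R R'] [Algebra S S'] [Algebra R S'] [IsScalarTower R R' S']
    [IsScalarTower R S S'] [Algebra.IsPushout R R' S S'] :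
    Function.Surjective (MvPolynomial.aeval (R := R') (fun s : S => algebraMap S S' s)) := by
  intro y
  have hS : IsBaseChange R' (IsScalarTower.toAlgHom R S S').toLinearMap := Algebra.IsPushout.out
  refine hS.inductionOn y (fun y => ∃ p, MvPolynomial.aeval (R := R')
    (fun s : S => algebraMap S S' s) p = y) ⟨0, map_zero _⟩ ?_ ?_ ?_
  · intro s
    exact ⟨MvPolynomial.X s, by simp⟩
  · rintro r _ ⟨p, rfl⟩
    exact ⟨r • p, by simp⟩
  · rintro _ _ ⟨p, rfl⟩ ⟨q, rfl⟩
    exact ⟨p + q, by simp⟩

variable (R S R' S' : Type u) [CommRing R] [CommRing S] [CommRing R'] [CommRing S'] [Algebra R S]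
  [Algebra R' S'] [Algebra R R'] [Algebra S S'] [Algebra R S'] [IsScalarTower R R' S']
  [IsScalarTower R S S'] [Algebra.IsPushout R R' S S']

/-- The presentation of `S'` over `R'` on the variables indexed by `S`. -/
noncomputable def midGen : Generators R' S' S :=
  Generators.ofSurjective (fun s : S => algebraMap S S' s) (aeval_algebraMap_surjective R S R' S')

lemma midGen_val (s : S) : (midGen R S R' S').val s = algebraMap S S' ((Generators.self R S).val s) :=
  rfl

/-- The morphism of presentations of `S'` over `R'`, from the one on `S` to the one on `S'`. -/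
noncomputable def midHom : (midGen R S R' S').Hom (Generators.self R' S') where
  val s := MvPolynomial.X (algebraMap S S' s)
  aeval_val s := by simp [midGen, Generators.ofSurjective]

lemma defaultHom_eq :
    (Generators.self R S).defaultHom (Generators.self R' S') =
      (midHom R S R' S').comp
        (NLCx.sameVarsHom (Generators.self R S) (midGen R S R' S') (midGen_val R S R' S')) := by
  ext s
  simp [midHom, NLCx.sameVarsHom, Generators.self, Generators.σ]

end SelfPresentation



section DoubleHomotopy
open HomologicalComplex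

variable {C : Type*} [Category C] [Preadditive C] [Limits.HasZeroObject C]
  {X₀ X₁ Y₀ Y₁ : C} (f : X₀ ⟶ X₁) (g : Y₀ ⟶ Y₁)

lemma rel_up : (ComplexShape.up ℤ).Rel (-1) 0 := by simp

/-- A homotopy between two chain maps of two-term complexes (degrees `-1, 0`) from a map
`s : X₁ ⟶ Y₀`. -/
noncomputable def homotopyOfDouble
    (φ ψ : double f rel_up ⟶ double g rel_up) (s : X₁ ⟶ Y₀)
    (h₀ : φ.f (-1) = (doubleXIso₀ f rel_up).hom ≫ f ≫ s ≫ (doubleXIso₀ g rel_up).inv + ψ.f (-1))
    (h₁ : φ.f 0 = (doubleXIso₁ f rel_up (by decide)).hom ≫ s ≫ g ≫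
      (doubleXIso₁ g rel_up (by decide)).inv + ψ.f 0) : Homotopy φ ψ where
  hom i j := if h : i = 0 ∧ j = -1 then
      eqToHom (by rw [h.1]) ≫ (doubleXIso₁ f rel_up (by decide)).hom ≫ s ≫
        (doubleXIso₀ g rel_up).inv ≫ eqToHom (by rw [h.2])
    else 0
  zero i j hij := dif_neg (by rintro ⟨rfl, rfl⟩; exact hij (by simp))
  comm i := by
    by_cases hi0 : i = -1
    · subst hi0
      rw [dNext_eq _ (show (ComplexShape.up ℤ).Rel (-1) 0 by simp),
        prevD_eq _ (show (ComplexShape.up ℤ).Rel (-2) (-1) by simp), h₀]
      rw [dif_pos (show (0:ℤ) = 0 ∧ (-1:ℤ) = -1 from ⟨rfl, rfl⟩),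
        dif_neg (show ¬((-1:ℤ) = 0 ∧ (-2:ℤ) = -1) by decide), double_d f rel_up (by decide)]
      simp
    · by_cases hi1 : i = 0
      · subst hi1
        rw [dNext_eq _ (show (ComplexShape.up ℤ).Rel 0 1 by simp),
          prevD_eq _ (show (ComplexShape.up ℤ).Rel (-1) 0 by simp), h₁]
        rw [dif_pos (show (0:ℤ) = 0 ∧ (-1:ℤ) = -1 from ⟨rfl, rfl⟩),
          dif_neg (show ¬((1:ℤ) = 0 ∧ (0:ℤ) = -1) by decide), double_d g rel_up (by decide)]
        simp
      · exact (isZero_double_X f rel_up i hi0 hi1).eq_of_src _ _

end DoubleHomotopy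



section MapHomotopy
variable {R S R' : Type u} [CommRing R] [CommRing S] [CommRing R'] [Algebra R S]
  [Algebra R' S] [Algebra R R'] [IsScalarTower R R' S]
variable {P : Algebra.Extension.{u} R S} {P' : Algebra.Extension.{u} R' S}

/-- Two morphisms of extensions induce homotopic maps of naive cotangent complexes. -/
noncomputable def mapHomotopy (f₁ f₂ : P.Hom P') : Homotopy (NLCx.map f₁) (NLCx.map f₂) :=
  homotopyOfDouble (ModuleCat.ofHom P.cotangentComplex) (ModuleCat.ofHom P'.cotangentComplex)
    (NLCx.map f₁) (NLCx.map f₂) (ModuleCat.ofHom (f₁.sub f₂))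
    (by
      rw [map_f_negOne, map_f_negOne]
      have : Cotangent.map f₁ = (f₁.sub f₂) ∘ₗ P.cotangentComplex + Cotangent.map f₂ := by
        rw [← Cotangent.map_sub_map, sub_add_cancel]
      rw [this]
      rw [ModuleCat.ofHom_add, ModuleCat.ofHom_comp]
      simp only [Preadditive.add_comp, Preadditive.comp_add, Category.assoc])
    (by
      rw [map_f_zero, map_f_zero]
      have : CotangentSpace.map f₁ = P'.cotangentComplex ∘ₗ (f₁.sub f₂) + CotangentSpace.map f₂ := by
        refine LinearMap.ext fun x => ?_
        have := LinearMap.congr_fun (CotangentSpace.map_sub_map f₁ f₂) x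
        simp only [LinearMap.sub_apply, LinearMap.comp_apply, LinearMap.coe_restrictScalars] at this
        simp only [LinearMap.add_apply, LinearMap.comp_apply]
        rw [← this]
        abel
      rw [this]
      rw [ModuleCat.ofHom_add, ModuleCat.ofHom_comp]
      simp only [Preadditive.add_comp, Preadditive.comp_add, Category.assoc])

end MapHomotopy



section MapFunctorial
variable {R S : Type u} [CommRing R] [CommRing S] [Algebra R S]
variable {P P' P'' : Algebra.Extension.{u} R S}

lemma map_id' : NLCx.map (Algebra.Extension.Hom.id P) = 𝟙 (NLCx.cx P) := by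
  apply HomologicalComplex.from_double_hom_ext
  · rw [map_f_negOne, Cotangent.map_id]
    dsimp only [NLCx.cx]
    simp
  · rw [map_f_zero, CotangentSpace.map_id]
    dsimp only [NLCx.cx]
    simp

lemma map_comp' (g : P.Hom P') (g' : P'.Hom P'') :
    NLCx.map (g'.comp g) = NLCx.map g ≫ NLCx.map g' := by
  apply HomologicalComplex.from_double_hom_ext
  · rw [HomologicalComplex.comp_f, map_f_negOne, map_f_negOne, map_f_negOne, Cotangent.map_comp]
    dsimp only [NLCx.cx]
    simp only [Category.assoc, Iso.inv_hom_id_assoc]
    rfl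
  · rw [HomologicalComplex.comp_f, map_f_zero, map_f_zero, map_f_zero, CotangentSpace.map_comp]
    dsimp only [NLCx.cx]
    simp only [Category.assoc, Iso.inv_hom_id_assoc]
    rfl

/-- A pair of morphisms of extensions of the same algebra in opposite directions induces a homotopy
equivalence of naive cotangent complexes. -/
noncomputable def mapHomotopyEquiv (g : P.Hom P') (g' : P'.Hom P) :
    HomotopyEquiv (NLCx.cx P) (NLCx.cx P') where
  hom := NLCx.map g
  inv := NLCx.map g'
  homotopyHomInvId :=
    (Homotopy.ofEq (map_comp' g g').symm).trans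
      ((mapHomotopy (g'.comp g) (.id P)).trans (Homotopy.ofEq map_id'))
  homotopyInvHomId :=
    (Homotopy.ofEq (map_comp' g' g).symm).trans
      ((mapHomotopy (g.comp g') (.id P')).trans (Homotopy.ofEq map_id'))

end MapFunctorial



lemma bijective_of_liftBaseChange_self {B M N : Type*} [CommRing B] [AddCommGroup M] [AddCommGroup N]
    [Module B M] [Module B N] (l : M →ₗ[B] N)
    (hl : Function.Bijective (l.liftBaseChange B)) : Function.Bijective l := by
  have : (l : M → N) = (l.liftBaseChange B) ∘ (TensorProduct.lid B M).symm := by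
    ext m
    simp
  rw [this]
  exact hl.comp (TensorProduct.lid B M).symm.bijective

section Localization
variable {A A' B : Type u} [CommRing A] [CommRing A'] [CommRing B]
  [Algebra A A'] (M : Submonoid A) [IsLocalization M A'] [Algebra A' B] [Algebra A B]
  [IsScalarTower A A' B]
variable {ι : Type u} (G : Generators A B ι) (G' : Generators A' B ι)
  (h : ∀ i, G'.val i = algebraMap B B (G.val i))

attribute [local instance] MvPolynomial.algebraMvPolynomial
attribute [local instance] sameVarsAlg

include M h in
lemma loc_ker_le :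
    G'.toExtension.ker ≤ G.toExtension.ker.map (algebraMap G.toExtension.Ring G'.toExtension.Ring) := by
  have e1 : G.toExtension.ker = RingHom.ker (MvPolynomial.aeval G.val) := G.ker_eq_ker_aeval_val
  have e2 : G'.toExtension.ker = RingHom.ker (MvPolynomial.aeval G'.val) :=
    G'.ker_eq_ker_aeval_val
  rw [e1, e2]
  change RingHom.ker (MvPolynomial.aeval (R := A') G'.val) ≤
    Ideal.map (algebraMap (MvPolynomial ι A) (MvPolynomial ι A'))
      (RingHom.ker (MvPolynomial.aeval (R := A) G.val))
  intro y hy
  rw [RingHom.mem_ker] at hy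
  obtain ⟨⟨x, m⟩, hxm⟩ := IsLocalization.surj (S := MvPolynomial ι A')
    (M.map (MvPolynomial.C (σ := ι))) y
  have hu : IsUnit (algebraMap (MvPolynomial ι A) (MvPolynomial ι A') m) :=
    IsLocalization.map_units (MvPolynomial ι A') m
  have hx : x ∈ RingHom.ker (MvPolynomial.aeval (R := A) G.val) := by
    rw [RingHom.mem_ker]
    have h1 := (NLCx.sameVarsHom (S' := B) G G' h).algebraMap_toAlgHom x
    have h2 : (NLCx.sameVarsHom (S' := B) G G' h).toAlgHom x =
        algebraMap (MvPolynomial ι A) (MvPolynomial ι A') x :=
      (DFunLike.congr_fun (sameVars_halg (S' := B) G G' h) x).symm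
    rw [h2] at h1
    dsimp only at hxm
    rw [← hxm, map_mul, hy, zero_mul] at h1
    rw [Algebra.algebraMap_self, RingHom.id_apply] at h1
    exact h1.symm
  obtain ⟨u, hu'⟩ := hu
  have : y = algebraMap (MvPolynomial ι A) (MvPolynomial ι A') x * (↑u⁻¹ : MvPolynomial ι A') := by
    dsimp only at hxm
    rw [← hxm, ← hu']
    exact (Units.mul_inv_cancel_right y u).symm
  rw [this]
  exact Ideal.mul_mem_right _ _ (Ideal.mem_map_of_mem _ hx)

include M in
lemma loc_cotangent_bijective :
    Function.Bijective (Cotangent.map (NLCx.sameVarsHom (S' := B) G G' h).toExtensionHom) := by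
  apply bijective_of_liftBaseChange_self
  refine tensorCotangent_bijective _ (sameVars_halg (S' := B) G G' h)
    ⟨mapKer_liftBaseChange_injective _ _ ?_,
      mapKer_liftBaseChange_surjective _ _ (loc_ker_le M G G' h)⟩
  have hfl : Module.Flat (MvPolynomial ι A) (MvPolynomial ι A') :=
    IsLocalization.flat (MvPolynomial ι A') (M.map (MvPolynomial.C (σ := ι)))
  have : Module.Flat G.toExtension.Ring G'.toExtension.Ring := hfl
  exact Module.Flat.lTensor_preserves_injective_linearMap (M := G'.toExtension.Ring) _
    (Submodule.injective_subtype _)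

lemma loc_cotangentSpace_bijective :
    Function.Bijective (CotangentSpace.map (NLCx.sameVarsHom (S' := B) G G' h).toExtensionHom) :=
  bijective_of_liftBaseChange_self _ (cotangentSpace_sameVars_bijective (S' := B) G G' h)

end Localization

end Groth.Agent.R2.H6.NLBase
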