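import Mathlib
import Groth.Agent.R2.H32LciL
import Groth.Agent.R2.H6NLBase

/-!
# The naive cotangent complex of a local complete intersection is perfect (helper31)

* `finitePresentation_cotangent`, `projective_cotangent`: the conormal module `I/I²` of a
  Koszul-regular ideal is finitely presented and projective over `R/I` (no Noetherian hypothesis).
-/

set_option autoImplicit false

universe u

open TensorProduct

namespace Groth.Agent.R2.H31.LciNL

open Groth.Agent.R2.H32.LciL

section FP

variable {R : Type u} [CommRing R] (I : Ideal R)

/-- after inverting `g`, if `I` becomes generated by a Koszul-regular sequence then the base change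
of the conormal module is finitely presented. -/
theorem fp_baseChange_cotangent (g : R) (l : List (Localization.Away g))
    (hl : LCI.IsKoszulRegularSeq (Localization.Away g) l)
    (hspan : I.map (algebraMap R (Localization.Away g)) = Ideal.span {x | x ∈ l}) :
    Module.FinitePresentation (Localization.Away g ⧸ I.map (algebraMap R (Localization.Away g)))
      ((Localization.Away g ⧸ I.map (algebraMap R (Localization.Away g))) ⊗[R ⧸ I] I.Cotangent) := by
  obtain ⟨e⟩ := (Groth.Agent.Lib.Helper19.CotBC.cotangent_baseChange (R' := Localization.Away g) I).1
  suffices h : Module.FinitePresentation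
      (Localization.Away g ⧸ I.map (algebraMap R (Localization.Away g)))
      (I.map (algebraMap R (Localization.Away g))).Cotangent from
    Module.FinitePresentation.of_equiv e.symm
  by_cases htop : I.map (algebraMap R (Localization.Away g)) = ⊤
  · have : Subsingleton (Localization.Away g ⧸ I.map (algebraMap R (Localization.Away g))) :=
      Ideal.Quotient.subsingleton_iff.mpr htop
    have : Subsingleton (I.map (algebraMap R (Localization.Away g))).Cotangent :=
      Module.subsingleton (Localization.Away g ⧸ I.map (algebraMap R (Localization.Away g))) _
    infer_instance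
  · have hmem : ∀ i : Fin l.length, l.get i ∈ I.map (algebraMap R (Localization.Away g)) := by
      intro i
      rw [hspan]
      exact Ideal.subset_span (List.get_mem l i)
    obtain ⟨b, -⟩ := Groth.Agent.S18939.result htop l.length (fun i => ⟨l.get i, hmem i⟩)
      (by simpa [List.ofFn_get] using hl)
      (by
        refine Eq.trans ?_ hspan.symm
        congr 1
        ext x
        simp only [Set.mem_range, Set.mem_ofPred_eq]
        constructor
        · rintro ⟨i, rfl⟩; exact List.get_mem l i
        · intro hx
          obtain ⟨i, hi⟩ := List.get_of_mem hx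
          exact ⟨i, hi⟩)
    have : Module.Free (Localization.Away g ⧸ I.map (algebraMap R (Localization.Away g)))
        (I.map (algebraMap R (Localization.Away g))).Cotangent := Module.Free.of_basis b
    have : Module.Finite (Localization.Away g ⧸ I.map (algebraMap R (Localization.Away g)))
        (I.map (algebraMap R (Localization.Away g))).Cotangent := Module.Finite.of_basis b
    exact Module.finitePresentation_of_projective _ _

/-- the set of elements of `R/I` over which the conormal module is known to be finite free -/
def goodSet : Set (R ⧸ I) :=
  {r | ∃ g : R, Ideal.Quotient.mk I g = r ∧ ∃ l : List (Localization.Away g),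
    LCI.IsKoszulRegularSeq (Localization.Away g) l ∧
      I.map (algebraMap R (Localization.Away g)) = Ideal.span {x | x ∈ l}}

lemma span_goodSet (hI : LCI.IsKoszulRegularIdeal I) : Ideal.span (goodSet I) = ⊤ := by
  by_contra hne
  obtain ⟨m, hm, hsm⟩ := Ideal.exists_le_maximal _ hne
  have hmp : m.IsPrime := hm.isPrime
  let p : Ideal R := m.comap (Ideal.Quotient.mk I)
  have hpp : p.IsPrime := Ideal.comap_isPrime _ m
  have hIp : I ≤ p := by
    intro x hx
    change Ideal.Quotient.mk I x ∈ m
    rw [Ideal.Quotient.eq_zero_iff_mem.mpr hx]
    exact m.zero_mem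
  obtain ⟨g, hg, l, hl, hspan⟩ := hI ⟨p, hpp⟩ hIp
  apply hg
  change Ideal.Quotient.mk I g ∈ m
  apply hsm
  apply Ideal.subset_span
  exact ⟨g, rfl, l, hl, hspan⟩

lemma isLocalization_away_quotient (g : R) :
    IsLocalization.Away (Ideal.Quotient.mk I g)
      (Localization.Away g ⧸ I.map (algebraMap R (Localization.Away g))) := by
  have h := (inferInstance : IsLocalization
    (Algebra.algebraMapSubmonoid (R ⧸ I) (Submonoid.powers g))
    (Localization.Away g ⧸ I.map (algebraMap R (Localization.Away g))))
  rw [Algebra.algebraMapSubmonoid, Submonoid.map_powers] at h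
  exact h

/-- **The conormal module of a Koszul-regular ideal is finitely presented.** -/
theorem finitePresentation_cotangent (hI : LCI.IsKoszulRegularIdeal I) :
    Module.FinitePresentation (R ⧸ I) I.Cotangent := by
  classical
  have hs := span_goodSet I hI
  choose g hg l hl hspan using fun r : goodSet I => r.2
  have : ∀ r : goodSet I, IsLocalization.Away r.val
      (Localization.Away (g r) ⧸ I.map (algebraMap R (Localization.Away (g r)))) := by
    intro r
    have := isLocalization_away_quotient I (g r)
    rwa [hg r] at this
  exact Module.FinitePresentation.of_localizationSpan' (goodSet I) hs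
    (Rₚ := fun r => Localization.Away (g r) ⧸ I.map (algebraMap R (Localization.Away (g r))))
    (Mₚ := fun r => (Localization.Away (g r) ⧸ I.map (algebraMap R (Localization.Away (g r))))
      ⊗[R ⧸ I] I.Cotangent)
    (fun r => TensorProduct.mk (R ⧸ I)
      (Localization.Away (g r) ⧸ I.map (algebraMap R (Localization.Away (g r)))) I.Cotangent 1)
    (fun r => fp_baseChange_cotangent I (g r) (l r) (hl r) (hspan r))

/-- **The conormal module of a Koszul-regular ideal is projective.** -/
theorem projective_cotangent' (hI : LCI.IsKoszulRegularIdeal I) :
    Module.Projective (R ⧸ I) I.Cotangent := by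
  have hflat := flat_cotangent I hI
  have hfp := finitePresentation_cotangent I hI
  exact Module.Flat.projective_of_finitePresentation

end FP

section Ext

open Algebra

variable {A B : Type u} [CommRing A] [CommRing B] [Algebra A B] (P : Extension.{u} A B)

/-- transfer of finiteness from `I/I²` over `R/I` to the cotangent module of an extension -/
theorem finite_extension_cotangent
    (h : Module.Finite (P.Ring ⧸ P.ker) P.ker.Cotangent) :
    Module.Finite B P.Cotangent := by
  classical
  obtain ⟨s, hs⟩ := h
  refine ⟨s.image (fun x => Extension.Cotangent.of x), ?_⟩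
  rw [_root_.eq_top_iff]
  rintro x -
  have hx : x.val ∈ Submodule.span (P.Ring ⧸ P.ker) (s : Set P.ker.Cotangent) := by
    rw [hs]; trivial
  suffices h : ∀ y ∈ Submodule.span (P.Ring ⧸ P.ker) (s : Set P.ker.Cotangent),
      Extension.Cotangent.of y ∈ Submodule.span B
        ((s.image (fun x => Extension.Cotangent.of x) : Finset P.Cotangent) : Set P.Cotangent) from
    h x.val hx
  intro y hy
  induction hy using Submodule.span_induction with
  | mem y hy =>
    apply Submodule.subset_span
    rw [Finset.coe_image]
    exact ⟨y, hy, rfl⟩
  | zero => exact Submodule.zero_mem _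
  | add y z _ _ hy hz => exact Submodule.add_mem _ hy hz
  | smul c y _ hy =>
    obtain ⟨r, rfl⟩ := Ideal.Quotient.mk_surjective c
    have : Extension.Cotangent.of ((Ideal.Quotient.mk P.ker r) • y) =
        (algebraMap P.Ring B r) • Extension.Cotangent.of y := by
      apply Extension.Cotangent.ext
      rw [algebraMap_smul, Extension.Cotangent.val_smul']
      rfl
    rw [this]
    exact Submodule.smul_mem _ _ hy

end Ext

section Main

open Algebra CategoryTheory Groth.Agent.R2.H6.NLBase

attribute [local instance] HasDerivedCategory.standard

variable {A B : Type u} [CommRing A] [CommRing B] [Algebra A B]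

lemma vanishesOutside_cx (P : Extension.{u} A B) :
    DRing.VanishesOutside (NLCx.cx P) (-1) 0 := by
  intro i hi
  exact HomologicalComplex.isZero_double_X _ _ i (by omega) (by omega)

lemma termwiseFiniteProjective_cx (P : Extension.{u} A B) [Module.Finite B P.Cotangent]
    [Module.Projective B P.Cotangent] [Module.Finite B P.CotangentSpace]
    [Module.Projective B P.CotangentSpace] : DRing.TermwiseFiniteProjective (NLCx.cx P) := by
  intro i
  by_cases h0 : i = -1
  · subst h0
    let e := (HomologicalComplex.doubleXIso₀ (ModuleCat.ofHom P.cotangentComplex)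
      (show (ComplexShape.up ℤ).Rel (-1) 0 by simp)).toLinearEquiv
    exact ⟨Module.Finite.equiv e.symm, Module.Projective.of_equiv e.symm⟩
  · by_cases h1 : i = 0
    · subst h1
      let e := (HomologicalComplex.doubleXIso₁ (ModuleCat.ofHom P.cotangentComplex)
        (show (ComplexShape.up ℤ).Rel (-1) 0 by simp) (by decide)).toLinearEquiv
      exact ⟨Module.Finite.equiv e.symm, Module.Projective.of_equiv e.symm⟩
    · have : Subsingleton ((NLCx.cx P).X i) :=
        ModuleCat.subsingleton_of_isZero (HomologicalComplex.isZero_double_X _ _ i h0 h1)
      exact ⟨inferInstance, inferInstance⟩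

/-- the naive cotangent complex of a local complete intersection is perfect of tor amplitude in
`[-1, 0]` -/
theorem nl_isPerfect_and_torAmplitude (h : LCI.IsLCI A B) :
    DRing.IsPerfect B (LCI.NL A B) ∧ DRing.HasTorAmplitudeIn B (-1) 0 (LCI.NL A B) := by
  obtain ⟨-, n, f, hf, hK⟩ := h
  have haeval : MvPolynomial.aeval (fun i => f (MvPolynomial.X i)) = f := by
    apply MvPolynomial.algHom_ext
    intro i
    simp
  let G : Generators A B (Fin n) := Generators.ofSurjective (fun i => f (MvPolynomial.X i)) (by
    rw [haeval]; exact hf)
  let P : Extension.{u} A B := G.toExtension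
  have hker : P.ker = RingHom.ker f.toRingHom := by
    show G.ker = _
    rw [Generators.ker_eq_ker_aeval_val]
    show RingHom.ker (MvPolynomial.aeval (fun i => f (MvPolynomial.X i))) = _
    rw [haeval]
    rfl
  have hK' : LCI.IsKoszulRegularIdeal P.ker := by
    rw [hker]; exact hK
  have hproj := projective_cotangent' P.ker hK'
  have hfp := finitePresentation_cotangent P.ker hK'
  have hfin : Module.Finite (P.Ring ⧸ P.ker) P.ker.Cotangent := inferInstance
  have : Module.Projective B P.Cotangent := projective_extension_cotangent P hproj
  have : Module.Finite B P.Cotangent := finite_extension_cotangent P hfin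
  have : Module.Free B P.CotangentSpace := Module.Free.of_basis G.cotangentSpaceBasis
  have : Module.Finite B P.CotangentSpace := Module.Finite.of_basis G.cotangentSpaceBasis
  let e : HomotopyEquiv (NLCx.cx P) (NLCx.cx (Generators.self A B).toExtension) :=
    mapHomotopyEquiv (G.defaultHom (Generators.self A B)).toExtensionHom (Extension.defaultHom A B P)
  have hq : QuasiIso e.hom := e.quasiIso_hom
  have hi : IsIso (DerivedCategory.Q.map e.hom) := inferInstance
  let i : DRing.toD (NLCx.cx P) ≅ LCI.NL A B := @asIso _ _ _ _ (DerivedCategory.Q.map e.hom) hi
  have hp := termwiseFiniteProjective_cx P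
  refine ⟨⟨NLCx.cx P, -1, 0, vanishesOutside_cx P, hp, ⟨i⟩⟩,
    ⟨NLCx.cx P, vanishesOutside_cx P, fun j => ?_, ⟨i⟩⟩⟩
  have := (hp j).2
  infer_instance

end Main

end Groth.Agent.R2.H31.LciNL
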