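import Mathlib
import Groth.Agent.S6942
import Groth.Agent.Lib.Helper1PCTower
import Groth.Agent.Lib.Helper1DT5

/-!
# Finite free resolutions of bounded complexes of finite modules over a Noetherian ring (helper31)
-/

set_option autoImplicit false
universe u
open CategoryTheory CategoryTheory.Limits DerivedCategory
attribute [local instance] HasDerivedCategory.standard

namespace Groth.Agent.R2.H31.Res

open Groth.Agent.Lib.Helper1.KF Groth.Agent.Lib.Helper1.DT

variable {A : Type u} [CommRing A] [IsNoetherianRing A]

lemma finite_homology (K : DRing.Cx A) (i : ℤ) [Module.Finite A (K.X i)] :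
    Module.Finite A (K.homology i : ModuleCat.{u} A) := by
  have h1 : Module.Finite A (K.cycles i : ModuleCat.{u} A) :=
    Module.Finite.of_injective (K.iCycles i).hom (iCycles_injective K i)
  exact Module.Finite.of_surjective (K.homologyπ i).hom (homologyπ_surjective K i)

/-- a bounded complex of finite modules over a Noetherian ring receives a quasi-isomorphism from a
bounded above complex of finite free modules -/
theorem exists_resolution (K : DRing.Cx A) (b : ℤ) (hK : ∀ i : ℤ, b < i → IsZero (K.X i))
    (hKf : ∀ i : ℤ, Module.Finite A (K.X i)) :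
    ∃ (P : DRing.Cx A) (bP : ℤ) (s : P ⟶ K), QuasiIso s ∧ P.IsKProjective ∧
      (∀ i : ℤ, bP < i → IsZero (P.X i)) ∧
      (∀ i : ℤ, Module.Finite A (P.X i) ∧ Module.Free A (P.X i)) := by
  have hpc : ∀ m : ℤ, DRing.IsPseudoCoherent A m (Q.obj K) := by
    intro m
    refine ((Groth.Agent.S6942.result A m (Q.obj K) A).1).2 ⟨⟨b, fun i hi => ?_⟩, fun i _ => ?_⟩
    · have hz : IsZero ((homologyFunctor (ModuleCat.{u} A) i).obj (Q.obj K)) := by
        have h1 : IsZero (K.homology i) :=
          ShortComplex.isZero_homology_of_isZero_X₂ _ (hK i hi)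
        exact IsZero.of_iso h1 ((homologyFunctorFactors (ModuleCat.{u} A) i).app K)
      exact ModuleCat.subsingleton_of_isZero hz
    · have := hKf i
      have h1 : Module.Finite A
          ((HomologicalComplex.homologyFunctor (ModuleCat.{u} A) (ComplexShape.up ℤ) i).obj K :
            ModuleCat.{u} A) := finite_homology K i
      exact Module.Finite.equiv
        ((homologyFunctorFactors (ModuleCat.{u} A) i).app K).symm.toLinearEquiv
  obtain ⟨E, bE, hEv, hEff, ⟨e⟩⟩ :=
    Groth.Agent.Lib.Helper1.PCTower.isPseudoCoherent'_of_forall (Q.obj K) hpc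
  have hEle : E.IsStrictlyLE bE := by
    rw [CochainComplex.isStrictlyLE_iff]
    exact hEv
  have : ∀ i : ℤ, Projective (E.X i) := fun i =>
    have := (hEff i).2
    ModuleCat.projective_of_categoryTheory_projective _
  have hKP : E.IsKProjective := CochainComplex.isKProjective_of_projective E bE
  obtain ⟨s, hs⟩ := Q_map_surjective E K e.hom
  have hsi : IsIso (Q.map s) := by rw [hs]; infer_instance
  exact ⟨E, bE, s, (DerivedCategory.isIso_Q_map_iff_quasiIso (φ := s)).1 hsi, hKP, hEv, hEff⟩

end Groth.Agent.R2.H31.Res
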