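import Mathlib
import Groth.Prelude.Def_DTen
import Groth.Agent.R2.H31ProU
import Groth.Agent.R2.H31Fac
import Groth.Agent.R2.H31ARCone
import Groth.Agent.R2.H31Res
import Groth.Agent.Lib.Helper1TensPerf

/-!
# The pro-isomorphism `K ⊗^L A/I^n → K/I^n K` (helper31): assembly
-/

set_option autoImplicit false
set_option maxHeartbeats 400000
universe u
open CategoryTheory CategoryTheory.Limits MonoidalCategory Opposite
attribute [local instance] HasDerivedCategory.standard

namespace Groth.Agent.R2.H31.Main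

open DerivedCategory Pretriangulated CochainComplex
open Groth.Agent.Lib.Helper1.KF Groth.Agent.R2.H31.TwSgl Groth.Agent.R2.H31.Fac
  Groth.Agent.R2.H31.ARCone

variable {A : Type u} [CommRing A]

/-- `N ↦ (C^i ⊗ N)_i` as a functor of the module `N` -/
noncomputable def twC (C : Cx A) : ModuleCat.{u} A ⥤ Cx A where
  obj N := (twF N).obj C
  map g := (twN g).app C
  map_id N := by
    refine HomologicalComplex.hom_ext _ _ (fun i => ?_)
    exact MonoidalCategory.whiskerLeft_id _ _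
  map_comp f g := by
    refine HomologicalComplex.hom_ext _ _ (fun i => ?_)
    exact MonoidalCategory.whiskerLeft_comp _ _ _

/-- functoriality of `twC` in the complex -/
noncomputable def twCmap {C C' : Cx A} (φ : C ⟶ C') : twC C ⟶ twC C' where
  app N := (twF N).map φ
  naturality N N' g := ((twN g).naturality φ).symm

variable {P K : Cx A} (s : P ⟶ K)

/-- the image in `D(A)` of the termwise tensor product of the mapping cone triangle with `N` -/
noncomputable abbrev triN (N : ModuleCat.{u} A) : Triangle (DerivedCategory (ModuleCat.{u} A)) :=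
  Q.mapTriangle.obj ((twF N).mapTriangle.obj (mappingCone.triangle s))

lemma triN_distinguished (N : ModuleCat.{u} A) : triN s N ∈ distTriang _ :=
  isomorphic_distinguished _ (mappingCone_triangle_distinguished ((twF N).map s)) _
    (Q.mapTriangle.mapIso (mappingCone.mapTriangleIso s (tensorRight N)))

/-- the chain-level connecting map -/
noncomputable def δN (N : ModuleCat.{u} A) :
    (twF N).obj (mappingCone s) ⟶ ((twF N).obj P)⟦(1 : ℤ)⟧ :=
  (twF N).map (mappingCone.triangle s).mor₃ ≫ ((twF N).commShiftIso (1 : ℤ)).hom.app P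

lemma δN_naturality {N N' : ModuleCat.{u} A} (g : N ⟶ N') :
    (twN g).app (mappingCone s) ≫ δN s N' = δN s N ≫ ((twN g).app P)⟦(1 : ℤ)⟧' := by
  refine HomologicalComplex.hom_ext _ _ (fun i => ?_)
  have key : ∀ (d : (mappingCone s).X i ⟶ P.X (i + 1)),
      ((mappingCone s).X i ◁ g) ≫ ((d ▷ N') ≫ 𝟙 _) = ((d ▷ N) ≫ 𝟙 _) ≫ (P.X (i + 1) ◁ g) := by
    intro d
    rw [Category.comp_id, Category.comp_id]
    exact whisker_exchange _ _
  exact key ((mappingCone.triangle s).mor₃.f i)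

/-- the connecting map in `D(A)` -/
noncomputable def hNapp (N : ModuleCat.{u} A) :
    Q.obj ((twF N).obj (mappingCone s)) ⟶ (Q.obj ((twF N).obj P))⟦(1 : ℤ)⟧ :=
  Q.map (δN s N) ≫ (Q.commShiftIso (1 : ℤ)).hom.app ((twF N).obj P)

lemma triN_mor₃ (N : ModuleCat.{u} A) : (triN s N).mor₃ = hNapp s N := rfl

/-- the connecting map, natural in the module -/
noncomputable def hN : twC (mappingCone s) ⋙ Q ⟶
    (twC P ⋙ Q) ⋙ shiftFunctor (DerivedCategory (ModuleCat.{u} A)) (1 : ℤ) where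
  app N := hNapp s N
  naturality N N' g := by
    show Q.map ((twN g).app (mappingCone s)) ≫ hNapp s N' =
      hNapp s N ≫ (Q.map ((twN g).app P))⟦(1 : ℤ)⟧'
    have h3 : Q.map (((twN g).app P)⟦(1 : ℤ)⟧') ≫
        (Q.commShiftIso (1 : ℤ)).hom.app ((twF N').obj P) =
        (Q.commShiftIso (1 : ℤ)).hom.app ((twF N).obj P) ≫ (Q.map ((twN g).app P))⟦(1 : ℤ)⟧' :=
      (Q.commShiftIso (1 : ℤ)).hom.naturality ((twN g).app P)
    unfold hNapp
    rw [← Category.assoc, ← Functor.map_comp, δN_naturality, Functor.map_comp, Category.assoc,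
      h3, Category.assoc]


section Concrete
variable [IsNoetherianRing A] (I : Ideal A)

/-- the adic system of `A` -/
noncomputable abbrev sysN : ℕᵒᵖ ⥤ ModuleCat.{u} A := CohIII.adicSystem I (ModuleCat.of A A)

lemma finite_cone_X (hP : ∀ i : ℤ, Module.Finite A (P.X i)) (hK : ∀ i : ℤ, Module.Finite A (K.X i))
    (n : ℤ) : Module.Finite A ((mappingCone s).X n) := by
  have := hP (n + 1)
  have := hK n
  let e : (mappingCone s).X n ≅ P.X (n + 1) ⊞ K.X n :=
    HomologicalComplex.homotopyCofiber.XIsoBiprod s n (n + 1) rfl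
  let e2 := e ≪≫ ModuleCat.biprodIsoProd _ _
  exact Module.Finite.equiv e2.toLinearEquiv.symm

/-- the concrete pro-isomorphism: `P/I^n P → K/I^n K` is a pro-isomorphism in `D(A)` as soon as
the transition maps of `P/I^n P` factor through objects uniformly bounded below. -/
theorem proIso_tw [QuasiIso s] (a b bP c : ℤ)
    (hKv : ∀ i : ℤ, i < a ∨ b < i → IsZero (K.X i)) (hPv : ∀ i : ℤ, bP < i → IsZero (P.X i))
    (hP : ∀ i : ℤ, Module.Finite A (P.X i)) (hK : ∀ i : ℤ, Module.Finite A (K.X i))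
    (hX : ∀ n : ℕ, ∃ (m : ℕ) (hm : n ≤ m) (G : DerivedCategory (ModuleCat.{u} A)) (_ : G.IsGE c)
      (u : (sysN I ⋙ (twC P ⋙ Q)).obj (op m) ⟶ G) (v : G ⟶ (sysN I ⋙ (twC P ⋙ Q)).obj (op n)),
      ARSys.tr (sysN I ⋙ (twC P ⋙ Q)) hm = u ≫ v) :
    DerCA.IsProIso (Functor.whiskerLeft (sysN I) (Functor.whiskerRight (twCmap s) Q)) := by
  refine Groth.Agent.R2.H31.ProU.isProIso_of_uniform
    (sysN I ⋙ (twC P ⋙ Q)) (sysN I ⋙ (twC K ⋙ Q)) (sysN I ⋙ (twC (mappingCone s) ⋙ Q))
    (Functor.whiskerLeft (sysN I) (Functor.whiskerRight (twCmap s) Q))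
    (Functor.whiskerLeft (sysN I) (Functor.whiskerRight (twCmap (mappingCone.inr s)) Q))
    (Functor.whiskerLeft (sysN I) (hN s))
    (fun n => triN_distinguished s ((sysN I).obj (op n))) a (max b bP) c ?_ ?_ hX ?_
  · intro n
    apply isGE_Q_of_isZero
    intro i hi
    exact (tensorRight ((sysN I).obj (op n))).map_isZero (hKv i (Or.inl hi))
  · intro n
    apply isLE_Q_of_isZero
    intro i hi
    refine (tensorRight ((sysN I).obj (op n))).map_isZero ?_
    exact (mappingCone.isZero_X_iff s i).2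
      ⟨hPv (i + 1) (by have := le_max_right b bP; omega),
       hKv i (Or.inr (by have := le_max_left b bP; omega))⟩
  · intro i n
    obtain ⟨j, rfl⟩ : ∃ j : ℤ, i = j + 1 := ⟨i - 1, by omega⟩
    have hac : Acyc (mappingCone s) := acyc_cone_of_quasiIso s
    have hex : (mappingCone s).ExactAt (j + 1) := by
      rw [HomologicalComplex.exactAt_iff_isZero_homology]
      exact hac (j + 1)
    have := finite_cone_X s hP hK (j + 1 + 1)
    obtain ⟨c', hc'⟩ := homologyMap_tw_eq_zero I (mappingCone s) j hex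
    refine ⟨n + c', Nat.le_add_right _ _, ?_⟩
    have h0 := hc' n (n + c') le_rfl (ARSys.tr (sysN I) (Nat.le_add_right n c'))
      (qmap_tr I (ModuleCat.of A A) (Nat.le_add_right n c'))
    show (homologyFunctor (ModuleCat.{u} A) (j + 1)).map
      (Q.map ((twN (ARSys.tr (sysN I) (Nat.le_add_right n c'))).app (mappingCone s))) = 0
    have hnat := homologyFunctorFactors_hom_naturality (C := ModuleCat.{u} A)
      ((twN (ARSys.tr (sysN I) (Nat.le_add_right n c'))).app (mappingCone s)) (j + 1)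
    let e := (homologyFunctorFactors (ModuleCat.{u} A) (j + 1)).app
      ((twF ((sysN I).obj (op n))).obj (mappingCone s))
    have hnat' : (homologyFunctor (ModuleCat.{u} A) (j + 1)).map
        (Q.map ((twN (ARSys.tr (sysN I) (Nat.le_add_right n c'))).app (mappingCone s))) ≫
          e.hom = 0 := by
      refine hnat.trans ?_
      rw [h0]
      exact Limits.comp_zero
    calc (homologyFunctor (ModuleCat.{u} A) (j + 1)).map
          (Q.map ((twN (ARSys.tr (sysN I) (Nat.le_add_right n c'))).app (mappingCone s)))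
        = ((homologyFunctor (ModuleCat.{u} A) (j + 1)).map
          (Q.map ((twN (ARSys.tr (sysN I) (Nat.le_add_right n c'))).app (mappingCone s))) ≫
            e.hom) ≫ e.inv := by rw [Category.assoc, Iso.hom_inv_id, Category.comp_id]
      _ = 0 := by rw [hnat', Limits.zero_comp]

end Concrete


section LTenPart
open DTen
variable [IsNoetherianRing A] [DTen.HasLTen A] [DTen.KFlatComputes A] (I : Ideal A)

/-- the single-degree functor -/
noncomputable abbrev sgF : ModuleCat.{u} A ⥤ Cx A :=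
  HomologicalComplex.single (ModuleCat.{u} A) (ComplexShape.up ℤ) 0

/-- `twC C ⋙ Q ≅ (C ⊗ -[0]) ⋙ Q` -/
noncomputable def iso3 (C : Cx A) : twC C ⋙ Q ≅ sgF ⋙ (tensorLeft C ⋙ Q) :=
  NatIso.ofComponents (fun N => Q.mapIso (rsIso C N)) (fun {N N'} g => by
    show Q.map ((twN g).app C) ≫ Q.map (rsIso C N').hom =
      Q.map (rsIso C N).hom ≫ Q.map (C ◁ sgF.map g)
    rw [← Functor.map_comp, ← Functor.map_comp, rsIso_hom_naturality_right])

lemma isKFlat_of_isKProjective (P : Cx A) [P.IsKProjective] : DRing.IsKFlat A P :=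
  kflat_of_isKProjective P

instance isIso_εLeft_of_isKProjective (P : Cx A) [P.IsKProjective] : IsIso (εLeft A P) := by
  have : ∀ L : Cx A, IsIso ((εLeft A P).app L) := fun L =>
    KFlatComputes.isIso_counit P L (Or.inl (isKFlat_of_isKProjective P))
  exact NatIso.isIso_of_isIso_app _

/-- naturality of the counit in the first variable -/
lemma ε_naturality_left {P K : Cx A} (s : P ⟶ K) (L : Cx A) :
    ((LTen A).map (Q.map s)).app (Q.obj L) ≫ (εLeft A K).app L =
      (εLeft A P).app L ≫ Q.map (s ▷ L) := by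
  have e := (ε A).naturality (Prod.mkHom s (𝟙 L))
  show ((LTen A).map (Q.map s)).app (Q.obj L) ≫ (ε A).app (K, L) =
      (ε A).app (P, L) ≫ Q.map (s ▷ L)
  dsimp at e ⊢
  simpa using e


/-- the isomorphism between the derived system and the concrete one -/
noncomputable def e₁' {P K : Cx A} (s : P ⟶ K) [QuasiIso s] [P.IsKProjective] :
    sgF ⋙ (Q ⋙ (LTen A).obj (Q.obj K)) ≅ twC P ⋙ Q :=
  haveI : IsIso (Q.map s) := (DerivedCategory.isIso_Q_map_iff_quasiIso (φ := s)).2 inferInstance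
  (Functor.isoWhiskerLeft (sgF ⋙ Q) (asIso ((LTen A).map (Q.map s)))).symm ≪≫
    Functor.isoWhiskerLeft sgF (asIso (εLeft A P)) ≪≫ (iso3 P).symm

lemma e₁'_hom_app {P K : Cx A} (s : P ⟶ K) [QuasiIso s] [P.IsKProjective] (N : ModuleCat.{u} A) :
    ((LTen A).map (Q.map s)).app (Q.obj (sgF.obj N)) ≫ (e₁' s).hom.app N =
      (εLeft A P).app (sgF.obj N) ≫ Q.map (rsIso P N).inv := by
  haveI : IsIso (Q.map s) := (DerivedCategory.isIso_Q_map_iff_quasiIso (φ := s)).2 inferInstance
  dsimp [e₁', iso3]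
  simp
  rfl

/-- the comparison of the two maps of functors -/
lemma comparison {P K : Cx A} (s : P ⟶ K) [QuasiIso s] [P.IsKProjective] (N : ModuleCat.{u} A) :
    (εLeft A K).app (sgF.obj N) =
      (e₁' s).hom.app N ≫ Q.map ((twF N).map s) ≫ (iso3 K).hom.app N := by
  have : IsIso (Q.map s) := (DerivedCategory.isIso_Q_map_iff_quasiIso (φ := s)).2 inferInstance
  have : IsIso (((LTen A).map (Q.map s)).app (Q.obj (sgF.obj N))) := inferInstance
  have h1 := e₁'_hom_app s N
  have h2 : Q.map (s ▷ sgF.obj N) = Q.map (rsIso P N).inv ≫ Q.map ((twF N).map s) ≫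
      Q.map (rsIso K N).hom := by
    rw [← Functor.map_comp, ← Functor.map_comp, rsIso_hom_naturality_left, Iso.inv_hom_id_assoc]
  have h3 : ((LTen A).map (Q.map s)).app (Q.obj (sgF.obj N)) ≫ (εLeft A K).app (sgF.obj N) =
      ((LTen A).map (Q.map s)).app (Q.obj (sgF.obj N)) ≫
        ((e₁' s).hom.app N ≫ Q.map ((twF N).map s) ≫ (iso3 K).hom.app N) :=
    calc ((LTen A).map (Q.map s)).app (Q.obj (sgF.obj N)) ≫ (εLeft A K).app (sgF.obj N)
        = (εLeft A P).app (sgF.obj N) ≫ Q.map (s ▷ sgF.obj N) := ε_naturality_left s _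
      _ = (εLeft A P).app (sgF.obj N) ≫ (Q.map (rsIso P N).inv ≫ Q.map ((twF N).map s) ≫
            Q.map (rsIso K N).hom) := by rw [h2]
      _ = ((εLeft A P).app (sgF.obj N) ≫ Q.map (rsIso P N).inv) ≫ (Q.map ((twF N).map s) ≫
            Q.map (rsIso K N).hom) := (Category.assoc _ _ _).symm
      _ = (((LTen A).map (Q.map s)).app (Q.obj (sgF.obj N)) ≫ (e₁' s).hom.app N) ≫
            (Q.map ((twF N).map s) ≫ Q.map (rsIso K N).hom) :=
          congrArg (· ≫ (Q.map ((twF N).map s) ≫ Q.map (rsIso K N).hom)) h1.symm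
      _ = _ := Category.assoc _ _ _
  exact (cancel_epi _).1 h3


/-- the two isomorphisms of systems -/
noncomputable def e₁sys {P K : Cx A} (s : P ⟶ K) [QuasiIso s] [P.IsKProjective] :
    (sysN I ⋙ sgF) ⋙ (Q ⋙ (LTen A).obj (Q.obj K)) ≅ sysN I ⋙ (twC P ⋙ Q) :=
  Functor.isoWhiskerLeft (sysN I) (e₁' s)

noncomputable def e₂sys (K : Cx A) :
    sysN I ⋙ (twC K ⋙ Q) ≅ (sysN I ⋙ sgF) ⋙ (tensorLeft K ⋙ Q) :=
  Functor.isoWhiskerLeft (sysN I) (iso3 K)

lemma heq_sys {P K : Cx A} (s : P ⟶ K) [QuasiIso s] [P.IsKProjective] :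
    Functor.whiskerLeft (sysN I ⋙ sgF) (εLeft A K) =
      (e₁sys I s).hom ≫ Functor.whiskerLeft (sysN I) (Functor.whiskerRight (twCmap s) Q) ≫
        (e₂sys I K).hom := by
  ext n
  exact comparison s ((sysN I).obj n)


open Groth.Agent.S6615 (tr_comp tr_refl tr_nat) in
open Groth.Agent.S14388 in
/-- the transition maps of the concrete system factor through objects uniformly bounded below -/
lemma hX_sys {P K : Cx A} (s : P ⟶ K) [QuasiIso s] [P.IsKProjective] (a r : ℤ)
    (hK : ∀ i : ℤ, i < a → IsZero (K.X i)) (n m : ℕ) (hm : n ≤ m)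
    (E : CochainComplex (ModuleCat.{u} A) ℤ)
    (hEfp : ∀ i : ℤ, Module.Finite A (E.X i) ∧ Module.Projective A (E.X i))
    (hE2 : ∀ i : ℤ, i < -r → IsZero (E.X i)) (hE3 : ∀ i : ℤ, 0 < i → IsZero (E.X i))
    (β : Q.obj (sgF.obj ((sysN I).obj (op m))) ⟶ Q.obj E)
    (γ : E ⟶ sgF.obj ((sysN I).obj (op n)))
    (hβγ : β ≫ Q.map γ = Q.map (sgF.map (ARSys.tr (sysN I) hm))) :
    ∃ (G : DerivedCategory (ModuleCat.{u} A)) (_ : G.IsGE (a - r))
      (u : (sysN I ⋙ (twC P ⋙ Q)).obj (op m) ⟶ G) (v : G ⟶ (sysN I ⋙ (twC P ⋙ Q)).obj (op n)),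
      ARSys.tr (sysN I ⋙ (twC P ⋙ Q)) hm = u ≫ v := by
  let TK := (LTen A).obj (Q.obj K)
  have hEproj : ∀ i : ℤ, Projective (E.X i) := fun i =>
    have := (hEfp i).2
    ModuleCat.projective_of_categoryTheory_projective _
  have hEle : E.IsStrictlyLE 0 := by
    rw [CochainComplex.isStrictlyLE_iff]
    exact hE3
  have hEKP : E.IsKProjective := CochainComplex.isKProjective_of_projective E 0
  have hiso : IsIso ((ε A).app (K, E)) :=
    KFlatComputes.isIso_counit K E (Or.inr (isKFlat_of_isKProjective E))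
  have hGE0 : (Q.obj (K ⊗ E)).IsGE (a - r) := by
    apply isGE_Q_of_isZero
    intro i hi
    apply Groth.Agent.Lib.Helper1.TensPerf.isZero_tensor_X
    intro p q hpq
    by_cases hp : p < a
    · exact Or.inl (hK p hp)
    · exact Or.inr (hE2 q (by omega))
  have hGE0' : tt.IsGE ((tensor₂ A).obj (K, E)) (a - r) := hGE0
  have hGE : (TK.obj (Q.obj E)).IsGE (a - r) :=
    tt.isGE_of_iso (asIso ((ε A).app (K, E))).symm _
  refine ⟨TK.obj (Q.obj E), hGE, (e₁sys I s).inv.app (op m) ≫ TK.map β,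
    TK.map (Q.map γ) ≫ (e₁sys I s).hom.app (op n), ?_⟩
  have hnat := tr_nat (e₁sys I s).hom hm
  have htrX : ARSys.tr ((sysN I ⋙ sgF) ⋙ (Q ⋙ TK)) hm = TK.map β ≫ TK.map (Q.map γ) := by
    show TK.map (Q.map (sgF.map (ARSys.tr (sysN I) hm))) = _
    rw [← Functor.map_comp, hβγ]
  calc ARSys.tr (sysN I ⋙ (twC P ⋙ Q)) hm
      = (e₁sys I s).inv.app (op m) ≫
          ((e₁sys I s).hom.app (op m) ≫ ARSys.tr (sysN I ⋙ (twC P ⋙ Q)) hm) := by
        rw [Iso.inv_hom_id_app_assoc]
    _ = (e₁sys I s).inv.app (op m) ≫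
          (ARSys.tr ((sysN I ⋙ sgF) ⋙ (Q ⋙ TK)) hm ≫ (e₁sys I s).hom.app (op n)) := by
        rw [hnat]
    _ = ((e₁sys I s).inv.app (op m) ≫ TK.map β) ≫ TK.map (Q.map γ) ≫
          (e₁sys I s).hom.app (op n) := by
        rw [htrX, Category.assoc, Category.assoc]



/-- the transition maps of the concrete system factor through objects uniformly bounded below -/
lemma hX_all (K : DRing.Cx A) (a : ℤ) (hK : ∀ i : ℤ, i < a → IsZero (K.X i))
    (P : Cx A) (s : P ⟶ K) [QuasiIso s] [P.IsKProjective] :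
    ∃ c : ℤ, ∀ n : ℕ, ∃ (m : ℕ) (hm : n ≤ m) (G : DerivedCategory (ModuleCat.{u} A))
      (_ : G.IsGE c) (u : (sysN I ⋙ (twC P ⋙ Q)).obj (op m) ⟶ G)
      (v : G ⟶ (sysN I ⋙ (twC P ⋙ Q)).obj (op n)),
      ARSys.tr (sysN I ⋙ (twC P ⋙ Q)) hm = u ≫ v := by
  obtain ⟨r, hfac⟩ := exists_factorisation I
  refine ⟨a - r, fun n => ?_⟩
  obtain ⟨m, hm, E, hEfp, hE2, hE3, β, γ, hβγ⟩ := hfac n
  have := hX_sys I s a r hK n m hm E hEfp hE2 hE3 β γ hβγ
  obtain ⟨G, hG, u, v, h⟩ := this
  exact ⟨m, hm, G, hG, u, v, h⟩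

/-- the concrete map of systems is a pro-isomorphism -/
lemma proIso_concrete (K : DRing.Cx A) (a b : ℤ) (hK : DRing.VanishesOutside K a b)
    (hKf : ∀ i : ℤ, Module.Finite A (K.X i)) (P : Cx A) (bP : ℤ) (s : P ⟶ K) [QuasiIso s]
    [P.IsKProjective] (hPv : ∀ i : ℤ, bP < i → IsZero (P.X i))
    (hPf : ∀ i : ℤ, Module.Finite A (P.X i)) :
    DerCA.IsProIso (Functor.whiskerLeft (sysN I) (Functor.whiskerRight (twCmap s) Q)) := by
  obtain ⟨c, hX⟩ := hX_all I K a (fun i hi => hK i (Or.inl hi)) P s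
  exact proIso_tw s I a b bP c hK hPv hPf hKf hX

/-- **Main theorem**: the system `K ⊗^L A/I^{n+1} → K ⊗ (A/I^{n+1})[0]` is a pro-isomorphism. -/
theorem main (K : DRing.Cx A) (a b : ℤ) (hK : DRing.VanishesOutside K a b)
    (hKf : ∀ i : ℤ, Module.Finite A (K.X i)) :
    DerCA.IsProIso (Functor.whiskerLeft
      (CohIII.adicSystem I (ModuleCat.of A A) ⋙
        HomologicalComplex.single (ModuleCat.{u} A) (ComplexShape.up ℤ) 0)
      (DTen.εLeft A K)) := by
  obtain ⟨P, bP, s, hs, hPK, hPv, hPff⟩ :=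
    Groth.Agent.R2.H31.Res.exists_resolution K b (fun i hi => hK i (Or.inr hi)) hKf
  have h1 := proIso_concrete I K a b hK hKf P bP s hPv (fun i => (hPff i).1)
  have h2 := Groth.Agent.R2.H31.ProU.isProIso_of_iso (e₁sys I s) (e₂sys I K) _ h1
  rw [← heq_sys I s] at h2
  exact h2

end LTenPart

end Groth.Agent.R2.H31.Main
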