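import Mathlib
import Groth.Prelude.Def_DRing2
import Groth.Prelude.Def_MoreMor
import Groth.Agent.Lib.Helper1PC

/-!
# Pseudo-coherent modules are finitely presented; pseudo-coherent ring maps are of finite
presentation (helper31)
-/

set_option autoImplicit false
universe u
open CategoryTheory CategoryTheory.Limits DerivedCategory
attribute [local instance] HasDerivedCategory.standard

namespace Groth.Agent.R2.H31.PCFP

open Groth.Agent.Lib.Helper1.PC

/-- a pseudo-coherent module is finitely presented. -/
theorem finitePresentation_of_isPseudoCoherentModule' (P : Type u) [CommRing P] (B : Type u)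
    [AddCommGroup B] [Module P B] (h : DRing.IsPseudoCoherentModule' P B) :
    Module.FinitePresentation P B := by
  obtain ⟨E, b, hb, hff, ⟨e⟩⟩ := h
  have hiso : ∀ i : ℤ, E.homology i ≅
      (homologyFunctor (ModuleCat.{u} P) i).obj (Dual.inD P B) := fun i =>
    ((homologyFunctorFactors (ModuleCat.{u} P) i).app E).symm ≪≫
      (homologyFunctor (ModuleCat.{u} P) i).mapIso e
  have hex : ∀ i : ℤ, 0 < i → E.ExactAt i := by
    intro i hi
    rw [HomologicalComplex.exactAt_iff_isZero_homology]
    exact (isZero_homology_single (ModuleCat.of P B) 0 i (by omega)).of_iso (hiso i)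
  have hker := ker_d_finite_projective E 0 b hb
    (fun i _ => ⟨(hff i).1, by have := (hff i).2; infer_instance⟩) hex 0 le_rfl
  have h1 := hker.1
  have h2 := hker.2
  have hfp : Module.FinitePresentation P (LinearMap.ker (E.d 0 (0 + 1)).hom) :=
    Module.finitePresentation_of_projective P _
  have h0 : Module.FinitePresentation P (E.homology 0) :=
    fp_homology_of_ker E 0 hfp (hff (0 - 1)).1
  exact Module.FinitePresentation.of_equiv
    ((hiso 0 ≪≫ homologySingleIso (ModuleCat.of P B) 0).toLinearEquiv)

/-- a pseudo-coherent ring map is of finite presentation. -/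
theorem finitePresentation_of_isPseudoCoherentHom (A B : Type u) [CommRing A] [CommRing B]
    [Algebra A B] (h : MoreMor.IsPseudoCoherentHom A B) : Algebra.FinitePresentation A B := by
  obtain ⟨n, φ, hφ, hpc⟩ := h
  letI := φ.toRingHom.toAlgebra
  have hfp : Module.FinitePresentation (MvPolynomial (Fin n) A) B :=
    finitePresentation_of_isPseudoCoherentModule' _ _ hpc
  rw [Algebra.FinitePresentation.iff_quotient_mvPolynomial']
  refine ⟨Fin n, inferInstance, φ, hφ, ?_⟩
  let l : MvPolynomial (Fin n) A →ₗ[MvPolynomial (Fin n) A] B :=
    Algebra.linearMap (MvPolynomial (Fin n) A) B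
  have hl : Function.Surjective l := hφ
  have hk := Module.FinitePresentation.fg_ker l hl
  have : (RingHom.ker φ.toRingHom : Ideal (MvPolynomial (Fin n) A)) = LinearMap.ker l := by
    ext x
    rfl
  rw [this]
  exact hk

end Groth.Agent.R2.H31.PCFP
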