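import Mathlib
import Groth.Prelude.Def_MoreMor
import Groth.Agent.S6954
import Groth.Agent.S6947
import Groth.Agent.S6962
import Groth.Agent.Lib.Helper14TorSyz
import Groth.Agent.Lib.Helper1Restrict

/-!
# Perfect ring maps from perfect presentations (helper31)
-/

set_option autoImplicit false
universe u
open CategoryTheory CategoryTheory.Limits DerivedCategory
attribute [local instance] HasDerivedCategory.standard

namespace Groth.Agent.R2.H31.PerfHom

open Groth.Agent.Lib.Helper1.TorDim Groth.Agent.Lib.Helper1.Tor Groth.Agent.Lib.Helper14.TorSyz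
open Groth.Agent.Lib.Helper1.Restrict

/-- If `B` is a quotient of a polynomial ring `P = A[x₁,…,xₙ]` over which it is a perfect module,
then `A → B` is a perfect ring map. -/
theorem isPerfectHom_of_presentation (A B : Type u) [CommRing A] [CommRing B] [Algebra A B]
    (n : ℕ) (φ : MvPolynomial (Fin n) A →ₐ[A] B) (hφ : Function.Surjective φ)
    (h : letI := φ.toRingHom.toAlgebra
      DRing.IsPerfectModule (MvPolynomial (Fin n) A) B) :
    MoreMor.IsPerfectHom A B := by
  let _ := φ.toRingHom.toAlgebra
  obtain ⟨hpc, a, b, hab⟩ := (Groth.Agent.S6954.result (MvPolynomial (Fin n) A)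
    (Dual.inD (MvPolynomial (Fin n) A) B)).1 h
  refine ⟨⟨n, φ, hφ, hpc⟩, ?_⟩
  have hP : DRing.HasTorAmplitudeIn A (-((0 : ℕ) : ℤ)) 0 (Dual.inD A (MvPolynomial (Fin n) A)) :=
    (hasTorDimLE_iff_hasTorAmp (MvPolynomial (Fin n) A) 0).1
      ((hasTorDimLE_zero_iff_flat (MvPolynomial (Fin n) A)).2 inferInstance)
  have h1 := Groth.Agent.S6947.result 0 hP (Dual.inD (MvPolynomial (Fin n) A) B) a b hab
  let e' : ((ModuleCat.restrictScalars (algebraMap A (MvPolynomial (Fin n) A))).obj
      (ModuleCat.of (MvPolynomial (Fin n) A) B)) ≃ₗ[A] B :=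
    { toFun := fun x => x
      invFun := fun x => x
      left_inv := fun _ => rfl
      right_inv := fun _ => rfl
      map_add' := fun _ _ => rfl
      map_smul' := fun r x => by
        have : ∀ y : B, φ (algebraMap A (MvPolynomial (Fin n) A) r) * y = r • y := fun y => by
          rw [φ.commutes, Algebra.smul_def]
        exact this x }
  let e : (ModuleCat.restrictScalars (algebraMap A (MvPolynomial (Fin n) A))).obj
      (ModuleCat.of (MvPolynomial (Fin n) A) B) ≅ ModuleCat.of A B := e'.toModuleIso
  have h2 : DRing.HasTorAmplitudeIn A (a - ((0 : ℕ) : ℤ)) b (Dual.inD A B) :=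
    hasTorAmp_of_iso (restrictDSingleIso _ _ 0 ≪≫
      (DerivedCategory.singleFunctor (ModuleCat.{u} A) 0).mapIso e) h1
  exact ⟨(-a).toNat, hasTorDimLE_of_hasTorAmp B _ b
    (hasTorAmp_mono (by push_cast; omega) le_rfl h2)⟩

end Groth.Agent.R2.H31.PerfHom
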