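import Mathlib
import Groth.Agent.Lib.Helper14TorSyz
import Groth.Agent.S7001
import Groth.Agent.S6947
import Groth.Agent.Lib.Helper1Restrict

/-!
# Tor dimension over polynomial rings (helper31)

`hasTorDimLE_polynomial`: an `R[X]`-module of tor dimension `≤ d` over `R` has tor dimension
`≤ d + 1` over `R[X]` (via the sequence `0 → R[X] ⊗ M → R[X] ⊗ M → M → 0`);
`hasTorDimLE_mvPolynomial`: the `n`-variable version.
-/

set_option autoImplicit false
universe u
open Polynomial TensorProduct
open CategoryTheory CategoryTheory.Limits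
attribute [local instance] HasDerivedCategory.standard

namespace Groth.Agent.R2.H31.PolyTorDim

section SES

variable (R : Type u) [CommRing R] (M : Type u) [AddCommGroup M] [Module R[X] M] [Module R M]
  [IsScalarTower R R[X] M]

/-- multiplication by `X` on `M`, as an `R`-linear map. -/
noncomputable def tX : M →ₗ[R] M := (LinearMap.lsmul R[X] M X).restrictScalars R

@[simp] lemma tX_apply (m : M) : tX R M m = (X : R[X]) • m := rfl

/-- `p ⊗ m ↦ Xp ⊗ m - p ⊗ Xm`. -/
noncomputable def fT : R[X] ⊗[R] M →ₗ[R[X]] R[X] ⊗[R] M :=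
  LinearMap.lsmul R[X] (R[X] ⊗[R] M) X - LinearMap.baseChange R[X] (tX R M)

/-- `p ⊗ m ↦ p • m`. -/
noncomputable def gT : R[X] ⊗[R] M →ₗ[R[X]] M :=
  LinearMap.liftBaseChange R[X] (LinearMap.id : M →ₗ[R] M)

lemma fT_tmul (p : R[X]) (m : M) :
    fT R M (p ⊗ₜ m) = (X * p) ⊗ₜ m - p ⊗ₜ ((X : R[X]) • m) := by
  simp [fT, TensorProduct.smul_tmul']

lemma gT_tmul (p : R[X]) (m : M) : gT R M (p ⊗ₜ m) = p • m := by
  simp [gT]

lemma gT_fT (x : R[X] ⊗[R] M) : gT R M (fT R M x) = 0 := by
  induction x using TensorProduct.induction_on with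
  | zero => simp
  | tmul p m => rw [fT_tmul, map_sub, gT_tmul, gT_tmul, mul_comm, mul_smul, sub_self]
  | add x y hx hy => rw [map_add, map_add, hx, hy, add_zero]

lemma gT_surjective : Function.Surjective (gT R M) := fun m =>
  ⟨1 ⊗ₜ m, by rw [gT_tmul, one_smul]⟩

lemma pow_tmul_sub_mem (n : ℕ) : ∀ m : M,
    ((X : R[X]) ^ n) ⊗ₜ[R] m - (1 : R[X]) ⊗ₜ[R] (((X : R[X]) ^ n) • m) ∈
      LinearMap.range (fT R M) := by
  induction n with
  | zero => intro m; simp
  | succ n ih =>
    intro m
    have h1 : ((X : R[X]) ^ (n + 1)) ⊗ₜ[R] m - (1 : R[X]) ⊗ₜ[R] (((X : R[X]) ^ (n + 1)) • m) =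
        fT R M (((X : R[X]) ^ n) ⊗ₜ m) +
          (((X : R[X]) ^ n) ⊗ₜ[R] ((X : R[X]) • m) -
            (1 : R[X]) ⊗ₜ[R] (((X : R[X]) ^ n) • ((X : R[X]) • m))) := by
      rw [fT_tmul, ← pow_succ', pow_succ, mul_smul]
      abel
    rw [h1]
    exact Submodule.add_mem _ ⟨_, rfl⟩ (ih _)

lemma sub_mem_range (x : R[X] ⊗[R] M) :
    x - (1 : R[X]) ⊗ₜ[R] (gT R M x) ∈ LinearMap.range (fT R M) := by
  induction x using TensorProduct.induction_on with
  | zero => simp
  | add x y hx hy =>
    have : x + y - (1 : R[X]) ⊗ₜ[R] (gT R M (x + y)) =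
        (x - (1 : R[X]) ⊗ₜ[R] (gT R M x)) + (y - (1 : R[X]) ⊗ₜ[R] (gT R M y)) := by
      rw [map_add, TensorProduct.tmul_add]; abel
    rw [this]
    exact Submodule.add_mem _ hx hy
  | tmul p m =>
    rw [gT_tmul]
    induction p using Polynomial.induction_on' with
    | add p q hp hq =>
      have : (p + q) ⊗ₜ[R] m - (1 : R[X]) ⊗ₜ[R] ((p + q) • m) =
          (p ⊗ₜ[R] m - (1 : R[X]) ⊗ₜ[R] (p • m)) + (q ⊗ₜ[R] m - (1 : R[X]) ⊗ₜ[R] (q • m)) := by
        rw [TensorProduct.add_tmul, add_smul, TensorProduct.tmul_add]; abel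
      rw [this]
      exact Submodule.add_mem _ hp hq
    | monomial n r =>
      have h1 : (monomial n r : R[X]) = r • (X : R[X]) ^ n := by
        rw [← Polynomial.C_mul_X_pow_eq_monomial, Polynomial.smul_eq_C_mul]
      have h2 : (monomial n r : R[X]) ⊗ₜ[R] m - (1 : R[X]) ⊗ₜ[R] ((monomial n r : R[X]) • m) =
          ((X : R[X]) ^ n) ⊗ₜ[R] (r • m) - (1 : R[X]) ⊗ₜ[R] (((X : R[X]) ^ n) • (r • m)) := by
        rw [h1, TensorProduct.smul_tmul, smul_assoc, smul_comm]
      rw [h2]
      exact pow_tmul_sub_mem R M n _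

lemma exact_fT_gT : Function.Exact (fT R M) (gT R M) := by
  intro x
  constructor
  · intro hx
    have := sub_mem_range R M x
    rwa [hx, TensorProduct.tmul_zero, sub_zero] at this
  · rintro ⟨y, rfl⟩
    exact gT_fT R M y

lemma e_baseChange (x : R[X] ⊗[R] M) :
    PolynomialModule.polynomialTensorProductLEquivPolynomialModule R M
        (LinearMap.baseChange R[X] (tX R M) x) =
      PolynomialModule.map R (tX R M)
        (PolynomialModule.polynomialTensorProductLEquivPolynomialModule R M x) := by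
  induction x using TensorProduct.induction_on with
  | zero => simp
  | add x y hx hy => simp only [map_add, hx, hy]
  | tmul p m =>
    have h1 : ∀ (p : R[X]) (m : M),
        PolynomialModule.polynomialTensorProductLEquivPolynomialModule R M (p ⊗ₜ m) =
        p • PolynomialModule.single R 0 m := fun p m => rfl
    rw [LinearMap.baseChange_tmul, h1, h1, PolynomialModule.map_smul,
      PolynomialModule.map_single]
    simp

omit [Module R[X] M] [IsScalarTower R R[X] M] in
lemma coeff_sub' (a b : PolynomialModule R M) : (a - b).coeff = a.coeff - b.coeff :=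
  map_sub (PolynomialModule.coeffAddEquiv (R := R) (M := M)) a b

omit [Module R[X] M] [IsScalarTower R R[X] M] in
lemma coeff_map' (f : M →ₗ[R] M) (q : PolynomialModule R M) (k : ℕ) :
    (PolynomialModule.map R f q).coeff k = f (q.coeff k) := rfl

lemma fT_injective : Function.Injective (fT R M) := by
  rw [injective_iff_map_eq_zero]
  intro x hx
  set q := PolynomialModule.polynomialTensorProductLEquivPolynomialModule R M x with hq
  have h0 : (X : R[X]) • q - PolynomialModule.map R (tX R M) q = 0 := by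
    have := congrArg (PolynomialModule.polynomialTensorProductLEquivPolynomialModule R M) hx
    rw [_root_.map_zero, fT, LinearMap.sub_apply, _root_.map_sub, LinearMap.lsmul_apply,
      _root_.map_smul, e_baseChange] at this
    exact this
  have hc : ∀ k : ℕ, q.coeff k = (X : R[X]) • q.coeff (k + 1) := by
    intro k
    have h1 := congrArg (fun z : PolynomialModule R M => z.coeff (k + 1)) h0
    have hX : (X : R[X]) = monomial 1 1 := (Polynomial.monomial_one_one_eq_X).symm
    simp only [coeff_sub', Finsupp.coe_sub, Pi.sub_apply, coeff_map', tX_apply,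
      PolynomialModule.coeff_zero, Finsupp.coe_zero, Pi.zero_apply] at h1
    rw [hX, PolynomialModule.monomial_smul_apply, if_pos (by omega), Nat.add_sub_cancel,
      one_smul, ← hX, sub_eq_zero] at h1
    exact h1
  have hz : ∀ k : ℕ, q.coeff k = 0 := by
    obtain ⟨N, hN⟩ : ∃ N : ℕ, ∀ k, N ≤ k → q.coeff k = 0 := by
      refine ⟨q.coeff.support.sup id + 1, fun k hk => ?_⟩
      by_contra hne
      have hmem : k ∈ q.coeff.support := Finsupp.mem_support_iff.2 hne
      have := Finset.le_sup (f := id) hmem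
      simp only [id] at this
      omega
    have : ∀ j k : ℕ, N ≤ k + j → q.coeff k = 0 := by
      intro j
      induction j with
      | zero => intro k hk; exact hN k (by omega)
      | succ j ih =>
        intro k hk
        rw [hc k, ih (k + 1) (by omega), smul_zero]
    intro k
    exact this N k (by omega)
  have hq0 : q = 0 := by
    apply PolynomialModule.coeff_injective
    ext k
    exact hz k
  rw [hq] at hq0
  exact (LinearEquiv.map_eq_zero_iff _).1 hq0

end SES

section TD

open Groth.Agent.Lib.Helper1.TorDim Groth.Agent.Lib.Helper1.Tor Groth.Agent.Lib.Helper14.TorSyz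
open Groth.Agent.Lib.Helper1.Restrict DerivedCategory Pretriangulated

variable {R : Type u} [CommRing R]

lemma hasTorDimLE_of_linearEquiv {M N : Type u} [AddCommGroup M] [Module R M] [AddCommGroup N]
    [Module R N] (e : M ≃ₗ[R] N) (d : ℕ) (h : DRing.HasTorDimLE R d M) :
    DRing.HasTorDimLE R d N := by
  rw [hasTorDimLE_iff_hasTorAmp] at h ⊢
  exact hasTorAmp_of_iso ((DerivedCategory.singleFunctor (ModuleCat.{u} R) 0).mapIso
    e.toModuleIso) h

/-- `0 → K → P → N → 0` with `K`, `P` of tor dimension `≤ d` gives `N` of tor dimension `≤ d+1`. -/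
theorem hasTorDimLE_succ_of_exact {K P N : Type u} [AddCommGroup K] [Module R K] [AddCommGroup P]
    [Module R P] [AddCommGroup N] [Module R N] (f : K →ₗ[R] P) (g : P →ₗ[R] N)
    (hf : Function.Injective f) (hg : Function.Surjective g)
    (hfg : Function.Exact f g) (d : ℕ) (hK : DRing.HasTorDimLE R d K)
    (hP : DRing.HasTorDimLE R d P) : DRing.HasTorDimLE R (d + 1) N := by
  obtain ⟨Tr, hT, h1, h2, h3⟩ := exists_triangle f g hf hg hfg
  have hP' : DRing.HasTorAmplitudeIn R (-(d : ℤ)) 0 (Dual.inD R P) :=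
    (hasTorDimLE_iff_hasTorAmp P d).1 hP
  have hK' : DRing.HasTorAmplitudeIn R (-(d : ℤ)) 0 (Dual.inD R K) :=
    (hasTorDimLE_iff_hasTorAmp K d).1 hK
  have := (hasTorAmp_two_out_of_three (-((d + 1 : ℕ) : ℤ)) 0 Tr hT).1
    (h1 ▸ hasTorAmp_mono (by push_cast; omega) (by omega) hK')
    (h2 ▸ hasTorAmp_mono (by push_cast; omega) le_rfl hP')
  rw [h3] at this
  exact (hasTorDimLE_iff_hasTorAmp N (d + 1)).2 this

/-- one variable: tor dimension over `R[X]` is at most one more than over `R`. -/
theorem hasTorDimLE_polynomial (M : Type u) [AddCommGroup M] [Module R[X] M] [Module R M]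
    [IsScalarTower R R[X] M] (d : ℕ) (h : DRing.HasTorDimLE R d M) :
    DRing.HasTorDimLE R[X] (d + 1) M := by
  have hT : DRing.HasTorDimLE R[X] d (R[X] ⊗[R] M) :=
    (hasTorDimLE_iff_hasTorAmp _ d).2
      (Groth.Agent.S7001.result (A := R) (B := R[X]) d M ((hasTorDimLE_iff_hasTorAmp M d).1 h))
  exact hasTorDimLE_succ_of_exact (fT R M) (gT R M) (fT_injective R M) (gT_surjective R M)
    (exact_fT_gT R M) d hT hT

end TD

section Iso

open Groth.Agent.Lib.Helper1.TorDim Groth.Agent.Lib.Helper1.Tor Groth.Agent.Lib.Helper14.TorSyz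
open Groth.Agent.Lib.Helper1.Restrict DerivedCategory Pretriangulated

lemma hasTorDimLE_of_iso {R : Type u} [CommRing R] {M N : ModuleCat.{u} R} (e : M ≅ N) (d : ℕ)
    (h : DRing.HasTorDimLE R d M) : DRing.HasTorDimLE R d N :=
  hasTorDimLE_of_linearEquiv e.toLinearEquiv d h

/-- transport of tor dimension along a ring isomorphism. -/
theorem hasTorDimLE_of_ringEquiv {S₁ S₂ : Type u} [CommRing S₁] [CommRing S₂] (σ : S₁ ≃+* S₂)
    (M : ModuleCat.{u} S₂) (d : ℕ)
    (h : DRing.HasTorDimLE S₁ d ((ModuleCat.restrictScalars σ.toRingHom).obj M)) :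
    DRing.HasTorDimLE S₂ d M := by
  let _ : Algebra S₂ S₁ := σ.symm.toRingHom.toAlgebra
  have hflat : Module.Flat S₂ S₁ := RingHom.Flat.of_bijective (f := σ.symm.toRingHom) σ.symm.bijective
  have hB : DRing.HasTorAmplitudeIn S₂ (-((0 : ℕ) : ℤ)) 0 (Dual.inD S₂ S₁) :=
    (hasTorDimLE_iff_hasTorAmp S₁ 0).1 ((hasTorDimLE_zero_iff_flat S₁).2 hflat)
  have hK : DRing.HasTorAmplitudeIn S₁ (-(d : ℤ)) 0
      (Dual.inD S₁ ((ModuleCat.restrictScalars σ.toRingHom).obj M)) :=
    (hasTorDimLE_iff_hasTorAmp _ d).1 h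
  have h1 := Groth.Agent.S6947.result 0 hB _ _ _ hK
  let e1 : (ModuleCat.restrictScalars σ.symm.toRingHom).obj
      ((ModuleCat.restrictScalars σ.toRingHom).obj M) ≅ M :=
    (ModuleCat.restrictScalarsComp'App σ.symm.toRingHom σ.toRingHom (RingHom.id S₂)
      (by ext x; simp) M).symm ≪≫ ModuleCat.restrictScalarsId'App (RingHom.id S₂) rfl M
  have h2 : DRing.HasTorAmplitudeIn S₂ (-(d : ℤ) - ((0 : ℕ) : ℤ)) 0 (Dual.inD S₂ M) :=
    hasTorAmp_of_iso (restrictDSingleIso _ _ 0 ≪≫
      (DerivedCategory.singleFunctor (ModuleCat.{u} S₂) 0).mapIso e1) h1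
  exact (hasTorDimLE_iff_hasTorAmp _ d).2 (hasTorAmp_mono (by push_cast; omega) le_rfl h2)

end Iso

section Iter

open Groth.Agent.Lib.Helper1.TorDim

lemma hasTorDimLE_restrict_of_eq {R S : Type u} [CommRing R] [CommRing S] {f g : R →+* S}
    (hfg : f = g) (M : ModuleCat.{u} S) (d : ℕ)
    (h : DRing.HasTorDimLE R d ((ModuleCat.restrictScalars f).obj M)) :
    DRing.HasTorDimLE R d ((ModuleCat.restrictScalars g).obj M) := by
  subst hfg
  exact h

/-- bundled one-variable step. -/
theorem hasTorDimLE_polynomial' {S : Type u} [CommRing S] (M : ModuleCat.{u} S[X]) (d : ℕ)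
    (h : DRing.HasTorDimLE S d ((ModuleCat.restrictScalars (Polynomial.C : S →+* S[X])).obj M)) :
    DRing.HasTorDimLE S[X] (d + 1) M := by
  let _ : Module S M := ((ModuleCat.restrictScalars (Polynomial.C : S →+* S[X])).obj M).isModule
  have : IsScalarTower S S[X] M := ⟨fun s p m => by
    show (s • p) • m = (Polynomial.C s) • (p • m)
    rw [Polynomial.smul_eq_C_mul, mul_smul]⟩
  exact hasTorDimLE_polynomial (R := S) M d h

theorem hasTorDimLE_mvPolynomial : ∀ (n : ℕ) (A : Type u) [CommRing A]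
    (M : ModuleCat.{u} (MvPolynomial (Fin n) A)) (d : ℕ),
    DRing.HasTorDimLE A d
      ((ModuleCat.restrictScalars (MvPolynomial.C : A →+* MvPolynomial (Fin n) A)).obj M) →
    DRing.HasTorDimLE (MvPolynomial (Fin n) A) (d + n) M := by
  intro n
  induction n with
  | zero =>
    intro A _ M d h
    refine hasTorDimLE_of_ringEquiv (MvPolynomial.isEmptyRingEquiv A (Fin 0)).symm M d ?_
    exact hasTorDimLE_restrict_of_eq (MvPolynomial.isEmptyRingEquiv_symm_toRingHom A).symm M d h
  | succ n ih =>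
    intro A _ M d h
    let σ : (MvPolynomial (Fin n) A)[X] ≃+* MvPolynomial (Fin (n + 1)) A :=
      (MvPolynomial.finSuccEquiv A n).symm.toRingEquiv
    refine hasTorDimLE_of_ringEquiv σ M (d + n + 1) ?_
    refine hasTorDimLE_polynomial' _ (d + n) ?_
    refine ih A _ d ?_
    have hcomp : σ.toRingHom.comp (Polynomial.C.comp MvPolynomial.C) =
        (MvPolynomial.C : A →+* MvPolynomial (Fin (n + 1)) A) :=
      MvPolynomial.finSuccEquiv_comp_C_eq_C n
    have h' := hasTorDimLE_restrict_of_eq hcomp.symm M d h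
    exact h'

end Iter

end Groth.Agent.R2.H31.PolyTorDim
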