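import Mathlib
import Groth.Prelude.Def_DRing3
import Groth.Prelude.Def_DerCA
import Groth.Agent.Lib.Helper1ExtCech2
import Groth.Agent.Lib.Helper1ExtCech3
import Groth.Agent.Lib.Helper1ExtCech4

/-!
# `Γ_I` on complexes of injective modules over a Noetherian ring (helper31)

* `G I`, `Gι I E`: the termwise `I`-power torsion subcomplex `Γ_I E ⟶ E`.
* `gammaShort f E`, `gammaShort_shortExact`: for a complex `E` of injective modules over a
  Noetherian ring, `0 ⟶ Γ_f E ⟶ E ⟶ E_f ⟶ 0` is short exact.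
* `injective_G`: `Γ_I E` is again a complex of injective modules.
* `GGIso`: `Γ_f (Γ_J E) ≅ Γ_{(f) + J} E` compatibly with the inclusions.
-/

set_option autoImplicit false
universe u
open CategoryTheory Limits HomologicalComplex CochainComplex

namespace Groth.Agent.R2.H31.RGam

open DerCA Groth.Agent.Lib.Helper1.ExtCech

variable {A : Type u} [CommRing A]

section Module

variable (M : Type u) [AddCommGroup M] [Module A M]

lemma mem_torsionSub_span_singleton (f : A) (m : M) :
    m ∈ DRing.torsionSub (Ideal.span {f}) M ↔ ∃ k : ℕ, f ^ k • m = 0 := by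
  constructor
  · rintro ⟨n, hn⟩
    exact ⟨n, hn _ (Ideal.pow_mem_pow (Ideal.mem_span_singleton_self f) n)⟩
  · rintro ⟨k, hk⟩
    refine ⟨k, fun a ha => ?_⟩
    rw [Ideal.span_singleton_pow, Ideal.mem_span_singleton'] at ha
    obtain ⟨r, rfl⟩ := ha
    rw [mul_smul, hk, smul_zero]

lemma mkLinearMap_eq_zero_iff (f : A) (m : M) :
    LocalizedModule.mkLinearMap (Submonoid.powers f) M m = 0 ↔
      m ∈ DRing.torsionSub (Ideal.span {f}) M := by
  rw [mem_torsionSub_span_singleton,
    IsLocalizedModule.eq_zero_iff (Submonoid.powers f)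
      (LocalizedModule.mkLinearMap (Submonoid.powers f) M)]
  constructor
  · rintro ⟨⟨c, ⟨k, rfl⟩⟩, hc⟩
    exact ⟨k, hc⟩
  · rintro ⟨k, hk⟩
    exact ⟨⟨f ^ k, ⟨k, rfl⟩⟩, hk⟩

lemma surjective_mkLinearMap_of_injective [IsNoetherianRing A] [Module.Injective A M] (f : A) :
    Function.Surjective (LocalizedModule.mkLinearMap (Submonoid.powers f) M) := by
  intro z
  obtain ⟨⟨m, ⟨s, ⟨k, rfl⟩⟩⟩, hs⟩ := IsLocalizedModule.surj (Submonoid.powers f)
    (LocalizedModule.mkLinearMap (Submonoid.powers f) M) z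
  have hs' : f ^ k • z = LocalizedModule.mkLinearMap (Submonoid.powers f) M m := hs
  obtain ⟨y', t, ht⟩ := exists_div_of_injective M f m k
  refine ⟨y', ?_⟩
  have h1 : LocalizedModule.mkLinearMap (Submonoid.powers f) M (f ^ k • y' - m) = 0 :=
    (IsLocalizedModule.eq_zero_iff (Submonoid.powers f)
      (LocalizedModule.mkLinearMap (Submonoid.powers f) M)).2 ⟨⟨f ^ t, ⟨t, rfl⟩⟩, ht⟩
  rw [map_sub, sub_eq_zero, map_smul, ← hs'] at h1
  exact IsLocalizedModule.smul_injective (LocalizedModule.mkLinearMap (Submonoid.powers f) M)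
    (⟨f ^ k, ⟨k, rfl⟩⟩ : Submonoid.powers f) h1

end Module

section Complex

/-- the termwise `I`-power torsion functor on complexes -/
noncomputable abbrev G (I : Ideal A) : DRing.Cx A ⥤ DRing.Cx A :=
  (DRing.gammaI I).mapHomologicalComplex (ComplexShape.up ℤ)

/-- the inclusion `Γ_I E ⟶ E` -/
noncomputable def Gι (I : Ideal A) (E : DRing.Cx A) : (G I).obj E ⟶ E where
  f i := ModuleCat.ofHom (DRing.torsionSub I (E.X i)).subtype
  comm' i j _ := rfl

lemma Gι_naturality (I : Ideal A) {E E' : DRing.Cx A} (g : E ⟶ E') :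
    (G I).map g ≫ Gι I E' = Gι I E ≫ g := rfl

instance mono_Gι (I : Ideal A) (E : DRing.Cx A) : Mono (Gι I E) := by
  have : ∀ i, Mono ((Gι I E).f i) := fun i => by
    rw [ModuleCat.mono_iff_injective]
    exact Subtype.val_injective
  exact HomologicalComplex.mono_of_mono_f _ this

/-- the sequence `Γ_f E ⟶ E ⟶ E_f` -/
noncomputable def gammaShort (f : A) (E : DRing.Cx A) : ShortComplex (DRing.Cx A) :=
  ShortComplex.mk (Gι (Ideal.span {f}) E) (locCxUnit (Submonoid.powers f) E) (by
    ext i x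
    exact (mkLinearMap_eq_zero_iff (E.X i) f x.1).2 x.2)

/-- for a complex of injective modules over a Noetherian ring, `0 ⟶ Γ_f E ⟶ E ⟶ E_f ⟶ 0` is
short exact -/
theorem gammaShort_shortExact [IsNoetherianRing A] (f : A) (E : DRing.Cx A)
    (hE : ∀ n, Module.Injective A (E.X n)) : (gammaShort f E).ShortExact := by
  apply HomologicalComplex.shortExact_of_degreewise_shortExact
  intro i
  have := hE i
  exact
    { exact := by
        rw [ShortComplex.moduleCat_exact_iff]
        intro x hx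
        exact ⟨⟨x, (mkLinearMap_eq_zero_iff (E.X i) f x).1 hx⟩, rfl⟩
      mono_f := (ModuleCat.mono_iff_injective _).2 Subtype.val_injective
      epi_g := (ModuleCat.epi_iff_surjective _).2
        (surjective_mkLinearMap_of_injective (E.X i) f) }

/-- `Γ_I E` is a complex of injective modules if `E` is (Noetherian ring) -/
lemma injective_G [IsNoetherianRing A] (I : Ideal A) (E : DRing.Cx A)
    (hE : ∀ n, Module.Injective A (E.X n)) (n : ℤ) : Module.Injective A (((G I).obj E).X n) := by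
  have := hE n
  exact injective_torsionSub I (E.X n)

/-- `Γ_f (Γ_J M) ≃ Γ_{(f) + J} M` -/
noncomputable def ggEquiv (f : A) (J : Ideal A) (M : Type u) [AddCommGroup M] [Module A M] :
    DRing.torsionSub (Ideal.span {f}) (DRing.torsionSub J M) ≃ₗ[A]
      DRing.torsionSub (Ideal.span {f} ⊔ J) M where
  toFun x := ⟨x.1.1, (mem_torsionSub_sup_iff J f M x.1.1).2 ⟨x.1.2, by
    obtain ⟨k, hk⟩ := (mem_torsionSub_span_singleton _ f x.1).1 x.2
    exact ⟨k, congrArg Subtype.val hk⟩⟩⟩
  map_add' _ _ := rfl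
  map_smul' _ _ := rfl
  invFun y := ⟨⟨y.1, ((mem_torsionSub_sup_iff J f M y.1).1 y.2).1⟩, by
    obtain ⟨k, hk⟩ := ((mem_torsionSub_sup_iff J f M y.1).1 y.2).2
    exact (mem_torsionSub_span_singleton _ f _).2 ⟨k, Subtype.ext hk⟩⟩
  left_inv _ := rfl
  right_inv _ := rfl

/-- `Γ_f (Γ_J E) ≅ Γ_{(f) + J} E` -/
noncomputable def GGIso (f : A) (J : Ideal A) (E : DRing.Cx A) :
    (G (Ideal.span {f})).obj ((G J).obj E) ≅ (G (Ideal.span {f} ⊔ J)).obj E :=
  HomologicalComplex.Hom.isoOfComponents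
    (fun i => (ggEquiv f J (E.X i)).toModuleIso) (fun i j _ => rfl)

lemma GGIso_hom_Gι (f : A) (J : Ideal A) (E : DRing.Cx A) :
    (GGIso f J E).hom ≫ Gι (Ideal.span {f} ⊔ J) E =
      Gι (Ideal.span {f}) ((G J).obj E) ≫ Gι J E := rfl

end Complex

end Groth.Agent.R2.H31.RGam
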