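import Mathlib

/-!
# helper61: maps from a single object into a K-injective complex

* `Acyc E L n`: every degree `n` cocycle `E ⟶ L.X n` is a coboundary.
* `subsingleton_hom_iff_acyc`: for `L` K-injective,
  `Subsingleton (Q E[0] ⟶ (Q L)⟦n⟧) ↔ Acyc E L n`.
* `acyc_adj_iff`: transfer of `Acyc` along a termwise adjunction.
* `isKInjective_map_of_adj`: right adjoints of exact functors preserve K-injectivity.
* `acyc_of_acyclic_of_isKInjective`.
-/

set_option autoImplicit false

universe w v v' u u'

open CategoryTheory CategoryTheory.Limits CochainComplex HomComplex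

namespace Groth.Agent.R2.H61.DC1

section Basic

variable {A : Type u} [Category.{v} A] [Abelian A]

/-- every degree `n` cocycle `E ⟶ L.X n` is a coboundary. -/
def Acyc (E : A) (L : CochainComplex A ℤ) (n : ℤ) : Prop :=
  ∀ z : E ⟶ L.X n, z ≫ L.d n (n + 1) = 0 → ∃ y : E ⟶ L.X (n - 1), y ≫ L.d (n - 1) n = z

lemma subsingleton_cohomologyClass_iff (E : A) (L : CochainComplex A ℤ) (n : ℤ) :
    Subsingleton (CohomologyClass ((CochainComplex.singleFunctor A 0).obj E) L n) ↔ Acyc E L n := by
  have h0 : (0 : ℤ) + n = n := zero_add n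
  have h1 : (0 : ℤ) + (n + 1) = n + 1 := zero_add _
  have h2 : (0 : ℤ) + (n - 1) = n - 1 := zero_add _
  constructor
  · intro hs z hz
    have hδ : δ n (n + 1) (Cochain.fromSingleMk (K := L) z h0) = 0 := by
      rw [Cochain.δ_fromSingleMk z h0 (n + 1) (n + 1) h1, hz, Cochain.fromSingleMk_zero]
    let α : Cocycle ((CochainComplex.singleFunctor A 0).obj E) L n :=
      Cocycle.mk (Cochain.fromSingleMk z h0) (n + 1) rfl hδ
    have hα : CohomologyClass.mk α = 0 := Subsingleton.elim _ _
    rw [CohomologyClass.mk_eq_zero_iff, mem_coboundaries_iff α (n - 1) (by omega)] at hα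
    obtain ⟨β, hβ⟩ := hα
    obtain ⟨y, rfl⟩ := Cochain.fromSingleMk_surjective β (n - 1) h2
    refine ⟨y, ?_⟩
    rw [Cochain.δ_fromSingleMk y h2 n n h0] at hβ
    have := congrArg (Cochain.fromSingleEquiv h0) hβ
    rw [Cochain.fromSingleEquiv_fromSingleMk] at this
    rw [this]
    exact Cochain.fromSingleEquiv_fromSingleMk z h0
  · intro hA
    refine ⟨fun x y => ?_⟩
    suffices h : ∀ x : CohomologyClass ((CochainComplex.singleFunctor A 0).obj E) L n, x = 0 by
      rw [h x, h y]
    intro x
    obtain ⟨α, rfl⟩ := x.mk_surjective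
    rw [CohomologyClass.mk_eq_zero_iff, mem_coboundaries_iff α (n - 1) (by omega)]
    obtain ⟨z, hz⟩ := Cochain.fromSingleMk_surjective
      (α : Cochain ((CochainComplex.singleFunctor A 0).obj E) L n) n h0
    have hδ := α.δ_eq_zero (n + 1)
    rw [← hz, Cochain.δ_fromSingleMk z h0 (n + 1) (n + 1) h1] at hδ
    have hz0 : z ≫ L.d n (n + 1) = 0 := by
      have := congrArg (Cochain.fromSingleEquiv h1) hδ
      rwa [Cochain.fromSingleEquiv_fromSingleMk, map_zero] at this
    obtain ⟨y, hy⟩ := hA z hz0
    refine ⟨Cochain.fromSingleMk y h2, ?_⟩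
    rw [Cochain.δ_fromSingleMk y h2 n n h0, hy, hz]

/-- morphisms in the derived category into a K-injective complex are cohomology classes. -/
noncomputable def homEquivCohomologyClass [HasDerivedCategory.{w} A] (K L : CochainComplex A ℤ)
    [L.IsKInjective] (n : ℤ) :
    CohomologyClass K L n ≃ (DerivedCategory.Q.obj K ⟶ (DerivedCategory.Q.obj L)⟦n⟧) :=
  (CohomologyClass.homAddEquiv (K := K) (L := L) (n := n)).toEquiv.trans
    ((Equiv.ofBijective _ (CochainComplex.IsKInjective.Qh_map_bijective
      ((HomotopyCategory.quotient A (ComplexShape.up ℤ)).obj K) (L⟦n⟧))).trans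
      (Iso.homCongr ((DerivedCategory.quotientCompQhIso A).app K)
        ((DerivedCategory.quotientCompQhIso A).app (L⟦n⟧) ≪≫
          (DerivedCategory.Q.commShiftIso n).app L)))

theorem subsingleton_hom_iff_acyc [HasDerivedCategory.{w} A] (E : A) (L : CochainComplex A ℤ)
    [L.IsKInjective] (n : ℤ) :
    Subsingleton (DerivedCategory.Q.obj ((CochainComplex.singleFunctor A 0).obj E) ⟶
      (DerivedCategory.Q.obj L)⟦n⟧) ↔ Acyc E L n := by
  rw [← subsingleton_cohomologyClass_iff]
  exact (homEquivCohomologyClass _ L n).symm.subsingleton_congr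

/-- variant with the single functor of the derived category and an object isomorphic to `Q L`. -/
theorem subsingleton_single_hom_iff_acyc [HasDerivedCategory.{w} A] (E : A)
    (L : CochainComplex A ℤ) [L.IsKInjective] (K : DerivedCategory A)
    (e : K ≅ DerivedCategory.Q.obj L) (n : ℤ) :
    Subsingleton ((DerivedCategory.singleFunctor A 0).obj E ⟶ K⟦n⟧) ↔ Acyc E L n := by
  rw [← subsingleton_hom_iff_acyc E L n]
  exact (Iso.homCongr ((DerivedCategory.singleFunctorIsoCompQ A 0).app E)
    ((CategoryTheory.shiftFunctor (DerivedCategory A) n).mapIso e)).subsingleton_congr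

/-- an acyclic K-injective complex receives only coboundaries. -/
theorem acyc_of_acyclic_of_isKInjective (L : CochainComplex A ℤ) [L.IsKInjective]
    (hL : L.Acyclic) (E : A) (n : ℤ) : Acyc E L n := by
  intro z hz
  have h := IsKInjective.homotopyZero (𝟙 L) hL
  have hc := h.comm n
  rw [dNext_eq h.hom (show (ComplexShape.up ℤ).Rel n (n + 1) from rfl),
    prevD_eq h.hom (show (ComplexShape.up ℤ).Rel (n - 1) n by simp)] at hc
  refine ⟨z ≫ h.hom n (n - 1), ?_⟩
  have : z = z ≫ (𝟙 L : L ⟶ L).f n := by simp
  conv_rhs => rw [this, hc]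
  simp [reassoc_of% hz]

end Basic

section Adj

variable {A : Type u} [Category.{v} A] [Abelian A] {B : Type u'} [Category.{v'} B] [Abelian B]
  {F : A ⥤ B} {G : B ⥤ A} (adj : F ⊣ G) [F.Additive] [G.Additive]

include adj in
theorem acyc_adj_iff (E : A) (L : CochainComplex B ℤ) (n : ℤ) :
    Acyc (F.obj E) L n ↔ Acyc E ((G.mapHomologicalComplex (ComplexShape.up ℤ)).obj L) n := by
  constructor
  · intro h z hz
    change E ⟶ G.obj (L.X n) at z
    change z ≫ G.map (L.d n (n + 1)) = 0 at hz
    obtain ⟨y, hy⟩ := h ((adj.homEquiv _ _).symm z) (by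
      rw [← Adjunction.homEquiv_naturality_right_symm, hz]
      exact (adj.homAddEquiv _ _).symm.map_zero)
    refine ⟨adj.homEquiv _ _ y, ?_⟩
    change adj.homEquiv _ _ y ≫ G.map (L.d (n - 1) n) = z
    rw [← Adjunction.homEquiv_naturality_right, hy, Equiv.apply_symm_apply]
  · intro h z hz
    obtain ⟨y, hy⟩ := h (adj.homEquiv _ _ z) (by
      change adj.homEquiv _ _ z ≫ G.map (L.d n (n + 1)) = 0
      rw [← Adjunction.homEquiv_naturality_right, hz]
      exact (adj.homAddEquiv _ _).map_zero)
    change E ⟶ G.obj (L.X (n - 1)) at y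
    change y ≫ G.map (L.d (n - 1) n) = adj.homEquiv _ _ z at hy
    refine ⟨(adj.homEquiv _ _).symm y, ?_⟩
    rw [← Adjunction.homEquiv_naturality_right_symm, hy, Equiv.symm_apply_apply]

end Adj

section KInj

variable {A : Type u} [Category.{v} A] [Abelian A] {B : Type u'} [Category.{v'} B] [Abelian B]
  {F : A ⥤ B} {G : B ⥤ A} (adj : F ⊣ G) [F.Additive] [G.Additive]

/-- the components of a chain map `K ⟶ G L`, with their expected type. -/
def comp' {K : CochainComplex A ℤ} {L : CochainComplex B ℤ}
    (f : K ⟶ (G.mapHomologicalComplex (ComplexShape.up ℤ)).obj L) (i : ℤ) :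
    K.X i ⟶ G.obj (L.X i) := f.f i

lemma comp'_comm {K : CochainComplex A ℤ} {L : CochainComplex B ℤ}
    (f : K ⟶ (G.mapHomologicalComplex (ComplexShape.up ℤ)).obj L) (i j : ℤ) :
    comp' f i ≫ G.map (L.d i j) = K.d i j ≫ comp' f j := f.comm i j

/-- transpose of a chain map `K ⟶ G L` along a termwise adjunction. -/
noncomputable def transpose {K : CochainComplex A ℤ} {L : CochainComplex B ℤ}
    (f : K ⟶ (G.mapHomologicalComplex (ComplexShape.up ℤ)).obj L) :
    (F.mapHomologicalComplex (ComplexShape.up ℤ)).obj K ⟶ L where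
  f i := (adj.homEquiv _ _).symm (comp' f i)
  comm' i j _ := by
    change (adj.homEquiv _ _).symm (comp' f i) ≫ L.d i j =
      F.map (K.d i j) ≫ (adj.homEquiv _ _).symm (comp' f j)
    rw [← Adjunction.homEquiv_naturality_right_symm, ← Adjunction.homEquiv_naturality_left_symm,
      comp'_comm]

include adj in
/-- a right adjoint of an exact functor preserves K-injective complexes. -/
theorem isKInjective_map_of_adj [PreservesFiniteLimits F] [PreservesFiniteColimits F]
    (L : CochainComplex B ℤ) [L.IsKInjective] :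
    CochainComplex.IsKInjective ((G.mapHomologicalComplex (ComplexShape.up ℤ)).obj L) where
  nonempty_homotopy_zero {K} f hK := by
    have hFK : ((F.mapHomologicalComplex (ComplexShape.up ℤ)).obj K).Acyclic := by
      intro i
      exact (hK i).map F
    have h := IsKInjective.homotopyZero (transpose adj f) hFK
    let hh : ∀ i j : ℤ, F.obj (K.X i) ⟶ L.X j := fun i j => h.hom i j
    have hh0 : ∀ i j : ℤ, ¬ (ComplexShape.up ℤ).Rel j i → hh i j = 0 := fun i j hij => h.zero i j hij
    have hcomm : ∀ i : ℤ, (adj.homEquiv _ _).symm (comp' f i) =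
        F.map (K.d i (i + 1)) ≫ hh (i + 1) i + hh i (i - 1) ≫ L.d (i - 1) i := by
      intro i
      have hc := h.comm i
      rw [dNext_eq h.hom (show (ComplexShape.up ℤ).Rel i (i + 1) from rfl),
        prevD_eq h.hom (show (ComplexShape.up ℤ).Rel (i - 1) i by simp)] at hc
      simp only [HomologicalComplex.zero_f, add_zero] at hc
      exact hc
    let gg : ∀ i j : ℤ, K.X i ⟶ ((G.mapHomologicalComplex (ComplexShape.up ℤ)).obj L).X j :=
      fun i j => adj.homEquiv (K.X i) (L.X j) (hh i j)
    have hc : ∀ i : ℤ, comp' f i = K.d i (i + 1) ≫ adj.homEquiv _ _ (hh (i + 1) i) +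
        adj.homEquiv _ _ (hh i (i - 1)) ≫ G.map (L.d (i - 1) i) := by
      intro i
      have hc'' := congrArg (adj.homAddEquiv _ _) (hcomm i)
      rw [map_add] at hc''
      change adj.homEquiv _ _ ((adj.homEquiv _ _).symm (comp' f i)) =
        adj.homEquiv _ _ (F.map (K.d i (i + 1)) ≫ hh (i + 1) i) +
          adj.homEquiv _ _ (hh i (i - 1) ≫ L.d (i - 1) i) at hc''
      rwa [Equiv.apply_symm_apply, Adjunction.homEquiv_naturality_left,
        Adjunction.homEquiv_naturality_right] at hc''
    refine ⟨{ hom := gg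
              zero := fun i j hij => by
                change adj.homEquiv (K.X i) (L.X j) (hh i j) = 0
                rw [hh0 i j hij]
                exact (adj.homAddEquiv _ _).map_zero
              comm := fun i => ?_ }⟩
    rw [dNext_eq gg (show (ComplexShape.up ℤ).Rel i (i + 1) from rfl),
      prevD_eq gg (show (ComplexShape.up ℤ).Rel (i - 1) i by simp)]
    simp only [HomologicalComplex.zero_f, add_zero]
    exact hc i

end KInj

end Groth.Agent.R2.H61.DC1
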