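import Groth.Agent.Lib.Helper17KInjD5
import Groth.Agent.Lib.Helper17KInj12
import Groth.Agent.R2.H61DC1
import Groth.Prelude.Def_DRing3
import Groth.Prelude.Def_DualLC

/-!
# helper61: basics on `RΓ_I` over a ring (the derived functor of `I`-power torsion)

* `unitI`, `rgammaIIso`: `RΓ_I` is computed termwise on K-injective complexes.
* `cocycleToD`, `rho`: morphisms `M[0] ⟶ L⟦q⟧` in the derived category from cocycles `M ⟶ L^q`
  (bijective up to coboundaries for `L` K-injective).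
* `nonempty_linearEquiv_colimit`: an abstract recognition lemma for `ℕ`-indexed colimits of modules.
* `nonempty_HD_RgammaI_equiv_HDI`: `H^q(RΓ_I K) ≃ colim_n Hom_{D(A)}(A/I^n, K[q])`.
-/

set_option autoImplicit false
universe w v u
open CategoryTheory CategoryTheory.Limits Opposite

namespace Groth.Agent.R2.H61.RG

section F1

open Groth.Agent.Lib.Helper17.KInj
attribute [local instance] HasDerivedCategory.standard

variable {A : Type u} [CommRing A] (I : Ideal A)


/-- the unit of `RΓ_I` at the level of complexes -/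
noncomputable def unitI [DRing.HasRgammaI I] :
    (DRing.gammaI I).mapHomologicalComplex (ComplexShape.up ℤ) ⋙ DerivedCategory.Q ⟶
      DerivedCategory.Q ⋙ DRing.RgammaI I :=
  unitOfK (DRing.gammaI I) (DRing.RgammaI I)
    ((DRing.gammaIKh I).totalRightDerivedUnit DerivedCategory.Qh
      (HomotopyCategory.quasiIso (ModuleCat.{u} A) (ComplexShape.up ℤ)))

instance isRightDerivedFunctor_unitI [DRing.HasRgammaI I] :
    (DRing.RgammaI I).IsRightDerivedFunctor (unitI I)
      (HomologicalComplex.quasiIso (ModuleCat.{u} A) (ComplexShape.up ℤ)) :=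
  isRightDerivedFunctor_unitOfK _ _ _

/-- `RΓ_I` on a K-injective complex is computed termwise -/
noncomputable def rgammaIIso [DRing.HasRgammaI I] (J : CochainComplex (ModuleCat.{u} A) ℤ)
    [J.IsKInjective] :
    DerivedCategory.Q.obj
        (((DRing.gammaI I).mapHomologicalComplex (ComplexShape.up ℤ)).obj J) ≅
      (DRing.RgammaI I).obj (DerivedCategory.Q.obj J) :=
  haveI := isIso_app_of_isKInjective (DRing.gammaI I) (DRing.RgammaI I) (unitI I) J
  asIso ((unitI I).app J)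


end F1

section Generic
open CochainComplex HomComplex

variable {C : Type u} [Category.{v} C] [Abelian C] [HasDerivedCategory.{w} C]

/-- the morphism in the derived category attached to a cocycle -/
noncomputable def cocycleToD {K L : CochainComplex C ℤ} {n : ℤ} (z : Cocycle K L n) :
    DerivedCategory.Q.obj K ⟶ (DerivedCategory.Q.obj L)⟦n⟧ :=
  DerivedCategory.Q.map (Cocycle.equivHomShift.symm z) ≫
    (DerivedCategory.Q.commShiftIso n).hom.app L

lemma cocycleToD_add {K L : CochainComplex C ℤ} {n : ℤ} (z z' : Cocycle K L n) :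
    cocycleToD (z + z') = cocycleToD z + cocycleToD z' := by
  simp only [cocycleToD, map_add, Functor.map_add, Preadditive.add_comp]

lemma cocycleToD_zero {K L : CochainComplex C ℤ} {n : ℤ} :
    cocycleToD (0 : Cocycle K L n) = 0 := by
  simp only [cocycleToD, map_zero, Functor.map_zero, zero_comp]

lemma cocycleToD_precomp {K K' L : CochainComplex C ℤ} {n : ℤ} (z : Cocycle K L n) (f : K' ⟶ K) :
    cocycleToD (z.precomp f) = DerivedCategory.Q.map f ≫ cocycleToD z := by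
  simp only [cocycleToD, Cocycle.equivHomShift_symm_precomp, Functor.map_comp, Category.assoc]

lemma cocycleToD_eq {K L : CochainComplex C ℤ} [L.IsKInjective] {n : ℤ} (z : Cocycle K L n) :
    cocycleToD z = DC1.homEquivCohomologyClass K L n (CohomologyClass.mk z) := by
  simp [cocycleToD, DC1.homEquivCohomologyClass, Iso.homCongr, CohomologyClass.toHom_mk]

lemma cocycleToD_surjective {K L : CochainComplex C ℤ} [L.IsKInjective] {n : ℤ}
    (φ : DerivedCategory.Q.obj K ⟶ (DerivedCategory.Q.obj L)⟦n⟧) :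
    ∃ z : Cocycle K L n, cocycleToD z = φ := by
  obtain ⟨x, rfl⟩ := (DC1.homEquivCohomologyClass K L n).surjective φ
  obtain ⟨z, rfl⟩ := x.mk_surjective
  exact ⟨z, cocycleToD_eq z⟩

lemma cocycleToD_eq_zero_iff {K L : CochainComplex C ℤ} [L.IsKInjective] {n : ℤ}
    (z : Cocycle K L n) : cocycleToD z = 0 ↔ z ∈ coboundaries K L n := by
  rw [← CohomologyClass.mk_eq_zero_iff]
  constructor
  · intro h
    apply (DC1.homEquivCohomologyClass K L n).injective
    rw [← cocycleToD_eq, h, ← CohomologyClass.mk_zero, ← cocycleToD_eq, cocycleToD_zero]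
  · intro h
    rw [cocycleToD_eq, h, ← CohomologyClass.mk_zero, ← cocycleToD_eq, cocycleToD_zero]

/-- the morphism `M[0] ⟶ L⟦q⟧` in the derived category attached to a cocycle `M ⟶ L^q`. -/
noncomputable def rho {M : C} {L : CochainComplex C ℤ} {q : ℤ} (g : M ⟶ L.X q)
    (hg : g ≫ L.d q (q + 1) = 0) :
    (DerivedCategory.singleFunctor C 0).obj M ⟶ (DerivedCategory.Q.obj L)⟦q⟧ :=
  (DerivedCategory.singleFunctorIsoCompQ C 0).hom.app M ≫
    cocycleToD (Cocycle.fromSingleMk g (zero_add q) (q + 1) rfl hg)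

lemma rho_add {M : C} {L : CochainComplex C ℤ} {q : ℤ} (g g' : M ⟶ L.X q)
    (hg : g ≫ L.d q (q + 1) = 0) (hg' : g' ≫ L.d q (q + 1) = 0) :
    rho (g + g') (by rw [Preadditive.add_comp, hg, hg', add_zero]) = rho g hg + rho g' hg' := by
  simp only [rho]
  rw [Cocycle.fromSingleMk_add g g' (zero_add q) (q + 1) rfl hg hg', cocycleToD_add,
    Preadditive.comp_add]

lemma rho_precomp {M M' : C} {L : CochainComplex C ℤ} {q : ℤ} (h : M' ⟶ M) (g : M ⟶ L.X q)
    (hg : g ≫ L.d q (q + 1) = 0) :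
    rho (h ≫ g) (by rw [Category.assoc, hg, comp_zero]) =
      (DerivedCategory.singleFunctor C 0).map h ≫ rho g hg := by
  simp only [rho]
  rw [Cocycle.fromSingleMk_precomp h g (zero_add q) (q + 1) rfl hg, cocycleToD_precomp]
  have := (DerivedCategory.singleFunctorIsoCompQ C 0).hom.naturality h
  simp only [Functor.comp_map] at this
  rw [← Category.assoc, ← this, Category.assoc]

lemma rho_surjective {M : C} {L : CochainComplex C ℤ} [L.IsKInjective] {q : ℤ}
    (φ : (DerivedCategory.singleFunctor C 0).obj M ⟶ (DerivedCategory.Q.obj L)⟦q⟧) :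
    ∃ (g : M ⟶ L.X q) (hg : g ≫ L.d q (q + 1) = 0), rho g hg = φ := by
  obtain ⟨z, hz⟩ := cocycleToD_surjective
    ((DerivedCategory.singleFunctorIsoCompQ C 0).inv.app M ≫ φ)
  obtain ⟨g, hg, rfl⟩ := Cocycle.fromSingleMk_surjective z q (zero_add q) (q + 1) rfl
  refine ⟨g, hg, ?_⟩
  simp only [rho]
  rw [hz, ← Category.assoc, Iso.hom_inv_id_app, Category.id_comp]

lemma rho_eq_zero_iff {M : C} {L : CochainComplex C ℤ} [L.IsKInjective] {q : ℤ} (g : M ⟶ L.X q)
    (hg : g ≫ L.d q (q + 1) = 0) :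
    rho g hg = 0 ↔ ∃ y : M ⟶ L.X (q - 1), y ≫ L.d (q - 1) q = g := by
  rw [← Cocycle.fromSingleMk_mem_coboundaries_iff g (zero_add q) (q + 1) rfl hg (q - 1) (by omega),
    ← cocycleToD_eq_zero_iff]
  simp only [rho]
  constructor
  · intro h
    have := congrArg (fun t => (DerivedCategory.singleFunctorIsoCompQ C 0).inv.app M ≫ t) h
    simpa using this
  · intro h
    rw [h, comp_zero]

end Generic


section Mod

attribute [local instance] HasDerivedCategory.standard

variable {A : Type u} [CommRing A]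

/-- the map `A/𝔞 → X` determined by an element killed by `𝔞` -/
noncomputable def gz (𝔞 : Ideal A) {X : ModuleCat.{u} A} (z : X) (hz : ∀ a ∈ 𝔞, a • z = 0) :
    ModuleCat.of A (A ⧸ 𝔞) ⟶ X :=
  ModuleCat.ofHom (Submodule.liftQ 𝔞 (LinearMap.toSpanSingleton A X z) (fun a ha => by
    rw [LinearMap.mem_ker, LinearMap.toSpanSingleton_apply]; exact hz a ha))

lemma gz_apply_mk (𝔞 : Ideal A) {X : ModuleCat.{u} A} (z : X) (hz : ∀ a ∈ 𝔞, a • z = 0) (a : A) :
    (gz 𝔞 z hz).hom (Submodule.Quotient.mk a) = a • z := by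
  simp only [gz, ModuleCat.hom_ofHom]
  erw [Submodule.liftQ_apply]
  rw [LinearMap.toSpanSingleton_apply]

lemma gz_ext (𝔞 : Ideal A) {X : ModuleCat.{u} A} (g g' : ModuleCat.of A (A ⧸ 𝔞) ⟶ X)
    (h : g.hom (Submodule.Quotient.mk (1 : A)) = g'.hom (Submodule.Quotient.mk (1 : A))) :
    g = g' := by
  apply ModuleCat.hom_ext
  apply Submodule.linearMap_qext
  apply LinearMap.ext_ring
  exact h

lemma gz_congr (𝔞 : Ideal A) {X : ModuleCat.{u} A} {z z' : X} (h : z = z')
    (hz : ∀ a ∈ 𝔞, a • z = 0) : gz 𝔞 z hz = gz 𝔞 z' (by subst h; exact hz) := by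
  subst h; rfl

lemma smul_apply_mk_one_eq_zero (𝔞 : Ideal A) {X : ModuleCat.{u} A}
    (g : ModuleCat.of A (A ⧸ 𝔞) ⟶ X) (a : A) (ha : a ∈ 𝔞) :
    a • g.hom (Submodule.Quotient.mk (1 : A)) = 0 := by
  rw [← map_smul, ← Submodule.Quotient.mk_smul, smul_eq_mul, mul_one,
    (Submodule.Quotient.mk_eq_zero 𝔞).2 ha, map_zero]

lemma eq_gz (𝔞 : Ideal A) {X : ModuleCat.{u} A} (g : ModuleCat.of A (A ⧸ 𝔞) ⟶ X) :
    g = gz 𝔞 (g.hom (Submodule.Quotient.mk (1 : A))) (smul_apply_mk_one_eq_zero 𝔞 g) := by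
  apply gz_ext
  rw [gz_apply_mk, one_smul]

lemma gz_comp (𝔞 : Ideal A) {X Y : ModuleCat.{u} A} (z : X) (hz : ∀ a ∈ 𝔞, a • z = 0)
    (f : X ⟶ Y) :
    gz 𝔞 z hz ≫ f = gz 𝔞 (f.hom z) (fun a ha => by rw [← map_smul, hz a ha, map_zero]) := by
  apply gz_ext
  rw [ModuleCat.hom_comp, LinearMap.comp_apply, gz_apply_mk, gz_apply_mk, one_smul, one_smul]

lemma gz_zero (𝔞 : Ideal A) {X : ModuleCat.{u} A} :
    gz 𝔞 (0 : X) (fun a _ => smul_zero a) = 0 := by
  apply gz_ext
  rw [gz_apply_mk, smul_zero]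
  rfl

lemma gz_add (𝔞 : Ideal A) {X : ModuleCat.{u} A} (z z' : X) (hz : ∀ a ∈ 𝔞, a • z = 0)
    (hz' : ∀ a ∈ 𝔞, a • z' = 0) :
    gz 𝔞 (z + z') (fun a ha => by rw [smul_add, hz a ha, hz' a ha, add_zero]) =
      gz 𝔞 z hz + gz 𝔞 z' hz' := by
  apply gz_ext
  rw [ModuleCat.hom_add, LinearMap.add_apply, gz_apply_mk, gz_apply_mk, gz_apply_mk]
  simp

lemma gz_smul (𝔞 : Ideal A) {X : ModuleCat.{u} A} (c : A) (z : X) (hz : ∀ a ∈ 𝔞, a • z = 0) :
    gz 𝔞 (c • z) (fun a ha => by rw [smul_comm, hz a ha, smul_zero]) =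
      (c • 𝟙 (ModuleCat.of A (A ⧸ 𝔞))) ≫ gz 𝔞 z hz := by
  apply gz_ext
  rw [gz_apply_mk, ModuleCat.hom_comp, LinearMap.comp_apply, ModuleCat.hom_smul,
    LinearMap.smul_apply, ModuleCat.hom_id, LinearMap.id_apply, map_smul, gz_apply_mk, one_smul,
    one_smul]

lemma gz_mapQ {𝔞 𝔟 : Ideal A} (h : 𝔟 ≤ 𝔞) {X : ModuleCat.{u} A} (z : X)
    (hz : ∀ a ∈ 𝔞, a • z = 0) :
    (ModuleCat.ofHom (Submodule.mapQ 𝔟 𝔞 LinearMap.id (by rw [Submodule.comap_id]; exact h)) :
        ModuleCat.of A (A ⧸ 𝔟) ⟶ ModuleCat.of A (A ⧸ 𝔞)) ≫ gz 𝔞 z hz =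
      gz 𝔟 z (fun a ha => hz a (h ha)) := by
  apply gz_ext
  change (gz 𝔞 z hz).hom (Submodule.Quotient.mk (1 : A)) = _
  rw [gz_apply_mk, gz_apply_mk]

end Mod


section RhoN

attribute [local instance] HasDerivedCategory.standard

variable {A : Type u} [CommRing A] (I : Ideal A) (J : CochainComplex (ModuleCat.{u} A) ℤ) (q : ℤ)

lemma rho_congr {C : Type u} [Category.{v} C] [Abelian C] [HasDerivedCategory.{w} C]
    {M : C} {L : CochainComplex C ℤ} {q : ℤ} {g g' : M ⟶ L.X q} (h : g = g')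
    (hg : g ≫ L.d q (q + 1) = 0) : rho g hg = rho g' (by subst h; exact hg) := by
  subst h; rfl

/-- degree `q` cocycles of `J` killed by `I^n` -/
def Zn (n : ℕ) : Submodule A (J.X q) where
  carrier := {z | (J.d q (q + 1)).hom z = 0 ∧ ∀ a ∈ I ^ n, a • z = 0}
  zero_mem' := ⟨map_zero _, fun a _ => smul_zero a⟩
  add_mem' := by
    rintro z z' ⟨h1, h2⟩ ⟨h1', h2'⟩
    exact ⟨by rw [map_add, h1, h1', add_zero],
      fun a ha => by rw [smul_add, h2 a ha, h2' a ha, add_zero]⟩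
  smul_mem' := by
    rintro c z ⟨h1, h2⟩
    exact ⟨by rw [map_smul, h1, smul_zero], fun a ha => by rw [smul_comm, h2 a ha, smul_zero]⟩

lemma mem_Zn {n : ℕ} {z : J.X q} :
    z ∈ Zn I J q n ↔ (J.d q (q + 1)).hom z = 0 ∧ ∀ a ∈ I ^ n, a • z = 0 := Iff.rfl

lemma Zn_d {n : ℕ} (z : Zn I J q n) : (J.d q (q + 1)).hom z.1 = 0 := ((mem_Zn I J q).1 z.2).1

lemma Zn_smul {n : ℕ} (z : Zn I J q n) : ∀ a ∈ I ^ n, a • z.1 = 0 := ((mem_Zn I J q).1 z.2).2

lemma Zn_mono {n m : ℕ} (h : n ≤ m) : Zn I J q n ≤ Zn I J q m :=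
  fun _ hz => (mem_Zn I J q).2 ⟨((mem_Zn I J q).1 hz).1,
    fun a ha => ((mem_Zn I J q).1 hz).2 a (Ideal.pow_le_pow_right h ha)⟩

lemma gz_comp_d (n : ℕ) (z : Zn I J q n) :
    gz (I ^ n) z.1 (Zn_smul I J q z) ≫ J.d q (q + 1) = 0 := by
  rw [gz_comp, gz_congr _ (Zn_d I J q z)]
  exact gz_zero _

/-- the type of maps `A/I^n → J[q]` in `D(A)` -/
abbrev Dn (n : ℕ) : Type (u + 1) :=
  (DerivedCategory.singleFunctor (ModuleCat.{u} A) 0).obj (ModuleCat.of A (A ⧸ I ^ n)) ⟶
    (DerivedCategory.Q.obj J)⟦q⟧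

/-- cocycles killed by `I^n` give maps `A/I^n → J[q]` in `D(A)` -/
noncomputable def rhoN (n : ℕ) : Zn I J q n →ₗ[A] Dn I J q n where
  toFun z := rho (gz (I ^ n) z.1 (Zn_smul I J q z)) (gz_comp_d I J q n z)
  map_add' z z' := by
    rw [← rho_add]
    exact rho_congr (gz_add _ _ _ _ _) _
  map_smul' c z := by
    rw [RingHom.id_apply]
    have h1 := rho_congr (gz_smul (I ^ n) c z.1 (Zn_smul I J q z)) (gz_comp_d I J q n (c • z))
    have h2 := rho_precomp (c • 𝟙 (ModuleCat.of A (A ⧸ I ^ n))) (gz (I ^ n) z.1 (Zn_smul I J q z))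
      (gz_comp_d I J q n z)
    refine h1.trans (h2.trans ?_)
    rw [Functor.map_smul, CategoryTheory.Functor.map_id, Linear.smul_comp, Category.id_comp]

lemma rhoN_apply (n : ℕ) (z : Zn I J q n) :
    rhoN I J q n z = rho (gz (I ^ n) z.1 (Zn_smul I J q z)) (gz_comp_d I J q n z) := rfl

lemma rhoN_surjective [J.IsKInjective] (n : ℕ) (φ : Dn I J q n) : ∃ z, rhoN I J q n z = φ := by
  obtain ⟨g, hg, rfl⟩ := rho_surjective φ
  have hz : g.hom (Submodule.Quotient.mk (1 : A)) ∈ Zn I J q n := by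
    refine (mem_Zn I J q).2 ⟨?_, smul_apply_mk_one_eq_zero _ g⟩
    have := congrArg (fun t => t.hom (Submodule.Quotient.mk (1 : A))) hg
    simpa using this
  refine ⟨⟨_, hz⟩, ?_⟩
  rw [rhoN_apply]
  exact (rho_congr (eq_gz (I ^ n) g) hg).symm

lemma rhoN_eq_zero_iff [J.IsKInjective] (n : ℕ) (z : Zn I J q n) :
    rhoN I J q n z = 0 ↔
      ∃ y : J.X (q - 1), (∀ a ∈ I ^ n, a • y = 0) ∧ (J.d (q - 1) q).hom y = z.1 := by
  rw [rhoN_apply, rho_eq_zero_iff]
  constructor
  · rintro ⟨y', hy'⟩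
    refine ⟨y'.hom (Submodule.Quotient.mk (1 : A)), smul_apply_mk_one_eq_zero _ y', ?_⟩
    have := congrArg (fun t => t.hom (Submodule.Quotient.mk (1 : A))) hy'
    simp only [ModuleCat.hom_comp, LinearMap.comp_apply] at this
    rw [this, gz_apply_mk, one_smul]
  · rintro ⟨y, hy, hyz⟩
    refine ⟨gz (I ^ n) y hy, ?_⟩
    rw [gz_comp]
    exact gz_congr _ hyz _

lemma rhoN_compat {n m : ℕ} (h : n ≤ m) (z : Zn I J q n) :
    (DerivedCategory.singleFunctor (ModuleCat.{u} A) 0).map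
        (ModuleCat.ofHom (Submodule.mapQ (I ^ m) (I ^ n) LinearMap.id
          (by rw [Submodule.comap_id]; exact Ideal.pow_le_pow_right h)) :
          ModuleCat.of A (A ⧸ I ^ m) ⟶ ModuleCat.of A (A ⧸ I ^ n)) ≫ rhoN I J q n z =
      rhoN I J q m ⟨z.1, Zn_mono I J q h z.2⟩ := by
  rw [rhoN_apply, rhoN_apply, ← rho_precomp]
  exact rho_congr (gz_mapQ (Ideal.pow_le_pow_right h) _ _) _

end RhoN


section Colim

variable {A : Type u} [CommRing A]

theorem preservesColimit_forget_nat (F : ℕᵒᵖᵒᵖ ⥤ ModuleCat.{u + 1} A) :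
    PreservesColimit F (forget (ModuleCat.{u + 1} A)) := by
  have : PreservesFilteredColimitsOfSize.{0, 0} (forget AddCommGrpCat.{u + 1}) :=
    preservesFilteredColimitsOfSize_shrink.{0, u + 1, 0, u + 1} _
  have : forget (ModuleCat.{u + 1} A) =
      forget₂ (ModuleCat.{u + 1} A) AddCommGrpCat.{u + 1} ⋙ forget AddCommGrpCat.{u + 1} := rfl
  rw [this]
  infer_instance

theorem nonempty_linearEquiv_colimit (F : ℕᵒᵖᵒᵖ ⥤ ModuleCat.{u + 1} A)
    {X : Type u} [AddCommGroup X] [Module A X] (Z : ℕ → Submodule A X) (hZ : Monotone Z)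
    {T : Type u} [AddCommGroup T] [Module A T]
    (ρ : ∀ n, Z n →ₗ[A] F.obj (op (op n)))
    (hρsurj : ∀ n, Function.Surjective (ρ n))
    (hρcompat : ∀ (n m : ℕ) (h : n ≤ m) (z : Z n),
      (F.map (homOfLE h).op.op).hom (ρ n z) = ρ m ⟨z.1, hZ h z.2⟩)
    (τ : ∀ n, Z n →ₗ[A] T)
    (hτcompat : ∀ (n m : ℕ) (h : n ≤ m) (z : Z n), τ m ⟨z.1, hZ h z.2⟩ = τ n z)
    (hτsurj : ∀ t, ∃ n z, τ n z = t)
    (h1 : ∀ n z, ρ n z = 0 → τ n z = 0)
    (h2 : ∀ n z, τ n z = 0 → ∃ m, ∃ h : n ≤ m, ρ m ⟨z.1, hZ h z.2⟩ = 0) :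
    Nonempty (T ≃ₗ[A] (colimit F : ModuleCat.{u + 1} A)) := by
  classical
  -- the maps `c n : F n → T`
  let c : ∀ n, F.obj (op (op n)) →ₗ[A] T := fun n =>
    ((LinearMap.ker (ρ n)).liftQ (τ n) (fun z hz => h1 n z hz)).comp
      (LinearMap.quotKerEquivOfSurjective (ρ n) (hρsurj n)).symm.toLinearMap
  have hc : ∀ n z, c n (ρ n z) = τ n z := by
    intro n z
    have : (LinearMap.quotKerEquivOfSurjective (ρ n) (hρsurj n)).symm (ρ n z) =
        Submodule.Quotient.mk z := by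
      rw [LinearEquiv.symm_apply_eq]
      rfl
    simp only [c, LinearMap.comp_apply, LinearEquiv.coe_coe, this]
    exact Submodule.liftQ_apply _ _ _
  have hhom : ∀ {j j' : ℕᵒᵖᵒᵖ} (f : j ⟶ j'),
      f = (homOfLE (leOfHom f.unop.unop)).op.op := fun f => rfl
  let cc : Cocone F :=
    { pt := ModuleCat.of A (ULift.{u + 1} T)
      ι :=
        { app := fun j => ModuleCat.ofHom
            (ULift.moduleEquiv.symm.toLinearMap.comp (c j.unop.unop))
          naturality := by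
            intro j j' f
            apply ModuleCat.hom_ext
            apply LinearMap.ext
            intro y
            obtain ⟨z, rfl⟩ := hρsurj j.unop.unop y
            have hf := hρcompat j.unop.unop j'.unop.unop (leOfHom f.unop.unop) z
            rw [← hhom f] at hf
            simp only [Functor.const_obj_obj, Functor.const_obj_map, Category.comp_id,
              ModuleCat.hom_comp, ModuleCat.hom_ofHom, LinearMap.comp_apply, LinearEquiv.coe_coe]
            erw [hf, hc, hc]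
            rw [hτcompat _ _ (leOfHom f.unop.unop) z] } }
  let Φ : colimit F ⟶ cc.pt := colimit.desc F cc
  have hΦ : ∀ (n : ℕ) (z : Z n),
      Φ.hom ((colimit.ι F (op (op n))).hom (ρ n z)) = ULift.up (τ n z) := by
    intro n z
    have := congrArg (fun t => t.hom (ρ n z)) (colimit.ι_desc cc (op (op n)))
    simp only [ModuleCat.hom_comp, LinearMap.comp_apply] at this
    refine this.trans ?_
    simp only [cc, ModuleCat.hom_ofHom, LinearMap.comp_apply, LinearEquiv.coe_coe]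
    erw [hc]
    rfl
  have hbij : Function.Bijective Φ.hom := by
    constructor
    · rw [← LinearMap.ker_eq_bot, LinearMap.ker_eq_bot']
      intro x hx
      have := preservesColimit_forget_nat F
      obtain ⟨j, y, rfl⟩ := Concrete.colimit_exists_rep F x
      obtain ⟨z, rfl⟩ := hρsurj j.unop.unop y
      have hx' := (hΦ j.unop.unop z).symm.trans hx
      have hτ0 : τ j.unop.unop z = 0 := congrArg ULift.down hx'
      obtain ⟨m, h, hm⟩ := h2 _ z hτ0
      have hw := congrArg (fun t => t.hom (ρ j.unop.unop z))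
        (colimit.w F ((homOfLE h).op.op : j ⟶ op (op m)))
      simp only [ModuleCat.hom_comp, LinearMap.comp_apply] at hw
      erw [hρcompat _ _ h z, hm, map_zero] at hw
      exact hw.symm
    · intro t
      obtain ⟨n, z, hz⟩ := hτsurj t.down
      exact ⟨_, (hΦ n z).trans (by rw [hz])⟩
  exact ⟨((LinearEquiv.ofBijective Φ.hom hbij).trans ULift.moduleEquiv).symm⟩

end Colim


section Tau

variable {A : Type u} [CommRing A] (I : Ideal A) (J : CochainComplex (ModuleCat.{u} A) ℤ) (q : ℤ)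

/-- `Γ_I` applied termwise -/
noncomputable abbrev GJ : CochainComplex (ModuleCat.{u} A) ℤ :=
  ((DRing.gammaI I).mapHomologicalComplex (ComplexShape.up ℤ)).obj J

/-- the short complex computing `H^q(Γ_I J)` -/
noncomputable abbrev SJ : ShortComplex (ModuleCat.{u} A) := (GJ I J).sc' (q - 1) q (q + 1)

lemma mem_torsionSub {M : Type u} [AddCommGroup M] [Module A M] {x : M} :
    x ∈ DRing.torsionSub I M ↔ ∃ n : ℕ, ∀ a ∈ I ^ n, a • x = 0 := Iff.rfl

/-- elements of `Γ_I J` -/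
def mkG (i : ℤ) (x : J.X i) (hx : x ∈ DRing.torsionSub I (J.X i)) : (GJ I J).X i :=
  (⟨x, hx⟩ : DRing.torsionSub I (J.X i))

/-- underlying element -/
def valG (i : ℤ) (x : (GJ I J).X i) : J.X i := (x : DRing.torsionSub I (J.X i)).1

lemma valG_mem (i : ℤ) (x : (GJ I J).X i) : valG I J i x ∈ DRing.torsionSub I (J.X i) :=
  (x : DRing.torsionSub I (J.X i)).2

lemma valG_mkG (i : ℤ) (x : J.X i) (hx : x ∈ DRing.torsionSub I (J.X i)) :
    valG I J i (mkG I J i x hx) = x := rfl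

lemma mkG_valG (i : ℤ) (x : (GJ I J).X i) : mkG I J i (valG I J i x) (valG_mem I J i x) = x := rfl

lemma valG_injective (i : ℤ) : Function.Injective (valG I J i) := fun _ _ h => Subtype.ext h

lemma valG_d (i j : ℤ) (x : (GJ I J).X i) :
    valG I J j (((GJ I J).d i j).hom x) = (J.d i j).hom (valG I J i x) := rfl

lemma valG_zero (i : ℤ) : valG I J i 0 = 0 := rfl

/-- the concrete homology module -/
abbrev TJ : Type u := (SJ I J q).moduleCatLeftHomologyData.H


lemma mem_ker_g_iff (x : (SJ I J q).X₂) :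
    x ∈ LinearMap.ker (SJ I J q).g.hom ↔ (J.d q (q + 1)).hom (valG I J q x) = 0 := by
  constructor
  · intro h
    have h' := LinearMap.mem_ker.1 h
    exact congrArg (valG I J (q + 1)) h'
  · intro h
    refine LinearMap.mem_ker.2 ?_
    apply valG_injective I J (q + 1)
    exact h

/-- an element of `Z_n` as a cycle of `Γ_I J` -/
def toCyc (n : ℕ) : Zn I J q n →ₗ[A] LinearMap.ker (SJ I J q).g.hom where
  toFun z := ⟨mkG I J q z.1 ⟨n, ((mem_Zn I J q).1 z.2).2⟩,
    (mem_ker_g_iff I J q _).2 ((mem_Zn I J q).1 z.2).1⟩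
  map_add' _ _ := rfl
  map_smul' _ _ := rfl

lemma valG_toCyc (n : ℕ) (z : Zn I J q n) : valG I J q (toCyc I J q n z).1 = z.1 := rfl

/-- the class in `H^q(Γ_I J)` of a cocycle killed by `I^n` -/
noncomputable def tauN (n : ℕ) : Zn I J q n →ₗ[A] TJ I J q :=
  (LinearMap.range (SJ I J q).moduleCatToCycles).mkQ.comp (toCyc I J q n)

lemma tauN_compat {n m : ℕ} (z : Zn I J q n) (hz : z.1 ∈ Zn I J q m) :
    tauN I J q m ⟨z.1, hz⟩ = tauN I J q n z := rfl

lemma tauN_surj (t : TJ I J q) : ∃ n z, tauN I J q n z = t := by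
  obtain ⟨⟨x, hx⟩, rfl⟩ := Submodule.Quotient.mk_surjective _ t
  obtain ⟨n, hn⟩ := (mem_torsionSub I).1 (valG_mem I J q x)
  exact ⟨n, ⟨valG I J q x, (mem_Zn I J q).2 ⟨(mem_ker_g_iff I J q x).1 hx, hn⟩⟩, rfl⟩

lemma tauN_eq_zero_iff (n : ℕ) (z : Zn I J q n) :
    tauN I J q n z = 0 ↔
      ∃ y : J.X (q - 1), (∃ m : ℕ, ∀ a ∈ I ^ m, a • y = 0) ∧ (J.d (q - 1) q).hom y = z.1 := by
  have h0 : tauN I J q n z = 0 ↔
      toCyc I J q n z ∈ LinearMap.range (SJ I J q).moduleCatToCycles :=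
    Submodule.Quotient.mk_eq_zero _
  rw [h0, LinearMap.mem_range]
  constructor
  · rintro ⟨y, h⟩
    refine ⟨valG I J (q - 1) y, valG_mem I J (q - 1) y, ?_⟩
    have := congrArg (fun t => valG I J q t.1) h
    exact this
  · rintro ⟨y, hy, h⟩
    refine ⟨mkG I J (q - 1) y hy, ?_⟩
    apply Subtype.ext
    apply valG_injective I J q
    exact h

end Tau


section Main

open Groth.Agent.Lib.Helper17.KInj
attribute [local instance] HasDerivedCategory.standard

variable {A : Type u} [CommRing A] (I : Ideal A)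

/-- every object of `D(A)` is represented by a K-injective complex. -/
theorem exists_model (K : Dual.D A) :
    ∃ (J : CochainComplex (ModuleCat.{u} A) ℤ) (_ : J.IsKInjective),
      Nonempty (K ≅ (DerivedCategory.Q : _ ⥤ Dual.D A).obj J) := by
  obtain ⟨J, φ, hJ, hφ, -, -⟩ :=
    Groth.Agent.Lib.Helper17.KInj.exists_kInjective_resolution.{u} (ModuleCat.{u} A)
      ((DerivedCategory.Q : _ ⥤ Dual.D A).objPreimage K)
  exact ⟨J, hJ, ⟨(DerivedCategory.Q.objObjPreimageIso K).symm ≪≫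
    asIso (DerivedCategory.Q.map φ)⟩⟩

/-- the functor whose colimit is `HDI` -/
noncomputable abbrev FHDI (K : Dual.D A) (q : ℤ) : ℕᵒᵖᵒᵖ ⥤ ModuleCat.{u + 1} A :=
  (localCohomology.ringModIdeals (localCohomology.idealPowersDiagram I) ⋙
      DerivedCategory.singleFunctor (ModuleCat.{u} A) 0).op ⋙
    (linearYoneda A (Dual.D A)).obj (K⟦q⟧)

theorem nonempty_TJ_equiv_HDI (J : CochainComplex (ModuleCat.{u} A) ℤ) [J.IsKInjective] (q : ℤ) :
    Nonempty (TJ I J q ≃ₗ[A] Dual2.HDI A I (DerivedCategory.Q.obj J) q) := by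
  refine nonempty_linearEquiv_colimit (FHDI I (DerivedCategory.Q.obj J) q) (Zn I J q)
    (fun _ _ h => Zn_mono I J q h) (fun n => rhoN I J q n) ?_ ?_ (fun n => tauN I J q n) ?_ ?_
    ?_ ?_
  · intro n φ
    exact rhoN_surjective I J q n φ
  · intro n m h z
    exact rhoN_compat I J q h z
  · intro n m h z
    rfl
  · intro t
    exact tauN_surj I J q t
  · intro n z hz
    obtain ⟨y, hy, hyz⟩ := (rhoN_eq_zero_iff I J q n z).1 hz
    exact (tauN_eq_zero_iff I J q n z).2 ⟨y, ⟨n, hy⟩, hyz⟩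
  · intro n z hz
    obtain ⟨y, ⟨k, hk⟩, hyz⟩ := (tauN_eq_zero_iff I J q n z).1 hz
    refine ⟨max n k, le_max_left n k, ?_⟩
    exact (rhoN_eq_zero_iff I J q (max n k) _).2
      ⟨y, fun a ha => hk a (Ideal.pow_le_pow_right (le_max_right n k) ha), hyz⟩

/-- `H^q(RΓ_I J)` for `J` K-injective is the concrete homology of `Γ_I J`. -/
noncomputable def hdIso [DRing.HasRgammaI I] (J : CochainComplex (ModuleCat.{u} A) ℤ)
    [J.IsKInjective] (q : ℤ) :
    (DerivedCategory.homologyFunctor (ModuleCat.{u} A) q).obj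
        ((DRing.RgammaI I).obj (DerivedCategory.Q.obj J)) ≅
      (SJ I J q).moduleCatLeftHomologyData.H :=
  (DerivedCategory.homologyFunctor _ q).mapIso (rgammaIIso I J).symm ≪≫
    (DerivedCategory.homologyFunctorFactors _ q).app (GJ I J) ≪≫
    (GJ I J).homologyIsoSc' (q - 1) q (q + 1) (by simp) (by simp) ≪≫
    (SJ I J q).moduleCatHomologyIso

theorem nonempty_HD_RgammaI_equiv_HDI [DRing.HasRgammaI I] (K : Dual.D A) (q : ℤ) :
    Nonempty (Dual.HD A ((DRing.RgammaI I).obj K) q ≃ₗ[A] Dual2.HDI A I K q) := by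
  obtain ⟨J, hJ, ⟨e⟩⟩ := exists_model K
  obtain ⟨e1⟩ := nonempty_TJ_equiv_HDI I J q
  let e0 : Dual.HD A ((DRing.RgammaI I).obj K) q ≃ₗ[A] TJ I J q :=
    ((DerivedCategory.homologyFunctor (ModuleCat.{u} A) q).mapIso ((DRing.RgammaI I).mapIso e) ≪≫
      hdIso I J q).toLinearEquiv
  let e2 : Dual2.HDI A I K q ≅ Dual2.HDI A I (DerivedCategory.Q.obj J) q :=
    HasColimit.isoOfNatIso (Functor.isoWhiskerLeft _
      ((linearYoneda A (Dual.D A)).mapIso ((shiftFunctor (Dual.D A) q).mapIso e)))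
  exact ⟨(e0.trans e1).trans e2.toLinearEquiv.symm⟩

end Main

end Groth.Agent.R2.H61.RG
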