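import Mathlib
import Groth.Agent.R2.H31RGam1
import Groth.Agent.R2.H31CechRHom
import Groth.Agent.R2.H61RG1
import Groth.Agent.R2.H31Dev
import Groth.Agent.R2.H31KosFac
import Groth.Agent.R2.H31Nak

/-!
# `Γ_I E ⟶ E` in `D(A)` for complexes of injectives: the cone is built from local objects
(helper31)

* `hom_eq_zero_of_tors_of_isLoc`: no maps from an object with `f`-power torsion cohomology to an
  object on which `f` acts invertibly.
* `LocGen I`: the objects of `D(A)` built by finitely many extensions from objects on which some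
  `f ∈ I` acts invertibly. `Good I φ`: the cone of `φ` is in `LocGen I`.
* `good_Q_Gι`: for a complex `E` of injective modules over a Noetherian ring and
  `I = (fs)`, `Q(Γ_I E) ⟶ Q E` is `Good I`.
-/

set_option autoImplicit false
universe u
open CategoryTheory Limits HomologicalComplex CochainComplex Pretriangulated
attribute [local instance] HasDerivedCategory.standard

namespace Groth.Agent.R2.H31.RGam

open DerCA DerivedCategory Groth.Agent.Lib.Helper1.ExtCech Groth.Agent.Lib.Helper1.ExtCech4 Groth.Agent.R2.H31.Tri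
  Groth.Agent.R2.H31.Dev Groth.Agent.R2.H31.CechRHom

variable {A : Type u} [CommRing A]

section Hom

/-- a localisation of an `f`-power torsion module at `f` is zero -/
lemma subsingleton_of_isLocalizedModule_of_tors (f : A) {N N' : Type*} [AddCommGroup N]
    [AddCommGroup N'] [Module A N] [Module A N'] (l : N →ₗ[A] N')
    [IsLocalizedModule (Submonoid.powers f) l] (h : ∀ x : N, ∃ k : ℕ, f ^ k • x = 0) :
    Subsingleton N' := by
  refine ⟨fun z z' => ?_⟩
  have hz : ∀ w : N', w = 0 := by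
    intro w
    obtain ⟨⟨m, s⟩, hs⟩ := IsLocalizedModule.surj (Submonoid.powers f) l w
    obtain ⟨k, hk⟩ := h m
    have hm : l m = 0 :=
      (IsLocalizedModule.eq_zero_iff (Submonoid.powers f) l).2 ⟨⟨f ^ k, ⟨k, rfl⟩⟩, hk⟩
    rw [hm] at hs
    apply IsLocalizedModule.smul_injective l s
    simpa using hs
  rw [hz z, hz z']

/-- a localisation at `f` of a module on which `f` acts bijectively is an isomorphism -/
lemma bijective_of_isLocalizedModule_of_bij (f : A) {N N' : Type*} [AddCommGroup N]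
    [AddCommGroup N'] [Module A N] [Module A N'] (l : N →ₗ[A] N')
    [IsLocalizedModule (Submonoid.powers f) l] (h : Function.Bijective (fun x : N => f • x)) :
    Function.Bijective l := by
  have hpow : ∀ k : ℕ, Function.Bijective (fun x : N => f ^ k • x) := by
    intro k
    induction k with
    | zero =>
      have : (fun x : N => f ^ 0 • x) = id := by
        funext x
        simp
      rw [this]
      exact Function.bijective_id
    | succ k ih =>
      have : (fun x : N => f ^ (k + 1) • x) = (fun x : N => f ^ k • x) ∘ (fun x : N => f • x) := by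
        funext x
        simp [pow_succ, mul_smul]
      rw [this]
      exact ih.comp h
  constructor
  · rw [← LinearMap.ker_eq_bot, LinearMap.ker_eq_bot']
    intro x hx
    obtain ⟨⟨c, ⟨k, rfl⟩⟩, hc⟩ := (IsLocalizedModule.eq_zero_iff (Submonoid.powers f) l).1 hx
    have hc' : f ^ k • x = f ^ k • (0 : N) := by rw [smul_zero]; exact hc
    exact (hpow k).1 hc'
  · intro z
    obtain ⟨⟨m, ⟨s, ⟨k, rfl⟩⟩⟩, hs⟩ := IsLocalizedModule.surj (Submonoid.powers f) l z
    have hs' : f ^ k • z = l m := hs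
    obtain ⟨m', hm'⟩ := (hpow k).2 m
    have hm'' : f ^ k • m' = m := hm'
    refine ⟨m', ?_⟩
    apply IsLocalizedModule.smul_injective l (⟨f ^ k, ⟨k, rfl⟩⟩ : Submonoid.powers f)
    show f ^ k • l m' = f ^ k • z
    rw [hs', ← hm'', map_smul]

/-- `f` acts bijectively on the cohomology of a complex which is `f`-local in `D(A)` -/
lemma bijective_smul_homology_of_isLoc (f : A) (J : DRing.Cx A) (h : IsLoc f (Q.obj J)) (i : ℤ) :
    Function.Bijective (fun x : (J.homology i : ModuleCat.{u} A) => f • x) := by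
  have h1 : IsIso (Q.map (f • 𝟙 J)) := by
    rw [Functor.map_smul, CategoryTheory.Functor.map_id]
    exact h
  have h2 : QuasiIso (f • 𝟙 J) := (isIso_Q_map_iff_quasiIso _ _).1 h1
  have h3 : IsIso (HomologicalComplex.homologyMap (f • 𝟙 J) i) := by
    rw [← quasiIsoAt_iff_isIso_homologyMap]
    infer_instance
  rw [Groth.Agent.R2.H31.KosFac.homologyMap_smul', HomologicalComplex.homologyMap_id] at h3
  have h4 := (ConcreteCategory.isIso_iff_bijective _).1 h3
  exact h4

/-- there are no nonzero maps from an object with `f`-power torsion cohomology to an `f`-local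
object -/
theorem hom_eq_zero_of_tors_of_isLoc (f : A) {L Y : Dual.D A}
    (hL : ∀ (i : ℤ) (x : Dual.HD A L i), ∃ k : ℕ, f ^ k • x = 0) (hY : IsLoc f Y) (φ : L ⟶ Y) :
    φ = 0 := by
  obtain ⟨J, hJ, ⟨e⟩⟩ := Groth.Agent.R2.H61.RG.exists_model Y
  let L₀ : DRing.Cx A := Q.objPreimage L
  let eL : Q.obj L₀ ≅ L := Q.objObjPreimageIso L
  obtain ⟨g, hg⟩ := Groth.Agent.Lib.Helper17.KInj.exists_Q_map_eq (eL.hom ≫ φ ≫ e.hom)
  have nat := locCxUnit_naturality (Submonoid.powers f) g
  -- the localisation of `L₀` is acyclic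
  have hz : IsZero (Q.obj ((locCx (Submonoid.powers f)).obj L₀)) := by
    apply Groth.Agent.R2.H31.Nak.isZero_Q_of_exact
    intro i
    rw [HomologicalComplex.exactAt_iff_isZero_homology]
    have hloc := isLocalizedModule_homologyMap (Submonoid.powers f) L₀ i
    have ht : ∀ x : (L₀.homology i : ModuleCat.{u} A), ∃ k : ℕ, f ^ k • x = 0 := by
      intro x
      let ε : Dual.HD A L i ≃ₗ[A] (L₀.homology i : ModuleCat.{u} A) :=
        ((DerivedCategory.homologyFunctor (ModuleCat.{u} A) i).mapIso eL.symm ≪≫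
          hIso L₀ i).toLinearEquiv
      obtain ⟨k, hk⟩ := hL i (ε.symm x)
      refine ⟨k, ?_⟩
      have := congrArg ε hk
      rwa [map_smul, ε.apply_symm_apply, map_zero] at this
    have := subsingleton_of_isLocalizedModule_of_tors f
      (HomologicalComplex.homologyMap (locCxUnit (Submonoid.powers f) L₀) i).hom ht
    exact ModuleCat.isZero_of_subsingleton _
  -- `J ⟶ J_f` is a quasi-isomorphism
  have hq : QuasiIso (locCxUnit (Submonoid.powers f) J) := by
    rw [quasiIso_iff]
    intro i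
    rw [quasiIsoAt_iff_isIso_homologyMap, ConcreteCategory.isIso_iff_bijective]
    have hloc := isLocalizedModule_homologyMap (Submonoid.powers f) J i
    exact bijective_of_isLocalizedModule_of_bij f
      (HomologicalComplex.homologyMap (locCxUnit (Submonoid.powers f) J) i).hom
      (bijective_smul_homology_of_isLoc f J (hY.of_iso f e) i)
  have hqi : IsIso (Q.map (locCxUnit (Submonoid.powers f) J)) := inferInstance
  have h1 : Q.map g ≫ Q.map (locCxUnit (Submonoid.powers f) J) = 0 := by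
    rw [← Functor.map_comp, ← nat, Functor.map_comp]
    rw [hz.eq_of_tgt (Q.map (locCxUnit (Submonoid.powers f) L₀)) 0, zero_comp]
  have h2 : Q.map g = 0 := by
    rw [← cancel_mono (Q.map (locCxUnit (Submonoid.powers f) J)), h1, zero_comp]
  rw [hg] at h2
  have h3 : φ ≫ e.hom = 0 := by
    rw [← cancel_epi eL.hom, h2, comp_zero]
  rw [← cancel_mono e.hom, h3, zero_comp]

end Hom

section LocGen

/-- the objects built by finitely many extensions from objects on which some `f ∈ I` acts
invertibly -/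
inductive LocGen (I : Ideal A) : Dual.D A → Prop
  | base (Y : Dual.D A) (f : A) (hf : f ∈ I) (h : IsLoc f Y) : LocGen I Y
  | ext (T : Triangle (Dual.D A)) (hT : T ∈ distTriang (Dual.D A)) (h₁ : LocGen I T.obj₁)
      (h₃ : LocGen I T.obj₃) : LocGen I T.obj₂

lemma LocGen.of_isZero (I : Ideal A) {Y : Dual.D A} (h : IsZero Y) : LocGen I Y := by
  refine LocGen.base Y 0 I.zero_mem ?_
  exact ⟨0, h.eq_of_src _ _, h.eq_of_src _ _⟩

lemma LocGen.mono {I I' : Ideal A} (hI : I ≤ I') {Y : Dual.D A} (h : LocGen I Y) :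
    LocGen I' Y := by
  induction h with
  | base Y f hf h => exact LocGen.base Y f (hI hf) h
  | ext T hT _ _ ih₁ ih₃ => exact LocGen.ext T hT ih₁ ih₃

lemma LocGen.hom_eq_zero_of_tors {I : Ideal A} {C : Dual.D A} (hC : LocGen I C) {L : Dual.D A}
    (hL : ∀ i : ℤ, LocCoh.IsPowerTorsion I (Dual.HD A L i)) (φ : L ⟶ C) : φ = 0 := by
  induction hC with
  | base Y f hf h =>
    refine hom_eq_zero_of_tors_of_isLoc f (fun i x => ?_) h φ
    obtain ⟨n, hn⟩ := hL i x
    exact ⟨n, hn _ (Ideal.pow_mem_pow hf n)⟩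
  | ext T hT _ _ ih₁ ih₃ =>
    have h0 : φ ≫ T.mor₂ = 0 := ih₃ _
    obtain ⟨ψ, hψ⟩ := Triangle.coyoneda_exact₂ T hT φ h0
    rw [hψ, ih₁ ψ, zero_comp]

lemma LocGen.hom_eq_zero_of_cpl {I : Ideal A} {C : Dual.D A} (hC : LocGen I C) {E : Dual.D A}
    (hE : ∀ f ∈ I, IsCpl f E) (φ : C ⟶ E) : φ = 0 := by
  induction hC with
  | base Y f hf h => exact hE f hf Y h φ
  | ext T hT _ _ ih₁ ih₃ =>
    have h0 : T.mor₁ ≫ φ = 0 := ih₁ _
    obtain ⟨ψ, hψ⟩ := Triangle.yoneda_exact₂ T hT φ h0
    rw [hψ, ih₃ ψ, comp_zero]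

/-- the cone of `φ` is in `LocGen I` -/
def Good (I : Ideal A) {X Y : Dual.D A} (φ : X ⟶ Y) : Prop :=
  ∃ (C : Dual.D A) (a : Y ⟶ C) (b : C ⟶ X⟦(1 : ℤ)⟧),
    Triangle.mk φ a b ∈ distTriang (Dual.D A) ∧ LocGen I C

lemma Good.mono {I I' : Ideal A} (hI : I ≤ I') {X Y : Dual.D A} {φ : X ⟶ Y} (h : Good I φ) :
    Good I' φ := by
  obtain ⟨C, a, b, hT, hC⟩ := h
  exact ⟨C, a, b, hT, hC.mono hI⟩

lemma Good.of_isIso (I : Ideal A) {X Y : Dual.D A} (φ : X ⟶ Y) [IsIso φ] : Good I φ := by
  obtain ⟨C, a, b, hT⟩ := distinguished_cocone_triangle φ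
  refine ⟨C, a, b, hT, LocGen.of_isZero I ?_⟩
  exact (Triangle.isZero₃_iff_isIso₁ _ hT).2 (inferInstanceAs (IsIso φ))

lemma Good.comp {I : Ideal A} {X Y Z : Dual.D A} {u : X ⟶ Y} {v : Y ⟶ Z} (hu : Good I u)
    (hv : Good I v) : Good I (u ≫ v) := by
  obtain ⟨C₁, a₁, b₁, hT₁, hC₁⟩ := hu
  obtain ⟨C₂, a₂, b₂, hT₂, hC₂⟩ := hv
  obtain ⟨C, a, b, hT⟩ := distinguished_cocone_triangle (u ≫ v)
  let oct := Triangulated.someOctahedron rfl hT₁ hT₂ hT
  exact ⟨C, a, b, hT, LocGen.ext _ oct.mem hC₁ hC₂⟩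

end LocGen

section Main

/-- `Γ_I E = E` when `I = ⊥` -/
lemma isIso_Gι_of_eq_bot (I : Ideal A) (hI : I = ⊥) (E : DRing.Cx A) : IsIso (Gι I E) := by
  have : ∀ i, IsIso ((Gι I E).f i) := fun i => by
    rw [ConcreteCategory.isIso_iff_bijective]
    refine ⟨Subtype.val_injective, fun x => ⟨⟨x, 1, fun a ha => ?_⟩, rfl⟩⟩
    rw [pow_one, hI, Ideal.mem_bot] at ha
    rw [ha, zero_smul]
  exact HomologicalComplex.Hom.isIso_of_components _

/-- one step: `Γ_f E ⟶ E` has `f`-local cone for a complex of injectives -/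
lemma good_Q_Gι_singleton [IsNoetherianRing A] (f : A) (E : DRing.Cx A)
    (hE : ∀ n, Module.Injective A (E.X n)) :
    Good (Ideal.span {f}) (Q.map (Gι (Ideal.span {f}) E)) := by
  have hS := gammaShort_shortExact f E hE
  exact ⟨_, _, _, triangleOfSES_distinguished hS,
    LocGen.base _ f (Ideal.mem_span_singleton_self f) (isLoc_Q_locCx f E)⟩

/-- for a complex `E` of injective modules over a Noetherian ring, the cone of `Γ_I E ⟶ E` is
built from objects on which elements of `I` act invertibly -/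
theorem good_Q_Gι [IsNoetherianRing A] (fs : List A) :
    ∀ (E : DRing.Cx A), (∀ n, Module.Injective A (E.X n)) →
      Good (Ideal.span {x : A | x ∈ fs}) (Q.map (Gι (Ideal.span {x : A | x ∈ fs}) E)) := by
  induction fs with
  | nil =>
    intro E _
    have h0 : Ideal.span {x : A | x ∈ ([] : List A)} = ⊥ := by simp
    have := isIso_Gι_of_eq_bot _ h0 E
    exact Good.of_isIso _ _
  | cons f fs ih =>
    intro E hE
    rw [span_cons]
    set J := Ideal.span {x : A | x ∈ fs} with hJ
    have h1 : Good (Ideal.span {f} ⊔ J) (Q.map (Gι J E)) := (ih E hE).mono le_sup_right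
    have h2 : Good (Ideal.span {f} ⊔ J) (Q.map (Gι (Ideal.span {f}) ((G J).obj E))) :=
      (good_Q_Gι_singleton f _ (injective_G J E hE)).mono le_sup_left
    have h3 : Good (Ideal.span {f} ⊔ J) (Q.map (GGIso f J E).inv) := Good.of_isIso _ _
    have e : Q.map (Gι (Ideal.span {f} ⊔ J) E) =
        Q.map (GGIso f J E).inv ≫ Q.map (Gι (Ideal.span {f}) ((G J).obj E)) ≫
          Q.map (Gι J E) := by
      rw [← Functor.map_comp, ← Functor.map_comp, ← GGIso_hom_Gι, Iso.inv_hom_id_assoc]
    rw [e]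
    exact h3.comp (h2.comp h1)

end Main

end Groth.Agent.R2.H31.RGam
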