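import Mathlib
import Groth.Agent.R2.H31RGam2

/-!
# `RΓ_I` over a Noetherian ring is the coreflection onto objects with `I`-power torsion cohomology
(helper31)

* `unitI_app_comp_ε`: on complexes, `Q(Γ_I J) ⟶ RΓ_I(Q J) ⟶ Q J` is `Q` of the inclusion.
* `Tors I`: the objects of `D(A)` with `I`-power torsion cohomology.
* `good_ε`: the cone of `RΓ_I K ⟶ K` is built from objects on which elements of `I` act invertibly.
* `tors_RgammaI`: `RΓ_I K` has `I`-power torsion cohomology.
* `bijective_comp_ε`: `Hom(L, RΓ_I K) ≃ Hom(L, K)` for `L` with `I`-power torsion cohomology.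
* `isIso_ε_of_tors`, `IsCouniv.exists_iso`.
-/

set_option autoImplicit false
universe u
open CategoryTheory Limits HomologicalComplex CochainComplex Pretriangulated
attribute [local instance] HasDerivedCategory.standard

namespace Groth.Agent.R2.H31.RGam

open DerCA DerivedCategory Groth.Agent.R2.H31.Tri Groth.Agent.R2.H31.Dev Groth.Agent.R2.H61.RG
  Groth.Agent.Lib.Helper17.KInj

variable {A : Type u} [CommRing A]

section Compat

variable (I : Ideal A)

lemma Gι_eq (J : DRing.Cx A) :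
    (NatTrans.mapHomologicalComplex (DRing.gammaIι I) (ComplexShape.up ℤ)).app J ≫
      (Functor.mapHomologicalComplexIdIso (ModuleCat.{u} A) (ComplexShape.up ℤ)).hom.app J =
      Gι I J := by
  ext i x
  rfl

/-- on complexes, `Q(Γ_I J) ⟶ RΓ_I(Q J) ⟶ Q J` is `Q` of the inclusion -/
lemma unitI_app_comp_ε [DRing.HasRgammaI I] (J : DRing.Cx A) :
    (unitI I).app J ≫ (DRing.RgammaIε I).app (Q.obj J) = Q.map (Gι I J) := by
  have fac := Functor.rightDerived_fac (DRing.RgammaI I)
    ((DRing.gammaIKh I).totalRightDerivedUnit DerivedCategory.Qh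
      (HomotopyCategory.quasiIso (ModuleCat.{u} A) (ComplexShape.up ℤ)))
    (HomotopyCategory.quasiIso (ModuleCat.{u} A) (ComplexShape.up ℤ)) (𝟭 (Dual.D A))
    (DRing.gammaIτ I ≫ (Functor.rightUnitor _).inv)
  have fac' := congrArg (fun t => t.app ((HomotopyCategory.quotient _ _).obj J)) fac
  dsimp at fac'
  rw [Category.comp_id] at fac'
  have nat := (DRing.RgammaIε I).naturality
    ((DerivedCategory.quotientCompQhIso (ModuleCat.{u} A)).hom.app J)
  dsimp at nat
  have h1 : (DRing.gammaIτ I).app ((HomotopyCategory.quotient _ _).obj J) =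
      (DRing.gammaIτ0 I).app J := by
    unfold DRing.gammaIτ
    rfl
  rw [← Gι_eq]
  dsimp [unitI, unitOfK, γOfK, isoF₀]
  simp only [Category.id_comp, Category.comp_id, Category.assoc]
  rw [nat]
  have fac'' : ((DRing.gammaIKh I).totalRightDerivedUnit Qh
      (HomotopyCategory.quasiIso (ModuleCat A) (ComplexShape.up ℤ))).app
        ((HomotopyCategory.quotient (ModuleCat A) (ComplexShape.up ℤ)).obj J) ≫
      (DRing.RgammaIε I).app
        (Qh.obj ((HomotopyCategory.quotient (ModuleCat A) (ComplexShape.up ℤ)).obj J)) =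
      (DRing.gammaIτ0 I).app J := fac'.trans h1
  rw [reassoc_of% fac'']
  dsimp [DRing.gammaIτ0]
  simp only [Category.id_comp, Category.comp_id, Category.assoc]
  have n0 : (Qh (C := ModuleCat.{u} A)).map
        (((DRing.gammaI I).mapHomotopyCategoryFactors (ComplexShape.up ℤ)).inv.app J) ≫
      Qh.map (((DRing.gammaI I).mapHomotopyCategoryFactors (ComplexShape.up ℤ)).hom.app J) =
        𝟙 _ := by
    rw [← Functor.map_comp, Iso.inv_hom_id_app]
    exact CategoryTheory.Functor.map_id _ _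
  rw [reassoc_of% n0]
  have n1 := (quotientCompQhIso (ModuleCat.{u} A)).hom.naturality
    ((Functor.mapHomologicalComplexIdIso (ModuleCat A) (ComplexShape.up ℤ)).hom.app J)
  have n2 := (quotientCompQhIso (ModuleCat.{u} A)).hom.naturality
    ((NatTrans.mapHomologicalComplex (DRing.gammaIι I) (ComplexShape.up ℤ)).app J)
  dsimp at n1 n2
  rw [n1, reassoc_of% n2, Iso.inv_hom_id_app_assoc, Functor.map_comp]

end Compat

section Tors

/-- the objects of `D(A)` with `I`-power torsion cohomology -/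
def Tors (I : Ideal A) : ObjectProperty (Dual.D A) :=
  fun L => ∀ i : ℤ, LocCoh.IsPowerTorsion I (Dual.HD A L i)

lemma isPowerTorsion_of_linearEquiv (I : Ideal A) {M N : Type*} [AddCommGroup M] [AddCommGroup N]
    [Module A M] [Module A N] (e : M ≃ₗ[A] N) (h : LocCoh.IsPowerTorsion I M) :
    LocCoh.IsPowerTorsion I N := by
  intro x
  obtain ⟨n, hn⟩ := h (e.symm x)
  refine ⟨n, fun a ha => ?_⟩
  have := congrArg e (hn a ha)
  rwa [map_smul, e.apply_symm_apply, map_zero] at this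

lemma Tors.of_iso {I : Ideal A} {L L' : Dual.D A} (h : Tors I L) (e : L ≅ L') : Tors I L' :=
  fun i => isPowerTorsion_of_linearEquiv I
    ((DerivedCategory.homologyFunctor (ModuleCat.{u} A) i).mapIso e).toLinearEquiv (h i)

lemma Tors.mono {I I' : Ideal A} (hI : I ≤ I') {L : Dual.D A} (h : Tors I' L) : Tors I L := by
  intro i x
  obtain ⟨n, hn⟩ := h i x
  exact ⟨n, fun a ha => hn a (Ideal.pow_right_mono hI n ha)⟩

lemma Tors.sup {I J : Ideal A} {L : Dual.D A} (h : Tors I L) (h' : Tors J L) :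
    Tors (I ⊔ J) L := by
  intro i x
  obtain ⟨n, hn⟩ := h i x
  obtain ⟨m, hm⟩ := h' i x
  refine ⟨n + m, fun a ha => ?_⟩
  have h1 := Ideal.sup_pow_add_le_pow_sup_pow (I := I) (J := J) (n := n) (m := m) ha
  obtain ⟨a₁, ha₁, a₂, ha₂, rfl⟩ := Submodule.mem_sup.1 h1
  rw [add_smul, hn a₁ ha₁, hm a₂ ha₂, add_zero]

/-- the homology of a complex with `I`-power torsion terms is `I`-power torsion -/
lemma isPowerTorsion_homology (I : Ideal A) (X : DRing.Cx A) (i : ℤ)
    (h : LocCoh.IsPowerTorsion I (X.X i)) :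
    LocCoh.IsPowerTorsion I (X.homology i : ModuleCat.{u} A) := by
  intro x
  have hepi : Epi (X.homologyπ i) := inferInstance
  obtain ⟨z, rfl⟩ := (ModuleCat.epi_iff_surjective (X.homologyπ i)).1 hepi x
  obtain ⟨n, hn⟩ := h ((X.iCycles i).hom z)
  refine ⟨n, fun a ha => ?_⟩
  have h1 : (X.iCycles i).hom (a • z) = 0 := by
    rw [map_smul]
    exact hn a ha
  have hmono : Mono (X.iCycles i) := inferInstance
  have h2 : a • z = 0 :=
    (ModuleCat.mono_iff_injective (X.iCycles i)).1 hmono (by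
      rw [h1, map_zero])
  rw [← map_smul, h2, map_zero]

lemma tors_Q_of_terms (I : Ideal A) (X : DRing.Cx A)
    (h : ∀ i, LocCoh.IsPowerTorsion I (X.X i)) : Tors I (Q.obj X) :=
  fun i => isPowerTorsion_of_linearEquiv I (hIso X i).toLinearEquiv.symm
    (isPowerTorsion_homology I X i (h i))

lemma isPowerTorsion_torsionSub (I : Ideal A) (M : Type u) [AddCommGroup M] [Module A M] :
    LocCoh.IsPowerTorsion I (DRing.torsionSub I M) := by
  rintro ⟨m, n, hn⟩
  exact ⟨n, fun a ha => Subtype.ext (hn a ha)⟩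

lemma tors_Q_G (I : Ideal A) (E : DRing.Cx A) : Tors I (Q.obj ((G I).obj E)) :=
  tors_Q_of_terms I _ (fun i => isPowerTorsion_torsionSub I (E.X i))

end Tors

section Couniv

/-- `φ : X ⟶ Y` is couniversal from objects with property `P` -/
def IsCouniv {C : Type*} [Category C] (P : C → Prop) {X Y : C} (φ : X ⟶ Y) : Prop :=
  ∀ L : C, P L → Function.Bijective (fun ψ : L ⟶ X => ψ ≫ φ)

lemma IsCouniv.exists_iso {C : Type*} [Category C] {P : C → Prop} {X₁ X₂ Y : C} {φ₁ : X₁ ⟶ Y}
    {φ₂ : X₂ ⟶ Y} (h₁ : IsCouniv P φ₁) (h₂ : IsCouniv P φ₂) (p₁ : P X₁) (p₂ : P X₂) :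
    ∃ e : X₁ ≅ X₂, e.hom ≫ φ₂ = φ₁ := by
  obtain ⟨α, hα⟩ := (h₂ X₁ p₁).2 φ₁
  obtain ⟨β, hβ⟩ := (h₁ X₂ p₂).2 φ₂
  dsimp at hα hβ
  refine ⟨⟨α, β, ?_, ?_⟩, hα⟩
  · apply (h₁ X₁ p₁).1
    dsimp
    rw [Category.assoc, hβ, hα, Category.id_comp]
  · apply (h₂ X₂ p₂).1
    dsimp
    rw [Category.assoc, hα, hβ, Category.id_comp]

lemma IsCouniv.isIso {C : Type*} [Category C] {P : C → Prop} {X Y : C} {φ : X ⟶ Y}
    (h : IsCouniv P φ) (pX : P X) (pY : P Y) : IsIso φ := by
  obtain ⟨s, hs⟩ := (h Y pY).2 (𝟙 Y)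
  dsimp at hs
  refine ⟨s, ?_, hs⟩
  apply (h X pX).1
  dsimp
  rw [Category.assoc, hs, Category.comp_id, Category.id_comp]

end Couniv

section Shift

lemma LocGen.shift {I : Ideal A} {C : Dual.D A} (hC : LocGen I C) (n : ℤ) : LocGen I (C⟦n⟧) := by
  induction hC with
  | base Y f hf h => exact LocGen.base _ f hf (h.shift f n)
  | ext T hT _ _ ih₁ ih₃ =>
    exact LocGen.ext _ (Triangle.shift_distinguished T hT n) ih₁ ih₃

/-- a morphism whose cone is built from local objects is couniversal from torsion objects -/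
theorem Good.isCouniv {I : Ideal A} {X Y : Dual.D A} {φ : X ⟶ Y} (h : Good I φ) :
    IsCouniv (Tors I) φ := by
  obtain ⟨C, a, b, hT, hC⟩ := h
  intro L hL
  constructor
  · intro ψ ψ' hψ
    dsimp at hψ
    rw [← sub_eq_zero]
    have h0 : (ψ - ψ') ≫ φ = 0 := by rw [Preadditive.sub_comp, hψ, sub_self]
    obtain ⟨χ, hχ⟩ := Triangle.coyoneda_exact₂ _ (inv_rot_of_distTriang _ hT) (ψ - ψ') h0
    have : χ = 0 := (hC.shift (-1)).hom_eq_zero_of_tors hL χ
    rw [hχ, this]
    exact zero_comp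
  · intro g
    have h0 : g ≫ a = 0 := hC.hom_eq_zero_of_tors hL _
    obtain ⟨ψ, hψ⟩ := Triangle.coyoneda_exact₂ _ hT g h0
    exact ⟨ψ, hψ.symm⟩

end Shift

end Groth.Agent.R2.H31.RGam
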