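import Mathlib
import Groth.Agent.R2.H31RGam3

/-!
# `RΓ_I` over a Noetherian ring: main consequences (helper31)

* `exists_inj_model`: every object of `D(A)` is `Q E` for a K-injective complex `E` of injective
  modules.
* `good_ε`: the cone of `RΓ_I K ⟶ K` is built from objects on which elements of `I` act invertibly.
* `tors_RgammaI`: `RΓ_I K` has `I`-power torsion cohomology.
* `isCouniv_ε`: `Hom(L, RΓ_I K) ≃ Hom(L, K)` for `L` with `I`-power torsion cohomology.
* `isIso_ε_of_tors`.
-/

set_option autoImplicit false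
universe u
open CategoryTheory Limits HomologicalComplex CochainComplex Pretriangulated
attribute [local instance] HasDerivedCategory.standard

namespace Groth.Agent.R2.H31.RGam

open DerCA DerivedCategory Groth.Agent.R2.H31.Tri Groth.Agent.R2.H31.Dev Groth.Agent.R2.H61.RG
  Groth.Agent.Lib.Helper17.KInj Groth.Agent.Lib.Helper1.ExtCech

variable {A : Type u} [CommRing A]

/-- every object of `D(A)` is represented by a K-injective complex of injective modules -/
theorem exists_inj_model (K : Dual.D A) :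
    ∃ (E : DRing.Cx A), E.IsKInjective ∧ (∀ n, Module.Injective A (E.X n)) ∧
      Nonempty (K ≅ Q.obj E) := by
  obtain ⟨J, φ, hJ, hφ, -, hinj⟩ :=
    Groth.Agent.Lib.Helper17.KInj.exists_kInjective_resolution.{u} (ModuleCat.{u} A)
      ((DerivedCategory.Q : _ ⥤ Dual.D A).objPreimage K)
  refine ⟨J, hJ, fun n => ?_, ⟨(DerivedCategory.Q.objObjPreimageIso K).symm ≪≫
    asIso (DerivedCategory.Q.map φ)⟩⟩
  have := hinj n
  exact Module.injective_module_of_injective_object A (J.X n)

lemma exists_list_span_eq [IsNoetherianRing A] (I : Ideal A) :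
    ∃ fs : List A, Ideal.span {x : A | x ∈ fs} = I := by
  obtain ⟨s, hs⟩ := (isNoetherianRing_iff_ideal_fg A).1 inferInstance I
  refine ⟨s.toList, ?_⟩
  rw [← hs]
  congr 1
  ext x
  simp

variable [IsNoetherianRing A] (I : Ideal A) [DRing.HasRgammaI I]

/-- `RΓ_I(Q E) ⟶ Q E` for a K-injective complex of injectives -/
lemma good_ε_Q (E : DRing.Cx A) [E.IsKInjective] (hE : ∀ n, Module.Injective A (E.X n)) :
    Good I ((DRing.RgammaIε I).app (Q.obj E)) := by
  obtain ⟨fs, hfs⟩ := exists_list_span_eq I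
  have h1 : Good I (Q.map (Gι I E)) := by
    have := good_Q_Gι fs E hE
    rwa [hfs] at this
  have h2 : (DRing.RgammaIε I).app (Q.obj E) = (rgammaIIso I E).inv ≫ Q.map (Gι I E) := by
    rw [Iso.eq_inv_comp]
    exact unitI_app_comp_ε I E
  rw [h2]
  exact (Good.of_isIso I _).comp h1

/-- the cone of `RΓ_I K ⟶ K` is built from objects on which elements of `I` act invertibly -/
theorem good_ε (K : Dual.D A) : Good I ((DRing.RgammaIε I).app K) := by
  obtain ⟨E, hE, hinj, ⟨e⟩⟩ := exists_inj_model K
  have nat := (DRing.RgammaIε I).naturality e.hom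
  dsimp at nat
  have h2 : (DRing.RgammaIε I).app K =
      (DRing.RgammaI I).map e.hom ≫ (DRing.RgammaIε I).app (Q.obj E) ≫ e.inv := by
    rw [reassoc_of% nat, e.hom_inv_id, Category.comp_id]
  rw [h2]
  exact (Good.of_isIso I _).comp ((good_ε_Q I E hinj).comp (Good.of_isIso I _))

/-- `RΓ_I K` has `I`-power torsion cohomology -/
theorem tors_RgammaI (K : Dual.D A) : Tors I ((DRing.RgammaI I).obj K) := by
  obtain ⟨E, hE, hinj, ⟨e⟩⟩ := exists_inj_model K
  exact (tors_Q_G I E).of_iso (rgammaIIso I E ≪≫ (DRing.RgammaI I).mapIso e.symm)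

/-- `Hom(L, RΓ_I K) ≃ Hom(L, K)` for `L` with `I`-power torsion cohomology -/
theorem isCouniv_ε (K : Dual.D A) : IsCouniv (Tors I) ((DRing.RgammaIε I).app K) :=
  (good_ε I K).isCouniv

/-- `RΓ_I K ⟶ K` is an isomorphism if `K` has `I`-power torsion cohomology -/
theorem isIso_ε_of_tors (K : Dual.D A) (hK : Tors I K) : IsIso ((DRing.RgammaIε I).app K) :=
  (isCouniv_ε I K).isIso (tors_RgammaI I K) hK

end Groth.Agent.R2.H31.RGam
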