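import Mathlib
import Groth.Agent.R2.H31RGam4

/-!
# `RΓ_I` is right adjoint to the inclusion of objects with torsion cohomology (helper31)
-/

set_option autoImplicit false
universe u
open CategoryTheory Limits HomologicalComplex CochainComplex Pretriangulated
attribute [local instance] HasDerivedCategory.standard

namespace Groth.Agent.R2.H31.RGam

open DerCA DerivedCategory

variable {A : Type u} [CommRing A] [IsNoetherianRing A] (I : Ideal A) [DRing.HasRgammaI I]

/-- the bijection `Hom(L, RΓ_I K) ≃ Hom(L, K)` for `L` with torsion cohomology -/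
noncomputable def homEquivε (L : (Tors I).FullSubcategory) (K : Dual.D A) :
    (L ⟶ ((Tors I).lift (DRing.RgammaI I) (tors_RgammaI I)).obj K) ≃ ((Tors I).ι.obj L ⟶ K) :=
  (Equiv.ofBijective (fun ψ : L.obj ⟶ (DRing.RgammaI I).obj K => ψ ≫ (DRing.RgammaIε I).app K)
    (isCouniv_ε I K L.obj L.property)).symm.trans
    ⟨fun ψ => ObjectProperty.homMk ψ, fun ψ => ψ.hom, fun _ => rfl, fun _ => rfl⟩ |>.symm

lemma homEquivε_apply (L : (Tors I).FullSubcategory) (K : Dual.D A)
    (ψ : L ⟶ ((Tors I).lift (DRing.RgammaI I) (tors_RgammaI I)).obj K) :
    homEquivε I L K ψ = ψ.hom ≫ (DRing.RgammaIε I).app K := rfl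

/-- `RΓ_I` is right adjoint to the inclusion of the objects with torsion cohomology -/
noncomputable def adjTors :
    (Tors I).ι ⊣ (Tors I).lift (DRing.RgammaI I) (tors_RgammaI I) :=
  Adjunction.mkOfHomEquiv
    { homEquiv := fun L K => (homEquivε I L K).symm
      homEquiv_naturality_left_symm := by
        intro L' L K f g
        show homEquivε I L' K (f ≫ g) = (Tors I).ι.map f ≫ homEquivε I L K g
        rw [homEquivε_apply, homEquivε_apply]
        simp
      homEquiv_naturality_right := by
        intro L K K' f g
        apply (homEquivε I L K').injective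
        rw [Equiv.apply_symm_apply, homEquivε_apply]
        have nat := (DRing.RgammaIε I).naturality g
        dsimp at nat ⊢
        rw [Category.assoc, nat, ← Category.assoc]
        congr 1
        exact ((homEquivε I L K).apply_symm_apply f).symm }

end Groth.Agent.R2.H31.RGam
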