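import Mathlib
import Groth.Prelude.Def_DRing4
import Groth.Agent.R2.H31RHom2
import Groth.Agent.Lib.Helper16KInjAdj

/-!
# `RHom` out of a module placed in degree `0` (helper31)

* `homSingleIso`: `Hom•(M[0], L) ≅ Hom(M, L^•)` (termwise).
* `isKInjective_homCx_single`: for flat `M` and K-injective `J`, `Hom•(M[0], J)` is K-injective.
* `rhom_single_comp`: `RHom(M[0], RHom(N[0], K)) ≅ RHom(P[0], K)` for `N` flat and `M ⊗ N ≅ P`.
-/

set_option autoImplicit false

universe u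

open CategoryTheory CategoryTheory.Limits CochainComplex CochainComplex.HomComplex
  DerivedCategory Opposite MonoidalCategory

attribute [local instance] HasDerivedCategory.standard

namespace Groth.Agent.R2.H31.RHom

open Groth.Agent.Lib.Helper17.KInj

variable {A : Type u} [CommRing A]

/-- `Hom_A(M, -)` as an endofunctor of modules. -/
noncomputable abbrev homF (M : ModuleCat.{u} A) : ModuleCat.{u} A ⥤ ModuleCat.{u} A :=
  (linearCoyoneda A (ModuleCat.{u} A)).obj (op M)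

/-- the adjunction `M ⊗ - ⊣ Hom(M, -)`. -/
noncomputable def adjF (M : ModuleCat.{u} A) : tensorLeft M ⊣ homF M := ihom.adjunction M

/-- `M` placed in degree `0`. -/
noncomputable abbrev sgl (M : ModuleCat.{u} A) : DRing.Cx A :=
  (CochainComplex.singleFunctor (ModuleCat.{u} A) 0).obj M

lemma sgl_eq (M : ModuleCat.{u} A) :
    (HomologicalComplex.single (ModuleCat.{u} A) (ComplexShape.up ℤ) 0).obj M = sgl M := rfl

/-- cochains out of `M[0]`. -/
noncomputable def fromSingleLinearEquiv (M : ModuleCat.{u} A) (L : DRing.Cx A) (n : ℤ) :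
    Cochain (sgl M) L n ≃ₗ[A] (M ⟶ L.X n) :=
  { Cochain.fromSingleEquiv (X := M) (K := L) (zero_add n) with
    map_smul' := fun a z => by
      show (HomologicalComplex.singleObjXSelf (.up ℤ) 0 M).inv ≫ (a • z).v 0 n (zero_add n) =
        a • ((HomologicalComplex.singleObjXSelf (.up ℤ) 0 M).inv ≫ z.v 0 n (zero_add n))
      rw [Cochain.smul_v]
      exact Linear.comp_smul (R := A) (C := ModuleCat.{u} A) _ _ _ _ _ _ }

lemma fromSingleLinearEquiv_apply (M : ModuleCat.{u} A) (L : DRing.Cx A) (n : ℤ)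
    (z : Cochain (sgl M) L n) :
    fromSingleLinearEquiv M L n z =
      (HomologicalComplex.singleObjXSelf (.up ℤ) 0 M).inv ≫ z.v 0 n (zero_add n) := rfl

lemma fromSingleLinearEquiv_fromSingleMk (M : ModuleCat.{u} A) (L : DRing.Cx A) (n : ℤ)
    (φ : M ⟶ L.X n) :
    fromSingleLinearEquiv M L n (Cochain.fromSingleMk φ (zero_add n)) = φ :=
  Cochain.fromSingleEquiv_fromSingleMk φ (zero_add n)

lemma fromSingleLinearEquiv_δ (M : ModuleCat.{u} A) (L : DRing.Cx A) (i j : ℤ)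
    (z : Cochain (sgl M) L i) :
    fromSingleLinearEquiv M L j (δ i j z) = fromSingleLinearEquiv M L i z ≫ L.d i j := by
  obtain ⟨φ, rfl⟩ := Cochain.fromSingleMk_surjective z i (zero_add i)
  rw [Cochain.δ_fromSingleMk φ (zero_add i) j j (zero_add j), fromSingleLinearEquiv_fromSingleMk,
    fromSingleLinearEquiv_fromSingleMk]

lemma fromSingleLinearEquiv_postcomp (M : ModuleCat.{u} A) {L L' : DRing.Cx A} (g : L ⟶ L')
    (n : ℤ) (z : Cochain (sgl M) L n) :
    fromSingleLinearEquiv M L' n (z.comp (Cochain.ofHom g) (add_zero n)) =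
      fromSingleLinearEquiv M L n z ≫ g.f n := by
  obtain ⟨φ, rfl⟩ := Cochain.fromSingleMk_surjective z n (zero_add n)
  rw [← Cochain.fromSingleMk_postcomp, fromSingleLinearEquiv_fromSingleMk,
    fromSingleLinearEquiv_fromSingleMk]

/-- `Hom•(M[0], L) ≅ Hom(M, L^•)`. -/
noncomputable def homSingleIso (M : ModuleCat.{u} A) (L : DRing.Cx A) :
    DRing.homCx (sgl M) L ≅ ((homF M).mapHomologicalComplex (ComplexShape.up ℤ)).obj L :=
  HomologicalComplex.Hom.isoOfComponents
    (fun n => (fromSingleLinearEquiv M L n).toModuleIso) (by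
      intro i j _
      apply ModuleCat.hom_ext
      apply LinearMap.ext
      intro z
      exact (fromSingleLinearEquiv_δ M L i j z).symm)

lemma homSingleIso_hom_naturality (M : ModuleCat.{u} A) {L L' : DRing.Cx A} (g : L ⟶ L') :
    (DRing.homCxFunctor (sgl M)).map g ≫ (homSingleIso M L').hom =
      (homSingleIso M L).hom ≫ ((homF M).mapHomologicalComplex (ComplexShape.up ℤ)).map g := by
  apply HomologicalComplex.hom_ext
  intro n
  apply ModuleCat.hom_ext
  apply LinearMap.ext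
  intro z
  exact fromSingleLinearEquiv_postcomp M g n z

/-- for flat `N` and K-injective `J`, `Hom•(N[0], J)` is K-injective. -/
lemma isKInjective_homCx_single (N : ModuleCat.{u} A) [Module.Flat A N] (J : DRing.Cx A)
    [J.IsKInjective] : (DRing.homCx (sgl N) J).IsKInjective := by
  have : (tensorLeft N).PreservesHomology := inferInstance
  have h := Groth.Agent.Lib.Helper16.KInjAdj.isKInjective_map (adjF N) J
  exact isKInjective_of_iso (homSingleIso N J).symm

/-- `Hom(M, Hom(N, -))`-type composite: `Hom(N', Hom(M', -)) ≅ Hom(P, -)` for `M' ⊗ N' ≅ P`. -/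
noncomputable def homCompIso (M' N' P : ModuleCat.{u} A) (e : M' ⊗ N' ≅ P) :
    homF M' ⋙ homF N' ≅ homF P :=
  conjugateIsoEquiv ((adjF N').comp (adjF M')) (adjF P)
    ((tensoringLeft (ModuleCat.{u} A)).mapIso e.symm ≪≫ tensorLeftTensor M' N')

/-- `Hom•(N'[0], Hom•(M'[0], J)) ≅ Hom•(P[0], J)` for `M' ⊗ N' ≅ P`. -/
noncomputable def homCxSingleCompIso (M' N' P : ModuleCat.{u} A) (e : M' ⊗ N' ≅ P)
    (J : DRing.Cx A) :
    DRing.homCx (sgl N') (DRing.homCx (sgl M') J) ≅ DRing.homCx (sgl P) J :=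
  homSingleIso N' _ ≪≫
    ((homF N').mapHomologicalComplex (ComplexShape.up ℤ)).mapIso (homSingleIso M' J) ≪≫
    (HomologicalComplex.Hom.isoOfComponents (fun _ => Iso.refl _) (by
      intro i j _
      exact (Category.id_comp _).trans (Category.comp_id _).symm) :
      ((homF N').mapHomologicalComplex (ComplexShape.up ℤ)).obj
        (((homF M').mapHomologicalComplex (ComplexShape.up ℤ)).obj J) ≅
      ((homF M' ⋙ homF N').mapHomologicalComplex (ComplexShape.up ℤ)).obj J) ≪≫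
    (NatIso.mapHomologicalComplex (homCompIso M' N' P e) (ComplexShape.up ℤ)).app J ≪≫
    (homSingleIso P J).symm

/-- `RHom(N'[0], RHom(M'[0], K)) ≅ RHom(P[0], K)` for `M'` flat and `M' ⊗ N' ≅ P`. -/
theorem rhom_single_comp (M' N' P : ModuleCat.{u} A) [Module.Flat A M'] (e : M' ⊗ N' ≅ P)
    (S₁ S₂ S₃ : DRing.Cx A) (h₁ : S₁ = sgl N') (h₂ : S₂ = sgl M') (h₃ : S₃ = sgl P)
    [DRing.HasRHomCx S₁] [DRing.HasRHomCx S₂] [DRing.HasRHomCx S₃] (K : Dual.D A) :
    Nonempty ((DRing.RHomCx S₁).obj ((DRing.RHomCx S₂).obj K) ≅ (DRing.RHomCx S₃).obj K) := by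
  subst h₁ h₂ h₃
  let W := HomologicalComplex.quasiIso (ModuleCat.{u} A) (ComplexShape.up ℤ)
  let β₁ : DRing.homCxQ (sgl N') ⟶ Q ⋙ DRing.RHomCx (sgl N') :=
    (DRing.homCxQ (sgl N')).totalRightDerivedUnit Q W
  let β₂ : DRing.homCxQ (sgl M') ⟶ Q ⋙ DRing.RHomCx (sgl M') :=
    (DRing.homCxQ (sgl M')).totalRightDerivedUnit Q W
  let β₃ : DRing.homCxQ (sgl P) ⟶ Q ⋙ DRing.RHomCx (sgl P) :=
    (DRing.homCxQ (sgl P)).totalRightDerivedUnit Q W
  -- a K-injective model of `K`
  let K' : DRing.Cx A := Q.objPreimage K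
  let J : DRing.Cx A := (fibRepl₀.{u} (ModuleCat.{u} A)).obj K'
  have hJ : J.IsKInjective := (fibrant_fibRepl₀.{u} (ModuleCat.{u} A) K').isKInjective
  let ι : K' ⟶ J := (fibReplι₀.{u} (ModuleCat.{u} A)).app K'
  have hι : QuasiIso ι := (trivCof_fibReplι₀.{u} (ModuleCat.{u} A) K').2
  let eK : K ≅ Q.obj J := (Q.objObjPreimageIso K).symm ≪≫ asIso (Q.map ι)
  have hJ₂ : (DRing.homCx (sgl M') J).IsKInjective := isKInjective_homCx_single M' J
  have i₂ : IsIso (β₂.app J) := isIso_app_of_isKInjective _ _ β₂ J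
  have i₁ : IsIso (β₁.app (DRing.homCx (sgl M') J)) := isIso_app_of_isKInjective _ _ β₁ _
  have i₃ : IsIso (β₃.app J) := isIso_app_of_isKInjective _ _ β₃ J
  let a₂ : Q.obj (DRing.homCx (sgl M') J) ≅ (DRing.RHomCx (sgl M')).obj (Q.obj J) :=
    @asIso _ _ _ _ (β₂.app J) i₂
  let a₁ : Q.obj (DRing.homCx (sgl N') (DRing.homCx (sgl M') J)) ≅
      (DRing.RHomCx (sgl N')).obj (Q.obj (DRing.homCx (sgl M') J)) :=
    @asIso _ _ _ _ (β₁.app (DRing.homCx (sgl M') J)) i₁
  let a₃ : Q.obj (DRing.homCx (sgl P) J) ≅ (DRing.RHomCx (sgl P)).obj (Q.obj J) :=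
    @asIso _ _ _ _ (β₃.app J) i₃
  exact ⟨(DRing.RHomCx (sgl N')).mapIso ((DRing.RHomCx (sgl M')).mapIso eK) ≪≫
    (DRing.RHomCx (sgl N')).mapIso a₂.symm ≪≫ a₁.symm ≪≫
    Q.mapIso (homCxSingleCompIso M' N' P e J) ≪≫
    a₃ ≪≫ (DRing.RHomCx (sgl P)).mapIso eK.symm⟩

end Groth.Agent.R2.H31.RHom
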