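import Mathlib

/-!
# Products of valuation rings (helper31)

A product of valuation subrings of a field has all ideals flat, and its total ring of fractions is
the product of copies of the field.
-/

set_option autoImplicit false
universe u
open TensorProduct

namespace Groth.Agent.R2.H31.WeakDim

section General

variable {R : Type u} [CommRing R]

/-- if all finitely generated ideals are flat, all ideals are flat -/
theorem flat_ideal_of_fg (h : ∀ J : Ideal R, J.FG → Module.Flat R J) (I : Ideal R) :
    Module.Flat R I := by
  rw [Module.Flat.iff_rTensor_injective]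
  intro J hJ
  have := h J hJ
  have h1 : Function.Injective (I.subtype.lTensor J) :=
    Module.Flat.lTensor_preserves_injective_linearMap _ Subtype.val_injective
  let α : J ⊗[R] I →ₗ[R] I := (TensorProduct.lid R I).toLinearMap ∘ₗ (J.subtype.rTensor I)
  let β : J ⊗[R] I →ₗ[R] J := (TensorProduct.rid R J).toLinearMap ∘ₗ (I.subtype.lTensor J)
  have hαβ : I.subtype ∘ₗ α = J.subtype ∘ₗ β := by
    apply TensorProduct.ext'
    intro j i
    simp [α, β, mul_comm]
  have hβ : Function.Injective β := (TensorProduct.rid R J).injective.comp h1
  have h2 : Function.Injective (I.subtype ∘ₗ α) := by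
    rw [hαβ]
    exact Subtype.val_injective.comp hβ
  have hα : Function.Injective α := by
    have h3 : Function.Injective (I.subtype ∘ α) := h2
    exact Function.Injective.of_comp h3
  intro x y hxy
  apply hα
  show (TensorProduct.lid R I) ((J.subtype.rTensor I) x) = (TensorProduct.lid R I) ((J.subtype.rTensor I) y)
  rw [hxy]

end General

section Prod

variable {K : Type u} [Field K] {ι : Type u} (W : ι → ValuationSubring K)

/-- the product of the valuation rings -/
abbrev PV : Type u := ∀ i, W i

/-- principal ideals of a product of valuation rings are projective -/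
lemma projective_span_singleton (v : PV W) : Module.Projective (PV W) (Ideal.span {v}) := by
  classical
  have hmem : ∀ y ∈ Ideal.span {v}, ∀ i, ((y i : K) * (v i : K)⁻¹) ∈ W i := by
    intro y hy i
    obtain ⟨x, rfl⟩ := Ideal.mem_span_singleton'.1 hy
    by_cases hv : (v i : K) = 0
    · rw [hv, inv_zero, mul_zero]
      exact (W i).zero_mem
    · have : ((x * v) i : K) * (v i : K)⁻¹ = (x i : K) := by
        show ((x i : K) * (v i : K)) * (v i : K)⁻¹ = _
        rw [mul_assoc, mul_inv_cancel₀ hv, mul_one]
      rw [this]
      exact (x i).2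
  let σ : Ideal.span {v} →ₗ[PV W] PV W :=
    { toFun := fun y i => ⟨(y.1 i : K) * (v i : K)⁻¹, hmem y.1 y.2 i⟩
      map_add' := by
        intro y z
        funext i
        apply Subtype.ext
        show ((y.1 i : K) + (z.1 i : K)) * (v i : K)⁻¹ = _
        rw [add_mul]
        rfl
      map_smul' := by
        intro r y
        funext i
        apply Subtype.ext
        show ((r i : K) * (y.1 i : K)) * (v i : K)⁻¹ = (r i : K) * ((y.1 i : K) * (v i : K)⁻¹)
        rw [mul_assoc] }
  let p : PV W →ₗ[PV W] Ideal.span {v} :=
    { toFun := fun x => ⟨x * v, Ideal.mem_span_singleton'.2 ⟨x, rfl⟩⟩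
      map_add' := by
        intro x y
        apply Subtype.ext
        exact add_mul x y v
      map_smul' := by
        intro r x
        apply Subtype.ext
        exact mul_assoc r x v }
  refine Module.Projective.of_split σ p ?_
  apply LinearMap.ext
  intro y
  apply Subtype.ext
  funext i
  apply Subtype.ext
  show ((y.1 i : K) * (v i : K)⁻¹) * (v i : K) = (y.1 i : K)
  obtain ⟨x, hx⟩ := Ideal.mem_span_singleton'.1 y.2
  by_cases hv : (v i : K) = 0
  · rw [hv, mul_zero, ← hx]
    show (0 : K) = (x i : K) * (v i : K)
    rw [hv, mul_zero]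
  · rw [mul_assoc, inv_mul_cancel₀ hv, mul_one]

/-- two elements of a product of valuation rings generate a principal ideal -/
lemma exists_span_pair (v w : PV W) : ∃ u : PV W, Ideal.span {v, w} = Ideal.span {u} := by
  classical
  have hcase : ∀ i, ¬ (v i ∣ w i) → w i ∣ v i := fun i h =>
    (ValuationRing.dvd_total (v i) (w i)).resolve_left h
  let u : PV W := fun i => if v i ∣ w i then v i else w i
  let a : PV W := fun i => if h : v i ∣ w i then 1 else (hcase i h).choose
  let b : PV W := fun i => if h : v i ∣ w i then h.choose else 1
  let c : PV W := fun i => if v i ∣ w i then 1 else 0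
  let d : PV W := fun i => if v i ∣ w i then 0 else 1
  have hv : v = a * u := by
    funext i
    show v i = a i * u i
    by_cases h : v i ∣ w i
    · simp [a, u, h]
    · simp only [a, u, h, dite_false, if_false]
      rw [mul_comm]
      exact (hcase i h).choose_spec
  have hw : w = b * u := by
    funext i
    show w i = b i * u i
    by_cases h : v i ∣ w i
    · simp only [b, u, h, dite_true, if_true]
      rw [mul_comm]
      exact h.choose_spec
    · simp [b, u, h]
  have hu : u = c * v + d * w := by
    funext i
    show u i = c i * v i + d i * w i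
    by_cases h : v i ∣ w i
    · simp [c, d, u, h]
    · simp [c, d, u, h]
  refine ⟨u, le_antisymm ?_ ?_⟩
  · rw [Ideal.span_le]
    intro x hx
    rcases hx with rfl | rfl
    · exact Ideal.mem_span_singleton'.2 ⟨a, hv.symm⟩
    · exact Ideal.mem_span_singleton'.2 ⟨b, hw.symm⟩
  · rw [Ideal.span_le]
    intro x hx
    rw [Set.mem_singleton_iff] at hx
    subst hx
    rw [hu]
    exact Ideal.add_mem _ (Ideal.mul_mem_left _ _ (Ideal.subset_span (by simp)))
      (Ideal.mul_mem_left _ _ (Ideal.subset_span (by simp)))

/-- finitely generated ideals of a product of valuation rings are principal -/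
lemma exists_span_singleton_of_fg (J : Ideal (PV W)) (hJ : J.FG) :
    ∃ u : PV W, J = Ideal.span {u} := by
  classical
  obtain ⟨s, rfl⟩ := hJ
  induction s using Finset.induction_on with
  | empty => exact ⟨0, by simp⟩
  | insert a s _ ih =>
    obtain ⟨u, hu⟩ := ih
    obtain ⟨u', hu'⟩ := exists_span_pair W a u
    refine ⟨u', ?_⟩
    rw [Finset.coe_insert, Ideal.span_insert, ← hu']
    have : Ideal.span ((s : Set (PV W))) = Ideal.span {u} := hu
    rw [this, Ideal.span_insert]

/-- every ideal of a product of valuation rings is flat -/
theorem flat_ideal (I : Ideal (PV W)) : Module.Flat (PV W) I := by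
  apply flat_ideal_of_fg
  intro J hJ
  obtain ⟨u, rfl⟩ := exists_span_singleton_of_fg W J hJ
  have := projective_span_singleton W u
  infer_instance

/-- the inclusion of the product of valuation rings in the product of fields -/
def gHom : PV W →+* (ι → K) :=
  RingHom.pi (fun i => (W i).subtype.comp (Pi.evalRingHom (fun i => W i) i))

lemma gHom_apply (x : PV W) (i : ι) : gHom W x i = (x i : K) := rfl

lemma gHom_injective : Function.Injective (gHom W) := by
  intro x y h
  funext i
  apply Subtype.ext
  exact congrFun h i

/-- the elements with all components nonzero -/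
def nz : Submonoid (PV W) where
  carrier := {v | ∀ i, v i ≠ 0}
  one_mem' := fun _ => one_ne_zero
  mul_mem' := fun {a b} ha hb i => mul_ne_zero (ha i) (hb i)

/-- the product of the fields is the localization of the product of valuation rings at the
elements with nonzero components. -/
theorem isLocalization_gHom :
    letI : Algebra (PV W) (ι → K) := (gHom W).toAlgebra
    IsLocalization (nz W) (ι → K) := by
  classical
  let _ : Algebra (PV W) (ι → K) := (gHom W).toAlgebra
  rw [isLocalization_iff]
  refine ⟨?_, ?_, ?_⟩
  · intro y
    rw [Pi.isUnit_iff]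
    intro i
    show IsUnit ((y.1 i : K))
    rw [isUnit_iff_ne_zero]
    intro h
    exact y.2 i (Subtype.ext h)
  · intro z
    have hinv : ∀ i, z i ∉ W i → (z i)⁻¹ ∈ W i := fun i h =>
      ((W i).mem_or_inv_mem (z i)).resolve_left h
    let a : PV W := fun i => if h : z i ∈ W i then ⟨z i, h⟩ else 1
    let s : PV W := fun i => if h : z i ∈ W i then 1 else ⟨(z i)⁻¹, hinv i h⟩
    have hs : s ∈ nz W := by
      intro i
      by_cases h : z i ∈ W i
      · simp [s, h]
      · simp only [s, h, dite_false]
        intro h0
        have h1 : (z i)⁻¹ = 0 := congrArg Subtype.val h0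
        rw [inv_eq_zero] at h1
        exact h (h1 ▸ (W i).zero_mem)
    refine ⟨(a, ⟨s, hs⟩), ?_⟩
    funext i
    show z i * (s i : K) = (a i : K)
    by_cases h : z i ∈ W i
    · simp [s, a, h]
    · have hz : z i ≠ 0 := fun h0 => h (h0 ▸ (W i).zero_mem)
      simp [s, a, h, hz]
  · intro x y hxy
    exact ⟨1, by rw [gHom_injective W hxy]⟩

end Prod


section Main

open CategoryTheory

/-- every normal domain is a fibre product `V ×_L K` with `V` of weak dimension at most one. -/
theorem main (A K : Type u) [CommRing A] [IsDomain A] [Field K] [Algebra A K]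
    [IsFractionRing A K] [IsIntegrallyClosed A] :
    ∃ (V L : Type u) (_ : CommRing V) (_ : CommRing L) (f : A →+* V) (g : V →+* L) (h : K →+* L),
      g.comp f = h.comp (algebraMap A K) ∧
      (∀ I : Ideal V, Module.Flat V I) ∧ g.Flat ∧ Function.Injective g ∧ Epi (CommRingCat.ofHom g) ∧
      ∀ (v : V) (k : K), g v = h k → ∃! a : A, f a = v ∧ algebraMap A K a = k := by
  classical
  let R₀ : Subring K := (integralClosure A K).toSubring
  let ι : Type u := {V : ValuationSubring K // R₀ ≤ V.toSubring}
  let W : ι → ValuationSubring K := fun i => i.1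
  have hmem : ∀ (a : A) (i : ι), algebraMap A K a ∈ W i := fun a i =>
    i.2 ((integralClosure A K).algebraMap_mem a)
  let f : A →+* PV W := RingHom.pi (fun i => (algebraMap A K).codRestrict (W i) (fun a => hmem a i))
  let h : K →+* (ι → K) := Pi.constRingHom ι K
  refine ⟨PV W, ι → K, inferInstance, inferInstance, f, gHom W, h, ?_, flat_ideal W, ?_,
    gHom_injective W, ?_, ?_⟩
  · ext a i
    rfl
  · have := isLocalization_gHom W
    exact @IsLocalization.flat (PV W) (ι → K) _ _ (gHom W).toAlgebra (nz W) this
  · have := isLocalization_gHom W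
    refine ⟨fun {Z} α β hαβ => ?_⟩
    apply CommRingCat.hom_ext
    letI : Algebra (PV W) (ι → K) := (gHom W).toAlgebra
    apply IsLocalization.ringHom_ext (nz W)
    exact congrArg (fun t => t.hom) hαβ
  · intro v k hvk
    have hk : ∀ i : ι, (v i : K) = k := fun i => congrFun hvk i
    have hk₀ : k ∈ R₀ := by
      have e := Subring.eq_iInf_of_isIntegrallyClosedIn (R := R₀)
      rw [e, Subring.mem_iInf]
      intro i
      show k ∈ W i
      rw [← hk i]
      exact (v i).2
    have hk₁ : k ∈ integralClosure A K := hk₀
    rw [IsIntegrallyClosed.integralClosure_eq_bot, Algebra.mem_bot] at hk₁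
    obtain ⟨a, ha⟩ := hk₁
    refine ⟨a, ⟨?_, ha⟩, ?_⟩
    · funext i
      apply Subtype.ext
      show algebraMap A K a = (v i : K)
      rw [ha, hk i]
    · rintro b ⟨-, hb⟩
      exact IsFractionRing.injective A K (hb.trans ha.symm)

end Main

end Groth.Agent.R2.H31.WeakDim
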