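import Mathlib
import Groth.Agent.Lib.Helper20AWNRing
import Groth.Agent.S7419

/-!
# helper32: ring-level facts on absolute weak normalization

ns `Groth.Agent.R2.H32.AWNRing`. With `UH`, `awn`, `toAwn` of `Lib/Helper20AWN`:
* `UH_baseChange`, `UH_hom_ext_of_isReduced`
* `isRingAWN_of_UH_of_isAWNRing`: a universal homeomorphism `A → B` with `B` absolutely weakly
  normal is an absolute weak normalization.
* `awnMap g : awn A →+* awn B` for `g : A →+* B`, with `awnMap_comp_toAwn`, `awnMap_unique`,
  `awnMap_id`, `awnMap_comp`.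
* `isLocalizationAway_awn`: `awn` commutes with localization away from an element.
-/

set_option autoImplicit false
universe u

namespace Groth.Agent.R2.H32.AWNRing

open Groth.Agent.Lib.Helper20.AWN AlgebraicGeometry CategoryTheory TensorProduct

theorem UH_baseChange {A B C : Type u} [CommRing A] [CommRing B] [CommRing C] [Algebra A B]
    [Algebra A C] (h : UH (algebraMap A C)) :
    UH (Algebra.TensorProduct.includeLeftRingHom : B →+* B ⊗[A] C) := by
  rw [← isUnivHomeo_iff_UH] at h ⊢
  have sq := isPullback_SpecMap_of_isPushout _ _ _ _ (CommRingCat.isPushout_tensorProduct A B C)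
  have : (FlatMor.IsUnivHomeo : MorphismProperty Scheme.{u}).IsStableUnderBaseChange := by
    unfold FlatMor.IsUnivHomeo; infer_instance
  exact MorphismProperty.of_isPullback (P := FlatMor.IsUnivHomeo) sq.flip h

theorem UH_hom_ext_of_isReduced {A C R : Type u} [CommRing A] [CommRing C] [CommRing R]
    [IsReduced R] (ψ : A →+* C) (h : UH ψ) (m₁ m₂ : C →+* R) (e : m₁.comp ψ = m₂.comp ψ) :
    m₁ = m₂ := by
  refine RingHom.ext fun c => ?_
  rw [← sub_eq_zero]
  have hnil : m₁ c - m₂ c ∈ nilradical R := by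
    rw [nilradical_eq_sInf, Ideal.mem_sInf]
    intro P hP
    have hP' : P.IsPrime := hP
    let K := P.ResidueField
    let q : R →+* K := algebraMap R K
    have := h.2.2 K (q.comp m₁) (q.comp m₂) (by rw [RingHom.comp_assoc, RingHom.comp_assoc, e])
    have h1 : q (m₁ c - m₂ c) = 0 := by
      rw [map_sub, sub_eq_zero]
      exact RingHom.congr_fun this c
    exact (Ideal.algebraMap_residueField_eq_zero).mp h1
  rw [nilradical_eq_zero] at hnil
  exact hnil

/-- A universal homeomorphism `A → B` with `B` absolutely weakly normal is an absolute weak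
normalization of `A`. -/
theorem isRingAWN_of_UH_of_isAWNRing {A B : Type u} [CommRing A] [CommRing B] (ψ : A →+* B)
    (h : UH ψ) (hB : HTop.IsAWNRing B) : HTop.IsRingAWN ψ := by
  have hBred : IsReduced B := isReduced_of_isAWNRing hB
  refine ⟨(isUnivHomeo_iff_UH ψ).mpr h, ?_⟩
  intro C _ ψ' hψ'
  have hUH' : UH ψ' := (isUnivHomeo_iff_UH ψ').mp hψ'
  letI : Algebra A B := ψ.toAlgebra
  letI : Algebra A C := ψ'.toAlgebra
  let T := B ⊗[A] C
  let D := T ⧸ nilradical T
  let ιB : B →+* D := (Ideal.Quotient.mk (nilradical T)).comp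
    (Algebra.TensorProduct.includeLeftRingHom : B →+* B ⊗[A] C)
  let ιC : C →+* D := (Ideal.Quotient.mk (nilradical T)).comp
    (Algebra.TensorProduct.includeRight : C →ₐ[A] B ⊗[A] C).toRingHom
  have hιB : UH ιB := by
    refine UH_comp _ _ (UH_baseChange (A := A) (B := B) (C := C) hUH') ?_
    exact UH_of_surjective _ Ideal.Quotient.mk_surjective (by rw [Ideal.mk_ker])
  have hDred : IsReduced D := by
    have : (nilradical T).IsRadical := Ideal.radical_isRadical _
    exact (Ideal.isRadical_iff_quotient_reduced (nilradical T)).mp this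
  have hbij : Function.Bijective ιB := bijective_of_UH_of_isAWNRing ιB hιB hB
  let e : B ≃+* D := RingEquiv.ofBijective ιB hbij
  have hcomm : ιB.comp ψ = ιC.comp ψ' := by
    refine RingHom.ext fun a => ?_
    show Ideal.Quotient.mk (nilradical T) (algebraMap A B a ⊗ₜ[A] (1 : C)) =
      Ideal.Quotient.mk (nilradical T) ((1 : B) ⊗ₜ[A] algebraMap A C a)
    congr 1
    rw [Algebra.algebraMap_eq_smul_one, Algebra.algebraMap_eq_smul_one, TensorProduct.smul_tmul]
  refine ⟨(e.symm : D →+* B).comp ιC, ?_, ?_⟩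
  · refine RingHom.ext fun a => ?_
    show e.symm (ιC (ψ' a)) = ψ a
    rw [RingEquiv.symm_apply_eq]
    exact (RingHom.congr_fun hcomm a).symm
  · intro χ' hχ'
    apply UH_hom_ext_of_isReduced ψ' hUH'
    rw [hχ']
    refine RingHom.ext fun a => ?_
    show ψ a = e.symm (ιC (ψ' a))
    rw [eq_comm, RingEquiv.symm_apply_eq]
    exact (RingHom.congr_fun hcomm a).symm


theorem UH_baseChange' {A B C : Type u} [CommRing A] [CommRing B] [CommRing C] [Algebra A B]
    [Algebra A C] (h : UH (algebraMap A C)) :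
    UH ((Algebra.TensorProduct.includeRight : B →ₐ[A] C ⊗[A] B).toRingHom) := by
  rw [← isUnivHomeo_iff_UH] at h ⊢
  have sq := isPullback_SpecMap_of_isPushout _ _ _ _ (CommRingCat.isPushout_tensorProduct A C B)
  have : (FlatMor.IsUnivHomeo : MorphismProperty Scheme.{u}).IsStableUnderBaseChange := by
    unfold FlatMor.IsUnivHomeo; infer_instance
  exact MorphismProperty.of_isPullback (P := FlatMor.IsUnivHomeo) sq h

section Functoriality

variable {A B C : Type u} [CommRing A] [CommRing B] [CommRing C]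

instance isReduced_awn (A : Type u) [CommRing A] : IsReduced (awn A) :=
  isReduced_of_isRingAWN (toAwn A) (isRingAWN_toAwn A)

theorem exists_awnMap (g : A →+* B) :
    ∃ m : awn A →+* awn B, m.comp (toAwn A) = (toAwn B).comp g := by
  letI : Algebra A B := g.toAlgebra
  letI : Algebra A (awn A) := (toAwn A).toAlgebra
  have h : UH (Algebra.TensorProduct.includeLeftRingHom : B →+* B ⊗[A] awn A) :=
    UH_baseChange (A := A) (B := B) (C := awn A) (UH_toAwn A)
  obtain ⟨χ, hχ, -⟩ := (isRingAWN_toAwn B).2 (B ⊗[A] awn A)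
    Algebra.TensorProduct.includeLeftRingHom ((isUnivHomeo_iff_UH _).mpr h)
  refine ⟨χ.comp (Algebra.TensorProduct.includeRight : awn A →ₐ[A] B ⊗[A] awn A).toRingHom, ?_⟩
  refine RingHom.ext fun a => ?_
  show χ ((1 : B) ⊗ₜ[A] (algebraMap A (awn A) a)) = toAwn B (g a)
  have h1 : (1 : B) ⊗ₜ[A] (algebraMap A (awn A) a) = (algebraMap A B a) ⊗ₜ[A] (1 : awn A) := by
    rw [Algebra.algebraMap_eq_smul_one, Algebra.algebraMap_eq_smul_one, TensorProduct.smul_tmul]
  rw [h1]
  exact RingHom.congr_fun hχ (g a)

/-- The map induced on absolute weak normalizations. -/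
noncomputable def awnMap (g : A →+* B) : awn A →+* awn B := (exists_awnMap g).choose

theorem awnMap_comp_toAwn (g : A →+* B) : (awnMap g).comp (toAwn A) = (toAwn B).comp g :=
  (exists_awnMap g).choose_spec

theorem awnMap_toAwn (g : A →+* B) (a : A) : awnMap g (toAwn A a) = toAwn B (g a) :=
  RingHom.congr_fun (awnMap_comp_toAwn g) a

theorem awnMap_unique (g : A →+* B) (m : awn A →+* awn B)
    (hm : m.comp (toAwn A) = (toAwn B).comp g) : m = awnMap g :=
  UH_hom_ext_of_isReduced (toAwn A) (UH_toAwn A) _ _ (hm.trans (awnMap_comp_toAwn g).symm)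

theorem awnMap_id (A : Type u) [CommRing A] : awnMap (RingHom.id A) = RingHom.id (awn A) :=
  (awnMap_unique _ _ (by rw [RingHom.id_comp, RingHom.comp_id])).symm

theorem awnMap_comp (g : A →+* B) (g' : B →+* C) :
    awnMap (g'.comp g) = (awnMap g').comp (awnMap g) :=
  (awnMap_unique _ _ (by
    rw [RingHom.comp_assoc, awnMap_comp_toAwn, ← RingHom.comp_assoc, awnMap_comp_toAwn,
      RingHom.comp_assoc])).symm

end Functoriality

theorem isAWNRing_of_ringEquiv {B W : Type u} [CommRing B] [CommRing W] (e : B ≃+* W)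
    (hW : HTop.IsAWNRing W) : HTop.IsAWNRing B := by
  refine ⟨?_, ?_⟩
  · intro x y hxy
    have hxy' : e x ^ 3 = e y ^ 2 := by rw [← map_pow, ← map_pow, hxy]
    obtain ⟨a, ⟨ha2, ha3⟩, huniq⟩ := hW.1 (e x) (e y) hxy'
    refine ⟨e.symm a, ⟨?_, ?_⟩, ?_⟩
    · apply e.injective; rw [map_pow, e.apply_symm_apply]; exact ha2
    · apply e.injective; rw [map_pow, e.apply_symm_apply]; exact ha3
    · rintro a' ⟨h2, h3⟩
      have := huniq (e a') ⟨by rw [h2, map_pow], by rw [h3, map_pow]⟩
      rw [← this, e.symm_apply_apply]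
  · intro p hp x y hxy
    have hxy' : (p : W) ^ p * e x = e y ^ p := by
      rw [← map_pow, ← hxy, map_mul, map_pow, map_natCast]
    obtain ⟨a, ⟨ha1, ha2⟩, huniq⟩ := hW.2 p hp (e x) (e y) hxy'
    refine ⟨e.symm a, ⟨?_, ?_⟩, ?_⟩
    · apply e.injective; rw [map_pow, e.apply_symm_apply]; exact ha1
    · apply e.injective; rw [map_mul, map_natCast, e.apply_symm_apply]; exact ha2
    · rintro a' ⟨h1, h2⟩
      have := huniq (e a') ⟨by rw [h1, map_pow], by rw [h2, map_mul, map_natCast]⟩
      rw [← this, e.symm_apply_apply]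

/-- `awn` commutes with localization away from an element. -/
theorem isLocalizationAway_awn {A A' : Type u} [CommRing A] [CommRing A'] [Algebra A A'] (r : A)
    [IsLocalization.Away r A'] :
    letI := (awnMap (algebraMap A A')).toAlgebra
    IsLocalization.Away (toAwn A r) (awn A') := by
  letI : Algebra A (awn A) := (toAwn A).toAlgebra
  let T := awn A ⊗[A] A'
  have hloc : IsLocalization.Away (algebraMap A (awn A) r) T := IsLocalization.Away.tensor r A'
  -- `T` is absolutely weakly normal
  have hTawn : HTop.IsAWNRing T := by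
    have h1 : HTop.IsAWNRing (Localization.Away (algebraMap A (awn A) r)) :=
      Groth.Agent.S7419.result.1 (awn A) _ (isAWNRing_of_isRingAWN (toAwn A) (isRingAWN_toAwn A))
    let e : T ≃ₐ[awn A] Localization.Away (algebraMap A (awn A) r) :=
      IsLocalization.algEquiv (Submonoid.powers (algebraMap A (awn A) r)) _ _
    exact isAWNRing_of_ringEquiv e.toRingEquiv h1
  -- `A' → T` is a universal homeomorphism
  have hUH : UH ((Algebra.TensorProduct.includeRight : A' →ₐ[A] awn A ⊗[A] A').toRingHom) :=
    UH_baseChange' (A := A) (B := A') (C := awn A) (UH_toAwn A)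
  -- the comparison `T → awn A'`
  obtain ⟨χ, hχ, -⟩ := (isRingAWN_toAwn A').2 T
    (Algebra.TensorProduct.includeRight : A' →ₐ[A] awn A ⊗[A] A').toRingHom
    ((isUnivHomeo_iff_UH _).mpr hUH)
  have hχUH : UH χ := UH_of_comp_of_UH _ χ hUH (by rw [hχ]; exact UH_toAwn A')
  have hbij : Function.Bijective χ := bijective_of_UH_of_isAWNRing χ hχUH hTawn
  -- `χ ∘ includeLeft = awnMap`
  have hmap : χ.comp (Algebra.TensorProduct.includeLeftRingHom : awn A →+* awn A ⊗[A] A') =
      awnMap (algebraMap A A') := by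
    apply awnMap_unique
    refine RingHom.ext fun a => ?_
    show χ ((algebraMap A (awn A) a) ⊗ₜ[A] (1 : A')) = toAwn A' (algebraMap A A' a)
    have h1 : (algebraMap A (awn A) a) ⊗ₜ[A] (1 : A') = (1 : awn A) ⊗ₜ[A] (algebraMap A A' a) := by
      rw [Algebra.algebraMap_eq_smul_one, Algebra.algebraMap_eq_smul_one, TensorProduct.smul_tmul]
    rw [h1]
    exact RingHom.congr_fun hχ (algebraMap A A' a)
  letI : Algebra (awn A) (awn A') := (awnMap (algebraMap A A')).toAlgebra
  let E : T ≃ₐ[awn A] awn A' :=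
    { RingEquiv.ofBijective χ hbij with
      commutes' := fun w => RingHom.congr_fun hmap w }
  exact IsLocalization.isLocalization_of_algEquiv (Submonoid.powers (toAwn A r)) E


end Groth.Agent.R2.H32.AWNRing
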