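import Mathlib
import Groth.Agent.R2.H32AWNRing
import Groth.Agent.S0415

/-!
# helper32: absolute weak normalization of a scheme

ns `Groth.Agent.R2.H32.AWNScheme`.
-/

set_option autoImplicit false
universe u

namespace Groth.Agent.R2.H32.AWNScheme

open Groth.Agent.Lib.Helper20.AWN Groth.Agent.R2.H32.AWNRing
open AlgebraicGeometry CategoryTheory Limits Scheme.AffineZariskiSite

variable (X : Scheme.{u})

/-- The presheaf of absolute weak normalizations on the affine Zariski site. -/
noncomputable def awnDiagram : X.AffineZariskiSiteᵒᵖ ⥤ CommRingCat.{u} where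
  obj U := .of (awn Γ(X, U.unop.toOpens))
  map {V U} i := CommRingCat.ofHom
    (awnMap (X.presheaf.map (homOfLE (toOpens_mono i.unop.le)).op).hom)
  map_id U := by
    have : (X.presheaf.map (homOfLE (toOpens_mono (𝟙 U).unop.le)).op).hom = RingHom.id _ := by
      have : (homOfLE (toOpens_mono (𝟙 U).unop.le)).op = 𝟙 _ := rfl
      rw [this, X.presheaf.map_id]; rfl
    rw [this, awnMap_id]; rfl
  map_comp {U V W} i j := by
    rw [← CommRingCat.ofHom_comp, ← awnMap_comp]
    congr 2
    rw [← CommRingCat.hom_comp, ← X.presheaf.map_comp]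
    rfl

/-- The structure map to the presheaf of absolute weak normalizations. -/
noncomputable def awnDiagramMap : (toOpensFunctor X).op ⋙ X.presheaf ⟶ awnDiagram X where
  app U := CommRingCat.ofHom (toAwn Γ(X, U.unop.toOpens))
  naturality {U V} i := by
    ext x
    exact (awnMap_toAwn _ x).symm

lemma coequifibered_awnDiagramMap : (awnDiagramMap X).Coequifibered := by
  refine coequifibered_iff_forall_isLocalizationAway.mpr fun U r ↦ ?_
  letI : Algebra Γ(X, U.1) Γ(X, X.basicOpen r) :=
    (X.presheaf.map (homOfLE (X.basicOpen_le r)).op).hom.toAlgebra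
  haveI : IsLocalization.Away r Γ(X, X.basicOpen r) := U.2.isLocalization_basicOpen r
  exact isLocalizationAway_awn (A := Γ(X, U.1)) (A' := Γ(X, X.basicOpen r)) r

/-- The gluing data. -/
noncomputable def awnGlueData := relativeGluingData (coequifibered_awnDiagramMap X)

instance : ((awnGlueData X).functor ⋙ Scheme.forget).IsLocallyDirected :=
  Scheme.Cover.RelativeGluingData.instIsLocallyDirectedI₀CompFunctorForgetOfIsThin ..

/-- The absolute weak normalization of a scheme. -/
noncomputable def awnScheme : Scheme.{u} := (awnGlueData X).glued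

/-- The open cover of `awnScheme X` by the spectra of `awn Γ(X, U)`. -/
noncomputable def awnCover : (awnScheme X).OpenCover := (awnGlueData X).cover

/-- The structure morphism. -/
noncomputable def fromAwn : awnScheme X ⟶ X := (awnGlueData X).toBase

@[reassoc]
lemma ι_fromAwn (U : X.affineOpens) :
    (awnCover X).f U ≫ fromAwn X =
      Spec.map ((awnDiagramMap X).app (.op U)) ≫ U.2.fromSpec :=
  colimit.ι_desc _ _

lemma fromAwn_preimage (U : X.affineOpens) :
    fromAwn X ⁻¹ᵁ U = ((awnCover X).f U).opensRange := by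
  simpa using! (awnGlueData X).toBase_preimage_eq_opensRange_ι U

set_option backward.isDefEq.respectTransparency false in
lemma fromAwn_of_forall (P : MorphismProperty Scheme.{u}) [IsZariskiLocalAtTarget P]
    (H : ∀ U : X.affineOpens, P (Spec.map ((awnDiagramMap X).app (.op U)))) :
    P (fromAwn X) := by
  rw [IsZariskiLocalAtTarget.iff_of_iSup_eq_top (P := P) _ (iSup_affineOpens_eq_top _)]
  intro U
  let e := IsOpenImmersion.isoOfRangeEq (fromAwn X ⁻¹ᵁ U).ι ((awnCover X).f U)
      (by simpa using congr($(fromAwn_preimage X U).1))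
  rw [← MorphismProperty.cancel_left_of_respectsIso P e.inv,
    ← MorphismProperty.cancel_right_of_respectsIso P _ U.2.isoSpec.hom]
  convert! H U
  rw [← cancel_mono U.2.fromSpec]
  simp [IsAffineOpen.isoSpec_hom, e, ι_fromAwn]

lemma isUnivHomeo_SpecMap_awnDiagramMap (U : X.affineOpens) :
    FlatMor.IsUnivHomeo (Spec.map ((awnDiagramMap X).app (.op U))) :=
  (isRingAWN_toAwn Γ(X, U.1)).1

theorem isUnivHomeo_fromAwn : FlatMor.IsUnivHomeo (fromAwn X) := by
  rw [Groth.Agent.S0415.result]
  have key := fun U : X.affineOpens =>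
    (Groth.Agent.S0415.result _).mp (isUnivHomeo_SpecMap_awnDiagramMap X U)
  exact ⟨fromAwn_of_forall X @IsIntegralHom fun U => (key U).1,
    fromAwn_of_forall X @UniversallyInjective fun U => (key U).2.1,
    fromAwn_of_forall X @Surjective fun U => (key U).2.2⟩

section UniversalProperty

variable {X} {Y : Scheme.{u}} (π : Y ⟶ X)

lemma isAffineHom_of_isUnivHomeo (hπ : FlatMor.IsUnivHomeo π) : IsAffineHom π := by
  have := ((Groth.Agent.S0415.result π).mp hπ).1
  infer_instance

lemma isUnivHomeo_SpecMap_app (hπ : FlatMor.IsUnivHomeo π) [IsAffineHom π] (U : X.affineOpens) :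
    FlatMor.IsUnivHomeo (Spec.map (π.app U.1)) := by
  have H : (U.2.preimage π).fromSpec ≫ π = Spec.map (π.app U.1) ≫ U.2.fromSpec := by
    rw [Scheme.Hom.app_eq_appLE, IsAffineOpen.SpecMap_appLE_fromSpec]
  have sq := IsOpenImmersion.isPullback (Spec.map (π.app U.1)) (U.2.preimage π).fromSpec
    U.2.fromSpec π H (by rw [IsAffineOpen.opensRange_fromSpec, IsAffineOpen.opensRange_fromSpec])
  have : (FlatMor.IsUnivHomeo : MorphismProperty Scheme.{u}).IsStableUnderBaseChange := by
    unfold FlatMor.IsUnivHomeo; infer_instance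
  exact MorphismProperty.of_isPullback (P := FlatMor.IsUnivHomeo) sq.flip hπ

lemma UH_app (hπ : FlatMor.IsUnivHomeo π) [IsAffineHom π] (U : X.affineOpens) :
    UH (π.app U.1).hom :=
  (isUnivHomeo_iff_UH _).mp (isUnivHomeo_SpecMap_app π hπ U)

/-- The comparison ring map `Γ(Y, π⁻¹U) → awn Γ(X, U)`. -/
noncomputable def awnChi (hπ : FlatMor.IsUnivHomeo π) [IsAffineHom π] (U : X.affineOpens) :
    Γ(Y, π ⁻¹ᵁ U.1) →+* awn Γ(X, U.1) :=
  ((isRingAWN_toAwn Γ(X, U.1)).2 Γ(Y, π ⁻¹ᵁ U.1) (π.app U.1).hom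
    (isUnivHomeo_SpecMap_app π hπ U)).choose

lemma awnChi_comp (hπ : FlatMor.IsUnivHomeo π) [IsAffineHom π] (U : X.affineOpens) :
    (awnChi π hπ U).comp (π.app U.1).hom = toAwn Γ(X, U.1) :=
  ((isRingAWN_toAwn Γ(X, U.1)).2 Γ(Y, π ⁻¹ᵁ U.1) (π.app U.1).hom
    (isUnivHomeo_SpecMap_app π hπ U)).choose_spec.1

lemma awnChi_naturality (hπ : FlatMor.IsUnivHomeo π) [IsAffineHom π] {U V : X.AffineZariskiSite}
    (i : U ⟶ V) :
    (awnMap (X.presheaf.map (homOfLE (toOpens_mono i.le)).op).hom).comp (awnChi π hπ V) =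
      (awnChi π hπ U).comp
        (Y.presheaf.map (homOfLE (π.preimage_mono (toOpens_mono i.le))).op).hom := by
  apply UH_hom_ext_of_isReduced (π.app V.1).hom (UH_app π hπ V)
  rw [RingHom.comp_assoc, awnChi_comp, awnMap_comp_toAwn, RingHom.comp_assoc]
  have : (Y.presheaf.map (homOfLE (π.preimage_mono (toOpens_mono i.le))).op).hom.comp
      (π.app V.1).hom = (π.app U.1).hom.comp
        (X.presheaf.map (homOfLE (toOpens_mono i.le)).op).hom := by
    rw [← CommRingCat.hom_comp, ← CommRingCat.hom_comp]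
    congr 1
    exact (π.naturality _).symm
  rw [this, ← RingHom.comp_assoc, awnChi_comp]

set_option backward.defeqAttrib.useBackward true in
set_option backward.isDefEq.respectTransparency false in
/-- The morphism from the absolute weak normalization to a universal homeomorphism over `X`. -/
noncomputable def awnDesc (hπ : FlatMor.IsUnivHomeo π) [IsAffineHom π] : awnScheme X ⟶ Y := by
  refine colimit.desc (awnGlueData X).functor
    { pt := Y
      ι.app U := (Spec.map (CommRingCat.ofHom (awnChi π hπ U)) ≫ (U.2.preimage π).fromSpec :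
        Spec (.of (awn Γ(X, U.1))) ⟶ Y),
      ι.naturality := ?_ }
  intros U V i
  dsimp [awnGlueData, relativeGluingData]
  rw [Category.comp_id, ← Spec.map_comp_assoc, ← (V.2.preimage π).map_fromSpec (U.2.preimage π)
    (homOfLE (π.preimage_mono (Scheme.AffineZariskiSite.toOpens_mono i.le))).op,
    ← Spec.map_comp_assoc]
  congr 2
  ext1
  exact awnChi_naturality π hπ i

set_option backward.defeqAttrib.useBackward true in
set_option backward.isDefEq.respectTransparency false in
lemma awnDesc_comp (hπ : FlatMor.IsUnivHomeo π) [IsAffineHom π] :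
    awnDesc π hπ ≫ π = fromAwn X := by
  refine colimit.hom_ext fun U ↦ ?_
  dsimp [awnDesc, fromAwn]
  rw [colimit.ι_desc_assoc, (awnGlueData X).ι_toBase, Category.assoc,
    ← IsAffineOpen.SpecMap_appLE_fromSpec _ U.2 _ le_rfl, ← Spec.map_comp_assoc]
  dsimp [awnGlueData, relativeGluingData, restrictIsoSpec]
  rw [Category.assoc]
  congr 2
  ext1
  rw [← Scheme.Hom.app_eq_appLE]
  exact awnChi_comp π hπ U

lemma hom_ext_of_isUnivHomeo (hπ : FlatMor.IsUnivHomeo π) [IsAffineHom π] {R : CommRingCat.{u}}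
    [_root_.IsReduced R] (g₁ g₂ : Spec R ⟶ Y) (U : X.affineOpens)
    (hU : (g₁ ≫ π) ⁻¹ᵁ U.1 = ⊤) (e : g₁ ≫ π = g₂ ≫ π) : g₁ = g₂ := by
  have h₁ : g₁ ⁻¹ᵁ (π ⁻¹ᵁ U.1) = ⊤ := by rw [← Scheme.Hom.comp_preimage]; exact hU
  have h₂ : g₂ ⁻¹ᵁ (π ⁻¹ᵁ U.1) = ⊤ := by rw [← Scheme.Hom.comp_preimage, ← e]; exact hU
  have hW := U.2.preimage π
  have key : ∀ (g : Spec R ⟶ Y) (hg : g ⁻¹ᵁ (π ⁻¹ᵁ U.1) = ⊤),
      (isAffineOpen_top (Spec R)).fromSpec ≫ g =
        Spec.map (g.appLE (π ⁻¹ᵁ U.1) ⊤ hg.ge) ≫ hW.fromSpec := fun g hg =>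
    (IsAffineOpen.SpecMap_appLE_fromSpec g hW (isAffineOpen_top _) hg.ge).symm
  have : IsIso (isAffineOpen_top (Spec R)).fromSpec := by
    rw [IsAffineOpen.fromSpec_top]; infer_instance
  rw [← cancel_epi (isAffineOpen_top (Spec R)).fromSpec, key g₁ h₁, key g₂ h₂]
  congr 2
  ext1
  apply UH_hom_ext_of_isReduced (π.app U.1).hom (UH_app π hπ U)
  rw [← CommRingCat.hom_comp, ← CommRingCat.hom_comp]
  congr 1
  rw [Scheme.Hom.app_eq_appLE, Scheme.Hom.appLE_comp_appLE, Scheme.Hom.appLE_comp_appLE]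
  simp_rw [e]

end UniversalProperty

set_option backward.defeqAttrib.useBackward true in
set_option backward.isDefEq.respectTransparency false in
/-- `fromAwn X : awnScheme X ⟶ X` is an absolute weak normalization of `X`. -/
theorem isAWNormalization_fromAwn : HTop.IsAWNormalization (fromAwn X) := by
  refine ⟨isUnivHomeo_fromAwn X, fun Y π hπ => ?_⟩
  haveI := isAffineHom_of_isUnivHomeo π hπ
  refine ⟨awnDesc π hπ, awnDesc_comp π hπ, fun h hh => ?_⟩
  refine (awnCover X).hom_ext _ _ fun U => ?_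
  have : _root_.IsReduced ((awnDiagram X).obj (.op U)) := isReduced_awn _
  refine hom_ext_of_isUnivHomeo (R := (awnDiagram X).obj (.op U)) π hπ
    ((awnCover X).f U ≫ h) ((awnCover X).f U ≫ awnDesc π hπ) U ?_ ?_
  · rw [Category.assoc, hh, ι_fromAwn]
    simp
  · rw [Category.assoc, Category.assoc, hh, awnDesc_comp]

end Groth.Agent.R2.H32.AWNScheme
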