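import Mathlib
import Groth.Agent.R2.H32AWNScheme

/-!
# helper32: properties of the absolute weak normalization of a scheme

ns `Groth.Agent.R2.H32.AWNProps`.
* `isUnivHomeo_of_comp`: 2-out-of-3 for universal homeomorphisms.
* `isIso_of_isUnivHomeo_of_isAWN`: a universal homeomorphism from a reduced scheme to an
  absolutely weakly normal scheme is an isomorphism.
* `isAWN_awnScheme`, `isAWN_of_iso`, `isReduced_awnScheme`.
* `exists_iso_of_isAWNormalization`, `isAWNormalization_iso_comp`.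
-/

set_option autoImplicit false
universe u

namespace Groth.Agent.R2.H32.AWNProps

open Groth.Agent.Lib.Helper20.AWN Groth.Agent.R2.H32.AWNRing Groth.Agent.R2.H32.AWNScheme
open AlgebraicGeometry CategoryTheory Limits

/-- 2-out-of-3 for universal homeomorphisms. -/
theorem isUnivHomeo_of_comp {X' Y X : Scheme.{u}} (h : X' ⟶ Y) (π : Y ⟶ X)
    (hπ : FlatMor.IsUnivHomeo π) (hν : FlatMor.IsUnivHomeo (h ≫ π)) : FlatMor.IsUnivHomeo h := by
  obtain ⟨hπ1, hπ2, hπ3⟩ := (Groth.Agent.S0415.result π).mp hπ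
  obtain ⟨hν1, hν2, hν3⟩ := (Groth.Agent.S0415.result (h ≫ π)).mp hν
  rw [Groth.Agent.S0415.result h]
  refine ⟨IsIntegralHom.of_comp h π, ?_, ?_⟩
  · have t1 := (tfae_universallyInjective h).out 0 1
    have t2 := (tfae_universallyInjective (h ≫ π)).out 0 1
    refine t1.mpr ?_
    intro K _ g₁ g₂ e
    have := t2.mp hν2 K
    apply this
    show g₁ ≫ h ≫ π = g₂ ≫ h ≫ π
    have e' : g₁ ≫ h = g₂ ≫ h := e
    rw [← Category.assoc, e', Category.assoc]
  · constructor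
    intro y
    obtain ⟨x, hx⟩ := hν3.surj (π y)
    refine ⟨x, π.injective ?_⟩
    rw [← hx]
    simp

theorem isUnivHomeo_comp {X' Y X : Scheme.{u}} (h : X' ⟶ Y) (π : Y ⟶ X)
    (hh : FlatMor.IsUnivHomeo h) (hπ : FlatMor.IsUnivHomeo π) : FlatMor.IsUnivHomeo (h ≫ π) := by
  obtain ⟨hπ1, hπ2, hπ3⟩ := (Groth.Agent.S0415.result π).mp hπ
  obtain ⟨hh1, hh2, hh3⟩ := (Groth.Agent.S0415.result h).mp hh
  rw [Groth.Agent.S0415.result (h ≫ π)]
  exact ⟨inferInstance, MorphismProperty.comp_mem _ _ _ hh2 hπ2, inferInstance⟩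

theorem isUnivHomeo_of_isIso {X Y : Scheme.{u}} (e : X ⟶ Y) [IsIso e] : FlatMor.IsUnivHomeo e := by
  rw [Groth.Agent.S0415.result]
  exact ⟨inferInstance, inferInstance, inferInstance⟩

/-- A universal homeomorphism from a reduced scheme to an absolutely weakly normal scheme is an
isomorphism. -/
theorem isIso_of_isUnivHomeo_of_isAWN {X' Y : Scheme.{u}} (h : X' ⟶ Y)
    (hh : FlatMor.IsUnivHomeo h) [IsReduced X'] (hY : HTop.IsAWN Y) : IsIso h := by
  haveI := isAffineHom_of_isUnivHomeo h hh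
  let ι := {U : Y.affineOpens // HTop.IsAWNRing Γ(Y, U.1)}
  have hcov : ⨆ i : ι, (i.1.1 : Y.Opens) = ⊤ := by
    rw [eq_top_iff]
    intro y _
    obtain ⟨U, hyU, hU⟩ := hY y
    exact TopologicalSpace.Opens.mem_iSup.mpr ⟨⟨U, hU⟩, hyU⟩
  change MorphismProperty.isomorphisms Scheme h
  rw [IsZariskiLocalAtTarget.iff_of_iSup_eq_top (P := .isomorphisms Scheme) _ hcov]
  intro i
  change IsIso (h ∣_ i.1.1)
  rw [isIso_morphismRestrict_iff_isIso_app h i.1.2]
  have hbij := bijective_of_UH_of_isAWNRing (h.app i.1.1).hom (UH_app h hh i.1) i.2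
  exact (ConcreteCategory.isIso_iff_bijective _).mpr hbij

lemma isAWNRing_opensRange {Z : Scheme.{u}} {R : CommRingCat.{u}} (j : Spec R ⟶ Z)
    [IsOpenImmersion j] (hR : HTop.IsAWNRing R) : HTop.IsAWNRing Γ(Z, j.opensRange) := by
  let e : Γ(Z, j.opensRange) ≅ R := (IsOpenImmersion.ΓIsoTop j).symm ≪≫ Scheme.ΓSpecIso R
  exact isAWNRing_of_ringEquiv e.commRingCatIsoToRingEquiv hR

theorem isAWN_of_iso {Y Z : Scheme.{u}} (e : Y ≅ Z) (hY : HTop.IsAWN Y) : HTop.IsAWN Z := by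
  intro z
  obtain ⟨U, hzU, hU⟩ := hY (e.inv z)
  refine ⟨⟨e.inv ⁻¹ᵁ U.1, U.2.preimage_of_isIso e.inv⟩, hzU, ?_⟩
  have : IsIso (e.inv.app U.1) := inferInstance
  exact isAWNRing_of_ringEquiv (asIso (e.inv.app U.1)).symm.commRingCatIsoToRingEquiv hU

variable (X : Scheme.{u})

set_option backward.defeqAttrib.useBackward true in
set_option backward.isDefEq.respectTransparency false in
instance isReduced_awnScheme : IsReduced (awnScheme X) :=
  have (i : _) : IsReduced ((awnCover X).X i) := by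
    have : _root_.IsReduced ((awnDiagram X).obj (.op i)) := isReduced_awn _
    dsimp [awnCover, awnGlueData, Scheme.AffineZariskiSite.relativeGluingData]
    infer_instance
  .of_openCover _ (awnCover X)

set_option backward.defeqAttrib.useBackward true in
set_option backward.isDefEq.respectTransparency false in
theorem isAWN_awnScheme : HTop.IsAWN (awnScheme X) := by
  intro x
  obtain ⟨U, y, hy⟩ := (awnCover X).exists_eq x
  let j : Spec ((awnDiagram X).obj (.op U)) ⟶ awnScheme X := (awnCover X).f U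
  have hj : IsOpenImmersion j := inferInstanceAs (IsOpenImmersion ((awnCover X).f U))
  have hR : HTop.IsAWNRing ((awnDiagram X).obj (.op U)) :=
    isAWNRing_of_isRingAWN (toAwn _) (isRingAWN_toAwn _)
  exact ⟨⟨j.opensRange, isAffineOpen_opensRange j⟩, ⟨y, hy⟩, isAWNRing_opensRange j hR⟩

variable {X}

theorem exists_iso_of_isAWNormalization {X₁ X₂ : Scheme.{u}} (ν₁ : X₁ ⟶ X) (ν₂ : X₂ ⟶ X)
    (h₁ : HTop.IsAWNormalization ν₁) (h₂ : HTop.IsAWNormalization ν₂) :
    ∃ e : X₁ ≅ X₂, e.hom ≫ ν₂ = ν₁ := by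
  obtain ⟨a, ha, -⟩ := h₁.2 X₂ ν₂ h₂.1
  obtain ⟨b, hb, -⟩ := h₂.2 X₁ ν₁ h₁.1
  refine ⟨⟨a, b, ?_, ?_⟩, ha⟩
  · exact (h₁.2 X₁ ν₁ h₁.1).unique (by rw [Category.assoc, hb, ha]) (Category.id_comp _)
  · exact (h₂.2 X₂ ν₂ h₂.1).unique (by rw [Category.assoc, ha, hb]) (Category.id_comp _)

theorem isAWNormalization_iso_comp {X' X'' : Scheme.{u}} (e : X'' ≅ X') (ν : X' ⟶ X)
    (hν : HTop.IsAWNormalization ν) : HTop.IsAWNormalization (e.hom ≫ ν) := by
  refine ⟨isUnivHomeo_comp _ _ (isUnivHomeo_of_isIso e.hom) hν.1, fun Y π hπ => ?_⟩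
  obtain ⟨h, hh, huniq⟩ := hν.2 Y π hπ
  refine ⟨e.hom ≫ h, by show (e.hom ≫ h) ≫ π = e.hom ≫ ν; rw [Category.assoc, hh],
    fun h'' hh'' => ?_⟩
  have hh3 : h'' ≫ π = e.hom ≫ ν := hh''
  have : e.inv ≫ h'' = h := huniq _ (by
    show (e.inv ≫ h'') ≫ π = ν
    rw [Category.assoc, hh3, Iso.inv_hom_id_assoc])
  rw [← this, Iso.hom_inv_id_assoc]

end Groth.Agent.R2.H32.AWNProps
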