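import Mathlib
import Groth.Prelude.Def_Rees

/-!
# helper86: the chart `D₊(aX)` of `Proj` of the Rees algebra (pure algebra, for PROJ:blowup I1)

For an ideal `I` of `A`, `a ∈ I`, `𝒜 = Rees.deg (reesAlgebra I)` and `aX = monomial 1 a`:

* `mon I n c hc` : the element `c Xⁿ` (`c ∈ Iⁿ`) of the Rees algebra; `aX I a ha = mon I 1 a _`;
  `mon_mem_deg`, `exists_eq_mon_of_mem_deg` (homogeneous elements of degree `n` are the `c Xⁿ`),
  `mon_mul_pow` : `c Xⁿ * aⁿ = c * (aX)ⁿ`.
* `toAway I a ha : A →+* Away 𝒜 (aX)` (through `𝒜 0`), `val_toAway`.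
* (a) `toAway_mem_nonZeroDivisors` : the image of `a` in `Away 𝒜 (aX)` is a nonzerodivisor;
  `map_toAway_eq_span` : `I · Away 𝒜 (aX) = (a)`.
* (b) `exists_reesLift` : for `φ : A →+* B` with `φ a` a nonzerodivisor and `φ a ∣ φ x` for all `x ∈ I`
  there is `ψ : reesAlgebra I →+* B` with `ψ (aX) = 1`, `ψ ∘ algebraMap = φ` (feed it to
  `Helper13ProjUP.exists_dehomLift`); `reesLift_unique`;
  `existsUnique_awayLift` : `∃! ψ : Away 𝒜 (aX) →+* B, ψ.comp (toAway I a ha) = φ`;
  `awayHom_ext` : ring homs out of `Away 𝒜 (aX)` into a ring where the image of `a` is a nonzerodivisor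
  are determined by their restriction to `A`.
-/

set_option autoImplicit false
universe u

open Polynomial HomogeneousLocalization

namespace Groth.Agent.R2.H86.ReesChart

variable {A : Type u} [CommRing A] (I : Ideal A)

/-- The monomial `c Xⁿ` (`c ∈ Iⁿ`) as an element of the Rees algebra. -/
noncomputable def mon (n : ℕ) (c : A) (hc : c ∈ I ^ n) : reesAlgebra I :=
  ⟨monomial n c, reesAlgebra.monomial_mem.mpr hc⟩

theorem coe_mon (n : ℕ) (c : A) (hc : c ∈ I ^ n) : ((mon I n c hc : reesAlgebra I) : A[X]) = monomial n c :=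
  rfl

theorem mon_mem_deg (n : ℕ) (c : A) (hc : c ∈ I ^ n) :
    mon I n c hc ∈ Rees.deg (reesAlgebra I) n := by
  intro m hm
  change (monomial n c).coeff m = 0
  have hm' : m ≠ n := hm
  rw [coeff_monomial, if_neg (Ne.symm hm')]

theorem exists_eq_mon_of_mem_deg (n : ℕ) (s : reesAlgebra I)
    (hs : s ∈ Rees.deg (reesAlgebra I) n) : ∃ (c : A) (hc : c ∈ I ^ n), s = mon I n c hc := by
  refine ⟨(s : A[X]).coeff n, s.2 n, Subtype.ext (Polynomial.ext fun m => ?_)⟩
  rw [coe_mon, coeff_monomial]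
  split_ifs with h
  · rw [h]
  · exact hs m (fun h' : m = n => h h'.symm)

/-- `a X` for `a ∈ I`. -/
noncomputable def aX (a : A) (ha : a ∈ I) : reesAlgebra I := mon I 1 a (by rwa [pow_one])

theorem coe_aX (a : A) (ha : a ∈ I) : ((aX I a ha : reesAlgebra I) : A[X]) = monomial 1 a := rfl

theorem aX_mem_deg (a : A) (ha : a ∈ I) : aX I a ha ∈ Rees.deg (reesAlgebra I) 1 :=
  mon_mem_deg I 1 a _

/-- key identity: `c Xⁿ * aⁿ = c * (a X)ⁿ` -/
theorem mon_mul_pow (a : A) (ha : a ∈ I) (n : ℕ) (c : A) (hc : c ∈ I ^ n) :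
    mon I n c hc * algebraMap A (reesAlgebra I) (a ^ n) =
      algebraMap A (reesAlgebra I) c * aX I a ha ^ n := by
  apply Subtype.ext
  rw [Subalgebra.coe_mul, Subalgebra.coe_mul, Subalgebra.coe_pow, coe_mon, coe_aX,
    Subalgebra.coe_algebraMap, Subalgebra.coe_algebraMap, Polynomial.algebraMap_apply,
    Polynomial.algebraMap_apply, Algebra.algebraMap_self, RingHom.id_apply, RingHom.id_apply,
    monomial_pow, one_mul, monomial_mul_C, C_mul_monomial]

variable (a : A) (ha : a ∈ I)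

/-- The structure map `A → Away 𝒜 (aX)` (through `𝒜 0`). -/
noncomputable def toAway : A →+* Away (Rees.deg (reesAlgebra I)) (aX I a ha) :=
  (algebraMap (Rees.deg (reesAlgebra I) 0) (Away (Rees.deg (reesAlgebra I)) (aX I a ha))).comp
    (algebraMap A (Rees.deg (reesAlgebra I) 0))

theorem val_toAway (r : A) :
    (toAway I a ha r).val =
      algebraMap (reesAlgebra I) (Localization.Away (aX I a ha)) (algebraMap A (reesAlgebra I) r) := by
  change (HomogeneousLocalization.mk _).val = _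
  rw [HomogeneousLocalization.val_mk]
  exact Localization.mk_one_eq_algebraMap _

/-- The fraction `c Xⁿ / (aX)ⁿ` of `Away 𝒜 (aX)`. -/
noncomputable def frac (n : ℕ) (c : A) (hc : c ∈ I ^ n) : Away (Rees.deg (reesAlgebra I)) (aX I a ha) :=
  Away.mk (Rees.deg (reesAlgebra I)) (aX_mem_deg I a ha) n (mon I n c hc)
    (by rw [smul_eq_mul, mul_one]; exact mon_mem_deg I n c hc)

theorem exists_eq_frac (z : Away (Rees.deg (reesAlgebra I)) (aX I a ha)) :
    ∃ (n : ℕ) (c : A) (hc : c ∈ I ^ n), z = frac I a ha n c hc := by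
  obtain ⟨n, s, hs, rfl⟩ := Away.mk_surjective (Rees.deg (reesAlgebra I)) (aX_mem_deg I a ha) z
  have hs' : s ∈ Rees.deg (reesAlgebra I) n := by rwa [smul_eq_mul, mul_one] at hs
  obtain ⟨c, hc, rfl⟩ := exists_eq_mon_of_mem_deg I n s hs'
  exact ⟨n, c, hc, rfl⟩

/-- `(c Xⁿ / (aX)ⁿ) * aⁿ = c` in `Away 𝒜 (aX)` (stated with `toAway (a ^ n)`: the `^` on
`HomogeneousLocalization` is a separate `Pow` instance, so `map_pow` does not fire syntactically). -/
theorem frac_mul_pow (n : ℕ) (c : A) (hc : c ∈ I ^ n) :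
    frac I a ha n c hc * toAway I a ha (a ^ n) = toAway I a ha c := by
  apply HomogeneousLocalization.val_injective
  rw [HomogeneousLocalization.val_mul, val_toAway, val_toAway,
    frac, Away.val_mk, Localization.mk_eq_mk', mul_comm,
    IsLocalization.mul_mk'_eq_mk'_of_mul, IsLocalization.mk'_eq_iff_eq_mul, ← map_mul,
    mul_comm _ (mon I n c hc), mon_mul_pow I a ha n c hc]

theorem frac_eq_zero_iff (n : ℕ) (c : A) (hc : c ∈ I ^ n) :
    frac I a ha n c hc = 0 ↔ ∃ m : ℕ, a ^ m * c = 0 := by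
  rw [HomogeneousLocalization.ext_iff_val, HomogeneousLocalization.val_zero, frac, Away.val_mk,
    Localization.mk_eq_mk', IsLocalization.mk'_eq_zero_iff]
  constructor
  · rintro ⟨⟨_, m, rfl⟩, hm⟩
    refine ⟨m, ?_⟩
    have h := congrArg (Subtype.val) hm
    rw [Subalgebra.coe_mul, Subalgebra.coe_pow, coe_aX, coe_mon, Subalgebra.coe_zero, monomial_pow,
      monomial_mul_monomial, monomial_eq_zero_iff] at h
    exact h
  · rintro ⟨m, hm⟩
    refine ⟨⟨aX I a ha ^ m, m, rfl⟩, Subtype.ext ?_⟩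
    rw [Subalgebra.coe_mul, Subalgebra.coe_pow, coe_aX, coe_mon, Subalgebra.coe_zero, monomial_pow,
      monomial_mul_monomial, hm, monomial_zero_right]

theorem frac_mul_toAway (n : ℕ) (c : A) (hc : c ∈ I ^ n) (r : A) :
    frac I a ha n c hc * toAway I a ha r = frac I a ha n (c * r) (Ideal.mul_mem_right _ _ hc) := by
  apply HomogeneousLocalization.val_injective
  rw [HomogeneousLocalization.val_mul, val_toAway, frac, frac, Away.val_mk, Away.val_mk,
    Localization.mk_eq_mk', mul_comm, IsLocalization.mul_mk'_eq_mk'_of_mul]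
  congr 1
  apply Subtype.ext
  rw [Subalgebra.coe_mul, coe_mon, coe_mon, Subalgebra.coe_algebraMap, Polynomial.algebraMap_apply,
    Algebra.algebraMap_self, RingHom.id_apply, C_mul_monomial, mul_comm]

/-- (a1) the image of `a` in `Away 𝒜 (aX)` is a nonzerodivisor. -/
theorem toAway_mem_nonZeroDivisors :
    toAway I a ha a ∈ nonZeroDivisors (Away (Rees.deg (reesAlgebra I)) (aX I a ha)) := by
  refine (mem_nonZeroDivisors_iff_right
    (M₀ := Away (Rees.deg (reesAlgebra I)) (aX I a ha))).mpr ?_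
  intro z hz
  obtain ⟨n, c, hc, rfl⟩ := exists_eq_frac I a ha z
  rw [frac_mul_toAway, frac_eq_zero_iff] at hz
  obtain ⟨m, hm⟩ := hz
  rw [frac_eq_zero_iff]
  exact ⟨m + 1, by rw [pow_succ, mul_assoc, mul_comm a c, hm]⟩

/-- (a2) `I · Away 𝒜 (aX) = (a)`. -/
theorem map_toAway_eq_span :
    I.map (toAway I a ha) = Ideal.span {toAway I a ha a} := by
  apply le_antisymm
  · rw [Ideal.map_le_iff_le_comap]
    intro x hx
    rw [Ideal.mem_comap, Ideal.mem_span_singleton']
    have hx1 : x ∈ I ^ 1 := by rwa [pow_one]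
    exact ⟨frac I a ha 1 x hx1, by
      have := frac_mul_pow I a ha 1 x hx1
      rwa [pow_one] at this⟩
  · rw [Ideal.span_le, Set.singleton_subset_iff]
    exact Ideal.mem_map_of_mem _ ha

section Lift

variable {B : Type*} [CommRing B] (φ : A →+* B)

omit ha in
theorem pow_dvd_of_mem_pow (hdiv : ∀ x ∈ I, φ a ∣ φ x) (n : ℕ) (c : A) (hc : c ∈ I ^ n) :
    φ a ^ n ∣ φ c := by
  have hmap : Ideal.map φ (I ^ n) ≤ Ideal.span {φ a ^ n} := by
    rw [Ideal.map_pow, ← Ideal.span_singleton_pow]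
    refine Ideal.pow_right_mono (Ideal.map_le_iff_le_comap.mpr fun x hx => ?_) n
    rw [Ideal.mem_comap]
    exact Ideal.mem_span_singleton.mpr (hdiv x hx)
  exact Ideal.mem_span_singleton.mp (hmap (Ideal.mem_map_of_mem φ hc))

/-- (b, Rees-algebra form) for `φ : A →+* B` with `φ a` a nonzerodivisor and `φ a ∣ φ x` for `x ∈ I` there is
a ring hom `ψ : reesAlgebra I →+* B` over `φ` with `ψ (aX) = 1`; moreover `ψ (c Xⁿ) * φ a ^ n = φ c`. -/
theorem exists_reesLift (hnzd : φ a ∈ nonZeroDivisors B) (hdiv : ∀ x ∈ I, φ a ∣ φ x) :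
    ∃ ψ : reesAlgebra I →+* B, ψ (aX I a ha) = 1 ∧ (∀ r, ψ (algebraMap A (reesAlgebra I) r) = φ r) ∧
      ∀ (n : ℕ) (c : A) (hc : c ∈ I ^ n), ψ (mon I n c hc) * φ a ^ n = φ c := by
  classical
  let L := Localization.Away (φ a)
  have hinj : Function.Injective (algebraMap B L) :=
    IsLocalization.injective L (Submonoid.powers_le.mpr hnzd)
  let inv : L := IsLocalization.Away.invSelf (φ a)
  have hinv : algebraMap B L (φ a) * inv = 1 := IsLocalization.Away.mul_invSelf (φ a)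
  let ev : A[X] →+* L := eval₂RingHom ((algebraMap B L).comp φ) inv
  have hmon : ∀ (n : ℕ) (c : A), c ∈ I ^ n →
      ∃ d : B, φ c = φ a ^ n * d ∧ ev (monomial n c) = algebraMap B L d := by
    intro n c hc
    obtain ⟨d, hd⟩ := pow_dvd_of_mem_pow I a φ hdiv n c hc
    refine ⟨d, hd, ?_⟩
    change eval₂ _ _ _ = _
    rw [eval₂_monomial, RingHom.comp_apply, hd, map_mul, map_pow, mul_comm _ (algebraMap B L d),
      mul_assoc, ← mul_pow, hinv, one_pow, mul_one]
  have hmem : ∀ p ∈ reesAlgebra I, ev p ∈ (algebraMap B L).range := by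
    intro p hp
    rw [p.as_sum_support, map_sum]
    refine Subring.sum_mem _ fun i _ => ?_
    obtain ⟨d, -, hd⟩ := hmon i (p.coeff i) (hp i)
    exact ⟨d, hd.symm⟩
  let e : B ≃+* (algebraMap B L).range :=
    RingEquiv.ofBijective (algebraMap B L).rangeRestrict
      ⟨fun x y hxy => hinj (congrArg Subtype.val hxy), (algebraMap B L).rangeRestrict_surjective⟩
  let ev' : reesAlgebra I →+* (algebraMap B L).range :=
    (ev.comp (reesAlgebra I).val.toRingHom).codRestrict _ (fun p => hmem p.1 p.2)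
  let ψ : reesAlgebra I →+* B := e.symm.toRingHom.comp ev'
  have hψ : ∀ p : reesAlgebra I, algebraMap B L (ψ p) = ev p.1 := by
    intro p
    have h1 : e (ψ p) = ev' p := e.apply_symm_apply (ev' p)
    exact congrArg Subtype.val h1
  refine ⟨ψ, hinj ?_, fun r => hinj ?_, fun n c hc => hinj ?_⟩
  · rw [hψ, coe_aX, map_one]
    change eval₂ _ _ _ = _
    rw [eval₂_monomial, RingHom.comp_apply, pow_one, hinv]
  · rw [hψ, Subalgebra.coe_algebraMap, Polynomial.algebraMap_apply, Algebra.algebraMap_self,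
      RingHom.id_apply]
    change eval₂ _ _ _ = _
    rw [eval₂_C, RingHom.comp_apply]
  · obtain ⟨d, hd, hev⟩ := hmon n c hc
    rw [map_mul, hψ, coe_mon, hev, ← map_mul, hd, mul_comm]

omit ha in
theorem eq_sum_mon (p : reesAlgebra I) :
    p = ∑ i ∈ (p : A[X]).support, mon I i ((p : A[X]).coeff i) (p.2 i) := by
  apply Subtype.ext
  rw [AddSubmonoidClass.coe_finsetSum]
  conv_lhs => rw [(p : A[X]).as_sum_support]
  rfl

theorem reesLift_mon_mul_pow (ψ : reesAlgebra I →+* B) (h1 : ψ (aX I a ha) = 1)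
    (hφ : ∀ r, ψ (algebraMap A (reesAlgebra I) r) = φ r) (n : ℕ) (c : A) (hc : c ∈ I ^ n) :
    ψ (mon I n c hc) * φ a ^ n = φ c := by
  rw [← map_pow, ← hφ, ← map_mul, mon_mul_pow I a ha n c hc, map_mul, map_pow, h1, one_pow, mul_one, hφ]

/-- uniqueness in (b), Rees-algebra form (only needs `φ a` nonzerodivisor). -/
theorem reesLift_unique (hnzd : φ a ∈ nonZeroDivisors B) (ψ₁ ψ₂ : reesAlgebra I →+* B)
    (h1 : ψ₁ (aX I a ha) = 1) (h2 : ψ₂ (aX I a ha) = 1)
    (hφ1 : ∀ r, ψ₁ (algebraMap A (reesAlgebra I) r) = φ r)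
    (hφ2 : ∀ r, ψ₂ (algebraMap A (reesAlgebra I) r) = φ r) : ψ₁ = ψ₂ := by
  ext p
  rw [eq_sum_mon I p, map_sum, map_sum]
  refine Finset.sum_congr rfl fun i _ => ?_
  have hn : φ a ^ i ∈ nonZeroDivisors B := pow_mem hnzd i
  rw [← mul_cancel_right_mem_nonZeroDivisors hn, reesLift_mon_mul_pow I a ha φ ψ₁ h1 hφ1,
    reesLift_mon_mul_pow I a ha φ ψ₂ h2 hφ2]

/-- ring homs out of `Away 𝒜 (aX)` into a ring in which the image of `a` is a nonzerodivisor are determined
by their restriction to `A`. -/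
theorem awayHom_ext (hnzd : φ a ∈ nonZeroDivisors B)
    (ψ₁ ψ₂ : Away (Rees.deg (reesAlgebra I)) (aX I a ha) →+* B)
    (h1 : ψ₁.comp (toAway I a ha) = φ) (h2 : ψ₂.comp (toAway I a ha) = φ) : ψ₁ = ψ₂ := by
  ext z
  obtain ⟨n, c, hc, rfl⟩ := exists_eq_frac I a ha z
  have hn : φ a ^ n ∈ nonZeroDivisors B := pow_mem hnzd n
  have key : ∀ ψ : Away (Rees.deg (reesAlgebra I)) (aX I a ha) →+* B, ψ.comp (toAway I a ha) = φ →
      ψ (frac I a ha n c hc) * φ a ^ n = φ c := by
    intro ψ h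
    have := congrArg ψ (frac_mul_pow I a ha n c hc)
    rw [map_mul] at this
    rw [← map_pow, ← h, RingHom.comp_apply, RingHom.comp_apply]
    exact this
  rw [← mul_cancel_right_mem_nonZeroDivisors hn, key ψ₁ h1, key ψ₂ h2]

/-- (b, existence) for `φ : A →+* B` with `φ a` a nonzerodivisor and `φ a ∣ φ x` for `x ∈ I` there is a ring hom
`Away 𝒜 (aX) →+* B` over `A`. -/
theorem exists_awayLift (hnzd : φ a ∈ nonZeroDivisors B) (hdiv : ∀ x ∈ I, φ a ∣ φ x) :
    ∃ ψ : Away (Rees.deg (reesAlgebra I)) (aX I a ha) →+* B, ψ.comp (toAway I a ha) = φ := by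
  obtain ⟨ψR, h1, hφ, -⟩ := exists_reesLift I a ha φ hnzd hdiv
  have hu : IsUnit (ψR (aX I a ha)) := h1 ▸ isUnit_one
  let l : Localization.Away (aX I a ha) →+* B := IsLocalization.Away.lift (aX I a ha) hu
  refine ⟨l.comp (algebraMap (Away (Rees.deg (reesAlgebra I)) (aX I a ha))
    (Localization.Away (aX I a ha))), ?_⟩
  ext r
  rw [RingHom.comp_apply, RingHom.comp_apply, HomogeneousLocalization.algebraMap_apply, val_toAway]
  exact (IsLocalization.Away.lift_eq (aX I a ha) hu _).trans (hφ r)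

/-- (b) the chart universal property: for `φ : A →+* B` with `φ a` a nonzerodivisor and `φ I ⊆ φ a B` there is
a unique ring hom `Away 𝒜 (aX) →+* B` over `A`. -/
theorem existsUnique_awayLift (hnzd : φ a ∈ nonZeroDivisors B) (hdiv : ∀ x ∈ I, φ a ∣ φ x) :
    ∃! ψ : Away (Rees.deg (reesAlgebra I)) (aX I a ha) →+* B, ψ.comp (toAway I a ha) = φ := by
  obtain ⟨ψ, hψ⟩ := exists_awayLift I a ha φ hnzd hdiv
  exact ⟨ψ, hψ, fun ψ' hψ' => awayHom_ext I a ha φ hnzd ψ' ψ hψ' hψ⟩

end Lift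

end Groth.Agent.R2.H86.ReesChart
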