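import Mathlib
import Groth.Agent.Lib.Helper13ProjUPa
import Groth.Agent.Lib.Helper13ProjQuotIdeal

/-!
# The charts of `Proj` of a Rees-like algebra (helper92)

`ReesLike I 𝒜 L`: the graded `R`-algebra `𝒜` behaves like the Rees algebra `⊕ Iⁿ` of the ideal `I`,
with `L a` playing the role of `a X` (`a ∈ I`).  For such an algebra, on the chart `D₊(L a)`:
* `dehom_c0_mem_nonZeroDivisors`: the image of `a` is a nonzerodivisor;
* `map_strMap_eq_span`: `I · Γ(D₊(L a)) = (a)`;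
* `chart_hom_ext`, `exists_chart_hom`: ring maps out of `Γ(D₊(L a))`.
-/

set_option autoImplicit false
universe u

open CategoryTheory AlgebraicGeometry HomogeneousLocalization nonZeroDivisors

namespace Groth.Agent.R2.H92.BlowAffA

open Groth.Agent.Helper13Dehom Groth.Agent.Helper13ProjUP Groth.Agent.Helper13ProjQuotIdeal

variable {R A : Type u} [CommRing R] [CommRing A] [Algebra R A] (I : Ideal R)
  (𝒜 : ℕ → Submodule R A) [GradedAlgebra 𝒜]

/-- the graded algebra `𝒜` behaves like the Rees algebra of `I`, with `L a = a X` -/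
structure ReesLike (L : I → A) : Prop where
  mem_one : ∀ a, L a ∈ 𝒜 1
  comm : ∀ a c : I, algebraMap R A c * L a = algebraMap R A a * L c
  mono : ∀ (n : ℕ) (s : A), s ∈ 𝒜 n → ∃ x ∈ I ^ n,
    ∀ a : I, s * algebraMap R A a ^ n = algebraMap R A x * L a ^ n
  tors : ∀ (a : I) (n : ℕ) (s : A), s ∈ 𝒜 n → ∀ e : ℕ,
    L a ^ e * (s * algebraMap R A a) = 0 → L a ^ (e + 1) * s = 0
  irr : ∀ n : ℕ, 0 < n → ∀ s ∈ 𝒜 n, s ∈ Ideal.span (Set.range L)
  lift : ∀ (a : I) (B : Type u) [CommRing B] (φ : R →+* B), φ a ∈ B⁰ →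
    (∀ c ∈ I, ∃ b, φ c = φ a * b) →
    ∃ Ψ : A →+* B, (∀ c, Ψ (algebraMap R A c) = φ c) ∧ Ψ (L a) = 1

variable {I 𝒜} {L : I → A} (hL : ReesLike I 𝒜 L) (a : I)

include hL

/-- `dehom s = 0` iff some power of `L a` kills `s` -/
theorem dehom_eq_zero_iff {n : ℕ} {s : A} (hs : s ∈ 𝒜 n) :
    dehom (hL.mem_one a) s = 0 ↔ ∃ e : ℕ, L a ^ e * s = 0 := by
  have hs' : s ∈ 𝒜 (n • 1) := by simpa using hs
  rw [dehom_eq_awayToSection (hL.mem_one a) hs',
    ← away_mk_eq_zero_iff (hL.mem_one a) n s hs']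
  constructor
  · intro h
    apply awayToSection_injective (hL.mem_one a)
    rw [h, map_zero]
  · intro h
    rw [h, map_zero]

/-- on `D₊(L a)`: `c = a · (L c/L a)` -/
theorem dehom_c0_eq (c : I) :
    dehom (hL.mem_one a) (algebraMap R A c) =
      dehom (hL.mem_one a) (algebraMap R A a) * dehom (hL.mem_one a) (L c) := by
  have h := congrArg (dehom (hL.mem_one a)) (hL.comm a c)
  rwa [map_mul, map_mul, dehom_self, mul_one] at h

/-- on `D₊(L a)`: every function times a power of `a` comes from `R` -/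
theorem exists_dehom_mul_pow {n : ℕ} {s : A} (hs : s ∈ 𝒜 n) :
    ∃ x ∈ I ^ n, dehom (hL.mem_one a) s * dehom (hL.mem_one a) (algebraMap R A a) ^ n =
      dehom (hL.mem_one a) (algebraMap R A x) := by
  obtain ⟨x, hx, h⟩ := hL.mono n s hs
  refine ⟨x, hx, ?_⟩
  have h' := congrArg (dehom (hL.mem_one a)) (h a)
  rwa [map_mul, map_mul, map_pow, map_pow, dehom_self, one_pow, mul_one] at h'

/-- on `D₊(L a)` the function `a` is a nonzerodivisor -/
theorem dehom_c0_mem_nonZeroDivisors :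
    dehom (hL.mem_one a) (algebraMap R A a) ∈ Γ(Proj 𝒜, Proj.basicOpen 𝒜 (L a))⁰ := by
  rw [mem_nonZeroDivisors_iff_right]
  intro r hr
  obtain ⟨j, s, hs, rfl⟩ := exists_dehom_eq (hL.mem_one a) r
  have hs' : s * algebraMap R A a ∈ 𝒜 (j + 0) :=
    SetLike.mul_mem_graded hs (SetLike.algebraMap_mem_graded 𝒜 _)
  have hr' : dehom (hL.mem_one a) (s * algebraMap R A a) = 0 := by
    rw [map_mul]; exact hr
  obtain ⟨e, he⟩ := (dehom_eq_zero_iff hL a hs').mp hr'
  exact (dehom_eq_zero_iff hL a hs).mpr ⟨e + 1, hL.tors a j s hs e he⟩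

/-- on `D₊(L a)`: `I · O = (a)` -/
theorem map_strMap_eq_span :
    I.map (strMap (hL.mem_one a)).hom = Ideal.span {dehom (hL.mem_one a) (algebraMap R A a)} := by
  apply le_antisymm
  · rw [Ideal.map_le_iff_le_comap]
    intro c hc
    rw [Ideal.mem_comap, strMap_apply]
    rw [dehom_c0_eq hL a ⟨c, hc⟩]
    exact Ideal.mul_mem_right _ _ (Ideal.mem_span_singleton_self _)
  · rw [Ideal.span_singleton_le_iff_mem]
    exact Ideal.mem_map_of_mem _ a.2

omit hL in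
theorem hom_ext_aux {C B : Type u} [CommRing C] [CommRing B] (ψ₁ ψ₂ : C →+* B)
    (r t cx : C) (j : ℕ) (key : r * t ^ j = cx) (ht : ψ₁ t = ψ₂ t) (hcx : ψ₁ cx = ψ₂ cx)
    (hnzd : ψ₁ t ∈ B⁰) : ψ₁ r = ψ₂ r := by
  have h1 : ψ₁ r * ψ₁ t ^ j = ψ₁ cx := by rw [← key, map_mul, map_pow]
  have h2 : ψ₂ r * ψ₁ t ^ j = ψ₁ cx := by rw [ht, hcx, ← key, map_mul, map_pow]
  exact (mul_cancel_right_mem_nonZeroDivisors (pow_mem hnzd j)).mp (h1.trans h2.symm)

/-- uniqueness of ring maps out of the chart -/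
theorem chart_hom_ext {B : Type u} [CommRing B]
    (ψ₁ ψ₂ : Γ(Proj 𝒜, Proj.basicOpen 𝒜 (L a)) →+* B)
    (h : ∀ c : R, ψ₁ (dehom (hL.mem_one a) (algebraMap R A c)) =
      ψ₂ (dehom (hL.mem_one a) (algebraMap R A c)))
    (hnzd : ψ₁ (dehom (hL.mem_one a) (algebraMap R A a)) ∈ B⁰) : ψ₁ = ψ₂ := by
  refine RingHom.ext fun r => ?_
  obtain ⟨j, s, hs, rfl⟩ := exists_dehom_eq (hL.mem_one a) r
  obtain ⟨x, -, key⟩ := exists_dehom_mul_pow hL a hs
  exact hom_ext_aux ψ₁ ψ₂ _ _ _ j key (h a) (h x) hnzd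

/-- existence of ring maps out of the chart -/
theorem exists_chart_hom {B : Type u} [CommRing B] (φ : R →+* B) (hnzd : φ a ∈ B⁰)
    (hdiv : ∀ c ∈ I, ∃ b, φ c = φ a * b) :
    ∃ ψ : Γ(Proj 𝒜, Proj.basicOpen 𝒜 (L a)) →+* B,
      ∀ c : R, ψ (dehom (hL.mem_one a) (algebraMap R A c)) = φ c := by
  obtain ⟨Ψ, hΨ1, h1⟩ := hL.lift a B φ hnzd hdiv
  obtain ⟨ψ, hψ⟩ := exists_dehomLift (hL.mem_one a) Ψ h1
  exact ⟨ψ, fun c => (hψ _).trans (hΨ1 c)⟩

omit hL in
/-- two generators of a principal ideal with a nonzerodivisor generator differ by a unit -/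
theorem exists_unit_of_span_eq {B : Type u} [CommRing B] {x f : B} (hf : f ∈ B⁰)
    (h : Ideal.span {x} = Ideal.span {f}) : ∃ c : Bˣ, x = f * c := by
  obtain ⟨c, hc⟩ := Ideal.mem_span_singleton'.mp (h ▸ Ideal.mem_span_singleton_self x)
  obtain ⟨d, hd⟩ := Ideal.mem_span_singleton'.mp (h.symm ▸ Ideal.mem_span_singleton_self f)
  have h1 : (c * d) * f = 1 * f := by
    rw [one_mul]
    calc c * d * f = d * (c * f) := by ring
      _ = f := by rw [hc, hd]
  have h2 : c * d = 1 := (mul_cancel_right_mem_nonZeroDivisors hf).mp h1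
  exact ⟨⟨c, d, h2, by rw [mul_comm]; exact h2⟩, by rw [← hc, mul_comm]⟩

omit hL in
/-- if `I·B = (f)` with `f` a nonzerodivisor then the cofactors `d`, `φ a = f d` (`a ∈ I`),
generate the unit ideal -/
theorem span_cofactors_eq_top {B : Type u} [CommRing B] (φ : R →+* B) (f : B) (hf : f ∈ B⁰)
    (h : I.map φ = Ideal.span {f}) : Ideal.span {d : B | ∃ a ∈ I, φ a = f * d} = ⊤ := by
  have h1 : I.map φ ≤ Ideal.span {f} * Ideal.span {d : B | ∃ a ∈ I, φ a = f * d} := by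
    rw [Ideal.map_le_iff_le_comap]
    intro a ha
    rw [Ideal.mem_comap]
    have h2 : φ a ∈ Ideal.span {f} := h ▸ Ideal.mem_map_of_mem φ ha
    obtain ⟨d, hd⟩ := Ideal.mem_span_singleton'.mp h2
    have hd' : φ a = f * d := by rw [← hd, mul_comm]
    rw [hd']
    exact Ideal.mul_mem_mul (Ideal.mem_span_singleton_self f)
      (Ideal.subset_span ⟨a, ha, hd'⟩)
  have h3 : f ∈ Ideal.span {f} * Ideal.span {d : B | ∃ a ∈ I, φ a = f * d} :=
    h1 (h ▸ Ideal.mem_span_singleton_self f)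
  obtain ⟨z, hz, hfz⟩ := Ideal.mem_span_singleton_mul.mp h3
  have h4 : z = 1 := by
    have : z * f = 1 * f := by rw [one_mul, mul_comm]; exact hfz
    exact (mul_cancel_right_mem_nonZeroDivisors hf).mp this
  rw [Ideal.eq_top_iff_one, ← h4]
  exact hz

/-- comparison of two charts: ring maps out of `D₊(L a)` and `D₊(L a')` into `B` inducing the same map
on `R`, under which `I·B` is generated by a nonzerodivisor, differ by the unit `u = L a'/L a` -/
theorem chart_compat {B : Type u} [CommRing B] (a' : I)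
    (α : Γ(Proj 𝒜, Proj.basicOpen 𝒜 (L a)) →+* B) (β : Γ(Proj 𝒜, Proj.basicOpen 𝒜 (L a')) →+* B)
    (hαβ : ∀ c : R, α (dehom (hL.mem_one a) (algebraMap R A c)) =
      β (dehom (hL.mem_one a') (algebraMap R A c)))
    (f : B) (hf : f ∈ B⁰)
    (hspan : I.map (α.comp (strMap (hL.mem_one a)).hom) = Ideal.span {f}) :
    ∃ u v : B, u * v = 1 ∧ α (dehom (hL.mem_one a) (L a')) = u ∧
      ∀ (d : ℕ) (s : A), s ∈ 𝒜 d →
        β (dehom (hL.mem_one a') s) = v ^ d * α (dehom (hL.mem_one a) s) := by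
  set φ : R →+* B := α.comp (strMap (hL.mem_one a)).hom with hφ
  have hφa : ∀ c, φ c = α (dehom (hL.mem_one a) (algebraMap R A c)) := fun c => rfl
  have hφ' : φ = β.comp (strMap (hL.mem_one a')).hom := RingHom.ext fun c => hαβ c
  have hφa' : ∀ c, φ c = β (dehom (hL.mem_one a') (algebraMap R A c)) := fun c => hαβ c
  have h1 : I.map φ = Ideal.span {φ a} := by
    rw [hφ, ← Ideal.map_map, map_strMap_eq_span hL a, Ideal.map_span, Set.image_singleton]
    rfl
  have h2 : I.map φ = Ideal.span {φ a'} := by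
    rw [hφ', ← Ideal.map_map, map_strMap_eq_span hL a', Ideal.map_span, Set.image_singleton]
    rfl
  obtain ⟨c₁, hc₁⟩ := exists_unit_of_span_eq hf (h1.symm.trans hspan)
  obtain ⟨c₂, hc₂⟩ := exists_unit_of_span_eq hf (h2.symm.trans hspan)
  have hnzd : φ a ∈ B⁰ := by
    rw [hc₁]
    exact mul_mem hf c₁.isUnit.mem_nonZeroDivisors
  have hu : φ a' = φ a * ((c₁⁻¹ : Bˣ) * c₂ : Bˣ) := by
    rw [hc₁, hc₂, Units.val_mul, mul_assoc, ← mul_assoc (c₁ : B), Units.mul_inv, one_mul]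
  have hα1 : α (dehom (hL.mem_one a) (L a')) = ((c₁⁻¹ : Bˣ) * c₂ : Bˣ) := by
    have h3 : φ a' = φ a * α (dehom (hL.mem_one a) (L a')) := by
      rw [hφa, hφa, dehom_c0_eq hL a a', map_mul]
    have h4 : α (dehom (hL.mem_one a) (L a')) * φ a = ((c₁⁻¹ : Bˣ) * c₂ : Bˣ) * φ a := by
      rw [mul_comm, ← h3, hu, mul_comm]
    exact (mul_cancel_right_mem_nonZeroDivisors hnzd).mp h4
  refine ⟨((c₁⁻¹ : Bˣ) * c₂ : Bˣ), ((c₂⁻¹ : Bˣ) * c₁ : Bˣ), ?_, hα1, ?_⟩
  · rw [← Units.val_mul]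
    simp
  · intro d s hs
    obtain ⟨x, -, hx⟩ := hL.mono d s hs
    have e1 : α (dehom (hL.mem_one a) s) * φ a ^ d = φ x := by
      have := congrArg (fun z => α (dehom (hL.mem_one a) z)) (hx a)
      simp only [map_mul, map_pow, dehom_self, one_pow, mul_one] at this
      rw [hφa, hφa]; exact this
    have e2 : β (dehom (hL.mem_one a') s) * φ a' ^ d = φ x := by
      have := congrArg (fun z => β (dehom (hL.mem_one a') z)) (hx a')
      simp only [map_mul, map_pow, dehom_self, one_pow, mul_one] at this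
      rw [hφa', hφa']; exact this
    have e3 : β (dehom (hL.mem_one a') s) * φ a ^ d =
        (((c₂⁻¹ : Bˣ) * c₁ : Bˣ) : B) ^ d * α (dehom (hL.mem_one a) s) * φ a ^ d := by
      have e4 : (((c₂⁻¹ : Bˣ) * c₁ : Bˣ) : B) ^ d * (((c₁⁻¹ : Bˣ) * c₂ : Bˣ) : B) ^ d = 1 := by
        rw [← mul_pow, ← Units.val_mul]
        simp
      calc β (dehom (hL.mem_one a') s) * φ a ^ d
          = β (dehom (hL.mem_one a') s) * φ a ^ d *
              ((((c₂⁻¹ : Bˣ) * c₁ : Bˣ) : B) ^ d * (((c₁⁻¹ : Bˣ) * c₂ : Bˣ) : B) ^ d) := by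
            rw [e4, mul_one]
        _ = (((c₂⁻¹ : Bˣ) * c₁ : Bˣ) : B) ^ d *
              (β (dehom (hL.mem_one a') s) * (φ a * (((c₁⁻¹ : Bˣ) * c₂ : Bˣ) : B)) ^ d) := by
            rw [mul_pow]; ring
        _ = (((c₂⁻¹ : Bˣ) * c₁ : Bˣ) : B) ^ d * φ x := by rw [← hu, e2]
        _ = (((c₂⁻¹ : Bˣ) * c₁ : Bˣ) : B) ^ d * α (dehom (hL.mem_one a) s) * φ a ^ d := by
            rw [← e1]; ring
    exact (mul_cancel_right_mem_nonZeroDivisors (pow_mem hnzd d)).mp e3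

end Groth.Agent.R2.H92.BlowAffA
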