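import Mathlib
import Groth.Prelude.Def_Rees
import Groth.Agent.R2.H92BlowAffA
import Groth.Agent.R2.H86ReesChart

/-!
# The Rees algebra is Rees-like (helper92)

`reesLike I : ReesLike I (Rees.deg (reesAlgebra I)) (fun a => lin I a a.2)`.
-/

set_option autoImplicit false
universe u

open Polynomial nonZeroDivisors

namespace Groth.Agent.R2.H92.BlowAffB

open Groth.Agent.R2.H92.BlowAffA

variable {R : Type u} [CommRing R] (I : Ideal R)

/-- the grading of the Rees algebra -/
noncomputable abbrev gr : ℕ → Submodule R (reesAlgebra I) := Rees.deg (reesAlgebra I)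

/-- the element `x Xⁿ` of the Rees algebra, `x ∈ Iⁿ` -/
noncomputable def mono (n : ℕ) (x : R) (hx : x ∈ I ^ n) : reesAlgebra I :=
  ⟨monomial n x, reesAlgebra.monomial_mem.mpr hx⟩

theorem mono_mem (n : ℕ) (x : R) (hx : x ∈ I ^ n) : mono I n x hx ∈ gr I n := by
  intro m hm
  change (monomial n x).coeff m = 0
  rw [coeff_monomial]
  exact if_neg fun h => hm h.symm

/-- every homogeneous element of degree `n` is `x Xⁿ` -/
theorem exists_eq_mono {n : ℕ} {s : reesAlgebra I} (hs : s ∈ gr I n) :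
    ∃ (x : R) (hx : x ∈ I ^ n), s = mono I n x hx := by
  refine ⟨(s : R[X]).coeff n, s.2 n, Subtype.ext (Polynomial.ext fun m => ?_)⟩
  change _ = (monomial n ((s : R[X]).coeff n)).coeff m
  rw [coeff_monomial]
  split_ifs with h
  · rw [h]
  · exact hs m (Ne.symm h)

/-- the element `a X`, `a ∈ I` -/
noncomputable def lin (a : R) (ha : a ∈ I) : reesAlgebra I := mono I 1 a (by rwa [pow_one])

theorem lin_mem (a : R) (ha : a ∈ I) : lin I a ha ∈ gr I 1 := mono_mem I 1 a _

theorem coe_c0 (c : R) : ((algebraMap R (reesAlgebra I) c : reesAlgebra I) : R[X]) = C c := rfl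

theorem coe_mono (n : ℕ) (x : R) (hx : x ∈ I ^ n) : ((mono I n x hx : reesAlgebra I) : R[X]) =
    monomial n x := rfl

theorem coe_lin (a : R) (ha : a ∈ I) : ((lin I a ha : reesAlgebra I) : R[X]) = monomial 1 a := rfl

/-- `c · aX = a · cX` -/
theorem c0_mul_lin (a c : R) (ha : a ∈ I) (hc : c ∈ I) :
    algebraMap R (reesAlgebra I) c * lin I a ha = algebraMap R (reesAlgebra I) a * lin I c hc := by
  apply Subtype.ext
  rw [Subalgebra.coe_mul, Subalgebra.coe_mul, coe_c0, coe_c0, coe_lin, coe_lin, C_mul_monomial,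
    C_mul_monomial, mul_comm]

/-- `xXⁿ · aⁿ = x · (aX)ⁿ` -/
theorem mono_mul_c0_pow (a : R) (ha : a ∈ I) (n : ℕ) (x : R) (hx : x ∈ I ^ n) :
    mono I n x hx * algebraMap R (reesAlgebra I) a ^ n =
      algebraMap R (reesAlgebra I) x * lin I a ha ^ n := by
  apply Subtype.ext
  rw [Subalgebra.coe_mul, Subalgebra.coe_mul, Subalgebra.coe_pow, Subalgebra.coe_pow, coe_c0,
    coe_c0, coe_lin, coe_mono, monomial_pow, ← C_pow, C_mul_monomial, one_mul, monomial_mul_C]

/-- if `(aX)^e · a · s = 0` then `(aX)^(e+1) · s = 0` -/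
theorem lin_pow_succ_mul_eq_zero (a : R) (ha : a ∈ I) {n : ℕ} {s : reesAlgebra I}
    (hs : s ∈ gr I n) (e : ℕ) (h : lin I a ha ^ e * (s * algebraMap R (reesAlgebra I) a) = 0) :
    lin I a ha ^ (e + 1) * s = 0 := by
  obtain ⟨x, hx, rfl⟩ := exists_eq_mono I hs
  have h1 := congrArg (fun p : reesAlgebra I => (p : R[X])) h
  simp only [Subalgebra.coe_mul, Subalgebra.coe_pow, coe_lin, coe_mono, coe_c0,
    Subalgebra.coe_zero, monomial_pow] at h1
  rw [mul_comm (monomial n x) (C a), C_mul_monomial, monomial_mul_monomial,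
    monomial_eq_zero_iff] at h1
  apply Subtype.ext
  simp only [Subalgebra.coe_mul, Subalgebra.coe_pow, coe_lin, coe_mono, Subalgebra.coe_zero,
    monomial_pow, monomial_mul_monomial]
  rw [monomial_eq_zero_iff, pow_succ, mul_assoc]
  exact h1

/-- elements of positive degree lie in the ideal generated by the `aX` -/
theorem mem_span_lin {n : ℕ} (hn : 0 < n) {s : reesAlgebra I} (hs : s ∈ gr I n) :
    s ∈ Ideal.span (Set.range fun a : I => lin I a a.2) := by
  obtain ⟨x, hx, rfl⟩ := exists_eq_mono I hs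
  obtain ⟨m, rfl⟩ := Nat.exists_eq_succ_of_ne_zero hn.ne'
  have key : ∀ x ∈ I ^ (m + 1), ∃ p ∈ Ideal.span (Set.range fun a : I => lin I a a.2),
      ((p : reesAlgebra I) : R[X]) = monomial (m + 1) x := by
    intro x hx
    rw [pow_succ] at hx
    refine Submodule.mul_induction_on hx ?_ ?_
    · intro y hy c hc
      refine ⟨mono I m y hy * lin I c hc, Ideal.mul_mem_left _ _
        (Ideal.subset_span ⟨⟨c, hc⟩, rfl⟩), ?_⟩
      rw [Subalgebra.coe_mul, coe_mono, coe_lin, monomial_mul_monomial]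
    · rintro y z ⟨p, hp, hpy⟩ ⟨q, hq, hqz⟩
      exact ⟨p + q, Ideal.add_mem _ hp hq, by rw [Subalgebra.coe_add, hpy, hqz, map_add]⟩
  obtain ⟨p, hp, hpx⟩ := key x hx
  have : mono I (m + 1) x hx = p := Subtype.ext hpx.symm
  rw [this]
  exact hp

/-- the Rees algebra is Rees-like -/
theorem reesLike : ReesLike I (gr I) (fun a : I => lin I a a.2) where
  mem_one a := lin_mem I a a.2
  comm a c := c0_mul_lin I a c a.2 c.2
  mono n s hs := by
    obtain ⟨x, hx, rfl⟩ := exists_eq_mono I hs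
    exact ⟨x, hx, fun a => mono_mul_c0_pow I a a.2 n x hx⟩
  tors a n s hs e h := lin_pow_succ_mul_eq_zero I a a.2 hs e h
  irr n hn s hs := mem_span_lin I hn hs
  lift a B _ φ hnzd hdiv := by
    obtain ⟨ψ, h1, h2, -⟩ := Groth.Agent.R2.H86.ReesChart.exists_reesLift I a a.2 φ hnzd
      (fun x hx => by obtain ⟨b, hb⟩ := hdiv x hx; exact ⟨b, hb⟩)
    exact ⟨ψ, h2, h1⟩

end Groth.Agent.R2.H92.BlowAffB
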