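import Mathlib
import Groth.Prelude.Def_BlowUp2
import Groth.Agent.Lib.Helper20BlowUp

/-!
# Blowing up a disjoint union of centres (helper82)

Namespace `Groth.Agent.R2.H82.BlowUpDisjoint`.
* `EffCartierAt K y` : pointwise version of `BlowUp.IsEffCartierIdeal`
* `effCartierAt_of_comap_openImmersion`, `isEffCartierIdeal_comap_openImmersion`
* `isEffCartierIdeal_of_mul_of_sup_eq_top`
* `inf_eq_mul_of_sup_eq_top`
* `isEffCartierIdeal_comap_of_isPullback`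
* `exists_iso_pullback` : main result
-/

set_option autoImplicit false
universe u
open CategoryTheory CategoryTheory.Limits AlgebraicGeometry nonZeroDivisors

namespace Groth.Agent.R2.H82.BlowUpDisjoint

open Scheme.IdealSheafData
open Groth.Agent.Lib.Helper20

/-- pointwise effective Cartier condition. -/
def EffCartierAt {Y : Scheme.{u}} (K : Y.IdealSheafData) (y : Y) : Prop :=
  ∃ U : Y.affineOpens, y ∈ U.1 ∧ ∃ f : Γ(Y, U.1), f ∈ Γ(Y, U.1)⁰ ∧ K.ideal U = Ideal.span {f}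

theorem isEffCartierIdeal_iff {Y : Scheme.{u}} (K : Y.IdealSheafData) :
    BlowUp.IsEffCartierIdeal K ↔ ∀ y, EffCartierAt K y := Iff.rfl

theorem map_mem_nonZeroDivisors_of_iso {R S : CommRingCat.{u}} (e : R ≅ S) (a : R) (ha : a ∈ R⁰) :
    e.hom.hom a ∈ S⁰ := by
  rw [mem_nonZeroDivisors_iff_right] at ha ⊢
  intro x hx
  have h1 : e.inv.hom x * a = 0 := by
    have h2 := congrArg e.inv.hom hx
    rw [map_mul, map_zero] at h2
    have h3 : e.inv.hom (e.hom.hom a) = a := by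
      rw [← CommRingCat.comp_apply, Iso.hom_inv_id]; rfl
    rwa [h3] at h2
  have h4 := congrArg e.hom.hom (ha _ h1)
  rw [map_zero] at h4
  have h5 : e.hom.hom (e.inv.hom x) = x := by
    rw [← CommRingCat.comp_apply, Iso.inv_hom_id]; rfl
  rwa [h5] at h4

theorem effCartierAt_of_comap_openImmersion {Y' Y : Scheme.{u}} (j : Y' ⟶ Y) [IsOpenImmersion j]
    (K : Y.IdealSheafData) (y' : Y') (h : EffCartierAt (K.comap j) y') : EffCartierAt K (j y') := by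
  obtain ⟨U', hy', f', hf', hK⟩ := h
  refine ⟨⟨j ''ᵁ U'.1, U'.2.image_of_isOpenImmersion j⟩, ⟨y', hy', rfl⟩,
    (j.appIso U'.1).inv.hom f', map_mem_nonZeroDivisors_of_iso (j.appIso U'.1).symm f' hf', ?_⟩
  have h1 := ideal_comap_of_isOpenImmersion K j U'
  rw [EffCartier.comap_iso_hom_eq_map_inv, hK] at h1
  have h2 := congrArg (Ideal.map (j.appIso U'.1).inv.hom) h1
  rw [Ideal.map_span, Set.image_singleton, Ideal.map_map] at h2
  rw [h2]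
  have : (j.appIso U'.1).inv.hom.comp (j.appIso U'.1).hom.hom = RingHom.id _ := by
    rw [← CommRingCat.hom_comp, Iso.hom_inv_id]; rfl
  rw [this, Ideal.map_id]

theorem isEffCartierIdeal_comap_openImmersion {Y' Y : Scheme.{u}} (j : Y' ⟶ Y) [IsOpenImmersion j]
    (K : Y.IdealSheafData) (h : BlowUp.IsEffCartierIdeal K) :
    BlowUp.IsEffCartierIdeal (K.comap j) := by
  intro y'
  obtain ⟨U, hU, hyU, hUr, f, hf, hK⟩ :=
    EffCartier.exists_le_of_isEffCartierIdeal h (j y') j.opensRange ⟨y', rfl⟩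
  have hU' : IsAffineOpen (j ⁻¹ᵁ U) := hU.preimage_of_isOpenImmersion j hUr
  have : IsIso (j.app U) := j.isIso_app U hUr
  refine ⟨⟨j ⁻¹ᵁ U, hU'⟩, hyU, (j.app U).hom f,
    map_mem_nonZeroDivisors_of_iso (asIso (j.app U)) f hf, ?_⟩
  rw [EffCartier.ideal_comap_eq_map j K hU' hU le_rfl, hK, Ideal.map_span, Set.image_singleton,
    Scheme.Hom.appLE_eq_app]

theorem effCartierAt_of_comap_ι {Y : Scheme.{u}} (K : Y.IdealSheafData) (W : Y.Opens) (y : Y)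
    (hy : y ∈ W) (h : BlowUp.IsEffCartierIdeal (K.comap W.ι)) : EffCartierAt K y :=
  effCartierAt_of_comap_openImmersion W.ι K ⟨y, hy⟩ (h ⟨y, hy⟩)

theorem mem_compl_or_of_sup_eq_top {X : Scheme.{u}} {I₁ I₂ : X.IdealSheafData} (h : I₁ ⊔ I₂ = ⊤)
    (x : X) : x ∈ BlowUpBasic.compl I₁ ∨ x ∈ BlowUpBasic.compl I₂ := by
  by_contra hc
  have h1 : x ∈ I₁.support := by
    by_contra h'; exact hc (Or.inl h')
  have h2 : x ∈ I₂.support := by
    by_contra h'; exact hc (Or.inr h')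
  have h3 : x ∈ (I₁ ⊔ I₂).support := by
    rw [support_sup]; exact ⟨h1, h2⟩
  rw [h, support_top] at h3
  exact h3

/-- if a product of two comaximal ideal sheaves is effective Cartier, so is the first factor. -/
theorem isEffCartierIdeal_of_mul_of_sup_eq_top {X : Scheme.{u}} {J₁ J₂ : X.IdealSheafData}
    (h : J₁ ⊔ J₂ = ⊤) (hm : BlowUp.IsEffCartierIdeal (J₁ * J₂)) : BlowUp.IsEffCartierIdeal J₁ := by
  intro x
  rcases mem_compl_or_of_sup_eq_top h x with hx | hx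
  · refine effCartierAt_of_comap_ι J₁ _ x hx ?_
    rw [BlowUpBasic.comap_ι_compl]
    exact BlowUpBasic.isEffCartierIdeal_top
  · refine effCartierAt_of_comap_ι J₁ _ x hx ?_
    have h1 := isEffCartierIdeal_comap_openImmersion (BlowUpBasic.compl J₂).ι _ hm
    rwa [BlowUpBasic.comap_mul, BlowUpBasic.comap_ι_compl, mul_top] at h1

theorem inf_eq_mul_of_sup_eq_top {X : Scheme.{u}} {I₁ I₂ : X.IdealSheafData} (h : I₁ ⊔ I₂ = ⊤) :
    I₁ ⊓ I₂ = I₁ * I₂ := by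
  ext U : 2
  rw [ideal_inf, ideal_mul]
  have h1 : I₁.ideal U ⊔ I₂.ideal U = ⊤ := by
    have := congrArg (fun I => ideal I U) h
    simpa using this
  exact (Ideal.mul_eq_inf_of_isCoprime (Ideal.isCoprime_iff_sup_eq.2 h1)).symm

theorem comap_sup_eq_top {X Y : Scheme.{u}} {I₁ I₂ : X.IdealSheafData} (h : I₁ ⊔ I₂ = ⊤)
    (g : Y ⟶ X) : I₁.comap g ⊔ I₂.comap g = ⊤ := by
  rw [← comap_sup, h, comap_top]

/-- base change of a morphism which is an isomorphism over `W`: restricted over `W` it is an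
open immersion. -/
theorem isOpenImmersion_ι_comp {X B₁ C Q : Scheme.{u}} {a : Q ⟶ B₁} {c : Q ⟶ C} {σ₁ : B₁ ⟶ X}
    {τ : C ⟶ X} (hP : IsPullback a c σ₁ τ) (W : X.Opens) [IsIso (τ ∣_ W)] :
    IsOpenImmersion ((a ⁻¹ᵁ (σ₁ ⁻¹ᵁ W)).ι ≫ a) := by
  set U := σ₁ ⁻¹ᵁ W with hU
  have s1 : IsPullback (a ∣_ U) ((a ⁻¹ᵁ U).ι ≫ c) (U.ι ≫ σ₁) τ :=
    (isPullback_morphismRestrict a U).paste_vert hP
  have t : IsPullback (τ ∣_ W) (τ ⁻¹ᵁ W).ι W.ι τ := isPullback_morphismRestrict τ W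
  have hw : ((a ∣_ U) ≫ (σ₁ ∣_ W)) ≫ W.ι = ((a ⁻¹ᵁ U).ι ≫ c) ≫ τ := by
    rw [Category.assoc, morphismRestrict_ι, ← Category.assoc, morphismRestrict_ι, Category.assoc,
      Category.assoc, hP.w]
  let l := t.lift ((a ∣_ U) ≫ (σ₁ ∣_ W)) ((a ⁻¹ᵁ U).ι ≫ c) hw
  have hl1 : l ≫ (τ ∣_ W) = (a ∣_ U) ≫ (σ₁ ∣_ W) := t.lift_fst _ _ _
  have hl2 : l ≫ (τ ⁻¹ᵁ W).ι = (a ⁻¹ᵁ U).ι ≫ c := t.lift_snd _ _ _
  have s2 : IsPullback (a ∣_ U) (l ≫ (τ ⁻¹ᵁ W).ι) ((σ₁ ∣_ W) ≫ W.ι) τ := by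
    rw [hl2, morphismRestrict_ι]; exact s1
  have s3 : IsPullback (a ∣_ U) l (σ₁ ∣_ W) (τ ∣_ W) := IsPullback.of_bot s2 hl1.symm t
  have : IsIso (a ∣_ U) := s3.isIso_fst_of_isIso
  rw [← morphismRestrict_ι]
  infer_instance

/-- **Key lemma**: if `σ₁` makes `I₁` effective Cartier and `τ` is an isomorphism away from the
support of `I₂`, with `I₁`, `I₂` comaximal, then `I₁` stays effective Cartier on `B₁ ×_X C`. -/
theorem isEffCartierIdeal_comap_of_isPullback {X B₁ C Q : Scheme.{u}} {I₁ I₂ : X.IdealSheafData}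
    (h : I₁ ⊔ I₂ = ⊤) {a : Q ⟶ B₁} {c : Q ⟶ C} {σ₁ : B₁ ⟶ X} {τ : C ⟶ X}
    (hP : IsPullback a c σ₁ τ) (h₁ : BlowUp.IsEffCartierIdeal (I₁.comap σ₁))
    [IsIso (τ ∣_ BlowUpBasic.compl I₂)] : BlowUp.IsEffCartierIdeal (I₁.comap (a ≫ σ₁)) := by
  intro q
  rcases mem_compl_or_of_sup_eq_top h ((a ≫ σ₁) q) with hx | hx
  · refine effCartierAt_of_comap_ι _ ((a ≫ σ₁) ⁻¹ᵁ BlowUpBasic.compl I₁) q hx ?_
    rw [← comap_comp, BlowUpBasic.comap_eq_top_of_le]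
    · exact BlowUpBasic.isEffCartierIdeal_top
    · intro y; exact y.2
  · refine effCartierAt_of_comap_ι _ (a ⁻¹ᵁ (σ₁ ⁻¹ᵁ BlowUpBasic.compl I₂)) q hx ?_
    rw [← comap_comp, ← Category.assoc, comap_comp]
    have := isOpenImmersion_ι_comp hP (BlowUpBasic.compl I₂)
    exact isEffCartierIdeal_comap_openImmersion _ _ h₁

/-- **Main result**: the blow-up in the intersection of two comaximal ideal sheaves is the fibre
product of the two blow-ups. -/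
theorem exists_iso_pullback {X B B₁ B₂ : Scheme.{u}} (I₁ I₂ : X.IdealSheafData)
    (hdisj : I₁ ⊔ I₂ = ⊤) (σ : B ⟶ X) (hσ : BlowUp.IsBlowUp σ (I₁ ⊓ I₂))
    (σ₁ : B₁ ⟶ X) (hσ₁ : BlowUp.IsBlowUp σ₁ I₁) (σ₂ : B₂ ⟶ X) (hσ₂ : BlowUp.IsBlowUp σ₂ I₂) :
    ∃ ι : B ⟶ pullback σ₁ σ₂, IsIso ι ∧ ι ≫ pullback.fst σ₁ σ₂ ≫ σ₁ = σ := by
  rw [inf_eq_mul_of_sup_eq_top hdisj] at hσ
  -- the two factors are effective Cartier on `B`
  have hE := hσ.1
  rw [BlowUpBasic.comap_mul] at hE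
  have hE₁ : BlowUp.IsEffCartierIdeal (I₁.comap σ) :=
    isEffCartierIdeal_of_mul_of_sup_eq_top (comap_sup_eq_top hdisj σ) hE
  have hE₂ : BlowUp.IsEffCartierIdeal (I₂.comap σ) := by
    rw [mul_comm] at hE
    exact isEffCartierIdeal_of_mul_of_sup_eq_top
      (by rw [sup_comm]; exact comap_sup_eq_top hdisj σ) hE
  obtain ⟨h₁, hh₁, -⟩ := hσ₁.2 B σ hE₁
  obtain ⟨h₂, hh₂, -⟩ := hσ₂.2 B σ hE₂
  -- the fibre product
  set π : pullback σ₁ σ₂ ⟶ X := pullback.fst σ₁ σ₂ ≫ σ₁ with hπ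
  have hπ' : π = pullback.snd σ₁ σ₂ ≫ σ₂ := pullback.condition
  have : IsIso (σ₂ ∣_ BlowUpBasic.compl I₂) := BlowUpBasic.isIso_morphismRestrict I₂ σ₂ hσ₂
  have : IsIso (σ₁ ∣_ BlowUpBasic.compl I₁) := BlowUpBasic.isIso_morphismRestrict I₁ σ₁ hσ₁
  have hP₁ : BlowUp.IsEffCartierIdeal (I₁.comap π) :=
    isEffCartierIdeal_comap_of_isPullback hdisj (IsPullback.of_hasPullback σ₁ σ₂) hσ₁.1
  have hP₂ : BlowUp.IsEffCartierIdeal (I₂.comap π) := by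
    rw [hπ']
    exact isEffCartierIdeal_comap_of_isPullback (by rw [sup_comm]; exact hdisj)
      (IsPullback.of_hasPullback σ₁ σ₂).flip hσ₂.1
  have hP : BlowUp.IsEffCartierIdeal ((I₁ * I₂).comap π) := by
    rw [BlowUpBasic.comap_mul]
    exact BlowUpBasic.isEffCartierIdeal_mul hP₁ hP₂
  obtain ⟨k, hk, -⟩ := hσ.2 _ π hP
  refine ⟨pullback.lift h₁ h₂ (hh₁.trans hh₂.symm), ⟨k, ?_, ?_⟩, ?_⟩
  · -- `ι ≫ k = 𝟙 B`
    obtain ⟨u, -, hu⟩ := hσ.2 B σ hσ.1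
    rw [hu (pullback.lift h₁ h₂ (hh₁.trans hh₂.symm) ≫ k)
      (by change (_ ≫ k) ≫ σ = σ; rw [Category.assoc, hk, hπ, pullback.lift_fst_assoc, hh₁]),
      hu (𝟙 B) (Category.id_comp σ)]
  · -- `k ≫ ι = 𝟙 P`
    apply pullback.hom_ext
    · rw [Category.assoc, pullback.lift_fst, Category.id_comp]
      obtain ⟨u, -, hu⟩ := hσ₁.2 _ π hP₁
      rw [hu (k ≫ h₁) (by change (k ≫ h₁) ≫ σ₁ = π; rw [Category.assoc, hh₁, hk]),
        hu (pullback.fst σ₁ σ₂) rfl]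
    · rw [Category.assoc, pullback.lift_snd, Category.id_comp]
      obtain ⟨u, -, hu⟩ := hσ₂.2 _ π hP₂
      rw [hu (k ≫ h₂) (by change (k ≫ h₂) ≫ σ₂ = π; rw [Category.assoc, hh₂, hk]),
        hu (pullback.snd σ₁ σ₂) hπ'.symm]
  · rw [pullback.lift_fst_assoc, hh₁]

end Groth.Agent.R2.H82.BlowUpDisjoint
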