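import Mathlib
import Groth.Prelude.Def_BlowUp2
import Groth.Agent.Lib.Helper20EffCartier
import Groth.Agent.R2.H82BlowUpDisjoint
import Groth.Agent.R2.H92BlowAffA

/-!
# `Proj` of a Rees-like algebra is the blow-up (helper92)

For an affine scheme `T`, an ideal sheaf `J` with ideal of global sections `I`, and a graded
`Γ(T, ⊤)`-algebra `𝒜` that is Rees-like for `I`, the morphism `bl : Proj 𝒜 ⟶ T` is a blowing up
of `T` in `J` (`isBlowUp_bl`).
-/

set_option autoImplicit false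
universe u

open CategoryTheory CategoryTheory.Limits AlgebraicGeometry HomogeneousLocalization nonZeroDivisors

namespace Groth.Agent.R2.H92.BlowAffC

open Groth.Agent.Helper13Dehom Groth.Agent.Helper13ProjUP Groth.Agent.Helper13AffMor
  Groth.Agent.R2.H92.BlowAffA Groth.Agent.Lib.Helper20

variable {T : Scheme.{u}} [IsAffine T] (J : T.IdealSheafData)

/-- the ideal of global sections -/
noncomputable abbrev topIdeal : Ideal Γ(T, ⊤) := J.ideal ⟨⊤, isAffineOpen_top T⟩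

omit [IsAffine T] in
theorem le_pre_top {Y : Scheme.{u}} (g : Y ⟶ T) (V : Y.Opens) : V ≤ g ⁻¹ᵁ ⊤ := fun _ _ => trivial

theorem ideal_comap_eq {Y : Scheme.{u}} (g : Y ⟶ T) {V : Y.Opens} (hV : IsAffineOpen V) :
    (J.comap g).ideal ⟨V, hV⟩ = (topIdeal J).map (g.appLE ⊤ V (le_pre_top g V)).hom :=
  EffCartier.ideal_comap_eq_map g J hV (isAffineOpen_top T) (le_pre_top g V)

variable {A : Type u} [CommRing A] [Algebra Γ(T, ⊤) A] (𝒜 : ℕ → Submodule Γ(T, ⊤) A)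
  [GradedAlgebra 𝒜]

/-- the structure morphism `Proj 𝒜 ⟶ T` -/
noncomputable def bl : Proj 𝒜 ⟶ T := toBase 𝒜 ≫ (isAffineOpen_top T).fromSpec

variable {J 𝒜} {L : topIdeal J → A} (hL : ReesLike (topIdeal J) 𝒜 L)

include hL

theorem bl_appLE (a : topIdeal J) :
    (bl 𝒜).appLE ⊤ (Proj.basicOpen 𝒜 (L a)) (le_pre_top _ _) = strMap (hL.mem_one a) := by
  have h1 := IsAffineOpen.SpecMap_appLE_fromSpec (bl 𝒜) (isAffineOpen_top T)
    (isAffineOpen_basicOpen (hL.mem_one a)) (le_pre_top _ _)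
  rw [bl, ← Category.assoc, fromSpec_toBase (hL.mem_one a), cancel_mono] at h1
  exact Spec.map_injective h1

theorem exists_mem_basicOpen (x : Proj 𝒜) : ∃ a : topIdeal J, x ∈ Proj.basicOpen 𝒜 (L a) := by
  by_contra! H
  refine x.not_irrelevant_le ?_
  change (HomogeneousIdeal.irrelevant 𝒜).toIdeal ≤ x.asHomogeneousIdeal.toIdeal
  have h1 : Ideal.span (Set.range L) ≤ x.asHomogeneousIdeal.toIdeal := by
    rw [Ideal.span_le]
    rintro _ ⟨a, rfl⟩
    have := H a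
    rw [Proj.mem_basicOpen, not_not] at this
    exact this
  rw [HomogeneousIdeal.toIdeal_irrelevant_le]
  intro i hi s hs
  exact h1 (hL.irr i hi s hs)

theorem ideal_comap_bl (a : topIdeal J) :
    (J.comap (bl 𝒜)).ideal ⟨Proj.basicOpen 𝒜 (L a), isAffineOpen_basicOpen (hL.mem_one a)⟩ =
      Ideal.span {dehom (hL.mem_one a) (algebraMap Γ(T, ⊤) A a)} := by
  have h1 := ideal_comap_eq J (bl 𝒜) (isAffineOpen_basicOpen (hL.mem_one a))
  rw [h1, bl_appLE hL a]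
  exact map_strMap_eq_span hL a

theorem isEffCartierIdeal_comap_bl : BlowUp.IsEffCartierIdeal (J.comap (bl 𝒜)) := by
  intro x
  obtain ⟨a, ha⟩ := exists_mem_basicOpen hL x
  exact ⟨⟨Proj.basicOpen 𝒜 (L a), isAffineOpen_basicOpen (hL.mem_one a)⟩, ha,
    dehom (hL.mem_one a) (algebraMap Γ(T, ⊤) A a), dehom_c0_mem_nonZeroDivisors hL a,
    ideal_comap_bl hL a⟩

omit hL in
/-- locally the inverse image of `J` under `g` is generated by the image of a global section of `J`,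
a nonzerodivisor -/
theorem exists_local_gen {Y : Scheme.{u}} (g : Y ⟶ T)
    (hE : BlowUp.IsEffCartierIdeal (J.comap g)) (y : Y) (W : Y.Opens) (hy : y ∈ W) :
    ∃ (V : Y.Opens) (_ : IsAffineOpen V), y ∈ V ∧ V ≤ W ∧ ∃ a : topIdeal J,
      (g.appLE ⊤ V (le_pre_top g V)).hom a ∈ Γ(Y, V)⁰ ∧
      (topIdeal J).map (g.appLE ⊤ V (le_pre_top g V)).hom = Ideal.span {(g.appLE ⊤ V (le_pre_top g V)).hom a} := by
  obtain ⟨V₀, hV₀, hyV₀, hV₀W, f, hf, hIf⟩ := EffCartier.exists_le_of_isEffCartierIdeal hE y W hy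
  rw [ideal_comap_eq] at hIf
  have hspan := span_cofactors_eq_top (g.appLE ⊤ V₀ (le_pre_top g V₀)).hom f hf hIf
  have hcov := iSup_basicOpen_of_span_eq_top V₀ _ hspan
  have hy' : y ∈ ⨆ i ∈ {d : Γ(Y, V₀) | ∃ a ∈ topIdeal J, (g.appLE ⊤ V₀ (le_pre_top g V₀)).hom a = f * d},
      Y.basicOpen i := by rw [hcov]; exact hyV₀
  obtain ⟨d, hyd⟩ := TopologicalSpace.Opens.mem_iSup.mp hy'
  obtain ⟨⟨a, ha, had⟩, hyd⟩ := TopologicalSpace.Opens.mem_iSup.mp hyd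
  have inst := hV₀.isLocalization_basicOpen d
  have hres : (Y.presheaf.map (homOfLE (Y.basicOpen_le d)).op).hom = algebraMap _ _ := rfl
  have happ : (g.appLE ⊤ (Y.basicOpen d) (le_pre_top g _)).hom =
      (algebraMap Γ(Y, V₀) Γ(Y, Y.basicOpen d)).comp (g.appLE ⊤ V₀ (le_pre_top g V₀)).hom := by
    rw [← hres, ← CommRingCat.hom_comp, Scheme.Hom.appLE_map]
  have hfnzd : algebraMap Γ(Y, V₀) Γ(Y, Y.basicOpen d) f ∈ Γ(Y, Y.basicOpen d)⁰ :=
    IsLocalization.map_nonZeroDivisors_le (.powers d) _ (Submonoid.mem_map_of_mem _ hf)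
  have hdunit : IsUnit (algebraMap Γ(Y, V₀) Γ(Y, Y.basicOpen d) d) :=
    IsLocalization.Away.algebraMap_isUnit d
  have hval : (g.appLE ⊤ (Y.basicOpen d) (le_pre_top g _)).hom a =
      algebraMap Γ(Y, V₀) Γ(Y, Y.basicOpen d) f * algebraMap Γ(Y, V₀) Γ(Y, Y.basicOpen d) d := by
    rw [happ, RingHom.comp_apply, had, map_mul]
  refine ⟨Y.basicOpen d, hV₀.basicOpen d, hyd, (Y.basicOpen_le d).trans hV₀W, ⟨a, ha⟩, ?_, ?_⟩
  · rw [hval]
    exact mul_mem hfnzd hdunit.mem_nonZeroDivisors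
  · rw [hval, Ideal.span_singleton_mul_right_unit hdunit, happ, ← Ideal.map_map, hIf,
      Ideal.map_span, Set.image_singleton]

/-- a lift over an open on which `J` is generated by the image of `a` -/
theorem exists_chart_lift {Y : Scheme.{u}} (g : Y ⟶ T) (V : Y.Opens) (a : topIdeal J)
    (hnzd : (g.appLE ⊤ V (le_pre_top g V)).hom a ∈ Γ(Y, V)⁰)
    (hspan : (topIdeal J).map (g.appLE ⊤ V (le_pre_top g V)).hom =
      Ideal.span {(g.appLE ⊤ V (le_pre_top g V)).hom a}) :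
    ∃ h : V.toScheme ⟶ Proj 𝒜, h ≫ bl 𝒜 = V.ι ≫ g := by
  obtain ⟨ψ, hψ⟩ := exists_chart_hom hL a (g.appLE ⊤ V (le_pre_top g V)).hom hnzd (fun c hc => by
    have h1 : (g.appLE ⊤ V (le_pre_top g V)).hom c ∈ Ideal.span {(g.appLE ⊤ V (le_pre_top g V)).hom a} :=
      hspan ▸ Ideal.mem_map_of_mem _ hc
    obtain ⟨b, hb⟩ := Ideal.mem_span_singleton'.mp h1
    exact ⟨b, by rw [← hb, mul_comm]⟩)
  refine ⟨toAff (isAffineOpen_basicOpen (hL.mem_one a))
    (ConcreteCategory.ofHom (C := CommRingCat) (X := Γ(Proj 𝒜, Proj.basicOpen 𝒜 (L a)))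
      (Y := Γ(Y, V)) ψ), ?_⟩
  rw [ι_comp_eq_toAff (isAffineOpen_top T) g (le_pre_top g V)]
  unfold toAff bl
  rw [Category.assoc, Category.assoc, ← Category.assoc _ (toBase 𝒜),
    fromSpec_toBase (hL.mem_one a), ← Spec.map_comp_assoc]
  congr 3
  ext c
  exact hψ c

/-- uniqueness of lifts through `bl` -/
theorem bl_hom_ext {W : Scheme.{u}} (k₁ k₂ : W ⟶ Proj 𝒜) (h : k₁ ≫ bl 𝒜 = k₂ ≫ bl 𝒜)
    (hE : BlowUp.IsEffCartierIdeal (J.comap (k₁ ≫ bl 𝒜))) : k₁ = k₂ := by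
  refine Scheme.hom_ext_of_forall _ _ fun w => ?_
  obtain ⟨a, ha⟩ := exists_mem_basicOpen hL (k₁ w)
  obtain ⟨a', ha'⟩ := exists_mem_basicOpen hL (k₂ w)
  obtain ⟨V, hV, hwV, hVle, f, hf, hIf⟩ := EffCartier.exists_le_of_isEffCartierIdeal hE w
    (k₁ ⁻¹ᵁ Proj.basicOpen 𝒜 (L a) ⊓ k₂ ⁻¹ᵁ Proj.basicOpen 𝒜 (L a')) ⟨ha, ha'⟩
  refine ⟨V, hwV, ?_⟩
  have hV1 : V ≤ k₁ ⁻¹ᵁ Proj.basicOpen 𝒜 (L a) := hVle.trans inf_le_left
  have hV2 : V ≤ k₂ ⁻¹ᵁ Proj.basicOpen 𝒜 (L a') := hVle.trans inf_le_right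
  rw [ι_comp_eq_toAff (isAffineOpen_basicOpen (hL.mem_one a)) k₁ hV1,
    ι_comp_eq_toAff (isAffineOpen_basicOpen (hL.mem_one a')) k₂ hV2]
  have hα : strMap (hL.mem_one a) ≫ k₁.appLE _ V hV1 = (k₁ ≫ bl 𝒜).appLE ⊤ V (le_pre_top _ V) := by
    rw [← bl_appLE hL a, Scheme.Hom.appLE_comp_appLE]
  have hβ : strMap (hL.mem_one a') ≫ k₂.appLE _ V hV2 = (k₁ ≫ bl 𝒜).appLE ⊤ V (le_pre_top _ V) := by
    rw [← bl_appLE hL a', Scheme.Hom.appLE_comp_appLE]
    congr 1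
    exact h.symm
  have hspan : (topIdeal J).map ((k₁.appLE _ V hV1).hom.comp (strMap (hL.mem_one a)).hom) =
      Ideal.span {f} := by
    rw [← hIf, ideal_comap_eq, ← hα]
    rfl
  obtain ⟨u, v, huv, hu, hcompat⟩ := chart_compat hL a a' (k₁.appLE _ V hV1).hom
    (k₂.appLE _ V hV2).hom (fun c => by
      have := congrArg (fun φ => φ.hom c) (hα.trans hβ.symm)
      exact this) f hf hspan
  exact toAff_eq_toAff (hL.mem_one a) (hL.mem_one a') _ _ u v huv hu hcompat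

/-- existence of lifts through `bl` -/
theorem exists_bl_lift {Y : Scheme.{u}} (g : Y ⟶ T) (hE : BlowUp.IsEffCartierIdeal (J.comap g)) :
    ∃ h : Y ⟶ Proj 𝒜, h ≫ bl 𝒜 = g := by
  have key : ∀ y : Y, ∃ V : Y.Opens, y ∈ V ∧
      ∃ h : V.toScheme ⟶ Proj 𝒜, h ≫ bl 𝒜 = V.ι ≫ g := by
    intro y
    obtain ⟨V, -, hyV, -, a, hnzd, hspan⟩ := exists_local_gen g hE y ⊤ trivial
    exact ⟨V, hyV, exists_chart_lift hL g V a hnzd hspan⟩
  choose V hyV h hh using key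
  obtain ⟨r, hr⟩ := glue_opens V (fun y => ⟨y, hyV y⟩) h (fun y z => by
    apply bl_hom_ext hL
    · rw [Category.assoc, Category.assoc, hh, hh, ← Category.assoc, ← Category.assoc,
        Scheme.homOfLE_ι, Scheme.homOfLE_ι]
    · rw [Category.assoc, hh, ← Category.assoc, Scheme.homOfLE_ι,
        Scheme.IdealSheafData.comap_comp]
      exact Groth.Agent.R2.H82.BlowUpDisjoint.isEffCartierIdeal_comap_openImmersion _ _ hE)
  refine ⟨r, Scheme.hom_ext_of_forall _ _ fun y => ⟨V y, hyV y, ?_⟩⟩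
  rw [← Category.assoc, hr, hh]

/-- `Proj` of a Rees-like algebra is the blow-up -/
theorem isBlowUp_bl : BlowUp.IsBlowUp (bl 𝒜) J := by
  refine ⟨isEffCartierIdeal_comap_bl hL, fun Y g hE => ?_⟩
  obtain ⟨h, hh⟩ := exists_bl_lift hL g hE
  refine ⟨h, hh, fun h' hh' => ?_⟩
  apply bl_hom_ext hL
  · rw [hh', hh]
  · rw [hh']; exact hE

end Groth.Agent.R2.H92.BlowAffC
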