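import Mathlib
import Groth.Prelude.Def_W4c6modpairsegaMP
import Groth.Agent.S18732
import Groth.Agent.S18743

/-!
# Modulus pairs: closures of interiors (helper92)

* `isSchemeTheoreticallyDominant_toImage`: `f.toImage` is scheme-theoretically dominant (qc `f`).
* `isSchemeTheoreticallyDominant_preimage_imageι`: an open `V` is scheme-theoretically dense in its
  scheme-theoretic closure.
* `isEffCartierIdeal_comap_imageι`: pull-back of an effective Cartier ideal to the closure of the
  preimage of its interior is effective Cartier.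
* `interior_le_preimage_of_isAmbient`, `ker_le_ker_of_interior_le`: morphisms from a modulus pair
  mapping the interior into an open `V` factor through the closure of `V`.
* `isIso_morphismRestrict_of_section`, `eq_of_comp_eq_of_isIso_morphismRestrict`,
  `exists_lift_of_isIso_morphismRestrict`: isomorphisms over an open.
* `ext_of_isSchemeTheoreticallyDominant_of_isSeparated`.
-/

set_option autoImplicit false
universe u

open CategoryTheory CategoryTheory.Limits AlgebraicGeometry TopologicalSpace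

namespace Groth.Agent.R2.H92.ModPair

variable {P Z : Scheme.{u}}

/-- The morphism to the scheme-theoretic image is scheme-theoretically dominant. -/
theorem isSchemeTheoreticallyDominant_toImage {X Y : Scheme.{u}} (f : X ⟶ Y) [QuasiCompact f] :
    IsSchemeTheoreticallyDominant f.toImage := by
  rw [isSchemeTheoreticallyDominant_iff]
  have hcov : ⨆ U : Y.affineOpens, (f.imageι ⁻¹ᵁ U.1) = ⊤ := by
    rw [eq_top_iff]
    intro x _
    obtain ⟨_, ⟨U, hU, rfl⟩, hxU, -⟩ := Y.isBasis_affineOpens.exists_subset_of_mem_open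
      (Set.mem_univ (f.imageι x)) isOpen_univ
    exact Opens.mem_iSup.mpr ⟨⟨U, hU⟩, hxU⟩
  refine Scheme.IdealSheafData.ext_of_iSup_eq_top
    (fun U : Y.affineOpens => (⟨f.imageι ⁻¹ᵁ U.1, U.2.preimage f.imageι⟩ : f.image.affineOpens))
    hcov fun U => ?_
  rw [Scheme.Hom.ker_apply, Scheme.IdealSheafData.ideal_bot, Pi.bot_apply,
    ← RingHom.injective_iff_ker_eq_bot]
  exact f.toImage_app_injective U

/-- An open `V` (with quasi-compact inclusion) is scheme-theoretically dense in its
scheme-theoretic closure. -/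
theorem isSchemeTheoreticallyDominant_preimage_imageι (V : P.Opens) [QuasiCompact V.ι] :
    IsSchemeTheoreticallyDominant (V.ι.imageι ⁻¹ᵁ V).ι := by
  have hrange : Set.range V.ι.toImage ⊆ Set.range (V.ι.imageι ⁻¹ᵁ V).ι := by
    rintro _ ⟨x, rfl⟩
    rw [Scheme.Opens.range_ι]
    show V.ι.imageι (V.ι.toImage x) ∈ V
    rw [← Scheme.Hom.comp_apply, Scheme.Hom.toImage_imageι]
    exact x.2
  have hfac : IsOpenImmersion.lift (V.ι.imageι ⁻¹ᵁ V).ι V.ι.toImage hrange ≫
      (V.ι.imageι ⁻¹ᵁ V).ι = V.ι.toImage := IsOpenImmersion.lift_fac _ _ _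
  have h1 := isSchemeTheoreticallyDominant_toImage V.ι
  rw [isSchemeTheoreticallyDominant_iff, ← le_bot_iff]
  have h2 := Scheme.Hom.le_ker_comp
    (IsOpenImmersion.lift (V.ι.imageι ⁻¹ᵁ V).ι V.ι.toImage hrange) (V.ι.imageι ⁻¹ᵁ V).ι
  rw [hfac, h1.ker_eq_bot] at h2
  exact h2

/-- Pulling an effective Cartier ideal `L` on `Z` back along `h : P ⟶ Z` and then to the
scheme-theoretic closure of `V = h⁻¹(interior L)` gives an effective Cartier ideal. -/
theorem isEffCartierIdeal_comap_imageι (h : P ⟶ Z) (L : Z.IdealSheafData)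
    (hL : BlowUp.IsEffCartierIdeal L) (V : P.Opens) (hV : V = h ⁻¹ᵁ ModPair.interior L) :
    BlowUp.IsEffCartierIdeal (L.comap (V.ι.imageι ≫ h)) := by
  subst hV
  have : QuasiCompact (h ⁻¹ᵁ ModPair.interior L).ι := Groth.Agent.S18732.quasiCompact_ι L hL h
  have : IsSchemeTheoreticallyDominant
      (((h ⁻¹ᵁ ModPair.interior L).ι.imageι ≫ h) ⁻¹ᵁ ModPair.interior L).ι := by
    rw [Scheme.Hom.comp_preimage]
    exact isSchemeTheoreticallyDominant_preimage_imageι _
  exact (Groth.Agent.S18732.result L hL ((h ⁻¹ᵁ ModPair.interior L).ι.imageι ≫ h)).2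

/-- An ambient morphism maps the interior into the interior. -/
theorem interior_le_preimage_of_isAmbient {X Y : Scheme.{u}} {I : X.IdealSheafData}
    {J : Y.IdealSheafData} {f : X ⟶ Y} (hf : ModPair.IsAmbient I J f) :
    ModPair.interior I ≤ f ⁻¹ᵁ ModPair.interior J := by
  rw [← Groth.Agent.S18743.interior_comap]
  intro x hx
  have hx' : x ∉ I.support := hx
  show x ∉ (J.comap f).support
  exact fun h => hx' (Scheme.IdealSheafData.support_antitone hf h)

/-- A morphism `c` from `(W, IW)` (effective Cartier) mapping the interior of `IW` into the open `V`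
kills the ideal of the scheme-theoretic closure of `V`. -/
theorem ker_le_ker_of_interior_le {W : Scheme.{u}} (IW : W.IdealSheafData)
    (hW : BlowUp.IsEffCartierIdeal IW) (c : W ⟶ P) (V : P.Opens)
    (hc : ModPair.interior IW ≤ c ⁻¹ᵁ V) : V.ι.ker ≤ c.ker := by
  have hdom := Groth.Agent.S18743.isSchemeTheoreticallyDominant_interior IW hW
  have hrange : Set.range ((ModPair.interior IW).ι ≫ c) ⊆ Set.range V.ι := by
    rintro _ ⟨x, rfl⟩
    rw [Scheme.Opens.range_ι]
    exact hc x.2
  have hfac : IsOpenImmersion.lift V.ι ((ModPair.interior IW).ι ≫ c) hrange ≫ V.ι =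
      (ModPair.interior IW).ι ≫ c := IsOpenImmersion.lift_fac _ _ _
  have h1 := Scheme.Hom.le_ker_comp (IsOpenImmersion.lift V.ι ((ModPair.interior IW).ι ≫ c) hrange)
    V.ι
  rw [hfac, Scheme.Hom.ker_comp, hdom.ker_eq_bot, Scheme.IdealSheafData.map_bot] at h1
  exact h1

/-- Morphisms from `(W, IW)` mapping the interior into `V` lift uniquely to the closure of `V`. -/
theorem existsUnique_lift_image {W : Scheme.{u}} (IW : W.IdealSheafData)
    (hW : BlowUp.IsEffCartierIdeal IW) (c₀ : W ⟶ P) (V : P.Opens)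
    (hc : ModPair.interior IW ≤ c₀ ⁻¹ᵁ V) : ∃! c : W ⟶ V.ι.image, c ≫ V.ι.imageι = c₀ := by
  have hker : V.ι.imageι.ker ≤ c₀.ker := by
    rw [Scheme.IdealSheafData.ker_subschemeι]
    exact ker_le_ker_of_interior_le IW hW c₀ V hc
  refine ⟨IsClosedImmersion.lift V.ι.imageι c₀ hker, IsClosedImmersion.lift_fac _ _ _, ?_⟩
  intro c hc'
  rw [← cancel_mono V.ι.imageι, IsClosedImmersion.lift_fac, hc']

section Pullback

variable {S T X Y : Scheme.{u}}

/-- modulus condition for the second projection when the second leg is minimal. -/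
theorem comap_fst_le_comap_snd_of_isAmbient (IS : S.IdealSheafData) (IX : X.IdealSheafData)
    (p : X ⟶ S) (f : T ⟶ S) (hp : ModPair.IsAmbient IX IS p) (ι : Y ⟶ pullback p f) :
    IX.comap (ι ≫ pullback.fst p f) ≤ (IS.comap f).comap (ι ≫ pullback.snd p f) := by
  calc IX.comap (ι ≫ pullback.fst p f) ≤ (IS.comap p).comap (ι ≫ pullback.fst p f) :=
        Scheme.IdealSheafData.comap_mono _ hp
    _ = IS.comap ((ι ≫ pullback.fst p f) ≫ p) :=
        (Scheme.IdealSheafData.comap_comp IS (ι ≫ pullback.fst p f) p).symm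
    _ = IS.comap ((ι ≫ pullback.snd p f) ≫ f) := by
        rw [Category.assoc, Category.assoc, pullback.condition]
    _ = (IS.comap f).comap (ι ≫ pullback.snd p f) :=
        Scheme.IdealSheafData.comap_comp IS (ι ≫ pullback.snd p f) f

/-- if the second leg is minimal and the first ambient, the product of the interiors is the preimage
of the interior of the first factor. -/
theorem prodInterior_eq_preimage_fst (IS : S.IdealSheafData) (IX : X.IdealSheafData)
    (p : X ⟶ S) (f : T ⟶ S) (hp : ModPair.IsAmbient IX IS p) :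
    ModPair.prodInterior p f IX (IS.comap f) = pullback.fst p f ⁻¹ᵁ ModPair.interior IX := by
  unfold ModPair.prodInterior
  rw [inf_eq_left, Groth.Agent.S18743.interior_comap, ← Scheme.Hom.comp_preimage,
    ← pullback.condition, Scheme.Hom.comp_preimage]
  exact (pullback.fst p f).preimage_mono (interior_le_preimage_of_isAmbient hp)

/-- if the first leg is minimal and the second ambient, the product of the interiors is the preimage
of the interior of the second factor. -/
theorem prodInterior_eq_preimage_snd (IS : S.IdealSheafData) (IT : T.IdealSheafData)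
    (s : X ⟶ S) (g : T ⟶ S) (hg : ModPair.IsAmbient IT IS g) :
    ModPair.prodInterior s g (IS.comap s) IT = pullback.snd s g ⁻¹ᵁ ModPair.interior IT := by
  unfold ModPair.prodInterior
  rw [inf_eq_right, Groth.Agent.S18743.interior_comap, ← Scheme.Hom.comp_preimage,
    pullback.condition, Scheme.Hom.comp_preimage]
  exact (pullback.snd s g).preimage_mono (interior_le_preimage_of_isAmbient hg)

/-- modulus condition for the first projection when the first leg is minimal. -/
theorem comap_snd_le_comap_fst_of_isAmbient (IS : S.IdealSheafData) (IT : T.IdealSheafData)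
    (s : X ⟶ S) (g : T ⟶ S) (hg : ModPair.IsAmbient IT IS g) (ι : Y ⟶ pullback s g) :
    IT.comap (ι ≫ pullback.snd s g) ≤ (IS.comap s).comap (ι ≫ pullback.fst s g) := by
  calc IT.comap (ι ≫ pullback.snd s g) ≤ (IS.comap g).comap (ι ≫ pullback.snd s g) :=
        Scheme.IdealSheafData.comap_mono _ hg
    _ = IS.comap ((ι ≫ pullback.snd s g) ≫ g) :=
        (Scheme.IdealSheafData.comap_comp IS (ι ≫ pullback.snd s g) g).symm
    _ = IS.comap ((ι ≫ pullback.fst s g) ≫ s) := by
        rw [Category.assoc, Category.assoc, pullback.condition]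
    _ = (IS.comap s).comap (ι ≫ pullback.fst s g) :=
        Scheme.IdealSheafData.comap_comp IS (ι ≫ pullback.fst s g) s

end Pullback

section IsoOver

variable {X S Y T Z : Scheme.{u}}

/-- A morphism with a section over the open `U` which is inverse over `q⁻¹ U` is an isomorphism
over `U`. -/
theorem isIso_morphismRestrict_of_section (q : Y ⟶ T) (U : T.Opens) (σ : U.toScheme ⟶ Y)
    (h1 : σ ≫ q = U.ι) (h2 : (q ∣_ U) ≫ σ = (q ⁻¹ᵁ U).ι) : IsIso (q ∣_ U) := by
  have hrange : Set.range σ ⊆ Set.range (q ⁻¹ᵁ U).ι := by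
    rintro _ ⟨u, rfl⟩
    rw [Scheme.Opens.range_ι]
    show q (σ u) ∈ U
    rw [← Scheme.Hom.comp_apply, h1]
    exact u.2
  refine ⟨IsOpenImmersion.lift (q ⁻¹ᵁ U).ι σ hrange, ?_, ?_⟩
  · rw [← cancel_mono (q ⁻¹ᵁ U).ι, Category.assoc, IsOpenImmersion.lift_fac, h2, Category.id_comp]
  · rw [← cancel_mono U.ι, Category.assoc, morphismRestrict_ι, ← Category.assoc,
      IsOpenImmersion.lift_fac, h1, Category.id_comp]

/-- Two morphisms into `X` landing over an open `O` over which `s` is an isomorphism agree as soon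
as they agree after composing with `s`. -/
theorem eq_of_comp_eq_of_isIso_morphismRestrict (s : X ⟶ S) (O : S.Opens) [IsIso (s ∣_ O)]
    (a₁ a₂ : Z ⟶ X) (h : a₁ ≫ s = a₂ ≫ s) (hO : ∀ z, (a₁ ≫ s) z ∈ O) : a₁ = a₂ := by
  have hr1 : Set.range a₁ ⊆ Set.range (s ⁻¹ᵁ O).ι := by
    rintro _ ⟨z, rfl⟩
    rw [Scheme.Opens.range_ι]
    exact hO z
  have hr2 : Set.range a₂ ⊆ Set.range (s ⁻¹ᵁ O).ι := by
    rintro _ ⟨z, rfl⟩
    rw [Scheme.Opens.range_ι]
    show (a₂ ≫ s) z ∈ O
    rw [← h]
    exact hO z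
  have e1 : IsOpenImmersion.lift (s ⁻¹ᵁ O).ι a₁ hr1 ≫ (s ⁻¹ᵁ O).ι = a₁ :=
    IsOpenImmersion.lift_fac _ _ _
  have e2 : IsOpenImmersion.lift (s ⁻¹ᵁ O).ι a₂ hr2 ≫ (s ⁻¹ᵁ O).ι = a₂ :=
    IsOpenImmersion.lift_fac _ _ _
  have key : IsOpenImmersion.lift (s ⁻¹ᵁ O).ι a₁ hr1 = IsOpenImmersion.lift (s ⁻¹ᵁ O).ι a₂ hr2 := by
    rw [← cancel_mono (s ∣_ O), ← cancel_mono O.ι, Category.assoc, Category.assoc,
      morphismRestrict_ι, ← Category.assoc, ← Category.assoc, e1, e2, h]
  rw [← e1, ← e2, key]

/-- Morphisms into `S` landing in an open `O` over which `s` is an isomorphism lift along `s`. -/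
theorem exists_lift_of_isIso_morphismRestrict (s : X ⟶ S) (O : S.Opens) [IsIso (s ∣_ O)]
    (k : Z ⟶ S) (hk : ∀ z, k z ∈ O) : ∃ τ : Z ⟶ X, τ ≫ s = k := by
  have hr : Set.range k ⊆ Set.range O.ι := by
    rintro _ ⟨z, rfl⟩
    rw [Scheme.Opens.range_ι]
    exact hk z
  refine ⟨IsOpenImmersion.lift O.ι k hr ≫ inv (s ∣_ O) ≫ (s ⁻¹ᵁ O).ι, ?_⟩
  rw [Category.assoc, Category.assoc, ← morphismRestrict_ι, IsIso.inv_hom_id_assoc,
    IsOpenImmersion.lift_fac]

/-- If `s` is an isomorphism over `O`, `U ⊆ g⁻¹ O` and `V = pr₂⁻¹ U` in `X ×_S T`, then the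
scheme-theoretic closure of `V` maps isomorphically to `T` over `U`. -/
theorem isIso_morphismRestrict_imageι_snd (s : X ⟶ S) (g : T ⟶ S) (O : S.Opens) [IsIso (s ∣_ O)]
    (U : T.Opens) (hU : U ≤ g ⁻¹ᵁ O) (V : (pullback s g).Opens)
    (hV : V = pullback.snd s g ⁻¹ᵁ U) :
    IsIso ((V.ι.imageι ≫ pullback.snd s g) ∣_ U) := by
  -- the section
  obtain ⟨τ, hτ⟩ := exists_lift_of_isIso_morphismRestrict s O (U.ι ≫ g) (fun z => hU z.2)
  have hr : Set.range (pullback.lift τ U.ι hτ) ⊆ Set.range V.ι := by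
    rintro _ ⟨u, rfl⟩
    rw [Scheme.Opens.range_ι, hV]
    show pullback.snd s g (pullback.lift τ U.ι hτ u) ∈ U
    rw [← Scheme.Hom.comp_apply, pullback.lift_snd]
    exact u.2
  have hσ : (IsOpenImmersion.lift V.ι (pullback.lift τ U.ι hτ) hr ≫ V.ι.toImage) ≫ V.ι.imageι =
      pullback.lift τ U.ι hτ := by
    rw [Category.assoc, Scheme.Hom.toImage_imageι, IsOpenImmersion.lift_fac]
  apply isIso_morphismRestrict_of_section _ U
    (IsOpenImmersion.lift V.ι (pullback.lift τ U.ι hτ) hr ≫ V.ι.toImage)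
  · rw [← Category.assoc, hσ, pullback.lift_snd]
  · rw [← cancel_mono V.ι.imageι, Category.assoc, hσ]
    apply pullback.hom_ext
    · rw [Category.assoc, pullback.lift_fst, Category.assoc]
      apply eq_of_comp_eq_of_isIso_morphismRestrict s O
      · rw [Category.assoc, hτ, ← Category.assoc, morphismRestrict_ι, Category.assoc,
          Category.assoc, Category.assoc, Category.assoc, pullback.condition]
      · intro z
        rw [Category.assoc, hτ, ← Category.assoc]
        exact hU (((V.ι.imageι ≫ pullback.snd s g) ∣_ U) z).2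
    · rw [Category.assoc, pullback.lift_snd, morphismRestrict_ι, Category.assoc]

end IsoOver

section Ext

variable {W X Y Z : Scheme.{u}}

/-- Two morphisms agreeing over a separated `s` and on a scheme-theoretically dominant `ι` are
equal. -/
theorem ext_of_isSchemeTheoreticallyDominant_of_isSeparated {f g : X ⟶ Y}
    (s : Y ⟶ Z) [IsSeparated s] (h : f ≫ s = g ≫ s)
    (ι : W ⟶ X) [IsSchemeTheoreticallyDominant ι] (hU : ι ≫ f = ι ≫ g) : f = g := by
  let X' : Over Z := Over.mk (f ≫ s)
  let Y' : Over Z := Over.mk s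
  let U' : Over Z := Over.mk (ι ≫ f ≫ s)
  let f' : X' ⟶ Y' := Over.homMk f
  let g' : X' ⟶ Y' := Over.homMk g h.symm
  let ι' : U' ⟶ X' := Over.homMk ι
  have : IsSeparated Y'.hom := ‹_›
  have hι : ι' ≫ f' = ι' ≫ g' := by
    ext1
    exact hU
  have hl : (equalizer.lift ι' hι).left ≫ (equalizer.ι f' g').left = ι := by
    rw [← Over.comp_left, equalizer.lift_ι]
    rfl
  have hker : (equalizer.ι f' g').left.ker = ⊥ := by
    rw [← le_bot_iff]
    have h1 := Scheme.Hom.le_ker_comp (equalizer.lift ι' hι).left (equalizer.ι f' g').left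
    rw [hl, Scheme.Hom.ker_eq_bot ι] at h1
    exact h1
  have := IsClosedImmersion.isIso_iff_ker_eq_bot.mpr hker
  rw [← cancel_epi (equalizer.ι f' g').left]
  exact congr($(equalizer.condition f' g').left)

end Ext

end Groth.Agent.R2.H92.ModPair
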