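import Mathlib
import Groth.Agent.R2.H92ModPair

/-!
# Modulus pairs: closures of the two pieces of a disconnected interior (helper92)
-/

set_option autoImplicit false
universe u

open CategoryTheory CategoryTheory.Limits AlgebraicGeometry TopologicalSpace

namespace Groth.Agent.R2.H92.ModPair

section QC

variable {X : Scheme.{u}}

/-- a clopen piece of an open with quasi-compact inclusion has quasi-compact inclusion -/
theorem quasiCompact_ι_of_sup_disjoint (U₀ U₁ U : X.Opens) (hU : U₀ ⊔ U₁ = U)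
    (hd : Disjoint U₀ U₁) [QuasiCompact U.ι] : QuasiCompact U₀.ι := by
  constructor
  intro K hKo hKc
  have h1 : IsCompact (U.ι ⁻¹' K) := QuasiCompact.isCompact_preimage K hKo hKc
  have h2 : IsCompact (K ∩ (U : Set X)) := by
    have := h1.image U.ι.continuous
    rwa [Set.image_preimage_eq_inter_range, Scheme.Opens.range_ι] at this
  have h3 : IsCompact (K ∩ (U₀ : Set X)) := by
    have : K ∩ (U₀ : Set X) = (K ∩ (U : Set X)) ∩ (U₁ : Set X)ᶜ := by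
      ext x
      simp only [Set.mem_inter_iff, SetLike.mem_coe, Set.mem_compl_iff, ← hU]
      constructor
      · rintro ⟨hK, h0⟩
        exact ⟨⟨hK, Or.inl h0⟩, fun h1 => (hd.le_bot ⟨h0, h1⟩ : x ∈ (⊥ : X.Opens))⟩
      · rintro ⟨⟨hK, h0 | h1⟩, hn⟩
        · exact ⟨hK, h0⟩
        · exact absurd h1 hn
    rw [this]
    exact h2.inter_right U₁.isOpen.isClosed_compl
  rw [U₀.ι.isOpenEmbedding.isInducing.isCompact_iff]
  rwa [Set.image_preimage_eq_inter_range, Scheme.Opens.range_ι]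

end QC

section LocalCartier

variable {Z : Scheme.{u}}

open nonZeroDivisors in
/-- being an effective Cartier ideal sheaf is local for open covers -/
theorem isEffCartierIdeal_of_openCover (K : Z.IdealSheafData) (𝒰 : Z.OpenCover)
    (h : ∀ i, BlowUp.IsEffCartierIdeal (K.comap (𝒰.f i))) : BlowUp.IsEffCartierIdeal K := by
  intro x
  obtain ⟨i, y, rfl⟩ := 𝒰.exists_eq x
  obtain ⟨W, hyW, f, hf, hW⟩ := h i y
  set φ := ((𝒰.f i).appIso W.1).inv.hom with hφ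
  have hbij : Function.Bijective φ :=
    ConcreteCategory.bijective_of_isIso ((𝒰.f i).appIso W.1).inv
  refine ⟨⟨𝒰.f i ''ᵁ W.1, W.2.image_of_isOpenImmersion _⟩, ⟨y, hyW, rfl⟩, φ f, ?_, ?_⟩
  · rw [mem_nonZeroDivisors_iff_right]
    intro z hz
    obtain ⟨z', rfl⟩ := hbij.2 z
    rw [← map_mul, map_eq_zero_iff φ hbij.1] at hz
    rw [(mem_nonZeroDivisors_iff_right.mp hf) z' hz, map_zero]
  · rw [Scheme.IdealSheafData.ideal_comap_of_isOpenImmersion] at hW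
    rw [← Ideal.map_comap_of_surjective φ hbij.2
      (K.ideal ⟨𝒰.f i ''ᵁ W.1, W.2.image_of_isOpenImmersion _⟩), hW, Ideal.map_span,
      Set.image_singleton]

end LocalCartier

section IsoSup

variable {X Y : Scheme.{u}}

/-- a morphism which is an isomorphism over two opens is an isomorphism over their union -/
theorem isIso_morphismRestrict_sup (f : X ⟶ Y) (U₀ U₁ : Y.Opens) (h₀ : IsIso (f ∣_ U₀))
    (h₁ : IsIso (f ∣_ U₁)) : IsIso (f ∣_ (U₀ ⊔ U₁)) := by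
  have key : ∀ V : Y.Opens, V ≤ U₀ ⊔ U₁ → IsIso (f ∣_ V) →
      MorphismProperty.isomorphisms Scheme ((f ∣_ (U₀ ⊔ U₁)) ∣_ ((U₀ ⊔ U₁).ι ⁻¹ᵁ V)) := by
    intro V hV hiso
    have e : (U₀ ⊔ U₁).ι ''ᵁ ((U₀ ⊔ U₁).ι ⁻¹ᵁ V) = V := by
      rw [Scheme.Hom.image_preimage_eq_opensRange_inf, Scheme.Opens.opensRange_ι]
      exact inf_eq_right.mpr hV
    rw [(MorphismProperty.isomorphisms Scheme).arrow_mk_iso_iff
      (morphismRestrictRestrict f _ _ ≪≫ morphismRestrictEq f e)]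
    exact hiso
  have : MorphismProperty.isomorphisms Scheme (f ∣_ (U₀ ⊔ U₁)) := by
    apply IsZariskiLocalAtTarget.of_forall_exists_morphismRestrict
    rintro ⟨x, hx⟩
    rcases hx with hx | hx
    · exact ⟨(U₀ ⊔ U₁).ι ⁻¹ᵁ U₀, hx, key U₀ le_sup_left h₀⟩
    · exact ⟨(U₀ ⊔ U₁).ι ⁻¹ᵁ U₁, hx, key U₁ le_sup_right h₁⟩
  exact this

end IsoSup

section CoprodDesc

variable {X X₀ X₁ : Scheme.{u}}

/-- `coprod.desc ι₀ ι₁` is an isomorphism over an open `U₀` which lifts to `X₀` and misses `X₁`. -/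
theorem isIso_morphismRestrict_coprodDesc_left (ι₀ : X₀ ⟶ X) (ι₁ : X₁ ⟶ X) [Mono ι₀]
    (U₀ : X.Opens) (σ₀ : U₀.toScheme ⟶ X₀) (hσ : σ₀ ≫ ι₀ = U₀.ι) (h₁ : ι₁ ⁻¹ᵁ U₀ = ⊥) :
    IsIso (coprod.desc ι₀ ι₁ ∣_ U₀) := by
  apply isIso_morphismRestrict_of_section _ U₀ (σ₀ ≫ coprod.inl)
  · rw [Category.assoc, coprod.inl_desc, hσ]
  · have hr : Set.range (coprod.desc ι₀ ι₁ ⁻¹ᵁ U₀).ι ⊆
        Set.range (coprod.inl : X₀ ⟶ X₀ ⨿ X₁) := by
      rw [Scheme.Opens.range_ι]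
      intro z hz
      obtain ⟨(x | x), rfl⟩ := (coprodMk X₀ X₁).surjective z
      · rw [coprodMk_inl]
        exact ⟨x, rfl⟩
      · exfalso
        rw [coprodMk_inr] at hz
        have hz' : (coprod.inr ≫ coprod.desc ι₀ ι₁) x ∈ U₀ := hz
        rw [coprod.inr_desc] at hz'
        have : x ∈ ι₁ ⁻¹ᵁ U₀ := hz'
        rw [h₁] at this
        exact this
    have hk : IsOpenImmersion.lift coprod.inl (coprod.desc ι₀ ι₁ ⁻¹ᵁ U₀).ι hr ≫ coprod.inl =
        (coprod.desc ι₀ ι₁ ⁻¹ᵁ U₀).ι := IsOpenImmersion.lift_fac _ _ _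
    have key : (coprod.desc ι₀ ι₁ ∣_ U₀) ≫ σ₀ =
        IsOpenImmersion.lift coprod.inl (coprod.desc ι₀ ι₁ ⁻¹ᵁ U₀).ι hr := by
      rw [← cancel_mono ι₀, Category.assoc, hσ, morphismRestrict_ι]
      conv_lhs => rw [← hk]
      rw [Category.assoc, coprod.inl_desc]
    rw [← Category.assoc, key, hk]

/-- `coprod.desc ι₀ ι₁` is an isomorphism over an open `U₁` which lifts to `X₁` and misses `X₀`. -/
theorem isIso_morphismRestrict_coprodDesc_right (ι₀ : X₀ ⟶ X) (ι₁ : X₁ ⟶ X) [Mono ι₁]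
    (U₁ : X.Opens) (σ₁ : U₁.toScheme ⟶ X₁) (hσ : σ₁ ≫ ι₁ = U₁.ι) (h₀ : ι₀ ⁻¹ᵁ U₁ = ⊥) :
    IsIso (coprod.desc ι₀ ι₁ ∣_ U₁) := by
  apply isIso_morphismRestrict_of_section _ U₁ (σ₁ ≫ coprod.inr)
  · rw [Category.assoc, coprod.inr_desc, hσ]
  · have hr : Set.range (coprod.desc ι₀ ι₁ ⁻¹ᵁ U₁).ι ⊆
        Set.range (coprod.inr : X₁ ⟶ X₀ ⨿ X₁) := by
      rw [Scheme.Opens.range_ι]
      intro z hz
      obtain ⟨(x | x), rfl⟩ := (coprodMk X₀ X₁).surjective z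
      · exfalso
        rw [coprodMk_inl] at hz
        have hz' : (coprod.inl ≫ coprod.desc ι₀ ι₁) x ∈ U₁ := hz
        rw [coprod.inl_desc] at hz'
        have : x ∈ ι₀ ⁻¹ᵁ U₁ := hz'
        rw [h₀] at this
        exact this
      · rw [coprodMk_inr]
        exact ⟨x, rfl⟩
    have hk : IsOpenImmersion.lift coprod.inr (coprod.desc ι₀ ι₁ ⁻¹ᵁ U₁).ι hr ≫ coprod.inr =
        (coprod.desc ι₀ ι₁ ⁻¹ᵁ U₁).ι := IsOpenImmersion.lift_fac _ _ _
    have key : (coprod.desc ι₀ ι₁ ∣_ U₁) ≫ σ₁ =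
        IsOpenImmersion.lift coprod.inr (coprod.desc ι₀ ι₁ ⁻¹ᵁ U₁).ι hr := by
      rw [← cancel_mono ι₁, Category.assoc, hσ, morphismRestrict_ι]
      conv_lhs => rw [← hk]
      rw [Category.assoc, coprod.inr_desc]
    rw [← Category.assoc, key, hk]

end CoprodDesc

end Groth.Agent.R2.H92.ModPair
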