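import Mathlib
import Groth.Prelude.Def_BlowUp2
import Groth.Agent.S1680
import Groth.Agent.S10855
import Groth.Agent.R2.H92ModPairCoprod

/-!
# Gluing blow-ups (helper92)

If blow-ups exist for all affine schemes then they exist for all schemes:
`exists_isBlowUp_of_affine`.  The proof glues the blow-ups of the affine opens with Mathlib's
relative gluing (`Scheme.Cover.RelativeGluingData`), the transition maps coming from the universal
property and flat base change of blow-ups (`S1680`).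
-/

set_option autoImplicit false
universe u

open CategoryTheory CategoryTheory.Limits AlgebraicGeometry TopologicalSpace

namespace Groth.Agent.R2.H92.BlowGlue

section Unique

variable {X B B' : Scheme.{u}} {𝓘 : X.IdealSheafData}

/-- maps into a blow-up are determined by their composite with the blow-up -/
theorem hom_ext_isBlowUp {b : B ⟶ X} (hb : BlowUp.IsBlowUp b 𝓘) {Y : Scheme.{u}} (h h' : Y ⟶ B)
    (hE : BlowUp.IsEffCartierIdeal (𝓘.comap (h ≫ b))) (heq : h ≫ b = h' ≫ b) : h = h' := by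
  obtain ⟨k, -, huniq⟩ := hb.2 Y (h ≫ b) hE
  rw [huniq h rfl, huniq h' heq.symm]

/-- blow-ups are unique up to unique isomorphism -/
theorem isIso_of_isBlowUp {b : B ⟶ X} {b' : B' ⟶ X} (hb : BlowUp.IsBlowUp b 𝓘)
    (hb' : BlowUp.IsBlowUp b' 𝓘) (h : B ⟶ B') (hh : h ≫ b' = b) : IsIso h := by
  obtain ⟨k, hk, -⟩ := hb.2 B' b' hb'.1
  refine ⟨k, ?_, ?_⟩
  · apply hom_ext_isBlowUp hb
    · rw [Category.assoc, hk, hh]; exact hb.1
    · rw [Category.assoc, hk, hh, Category.id_comp]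
  · apply hom_ext_isBlowUp hb'
    · rw [Category.assoc, hh, hk]; exact hb'.1
    · rw [Category.assoc, hh, hk, Category.id_comp]

end Unique

section Glue

variable (Haff : ∀ (U : Scheme.{u}) [IsAffine U] (J : U.IdealSheafData),
  ∃ (P : Scheme.{u}) (b : P ⟶ U), BlowUp.IsBlowUp b J)
variable {X : Scheme.{u}} (𝓘 : X.IdealSheafData)

/-- the restriction of `𝓘` to an affine open -/
noncomputable abbrev res (U : X.affineOpens) : U.1.toScheme.IdealSheafData := 𝓘.comap U.1.ι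

include Haff in
theorem exists_bl (U : X.affineOpens) :
    ∃ (P : Scheme.{u}) (b : P ⟶ U.1.toScheme), BlowUp.IsBlowUp b (res 𝓘 U) :=
  have : IsAffine U.1.toScheme := U.2
  Haff U.1.toScheme (res 𝓘 U)

/-- the chosen blow-up of an affine open -/
noncomputable def Bl (U : X.affineOpens) : Scheme.{u} := (exists_bl Haff 𝓘 U).choose

/-- the chosen blow-up of an affine open -/
noncomputable def bl (U : X.affineOpens) : Bl Haff 𝓘 U ⟶ U.1.toScheme :=
  (exists_bl Haff 𝓘 U).choose_spec.choose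

theorem isBlowUp_bl (U : X.affineOpens) : BlowUp.IsBlowUp (bl Haff 𝓘 U) (res 𝓘 U) :=
  (exists_bl Haff 𝓘 U).choose_spec.choose_spec

theorem res_comap_homOfLE {U V : X.affineOpens} (hUV : U ≤ V) :
    (res 𝓘 V).comap (X.homOfLE hUV) = res 𝓘 U := by
  rw [← Scheme.IdealSheafData.comap_comp, Scheme.homOfLE_ι]

theorem isEffCartier_tr_aux {U V : X.affineOpens} (hUV : U ≤ V) :
    BlowUp.IsEffCartierIdeal ((res 𝓘 V).comap (bl Haff 𝓘 U ≫ X.homOfLE hUV)) := by
  rw [Scheme.IdealSheafData.comap_comp, res_comap_homOfLE]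
  exact (isBlowUp_bl Haff 𝓘 U).1

/-- transition maps -/
noncomputable def tr {U V : X.affineOpens} (hUV : U ≤ V) : Bl Haff 𝓘 U ⟶ Bl Haff 𝓘 V :=
  ((isBlowUp_bl Haff 𝓘 V).2 _ (bl Haff 𝓘 U ≫ X.homOfLE hUV)
    (isEffCartier_tr_aux Haff 𝓘 hUV)).exists.choose

theorem tr_bl {U V : X.affineOpens} (hUV : U ≤ V) :
    tr Haff 𝓘 hUV ≫ bl Haff 𝓘 V = bl Haff 𝓘 U ≫ X.homOfLE hUV :=
  ((isBlowUp_bl Haff 𝓘 V).2 _ (bl Haff 𝓘 U ≫ X.homOfLE hUV)
    (isEffCartier_tr_aux Haff 𝓘 hUV)).exists.choose_spec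

theorem eq_tr {U V : X.affineOpens} (hUV : U ≤ V) (h : Bl Haff 𝓘 U ⟶ Bl Haff 𝓘 V)
    (hh : h ≫ bl Haff 𝓘 V = bl Haff 𝓘 U ≫ X.homOfLE hUV) : h = tr Haff 𝓘 hUV := by
  apply hom_ext_isBlowUp (isBlowUp_bl Haff 𝓘 V)
  · rw [hh]; exact isEffCartier_tr_aux Haff 𝓘 hUV
  · rw [hh, tr_bl]

/-- the transition squares are cartesian -/
theorem isPullback_tr {U V : X.affineOpens} (hUV : U ≤ V) :
    IsPullback (tr Haff 𝓘 hUV) (bl Haff 𝓘 U) (bl Haff 𝓘 V) (X.homOfLE hUV) := by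
  have hP : BlowUp.IsBlowUp (pullback.fst (X.homOfLE hUV) (bl Haff 𝓘 V)) (res 𝓘 U) := by
    rw [← res_comap_homOfLE 𝓘 hUV]
    exact Groth.Agent.S1680.result _ _ _ (isBlowUp_bl Haff 𝓘 V)
  let l : Bl Haff 𝓘 U ⟶ pullback (X.homOfLE hUV) (bl Haff 𝓘 V) :=
    pullback.lift (bl Haff 𝓘 U) (tr Haff 𝓘 hUV) (tr_bl Haff 𝓘 hUV).symm
  have hl : IsIso l := isIso_of_isBlowUp (isBlowUp_bl Haff 𝓘 U) hP l (pullback.lift_fst _ _ _)
  have := IsPullback.of_iso_pullback (fst := bl Haff 𝓘 U) (snd := tr Haff 𝓘 hUV)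
    ⟨(tr_bl Haff 𝓘 hUV).symm⟩ (asIso l) (pullback.lift_fst _ _ _) (pullback.lift_snd _ _ _)
  exact this.flip


/-- the functor of blow-ups of affine opens -/
noncomputable def blFunctor : X.affineOpens ⥤ Scheme.{u} where
  obj U := Bl Haff 𝓘 U
  map {U V} f := tr Haff 𝓘 (leOfHom f)
  map_id U := by
    symm
    apply eq_tr
    simp
  map_comp {U V W} f g := by
    symm
    apply eq_tr
    rw [Category.assoc, tr_bl, ← Category.assoc, tr_bl, Category.assoc, Scheme.homOfLE_homOfLE]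

/-- the relative gluing datum of the blow-ups of the affine opens -/
noncomputable def gd : X.directedAffineCover.RelativeGluingData where
  functor := blFunctor Haff 𝓘
  natTrans :=
    { app := fun U => bl Haff 𝓘 U
      naturality := fun U V f => tr_bl Haff 𝓘 (U := U) (V := V) (leOfHom f) }
  equifibered := fun {U V} f => isPullback_tr Haff 𝓘 (U := U) (V := V) (leOfHom f)


/-- the inclusion of the blow-up of an affine open into the glued scheme -/
noncomputable def incl (U : X.affineOpens) : Bl Haff 𝓘 U ⟶ (gd Haff 𝓘).glued :=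
  colimit.ι (gd Haff 𝓘).functor U

theorem incl_toBase (U : X.affineOpens) :
    incl Haff 𝓘 U ≫ (gd Haff 𝓘).toBase = bl Haff 𝓘 U ≫ U.1.ι :=
  (gd Haff 𝓘).ι_toBase U

theorem tr_incl {U V : X.affineOpens} (hUV : U ≤ V) :
    tr Haff 𝓘 hUV ≫ incl Haff 𝓘 V = incl Haff 𝓘 U :=
  colimit.w (gd Haff 𝓘).functor (homOfLE hUV)

theorem isPullback_incl (U : X.affineOpens) :
    IsPullback (bl Haff 𝓘 U) (incl Haff 𝓘 U) U.1.ι (gd Haff 𝓘).toBase :=
  (gd Haff 𝓘).isPullback_natTrans_ι_toBase U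

theorem isEffCartierIdeal_comap_toBase :
    BlowUp.IsEffCartierIdeal (𝓘.comap (gd Haff 𝓘).toBase) := by
  refine Groth.Agent.R2.H92.ModPair.isEffCartierIdeal_of_openCover _ (gd Haff 𝓘).cover
    fun (U : X.affineOpens) => ?_
  show BlowUp.IsEffCartierIdeal ((𝓘.comap (gd Haff 𝓘).toBase).comap (incl Haff 𝓘 U))
  rw [← Scheme.IdealSheafData.comap_comp, incl_toBase, Scheme.IdealSheafData.comap_comp]
  exact (isBlowUp_bl Haff 𝓘 U).1

section Lift

variable {Y : Scheme.{u}} (g : Y ⟶ X) (hE : BlowUp.IsEffCartierIdeal (𝓘.comap g))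

include hE in
theorem isEffCartier_comap_snd (U : X.affineOpens) :
    BlowUp.IsEffCartierIdeal ((res 𝓘 U).comap (pullback.snd g U.1.ι)) := by
  rw [← Scheme.IdealSheafData.comap_comp, ← pullback.condition,
    Scheme.IdealSheafData.comap_comp]
  exact Groth.Agent.S10855.result _ _ hE

/-- the local lifts -/
noncomputable def loc (U : X.affineOpens) : pullback g U.1.ι ⟶ Bl Haff 𝓘 U :=
  ((isBlowUp_bl Haff 𝓘 U).2 _ (pullback.snd g U.1.ι)
    (isEffCartier_comap_snd 𝓘 g hE U)).exists.choose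

theorem loc_bl (U : X.affineOpens) :
    loc Haff 𝓘 g hE U ≫ bl Haff 𝓘 U = pullback.snd g U.1.ι :=
  ((isBlowUp_bl Haff 𝓘 U).2 _ (pullback.snd g U.1.ι)
    (isEffCartier_comap_snd 𝓘 g hE U)).exists.choose_spec

theorem eq_loc (U : X.affineOpens) (k : pullback g U.1.ι ⟶ Bl Haff 𝓘 U)
    (hk : k ≫ bl Haff 𝓘 U = pullback.snd g U.1.ι) : k = loc Haff 𝓘 g hE U := by
  apply hom_ext_isBlowUp (isBlowUp_bl Haff 𝓘 U)
  · rw [hk]; exact isEffCartier_comap_snd 𝓘 g hE U
  · rw [hk, loc_bl]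

/-- transition maps of the pulled-back cover -/
noncomputable def tY {U V : X.affineOpens} (hUV : U ≤ V) :
    pullback g U.1.ι ⟶ pullback g V.1.ι :=
  pullback.map g U.1.ι g V.1.ι (𝟙 _) (X.homOfLE hUV) (𝟙 _) (by simp) (by simp)

theorem tY_snd {U V : X.affineOpens} (hUV : U ≤ V) :
    tY g hUV ≫ pullback.snd g V.1.ι = pullback.snd g U.1.ι ≫ X.homOfLE hUV :=
  pullback.lift_snd _ _ _

theorem tY_loc {U V : X.affineOpens} (hUV : U ≤ V) :
    tY g hUV ≫ loc Haff 𝓘 g hE V = loc Haff 𝓘 g hE U ≫ tr Haff 𝓘 hUV := by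
  apply hom_ext_isBlowUp (isBlowUp_bl Haff 𝓘 V)
  · rw [Category.assoc, loc_bl, tY_snd, Scheme.IdealSheafData.comap_comp, res_comap_homOfLE]
    exact isEffCartier_comap_snd 𝓘 g hE U
  · rw [Category.assoc, loc_bl, tY_snd, Category.assoc, tr_bl, ← Category.assoc, loc_bl]

theorem tY_loc_incl {U V : X.affineOpens} (hUV : U ≤ V) :
    tY g hUV ≫ loc Haff 𝓘 g hE V ≫ incl Haff 𝓘 V = loc Haff 𝓘 g hE U ≫ incl Haff 𝓘 U := by
  rw [← Category.assoc, tY_loc, Category.assoc, tr_incl]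

/-- the glued lift -/
noncomputable def lift : Y ⟶ (gd Haff 𝓘).glued :=
  Scheme.OpenCover.glueMorphismsOfLocallyDirected (X.directedAffineCover.pullback₁ g)
    (fun (U : X.affineOpens) => loc Haff 𝓘 g hE U ≫ incl Haff 𝓘 U)
    (fun {U V} f => tY_loc_incl Haff 𝓘 g hE (U := U) (V := V) (leOfHom f))

theorem fst_lift (U : X.affineOpens) :
    pullback.fst g U.1.ι ≫ lift Haff 𝓘 g hE = loc Haff 𝓘 g hE U ≫ incl Haff 𝓘 U :=
  Scheme.OpenCover.map_glueMorphismsOfLocallyDirected (X.directedAffineCover.pullback₁ g)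
    (fun (U : X.affineOpens) => loc Haff 𝓘 g hE U ≫ incl Haff 𝓘 U)
    (fun {U V} f => tY_loc_incl Haff 𝓘 g hE (U := U) (V := V) (leOfHom f)) U

theorem lift_toBase : lift Haff 𝓘 g hE ≫ (gd Haff 𝓘).toBase = g := by
  refine Scheme.Cover.hom_ext (X.directedAffineCover.pullback₁ g) _ _
    fun (U : X.affineOpens) => ?_
  show pullback.fst g U.1.ι ≫ lift Haff 𝓘 g hE ≫ (gd Haff 𝓘).toBase = pullback.fst g U.1.ι ≫ g
  rw [← Category.assoc, fst_lift, Category.assoc, incl_toBase, ← Category.assoc, loc_bl,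
    pullback.condition]

theorem eq_lift (h' : Y ⟶ (gd Haff 𝓘).glued) (hh' : h' ≫ (gd Haff 𝓘).toBase = g) :
    h' = lift Haff 𝓘 g hE := by
  refine Scheme.Cover.hom_ext (X.directedAffineCover.pullback₁ g) _ _
    fun (U : X.affineOpens) => ?_
  show pullback.fst g U.1.ι ≫ h' = pullback.fst g U.1.ι ≫ lift Haff 𝓘 g hE
  have hpb := isPullback_incl Haff 𝓘 U
  have w : pullback.snd g U.1.ι ≫ U.1.ι = (pullback.fst g U.1.ι ≫ h') ≫ (gd Haff 𝓘).toBase := by
    rw [Category.assoc, hh', pullback.condition]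
  have hk := eq_loc Haff 𝓘 g hE U (hpb.lift _ _ w) (hpb.lift_fst _ _ w)
  rw [fst_lift, ← hk, hpb.lift_snd]

end Lift

/-- **the glued scheme is a blow-up** -/
theorem isBlowUp_toBase : BlowUp.IsBlowUp (gd Haff 𝓘).toBase 𝓘 :=
  ⟨isEffCartierIdeal_comap_toBase Haff 𝓘, fun _ g hE =>
    ⟨lift Haff 𝓘 g hE, lift_toBase Haff 𝓘 g hE, fun h' hh' => eq_lift Haff 𝓘 g hE h' hh'⟩⟩

end Glue

/-- **If blow-ups of affine schemes exist then all blow-ups exist.** -/
theorem exists_isBlowUp_of_affine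
    (Haff : ∀ (U : Scheme.{u}) [IsAffine U] (J : U.IdealSheafData),
      ∃ (P : Scheme.{u}) (b : P ⟶ U), BlowUp.IsBlowUp b J)
    (X : Scheme.{u}) (𝓘 : X.IdealSheafData) :
    ∃ (X' : Scheme.{u}) (b : X' ⟶ X), BlowUp.IsBlowUp b 𝓘 :=
  ⟨_, _, isBlowUp_toBase Haff 𝓘⟩

end Groth.Agent.R2.H92.BlowGlue
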