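import Mathlib
import Groth.Prelude.Def_BlowUp2
import Groth.Prelude.Def_Rees
import Groth.Agent.R2.H92BlowAffB
import Groth.Agent.R2.H92BlowAffC
import Groth.Agent.R2.H92BlowGlue

/-!
# Existence of blow-ups (helper92)

* `isBlowUp_projRees` : for an affine scheme `T` and an ideal sheaf `J` with ideal of global sections
  `I`, the morphism `Proj (⊕ Iⁿ) ⟶ T` is a blowing up of `T` in `J`.
* `exists_isBlowUp_affine`, `exists_isBlowUp` : blow-ups exist.
-/

set_option autoImplicit false
universe u

open CategoryTheory CategoryTheory.Limits AlgebraicGeometry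

namespace Groth.Agent.R2.H92.BlowExists

open Groth.Agent.R2.H92.BlowAffB Groth.Agent.R2.H92.BlowAffC

/-- the blow-up of an affine scheme: `Proj` of the Rees algebra of the ideal of global sections -/
noncomputable abbrev projRees {T : Scheme.{u}} [IsAffine T] (J : T.IdealSheafData) : Scheme.{u} :=
  Proj (gr (topIdeal J))

/-- the structure morphism of the blow-up of an affine scheme -/
noncomputable abbrev projReesHom {T : Scheme.{u}} [IsAffine T] (J : T.IdealSheafData) :
    projRees J ⟶ T :=
  bl (gr (topIdeal J))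

theorem isBlowUp_projRees {T : Scheme.{u}} [IsAffine T] (J : T.IdealSheafData) :
    BlowUp.IsBlowUp (projReesHom J) J :=
  isBlowUp_bl (reesLike (topIdeal J))

theorem exists_isBlowUp_affine (T : Scheme.{u}) [IsAffine T] (J : T.IdealSheafData) :
    ∃ (P : Scheme.{u}) (b : P ⟶ T), BlowUp.IsBlowUp b J :=
  ⟨projRees J, projReesHom J, isBlowUp_projRees J⟩

/-- blow-ups exist -/
theorem exists_isBlowUp (X : Scheme.{u}) (𝓘 : X.IdealSheafData) :
    ∃ (X' : Scheme.{u}) (b : X' ⟶ X), BlowUp.IsBlowUp b 𝓘 :=
  Groth.Agent.R2.H92.BlowGlue.exists_isBlowUp_of_affine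
    (fun U _ J => exists_isBlowUp_affine U J) X 𝓘

end Groth.Agent.R2.H92.BlowExists
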