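import Mathlib
import Groth.Prelude.Def_BlowUp2
import Groth.Agent.Lib.Helper22FTIdeal
import Groth.Agent.Lib.Helper10Spectral
import Groth.Agent.R2.H92BlowExists

/-!
# Separating disjoint constructible closed subsets of a quasi-compact open by an admissible
blow-up (Stacks 080P (2)) (helper32)

* `isCompact_of_isConstructible` : constructible subsets of a spectral space are quasi-compact.
* `exists_ft_support_eq` : on a qcqs scheme, a closed subset with quasi-compact complement is the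
  support of a finite type ideal sheaf.
* `separate` : the statement of S1279.
-/

set_option autoImplicit false
universe u

open CategoryTheory AlgebraicGeometry TopologicalSpace Topology nonZeroDivisors

namespace Groth.Agent.R2.H32.BlowSep

open Groth.Agent.Lib.Helper22.FTIdeal

theorem isCompact_of_isConstructible {Y : Type*} [TopologicalSpace Y] [CompactSpace Y] [QuasiSober Y]
    [PrespectralSpace Y] [QuasiSeparatedSpace Y] {s : Set Y} (hs : IsConstructible s) :
    IsCompact s :=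
  Groth.Agent.Lib.Helper10.Spectral.isCompact_of_isClosed_constr
    (Groth.Agent.Lib.Helper10.Spectral.isClosed_constr_of_isConstructible hs)

theorem isCompact_image_compl {X : Scheme.{u}} [QuasiSeparatedSpace X] (U : X.Opens)
    (hU : IsCompact (U : Set X)) (T : Set U) (hc : IsConstructible T) :
    IsCompact (Subtype.val '' Tᶜ : Set X) := by
  have : CompactSpace U := isCompact_iff_compactSpace.mp hU
  have : QuasiSeparatedSpace U := U.isOpenEmbedding.quasiSeparatedSpace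
  have : QuasiSober U := inferInstanceAs (QuasiSober (U : Scheme.{u}))
  have : PrespectralSpace U := inferInstanceAs (PrespectralSpace (U : Scheme.{u}))
  exact (isCompact_of_isConstructible hc.compl).image continuous_subtype_val

/-- Stacks 01PH: on a qcqs scheme a closed subset with quasi-compact complement is the support of a
finite type ideal sheaf. -/
theorem exists_ft_support_eq {X : Scheme.{u}} [CompactSpace X] [QuasiSeparatedSpace X]
    (W : X.Opens) (hW : IsCompact (W : Set X)) :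
    ∃ J : X.IdealSheafData, FT J ∧ (J.support : Set X) = (W : Set X)ᶜ := by
  classical
  let Z : Closeds X := ⟨(W : Set X)ᶜ, W.2.isClosed_compl⟩
  let I := Scheme.IdealSheafData.vanishingIdeal Z
  have hItop : ∀ V : X.affineOpens, V.1 ≤ W → I.ideal V = ⊤ := by
    intro V hV
    rw [Ideal.eq_top_iff_one, Scheme.IdealSheafData.vanishingIdeal_ideal,
      PrimeSpectrum.mem_vanishingIdeal]
    intro q hq
    exfalso
    have hq' : V.2.fromSpec q ∈ (V.1 : Set X) := by
      rw [← V.2.range_fromSpec]; exact Set.mem_range_self q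
    exact hq (hV hq')
  have hIW : FTOn I W := fun V hV => by
    rw [hItop V hV]; exact ⟨{1}, by simp⟩
  obtain ⟨s, hs, hsX⟩ := isCompact_iff_finite_and_eq_biUnion_affineOpens.mp
    (show IsCompact ((⊤ : X.Opens) : Set X) from isCompact_univ)
  obtain ⟨J, hJle, hJft, hJeq⟩ := extend_finset hs.toFinset I W hW hIW
  refine ⟨J, ?_, ?_⟩
  · rw [ft_iff_ftOn_top]
    refine hJft.mono ?_
    refine le_sup_of_le_right ?_
    rw [hsX]
    simp
  · apply subset_antisymm
    · intro x hx hxW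
      obtain ⟨V, hVaff, hxV, hVW⟩ := Opens.isBasis_iff_nbhd.1 X.isBasis_affineOpens hxW
      have h1 := (Scheme.IdealSheafData.mem_support_iff_of_mem (I := J) (U := ⟨V, hVaff⟩) hxV).mp hx
      rw [hJeq ⟨V, hVaff⟩ hVW, hItop ⟨V, hVaff⟩ hVW, Scheme.mem_zeroLocus_iff] at h1
      have h2 := h1 1 (by simp)
      rw [Scheme.basicOpen_one] at h2
      exact h2 hxV
    · have h2 := Scheme.IdealSheafData.support_antitone hJle
      have h3 : (I.support : Set X) = Z := Scheme.IdealSheafData.coe_support_vanishingIdeal Z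
      intro x hx
      have : x ∈ (I.support : Set X) := by rw [h3]; exact hx
      exact h2 this

/-- local computation: if `K₁ + K₂ = (t)` with `t` a nonzerodivisor there are `c₁ + c₂ = 1` with
`c_i t ∈ K_i` -/
theorem exists_cofactors {R : Type*} [CommRing R] (K₁ K₂ : Ideal R) (t : R) (ht : t ∈ R⁰)
    (h : K₁ ⊔ K₂ = Ideal.span {t}) : ∃ c₁ c₂ : R, c₁ + c₂ = 1 ∧ c₁ * t ∈ K₁ ∧ c₂ * t ∈ K₂ := by
  have htm : t ∈ K₁ ⊔ K₂ := h ▸ Ideal.mem_span_singleton_self t
  obtain ⟨k₁, hk₁, k₂, hk₂, hk⟩ := Submodule.mem_sup.mp htm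
  have h1 : k₁ ∈ Ideal.span {t} := h ▸ (le_sup_left : K₁ ≤ K₁ ⊔ K₂) hk₁
  have h2 : k₂ ∈ Ideal.span {t} := h ▸ (le_sup_right : K₂ ≤ K₁ ⊔ K₂) hk₂
  obtain ⟨c₁, rfl⟩ := Ideal.mem_span_singleton'.mp h1
  obtain ⟨c₂, rfl⟩ := Ideal.mem_span_singleton'.mp h2
  refine ⟨c₁, c₂, ?_, hk₁, hk₂⟩
  have h3 : (c₁ + c₂ - 1) * t = 0 := by
    rw [sub_mul, add_mul, hk, one_mul, sub_self]
  exact sub_eq_zero.mp (ht.2 _ h3)

/-- **Stacks 080P (2).** -/
theorem separate {X : Scheme.{u}} [CompactSpace X] [QuasiSeparatedSpace X]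
    (U : X.Opens) (hU : IsCompact (U : Set X)) (T₁ T₂ : Set U)
    (h₁ : IsClosed T₁) (h₂ : IsClosed T₂) (c₁ : IsConstructible T₁) (c₂ : IsConstructible T₂)
    (hd : Disjoint T₁ T₂) :
    ∃ (𝓘 : X.IdealSheafData) (X' : Scheme.{u}) (b : X' ⟶ X), BlowUp.IsBlowUp b 𝓘 ∧
      BlowUp.IsAdmissibleFor U 𝓘 ∧
      Disjoint (closure (b.base ⁻¹' (Subtype.val '' T₁)))
        (closure (b.base ⁻¹' (Subtype.val '' T₂))) := by
  classical
  -- the opens `W_i = U \ T_i`
  let W₁ : X.Opens := ⟨Subtype.val '' T₁ᶜ, U.isOpenEmbedding.isOpenMap _ h₁.isOpen_compl⟩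
  let W₂ : X.Opens := ⟨Subtype.val '' T₂ᶜ, U.isOpenEmbedding.isOpenMap _ h₂.isOpen_compl⟩
  have hW₁ : IsCompact (W₁ : Set X) := isCompact_image_compl U hU T₁ c₁
  have hW₂ : IsCompact (W₂ : Set X) := isCompact_image_compl U hU T₂ c₂
  obtain ⟨J₁, hJ₁ft, hJ₁s⟩ := exists_ft_support_eq W₁ hW₁
  obtain ⟨J₂, hJ₂ft, hJ₂s⟩ := exists_ft_support_eq W₂ hW₂
  -- `T_i ⊆ supp J_i`
  have hF1 : ∀ x ∈ Subtype.val '' T₁, x ∈ J₁.support := by
    rintro _ ⟨t, ht, rfl⟩
    change (t : X) ∈ (J₁.support : Set X)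
    rw [hJ₁s]
    rintro ⟨t', ht', e⟩
    exact ht' (Subtype.val_injective e ▸ ht)
  have hF2 : ∀ x ∈ Subtype.val '' T₂, x ∈ J₂.support := by
    rintro _ ⟨t, ht, rfl⟩
    change (t : X) ∈ (J₂.support : Set X)
    rw [hJ₂s]
    rintro ⟨t', ht', e⟩
    exact ht' (Subtype.val_injective e ▸ ht)
  -- `supp J₁ ∩ supp J₂ ∩ U = ∅`
  have hF3 : ∀ x ∈ U, ¬ (x ∈ J₁.support ∧ x ∈ J₂.support) := by
    rintro x hxU ⟨hx1, hx2⟩
    have hx1' : x ∈ (J₁.support : Set X) := hx1
    have hx2' : x ∈ (J₂.support : Set X) := hx2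
    rw [hJ₁s] at hx1'
    rw [hJ₂s] at hx2'
    by_cases hT : (⟨x, hxU⟩ : U) ∈ T₁
    · have : (⟨x, hxU⟩ : U) ∉ T₂ := fun h => (Set.disjoint_left.mp hd) hT h
      exact hx2' ⟨⟨x, hxU⟩, this, rfl⟩
    · exact hx1' ⟨⟨x, hxU⟩, hT, rfl⟩
  obtain ⟨X', b, hb⟩ := Groth.Agent.R2.H92.BlowExists.exists_isBlowUp X (J₁ ⊔ J₂)
  refine ⟨J₁ ⊔ J₂, X', b, hb, ⟨hJ₁ft.sup hJ₂ft, ?_⟩, ?_⟩
  · rw [Set.disjoint_left]
    intro x hx hxU
    rw [Scheme.IdealSheafData.support_sup] at hx
    exact hF3 x hxU ⟨hx.1, hx.2⟩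
  · rw [Set.disjoint_left]
    intro x' hx1 hx2
    obtain ⟨V', hxV', t, ht, hIt0⟩ := hb.1 x'
    have hIt : (J₁.comap b).ideal V' ⊔ (J₂.comap b).ideal V' = Ideal.span {t} := by
      rw [← hIt0, Scheme.IdealSheafData.comap_sup, Scheme.IdealSheafData.ideal_sup]
      rfl
    obtain ⟨d₁, d₂, hd12, hd₁, hd₂⟩ := exists_cofactors _ _ t ht hIt
    -- points of `V'` over `U` lie in `D(t)`
    have hUt : ∀ y ∈ V'.1, b y ∈ U → y ∈ X'.basicOpen t := by
      intro y hy hyU
      have h1 : y ∉ ((J₁ ⊔ J₂).comap b).support := by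
        rw [Scheme.IdealSheafData.support_comap]
        intro h
        have h' : b y ∈ (J₁ ⊔ J₂).support := h
        rw [Scheme.IdealSheafData.support_sup] at h'
        exact hF3 _ hyU ⟨h'.1, h'.2⟩
      rw [Scheme.IdealSheafData.mem_support_iff_of_mem (U := V') hy, hIt0,
        Scheme.mem_zeroLocus_iff] at h1
      push Not at h1
      obtain ⟨g, hg, hyg⟩ := h1
      obtain ⟨g', rfl⟩ := Ideal.mem_span_singleton'.mp hg
      rw [Scheme.basicOpen_mul] at hyg
      exact hyg.2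
    -- key claims
    have key : ∀ (J : X.IdealSheafData) (d : Γ(X', V'.1)), d * t ∈ (J.comap b).ideal V' →
        ∀ y ∈ V'.1, b y ∈ J.support → b y ∈ U → y ∉ X'.basicOpen d := by
      intro J d hdJ y hy hyJ hyU hyd
      have h1 : y ∈ (J.comap b).support := by
        rw [Scheme.IdealSheafData.support_comap]
        exact hyJ
      rw [Scheme.IdealSheafData.mem_support_iff_of_mem (U := V') hy, Scheme.mem_zeroLocus_iff] at h1
      have h2 := h1 _ hdJ
      rw [Scheme.basicOpen_mul] at h2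
      exact h2 ⟨hyd, hUt y hy hyU⟩
    have hx'or : x' ∈ X'.basicOpen d₁ ∨ x' ∈ X'.basicOpen d₂ := by
      have h1 : x' ∈ X'.basicOpen (d₁ + d₂) := by
        rw [hd12, Scheme.basicOpen_one]; exact hxV'
      have h2 := X'.basicOpen_add_le _ _ h1
      simpa using h2
    rcases hx'or with h | h
    · -- `D(d₁)` is a neighbourhood of `x'` missing the preimage of `T₁`
      obtain ⟨y, hyd, hyT⟩ := mem_closure_iff.mp hx1 _ (X'.basicOpen d₁).2 h
      have hyV : y ∈ V'.1 := X'.basicOpen_le _ hyd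
      obtain ⟨u, hu, hue⟩ := hyT
      have hyU : b y ∈ U := by
        rw [← hue]; exact u.2
      exact key J₁ d₁ hd₁ y hyV (hF1 _ ⟨u, hu, hue⟩) hyU hyd
    · obtain ⟨y, hyd, hyT⟩ := mem_closure_iff.mp hx2 _ (X'.basicOpen d₂).2 h
      have hyV : y ∈ V'.1 := X'.basicOpen_le _ hyd
      obtain ⟨u, hu, hue⟩ := hyT
      have hyU : b y ∈ U := by
        rw [← hue]; exact u.2
      exact key J₂ d₂ hd₂ y hyV (hF2 _ ⟨u, hu, hue⟩) hyU hyd

end Groth.Agent.R2.H32.BlowSep
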