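import Mathlib
import Groth.Prelude.Def_BlowUp2
import Groth.Agent.Lib.Helper20BlowUp
import Groth.Agent.R2.H32BlowSep

/-!
# Closures after blowing up `I₁ + I₂` (helper32)

`core`: the local chart computation behind S17391 / S17392: after blowing up `I₁ + I₂`, the closure
of the preimage of `V \ U` (which lies in `supp I₁`, away from `supp I₂`) does not meet the image of
the closure of a set `S` lying over `U` and inside the zero locus of an ideal `F` with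
`I₂ O ⊆ I₁² O + F`.
-/

set_option autoImplicit false
universe u

open CategoryTheory CategoryTheory.Limits AlgebraicGeometry TopologicalSpace nonZeroDivisors

namespace Groth.Agent.R2.H32.BlowCl

open Groth.Agent.Lib.Helper20 Groth.Agent.Lib.Helper20.BlowUpBasic

theorem mem_basicOpen_iff_notMem_primeIdealOf {X : Scheme.{u}} {U : X.Opens} (hU : IsAffineOpen U)
    {x : X} (hx : x ∈ U) (g : Γ(X, U)) :
    x ∈ X.basicOpen g ↔ g ∉ (hU.primeIdealOf ⟨x, hx⟩).asIdeal := by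
  let _ := TopCat.Presheaf.algebra_section_stalk X.presheaf ⟨x, hx⟩
  have := hU.isLocalization_stalk ⟨x, hx⟩
  rw [Scheme.mem_basicOpen _ _ _ hx]
  exact IsLocalization.AtPrime.isUnit_to_map_iff (X.presheaf.stalk x)
    (hU.primeIdealOf ⟨x, hx⟩).asIdeal g

/-- a point of an affine open `W` outside the support of `J`, where `J(W) = (t)`, lies in `D(t)` -/
theorem mem_basicOpen_of_notMem_support {X : Scheme.{u}} (J : X.IdealSheafData) (W : X.affineOpens)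
    (t : Γ(X, W.1)) (hJ : J.ideal W = Ideal.span {t}) {y : X} (hy : y ∈ W.1) (hys : y ∉ J.support) :
    y ∈ X.basicOpen t := by
  rw [Scheme.IdealSheafData.mem_support_iff_of_mem (U := W) hy, hJ, Scheme.mem_zeroLocus_iff] at hys
  push Not at hys
  obtain ⟨g, hg, hyg⟩ := hys
  obtain ⟨g', rfl⟩ := Ideal.mem_span_singleton'.mp hg
  rw [Scheme.basicOpen_mul] at hyg
  exact hyg.2

/-- a point of the support of `J` in an affine open `W` lies outside `D(k)` for `k ∈ J(W)` -/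
theorem notMem_basicOpen_of_mem_support {X : Scheme.{u}} (J : X.IdealSheafData) (W : X.affineOpens)
    {k : Γ(X, W.1)} (hk : k ∈ J.ideal W) {y : X} (hy : y ∈ W.1) (hys : y ∈ J.support) :
    y ∉ X.basicOpen k := by
  rw [Scheme.IdealSheafData.mem_support_iff_of_mem (U := W) hy, Scheme.mem_zeroLocus_iff] at hys
  exact hys k hk

theorem core' {X X' Z' : Scheme.{u}} (U V : X.Opens) (𝓘₁ 𝓘₂ : X.IdealSheafData)
    (h₁ : (V : Set X) \ (U : Set X) ⊆ (𝓘₁.support : Set X))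
    (h₁' : Disjoint (𝓘₁.support : Set X) (U : Set X))
    (h₂ : (𝓘₂.support : Set X) ⊆ (𝓘₁.support : Set X) \ (V : Set X))
    (q : X' ⟶ X) (hq : BlowUp.IsBlowUp q (𝓘₁ ⊔ 𝓘₂))
    (p' : Z' ⟶ X') (F : Z'.IdealSheafData) (S : Set Z')
    (hS : S ⊆ (F.support : Set Z')) (hSU : ∀ s ∈ S, q (p' s) ∈ U)
    (hincl : 𝓘₂.comap (p' ≫ q) ≤ 𝓘₁.comap (p' ≫ q) ⊔ F) :
    Disjoint (closure S) ((fun z => p' z) ⁻¹' closure ((fun x' => q x') ⁻¹' ((V : Set X) \ (U : Set X)))) := by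
  rw [Set.disjoint_left]
  intro z' hzS hzcl
  obtain ⟨W', hx'W', t, ht, hIt0⟩ := hq.1 (p' z')
  have hIt : (𝓘₁.comap q).ideal W' ⊔ (𝓘₂.comap q).ideal W' = Ideal.span {t} := by
    rw [← hIt0, Scheme.IdealSheafData.comap_sup, Scheme.IdealSheafData.ideal_sup]
    rfl
  obtain ⟨a₁, a₂, ha12, ha₁, ha₂⟩ :=
    Groth.Agent.R2.H32.BlowSep.exists_cofactors _ _ t ht hIt
  -- points over `U` or over `V` lie in `D(t)`
  have hDt : ∀ y ∈ W'.1, q y ∉ (𝓘₁ ⊔ 𝓘₂).support → y ∈ X'.basicOpen t := by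
    intro y hy hyn
    refine mem_basicOpen_of_notMem_support _ W' t hIt0 hy ?_
    rw [Scheme.IdealSheafData.support_comap]
    exact hyn
  have hsupp12 : ∀ x : X, x ∈ (𝓘₁ ⊔ 𝓘₂).support → x ∈ 𝓘₁.support ∧ x ∈ 𝓘₂.support := by
    intro x hx
    rw [Scheme.IdealSheafData.support_sup] at hx
    exact ⟨hx.1, hx.2⟩
  -- Step 1
  have step1 : ∀ a : Γ(X', W'.1), a * t ∈ (𝓘₁.comap q).ideal W' → p' z' ∉ X'.basicOpen a := by
    intro a hat hxa
    obtain ⟨y, hya, hyVU⟩ := mem_closure_iff.mp hzcl _ (X'.basicOpen a).2 hxa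
    have hyW : y ∈ W'.1 := X'.basicOpen_le _ hya
    have hy1 : y ∈ (𝓘₁.comap q).support := by
      rw [Scheme.IdealSheafData.support_comap]
      exact h₁ hyVU
    have hy2 := notMem_basicOpen_of_mem_support _ W' hat hyW hy1
    have hy3 : y ∈ X'.basicOpen t := by
      apply hDt y hyW
      intro hmem
      exact (h₂ (hsupp12 _ hmem).2).2 hyVU.1
    rw [Scheme.basicOpen_mul] at hy2
    exact hy2 ⟨hya, hy3⟩
  -- Step 2: an affine neighbourhood of `z'`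
  obtain ⟨N', hN', hzN', hle⟩ := exists_isAffineOpen_mem_and_subset (x := z') (U := p' ⁻¹ᵁ W'.1) hx'W'
  let ρ := (p'.appLE W'.1 N' hle).hom
  let P := (hN'.primeIdealOf ⟨z', hzN'⟩).asIdeal
  have hP : P.IsPrime := (hN'.primeIdealOf ⟨z', hzN'⟩).isPrime
  have hcm : ∀ J : X.IdealSheafData, (J.comap (p' ≫ q)).ideal ⟨N', hN'⟩ =
      ((J.comap q).ideal W').map ρ := by
    intro J
    rw [Scheme.IdealSheafData.comap_comp]
    exact EffCartier.ideal_comap_eq_map p' _ hN' W'.2 hle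
  have hP1 : ∀ r : Γ(X', W'.1), p' z' ∉ X'.basicOpen r → ρ r ∈ P := by
    intro r hr
    by_contra hcon
    have h1 := (mem_basicOpen_iff_notMem_primeIdealOf hN' hzN' (ρ r)).mpr hcon
    have h2 : Z'.basicOpen (ρ r) = N' ⊓ p' ⁻¹ᵁ (X'.basicOpen r) := Scheme.basicOpen_appLE p' N' W'.1 hle r
    rw [h2] at h1
    exact hr h1.2
  have hK1 : ((𝓘₁.comap q).ideal W').map ρ ≤ Ideal.span {ρ t} * P := by
    rw [Ideal.map_le_iff_le_comap]
    intro k hk
    have hk' : k ∈ Ideal.span {t} := hIt ▸ (le_sup_left : (𝓘₁.comap q).ideal W' ≤ _) hk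
    obtain ⟨a, rfl⟩ := Ideal.mem_span_singleton'.mp hk'
    have h3 := Ideal.mul_mem_mul (Ideal.mem_span_singleton_self (ρ t)) (hP1 a (step1 a hk))
    rw [Ideal.mem_comap, map_mul, mul_comm (ρ a)]
    exact h3
  have hincl' := hincl ⟨N', hN'⟩
  rw [Scheme.IdealSheafData.ideal_sup, Pi.sup_apply, hcm, hcm] at hincl'
  have hle2 : ((𝓘₁.comap q).ideal W').map ρ ⊔ F.ideal ⟨N', hN'⟩ ≤
      Ideal.span {ρ t} * P ⊔ F.ideal ⟨N', hN'⟩ := sup_le_sup_right hK1 _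
  have hmem : ρ (a₂ * t) ∈ Ideal.span {ρ t} * P ⊔ F.ideal ⟨N', hN'⟩ :=
    hle2 (hincl' (Ideal.mem_map_of_mem ρ ha₂))
  obtain ⟨m, hm, κ, hκ, hmκ⟩ := Submodule.mem_sup.mp hmem
  obtain ⟨π, hπ, rfl⟩ := Ideal.mem_span_singleton_mul.mp hm
  -- `ρ t * (ρ a₂ - π) = κ`
  have hβ : ρ t * (ρ a₂ - π) = κ := by
    have : ρ (a₂ * t) = ρ a₂ * ρ t := map_mul _ _ _
    rw [this] at hmκ
    rw [mul_sub, ← sub_eq_of_eq_add hmκ.symm]
    ring
  -- Step 3
  have step3 : z' ∉ Z'.basicOpen (ρ a₂ - π) := by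
    intro hzβ
    obtain ⟨y', hyβ, hyS⟩ := mem_closure_iff.mp hzS _ (Z'.basicOpen (ρ a₂ - π)).2 hzβ
    have hyN : y' ∈ N' := Z'.basicOpen_le _ hyβ
    have hy1 := notMem_basicOpen_of_mem_support F ⟨N', hN'⟩ hκ hyN (hS hyS)
    have hy2 : p' y' ∈ X'.basicOpen t := by
      apply hDt _ (hle hyN)
      intro hmem
      exact (Set.disjoint_left.mp h₁') (hsupp12 _ hmem).1 (hSU y' hyS)
    have hy3 : y' ∈ Z'.basicOpen (ρ t) := by
      have h2 : Z'.basicOpen (ρ t) = N' ⊓ p' ⁻¹ᵁ (X'.basicOpen t) := Scheme.basicOpen_appLE p' N' W'.1 hle t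
      rw [h2]
      exact ⟨hyN, hy2⟩
    rw [← hβ, Scheme.basicOpen_mul] at hy1
    exact hy1 ⟨hy3, hyβ⟩
  -- Step 4
  have hβP : ρ a₂ - π ∈ P := by
    by_contra hcon
    exact step3 ((mem_basicOpen_iff_notMem_primeIdealOf hN' hzN' _).mpr hcon)
  have h2P : ρ a₂ ∈ P := by
    have := P.add_mem hβP hπ
    rwa [sub_add_cancel] at this
  have h1P : ρ a₁ ∈ P := hP1 a₁ (step1 a₁ ha₁)
  have : (1 : Γ(Z', N')) ∈ P := by
    have := P.add_mem h1P h2P
    rwa [← map_add, ha12, map_one] at this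
  exact hP.ne_top ((Ideal.eq_top_iff_one _).mpr this)

theorem core {X X' Z' : Scheme.{u}} (U V : X.Opens) (𝓘₁ 𝓘₂ : X.IdealSheafData)
    (h₁ : (V : Set X) \ (U : Set X) ⊆ (𝓘₁.support : Set X))
    (h₁' : Disjoint (𝓘₁.support : Set X) (U : Set X))
    (h₂ : (𝓘₂.support : Set X) ⊆ (𝓘₁.support : Set X) \ (V : Set X))
    (q : X' ⟶ X) (hq : BlowUp.IsBlowUp q (𝓘₁ ⊔ 𝓘₂))
    (p' : Z' ⟶ X') (F : Z'.IdealSheafData) (S : Set Z')
    (hS : S ⊆ (F.support : Set Z')) (hSU : ∀ s ∈ S, q (p' s) ∈ U)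
    (hincl : 𝓘₂.comap (p' ≫ q) ≤ (𝓘₁ * 𝓘₁).comap (p' ≫ q) ⊔ F) :
    Disjoint (closure S) ((fun z => p' z) ⁻¹' closure ((fun x' => q x') ⁻¹' ((V : Set X) \ (U : Set X)))) :=
  core' U V 𝓘₁ 𝓘₂ h₁ h₁' h₂ q hq p' F S hS hSU
    (hincl.trans (sup_le_sup_right (Scheme.IdealSheafData.comap_mono _
      (fun W => by
        rw [Scheme.IdealSheafData.ideal_mul]
        exact Ideal.mul_le_left)) _))

end Groth.Agent.R2.H32.BlowCl
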