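import Mathlib
import Groth.Agent.R2.H92ModPairCoprod

/-!
# Ideal sheaves on disjoint unions (helper92)

* `quasiCompact_of_isClosed_range`: an open immersion with closed range is quasi-compact.
* `isClosed_range_sigmaι`.
* `comap_inf_of_isOpenImmersion`, `comap_map_of_isOpenImmersion`.
* `le_of_openCover`: `K ≤ L` can be checked after pulling back to an open cover.
* `exists_idealSheafData_sigma`: a family of ideal sheaves on `X i` glues to an ideal sheaf on
  `∐ X`.
-/

set_option autoImplicit false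
universe v u

open CategoryTheory CategoryTheory.Limits AlgebraicGeometry TopologicalSpace

namespace Groth.Agent.R2.H92.SigmaIdeal

variable {U Z : Scheme.{u}}

/-- an open immersion with closed range is quasi-compact -/
theorem quasiCompact_of_isClosed_range (j : U ⟶ Z) [IsOpenImmersion j]
    (h : IsClosed (Set.range j)) : QuasiCompact j := by
  constructor
  intro K _ hK
  have hce : Topology.IsClosedEmbedding j := ⟨j.isOpenEmbedding.isEmbedding, h⟩
  exact hce.isCompact_preimage hK

/-- the summands of a disjoint union are closed -/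
theorem isClosed_range_sigmaι {σ : Type v} [Small.{u} σ] (X : σ → Scheme.{u}) (i : σ) :
    IsClosed (Set.range (Sigma.ι X i)) := by
  rw [← isOpen_compl_iff]
  have : (Set.range (Sigma.ι X i))ᶜ = ⋃ j : {j // j ≠ i}, Set.range (Sigma.ι X j.1) := by
    ext x
    constructor
    · intro hx
      obtain ⟨j, y, rfl⟩ := (sigmaOpenCover X).exists_eq x
      by_cases h : j = i
      · subst h
        exact absurd ⟨y, rfl⟩ hx
      · exact Set.mem_iUnion.2 ⟨⟨j, h⟩, y, rfl⟩
    · rintro hx ⟨y, hy⟩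
      obtain ⟨⟨j, hj⟩, z, hz⟩ := Set.mem_iUnion.1 hx
      exact (disjoint_opensRange_sigmaι X i j (Ne.symm hj)).le_bot ⟨⟨y, hy⟩, ⟨z, hz⟩⟩
  rw [this]
  exact isOpen_iUnion fun j => (Sigma.ι X j.1).isOpenEmbedding.isOpen_range

instance {σ : Type v} [Small.{u} σ] (X : σ → Scheme.{u}) (i : σ) :
    QuasiCompact (Sigma.ι X i) :=
  quasiCompact_of_isClosed_range _ (isClosed_range_sigmaι X i)

/-- pull-back along an open immersion commutes with intersections -/
theorem comap_inf_of_isOpenImmersion (j : U ⟶ Z) [IsOpenImmersion j] (A B : Z.IdealSheafData) :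
    (A ⊓ B).comap j = A.comap j ⊓ B.comap j := by
  ext V : 2
  rw [Scheme.IdealSheafData.ideal_inf, Pi.inf_apply,
    Scheme.IdealSheafData.ideal_comap_of_isOpenImmersion,
    Scheme.IdealSheafData.ideal_comap_of_isOpenImmersion,
    Scheme.IdealSheafData.ideal_comap_of_isOpenImmersion,
    Scheme.IdealSheafData.ideal_inf, Pi.inf_apply, Ideal.comap_inf]

/-- for a quasi-compact open immersion, push-forward then pull-back is the identity -/
theorem comap_map_of_isOpenImmersion (j : U ⟶ Z) [IsOpenImmersion j] [QuasiCompact j]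
    (I : U.IdealSheafData) : (I.map j).comap j = I := by
  have hpb : IsPullback I.subschemeι (𝟙 _) j (I.subschemeι ≫ j) :=
    IsPullback.of_vert_isIso_mono ⟨by simp⟩
  ext V : 2
  rw [Scheme.IdealSheafData.ideal_comap_of_isOpenImmersion]
  have := Scheme.ker_ideal_of_isPullback_of_isOpenImmersion
    (I.subschemeι ≫ j) I.subschemeι (𝟙 _) j hpb V
  rw [Scheme.IdealSheafData.ker_subschemeι] at this
  rw [this]
  rfl

/-- `K ≤ L` can be checked on an open cover -/
theorem le_of_openCover (K L : Z.IdealSheafData) (𝒰 : Scheme.OpenCover.{v} Z)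
    (h : ∀ i, K.comap (𝒰.f i) ≤ L.comap (𝒰.f i)) : K ≤ L := by
  -- affine opens of the form `𝒰.f i '' V`
  let ι : Type (max v u) := Σ i : 𝒰.I₀, (𝒰.X i).affineOpens
  let W : ι → Z.affineOpens := fun p => ⟨𝒰.f p.1 ''ᵁ p.2.1, p.2.2.image_of_isOpenImmersion _⟩
  have hcov : ⨆ p, (W p).1 = ⊤ := by
    rw [eq_top_iff]
    intro x _
    obtain ⟨i, y, rfl⟩ := 𝒰.exists_eq x
    obtain ⟨_, ⟨V, hV, rfl⟩, hyV, -⟩ := (𝒰.X i).isBasis_affineOpens.exists_subset_of_mem_open
      (Set.mem_univ y) isOpen_univ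
    exact Opens.mem_iSup.mpr ⟨⟨i, ⟨V, hV⟩⟩, ⟨y, hyV, rfl⟩⟩
  refine Scheme.IdealSheafData.le_of_iSup_eq_top W hcov fun p => ?_
  have h1 := h p.1 p.2
  rw [Scheme.IdealSheafData.ideal_comap_of_isOpenImmersion,
    Scheme.IdealSheafData.ideal_comap_of_isOpenImmersion] at h1
  have hsurj : Function.Surjective ((𝒰.f p.1).appIso p.2.1).inv.hom :=
    (ConcreteCategory.bijective_of_isIso ((𝒰.f p.1).appIso p.2.1).inv).2
  exact (Ideal.comap_le_comap_iff_of_surjective _ hsurj _ _).mp h1


/-- the kernel of the inclusion of a clopen `W` pulls back to the unit ideal along a morphism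
missing `W` -/
theorem comap_ker_ι_eq_top (W : Z.Opens) (hW : IsClosed (W : Set Z)) (j : U ⟶ Z)
    (hj : ∀ x, j x ∉ W) : W.ι.ker.comap j = ⊤ := by
  have : QuasiCompact W.ι := quasiCompact_of_isClosed_range _ (by rwa [Scheme.Opens.range_ι])
  rw [← Scheme.IdealSheafData.support_eq_bot_iff]
  ext x
  rw [Scheme.IdealSheafData.support_comap]
  show j x ∈ (W.ι.ker.support : Set Z) ↔ x ∈ (∅ : Set U)
  rw [Scheme.Hom.support_ker, Scheme.Opens.range_ι, hW.closure_eq]
  exact iff_of_false (hj x) (Set.notMem_empty x)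

/-- the kernel of the inclusion of an open `W` pulls back to the zero ideal along a morphism
factoring through `W` -/
theorem comap_ker_ι_eq_bot (W : Z.Opens) (j : U ⟶ Z) (hj : ∀ x, j x ∈ W) :
    W.ι.ker.comap j = ⊥ := by
  have hrange : Set.range j ⊆ Set.range W.ι := by
    rintro _ ⟨x, rfl⟩
    rw [Scheme.Opens.range_ι]
    exact hj x
  rw [← IsOpenImmersion.lift_fac W.ι j hrange, Scheme.IdealSheafData.comap_comp, ← le_bot_iff]
  calc (W.ι.ker.comap W.ι).comap (IsOpenImmersion.lift W.ι j hrange)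
      ≤ (⊥ : W.toScheme.IdealSheafData).comap (IsOpenImmersion.lift W.ι j hrange) := by
        apply Scheme.IdealSheafData.comap_mono
        rw [← Scheme.IdealSheafData.map_bot]
        exact Scheme.IdealSheafData.comap_map_le _ _
    _ = ⊥ := (Scheme.IdealSheafData.map_gc _).l_bot

/-- **Gluing ideal sheaves on a disjoint union.** -/
theorem exists_idealSheafData_sigma {σ : Type v} [Small.{u} σ] (X : σ → Scheme.{u})
    (I : ∀ i, (X i).IdealSheafData) :
    ∃ K : (∐ X).IdealSheafData, ∀ i, K.comap (Sigma.ι X i) = I i := by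
  classical
  let W : σ → (∐ X).Opens := fun i =>
    ⟨(Set.range (Sigma.ι X i))ᶜ, (isClosed_range_sigmaι X i).isOpen_compl⟩
  have hWc : ∀ i, IsClosed ((W i : (∐ X).Opens) : Set ↥(∐ X)) := fun i =>
    (Sigma.ι X i).isOpenEmbedding.isOpen_range.isClosed_compl
  let L : σ → (∐ X).IdealSheafData := fun i => (I i).map (Sigma.ι X i) ⊓ (W i).ι.ker
  have hL1 : ∀ i, (L i).comap (Sigma.ι X i) = I i := by
    intro i
    show ((I i).map (Sigma.ι X i) ⊓ (W i).ι.ker).comap (Sigma.ι X i) = I i
    rw [comap_inf_of_isOpenImmersion, comap_map_of_isOpenImmersion,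
      comap_ker_ι_eq_top (W i) (hWc i) (Sigma.ι X i) (fun x hx => hx ⟨x, rfl⟩), inf_top_eq]
  have hL2 : ∀ i j, j ≠ i → (L i).comap (Sigma.ι X j) = ⊥ := by
    intro i j hji
    rw [← le_bot_iff]
    calc (L i).comap (Sigma.ι X j) ≤ (W i).ι.ker.comap (Sigma.ι X j) :=
          Scheme.IdealSheafData.comap_mono _ inf_le_right
      _ = ⊥ := comap_ker_ι_eq_bot (W i) (Sigma.ι X j) fun x => by
          rintro ⟨y, hy⟩
          exact (disjoint_opensRange_sigmaι X i j (Ne.symm hji)).le_bot ⟨⟨y, hy⟩, ⟨x, rfl⟩⟩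
  refine ⟨⨆ i, L i, fun i => ?_⟩
  rw [(Scheme.IdealSheafData.map_gc (Sigma.ι X i)).l_iSup]
  apply le_antisymm
  · refine iSup_le fun j => ?_
    by_cases h : j = i
    · subst h; exact (hL1 j).le
    · show (L j).comap (Sigma.ι X i) ≤ I i
      rw [hL2 j i (Ne.symm h)]; exact bot_le
  · exact le_trans (hL1 i).ge (le_iSup (fun j => (L j).comap (Sigma.ι X i)) i)

end Groth.Agent.R2.H92.SigmaIdeal
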