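import Mathlib
import Groth.Prelude.Def_BlowUp2
import Groth.Agent.Lib.Helper22FTIdeal
import Groth.Agent.R2.H92SigmaIdeal
import Groth.Agent.S10855

/-!
# Extending admissible blow-ups from a quasi-compact open (Stacks 080N) (helper32)

* `isBlowUp_of_isPullback` : flat base change of a blow-up, for an arbitrary pullback square.
* `isBlowUp_morphismRestrict` : the restriction of a blow-up to an open.
* `ideal_eq_top_of_disjoint`.
* `exists_extension` : the statement of S8857.
-/

set_option autoImplicit false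
universe u

open CategoryTheory CategoryTheory.Limits AlgebraicGeometry TopologicalSpace

namespace Groth.Agent.R2.H32.BlowExt

open Groth.Agent.Lib.Helper22.FTIdeal

/-- flat base change of a blow-up (for an arbitrary pullback square) -/
theorem isBlowUp_of_isPullback {P X₁ X₂ X₂' : Scheme.{u}} {fst : P ⟶ X₁} {snd : P ⟶ X₂'}
    {g : X₁ ⟶ X₂} {b : X₂' ⟶ X₂} (sq : IsPullback fst snd g b) [Flat g]
    (𝓘 : X₂.IdealSheafData) (hb : BlowUp.IsBlowUp b 𝓘) :
    BlowUp.IsBlowUp fst (𝓘.comap g) := by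
  obtain ⟨hb1, hb2⟩ := hb
  have : Flat snd := MorphismProperty.of_isPullback (P := @Flat) sq ‹_›
  constructor
  · rw [← Scheme.IdealSheafData.comap_comp, sq.w, Scheme.IdealSheafData.comap_comp]
    exact Groth.Agent.S10855.result snd _ hb1
  · intro Y h hY
    rw [← Scheme.IdealSheafData.comap_comp] at hY
    obtain ⟨k, hk, hkuniq⟩ := hb2 Y (h ≫ g) hY
    refine ⟨sq.lift h k hk.symm, sq.lift_fst _ _ _, ?_⟩
    intro h' hh'
    apply sq.hom_ext
    · rw [sq.lift_fst]; exact hh'
    · rw [sq.lift_snd]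
      apply hkuniq
      rw [Category.assoc, ← sq.w, ← Category.assoc, hh']

/-- the restriction of a blow-up to an open is a blow-up of the restricted ideal -/
theorem isBlowUp_morphismRestrict {X X' : Scheme.{u}} (c : X' ⟶ X) (𝓙 : X.IdealSheafData)
    (hc : BlowUp.IsBlowUp c 𝓙) (V : X.Opens) : BlowUp.IsBlowUp (c ∣_ V) (𝓙.comap V.ι) :=
  isBlowUp_of_isPullback (isPullback_morphismRestrict c V) 𝓙 hc

/-- an ideal sheaf is the unit ideal on affine opens missing its support -/
theorem ideal_eq_top_of_disjoint {X : Scheme.{u}} (I : X.IdealSheafData) (W : X.affineOpens)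
    (h : Disjoint (I.support : Set X) (W.1 : Set X)) : I.ideal W = ⊤ := by
  have h1 := I.coe_support_inter W
  rw [Set.disjoint_iff_inter_eq_empty.mp h] at h1
  rw [← PrimeSpectrum.zeroLocus_empty_iff_eq_top]
  have h2 := W.2.fromSpec_image_zeroLocus (I.ideal W : Set Γ(X, W.1))
  rw [← h1, Set.image_eq_empty] at h2
  exact h2

/-- `J.ideal W = ⊤` on affine opens around `x` implies `x ∉ supp J` -/
theorem notMem_support_of_ideal_eq_top {X : Scheme.{u}} (J : X.IdealSheafData) (W : X.affineOpens)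
    (h : J.ideal W = ⊤) {x : X} (hx : x ∈ W.1) : x ∉ J.support := by
  intro hxs
  have h1 := (Scheme.IdealSheafData.mem_support_iff_of_mem (I := J) (U := W) hx).mp hxs
  rw [h, Scheme.mem_zeroLocus_iff] at h1
  have h2 := h1 1 (by simp)
  rw [Scheme.basicOpen_one] at h2
  exact h2 hx

theorem fg_of_comap_fg {R S : Type*} [CommRing R] [CommRing S] (e : S →+* R)
    (he : Function.Surjective e) (K : Ideal R) (h : (K.comap e).FG) : K.FG := by
  rw [← Ideal.map_comap_of_surjective e he K]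
  exact h.map e

/-- **Stacks 080N**: extension of an admissible blow-up from a quasi-compact open. -/
theorem exists_extension (X : Scheme.{u}) [CompactSpace X] [QuasiSeparatedSpace X]
    (U V : X.Opens) (hU : IsCompact (U : Set X)) (hV : IsCompact (V : Set X))
    (𝓘 : (V : Scheme.{u}).IdealSheafData) (h𝓘 : BlowUp.IsAdmissibleFor (V.ι ⁻¹ᵁ U) 𝓘) :
    ∃ 𝓙 : X.IdealSheafData, BlowUp.IsAdmissibleFor U 𝓙 ∧ 𝓙.comap V.ι = 𝓘 ∧
      ∀ (X' : Scheme.{u}) (c : X' ⟶ X), BlowUp.IsBlowUp c 𝓙 → BlowUp.IsBlowUp (c ∣_ V) 𝓘 := by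
  classical
  obtain ⟨hft, hdisj⟩ := h𝓘
  have : CompactSpace (V : Scheme.{u}) := isCompact_iff_compactSpace.mp hV
  let J₀ := 𝓘.map V.ι
  have h1 : J₀.comap V.ι = 𝓘 :=
    Groth.Agent.R2.H92.SigmaIdeal.comap_map_of_isOpenImmersion V.ι 𝓘
  -- the support of `J₀` misses `U`
  have hsupp : Disjoint (J₀.support : Set X) (U : Set X) := by
    have h2 : (J₀.support : Set X) = closure (V.ι '' (𝓘.support : Set V)) := by
      change ((𝓘.map V.ι).support : Set X) = _
      rw [Scheme.IdealSheafData.support_map]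
      rfl
    rw [h2, Set.disjoint_left]
    intro x hx hxU
    have h3 : closure (V.ι '' (𝓘.support : Set V)) ⊆ (U : Set X)ᶜ := by
      apply closure_minimal _ U.2.isClosed_compl
      rintro _ ⟨y, hy, rfl⟩ hyU
      exact (Set.disjoint_left.mp hdisj) hy hyU
    exact h3 hx hxU
  have hftU : FTOn J₀ U := fun W hW => by
    rw [ideal_eq_top_of_disjoint J₀ W (hsupp.mono_right hW)]
    exact ⟨{1}, by simp⟩
  have himg : ∀ W : X.affineOpens, W.1 ≤ V → V.ι ''ᵁ (V.ι ⁻¹ᵁ W.1) = W.1 := fun W hW => by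
    rw [Scheme.Hom.image_preimage_eq_opensRange_inf, Scheme.Opens.opensRange_ι, inf_eq_right]
    exact hW
  have hftV : FTOn J₀ V := fun W hW => by
    let W' : (V : Scheme.{u}).affineOpens :=
      ⟨V.ι ⁻¹ᵁ W.1, W.2.preimage_of_isOpenImmersion V.ι (by
        rw [Scheme.Opens.opensRange_ι]; exact hW)⟩
    have h2 := hft W'
    rw [← h1, Scheme.IdealSheafData.ideal_comap_of_isOpenImmersion] at h2
    have h3 := fg_of_comap_fg _
      (ConcreteCategory.bijective_of_isIso (V.ι.appIso W'.1).inv).2 _ h2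
    have hWeq : (⟨V.ι ''ᵁ W'.1, W'.2.image_of_isOpenImmersion V.ι⟩ : X.affineOpens) = W :=
      Subtype.ext (himg W hW)
    exact (show ∀ W₁ W₂ : X.affineOpens, W₁ = W₂ → (J₀.ideal W₁).FG → (J₀.ideal W₂).FG from
      fun _ _ h => h ▸ id) _ _ hWeq h3
  obtain ⟨s, hs, hsX⟩ := isCompact_iff_finite_and_eq_biUnion_affineOpens.mp
    (show IsCompact ((⊤ : X.Opens) : Set X) from isCompact_univ)
  have hUV : IsCompact ((U ⊔ V : X.Opens) : Set X) := by
    rw [Opens.coe_sup]; exact hU.union hV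
  obtain ⟨J, hJle, hJft, hJeq⟩ := extend_finset hs.toFinset J₀ (U ⊔ V) hUV (hftU.sup hftV)
  have hJV : J.comap V.ι = 𝓘 := by
    rw [← h1]
    ext W' : 2
    rw [Scheme.IdealSheafData.ideal_comap_of_isOpenImmersion,
      Scheme.IdealSheafData.ideal_comap_of_isOpenImmersion]
    congr 1
    apply hJeq
    refine le_trans ?_ (le_sup_right : V ≤ U ⊔ V)
    have := V.ι.image_le_opensRange W'.1
    rwa [Scheme.Opens.opensRange_ι] at this
  refine ⟨J, ⟨?_, ?_⟩, hJV, fun X' c hc => ?_⟩
  · have : FT J := by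
      rw [ft_iff_ftOn_top]
      refine hJft.mono ?_
      refine le_sup_of_le_right ?_
      rw [hsX]
      simp
    exact this
  · rw [Set.disjoint_left]
    intro x hx hxU
    obtain ⟨W, hWaff, hxW, hWU⟩ := Opens.isBasis_iff_nbhd.1 X.isBasis_affineOpens hxU
    have h2 : J.ideal ⟨W, hWaff⟩ = ⊤ := by
      rw [hJeq ⟨W, hWaff⟩ (hWU.trans le_sup_left)]
      exact ideal_eq_top_of_disjoint J₀ ⟨W, hWaff⟩ (hsupp.mono_right hWU)
    exact notMem_support_of_ideal_eq_top J ⟨W, hWaff⟩ h2 hxW hx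
  · rw [← hJV]
    exact isBlowUp_morphismRestrict c J hc V

end Groth.Agent.R2.H32.BlowExt
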