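import Mathlib
import Groth.Prelude.Def_BlowUp2
import Groth.Agent.Lib.Helper22FTIdeal
import Groth.Agent.R2.H32BlowCl
import Groth.Agent.R2.H32BlowExt

/-!
# An admissible blow-up controlling closures along a separated morphism (S17392) (helper32)
-/

set_option autoImplicit false
universe u

open CategoryTheory CategoryTheory.Limits AlgebraicGeometry TopologicalSpace

namespace Groth.Agent.R2.H32.BlowCl2

open Groth.Agent.Lib.Helper22.FTIdeal Groth.Agent.R2.H32.BlowExt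

theorem main
    {X₁ X₂ : Scheme.{u}} [CompactSpace X₁] [QuasiSeparatedSpace X₁] [CompactSpace X₂]
    [QuasiSeparatedSpace X₂] (q : X₂ ⟶ X₁)
    (V₁ : X₁.Opens) (hV₁ : IsCompact (V₁ : Set X₁))
    (U : X₂.Opens) (hU : U ≤ q ⁻¹ᵁ V₁)
    (Z₁ : Set X₁) (hZ₁ : IsClosed Z₁) (hZ₁c : IsCompact Z₁ᶜ)
    (Z₂ : Set X₂) (hZ₂ : IsClosed Z₂) (hZ₂c : IsCompact Z₂ᶜ)
    (hYZ : (fun x => q x) ⁻¹' (Z₁ ∩ (V₁ : Set X₁)) ⊆ Z₂) :
    ∃ 𝓔 : X₁.IdealSheafData, BlowUp.IsFiniteTypeIdeal 𝓔 ∧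
      (𝓔.support : Set X₁) ⊆ Z₁ \ (V₁ : Set X₁) ∧
      ∀ (X₁' : Scheme.{u}) (c : X₁' ⟶ X₁), BlowUp.IsBlowUp c 𝓔 →
        (fun z => (pullback.snd q c) z) ⁻¹' closure ((fun x => c x) ⁻¹' (Z₁ ∩ (V₁ : Set X₁))) ∩
            closure ((fun z => (pullback.fst q c) z) ⁻¹' (U : Set X₂)) ⊆
          (fun z => (pullback.fst q c) z) ⁻¹' Z₂ := by
  classical
  let O : X₂.Opens := ⟨Z₂ᶜ, hZ₂.isOpen_compl⟩
  let W₁ : X₁.Opens := ⟨Z₁ᶜ, hZ₁.isOpen_compl⟩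
  have : CompactSpace (O : Scheme.{u}) := isCompact_iff_compactSpace.mp hZ₂c
  obtain ⟨𝓘₁, h𝓘₁ft, h𝓘₁s⟩ := Groth.Agent.R2.H32.BlowSep.exists_ft_support_eq W₁ hZ₁c
  have hs1 : (𝓘₁.support : Set X₁) = Z₁ := by
    rw [h𝓘₁s]; exact compl_compl Z₁
  have hs11 : ((𝓘₁ * 𝓘₁).support : Set X₁) = Z₁ := by
    rw [Scheme.IdealSheafData.support_mul, sup_idem, hs1]
  let 𝓕 : X₂.IdealSheafData := ((U ⊓ O).ι).ker
  let g : (O : Scheme.{u}) ⟶ X₁ := O.ι ≫ q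
  let K : (O : Scheme.{u}).IdealSheafData := ((𝓘₁ * 𝓘₁).comap q ⊔ 𝓕).comap O.ι
  let 𝓐 : X₁.IdealSheafData := K.map g
  -- the support of `𝓐`
  have hsK : ∀ o : (O : Scheme.{u}), o ∈ K.support → g o ∈ Z₁ \ (V₁ : Set X₁) := by
    intro o ho
    have ho1 : O.ι o ∈ (((𝓘₁ * 𝓘₁).comap q ⊔ 𝓕).support : Set X₂) := by
      have : o ∈ ((((𝓘₁ * 𝓘₁).comap q ⊔ 𝓕).comap O.ι).support : Set _) := ho
      rw [Scheme.IdealSheafData.support_comap] at this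
      exact this
    rw [Scheme.IdealSheafData.support_sup] at ho1
    have ho2 : O.ι o ∈ (((𝓘₁ * 𝓘₁).comap q).support : Set X₂) := ho1.1
    rw [Scheme.IdealSheafData.support_comap] at ho2
    have ho3 : q (O.ι o) ∈ Z₁ := by
      have : q (O.ι o) ∈ ((𝓘₁ * 𝓘₁).support : Set X₁) := ho2
      rwa [hs11] at this
    refine ⟨by rwa [Scheme.Hom.comp_apply], fun hV => ?_⟩
    have hV' : q (O.ι o) ∈ (V₁ : Set X₁) := by rwa [Scheme.Hom.comp_apply] at hV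
    have : O.ι o ∈ Z₂ := hYZ ⟨ho3, hV'⟩
    exact o.2 this
  have hZV : IsClosed (Z₁ \ (V₁ : Set X₁)) := hZ₁.sdiff V₁.2
  have hsA : (𝓐.support : Set X₁) ⊆ Z₁ \ (V₁ : Set X₁) := by
    have h2 : (𝓐.support : Set X₁) = closure (g '' (K.support : Set (O : Scheme.{u}))) := by
      change ((K.map g).support : Set X₁) = _
      rw [Scheme.IdealSheafData.support_map]
      rfl
    rw [h2]
    apply closure_minimal _ hZV
    rintro _ ⟨o, ho, rfl⟩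
    exact hsK o ho
  have hAV : Disjoint (𝓐.support : Set X₁) (V₁ : Set X₁) :=
    Set.disjoint_left.mpr fun x hx hxV => (hsA hx).2 hxV
  have hftV : FTOn 𝓐 V₁ := fun W hW => by
    rw [ideal_eq_top_of_disjoint 𝓐 W (hAV.mono_right hW)]
    exact ⟨{1}, by simp⟩
  obtain ⟨s, hs, hsX⟩ := isCompact_iff_finite_and_eq_biUnion_affineOpens.mp
    (show IsCompact ((⊤ : X₁.Opens) : Set X₁) from isCompact_univ)
  obtain ⟨J, hJle, hJft, hJeq⟩ := extend_finset hs.toFinset 𝓐 V₁ hV₁ hftV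
  have hJFT : FT J := by
    rw [ft_iff_ftOn_top]
    refine hJft.mono ?_
    refine le_sup_of_le_right ?_
    rw [hsX]
    simp
  have hJV : Disjoint (J.support : Set X₁) (V₁ : Set X₁) := by
    rw [Set.disjoint_left]
    intro x hx hxV
    obtain ⟨W, hWaff, hxW, hWV⟩ := Opens.isBasis_iff_nbhd.1 X₁.isBasis_affineOpens hxV
    have h2 : J.ideal ⟨W, hWaff⟩ = ⊤ := by
      rw [hJeq ⟨W, hWaff⟩ hWV]
      exact ideal_eq_top_of_disjoint 𝓐 ⟨W, hWaff⟩ (hAV.mono_right hWV)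
    exact notMem_support_of_ideal_eq_top J ⟨W, hWaff⟩ h2 hxW hx
  let 𝓘₂ : X₁.IdealSheafData := J ⊔ 𝓘₁ * 𝓘₁
  have h𝓘₂ft : FT 𝓘₂ := hJFT.sup (fun W => by
    rw [Scheme.IdealSheafData.ideal_mul]; exact (h𝓘₁ft W).mul (h𝓘₁ft W))
  have hs2 : (𝓘₂.support : Set X₁) ⊆ (𝓘₁.support : Set X₁) \ (V₁ : Set X₁) := by
    intro x hx
    have hx' : x ∈ (J ⊔ 𝓘₁ * 𝓘₁).support := hx
    rw [Scheme.IdealSheafData.support_sup] at hx'
    have h3 : x ∈ ((𝓘₁ * 𝓘₁).support : Set X₁) := hx'.2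
    rw [hs11] at h3
    refine ⟨by rw [hs1]; exact h3, fun hxV => ?_⟩
    exact (Set.disjoint_left.mp hJV) hx'.1 hxV
  have h11A : 𝓘₁ * 𝓘₁ ≤ 𝓐 := by
    change 𝓘₁ * 𝓘₁ ≤ K.map g
    rw [Scheme.IdealSheafData.le_map_iff_comap_le]
    change (𝓘₁ * 𝓘₁).comap (O.ι ≫ q) ≤ _
    rw [Scheme.IdealSheafData.comap_comp]
    exact Scheme.IdealSheafData.comap_mono _ le_sup_left
  have h2A : 𝓘₂ ≤ 𝓐 := sup_le hJle h11A
  have hincl₀ : 𝓘₂.comap g ≤ K := Scheme.IdealSheafData.le_map_iff_comap_le.mp h2A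
  refine ⟨𝓘₁ ⊔ 𝓘₂, h𝓘₁ft.sup h𝓘₂ft, ?_, ?_⟩
  · intro x hx
    rw [Scheme.IdealSheafData.support_sup] at hx
    have := hs2 hx.2
    rw [hs1] at this
    exact this
  · intro X₁' c hc z ⟨hz1, hz2⟩
    by_contra hzZ
    -- notation
    let c₂ := pullback.fst q c
    let q' := pullback.snd q c
    have hcond : c₂ ≫ q = q' ≫ c := pullback.condition
    let O' : (pullback q c).Opens := c₂ ⁻¹ᵁ O
    have hzO' : z ∈ O' := hzZ
    let p' : (O' : Scheme.{u}) ⟶ X₁' := O'.ι ≫ q'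
    have hp'c : p' ≫ c = (c₂ ∣_ O) ≫ g := by
      change (O'.ι ≫ q') ≫ c = (c₂ ∣_ O) ≫ O.ι ≫ q
      rw [Category.assoc, ← hcond, ← Category.assoc, ← Category.assoc, morphismRestrict_ι]
    have hp'c2 : p' ≫ c = (O'.ι ≫ c₂) ≫ q := by
      change (O'.ι ≫ q') ≫ c = _
      rw [Category.assoc, ← hcond, Category.assoc]
    have hres : (c₂ ∣_ O) ≫ O.ι = O'.ι ≫ c₂ := morphismRestrict_ι c₂ O
    have key := Groth.Agent.R2.H32.BlowCl.core (V₁ ⊓ W₁) V₁ 𝓘₁ 𝓘₂ ?_ ?_ hs2 c hc p'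
      (𝓕.comap (O'.ι ≫ c₂)) ((fun s => (O'.ι ≫ c₂) s) ⁻¹' (U : Set X₂)) ?_ ?_ ?_
    · -- `z` gives a point in both sets
      have hz0S : (⟨z, hzO'⟩ : O') ∈ closure ((fun s => (O'.ι ≫ c₂) s) ⁻¹' (U : Set X₂)) := by
        have h1 := O'.ι.isOpenEmbedding.isOpenMap.preimage_closure_eq_closure_preimage
          O'.ι.continuous ((fun z => c₂ z) ⁻¹' (U : Set X₂))
        have h2 : (⟨z, hzO'⟩ : O') ∈ (fun s => O'.ι s) ⁻¹'
            closure ((fun z => c₂ z) ⁻¹' (U : Set X₂)) := hz2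
        rw [h1] at h2
        exact h2
      have hz0cl : (⟨z, hzO'⟩ : O') ∈ (fun z => p' z) ⁻¹'
          closure ((fun x' => c x') ⁻¹' ((V₁ : Set X₁) \ ((V₁ ⊓ W₁ : X₁.Opens) : Set X₁))) := by
        have hset : (V₁ : Set X₁) \ ((V₁ ⊓ W₁ : X₁.Opens) : Set X₁) = Z₁ ∩ (V₁ : Set X₁) := by
          ext x
          simp only [Opens.coe_inf, Set.mem_sdiff, Set.mem_inter_iff, SetLike.mem_coe]
          constructor
          · rintro ⟨hxV, hx⟩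
            refine ⟨?_, hxV⟩
            by_contra hxZ
            exact hx ⟨hxV, hxZ⟩
          · rintro ⟨hxZ, hxV⟩
            exact ⟨hxV, fun h => h.2 hxZ⟩
        rw [hset]
        exact hz1
      exact (Set.disjoint_left.mp key) hz0S hz0cl
    · -- h₁
      rintro x ⟨hxV, hx⟩
      rw [hs1]
      by_contra hxZ
      exact hx ⟨hxV, hxZ⟩
    · -- h₁'
      rw [hs1, Set.disjoint_left]
      rintro x hxZ ⟨-, hxW⟩
      exact hxW hxZ
    · -- hS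
      intro s' hs'
      rw [Scheme.IdealSheafData.support_comap]
      change (O'.ι ≫ c₂) s' ∈ (𝓕.support : Set X₂)
      apply ((U ⊓ O).ι).range_subset_ker_support
      rw [Scheme.Opens.range_ι]
      refine ⟨hs', ?_⟩
      rw [Scheme.Hom.comp_apply]
      exact s'.2
    · -- hSU
      intro s' hs'
      have hu : (O'.ι ≫ c₂) s' ∈ (U : Set X₂) := hs'
      have hO : (O'.ι ≫ c₂) s' ∈ (O : Set X₂) := by
        rw [Scheme.Hom.comp_apply]; exact s'.2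
      have e1 : c (p' s') = q ((O'.ι ≫ c₂) s') := by
        rw [← Scheme.Hom.comp_apply, ← Scheme.Hom.comp_apply, hp'c2]
      rw [e1]
      refine ⟨hU hu, fun hZ => ?_⟩
      exact hO (hYZ ⟨hZ, hU hu⟩)
    · -- hincl
      have e2 : 𝓘₂.comap (p' ≫ c) = (𝓘₂.comap g).comap (c₂ ∣_ O) := by
        rw [hp'c, Scheme.IdealSheafData.comap_comp]
      have e3 : (𝓘₁ * 𝓘₁).comap (p' ≫ c) ⊔ 𝓕.comap (O'.ι ≫ c₂) = K.comap (c₂ ∣_ O) := by
        change _ = (((𝓘₁ * 𝓘₁).comap q ⊔ 𝓕).comap O.ι).comap (c₂ ∣_ O)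
        rw [← Scheme.IdealSheafData.comap_comp, hres, Scheme.IdealSheafData.comap_sup,
          ← Scheme.IdealSheafData.comap_comp, ← hp'c2]
      rw [e2, e3]
      exact Scheme.IdealSheafData.comap_mono _ hincl₀

end Groth.Agent.R2.H32.BlowCl2
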