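import Mathlib
import Groth.Prelude.Def_BlowUp2
import Groth.Agent.Lib.Helper14FtPts

/-!
# helper48: a factor of an effective Cartier ideal is effective Cartier

* `isEffCartierIdeal_of_mul_left`, `isEffCartierIdeal_of_mul_right`.
-/

set_option autoImplicit false
universe u
open CategoryTheory AlgebraicGeometry
open nonZeroDivisors

namespace Groth.Agent.R2.H48.CartierMul

/-- if `I J = (f)` with `f` a nonzerodivisor, then near any prime `I` is generated by one element. -/
theorem exists_local_generator {A : Type*} [CommRing A] (I J : Ideal A) (f : A) (hf : f ∈ A⁰)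
    (hIJ : I * J = Ideal.span {f}) (𝔭 : Ideal A) [h𝔭 : 𝔭.IsPrime] :
    ∃ a ∈ I, ∃ b ∈ J, ∃ c ∉ 𝔭, a * b = f * c ∧ ∀ x ∈ I, ∃ r, x * c = a * r := by
  have h1 : ∀ a ∈ I, ∀ b ∈ J, ∃ c, a * b = f * c := by
    intro a ha b hb
    have : a * b ∈ Ideal.span {f} := hIJ ▸ Ideal.mul_mem_mul ha hb
    obtain ⟨c, hc⟩ := Ideal.mem_span_singleton'.mp this
    exact ⟨c, by rw [← hc, mul_comm]⟩
  have h2 : ∃ a ∈ I, ∃ b ∈ J, ∃ c ∉ 𝔭, a * b = f * c := by
    by_contra hcon
    push Not at hcon
    have hle : I * J ≤ Ideal.span {f} * 𝔭 := by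
      rw [Ideal.mul_le]
      intro a ha b hb
      obtain ⟨c, hc⟩ := h1 a ha b hb
      have hc𝔭 : c ∈ 𝔭 := by
        by_contra h
        exact hcon a ha b hb c h hc
      rw [hc]
      exact Ideal.mul_mem_mul (Ideal.mem_span_singleton_self f) hc𝔭
    have hfm : f ∈ Ideal.span {f} * 𝔭 := hle (hIJ ▸ Ideal.mem_span_singleton_self f)
    obtain ⟨q, hq, hfq⟩ := Ideal.mem_span_singleton_mul.mp hfm
    have h4 : (q - 1) * f = 0 := by rw [sub_mul, one_mul, mul_comm, hfq, sub_self]
    have h5 : q - 1 = 0 := (mem_nonZeroDivisors_iff_right.mp hf) _ h4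
    have h6 : q = 1 := sub_eq_zero.mp h5
    exact h𝔭.ne_top ((Ideal.eq_top_iff_one _).mpr (h6 ▸ hq))
  obtain ⟨a, ha, b, hb, c, hc, hab⟩ := h2
  refine ⟨a, ha, b, hb, c, hc, hab, ?_⟩
  intro x hx
  obtain ⟨r, hr⟩ := h1 x hx b hb
  refine ⟨r, ?_⟩
  have h7 : (x * c - a * r) * f = 0 := by
    have : (x * c - a * r) * f = x * (f * c) - a * (f * r) := by ring
    rw [this, ← hab, ← hr]
    ring
  exact sub_eq_zero.mp ((mem_nonZeroDivisors_iff_right.mp hf) _ h7)

/-- the localized statement. -/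
theorem map_eq_span_of_mul {A : Type*} [CommRing A] (I J : Ideal A) (f : A) (hf : f ∈ A⁰)
    (a b c : A) (ha : a ∈ I) (hab : a * b = f * c) (hx : ∀ x ∈ I, ∃ r, x * c = a * r)
    (A' : Type*) [CommRing A'] [Algebra A A'] [IsLocalization.Away c A'] :
    algebraMap A A' a ∈ A'⁰ ∧ I.map (algebraMap A A') = Ideal.span {algebraMap A A' a} := by
  have hcu : IsUnit (algebraMap A A' c) := IsLocalization.Away.algebraMap_isUnit c
  have hf' : algebraMap A A' f ∈ A'⁰ :=
    IsLocalization.map_nonZeroDivisors_le (Submonoid.powers c) A' (Submonoid.mem_map_of_mem _ hf)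
  constructor
  · rw [mem_nonZeroDivisors_iff_right]
    intro z hz
    have h1 : z * algebraMap A A' c * algebraMap A A' f = 0 := by
      have : z * algebraMap A A' c * algebraMap A A' f =
          z * algebraMap A A' a * algebraMap A A' b := by
        rw [mul_assoc, mul_assoc, ← map_mul, ← map_mul, mul_comm c f, hab]
      rw [this, hz, zero_mul]
    have h2 : z * algebraMap A A' c = 0 := (mem_nonZeroDivisors_iff_right.mp hf') _ h1
    exact (hcu.mul_left_eq_zero).mp h2
  · apply le_antisymm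
    · rw [Ideal.map_le_iff_le_comap]
      intro x hxI
      obtain ⟨r, hr⟩ := hx x hxI
      rw [Ideal.mem_comap, Ideal.mem_span_singleton']
      obtain ⟨u, hu⟩ := hcu
      refine ⟨algebraMap A A' r * ↑u⁻¹, ?_⟩
      have h3 : algebraMap A A' x * algebraMap A A' c = algebraMap A A' a * algebraMap A A' r := by
        rw [← map_mul, ← map_mul, hr]
      calc algebraMap A A' r * ↑u⁻¹ * algebraMap A A' a
          = (algebraMap A A' a * algebraMap A A' r) * ↑u⁻¹ := by ring
        _ = algebraMap A A' x * (algebraMap A A' c * ↑u⁻¹) := by rw [← h3]; ring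
        _ = algebraMap A A' x := by rw [← hu, Units.mul_inv, mul_one]
    · rw [Ideal.span_singleton_le_iff_mem]
      exact Ideal.mem_map_of_mem _ ha

/-- a factor of an effective Cartier ideal is effective Cartier. -/
theorem isEffCartierIdeal_of_mul_left {X : Scheme.{u}} {I J : X.IdealSheafData}
    (h : BlowUp.IsEffCartierIdeal (I * J)) : BlowUp.IsEffCartierIdeal I := by
  intro x
  obtain ⟨W, hxW, f, hf, hIf⟩ := h x
  have hIf' : I.ideal W * J.ideal W = Ideal.span {f} := hIf
  haveI := (W.2.primeIdealOf ⟨x, hxW⟩).isPrime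
  obtain ⟨a, ha, b, hb, c, hc, hab, hx⟩ :=
    exists_local_generator (I.ideal W) (J.ideal W) f hf hIf' (W.2.primeIdealOf ⟨x, hxW⟩).asIdeal
  haveI := W.2.isLocalization_basicOpen c
  obtain ⟨hnzd, hspan⟩ := map_eq_span_of_mul (I.ideal W) (J.ideal W) f hf a b c ha hab hx
    Γ(X, X.basicOpen c)
  refine ⟨⟨X.basicOpen c, W.2.basicOpen c⟩,
    (Groth.Agent.Lib.Helper14.mem_basicOpen_iff_notMem_primeIdealOf W.2 x hxW c).2 hc,
    algebraMap _ _ a, hnzd, ?_⟩
  rw [← hspan]
  exact (I.map_ideal_basicOpen W c).symm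

theorem isEffCartierIdeal_of_mul_right {X : Scheme.{u}} {I J : X.IdealSheafData}
    (h : BlowUp.IsEffCartierIdeal (I * J)) : BlowUp.IsEffCartierIdeal J := by
  rw [mul_comm] at h
  exact isEffCartierIdeal_of_mul_left h

end Groth.Agent.R2.H48.CartierMul
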