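import Mathlib
import Groth.Prelude.Def_BlowUp2
import Groth.Agent.Lib.Helper20BlowUp
import Groth.Agent.R2.H48CartierMul
import Groth.Agent.R2.H17Adic
import Groth.Agent.R2.H92BlowExists
import Groth.Agent.S10855

/-!
# Blowing up a product of ideals (Stacks 080A) and dominating finitely many admissible blow-ups
(Stacks 080L) (helper32)

* `isBlowUp_comp_mul` : if `b₁` is a blow-up of `X` in `I` and `b₂` is a blow-up of the source of
  `b₁` in `J · O`, then `b₂ ≫ b₁` is a blow-up of `X` in `I * J`.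
* `isBlowUp_iso_comp` : `IsBlowUp` is invariant under isomorphisms of the source.
* `exists_dominating` : the statement of S8858.
-/

set_option autoImplicit false
universe u

open CategoryTheory CategoryTheory.Limits AlgebraicGeometry TopologicalSpace

namespace Groth.Agent.R2.H32.BlowDom

open Groth.Agent.Lib.Helper20.BlowUpBasic

/-- **Stacks 080A** -/
theorem isBlowUp_comp_mul {X X₁ X₂ : Scheme.{u}} (I J : X.IdealSheafData) (b₁ : X₁ ⟶ X)
    (hb₁ : BlowUp.IsBlowUp b₁ I) (b₂ : X₂ ⟶ X₁) (hb₂ : BlowUp.IsBlowUp b₂ (J.comap b₁)) :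
    BlowUp.IsBlowUp (b₂ ≫ b₁) (I * J) := by
  constructor
  · rw [comap_mul, Scheme.IdealSheafData.comap_comp, Scheme.IdealSheafData.comap_comp]
    exact isEffCartierIdeal_mul (isEffCartierIdeal_comap _ b₂ hb₂ _ hb₁.1) hb₂.1
  · intro Y h hE
    rw [comap_mul] at hE
    have hE1 := Groth.Agent.R2.H48.CartierMul.isEffCartierIdeal_of_mul_left hE
    have hE2 := Groth.Agent.R2.H48.CartierMul.isEffCartierIdeal_of_mul_right hE
    obtain ⟨h₁, hh₁, hu₁⟩ := hb₁.2 Y h hE1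
    have hE2' : BlowUp.IsEffCartierIdeal ((J.comap b₁).comap h₁) := by
      rw [← Scheme.IdealSheafData.comap_comp, hh₁]; exact hE2
    obtain ⟨h₂, hh₂, hu₂⟩ := hb₂.2 Y h₁ hE2'
    refine ⟨h₂, ?_, fun h' hh' => ?_⟩
    · change h₂ ≫ b₂ ≫ b₁ = h
      rw [← Category.assoc, hh₂, hh₁]
    · apply hu₂
      apply hu₁
      rw [Category.assoc]; exact hh'

/-- `IsBlowUp` is invariant under isomorphisms of the source -/
theorem isBlowUp_iso_comp {X B B' : Scheme.{u}} {𝓘 : X.IdealSheafData} {b' : B' ⟶ X}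
    (hb' : BlowUp.IsBlowUp b' 𝓘) (k : B ⟶ B') [IsIso k] : BlowUp.IsBlowUp (k ≫ b') 𝓘 := by
  constructor
  · rw [Scheme.IdealSheafData.comap_comp]
    exact Groth.Agent.S10855.result k _ hb'.1
  · intro Y h hE
    obtain ⟨h', hh', hu⟩ := hb'.2 Y h hE
    refine ⟨h' ≫ inv k, ?_, fun h'' hh'' => ?_⟩
    · change (h' ≫ inv k) ≫ k ≫ b' = h
      rw [Category.assoc, IsIso.inv_hom_id_assoc, hh']
    · rw [IsIso.eq_comp_inv]
      apply hu
      rw [Category.assoc]; exact hh''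

theorem isFiniteTypeIdeal_mul {X : Scheme.{u}} {I J : X.IdealSheafData}
    (hI : BlowUp.IsFiniteTypeIdeal I) (hJ : BlowUp.IsFiniteTypeIdeal J) :
    BlowUp.IsFiniteTypeIdeal (I * J) := fun W => by
  rw [Scheme.IdealSheafData.ideal_mul]
  exact (hI W).mul (hJ W)

theorem isFiniteTypeIdeal_one {X : Scheme.{u}} :
    BlowUp.IsFiniteTypeIdeal (1 : X.IdealSheafData) := fun W => by
  rw [Scheme.IdealSheafData.one_eq_top, Scheme.IdealSheafData.ideal_top]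
  exact ⟨{1}, by simp⟩

theorem isAdmissibleFor_prod {X : Scheme.{u}} (U : X.Opens) {ι : Type*} (s : Finset ι)
    (𝓘 : ι → X.IdealSheafData) (ha : ∀ i ∈ s, BlowUp.IsAdmissibleFor U (𝓘 i)) :
    BlowUp.IsAdmissibleFor U (∏ i ∈ s, 𝓘 i) := by
  refine Finset.prod_induction 𝓘 (BlowUp.IsAdmissibleFor U) ?_ ?_ ha
  · rintro I J ⟨hI1, hI2⟩ ⟨hJ1, hJ2⟩
    refine ⟨isFiniteTypeIdeal_mul hI1 hJ1, ?_⟩
    rw [Scheme.IdealSheafData.support_mul, Closeds.coe_sup]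
    exact Disjoint.union_left hI2 hJ2
  · refine ⟨isFiniteTypeIdeal_one, ?_⟩
    rw [Scheme.IdealSheafData.one_eq_top, Scheme.IdealSheafData.support_top]
    simp

/-- **Stacks 080L**: finitely many admissible blow-ups are dominated by one. -/
theorem exists_dominating (X : Scheme.{u}) (U : X.Opens) {n : ℕ} (Xi : Fin n → Scheme.{u})
    (b : ∀ i, Xi i ⟶ X) (𝓘 : Fin n → X.IdealSheafData)
    (hb : ∀ i, BlowUp.IsBlowUp (b i) (𝓘 i)) (ha : ∀ i, BlowUp.IsAdmissibleFor U (𝓘 i)) :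
    ∃ (𝓙 : X.IdealSheafData) (X' : Scheme.{u}) (c : X' ⟶ X), BlowUp.IsBlowUp c 𝓙 ∧
      BlowUp.IsAdmissibleFor U 𝓙 ∧
      ∀ i, ∃ (g : X' ⟶ Xi i) (𝓚 : (Xi i).IdealSheafData), g ≫ b i = c ∧ BlowUp.IsBlowUp g 𝓚 ∧
        BlowUp.IsAdmissibleFor ((b i) ⁻¹ᵁ U) 𝓚 := by
  classical
  obtain ⟨X', c, hc⟩ := Groth.Agent.R2.H92.BlowExists.exists_isBlowUp X (∏ i, 𝓘 i)
  refine ⟨∏ i, 𝓘 i, X', c, hc, isAdmissibleFor_prod U _ 𝓘 (fun i _ => ha i), fun i => ?_⟩
  let R : X.IdealSheafData := ∏ j ∈ Finset.univ.erase i, 𝓘 j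
  have hJ : 𝓘 i * R = ∏ j, 𝓘 j := Finset.mul_prod_erase Finset.univ 𝓘 (Finset.mem_univ i)
  have hR : BlowUp.IsAdmissibleFor U R := isAdmissibleFor_prod U _ 𝓘 (fun j _ => ha j)
  obtain ⟨X'', b'', hb''⟩ := Groth.Agent.R2.H92.BlowExists.exists_isBlowUp (Xi i) (R.comap (b i))
  have hcomp : BlowUp.IsBlowUp (b'' ≫ b i) (∏ j, 𝓘 j) := by
    rw [← hJ]
    exact isBlowUp_comp_mul (𝓘 i) R (b i) (hb i) b'' hb''
  obtain ⟨k, hk, -⟩ := hcomp.2 X' c hc.1
  have : IsIso k := Groth.Agent.R2.H92.BlowGlue.isIso_of_isBlowUp hc hcomp k hk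
  refine ⟨k ≫ b'', R.comap (b i), by rw [Category.assoc, hk], isBlowUp_iso_comp hb'' k, ?_, ?_⟩
  · exact fun W => Groth.Agent.R2.H17.Adic.ft_comap (b i) R hR.1 W
  · rw [Scheme.IdealSheafData.support_comap, Set.disjoint_left]
    intro x hx hxU
    exact (Set.disjoint_left.mp hR.2) hx hxU

end Groth.Agent.R2.H32.BlowDom
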