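import Mathlib
import Groth.Prelude.Def_CotT

/-!
# PROJ:ci-t2 (S12291): interface of the packages

`B = A/I`, `A` regular local `k`-algebra with `T¹(A/k,-) = T²(A/k,-) = 0`.
`I` is generated by `dim A - dim B` elements  iff  `T²(B/k, M) = 0` for all `M`.

Route: (⇒) `PkgCM` (the generators are a regular sequence, `A` being Cohen–Macaulay), Lib
`Helper19.CotTVanish.T2_subsingleton_of_isWeaklyRegular` (`T²(B/A,M) = 0`), `PkgT1`.
(⇐) `PkgT2` (`T²(B/A,M) = 0`), `PkgR` (regular sequence), Mathlib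
`ringKrullDim_add_length_eq_ringKrullDim_of_isRegular`.
-/

set_option autoImplicit false
universe u

namespace Groth.Agent.R2.H56.CISpec

/-- PKG-T1 (middle exactness of the transitivity sequence `T²(B/A,M) → T²(B/k,M) → T²(A/k,M)`,
in vanishing form). -/
def PkgT1 : Prop :=
  ∀ (k A : Type u) [CommRing k] [CommRing A] [Algebra k A] (I : Ideal A)
    (M : Type u) [AddCommGroup M] [Module A M] [Module (A ⧸ I) M] [IsScalarTower A (A ⧸ I) M],
    Subsingleton (CotT.T2 (CotT.canon k A) M) →
    Subsingleton (CotT.T2 (CotT.canon A (A ⧸ I)) M) →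
    Subsingleton (CotT.T2 (CotT.canon k (A ⧸ I)) M)

/-- PKG-T2 (exactness of `T¹(A/k,M) → T²(B/A,M) → T²(B/k,M)`, in vanishing form). -/
def PkgT2 : Prop :=
  ∀ (k A : Type u) [CommRing k] [CommRing A] [Algebra k A] (I : Ideal A)
    (M : Type u) [AddCommGroup M] [Module A M] [Module (A ⧸ I) M] [IsScalarTower A (A ⧸ I) M],
    Subsingleton (CotT.T1 (CotT.canon k A) M) →
    Subsingleton (CotT.T2 (CotT.canon k (A ⧸ I)) M) →
    Subsingleton (CotT.T2 (CotT.canon A (A ⧸ I)) M)

/-- PKG-R: over a Noetherian local ring, `T²((A/I)/A, M) = 0` for all `M` forces `I` to be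
generated by a regular sequence. -/
def PkgR : Prop :=
  ∀ (A : Type u) [CommRing A] [IsLocalRing A] [IsNoetherianRing A] (I : Ideal A), I ≠ ⊤ →
    (∀ (M : Type u) [AddCommGroup M] [Module (A ⧸ I) M],
      Subsingleton (CotT.T2 (CotT.canon A (A ⧸ I)) M)) →
    ∃ rs : List A, Ideal.ofList rs = I ∧ RingTheory.Sequence.IsWeaklyRegular A rs

/-- PKG-CM: in a regular local ring, `r` elements cutting the dimension down by `r` form a regular
sequence. -/
def PkgCM : Prop :=
  ∀ (A : Type u) [CommRing A] [IsRegularLocalRing A] (rs : List A), Ideal.ofList rs ≠ ⊤ →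
    (rs.length : WithBot ℕ∞) + ringKrullDim (A ⧸ Ideal.ofList rs) = ringKrullDim A →
    RingTheory.Sequence.IsWeaklyRegular A rs

end Groth.Agent.R2.H56.CISpec
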