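import Mathlib
import Groth.Agent.R2.H56CISpec
import Groth.Agent.Lib.Helper5RLR3
import Groth.Agent.Lib.Helper5CM2

/-!
# PROJ:ci-t2, package CM (helper32): in a regular local ring, `r` elements cutting the dimension
down by `r` form a regular sequence.
-/

set_option autoImplicit false
universe u

namespace Groth.Agent.R2.H32.CICM

open Groth.Agent.Lib.Helper5

theorem pkgCM : Groth.Agent.R2.H56.CISpec.PkgCM.{u} := by
  intro A _ _ rs hne hdim
  have hNoeth : IsNoetherianRing A := inferInstance
  have hCM : LocCoh.IsCohenMacaulayModule A A :=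
    (isCohenMacaulayLocalRing_of_isRegularLocalRing A).supportDim_eq_depth
  have hmem : ∀ x ∈ rs, x ∈ IsLocalRing.maximalIdeal A := fun x hx =>
    IsLocalRing.le_maximalIdeal hne (Ideal.subset_span hx)
  have h := (isWeaklyRegular_iff_of_isCohenMacaulayModule rs A hCM hmem).1
  rw [h]
  have e1 : Ideal.ofList rs • (⊤ : Submodule A A) = Ideal.ofList rs := by
    rw [smul_eq_mul, Ideal.mul_top]
  rw [Module.supportDim_self_eq_ringKrullDim, ← hdim, add_comm]
  congr 1
  rw [← Module.supportDim_quotient_eq_ringKrullDim]
  exact Module.supportDim_eq_of_equiv (Submodule.quotEquivOfEq _ _ e1)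

end Groth.Agent.R2.H32.CICM
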