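import Groth.Agent.Lib.Helper19CotTVanish
import Groth.Agent.R2.H56CISpec

/-!
# PROJ:ci-t2, package `PkgR`

Over a Noetherian local ring `A`, if `T²((A/I)/A, M) = 0` for all `A/I`-modules `M`, then `I` is
generated by a (weakly) regular sequence.
-/

set_option autoImplicit false
set_option linter.unusedSectionVars false
universe u

open TensorProduct IsLocalRing

namespace Groth.Agent.R2.H32.CIR

open Groth.Agent.Lib.Helper19.Kos Groth.Agent.Lib.Helper19.CotTIndep

section induction

variable {A : Type u} [CommRing A]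

lemma jm_succ {n : ℕ} (g : Fin (n + 1) → A) (y : Fin (n + 1) →₀ A) :
    jm A g y = y 0 * g 0 + jm A (fun i : Fin n => g i.succ) y.tail := by
  rw [jm, jm, Finsupp.linearCombination_apply, Finsupp.linearCombination_apply,
    y.sum_fintype (fun i c => c • g i) (fun i => zero_smul _ _),
    y.tail.sum_fintype (fun i c => c • g i.succ) (fun i => zero_smul _ _), Fin.sum_univ_succ]
  simp [Finsupp.tail_apply]

lemma jm_mem_span {n : ℕ} (g : Fin n → A) (y : Fin n →₀ A) :
    jm A g y ∈ Ideal.span (Set.range g) := by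
  rw [Ideal.span, ← Finsupp.range_linearCombination]
  exact ⟨y, rfl⟩

lemma exists_jm_eq {n : ℕ} (g : Fin n → A) (a : A) (ha : a ∈ Ideal.span (Set.range g)) :
    ∃ c : Fin n →₀ A, jm A g c = a := by
  rw [Ideal.span, ← Finsupp.range_linearCombination] at ha
  exact ha

/-- the shape of the trivial relations of `(x, g')` -/
lemma F0_cons {n : ℕ} (g : Fin (n + 1) → A) (y : Fin (n + 1) →₀ A) (hy : y ∈ F0 A g) :
    ∃ d : Fin n →₀ A, jm A (fun i : Fin n => g i.succ) d = y 0 ∧
      y.tail + g 0 • d ∈ F0 A (fun i : Fin n => g i.succ) := by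
  unfold F0 at hy
  induction hy using Submodule.span_induction with
  | mem y hy =>
    obtain ⟨a, b, rfl⟩ := hy
    refine ⟨b 0 • a.tail - a 0 • b.tail, ?_, ?_⟩
    · simp only [map_sub, map_smul, jm_succ, Finsupp.coe_sub, Finsupp.coe_smul, Pi.sub_apply,
        Pi.smul_apply, smul_eq_mul]
      ring
    · have := kos_mem_F0 A (fun i : Fin n => g i.succ) a.tail b.tail
      convert this using 1
      ext i
      simp only [jm_succ, Finsupp.tail_apply, Finsupp.coe_sub, Finsupp.coe_smul, Pi.sub_apply,
        Pi.smul_apply, smul_eq_mul, Finsupp.coe_add, Pi.add_apply]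
      ring
  | zero =>
    refine ⟨0, by simp, ?_⟩
    have : Finsupp.tail (0 : Fin (n + 1) →₀ A) = 0 := by
      ext i; simp [Finsupp.tail_apply]
    rw [this, smul_zero, add_zero]
    exact zero_mem _
  | add y z _ _ hy hz =>
    obtain ⟨d, hd1, hd2⟩ := hy
    obtain ⟨e, he1, he2⟩ := hz
    refine ⟨d + e, by simp [hd1, he1], ?_⟩
    have := add_mem hd2 he2
    convert this using 1
    ext i
    simp only [Finsupp.tail_apply, Finsupp.coe_add, Pi.add_apply, Finsupp.coe_smul, Pi.smul_apply,
      smul_eq_mul]
    ring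
  | smul r y _ hy =>
    obtain ⟨d, hd1, hd2⟩ := hy
    refine ⟨r • d, by simp [hd1], ?_⟩
    have := Submodule.smul_mem _ r hd2
    convert this using 1
    ext i
    simp only [Finsupp.tail_apply, Finsupp.coe_add, Pi.add_apply, Finsupp.coe_smul, Pi.smul_apply,
      smul_eq_mul]
    ring

lemma ofList_reverse_ofFn {n : ℕ} (g : Fin n → A) :
    Ideal.ofList (List.ofFn g).reverse = Ideal.span (Set.range g) := by
  unfold Ideal.ofList
  congr 1
  ext x
  simp [List.mem_ofFn]

/-- In a Noetherian local ring, elements of the maximal ideal whose first Koszul homology vanishes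
form (read backwards) a weakly regular sequence. -/
theorem isWeaklyRegular_of_Q_le_F0 [IsLocalRing A] [IsNoetherianRing A] :
    ∀ (n : ℕ) (g : Fin n → A), (∀ i, g i ∈ maximalIdeal A) → Q A g ≤ F0 A g →
      RingTheory.Sequence.IsWeaklyRegular A (List.ofFn g).reverse
  | 0, g, _, _ => by
    rw [List.ofFn_zero, List.reverse_nil]
    exact RingTheory.Sequence.IsWeaklyRegular.nil A A
  | n + 1, g, hm, hQ => by
    have hQ' : Q A (fun i : Fin n => g i.succ) ≤ F0 A (fun i : Fin n => g i.succ) := by
      apply Submodule.le_of_le_smul_of_le_jacobson_bot (I := maximalIdeal A)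
        (IsNoetherian.noetherian _) (maximalIdeal_le_jacobson _)
      intro q hq
      have hy : Finsupp.cons 0 q ∈ Q A g := by
        rw [mem_Q, jm_succ, Finsupp.cons_zero, Finsupp.tail_cons, zero_mul, zero_add]
        exact (mem_Q _ _ _).mp hq
      obtain ⟨d, hd1, hd2⟩ := F0_cons g _ (hQ hy)
      rw [Finsupp.cons_zero] at hd1
      rw [Finsupp.tail_cons] at hd2
      have : q = (q + g 0 • d) + (-(g 0)) • d := by
        rw [neg_smul]; abel
      rw [this]
      exact Submodule.add_mem_sup hd2
        (Submodule.smul_mem_smul (neg_mem (hm 0)) ((mem_Q _ _ _).mpr hd1))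
    have IH := isWeaklyRegular_of_Q_le_F0 n (fun i : Fin n => g i.succ) (fun i => hm _) hQ'
    rw [List.ofFn_succ, List.reverse_cons, RingTheory.Sequence.isWeaklyRegular_append_iff]
    refine ⟨IH, ?_⟩
    rw [RingTheory.Sequence.isWeaklyRegular_singleton_iff, ofList_reverse_ofFn,
      isSMulRegular_iff_right_eq_zero_of_smul]
    intro z hz
    obtain ⟨a, rfl⟩ := Submodule.Quotient.mk_surjective _ z
    have e : (Ideal.span (Set.range fun i : Fin n => g i.succ) • ⊤ : Submodule A A) =
        Ideal.span (Set.range fun i : Fin n => g i.succ) := by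
      rw [smul_eq_mul, Ideal.mul_top]
    rw [← Submodule.Quotient.mk_smul, Submodule.Quotient.mk_eq_zero, e, smul_eq_mul] at hz
    rw [Submodule.Quotient.mk_eq_zero, e]
    obtain ⟨c, hc⟩ := exists_jm_eq _ _ hz
    have hy : Finsupp.cons a (-c) ∈ Q A g := by
      rw [mem_Q, jm_succ, Finsupp.cons_zero, Finsupp.tail_cons, map_neg, hc]
      ring
    obtain ⟨d, hd1, -⟩ := F0_cons g _ (hQ hy)
    rw [Finsupp.cons_zero] at hd1
    rw [← hd1]
    exact jm_mem_span _ d

end induction

section minimal

variable (A : Type u) [CommRing A] [IsLocalRing A] [IsNoetherianRing A]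

/-- minimal generators: relations among them have coefficients in the maximal ideal -/
lemma exists_minimal_generators (I : Ideal A) :
    ∃ (r : ℕ) (g : Fin r → A), Ideal.span (Set.range g) = I ∧
      ∀ q : Fin r →₀ A, jm A g q = 0 → ∀ i, q i ∈ maximalIdeal A := by
  classical
  let k := ResidueField A
  let b := Module.finBasis k (k ⊗[A] I)
  have hsurj := TensorProduct.mk_surjective A I k (residue_surjective (R := A))
  choose f hf using fun i => hsurj (b i)
  refine ⟨_, fun i => (f i : A), ?_, ?_⟩
  · have h := IsLocalRing.span_eq_top_of_tmul_eq_basis (R := A) (M := I) f b hf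
    have h2 := congrArg (Submodule.map I.subtype) h
    rw [Submodule.map_span, Submodule.map_subtype_top, ← Set.range_comp] at h2
    exact h2
  · intro q hq i
    have h1 : ∑ j, q j • f j = 0 := by
      apply Subtype.ext
      rw [jm, Finsupp.linearCombination_apply,
        q.sum_fintype (fun i c => c • (f i : A)) (fun i => zero_smul _ _)] at hq
      rw [Submodule.coe_sum, Submodule.coe_zero, ← hq]
      rfl
    have h2 := congrArg (TensorProduct.mk A k I 1) h1
    rw [map_sum, map_zero] at h2
    have h3 : ∑ j, (residue A (q j)) • b j = 0 := by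
      rw [← h2]
      refine Finset.sum_congr rfl fun j _ => ?_
      rw [map_smul, hf, ← algebraMap_smul k (q j) (b j)]
      rfl
    have h4 := Fintype.linearIndependent_iff.mp b.linearIndependent _ h3 i
    exact (residue_eq_zero_iff _).mp h4

end minimal

section main

variable {A : Type u} [CommRing A] [IsLocalRing A]

/-- abstract form of the Nakayama argument -/
lemma le_of_extension_property {X : Type u} [AddCommGroup X] [Module A X] (I : Ideal A)
    (hI : I ≠ ⊤) (Qs F0s : Submodule A X) (hfg : Qs.FG) (hm : Qs ≤ maximalIdeal A • ⊤)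
    (hT : ∀ (M : Type u) [AddCommGroup M] [Module (A ⧸ I) M] [Module A M]
      [IsScalarTower A (A ⧸ I) M] (φ : Qs →ₗ[A] M), (∀ q : Qs, (q : X) ∈ F0s → φ q = 0) →
        ∃ G : X →ₗ[A] M, ∀ q : Qs, G q = φ q) :
    Qs ≤ F0s := by
  classical
  have : Module.Finite A Qs := Module.Finite.iff_fg.mpr hfg
  let P : Submodule A Qs := F0s.comap Qs.subtype
  let N := Qs ⧸ P
  let M := (A ⧸ I) ⊗[A] N
  let φ : Qs →ₗ[A] M := (TensorProduct.mk A (A ⧸ I) N 1) ∘ₗ P.mkQ
  have hφ : ∀ q : Qs, (q : X) ∈ F0s → φ q = 0 := by
    intro q hq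
    have : P.mkQ q = 0 := by
      rw [Submodule.mkQ_apply, Submodule.Quotient.mk_eq_zero]
      exact hq
    simp only [φ, LinearMap.comp_apply, this, map_zero]
  obtain ⟨G, hG⟩ := hT M φ hφ
  have key : ∀ q : Qs, φ q ∈ (maximalIdeal A • ⊤ : Submodule A M) := by
    intro q
    rw [← hG q]
    have h1 : G q ∈ (maximalIdeal A • ⊤ : Submodule A X).map G := ⟨q, hm q.2, rfl⟩
    rw [Submodule.map_smul''] at h1
    exact Submodule.smul_mono le_rfl le_top h1
  have hM : Subsingleton M := by
    have hall : ∀ z : M, z ∈ (maximalIdeal A • ⊤ : Submodule A M) := by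
      intro z
      induction z using TensorProduct.induction_on with
      | zero => exact zero_mem _
      | add x y hx hy => exact add_mem hx hy
      | tmul b n =>
        obtain ⟨a, rfl⟩ := Ideal.Quotient.mk_surjective b
        obtain ⟨q, rfl⟩ := Submodule.Quotient.mk_surjective _ n
        have : (Ideal.Quotient.mk I a) ⊗ₜ[A] (Submodule.Quotient.mk q : N) = a • φ q := by
          show _ = a • ((1 : A ⧸ I) ⊗ₜ[A] (Submodule.Quotient.mk q : N))
          rw [TensorProduct.smul_tmul', Algebra.smul_def, mul_one]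
          rfl
        rw [this]
        exact Submodule.smul_mem _ a (key q)
    have htop : (⊤ : Submodule A M) ≤ maximalIdeal A • ⊤ := fun z _ => hall z
    have h := Submodule.eq_bot_of_le_smul_of_le_jacobson_bot (maximalIdeal A) ⊤
      Module.Finite.fg_top htop (maximalIdeal_le_jacobson _)
    exact (Submodule.subsingleton_iff A).mp (subsingleton_of_bot_eq_top h.symm)
  have hN : Subsingleton N := by
    have e := TensorProduct.quotTensorEquivQuotSMul N I
    have h0 : Subsingleton (N ⧸ (I • ⊤ : Submodule A N)) := e.symm.toEquiv.subsingleton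
    have h1 : (I • ⊤ : Submodule A N) = ⊤ := Submodule.Quotient.subsingleton_iff.mp h0
    have h := Submodule.eq_bot_of_le_smul_of_le_jacobson_bot I (⊤ : Submodule A N)
      Module.Finite.fg_top (by rw [h1]) ((le_maximalIdeal hI).trans (maximalIdeal_le_jacobson _))
    exact (Submodule.subsingleton_iff A).mp (subsingleton_of_bot_eq_top h.symm)
  intro q hq
  have : (Submodule.Quotient.mk ⟨q, hq⟩ : N) = 0 := Subsingleton.elim _ _
  exact (Submodule.Quotient.mk_eq_zero P).mp this

variable [IsNoetherianRing A]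

lemma Q_le_F0_of_T2 (I : Ideal A) (hI : I ≠ ⊤) {r : ℕ} (g : Fin r → A)
    (hg : ∀ i, algebraMap A (A ⧸ I) (g i) = 0)
    (hmin : ∀ q : Fin r →₀ A, jm A g q = 0 → ∀ i, q i ∈ maximalIdeal A)
    (hT : ∀ (M : Type u) [AddCommGroup M] [Module (A ⧸ I) M],
      Subsingleton (T2 A (A ⧸ I) g hg M)) :
    Q A g ≤ F0 A g := by
  classical
  refine le_of_extension_property I hI (Q A g) (F0 A g) (IsNoetherian.noetherian _) ?_ ?_
  · intro q hq
    have h1 : q = ∑ i, q i • Finsupp.single i (1 : A) := by
      ext j
      simp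
    rw [h1]
    refine Submodule.sum_mem _ fun i _ => ?_
    exact Submodule.smul_mem_smul (hmin q ((mem_Q _ _ _).mp hq) i) trivial
  · intro M _ _ _ _ φ hφ
    let ψ : L2 A (A ⧸ I) g →ₗ[A ⧸ I] M := lift2 φ hφ
    have hψ : ψ ∈ LinearMap.range (LinearMap.lcomp (A ⧸ I) M (d2 hg)) := by
      have := hT M
      have h0 : (Submodule.Quotient.mk ψ : T2 A (A ⧸ I) g hg M) = 0 := Subsingleton.elim _ _
      exact (Submodule.Quotient.mk_eq_zero _).mp h0
    obtain ⟨G, hG⟩ := (mem_range_lcomp_d2_iff hg ψ).mp hψ
    refine ⟨G, fun q => ?_⟩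
    rw [hG q, at2_lift2]

end main

section transfer

open Groth.Agent.Lib.Helper19.CotTVanish

variable {A : Type u} {B : Type u} [CommRing A] [CommRing B] [Algebra A B] {ι : Type u}
  {σ : Type u} (P : Algebra.Presentation A B ι σ) (M : Type u) [AddCommGroup M] [Module B M]

/-- the `T²` of a presentation of a quotient `B` of `A` is the abstract `T²` attached to any
family of generators of the kernel -/
theorem nonempty_T2_equiv_of_surjective (hsurj : Function.Surjective (algebraMap A B))
    {n : ℕ} (g : Fin n → A) (hg : ∀ i, algebraMap A B (g i) = 0)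
    (hI : RingHom.ker (algebraMap A B) = Ideal.span (Set.range g)) :
    Nonempty (CotT.T2 P M ≃ₗ[B] T2 A B g hg M) := by
  have : Algebra.FormallySmooth A P.toExtension.Ring :=
    inferInstanceAs (Algebra.FormallySmooth A (MvPolynomial ι A))
  let h' : P.toExtension.Ring →ₐ[A] A :=
    (MvPolynomial.aeval (fun i => Function.surjInv hsurj (P.val i)) : MvPolynomial ι A →ₐ[A] A)
  have hh' : ∀ x, algebraMap A B (h' x) = algebraMap P.toExtension.Ring B x := by
    intro x
    have : (Algebra.ofId A B).comp h' = IsScalarTower.toAlgHom A P.toExtension.Ring B := by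
      refine MvPolynomial.algHom_ext fun i => ?_
      show algebraMap A B (MvPolynomial.aeval (fun i => Function.surjInv hsurj (P.val i))
        (MvPolynomial.X i)) = algebraMap P.toExtension.Ring B (MvPolynomial.X i)
      rw [MvPolynomial.aeval_X, Function.surjInv_eq hsurj, CotT.algebraMap_toExtension,
        MvPolynomial.aeval_X]
    exact AlgHom.congr_fun this x
  obtain ⟨e⟩ := nonempty_T2_equiv_of_formallySmooth (A := A) (S := P.toExtension.Ring) (S' := A)
    (B := B) (f' := g)
    (CotT.algebraMap_rel P) hg (Algebra.ofId A P.toExtension.Ring)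
    (fun x => (IsScalarTower.algebraMap_apply A P.toExtension.Ring B x).symm)
    h' hh'
    (jm_span P) (fun z hz => by
      have hz' : z ∈ Ideal.span (Set.range g) := by rw [← hI]; exact hz
      rw [Ideal.span, ← Finsupp.range_linearCombination] at hz'
      exact hz') M
  exact ⟨(bridge P M).trans e⟩

end transfer

/-- **PkgR** of PROJ:ci-t2. -/
theorem pkgR : Groth.Agent.R2.H56.CISpec.PkgR.{u} := by
  intro A _ _ _ I hI hT
  obtain ⟨r, g, hspan, hmin⟩ := exists_minimal_generators A I
  have hgI : ∀ i, g i ∈ I := fun i => by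
    rw [← hspan]
    exact Ideal.subset_span ⟨i, rfl⟩
  have hg : ∀ i, algebraMap A (A ⧸ I) (g i) = 0 := fun i => by
    rw [Ideal.Quotient.algebraMap_eq, Ideal.Quotient.eq_zero_iff_mem]
    exact hgI i
  have hker : RingHom.ker (algebraMap A (A ⧸ I)) = Ideal.span (Set.range g) := by
    rw [Ideal.Quotient.algebraMap_eq, Ideal.mk_ker, hspan]
  have hT2 : ∀ (M : Type u) [AddCommGroup M] [Module (A ⧸ I) M],
      Subsingleton (T2 A (A ⧸ I) g hg M) := by
    intro M _ _
    obtain ⟨e⟩ := nonempty_T2_equiv_of_surjective (CotT.canon A (A ⧸ I)) M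
      Ideal.Quotient.mk_surjective g hg hker
    have := hT M
    exact e.symm.toEquiv.subsingleton
  have hQ := Q_le_F0_of_T2 I hI g hg hmin hT2
  have hm : ∀ i, g i ∈ maximalIdeal A := fun i => le_maximalIdeal hI (hgI i)
  refine ⟨(List.ofFn g).reverse, ?_, isWeaklyRegular_of_Q_le_F0 r g hm hQ⟩
  rw [ofList_reverse_ofFn, hspan]

end Groth.Agent.R2.H32.CIR
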