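import Groth.Agent.Lib.Helper19CotTVanish
import Groth.Agent.R2.H56CISpec

/-!
# PROJ:ci-t2, package `PkgT2`

`T¹(A/k, M) = 0` and `T²(B/k, M) = 0` imply `T²(B/A, M) = 0` for `B = A/I`
(exactness of `T¹(A/k,M) → T²(B/A,M) → T²(B/k,M)`, in vanishing form).
-/

set_option autoImplicit false
set_option linter.unusedSectionVars false
universe u

open TensorProduct

namespace Groth.Agent.R2.H32.CIT2

open Groth.Agent.Lib.Helper19.Kos Groth.Agent.Lib.Helper19.CotTIndep

section core

variable {R A B : Type u} [CommRing R] [CommRing A] [CommRing B] [Algebra R B] [Algebra A B]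
  (τ : R →+* A)
  {σf σg : Type u} (f : σf → R) (g : σg → A) (gt : σg → R)

/-- the comparison of generators: `f_s ↦ 0`, `g̃_t ↦ e_t` -/
noncomputable def vv : σf ⊕ σg → (σg →₀ A) :=
  Sum.elim (fun _ => 0) (fun t => Finsupp.single t 1)

variable {τ f g gt}

lemma hvv (hf : ∀ s, τ (f s) = 0) (hgt : ∀ t, τ (gt t) = g t) (i : σf ⊕ σg) :
    jm A g (vv (σf := σf) (A := A) i) = τ (Sum.elim f gt i) := by
  rcases i with s | t
  · simp [vv, hf]
  · simp [vv, hgt]

lemma τF_inl (a : σf →₀ R) :
    τF τ (vv (σf := σf) (σg := σg) (A := A)) (Finsupp.mapDomain Sum.inl a) = 0 := by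
  induction a using Finsupp.induction_linear with
  | zero => simp
  | add x y hx hy => rw [Finsupp.mapDomain_add, map_add, hx, hy, add_zero]
  | single s r => rw [Finsupp.mapDomain_single, τF_single]; simp [vv]

lemma τF_inr (b : σg →₀ R) :
    τF τ (vv (σf := σf) (σg := σg) (A := A)) (Finsupp.mapDomain Sum.inr b) =
      Finsupp.mapRange τ (map_zero τ) b := by
  induction b using Finsupp.induction_linear with
  | zero => simp
  | add x y hx hy =>
    rw [Finsupp.mapDomain_add, map_add, hx, hy, Finsupp.mapRange_add (map_add τ)]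
  | single t r =>
    rw [Finsupp.mapDomain_single, τF_single, Finsupp.mapRange_single]
    simp [vv]

lemma jm_inl (a : σf →₀ R) :
    jm R (Sum.elim f gt) (Finsupp.mapDomain Sum.inl a) = jm R f a := by
  rw [jm, jm, Finsupp.linearCombination_mapDomain]
  rfl

/-- relations of `g` lift to relations of `(f, g̃)` -/
lemma exists_lift_rel (hτs : Function.Surjective τ) (hf : ∀ s, τ (f s) = 0)
    (hgt : ∀ t, τ (gt t) = g t) (hfspan : ∀ z, τ z = 0 → ∃ x, jm R f x = z)
    (q : σg →₀ A) (hq : q ∈ Q A g) :
    ∃ w : σf ⊕ σg →₀ R, w ∈ Q R (Sum.elim f gt) ∧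
      τF τ (vv (σf := σf) (σg := σg) (A := A)) w = q := by
  obtain ⟨b₀, hb₀⟩ := Finsupp.mapRange_surjective τ (map_zero τ) hτs q
  have h1 : τ (jm R (Sum.elim f gt) (Finsupp.mapDomain Sum.inr b₀)) = 0 := by
    rw [← jm_τF (f' := g) (hvv hf hgt), τF_inr, hb₀]
    exact (mem_Q _ _ _).mp hq
  obtain ⟨a₀, ha₀⟩ := hfspan _ h1
  refine ⟨Finsupp.mapDomain Sum.inr b₀ - Finsupp.mapDomain Sum.inl a₀, ?_, ?_⟩
  · rw [mem_Q, map_sub, jm_inl, ha₀, sub_self]
  · rw [map_sub, τF_inl, τF_inr, hb₀, sub_zero]

variable {M : Type u} [AddCommGroup M] [Module R M]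

/-- Leibniz rule on a linear combination whose generators act by zero -/
lemma leibniz_jm {σ : Type u} (f' : σ → R) (hz : ∀ i (m : M), f' i • m = 0) (D : R → M)
    (hadd : ∀ x y, D (x + y) = D x + D y) (hmul : ∀ x y, D (x * y) = x • D y + y • D x)
    (w : σ →₀ R) :
    D (jm R f' w) = Finsupp.linearCombination R (fun i => D (f' i)) w := by
  have h0 : D 0 = 0 := by
    have := hadd 0 0
    rw [add_zero] at this
    exact left_eq_add.mp this
  induction w using Finsupp.induction_linear with
  | zero => rw [map_zero, map_zero, h0]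
  | add x y hx hy => rw [map_add, hadd, hx, hy, map_add]
  | single i r =>
    rw [jm_single, hmul, hz, add_zero, Finsupp.linearCombination_single]

variable [Module B M] [IsScalarTower R B M] [Module A M] [IsScalarTower A B M]

/-- **core of PkgT2**, in abstract form -/
theorem T2_subsingleton_core (hτ : ∀ x, algebraMap A B (τ x) = algebraMap R B x)
    (hτs : Function.Surjective τ) (hf : ∀ s, τ (f s) = 0)
    (hfspan : ∀ z, τ z = 0 → ∃ x, jm R f x = z)
    (hg : ∀ t, algebraMap A B (g t) = 0) (hgt : ∀ t, τ (gt t) = g t)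
    (hf' : ∀ i, algebraMap R B (Sum.elim f gt i) = 0)
    (hT1 : ∀ G : (σf →₀ R) →ₗ[R] M, (∀ q ∈ Q R f, G q = 0) →
        ∃ D : R → M, (∀ x y, D (x + y) = D x + D y) ∧
          (∀ x y, D (x * y) = x • D y + y • D x) ∧
          ∀ s, G (Finsupp.single s 1) = D (f s))
    (hT2 : Subsingleton (T2 R B (Sum.elim f gt) hf' M)) :
    Subsingleton (T2 A B g hg M) := by
  classical
  have hv := hvv (σf := σf) (σg := σg) (τ := τ) (f := f) (g := g) (gt := gt) hf hgt
  -- it suffices to show that every `ψ` is a coboundary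
  suffices h : ∀ ψ : L2 A B g →ₗ[B] M, ψ ∈ LinearMap.range (LinearMap.lcomp B M (d2 hg)) by
    refine ⟨fun x y => ?_⟩
    obtain ⟨x, rfl⟩ := Submodule.Quotient.mk_surjective _ x
    obtain ⟨y, rfl⟩ := Submodule.Quotient.mk_surjective _ y
    rw [(Submodule.Quotient.mk_eq_zero _).mpr (h x), (Submodule.Quotient.mk_eq_zero _).mpr (h y)]
  intro ψ
  rw [mem_range_lcomp_d2_iff]
  -- pull `ψ` back to the relations of `(f, g̃)`
  let ψ' : Q R (Sum.elim f gt) →ₗ[R] M := compτQ hτ hv (at2 ψ)
  have hψ' : ∀ q : Q R (Sum.elim f gt), (q : σf ⊕ σg →₀ R) ∈ F0 R (Sum.elim f gt) → ψ' q = 0 := by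
    intro q hq
    rw [compτQ_apply]
    exact at2_of_mem_F0 hg ψ _ (τF_mem_F0 hv hq)
  have hΨ : lift2 (B := B) ψ' hψ' ∈ LinearMap.range (LinearMap.lcomp B M (d2 hf')) := by
    have h0 : (Submodule.Quotient.mk (lift2 (B := B) ψ' hψ') :
        T2 R B (Sum.elim f gt) hf' M) = 0 := Subsingleton.elim _ _
    exact (Submodule.Quotient.mk_eq_zero _).mp h0
  obtain ⟨G', hG'⟩ := (mem_range_lcomp_d2_iff hf' _).mp hΨ
  have hG'q : ∀ q : Q R (Sum.elim f gt), G' q = at2 ψ (τQ τ vv hv q) := by
    intro q
    rw [hG' q, at2_lift2, compτQ_apply]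
  -- the `f`-part of `G'` is a cocycle for `A/k`, hence given by a derivation
  obtain ⟨D, hadd, hmul, hD⟩ := hT1 (G' ∘ₗ Finsupp.lmapDomain R R Sum.inl) (by
    intro q hq
    have hq' : Finsupp.mapDomain Sum.inl q ∈ Q R (Sum.elim f gt) := by
      rw [mem_Q, jm_inl]; exact (mem_Q _ _ _).mp hq
    have h1 := hG'q ⟨_, hq'⟩
    have h2 : τQ τ vv hv ⟨_, hq'⟩ = 0 := by
      apply Subtype.ext
      rw [τQ_coe]
      exact τF_inl q
    rw [h2, map_zero] at h1
    exact h1)
  have hz : ∀ i (m : M), (Sum.elim f gt i) • m = 0 := by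
    intro i m
    rw [← algebraMap_smul B, hf', zero_smul]
  have hΘ := leibniz_jm (M := M) (Sum.elim f gt) hz D hadd hmul
  have hD0 : D 0 = 0 := by
    have := hadd 0 0
    rw [add_zero] at this
    exact left_eq_add.mp this
  let G'' : (σf ⊕ σg →₀ R) →ₗ[R] M :=
    G' - Finsupp.linearCombination R (fun i => D (Sum.elim f gt i))
  have hG''q : ∀ q : Q R (Sum.elim f gt), G'' q = at2 ψ (τQ τ vv hv q) := by
    intro q
    show G' q - Finsupp.linearCombination R (fun i => D (Sum.elim f gt i)) q = _
    rw [← hΘ, (mem_Q _ _ _).mp q.2, hD0, sub_zero, hG'q]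
  have hG''inl : ∀ (s : σf) (r : R), G'' (Finsupp.single (Sum.inl s) r) = 0 := by
    intro s r
    show G' (Finsupp.single (Sum.inl s) r) -
      Finsupp.linearCombination R (fun i => D (Sum.elim f gt i)) (Finsupp.single (Sum.inl s) r) = 0
    have h1 : G' (Finsupp.single (Sum.inl s) 1) = D (f s) := by
      have := hD s
      rw [LinearMap.comp_apply, Finsupp.lmapDomain_apply, Finsupp.mapDomain_single] at this
      exact this
    have h2 : (Finsupp.single (Sum.inl s) r : σf ⊕ σg →₀ R) =
        r • Finsupp.single (Sum.inl s) 1 := by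
      rw [Finsupp.smul_single, smul_eq_mul, mul_one]
    rw [h2, map_smul, map_smul, h1, Finsupp.linearCombination_single, one_smul, Sum.elim_inl,
      sub_self]
  -- the extension
  let E : (σg →₀ A) →ₗ[A] M :=
    Finsupp.linearCombination A (fun t => G'' (Finsupp.single (Sum.inr t) 1))
  have hE : ∀ w : σf ⊕ σg →₀ R, G'' w = E (τF τ vv w) := by
    intro w
    induction w using Finsupp.induction_linear with
    | zero => rw [map_zero, map_zero, map_zero]
    | add x y hx hy => rw [map_add, map_add, map_add, hx, hy]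
    | single i r =>
      rcases i with s | t
      · rw [hG''inl, τF_single]
        simp [vv]
      · rw [τF_single]
        have h2 : (Finsupp.single (Sum.inr t) r : σf ⊕ σg →₀ R) =
            r • Finsupp.single (Sum.inr t) 1 := by
          rw [Finsupp.smul_single, smul_eq_mul, mul_one]
        rw [h2, map_smul, map_smul]
        show _ = τ r • E (Finsupp.single t 1)
        rw [Finsupp.linearCombination_single, one_smul, smul_τ (B := B) hτ]
  refine ⟨E, fun q => ?_⟩
  obtain ⟨w, hw, hwq⟩ := exists_lift_rel hτs hf hgt hfspan q q.2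
  have h1 := hG''q ⟨w, hw⟩
  rw [hE] at h1
  have h2 : τQ τ vv hv ⟨w, hw⟩ = q := Subtype.ext hwq
  rw [h2] at h1
  rw [← h1]
  show E (q : σg →₀ A) = E (τF τ vv w)
  rw [hwq]

end core

section T1

variable {k A : Type u} [CommRing k] [CommRing A] [Algebra k A] {ι σ : Type u}
  (P : Algebra.Presentation k A ι σ) (M : Type u) [AddCommGroup M] [Module A M]
  [Module P.toExtension.Ring M] [IsScalarTower P.toExtension.Ring A M]

/-- if `T¹(A/k, M) = 0`, every linear map on the free module on the relations which kills the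
relation module is given by a derivation -/
theorem exists_derivation_of_T1 (hT1 : Subsingleton (CotT.T1 P M))
    (G : (σ →₀ P.toExtension.Ring) →ₗ[P.toExtension.Ring] M)
    (hG : ∀ q ∈ Q P.toExtension.Ring (CotT.rel P), G q = 0) :
    ∃ D : P.toExtension.Ring → M, (∀ x y, D (x + y) = D x + D y) ∧
      (∀ x y, D (x * y) = x • D y + y • D x) ∧
      ∀ s, G (Finsupp.single s 1) = D (CotT.rel P s) := by
  let χ : CotT.L1 P →ₗ[A] M := lift1 (B := A) G
  have hχ : χ ∈ CotT.cocycles1 P M := by
    rw [LinearMap.mem_ker, CotT.d2Star_apply]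
    have h : (χ ∘ₗ d2 (CotT.algebraMap_rel P)) = 0 := by
      apply L2_ext
      intro q
      rw [at2_comp_d2, at1_lift1, hG _ q.2]
      rfl
    exact h
  have h0 : (Submodule.Quotient.mk ⟨χ, hχ⟩ : CotT.T1 P M) = 0 := Subsingleton.elim _ _
  rw [Submodule.Quotient.mk_eq_zero] at h0
  obtain ⟨lam, hlam⟩ := h0
  have hlam' : ∀ z, lam (CotT.d1 P z) = χ z := fun z => by
    have := LinearMap.congr_fun hlam z
    exact this
  refine ⟨fun r => lam ((1 : A) ⊗ₜ KaehlerDifferential.D k P.toExtension.Ring r), ?_, ?_, ?_⟩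
  · intro x y
    simp only [map_add, TensorProduct.tmul_add]
  · intro x y
    have key : ∀ (x : P.toExtension.Ring) (z : Ω[P.toExtension.Ring⁄k]),
        lam ((x • (1 : A)) ⊗ₜ[P.toExtension.Ring] z) =
          x • lam ((1 : A) ⊗ₜ[P.toExtension.Ring] z) := by
      intro x z
      have h : ((x • (1 : A)) ⊗ₜ[P.toExtension.Ring] z : CotT.L0 P) =
          (algebraMap P.toExtension.Ring A x) • ((1 : A) ⊗ₜ[P.toExtension.Ring] z) := by
        rw [TensorProduct.smul_tmul', Algebra.smul_def, smul_eq_mul]
      rw [h, map_smul, algebraMap_smul]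
    simp only [Derivation.leibniz, TensorProduct.tmul_add, map_add]
    rw [← TensorProduct.smul_tmul, ← TensorProduct.smul_tmul, key, key]
  · intro s
    have h1 : G (Finsupp.single s 1) = χ ((1 : A) ⊗ₜ Finsupp.single s 1) := by
      rw [← at1_apply, at1_lift1]
    rw [h1, ← hlam', CotT.d1_tmul, one_smul, CotT.jmap_single, one_mul]

end T1

section final

open Groth.Agent.Lib.Helper19.CotTVanish

/-- the `T²` of a presentation of a quotient `B` of `A` is the abstract `T²` attached to any
family of generators of the kernel (any index type) -/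
theorem nonempty_T2_equiv_of_surjective' {A B : Type u} [CommRing A] [CommRing B] [Algebra A B]
    {ι σ : Type u} (P : Algebra.Presentation A B ι σ) (M : Type u) [AddCommGroup M] [Module B M]
    (hsurj : Function.Surjective (algebraMap A B)) {σ' : Type u} (g : σ' → A)
    (hg : ∀ i, algebraMap A B (g i) = 0)
    (hI : ∀ z : A, algebraMap A B z = 0 → ∃ x, jm A g x = z) :
    Nonempty (CotT.T2 P M ≃ₗ[B] T2 A B g hg M) := by
  have : Algebra.FormallySmooth A P.toExtension.Ring :=
    inferInstanceAs (Algebra.FormallySmooth A (MvPolynomial ι A))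
  let h' : P.toExtension.Ring →ₐ[A] A :=
    (MvPolynomial.aeval (fun i => Function.surjInv hsurj (P.val i)) : MvPolynomial ι A →ₐ[A] A)
  have hh' : ∀ x, algebraMap A B (h' x) = algebraMap P.toExtension.Ring B x := by
    intro x
    have : (Algebra.ofId A B).comp h' = IsScalarTower.toAlgHom A P.toExtension.Ring B := by
      refine MvPolynomial.algHom_ext fun i => ?_
      show algebraMap A B (MvPolynomial.aeval (fun i => Function.surjInv hsurj (P.val i))
        (MvPolynomial.X i)) = algebraMap P.toExtension.Ring B (MvPolynomial.X i)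
      rw [MvPolynomial.aeval_X, Function.surjInv_eq hsurj, CotT.algebraMap_toExtension,
        MvPolynomial.aeval_X]
    exact AlgHom.congr_fun this x
  obtain ⟨e⟩ := nonempty_T2_equiv_of_formallySmooth (A := A) (S := P.toExtension.Ring) (S' := A)
    (B := B) (f' := g)
    (CotT.algebraMap_rel P) hg (Algebra.ofId A P.toExtension.Ring)
    (fun x => (IsScalarTower.algebraMap_apply A P.toExtension.Ring B x).symm)
    h' hh' (jm_span P) hI M
  exact ⟨(bridge P M).trans e⟩

/-- **PkgT2** of PROJ:ci-t2. -/
theorem pkgT2 : Groth.Agent.R2.H56.CISpec.PkgT2.{u} := by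
  intro k A _ _ _ I M _ _ _ _ hT1 hT2
  let P := CotT.canon k A
  let _ : Module P.toExtension.Ring M := Module.compHom M (algebraMap P.toExtension.Ring A)
  have : IsScalarTower P.toExtension.Ring A M := IsScalarTower.of_compHom P.toExtension.Ring A M
  have halg : ∀ x : P.toExtension.Ring,
      algebraMap A (A ⧸ I) (algebraMap P.toExtension.Ring A x) =
        algebraMap P.toExtension.Ring (A ⧸ I) x := fun x =>
    (IsScalarTower.algebraMap_apply P.toExtension.Ring A (A ⧸ I) x).symm
  have : IsScalarTower P.toExtension.Ring (A ⧸ I) M :=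
    IsScalarTower.of_algebraMap_smul (fun r x => by
      rw [← halg, algebraMap_smul, algebraMap_smul])
  let g : I → A := Subtype.val
  let gt : I → P.toExtension.Ring := fun t => MvPolynomial.X (t : A)
  have hτs : Function.Surjective (algebraMap P.toExtension.Ring A) :=
    P.toExtension.algebraMap_surjective
  have hf : ∀ s, algebraMap P.toExtension.Ring A (CotT.rel P s) = 0 := CotT.algebraMap_rel P
  have hfspan : ∀ z, algebraMap P.toExtension.Ring A z = 0 →
      ∃ x, jm P.toExtension.Ring (CotT.rel P) x = z := jm_span P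
  have hg : ∀ t, algebraMap A (A ⧸ I) (g t) = 0 := fun t => by
    rw [Ideal.Quotient.algebraMap_eq, Ideal.Quotient.eq_zero_iff_mem]
    exact t.2
  have hgt : ∀ t, algebraMap P.toExtension.Ring A (gt t) = g t := fun t => by
    rw [CotT.algebraMap_toExtension, MvPolynomial.aeval_X]
    rfl
  have hf' : ∀ i, algebraMap P.toExtension.Ring (A ⧸ I) (Sum.elim (CotT.rel P) gt i) = 0 := by
    rintro (s | t)
    · rw [← halg, Sum.elim_inl, hf, map_zero]
    · rw [← halg, Sum.elim_inr, hgt, hg]
  -- `T²(B/k)` computed with the ring of the presentation of `A`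
  have hT2' : Subsingleton (T2 P.toExtension.Ring (A ⧸ I) (Sum.elim (CotT.rel P) gt) hf' M) := by
    let PB := CotT.canon k (A ⧸ I)
    have : Algebra.FormallySmooth k P.toExtension.Ring :=
      inferInstanceAs (Algebra.FormallySmooth k (MvPolynomial A k))
    have : Algebra.FormallySmooth k PB.toExtension.Ring :=
      inferInstanceAs (Algebra.FormallySmooth k (MvPolynomial (A ⧸ I) k))
    let h : P.toExtension.Ring →ₐ[k] PB.toExtension.Ring :=
      (MvPolynomial.rename (Ideal.Quotient.mk I) : MvPolynomial A k →ₐ[k] MvPolynomial (A ⧸ I) k)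
    have hh : ∀ x, algebraMap PB.toExtension.Ring (A ⧸ I) (h x) =
        algebraMap P.toExtension.Ring (A ⧸ I) x := by
      intro x
      have : (IsScalarTower.toAlgHom k PB.toExtension.Ring (A ⧸ I)).comp h =
          IsScalarTower.toAlgHom k P.toExtension.Ring (A ⧸ I) := by
        refine MvPolynomial.algHom_ext fun a => ?_
        show algebraMap PB.toExtension.Ring (A ⧸ I)
            (MvPolynomial.rename (Ideal.Quotient.mk I) (MvPolynomial.X a)) =
          algebraMap A (A ⧸ I) (algebraMap P.toExtension.Ring A (MvPolynomial.X a))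
        rw [MvPolynomial.rename_X, CotT.algebraMap_toExtension, MvPolynomial.aeval_X,
          CotT.algebraMap_toExtension, MvPolynomial.aeval_X]
        rfl
      exact AlgHom.congr_fun this x
    let h' : PB.toExtension.Ring →ₐ[k] P.toExtension.Ring :=
      (MvPolynomial.rename (Function.surjInv Ideal.Quotient.mk_surjective) :
        MvPolynomial (A ⧸ I) k →ₐ[k] MvPolynomial A k)
    have hh' : ∀ x, algebraMap P.toExtension.Ring (A ⧸ I) (h' x) =
        algebraMap PB.toExtension.Ring (A ⧸ I) x := by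
      intro x
      have : (IsScalarTower.toAlgHom k P.toExtension.Ring (A ⧸ I)).comp h' =
          IsScalarTower.toAlgHom k PB.toExtension.Ring (A ⧸ I) := by
        refine MvPolynomial.algHom_ext fun b => ?_
        show algebraMap A (A ⧸ I) (algebraMap P.toExtension.Ring A
            (MvPolynomial.rename (Function.surjInv Ideal.Quotient.mk_surjective)
              (MvPolynomial.X b))) = algebraMap PB.toExtension.Ring (A ⧸ I) (MvPolynomial.X b)
        rw [MvPolynomial.rename_X, CotT.algebraMap_toExtension, MvPolynomial.aeval_X,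
          CotT.algebraMap_toExtension, MvPolynomial.aeval_X]
        exact Function.surjInv_eq Ideal.Quotient.mk_surjective b
      exact AlgHom.congr_fun this x
    have hspan' : ∀ z : P.toExtension.Ring, algebraMap P.toExtension.Ring (A ⧸ I) z = 0 →
        ∃ x, jm P.toExtension.Ring (Sum.elim (CotT.rel P) gt) x = z := by
      intro z hz
      have ha : algebraMap P.toExtension.Ring A z ∈ I := by
        rw [← halg, Ideal.Quotient.algebraMap_eq, Ideal.Quotient.eq_zero_iff_mem] at hz
        exact hz
      obtain ⟨x₀, hx₀⟩ := hfspan (z - gt ⟨_, ha⟩) (by rw [map_sub, hgt, sub_self])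
      refine ⟨Finsupp.mapDomain Sum.inl x₀ + Finsupp.single (Sum.inr ⟨_, ha⟩) 1, ?_⟩
      rw [map_add, jm_inl, hx₀, jm_single, one_mul, Sum.elim_inr, sub_add_cancel]
    obtain ⟨e⟩ := nonempty_T2_equiv_of_formallySmooth (A := k) (S := PB.toExtension.Ring)
      (S' := P.toExtension.Ring) (B := A ⧸ I) (f' := Sum.elim (CotT.rel P) gt)
      (CotT.algebraMap_rel PB) hf' h hh h' hh' (jm_span PB) hspan' M
    have := hT2
    exact ((bridge PB M).trans e).symm.toEquiv.subsingleton
  have core := T2_subsingleton_core (τ := algebraMap P.toExtension.Ring A) halg hτs hf hfspan hg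
    hgt hf' (exists_derivation_of_T1 P M hT1) hT2'
  obtain ⟨e⟩ := nonempty_T2_equiv_of_surjective' (CotT.canon A (A ⧸ I)) M
    Ideal.Quotient.mk_surjective g hg (fun z hz => by
      rw [Ideal.Quotient.algebraMap_eq, Ideal.Quotient.eq_zero_iff_mem] at hz
      exact ⟨Finsupp.single ⟨z, hz⟩ 1, by rw [jm_single, one_mul]⟩)
  exact e.toEquiv.subsingleton

end final

end Groth.Agent.R2.H32.CIT2
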