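import Mathlib

/-!
# helper32: a family of field extensions embeds into a common field

`exists_common_field`: for a field `k` and field extensions `K i / k` (`i : I`, everything in one
universe) there is a field `L / k` with `k`-embeddings `K i → L` for all `i`.
-/

set_option autoImplicit false
universe u

namespace Groth.Agent.R2.H32.CommonField

open MvPolynomial

theorem exists_algHom_of_big (k : Type u) [Field k] (K : Type u) [Field K] [Algebra k K]
    (σ : Type u) (Ω : Type u) [Field Ω] [IsAlgClosed Ω] [Algebra k Ω]
    (g : MvPolynomial σ k →ₐ[k] Ω) (hg : Function.Injective g)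
    (e : K → σ) (he : Function.Injective e) : Nonempty (K →ₐ[k] Ω) := by
  classical
  obtain ⟨s, hs⟩ := exists_isTranscendenceBasis k K
  have hind : AlgebraicIndependent k ((↑) : s → K) := hs.1
  let A : Subalgebra k K := Algebra.adjoin k (Set.range ((↑) : s → K))
  have halg : Algebra.IsAlgebraic A K := hs.isAlgebraic
  -- the map `A → Ω`
  let f0 : MvPolynomial s k →ₐ[k] Ω := g.comp (rename (fun b : s => e b.1))
  have hf0 : Function.Injective f0 := by
    refine hg.comp (rename_injective _ ?_)
    intro a b hab
    exact Subtype.ext (he hab)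
  let f : A →ₐ[k] Ω := f0.comp hind.aevalEquiv.symm.toAlgHom
  have hf : Function.Injective f := hf0.comp hind.aevalEquiv.symm.injective
  let _ : Algebra A Ω := f.toRingHom.toAlgebra
  have htower : IsScalarTower k A Ω := IsScalarTower.of_algebraMap_eq fun c => by
    show algebraMap k Ω c = f (algebraMap k A c)
    rw [AlgHom.commutes]
  have hinj : Function.Injective (algebraMap A Ω) := hf
  have h1 : Module.IsTorsionFree A K := inferInstance
  have h2 : Module.IsTorsionFree A Ω := by
    rw [← faithfulSMul_iff_algebraMap_injective] at hinj
    infer_instance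
  exact ⟨(IsAlgClosed.lift (R := A) (S := K) (M := Ω)).restrictScalars k⟩

theorem exists_common_field (k : Type u) [Field k] {I : Type u} (K : I → Type u)
    [∀ i, Field (K i)] [∀ i, Algebra k (K i)] :
    ∃ (L : Type u) (_ : Field L) (_ : Algebra k L), ∀ i, Nonempty (K i →ₐ[k] L) := by
  let σ : Type u := Σ i, K i
  let F := FractionRing (MvPolynomial σ k)
  let Ω := AlgebraicClosure F
  let g : MvPolynomial σ k →ₐ[k] Ω := IsScalarTower.toAlgHom k (MvPolynomial σ k) Ω
  have hg : Function.Injective g := by
    show Function.Injective (algebraMap (MvPolynomial σ k) Ω)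
    rw [IsScalarTower.algebraMap_eq (MvPolynomial σ k) F Ω]
    exact (algebraMap F Ω).injective.comp (IsFractionRing.injective _ _)
  refine ⟨Ω, inferInstance, inferInstance, fun i => ?_⟩
  exact exists_algHom_of_big k (K i) σ Ω g hg (fun x => ⟨i, x⟩) (fun a b h => by
    exact eq_of_heq (Sigma.mk.inj h).2)

end Groth.Agent.R2.H32.CommonField
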