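import Mathlib
import Groth.Agent.Lib.Helper20EtLocalSch

/-!
# helper32: etale maps between fibre products / fibres

* `etale_of_pullback_compat`: a morphism between two fibre products `U' ×_{V'} K' ⟶ U ×_V K` compatible
  with etale maps `U' ⟶ U`, `V' ⟶ V`, `K' ⟶ K` is etale.
* `etale_SpecMap_residueFieldMap`: for `b` etale, `Spec κ(v') ⟶ Spec κ(b v')` is etale.
-/

set_option autoImplicit false
universe u
open CategoryTheory CategoryTheory.Limits AlgebraicGeometry

namespace Groth.Agent.R2.H32.EtaleFiber

theorem etale_of_pullback_compat {U V K U' V' K' : Scheme.{u}} (h : U ⟶ V) (i : K ⟶ V)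
    (h' : U' ⟶ V') (i' : K' ⟶ V') (a : U' ⟶ U) (b : V' ⟶ V) (r : K' ⟶ K)
    [Etale a] [Etale b] [Etale r] (comm : h' ≫ b = a ≫ h) (commi : i' ≫ b = r ≫ i)
    (φ : pullback h' i' ⟶ pullback h i)
    (hφ1 : φ ≫ pullback.fst h i = pullback.fst h' i' ≫ a)
    (hφ2 : φ ≫ pullback.snd h i = pullback.snd h' i' ≫ r) : Etale φ := by
  -- `Q = U' ×_U F`
  let ψ : pullback h' i' ⟶ pullback a (pullback.fst h i) :=
    pullback.lift (pullback.fst h' i') φ hφ1.symm
  have hψ : ψ ≫ pullback.snd a (pullback.fst h i) = φ := pullback.lift_snd _ _ _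
  have hψ1 : ψ ≫ pullback.fst a (pullback.fst h i) = pullback.fst h' i' := pullback.lift_fst _ _ _
  -- `B = V' ×_V K`
  have hq : (pullback.fst a (pullback.fst h i) ≫ h') ≫ b =
      (pullback.snd a (pullback.fst h i) ≫ pullback.snd h i) ≫ i := by
    rw [Category.assoc, comm, ← Category.assoc, pullback.condition, Category.assoc, Category.assoc,
      pullback.condition]
  let q : pullback a (pullback.fst h i) ⟶ pullback b i :=
    pullback.lift (pullback.fst a (pullback.fst h i) ≫ h')
      (pullback.snd a (pullback.fst h i) ≫ pullback.snd h i) hq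
  let j : K' ⟶ pullback b i := pullback.lift i' r commi
  have hj1 : j ≫ pullback.fst b i = i' := pullback.lift_fst _ _ _
  have hj2 : j ≫ pullback.snd b i = r := pullback.lift_snd _ _ _
  have hq1 : q ≫ pullback.fst b i = pullback.fst a (pullback.fst h i) ≫ h' := pullback.lift_fst _ _ _
  have hq2 : q ≫ pullback.snd b i = pullback.snd a (pullback.fst h i) ≫ pullback.snd h i :=
    pullback.lift_snd _ _ _
  -- the right square
  have s' : IsPullback (q ≫ pullback.snd b i) (pullback.fst a (pullback.fst h i)) i (h' ≫ b) := by
    rw [hq2, comm]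
    exact (IsPullback.of_hasPullback a (pullback.fst h i)).flip.paste_horiz
      (IsPullback.of_hasPullback h i).flip
  have t : IsPullback (pullback.fst a (pullback.fst h i)) q h' (pullback.fst b i) :=
    (IsPullback.of_right s' hq1 (IsPullback.of_hasPullback b i).flip).flip
  -- the left square
  have s : IsPullback (ψ ≫ pullback.fst a (pullback.fst h i)) (pullback.snd h' i') h'
      (j ≫ pullback.fst b i) := by
    rw [hψ1, hj1]
    exact IsPullback.of_hasPullback h' i'
  have hψq : ψ ≫ q = pullback.snd h' i' ≫ j := by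
    apply pullback.hom_ext
    · rw [Category.assoc, hq1, ← Category.assoc, hψ1, Category.assoc, hj1, pullback.condition]
    · rw [Category.assoc, hq2, ← Category.assoc, hψ, hφ2, Category.assoc, hj2]
  have sq : IsPullback ψ (pullback.snd h' i') q j := IsPullback.of_right s hψq t
  -- `j` is etale
  have hBsnd : Etale (pullback.snd b i) := inferInstance
  have hj : Etale j := by
    have : Etale (j ≫ pullback.snd b i) := by rw [hj2]; infer_instance
    exact Etale.of_comp j (pullback.snd b i)
  have hψe : Etale ψ := MorphismProperty.of_isPullback (P := @Etale) sq.flip hj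
  rw [← hψ]
  infer_instance

theorem etale_SpecMap_residueFieldMap {V' V : Scheme.{u}} (b : V' ⟶ V) [Etale b] (v' : V') :
    Etale (Spec.map (b.residueFieldMap v')) := by
  have hunr : (b.stalkMap v').hom.FormallyUnramified := FormallyUnramified.stalkMap b v'
  obtain ⟨-, hfin, hsep⟩ :=
    (Groth.Agent.Lib.Helper20.EtLocal.formallyUnramified_stalkMap_iff_local b v').mp hunr
  rw [HasRingHomProperty.Spec_iff (P := @Etale)]
  letI := (b.residueFieldMap v').hom.toAlgebra
  show Algebra.Etale (V.residueField (b v')) (V'.residueField v')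
  have hfe : Algebra.FormallyEtale (V.residueField (b v')) (V'.residueField v') :=
    Algebra.FormallyEtale.of_isSeparable _ _
  have hfp : Algebra.FinitePresentation (V.residueField (b v')) (V'.residueField v') :=
    Algebra.FinitePresentation.of_finiteType.mp inferInstance
  exact ⟨hfe, hfp⟩

end Groth.Agent.R2.H32.EtaleFiber
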