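import Mathlib
import Groth.Prelude.Def_Coh
import Groth.Agent.R2.H28RpushQCohC
import Groth.Agent.R2.H60RelAmpleR1
import Groth.Agent.R2.H1RpushRestrict
import Groth.Agent.Lib.Helper23QCohLocal

/-!
# Vanishing of higher direct images of quasi-coherent modules above a degree (helper32, for S7411 / S12458)

* `VanAbove f d` : `R^i f_* M = 0` for all quasi-coherent `M` and all `i > d` (abelian-sheaf form, as in S7448 / S12458);
* `BCStmt`       : stability of `VanAbove` under base change (= the frozen statement S7448);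
* `VanAbove.comp_of_isAffineHom` : `VanAbove f d → VanAbove (ι ≫ f) d` for `ι` affine (Leray, via helper28).
-/

set_option autoImplicit false
universe u
open CategoryTheory CategoryTheory.Limits AlgebraicGeometry TopologicalSpace Opposite

namespace Groth.Agent.R2.H32.FibVanDef

/-- `R^i f_*` kills all quasi-coherent modules for `i > d` -/
def VanAbove {X Y : Scheme.{u}} (f : X ⟶ Y) (d : ℕ) : Prop :=
  ∀ (M : X.Modules) (i : ℕ), Coh.IsQCoh M → d < i → IsZero ((Coh.RpushAb f i).obj (Coh.toAb M))

/-- base change stability of `VanAbove` (the statement of S7448) -/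
def BCStmt : Prop :=
  ∀ {X Y X' Y' : Scheme.{u}} (f : X ⟶ Y) [CompactSpace X] [QuasiSeparatedSpace X] [CompactSpace Y]
    [QuasiSeparatedSpace Y] (d : ℕ), VanAbove f d →
    ∀ (g : Y' ⟶ Y) (f' : X' ⟶ Y') (g' : X' ⟶ X), IsPullback g' f' f g → VanAbove f' d

open Groth.Agent.R2.H1.RpushRestrict in
/-- Leray for an affine morphism -/
theorem VanAbove.comp_of_isAffineHom {Z X Y : Scheme.{u}} (ι : Z ⟶ X) [IsAffineHom ι] (f : X ⟶ Y) (d : ℕ)
    (h : VanAbove f d) : VanAbove (ι ≫ f) d := by
  intro M i hM hi
  have : EnoughInjectives Z.Modules := enoughInjectives_modules _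
  have : EnoughInjectives X.Modules := enoughInjectives_modules _
  have : HasInjectiveResolutions Z.Modules := inferInstance
  have : HasInjectiveResolutions X.Modules := inferInstance
  have : M.IsQuasicoherent := hM
  have hpush : ((Scheme.Modules.pushforward ι).obj M).IsQuasicoherent :=
    Groth.Agent.Lib.Helper23.QCohLocal.isQuasicoherent_pushforward ι M
  obtain ⟨e⟩ := Groth.Agent.R2.H28.RpushQCoh.nonempty_rpush_push_iso ι f M
    (fun q hq => Groth.Agent.R2.H28.RpushQCoh.isZero_rpush_of_isAffineHom ι M hM q hq) i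
  have h1 := h ((Scheme.Modules.pushforward ι).obj M) i hpush hi
  rw [← Groth.Agent.R2.H60.RelAmpleR1.isZero_Rpush_iff] at h1 ⊢
  exact h1.of_iso e.symm

end Groth.Agent.R2.H32.FibVanDef
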