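import Mathlib
import Groth.Prelude.Def_Coh
import Groth.Agent.R2.H32FibVanDef
import Groth.Agent.R2.H62RpushCoh
import Groth.Agent.R2.H1RpushQCoh
import Groth.Agent.R2.H11CbcDict
import Groth.Agent.Lib.Helper23ModLocal

/-!
# Base change stability of `R^i f_* = 0` above a degree (helper32; = S7448, for S7411 / S12458)

* `CDle X d` : `H^i(X, M) = 0` for all quasi-coherent `M` and `i > d`;
* over an affine base, `VanAbove f d ↔ CDle X d` (`cdle_of_vanAbove`, `vanAbove_of_cdle`);
* `CDle` passes to the source of an affine morphism (`cdle_of_isAffineHom`);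
* `VanAbove` passes to the restriction to an open of the base (`vanAbove_morphismRestrict`);
* `bcStmt : BCStmt` : the statement of S7448.
-/

set_option autoImplicit false
universe u
open CategoryTheory CategoryTheory.Limits AlgebraicGeometry TopologicalSpace Opposite

namespace Groth.Agent.R2.H32.FibVanD

open Groth.Agent.R2.H32.FibVanDef Groth.Agent.R2.H1.RpushRestrict

/-- sections of a zero sheaf -/
theorem subsingleton_sections_of_isZero {Y : Scheme.{u}}
    (F : Sheaf (Opens.grothendieckTopology Y) AddCommGrpCat.{u}) (h : IsZero F) (U : Y.Opens) :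
    Subsingleton (F.obj.obj (op U)) := by
  refine ⟨fun a b => ?_⟩
  have h0 : 𝟙 F = 0 := (IsZero.iff_id_eq_zero _).1 h
  have key : ∀ t : F.obj.obj (op U), t = 0 := fun t => by
    have := congrArg (fun φ : F ⟶ F => (φ.hom.app (op U)).hom t) h0
    exact this
  rw [key a, key b]

/-- quasi-coherent cohomological dimension `≤ d` -/
def CDle (X : Scheme.{u}) (d : ℕ) : Prop :=
  ∀ (M : X.Modules) (i : ℕ), Coh.IsQCoh M → d < i → Subsingleton (Coh.HH X M i)

/-- over an affine base, vanishing of `R^i f_*` gives vanishing of `H^i` -/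
theorem cdle_of_vanAbove {X Y : Scheme.{u}} (f : X ⟶ Y) [QuasiCompact f] [QuasiSeparated f] [IsAffine Y]
    (d : ℕ) (h : VanAbove f d) : CDle X d := by
  intro M i hM hi
  have : EnoughInjectives X.Modules := enoughInjectives_modules _
  have : HasInjectiveResolutions X.Modules := inferInstance
  have : M.IsQuasicoherent := hM
  have h1 : IsZero ((Coh.Rpush f i).obj M) :=
    (Groth.Agent.R2.H60.RelAmpleR1.isZero_Rpush_iff f M i).2 (h M i hM hi)
  have h2 : IsZero (Coh.toAb ((Coh.Rpush f i).obj M)) :=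
    Groth.Agent.R2.H60.RelAmpleR1.isZero_toAb_of_isZero _ h1
  have h3 : Subsingleton ((Coh.toAb ((Coh.Rpush f i).obj M)).obj.obj (op ⊤)) :=
    subsingleton_sections_of_isZero _ h2 ⊤
  exact (Groth.Agent.R2.H62.RpushCoh.secEquiv f M i).symm.injective.subsingleton

/-- over an affine base, vanishing of `H^i` gives vanishing of `R^i f_*` -/
theorem vanAbove_of_cdle {X Y : Scheme.{u}} (f : X ⟶ Y) [QuasiCompact f] [QuasiSeparated f] [IsAffine Y]
    (d : ℕ) (h : CDle X d) : VanAbove f d := by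
  intro M i hM hi
  have : EnoughInjectives X.Modules := enoughInjectives_modules _
  have : HasInjectiveResolutions X.Modules := inferInstance
  have : M.IsQuasicoherent := hM
  rw [← Groth.Agent.R2.H60.RelAmpleR1.isZero_Rpush_iff]
  have hN : ((Coh.Rpush f i).obj M).IsQuasicoherent :=
    Groth.Agent.R2.H1.RpushQCoh.isQuasicoherent_Rpush f M i
  have hs : Subsingleton (Coh.HH X M i) := h M i hM hi
  have h3 : Subsingleton ((Coh.toAb ((Coh.Rpush f i).obj M)).obj.obj (op ⊤)) :=
    (Groth.Agent.R2.H62.RpushCoh.secEquiv f M i).injective.subsingleton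
  have h4 : Subsingleton Γ((Coh.Rpush f i).obj M, (⊤ : Y.Opens)) := h3
  have h5 : IsZero (((Coh.Rpush f i).obj M).restrict (⊤ : Y.Opens).ι) :=
    Groth.Agent.R2.H11.CbcDict.isZero_restrict_of_subsingleton _ (isAffineOpen_top Y) h4
  refine Groth.Agent.Lib.Helper23.ModLocal.isZero_of_isZero_restrict (ι := Unit)
    (fun _ => ((⊤ : Y.Opens) : Scheme.{u})) (fun _ => (⊤ : Y.Opens).ι) (fun x => ⟨(), ⟨x, trivial⟩, rfl⟩)
    (fun _ => h5)

/-- the source of an affine morphism to a scheme of cohomological dimension `≤ d` has cohomological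
dimension `≤ d` -/
theorem cdle_of_isAffineHom {Z X : Scheme.{u}} (a : Z ⟶ X) [IsAffineHom a] [CompactSpace X]
    [QuasiSeparatedSpace X] (d : ℕ) (h : CDle X d) : CDle Z d := by
  have h1 : VanAbove X.toSpecΓ d := vanAbove_of_cdle X.toSpecΓ d h
  have h2 : VanAbove (a ≫ X.toSpecΓ) d := VanAbove.comp_of_isAffineHom a X.toSpecΓ d h1
  have : QuasiCompact (a ≫ X.toSpecΓ) := inferInstance
  have : QuasiSeparated a := inferInstance
  have : QuasiSeparated (a ≫ X.toSpecΓ) := inferInstance
  exact cdle_of_vanAbove (a ≫ X.toSpecΓ) d h2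

/-- base change stability over affine bases -/
theorem vanAbove_of_isPullback_of_isAffine {X Y X' Y' : Scheme.{u}} (f : X ⟶ Y) [QuasiCompact f]
    [QuasiSeparated f] [IsAffine Y] [IsAffine Y'] (d : ℕ) (h : VanAbove f d)
    (g : Y' ⟶ Y) (f' : X' ⟶ Y') (g' : X' ⟶ X) (sq : IsPullback g' f' f g) : VanAbove f' d := by
  have hg : IsAffineHom g := inferInstance
  have hg' : IsAffineHom g' := MorphismProperty.of_isPullback sq.flip hg
  have hf'c : QuasiCompact f' := MorphismProperty.of_isPullback sq ‹QuasiCompact f›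
  have hf's : QuasiSeparated f' := MorphismProperty.of_isPullback sq ‹QuasiSeparated f›
  have hXc : CompactSpace X := QuasiCompact.compactSpace_of_compactSpace f
  have hXs : QuasiSeparatedSpace X := quasiSeparatedSpace_of_quasiSeparated f
  exact vanAbove_of_cdle f' d (cdle_of_isAffineHom g' d (cdle_of_vanAbove f d h))

/-- restriction of `VanAbove` to an open of the base -/
theorem vanAbove_morphismRestrict {X Y : Scheme.{u}} (f : X ⟶ Y) (V : Y.Opens)
    [QuasiCompact (f ⁻¹ᵁ V).ι] (d : ℕ) (h : VanAbove f d) : VanAbove (f ∣_ V) d := by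
  intro N i hN hi
  have : EnoughInjectives X.Modules := enoughInjectives_modules _
  have : HasInjectiveResolutions X.Modules := inferInstance
  have : EnoughInjectives (↑(f ⁻¹ᵁ V) : Scheme.{u}).Modules := enoughInjectives_modules _
  have : HasInjectiveResolutions (↑(f ⁻¹ᵁ V) : Scheme.{u}).Modules := inferInstance
  have : N.IsQuasicoherent := hN
  let P : X.Modules := (Scheme.Modules.pushforward (f ⁻¹ᵁ V).ι).obj N
  have hP : P.IsQuasicoherent :=
    Groth.Agent.Lib.Helper23.QCohLocal.isQuasicoherent_pushforward (f ⁻¹ᵁ V).ι N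
  let e : P.restrict (f ⁻¹ᵁ V).ι ≅ N := (Scheme.Modules.restrictFunctorAdjCounitIso (f ⁻¹ᵁ V).ι).app N
  have h1 : IsZero ((Coh.Rpush f i).obj P) :=
    (Groth.Agent.R2.H60.RelAmpleR1.isZero_Rpush_iff f P i).2 (h P i hP hi)
  have h2 : IsZero (((Coh.Rpush f i).obj P).restrict V.ι) :=
    (Scheme.Modules.restrictFunctor V.ι).map_isZero h1
  have h3 : IsZero ((Coh.Rpush (f ∣_ V) i).obj (P.restrict (f ⁻¹ᵁ V).ι)) :=
    h2.of_iso (rpushRestrictIso f V P i).symm
  have h4 : IsZero ((Coh.Rpush (f ∣_ V) i).obj N) := h3.of_iso ((Coh.Rpush (f ∣_ V) i).mapIso e).symm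
  exact (Groth.Agent.R2.H60.RelAmpleR1.isZero_Rpush_iff (f ∣_ V) N i).1 h4

/-- restriction of a cartesian square to opens of the bases -/
theorem isPullback_resLE {X' Y' X Y : Scheme.{u}} {g' : X' ⟶ X} {f' : X' ⟶ Y'} {f : X ⟶ Y} {g : Y' ⟶ Y}
    (sq : IsPullback g' f' f g) (V : Y.Opens) (V' : Y'.Opens) (hVV' : V' ≤ g ⁻¹ᵁ V)
    (hle : f' ⁻¹ᵁ V' ≤ g' ⁻¹ᵁ (f ⁻¹ᵁ V)) :
    IsPullback (g'.resLE (f ⁻¹ᵁ V) (f' ⁻¹ᵁ V') hle) (f' ∣_ V') (f ∣_ V) (g.resLE V V' hVV') := by
  have sq1 := (isPullback_morphismRestrict f' V').flip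
  have big := sq1.paste_horiz sq
  have e1 : (f' ⁻¹ᵁ V').ι ≫ g' = g'.resLE (f ⁻¹ᵁ V) (f' ⁻¹ᵁ V') hle ≫ (f ⁻¹ᵁ V).ι :=
    (Scheme.Hom.resLE_comp_ι g' hle).symm
  have e2 : V'.ι ≫ g = g.resLE V V' hVV' ≫ V.ι := (Scheme.Hom.resLE_comp_ι g hVV').symm
  rw [e1, e2] at big
  refine IsPullback.of_right big ?_ (isPullback_morphismRestrict f V).flip
  rw [← cancel_mono V.ι, Category.assoc, Category.assoc, Scheme.Hom.resLE_comp_ι, morphismRestrict_ι,
    ← Category.assoc, ← Category.assoc, Scheme.Hom.resLE_comp_ι, morphismRestrict_ι, Category.assoc,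
    Category.assoc, sq.w]

/-- **S7448**: vanishing of `R^i f_*` on quasi-coherent modules above degree `d` is stable under base change -/
theorem bcStmt : BCStmt.{u} := by
  intro X Y X' Y' f _ _ _ _ d h g f' g' sq M' i hM' hi
  have : EnoughInjectives X'.Modules := enoughInjectives_modules _
  have : HasInjectiveResolutions X'.Modules := inferInstance
  have : M'.IsQuasicoherent := hM'
  rw [← Groth.Agent.R2.H60.RelAmpleR1.isZero_Rpush_iff]
  -- local on `Y'`
  have hloc : ∀ y' : Y', ∃ V' : Y'.Opens, y' ∈ V' ∧ IsZero (((Coh.Rpush f' i).obj M').restrict V'.ι) := by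
    intro y'
    obtain ⟨V, hV, hyV, -⟩ := exists_isAffineOpen_mem_and_subset (x := g y') (U := ⊤) trivial
    obtain ⟨V', hV', hyV', hVV'⟩ :=
      exists_isAffineOpen_mem_and_subset (x := y') (U := g ⁻¹ᵁ V) hyV
    refine ⟨V', hyV', ?_⟩
    have : IsAffine (V : Scheme.{u}) := hV
    have : IsAffine (V' : Scheme.{u}) := hV'
    have : EnoughInjectives (↑(f' ⁻¹ᵁ V') : Scheme.{u}).Modules := enoughInjectives_modules _
    have : HasInjectiveResolutions (↑(f' ⁻¹ᵁ V') : Scheme.{u}).Modules := inferInstance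
    have hqc : QuasiCompact f := inferInstance
    have hqs : QuasiSeparated f := inferInstance
    -- the open immersion `f⁻¹V → X` is quasi-compact
    have hι : QuasiCompact (f ⁻¹ᵁ V).ι := by
      have hVι : QuasiCompact V.ι := inferInstance
      exact MorphismProperty.of_isPullback (isPullback_morphismRestrict f V) hVι
    have hvV : VanAbove (f ∣_ V) d := vanAbove_morphismRestrict f V d h
    have hle : f' ⁻¹ᵁ V' ≤ g' ⁻¹ᵁ (f ⁻¹ᵁ V) := by
      intro x hx
      have h1 : g (f' x) ∈ V := hVV' hx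
      have h2 : f (g' x) = g (f' x) := by
        rw [← Scheme.Hom.comp_apply, ← Scheme.Hom.comp_apply, sq.w]
      change f (g' x) ∈ V
      rw [h2]
      exact h1
    have sqV := isPullback_resLE sq V V' hVV' hle
    have hvV' : VanAbove (f' ∣_ V') d :=
      vanAbove_of_isPullback_of_isAffine (f ∣_ V) d hvV _ _ _ sqV
    have hMr : (M'.restrict (f' ⁻¹ᵁ V').ι).IsQuasicoherent := inferInstance
    have hz1 : IsZero ((Coh.Rpush (f' ∣_ V') i).obj (M'.restrict (f' ⁻¹ᵁ V').ι)) := by
      rw [Groth.Agent.R2.H60.RelAmpleR1.isZero_Rpush_iff]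
      exact hvV' _ i hMr hi
    exact hz1.of_iso (rpushRestrictIso f' V' M' i)
  choose W hyW hW using hloc
  exact Groth.Agent.Lib.Helper23.ModLocal.isZero_of_isZero_restrict (ι := Y')
    (fun y' => ((W y' : Y'.Opens) : Scheme.{u})) (fun y' => (W y').ι)
    (fun x => ⟨x, ⟨x, hyW x⟩, rfl⟩) hW

end Groth.Agent.R2.H32.FibVanD
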