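import Mathlib

/-!
# helper32: lifting a quotient isomorphism to a finite extension (for S7152)

`A' ⊆ A` finite with `f^c A ⊆ A'`; given `φ' : A'/f^n ≅ B'/g^n` (`n ≥ 2c+1`) we construct the finite
extension `B = g^{-c} J ⊆ B'_g`, `J` the ideal of `B'` corresponding to `f^c A ⊆ A'`, and the
isomorphism `A/fA ≅ B/gB`.

ns `Groth.Agent.R2.H32.FinExt`.
-/

set_option autoImplicit false
universe u

namespace Groth.Agent.R2.H32.FinExt

section Step0

variable {A' A : Type u} [CommRing A'] [CommRing A] [Algebra A' A]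

/-- If `A'_f = A_f`, `f` is a nonzerodivisor on `A` and `A` is finite over `A'`, then `f^c A ⊆ A'`
for some `c`. -/
theorem exists_pow_mul_mem [Module.Finite A' A] (f : A')
    (hf : algebraMap A' A f ∈ nonZeroDivisors A)
    (hloc : Function.Surjective (IsLocalization.Away.map (Localization.Away f)
      (Localization.Away (algebraMap A' A f)) (algebraMap A' A) f)) :
    ∃ c : ℕ, ∀ a : A, ∃ x : A', algebraMap A' A x = algebraMap A' A f ^ c * a := by
  classical
  set F := algebraMap A' A f with hF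
  -- pointwise
  have hpt : ∀ a : A, ∃ (k : ℕ) (x : A'), algebraMap A' A x = F ^ k * a := by
    intro a
    obtain ⟨w, hw⟩ := hloc (algebraMap A (Localization.Away F) a)
    obtain ⟨⟨a', s⟩, hs⟩ := IsLocalization.surj (Submonoid.powers f) w
    obtain ⟨k, hk⟩ := s.2
    refine ⟨k, a', ?_⟩
    have h1 := congrArg (IsLocalization.Away.map (Localization.Away f)
      (Localization.Away F) (algebraMap A' A) f) hs
    rw [map_mul, hw] at h1
    simp only [IsLocalization.Away.map, IsLocalization.map_eq] at h1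
    rw [← map_mul] at h1
    have hinjA : Function.Injective (algebraMap A (Localization.Away F)) :=
      IsLocalization.injective _ (Submonoid.powers_le.mpr hf)
    have h2 := hinjA h1
    rw [← h2, ← hk, map_pow]
    ring
  choose k x hx using hpt
  obtain ⟨S, hS⟩ := (Module.Finite.fg_top : (⊤ : Submodule A' A).FG)
  refine ⟨S.sup k, ?_⟩
  let N : Submodule A' A :=
    { carrier := {a | ∃ x : A', algebraMap A' A x = F ^ (S.sup k) * a}
      add_mem' := by
        rintro a b ⟨xa, ha⟩ ⟨xb, hb⟩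
        exact ⟨xa + xb, by rw [map_add, ha, hb, mul_add]⟩
      zero_mem' := ⟨0, by simp⟩
      smul_mem' := by
        rintro r a ⟨xa, ha⟩
        refine ⟨r * xa, ?_⟩
        rw [map_mul, ha, Algebra.smul_def]
        ring }
  have hSN : (S : Set A) ⊆ N := by
    intro s hs
    have hle : k s ≤ S.sup k := Finset.le_sup (f := k) hs
    refine ⟨f ^ (S.sup k - k s) * x s, ?_⟩
    rw [map_mul, hx s, map_pow, ← mul_assoc, ← pow_add, Nat.sub_add_cancel hle]
  have hN : N = ⊤ := by
    rw [eq_top_iff, ← hS]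
    exact Submodule.span_le.mpr hSN
  intro a
  have : a ∈ N := hN ▸ Submodule.mem_top
  exact this

end Step0

section Main

variable {A' A : Type u} [CommRing A'] [CommRing A] [Algebra A' A]
variable {B' : Type u} [CommRing B']
variable (f : A') (g : B') (n : ℕ)
variable (φ' : (A' ⧸ Ideal.span {f ^ n}) ≃+* (B' ⧸ Ideal.span {g ^ n}))

/-- `x : A'` and `y : B'` correspond under `φ'`. -/
def Rel (x : A') (y : B') : Prop :=
  φ' (Ideal.Quotient.mk (Ideal.span {f ^ n}) x) = Ideal.Quotient.mk (Ideal.span {g ^ n}) y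

variable {f g n φ'}

theorem Rel.add {x₁ x₂ : A'} {y₁ y₂ : B'} (h₁ : Rel f g n φ' x₁ y₁) (h₂ : Rel f g n φ' x₂ y₂) :
    Rel f g n φ' (x₁ + x₂) (y₁ + y₂) := by
  unfold Rel at *
  rw [map_add, map_add, map_add, h₁, h₂]

theorem Rel.mul {x₁ x₂ : A'} {y₁ y₂ : B'} (h₁ : Rel f g n φ' x₁ y₁) (h₂ : Rel f g n φ' x₂ y₂) :
    Rel f g n φ' (x₁ * x₂) (y₁ * y₂) := by
  unfold Rel at *
  rw [map_mul, map_mul, map_mul, h₁, h₂]

theorem Rel.one : Rel f g n φ' 1 1 := by
  unfold Rel
  rw [map_one, map_one, map_one]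

theorem Rel.pow {x : A'} {y : B'} (h : Rel f g n φ' x y) (k : ℕ) : Rel f g n φ' (x ^ k) (y ^ k) := by
  unfold Rel at *
  rw [map_pow, map_pow, map_pow, h]

theorem Rel.exists_right (x : A') : ∃ y : B', Rel f g n φ' x y := by
  obtain ⟨y, hy⟩ := Ideal.Quotient.mk_surjective (φ' (Ideal.Quotient.mk _ x))
  exact ⟨y, hy.symm⟩

theorem Rel.exists_left (y : B') : ∃ x : A', Rel f g n φ' x y := by
  obtain ⟨x, hx⟩ := Ideal.Quotient.mk_surjective (φ'.symm (Ideal.Quotient.mk _ y))
  refine ⟨x, ?_⟩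
  unfold Rel
  rw [hx, RingEquiv.apply_symm_apply]

theorem Rel.right_unique {x : A'} {y₁ y₂ : B'} (h₁ : Rel f g n φ' x y₁) (h₂ : Rel f g n φ' x y₂) :
    ∃ b : B', y₁ = y₂ + g ^ n * b := by
  unfold Rel at *
  have := h₁.symm.trans h₂
  rw [Ideal.Quotient.eq, Ideal.mem_span_singleton] at this
  obtain ⟨b, hb⟩ := this
  exact ⟨b, by rw [← hb]; ring⟩

theorem Rel.left_unique {x₁ x₂ : A'} {y : B'} (h₁ : Rel f g n φ' x₁ y) (h₂ : Rel f g n φ' x₂ y) :
    ∃ r : A', x₁ = x₂ + f ^ n * r := by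
  unfold Rel at *
  have := φ'.injective (h₁.trans h₂.symm)
  rw [Ideal.Quotient.eq, Ideal.mem_span_singleton] at this
  obtain ⟨r, hr⟩ := this
  exact ⟨r, by rw [← hr]; ring⟩

theorem Rel.right_of_eq {x : A'} {y₁ y₂ : B'} (h₁ : Rel f g n φ' x y₁) (b : B')
    (h : y₂ = y₁ + g ^ n * b) : Rel f g n φ' x y₂ := by
  unfold Rel at *
  rw [h₁, h, map_add, map_mul]
  have : Ideal.Quotient.mk (Ideal.span {g ^ n}) (g ^ n) = 0 :=
    Ideal.Quotient.eq_zero_iff_mem.mpr (Ideal.mem_span_singleton_self _)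
  rw [this, zero_mul, add_zero]

theorem Rel.left_of_eq {x₁ x₂ : A'} {y : B'} (h₁ : Rel f g n φ' x₁ y) (r : A')
    (h : x₂ = x₁ + f ^ n * r) : Rel f g n φ' x₂ y := by
  unfold Rel at *
  rw [← h₁, h, map_add, map_mul]
  have : Ideal.Quotient.mk (Ideal.span {f ^ n}) (f ^ n) = 0 :=
    Ideal.Quotient.eq_zero_iff_mem.mpr (Ideal.mem_span_singleton_self _)
  rw [this, zero_mul, add_zero]


variable (A) (f g n φ') in
/-- The standing hypotheses. -/
structure Hyp (c : ℕ) : Prop where
  hinj : Function.Injective (algebraMap A' A)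
  hc : ∀ a : A, ∃ x : A', algebraMap A' A x = algebraMap A' A f ^ c * a
  hfg : Rel f g n φ' f g
  hn : 2 * c + 1 ≤ n
  hg : g ∈ nonZeroDivisors B'
  hf : algebraMap A' A f ∈ nonZeroDivisors A

variable (A) (f) in
/-- The ideal `f^c A ∩ A'` of `A'`. -/
def InI (c : ℕ) (x : A') : Prop := ∃ a : A, algebraMap A' A x = algebraMap A' A f ^ c * a

variable (A) (f g n φ') in
/-- The corresponding ideal of `B'`. -/
def InJ (c : ℕ) (y : B') : Prop := ∃ x : A', InI A f c x ∧ Rel f g n φ' x y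

variable {c : ℕ}

theorem InI.add {x₁ x₂ : A'} (h₁ : InI A f c x₁) (h₂ : InI A f c x₂) : InI A f c (x₁ + x₂) := by
  obtain ⟨a₁, h₁⟩ := h₁
  obtain ⟨a₂, h₂⟩ := h₂
  exact ⟨a₁ + a₂, by rw [map_add, h₁, h₂, mul_add]⟩

theorem InI.mul_left {x : A'} (h : InI A f c x) (r : A') : InI A f c (r * x) := by
  obtain ⟨a, h⟩ := h
  exact ⟨algebraMap A' A r * a, by rw [map_mul, h]; ring⟩

theorem InI.pow {k : ℕ} (hk : c ≤ k) : InI A f c (f ^ k) :=
  ⟨algebraMap A' A f ^ (k - c), by rw [map_pow, ← pow_add, Nat.add_sub_cancel' hk]⟩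

theorem InJ.add {y₁ y₂ : B'} (h₁ : InJ A f g n φ' c y₁) (h₂ : InJ A f g n φ' c y₂) :
    InJ A f g n φ' c (y₁ + y₂) := by
  obtain ⟨x₁, hx₁, hr₁⟩ := h₁
  obtain ⟨x₂, hx₂, hr₂⟩ := h₂
  exact ⟨x₁ + x₂, hx₁.add hx₂, hr₁.add hr₂⟩

theorem InJ.mul_left {y : B'} (h : InJ A f g n φ' c y) (b : B') : InJ A f g n φ' c (b * y) := by
  obtain ⟨x, hx, hr⟩ := h
  obtain ⟨r, hrb⟩ := Rel.exists_left (f := f) (g := g) (n := n) (φ' := φ') b
  exact ⟨r * x, hx.mul_left r, hrb.mul hr⟩

theorem InJ.pow (H : Hyp A f g n φ' c) {k : ℕ} (hk : c ≤ k) : InJ A f g n φ' c (g ^ k) :=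
  ⟨f ^ k, InI.pow hk, H.hfg.pow k⟩

theorem InJ.of_eq (H : Hyp A f g n φ' c) {y y₂ : B'} (h : InJ A f g n φ' c y) (b : B')
    (e : y₂ = y + g ^ n * b) : InJ A f g n φ' c y₂ := by
  obtain ⟨x, hx, hr⟩ := h
  exact ⟨x, hx, hr.right_of_eq b e⟩

/-- Key multiplicativity: `J · J ⊆ g^c J`. -/
theorem InJ.mul (H : Hyp A f g n φ' c) {y₁ y₂ : B'} (h₁ : InJ A f g n φ' c y₁)
    (h₂ : InJ A f g n φ' c y₂) : ∃ y₃ : B', InJ A f g n φ' c y₃ ∧ y₁ * y₂ = g ^ c * y₃ := by
  obtain ⟨x₁, ⟨a₁, ha₁⟩, hr₁⟩ := h₁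
  obtain ⟨x₂, ⟨a₂, ha₂⟩, hr₂⟩ := h₂
  obtain ⟨x₃, hx₃⟩ := H.hc (a₁ * a₂)
  have hx₃I : InI A f c x₃ := ⟨a₁ * a₂, hx₃⟩
  have hprod : x₁ * x₂ = f ^ c * x₃ := by
    apply H.hinj
    rw [map_mul, map_mul, ha₁, ha₂, hx₃, map_pow]; ring
  obtain ⟨y₃', hy₃'⟩ := Rel.exists_right (f := f) (g := g) (n := n) (φ' := φ') x₃
  have hrel1 : Rel f g n φ' (x₁ * x₂) (y₁ * y₂) := hr₁.mul hr₂
  have hrel2 : Rel f g n φ' (x₁ * x₂) (g ^ c * y₃') := by
    rw [hprod]; exact (H.hfg.pow c).mul hy₃'
  obtain ⟨b, hb⟩ := hrel1.right_unique hrel2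
  have hnc : n = c + (n - c) := by have := H.hn; omega
  have hnc' : c ≤ n - c := by have := H.hn; omega
  refine ⟨y₃' + g ^ (n - c) * b, ?_, ?_⟩
  · exact InJ.add ⟨x₃, hx₃I, hy₃'⟩ (by
      have := (InJ.pow H hnc').mul_left b
      rwa [mul_comm] at this)
  · rw [hb, mul_add, ← mul_assoc, ← pow_add, ← hnc]


/-- Units: `g` is invertible in the localization. -/
theorem isUnit_g : IsUnit (algebraMap B' (Localization.Away g) g) :=
  IsLocalization.Away.algebraMap_isUnit g

theorem injective_ι (H : Hyp A f g n φ' c) :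
    Function.Injective (algebraMap B' (Localization.Away g)) :=
  IsLocalization.injective _ (Submonoid.powers_le.mpr H.hg)

variable (A f g n φ' c) in
/-- The carrier of the extension `B = g^{-c} J ⊆ B'_g`. -/
def InB (z : Localization.Away g) : Prop :=
  ∃ y : B', InJ A f g n φ' c y ∧
    z * algebraMap B' (Localization.Away g) g ^ c = algebraMap B' (Localization.Away g) y

variable (A f g n φ') in
/-- The finite extension `B ⊇ B'`. -/
def Bsub (H : Hyp A f g n φ' c) : Subalgebra B' (Localization.Away g) where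
  carrier := {z | InB A f g n φ' c z}
  mul_mem' := by
    rintro z₁ z₂ ⟨y₁, hy₁, e₁⟩ ⟨y₂, hy₂, e₂⟩
    obtain ⟨y₃, hy₃, e₃⟩ := InJ.mul H hy₁ hy₂
    refine ⟨y₃, hy₃, ?_⟩
    have hu : IsUnit (algebraMap B' (Localization.Away g) g ^ c) := (isUnit_g (g := g)).pow c
    apply hu.mul_left_injective
    show z₁ * z₂ * _ * _ = _ * _
    have : algebraMap B' (Localization.Away g) (y₁ * y₂) =
        algebraMap B' (Localization.Away g) (g ^ c * y₃) := by rw [e₃]
    rw [map_mul, map_mul, map_pow, ← e₁, ← e₂] at this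
    rw [mul_comm (algebraMap B' (Localization.Away g) y₃), ← this]
    ring
  add_mem' := by
    rintro z₁ z₂ ⟨y₁, hy₁, e₁⟩ ⟨y₂, hy₂, e₂⟩
    exact ⟨y₁ + y₂, hy₁.add hy₂, by rw [add_mul, e₁, e₂, map_add]⟩
  algebraMap_mem' := by
    intro b
    refine ⟨b * g ^ c, (InJ.pow H le_rfl).mul_left b, ?_⟩
    rw [map_mul, map_pow]


variable (g c) in
/-- `ι y / g^c`. -/
noncomputable def zOf (y : B') : Localization.Away g :=
  algebraMap B' (Localization.Away g) y * IsLocalization.Away.invSelf (S := Localization.Away g) g ^ c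

theorem zOf_spec (y : B') :
    zOf g c y * algebraMap B' (Localization.Away g) g ^ c = algebraMap B' (Localization.Away g) y := by
  unfold zOf
  rw [mul_assoc, ← mul_pow, mul_comm (IsLocalization.Away.invSelf g),
    IsLocalization.Away.mul_invSelf, one_pow, mul_one]

theorem zOf_inB {y : B'} (hy : InJ A f g n φ' c y) : InB A f g n φ' c (zOf g c y) :=
  ⟨y, hy, zOf_spec y⟩

/-- Two elements of `B'_g` whose numerators correspond to the same `x` differ by a multiple of
`g^(n-c)`. -/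
theorem exists_eq_add (H : Hyp A f g n φ' c) {x : A'} {y y' : B'} {z z' : Localization.Away g}
    (hr : Rel f g n φ' x y) (hr' : Rel f g n φ' x y')
    (hz : z * algebraMap B' (Localization.Away g) g ^ c = algebraMap B' (Localization.Away g) y)
    (hz' : z' * algebraMap B' (Localization.Away g) g ^ c = algebraMap B' (Localization.Away g) y') :
    ∃ b : B', z = z' + algebraMap B' (Localization.Away g) (g ^ (n - c) * b) := by
  obtain ⟨b, hb⟩ := hr.right_unique hr'
  refine ⟨b, ?_⟩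
  have hu : IsUnit (algebraMap B' (Localization.Away g) g ^ c) := (isUnit_g (g := g)).pow c
  apply hu.mul_left_injective
  show z * _ = (z' + _) * _
  have hnc : n = (n - c) + c := by have := H.hn; omega
  rw [add_mul, hz, hz', hb, map_add, map_mul, map_mul, map_pow, map_pow]
  conv_lhs => rw [hnc, pow_add]
  ring


theorem injective_algebraMap_Bsub (H : Hyp A f g n φ' c) :
    Function.Injective (algebraMap B' (Bsub A f g n φ' H)) := by
  intro b₁ b₂ h
  apply injective_ι H
  exact congrArg Subtype.val h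

theorem finite_Bsub [Module.Finite A' A] (H : Hyp A f g n φ' c) :
    Module.Finite B' (Bsub A f g n φ' H) := by
  classical
  obtain ⟨S, hS⟩ := (Module.Finite.fg_top : (⊤ : Submodule A' A).FG)
  choose xs hxs using H.hc
  choose ys hys using fun x : A' => Rel.exists_right (f := f) (g := g) (n := n) (φ' := φ') x
  let ι := algebraMap B' (Localization.Away g)
  let T : Set (Localization.Away g) :=
    (fun s => zOf g c (ys (xs s))) '' (S : Set A) ∪ {ι (g ^ (n - c))}
  have hT : T.Finite := (S.finite_toSet.image _).union (Set.finite_singleton _)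
  have hgen : ι (g ^ (n - c)) ∈ Submodule.span B' T :=
    Submodule.subset_span (Or.inr rfl)
  have hadd : ∀ (z z' : Localization.Away g) (b : B'), z = z' + ι (g ^ (n - c) * b) →
      z' ∈ Submodule.span B' T → z ∈ Submodule.span B' T := by
    intro z z' b e hz'
    rw [e]
    refine Submodule.add_mem _ hz' ?_
    have : ι (g ^ (n - c) * b) = b • ι (g ^ (n - c)) := by
      rw [Algebra.smul_def, mul_comm, map_mul]
    rw [this]
    exact Submodule.smul_mem _ _ hgen
  have key : ∀ a : A, ∀ (x : A') (y : B') (z : Localization.Away g),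
      algebraMap A' A x = algebraMap A' A f ^ c * a → Rel f g n φ' x y →
      z * ι g ^ c = ι y → z ∈ Submodule.span B' T := by
    intro a
    have ha : a ∈ Submodule.span A' (S : Set A) := hS ▸ Submodule.mem_top
    induction ha using Submodule.span_induction with
    | mem s hs =>
      intro x y z hx hr hz
      have hxe : x = xs s := H.hinj (hx.trans (hxs s).symm)
      subst hxe
      obtain ⟨b, hb⟩ := exists_eq_add H hr (hys (xs s)) hz (zOf_spec (ys (xs s)))
      exact hadd _ _ b hb (Submodule.subset_span (Or.inl ⟨s, hs, rfl⟩))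
    | zero =>
      intro x y z hx hr hz
      have hxe : x = 0 := H.hinj (by rw [hx, mul_zero, map_zero])
      subst hxe
      have h0 : Rel f g n φ' (0 : A') (0 : B') := by
        unfold Rel; rw [map_zero, map_zero, map_zero]
      obtain ⟨b, hb⟩ := exists_eq_add H hr h0 hz
        (show (0 : Localization.Away g) * ι g ^ c = ι 0 by rw [zero_mul, map_zero])
      exact hadd _ _ b hb (Submodule.zero_mem _)
    | add a₁ a₂ _ _ ih₁ ih₂ =>
      intro x y z hx hr hz
      have hxe : x = xs a₁ + xs a₂ := H.hinj (by rw [hx, map_add, hxs, hxs, mul_add])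
      subst hxe
      have h12 : Rel f g n φ' (xs a₁ + xs a₂) (ys (xs a₁) + ys (xs a₂)) :=
        (hys _).add (hys _)
      obtain ⟨b, hb⟩ := exists_eq_add H hr h12 hz
        (show (zOf g c (ys (xs a₁)) + zOf g c (ys (xs a₂))) * ι g ^ c = ι (ys (xs a₁) + ys (xs a₂)) by
          rw [add_mul, zOf_spec, zOf_spec, map_add])
      refine hadd _ _ b hb (Submodule.add_mem _ ?_ ?_)
      · exact ih₁ _ _ _ (hxs a₁) (hys _) (zOf_spec _)
      · exact ih₂ _ _ _ (hxs a₂) (hys _) (zOf_spec _)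
    | smul r a₁ _ ih =>
      intro x y z hx hr hz
      have hxe : x = r * xs a₁ := H.hinj (by
        rw [hx, map_mul, hxs, Algebra.smul_def]; ring)
      subst hxe
      have h12 : Rel f g n φ' (r * xs a₁) (ys r * ys (xs a₁)) := (hys r).mul (hys _)
      obtain ⟨b, hb⟩ := exists_eq_add H hr h12 hz
        (show (ys r • zOf g c (ys (xs a₁))) * ι g ^ c = ι (ys r * ys (xs a₁)) by
          rw [smul_mul_assoc, zOf_spec, Algebra.smul_def, map_mul])
      refine hadd _ _ b hb (Submodule.smul_mem _ _ ?_)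
      exact ih _ _ _ (hxs a₁) (hys _) (zOf_spec _)
  show Module.Finite B' (Subalgebra.toSubmodule (Bsub A f g n φ' H))
  rw [Module.Finite.iff_fg, Submodule.fg_def]
  refine ⟨T, hT, le_antisymm (Submodule.span_le.mpr ?_) ?_⟩
  · rintro z (⟨s, -, rfl⟩ | rfl)
    · exact zOf_inB ⟨xs s, ⟨s, hxs s⟩, hys _⟩
    · exact (Bsub A f g n φ' H).algebraMap_mem _
  · rintro z ⟨y, ⟨x, ⟨a, hxa⟩, hr⟩, hz⟩
    exact key a x y z hxa hr hz


section Phi

variable (H : Hyp A f g n φ' c)

/-- The quotient `B / gB`. -/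
abbrev Bq : Type u :=
  (Bsub A f g n φ' H) ⧸ Ideal.span {algebraMap B' (Bsub A f g n φ' H) g}

theorem mk_eq_mk_of_eq_add {z z' : Bsub A f g n φ' H} (b : B') {k : ℕ} (hk : 1 ≤ k)
    (e : z.1 = z'.1 + algebraMap B' (Localization.Away g) (g ^ k * b)) :
    (Ideal.Quotient.mk (Ideal.span {algebraMap B' (Bsub A f g n φ' H) g}) z) =
      Ideal.Quotient.mk _ z' := by
  rw [Ideal.Quotient.eq, Ideal.mem_span_singleton]
  refine ⟨algebraMap B' (Bsub A f g n φ' H) (g ^ (k - 1) * b), ?_⟩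
  apply Subtype.ext
  show z.1 - z'.1 = algebraMap B' (Localization.Away g) g *
    algebraMap B' (Localization.Away g) (g ^ (k - 1) * b)
  rw [e, ← map_mul, ← mul_assoc, ← pow_succ', Nat.sub_add_cancel hk]
  ring

noncomputable def xOf (a : A) : A' := Classical.choose (H.hc a)

theorem xOf_spec (a : A) : algebraMap A' A (xOf H a) = algebraMap A' A f ^ c * a :=
  Classical.choose_spec (H.hc a)

noncomputable def yOf (a : A) : B' :=
  Classical.choose (Rel.exists_right (f := f) (g := g) (n := n) (φ' := φ') (xOf H a))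

theorem yOf_spec (a : A) : Rel f g n φ' (xOf H a) (yOf H a) :=
  Classical.choose_spec (Rel.exists_right (f := f) (g := g) (n := n) (φ' := φ') (xOf H a))

theorem yOf_inJ (a : A) : InJ A f g n φ' c (yOf H a) :=
  ⟨xOf H a, ⟨a, xOf_spec H a⟩, yOf_spec H a⟩

/-- The chosen representative of the image of `a` in `B`. -/
noncomputable def zB (a : A) : Bsub A f g n φ' H := ⟨zOf g c (yOf H a), zOf_inB (yOf_inJ H a)⟩

noncomputable def Φfun (a : A) : Bq H := Ideal.Quotient.mk _ (zB H a)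

theorem Φfun_eq (a : A) (x : A') (y : B') (z : Bsub A f g n φ' H)
    (hx : algebraMap A' A x = algebraMap A' A f ^ c * a) (hr : Rel f g n φ' x y)
    (hz : z.1 * algebraMap B' (Localization.Away g) g ^ c = algebraMap B' (Localization.Away g) y) :
    Ideal.Quotient.mk _ z = Φfun H a := by
  have hxe : x = xOf H a := H.hinj (hx.trans (xOf_spec H a).symm)
  subst hxe
  obtain ⟨b, hb⟩ := exists_eq_add H hr (yOf_spec H a) hz (zOf_spec (yOf H a))
  have hk : 1 ≤ n - c := by have := H.hn; omega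
  exact mk_eq_mk_of_eq_add H b hk hb

/-- The ring homomorphism `A → B/gB`. -/
noncomputable def Φ : A →+* Bq H where
  toFun := Φfun H
  map_one' := by
    symm
    refine Φfun_eq H 1 (f ^ c) (g ^ c) 1 (by rw [map_pow, mul_one]) (H.hfg.pow c) ?_
    show (1 : Localization.Away g) * _ = _
    rw [one_mul, map_pow]
  map_zero' := by
    symm
    have h0 : Rel f g n φ' (0 : A') (0 : B') := by
      unfold Rel; rw [map_zero, map_zero, map_zero]
    refine Φfun_eq H 0 0 0 0 (by rw [map_zero, mul_zero]) h0 ?_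
    show (0 : Localization.Away g) * _ = _
    rw [zero_mul, map_zero]
  map_add' := by
    intro a₁ a₂
    symm
    refine Φfun_eq H (a₁ + a₂) (xOf H a₁ + xOf H a₂) (yOf H a₁ + yOf H a₂) (zB H a₁ + zB H a₂)
      (by rw [map_add, xOf_spec, xOf_spec, mul_add]) ((yOf_spec H a₁).add (yOf_spec H a₂)) ?_
    show (zOf g c (yOf H a₁) + zOf g c (yOf H a₂)) * _ = _
    rw [add_mul, zOf_spec, zOf_spec, map_add]
  map_mul' := by
    intro a₁ a₂
    show Ideal.Quotient.mk _ (zB H (a₁ * a₂)) = Ideal.Quotient.mk _ (zB H a₁ * zB H a₂)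
    symm
    have hprod : xOf H a₁ * xOf H a₂ = f ^ c * xOf H (a₁ * a₂) := by
      apply H.hinj
      rw [map_mul, map_mul, xOf_spec, xOf_spec, xOf_spec, map_pow]; ring
    have hrel1 : Rel f g n φ' (xOf H a₁ * xOf H a₂) (yOf H a₁ * yOf H a₂) :=
      (yOf_spec H a₁).mul (yOf_spec H a₂)
    have hrel2 : Rel f g n φ' (xOf H a₁ * xOf H a₂) (g ^ c * yOf H (a₁ * a₂)) := by
      rw [hprod]; exact (H.hfg.pow c).mul (yOf_spec H _)
    obtain ⟨b, hb⟩ := hrel1.right_unique hrel2
    have hk : 1 ≤ n - 2 * c := by have := H.hn; omega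
    refine mk_eq_mk_of_eq_add H b hk ?_
    show zOf g c (yOf H a₁) * zOf g c (yOf H a₂) = zOf g c (yOf H (a₁ * a₂)) + _
    have hu : IsUnit (algebraMap B' (Localization.Away g) g ^ c) := (isUnit_g (g := g)).pow c
    apply hu.mul_left_injective
    apply hu.mul_left_injective
    show zOf g c (yOf H a₁) * zOf g c (yOf H a₂) * _ * _ = (zOf g c (yOf H (a₁ * a₂)) + _) * _ * _
    have e1 : zOf g c (yOf H a₁) * zOf g c (yOf H a₂) *
        algebraMap B' (Localization.Away g) g ^ c * algebraMap B' (Localization.Away g) g ^ c =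
        algebraMap B' (Localization.Away g) (yOf H a₁ * yOf H a₂) := by
      rw [map_mul, ← zOf_spec (g := g) (c := c) (yOf H a₁), ← zOf_spec (g := g) (c := c) (yOf H a₂)]
      ring
    have hpow : g ^ n = g ^ (n - 2 * c) * g ^ c * g ^ c := by
      rw [← pow_add, ← pow_add]
      congr 1
      have := H.hn; omega
    rw [e1, hb, hpow, add_mul, add_mul, zOf_spec, map_add, map_mul, map_mul, map_mul, map_mul,
      map_mul, map_pow, map_pow]
    ring

theorem Φ_apply (a : A) : Φ H a = Φfun H a := rfl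

/-- Compatibility of `Φ` with `φ'`. -/
theorem Φ_algebraMap {a' : A'} {b' : B'} (h : Rel f g n φ' a' b') :
    Φ H (algebraMap A' A a') = Ideal.Quotient.mk _ (algebraMap B' (Bsub A f g n φ' H) b') := by
  symm
  refine Φfun_eq H _ (f ^ c * a') (g ^ c * b') _ (by rw [map_mul, map_pow]) ((H.hfg.pow c).mul h) ?_
  show algebraMap B' (Localization.Away g) b' * _ = _
  rw [map_mul, map_pow, mul_comm]

theorem Φ_surjective : Function.Surjective (Φ H) := by
  intro q
  obtain ⟨z, rfl⟩ := Ideal.Quotient.mk_surjective q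
  obtain ⟨y, ⟨x, ⟨a, hxa⟩, hr⟩, hz⟩ := z.2
  exact ⟨a, (Φfun_eq H a x y z hxa hr hz).symm⟩

theorem Φ_eq_zero_iff (a : A) : Φ H a = 0 ↔ a ∈ Ideal.span {algebraMap A' A f} := by
  constructor
  · intro h
    have h' : Ideal.Quotient.mk (Ideal.span {algebraMap B' (Bsub A f g n φ' H) g}) (zB H a) = 0 := h
    rw [Ideal.Quotient.eq_zero_iff_mem, Ideal.mem_span_singleton] at h'
    obtain ⟨z', hz'⟩ := h'
    obtain ⟨y', ⟨x', ⟨a', hxa'⟩, hr'⟩, hzy'⟩ := z'.2
    have hz1 : zOf g c (yOf H a) = algebraMap B' (Localization.Away g) g * z'.1 :=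
      congrArg Subtype.val hz'
    have hy : yOf H a = g * y' := by
      apply injective_ι H
      rw [← zOf_spec (g := g) (c := c) (yOf H a), hz1, map_mul, ← hzy']
      ring
    have hrel : Rel f g n φ' (f * x') (yOf H a) := by
      rw [hy]; exact H.hfg.mul hr'
    obtain ⟨r, hr⟩ := (yOf_spec H a).left_unique hrel
    have hpow : f ^ n = f ^ c * f * f ^ (n - c - 1) := by
      rw [← pow_succ, ← pow_add]
      congr 1
      have := H.hn; omega
    have hFc : algebraMap A' A f ^ c ∈ nonZeroDivisors A := pow_mem H.hf c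
    rw [Ideal.mem_span_singleton]
    refine ⟨a' + algebraMap A' A f ^ (n - c - 1) * algebraMap A' A r, ?_⟩
    apply (mul_cancel_left_mem_nonZeroDivisors hFc).mp
    rw [← xOf_spec H a, hr, hpow, map_add, map_mul, map_mul, map_mul, map_mul, hxa', map_pow,
      map_pow]
    ring
  · intro h
    rw [Ideal.mem_span_singleton] at h
    obtain ⟨a₁, rfl⟩ := h
    rw [map_mul, Φ_algebraMap H H.hfg]
    have : Ideal.Quotient.mk (Ideal.span {algebraMap B' (Bsub A f g n φ' H) g})
        (algebraMap B' (Bsub A f g n φ' H) g) = 0 :=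
      Ideal.Quotient.eq_zero_iff_mem.mpr (Ideal.mem_span_singleton_self _)
    rw [this, zero_mul]

/-- The isomorphism `A/fA ≅ B/gB`. -/
noncomputable def φiso : (A ⧸ Ideal.span {algebraMap A' A f}) ≃+* Bq H :=
  RingEquiv.ofBijective
    (Ideal.Quotient.lift (Ideal.span {algebraMap A' A f}) (Φ H)
      (fun a ha => (Φ_eq_zero_iff H a).mpr ha))
    ⟨by
      rw [injective_iff_map_eq_zero]
      intro q hq
      obtain ⟨a, rfl⟩ := Ideal.Quotient.mk_surjective q
      rw [Ideal.Quotient.lift_mk] at hq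
      exact Ideal.Quotient.eq_zero_iff_mem.mpr ((Φ_eq_zero_iff H a).mp hq),
    by
      intro q
      obtain ⟨a, rfl⟩ := Φ_surjective H q
      exact ⟨Ideal.Quotient.mk _ a, Ideal.Quotient.lift_mk _ _ _⟩⟩

theorem φiso_mk (a : A) : φiso H (Ideal.Quotient.mk _ a) = Φ H a := rfl

end Phi

end Main

end Groth.Agent.R2.H32.FinExt
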