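import Mathlib
import Groth.Prelude.Def_Red2
import Groth.Agent.Lib.Helper27GaGm

/-!
# Points of diagonalisable groups `D_S(M)` (helper55)

For `x : X ⟶ Red.DS S M` and `m : M`, `dsFn x m : Γ(X.left, ⊤)` is the value of the character `m`
at the point `x`.  The map `x ↦ dsFn x` identifies `Hom_S(X, D_S(M))` with monoid homomorphisms
`Multiplicative M →* Γ(X)`.
-/

set_option autoImplicit false
universe u

open CategoryTheory MonoidalCategory CartesianMonoidalCategory MonObj GrpObj AlgebraicGeometry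
  CategoryTheory.Limits

namespace Groth.Agent.R2.H55.DSPts

open Groth.Agent.Lib.Helper27.GaGm

variable {S : Scheme.{u}} {M N : Type} [AddCommGroup M] [AddCommGroup N]

/-- the underlying morphism to `Spec ℤ[M]` of a point of `D_S(M)`. -/
noncomputable def dsPt {X : Over S} (x : X ⟶ Red.DS S M) :
    X.left ⟶ Spec (CommRingCat.of (MonoidAlgebra (ULift.{u} ℤ) (Multiplicative M))) :=
  x.left ≫ pullback.fst _ _

/-- the value of the character `m` at the point `x`. -/
noncomputable def dsFn {X : Over S} (x : X ⟶ Red.DS S M) (m : M) : Γ(X.left, ⊤) :=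
  fn (dsPt x) (MonoidAlgebra.single (Multiplicative.ofAdd m) 1)

lemma dsFn_eq_fn {X : Over S} (x : X ⟶ Red.DS S M) (m : M) :
    dsFn x m = fn (adjEquiv (Limits.IsTerminal.from specULiftZIsTerminal S)
      (Red.diag (ULift.{u} ℤ) M) X x).left
      (MonoidAlgebra.single (Multiplicative.ofAdd m) 1) := rfl

theorem dsFn_mul {X : Over S} (x y : X ⟶ Red.DS S M) (m : M) :
    dsFn (x * y) m = dsFn x m * dsFn y m := by
  rw [dsFn_eq_fn, dsFn_eq_fn, dsFn_eq_fn, adjEquiv_mul]
  refine fn_mul_left_of_grouplike _ _ _ ?_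
  simp

theorem dsFn_add {X : Over S} (x : X ⟶ Red.DS S M) (m m' : M) :
    dsFn x (m + m') = dsFn x m * dsFn x m' := by
  unfold dsFn
  rw [fn_eq, fn_eq, fn_eq, ← map_mul, MonoidAlgebra.single_mul_single, ofAdd_add, _root_.mul_one]

theorem dsFn_zero {X : Over S} (x : X ⟶ Red.DS S M) : dsFn x 0 = 1 := by
  unfold dsFn
  rw [fn_eq, ofAdd_zero, ← MonoidAlgebra.one_def, map_one]

theorem dsFn_comp {X X' : Over S} (g : X' ⟶ X) (x : X ⟶ Red.DS S M) (m : M) :
    dsFn (g ≫ x) m = g.left.appTop (dsFn x m) := by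
  unfold dsFn dsPt
  rw [Over.comp_left, Category.assoc, fn_comp]

theorem gmFn_eq_dsFn {X : Over S} (x : X ⟶ Red.Gm S) : Red.gmFn x = dsFn x (1 : ℤ) := rfl

/-- the monoid hom `Multiplicative M →* Γ(X)` of a point. -/
noncomputable def dsHom {X : Over S} (x : X ⟶ Red.DS S M) : Multiplicative M →* Γ(X.left, ⊤) where
  toFun m := dsFn x (Multiplicative.toAdd m)
  map_one' := dsFn_zero x
  map_mul' _ _ := dsFn_add x _ _

lemma monalg_ringHom_ext' {B : Type*} [CommRing B]
    (φ ψ : MonoidAlgebra (ULift.{u} ℤ) (Multiplicative M) →+* B)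
    (h : ∀ m : M, φ (MonoidAlgebra.single (Multiplicative.ofAdd m) 1) =
      ψ (MonoidAlgebra.single (Multiplicative.ofAdd m) 1)) : φ = ψ := by
  apply MonoidAlgebra.ringHom_ext'
  · exact ulift_int_ringHom_ext _ _
  · apply MonoidHom.ext
    intro g
    exact h (Multiplicative.toAdd g)

theorem dsFn_injective {X : Over S} (x y : X ⟶ Red.DS S M) (h : ∀ m, dsFn x m = dsFn y m) :
    x = y := by
  have h2 : dsPt x = dsPt y := by
    apply fn_ext
    intro a
    exact congrArg (fun k : _ →+* _ => k a)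
      (monalg_ringHom_ext' (fnHom (dsPt x)) (fnHom (dsPt y)) h)
  apply (adjEquiv (Limits.IsTerminal.from specULiftZIsTerminal S)
    (Red.diag (ULift.{u} ℤ) M) X).injective
  apply Over.OverMorphism.ext
  exact h2

lemma monalg_ringHom_exists' {B : Type u} [CommRing B] (φ : Multiplicative M →* B) :
    ∃ ψ : MonoidAlgebra (ULift.{u} ℤ) (Multiplicative M) →+* B,
      ∀ m : M, ψ (MonoidAlgebra.single (Multiplicative.ofAdd m) 1) = φ (Multiplicative.ofAdd m) := by
  let _ : Algebra (ULift.{u} ℤ) B := ULift.algebra' ℤ B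
  refine ⟨(MonoidAlgebra.lift (ULift.{u} ℤ) B (Multiplicative M) φ).toRingHom, fun m => ?_⟩
  simp only [AlgHom.toRingHom_eq_coe, RingHom.coe_coe, MonoidAlgebra.lift_single]
  rw [Algebra.smul_def, ULift.algebraMap_apply']
  simp

theorem dsFn_surjective {X : Over S} (φ : Multiplicative M →* Γ(X.left, ⊤)) :
    ∃ x : X ⟶ Red.DS S M, ∀ m, dsFn x m = φ (Multiplicative.ofAdd m) := by
  obtain ⟨ψ, hψ⟩ := monalg_ringHom_exists'.{u} φ
  obtain ⟨y', hy'⟩ := fn_surj ψ
  refine ⟨(adjEquiv (Limits.IsTerminal.from specULiftZIsTerminal S)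
    (Red.diag (ULift.{u} ℤ) M) X).symm
    (Over.homMk y' (specULiftZIsTerminal.hom_ext _ _)), fun m => ?_⟩
  rw [dsFn_eq_fn, Equiv.apply_symm_apply]
  exact (hy' _).trans (hψ m)

lemma dsPt_DSmap {X : Over S} (φ : M →+ N) (x : X ⟶ Red.DS S N) :
    dsPt (x ≫ Red.DSmap S φ) = dsPt x ≫ Spec.map (CommRingCat.ofHom
      (MonoidAlgebra.mapDomainAlgHom (ULift.{u} ℤ) (ULift.{u} ℤ)
        (AddMonoidHom.toMultiplicative φ)).toRingHom) := by
  unfold dsPt
  rw [Over.comp_left, Category.assoc, Category.assoc]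
  congr 1
  simp only [Red.DSmap, Over.pullback_map_left]
  exact pullback.lift_fst _ _ _

theorem dsFn_DSmap {X : Over S} (φ : M →+ N) (x : X ⟶ Red.DS S N) (m : M) :
    dsFn (x ≫ Red.DSmap S φ) m = dsFn x (φ m) := by
  unfold dsFn
  rw [dsPt_DSmap, fn_specMap]
  congr 1
  simp

theorem dsFn_one {X : Over S} (m : M) : dsFn (1 : X ⟶ Red.DS S M) m = 1 := by
  have h := dsFn_mul (1 : X ⟶ Red.DS S M) 1 m
  have h11 : (1 : X ⟶ Red.DS S M) * 1 = 1 := _root_.mul_one (1 : X ⟶ Red.DS S M)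
  rw [h11] at h
  have hu : IsUnit (dsFn (1 : X ⟶ Red.DS S M) m) := by
    refine IsUnit.of_mul_eq_one (dsFn (1 : X ⟶ Red.DS S M) (-m)) ?_
    rw [← dsFn_add, add_neg_cancel, dsFn_zero]
  exact hu.mul_left_cancel (by rw [← h, _root_.mul_one])

theorem dsFn_isUnit {X : Over S} (x : X ⟶ Red.DS S M) (m : M) : IsUnit (dsFn x m) := by
  refine IsUnit.of_mul_eq_one (dsFn x (-m)) ?_
  rw [← dsFn_add, add_neg_cancel, dsFn_zero]

end Groth.Agent.R2.H55.DSPts
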