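import Groth.Agent.R2.H97MTQ2Spec

/-!
# PROJ:mt-quot phase 2, PKG-F (helper74)

Faithfulness of base change along a generalised fpqc covering followed by a Zariski covering:
two morphisms `a b : X ⟶ Y` of `Over S` which agree after base change along `U.ι ≫ f` for opens
`U` covering `S'` (with `f : S' ⟶ S` flat and surjective) are equal.

Route (direct, no equaliser needed): `pullback.fst X.hom f : X ×_S S' ⟶ X` is flat and surjective,
hence an epimorphism of schemes (`Flat.epi_of_flat_of_surjective`); and
`pullback.fst X.hom f ≫ a.left = pullback.fst X.hom f ≫ b.left` is checked Zariski-locally on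
`X ×_S S'` (`Scheme.hom_ext_of_forall`) on the preimages of the opens `U`.
-/

set_option autoImplicit false
set_option linter.style.haveILetI false

universe u

open CategoryTheory Limits AlgebraicGeometry

namespace Groth.Agent.R2.H74.MTQ2F

open Groth.Agent.R2.H97.MTSpec Groth.Agent.R2.H97.MTQ2Spec

/-- If `a`, `b` agree after base change along `g`, then they agree after composing with the
projection `X ×_S T ⟶ X`. -/
theorem fst_comp_eq_of_pullback_map_eq {S T : Scheme.{u}} (g : T ⟶ S) {X Y : Over S} (a b : X ⟶ Y)
    (h : (Over.pullback g).map a = (Over.pullback g).map b) :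
    pullback.fst X.hom g ≫ a.left = pullback.fst X.hom g ≫ b.left := by
  have ha : ((Over.pullback g).map a).left ≫ pullback.fst Y.hom g =
      pullback.fst X.hom g ≫ a.left := by
    simp only [Over.pullback_map_left]
    exact pullback.lift_fst _ _ _
  have hb : ((Over.pullback g).map b).left ≫ pullback.fst Y.hom g =
      pullback.fst X.hom g ≫ b.left := by
    simp only [Over.pullback_map_left]
    exact pullback.lift_fst _ _ _
  rw [← ha, ← hb, h]

/-- PKG-F. -/
theorem pkgF : PkgF.{u} := by
  intro S' S f hf X Y a b h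
  obtain ⟨hflat, hsurj, -⟩ := hf
  haveI := hflat
  haveI := hsurj
  haveI : Epi (pullback.fst X.hom f) := Flat.epi_of_flat_of_surjective _
  suffices h' : pullback.fst X.hom f ≫ a.left = pullback.fst X.hom f ≫ b.left by
    ext1
    exact (cancel_epi _).1 h'
  refine Scheme.hom_ext_of_forall _ _ fun z => ?_
  obtain ⟨U, hzU, hU⟩ := h ((pullback.snd X.hom f) z)
  refine ⟨(pullback.snd X.hom f) ⁻¹ᵁ U, hzU, ?_⟩
  have hcond : (((pullback.snd X.hom f) ⁻¹ᵁ U).ι ≫ pullback.fst X.hom f) ≫ X.hom =
      ((pullback.snd X.hom f) ∣_ U) ≫ (U.ι ≫ f) := by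
    rw [← Category.assoc ((pullback.snd X.hom f) ∣_ U), morphismRestrict_ι, Category.assoc,
      Category.assoc, pullback.condition]
  have hl : ((pullback.snd X.hom f) ⁻¹ᵁ U).ι ≫ pullback.fst X.hom f =
      pullback.lift _ _ hcond ≫ pullback.fst X.hom (U.ι ≫ f) := (pullback.lift_fst _ _ hcond).symm
  rw [← Category.assoc, ← Category.assoc, hl, Category.assoc, Category.assoc,
    fst_comp_eq_of_pullback_map_eq (U.ι ≫ f) a b hU]

end Groth.Agent.R2.H74.MTQ2F
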