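import Groth.Agent.R2.H97MTImgSpec
import Groth.Agent.R2.H74MTQ2F
import Groth.Agent.R2.H55DSPts

/-!
# PROJ:mt-img, package PKG-COMM (helper32): fpqc-locally diagonalisable groups are commutative
-/

set_option autoImplicit false

universe u

open CategoryTheory MonoidalCategory CartesianMonoidalCategory MonObj GrpObj AlgebraicGeometry Limits

namespace Groth.Agent.R2.H32.MTImgComm

open Groth.Agent.R2.H97.MTImgSpec Groth.Agent.R2.H55.DSPts

/-- `D_S(N)` is commutative on points. -/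
lemma ds_mul_comm {S : Scheme.{u}} {N : Type} [AddCommGroup N] {X : Over S}
    (a b : X ⟶ Red.DS S N) : a * b = b * a := by
  apply dsFn_injective
  intro m
  rw [dsFn_mul, dsFn_mul, mul_comm]

/-- PKG-COMM. -/
theorem pkgComm : PkgComm.{u} := by
  intro S₁ S f₁ hf₁ G _ hloc
  rw [isCommMonObj_iff_isMulCommutative]
  intro X
  refine ⟨⟨fun a b => ?_⟩⟩
  apply Groth.Agent.R2.H74.MTQ2F.pkgF f₁ hf₁
  intro s₁
  obtain ⟨U, hU, N, _, -, ⟨ψ⟩⟩ := hloc s₁
  refine ⟨U, hU, ?_⟩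
  rw [Functor.map_mul, Functor.map_mul]
  have hinv : ψ.hom.hom.hom ≫ ψ.inv.hom.hom = 𝟙 _ :=
    congrArg (fun f => f.hom.hom) ψ.hom_inv_id
  have hinv' : ψ.inv.hom.hom ≫ ψ.hom.hom.hom = 𝟙 _ :=
    congrArg (fun f => f.hom.hom) ψ.inv_hom_id
  let e : Red.bc (U.ι ≫ f₁) G ≅ Red.DS (U : Scheme.{u}) N :=
    ⟨ψ.hom.hom.hom, ψ.inv.hom.hom, hinv, hinv'⟩
  have hmon : IsMonHom e.hom := ψ.hom.hom.isMonHom_hom
  have h1 := MonObj.mul_comp ((Over.pullback (U.ι ≫ f₁)).map a)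
    ((Over.pullback (U.ι ≫ f₁)).map b) e.hom
  have h2 := MonObj.mul_comp ((Over.pullback (U.ι ≫ f₁)).map b)
    ((Over.pullback (U.ι ≫ f₁)).map a) e.hom
  rw [← cancel_mono e.hom, h1, h2]
  exact ds_mul_comm _ _

end Groth.Agent.R2.H32.MTImgComm
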