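import Groth.Agent.R2.H97MTSpec
import Groth.Prelude.Def_RedSub
import Groth.Prelude.Def_AlgGrp

/-!
# PROJ:mt-quot (helper97): interface for quotients of diagonalisable groups / tori by subgroups of
multiplicative type (targets S16615, S16616, S16617, S14754, S16612, ...)

Packages (each a `Prop`; a package is delivered as a theorem `pkgX : PkgX` in its own file
`Groth/Agent/R2/H<seat>MTQ<X>.lean`, namespace `Groth.Agent.R2.H<seat>.MTQ<X>`):

* `PkgK` (kernels of `D(φ)`): for an exact sequence `K --ι--> M --φ--> N --> 0` of commutative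
  groups (`φ` surjective, `ker φ = range ι`), `D_S(φ) : D_S(N) ⟶ D_S(M)` is a kernel of
  `D_S(ι) : D_S(M) ⟶ D_S(K)` (`AlgGrp.IsKernel`).  Route: points calculus `R2/H55DSPts`
  (`dsFn`, `dsFn_injective`, `dsFn_surjective`, `dsFn_DSmap`, `dsFn_one`).
* `PkgQ` (quotients): for a short exact sequence `0 --> K --ι--> M --φ--> N --> 0` with `M`
  finitely generated, `D_S(ι) : D_S(M) ⟶ D_S(K)` is the fppf quotient of `D_S(M)` by
  `D_S(φ) : D_S(N) ⟶ D_S(M)` (`RedSub.IsQuotient`).  Route: flat + surjective is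
  `R2/H60MTP.flat_surjective_of_injective`; locally of finite presentation because `ℤ[M]` is a
  finitely generated algebra over the Noetherian ring `ℤ[K]` and `D_S(ι)` is a base change of
  `Spec ℤ[M] ⟶ Spec ℤ[K]`; the cartesian square follows from `PkgK` by a points argument
  (`(a, b)` with `q a = q b` ↦ `(a, a⁻¹ b)`).
* `PkgE` (universal property of fppf quotients of groups): if `q : G ⟶ Q` is a quotient of `G` by
  `i : H ⟶ G` and `v : G ⟶ Z` is a homomorphism to an `S`-group with `i ≫ v = 1`, then `v`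
  factors uniquely through `q`, by a homomorphism.  Route: Mathlib
  `AlgebraicGeometry/Sites/Fpqc.lean`: a flat surjective morphism locally of finite presentation
  is an `EffectiveEpi` of schemes; `Over.forget` preserves the kernel pair square.
* `PkgB` (base change and transport of quotients).
-/

set_option autoImplicit false

universe u

open CategoryTheory MonoidalCategory CartesianMonoidalCategory MonObj GrpObj AlgebraicGeometry

namespace Groth.Agent.R2.H97.MTQSpec

/-- PKG-K. -/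
def PkgK : Prop :=
  ∀ (S : Scheme.{u}) {K M N : Type} [AddCommGroup K] [AddCommGroup M] [AddCommGroup N]
    (κ : K →+ M) (φ : M →+ N), Function.Surjective φ → (∀ m, φ m = 0 ↔ m ∈ κ.range) →
    AlgGrp.IsKernel (Red.DSmap S φ) (Red.DSmap S κ)

/-- PKG-Q. -/
def PkgQ : Prop :=
  ∀ (S : Scheme.{u}) {K M N : Type} [AddCommGroup K] [AddCommGroup M] [AddCommGroup N]
    (κ : K →+ M) (φ : M →+ N), AddGroup.FG M → Function.Injective κ → Function.Surjective φ →
    (∀ m, φ m = 0 ↔ m ∈ κ.range) →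
    RedSub.IsQuotient (Red.DSmap S φ) (Red.DSmap S κ)

/-- PKG-E. -/
def PkgE : Prop :=
  ∀ {S : Scheme.{u}} {G H Q Z : Over S} [GrpObj G] [GrpObj H] [GrpObj Q] [GrpObj Z]
    (i : H ⟶ G) (q : G ⟶ Q) [IsMonHom q], RedSub.IsQuotient i q →
    ∀ (v : G ⟶ Z) [IsMonHom v], i ≫ v = 1 →
      ∃ e : Q ⟶ Z, IsMonHom e ∧ q ≫ e = v ∧ ∀ e' : Q ⟶ Z, q ≫ e' = v → e' = e

/-- PKG-B. -/
def PkgB : Prop :=
  (∀ {S' S : Scheme.{u}} (g : S' ⟶ S) {G H Q : Over S} [GrpObj G] [GrpObj H] (i : H ⟶ G)
    (q : G ⟶ Q), RedSub.IsQuotient i q →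
      RedSub.IsQuotient ((Over.pullback g).map i) ((Over.pullback g).map q)) ∧
  (∀ {S : Scheme.{u}} {G G' H H' Q : Over S} [GrpObj G] [GrpObj G'] [GrpObj H] [GrpObj H']
    (α : Grp.mk G ≅ Grp.mk G') (β : Grp.mk H ≅ Grp.mk H') (i : H ⟶ G) (q : G ⟶ Q),
    RedSub.IsQuotient i q →
      RedSub.IsQuotient (β.inv.hom.hom ≫ i ≫ α.hom.hom.hom) (α.inv.hom.hom ≫ q))

end Groth.Agent.R2.H97.MTQSpec
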