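import Mathlib
import Groth.Agent.R2.H97MTQSpec

/-!
# PROJ:mt-quot, package B (helper32): base change and transport of fppf quotients of group schemes
-/

set_option autoImplicit false

universe u

open CategoryTheory MonoidalCategory CartesianMonoidalCategory MonObj GrpObj AlgebraicGeometry Limits

namespace Groth.Agent.R2.H32.MTQB

open Groth.Agent.R2.H97.MTQSpec

section BaseChange

variable {S' S : Scheme.{u}} (g : S' ⟶ S)

/-- the square relating a morphism of `S`-schemes and its base change. -/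
lemma isPullback_pullback_map {A B : Over S} (φ : A ⟶ B) :
    IsPullback ((Over.pullback g).map φ).left (pullback.fst A.hom g) (pullback.fst B.hom g)
      φ.left := by
  have h1 : IsPullback (pullback.fst A.hom g) (pullback.snd A.hom g) A.hom g :=
    .of_hasPullback _ _
  have h2 : IsPullback (pullback.fst B.hom g) (pullback.snd B.hom g) B.hom g :=
    .of_hasPullback _ _
  have e1 : ((Over.pullback g).map φ).left ≫ pullback.snd B.hom g = pullback.snd A.hom g := by
    simp only [Over.pullback_map_left]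
    exact pullback.lift_snd _ _ _
  have e2 : ((Over.pullback g).map φ).left ≫ pullback.fst B.hom g =
      pullback.fst A.hom g ≫ φ.left := by
    simp only [Over.pullback_map_left]
    exact pullback.lift_fst _ _ _
  have h3 : IsPullback (pullback.fst A.hom g)
      (((Over.pullback g).map φ).left ≫ pullback.snd B.hom g) (φ.left ≫ B.hom) g := by
    rw [e1, Over.w φ]; exact h1
  exact (IsPullback.of_bot h3 e2.symm h2).flip

variable {G H Q : Over S} [GrpObj G] [GrpObj H]

omit [GrpObj H] in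
theorem isQuotient_bc (i : H ⟶ G) (q : G ⟶ Q) (h : RedSub.IsQuotient i q) :
    RedSub.IsQuotient ((Over.pullback g).map i) ((Over.pullback g).map q) := by
  obtain ⟨h1, h2, h3, h4⟩ := h
  have hsq := isPullback_pullback_map g q
  refine ⟨MorphismProperty.of_isPullback hsq.flip h1, MorphismProperty.of_isPullback hsq.flip h2,
    MorphismProperty.of_isPullback hsq.flip h3, ?_⟩
  have h5 := h4.map (Over.pullback g)
  refine IsPullback.of_iso h5 (Functor.Monoidal.μIso (Over.pullback g) G H).symm (Iso.refl _)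
    (Iso.refl _) (Iso.refl _) ?_ ?_ ?_ ?_
  · rw [Iso.refl_hom, Category.comp_id, Iso.symm_hom, Iso.eq_inv_comp]
    exact Functor.Monoidal.μ_fst (Over.pullback g) G H
  · rw [Iso.refl_hom, Category.comp_id, Iso.symm_hom, Iso.eq_inv_comp]
    change _ = _ ≫ (Functor.LaxMonoidal.μ (Over.pullback g) G G ≫ (Over.pullback g).map μ)
    rw [Functor.map_comp, ← Category.assoc, ← Category.assoc,
      Functor.LaxMonoidal.μ_natural_right]
    rfl
  · simp
  · simp

end BaseChange

section Transport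

variable {S : Scheme.{u}} {G G' H H' Q : Over S} [GrpObj G] [GrpObj G'] [GrpObj H] [GrpObj H']

theorem isQuotient_transport (α : Grp.mk G ≅ Grp.mk G') (β : Grp.mk H ≅ Grp.mk H') (i : H ⟶ G)
    (q : G ⟶ Q) (h : RedSub.IsQuotient i q) :
    RedSub.IsQuotient (β.inv.hom.hom ≫ i ≫ α.hom.hom.hom) (α.inv.hom.hom ≫ q) := by
  obtain ⟨h1, h2, h3, h4⟩ := h
  have haa' : α.hom.hom.hom ≫ α.inv.hom.hom = 𝟙 G := congrArg (fun f => f.hom.hom) α.hom_inv_id
  have ha'a : α.inv.hom.hom ≫ α.hom.hom.hom = 𝟙 G' := congrArg (fun f => f.hom.hom) α.inv_hom_id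
  have hbb' : β.hom.hom.hom ≫ β.inv.hom.hom = 𝟙 H := congrArg (fun f => f.hom.hom) β.hom_inv_id
  have hb'b : β.inv.hom.hom ≫ β.hom.hom.hom = 𝟙 H' := congrArg (fun f => f.hom.hom) β.inv_hom_id
  let eα : G ≅ G' := ⟨α.hom.hom.hom, α.inv.hom.hom, haa', ha'a⟩
  let eβ : H ≅ H' := ⟨β.hom.hom.hom, β.inv.hom.hom, hbb', hb'b⟩
  have hiso : IsIso (α.inv.hom.hom : G' ⟶ G).left :=
    (inferInstance : IsIso ((Over.forget S).map eα.inv))
  refine ⟨?_, ?_, ?_, ?_⟩
  · rw [Over.comp_left]; infer_instance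
  · rw [Over.comp_left]; infer_instance
  · rw [Over.comp_left]; infer_instance
  · refine IsPullback.of_iso h4 (eα ⊗ᵢ eβ) eα eα (Iso.refl _) ?_ ?_ ?_ ?_
    · simp [eα, eβ]
    · change (G ◁ i ≫ μ) ≫ α.hom.hom.hom = (α.hom.hom.hom ⊗ₘ β.hom.hom.hom) ≫
        G' ◁ (β.inv.hom.hom ≫ i ≫ α.hom.hom.hom) ≫ μ
      have hmul : (μ : G ⊗ G ⟶ G) ≫ α.hom.hom.hom = (α.hom.hom.hom ⊗ₘ α.hom.hom.hom) ≫ μ :=
        IsMonHom.mul_hom (f := α.hom.hom.hom)
      rw [Category.assoc, hmul, MonoidalCategory.whiskerLeft_comp_tensorHom_assoc,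
        MonoidalCategory.tensorHom_comp_whiskerLeft_assoc, ← Category.assoc β.hom.hom.hom, hbb',
        Category.id_comp]
    · change q ≫ 𝟙 _ = α.hom.hom.hom ≫ α.inv.hom.hom ≫ q
      rw [← Category.assoc, haa', Category.id_comp, Category.comp_id]
    · change q ≫ 𝟙 _ = α.hom.hom.hom ≫ α.inv.hom.hom ≫ q
      rw [← Category.assoc, haa', Category.id_comp, Category.comp_id]

end Transport

/-- **PKG-B.** -/
theorem pkgB : PkgB.{u} :=
  ⟨fun g _ _ _ _ _ i q h => isQuotient_bc g i q h,
    fun α β i q h => isQuotient_transport α β i q h⟩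

end Groth.Agent.R2.H32.MTQB
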