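import Mathlib.RingTheory.Extension.Cotangent.Basic
import Mathlib.RingTheory.Extension.Generators
import Mathlib.RingTheory.Smooth.Basic

/-!
# PROJ:rigid (helper56): a rigid singular fibre is not smoothed — package specifications

`RetrUpTo P τ n`: the cotangent complex `I/I² → S ⊗ Ω_{P/R}` of the extension `P` of `S` over `R` has a retraction up to `τ ^ n`.

* `PkgY` (reduction modulo an ideal of the base): retractions up to `τ ^ n` pass from `B/A` to `S/A'` when `A → A'` and `B → S` are
  surjective and `ker (B → S)` is generated by `ker (A → A')`, for generators of `S` over `A'` that are the images of generators of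
  `B` over `A`.
* `PkgZ` (trivial family): if the trivial family `A' ⊗[k] B₀` over `A'` has a retraction up to `a ^ n` (for the generators `1 ⊗ x_i`)
  and some `k`-linear functional on `A'` takes the value `1` on `a ^ n`, then `B₀` is formally smooth over `k`.
-/

set_option autoImplicit false

universe w u

open scoped TensorProduct

namespace Groth.Agent.R2.H56.RigSpec

/-- The cotangent complex of the extension `P` has a retraction up to `τ ^ n`. -/
def RetrUpTo {R S : Type u} [CommRing R] [CommRing S] [Algebra R S] (P : Algebra.Extension.{max w u} R S) (τ : S) (n : ℕ) :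
    Prop :=
  ∃ l : P.CotangentSpace →ₗ[S] P.Cotangent, l ∘ₗ P.cotangentComplex = τ ^ n • LinearMap.id

/-- PKG-Y: reduction modulo an ideal of the base. -/
def PkgY : Prop :=
  ∀ (A B A' S : Type u) [CommRing A] [CommRing B] [CommRing A'] [CommRing S] [Algebra A B] [Algebra A A'] [Algebra A' S]
    [Algebra B S] [Algebra A S] [IsScalarTower A A' S] [IsScalarTower A B S]
    (_hA : Function.Surjective (algebraMap A A')) (_hB : Function.Surjective (algebraMap B S))
    (_hker : RingHom.ker (algebraMap B S) = (RingHom.ker (algebraMap A A')).map (algebraMap A B))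
    {ι : Type w} (G : Algebra.Generators A B ι) (G' : Algebra.Generators A' S ι)
    (_hG : ∀ i, G'.val i = algebraMap B S (G.val i)) (τ : B) (n : ℕ),
    RetrUpTo.{w, u} G.toExtension τ n → RetrUpTo.{w, u} G'.toExtension (algebraMap B S τ) n

/-- PKG-Z: the trivial family. -/
def PkgZ : Prop :=
  ∀ (k A' B₀ : Type u) [Field k] [CommRing A'] [Algebra k A'] [CommRing B₀] [Algebra k B₀] {ι : Type w}
    (G₀ : Algebra.Generators k B₀ ι) (G' : Algebra.Generators A' (A' ⊗[k] B₀) ι)
    (_hG' : ∀ i, G'.val i = (1 : A') ⊗ₜ[k] G₀.val i) (a : A') (n : ℕ) (lam : A' →ₗ[k] k) (_hlam : lam (a ^ n) = 1),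
    RetrUpTo.{w, u} G'.toExtension (a ⊗ₜ[k] (1 : B₀)) n → Algebra.FormallySmooth k B₀

end Groth.Agent.R2.H56.RigSpec
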