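import Mathlib
import Groth.Agent.R2.H56RigSpec

/-!
# PROJ:rigid, package Y (helper32): retractions up to `τ ^ n` of the cotangent complex pass to the
reduction modulo an ideal of the base.
-/

set_option autoImplicit false

universe w u

open scoped TensorProduct
open Algebra

namespace Groth.Agent.R2.H32.RigY

open Groth.Agent.R2.H56.RigSpec

section

variable {A B A' S : Type u} [CommRing A] [CommRing B] [CommRing A'] [CommRing S] [Algebra A B]
  [Algebra A A'] [Algebra A' S] [Algebra B S] [Algebra A S] [IsScalarTower A A' S]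
  [IsScalarTower A B S]
  {ι : Type w} (G : Algebra.Generators A B ι) (G' : Algebra.Generators A' S ι)
  (hG : ∀ i, G'.val i = algebraMap B S (G.val i))

/-- the hom of generators `X i ↦ X i` -/
noncomputable def gHom : G.Hom G' where
  val := MvPolynomial.X
  aeval_val i := by simp [hG]

omit [Algebra A S] [IsScalarTower A A' S] [IsScalarTower A B S] in
theorem gHom_toAlgHom_apply (p : G.Ring) :
    (gHom G G' hG).toAlgHom p = MvPolynomial.map (algebraMap A A') p := by
  induction p using MvPolynomial.induction_on with
  | C a => simp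
  | add p q hp hq => simp [hp, hq]
  | mul_X p i hp =>
    rw [map_mul, hp, Generators.Hom.toAlgHom_X, map_mul, MvPolynomial.map_X]; rfl

variable (hA : Function.Surjective (algebraMap A A'))
  (hker : RingHom.ker (algebraMap B S) = (RingHom.ker (algebraMap A A')).map (algebraMap A B))

include hA hker in
/-- every element of the kernel of `A'[X] → S` lifts to the kernel of `A[X] → B` -/
theorem exists_lift_ker (x' : G'.Ring) (hx' : x' ∈ G'.ker) :
    ∃ x : G.Ring, x ∈ G.ker ∧ (gHom G G' hG).toAlgHom x = x' := by
  obtain ⟨p, rfl⟩ := MvPolynomial.map_surjective (algebraMap A A') hA x'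
  -- the image of `p` in `B` lies in the kernel of `B → S`
  have hb : MvPolynomial.aeval G.val p ∈ RingHom.ker (algebraMap B S) := by
    rw [RingHom.mem_ker, ← (gHom G G' hG).algebraMap_toAlgHom, gHom_toAlgHom_apply]
    rw [Generators.ker_eq_ker_aeval_val, RingHom.mem_ker] at hx'
    exact hx'
  -- the ideal of `B` of images of polynomials with coefficients reducing to `0`
  have hsurj : Function.Surjective (MvPolynomial.aeval G.val : G.Ring →ₐ[A] B) :=
    G.aeval_val_surjective
  have hle : (RingHom.ker (algebraMap A A')).map (algebraMap A B) ≤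
      (RingHom.ker (MvPolynomial.map (σ := ι) (algebraMap A A'))).map
        (MvPolynomial.aeval G.val : G.Ring →ₐ[A] B) := by
    rw [Ideal.map_le_iff_le_comap]
    intro a ha
    rw [Ideal.mem_comap]
    have : algebraMap A B a = (MvPolynomial.aeval G.val : G.Ring →ₐ[A] B) (MvPolynomial.C a) := by
      simp
    rw [this]
    apply Ideal.mem_map_of_mem
    rw [RingHom.mem_ker, MvPolynomial.map_C, RingHom.mem_ker.mp ha, map_zero]
  rw [hker] at hb
  obtain ⟨q, hq, hqb⟩ := (Ideal.mem_map_iff_of_surjective _ hsurj).mp (hle hb)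
  refine ⟨p - q, ?_, ?_⟩
  · rw [Generators.ker_eq_ker_aeval_val, RingHom.mem_ker, map_sub, hqb, sub_self]
  · rw [gHom_toAlgHom_apply, map_sub, RingHom.mem_ker.mp hq, sub_zero]

/-- the hom of extensions -/
noncomputable abbrev eHom : G.toExtension.Hom G'.toExtension := (gHom G G' hG).toExtensionHom

include hA hker in
theorem cotangent_map_surjective :
    Function.Surjective (Extension.Cotangent.map (eHom G G' hG)) := by
  intro x'
  obtain ⟨⟨y', hy'⟩, rfl⟩ := Extension.Cotangent.mk_surjective x'
  obtain ⟨y, hy, hyy⟩ := exists_lift_ker G G' hG hA hker y' hy'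
  refine ⟨Extension.Cotangent.mk ⟨y, hy⟩, ?_⟩
  rw [Extension.Cotangent.map_mk]
  congr 1
  exact Subtype.ext hyy

theorem cotangentSpace_map_basis (i : ι) :
    Extension.CotangentSpace.map (eHom G G' hG) (G.cotangentSpaceBasis i) =
      G'.cotangentSpaceBasis i := by
  rw [Generators.cotangentSpaceBasis_apply, Generators.cotangentSpaceBasis_apply]
  refine (Extension.CotangentSpace.map_tmul (eHom G G' hG) 1 (MvPolynomial.X i)).trans ?_
  rw [map_one]
  congr 2
  exact (gHom G G' hG).toAlgHom_X i

include hG hA hker in
theorem retrUpTo (τ : B) (n : ℕ) (h : RetrUpTo.{w, u} G.toExtension τ n) :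
    RetrUpTo.{w, u} G'.toExtension (algebraMap B S τ) n := by
  obtain ⟨l, hl⟩ := h
  let l' : G'.toExtension.CotangentSpace →ₗ[S] G'.toExtension.Cotangent :=
    G'.cotangentSpaceBasis.constr S
      (fun i => Extension.Cotangent.map (eHom G G' hG) (l (G.cotangentSpaceBasis i)))
  have key : (l'.restrictScalars B) ∘ₗ Extension.CotangentSpace.map (eHom G G' hG) =
      Extension.Cotangent.map (eHom G G' hG) ∘ₗ l := by
    apply G.cotangentSpaceBasis.ext
    intro i
    simp only [LinearMap.coe_comp, Function.comp_apply, LinearMap.coe_restrictScalars]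
    rw [cotangentSpace_map_basis]
    exact Module.Basis.constr_basis _ _ _ _
  refine ⟨l', ?_⟩
  ext x'
  obtain ⟨x, rfl⟩ := cotangent_map_surjective G G' hG hA hker x'
  simp only [LinearMap.coe_comp, Function.comp_apply, LinearMap.smul_apply, LinearMap.id_coe, id_eq]
  rw [← Extension.CotangentSpace.map_cotangentComplex]
  have h1 := LinearMap.congr_fun key (G.toExtension.cotangentComplex x)
  simp only [LinearMap.coe_comp, Function.comp_apply, LinearMap.coe_restrictScalars] at h1
  rw [h1]
  have h2 := LinearMap.congr_fun hl x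
  simp only [LinearMap.coe_comp, Function.comp_apply, LinearMap.smul_apply, LinearMap.id_coe,
    id_eq] at h2
  rw [h2, map_smul, ← map_pow, algebraMap_smul]

end

/-- **PKG-Y.** -/
theorem pkgY : PkgY.{w, u} := by
  intro A B A' S _ _ _ _ _ _ _ _ _ _ _ hA _hB hker ι G G' hG τ n h
  exact retrUpTo G G' hG hA hker τ n h

end Groth.Agent.R2.H32.RigY
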