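import Mathlib
import Groth.Agent.R2.H56RigSpec

/-!
# PROJ:rigid, package Z (helper32): if the trivial family `A' ⊗[k] B₀` has a retraction of its
cotangent complex up to `a ^ n`, and some `k`-linear functional takes the value `1` on `a ^ n`, then
`B₀` is formally smooth over `k`.
-/

set_option autoImplicit false

universe w u

open scoped TensorProduct
open Algebra MvPolynomial

namespace Groth.Agent.R2.H32.RigZ

open Groth.Agent.R2.H56.RigSpec

section Coeff

variable {k A' : Type u} [CommRing k] [CommRing A'] [Algebra k A'] {ι : Type w}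
  (lam : A' →ₗ[k] k)

/-- apply `lam` to the coefficients -/
noncomputable def Lam : MvPolynomial ι A' →+ MvPolynomial ι k where
  toFun p := AddMonoidAlgebra.map lam.toAddMonoidHom p
  map_zero' := AddMonoidAlgebra.map_zero _
  map_add' := AddMonoidAlgebra.map_add _

theorem coeff_Lam (m : ι →₀ ℕ) (p : MvPolynomial ι A') :
    coeff m (Lam lam p) = lam (coeff m p) := rfl

theorem Lam_map_mul (p₀ : MvPolynomial ι k) (p : MvPolynomial ι A') :
    Lam lam (MvPolynomial.map (algebraMap k A') p₀ * p) = p₀ * Lam lam p := by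
  classical
  ext m
  rw [coeff_Lam, coeff_mul, coeff_mul, map_sum]
  refine Finset.sum_congr rfl fun x _ => ?_
  rw [coeff_map, coeff_Lam, ← Algebra.smul_def, map_smul, smul_eq_mul]

theorem Lam_C_mul_map (a : A') (x : MvPolynomial ι k) :
    Lam lam (C a * MvPolynomial.map (algebraMap k A') x) = lam a • x := by
  ext m
  rw [coeff_Lam, coeff_C_mul, coeff_map, coeff_smul, mul_comm, ← Algebra.smul_def, map_smul,
    smul_eq_mul, smul_eq_mul, mul_comm]

/-- `Lam` maps the extension of an ideal `K` into `K` -/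
theorem Lam_mem_of_mem_map (K : Ideal (MvPolynomial ι k)) (p : MvPolynomial ι A')
    (hp : p ∈ K.map (MvPolynomial.map (σ := ι) (algebraMap k A'))) : Lam lam p ∈ K := by
  suffices h : ∀ q : MvPolynomial ι A', Lam lam (q * p) ∈ K by simpa using h 1
  induction hp using Submodule.span_induction with
  | mem y hy =>
    obtain ⟨x, hx, rfl⟩ := hy
    intro q
    rw [mul_comm, Lam_map_mul]
    exact K.mul_mem_right _ hx
  | zero => intro q; simp
  | add y z _ _ hy hz => intro q; rw [mul_add, map_add]; exact K.add_mem (hy q) (hz q)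
  | smul r y _ hy => intro q; rw [smul_eq_mul, ← mul_assoc]; exact hy (q * r)

end Coeff

section Main

variable {k A' B₀ : Type u} [Field k] [CommRing A'] [Algebra k A'] [CommRing B₀] [Algebra k B₀]
  {ι : Type w} (G₀ : Algebra.Generators k B₀ ι) (G' : Algebra.Generators A' (A' ⊗[k] B₀) ι)
  (hG' : ∀ i, G'.val i = (1 : A') ⊗ₜ[k] G₀.val i)

/-- the map `k[X] → A'[X]` -/
noncomputable abbrev phi : MvPolynomial ι k →+* MvPolynomial ι A' :=
  MvPolynomial.map (algebraMap k A')

include hG' in
theorem aeval_phi (q : MvPolynomial ι k) :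
    aeval G'.val (phi (A' := A') q) = (1 : A') ⊗ₜ[k] aeval G₀.val q := by
  induction q using MvPolynomial.induction_on with
  | C c =>
    simp only [phi, map_C, aeval_C]
    rw [Algebra.TensorProduct.algebraMap_apply, Algebra.algebraMap_self, RingHom.id_apply,
      Algebra.algebraMap_eq_smul_one (R := k) (A := A') c,
      Algebra.algebraMap_eq_smul_one (R := k) (A := B₀) c, TensorProduct.smul_tmul]
  | add p q hp hq => rw [map_add, map_add, hp, hq, map_add, TensorProduct.tmul_add]
  | mul_X p i hp =>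
    rw [map_mul, map_mul, hp, phi, map_X, aeval_X, hG', map_mul, aeval_X,
      Algebra.TensorProduct.tmul_mul_tmul, mul_one]

include hG' in
theorem phi_mem_ker {x : MvPolynomial ι k} (hx : x ∈ G₀.ker) : phi (A' := A') x ∈ G'.ker := by
  rw [Generators.ker_eq_ker_aeval_val, RingHom.mem_ker] at hx ⊢
  rw [aeval_phi G₀ G' hG', hx, TensorProduct.tmul_zero]

/-- the extended ideal -/
noncomputable abbrev J : Ideal (MvPolynomial ι A') := G₀.ker.map (phi (A' := A'))

/-- `k[X] → A'[X] / J` as a `k`-algebra map -/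
noncomputable def g₁ : MvPolynomial ι k →ₐ[k] (MvPolynomial ι A' ⧸ J (A' := A') G₀) :=
  ((Ideal.Quotient.mkₐ k (J (A' := A') G₀)).comp
    (MvPolynomial.mapAlgHom (Algebra.ofId k A')))

theorem g₁_apply (p : MvPolynomial ι k) :
    g₁ (A' := A') G₀ p = Ideal.Quotient.mk _ (phi (A' := A') p) := rfl

theorem g₁_ker (p : MvPolynomial ι k) (hp : p ∈ RingHom.ker (aeval G₀.val : MvPolynomial ι k →ₐ[k] B₀)) :
    g₁ (A' := A') G₀ p = 0 := by
  rw [g₁_apply, Ideal.Quotient.eq_zero_iff_mem]
  apply Ideal.mem_map_of_mem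
  rw [Generators.ker_eq_ker_aeval_val]
  exact hp

/-- `B₀ → A'[X] / J` -/
noncomputable def g : B₀ →ₐ[k] (MvPolynomial ι A' ⧸ J (A' := A') G₀) :=
  (Ideal.Quotient.liftₐ _ (g₁ (A' := A') G₀) (g₁_ker G₀)).comp
    (Ideal.quotientKerAlgEquivOfSurjective
      (f := (aeval G₀.val : MvPolynomial ι k →ₐ[k] B₀)) G₀.aeval_val_surjective).symm.toAlgHom

theorem g_aeval (p : MvPolynomial ι k) :
    g (A' := A') G₀ (aeval G₀.val p) = Ideal.Quotient.mk _ (phi (A' := A') p) := by
  have : (Ideal.quotientKerAlgEquivOfSurjective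
      (f := (aeval G₀.val : MvPolynomial ι k →ₐ[k] B₀)) G₀.aeval_val_surjective).symm
      (aeval G₀.val p) = Ideal.Quotient.mk _ p := by
    rw [AlgEquiv.symm_apply_eq]
    rfl
  change (Ideal.Quotient.liftₐ _ (g₁ (A' := A') G₀) (g₁_ker G₀))
    ((Ideal.quotientKerAlgEquivOfSurjective
      (f := (aeval G₀.val : MvPolynomial ι k →ₐ[k] B₀)) G₀.aeval_val_surjective).symm
      (aeval G₀.val p)) = _
  rw [this]
  rfl

/-- `A' ⊗ B₀ → A'[X] / J` -/
noncomputable def psi : A' ⊗[k] B₀ →ₐ[A'] (MvPolynomial ι A' ⧸ J (A' := A') G₀) :=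
  Algebra.TensorProduct.lift (Algebra.ofId A' _) (g (A' := A') G₀) (fun _ _ => Commute.all _ _)

include hG' in
theorem psi_aeval (p : MvPolynomial ι A') :
    psi G₀ (aeval G'.val p) = Ideal.Quotient.mk (J (A' := A') G₀) p := by
  have : (psi G₀).comp (aeval G'.val : MvPolynomial ι A' →ₐ[A'] A' ⊗[k] B₀) =
      Ideal.Quotient.mkₐ A' (J (A' := A') G₀) := by
    apply MvPolynomial.algHom_ext
    intro i
    simp only [AlgHom.comp_apply, aeval_X, Ideal.Quotient.mkₐ_eq_mk]
    rw [hG', psi, Algebra.TensorProduct.lift_tmul, map_one, one_mul]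
    have := g_aeval (A' := A') G₀ (X i)
    rw [aeval_X] at this
    rw [this, phi, map_X]
  exact DFunLike.congr_fun this p

include hG' in
theorem ker_le_J : G'.ker ≤ J (A' := A') G₀ := by
  intro p hp
  rw [Generators.ker_eq_ker_aeval_val, RingHom.mem_ker] at hp
  have := psi_aeval G₀ G' hG' p
  rw [hp, map_zero] at this
  exact Ideal.Quotient.eq_zero_iff_mem.mp this.symm

theorem basis_expand {R M N : Type*} [CommRing R] [AddCommGroup M] [Module R M] [AddCommGroup N]
    [Module R N] {κ : Type*} (b : Module.Basis κ R M) (l : M →ₗ[R] N) (w : M) (t : Finset κ)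
    (ht : (b.repr w).support ⊆ t) : l w = ∑ i ∈ t, b.repr w i • l (b i) := by
  conv_lhs => rw [← b.linearCombination_repr w, Finsupp.linearCombination_apply, Finsupp.sum,
    map_sum]
  simp only [map_smul]
  apply Finset.sum_subset ht
  intro i _ hi
  rw [Finsupp.notMem_support_iff.mp hi, zero_smul]

/-- multiplication of an element of the kernel by a polynomial -/
noncomputable def mulK {R S : Type u} [CommRing R] [CommRing S] [Algebra R S]
    (G : Algebra.Generators R S ι) (p : MvPolynomial ι R) (y : G.toExtension.ker) :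
    G.toExtension.ker :=
  ⟨@HMul.hMul G.toExtension.Ring G.toExtension.Ring _ instHMul p y.1,
    G.toExtension.ker.mul_mem_left p y.2⟩

/-- the underlying polynomial -/
noncomputable def valK {R S : Type u} [CommRing R] [CommRing S] [Algebra R S]
    (G : Algebra.Generators R S ι) (y : G.toExtension.ker) : MvPolynomial ι R := y.1

theorem coe_mulK {R S : Type u} [CommRing R] [CommRing S] [Algebra R S]
    (G : Algebra.Generators R S ι) (p : MvPolynomial ι R) (y : G.toExtension.ker) :
    valK G (mulK G p y) = p * valK G y := rfl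

theorem aeval_smul_mk {R S : Type u} [CommRing R] [CommRing S] [Algebra R S]
    (G : Algebra.Generators R S ι) (p : MvPolynomial ι R) (y : G.toExtension.ker) :
    (aeval G.val p : S) • (Extension.Cotangent.mk y : G.toExtension.Cotangent) =
      Extension.Cotangent.mk (mulK G p y) := by
  have : mulK G p y = (show G.toExtension.Ring from p) • y := rfl
  rw [this, map_smul, ← Generators.algebraMap_apply, algebraMap_smul]
  rfl

theorem coe_sum_ker {R S : Type u} [CommRing R] [CommRing S] [Algebra R S]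
    (G : Algebra.Generators R S ι) (t : Finset ι) (f : ι → G.toExtension.ker) :
    valK G (∑ i ∈ t, f i) = ∑ i ∈ t, valK G (f i) :=
  Submodule.coe_sum _ _ _

include hG' in
theorem formallySmooth (a : A') (n : ℕ) (lam : A' →ₗ[k] k) (hlam : lam (a ^ n) = 1)
    (h : RetrUpTo.{w, u} G'.toExtension (a ⊗ₜ[k] (1 : B₀)) n) : Algebra.FormallySmooth k B₀ := by
  classical
  obtain ⟨l', hl'⟩ := h
  have hrep : ∀ i, ∃ y : G'.toExtension.ker,
      Extension.Cotangent.mk y = l' (G'.cotangentSpaceBasis i) :=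
    fun i => Extension.Cotangent.mk_surjective _
  choose y hy using hrep
  have hΛker : ∀ p ∈ G'.ker, Lam lam p ∈ G₀.ker := fun p hp =>
    Lam_mem_of_mem_map lam _ p (ker_le_J G₀ G' hG' hp)
  have hΛsq : ∀ p ∈ G'.ker ^ 2, Lam lam p ∈ G₀.ker ^ 2 := by
    intro p hp
    apply Lam_mem_of_mem_map lam
    rw [Ideal.map_pow]
    exact Ideal.pow_right_mono (ker_le_J G₀ G' hG') 2 hp
  let z : ι → G₀.toExtension.ker := fun i => ⟨Lam lam (y i).1, hΛker _ (y i).2⟩
  let l₀ : G₀.toExtension.CotangentSpace →ₗ[B₀] G₀.toExtension.Cotangent :=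
    G₀.cotangentSpaceBasis.constr B₀ (fun i => Extension.Cotangent.mk (z i))
  have hl₀ : ∀ i, l₀ (G₀.cotangentSpaceBasis i) = Extension.Cotangent.mk (z i) := fun i =>
    Module.Basis.constr_basis _ _ _ _
  have : FormallySmooth k G₀.toExtension.Ring :=
    inferInstanceAs (FormallySmooth k (MvPolynomial ι k))
  rw [G₀.toExtension.formallySmooth_iff_split_injection]
  refine ⟨l₀, LinearMap.ext fun c => ?_⟩
  obtain ⟨⟨x, hx⟩, rfl⟩ := Extension.Cotangent.mk_surjective c
  simp only [LinearMap.coe_comp, Function.comp_apply, LinearMap.id_coe, id_eq]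
  rw [Extension.cotangentComplex_mk]
  have hxφ : phi (A' := A') x ∈ G'.ker := phi_mem_ker G₀ G' hG' hx
  let t : Finset ι :=
    (G₀.cotangentSpaceBasis.repr
      ((1 : B₀) ⊗ₜ KaehlerDifferential.D k G₀.toExtension.Ring x)).support ∪
    (G'.cotangentSpaceBasis.repr
      ((1 : A' ⊗[k] B₀) ⊗ₜ KaehlerDifferential.D A' G'.toExtension.Ring
        (phi (A' := A') x))).support
  rw [basis_expand G₀.cotangentSpaceBasis l₀ _ t Finset.subset_union_left]
  -- the relation upstairs
  have h1 := LinearMap.congr_fun hl' (Extension.Cotangent.mk ⟨phi (A' := A') x, hxφ⟩)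
  simp only [LinearMap.coe_comp, Function.comp_apply, LinearMap.smul_apply, LinearMap.id_coe,
    id_eq] at h1
  rw [Extension.cotangentComplex_mk,
    basis_expand G'.cotangentSpaceBasis l' _ t Finset.subset_union_right] at h1
  -- rewrite the relation upstairs as a statement about polynomials
  have h2 : ∀ i ∈ t, (G'.cotangentSpaceBasis.repr ((1 : A' ⊗[k] B₀) ⊗ₜ[G'.toExtension.Ring]
      (KaehlerDifferential.D A' G'.toExtension.Ring) (phi (A' := A') x))) i •
        l' (G'.cotangentSpaceBasis i) =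
      Extension.Cotangent.mk (mulK G' (pderiv i (phi (A' := A') x)) (y i)) := by
    intro i _
    rw [Generators.cotangentSpaceBasis_repr_one_tmul, ← hy i, aeval_smul_mk]
  rw [Finset.sum_congr rfl h2, ← map_sum] at h1
  have h3 : (a ⊗ₜ[k] (1 : B₀)) ^ n •
      (Extension.Cotangent.mk ⟨phi (A' := A') x, hxφ⟩ : G'.toExtension.Cotangent) =
      Extension.Cotangent.mk (mulK G' ((C a) ^ n) ⟨phi (A' := A') x, hxφ⟩) := by
    rw [← aeval_smul_mk G' ((C a) ^ n) ⟨phi (A' := A') x, hxφ⟩, map_pow, aeval_C,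
      Algebra.TensorProduct.algebraMap_apply, Algebra.algebraMap_self, RingHom.id_apply]
  rw [h3, Extension.Cotangent.mk_eq_mk_iff_sub_mem] at h1
  change valK G' _ - valK G' _ ∈ _ at h1
  have h4 := hΛsq _ h1
  rw [coe_sum_ker, map_sub, map_sum, coe_mulK] at h4
  simp only [coe_mulK, pderiv_map, Lam_map_mul, ← C_pow] at h4
  have h6 : valK G' ⟨phi (A' := A') x, hxφ⟩ = MvPolynomial.map (algebraMap k A') x := rfl
  rw [h6, Lam_C_mul_map, hlam, one_smul] at h4
  -- now downstairs
  have h5 : ∀ i ∈ t, (G₀.cotangentSpaceBasis.repr ((1 : B₀) ⊗ₜ[G₀.toExtension.Ring]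
      (KaehlerDifferential.D k G₀.toExtension.Ring) x)) i • l₀ (G₀.cotangentSpaceBasis i) =
      Extension.Cotangent.mk (mulK G₀ (pderiv i x) (z i)) := by
    intro i _
    rw [Generators.cotangentSpaceBasis_repr_one_tmul, hl₀, aeval_smul_mk]
  rw [Finset.sum_congr rfl h5, ← map_sum, Extension.Cotangent.mk_eq_mk_iff_sub_mem]
  change valK G₀ _ - valK G₀ _ ∈ _
  rw [coe_sum_ker]
  simp only [coe_mulK]
  exact h4

end Main

/-- **PKG-Z.** -/
theorem pkgZ : PkgZ.{w, u} := by
  intro k A' B₀ _ _ _ _ _ ι G₀ G' hG' a n lam hlam h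
  exact formallySmooth G₀ G' hG' a n lam hlam h

end Groth.Agent.R2.H32.RigZ
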