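import Mathlib
import Groth.Agent.S0415
import Groth.Prelude.Def_HTop2

/-!
# helper32: factoring a morphism out of a universal homeomorphism through a finite one

ns `Groth.Agent.R2.H32.UHFactor`.
-/

set_option autoImplicit false
universe u

namespace Groth.Agent.R2.H32.UHFactor

open AlgebraicGeometry CategoryTheory Limits

variable {T' T₁ T : Scheme.{u}}

/-- If `h` is surjective and `h ≫ π` is universally injective then so is `π`. -/
theorem universallyInjective_of_comp_surjective (h : T' ⟶ T₁) (π : T₁ ⟶ T) [Surjective h]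
    [UniversallyInjective (h ≫ π)] : UniversallyInjective π := by
  rw [UniversallyInjective.iff_diagonal]
  have hν : Surjective (pullback.diagonal (h ≫ π)) :=
    (UniversallyInjective.iff_diagonal _).mp inferInstance
  let m := pullback.map (h ≫ π) (h ≫ π) π π h h (𝟙 T) (by simp) (by simp)
  have e : pullback.diagonal (h ≫ π) ≫ m = h ≫ pullback.diagonal π := by
    apply pullback.hom_ext
    · rw [Category.assoc, Category.assoc, pullback.lift_fst, pullback.diagonal_fst,
        pullback.diagonal_fst_assoc, Category.comp_id]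
    · rw [Category.assoc, Category.assoc, pullback.lift_snd, pullback.diagonal_snd,
        pullback.diagonal_snd_assoc, Category.comp_id]
  have hm : Function.Surjective m := by
    rw [← Set.range_eq_univ, Scheme.Pullback.range_map]
    simp [h.surjective.range_eq]
  constructor
  intro z
  obtain ⟨w, rfl⟩ := hm z
  obtain ⟨t, rfl⟩ := hν.surj w
  exact ⟨h t, by rw [← Scheme.Hom.comp_apply, ← e, Scheme.Hom.comp_apply]⟩

/-- If `h` is surjective and `h ≫ π` induces isomorphisms on residue fields then so does `π`. -/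
theorem residueFieldsIso_of_comp_surjective (h : T' ⟶ T₁) (π : T₁ ⟶ T) [Surjective h]
    (H : HTop.ResidueFieldsIso (h ≫ π)) : HTop.ResidueFieldsIso π := by
  intro t₁
  obtain ⟨t', rfl⟩ := h.surjective t₁
  have h1 : IsIso ((h ≫ π).residueFieldMap t') := H t'
  rw [Scheme.residueFieldMap_comp] at h1
  have hinj : Function.Injective (h.residueFieldMap t') := (h.residueFieldMap t').hom.injective
  have hsurj : Function.Surjective (h.residueFieldMap t') := by
    intro z
    obtain ⟨w, hw⟩ := ((ConcreteCategory.isIso_iff_bijective _).mp h1).2 z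
    exact ⟨π.residueFieldMap (h t') w, hw⟩
  have h2 : IsIso (h.residueFieldMap t') :=
    (ConcreteCategory.isIso_iff_bijective _).mpr ⟨hinj, hsurj⟩
  exact @IsIso.of_isIso_comp_right _ _ _ _ _ _ (h.residueFieldMap t') h2 h1

/-- A morphism out of the source of a universal homeomorphism `ν : T' ⟶ T` to a separated scheme
locally of finite type over the base factors through a finite universal homeomorphism
`π : T₁ ⟶ T` (the scheme-theoretic image of the graph). -/
theorem exists_factor {S X T T' : Scheme.{u}} [X.IsSeparated] (fX : X ⟶ S)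
    [LocallyOfFiniteType fX] (fT : T ⟶ S) (ν : T' ⟶ T) (hν : FlatMor.IsUnivHomeo ν)
    (g : T' ⟶ X) (hg : g ≫ fX = ν ≫ fT) :
    ∃ (T₁ : Scheme.{u}) (π : T₁ ⟶ T) (_ : IsFinite π) (_ : FlatMor.IsUnivHomeo π) (g₁ : T₁ ⟶ X)
      (h : T' ⟶ T₁), h ≫ π = ν ∧ g₁ ≫ fX = π ≫ fT ∧ h ≫ g₁ = g ∧ Surjective h := by
  obtain ⟨hν1, hν2, hν3⟩ := (Groth.Agent.S0415.result ν).mp hν
  let γ : T' ⟶ pullback fX fT := pullback.lift g ν hg
  have hγT : γ ≫ pullback.snd fX fT = ν := pullback.lift_snd _ _ _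
  have hγX : γ ≫ pullback.fst fX fT = g := pullback.lift_fst _ _ _
  haveI : UniversallyClosed (γ ≫ pullback.snd fX fT) := by rw [hγT]; infer_instance
  haveI : UniversallyClosed γ := .of_comp_of_isSeparated γ (pullback.snd fX fT)
  let h : T' ⟶ γ.image := γ.toImage
  let ι : γ.image ⟶ pullback fX fT := γ.imageι
  have hι : h ≫ ι = γ := γ.toImage_imageι
  have hπ : h ≫ (ι ≫ pullback.snd fX fT) = ν := by rw [← Category.assoc, hι, hγT]
  haveI : UniversallyClosed (h ≫ ι) := by rw [hι]; infer_instance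
  haveI : UniversallyClosed h := .of_comp_of_isSeparated h ι
  haveI : Surjective h := inferInstance
  haveI : UniversallyClosed (h ≫ (ι ≫ pullback.snd fX fT)) := by rw [hπ]; infer_instance
  haveI : UniversallyClosed (ι ≫ pullback.snd fX fT) := .of_comp_surjective h _
  haveI : UniversallyInjective (h ≫ (ι ≫ pullback.snd fX fT)) := by rw [hπ]; exact hν2
  haveI : UniversallyInjective (ι ≫ pullback.snd fX fT) :=
    universallyInjective_of_comp_surjective h _
  haveI : IsProper (ι ≫ pullback.snd fX fT) := { }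
  haveI : IsFinite (ι ≫ pullback.snd fX fT) := .of_isProper_of_locallyQuasiFinite _
  haveI : Surjective (ι ≫ pullback.snd fX fT) := by
    constructor
    intro t
    obtain ⟨t', rfl⟩ := hν3.surj t
    exact ⟨h t', by rw [← Scheme.Hom.comp_apply, hπ]⟩
  refine ⟨γ.image, ι ≫ pullback.snd fX fT, inferInstance, ?_, ι ≫ pullback.fst fX fT, h, hπ, ?_,
    ?_, inferInstance⟩
  · rw [Groth.Agent.S0415.result]
    exact ⟨inferInstance, inferInstance, inferInstance⟩
  · rw [Category.assoc, Category.assoc, pullback.condition]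
  · rw [← Category.assoc, hι, hγX]

/-- Two factorizations through finite universal homeomorphisms are dominated by a third one
(the equalizer inside the fibre product). -/
theorem exists_dominating {X T T' T₁ T₂ : Scheme.{u}} [X.IsSeparated]
    (ν : T' ⟶ T) (hν : FlatMor.IsUnivHomeo ν)
    (π₁ : T₁ ⟶ T) (π₂ : T₂ ⟶ T) [IsFinite π₁] [IsFinite π₂]
    (hπ₁ : FlatMor.IsUnivHomeo π₁) (hπ₂ : FlatMor.IsUnivHomeo π₂)
    (g₁ : T₁ ⟶ X) (g₂ : T₂ ⟶ X) (h₁ : T' ⟶ T₁) (h₂ : T' ⟶ T₂)
    (e₁ : h₁ ≫ π₁ = ν) (e₂ : h₂ ≫ π₂ = ν) (e : h₁ ≫ g₁ = h₂ ≫ g₂) :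
    ∃ (T₃ : Scheme.{u}) (π₃ : T₃ ⟶ T) (_ : IsFinite π₃) (_ : FlatMor.IsUnivHomeo π₃)
      (a₁ : T₃ ⟶ T₁) (a₂ : T₃ ⟶ T₂) (k : T' ⟶ T₃),
      a₁ ≫ π₁ = π₃ ∧ a₂ ≫ π₂ = π₃ ∧ a₁ ≫ g₁ = a₂ ≫ g₂ ∧ k ≫ π₃ = ν ∧ Surjective k := by
  obtain ⟨hν1, hν2, hν3⟩ := (Groth.Agent.S0415.result ν).mp hν
  obtain ⟨h11, h12, h13⟩ := (Groth.Agent.S0415.result π₁).mp hπ₁
  obtain ⟨h21, h22, h23⟩ := (Groth.Agent.S0415.result π₂).mp hπ₂
  let p₁ := pullback.fst π₁ π₂
  let p₂ := pullback.snd π₁ π₂
  let j := equalizer.ι (p₁ ≫ g₁) (p₂ ≫ g₂)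
  let l : T' ⟶ pullback π₁ π₂ := pullback.lift h₁ h₂ (e₁.trans e₂.symm)
  have hl1 : l ≫ p₁ = h₁ := pullback.lift_fst _ _ _
  have hl2 : l ≫ p₂ = h₂ := pullback.lift_snd _ _ _
  let k : T' ⟶ equalizer (p₁ ≫ g₁) (p₂ ≫ g₂) := equalizer.lift l (by
    rw [← Category.assoc, ← Category.assoc, hl1, hl2, e])
  have hk : k ≫ j = l := equalizer.lift_ι _ _
  have hkπ : k ≫ (j ≫ p₁ ≫ π₁) = ν := by
    rw [← Category.assoc, hk, ← Category.assoc, hl1, e₁]
  have hUI : UniversallyInjective (j ≫ p₁ ≫ π₁) := by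
    have hp : UniversallyInjective p₁ := MorphismProperty.pullback_fst _ _ h22
    have hj : UniversallyInjective j := inferInstance
    exact MorphismProperty.comp_mem _ _ _ hj (MorphismProperty.comp_mem _ _ _ hp h12)
  have hS : Surjective (j ≫ p₁ ≫ π₁) := by
    constructor
    intro t
    obtain ⟨t', rfl⟩ := hν3.surj t
    exact ⟨k t', by rw [← Scheme.Hom.comp_apply, hkπ]⟩
  have hkS : Surjective k := by
    constructor
    intro z
    obtain ⟨t', ht'⟩ := hν3.surj ((j ≫ p₁ ≫ π₁) z)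
    refine ⟨t', (j ≫ p₁ ≫ π₁).injective ?_⟩
    rw [← Scheme.Hom.comp_apply, hkπ, ht']
  refine ⟨_, j ≫ p₁ ≫ π₁, inferInstance, ?_, j ≫ p₁, j ≫ p₂, k, by rw [Category.assoc], ?_, ?_,
    hkπ, hkS⟩
  · rw [Groth.Agent.S0415.result]
    exact ⟨inferInstance, hUI, hS⟩
  · rw [Category.assoc, ← pullback.condition]
  · rw [Category.assoc, Category.assoc]
    exact equalizer.condition _ _

end Groth.Agent.R2.H32.UHFactor
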