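import Mathlib
import Groth.Agent.R2.H32AWNProps
import Groth.Agent.R2.H32UHFactor
import Groth.Agent.Lib.Helper20UHStep
import Groth.Agent.Lib.Helper20EtaPtSN
import Groth.Agent.Lib.Helper11RedCl
import Groth.Agent.S7421
import Groth.Agent.S7420

/-!
# helper32: seminormal schemes and seminormalizations

ns `Groth.Agent.R2.H32.SN`.
-/

set_option autoImplicit false
universe u

namespace Groth.Agent.R2.H32.SN

open Groth.Agent.Lib.Helper20.AWN Groth.Agent.R2.H32.AWNRing Groth.Agent.R2.H32.AWNScheme
open Groth.Agent.R2.H32.AWNProps Groth.Agent.R2.H32.UHFactor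
open AlgebraicGeometry CategoryTheory Limits

section Ring

variable {B W : Type u} [CommRing B] [CommRing W]

theorem isReduced_of_isSeminormalRing (hB : HTop.IsSeminormalRing B) : IsReduced B := by
  constructor
  intro b hb
  have key : ∀ c : B, c ^ 2 = 0 → c = 0 := by
    intro c hc
    have hc3 : c ^ 3 = 0 := by rw [pow_succ, hc, zero_mul]
    obtain ⟨a, -, huniq⟩ := hB 0 0 (by ring)
    have h1 : c = a := huniq c ⟨hc.symm, hc3.symm⟩
    have h2 : (0 : B) = a := huniq 0 ⟨by ring, by ring⟩
    rw [h1, ← h2]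
  obtain ⟨n, hn⟩ := hb
  induction n using Nat.strong_induction_on generalizing b with
  | _ n ih =>
    rcases (show n = 0 ∨ n = 1 ∨ 2 ≤ n by omega) with rfl | rfl | h2
    · rw [pow_zero] at hn
      have : b = b * 1 := (mul_one b).symm
      rw [this, hn, mul_zero]
    · rwa [pow_one] at hn
    · have h3 : (b ^ (n - 1)) ^ 2 = 0 := by
        rw [← pow_mul]
        have : (n - 1) * 2 = n + (n - 2) := by omega
        rw [this, pow_add, hn, zero_mul]
      exact ih (n - 1) (by omega) b (key _ h3)

/-- A universal homeomorphism with trivial residue field extensions from a seminormal ring to a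
reduced ring is bijective. -/
theorem bijective_of_UH_of_isSeminormalRing (χ : B →+* W) (hχ : UH χ)
    (hres : ∀ Q : PrimeSpectrum W, Function.Surjective (Ideal.ResidueField.map
      (PrimeSpectrum.comap χ Q).asIdeal Q.asIdeal χ rfl))
    (hB : HTop.IsSeminormalRing B) [IsReduced W] : Function.Bijective χ := by
  haveI : IsReduced B := isReduced_of_isSeminormalRing hB
  have hinj : Function.Injective χ := by
    rw [injective_iff_map_eq_zero]
    intro b hb
    have h1 : b ∈ nilradical B := by
      rw [nilradical_eq_sInf, Ideal.mem_sInf]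
      intro P hP
      obtain ⟨Q, hQ⟩ := hχ.2.1 ⟨P, hP⟩
      have h1 : b ∈ (PrimeSpectrum.comap χ Q).asIdeal := by
        show χ b ∈ Q.asIdeal
        rw [hb]
        exact zero_mem _
      rw [hQ] at h1
      exact h1
    rw [nilradical_eq_zero] at h1
    exact h1
  refine ⟨hinj, ?_⟩
  letI := χ.toAlgebra
  have hmem : ∀ w : W, w ∈ (⊥ : Subalgebra B W) ↔ w ∈ χ.range := by
    intro w
    rw [Algebra.mem_bot]
    rfl
  have hι_int : (algebraMap (⊥ : Subalgebra B W) W).IsIntegral := by
    intro w
    exact (show IsIntegral B w from hχ.1 w).tower_top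
  have hUH' : UH (algebraMap (⊥ : Subalgebra B W) W) :=
    UH_of_comp_right (algebraMap B (⊥ : Subalgebra B W)) (algebraMap (⊥ : Subalgebra B W) W)
      Subtype.val_injective hι_int hχ
  have hres' : ∀ Q : PrimeSpectrum W, Function.Surjective (Ideal.ResidueField.map
      (PrimeSpectrum.comap (algebraMap (⊥ : Subalgebra B W) W) Q).asIdeal Q.asIdeal
      (algebraMap (⊥ : Subalgebra B W) W) rfl) := by
    intro Q
    have hcomp := Groth.Agent.Lib.Helper20.EtaPt.residueField_map_comp
      (PrimeSpectrum.comap χ Q).asIdeal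
      (PrimeSpectrum.comap (algebraMap (⊥ : Subalgebra B W) W) Q).asIdeal Q.asIdeal
      (algebraMap B (⊥ : Subalgebra B W)) (algebraMap (⊥ : Subalgebra B W) W) rfl rfl rfl
    intro z
    obtain ⟨y, hy⟩ := hres Q z
    refine ⟨Ideal.ResidueField.map _ _ (algebraMap B (⊥ : Subalgebra B W)) rfl y, ?_⟩
    rw [← hy]
    exact (RingHom.congr_fun hcomp y).symm
  have htop : (⊥ : Subalgebra B W) = ⊤ := by
    apply eq_top_of_closed_of_residue _ hUH' hres'
    intro w h2 h3
    obtain ⟨x, hx⟩ := (hmem _).mp h2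
    obtain ⟨y, hy⟩ := (hmem _).mp h3
    have hxy : x ^ 3 = y ^ 2 := by
      apply hinj
      rw [map_pow, map_pow, hx, hy]
      ring
    obtain ⟨a, ⟨ha2, ha3⟩, -⟩ := hB x y hxy
    have : χ a = w := by
      apply eq_of_sq_cube_of_isReduced
      · rw [← map_pow, ← ha2, hx]
      · rw [← map_pow, ← ha3, hy]
    exact (hmem w).mpr ⟨a, this⟩
  intro w
  have hw : w ∈ (⊥ : Subalgebra B W) := htop ▸ Algebra.mem_top
  exact (hmem w).mp hw

end Ring

section Scheme

variable {X Y : Scheme.{u}} (π : Y ⟶ X)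

/-- Residue-field isomorphisms pass to the affine charts of an affine morphism. -/
theorem residueFieldsIso_SpecMap_app [IsAffineHom π] (hres : HTop.ResidueFieldsIso π)
    (U : X.affineOpens) : HTop.ResidueFieldsIso (Spec.map (π.app U.1)) := by
  intro q
  have H : (U.2.preimage π).fromSpec ≫ π = Spec.map (π.app U.1) ≫ U.2.fromSpec := by
    rw [Scheme.Hom.app_eq_appLE, IsAffineOpen.SpecMap_appLE_fromSpec]
  have h1 : IsIso (((U.2.preimage π).fromSpec ≫ π).residueFieldMap q) := by
    rw [Scheme.residueFieldMap_comp]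
    exact @IsIso.comp_isIso _ _ _ _ _ _ _ (hres ((U.2.preimage π).fromSpec q)) inferInstance
  rw [H, Scheme.residueFieldMap_comp] at h1
  exact @IsIso.of_isIso_comp_left _ _ _ _ _ (U.2.fromSpec.residueFieldMap _) _ inferInstance h1

/-- A universal homeomorphism inducing isomorphisms on residue fields from a reduced scheme to a
seminormal scheme is an isomorphism. -/
theorem isIso_of_isUnivHomeo_of_isSeminormal (hπ : FlatMor.IsUnivHomeo π)
    (hres : HTop.ResidueFieldsIso π) [IsReduced Y] (hX : HTop.IsSeminormal X) : IsIso π := by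
  haveI := isAffineHom_of_isUnivHomeo π hπ
  let ι := {U : X.affineOpens // HTop.IsSeminormalRing Γ(X, U.1)}
  have hcov : ⨆ i : ι, (i.1.1 : X.Opens) = ⊤ := by
    rw [eq_top_iff]
    intro x _
    obtain ⟨U, hxU, hU⟩ := hX x
    exact TopologicalSpace.Opens.mem_iSup.mpr ⟨⟨U, hU⟩, hxU⟩
  change MorphismProperty.isomorphisms Scheme π
  rw [IsZariskiLocalAtTarget.iff_of_iSup_eq_top (P := .isomorphisms Scheme) _ hcov]
  intro i
  change IsIso (π ∣_ i.1.1)
  rw [isIso_morphismRestrict_iff_isIso_app π i.1.2]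
  have hres' := residueFieldsIso_SpecMap_app π hres i.1
  have hbij := bijective_of_UH_of_isSeminormalRing (π.app i.1.1).hom (UH_app π hπ i.1)
    (fun Q => ((Groth.Agent.Lib.Helper20.EtaPt.isIso_residueFieldMap_iff (π.app i.1.1) Q).mp
      (hres' Q)).2) i.2
  exact (ConcreteCategory.isIso_iff_bijective _).mpr hbij

theorem residueFieldsIso_comp {Z : Scheme.{u}} (h : Z ⟶ Y) (hh : HTop.ResidueFieldsIso h)
    (hπ : HTop.ResidueFieldsIso π) : HTop.ResidueFieldsIso (h ≫ π) := by
  intro z
  rw [Scheme.residueFieldMap_comp]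
  exact @IsIso.comp_isIso _ _ _ _ _ _ _ (hπ (h z)) (hh z)

theorem residueFieldsIso_of_isIso [IsIso π] : HTop.ResidueFieldsIso π := fun _ => inferInstance

theorem residueFieldsIso_of_isClosedImmersion [IsClosedImmersion π] :
    HTop.ResidueFieldsIso π := by
  intro y
  rw [ConcreteCategory.isIso_iff_bijective]
  refine ⟨(π.residueFieldMap y).hom.injective, ?_⟩
  intro w
  obtain ⟨s, rfl⟩ := Y.residue_surjective y w
  obtain ⟨t, rfl⟩ := π.stalkMap_surjective y s
  refine ⟨X.residue (π y) t, ?_⟩
  exact congrArg (fun f => f.hom t) (Scheme.residue_residueFieldMap π y)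

variable (X) in
/-- The reduction of a scheme. -/
noncomputable def red : Scheme.{u} :=
  (Scheme.IdealSheafData.vanishingIdeal (⊤ : TopologicalSpace.Closeds X)).subscheme

variable (X) in
/-- The closed immersion of the reduction. -/
noncomputable def redι : red X ⟶ X :=
  (Scheme.IdealSheafData.vanishingIdeal (⊤ : TopologicalSpace.Closeds X)).subschemeι

instance : IsClosedImmersion (redι X) :=
  inferInstanceAs (IsClosedImmersion
    (Scheme.IdealSheafData.vanishingIdeal (⊤ : TopologicalSpace.Closeds X)).subschemeι)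

instance : IsReduced (red X) :=
  Groth.Agent.Lib.Helper11RedCl.isReduced_subscheme_vanishingIdeal _

instance : Surjective (redι X) := by
  constructor
  rw [← Set.range_eq_univ]
  exact Groth.Agent.Lib.Helper11RedCl.range_subschemeι_vanishingIdeal _

theorem isUnivHomeo_redι : FlatMor.IsUnivHomeo (redι X) := by
  rw [Groth.Agent.S0415.result]
  exact ⟨inferInstance, inferInstance, inferInstance⟩

/-- The source of a seminormalization is reduced. -/
theorem isReduced_of_isSeminormalization {X' : Scheme.{u}} (ν : X' ⟶ X)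
    (hν : HTop.IsSeminormalization ν) : IsReduced X' := by
  have hUH : FlatMor.IsUnivHomeo (redι X' ≫ ν) := isUnivHomeo_comp _ _ isUnivHomeo_redι hν.1.1
  have hres : HTop.ResidueFieldsIso (redι X' ≫ ν) :=
    residueFieldsIso_comp ν (redι X') (residueFieldsIso_of_isClosedImmersion _) hν.1.2
  obtain ⟨s, hs, -⟩ := hν.2 _ (redι X' ≫ ν) hUH hres
  have hs' : s ≫ redι X' ≫ ν = ν := hs
  have hid : s ≫ redι X' = 𝟙 X' :=
    (hν.2 X' ν hν.1.1 hν.1.2).unique (by show (s ≫ redι X') ≫ ν = ν; rw [Category.assoc, hs'])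
      (Category.id_comp _)
  haveI : IsSplitEpi (redι X') := ⟨⟨s, hid⟩⟩
  haveI : IsIso (redι X') := isIso_of_mono_of_isSplitEpi _
  exact isReduced_of_isOpenImmersion (inv (redι X'))

/-- If `X` is seminormal then any seminormalization of `X` is an isomorphism. -/
theorem isIso_of_isSeminormalization_of_isSeminormal {X' : Scheme.{u}} (ν : X' ⟶ X)
    (hν : HTop.IsSeminormalization ν) (hX : HTop.IsSeminormal X) : IsIso ν := by
  haveI := isReduced_of_isSeminormalization ν hν
  exact isIso_of_isUnivHomeo_of_isSeminormal ν hν.1.1 hν.1.2 hX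

/-- Lifting property for field-valued points. -/
def FieldPointsLift (π : Y ⟶ X) : Prop :=
  ∀ (K : Type u) [Field K] (a : Spec (.of K) ⟶ X), ∃ b : Spec (.of K) ⟶ Y, b ≫ π = a

theorem fieldPointsLift_of_residueFieldsIso [Surjective π] (hres : HTop.ResidueFieldsIso π) :
    FieldPointsLift π := by
  intro K _ a
  obtain ⟨⟨x, φ⟩, rfl⟩ := (Scheme.SpecToEquivOfField K X).symm.surjective a
  obtain ⟨y, rfl⟩ := π.surjective x
  haveI := hres y
  refine ⟨Spec.map (inv (π.residueFieldMap y) ≫ φ) ≫ Y.fromSpecResidueField y, ?_⟩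
  show _ = Spec.map φ ≫ X.fromSpecResidueField (π y)
  rw [Category.assoc, ← Scheme.Hom.SpecMap_residueFieldMap_fromSpecResidueField,
    ← Spec.map_comp_assoc, IsIso.hom_inv_id_assoc]

theorem fieldPointsLift_comp {Z : Scheme.{u}} (h : Z ⟶ Y) (hh : FieldPointsLift h)
    (hπ : FieldPointsLift π) : FieldPointsLift (h ≫ π) := by
  intro K _ a
  obtain ⟨b, hb⟩ := hπ K a
  obtain ⟨c, hc⟩ := hh K b
  exact ⟨c, by rw [← Category.assoc, hc, hb]⟩

theorem fieldPointsLift_of_isPullback {P Z : Scheme.{u}} {fst : P ⟶ Z} {snd : P ⟶ Y} {g : Z ⟶ X}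
    (sq : IsPullback fst snd g π) (hπ : FieldPointsLift π) : FieldPointsLift fst := by
  intro K _ a
  obtain ⟨b, hb⟩ := hπ K (a ≫ g)
  exact ⟨sq.lift a b hb.symm, sq.lift_fst _ _ _⟩

theorem residueFieldsIso_of_fieldPointsLift (hinj : Function.Injective π)
    (hπ : FieldPointsLift π) : HTop.ResidueFieldsIso π := by
  intro y
  obtain ⟨b, hb⟩ := hπ (X.residueField (π y)) (X.fromSpecResidueField (π y))
  obtain ⟨⟨y', σ⟩, rfl⟩ := (Scheme.SpecToEquivOfField _ Y).symm.surjective b
  have hb' : (Spec.map σ ≫ Y.fromSpecResidueField y') ≫ π = X.fromSpecResidueField (π y) := hb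
  have hy : y' = y := by
    apply hinj
    have := congrArg (fun f => f.base (IsLocalRing.closedPoint _)) hb'
    simp only [Scheme.Hom.comp_base, TopCat.hom_comp, ContinuousMap.comp_apply,
      Scheme.fromSpecResidueField_apply] at this
    exact this.trans (Scheme.fromSpecResidueField_apply _ _)
  subst hy
  rw [Category.assoc, ← Scheme.Hom.SpecMap_residueFieldMap_fromSpecResidueField,
    ← Spec.map_comp_assoc] at hb'
  have h1 : Spec.map (π.residueFieldMap y' ≫ σ) = 𝟙 _ := by
    rw [← cancel_mono (X.fromSpecResidueField (π y')), hb', Category.id_comp]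
  have h2 : π.residueFieldMap y' ≫ σ = 𝟙 _ := by
    apply Spec.map_injective
    rw [h1, Spec.map_id]
    rfl
  rw [ConcreteCategory.isIso_iff_bijective]
  refine ⟨(π.residueFieldMap y').hom.injective, ?_⟩
  intro w
  refine ⟨σ.hom w, ?_⟩
  have hσ : Function.Injective σ.hom := σ.hom.injective
  apply hσ
  exact congrArg (fun f => f.hom (σ.hom w)) h2

/-- Two morphisms from a reduced scheme into the source of a separated universally injective
morphism which agree after composing with it are equal. -/
theorem hom_ext_of_isReduced {T : Scheme.{u}} [IsReduced T] [IsSeparated π]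
    [UniversallyInjective π] (g₁ g₂ : T ⟶ Y) (e : g₁ ≫ π = g₂ ≫ π) : g₁ = g₂ := by
  haveI : Surjective (pullback.diagonal π) := (UniversallyInjective.iff_diagonal π).mp inferInstance
  obtain ⟨l₁, hl₁⟩ := Groth.Agent.Lib.Helper11RedCl.exists_lift_of_range_subset
    (pullback.lift g₁ g₂ e) ⊤ (by simp)
  obtain ⟨l₂, hl₂⟩ := Groth.Agent.Lib.Helper11RedCl.exists_lift_of_subset_range
    (pullback.diagonal π) ⊤ (by
      rw [(pullback.diagonal π).surjective.range_eq]; exact Set.subset_univ _)
  have hx : (l₁ ≫ l₂) ≫ pullback.diagonal π = pullback.lift g₁ g₂ e := by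
    rw [Category.assoc, hl₂, hl₁]
  have h1 : l₁ ≫ l₂ = g₁ := by
    have := congrArg (· ≫ pullback.fst π π) hx
    simp only [Category.assoc, pullback.diagonal_fst, Category.comp_id, pullback.lift_fst] at this
    exact this
  have h2 : l₁ ≫ l₂ = g₂ := by
    have := congrArg (· ≫ pullback.snd π π) hx
    simp only [Category.assoc, pullback.diagonal_snd, Category.comp_id, pullback.lift_snd] at this
    exact this
  exact h1.symm.trans h2

/-- A universal homeomorphism inducing isomorphisms on residue fields whose source is seminormal is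
a seminormalization. -/
theorem isSeminormalization_of_isSeminormal {Z : Scheme.{u}} (ν : Z ⟶ X)
    (hν : FlatMor.IsUnivHomeo ν) (hres : HTop.ResidueFieldsIso ν) (hZ : HTop.IsSeminormal Z) :
    HTop.IsSeminormalization ν := by
  refine ⟨⟨hν, hres⟩, fun Y π hπ hπres => ?_⟩
  obtain ⟨hπ1, hπ2, hπ3⟩ := (Groth.Agent.S0415.result π).mp hπ
  haveI : IsReduced Z := Groth.Agent.S7421.result.2 Z hZ
  -- the reduced fibre product
  let p₁ := pullback.fst ν π
  let p₂ := pullback.snd ν π
  have hp₁ : FlatMor.IsUnivHomeo p₁ := by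
    have : (FlatMor.IsUnivHomeo : MorphismProperty Scheme.{u}).IsStableUnderBaseChange := by
      unfold FlatMor.IsUnivHomeo; infer_instance
    exact MorphismProperty.pullback_fst (P := FlatMor.IsUnivHomeo) ν π hπ
  let q := redι (pullback ν π) ≫ p₁
  have hq : FlatMor.IsUnivHomeo q := isUnivHomeo_comp _ _ isUnivHomeo_redι hp₁
  have hqlift : FieldPointsLift q := by
    refine fieldPointsLift_comp p₁ (redι _) ?_ ?_
    · exact fieldPointsLift_of_residueFieldsIso _ (residueFieldsIso_of_isClosedImmersion _)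
    · exact fieldPointsLift_of_isPullback π (IsPullback.of_hasPullback ν π)
        (fieldPointsLift_of_residueFieldsIso π hπres)
  have hqinj : Function.Injective q := by
    haveI := ((Groth.Agent.S0415.result q).mp hq).2.1
    exact q.injective
  have hqres : HTop.ResidueFieldsIso q := residueFieldsIso_of_fieldPointsLift q hqinj hqlift
  haveI : IsIso q := isIso_of_isUnivHomeo_of_isSeminormal q hq hqres hZ
  refine ⟨inv q ≫ redι _ ≫ p₂, ?_, fun h hh => ?_⟩
  · show (inv q ≫ redι _ ≫ p₂) ≫ π = ν
    rw [Category.assoc, Category.assoc, ← pullback.condition, ← Category.assoc (redι _),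
      IsIso.inv_hom_id_assoc]
  · have hh' : h ≫ π = ν := hh
    apply hom_ext_of_isReduced π
    rw [hh', Category.assoc, Category.assoc, ← pullback.condition, ← Category.assoc (redι _),
      IsIso.inv_hom_id_assoc]

theorem isSeminormalRing_of_ringEquiv {B W : Type u} [CommRing B] [CommRing W] (e : B ≃+* W)
    (hW : HTop.IsSeminormalRing W) : HTop.IsSeminormalRing B := by
  intro x y hxy
  have hxy' : e x ^ 3 = e y ^ 2 := by rw [← map_pow, ← map_pow, hxy]
  obtain ⟨a, ⟨ha2, ha3⟩, huniq⟩ := hW (e x) (e y) hxy'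
  refine ⟨e.symm a, ⟨?_, ?_⟩, ?_⟩
  · apply e.injective; rw [map_pow, e.apply_symm_apply]; exact ha2
  · apply e.injective; rw [map_pow, e.apply_symm_apply]; exact ha3
  · rintro a' ⟨h2, h3⟩
    have := huniq (e a') ⟨by rw [h2, map_pow], by rw [h3, map_pow]⟩
    rw [← this, e.symm_apply_apply]

/-- An open subscheme of a seminormal scheme is seminormal. -/
theorem isSeminormal_of_isOpenImmersion {Z : Scheme.{u}} (j : Z ⟶ X) [IsOpenImmersion j]
    (hX : HTop.IsSeminormal X) : HTop.IsSeminormal Z := by
  rw [(Groth.Agent.S7420.result Z).1]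
  intro W
  have h1 := (Groth.Agent.S7420.result X).1.mp hX ⟨j ''ᵁ W.1, W.2.image_of_isOpenImmersion j⟩
  exact isSeminormalRing_of_ringEquiv (j.appIso W.1).symm.commRingCatIsoToRingEquiv h1

theorem isUnivHomeo_morphismRestrict (hπ : FlatMor.IsUnivHomeo π) (U : X.Opens) :
    FlatMor.IsUnivHomeo (π ∣_ U) := by
  have : (FlatMor.IsUnivHomeo : MorphismProperty Scheme.{u}).IsStableUnderBaseChange := by
    unfold FlatMor.IsUnivHomeo; infer_instance
  exact MorphismProperty.of_isPullback (P := FlatMor.IsUnivHomeo)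
    (isPullback_morphismRestrict π U).flip hπ

theorem residueFieldsIso_morphismRestrict (hres : HTop.ResidueFieldsIso π) (U : X.Opens) :
    HTop.ResidueFieldsIso (π ∣_ U) := by
  intro q
  have H : (π ∣_ U) ≫ U.ι = (π ⁻¹ᵁ U).ι ≫ π := morphismRestrict_ι π U
  have h1 : IsIso (((π ⁻¹ᵁ U).ι ≫ π).residueFieldMap q) := by
    rw [Scheme.residueFieldMap_comp]
    exact @IsIso.comp_isIso _ _ _ _ _ _ _ (hres ((π ⁻¹ᵁ U).ι q)) inferInstance
  rw [← H, Scheme.residueFieldMap_comp] at h1
  exact @IsIso.of_isIso_comp_left _ _ _ _ _ (U.ι.residueFieldMap _) _ inferInstance h1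

/-- The restriction of a seminormalization with seminormal source to an open is a
seminormalization. -/
theorem isSeminormalization_morphismRestrict {X' : Scheme.{u}} (ν : X' ⟶ X)
    (hν : HTop.IsSeminormalization ν) (hX' : HTop.IsSeminormal X') (U : X.Opens) :
    HTop.IsSeminormalization (ν ∣_ U) :=
  isSeminormalization_of_isSeminormal _ (isUnivHomeo_morphismRestrict ν hν.1.1 U)
    (residueFieldsIso_morphismRestrict ν hν.1.2 U)
    (isSeminormal_of_isOpenImmersion (ν ⁻¹ᵁ U).ι hX')

end Scheme

end Groth.Agent.R2.H32.SN
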