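import Mathlib
import Groth.Agent.R2.H32SN
import Groth.Agent.Lib.Helper20UHStep

/-!
# helper32: a seminormality criterion for membership in the image of a universal homeomorphism

ns `Groth.Agent.R2.H32.SNCrit`: `mem_range_of_residue`.
-/

set_option autoImplicit false
universe u

namespace Groth.Agent.R2.H32.SNCrit

open Groth.Agent.Lib.Helper20.AWN Groth.Agent.R2.H32.SN

/-- Every element of a residue field is a quotient of images of ring elements. -/
theorem exists_div_eq {R : Type u} [CommRing R] (I : Ideal R) [I.IsPrime] (z : I.ResidueField) :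
    ∃ x y : R, y ∉ I ∧ z = algebraMap R I.ResidueField x / algebraMap R I.ResidueField y := by
  obtain ⟨xb, yb, hy, rfl⟩ := IsFractionRing.div_surjective (A := R ⧸ I) z
  obtain ⟨x, rfl⟩ := Ideal.Quotient.mk_surjective xb
  obtain ⟨y, rfl⟩ := Ideal.Quotient.mk_surjective yb
  refine ⟨x, y, ?_, rfl⟩
  intro hyI
  have : (Ideal.Quotient.mk I y) = 0 := Ideal.Quotient.eq_zero_iff_mem.mpr hyI
  rw [this] at hy
  exact (nonZeroDivisors.ne_zero hy) rfl

variable {C C' : Type u} [CommRing C] [CommRing C']

/-- Seminormality criterion: for a universal homeomorphism `Spec C' → Spec C` with `C` seminormal and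
`C'` reduced, an element of `C'` whose value at every prime comes from the residue field below lies in
the image of `C`. -/
theorem mem_range_of_residue (χ : C →+* C') (hχ : UH χ) (hC : HTop.IsSeminormalRing C)
    [IsReduced C'] (c' : C')
    (hval : ∀ q : PrimeSpectrum C', ∃ a b : C, χ b ∉ q.asIdeal ∧ c' * χ b - χ a ∈ q.asIdeal) :
    c' ∈ Set.range χ := by
  let D : Subring C' := Subring.closure (Set.range χ ∪ {c'})
  have hχD : ∀ c, χ c ∈ D := fun c => Subring.subset_closure (Or.inl ⟨c, rfl⟩)
  have hc'D : c' ∈ D := Subring.subset_closure (Or.inr rfl)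
  let χD : C →+* D := χ.codRestrict D hχD
  let ι : D →+* C' := D.subtype
  have hι : Function.Injective ι := Subtype.val_injective
  have hcomp : ι.comp χD = χ := RingHom.ext fun _ => rfl
  have hιint : ι.IsIntegral := by
    intro x
    obtain ⟨p, hp, hpx⟩ := hχ.1 x
    refine ⟨p.map χD, hp.map χD, ?_⟩
    rw [Polynomial.eval₂_map, hcomp, hpx]
  have hUHD : UH χD := UH_of_comp_left χD ι hι hιint (by rwa [hcomp])
  have : IsReduced D := isReduced_of_injective ι hι
  have hsurjι : Function.Surjective (PrimeSpectrum.comap ι) :=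
    RingHom.IsIntegral.comap_surjective hιint hι
  have hres : ∀ Q : PrimeSpectrum D, Function.Surjective (Ideal.ResidueField.map
      (PrimeSpectrum.comap χD Q).asIdeal Q.asIdeal χD rfl) := by
    intro Q
    obtain ⟨q, rfl⟩ := hsurjι Q
    obtain ⟨a, b, hb, hab⟩ := hval q
    set Q := PrimeSpectrum.comap ι q with hQ
    set m := Ideal.ResidueField.map (PrimeSpectrum.comap χD Q).asIdeal Q.asIdeal χD rfl with hm
    have hmemQ : ∀ d : D, d ∈ Q.asIdeal ↔ (d : C') ∈ q.asIdeal := fun d => Iff.rfl
    -- images of elements of `D` lie in the field range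
    have key : ∀ (x : C') (hx : x ∈ D), algebraMap D Q.asIdeal.ResidueField ⟨x, hx⟩ ∈ m.fieldRange := by
      intro x hx
      induction hx using Subring.closure_induction with
      | mem x hx =>
        rcases hx with ⟨c, rfl⟩ | hx'
        · refine ⟨algebraMap C _ c, ?_⟩
          rw [hm, Ideal.ResidueField.map_algebraMap]
          rfl
        · have hxc : c' = x := hx'.symm
          subst hxc
          have h1 : algebraMap D Q.asIdeal.ResidueField (⟨c', hc'D⟩ * χD b - χD a) = 0 := by
            rw [Ideal.algebraMap_residueField_eq_zero, hmemQ]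
            exact hab
          have h2 : algebraMap D Q.asIdeal.ResidueField (χD b) ≠ 0 := by
            rw [Ne, Ideal.algebraMap_residueField_eq_zero, hmemQ]
            exact hb
          rw [map_sub, map_mul, sub_eq_zero] at h1
          have h3 : algebraMap D Q.asIdeal.ResidueField ⟨c', hc'D⟩ =
              algebraMap D Q.asIdeal.ResidueField (χD a) /
                algebraMap D Q.asIdeal.ResidueField (χD b) := by
            rw [eq_div_iff h2, h1]
          rw [h3]
          refine div_mem ?_ ?_
          · exact ⟨algebraMap C _ a, by rw [hm, Ideal.ResidueField.map_algebraMap]⟩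
          · exact ⟨algebraMap C _ b, by rw [hm, Ideal.ResidueField.map_algebraMap]⟩
      | zero =>
        have : (⟨0, D.zero_mem⟩ : D) = 0 := rfl
        rw [this, map_zero]; exact zero_mem _
      | one =>
        have : (⟨1, D.one_mem⟩ : D) = 1 := rfl
        rw [this, map_one]; exact one_mem _
      | add x y hx hy ihx ihy =>
        have : (⟨x + y, D.add_mem hx hy⟩ : D) = ⟨x, hx⟩ + ⟨y, hy⟩ := rfl
        rw [this, map_add]; exact add_mem ihx ihy
      | neg x hx ihx =>
        have : (⟨-x, D.neg_mem hx⟩ : D) = -⟨x, hx⟩ := rfl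
        rw [this, map_neg]; exact neg_mem ihx
      | mul x y hx hy ihx ihy =>
        have : (⟨x * y, D.mul_mem hx hy⟩ : D) = ⟨x, hx⟩ * ⟨y, hy⟩ := rfl
        rw [this, map_mul]; exact mul_mem ihx ihy
    intro z
    obtain ⟨x, y, -, rfl⟩ := exists_div_eq Q.asIdeal z
    have hz : algebraMap D Q.asIdeal.ResidueField x / algebraMap D Q.asIdeal.ResidueField y ∈
        m.fieldRange := div_mem (key x.1 x.2) (key y.1 y.2)
    exact hz
  have hbij := bijective_of_UH_of_isSeminormalRing χD hUHD hres hC
  obtain ⟨c, hc⟩ := hbij.2 ⟨c', hc'D⟩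
  exact ⟨c, congrArg Subtype.val hc⟩

end Groth.Agent.R2.H32.SNCrit
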