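import Mathlib
import Groth.Agent.R2.H32SN

/-!
# helper32: descent of functions along proper surjective maps onto seminormal schemes

ns `Groth.Agent.R2.H32.SNDesc`.
-/

set_option autoImplicit false
universe u

namespace Groth.Agent.R2.H32.SNDesc

open Groth.Agent.R2.H32.SN
open AlgebraicGeometry CategoryTheory Limits TensorProduct

/-- Linear algebra: an element `e` of a field extension `L/K` with `e ⊗ 1 = 1 ⊗ e` in `L ⊗_K L`
lies in `K`. -/
theorem mem_range_of_tmul_eq {K L : Type u} [Field K] [Field L] [Algebra K L] (e : L)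
    (h : e ⊗ₜ[K] (1 : L) = (1 : L) ⊗ₜ[K] e) : e ∈ Set.range (algebraMap K L) := by
  obtain ⟨φ, hφ⟩ := LinearMap.exists_leftInverse_of_injective (Algebra.linearMap K L)
    (LinearMap.ker_eq_bot.mpr (algebraMap K L).injective)
  have h1 : φ 1 = 1 := by
    have := congrArg (fun f => f (1 : K)) hφ
    simpa using this
  have := congrArg (fun z => TensorProduct.lid K L (LinearMap.rTensor L φ z)) h
  simp only [LinearMap.rTensor_tmul, TensorProduct.lid_tmul, h1, one_smul] at this
  exact ⟨φ e, by rw [Algebra.smul_def, mul_one] at this; exact this⟩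

/-- Lifting a morphism from a reduced scheme through a closed immersion. -/
theorem exists_lift_of_range_subset_range {T W X : Scheme.{u}} [IsReduced T] (x : T ⟶ X)
    (j : W ⟶ X) [IsClosedImmersion j] (h : Set.range x ⊆ Set.range j) :
    ∃ l : T ⟶ W, l ≫ j = x := by
  have hker : j.ker ≤ x.ker := by
    rw [Groth.Agent.Lib.Helper11RedCl.ker_eq_of_isReduced x,
      ← Scheme.IdealSheafData.le_support_iff_le_vanishingIdeal,
      ← SetLike.coe_subset_coe, Scheme.Hom.support_ker]
    exact closure_mono h
  exact ⟨IsClosedImmersion.lift j x hker, IsClosedImmersion.lift_fac j x hker⟩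

/-- The value of a descent datum at a point comes from the residue field of the image point. -/
theorem exists_value {X Y : Scheme.{u}} (π : Y ⟶ X) (s : Γ(Y, ⊤))
    (hs : (pullback.fst π π).appTop s = (pullback.snd π π).appTop s) (y : Y) :
    ∃ c : X.residueField (π y), (π.residueFieldMap y).hom c =
      (Scheme.ΓSpecIso (Y.residueField y)).hom ((Y.fromSpecResidueField y).appTop s) := by
  letI : Algebra (X.residueField (π y)) (Y.residueField y) := (π.residueFieldMap y).hom.toAlgebra
  let K := X.residueField (π y)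
  let L := Y.residueField y
  let R : CommRingCat.{u} := CommRingCat.of (L ⊗[K] L)
  let i₁ : L ⟶ R := CommRingCat.ofHom (Algebra.TensorProduct.includeLeft (R := K) (S := K) (A := L) (B := L)).toRingHom
  let i₂ : L ⟶ R := CommRingCat.ofHom (Algebra.TensorProduct.includeRight (R := K) (A := L) (B := L)).toRingHom
  let ybar := Y.fromSpecResidueField y
  have hi : π.residueFieldMap y ≫ i₁ = π.residueFieldMap y ≫ i₂ := by
    ext k
    show (algebraMap K L k) ⊗ₜ[K] (1 : L) = (1 : L) ⊗ₜ[K] (algebraMap K L k)
    rw [Algebra.algebraMap_eq_smul_one, TensorProduct.smul_tmul]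
  have hπ : (Spec.map i₁ ≫ ybar) ≫ π = (Spec.map i₂ ≫ ybar) ≫ π := by
    rw [Category.assoc, Category.assoc,
      ← Scheme.Hom.SpecMap_residueFieldMap_fromSpecResidueField, ← Spec.map_comp_assoc,
      ← Spec.map_comp_assoc, hi]
  let b : Spec R ⟶ pullback π π := pullback.lift _ _ hπ
  have h1 := congrArg (fun z => b.appTop z) hs
  simp only at h1
  rw [← CommRingCat.comp_apply, ← CommRingCat.comp_apply, ← Scheme.Hom.comp_appTop,
    ← Scheme.Hom.comp_appTop, pullback.lift_fst, pullback.lift_snd, Scheme.Hom.comp_appTop,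
    Scheme.Hom.comp_appTop, CommRingCat.comp_apply, CommRingCat.comp_apply] at h1
  have nat : ∀ (i : L ⟶ R) (w : Γ(Spec L, ⊤)), (Scheme.ΓSpecIso R).hom ((Spec.map i).appTop w) =
      i ((Scheme.ΓSpecIso L).hom w) := fun i w =>
    congrArg (fun φ => φ.hom w) (Scheme.ΓSpecIso_naturality i)
  have h2 := congrArg (fun z => (Scheme.ΓSpecIso R).hom z) h1
  simp only at h2
  rw [nat, nat] at h2
  set e := (Scheme.ΓSpecIso L).hom (ybar.appTop s) with he
  have h3 : e ⊗ₜ[K] (1 : L) = (1 : L) ⊗ₜ[K] e := h2
  obtain ⟨c, hc⟩ := mem_range_of_tmul_eq e h3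
  exact ⟨c, hc⟩


open TopologicalSpace in
/-- Descent of functions along a proper surjective morphism from a reduced scheme onto a
seminormal scheme. -/
theorem exists_section_of_descent {X Y : Scheme.{u}} (hX : HTop.IsSeminormal X)
    (π : Y ⟶ X) [IsProper π] [Surjective π] [IsReduced Y]
    (s : Γ(Y, ⊤)) (hs : (pullback.fst π π).appTop s = (pullback.snd π π).appTop s) :
    ∃ t : Γ(X, ⊤), π.appTop t = s := by
  let A : Scheme.{u} := 𝔸(PUnit.{u+1}; X)
  let pr : A ⟶ X := A ↘ X
  let q : Y ⟶ A := AffineSpace.homOfVector π (fun _ => s)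
  have hq : q ≫ pr = π := AffineSpace.homOfVector_over _ _
  have hqc : q.appTop (AffineSpace.coord X PUnit.unit) = s :=
    AffineSpace.homOfVector_appTop_coord _ _ _
  have : UniversallyClosed q := by
    have : UniversallyClosed (q ≫ pr) := by rw [hq]; infer_instance
    exact UniversallyClosed.of_comp_of_isSeparated q pr
  -- closed image
  let C : Closeds A := ⟨Set.range q, q.isClosedMap.isClosed_range⟩
  let Z : Scheme.{u} := (Scheme.IdealSheafData.vanishingIdeal C).subscheme
  let ι : Z ⟶ A := (Scheme.IdealSheafData.vanishingIdeal C).subschemeι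
  have hι : Set.range ι = Set.range q :=
    Groth.Agent.Lib.Helper11RedCl.range_subschemeι_vanishingIdeal C
  obtain ⟨l, hl⟩ := exists_lift_of_range_subset_range q ι (by rw [hι])
  let ρ : Z ⟶ X := ι ≫ pr
  have hlρ : l ≫ ρ = π := by rw [← Category.assoc, hl, hq]
  have : Surjective l := by
    refine ⟨fun z => ?_⟩
    have : ι z ∈ Set.range q := by rw [← hι]; exact ⟨z, rfl⟩
    obtain ⟨y, hy⟩ := this
    refine ⟨y, ι.isClosedEmbedding.injective ?_⟩
    rw [← Scheme.Hom.comp_apply, hl, hy]
  -- ρ is proper
  have : IsSeparated ρ := inferInstance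
  have : LocallyOfFiniteType ρ := inferInstance
  have : UniversallyClosed ρ := by
    have : UniversallyClosed (l ≫ ρ) := by rw [hlρ]; infer_instance
    exact UniversallyClosed.of_comp_surjective l ρ
  have : IsProper ρ := {}
  have : Surjective ρ := by
    have : Surjective (l ≫ ρ) := by rw [hlρ]; infer_instance
    exact Surjective.of_comp l ρ
  -- ρ is universally injective
  have hpq : pullback.fst π π ≫ q = pullback.snd π π ≫ q := by
    apply AffineSpace.hom_ext
    · rw [Category.assoc, Category.assoc, hq, pullback.condition]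
    · intro i
      cases i
      rw [Scheme.Hom.comp_appTop, Scheme.Hom.comp_appTop, CommRingCat.comp_apply,
        CommRingCat.comp_apply, hqc, hs]
  have hpl : pullback.fst π π ≫ l = pullback.snd π π ≫ l := by
    rw [← cancel_mono ι, Category.assoc, Category.assoc, hl, hpq]
  have : UniversallyInjective ρ := by
    rw [UniversallyInjective.iff_diagonal]
    let m : pullback π π ⟶ pullback ρ ρ :=
      pullback.map π π ρ ρ l l (𝟙 X) ((Category.comp_id _).trans hlρ.symm)
        ((Category.comp_id _).trans hlρ.symm)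
    have : Surjective m :=
      MorphismProperty.pullbackMap (P := @Surjective) ‹Surjective l› ‹Surjective l› hlρ.symm hlρ.symm
    have hm : m = (m ≫ pullback.fst ρ ρ) ≫ pullback.diagonal ρ := by
      apply pullback.hom_ext
      · simp
      · rw [Category.assoc, pullback.diagonal_snd, Category.comp_id]
        simp only [m, pullback.lift_fst, pullback.lift_snd, pullback.map]
        exact hpl.symm
    refine ⟨fun w => ?_⟩
    obtain ⟨v, rfl⟩ := m.surjective w
    refine ⟨(m ≫ pullback.fst ρ ρ) v, ?_⟩
    rw [← Scheme.Hom.comp_apply, ← hm]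
  -- field points lift along ρ
  have hlift : FieldPointsLift ρ := by
    intro K' _ a
    obtain ⟨⟨x, φ⟩, rfl⟩ := (Scheme.SpecToEquivOfField K' X).symm.surjective a
    obtain ⟨y, rfl⟩ := π.surjective x
    obtain ⟨c, hc⟩ := exists_value π s hs y
    let K := X.residueField (π y)
    let L := Y.residueField y
    let b' : Spec K ⟶ A := AffineSpace.homOfVector (X.fromSpecResidueField (π y))
      (fun _ => (Scheme.ΓSpecIso K).inv c)
    have hb' : Spec.map (π.residueFieldMap y) ≫ b' = Y.fromSpecResidueField y ≫ q := by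
      apply AffineSpace.hom_ext
      · rw [Category.assoc, Category.assoc, hq, AffineSpace.homOfVector_over,
          Scheme.Hom.SpecMap_residueFieldMap_fromSpecResidueField]
      · intro i
        cases i
        rw [Scheme.Hom.comp_appTop, Scheme.Hom.comp_appTop, CommRingCat.comp_apply,
          CommRingCat.comp_apply, hqc, AffineSpace.homOfVector_appTop_coord]
        apply (Scheme.ΓSpecIso L).commRingCatIsoToRingEquiv.injective
        show (Scheme.ΓSpecIso L).hom _ = (Scheme.ΓSpecIso L).hom _
        rw [← hc]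
        have := congrArg (fun φ => φ.hom ((Scheme.ΓSpecIso K).inv c))
          (Scheme.ΓSpecIso_naturality (π.residueFieldMap y))
        simp only [CommRingCat.hom_comp, RingHom.comp_apply] at this
        refine this.trans ?_
        congr 1
        exact congrArg (fun φ => φ.hom c) (Scheme.ΓSpecIso K).inv_hom_id
    have hrange : Set.range b' ⊆ Set.range ι := by
      rintro _ ⟨w, rfl⟩
      rw [hι]
      refine ⟨y, ?_⟩
      have hw : w = (Spec.map (π.residueFieldMap y)) (IsLocalRing.closedPoint L) :=
        Subsingleton.elim _ _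
      rw [hw, ← Scheme.Hom.comp_apply, hb', Scheme.Hom.comp_apply,
        Scheme.fromSpecResidueField_apply]
    obtain ⟨b₀, hb₀⟩ := exists_lift_of_range_subset_range b' ι hrange
    refine ⟨Spec.map φ ≫ b₀, ?_⟩
    show (Spec.map φ ≫ b₀) ≫ ι ≫ pr = Spec.map φ ≫ X.fromSpecResidueField (π y)
    rw [Category.assoc, ← Category.assoc b₀, hb₀, AffineSpace.homOfVector_over]
  have hres : HTop.ResidueFieldsIso ρ := residueFieldsIso_of_fieldPointsLift ρ ρ.injective hlift
  have : LocallyQuasiFinite ρ := inferInstance
  have : IsFinite ρ := IsFinite.of_isProper_of_locallyQuasiFinite ρ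
  have hUH : FlatMor.IsUnivHomeo ρ := by
    rw [Groth.Agent.S0415.result]
    exact ⟨inferInstance, inferInstance, inferInstance⟩
  have : IsIso ρ := isIso_of_isUnivHomeo_of_isSeminormal ρ hUH hres hX
  refine ⟨(inv ρ ≫ ι).appTop (AffineSpace.coord X PUnit.unit), ?_⟩
  rw [← CommRingCat.comp_apply, ← Scheme.Hom.comp_appTop]
  have : π ≫ inv ρ ≫ ι = q := by
    rw [← hlρ, Category.assoc, IsIso.hom_inv_id_assoc, hl]
  rw [this, hqc]

end Groth.Agent.R2.H32.SNDesc
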