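import Mathlib
import Groth.Agent.R2.H32SN
import Groth.Prelude.Def_Pi1

/-!
# helper32: normal schemes are seminormal; normalization factors through seminormalization

ns `Groth.Agent.R2.H32.SNNormal`.
-/

set_option autoImplicit false
universe u

namespace Groth.Agent.R2.H32.SNNormal

open Groth.Agent.Lib.Helper20.AWN Groth.Agent.R2.H32.SN
open AlgebraicGeometry CategoryTheory Limits

/-- An integrally closed domain is seminormal. -/
theorem isSeminormalRing_of_isIntegrallyClosed (A : Type u) [CommRing A] [IsDomain A]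
    [IsIntegrallyClosed A] : HTop.IsSeminormalRing A := by
  intro x y hxy
  by_cases hx : x = 0
  · subst hx
    have hy : y = 0 := by
      have : y ^ 2 = 0 := by rw [← hxy]; ring
      exact pow_eq_zero_iff (two_ne_zero) |>.mp this
    subst hy
    refine ⟨0, ⟨by ring, by ring⟩, ?_⟩
    rintro a ⟨ha, -⟩
    exact (pow_eq_zero_iff two_ne_zero).mp ha.symm
  · let K := FractionRing A
    have hxK : algebraMap A K x ≠ 0 := by
      rwa [Ne, map_eq_zero_iff _ (IsFractionRing.injective A K)]
    let t : K := algebraMap A K y / algebraMap A K x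
    have ht2 : t ^ 2 = algebraMap A K x := by
      have : algebraMap A K y ^ 2 = algebraMap A K x ^ 3 := by
        rw [← map_pow, ← map_pow, hxy]
      show (algebraMap A K y / algebraMap A K x) ^ 2 = algebraMap A K x
      rw [div_pow, this, div_eq_iff (pow_ne_zero 2 hxK)]
      ring
    have htint : IsIntegral A t := by
      refine ⟨Polynomial.X ^ 2 - Polynomial.C x, ?_, ?_⟩
      · exact Polynomial.monic_X_pow_sub_C x two_ne_zero
      · simp [ht2]
    obtain ⟨a, ha⟩ := IsIntegrallyClosed.isIntegral_iff.mp htint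
    have ha2 : x = a ^ 2 := by
      apply IsFractionRing.injective A K
      rw [map_pow, ha, ht2]
    have ha3 : y = a ^ 3 := by
      apply IsFractionRing.injective A K
      rw [map_pow, ha]
      have : t * algebraMap A K x = algebraMap A K y := div_mul_cancel₀ _ hxK
      rw [← this, ← ht2]; ring
    refine ⟨a, ⟨ha2, ha3⟩, ?_⟩
    rintro a' ⟨h2, h3⟩
    exact eq_of_sq_cube_of_isReduced (by rw [← h2, ← ha2]) (by rw [← h3, ← ha3])

open TopologicalSpace Opposite in
/-- If all stalks of a reduced scheme are seminormal rings, then so are all rings of sections. -/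
theorem isSeminormalRing_sections_of_stalks (X : Scheme.{u}) [IsReduced X]
    (hst : ∀ x : X, HTop.IsSeminormalRing (X.presheaf.stalk x)) (U : X.Opens) :
    HTop.IsSeminormalRing Γ(X, U) := by
  intro x y hxy
  -- local solutions
  have hloc : ∀ p : U, ∃ (W : X.Opens) (hW : W ≤ U) (_ : p.1 ∈ W) (a : Γ(X, W)),
      X.presheaf.map (homOfLE hW).op x = a ^ 2 ∧ X.presheaf.map (homOfLE hW).op y = a ^ 3 := by
    intro p
    obtain ⟨α, ⟨hα2, hα3⟩, -⟩ := hst p.1 (X.presheaf.germ U p.1 p.2 x)
      (X.presheaf.germ U p.1 p.2 y) (by rw [← map_pow, ← map_pow, hxy])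
    obtain ⟨V, hpV, a, rfl⟩ := X.presheaf.exists_germ_eq α
    obtain ⟨W₁, hpW₁, i₁, j₁, e₁⟩ := X.presheaf.germ_eq p.1 p.2 hpV x (a ^ 2)
      (by rw [map_pow]; exact hα2)
    obtain ⟨W₂, hpW₂, i₂, j₂, e₂⟩ := X.presheaf.germ_eq p.1 p.2 hpV y (a ^ 3)
      (by rw [map_pow]; exact hα3)
    refine ⟨W₁ ⊓ W₂, inf_le_left.trans i₁.le, ⟨hpW₁, hpW₂⟩,
      X.presheaf.map (homOfLE (inf_le_left.trans j₁.le)).op a, ?_, ?_⟩
    · have := congrArg (X.presheaf.map (homOfLE (inf_le_left : W₁ ⊓ W₂ ≤ W₁)).op) e₁
      rw [← ConcreteCategory.comp_apply, ← ConcreteCategory.comp_apply, ← X.presheaf.map_comp,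
        ← X.presheaf.map_comp] at this
      rw [← map_pow]
      exact this
    · have := congrArg (X.presheaf.map (homOfLE (inf_le_right : W₁ ⊓ W₂ ≤ W₂)).op) e₂
      rw [← ConcreteCategory.comp_apply, ← ConcreteCategory.comp_apply, ← X.presheaf.map_comp,
        ← X.presheaf.map_comp] at this
      rw [← map_pow]
      exact this
  choose W hWU hpW a ha2 ha3 using hloc
  -- compatibility
  have hcompat : TopCat.Presheaf.IsCompatible X.presheaf W a := by
    intro p q
    apply eq_of_sq_cube_of_isReduced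
    · rw [← map_pow, ← map_pow, ← ha2, ← ha2, ← ConcreteCategory.comp_apply,
        ← ConcreteCategory.comp_apply, ← X.presheaf.map_comp, ← X.presheaf.map_comp]
      rfl
    · rw [← map_pow, ← map_pow, ← ha3, ← ha3, ← ConcreteCategory.comp_apply,
        ← ConcreteCategory.comp_apply, ← X.presheaf.map_comp, ← X.presheaf.map_comp]
      rfl
  have hcover : U ≤ iSup W := fun z hz => Opens.mem_iSup.mpr ⟨⟨z, hz⟩, hpW ⟨z, hz⟩⟩
  obtain ⟨s₀, hs₀, -⟩ :=
    X.sheaf.existsUnique_gluing' W U (fun p => homOfLE (hWU p)) hcover a hcompat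
  obtain ⟨s, hs⟩ : ∃ s : Γ(X, U), ∀ p, X.presheaf.map (homOfLE (hWU p)).op s = a p := ⟨s₀, hs₀⟩
  have hs2 : x = s ^ 2 := by
    apply X.sheaf.eq_of_locally_eq' W U (fun p => homOfLE (hWU p)) hcover
    intro p
    show X.presheaf.map (homOfLE (hWU p)).op x = X.presheaf.map (homOfLE (hWU p)).op (s ^ 2)
    rw [map_pow, hs p]
    exact ha2 p
  have hs3 : y = s ^ 3 := by
    apply X.sheaf.eq_of_locally_eq' W U (fun p => homOfLE (hWU p)) hcover
    intro p
    show X.presheaf.map (homOfLE (hWU p)).op y = X.presheaf.map (homOfLE (hWU p)).op (s ^ 3)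
    rw [map_pow, hs p]
    exact ha3 p
  refine ⟨s, ⟨hs2, hs3⟩, ?_⟩
  rintro s' ⟨h2, h3⟩
  exact eq_of_sq_cube_of_isReduced (by rw [← h2, ← hs2]) (by rw [← h3, ← hs3])

theorem isReduced_of_isNormalScheme (X : Scheme.{u}) (hn : Pi1.IsNormalScheme X) :
    IsReduced X := by
  haveI : ∀ x : X, _root_.IsReduced (X.presheaf.stalk x) := fun x => by
    haveI := (hn x).1
    infer_instance
  exact isReduced_of_isReduced_stalk X

/-- A normal scheme is seminormal. -/
theorem isSeminormal_of_isNormalScheme (X : Scheme.{u}) (hn : Pi1.IsNormalScheme X) :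
    HTop.IsSeminormal X := by
  haveI := isReduced_of_isNormalScheme X hn
  intro x
  obtain ⟨_, ⟨U, hU, rfl⟩, hxU, -⟩ :=
    X.isBasis_affineOpens.exists_subset_of_mem_open (Set.mem_univ x) isOpen_univ
  refine ⟨⟨U, hU⟩, hxU, isSeminormalRing_sections_of_stalks X (fun x => ?_) U⟩
  haveI := (hn x).1
  haveI := (hn x).2
  exact isSeminormalRing_of_isIntegrallyClosed _

/-- A morphism from a normal scheme factors through any seminormalization of the target. -/
theorem exists_factor_of_isNormalScheme {S Sn X' : Scheme.{u}} (π : Sn ⟶ S)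
    (hn : Pi1.IsNormalScheme Sn) (ν : X' ⟶ S) (hν : HTop.IsSeminormalization ν) :
    ∃ g : Sn ⟶ X', g ≫ ν = π := by
  have hSn := isSeminormal_of_isNormalScheme Sn hn
  have hp₂ : FlatMor.IsUnivHomeo (pullback.snd ν π) := by
    have : (FlatMor.IsUnivHomeo : MorphismProperty Scheme.{u}).IsStableUnderBaseChange := by
      unfold FlatMor.IsUnivHomeo; infer_instance
    exact MorphismProperty.pullback_snd (P := FlatMor.IsUnivHomeo) ν π hν.1.1
  obtain ⟨hν1, hν2, hν3⟩ := (Groth.Agent.S0415.result ν).mp hν.1.1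
  let q := redι (pullback ν π) ≫ pullback.snd ν π
  have hq : FlatMor.IsUnivHomeo q :=
    Groth.Agent.R2.H32.AWNProps.isUnivHomeo_comp _ _ isUnivHomeo_redι hp₂
  have hqlift : FieldPointsLift q := by
    refine fieldPointsLift_comp (pullback.snd ν π) (redι _) ?_ ?_
    · exact fieldPointsLift_of_residueFieldsIso _ (residueFieldsIso_of_isClosedImmersion _)
    · exact fieldPointsLift_of_isPullback ν (IsPullback.of_hasPullback ν π).flip
        (fieldPointsLift_of_residueFieldsIso ν hν.1.2)
  have hqinj : Function.Injective q := by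
    haveI := ((Groth.Agent.S0415.result q).mp hq).2.1
    exact q.injective
  have hqres : HTop.ResidueFieldsIso q := residueFieldsIso_of_fieldPointsLift q hqinj hqlift
  haveI : IsIso q := isIso_of_isUnivHomeo_of_isSeminormal q hq hqres hSn
  refine ⟨inv q ≫ redι _ ≫ pullback.fst ν π, ?_⟩
  rw [Category.assoc, Category.assoc, pullback.condition, ← Category.assoc (redι _),
    IsIso.inv_hom_id_assoc]

end Groth.Agent.R2.H32.SNNormal
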