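import Mathlib
import Groth.Prelude.Def_StabCat

/-!
# Polynomial toolkit for (semi)stability (helper70, PROJ:shstab)

Elementary facts about the eventual order `StabCat.PolyLE` / `PolyLT` on `ℚ[X]`, the multiplicity
`StabCat.alpha` and the reduced comparisons `RedLE` / `RedLT` / `RedEq`.  Mathlib + `Def_StabCat` only.
-/

set_option autoImplicit false

open Polynomial StabCat Filter

namespace Groth.Agent.R2.H70.StabPoly

/-! ### `alpha` is linear -/

theorem alpha_add (d : ℕ) (P Q : ℚ[X]) : alpha d (P + Q) = alpha d P + alpha d Q := by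
  simp [alpha, mul_add]

theorem alpha_sub (d : ℕ) (P Q : ℚ[X]) : alpha d (P - Q) = alpha d P - alpha d Q := by
  simp [alpha, mul_sub]

theorem alpha_smul (d : ℕ) (c : ℚ) (P : ℚ[X]) : alpha d (c • P) = c * alpha d P := by
  simp [alpha]; ring

theorem alpha_zero (d : ℕ) : alpha d (0 : ℚ[X]) = 0 := by simp [alpha]

theorem alpha_eq_zero_of_natDegree_lt {d : ℕ} {P : ℚ[X]} (h : P.natDegree < d) : alpha d P = 0 := by
  simp [alpha, coeff_eq_zero_of_natDegree_lt h]

/-! ### the eventual order -/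

theorem polyLE_refl (P : ℚ[X]) : PolyLE P P := ⟨0, fun _ _ => le_rfl⟩

theorem polyLE_of_eq {P Q : ℚ[X]} (h : P = Q) : PolyLE P Q := h ▸ polyLE_refl P

theorem polyLE_trans {P Q R : ℚ[X]} (h₁ : PolyLE P Q) (h₂ : PolyLE Q R) : PolyLE P R := by
  obtain ⟨N₁, h₁⟩ := h₁
  obtain ⟨N₂, h₂⟩ := h₂
  exact ⟨max N₁ N₂, fun m hm => (h₁ m (le_of_max_le_left hm)).trans (h₂ m (le_of_max_le_right hm))⟩

theorem polyLT_le {P Q : ℚ[X]} (h : PolyLT P Q) : PolyLE P Q := by
  obtain ⟨N, h⟩ := h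
  exact ⟨N, fun m hm => (h m hm).le⟩

theorem polyLT_trans_le {P Q R : ℚ[X]} (h₁ : PolyLT P Q) (h₂ : PolyLE Q R) : PolyLT P R := by
  obtain ⟨N₁, h₁⟩ := h₁
  obtain ⟨N₂, h₂⟩ := h₂
  exact ⟨max N₁ N₂, fun m hm =>
    (h₁ m (le_of_max_le_left hm)).trans_le (h₂ m (le_of_max_le_right hm))⟩

theorem polyLE_trans_lt {P Q R : ℚ[X]} (h₁ : PolyLE P Q) (h₂ : PolyLT Q R) : PolyLT P R := by
  obtain ⟨N₁, h₁⟩ := h₁
  obtain ⟨N₂, h₂⟩ := h₂
  exact ⟨max N₁ N₂, fun m hm =>
    (h₁ m (le_of_max_le_left hm)).trans_lt (h₂ m (le_of_max_le_right hm))⟩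

theorem polyLT_trans {P Q R : ℚ[X]} (h₁ : PolyLT P Q) (h₂ : PolyLT Q R) : PolyLT P R :=
  polyLT_trans_le h₁ (polyLT_le h₂)

theorem not_polyLT_of_polyLE {P Q : ℚ[X]} (h₁ : PolyLE P Q) (h₂ : PolyLT Q P) : False := by
  obtain ⟨N₁, h₁⟩ := h₁
  obtain ⟨N₂, h₂⟩ := h₂
  exact absurd (h₁ _ (le_max_left N₁ N₂)) (not_le.2 (h₂ _ (le_max_right N₁ N₂)))

theorem polyLT_irrefl (P : ℚ[X]) : ¬ PolyLT P P := fun h => not_polyLT_of_polyLE (polyLE_refl P) h

/-- a polynomial vanishing at all large natural numbers is zero -/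
theorem eq_zero_of_eval_nat_eventually {D : ℚ[X]} (N : ℕ)
    (h : ∀ m : ℕ, N ≤ m → D.eval (m : ℚ) = 0) : D = 0 := by
  by_contra hD
  have hfin : (D.roots.toFinset : Set ℚ).Finite := Finset.finite_toSet _
  have hinf : (Set.range fun m : ℕ => ((m + N : ℕ) : ℚ)).Infinite := by
    apply Set.infinite_range_of_injective
    intro a b hab
    have h' : ((a + N : ℕ) : ℚ) = ((b + N : ℕ) : ℚ) := hab
    have : (a + N : ℕ) = b + N := by exact_mod_cast h'
    omega
  apply hinf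
  refine hfin.subset ?_
  rintro _ ⟨m, rfl⟩
  simp only [Finset.mem_coe, Multiset.mem_toFinset]
  rw [mem_roots hD]
  exact h _ (Nat.le_add_left N m)

theorem eq_of_eval_nat_eq {P Q : ℚ[X]} (h : ∀ m : ℕ, P.eval (m : ℚ) = Q.eval (m : ℚ)) : P = Q := by
  have := eq_zero_of_eval_nat_eventually (D := P - Q) 0 (fun m _ => by rw [eval_sub, h m, sub_self])
  exact sub_eq_zero.1 this

theorem polyLE_antisymm {P Q : ℚ[X]} (h₁ : PolyLE P Q) (h₂ : PolyLE Q P) : P = Q := by
  obtain ⟨N₁, h₁⟩ := h₁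
  obtain ⟨N₂, h₂⟩ := h₂
  have := eq_zero_of_eval_nat_eventually (D := P - Q) (max N₁ N₂) (fun m hm => by
    rw [eval_sub, sub_eq_zero]
    exact le_antisymm (h₁ m (le_of_max_le_left hm)) (h₂ m (le_of_max_le_right hm)))
  exact sub_eq_zero.1 this

/-- eventual sign of a nonzero polynomial -/
theorem eventually_pos_or_neg {D : ℚ[X]} (hD : D ≠ 0) :
    (∃ N : ℕ, ∀ m : ℕ, N ≤ m → 0 < D.eval (m : ℚ)) ∨ (∃ N : ℕ, ∀ m : ℕ, N ≤ m → D.eval (m : ℚ) < 0) := by
  have key : ∀ E : ℚ[X], E ≠ 0 → 0 ≤ E.leadingCoeff → ∃ N : ℕ, ∀ m : ℕ, N ≤ m → 0 < E.eval (m : ℚ) := by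
    intro E hE hlc
    by_cases hdeg : 0 < E.degree
    · have ht := E.tendsto_atTop_of_leadingCoeff_nonneg hdeg hlc
      have hev : ∀ᶠ x : ℚ in atTop, 0 < E.eval x := ht.eventually_gt_atTop 0
      obtain ⟨a, ha⟩ := eventually_atTop.1 hev
      obtain ⟨N, hN⟩ := exists_nat_ge a
      exact ⟨N, fun m hm => ha _ (hN.trans (by exact_mod_cast hm))⟩
    · have hle : E.degree ≤ 0 := not_lt.1 hdeg
      have hC := eq_C_of_degree_le_zero hle
      have hc0 : E.coeff 0 ≠ 0 := by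
        intro h0
        apply hE
        rw [hC, h0, C_0]
      have hlc' : E.leadingCoeff = E.coeff 0 := by
        rw [leadingCoeff, natDegree_eq_zero_iff_degree_le_zero.2 hle]
      refine ⟨0, fun m _ => ?_⟩
      rw [hC, eval_C]
      exact lt_of_le_of_ne (hlc' ▸ hlc) (Ne.symm hc0)
  rcases le_total 0 D.leadingCoeff with h | h
  · exact Or.inl (key D hD h)
  · right
    obtain ⟨N, hN⟩ := key (-D) (neg_ne_zero.2 hD) (by rw [leadingCoeff_neg]; exact neg_nonneg.2 h)
    refine ⟨N, fun m hm => ?_⟩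
    have := hN m hm
    rw [eval_neg] at this
    linarith

/-- trichotomy for the eventual order -/
theorem polyLE_or_polyLT (P Q : ℚ[X]) : PolyLE P Q ∨ PolyLT Q P := by
  by_cases h : Q - P = 0
  · left
    exact polyLE_of_eq (sub_eq_zero.1 h).symm
  · rcases eventually_pos_or_neg h with ⟨N, hN⟩ | ⟨N, hN⟩
    · left
      refine ⟨N, fun m hm => ?_⟩
      have := hN m hm
      rw [eval_sub] at this
      linarith
    · right
      refine ⟨N, fun m hm => ?_⟩
      have := hN m hm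
      rw [eval_sub] at this
      linarith

theorem polyLT_or_eq_or_polyLT (P Q : ℚ[X]) : PolyLT P Q ∨ P = Q ∨ PolyLT Q P := by
  rcases polyLE_or_polyLT P Q with h | h
  · rcases polyLE_or_polyLT Q P with h' | h'
    · exact Or.inr (Or.inl (polyLE_antisymm h h'))
    · exact Or.inl h'
  · exact Or.inr (Or.inr h)

theorem not_polyLE_iff {P Q : ℚ[X]} : ¬ PolyLE P Q ↔ PolyLT Q P :=
  ⟨fun h => (polyLE_or_polyLT P Q).resolve_left h, fun h h' => not_polyLT_of_polyLE h' h⟩

theorem not_polyLT_iff {P Q : ℚ[X]} : ¬ PolyLT P Q ↔ PolyLE Q P :=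
  ⟨fun h => (polyLE_or_polyLT Q P).resolve_right h, fun h h' => not_polyLT_of_polyLE h h'⟩

theorem polyLE_lt_or_eq {P Q : ℚ[X]} (h : PolyLE P Q) : PolyLT P Q ∨ P = Q := by
  rcases polyLT_or_eq_or_polyLT P Q with h' | h' | h'
  · exact Or.inl h'
  · exact Or.inr h'
  · exact absurd h' (fun h'' => not_polyLT_of_polyLE h h'')

/-! ### arithmetic of the eventual order -/

theorem polyLE_add {P Q P' Q' : ℚ[X]} (h₁ : PolyLE P Q) (h₂ : PolyLE P' Q') : PolyLE (P + P') (Q + Q') := by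
  obtain ⟨N₁, h₁⟩ := h₁
  obtain ⟨N₂, h₂⟩ := h₂
  refine ⟨max N₁ N₂, fun m hm => ?_⟩
  rw [eval_add, eval_add]
  exact add_le_add (h₁ m (le_of_max_le_left hm)) (h₂ m (le_of_max_le_right hm))

theorem polyLT_add_le {P Q P' Q' : ℚ[X]} (h₁ : PolyLT P Q) (h₂ : PolyLE P' Q') : PolyLT (P + P') (Q + Q') := by
  obtain ⟨N₁, h₁⟩ := h₁
  obtain ⟨N₂, h₂⟩ := h₂
  refine ⟨max N₁ N₂, fun m hm => ?_⟩
  rw [eval_add, eval_add]
  exact add_lt_add_of_lt_of_le (h₁ m (le_of_max_le_left hm)) (h₂ m (le_of_max_le_right hm))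

theorem polyLE_smul {P Q : ℚ[X]} (h : PolyLE P Q) {c : ℚ} (hc : 0 ≤ c) : PolyLE (c • P) (c • Q) := by
  obtain ⟨N, h⟩ := h
  refine ⟨N, fun m hm => ?_⟩
  rw [eval_smul, eval_smul, smul_eq_mul, smul_eq_mul]
  exact mul_le_mul_of_nonneg_left (h m hm) hc

theorem polyLT_smul {P Q : ℚ[X]} (h : PolyLT P Q) {c : ℚ} (hc : 0 < c) : PolyLT (c • P) (c • Q) := by
  obtain ⟨N, h⟩ := h
  refine ⟨N, fun m hm => ?_⟩
  rw [eval_smul, eval_smul, smul_eq_mul, smul_eq_mul]
  exact mul_lt_mul_of_pos_left (h m hm) hc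

theorem polyLE_of_smul {P Q : ℚ[X]} {c : ℚ} (hc : 0 < c) (h : PolyLE (c • P) (c • Q)) : PolyLE P Q := by
  obtain ⟨N, h⟩ := h
  refine ⟨N, fun m hm => ?_⟩
  have := h m hm
  rw [eval_smul, eval_smul, smul_eq_mul, smul_eq_mul] at this
  exact le_of_mul_le_mul_left this hc

theorem polyLT_of_smul {P Q : ℚ[X]} {c : ℚ} (hc : 0 < c) (h : PolyLT (c • P) (c • Q)) : PolyLT P Q := by
  obtain ⟨N, h⟩ := h
  refine ⟨N, fun m hm => ?_⟩
  have := h m hm
  rw [eval_smul, eval_smul, smul_eq_mul, smul_eq_mul] at this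
  exact lt_of_mul_lt_mul_left this hc.le

/-- the eventual order only depends on the difference -/
theorem polyLE_iff_of_sub_eq {P Q P' Q' : ℚ[X]} (h : Q - P = Q' - P') : PolyLE P Q ↔ PolyLE P' Q' := by
  have key : ∀ m : ℕ, (P.eval (m : ℚ) ≤ Q.eval (m : ℚ)) ↔ (P'.eval (m : ℚ) ≤ Q'.eval (m : ℚ)) := by
    intro m
    have := congrArg (eval (m : ℚ)) h
    rw [eval_sub, eval_sub] at this
    constructor <;> intro h' <;> linarith
  constructor
  · rintro ⟨N, hN⟩
    exact ⟨N, fun m hm => (key m).1 (hN m hm)⟩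
  · rintro ⟨N, hN⟩
    exact ⟨N, fun m hm => (key m).2 (hN m hm)⟩

theorem polyLT_iff_of_sub_eq {P Q P' Q' : ℚ[X]} (h : Q - P = Q' - P') : PolyLT P Q ↔ PolyLT P' Q' := by
  have key : ∀ m : ℕ, (P.eval (m : ℚ) < Q.eval (m : ℚ)) ↔ (P'.eval (m : ℚ) < Q'.eval (m : ℚ)) := by
    intro m
    have := congrArg (eval (m : ℚ)) h
    rw [eval_sub, eval_sub] at this
    constructor <;> intro h' <;> linarith
  constructor
  · rintro ⟨N, hN⟩
    exact ⟨N, fun m hm => (key m).1 (hN m hm)⟩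
  · rintro ⟨N, hN⟩
    exact ⟨N, fun m hm => (key m).2 (hN m hm)⟩

/-! ### positivity -/

/-- a polynomial of degree `≤ d` with positive coefficient `alpha d` is eventually positive -/
theorem polyLT_zero_of_alpha_pos {d : ℕ} {P : ℚ[X]} (hdeg : P.natDegree ≤ d) (hpos : 0 < alpha d P) :
    PolyLT 0 P := by
  have hc : 0 < P.coeff d := by
    unfold alpha at hpos
    have hf : (0 : ℚ) < (d.factorial : ℚ) := by exact_mod_cast d.factorial_pos
    exact (mul_pos_iff_of_pos_left hf).1 hpos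
  have hP : P ≠ 0 := by
    rintro rfl
    simp at hc
  have hnd : P.natDegree = d := by
    refine le_antisymm hdeg ?_
    by_contra hlt
    rw [coeff_eq_zero_of_natDegree_lt (not_le.1 hlt)] at hc
    exact lt_irrefl _ hc
  have hlc : 0 < P.leadingCoeff := by rw [leadingCoeff, hnd]; exact hc
  rcases eventually_pos_or_neg hP with ⟨N, hN⟩ | ⟨N, hN⟩
  · exact ⟨N, fun m hm => by rw [eval_zero]; exact hN m hm⟩
  · exfalso
    -- the leading coefficient of `-P` is negative, but `-P` is eventually positive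
    have h2 : ∃ N : ℕ, ∀ m : ℕ, N ≤ m → 0 < (-P).eval (m : ℚ) :=
      ⟨N, fun m hm => by rw [eval_neg]; linarith [hN m hm]⟩
    obtain ⟨N', hN'⟩ := h2
    by_cases hdeg0 : 0 < P.degree
    · have ht := P.tendsto_atTop_of_leadingCoeff_nonneg hdeg0 hlc.le
      have hev : ∀ᶠ x : ℚ in atTop, 0 < P.eval x := ht.eventually_gt_atTop 0
      obtain ⟨a, ha⟩ := eventually_atTop.1 hev
      obtain ⟨M, hM⟩ := exists_nat_ge a
      have h1 := ha ((max M N : ℕ) : ℚ) (hM.trans (by exact_mod_cast le_max_left M N))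
      have h2 := hN (max M N) (le_max_right M N)
      linarith
    · have hle : P.degree ≤ 0 := not_lt.1 hdeg0
      have hC := eq_C_of_degree_le_zero hle
      have hlc' : P.leadingCoeff = P.coeff 0 := by
        rw [leadingCoeff, natDegree_eq_zero_iff_degree_le_zero.2 hle]
      have h2 := hN N le_rfl
      rw [hC, eval_C, ← hlc'] at h2
      linarith

/-! ### integrality of the multiplicity -/

/-- for a polynomial of degree `≤ d` taking integer values at the natural numbers, `alpha d` is an integer -/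
theorem alpha_int {d : ℕ} {P : ℚ[X]} (hdeg : P.natDegree ≤ d)
    (hint : ∀ m : ℕ, ∃ z : ℤ, P.eval (m : ℚ) = z) : ∃ z : ℤ, alpha d P = z := by
  rcases lt_or_eq_of_le hdeg with hlt | heq
  · exact ⟨0, by rw [alpha_eq_zero_of_natDegree_lt hlt]; simp⟩
  · have h1 := congrFun (Polynomial.fwdDiff_iter_degree_eq_factorial P) 0
    rw [fwdDiff_iter_eq_sum_shift] at h1
    have h2 : alpha d P = P.leadingCoeff * (P.natDegree.factorial : ℚ) := by
      rw [alpha, leadingCoeff, heq, mul_comm]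
    choose z hz using hint
    refine ⟨∑ k ∈ Finset.range (P.natDegree + 1), ((-1 : ℤ) ^ (P.natDegree - k) * (P.natDegree.choose k : ℤ)) * z k, ?_⟩
    rw [h2]
    have h3 : (P.leadingCoeff • (P.natDegree.factorial : ℚ → ℚ)) 0 = P.leadingCoeff * (P.natDegree.factorial : ℚ) := by
      simp
    rw [← h3, ← h1]
    push_cast
    refine Finset.sum_congr rfl fun k _ => ?_
    rw [zsmul_eq_mul]
    have : (0 : ℚ) + k • (1 : ℚ) = (k : ℚ) := by simp
    rw [this, hz k]
    push_cast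
    ring

/-! ### reduced comparisons -/

theorem redLE_refl (d : ℕ) (P : ℚ[X]) : RedLE d P P := polyLE_refl _

theorem redLE_of_eq {d : ℕ} {P Q : ℚ[X]} (h : P = Q) : RedLE d P Q := h ▸ redLE_refl d P

theorem redLT_le {d : ℕ} {P Q : ℚ[X]} (h : RedLT d P Q) : RedLE d P Q := polyLT_le h

theorem not_redLT_of_redLE {d : ℕ} {P Q : ℚ[X]} (h₁ : RedLE d P Q) (h₂ : RedLT d Q P) : False :=
  not_polyLT_of_polyLE h₁ h₂

theorem redLE_or_redLT (d : ℕ) (P Q : ℚ[X]) : RedLE d P Q ∨ RedLT d Q P := polyLE_or_polyLT _ _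

theorem redEq_symm {d : ℕ} {P Q : ℚ[X]} (h : RedEq d P Q) : RedEq d Q P := Eq.symm h

theorem redLE_of_redEq {d : ℕ} {P Q : ℚ[X]} (h : RedEq d P Q) : RedLE d P Q := polyLE_of_eq h

theorem redLE_of_redEq' {d : ℕ} {P Q : ℚ[X]} (h : RedEq d P Q) : RedLE d Q P := polyLE_of_eq h.symm

theorem redEq_of_redLE_of_redLE {d : ℕ} {P Q : ℚ[X]} (h₁ : RedLE d P Q) (h₂ : RedLE d Q P) : RedEq d P Q :=
  polyLE_antisymm h₁ h₂

theorem redLE_lt_or_eq {d : ℕ} {P Q : ℚ[X]} (h : RedLE d P Q) : RedLT d P Q ∨ RedEq d P Q :=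
  polyLE_lt_or_eq h

theorem not_redLT_of_redEq {d : ℕ} {P Q : ℚ[X]} (h : RedEq d P Q) : ¬ RedLT d P Q := by
  intro h'
  unfold RedEq at h
  unfold RedLT at h'
  rw [h] at h'
  exact polyLT_irrefl _ h'

/-- subobject with polynomial `P - Q` of an object with polynomial `P` versus the quotient with polynomial `Q` -/
theorem redLE_sub_left_iff {d : ℕ} {P Q : ℚ[X]} : RedLE d (P - Q) P ↔ RedLE d P Q := by
  unfold RedLE
  apply polyLE_iff_of_sub_eq
  rw [alpha_sub]
  simp only [sub_smul, smul_sub]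
  abel

theorem redLT_sub_left_iff {d : ℕ} {P Q : ℚ[X]} : RedLT d (P - Q) P ↔ RedLT d P Q := by
  unfold RedLT
  apply polyLT_iff_of_sub_eq
  rw [alpha_sub]
  simp only [sub_smul, smul_sub]
  abel

/-- subobject with polynomial `Q` of an object with polynomial `P` versus the quotient with polynomial `P - Q` -/
theorem redLE_sub_right_iff {d : ℕ} {P Q : ℚ[X]} : RedLE d P (P - Q) ↔ RedLE d Q P := by
  unfold RedLE
  apply polyLE_iff_of_sub_eq
  rw [alpha_sub]
  simp only [sub_smul, smul_sub]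
  abel

theorem redLT_sub_right_iff {d : ℕ} {P Q : ℚ[X]} : RedLT d P (P - Q) ↔ RedLT d Q P := by
  unfold RedLT
  apply polyLT_iff_of_sub_eq
  rw [alpha_sub]
  simp only [sub_smul, smul_sub]
  abel

theorem redEq_sub_left_iff {d : ℕ} {P Q : ℚ[X]} : RedEq d (P - Q) P ↔ RedEq d P Q := by
  unfold RedEq
  rw [alpha_sub]
  simp only [sub_smul, smul_sub]
  constructor
  · intro h
    have : alpha d Q • P = alpha d P • Q := by
      have h' : alpha d P • P - (alpha d P • P - alpha d P • Q) =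
          alpha d P • P - (alpha d P • P - alpha d Q • P) := congrArg (fun T => alpha d P • P - T) h
      have e1 : alpha d P • P - (alpha d P • P - alpha d P • Q) = alpha d P • Q := by abel
      have e2 : alpha d P • P - (alpha d P • P - alpha d Q • P) = alpha d Q • P := by abel
      rw [e1, e2] at h'
      exact h'.symm
    exact this
  · intro h
    rw [h]

theorem redEq_sub_right_iff {d : ℕ} {P Q : ℚ[X]} : RedEq d P (P - Q) ↔ RedEq d Q P := by
  unfold RedEq
  rw [alpha_sub]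
  simp only [sub_smul, smul_sub]
  constructor
  · intro h
    have h' : alpha d P • P - (alpha d P • P - alpha d Q • P) =
        alpha d P • P - (alpha d P • P - alpha d P • Q) := congrArg (fun T => alpha d P • P - T) h
    have e1 : alpha d P • P - (alpha d P • P - alpha d Q • P) = alpha d Q • P := by abel
    have e2 : alpha d P • P - (alpha d P • P - alpha d P • Q) = alpha d P • Q := by abel
    rw [e1, e2] at h'
    exact h'.symm
  · intro h
    rw [h]

/-- transitivity of the reduced comparison (the middle multiplicity must be positive) -/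
theorem redLE_trans {d : ℕ} {P Q R : ℚ[X]} (hP : 0 ≤ alpha d P) (hQ : 0 < alpha d Q) (hR : 0 ≤ alpha d R)
    (h₁ : RedLE d P Q) (h₂ : RedLE d Q R) : RedLE d P R := by
  unfold RedLE at *
  have e1 := polyLE_smul h₁ hR
  have e2 := polyLE_smul h₂ hP
  have e3 : PolyLE (alpha d Q • (alpha d R • P)) (alpha d Q • (alpha d P • R)) := by
    have a1 : alpha d R • alpha d Q • P = alpha d Q • (alpha d R • P) := smul_comm _ _ _
    have a2 : alpha d R • alpha d P • Q = alpha d P • alpha d R • Q := smul_comm _ _ _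
    have a3 : alpha d P • alpha d Q • R = alpha d Q • (alpha d P • R) := smul_comm _ _ _
    rw [a1, a2] at e1
    rw [a3] at e2
    exact polyLE_trans e1 e2
  exact polyLE_of_smul hQ e3

theorem redLT_of_redLT_of_redLE {d : ℕ} {P Q R : ℚ[X]} (hP : 0 ≤ alpha d P) (hQ : 0 < alpha d Q)
    (hR : 0 < alpha d R) (h₁ : RedLT d P Q) (h₂ : RedLE d Q R) : RedLT d P R := by
  unfold RedLE RedLT at *
  have e1 := polyLT_smul h₁ hR
  have e2 := polyLE_smul h₂ hP
  have e3 : PolyLT (alpha d Q • (alpha d R • P)) (alpha d Q • (alpha d P • R)) := by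
    have a1 : alpha d R • alpha d Q • P = alpha d Q • (alpha d R • P) := smul_comm _ _ _
    have a2 : alpha d R • alpha d P • Q = alpha d P • alpha d R • Q := smul_comm _ _ _
    have a3 : alpha d P • alpha d Q • R = alpha d Q • (alpha d P • R) := smul_comm _ _ _
    rw [a1, a2] at e1
    rw [a3] at e2
    exact polyLT_trans_le e1 e2
  exact polyLT_of_smul hQ e3

theorem redLT_of_redLE_of_redLT {d : ℕ} {P Q R : ℚ[X]} (hP : 0 < alpha d P) (hQ : 0 < alpha d Q)
    (hR : 0 ≤ alpha d R) (h₁ : RedLE d P Q) (h₂ : RedLT d Q R) : RedLT d P R := by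
  unfold RedLE RedLT at *
  have e1 := polyLE_smul h₁ hR
  have e2 := polyLT_smul h₂ hP
  have e3 : PolyLT (alpha d Q • (alpha d R • P)) (alpha d Q • (alpha d P • R)) := by
    have a1 : alpha d R • alpha d Q • P = alpha d Q • (alpha d R • P) := smul_comm _ _ _
    have a2 : alpha d R • alpha d P • Q = alpha d P • alpha d R • Q := smul_comm _ _ _
    have a3 : alpha d P • alpha d Q • R = alpha d Q • (alpha d P • R) := smul_comm _ _ _
    rw [a1, a2] at e1
    rw [a3] at e2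
    exact polyLE_trans_lt e1 e2
  exact polyLT_of_smul hQ e3

/-- `RedEq` can be used to replace the right-hand side of a comparison (multiplicities positive) -/
theorem redLE_of_redLE_of_redEq {d : ℕ} {P Q R : ℚ[X]} (hP : 0 ≤ alpha d P) (hQ : 0 < alpha d Q)
    (hR : 0 ≤ alpha d R) (h₁ : RedLE d P Q) (h₂ : RedEq d Q R) : RedLE d P R :=
  redLE_trans hP hQ hR h₁ (redLE_of_redEq h₂)

/-! ### sums -/

/-- `p(P + Q) < p(P)` iff `p(Q) < p(P)` -/
theorem redLT_add_left_iff {d : ℕ} {P Q : ℚ[X]} : RedLT d (P + Q) P ↔ RedLT d Q P := by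
  unfold RedLT
  apply polyLT_iff_of_sub_eq
  rw [alpha_add]
  simp only [add_smul, smul_add]
  abel

theorem redLE_add_left_iff {d : ℕ} {P Q : ℚ[X]} : RedLE d (P + Q) P ↔ RedLE d Q P := by
  unfold RedLE
  apply polyLE_iff_of_sub_eq
  rw [alpha_add]
  simp only [add_smul, smul_add]
  abel

/-- `p(P) < p(P + Q)` iff `p(P) < p(Q)` -/
theorem redLT_add_right_iff {d : ℕ} {P Q : ℚ[X]} : RedLT d P (P + Q) ↔ RedLT d P Q := by
  unfold RedLT
  apply polyLT_iff_of_sub_eq
  rw [alpha_add]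
  simp only [add_smul, smul_add]
  abel

theorem redLE_add_right_iff {d : ℕ} {P Q : ℚ[X]} : RedLE d P (P + Q) ↔ RedLE d P Q := by
  unfold RedLE
  apply polyLE_iff_of_sub_eq
  rw [alpha_add]
  simp only [add_smul, smul_add]
  abel

/-- the reduced polynomial of a sum is bounded by a common bound of the summands -/
theorem redLE_add {d : ℕ} {P Q R : ℚ[X]} (h₁ : RedLE d P R) (h₂ : RedLE d Q R) : RedLE d (P + Q) R := by
  unfold RedLE at *
  rw [alpha_add, smul_add, add_smul]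
  exact polyLE_add h₁ h₂

theorem redLT_add_of_redLT_of_redLE {d : ℕ} {P Q R : ℚ[X]} (h₁ : RedLT d P R) (h₂ : RedLE d Q R) :
    RedLT d (P + Q) R := by
  unfold RedLE RedLT at *
  rw [alpha_add, smul_add, add_smul]
  exact polyLT_add_le h₁ h₂

theorem redLT_add_of_redLE_of_redLT {d : ℕ} {P Q R : ℚ[X]} (h₁ : RedLE d P R) (h₂ : RedLT d Q R) :
    RedLT d (P + Q) R := by
  rw [add_comm]
  exact redLT_add_of_redLT_of_redLE h₂ h₁

/-- lower bounds: `p(R) ≤ p(P)`, `p(R) ≤ p(Q)` imply `p(R) ≤ p(P + Q)` -/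
theorem redLE_add' {d : ℕ} {P Q R : ℚ[X]} (h₁ : RedLE d R P) (h₂ : RedLE d R Q) : RedLE d R (P + Q) := by
  unfold RedLE at *
  rw [alpha_add, smul_add, add_smul]
  exact polyLE_add h₁ h₂

theorem redLT_add'_of_redLT_of_redLE {d : ℕ} {P Q R : ℚ[X]} (h₁ : RedLT d R P) (h₂ : RedLE d R Q) :
    RedLT d R (P + Q) := by
  unfold RedLE RedLT at *
  rw [alpha_add, smul_add, add_smul]
  exact polyLT_add_le h₁ h₂

end Groth.Agent.R2.H70.StabPoly
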