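import Mathlib
import Groth.Prelude.Def_StabCat
import Groth.Agent.R2.H70StabPoly

/-!
# Abstract Hilbert-polynomial contexts (helper70, PROJ:shstab)

`HilbCtx C` packages, for an abelian category `C`, everything the formal theory of (semi)stability
(Huybrechts–Lehn §1.2–1.6) uses about coherent sheaves on a projective scheme:

* `ok`  — the class of tested objects (coherent modules), closed under isomorphisms, zero, kernels, cokernels,
          binary biproducts, extensions;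
* `HP`  — the relation "`P` is the Hilbert polynomial of `E`": exists on `ok` objects, unique, invariant under
          isomorphisms, additive in short exact sequences, integer valued;
* `dim` — the dimension (of the support), with `dim = ⊥ ↔ zero`, `dim X₂ = max (dim X₁) (dim X₃)` in short exact
          sequences, `deg P_E ≤ dim E`, and `alpha (dim E) P_E > 0`;
* `acc` — the ascending chain condition on `ok` subobjects.

The predicates `HilbCtx.IsPure`, `IsSemistable`, `IsStable` are written so that, for the geometric instance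
(`R2/H70StabInst*`), they unfold *definitionally* to `ShStab.IsPure`, `ShStab.IsSemistable`, `ShStab.IsStable`.
Mathlib + `Def_StabCat` only.
-/

set_option autoImplicit false

universe v u

open CategoryTheory CategoryTheory.Limits Polynomial StabCat

namespace Groth.Agent.R2.H70.StabCtx

open Groth.Agent.R2.H70.StabPoly

/-- A Hilbert-polynomial context on an abelian category. -/
structure HilbCtx (C : Type u) [Category.{v} C] [Abelian C] where
  /-- tested objects (coherent modules) -/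
  ok : C → Prop
  /-- `HP E P`: `P` is the Hilbert polynomial of `E` -/
  HP : C → ℚ[X] → Prop
  /-- dimension (of the support) -/
  dim : C → WithBot ℕ∞
  ok_iso : ∀ {E F : C}, (E ≅ F) → ok E → ok F
  ok_zero : ∀ {E : C}, IsZero E → ok E
  ok_kernel : ∀ {E F : C} (f : E ⟶ F), ok E → ok F → ok (kernel f)
  ok_cokernel : ∀ {E F : C} (f : E ⟶ F), ok E → ok F → ok (cokernel f)
  ok_biprod : ∀ {E F : C}, ok E → ok F → ok (E ⊞ F)
  ok_ext : ∀ (S : ShortComplex C), S.ShortExact → ok S.X₁ → ok S.X₃ → ok S.X₂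
  HP_exists : ∀ {E : C}, ok E → ∃ P, HP E P
  HP_unique : ∀ {E : C} {P Q : ℚ[X]}, HP E P → HP E Q → P = Q
  HP_iso : ∀ {E F : C} {P : ℚ[X]}, (E ≅ F) → HP E P → HP F P
  HP_add : ∀ (S : ShortComplex C), S.ShortExact → ok S.X₁ → ok S.X₂ → ok S.X₃ →
    ∀ {P₁ P₃ : ℚ[X]}, HP S.X₁ P₁ → HP S.X₃ P₃ → HP S.X₂ (P₁ + P₃)
  HP_int : ∀ {E : C} {P : ℚ[X]}, HP E P → ∀ m : ℕ, ∃ z : ℤ, P.eval (m : ℚ) = z
  dim_iso : ∀ {E F : C}, (E ≅ F) → dim E = dim F
  dim_ses : ∀ (S : ShortComplex C), S.ShortExact → ok S.X₁ → ok S.X₂ → ok S.X₃ →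
    dim S.X₂ = max (dim S.X₁) (dim S.X₃)
  dim_eq_bot_iff : ∀ {E : C}, ok E → (dim E = ⊥ ↔ IsZero E)
  natDegree_le : ∀ {E : C} {P : ℚ[X]} (d : ℕ), ok E → dim E ≤ (d : WithBot ℕ∞) → HP E P → P.natDegree ≤ d
  alpha_pos : ∀ {E : C} {P : ℚ[X]} (d : ℕ), ok E → dim E = (d : WithBot ℕ∞) → HP E P → 0 < alpha d P
  acc : ∀ {E : C}, ok E → ∀ f : ℕ →o Subobject E, (∀ n, ok ((f n : Subobject E) : C)) →
    ∃ n, ∀ m, n ≤ m → f m = f n

namespace HilbCtx

variable {C : Type u} [Category.{v} C] [Abelian C] (H : HilbCtx C)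

/-- `E` is pure of dimension `d` (abstract form of `ShStab.IsPure`). -/
def IsPure (E : C) (d : ℕ) : Prop :=
  ∀ (F : C) (ι : F ⟶ E), Mono ι → H.ok F → ¬ IsZero F → H.dim F = (d : WithBot ℕ∞)

/-- abstract form of `ShStab.IsSemistable` -/
def IsSemistable (E : C) (d : ℕ) : Prop :=
  H.ok E ∧ ¬ IsZero E ∧ H.IsPure E d ∧ StabCat.IsSS H.ok H.HP d E

/-- abstract form of `ShStab.IsStable` -/
def IsStable (E : C) (d : ℕ) : Prop :=
  H.ok E ∧ ¬ IsZero E ∧ H.IsPure E d ∧ StabCat.IsSt H.ok H.HP d E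

/-! ### closure properties of `ok` -/

theorem ok_image {E F : C} (f : E ⟶ F) (hE : H.ok E) (hF : H.ok F) : H.ok (Abelian.image f) :=
  H.ok_kernel _ hF (H.ok_cokernel f hE hF)

theorem ok_of_mono_cokernel {E F : C} (ι : F ⟶ E) (hF : H.ok F) (hE : H.ok E) : H.ok (cokernel ι) :=
  H.ok_cokernel ι hF hE

/-! ### short exact sequences attached to a mono / an epi -/

theorem shortExact_of_mono {F E : C} (ι : F ⟶ E) [Mono ι] :
    (ShortComplex.mk ι (cokernel.π ι) (cokernel.condition ι)).ShortExact :=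
  ShortComplex.ShortExact.mk' (ShortComplex.exact_cokernel ι) inferInstance inferInstance

theorem shortExact_of_epi {E G : C} (π : E ⟶ G) [Epi π] :
    (ShortComplex.mk (kernel.ι π) π (kernel.condition π)).ShortExact :=
  ShortComplex.ShortExact.mk' (ShortComplex.exact_kernel π) inferInstance inferInstance

/-! ### Hilbert polynomials -/

theorem HP_zero {E : C} (hE : IsZero E) : H.HP E 0 := by
  have hok := H.ok_zero hE
  obtain ⟨P, hP⟩ := H.HP_exists hok
  have hS : (ShortComplex.mk (0 : E ⟶ E) (0 : E ⟶ E) zero_comp).ShortExact := by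
    have hm : Mono (0 : E ⟶ E) := ⟨fun _ _ _ => hE.eq_of_tgt _ _⟩
    have he : Epi (0 : E ⟶ E) := ⟨fun _ _ _ => hE.eq_of_src _ _⟩
    refine ShortComplex.ShortExact.mk' ?_ hm he
    exact ShortComplex.exact_of_isZero_X₂ _ hE
  have h2 := H.HP_add _ hS hok hok hok hP hP
  have : P = P + P := H.HP_unique hP h2
  have hP0 : P = 0 := by
    have h3 : P + 0 = P + P := by rw [add_zero]; exact this
    exact (add_left_cancel h3).symm
  rwa [hP0] at hP

theorem HP_eq_zero {E : C} (hE : IsZero E) {P : ℚ[X]} (hP : H.HP E P) : P = 0 :=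
  H.HP_unique hP (H.HP_zero hE)

/-- Hilbert polynomial of a cokernel of a mono -/
theorem HP_cokernel {F E : C} (ι : F ⟶ E) [Mono ι] (hF : H.ok F) (hE : H.ok E) {pF pE : ℚ[X]}
    (hpF : H.HP F pF) (hpE : H.HP E pE) : H.HP (cokernel ι) (pE - pF) := by
  have hQ := H.ok_cokernel ι hF hE
  obtain ⟨Q, hQP⟩ := H.HP_exists hQ
  have h := H.HP_add _ (shortExact_of_mono ι) hF hE hQ hpF hQP
  have : pE = pF + Q := H.HP_unique hpE h
  have hQ' : Q = pE - pF := by rw [this]; ring
  rwa [hQ'] at hQP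

/-- Hilbert polynomial of a kernel of an epi -/
theorem HP_kernel {E G : C} (π : E ⟶ G) [Epi π] (hE : H.ok E) (hG : H.ok G) {pE pG : ℚ[X]}
    (hpE : H.HP E pE) (hpG : H.HP G pG) : H.HP (kernel π) (pE - pG) := by
  have hK := H.ok_kernel π hE hG
  obtain ⟨Q, hQP⟩ := H.HP_exists hK
  have h := H.HP_add _ (shortExact_of_epi π) hK hE hG hQP hpG
  have : pE = Q + pG := H.HP_unique hpE h
  have hQ' : Q = pE - pG := by rw [this]; ring
  rwa [hQ'] at hQP

/-! ### dimension -/

theorem dim_le_of_mono {F E : C} (ι : F ⟶ E) [Mono ι] (hF : H.ok F) (hE : H.ok E) :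
    H.dim F ≤ H.dim E := by
  have h := H.dim_ses _ (shortExact_of_mono ι) hF hE (H.ok_cokernel ι hF hE)
  change H.dim E = max (H.dim F) (H.dim (cokernel ι)) at h
  rw [h]
  exact le_max_left _ _

theorem dim_le_of_epi {E G : C} (π : E ⟶ G) [Epi π] (hE : H.ok E) (hG : H.ok G) :
    H.dim G ≤ H.dim E := by
  have h := H.dim_ses _ (shortExact_of_epi π) (H.ok_kernel π hE hG) hE hG
  change H.dim E = max (H.dim (kernel π)) (H.dim G) at h
  rw [h]
  exact le_max_right _ _

theorem dim_cokernel_le {F E : C} (ι : F ⟶ E) [Mono ι] (hF : H.ok F) (hE : H.ok E) :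
    H.dim (cokernel ι) ≤ H.dim E :=
  H.dim_le_of_epi (cokernel.π ι) hE (H.ok_cokernel ι hF hE)

theorem dim_ne_bot {E : C} (hE : H.ok E) (h0 : ¬ IsZero E) : H.dim E ≠ ⊥ :=
  fun h => h0 ((H.dim_eq_bot_iff hE).1 h)

/-- an element of `WithBot ℕ∞` which is `≤ d` and not `⊥` is a natural number `≤ d` -/
theorem exists_nat_of_le {x : WithBot ℕ∞} {d : ℕ} (hx : x ≤ (d : WithBot ℕ∞)) (hb : x ≠ ⊥) :
    ∃ e : ℕ, e ≤ d ∧ x = (e : WithBot ℕ∞) := by
  induction x using WithBot.recBotCoe with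
  | bot => exact absurd rfl hb
  | coe y =>
    have hy : y ≤ (d : ℕ∞) := by
      have : ((y : ℕ∞) : WithBot ℕ∞) ≤ (((d : ℕ) : ℕ∞) : WithBot ℕ∞) := hx
      exact WithBot.coe_le_coe.1 this
    have hy' : y ≠ ⊤ := ne_top_of_le_ne_top (ENat.coe_ne_top d) hy
    obtain ⟨e, rfl⟩ := ENat.ne_top_iff_exists.1 hy'
    refine ⟨e, by exact_mod_cast hy, rfl⟩

/-- the multiplicity in dimension `d` vanishes for objects of smaller dimension -/
theorem alpha_eq_zero_of_dim_lt {E : C} (hE : H.ok E) {d : ℕ} (hd : H.dim E < (d : WithBot ℕ∞))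
    {P : ℚ[X]} (hP : H.HP E P) : alpha d P = 0 := by
  by_cases h0 : IsZero E
  · rw [H.HP_eq_zero h0 hP, alpha_zero]
  · obtain ⟨e, -, he⟩ := exists_nat_of_le hd.le (H.dim_ne_bot hE h0)
    have hlt : e < d := by
      rw [he] at hd
      exact_mod_cast hd
    exact alpha_eq_zero_of_natDegree_lt (lt_of_le_of_lt (H.natDegree_le e hE he.le hP) hlt)

theorem alpha_nonneg {E : C} (hE : H.ok E) {d : ℕ} (hd : H.dim E ≤ (d : WithBot ℕ∞))
    {P : ℚ[X]} (hP : H.HP E P) : 0 ≤ alpha d P := by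
  rcases lt_or_eq_of_le hd with h | h
  · exact (H.alpha_eq_zero_of_dim_lt hE h hP).ge
  · exact (H.alpha_pos d hE h hP).le

/-- the Hilbert polynomial of a nonzero object of finite dimension is eventually positive -/
theorem polyLT_zero {E : C} (hE : H.ok E) (h0 : ¬ IsZero E) {d : ℕ} (hd : H.dim E ≤ (d : WithBot ℕ∞))
    {P : ℚ[X]} (hP : H.HP E P) : PolyLT 0 P := by
  obtain ⟨e, -, he⟩ := exists_nat_of_le hd (H.dim_ne_bot hE h0)
  exact polyLT_zero_of_alpha_pos (H.natDegree_le e hE he.le hP) (H.alpha_pos e hE he hP)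

/-- the Hilbert polynomial of an object of finite dimension is eventually nonnegative -/
theorem polyLE_zero {E : C} (hE : H.ok E) {d : ℕ} (hd : H.dim E ≤ (d : WithBot ℕ∞))
    {P : ℚ[X]} (hP : H.HP E P) : PolyLE 0 P := by
  by_cases h0 : IsZero E
  · rw [H.HP_eq_zero h0 hP]; exact polyLE_refl 0
  · exact polyLT_le (H.polyLT_zero hE h0 hd hP)

theorem isZero_of_HP_zero {E : C} (hE : H.ok E) {d : ℕ} (hd : H.dim E ≤ (d : WithBot ℕ∞))
    (hP : H.HP E 0) : IsZero E := by
  by_contra h0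
  exact polyLT_irrefl 0 (H.polyLT_zero hE h0 hd hP)

theorem alpha_int {E : C} (hE : H.ok E) {d : ℕ} (hd : H.dim E ≤ (d : WithBot ℕ∞))
    {P : ℚ[X]} (hP : H.HP E P) : ∃ z : ℤ, alpha d P = z :=
  StabPoly.alpha_int (H.natDegree_le d hE hd hP) (H.HP_int hP)

/-! ### purity -/

theorem IsPure.dim_eq {E : C} {d : ℕ} (hp : H.IsPure E d) (hE : H.ok E) (h0 : ¬ IsZero E) :
    H.dim E = (d : WithBot ℕ∞) :=
  hp E (𝟙 E) inferInstance hE h0

theorem IsPure.of_mono {E F : C} {d : ℕ} (hp : H.IsPure E d) (ι : F ⟶ E) [Mono ι] : H.IsPure F d :=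
  fun G κ hκ hG hG0 => hp G (κ ≫ ι) (by haveI := hκ; exact mono_comp κ ι) hG hG0

theorem IsPure.of_iso {E F : C} {d : ℕ} (hp : H.IsPure E d) (e : E ≅ F) : H.IsPure F d :=
  hp.of_mono H e.inv

theorem IsPure.alpha_pos {E F : C} {d : ℕ} (hp : H.IsPure E d) (ι : F ⟶ E) [Mono ι] (hF : H.ok F)
    (h0 : ¬ IsZero F) {P : ℚ[X]} (hP : H.HP F P) : 0 < alpha d P :=
  H.alpha_pos d hF (hp F ι inferInstance hF h0) hP

theorem isPure_of_isZero {E : C} (hE : IsZero E) (d : ℕ) : H.IsPure E d := by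
  intro F ι hι _ hF0
  exfalso
  apply hF0
  haveI := hι
  exact IsZero.of_mono ι hE

end HilbCtx

end Groth.Agent.R2.H70.StabCtx
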