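import Mathlib
import Groth.Agent.R2.H70StabCtx
import Groth.Agent.Lib.Helper27SubobjAb

/-!
# Subobject toolkit for a Hilbert-polynomial context (helper32, PROJ:shstab)

`ok` / `HP` for infima, suprema and subquotients of subobjects of an `ok` object.
-/

set_option autoImplicit false

universe v u

open CategoryTheory CategoryTheory.Limits Polynomial StabCat

namespace Groth.Agent.R2.H32.StabSub

open Groth.Agent.R2.H70.StabPoly Groth.Agent.R2.H70.StabCtx Groth.Agent.Lib.Helper27.SubobjAb

variable {C : Type u} [Category.{v} C] [Abelian C] (H : HilbCtx C) {E : C}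

/-- transfer `ok` to a subobject equal to `Subobject.mk m` -/
lemma ok_of_eq_mk {K : C} (m : K ⟶ E) [Mono m] (S : Subobject E) (h : S = Subobject.mk m)
    (hK : H.ok K) : H.ok (S : C) :=
  H.ok_iso (Subobject.isoOfEqMk S m h).symm hK

lemma ok_mk {K : C} (m : K ⟶ E) [Mono m] (hK : H.ok K) : H.ok ((Subobject.mk m : Subobject E) : C) :=
  ok_of_eq_mk H m _ rfl hK

lemma HP_mk {K : C} (m : K ⟶ E) [Mono m] {P : ℚ[X]} (hP : H.HP K P) :
    H.HP ((Subobject.mk m : Subobject E) : C) P :=
  H.HP_iso (Subobject.underlyingIso m).symm hP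

lemma HP_of_mk {K : C} (m : K ⟶ E) [Mono m] {P : ℚ[X]}
    (hP : H.HP ((Subobject.mk m : Subobject E) : C) P) : H.HP K P :=
  H.HP_iso (Subobject.underlyingIso m) hP

lemma ok_top (hE : H.ok E) : H.ok ((⊤ : Subobject E) : C) :=
  H.ok_iso (asIso (⊤ : Subobject E).arrow).symm hE

lemma ok_bot : H.ok ((⊥ : Subobject E) : C) :=
  H.ok_zero (IsZero.of_iso (isZero_zero C) Subobject.botCoeIsoZero)

lemma isZero_bot : IsZero ((⊥ : Subobject E) : C) :=
  IsZero.of_iso (isZero_zero C) Subobject.botCoeIsoZero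

lemma eq_bot_iff_isZero (F : Subobject E) : F = ⊥ ↔ IsZero (F : C) := by
  constructor
  · rintro rfl
    exact isZero_bot
  · intro h
    rw [← Subobject.mk_arrow F, Subobject.mk_eq_bot_iff_zero]
    exact h.eq_of_src _ _

/-- the infimum as a kernel -/
lemma inf_eq_mk (F G : Subobject E) :
    F ⊓ G = Subobject.mk (kernel.ι (F.arrow ≫ cokernel.π G.arrow) ≫ F.arrow) := by
  apply le_antisymm
  · have h0 : Subobject.ofLE (F ⊓ G) F inf_le_left ≫ F.arrow ≫ cokernel.π G.arrow = 0 := by
      rw [← Category.assoc, Subobject.ofLE_arrow]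
      exact (factors_iff_comp_cokernel G _).mp (Subobject.inf_arrow_factors_right F G)
    refine Subobject.le_mk_of_comm (kernel.lift _ (Subobject.ofLE (F ⊓ G) F inf_le_left) h0) ?_
    rw [← Category.assoc, kernel.lift_ι, Subobject.ofLE_arrow]
  · apply le_inf
    · exact Subobject.mk_le_of_comm (kernel.ι _) rfl
    · have hG : G.Factors (kernel.ι (F.arrow ≫ cokernel.π G.arrow) ≫ F.arrow) := by
        rw [factors_iff_comp_cokernel, Category.assoc, kernel.condition]
      exact Subobject.mk_le_of_comm (G.factorThru _ hG) (G.factorThru_arrow _ hG)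

lemma ok_inf (hE : H.ok E) (F G : Subobject E) (hF : H.ok (F : C)) (hG : H.ok (G : C)) :
    H.ok ((F ⊓ G : Subobject E) : C) :=
  ok_of_eq_mk H _ _ (inf_eq_mk F G)
    (H.ok_kernel _ hF (H.ok_cokernel G.arrow hG hE))

/-- the supremum as an image -/
lemma sup_eq_mk (F G : Subobject E) :
    F ⊔ G = Subobject.mk (Abelian.image.ι (biprod.desc F.arrow G.arrow)) := by
  apply le_antisymm
  · apply sup_le
    · refine Subobject.le_mk_of_comm (biprod.inl ≫ Abelian.factorThruImage _) ?_
      rw [Category.assoc, Abelian.image.fac, biprod.inl_desc]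
    · refine Subobject.le_mk_of_comm (biprod.inr ≫ Abelian.factorThruImage _) ?_
      rw [Category.assoc, Abelian.image.fac, biprod.inr_desc]
  · have hfac : (F ⊔ G).Factors (Abelian.image.ι (biprod.desc F.arrow G.arrow)) := by
      rw [factors_iff_comp_cokernel]
      rw [← cancel_epi (Abelian.factorThruImage (biprod.desc F.arrow G.arrow)), Limits.comp_zero,
        ← Category.assoc, Abelian.image.fac]
      apply biprod.hom_ext'
      · rw [← Category.assoc, biprod.inl_desc, Limits.comp_zero]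
        exact (factors_iff_comp_cokernel _ _).mp
          (Subobject.factors_of_le _ le_sup_left (Subobject.factors_self F))
      · rw [← Category.assoc, biprod.inr_desc, Limits.comp_zero]
        exact (factors_iff_comp_cokernel _ _).mp
          (Subobject.factors_of_le _ le_sup_right (Subobject.factors_self G))
    exact Subobject.mk_le_of_comm ((F ⊔ G).factorThru _ hfac) ((F ⊔ G).factorThru_arrow _ hfac)

lemma ok_sup (hE : H.ok E) (F G : Subobject E) (hF : H.ok (F : C)) (hG : H.ok (G : C)) :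
    H.ok ((F ⊔ G : Subobject E) : C) :=
  ok_of_eq_mk H _ _ (sup_eq_mk F G) (H.ok_image _ (H.ok_biprod hF hG) hE)

/-- the subquotient `G/F` -/
noncomputable abbrev quo (F G : Subobject E) (h : F ≤ G) : C := cokernel (Subobject.ofLE F G h)

lemma ok_quo {F G : Subobject E} (h : F ≤ G) (hF : H.ok (F : C)) (hG : H.ok (G : C)) :
    H.ok (quo F G h) :=
  H.ok_cokernel _ hF hG

lemma HP_quo {F G : Subobject E} (h : F ≤ G) (hF : H.ok (F : C)) (hG : H.ok (G : C))
    {pF pG : ℚ[X]} (hpF : H.HP (F : C) pF) (hpG : H.HP (G : C) pG) :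
    H.HP (quo F G h) (pG - pF) :=
  H.HP_cokernel _ hF hG hpF hpG

/-- `P(F ⊔ G) - P(F) = P(G) - P(F ⊓ G)` -/
lemma HP_sup_inf (hE : H.ok E) (F G : Subobject E) (hF : H.ok (F : C)) (hG : H.ok (G : C))
    {pF pG pS pI : ℚ[X]} (hpF : H.HP (F : C) pF) (hpG : H.HP (G : C) pG)
    (hpS : H.HP ((F ⊔ G : Subobject E) : C) pS) (hpI : H.HP ((F ⊓ G : Subobject E) : C) pI) :
    pS - pF = pG - pI := by
  obtain ⟨e⟩ := nonempty_second_iso F G
  have h1 := HP_quo H (le_sup_left : F ≤ F ⊔ G) hF (ok_sup H hE F G hF hG) hpF hpS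
  have h2 := HP_quo H (inf_le_right : F ⊓ G ≤ G) (ok_inf H hE F G hF hG) hG hpI hpG
  exact H.HP_unique (H.HP_iso e h1) h2

lemma isZero_quo_iff {F G : Subobject E} (h : F ≤ G) : IsZero (quo F G h) ↔ G ≤ F := by
  constructor
  · intro hz
    exact le_of_cokernel_π_eq_zero h (hz.eq_of_tgt _ _)
  · intro hGF
    have heq : F = G := le_antisymm h hGF
    subst heq
    have : IsIso (Subobject.ofLE F F h) := by
      have : Subobject.ofLE F F h = 𝟙 _ := by
        rw [← cancel_mono F.arrow, Subobject.ofLE_arrow, Category.id_comp]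
      rw [this]; infer_instance
    exact isZero_cokernel_of_epi _

lemma dim_sub_le (hE : H.ok E) (F : Subobject E) (hF : H.ok (F : C)) : H.dim (F : C) ≤ H.dim E :=
  H.dim_le_of_mono F.arrow hF hE

lemma dim_quo_le (hE : H.ok E) {F G : Subobject E} (h : F ≤ G) (hF : H.ok (F : C))
    (hG : H.ok (G : C)) : H.dim (quo F G h) ≤ H.dim E :=
  (H.dim_cokernel_le _ hF hG).trans (dim_sub_le H hE G hG)

end Groth.Agent.R2.H32.StabSub
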