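import Mathlib
import Groth.Prelude.Def_ShStab
import Groth.Agent.R2.H70StabCtx

/-!
# Interface for PROJ:shstab (helper70): the geometric Hilbert-polynomial context

`GeomCtx k X L` is a `HilbCtx` on `X.Modules` whose `ok`, `HP`, `dim` are `Coh.IsCoh`, `ShStab.IsHilbPoly k X L`
and the dimension of the support.  `PkgCtx` says that it exists for `X` proper over a field `k` and `L` ample
(existence, additivity, degree `=` dimension of the support and positivity of Hilbert polynomials, ACC).
The abstract theory (`R2/H70Stab*`, any `HilbCtx`) then gives the rows `ShStab.*` through the transfer lemmas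
`GeomCtx.isPure_iff`, `isSemistable_iff`, `isStable_iff`.
-/

set_option autoImplicit false

universe u

open CategoryTheory CategoryTheory.Limits AlgebraicGeometry Polynomial

namespace Groth.Agent.R2.H70.StabSpec

open Groth.Agent.R2.H70.StabCtx

/-- A Hilbert-polynomial context on `X.Modules` with the geometric `ok`, `HP`, `dim`. -/
structure GeomCtx (k : Type u) [Field k] (X : Scheme.{u}) [X.Over (Spec (CommRingCat.of k))]
    (L : X.Modules) where
  H : HilbCtx X.Modules
  ok_eq : H.ok = Coh.IsCoh
  HP_eq : H.HP = ShStab.IsHilbPoly k X L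
  dim_eq : H.dim = fun E => topologicalKrullDim (CohB1.support E)

/-- **The package**: the geometric context exists for `X` proper over a field and `L` ample. -/
def PkgCtx : Prop :=
  ∀ (k : Type u) [Field k] (X : Scheme.{u}) [X.Over (Spec (CommRingCat.of k))]
    [IsProper (X ↘ Spec (CommRingCat.of k))] (L : X.Modules), CohB1.IsAmple L →
    Nonempty (GeomCtx k X L)

namespace GeomCtx

variable {k : Type u} [Field k] {X : Scheme.{u}} [X.Over (Spec (CommRingCat.of k))] {L : X.Modules}
  (G : GeomCtx k X L)

theorem isPure_iff (E : X.Modules) (d : ℕ) : G.H.IsPure E d ↔ ShStab.IsPure X E d := by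
  unfold HilbCtx.IsPure ShStab.IsPure
  rw [G.ok_eq, G.dim_eq]

theorem isSemistable_iff (E : X.Modules) (d : ℕ) :
    G.H.IsSemistable E d ↔ ShStab.IsSemistable k X L E d := by
  unfold HilbCtx.IsSemistable ShStab.IsSemistable
  rw [G.isPure_iff, G.ok_eq, G.HP_eq]

theorem isStable_iff (E : X.Modules) (d : ℕ) :
    G.H.IsStable E d ↔ ShStab.IsStable k X L E d := by
  unfold HilbCtx.IsStable ShStab.IsStable
  rw [G.isPure_iff, G.ok_eq, G.HP_eq]

theorem isMaxDestab_iff (E : X.Modules) (d : ℕ) (F : X.Modules) (ι : F ⟶ E) :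
    StabCat.IsMaxDestabWith G.H.ok G.H.HP d E F ι ↔ ShStab.IsMaxDestab k X L E d F ι := by
  unfold ShStab.IsMaxDestab
  rw [G.ok_eq, G.HP_eq]

theorem isHNFiltration_iff (E : X.Modules) (d : ℕ) (s : LTSeries (Subobject E)) :
    StabCat.IsHNWith (fun F => G.H.IsSemistable F d) G.H.HP d E s ↔
      ShStab.IsHNFiltration k X L E d s := by
  unfold ShStab.IsHNFiltration
  have : (fun F => G.H.IsSemistable F d) = fun F => ShStab.IsSemistable k X L F d :=
    funext fun F => propext (G.isSemistable_iff F d)
  rw [this, G.HP_eq]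

theorem isJHFiltration_iff (E : X.Modules) (d : ℕ) (s : LTSeries (Subobject E)) :
    StabCat.IsJHWith (fun F => G.H.IsStable F d) G.H.HP d E s ↔
      ShStab.IsJHFiltration k X L E d s := by
  unfold ShStab.IsJHFiltration
  have : (fun F => G.H.IsStable F d) = fun F => ShStab.IsStable k X L F d :=
    funext fun F => propext (G.isStable_iff F d)
  rw [this, G.HP_eq]

end GeomCtx

end Groth.Agent.R2.H70.StabSpec
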