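import Mathlib
import Groth.Agent.R2.H32StabSub
import Groth.Agent.R2.H70StabSpec

/-!
# PROJ:shstab, PKG-MD (helper32): existence of the maximal destabilising subobject

Abstract form of Huybrechts–Lehn 1.3.5 for a Hilbert-polynomial context `H : HilbCtx C`:
a nonzero `ok` object `E` which is pure of dimension `d` has a maximal destabilising subobject.
-/

set_option autoImplicit false

universe v u

open CategoryTheory CategoryTheory.Limits Polynomial StabCat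

namespace Groth.Agent.R2.H32.StabMD

open Groth.Agent.R2.H70.StabPoly Groth.Agent.R2.H70.StabCtx Groth.Agent.R2.H32.StabSub

variable {C : Type u} [Category.{v} C] [Abelian C] (H : HilbCtx C) {E : C}

/-- nonzero `ok` subobjects -/
def Sd (F : Subobject E) : Prop := H.ok (F : C) ∧ F ≠ ⊥

/-- a chosen Hilbert polynomial of a subobject (`0` if the subobject is not `ok`) -/
noncomputable def hpOf (F : Subobject E) : ℚ[X] := by
  classical
  exact if h : H.ok (F : C) then (H.HP_exists h).choose else 0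

lemma HP_hpOf {F : Subobject E} (h : H.ok (F : C)) : H.HP (F : C) (hpOf H F) := by
  unfold hpOf
  rw [dif_pos h]
  exact (H.HP_exists h).choose_spec

lemma hpOf_eq {F : Subobject E} {P : ℚ[X]} (hP : H.HP (F : C) P) (h : H.ok (F : C)) :
    hpOf H F = P :=
  H.HP_unique (HP_hpOf H h) hP

lemma hpOf_bot : hpOf H (⊥ : Subobject E) = 0 :=
  hpOf_eq H (H.HP_zero isZero_bot) (ok_bot H)

section pure

variable {d : ℕ} (hE : H.ok E) (hp : H.IsPure E d)

include hp in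
lemma alpha_pos_of_Sd {F : Subobject E} (hF : Sd H F) : 0 < alpha d (hpOf H F) :=
  hp.alpha_pos H F.arrow hF.1 (fun hz => hF.2 ((eq_bot_iff_isZero F).2 hz)) (HP_hpOf H hF.1)

include hE hp in
lemma dim_le_of_ok (h0 : ¬ IsZero E) {K : C} (_hK : H.ok K) (hKE : H.dim K ≤ H.dim E) :
    H.dim K ≤ (d : WithBot ℕ∞) := by
  rw [← hp.dim_eq H hE h0]
  exact hKE

include hE hp in
/-- the multiplicity of a subquotient is nonnegative -/
lemma alpha_quo_nonneg (h0 : ¬ IsZero E) {F G : Subobject E} (h : F ≤ G) (hF : H.ok (F : C))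
    (hG : H.ok (G : C)) : 0 ≤ alpha d (hpOf H G - hpOf H F) :=
  H.alpha_nonneg (ok_quo H h hF hG)
    (dim_le_of_ok H hE hp h0 (ok_quo H h hF hG) (dim_quo_le H hE h hF hG))
    (HP_quo H h hF hG (HP_hpOf H hF) (HP_hpOf H hG))

/-- the order `F ≼ G`: inclusion and comparison of reduced Hilbert polynomials -/
def lePre (d : ℕ) (F G : Subobject E) : Prop := F ≤ G ∧ RedLE d (hpOf H F) (hpOf H G)

lemma lePre_refl (F : Subobject E) : lePre H d F F := ⟨le_rfl, redLE_refl d _⟩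

include hp in
lemma lePre_trans {F G K : Subobject E} (hF : Sd H F) (hG : Sd H G) (hK : Sd H K)
    (h₁ : lePre H d F G) (h₂ : lePre H d G K) : lePre H d F K :=
  ⟨h₁.1.trans h₂.1, redLE_trans (alpha_pos_of_Sd H hp hF).le (alpha_pos_of_Sd H hp hG)
    (alpha_pos_of_Sd H hp hK).le h₁.2 h₂.2⟩

include hE in
lemma wellFoundedGT_ok : WellFoundedGT {F : Subobject E // H.ok (F : C)} := by
  rw [wellFoundedGT_iff_monotone_chain_condition]
  intro a
  obtain ⟨n, hn⟩ := H.acc hE ⟨fun k => (a k).1, fun i j hij => a.monotone hij⟩ (fun k => (a k).2)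
  exact ⟨n, fun m hm => Subtype.ext (hn m hm).symm⟩

/-- `F` is `≼`-maximal among the nonzero `ok` subobjects contained in `B` -/
def IsMaxlIn (d : ℕ) (B F : Subobject E) : Prop :=
  Sd H F ∧ F ≤ B ∧ ∀ G, Sd H G → G ≤ B → lePre H d F G → G = F

include hE hp in
/-- every nonzero `ok` subobject of `B` is `≼` a `≼`-maximal one -/
lemma exists_isMaxlIn (B F : Subobject E) (hF : Sd H F) (hFB : F ≤ B) :
    ∃ F', IsMaxlIn H d B F' ∧ lePre H d F F' := by
  have hwf := (wellFoundedGT_ok H hE).wf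
  let T : Set {K : Subobject E // H.ok (K : C)} :=
    {x | Sd H x.1 ∧ x.1 ≤ B ∧ lePre H d F x.1}
  have hne : T.Nonempty := ⟨⟨F, hF.1⟩, hF, hFB, lePre_refl H F⟩
  obtain ⟨m, hmT, hmin⟩ := hwf.has_min T hne
  refine ⟨m.1, ⟨hmT.1, hmT.2.1, fun G hG hGB hmG => ?_⟩, hmT.2.2⟩
  have hGT : (⟨G, hG.1⟩ : {K : Subobject E // H.ok (K : C)}) ∈ T :=
    ⟨hG, hGB, lePre_trans H hp hF hmT.1 hG hmT.2.2 hmG⟩
  have hnot := hmin _ hGT
  by_contra hne'
  have hlt : m.1 < G := lt_of_le_of_ne hmG.1 (fun h => hne' h.symm)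
  exact hnot hlt

include hE hp in
/-- **Claim A**: if `F` is `≼`-maximal, `G ⊄ F` and `p(F) ≤ p(G)`, then `p(G) < p(F ∩ G)`. -/
lemma claimA (h0 : ¬ IsZero E) {F G : Subobject E} (hF : IsMaxlIn H d ⊤ F) (hG : Sd H G)
    (hGF : ¬ G ≤ F) (hle : RedLE d (hpOf H F) (hpOf H G)) :
    Sd H (F ⊓ G) ∧ RedLT d (hpOf H G) (hpOf H (F ⊓ G)) := by
  have hU : Sd H (F ⊔ G) := ⟨ok_sup H hE F G hF.1.1 hG.1, fun h => hG.2 (le_bot_iff.mp (h ▸ le_sup_right))⟩
  have hIok : H.ok ((F ⊓ G : Subobject E) : C) := ok_inf H hE F G hF.1.1 hG.1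
  have hFU : F ≠ F ⊔ G := fun h => hGF (h ▸ le_sup_right)
  -- (1) `p(F ⊔ G) < p(F)`
  have h1 : RedLT d (hpOf H (F ⊔ G)) (hpOf H F) := by
    rcases redLE_or_redLT d (hpOf H F) (hpOf H (F ⊔ G)) with h | h
    · exact absurd (hF.2.2 (F ⊔ G) hU le_top ⟨le_sup_left, h⟩).symm hFU
    · exact h
  -- the polynomial of the common quotient
  have hQ : hpOf H (F ⊔ G) - hpOf H F = hpOf H G - hpOf H (F ⊓ G) :=
    HP_sup_inf H hE F G hF.1.1 hG.1 (HP_hpOf H hF.1.1) (HP_hpOf H hG.1) (HP_hpOf H hU.1)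
      (HP_hpOf H hIok)
  -- (2) seesaw on `F ≤ F ⊔ G`
  have h2 : RedLT d (hpOf H (F ⊔ G) - hpOf H F) (hpOf H (F ⊔ G)) := redLT_sub_left_iff.mpr h1
  -- (3) transitivity
  have hQnn : 0 ≤ alpha d (hpOf H (F ⊔ G) - hpOf H F) :=
    alpha_quo_nonneg H hE hp h0 le_sup_left hF.1.1 hU.1
  have h3 : RedLT d (hpOf H (F ⊔ G) - hpOf H F) (hpOf H F) :=
    redLT_of_redLT_of_redLE hQnn (alpha_pos_of_Sd H hp hU) (alpha_pos_of_Sd H hp hF.1) h2
      (redLT_le h1)
  have h4 : RedLT d (hpOf H (F ⊔ G) - hpOf H F) (hpOf H G) :=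
    redLT_of_redLT_of_redLE hQnn (alpha_pos_of_Sd H hp hF.1) (alpha_pos_of_Sd H hp hG) h3 hle
  -- (4) seesaw on `F ⊓ G ≤ G`
  rw [hQ] at h4
  have h5 : RedLT d (hpOf H G) (hpOf H (F ⊓ G)) := redLT_sub_left_iff.mp h4
  refine ⟨⟨hIok, fun hbot => ?_⟩, h5⟩
  rw [hbot, hpOf_bot] at h5
  unfold RedLT at h5
  rw [alpha_zero, zero_smul, smul_zero] at h5
  exact polyLT_irrefl _ h5

include hE hp in
lemma alpha_int_of_ok (h0 : ¬ IsZero E) {F : Subobject E} (hF : H.ok (F : C)) :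
    ∃ z : ℤ, alpha d (hpOf H F) = z :=
  H.alpha_int hF (dim_le_of_ok H hE hp h0 hF (dim_sub_le H hE F hF)) (HP_hpOf H hF)

include hE hp in
/-- a subobject with strictly bigger reduced polynomial has strictly smaller multiplicity -/
lemma alpha_lt_of_lt (h0 : ¬ IsZero E) {G F : Subobject E} (hG : Sd H G) (hF : Sd H F)
    (hGF : G ≤ F) (hlt : RedLT d (hpOf H F) (hpOf H G)) :
    alpha d (hpOf H G) < alpha d (hpOf H F) := by
  have hnn := alpha_quo_nonneg H hE hp h0 hGF hG.1 hF.1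
  rw [alpha_sub] at hnn
  rcases hnn.lt_or_eq with h | h
  · linarith
  · exfalso
    have ha : alpha d (hpOf H F) = alpha d (hpOf H G) := by linarith
    unfold RedLT at hlt
    rw [ha] at hlt
    have h1 : PolyLT (hpOf H F) (hpOf H G) := polyLT_of_smul (alpha_pos_of_Sd H hp hG) hlt
    have h2 : PolyLE 0 (hpOf H F - hpOf H G) :=
      H.polyLE_zero (ok_quo H hGF hG.1 hF.1)
        (dim_le_of_ok H hE hp h0 (ok_quo H hGF hG.1 hF.1) (dim_quo_le H hE hGF hG.1 hF.1))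
        (HP_quo H hGF hG.1 hF.1 (HP_hpOf H hG.1) (HP_hpOf H hF.1))
    have h3 : PolyLT (hpOf H F - hpOf H G) 0 :=
      (polyLT_iff_of_sub_eq (by ring)).mp h1
    exact not_polyLT_of_polyLE h2 h3

include hE hp in
/-- the maximal destabilising subobject, in terms of `Subobject E` -/
theorem exists_maxDestab_sub (h0 : ¬ IsZero E) :
    ∃ F : Subobject E, Sd H F ∧ ∀ G : Subobject E, Sd H G →
      RedLE d (hpOf H G) (hpOf H F) ∧ (RedEq d (hpOf H G) (hpOf H F) → G ≤ F) := by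
  have hTop : Sd H (⊤ : Subobject E) :=
    ⟨ok_top H hE, fun h => h0 (IsZero.of_iso ((eq_bot_iff_isZero _).1 h)
      (asIso (⊤ : Subobject E).arrow).symm)⟩
  obtain ⟨M0, hM0, -⟩ := exists_isMaxlIn H hE hp ⊤ ⊤ hTop le_rfl
  -- choose a `≼`-maximal element of minimal multiplicity
  let P : ℤ → Prop := fun z => ∃ F : Subobject E, IsMaxlIn H d ⊤ F ∧ alpha d (hpOf H F) = (z : ℚ)
  have hbdd : ∃ b : ℤ, ∀ z, P z → b ≤ z := ⟨0, fun z hz => by
    obtain ⟨F, hF, hz⟩ := hz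
    have := alpha_pos_of_Sd H hp hF.1
    rw [hz] at this
    exact_mod_cast this.le⟩
  have hinh : ∃ z, P z := by
    obtain ⟨z, hz⟩ := alpha_int_of_ok H hE hp h0 hM0.1.1
    exact ⟨z, M0, hM0, hz⟩
  obtain ⟨z0, ⟨F, hF, hFz⟩, hz0⟩ := Int.exists_least_of_bdd hbdd hinh
  have hminF : ∀ G : Subobject E, IsMaxlIn H d ⊤ G → alpha d (hpOf H F) ≤ alpha d (hpOf H G) := by
    intro G hG
    obtain ⟨z, hz⟩ := alpha_int_of_ok H hE hp h0 hG.1.1
    have := hz0 z ⟨G, hG, hz⟩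
    rw [hFz, hz]
    exact_mod_cast this
  have apos : ∀ {K : Subobject E}, Sd H K → 0 < alpha d (hpOf H K) :=
    fun hK => alpha_pos_of_Sd H hp hK
  -- Claim B: no subobject of `F` has a bigger reduced polynomial
  have claimB : ∀ G : Subobject E, Sd H G → G ≤ F → ¬ RedLT d (hpOf H F) (hpOf H G) := by
    intro G0 hG0 hG0F hlt0
    obtain ⟨G, hG, hG0G⟩ := exists_isMaxlIn H hE hp F G0 hG0 hG0F
    have hltG : RedLT d (hpOf H F) (hpOf H G) :=
      redLT_of_redLT_of_redLE (apos hF.1).le (apos hG0) (apos hG.1) hlt0 hG0G.2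
    obtain ⟨G', hG', hGG'⟩ := exists_isMaxlIn H hE hp ⊤ G hG.1 le_top
    have hltG' : RedLT d (hpOf H F) (hpOf H G') :=
      redLT_of_redLT_of_redLE (apos hF.1).le (apos hG.1) (apos hG'.1) hltG hGG'.2
    by_cases hG'F : G' ≤ F
    · have hGe : G' = G := hG.2.2 G' hG'.1 hG'F hGG'
      subst hGe
      have h1 := alpha_lt_of_lt H hE hp h0 hG'.1 hF.1 hG'F hltG'
      have h2 := hminF G' hG'
      linarith
    · obtain ⟨hI, hIlt⟩ := claimA H hE hp h0 hF hG'.1 hG'F (redLT_le hltG')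
      have hGI : G ≤ F ⊓ G' := le_inf hG.2.1 hGG'.1
      have hle : RedLE d (hpOf H G) (hpOf H (F ⊓ G')) :=
        redLT_le (redLT_of_redLE_of_redLT (apos hG.1) (apos hG'.1) (apos hI).le hGG'.2 hIlt)
      have hEq : F ⊓ G' = G := hG.2.2 (F ⊓ G') hI inf_le_left ⟨hGI, hle⟩
      rw [hEq] at hIlt
      exact not_redLT_of_redLE hGG'.2 hIlt
  refine ⟨F, hF.1, fun G hG => ?_⟩
  have key : ¬ RedLT d (hpOf H F) (hpOf H G) := by
    intro hlt
    by_cases hGF : G ≤ F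
    · exact claimB G hG hGF hlt
    · obtain ⟨hI, hIlt⟩ := claimA H hE hp h0 hF hG hGF (redLT_le hlt)
      exact claimB (F ⊓ G) hI inf_le_left
        (redLT_of_redLT_of_redLE (apos hF.1).le (apos hG) (apos hI) hlt (redLT_le hIlt))
  constructor
  · rcases redLE_or_redLT d (hpOf H G) (hpOf H F) with h | h
    · exact h
    · exact absurd h key
  · intro heq
    by_contra hGF
    obtain ⟨hI, hIlt⟩ := claimA H hE hp h0 hF hG hGF (redLE_of_redEq' heq)
    exact claimB (F ⊓ G) hI inf_le_left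
      (redLT_of_redLE_of_redLT (apos hF.1) (apos hG) (apos hI).le (redLE_of_redEq' heq) hIlt)

include hE hp in
/-- **PKG-MD**: existence of the maximal destabilising subobject (Huybrechts–Lehn 1.3.5). -/
theorem exists_isMaxDestab (h0 : ¬ IsZero E) :
    ∃ (F : C) (ι : F ⟶ E), IsMaxDestabWith H.ok H.HP d E F ι := by
  obtain ⟨F, hF, hmax⟩ := exists_maxDestab_sub H hE hp h0
  refine ⟨(F : C), F.arrow, inferInstance, hF.1, fun hz => hF.2 ((eq_bot_iff_isZero F).2 hz), ?_⟩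
  intro G κ hκ hG hG0 pF pG hpF hpG
  have := hκ
  have hS : Sd H (Subobject.mk κ) := ⟨ok_mk H κ hG, fun h => hG0 (by
    rw [Subobject.mk_eq_bot_iff_zero] at h
    exact IsZero.of_mono_eq_zero κ h)⟩
  have e1 : hpOf H (Subobject.mk κ) = pG := hpOf_eq H (HP_mk H κ hpG) hS.1
  have e2 : hpOf H F = pF := hpOf_eq H hpF hF.1
  obtain ⟨h1, h2⟩ := hmax _ hS
  rw [e1, e2] at h1 h2
  refine ⟨h1, fun heq => ?_⟩
  have hle := h2 heq
  exact ⟨(Subobject.underlyingIso κ).inv ≫ Subobject.ofLE _ _ hle, by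
    rw [Category.assoc, Subobject.ofLE_arrow, Subobject.underlyingIso_arrow]⟩

end pure

end Groth.Agent.R2.H32.StabMD

namespace Groth.Agent.R2.H32.StabMD

open AlgebraicGeometry Groth.Agent.R2.H70.StabSpec

/-- the frozen statement `S15200` against `PkgCtx` -/
theorem s15200_of (hctx : PkgCtx.{u}) (k : Type u) [Field k] (X : Scheme.{u})
    [X.Over (Spec (CommRingCat.of k))] [IsProper (X ↘ Spec (CommRingCat.of k))]
    (L : X.Modules) (hL : CohB1.IsAmple L) (d : ℕ) (E : X.Modules)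
    (hE : Coh.IsCoh E) (h0 : ¬ IsZero E) (hp : ShStab.IsPure X E d) :
    ∃ (F : X.Modules) (ι : F ⟶ E), ShStab.IsMaxDestab k X L E d F ι := by
  obtain ⟨Γ⟩ := hctx k X L hL
  obtain ⟨F, ι, h⟩ := exists_isMaxDestab Γ.H (Γ.ok_eq ▸ hE) ((Γ.isPure_iff E d).2 hp) h0
  exact ⟨F, ι, (Γ.isMaxDestab_iff E d F ι).1 h⟩

end Groth.Agent.R2.H32.StabMD
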