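import Mathlib
import Groth.Agent.R2.H77SymTensor

/-!
# helper32: multiplying out symmetric tensors of a purely inseparable extension (for S13839)

ns `Groth.Agent.R2.H32.SymField`. Base change `θ` of tensor powers `⨂[A] L → ⨂[K] L`, and the lemma
`lift_mem_range_of_symmetric`: for `L/K` purely inseparable with `[L:K] ∣ d`, the product of a
symmetric tensor in `⨂[A]^d L` lies in `K` (uses helper77's spanning lemma over infinite fields;
finite fields are perfect).
-/

set_option autoImplicit false
universe u

namespace Groth.Agent.R2.H32.SymField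

open scoped TensorProduct
open PiTensorProduct

section

variable {A : Type u} [CommRing A] {K L : Type u} [Field K] [Field L]
variable [Algebra A K] [Algebra A L] [Algebra K L] [IsScalarTower A K L] (d : ℕ)

variable (A K L) in
/-- Base change of tensor powers from `A` to `K`. -/
noncomputable def θ : (⨂[A] _ : Fin d, L) →ₗ[A] (⨂[K] _ : Fin d, L) :=
  PiTensorProduct.lift ((PiTensorProduct.tprod K (s := fun _ : Fin d => L)).restrictScalars A)

theorem θ_tprod (f : Fin d → L) : θ A K L d (tprod A f) = tprod K f := by
  simp [θ]

theorem θ_reindex (σ : Equiv.Perm (Fin d)) (z : ⨂[A] _ : Fin d, L) :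
    θ A K L d (PiTensorProduct.reindex A (fun _ : Fin d => L) σ z) =
      PiTensorProduct.reindex K (fun _ : Fin d => L) σ (θ A K L d z) := by
  induction z using PiTensorProduct.induction_on with
  | smul_tprod r f =>
    have e1 : PiTensorProduct.reindex A (fun _ : Fin d => L) σ (r • tprod A f) =
        r • tprod A (fun i => f (σ.symm i)) := by
      rw [map_smul, PiTensorProduct.reindex_tprod]
    have e2 : θ A K L d (r • tprod A f) = algebraMap A K r • tprod K f := by
      rw [map_smul, θ_tprod, algebraMap_smul]
    have e3 : θ A K L d (r • tprod A (fun i => f (σ.symm i))) =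
        algebraMap A K r • tprod K (fun i => f (σ.symm i)) := by
      rw [map_smul, θ_tprod, algebraMap_smul]
    rw [e1, e2, e3, map_smul, PiTensorProduct.reindex_tprod]
  | add x y hx hy => rw [map_add, map_add, hx, hy, map_add, map_add]

theorem lift_θ (z : ⨂[A] _ : Fin d, L) :
    PiTensorProduct.lift (MultilinearMap.mkPiAlgebra K (Fin d) L) (θ A K L d z) =
      PiTensorProduct.lift (MultilinearMap.mkPiAlgebra A (Fin d) L) z := by
  induction z using PiTensorProduct.induction_on with
  | smul_tprod r f =>
    have e2 : θ A K L d (r • tprod A f) = algebraMap A K r • tprod K f := by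
      rw [map_smul, θ_tprod, algebraMap_smul]
    rw [e2, map_smul, map_smul, PiTensorProduct.lift.tprod, PiTensorProduct.lift.tprod,
      algebraMap_smul]
    rfl
  | add x y hx hy => rw [map_add, map_add, hx, hy, map_add]


/-- In a purely inseparable extension whose degree divides `d`, `d`-th powers lie in the base field. -/
theorem pow_mem_range [IsPurelyInseparable K L] [FiniteDimensional K L]
    (hdeg : Module.finrank K L ∣ d) (v : L) : v ^ d ∈ Set.range (algebraMap K L) := by
  obtain ⟨q, hq⟩ := ExpChar.exists K
  obtain ⟨n, y, hmin⟩ := IsPurelyInseparable.minpoly_eq_X_pow_sub_C K q v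
  have hint : IsIntegral K v := Algebra.IsIntegral.isIntegral v
  have hdvd : q ^ n ∣ d := by
    have h1 := minpoly.degree_dvd hint
    rw [hmin, Polynomial.natDegree_sub_C, Polynomial.natDegree_X_pow] at h1
    exact h1.trans hdeg
  have hv : v ^ q ^ n = algebraMap K L y := by
    have := minpoly.aeval K v
    rw [hmin] at this
    simpa [sub_eq_zero] using this
  obtain ⟨e, rfl⟩ := hdvd
  exact ⟨y ^ e, by rw [map_pow, ← hv, pow_mul]⟩

/-- Key field-theoretic lemma: multiplying out a symmetric tensor of a purely inseparable extension
whose degree divides `d` gives an element of the base field. -/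
theorem lift_mem_range_of_symmetric [IsPurelyInseparable K L] (hd : 0 < d)
    (hdeg : Module.finrank K L ∣ d) (z : ⨂[A] _ : Fin d, L)
    (hz : ∀ σ : Equiv.Perm (Fin d), PiTensorProduct.reindex A (fun _ : Fin d => L) σ z = z) :
    PiTensorProduct.lift (MultilinearMap.mkPiAlgebra A (Fin d) L) z ∈
      Set.range (algebraMap K L) := by
  have hpos : 0 < Module.finrank K L := by
    rcases Nat.eq_zero_or_pos (Module.finrank K L) with h | h
    · rw [h, zero_dvd_iff] at hdeg; omega
    · exact h
  haveI : FiniteDimensional K L := Module.finite_of_finrank_pos hpos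
  rcases finite_or_infinite K with hK | hK
  · haveI : Algebra.IsSeparable K L := inferInstance
    exact IsPurelyInseparable.surjective_algebraMap_of_isSeparable K L _
  · rw [← lift_θ (K := K)]
    have hz' : ∀ σ : Equiv.Perm (Fin d),
        PiTensorProduct.reindex K (fun _ : Fin d => L) σ (θ A K L d z) = θ A K L d z := by
      intro σ
      rw [← θ_reindex, hz σ]
    have hspan := Groth.Agent.R2.H77.SymTensor.mem_span_tprod_const (k := K) (V := L)
      (θ A K L d z) hz'
    have hle : Submodule.span K
        (Set.range fun v : L => PiTensorProduct.tprod K (fun _ : Fin d => v)) ≤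
        Submodule.comap (PiTensorProduct.lift (MultilinearMap.mkPiAlgebra K (Fin d) L))
          (LinearMap.range (Algebra.linearMap K L)) := by
      rw [Submodule.span_le]
      rintro _ ⟨v, rfl⟩
      show PiTensorProduct.lift (MultilinearMap.mkPiAlgebra K (Fin d) L)
        (PiTensorProduct.tprod K (fun _ : Fin d => v)) ∈ LinearMap.range (Algebra.linearMap K L)
      rw [PiTensorProduct.lift.tprod, MultilinearMap.mkPiAlgebra_apply, Finset.prod_const,
        Finset.card_univ, Fintype.card_fin]
      obtain ⟨y, hy⟩ := pow_mem_range d hdeg v
      exact ⟨y, hy⟩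
    obtain ⟨y, hy⟩ := hle hspan
    exact ⟨y, hy⟩

end

end Groth.Agent.R2.H32.SymField
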