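import Groth.Agent.R2.H41TypeASpec

/-!
# PROJ:typeA, PkgConv and PkgH (helper32)

Conversion between the statement form of "type A" (`ModSite.freeOn`, index types `Fin n`) and the
working form `IsFP` (`fr O`, index types any `Fintype`).
-/

set_option autoImplicit false
universe u
open CategoryTheory CategoryTheory.Limits Opposite

namespace Groth.Agent.R2.H32.TypeAConv

open Groth.Agent.R2.H41.TypeASpec Groth.Agent.Lib.Helper17.Hyp

section abelian

variable {A : Type*} [Category A] [Abelian A]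

/-- if `F ≅ coker ψ` then the kernel of the induced epi `p : Y ⟶ F` receives an epi from `X`. -/
lemma epi_kernel_lift_of_iso_cokernel {X Y F : A} (ψ : X ⟶ Y) (e : F ≅ cokernel ψ) :
    ∃ w : ψ ≫ (cokernel.π ψ ≫ e.inv) = 0, Epi (kernel.lift (cokernel.π ψ ≫ e.inv) ψ w) := by
  have w : ψ ≫ (cokernel.π ψ ≫ e.inv) = 0 := by rw [← Category.assoc, cokernel.condition, zero_comp]
  refine ⟨w, ?_⟩
  have hex : (ShortComplex.mk ψ (cokernel.π ψ) (cokernel.condition ψ)).Exact :=
    ShortComplex.exact_of_g_is_cokernel _ (cokernelIsCokernel ψ)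
  have hex' : (ShortComplex.mk ψ (cokernel.π ψ ≫ e.inv) w).Exact := by
    let φ : ShortComplex.mk ψ (cokernel.π ψ) (cokernel.condition ψ) ⟶
        ShortComplex.mk ψ (cokernel.π ψ ≫ e.inv) w :=
      { τ₁ := 𝟙 _, τ₂ := 𝟙 _, τ₃ := e.inv }
    exact (ShortComplex.exact_iff_of_epi_of_isIso_of_mono φ).1 hex
  exact hex'.epi_kernelLift

/-- an epi `p` with an epi `q` onto its kernel presents the target as a cokernel. -/
lemma nonempty_iso_cokernel_of_epi {X Y F : A} (p : Y ⟶ F) [Epi p] (q : X ⟶ kernel p) [Epi q] :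
    Nonempty (F ≅ cokernel (q ≫ kernel.ι p)) := by
  have hex : (ShortComplex.mk (q ≫ kernel.ι p) p (by rw [Category.assoc, kernel.condition, comp_zero])).Exact := by
    rw [ShortComplex.exact_iff_epi_kernel_lift]
    have : kernel.lift p (q ≫ kernel.ι p) (by rw [Category.assoc, kernel.condition, comp_zero]) = q := by
      rw [← cancel_mono (kernel.ι p), kernel.lift_ι]
    dsimp
    rw [this]
    infer_instance
  exact ⟨(IsColimit.coconePointUniqueUpToIso (cokernelIsCokernel _) hex.gIsCokernel).symm⟩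

end abelian

variable {C : Type u} [SmallCategory C] {J : GrothendieckTopology C}
  (O : Sheaf J CommRingCat.{u}) (B : Set C)

/-- a chosen iso `fr X ≅ freeOn X` -/
noncomputable def frIso (X : C) : (fr O).obj X ≅ ModSite.freeOn O X :=
  (nonempty_frModR_iso_freeOn O X).some

lemma isTypeA_of_iso {F G : ModSite.Mod O} (e : F ≅ G) (hF : IsTypeA O B F) : IsTypeA O B G := by
  obtain ⟨m', n', V', U', ψ, hV, hU, ⟨i⟩⟩ := hF
  exact ⟨m', n', V', U', ψ, hV, hU, ⟨e.symm ≪≫ i⟩⟩

/-- reindexing + change of model of a finite coproduct of free modules -/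
noncomputable def coprodIso {ι : Type} (U : ι → C) {n : ℕ} (e : ι ≃ Fin n) :
    (∐ fun i => (fr O).obj (U i)) ≅ ∐ fun k : Fin n => ModSite.freeOn O (U (e.symm k)) :=
  Sigma.whiskerEquiv e (fun i => (frIso O (U (e.symm (e i)))).symm ≪≫
    eqToIso (by rw [e.symm_apply_apply]))

/-- change of model of a coproduct of free modules -/
noncomputable def coprodIso' {ι : Type} (U : ι → C) :
    (∐ fun i => (fr O).obj (U i)) ≅ ∐ fun i => ModSite.freeOn O (U i) :=
  Sigma.mapIso (fun i => frIso O (U i))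

theorem isFP_of_isTypeA {F : ModSite.Mod O} (hF : IsTypeA O B F) : IsFP O B F := by
  obtain ⟨m', n', V', U', ψ, hV, hU, ⟨i⟩⟩ := hF
  let eV := coprodIso' O V'
  let eU := coprodIso' O U'
  let ψ' : (∐ fun j => (fr O).obj (V' j)) ⟶ ∐ fun i => (fr O).obj (U' i) := eV.hom ≫ ψ ≫ eU.inv
  have hsq : ψ' ≫ eU.hom = eV.hom ≫ ψ := by
    simp only [ψ', Category.assoc, Iso.inv_hom_id, Category.comp_id]
  let ec : cokernel ψ' ≅ cokernel ψ := cokernel.mapIso ψ' ψ eV eU hsq
  let e : F ≅ cokernel ψ' := i ≪≫ ec.symm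
  obtain ⟨w, hepi⟩ := epi_kernel_lift_of_iso_cokernel ψ' e
  refine ⟨Fin n', inferInstance, U', cokernel.π ψ' ≫ e.inv, hU, inferInstance,
    ⟨Fin m', inferInstance, V', kernel.lift _ ψ' w, hV, hepi⟩⟩

theorem isTypeA_of_isFP {F : ModSite.Mod O} (hF : IsFP O B F) : IsTypeA O B F := by
  obtain ⟨ι, hι, U, p, hU, hp, κ, hκ, V, q, hV, hq⟩ := hF
  obtain ⟨i⟩ := nonempty_iso_cokernel_of_epi p q
  let eι := Fintype.equivFin ι
  let eκ := Fintype.equivFin κ
  let eU := coprodIso O U eι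
  let eV := coprodIso O V eκ
  let ψ : (∐ fun k : Fin (Fintype.card κ) => ModSite.freeOn O (V (eκ.symm k))) ⟶
      ∐ fun k : Fin (Fintype.card ι) => ModSite.freeOn O (U (eι.symm k)) :=
    eV.inv ≫ (q ≫ kernel.ι p) ≫ eU.hom
  have hsq : (q ≫ kernel.ι p) ≫ eU.hom = eV.hom ≫ ψ := by
    simp only [ψ, Category.assoc, Iso.hom_inv_id_assoc]
  exact ⟨_, _, _, _, ψ, fun j => hV _, fun k => hU _,
    ⟨i ≪≫ cokernel.mapIso _ ψ eV eU hsq⟩⟩

/-- **PkgConv** -/
theorem pkgConv : PkgConv.{u} := fun O B _ => ⟨isFP_of_isTypeA O B, isTypeA_of_isFP O B⟩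

/-- **PkgH** -/
theorem pkgH : PkgH.{u} := by
  intro C _ J O B hker ι κ hι hκ V U φ hV hU
  let eι := Fintype.equivFin ι
  let eκ := Fintype.equivFin κ
  let eU := coprodIso O U eι
  let eV := coprodIso O V eκ
  let φ' : (∐ fun k : Fin (Fintype.card κ) => ModSite.freeOn O (V (eκ.symm k))) ⟶
      ∐ fun k : Fin (Fintype.card ι) => ModSite.freeOn O (U (eι.symm k)) :=
    eV.inv ≫ φ ≫ eU.hom
  have hsq : φ ≫ eU.hom = eV.hom ≫ φ' := by
    simp only [φ', Iso.hom_inv_id_assoc]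
  have hA : IsTypeA O B (kernel φ') := hker _ _ _ _ φ' (fun j => hV _) (fun k => hU _)
  exact isFP_of_isTypeA O B (isTypeA_of_iso O B (kernel.mapIso φ φ' eV eU hsq).symm hA)

end Groth.Agent.R2.H32.TypeAConv
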