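import Mathlib

/-!
# helper33: closed subsets of affine space invariant under elementary automorphisms

`A = k[x₁,…,xₙ]`, `T i j d : A → A` the substitution `x_i ↦ x_i + x_j ^ d`.  A closed subset `Zs` of
`Spec A` stable under all `comap (T i j d)` (`i ≠ j`) which contains a point one of whose
coordinates has infinitely many distinct powers (or which lives in characteristic zero) is
everything (`vanishingIdeal_eq_bot`).
-/

set_option autoImplicit false
universe u v

open MvPolynomial

namespace Groth.Agent.R2.H33.AffInv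

variable {k : Type u} [Field k] {n : ℕ}

/-- The substitution `x_i ↦ x_i + x_j ^ d`. -/
noncomputable abbrev T (k : Type u) [Field k] {n : ℕ} (i j : Fin n) (d : ℕ) :
    MvPolynomial (Fin n) k →+* MvPolynomial (Fin n) k :=
  (MvPolynomial.aeval (R := k)
    (Function.update MvPolynomial.X i (MvPolynomial.X i + MvPolynomial.X j ^ d) :
      Fin n → MvPolynomial (Fin n) k)).toRingHom

section

variable {D : Type v} [CommRing D]

/-- evaluation at a point with coordinates in `D`. -/
noncomputable abbrev ev (ι : k →+* D) (b : Fin n → D) : MvPolynomial (Fin n) k →+* D :=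
  MvPolynomial.eval₂Hom ι b

theorem ev_comp_T (ι : k →+* D) (b : Fin n → D) (i j : Fin n) (hij : i ≠ j) (d : ℕ) :
    (ev ι b).comp (T k i j d) = ev ι (Function.update b i (b i + b j ^ d)) := by
  apply MvPolynomial.ringHom_ext
  · intro c
    simp [T, ev]
  · intro l
    by_cases hl : l = i
    · subst hl
      simp [T, ev]
    · simp [T, ev, Function.update_of_ne hl]

end

variable (Zs : Set (PrimeSpectrum (MvPolynomial (Fin n) k)))

/-- all functions vanishing on `Zs` vanish at the point `φ`. -/
def Van {D : Type v} [CommRing D] (φ : MvPolynomial (Fin n) k →+* D) : Prop :=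
  ∀ f ∈ PrimeSpectrum.vanishingIdeal Zs, φ f = 0

variable {Zs}

section

variable (hZ : IsClosed Zs)
variable (hT : ∀ (i j : Fin n), i ≠ j → ∀ (d : ℕ), ∀ x ∈ Zs, PrimeSpectrum.comap (T k i j d) x ∈ Zs)
variable {D : Type v} [CommRing D] [IsDomain D]

include hZ in
theorem mem_iff (x : PrimeSpectrum (MvPolynomial (Fin n) k)) :
    x ∈ Zs ↔ PrimeSpectrum.vanishingIdeal Zs ≤ x.asIdeal := by
  conv_lhs => rw [← hZ.closure_eq, ← PrimeSpectrum.zeroLocus_vanishingIdeal_eq_closure]
  rw [PrimeSpectrum.mem_zeroLocus]
  rfl

include hZ hT in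
theorem van_comp_T (φ : MvPolynomial (Fin n) k →+* D) (hφ : Van Zs φ) (i j : Fin n) (hij : i ≠ j)
    (d : ℕ) : Van Zs (φ.comp (T k i j d)) := by
  let x : PrimeSpectrum (MvPolynomial (Fin n) k) := ⟨RingHom.ker φ, RingHom.ker_isPrime φ⟩
  have hx : x ∈ Zs := by
    rw [mem_iff hZ]
    intro f hf
    exact hφ f hf
  have hx' := hT i j hij d x hx
  rw [mem_iff hZ] at hx'
  intro f hf
  have := hx' hf
  rw [PrimeSpectrum.comap_asIdeal, Ideal.mem_comap] at this
  exact this

include hZ hT in
theorem van_orbit_aux (ι : k →+* D) (i j : Fin n) (hij : i ≠ j) (c : D)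
    (h : D) (hh : h ∈ AddSubmonoid.closure (Set.range fun d : ℕ => c ^ d)) :
    ∀ b : Fin n → D, b j = c → Van Zs (ev ι b) →
      Van Zs (ev ι (Function.update b i (b i + h))) := by
  induction hh using AddSubmonoid.closure_induction with
  | mem h hh =>
    obtain ⟨d, rfl⟩ := hh
    intro b hbj hb
    rw [← hbj, ← ev_comp_T ι b i j hij d]
    exact van_comp_T hZ hT _ hb i j hij d
  | zero =>
    intro b _ hb
    rw [add_zero, Function.update_eq_self]
    exact hb
  | add h₁ h₂ _ _ ih₁ ih₂ =>
    intro b hbj hb
    have h1 := ih₁ b hbj hb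
    have hj : Function.update b i (b i + h₁) j = c := by
      rw [Function.update_of_ne hij.symm, hbj]
    have h2 := ih₂ _ hj h1
    rw [Function.update_self, Function.update_idem, add_assoc] at h2
    exact h2

include hZ hT in
theorem van_orbit (ι : k →+* D) (b : Fin n → D) (hb : Van Zs (ev ι b)) (i j : Fin n) (hij : i ≠ j)
    (h : D) (hh : h ∈ AddSubmonoid.closure (Set.range fun d : ℕ => b j ^ d)) :
    Van Zs (ev ι (Function.update b i (b i + h))) :=
  van_orbit_aux hZ hT ι i j hij (b j) h hh b rfl hb

/-- the coordinate `c` has an infinite additive orbit. -/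
def Inf (c : D) : Prop :=
  (AddSubmonoid.closure (Set.range fun d : ℕ => c ^ d) : Set D).Infinite

omit [IsDomain D] in
theorem inf_of_injective (c : D) (hc : Function.Injective fun d : ℕ => c ^ d) : Inf c :=
  (Set.infinite_range_of_injective hc).mono AddSubmonoid.subset_closure

omit [IsDomain D] in
theorem inf_of_charZero [CharZero D] (c : D) : Inf c := by
  refine Set.infinite_of_injective_forall_mem (f := fun m : ℕ => (m : D)) Nat.cast_injective ?_
  intro m
  have h1 : (1 : D) ∈ AddSubmonoid.closure (Set.range fun d : ℕ => c ^ d) :=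
    AddSubmonoid.subset_closure ⟨0, pow_zero c⟩
  have := AddSubmonoid.nsmul_mem _ h1 m
  simpa using this

include hZ hT in
/-- If a point of `Zs` has a coordinate `j` with infinite orbit, then `Zs` contains the whole line
through the point in any other coordinate direction `i`. -/
theorem van_line (ι : k →+* D) (b : Fin n → D) (hb : Van Zs (ev ι b)) (i j : Fin n) (hij : i ≠ j)
    (hinf : Inf (b j)) (y : D) : Van Zs (ev ι (Function.update b i y)) := by
  intro f hf
  let Φ : MvPolynomial (Fin n) k →+* Polynomial D :=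
    MvPolynomial.eval₂Hom (Polynomial.C.comp ι)
      (Function.update (fun l => Polynomial.C (b l)) i Polynomial.X)
  have hΦ : ∀ z : D, (Polynomial.evalRingHom z).comp Φ = ev ι (Function.update b i z) := by
    intro z
    apply MvPolynomial.ringHom_ext
    · intro c
      simp [Φ, ev]
    · intro l
      by_cases hl : l = i
      · subst hl
        simp [Φ, ev]
      · simp [Φ, ev, Function.update_of_ne hl]
  have hroot : ∀ h ∈ AddSubmonoid.closure (Set.range fun d : ℕ => b j ^ d),
      (Φ f).IsRoot (b i + h) := by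
    intro h hh
    have h1 := van_orbit hZ hT ι b hb i j hij h hh f hf
    rw [← hΦ] at h1
    exact h1
  have hzero : Φ f = 0 := by
    apply Polynomial.eq_zero_of_infinite_isRoot
    refine Set.Infinite.mono ?_ (hinf.image (f := fun h => b i + h)
      (fun _ _ _ _ h => add_left_cancel h))
    rintro _ ⟨h, hh, rfl⟩
    exact hroot h hh
  have := congrArg (fun g => g f) (hΦ y)
  simp only [RingHom.comp_apply] at this
  rw [← this, hzero, map_zero]

theorem injective_X_pow (l : Fin n) :
    Function.Injective fun d : ℕ => (MvPolynomial.X l : MvPolynomial (Fin n) D) ^ d := by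
  intro d d' hdd
  simp only [MvPolynomial.X_pow_eq_monomial] at hdd
  have := MvPolynomial.monomial_left_injective (R := D) (σ := Fin n) one_ne_zero hdd
  exact Finsupp.single_injective l this

include hZ hT in
/-- A closed invariant subset containing a point with a coordinate of infinite orbit is
everything. -/
theorem vanishingIdeal_eq_bot (hn : 2 ≤ n) (ι : k →+* D) (a : Fin n → D) (ha : Van Zs (ev ι a))
    (j₀ : Fin n) (hinf : Function.Injective (fun d : ℕ => a j₀ ^ d) ∨ CharZero D) :
    PrimeSpectrum.vanishingIdeal Zs = ⊥ := by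
  classical
  let ι' : k →+* MvPolynomial (Fin n) D := (MvPolynomial.C : D →+* MvPolynomial (Fin n) D).comp ι
  let bs : Finset (Fin n) → Fin n → MvPolynomial (Fin n) D :=
    fun s l => if l ∈ s then MvPolynomial.X l else MvPolynomial.C (a l)
  have hQ0 : Van Zs (ev ι' (bs ∅)) := by
    have h1 : ev ι' (bs ∅) = (MvPolynomial.C : D →+* MvPolynomial (Fin n) D).comp (ev ι a) := by
      apply MvPolynomial.ringHom_ext
      · intro c
        simp [ι', ev]
      · intro l
        simp [bs, ev]
    intro f hf
    rw [h1, RingHom.comp_apply, ha f hf, map_zero]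
  have hinf1 : ∀ s : Finset (Fin n), ∀ j ∈ s, Inf (bs s j) := by
    intro s j hj
    have : bs s j = MvPolynomial.X j := if_pos hj
    rw [this]
    exact inf_of_injective _ (injective_X_pow j)
  have hinf2 : ∀ s : Finset (Fin n), j₀ ∉ s → Inf (bs s j₀) := by
    intro s hj
    have : bs s j₀ = MvPolynomial.C (a j₀) := if_neg hj
    rw [this]
    rcases hinf with hinj | hchar
    · apply inf_of_injective
      intro d d' hdd
      simp only [← map_pow] at hdd
      exact hinj (MvPolynomial.C_injective _ _ hdd)
    · have : CharZero (MvPolynomial (Fin n) D) :=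
        charZero_of_injective_ringHom (MvPolynomial.C_injective (Fin n) D)
      exact inf_of_charZero _
  have hstep : ∀ (s : Finset (Fin n)) (i j : Fin n), i ≠ j → Inf (bs s j) →
      Van Zs (ev ι' (bs s)) → Van Zs (ev ι' (bs (insert i s))) := by
    intro s i j hij hj hs
    have h1 : bs (insert i s) = Function.update (bs s) i (MvPolynomial.X i) := by
      funext l
      by_cases hl : l = i
      · subst hl
        simp [bs]
      · simp [bs, Finset.mem_insert, hl]
    rw [h1]
    exact van_line hZ hT ι' (bs s) hs i j hij hj _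
  have hphase1 : ∀ s : Finset (Fin n), j₀ ∉ s → Van Zs (ev ι' (bs s)) := by
    intro s
    induction s using Finset.induction_on with
    | empty => exact fun _ => hQ0
    | insert i s his ih =>
      intro hj
      rw [Finset.mem_insert, not_or] at hj
      exact hstep s i j₀ (Ne.symm hj.1) (hinf2 s hj.2) (ih hj.2)
  obtain ⟨i₁, hi₁⟩ : ∃ i₁ : Fin n, i₁ ≠ j₀ := by
    by_cases h0 : j₀ = ⟨0, by omega⟩
    · exact ⟨⟨1, by omega⟩, by rw [h0]; simp [Fin.ext_iff]⟩
    · exact ⟨⟨0, by omega⟩, Ne.symm h0⟩
  have hQuniv : Van Zs (ev ι' (bs Finset.univ)) := by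
    have h1 := hstep (Finset.univ.erase j₀) j₀ i₁ (Ne.symm hi₁)
      (hinf1 _ i₁ (Finset.mem_erase.mpr ⟨hi₁, Finset.mem_univ _⟩))
      (hphase1 _ (Finset.notMem_erase _ _))
    rwa [Finset.insert_erase (Finset.mem_univ _)] at h1
  have h2 : ev ι' (bs Finset.univ) = MvPolynomial.map ι := by
    apply MvPolynomial.ringHom_ext
    · intro c
      simp [ι', ev]
    · intro l
      simp [bs, ev]
  rw [eq_bot_iff]
  intro f hf
  have h3 := hQuniv f hf
  rw [h2] at h3
  rw [Ideal.mem_bot]
  exact MvPolynomial.map_injective ι ι.injective (by rw [h3, map_zero])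

end

section Good

variable {F : Type v} [CommRing F] [IsDomain F] (p : ℕ) [hp : Fact p.Prime] [CharP F p]

/-- In a domain of characteristic `p`, an element with only finitely many distinct powers is fixed
by a power of Frobenius. -/
theorem exists_pow_eq_self_of_not_injective (a : F)
    (ha : ¬ Function.Injective fun d : ℕ => a ^ d) : ∃ m : ℕ, 0 < m ∧ a ^ (p ^ m) = a := by
  have hp2 := hp.out.two_le
  -- two equal powers
  obtain ⟨d, r, hr, hdr⟩ : ∃ d r : ℕ, 0 < r ∧ a ^ (d + r) = a ^ d := by
    rw [Function.Injective] at ha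
    push Not at ha
    obtain ⟨d, d', hdd, hne⟩ := ha
    rcases Nat.lt_or_gt_of_ne hne with h | h
    · refine ⟨d, d' - d, by omega, ?_⟩
      rw [show d + (d' - d) = d' by omega]
      exact hdd.symm
    · refine ⟨d', d - d', by omega, ?_⟩
      rw [show d' + (d - d') = d by omega]
      exact hdd
  have h1 : a ^ d * (a ^ r - 1) = 0 := by
    rw [mul_sub, mul_one, ← pow_add, hdr, sub_self]
  rcases mul_eq_zero.mp h1 with h0 | h0
  · -- a = 0
    have ha0 : a = 0 := pow_eq_zero_iff (M₀ := F) (n := d) (by
      rintro rfl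
      rw [pow_zero] at h0
      exact one_ne_zero h0) |>.mp h0
    refine ⟨1, one_pos, ?_⟩
    rw [ha0, zero_pow]
    exact pow_ne_zero _ (by omega)
  · have har : a ^ r = 1 := sub_eq_zero.mp h0
    obtain ⟨e, s, hps, hrs⟩ := Nat.exists_eq_pow_mul_and_not_dvd hr.ne' p (by omega)
    have hs0 : 0 < s := by
      rcases Nat.eq_zero_or_pos s with h | h
      · subst h
        simp at hps
      · exact h
    have has : a ^ s = 1 := by
      have h2 : (a ^ s - 1) ^ p ^ e = 0 := by
        rw [sub_pow_char_pow, one_pow, ← pow_mul, mul_comm, ← hrs, har, sub_self]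
      have hpe : p ^ e ≠ 0 := pow_ne_zero _ (by omega)
      exact sub_eq_zero.mp ((pow_eq_zero_iff hpe).mp h2)
    have hcop : Nat.Coprime p s := (Nat.Prime.coprime_iff_not_dvd hp.out).mpr hps
    have hmod := Nat.ModEq.pow_totient hcop
    have hφ : 0 < Nat.totient s := Nat.totient_pos.mpr hs0
    have h1le : 1 ≤ p ^ Nat.totient s := Nat.one_le_pow _ _ (by omega)
    obtain ⟨t, ht⟩ := (Nat.modEq_iff_dvd' h1le).mp hmod.symm
    refine ⟨Nat.totient s, hφ, ?_⟩
    have h3 : p ^ Nat.totient s = 1 + s * t := by omega
    rw [h3, pow_add, pow_one, pow_mul, has, one_pow, mul_one]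

end Good

section Closed

variable (P : Ideal (MvPolynomial (Fin n) k)) [P.IsPrime]

/-- A prime of the polynomial ring all of whose coordinates are roots of monic polynomials
`T^q - T`, `q > 1`, in the residue field, is maximal. -/
theorem isMaximal_of_coords (hP : ∀ l : Fin n, ∃ q : ℕ, 1 < q ∧
    (algebraMap (MvPolynomial (Fin n) k) P.ResidueField (MvPolynomial.X l)) ^ q =
      algebraMap (MvPolynomial (Fin n) k) P.ResidueField (MvPolynomial.X l)) : P.IsMaximal := by
  have hX : ∀ l : Fin n, IsIntegral k (Ideal.Quotient.mk P (MvPolynomial.X l)) := by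
    intro l
    obtain ⟨q, hq, hql⟩ := hP l
    have hmem : (MvPolynomial.X l : MvPolynomial (Fin n) k) ^ q - MvPolynomial.X l ∈ P := by
      rw [← Ideal.algebraMap_residueField_eq_zero, map_sub, map_pow, hql, sub_self]
    refine ⟨Polynomial.X ^ q - Polynomial.X, Polynomial.monic_X_pow_sub (by
      rw [Polynomial.degree_X]; exact_mod_cast hq), ?_⟩
    rw [← Polynomial.aeval_def, map_sub, map_pow, Polynomial.aeval_X, ← map_pow, ← map_sub]
    exact Ideal.Quotient.eq_zero_iff_mem.mpr hmem
  have hint : Algebra.IsIntegral k (MvPolynomial (Fin n) k ⧸ P) := by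
    constructor
    intro z
    obtain ⟨f, rfl⟩ := Ideal.Quotient.mk_surjective z
    induction f using MvPolynomial.induction_on with
    | C c => exact isIntegral_algebraMap (x := c)
    | add f g hf hg =>
      rw [map_add]
      exact hf.add hg
    | mul_X f l hf =>
      rw [map_mul]
      exact hf.mul (hX l)
  exact Ideal.Quotient.maximal_of_isField P
    (isField_of_isIntegral_of_isField' (Field.toIsField k))

end Closed

section Finite

variable {A : Type u} [CommRing A] [IsNoetherianRing A]

/-- A closed subset of the spectrum of a Noetherian ring consisting of maximal ideals is finite. -/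
theorem finite_of_isClosed_of_isMaximal (Z : Set (PrimeSpectrum A)) (hZ : IsClosed Z)
    (hmax : ∀ x ∈ Z, x.asIdeal.IsMaximal) : Z.Finite := by
  set I := PrimeSpectrum.vanishingIdeal Z with hI
  have hmem : ∀ x, x ∈ Z ↔ I ≤ x.asIdeal := by
    intro x
    conv_lhs => rw [← hZ.closure_eq, ← PrimeSpectrum.zeroLocus_vanishingIdeal_eq_closure]
    rw [PrimeSpectrum.mem_zeroLocus]
    rfl
  have hfin := Ideal.finite_minimalPrimes_of_isNoetherianRing A I
  refine Set.Finite.subset (hfin.preimage (f := PrimeSpectrum.asIdeal)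
    (fun x _ y _ h => PrimeSpectrum.ext h)) ?_
  intro x hx
  obtain ⟨q, hq, hqx⟩ := Ideal.exists_minimalPrimes_le ((hmem x).mp hx)
  have := hq.1.1
  have hqZ : (⟨q, hq.1.1⟩ : PrimeSpectrum A) ∈ Z := (hmem _).mpr hq.1.2
  have hqmax := hmax _ hqZ
  have : q = x.asIdeal := hqmax.eq_of_le x.2.ne_top hqx
  rw [Set.mem_preimage, ← this]
  exact hq

end Finite

end Groth.Agent.R2.H33.AffInv
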