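import Mathlib

/-!
# Automorphisms of big algebraically closed fields (helper33)

Given two embeddings `τ σ : k → κ` of fields there is an algebraically closed extension
`ι : κ → k'` and an automorphism `φ` of `k'` with `φ ∘ ι ∘ τ = ι ∘ σ`.
-/

set_option autoImplicit false
set_option linter.style.haveILetI false
universe u

open Cardinal

namespace Groth.Agent.R2.H33.FieldAut

/-- Steinitz: two algebraically closed extensions of `R` of the same cardinality, bigger than `R`
and uncountable, are isomorphic over `R`. -/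
theorem exists_ringEquiv_commutes {R K L : Type u} [Field R] [Field K] [Field L] [Algebra R K]
    [Algebra R L] [IsAlgClosed K] [IsAlgClosed L] (hK : max #R ℵ₀ < #K) (hKL : #K = #L) :
    ∃ φ : K ≃+* L, ∀ r, φ (algebraMap R K r) = algebraMap R L r := by
  classical
  have hRK : #R < #K := (le_max_left _ _).trans_lt hK
  have hℵK : ℵ₀ < #K := (le_max_right _ _).trans_lt hK
  obtain ⟨s, hs⟩ := exists_isTranscendenceBasis R K
  obtain ⟨t, ht⟩ := exists_isTranscendenceBasis R L
  have key : ∀ {M : Type u} [Field M] [Algebra R M] [IsAlgClosed M] (s : Set M)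
      (_ : IsTranscendenceBasis R ((↑) : s → M)), #R < #M → ℵ₀ < #M → #s = #M := by
    intro M _ _ _ s hs h1 h2
    refine le_antisymm (mk_set_le s) ?_
    by_contra h
    rw [not_le] at h
    have := IsAlgClosed.cardinal_le_max_transcendence_basis' (v' := ((↑) : s → M)) hs
    exact absurd this (not_le.mpr (max_lt (max_lt h1 h) h2))
  have hsK : #s = #K := key s hs hRK hℵK
  have htL : #t = #L := key t ht (hKL ▸ hRK) (hKL ▸ hℵK)
  obtain ⟨e⟩ : Nonempty (s ≃ t) := Cardinal.eq.mp (hsK.trans (hKL.trans htL.symm))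
  letI := IsAlgClosed.isAlgClosure_of_transcendence_basis _ hs
  letI := IsAlgClosed.isAlgClosure_of_transcendence_basis _ ht
  let e' : Algebra.adjoin R (Set.range ((↑) : s → K)) ≃ₐ[R]
      Algebra.adjoin R (Set.range ((↑) : t → L)) :=
    hs.1.aevalEquiv.symm.trans ((MvPolynomial.renameEquiv R e).trans ht.1.aevalEquiv)
  refine ⟨IsAlgClosure.equivOfEquiv K L e'.toRingEquiv, fun r => ?_⟩
  rw [IsScalarTower.algebraMap_apply R (Algebra.adjoin R (Set.range ((↑) : s → K))) K,
    IsAlgClosure.equivOfEquiv_algebraMap]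
  have : e'.toRingEquiv (algebraMap R _ r) = algebraMap R _ r := e'.commutes r
  rw [this]
  rfl

/-- Given two embeddings `τ σ : k → κ` of fields, there is an algebraically closed extension
`ι : κ → k'` and an automorphism `φ` of `k'` with `φ ∘ ι ∘ τ = ι ∘ σ`. -/
theorem exists_algClosed_extension_aut {k κ : Type u} [Field k] [Field κ] (τ σ : k →+* κ) :
    ∃ (k' : Type u) (_ : Field k') (_ : IsAlgClosed k') (ι : κ →+* k') (φ : k' ≃+* k'),
      ∀ a, φ (ι (τ a)) = ι (σ a) := by
  classical
  let I : Type u := Set (κ × ℕ)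
  let F : Type u := FractionRing (MvPolynomial I κ)
  let k' : Type u := AlgebraicClosure F
  let j : MvPolynomial I κ →+* k' := (algebraMap F k').comp (algebraMap (MvPolynomial I κ) F)
  have hj : Function.Injective j :=
    (algebraMap F k').injective.comp (IsFractionRing.injective (MvPolynomial I κ) F)
  let ι : κ →+* k' := j.comp MvPolynomial.C
  -- cardinality
  have hI : #I ≤ #k' := by
    refine Cardinal.mk_le_of_injective (f := fun i : I => j (MvPolynomial.X i)) ?_
    exact hj.comp (MvPolynomial.X_injective)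
  have h1 : #(κ × ℕ) < #I := by
    change #(κ × ℕ) < #(Set (κ × ℕ))
    rw [Cardinal.mk_set]
    exact Cardinal.cantor _
  have h2 : max #k ℵ₀ ≤ #(κ × ℕ) := by
    rw [Cardinal.mk_prod, Cardinal.lift_id', Cardinal.mk_nat, Cardinal.lift_aleph0]
    have hκ : (1 : Cardinal) ≤ #κ := Cardinal.one_le_iff_ne_zero.mpr (Cardinal.mk_ne_zero κ)
    refine max_le ?_ ?_
    · calc #k ≤ #κ := Cardinal.mk_le_of_injective τ.injective
        _ = #κ * 1 := (mul_one _).symm
        _ ≤ #κ * ℵ₀ := mul_le_mul_right (Cardinal.one_le_aleph0) _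
    · calc ℵ₀ = 1 * ℵ₀ := (one_mul _).symm
        _ ≤ #κ * ℵ₀ := mul_le_mul_left hκ _
  have hbig : max #k ℵ₀ < #k' := h2.trans_lt (h1.trans_le hI)
  letI algT : Algebra k k' := (ι.comp τ).toAlgebra
  obtain ⟨φ, hφ⟩ := @exists_ringEquiv_commutes k k' k' _ _ _ algT (ι.comp σ).toAlgebra
    inferInstance inferInstance hbig rfl
  exact ⟨k', inferInstance, inferInstance, ι, φ, hφ⟩

end Groth.Agent.R2.H33.FieldAut
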