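import Mathlib
import Groth.Prelude.Def_HTop
import Groth.Agent.Lib.Helper6ValRing

/-!
# Valuation-ring lifting from specializations (helper33)
-/

set_option autoImplicit false
set_option linter.style.haveILetI false
universe w w' u

open CategoryTheory CategoryTheory.Limits AlgebraicGeometry Opposite HTop IsLocalRing

namespace Groth.Agent.R2.H33.ValLift

/-- The generic point of the spectrum of a domain. -/
noncomputable def genPt (V : CommRingCat.{u}) [IsDomain V] : ↥(Spec V) :=
  (⟨⊥, Ideal.isPrime_bot⟩ : PrimeSpectrum V)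

theorem genPt_specializes (V : CommRingCat.{u}) [IsDomain V] (x : ↥(Spec V)) : genPt V ⤳ x := by
  let a : PrimeSpectrum V := ⟨⊥, Ideal.isPrime_bot⟩
  let b : PrimeSpectrum V := x
  have hx : a ≤ b := by
    change (⊥ : Ideal V) ≤ b.asIdeal
    exact bot_le
  exact (PrimeSpectrum.le_iff_specializes a b).mp hx

/-- A ring map between domains is injective iff `Spec` of it sends the generic point to the
generic point. -/
theorem injective_of_map_genPt {V W : CommRingCat.{u}} [IsDomain V] [IsDomain W] (φ : V ⟶ W)
    (h : (Spec.map φ).base (genPt W) = genPt V) : Function.Injective φ.hom := by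
  rw [injective_iff_map_eq_zero]
  intro a ha
  have h1 : a ∈ ((Spec.map φ).base (genPt W) : PrimeSpectrum V).asIdeal := by
    change a ∈ Ideal.comap φ.hom (⊥ : Ideal W)
    rw [Ideal.mem_comap, Ideal.mem_bot]
    exact ha
  rw [h] at h1
  exact h1

theorem map_genPt_of_injective {V W : CommRingCat.{u}} [IsDomain V] [IsDomain W] (φ : V ⟶ W)
    (h : Function.Injective φ.hom) : (Spec.map φ).base (genPt W) = genPt V := by
  apply PrimeSpectrum.ext
  change Ideal.comap φ.hom (⊥ : Ideal W) = ⊥
  rw [Ideal.comap_bot_of_injective _ h]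

theorem isLocalHom_of_map_closedPoint {V W : CommRingCat.{u}} [IsLocalRing V] [IsLocalRing W]
    (φ : V ⟶ W) (h : (Spec.map φ).base (closedPoint W) = closedPoint V) : IsLocalHom φ.hom :=
  (isLocalHom_iff_comap_closedPoint φ.hom).mpr h

theorem map_closedPoint_of_isLocalHom {V W : CommRingCat.{u}} [IsLocalRing V] [IsLocalRing W]
    (φ : V ⟶ W) [IsLocalHom φ.hom] : (Spec.map φ).base (closedPoint W) = closedPoint V :=
  comap_closedPoint φ.hom

/-- **Lifting along a specialization.**  If `p' ⤳ p` in a scheme `P` over `Spec V` with `p'` over the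
generic and `p` over the closed point, there are an extension of valuation rings `V → W` and a morphism
`Spec W ⟶ P` over `Spec V` sending the closed point to `p` and the generic point to `p'`. -/
theorem exists_extVal_lift_of_specializes (V : CommRingCat.{u}) [IsDomain V] [ValuationRing V]
    {P : Scheme.{u}} (π : P ⟶ Spec V) {p p' : P} (hsp : p' ⤳ p)
    (hp : π.base p = closedPoint V) (hp' : π.base p' = genPt V) :
    ∃ (W : CommRingCat.{u}) (_ : IsDomain W) (_ : ValuationRing W) (φ : V ⟶ W),
      IsExtVal V W φ ∧ ∃ h : Spec W ⟶ P, h ≫ π = Spec.map φ ∧ h.base (closedPoint W) = p ∧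
        h.base (genPt W) = p' := by
  obtain ⟨A, h, hcl, hgen⟩ := Groth.Agent.Lib.Helper6.ValRing.exists_valuationRing_of_specializes hsp
  let W : CommRingCat.{u} := CommRingCat.of A
  have : IsDomain W := inferInstanceAs (IsDomain A)
  have : ValuationRing W := inferInstanceAs (ValuationRing A)
  let φ : V ⟶ W := Spec.preimage (h ≫ π)
  have hφ : Spec.map φ = h ≫ π := Spec.map_preimage _
  -- the generic point of `Spec A` maps to `p'`
  have hgenW : h.base (genPt W) = p' := by
    have h1 : (Spec.map (CommRingCat.ofHom (algebraMap A (P.residueField p')))).base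
        (closedPoint (P.residueField p')) = genPt W := by
      apply PrimeSpectrum.ext
      change Ideal.comap (algebraMap A (P.residueField p'))
        (IsLocalRing.maximalIdeal (P.residueField p')) = ⊥
      rw [IsLocalRing.maximalIdeal_eq_bot]
      exact Ideal.comap_bot_of_injective _ (FaithfulSMul.algebraMap_injective _ _)
    rw [← h1]
    change (Spec.map (CommRingCat.ofHom (algebraMap A (P.residueField p'))) ≫ h).base _ = p'
    rw [hgen]
    exact Scheme.fromSpecResidueField_apply p' _
  refine ⟨W, inferInstance, inferInstance, φ, ⟨?_, ?_⟩, h, hφ.symm, hcl, hgenW⟩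
  · apply injective_of_map_genPt
    rw [hφ, Scheme.Hom.comp_apply, hgenW, hp']
  · apply isLocalHom_of_map_closedPoint
    rw [hφ]
    exact (congrArg π.base hcl).trans hp

/-- `HasValLift` from liftings of the specialization `generic ⤳ closed` of `Spec V` to the fibre
products `Spec V ×_T E.X j`. -/
theorem hasValLift_of_specializes {T : Scheme.{u}} (E : PreZeroHypercover.{w} T)
    (H : ∀ (V : CommRingCat.{u}) [IsDomain V] [ValuationRing V] (g : Spec V ⟶ T),
      ∃ (j : E.I₀) (p p' : ↑(pullback g (E.f j))), p' ⤳ p ∧
        (pullback.fst g (E.f j)).base p = closedPoint V ∧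
        (pullback.fst g (E.f j)).base p' = genPt V) :
    HasValLift E := by
  intro V _ _ g
  obtain ⟨j, p, p', hsp, hp, hp'⟩ := H V g
  obtain ⟨W, hWd, hWv, φ, hφ, h, hh, -, -⟩ :=
    exists_extVal_lift_of_specializes V (pullback.fst g (E.f j)) hsp hp hp'
  refine ⟨W, hWd, hWv, φ, hφ, j, h ≫ pullback.snd g (E.f j), ?_⟩
  rw [Category.assoc, ← pullback.condition, ← Category.assoc, hh]

/-- Flat jointly surjective families have the valuation-ring lifting property. -/
theorem hasValLift_of_flat_of_surjective {T : Scheme.{u}} (E : PreZeroHypercover.{w} T)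
    (hflat : ∀ j, Flat (E.f j)) (hsurj : ∀ t : T, ∃ (j : E.I₀) (x : E.X j), (E.f j).base x = t) :
    HasValLift E := by
  apply hasValLift_of_specializes
  intro V _ _ g
  obtain ⟨j, x, hx⟩ := hsurj (g.base (closedPoint V))
  obtain ⟨p, hp1, -⟩ := Scheme.Pullback.exists_preimage_pullback (f := g) (g := E.f j)
    (closedPoint V) x hx.symm
  haveI := hflat j
  have hgen : GeneralizingMap (pullback.fst g (E.f j)).base :=
    Flat.generalizingMap (pullback.fst g (E.f j))
  have hsp : genPt V ⤳ (pullback.fst g (E.f j)).base p := by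
    rw [hp1]; exact genPt_specializes V _
  obtain ⟨p', hp'sp, hp'⟩ := hgen hsp
  exact ⟨j, p, p', hp'sp, hp1, hp'⟩

end Groth.Agent.R2.H33.ValLift
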