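import Mathlib
import Groth.Prelude.Def_HTop
import Groth.Agent.R2.H33ValLift

/-!
# fpqc coverings are V coverings (helper33)
-/

set_option autoImplicit false
set_option linter.style.haveILetI false
universe w w' u

open CategoryTheory CategoryTheory.Limits AlgebraicGeometry Opposite HTop IsLocalRing

namespace Groth.Agent.R2.H33.FpqcV

open Groth.Agent.R2.H33.ValLift

/-- A quasi-compact family of flat morphisms which is jointly surjective is a V covering. -/
theorem isVCover_of_flat_of_quasiCompactCover {T : Scheme.{u}} (E : PreZeroHypercover.{w} T)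
    [QuasiCompactCover E] (hflat : ∀ i, Flat (E.f i)) : IsVCover E := by
  intro U
  obtain ⟨n, a, V, hV, hUV⟩ := QuasiCompactCover.exists_isAffineOpen_of_isCompact E
    (U := (U : T.Opens)) U.2.isCompact
  have hle : ∀ i : Fin n, V i ≤ (E.f (a i)) ⁻¹ᵁ (U : T.Opens) := by
    intro i x hx
    change (E.f (a i)).base x ∈ ((U : T.Opens) : Set T)
    rw [← hUV]
    exact Set.mem_iUnion.2 ⟨i, ⟨x, hx, rfl⟩⟩
  let F : PreZeroHypercover.{0} ((U : T.Opens) : Scheme.{u}) :=
    { I₀ := Fin n
      X := fun i => ((V i : (E.X (a i)).Opens) : Scheme.{u})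
      f := fun i => (E.f (a i)).resLE (U : T.Opens) (V i) (hle i) }
  have hFflat : ∀ i, Flat (F.f i) := by
    intro i
    haveI := hflat (a i)
    change Flat ((E.f (a i)).resLE (U : T.Opens) (V i) (hle i))
    rw [Scheme.Hom.resLE]
    infer_instance
  have hFsurj : ∀ t : ((U : T.Opens) : Scheme.{u}), ∃ (j : F.I₀) (x : F.X j), (F.f j).base x = t := by
    intro t
    have ht : ((U : T.Opens).ι).base t ∈ ((U : T.Opens) : Set T) := by
      have := Set.mem_range_self (f := ((U : T.Opens).ι).base) t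
      rwa [Scheme.Opens.range_ι] at this
    rw [← hUV] at ht
    obtain ⟨i, x, hx, hxt⟩ := Set.mem_iUnion.1 ht
    refine ⟨i, ⟨x, hx⟩, ?_⟩
    apply ((U : T.Opens).ι).isOpenEmbedding.injective
    change (((E.f (a i)).resLE (U : T.Opens) (V i) (hle i)) ≫ (U : T.Opens).ι).base ⟨x, hx⟩ = _
    rw [Scheme.Hom.resLE_comp_ι]
    exact hxt
  refine ⟨F, ⟨U.2, inferInstanceAs (Finite (Fin n)), fun i => hV i,
    hasValLift_of_flat_of_surjective F hFflat hFsurj⟩, ?_⟩
  intro i
  refine ⟨a i, (V i).ι, ?_⟩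
  change (V i).ι ≫ E.f (a i) = (E.f (a i)).resLE (U : T.Opens) (V i) (hle i) ≫ (U : T.Opens).ι
  rw [Scheme.Hom.resLE_comp_ι]

end Groth.Agent.R2.H33.FpqcV
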