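import Mathlib

/-!
# helper33: morphisms with enough points where the stalk map is injective are epimorphisms,
and descent of morphisms along them, locally on the target.
-/

set_option autoImplicit false
universe u
open CategoryTheory AlgebraicGeometry Limits

namespace Groth.Agent.R2.H33.GoodEpi

/-- Every point of the target has a preimage at which the stalk map is a monomorphism. -/
def Good {X Y : Scheme.{u}} (f : X ⟶ Y) : Prop :=
  ∀ y : Y, ∃ x : X, f x = y ∧ Mono (f.stalkMap x)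

attribute [local ext] DFunLike.ext in
lemma epi_sheafedSpace {X Y : SheafedSpace CommRingCat.{u}} (f : X ⟶ Y)
    (h : ∀ y, ∃ x, f.hom.base x = y ∧ Mono (f.hom.stalkMap x)) : Epi f := by
  constructor
  intro Z ⟨g, gc⟩ ⟨h', hc⟩ e
  apply_fun InducedCategory.Hom.hom at e
  obtain rfl : g = h' := ConcreteCategory.hom_ext _ _ fun y ↦ by
    rw [← (h y).choose_spec.1]
    simpa using congr(($e).base.hom (h y).choose)
  refine SheafedSpace.hom_stalk_ext ⟨g, gc⟩ ⟨g, hc⟩ rfl fun y ↦ ?_
  have := (h y).choose_spec.2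
  rw [← (h y).choose_spec.1, ← cancel_mono (f.hom.stalkMap (h y).choose),
    TopCat.Presheaf.stalkCongr_hom,
    TopCat.Presheaf.stalkSpecializes_refl, Category.id_comp,
    ← PresheafedSpace.stalkMap.comp f.hom ⟨g, gc⟩,
    ← PresheafedSpace.stalkMap.comp f.hom ⟨g, hc⟩]
  congr 1

theorem Good.epi {X Y : Scheme.{u}} {f : X ⟶ Y} (hf : Good f) : Epi f := by
  apply CategoryTheory.Functor.epi_of_epi_map (Scheme.forgetToLocallyRingedSpace)
  apply CategoryTheory.Functor.epi_of_epi_map (LocallyRingedSpace.forgetToSheafedSpace)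
  apply epi_sheafedSpace
  intro y
  obtain ⟨x, hx, hm⟩ := hf y
  exact ⟨x, hx, hm⟩

lemma mono_of_iso_comp {C : Type*} [Category C] {X Y Z : C} (a : X ⟶ Y) (c : Y ⟶ Z) [IsIso a]
    (h : Mono (a ≫ c)) : Mono c := by
  have : c = inv a ≫ (a ≫ c) := by simp
  rw [this]; infer_instance

/-- `Good` is stable under base change along open immersions. -/
theorem Good.snd {X Y P : Scheme.{u}} {f : X ⟶ Y} (hf : Good f) (j : P ⟶ Y) [IsOpenImmersion j] :
    Good (pullback.snd f j) := by
  intro y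
  obtain ⟨x, hx, hm⟩ := hf (j y)
  obtain ⟨z, hz1, hz2⟩ := Scheme.Pullback.exists_preimage_pullback x y hx
  refine ⟨z, hz2, ?_⟩
  subst hz1
  have h1 := Scheme.Hom.stalkMap_comp (pullback.snd f j) j z
  have h2 := Scheme.Hom.stalkMap_comp (pullback.fst f j) f z
  have h3 := Scheme.Hom.stalkMap_congr_hom _ _ (pullback.condition (f := f) (g := j)) z
  rw [h1, h2] at h3
  have hmono : Mono (f.stalkMap (pullback.fst f j z) ≫ (pullback.fst f j).stalkMap z) :=
    mono_comp _ _
  rw [h3] at hmono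
  have hm2 := mono_of_iso_comp _ _ hmono
  exact mono_of_iso_comp (j.stalkMap (pullback.snd f j z)) _ hm2

/-- Descent of a morphism along a `Good` morphism, locally on the target. -/
theorem exists_desc {X Y Z : Scheme.{u}} {π : X ⟶ Y} (hπ : Good π) (ψ : X ⟶ Z)
    (𝒰 : Y.OpenCover) (χ : ∀ i, 𝒰.X i ⟶ Z)
    (hχ : ∀ i, pullback.snd π (𝒰.f i) ≫ χ i = pullback.fst π (𝒰.f i) ≫ ψ) :
    ∃ χ' : Y ⟶ Z, π ≫ χ' = ψ := by
  have compat : ∀ i j, pullback.fst (𝒰.f i) (𝒰.f j) ≫ χ i =
      pullback.snd (𝒰.f i) (𝒰.f j) ≫ χ j := by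
    intro i j
    obtain ⟨jj, hjj⟩ : ∃ jj : pullback (𝒰.f i) (𝒰.f j) ⟶ Y, jj = pullback.fst _ _ ≫ 𝒰.f i :=
      ⟨_, rfl⟩
    have : IsOpenImmersion jj := by rw [hjj]; infer_instance
    have : Epi (pullback.snd π jj) := (hπ.snd jj).epi
    rw [← cancel_epi (pullback.snd π jj)]
    have c1 : pullback.fst π jj ≫ π = (pullback.snd π jj ≫ pullback.fst _ _) ≫ 𝒰.f i := by
      rw [pullback.condition, hjj, Category.assoc]
    have c2 : pullback.fst π jj ≫ π = (pullback.snd π jj ≫ pullback.snd _ _) ≫ 𝒰.f j := by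
      rw [pullback.condition, Category.assoc, ← pullback.condition (f := 𝒰.f i) (g := 𝒰.f j), hjj]
    have e1 : pullback.snd π jj ≫ pullback.fst _ _ ≫ χ i = pullback.fst π jj ≫ ψ := by
      have := pullback.lift_snd_assoc (pullback.fst π jj)
        (pullback.snd π jj ≫ pullback.fst _ _) c1 (χ i)
      rw [Category.assoc] at this
      rw [← this, hχ, pullback.lift_fst_assoc]
    have e2 : pullback.snd π jj ≫ pullback.snd _ _ ≫ χ j = pullback.fst π jj ≫ ψ := by
      have := pullback.lift_snd_assoc (pullback.fst π jj)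
        (pullback.snd π jj ≫ pullback.snd _ _) c2 (χ j)
      rw [Category.assoc] at this
      rw [← this, hχ, pullback.lift_fst_assoc]
    rw [e1, e2]
  refine ⟨𝒰.glueMorphisms χ compat, ?_⟩
  apply Scheme.Cover.hom_ext (𝒰.pullback₁ π)
  intro i
  change pullback.fst π (𝒰.f i) ≫ π ≫ _ = pullback.fst π (𝒰.f i) ≫ ψ
  rw [← Category.assoc, pullback.condition, Category.assoc, Scheme.Cover.ι_glueMorphisms, hχ]

theorem localRingHom_injective_of {R S : Type*} [CommRing R] [CommRing S] (f : R →+* S)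
    (q : Ideal S) [q.IsPrime] (p : Ideal R) [p.IsPrime] (hpq : p = q.comap f)
    (h : ∀ c : R, ∀ t : S, t ∉ q → t * f c = 0 → ∃ u : R, u ∉ p ∧ u * c = 0) :
    Function.Injective (Localization.localRingHom p q f hpq) := by
  rw [injective_iff_map_eq_zero]
  intro x hx
  obtain ⟨⟨c, s⟩, rfl⟩ := IsLocalization.mk'_surjective p.primeCompl x
  rw [Localization.localRingHom_mk'] at hx
  rw [IsLocalization.mk'_eq_zero_iff] at hx ⊢
  obtain ⟨⟨t, ht⟩, htc⟩ := hx
  obtain ⟨u, hu, huc⟩ := h c t ht htc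
  exact ⟨⟨u, hu⟩, huc⟩

/-- A ring map with an additive retraction linear over the source induces a `Good` morphism on
spectra. -/
theorem good_Spec_map {C' B' : CommRingCat.{u}} (φ : C' ⟶ B') (E' : B' →+ C')
    (hE1 : ∀ c b, E' (φ.hom c * b) = c * E' b) (hE2 : E' 1 = 1) : Good (Spec.map φ) := by
  intro y
  obtain ⟨p, hp⟩ : ∃ p : PrimeSpectrum C', p = y := ⟨_, rfl⟩
  let 𝔫 : Ideal B' :=
    { carrier := {b | ∀ r : B', E' (r * b) ∈ p.asIdeal}
      add_mem' := fun {a b} ha hb r => by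
        rw [mul_add, map_add]; exact p.asIdeal.add_mem (ha r) (hb r)
      zero_mem' := fun r => by rw [mul_zero, map_zero]; exact p.asIdeal.zero_mem
      smul_mem' := fun c b hb r => by rw [smul_eq_mul, ← mul_assoc]; exact hb _ }
  have hdis : Disjoint (𝔫 : Set B') (Submonoid.map φ.hom p.asIdeal.primeCompl : Set B') := by
    rw [Set.disjoint_left]
    rintro _ hb ⟨s, hs, rfl⟩
    apply hs
    have := hb 1
    rwa [one_mul, ← mul_one (φ.hom s), hE1, hE2, mul_one] at this
  obtain ⟨q, hq, hnq, hqS⟩ := Ideal.exists_le_prime_disjoint 𝔫 _ hdis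
  have hcomap : q.comap φ.hom = p.asIdeal := by
    apply le_antisymm
    · intro s hs
      by_contra hsp
      exact Set.disjoint_left.mp hqS hs ⟨s, hsp, rfl⟩
    · intro s hs
      apply hnq
      intro r
      rw [mul_comm, hE1]
      exact Ideal.mul_mem_right _ _ hs
  have hxy : (⟨q, hq⟩ : PrimeSpectrum B').comap φ.hom = p := PrimeSpectrum.ext hcomap
  refine ⟨(⟨q, hq⟩ : PrimeSpectrum B'), hxy.trans hp, ?_⟩
  refine ((MorphismProperty.monomorphisms CommRingCat).arrow_mk_iso_iff
    (Scheme.arrowStalkMapSpecIso φ ⟨q, hq⟩)).mpr ?_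
  change Mono _
  apply ConcreteCategory.mono_of_injective
  refine localRingHom_injective_of _ _ _ rfl ?_
  intro c t ht htc
  by_contra hcon
  push Not at hcon
  apply ht
  apply hnq
  intro r
  have h1 : c * E' (r * t) = 0 := by
    rw [← hE1, mul_comm, mul_assoc, htc, mul_zero, map_zero]
  by_contra h2
  exact hcon (E' (r * t)) (fun h => h2 (hcomap ▸ h)) (by rw [mul_comm]; exact h1)

end Groth.Agent.R2.H33.GoodEpi
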