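import Mathlib
import Groth.Prelude.Def_Grpd
import Groth.Agent.Lib.Helper2Grpd
import Groth.Agent.Lib.Helper25Cartier

/-!
# helper33: Cartier's theorem for groupoid schemes over a field of characteristic zero

Let `(U, R, s, t, c)` be a groupoid scheme with `U = Spec K`.  For an affine open neighbourhood
`Spec B` of the identity `e(u)` in `R` (a `K`-algebra through `t`), right translation by a
dual-number point `e + ε ξ` of the `t`-fibre gives a `K`-derivation of `B` extending the tangent
vector `ξ` (`exists_derivation_of_grpd`).  Together with the ring-level statement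
`Helper25.Cart.exists_annihilator_nilradical` this yields a reduced open neighbourhood of the
identity when `K` has characteristic zero (`exists_reduced_nhd_e`).
-/

set_option autoImplicit false
set_option linter.unusedSectionVars false
set_option linter.style.haveILetI false
universe u v w

open CategoryTheory CategoryTheory.Limits AlgebraicGeometry TrivSqZeroExt
open Groth.Agent.Lib.Helper25.Cart
open Groth.Agent.Lib.Helper2.Grpd

namespace Groth.Agent.R2.H33.GrpdCartier

section Eps

variable {R : Type v} [CommRing R] {R' : Type w} [CommRing R']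

/-- Functoriality of dual numbers for ring homomorphisms. -/
def epsRingMap (f : R →+* R') : Eps R →+* Eps R' where
  toFun z := inl (f z.fst) + inr (f z.snd)
  map_one' := by ext <;> simp
  map_mul' x y := by
    ext <;> simp [mul_comm]
  map_zero' := by ext <;> simp
  map_add' x y := by
    ext <;> simp

@[simp] theorem fst_epsRingMap (f : R →+* R') (z : Eps R) :
    (epsRingMap f z).fst = f z.fst := by
  simp [epsRingMap]

@[simp] theorem snd_epsRingMap (f : R →+* R') (z : Eps R) :
    (epsRingMap f z).snd = f z.snd := by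
  simp [epsRingMap]

end Eps

section Main

variable {S : Scheme.{u}} (G : Grpd.GroupoidScheme S) {K : Type u} [Field K]
variable (eU : G.U ≅ Spec (CommRingCat.of K))
variable {B : Type u} [CommRing B] [Algebra K B]
variable (i : Spec (CommRingCat.of B) ⟶ G.R) [IsOpenImmersion i]
variable (hi : i ≫ G.t ≫ eU.hom = Spec.map (CommRingCat.ofHom (algebraMap K B)))
variable (σ : K →+* B) (hσ : i ≫ G.s ≫ eU.hom = Spec.map (CommRingCat.ofHom σ))
variable (e : B →ₐ[K] K)
variable (he : Spec.map (CommRingCat.ofHom (e : B →+* K)) ≫ i = eU.inv ≫ G.e)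

include hi in
theorem i_t : i ≫ G.t = Spec.map (CommRingCat.ofHom (algebraMap K B)) ≫ eU.inv := by
  rw [← hi]
  simp only [Category.assoc, Iso.hom_inv_id, Category.comp_id]

include hσ in
theorem i_s : i ≫ G.s = Spec.map (CommRingCat.ofHom σ) ≫ eU.inv := by
  rw [← hσ]
  simp only [Category.assoc, Iso.hom_inv_id, Category.comp_id]

include hσ he in
theorem e_comp_σ (a : K) : e (σ a) = a := by
  have h1 : Spec.map (CommRingCat.ofHom σ ≫ CommRingCat.ofHom (e : B →+* K)) = 𝟙 _ := by
    rw [Spec.map_comp, ← hσ, reassoc_of% he, reassoc_of% G.e_s, Iso.inv_hom_id]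
  have h2 : CommRingCat.ofHom σ ≫ CommRingCat.ofHom (e : B →+* K) = 𝟙 _ := by
    apply Spec.map_injective
    rw [h1, Spec.map_id]
  have := congrArg (fun f => f.hom a) h2
  simpa using this

include hi hσ he in
/-- Tangent vectors (along the `t`-fibre) at the identity of a groupoid scheme over a field extend
to `t`-linear vector fields on an affine neighbourhood (right translation by the dual-number
point). -/
theorem exists_derivation_of_grpd (ξ : B →ₗ[K] K) (hξ : IsPtDer e ξ) :
    ∃ D : Derivation K B B, ∀ b, e (D b) = ξ b := by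
  have heσ := e_comp_σ G eU i σ hσ e he
  have hit := i_t G eU i hi
  have his := i_s G eU i σ hσ
  set τ := tauHom e ξ hξ with hτ
  set inc : B →ₐ[K] Eps B := inlAlgHom K B B with hinc
  set jB : Eps K →+* Eps B := epsRingMap σ with hjB
  set pr : Eps B →ₐ[K] B := fstHom K B B with hpr
  -- the two points of `R` with values in `Spec B[ε]`
  obtain ⟨α, hα⟩ : ∃ α : Spec (CommRingCat.of (Eps B)) ⟶ G.R,
      α = Spec.map (CommRingCat.ofHom (inc : B →+* Eps B)) ≫ i := ⟨_, rfl⟩
  obtain ⟨β, hβ⟩ : ∃ β : Spec (CommRingCat.of (Eps B)) ⟶ G.R,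
      β = Spec.map (CommRingCat.ofHom (jB.comp (τ : B →+* Eps K))) ≫ i := ⟨_, rfl⟩
  have hαs : α ≫ G.s = Spec.map (CommRingCat.ofHom ((inc : B →+* Eps B).comp σ)) ≫ eU.inv := by
    rw [hα, Category.assoc, his, ← Category.assoc, ← Spec.map_comp, ← CommRingCat.ofHom_comp]
  have hαt : α ≫ G.t = Spec.map (CommRingCat.ofHom (algebraMap K (Eps B))) ≫ eU.inv := by
    rw [hα, Category.assoc, hit, ← Category.assoc, ← Spec.map_comp, ← CommRingCat.ofHom_comp,
      AlgHom.comp_algebraMap]
  have hβt : β ≫ G.t = Spec.map (CommRingCat.ofHom ((inc : B →+* Eps B).comp σ)) ≫ eU.inv := by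
    rw [hβ, Category.assoc, hit, ← Category.assoc, ← Spec.map_comp, ← CommRingCat.ofHom_comp]
    congr 3
    ext a <;> simp [hjB, hτ, hinc, Algebra.algebraMap_eq_smul_one]
  have h : α ≫ G.s = β ≫ G.t := hαs.trans hβt.symm
  obtain ⟨v, hv⟩ : ∃ v : Spec (CommRingCat.of (Eps B)) ⟶ G.R, v = comp G α β h := ⟨_, rfl⟩
  -- restriction of `v` along `ε ↦ 0` is `i`
  have hprα : Spec.map (CommRingCat.ofHom (pr : Eps B →+* B)) ≫ α = i := by
    rw [hα, ← Category.assoc, ← Spec.map_comp, ← CommRingCat.ofHom_comp]
    have h2 : ((pr : Eps B →+* B)).comp (inc : B →+* Eps B) = RingHom.id B := by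
      ext b
      simp [hpr, hinc]
    rw [h2, CommRingCat.ofHom_id, Spec.map_id, Category.id_comp]
  have hprβ : Spec.map (CommRingCat.ofHom (pr : Eps B →+* B)) ≫ β = i ≫ G.s ≫ G.e := by
    rw [hβ, ← Category.assoc, ← Spec.map_comp, ← CommRingCat.ofHom_comp]
    have h2 : ((pr : Eps B →+* B)).comp (jB.comp (τ : B →+* Eps K)) =
        σ.comp (e : B →+* K) := by
      ext b
      simp [hpr, hjB, hτ]
    rw [h2, CommRingCat.ofHom_comp, Spec.map_comp, Category.assoc, he, reassoc_of% his]
  have hprv : Spec.map (CommRingCat.ofHom (pr : Eps B →+* B)) ≫ v = i := by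
    rw [hv, precomp_comp, comp_congr G _ hprα hprβ]
    exact comp_e G i _ rfl _
  -- `v` factors through the open immersion
  have hrange : Set.range v.base ⊆ Set.range i.base := by
    rintro _ ⟨z, rfl⟩
    obtain ⟨w, rfl⟩ := spec_fst_surjective (K := K) (B := B) z
    have h3 := congrArg (fun f : Spec (CommRingCat.of B) ⟶ G.R => f.base w) hprv
    exact ⟨_, h3.symm⟩
  let lft := IsOpenImmersion.lift i v hrange
  have hlft : lft ≫ i = v := IsOpenImmersion.lift_fac _ _ _
  set φ₀ : CommRingCat.of B ⟶ CommRingCat.of (Eps B) := Spec.preimage lft with hφ₀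
  have hφ₀' : Spec.map φ₀ = lft := Spec.map_preimage _
  have halg : CommRingCat.ofHom (algebraMap K B) ≫ φ₀ =
      CommRingCat.ofHom (algebraMap K (Eps B)) := by
    apply Spec.map_injective
    rw [Spec.map_comp, hφ₀', ← hi, reassoc_of% hlft, hv, ← Category.assoc, comp_t,
      hαt, Category.assoc, Iso.inv_hom_id, Category.comp_id]
  let φ : B →ₐ[K] Eps B :=
    { φ₀.hom with
      commutes' := fun r => by
        have := congrArg (fun f => f.hom r) halg
        simpa using this }
  have hφfst : ∀ b, (φ b).fst = b := by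
    have h1 : φ₀ ≫ CommRingCat.ofHom (pr : Eps B →+* B) = 𝟙 _ := by
      apply Spec.map_injective
      rw [Spec.map_comp, hφ₀', Spec.map_id]
      rw [← cancel_mono i, Category.assoc, hlft, Category.id_comp, hprv]
    intro b
    have := congrArg (fun f => f.hom b) h1
    simp only [CommRingCat.hom_comp, CommRingCat.hom_ofHom, RingHom.coe_comp, Function.comp_apply,
      CommRingCat.hom_id, RingHom.id_apply] at this
    exact this
  have hφe : ∀ b, epsMap e (φ b) = τ b := by
    obtain ⟨β₀, hβ₀⟩ : ∃ β₀ : Spec (CommRingCat.of (Eps K)) ⟶ G.R,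
        β₀ = Spec.map (CommRingCat.ofHom (τ : B →+* Eps K)) ≫ i := ⟨_, rfl⟩
    have heβ : Spec.map (CommRingCat.ofHom ((epsMap e : Eps B →ₐ[K] Eps K) : Eps B →+* Eps K)) ≫ β
        = β₀ := by
      rw [hβ, hβ₀, ← Category.assoc, ← Spec.map_comp, ← CommRingCat.ofHom_comp]
      congr 3
      ext b <;> simp [hjB, heσ]
    have heα : Spec.map (CommRingCat.ofHom ((epsMap e : Eps B →ₐ[K] Eps K) : Eps B →+* Eps K)) ≫ α
        = β₀ ≫ G.t ≫ G.e := by
      rw [hα, hβ₀, ← Category.assoc, ← Spec.map_comp, ← CommRingCat.ofHom_comp, Category.assoc,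
        reassoc_of% hit, ← Category.assoc, ← Spec.map_comp, ← CommRingCat.ofHom_comp,
        AlgHom.comp_algebraMap]
      have h2 : ((epsMap e : Eps B →ₐ[K] Eps K) : Eps B →+* Eps K).comp (inc : B →+* Eps B) =
          (algebraMap K (Eps K)).comp (e : B →+* K) := by
        ext b <;> simp [hinc, algebraMap_eq_inl']
      rw [h2, CommRingCat.ofHom_comp, Spec.map_comp, Category.assoc, he]
    have hev : Spec.map (CommRingCat.ofHom ((epsMap e : Eps B →ₐ[K] Eps K) : Eps B →+* Eps K)) ≫ v
        = β₀ := by
      rw [hv, precomp_comp, comp_congr G _ heα heβ]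
      exact e_comp G β₀ _ rfl _
    have h3 : φ₀ ≫ CommRingCat.ofHom ((epsMap e : Eps B →ₐ[K] Eps K) : Eps B →+* Eps K) =
        CommRingCat.ofHom (τ : B →+* Eps K) := by
      apply Spec.map_injective
      rw [Spec.map_comp, hφ₀', ← cancel_mono i, Category.assoc, hlft, hev, hβ₀]
    intro b
    have := congrArg (fun f => f.hom b) h3
    simp only [CommRingCat.hom_comp, CommRingCat.hom_ofHom, RingHom.coe_comp,
      Function.comp_apply] at this
    exact this
  refine ⟨derOfHom φ hφfst, fun b => ?_⟩
  rw [derOfHom_apply]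
  have := congrArg TrivSqZeroExt.snd (hφe b)
  simpa [hτ] using this

end Main

section Local

variable {S : Scheme.{u}} (G : Grpd.GroupoidScheme S) {K : Type u} [Field K] [CharZero K]
variable (eU : G.U ≅ Spec (CommRingCat.of K)) [LocallyOfFiniteType G.t]

/-- A groupoid scheme on the spectrum of a field of characteristic zero, with `t` locally of finite
type, has a reduced open neighbourhood of the identity. -/
theorem exists_reduced_nhd_e :
    ∃ (V : Scheme.{u}) (j : V ⟶ G.R), IsOpenImmersion j ∧ IsReduced V ∧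
      G.e (eU.inv (IsLocalRing.closedPoint K)) ∈ Set.range j.base := by
  set e₀ : G.R := G.e (eU.inv (IsLocalRing.closedPoint K)) with he₀
  obtain ⟨_, ⟨W, hW, rfl⟩, heW, -⟩ :=
    G.R.isBasis_affineOpens.exists_subset_of_mem_open (Set.mem_univ e₀) isOpen_univ
  haveI : LocallyOfFiniteType (G.t ≫ eU.hom) := inferInstance
  haveI : IsLocallyNoetherian G.R := LocallyOfFiniteType.isLocallyNoetherian (G.t ≫ eU.hom)
  haveI : IsNoetherianRing Γ(G.R, W) := IsLocallyNoetherian.component_noetherian ⟨W, hW⟩
  -- the coordinate ring of `W`, as a type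
  let B : Type u := Γ(G.R, W)
  let i : Spec (CommRingCat.of B) ⟶ G.R := hW.fromSpec
  haveI : IsOpenImmersion i := inferInstanceAs (IsOpenImmersion hW.fromSpec)
  let ψ : CommRingCat.of K ⟶ CommRingCat.of B := Spec.preimage (i ≫ G.t ≫ eU.hom)
  letI : Algebra K B := ψ.hom.toAlgebra
  have hi : i ≫ G.t ≫ eU.hom = Spec.map (CommRingCat.ofHom (algebraMap K B)) := by
    have : CommRingCat.ofHom (algebraMap K B) = ψ := rfl
    rw [this]
    exact (Spec.map_preimage _).symm
  let σc : CommRingCat.of K ⟶ CommRingCat.of B := Spec.preimage (i ≫ G.s ≫ eU.hom)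
  have hσ : i ≫ G.s ≫ eU.hom = Spec.map (CommRingCat.ofHom σc.hom) :=
    (Spec.map_preimage _).symm
  have hrange : Set.range (eU.inv ≫ G.e).base ⊆ Set.range i.base := by
    rintro _ ⟨x, rfl⟩
    have hx : x = IsLocalRing.closedPoint K :=
      Subsingleton.elim (α := PrimeSpectrum K) _ _
    rw [hx]
    have : Set.range i.base = W := hW.range_fromSpec
    rw [this]
    exact heW
  let l := IsOpenImmersion.lift i (eU.inv ≫ G.e) hrange
  have hl : l ≫ i = eU.inv ≫ G.e := IsOpenImmersion.lift_fac _ _ _
  let e₁ : CommRingCat.of B ⟶ CommRingCat.of K := Spec.preimage l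
  have he₁ : Spec.map e₁ = l := Spec.map_preimage _
  have hcomm : ψ ≫ e₁ = 𝟙 _ := by
    apply Spec.map_injective
    rw [Spec.map_comp, he₁, Spec.map_preimage, reassoc_of% hl, reassoc_of% G.e_t, Iso.inv_hom_id,
      Spec.map_id]
  let e : B →ₐ[K] K :=
    { e₁.hom with
      commutes' := fun r => by
        have := congrArg (fun f => f.hom r) hcomm
        simp only [CommRingCat.hom_comp, RingHom.coe_comp, Function.comp_apply,
          CommRingCat.hom_id, RingHom.id_apply] at this
        exact this }
  have he : Spec.map (CommRingCat.ofHom (e : B →+* K)) ≫ i = eU.inv ≫ G.e := by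
    have : CommRingCat.ofHom (e : B →+* K) = e₁ := rfl
    rw [this, he₁, hl]
  obtain ⟨s, hs1, hs⟩ := exists_annihilator_nilradical e
    (fun ξ hξ => exists_derivation_of_grpd G eU i hi σc.hom hσ e he ξ hξ)
  have hred := isReduced_away_of_annihilates s hs
  refine ⟨Spec (CommRingCat.of (Localization.Away s)),
    Spec.map (CommRingCat.ofHom (algebraMap B (Localization.Away s))) ≫ i, inferInstance,
    inferInstance, ?_⟩
  have h1 : e₀ = i.base (l.base (IsLocalRing.closedPoint K)) := by
    rw [he₀, ← Scheme.Hom.comp_apply, ← Scheme.Hom.comp_apply, ← hl]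
  rw [h1]
  have h2 : l.base (IsLocalRing.closedPoint K) ∈
      Set.range (Spec.map (CommRingCat.ofHom (algebraMap B (Localization.Away s)))).base := by
    have h3 : Set.range (Spec.map (CommRingCat.ofHom (algebraMap B (Localization.Away s)))).base =
        (PrimeSpectrum.basicOpen s : Set (PrimeSpectrum B)) :=
      PrimeSpectrum.localization_away_comap_range _ s
    rw [h3, ← he₁]
    change s ∉ (PrimeSpectrum.comap e₁.hom (IsLocalRing.closedPoint K)).asIdeal
    rw [PrimeSpectrum.comap_asIdeal, Ideal.mem_comap]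
    change ¬ (e s ∈ (IsLocalRing.closedPoint K).asIdeal)
    rw [hs1]
    exact (IsLocalRing.closedPoint K).2.one_notMem
  obtain ⟨w, hw⟩ := h2
  refine ⟨w, ?_⟩
  rw [← hw]
  rfl

end Local

end Groth.Agent.R2.H33.GrpdCartier
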