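import Mathlib
import Groth.Prelude.Def_Grpd
import Groth.Agent.Lib.Helper2Grpd

/-!
# Fibres of the source map of a groupoid scheme over points in the same orbit (helper33)
-/

set_option autoImplicit false
universe u

open CategoryTheory CategoryTheory.Limits AlgebraicGeometry
open Groth.Agent.Lib.Helper2.Grpd

namespace Groth.Agent.R2.H33.GrpdFibre

variable {S : Scheme.{u}} (G : Grpd.GroupoidScheme S) {T : Scheme.{u}}

/-- Right translation by a `T`-point `ρ` of `R`: the morphism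
`R ×_{s,U,ρ ≫ t} T ⟶ R ×_{s,U,ρ ≫ s} T`, `(x, τ) ↦ (x ∘ ρ(τ), τ)`. -/
noncomputable def transl (ρ : T ⟶ G.R) :
    pullback G.s (ρ ≫ G.t) ⟶ pullback G.s (ρ ≫ G.s) :=
  pullback.lift
    (comp G (pullback.fst G.s (ρ ≫ G.t)) (pullback.snd G.s (ρ ≫ G.t) ≫ ρ)
      (by rw [pullback.condition, Category.assoc]))
    (pullback.snd G.s (ρ ≫ G.t))
    (by rw [comp_s, Category.assoc])

@[reassoc (attr := simp)]
lemma transl_fst (ρ : T ⟶ G.R) :
    transl G ρ ≫ pullback.fst G.s (ρ ≫ G.s) =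
      comp G (pullback.fst G.s (ρ ≫ G.t)) (pullback.snd G.s (ρ ≫ G.t) ≫ ρ)
        (by rw [pullback.condition, Category.assoc]) :=
  pullback.lift_fst _ _ _

@[reassoc (attr := simp)]
lemma transl_snd (ρ : T ⟶ G.R) :
    transl G ρ ≫ pullback.snd G.s (ρ ≫ G.s) = pullback.snd G.s (ρ ≫ G.t) :=
  pullback.lift_snd _ _ _

/-- Right translation by the inverse of `ρ`. -/
noncomputable def translInv (ρ : T ⟶ G.R) :
    pullback G.s (ρ ≫ G.s) ⟶ pullback G.s (ρ ≫ G.t) :=
  pullback.lift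
    (comp G (pullback.fst G.s (ρ ≫ G.s)) (pullback.snd G.s (ρ ≫ G.s) ≫ ρ ≫ G.i)
      (by rw [pullback.condition, Category.assoc, Category.assoc, G.i_t]))
    (pullback.snd G.s (ρ ≫ G.s))
    (by rw [comp_s, Category.assoc, Category.assoc, G.i_s])

@[reassoc (attr := simp)]
lemma translInv_fst (ρ : T ⟶ G.R) :
    translInv G ρ ≫ pullback.fst G.s (ρ ≫ G.t) =
      comp G (pullback.fst G.s (ρ ≫ G.s)) (pullback.snd G.s (ρ ≫ G.s) ≫ ρ ≫ G.i)
        (by rw [pullback.condition, Category.assoc, Category.assoc, G.i_t]) :=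
  pullback.lift_fst _ _ _

@[reassoc (attr := simp)]
lemma translInv_snd (ρ : T ⟶ G.R) :
    translInv G ρ ≫ pullback.snd G.s (ρ ≫ G.t) = pullback.snd G.s (ρ ≫ G.s) :=
  pullback.lift_snd _ _ _

lemma transl_translInv (ρ : T ⟶ G.R) : transl G ρ ≫ translInv G ρ = 𝟙 _ := by
  apply pullback.hom_ext
  · rw [Category.assoc, translInv_fst, precomp_comp, Category.id_comp]
    have h1 : transl G ρ ≫ pullback.fst G.s (ρ ≫ G.s) =
        comp G (pullback.fst G.s (ρ ≫ G.t)) (pullback.snd G.s (ρ ≫ G.t) ≫ ρ)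
          (by rw [pullback.condition, Category.assoc]) := transl_fst G ρ
    have h2 : transl G ρ ≫ pullback.snd G.s (ρ ≫ G.s) ≫ ρ ≫ G.i =
        (pullback.snd G.s (ρ ≫ G.t) ≫ ρ) ≫ G.i := by
      rw [transl_snd_assoc, Category.assoc]
    rw [comp_congr G _ h1 h2]
    exact comp_comp_i G _ _ _ _
  · rw [Category.assoc, translInv_snd, transl_snd, Category.id_comp]

lemma translInv_transl (ρ : T ⟶ G.R) : translInv G ρ ≫ transl G ρ = 𝟙 _ := by
  apply pullback.hom_ext
  · rw [Category.assoc, transl_fst, precomp_comp, Category.id_comp]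
    have h1 : translInv G ρ ≫ pullback.fst G.s (ρ ≫ G.t) =
        comp G (pullback.fst G.s (ρ ≫ G.s)) ((pullback.snd G.s (ρ ≫ G.s) ≫ ρ) ≫ G.i)
          (by rw [pullback.condition]; simp only [Category.assoc, G.i_t]) := by
      rw [translInv_fst]
      exact comp_congr G _ rfl (by rw [Category.assoc])
    have h2 : translInv G ρ ≫ pullback.snd G.s (ρ ≫ G.t) ≫ ρ =
        pullback.snd G.s (ρ ≫ G.s) ≫ ρ := by
      rw [translInv_snd_assoc]
    rw [comp_congr G _ h1 h2]
    exact comp_i_comp' G _ _ _ _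
  · rw [Category.assoc, transl_snd, translInv_snd, Category.id_comp]

/-- Right translation as an isomorphism. -/
noncomputable def translIso (ρ : T ⟶ G.R) :
    pullback G.s (ρ ≫ G.t) ≅ pullback G.s (ρ ≫ G.s) where
  hom := transl G ρ
  inv := translInv G ρ
  hom_inv_id := transl_translInv G ρ
  inv_hom_id := translInv_transl G ρ

/-- Given two `T`-points `α`, `β` of `R` with the same target, the fibres of `s` over
`s α` and `s β` are isomorphic over `T`, compatibly with the tautological sections. -/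
lemma exists_iso_of_same_target (α β : T ⟶ G.R) (h : α ≫ G.t = β ≫ G.t) :
    ∃ (φ : pullback G.s (α ≫ G.s) ≅ pullback G.s (β ≫ G.s))
      (q : T ⟶ pullback G.s (α ≫ G.s)),
      φ.hom ≫ pullback.snd G.s (β ≫ G.s) = pullback.snd G.s (α ≫ G.s) ∧
      q ≫ pullback.fst G.s (α ≫ G.s) = α ∧ q ≫ φ.hom ≫ pullback.fst G.s (β ≫ G.s) = β := by
  have h0 : (α ≫ G.i) ≫ G.s = β ≫ G.t := by rw [Category.assoc, G.i_s, h]
  let ρ : T ⟶ G.R := comp G (α ≫ G.i) β h0
  have hρs : ρ ≫ G.s = β ≫ G.s := comp_s G _ _ _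
  have hρt : ρ ≫ G.t = α ≫ G.s := by
    rw [comp_t G _ _ _, Category.assoc, G.i_t]
  let e1 : pullback G.s (α ≫ G.s) ≅ pullback G.s (ρ ≫ G.t) :=
    pullback.congrHom rfl hρt.symm
  let e2 : pullback G.s (ρ ≫ G.s) ≅ pullback G.s (β ≫ G.s) :=
    pullback.congrHom rfl hρs
  refine ⟨e1 ≪≫ translIso G ρ ≪≫ e2, pullback.lift α (𝟙 T) (by rw [Category.id_comp]), ?_, ?_, ?_⟩
  · simp only [Iso.trans_hom, Category.assoc, e1, e2, pullback.congrHom_hom]
    rw [pullback.lift_snd, Category.comp_id]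
    change _ ≫ transl G ρ ≫ _ = _
    rw [transl_snd, pullback.lift_snd, Category.comp_id]
  · rw [pullback.lift_fst]
  · simp only [Iso.trans_hom, Category.assoc, e1, e2, pullback.congrHom_hom]
    rw [pullback.lift_fst, Category.comp_id]
    change _ ≫ _ ≫ transl G ρ ≫ _ = _
    rw [transl_fst, precomp_comp, precomp_comp]
    have h1 : pullback.lift α (𝟙 T) (by rw [Category.id_comp]) ≫
        pullback.map G.s (α ≫ G.s) G.s (ρ ≫ G.t) (𝟙 G.R) (𝟙 T) (𝟙 G.U)
          (by rw [Category.comp_id, Category.id_comp])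
          (by rw [Category.comp_id, Category.id_comp, hρt]) ≫
        pullback.fst G.s (ρ ≫ G.t) = α := by
      rw [pullback.lift_fst, Category.comp_id, pullback.lift_fst]
    have h2 : pullback.lift α (𝟙 T) (by rw [Category.id_comp]) ≫
        pullback.map G.s (α ≫ G.s) G.s (ρ ≫ G.t) (𝟙 G.R) (𝟙 T) (𝟙 G.U)
          (by rw [Category.comp_id, Category.id_comp])
          (by rw [Category.comp_id, Category.id_comp, hρt]) ≫
        pullback.snd G.s (ρ ≫ G.t) ≫ ρ = comp G (α ≫ G.i) β h0 := by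
      rw [pullback.lift_snd_assoc, Category.comp_id, pullback.lift_snd_assoc, Category.id_comp]
    rw [comp_congr G _ h1 h2]
    exact comp_i_comp G α β h0 _

end Groth.Agent.R2.H33.GrpdFibre
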