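import Mathlib
import Groth.Prelude.Def_Grpd
import Groth.Agent.R2.H33GrpdInvOpen
import Groth.Agent.R2.H96GrpdFitt2Spec

/-!
# helper33: PROJ:grpd-fitt round 2, package [NORMLIFT]
-/

set_option autoImplicit false
universe u

open CategoryTheory CategoryTheory.Limits AlgebraicGeometry TopologicalSpace
open Groth.Agent.R2.H33.GrpdInvOpen Grpd

namespace Groth.Agent.R2.H33.GrpdFitt2NormLift

theorem normLift_aux {S : Scheme.{u}} (G : Grpd.GroupoidScheme S) [IsFinite G.s] [Flat G.s]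
    [LocallyOfFinitePresentation G.s] (Y : Scheme.{u}) [IsAffine Y] (j : G.U ⟶ Y) (g₀ : Γ(Y, ⊤))
    (D : Y.Opens) (hD : D = Y.basicOpen g₀)
    (hV₁ : IsAffineOpen (j ⁻¹ᵁ D)) (hsurj : Function.Surjective (j.app D).hom) :
    ∃ g : Γ(Y, ⊤), ((j ⁻¹ᵁ Y.basicOpen (g * g₀) : G.U.Opens) : Set G.U) =
      sat G ((j ⁻¹ᵁ D : G.U.Opens) : Set G.U) := by
  subst hD
  have hV₁eq : j ⁻¹ᵁ Y.basicOpen g₀ = G.U.basicOpen (j.appTop g₀) :=
    Scheme.preimage_basicOpen_top j g₀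
  let V₁ : G.U.Opens := j ⁻¹ᵁ Y.basicOpen g₀
  let h : Γ(G.R, G.s ⁻¹ᵁ V₁) := G.t.appLE ⊤ (G.s ⁻¹ᵁ V₁) le_top (j.appTop g₀)
  have hbh : G.R.basicOpen h = G.s ⁻¹ᵁ V₁ ⊓ G.t ⁻¹ᵁ V₁ := by
    rw [Scheme.basicOpen_appLE, ← hV₁eq]
  obtain ⟨N, hN⟩ := exists_norm_open G.s hV₁ h
  have hWV₁ : G.U.basicOpen N ≤ V₁ := G.U.basicOpen_le N
  have hWsat : (G.U.basicOpen N : Set G.U) = sat G (V₁ : Set G.U) := by
    ext x
    constructor
    · intro hx r hr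
      have h1 := (hN x (hWV₁ hx)).mp hx r hr
      rw [hbh] at h1
      exact h1.2
    · intro hx
      have hxV₁ : x ∈ V₁ := sat_subset G _ hx
      rw [SetLike.mem_coe, hN x hxV₁]
      intro r hr
      rw [hbh]
      refine ⟨?_, hx r hr⟩
      change G.s r ∈ V₁
      rw [hr]
      exact hxV₁
  obtain ⟨ν, hν⟩ := hsurj N
  obtain ⟨k, g, hg⟩ := IsLocalization.Away.surj g₀ ν
  refine ⟨g, ?_⟩
  rw [← hWsat]
  have hu : IsUnit (algebraMap Γ(Y, ⊤) Γ(Y, Y.basicOpen g₀) g₀ ^ k) :=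
    (IsLocalization.Away.algebraMap_isUnit g₀).pow k
  have h1 : Y.basicOpen ν = Y.basicOpen (g * g₀) := by
    have e1 : Y.basicOpen (ν * algebraMap Γ(Y, ⊤) Γ(Y, Y.basicOpen g₀) g₀ ^ k) = Y.basicOpen ν := by
      rw [Scheme.basicOpen_mul, Scheme.basicOpen_of_isUnit _ hu]
      exact inf_eq_left.mpr (Y.basicOpen_le ν)
    have e2 : Y.basicOpen (algebraMap Γ(Y, ⊤) Γ(Y, Y.basicOpen g₀) g) = Y.basicOpen (g * g₀) := by
      rw [RingHom.algebraMap_toAlgebra, Scheme.basicOpen_res, Scheme.basicOpen_mul, inf_comm]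
    rw [← e1, hg, e2]
  have h2 : j ⁻¹ᵁ Y.basicOpen ν = G.U.basicOpen N := by
    rw [Scheme.preimage_basicOpen, ← hν]
  rw [← h1, h2]

/-- **[NORMLIFT]** -/
theorem normLiftStmt : Groth.Agent.R2.H96.GrpdFitt2Spec.NormLiftStmt.{u} := by
  intro S G _ _ _ A _ j h₀ hV₁ hsurj
  obtain ⟨g, hg⟩ := normLift_aux G (Spec (CommRingCat.of A)) j
    ((Scheme.ΓSpecIso (CommRingCat.of A)).inv h₀) (PrimeSpectrum.basicOpen h₀)
    (basicOpen_eq_of_affine (R := CommRingCat.of A) h₀).symm hV₁ hsurj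
  refine ⟨(Scheme.ΓSpecIso (CommRingCat.of A)).hom g, ?_⟩
  rw [← hg]
  have e : (PrimeSpectrum.basicOpen ((Scheme.ΓSpecIso (CommRingCat.of A)).hom g * h₀) :
      (Spec (CommRingCat.of A)).Opens) =
      (Spec (CommRingCat.of A)).basicOpen (g * (Scheme.ΓSpecIso (CommRingCat.of A)).inv h₀) := by
    rw [← basicOpen_eq_of_affine (R := CommRingCat.of A), map_mul]
    congr 2
    exact congrArg (fun f => f.hom g) (Scheme.ΓSpecIso (CommRingCat.of A)).hom_inv_id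
  rw [e]

end Groth.Agent.R2.H33.GrpdFitt2NormLift
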