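import Mathlib
import Groth.Prelude.Def_Grpd
import Groth.Prelude.Def_Mor2
import Groth.Agent.R2.H33GrpdInvOpen

/-!
# PROJ:grpd-fitt, round 3 — interface for S1884 (helper96)

Target: S1884 (Stacks 0ABJ-type): `s, t` finite, `U` separated and locally Noetherian, `u ∈ U` such that
all points of its orbit `T` have local rings of dimension `≤ 1`; then `u` lies in an invariant affine open.

Proof plan (helper96; different from the Stacks proof — no reduction to the reduced case, no Chevalley):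
1. [QAFF] `T` is finite and lies in an affine open `U₀` (S0217); `O₁ := sat G U₀` is an invariant open
   inside `U₀`; restrict `G` to `O₁` (`R2/H53GrpdRestr.restrictOpen`). Now `j : U ⟶ Spec A` is an (open)
   immersion, `I` = vanishing ideal of the complement. Dimension `≤ 1` is only used through [DIM2]:
   there is no chain `y ⤳ x ⤳ u'` of two proper specializations ending in a point `u'` of `T`.
2. [CORE] `Ξ` := points `ξ ∉ T` without proper generizations specializing to a point of `T` (finite by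
   [GENFIN]). Orbits of `ξ ∈ Ξ` consist of points without proper generizations (`s` is closed, so
   specializations lift; [DIM2]). [S1885STRONG] gives `h₁ ∈ I` with `V := j⁻¹ D(h₁) ⊇ Ξ` invariant affine
   with an invariant thickening-closed `V'' ⊆ V` on which the groupoid is finite locally free.
   If `T` meets `V`, done. Otherwise `T ⊆ Z₁ := U ∖ V` and the points of `T` have no proper generizations
   in `Z₁` ([DIM2], and `T` is an antichain for `⤳` by [INCOMP]). Restrict `G` to `Z₁` with its reduced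
   structure ([RESTRMONO]) and apply S1885 there: `g₂ ∈ I` with `T ⊆ D(g₂)` and `Z₁ ∩ j⁻¹ D(g₂)` invariant.
3. [OMEGAAFF] `Ω := sat G (j⁻¹ D(g₂))` is an invariant open containing `T`, and it is AFFINE: inside the
   affine `X := j⁻¹ D(g₂)`, `Ω ∩ V = j⁻¹ D(a h₁ g₂)` ([NORMLIFT] on the thickening) is affine, the closed
   sets `X ∖ Ω` and `X ∖ V = V(h₁)` are disjoint, so some `e = 1 - b h₁` vanishes on `X ∖ Ω`; then
   `X = D(h₁) ∪ D(e)`, `Ω ∩ D(h₁)` and `Ω ∩ D(e) = D(e)` are affine, so `Ω ⟶ X` is an affine morphism.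
-/

set_option autoImplicit false
universe u

open CategoryTheory CategoryTheory.Limits AlgebraicGeometry TopologicalSpace

namespace Groth.Agent.R2.H96.GrpdFitt3Spec

/-- **[DIM2]** a chain of two proper specializations ending in `z` forces `dim O_{X,z} ≥ 2`.
Route: `X.fromSpecStalk z` is a topological embedding with range `{y | y ⤳ z}`
(`Scheme.range_fromSpecStalk`), so `y, x, z` give primes `q_y < q_x < q_z` of the stalk
(`PrimeSpectrum.le_iff_specializes`), an `LTSeries` of length 2 (`Order.le_krullDim`,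
`ringKrullDim`). -/
def Dim2Stmt : Prop :=
  ∀ {X : Scheme.{u}} (x y z : X), y ⤳ x → y ≠ x → x ⤳ z → x ≠ z →
    ¬ ringKrullDim (X.presheaf.stalk z) ≤ 1

/-- **[GENFIN]** a point with Noetherian local ring has finitely many generizations without proper
generizations (they correspond to the minimal primes of the stalk via `X.fromSpecStalk z`;
`minimalPrimes.finite_of_isNoetherianRing`). -/
def GenFinStmt : Prop :=
  ∀ {X : Scheme.{u}} (z : X), IsNoetherianRing (X.presheaf.stalk z) →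
    {ξ : X | ξ ⤳ z ∧ ∀ y : X, y ⤳ ξ → y = ξ}.Finite

/-- **[INCOMP]** no proper specializations inside a fibre of a finite morphism.
Route: affine open `V ∋ f r'`, `f ⁻¹ᵁ V` is affine and contains `r'`, hence `r`; the ring map is
integral and the primes `q_r ≤ q_r'` have the same contraction (`Ideal.comap_lt_comap`). -/
def IncompStmt : Prop :=
  ∀ {X Y : Scheme.{u}} (f : X ⟶ Y) [IsFinite f] (r r' : X), r ⤳ r' → f r = f r' → r = r'

/-- **[RESTRMONO]** the restriction of a finite groupoid to a closed subscheme of `U`.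
Route: `R' := pullback (pullback.fst G.s ι ≫ G.t) ι` (`= s⁻¹ Z ∩ t⁻¹ Z`),
`ιR := pullback.fst _ _ ≫ pullback.fst _ _` (a mono), `s' := pullback.fst _ _ ≫ pullback.snd G.s ι`,
`t' := pullback.snd _ _`, then `R2/H53GrpdRestr.RestrData₂`/`restrict₂`/`restrictHom₂` (compare
`R2/H96GrpdThick.restrData`); `s'`, `t'` are compositions of base changes of `ι`, `G.s`, `G.t`;
points by `Scheme.Pullback.exists_preimage_pullback` twice. -/
def RestrMonoStmt : Prop :=
  ∀ {S : Scheme.{u}} (G : Grpd.GroupoidScheme S) [IsFinite G.s] [IsFinite G.t] {Z : Scheme.{u}}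
    (ι : Z ⟶ G.U) [IsClosedImmersion ι],
    ∃ (G' : Grpd.GroupoidScheme S) (f : Grpd.GroupoidScheme.Hom G' G),
      IsClosedImmersion f.fU ∧ Set.range f.fU = Set.range ι ∧ IsFinite G'.s ∧ IsFinite G'.t ∧
      ∀ (r : G.R) (z z' : G'.U), G.s r = f.fU z → G.t r = f.fU z' →
        ∃ r' : G'.R, f.fR r' = r ∧ G'.s r' = z ∧ G'.t r' = z'

/-- **[S1885STRONG]** S1885 together with the invariant thickening-closed subscheme of `j⁻¹ D(h)` on
which the groupoid is finite locally free (it is there in the proof of S1885: `j⁻¹ D(h)` lies in the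
open `V` of S7466, restrict `V'` with `R2/H96GrpdThick.JV`, `support_JV`, `exists_iso_restrict`,
`isFinLocFree_restrict_s/t`). -/
def S1885StrongStmt : Prop :=
  ∀ {S : Scheme.{u}} (G : Grpd.GroupoidScheme S) [IsFinite G.s] [LocallyOfFinitePresentation G.s]
    [IsFinite G.t] [LocallyOfFinitePresentation G.t] (m : ℕ) (u : Fin m → G.U)
    (_ : ∀ i (r : G.R), G.s r = u i → ∀ x : G.U, x ⤳ G.t r → x = G.t r) (A : Type u) [CommRing A]
    (j : G.U ⟶ Spec (CommRingCat.of A)) [IsImmersion j] (I : Ideal A)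
    (_ : ∀ x : G.U, j x ∉ PrimeSpectrum.zeroLocus (I : Set A))
    (_ : IsClosed (PrimeSpectrum.zeroLocus (I : Set A) ∪ Set.range j)),
    ∃ h ∈ I, IsAffineOpen (j ⁻¹ᵁ PrimeSpectrum.basicOpen h) ∧
      (∀ i, u i ∈ j ⁻¹ᵁ PrimeSpectrum.basicOpen h) ∧
      G.s ⁻¹ᵁ (j ⁻¹ᵁ PrimeSpectrum.basicOpen h) = G.t ⁻¹ᵁ (j ⁻¹ᵁ PrimeSpectrum.basicOpen h) ∧
      ∃ J : (↑(j ⁻¹ᵁ PrimeSpectrum.basicOpen h) : Scheme.{u}).IdealSheafData, J.support = ⊤ ∧
        (∃ φ : pullback G.s (J.subschemeι ≫ (j ⁻¹ᵁ PrimeSpectrum.basicOpen h).ι) ≅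
            pullback G.t (J.subschemeι ≫ (j ⁻¹ᵁ PrimeSpectrum.basicOpen h).ι),
          φ.hom ≫ pullback.fst G.t (J.subschemeι ≫ (j ⁻¹ᵁ PrimeSpectrum.basicOpen h).ι) =
            pullback.fst G.s (J.subschemeι ≫ (j ⁻¹ᵁ PrimeSpectrum.basicOpen h).ι)) ∧
        Mor2.IsFinLocFree (pullback.snd G.s (J.subschemeι ≫ (j ⁻¹ᵁ PrimeSpectrum.basicOpen h).ι)) ∧
        Mor2.IsFinLocFree (pullback.snd G.t (J.subschemeι ≫ (j ⁻¹ᵁ PrimeSpectrum.basicOpen h).ι))

/-- **[OMEGAAFF]** step 3 of the plan: `sat G (j⁻¹ D(g₂))` is affine. -/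
def OmegaAffStmt : Prop :=
  ∀ {S : Scheme.{u}} (G : Grpd.GroupoidScheme S) [IsFinite G.s] [IsFinite G.t] (A : Type u)
    [CommRing A] (j : G.U ⟶ Spec (CommRingCat.of A)) [IsImmersion j] (I : Ideal A)
    (_ : IsClosed (PrimeSpectrum.zeroLocus (I : Set A) ∪ Set.range j)) (h₁ g₂ : A) (_ : h₁ ∈ I)
    (_ : g₂ ∈ I)
    (_ : G.s ⁻¹ᵁ (j ⁻¹ᵁ PrimeSpectrum.basicOpen h₁) = G.t ⁻¹ᵁ (j ⁻¹ᵁ PrimeSpectrum.basicOpen h₁))
    (J : (↑(j ⁻¹ᵁ PrimeSpectrum.basicOpen h₁) : Scheme.{u}).IdealSheafData) (_ : J.support = ⊤)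
    (φ : pullback G.s (J.subschemeι ≫ (j ⁻¹ᵁ PrimeSpectrum.basicOpen h₁).ι) ≅
      pullback G.t (J.subschemeι ≫ (j ⁻¹ᵁ PrimeSpectrum.basicOpen h₁).ι))
    (_ : φ.hom ≫ pullback.fst G.t (J.subschemeι ≫ (j ⁻¹ᵁ PrimeSpectrum.basicOpen h₁).ι) =
      pullback.fst G.s (J.subschemeι ≫ (j ⁻¹ᵁ PrimeSpectrum.basicOpen h₁).ι))
    (_ : Mor2.IsFinLocFree (pullback.snd G.s (J.subschemeι ≫ (j ⁻¹ᵁ PrimeSpectrum.basicOpen h₁).ι)))
    (_ : ∀ r : G.R, G.s r ∉ j ⁻¹ᵁ PrimeSpectrum.basicOpen h₁ →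
      G.s r ∈ j ⁻¹ᵁ PrimeSpectrum.basicOpen g₂ → G.t r ∈ j ⁻¹ᵁ PrimeSpectrum.basicOpen g₂),
    ∃ Ω : G.U.Opens, (Ω : Set G.U) = Groth.Agent.R2.H33.GrpdInvOpen.sat G
      ((j ⁻¹ᵁ PrimeSpectrum.basicOpen g₂ : G.U.Opens) : Set G.U) ∧ IsAffineOpen Ω

/-- **[CORE]** steps 2 and 3 of the plan (helper96 assembles it from the packages above, S1885 and
[NORMLIFT]/[IMMAFF]/[J2SURJ] of round 2). -/
def CoreStmt : Prop :=
  ∀ {S : Scheme.{u}} (G : Grpd.GroupoidScheme S) [IsFinite G.s] [IsFinite G.t]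
    [IsLocallyNoetherian G.U] (A : Type u) [CommRing A] (j : G.U ⟶ Spec (CommRingCat.of A))
    [IsImmersion j] (I : Ideal A) (_ : ∀ x : G.U, j x ∉ PrimeSpectrum.zeroLocus (I : Set A))
    (_ : IsClosed (PrimeSpectrum.zeroLocus (I : Set A) ∪ Set.range j)) (u : G.U)
    (_ : ∀ r : G.R, G.s r = u → ∀ x y : G.U, y ⤳ x → y ≠ x → x ⤳ G.t r → x ≠ G.t r → False),
    ∃ W : G.U.Opens, IsAffineOpen W ∧ u ∈ W ∧ G.s ⁻¹ᵁ W = G.t ⁻¹ᵁ W

/-- **[QAFF]** step 1 of the plan: S1884 from [CORE] and [DIM2].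
Route: `T := G.t '' (G.s ⁻¹' {u})` is finite; S0217 (`Groth.Agent.S0217.result`; quasi-compact opens
of a locally Noetherian scheme are Noetherian spaces, `NoetherianSpace.finite_irreducibleComponents`)
gives an affine open `U₀ ⊇ T`; `O₁ := ⟨sat G U₀, sat_isOpen ..⟩`, `sat_invariant`, `orbit_subset_sat`;
`G₁ := R2/H53GrpdRestr.restrictOpen G O₁ _` (`restrictOpen_s_prop`, `isPullback_restrictOpenι_s`);
`j := G.U.homOfLE (O₁ ≤ U₀) ≫ hU₀.isoSpec.hom`, `I := PrimeSpectrum.vanishingIdeal (Set.range j)ᶜ`;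
the chain condition passes to the open subscheme (`⤳` is preserved and reflected by open embeddings) and
comes from [DIM2]; an invariant affine open `W₁` of `G₁` gives `O₁.ι ''ᵁ W₁`. -/
def QAffStmt : Prop :=
  CoreStmt.{u} → Dim2Stmt.{u} →
    ∀ (S : Scheme.{u}) (G : Grpd.GroupoidScheme S) [IsFinite G.s] [IsFinite G.t] [G.U.IsSeparated]
      [IsLocallyNoetherian G.U] (u : G.U)
      (_ : ∀ r : G.R, G.s r = u → ringKrullDim (G.U.presheaf.stalk (G.t r)) ≤ 1),
      ∃ W : G.U.Opens, IsAffineOpen W ∧ u ∈ W ∧ G.s ⁻¹ᵁ W = G.t ⁻¹ᵁ W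

end Groth.Agent.R2.H96.GrpdFitt3Spec
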