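import Mathlib
import Groth.Agent.R2.H96GrpdFitt3Spec
import Groth.Agent.R2.H53GrpdRestr
import Groth.Agent.S0217

/-!
# PROJ:grpd-fitt round 3, package [QAFF] (helper33)

`qAffStmt : QAffStmt` — S1884 from [CORE] and [DIM2]: the orbit `T` of `u` is finite and its points have
Noetherian local rings of dimension `≤ 1`, so it lies in an affine open `U₀` (S0217); the saturation
`O₁ = sat G U₀` is an invariant open inside `U₀` containing `u`; restrict the groupoid to `O₁`, which is
quasi-affine via `O₁ ⊆ U₀ ≅ Spec Γ(U, U₀)`, and apply [CORE] there.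
-/

set_option autoImplicit false
set_option linter.style.haveILetI false
universe u

open CategoryTheory CategoryTheory.Limits AlgebraicGeometry TopologicalSpace

namespace Groth.Agent.R2.H33.GrpdFitt3QAff

open Groth.Agent.R2.H96.GrpdFitt3Spec Groth.Agent.R2.H33.GrpdInvOpen Groth.Agent.R2.H53.GrpdRestr

/-- compact opens of a locally Noetherian scheme have finitely many irreducible components -/
theorem finite_irreducibleComponents_of_isCompact (X : Scheme.{u}) [IsLocallyNoetherian X]
    (U : X.Opens) (hU : IsCompact (U : Set X)) : (irreducibleComponents (U : Set X)).Finite := by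
  haveI : CompactSpace (↑U : Scheme.{u}) := isCompact_iff_compactSpace.1 hU
  haveI : IsNoetherian (↑U : Scheme.{u}) := ⟨⟩
  have h : NoetherianSpace (↑U : Scheme.{u}) := inferInstance
  exact @NoetherianSpace.finite_irreducibleComponents _ _ h

section pts

variable {S : Scheme.{u}} (G : Grpd.GroupoidScheme S) (W : G.U.Opens)
  (hW : G.s ⁻¹ᵁ W = G.t ⁻¹ᵁ W)

theorem fU_s_apply (r : (restrictOpen G W hW).R) :
    (restrictOpenι G W hW).fU ((restrictOpen G W hW).s r) = G.s ((restrictOpenι G W hW).fR r) := by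
  have := congrArg (fun φ : (restrictOpen G W hW).R ⟶ G.U => φ r) (restrictOpenι G W hW).comm_s
  simp only [Scheme.Hom.comp_apply] at this
  exact this.symm

theorem fU_t_apply (r : (restrictOpen G W hW).R) :
    (restrictOpenι G W hW).fU ((restrictOpen G W hW).t r) = G.t ((restrictOpenι G W hW).fR r) := by
  have := congrArg (fun φ : (restrictOpen G W hW).R ⟶ G.U => φ r) (restrictOpenι G W hW).comm_t
  simp only [Scheme.Hom.comp_apply] at this
  exact this.symm

instance : IsOpenImmersion (restrictOpenι G W hW).fU := inferInstanceAs (IsOpenImmersion W.ι)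

instance : IsOpenImmersion (restrictOpenι G W hW).fR :=
  inferInstanceAs (IsOpenImmersion (G.s ⁻¹ᵁ W).ι)

theorem range_fU : Set.range (restrictOpenι G W hW).fU = (W : Set G.U) :=
  Scheme.Opens.range_ι W

end pts

/-- **[QAFF]** -/
theorem qAffStmt : QAffStmt.{u} := by
  intro hCore hDim2 S G _ _ _ _ u hdim
  classical
  -- the orbit is finite
  have hTfin : (G.t '' (G.s ⁻¹' {u})).Finite :=
    (Scheme.Hom.finite_preimage_singleton G.s u).image _
  -- an affine open containing the orbit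
  obtain ⟨U₀, hU₀, hTU₀⟩ := Groth.Agent.S0217.result G.U
    (fun U hU => finite_irreducibleComponents_of_isCompact G.U U hU) hTfin.toFinset
    (fun x hx => by
      rw [Set.Finite.mem_toFinset] at hx
      obtain ⟨r, hr, rfl⟩ := hx
      exact ⟨inferInstance, hdim r hr⟩)
  have hT : ∀ r : G.R, G.s r = u → G.t r ∈ (U₀ : Set G.U) := fun r hr =>
    hTU₀ _ (hTfin.mem_toFinset.2 ⟨r, hr, rfl⟩)
  -- the invariant open inside `U₀`
  let O₁ : G.U.Opens := ⟨sat G (U₀ : Set G.U), sat_isOpen G _ U₀.isOpen⟩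
  have hO₁inv : G.s ⁻¹ᵁ O₁ = G.t ⁻¹ᵁ O₁ := by
    ext r
    exact Set.ext_iff.1 (sat_invariant G (U₀ : Set G.U)) r
  have hO₁U₀ : O₁ ≤ U₀ := sat_subset G _
  have huO₁ : u ∈ O₁ := by
    have := orbit_subset_sat G (U₀ : Set G.U) u hT (G.e u) (s_e_pt G u)
    rwa [t_e_pt] at this
  -- the restricted groupoid
  haveI : IsFinite (restrictOpen G O₁ hO₁inv).s :=
    restrictOpen_s_prop G O₁ hO₁inv @IsFinite ‹_›
  haveI : IsFinite (restrictOpen G O₁ hO₁inv).t :=
    restrictOpen_t_prop G O₁ hO₁inv @IsFinite ‹_›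
  haveI : IsLocallyNoetherian (restrictOpen G O₁ hO₁inv).U :=
    inferInstanceAs (IsLocallyNoetherian (O₁ : Scheme.{u}))
  -- the open immersion into the affine scheme `U₀`
  let j : (restrictOpen G O₁ hO₁inv).U ⟶ Spec (CommRingCat.of ↑Γ(G.U, U₀)) :=
    G.U.homOfLE hO₁U₀ ≫ hU₀.isoSpec.hom
  haveI hjo : IsOpenImmersion j :=
    inferInstanceAs (IsOpenImmersion (G.U.homOfLE hO₁U₀ ≫ hU₀.isoSpec.hom))
  haveI : IsImmersion j := inferInstance
  have hopen : IsOpen (Set.range j) := j.isOpenEmbedding.isOpen_range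
  have hzl : PrimeSpectrum.zeroLocus
      ((PrimeSpectrum.vanishingIdeal (Set.range j)ᶜ : Ideal ↑Γ(G.U, U₀)) : Set ↑Γ(G.U, U₀)) =
      (Set.range j)ᶜ := by
    rw [PrimeSpectrum.zeroLocus_vanishingIdeal_eq_closure]
    exact (isClosed_compl_iff.2 hopen).closure_eq
  obtain ⟨x₁, hx₁⟩ : ∃ x₁ : (restrictOpen G O₁ hO₁inv).U,
      (restrictOpenι G O₁ hO₁inv).fU x₁ = u := by
    have : u ∈ Set.range (restrictOpenι G O₁ hO₁inv).fU := by
      rw [range_fU]; exact huO₁
    exact this
  have hfUinj : Function.Injective (restrictOpenι G O₁ hO₁inv).fU :=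
    (restrictOpenι G O₁ hO₁inv).fU.isOpenEmbedding.injective
  obtain ⟨W₁, hW₁, hx₁W₁, hW₁inv⟩ := hCore (restrictOpen G O₁ hO₁inv) ↑Γ(G.U, U₀) j
    (PrimeSpectrum.vanishingIdeal (Set.range j)ᶜ)
    (fun x hx => by
      rw [hzl] at hx
      exact hx ⟨x, rfl⟩)
    (by
      rw [hzl]
      convert isClosed_univ
      exact Set.compl_union_self _)
    x₁
    (by
      intro r hr x y hyx hne hxt hne'
      have hs : G.s ((restrictOpenι G O₁ hO₁inv).fR r) = u := by
        rw [← fU_s_apply, hr, hx₁]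
      have ht := fU_t_apply G O₁ hO₁inv r
      refine hDim2 ((restrictOpenι G O₁ hO₁inv).fU x) ((restrictOpenι G O₁ hO₁inv).fU y)
        (G.t ((restrictOpenι G O₁ hO₁inv).fR r))
        (hyx.map (restrictOpenι G O₁ hO₁inv).fU.continuous) (hfUinj.ne hne) ?_ ?_
        (hdim _ hs)
      · rw [← ht]
        exact hxt.map (restrictOpenι G O₁ hO₁inv).fU.continuous
      · rw [← ht]
        exact hfUinj.ne hne')
  refine ⟨(restrictOpenι G O₁ hO₁inv).fU ''ᵁ W₁,
    hW₁.image_of_isOpenImmersion (restrictOpenι G O₁ hO₁inv).fU, ?_, ?_⟩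
  · rw [← hx₁]
    exact (Scheme.Hom.apply_mem_image_iff _).2 hx₁W₁
  · rw [← IsOpenImmersion.image_preimage_eq_preimage_image_of_isPullback
        (isPullback_restrictOpenι_s G O₁ hO₁inv).flip W₁,
      ← IsOpenImmersion.image_preimage_eq_preimage_image_of_isPullback
        (isPullback_restrictOpenι_t G O₁ hO₁inv).flip W₁, hW₁inv]

end Groth.Agent.R2.H33.GrpdFitt3QAff
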