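import Mathlib
import Groth.Prelude.Def_Grpd
import Groth.Agent.Lib.Helper2Grpd

/-!
# Restricting a groupoid scheme along a monomorphism into its scheme of arrows (helper33)

Given a groupoid scheme `G` and a monomorphism `ι : Z ⟶ G.R` such that composition, identity and
inverse factor through `ι`, we obtain a groupoid scheme with arrows `Z` and a morphism to `G`.
-/

set_option autoImplicit false
universe u

open CategoryTheory CategoryTheory.Limits AlgebraicGeometry
open Groth.Agent.Lib.Helper2.Grpd

namespace Groth.Agent.R2.H33.GrpdRestrict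

variable {S : Scheme.{u}} (G : Grpd.GroupoidScheme S) {Z : Scheme.{u}} (ι : Z ⟶ G.R)

/-- the canonical map `Z ×_U Z ⟶ R ×_U R` -/
noncomputable abbrev prodMap : pullback (ι ≫ G.s) (ι ≫ G.t) ⟶ pullback G.s G.t :=
  pullback.map (ι ≫ G.s) (ι ≫ G.t) G.s G.t ι ι (𝟙 _)
    (by rw [Category.comp_id]) (by rw [Category.comp_id])

/-- Factorizations of composition, identity and inverse through `ι`. -/
structure RestrData where
  /-- the restricted composition -/
  c' : pullback (ι ≫ G.s) (ι ≫ G.t) ⟶ Z
  hc : c' ≫ ι = prodMap G ι ≫ G.c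
  /-- the restricted identity -/
  e' : G.U ⟶ Z
  he : e' ≫ ι = G.e
  /-- the restricted inverse -/
  i' : Z ⟶ Z
  hi : i' ≫ ι = ι ≫ G.i

variable {G ι}

lemma RestrData.lift_c_ι (D : RestrData G ι) {T : Scheme.{u}} (α β : T ⟶ Z)
    (h : α ≫ (ι ≫ G.s) = β ≫ (ι ≫ G.t)) :
    (pullback.lift α β h ≫ D.c') ≫ ι =
      comp G (α ≫ ι) (β ≫ ι) (by simpa only [Category.assoc] using h) := by
  rw [Category.assoc, D.hc, ← Category.assoc]
  unfold comp
  congr 1
  apply pullback.hom_ext
  · rw [Category.assoc, pullback.lift_fst, pullback.lift_fst_assoc, pullback.lift_fst]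
  · rw [Category.assoc, pullback.lift_snd, pullback.lift_snd_assoc, pullback.lift_snd]

variable [Mono ι]

/-- The restricted groupoid scheme. -/
noncomputable def restrict (D : RestrData G ι) : Grpd.GroupoidScheme S where
  U := G.U
  R := Z
  pU := G.pU
  pR := ι ≫ G.pR
  s := ι ≫ G.s
  t := ι ≫ G.t
  e := D.e'
  i := D.i'
  c := D.c'
  s_over := by rw [Category.assoc, G.s_over]
  t_over := by rw [Category.assoc, G.t_over]
  comp_s := fun α β h => by
    rw [← Category.assoc, D.lift_c_ι α β h, comp_s, Category.assoc]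
  comp_t := fun α β h => by
    rw [← Category.assoc, D.lift_c_ι α β h, comp_t, Category.assoc]
  assoc := fun α β γ h₁ h₂ => by
    rw [← cancel_mono ι]
    refine (D.lift_c_ι _ _ _).trans (Eq.trans ?_ (D.lift_c_ι _ _ _).symm)
    rw [comp_congr G _ (D.lift_c_ι α β h₁) rfl, comp_congr G _ rfl (D.lift_c_ι β γ h₂)]
    exact comp_assoc G _ _ _ _ _
  e_s := by rw [← Category.assoc, D.he, G.e_s]
  e_t := by rw [← Category.assoc, D.he, G.e_t]
  comp_e := fun α => by
    rw [← cancel_mono ι, D.lift_c_ι]
    exact comp_e G _ _ (by simp only [Category.assoc, D.he]) _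
  e_comp := fun α => by
    rw [← cancel_mono ι, D.lift_c_ι]
    exact e_comp G _ _ (by simp only [Category.assoc, D.he]) _
  i_s := by rw [← Category.assoc, D.hi, Category.assoc, G.i_s]
  i_t := by rw [← Category.assoc, D.hi, Category.assoc, G.i_t]
  comp_i := fun α => by
    rw [← cancel_mono ι, D.lift_c_ι]
    have e1 : (α ≫ D.i') ≫ ι = (α ≫ ι) ≫ G.i := by simp only [Category.assoc, D.hi]
    rw [comp_congr G _ rfl e1, comp_i]
    simp only [Category.assoc, D.he]
  i_comp := fun α => by
    rw [← cancel_mono ι, D.lift_c_ι]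
    have e1 : (α ≫ D.i') ≫ ι = (α ≫ ι) ≫ G.i := by simp only [Category.assoc, D.hi]
    rw [comp_congr G _ e1 rfl, i_comp]
    simp only [Category.assoc, D.he]

/-- The inclusion of the restricted groupoid scheme. -/
noncomputable def restrictHom (D : RestrData G ι) : Grpd.GroupoidScheme.Hom (restrict D) G where
  fU := 𝟙 G.U
  fR := ι
  fU_over := Category.id_comp _
  comm_s := (Category.comp_id _).symm
  comm_t := (Category.comp_id _).symm
  comm_c := fun α β h => D.lift_c_ι α β h

end Groth.Agent.R2.H33.GrpdRestrict
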