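import Mathlib
import Groth.Prelude.Def_Grpd
import Groth.Agent.R2.H33GrpdRestrict
import Groth.Agent.Lib.Helper11RedCl
import Groth.Agent.Lib.Helper12GeomReduced
import Groth.Agent.Lib.Helper6SepCl2

/-!
# Restricting a groupoid scheme on a perfect field to a reduced closed subscheme (helper33)

Also: the pair groupoid `(U, U ×_S U, pr₁, pr₀, pr₀₂)`.
-/

set_option autoImplicit false
set_option linter.unusedSimpArgs false
universe u

open CategoryTheory CategoryTheory.Limits AlgebraicGeometry

namespace Groth.Agent.R2.H33.GrpdRestrictRed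

open Groth.Agent.R2.H33.GrpdRestrict

variable {S : Scheme.{u}}

/-- Over a perfect field, a closed subset of the arrows of a groupoid scheme which is stable under
composition, identity and inverse carries (with its reduced structure) restriction data. -/
theorem nonempty_restrData (P : Grpd.GroupoidScheme S) (k : Type u) [Field k] [PerfectField k]
    (eU : P.U ≅ Spec (CommRingCat.of k)) (Zc : TopologicalSpace.Closeds P.R)
    (hc : ∀ p : ↑(pullback P.s P.t), pullback.fst P.s P.t p ∈ Zc → pullback.snd P.s P.t p ∈ Zc →
      P.c p ∈ Zc)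
    (he : Set.range ⇑P.e ⊆ (Zc : Set P.R)) (hi : ∀ z ∈ Zc, P.i z ∈ Zc) :
    Nonempty (RestrData P (Scheme.IdealSheafData.vanishingIdeal Zc).subschemeι) := by
  classical
  have hUred : IsReduced P.U := isReduced_of_isOpenImmersion eU.hom
  let I := Scheme.IdealSheafData.vanishingIdeal Zc
  let ι : I.subscheme ⟶ P.R := I.subschemeι
  have hZred : IsReduced I.subscheme :=
    Groth.Agent.Lib.Helper11RedCl.isReduced_subscheme_vanishingIdeal Zc
  have hrange : Set.range ⇑ι = (Zc : Set P.R) :=
    Groth.Agent.Lib.Helper11RedCl.range_subschemeι_vanishingIdeal Zc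
  have hPred : IsReduced (pullback (ι ≫ P.s) (ι ≫ P.t)) := by
    let _ : I.subscheme.Over (Spec (CommRingCat.of k)) := ⟨ι ≫ P.s ≫ eU.hom⟩
    have hgr : GeometricallyReduced (ι ≫ P.s ≫ eU.hom) :=
      Groth.Agent.Lib.Helper6.SepCl.geometricallyReduced_of_perfectField k I.subscheme
    have hred' : IsReduced (pullback (ι ≫ P.s ≫ eU.hom) (ι ≫ P.t ≫ eU.hom)) :=
      Groth.Agent.Lib.Helper12.GR.isReduced_pullback _ _
    let m : pullback (ι ≫ P.s) (ι ≫ P.t) ⟶ pullback (ι ≫ P.s ≫ eU.hom) (ι ≫ P.t ≫ eU.hom) :=
      pullback.map _ _ _ _ (𝟙 _) (𝟙 _) eU.hom (by simp) (by simp)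
    have : IsIso m := by
      dsimp only [m]
      infer_instance
    exact isReduced_of_isOpenImmersion m
  have hcr : Set.range ⇑(prodMap P ι ≫ P.c) ⊆ (Zc : Set P.R) := by
    rintro _ ⟨p, rfl⟩
    rw [Scheme.Hom.comp_apply]
    refine hc _ ?_ ?_
    · rw [← Scheme.Hom.comp_apply, pullback.lift_fst, Scheme.Hom.comp_apply]
      change _ ∈ (Zc : Set P.R)
      rw [← hrange]
      exact ⟨_, rfl⟩
    · rw [← Scheme.Hom.comp_apply, pullback.lift_snd, Scheme.Hom.comp_apply]
      change _ ∈ (Zc : Set P.R)
      rw [← hrange]
      exact ⟨_, rfl⟩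
  obtain ⟨c', hc'⟩ := Groth.Agent.Lib.Helper11RedCl.exists_lift_of_range_subset _ Zc hcr
  obtain ⟨e', he'⟩ := Groth.Agent.Lib.Helper11RedCl.exists_lift_of_range_subset _ Zc he
  have hir : Set.range ⇑(ι ≫ P.i) ⊆ (Zc : Set P.R) := by
    rintro _ ⟨z, rfl⟩
    rw [Scheme.Hom.comp_apply]
    refine hi _ ?_
    change _ ∈ (Zc : Set P.R)
    rw [← hrange]
    exact ⟨z, rfl⟩
  obtain ⟨i', hi'⟩ := Groth.Agent.Lib.Helper11RedCl.exists_lift_of_range_subset _ Zc hir
  exact ⟨{ c' := c', hc := hc', e' := e', he := he', i' := i', hi := hi' }⟩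

/-- The pair groupoid `(U, U ×_S U, s = pr₁, t = pr₀)`. -/
noncomputable def pair {U : Scheme.{u}} (pU : U ⟶ S) : Grpd.GroupoidScheme S where
  U := U
  R := pullback pU pU
  pU := pU
  pR := pullback.fst pU pU ≫ pU
  s := pullback.snd pU pU
  t := pullback.fst pU pU
  e := pullback.lift (𝟙 U) (𝟙 U) rfl
  i := pullback.lift (pullback.snd pU pU) (pullback.fst pU pU) pullback.condition.symm
  c := pullback.lift (pullback.fst _ _ ≫ pullback.fst pU pU) (pullback.snd _ _ ≫ pullback.snd pU pU)
    (by rw [Category.assoc, Category.assoc, pullback.condition, pullback.condition_assoc,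
      pullback.condition])
  s_over := pullback.condition.symm
  t_over := rfl
  comp_s := fun α β h => by
    simp only [pullback.lift_fst, pullback.lift_snd, pullback.lift_fst_assoc,
      pullback.lift_snd_assoc, Category.assoc, Category.comp_id, Category.id_comp]
  comp_t := fun α β h => by
    simp only [pullback.lift_fst, pullback.lift_snd, pullback.lift_fst_assoc,
      pullback.lift_snd_assoc, Category.assoc, Category.comp_id, Category.id_comp]
  assoc := fun α β γ h₁ h₂ => by
    apply pullback.hom_ext <;>
    simp only [pullback.lift_fst, pullback.lift_snd, pullback.lift_fst_assoc,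
      pullback.lift_snd_assoc, Category.assoc, Category.comp_id, Category.id_comp]
  e_s := by
    simp only [pullback.lift_fst, pullback.lift_snd, pullback.lift_fst_assoc,
      pullback.lift_snd_assoc, Category.assoc, Category.comp_id, Category.id_comp]
  e_t := by
    simp only [pullback.lift_fst, pullback.lift_snd, pullback.lift_fst_assoc,
      pullback.lift_snd_assoc, Category.assoc, Category.comp_id, Category.id_comp]
  comp_e := fun α => by
    apply pullback.hom_ext <;>
    simp only [pullback.lift_fst, pullback.lift_snd, pullback.lift_fst_assoc,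
      pullback.lift_snd_assoc, Category.assoc, Category.comp_id, Category.id_comp]
  e_comp := fun α => by
    apply pullback.hom_ext <;>
    simp only [pullback.lift_fst, pullback.lift_snd, pullback.lift_fst_assoc,
      pullback.lift_snd_assoc, Category.assoc, Category.comp_id, Category.id_comp]
  i_s := by
    simp only [pullback.lift_fst, pullback.lift_snd, pullback.lift_fst_assoc,
      pullback.lift_snd_assoc, Category.assoc, Category.comp_id, Category.id_comp]
  i_t := by
    simp only [pullback.lift_fst, pullback.lift_snd, pullback.lift_fst_assoc,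
      pullback.lift_snd_assoc, Category.assoc, Category.comp_id, Category.id_comp]
  comp_i := fun α => by
    apply pullback.hom_ext <;>
    simp only [pullback.lift_fst, pullback.lift_snd, pullback.lift_fst_assoc,
      pullback.lift_snd_assoc, Category.assoc, Category.comp_id, Category.id_comp]
  i_comp := fun α => by
    apply pullback.hom_ext <;>
    simp only [pullback.lift_fst, pullback.lift_snd, pullback.lift_fst_assoc,
      pullback.lift_snd_assoc, Category.assoc, Category.comp_id, Category.id_comp]

end Groth.Agent.R2.H33.GrpdRestrictRed
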