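import Mathlib
import Groth.Agent.Lib.Helper11SchImage

/-!
# Products of scheme-theoretically dominant morphisms over a flat base (helper33)
-/

set_option autoImplicit false
set_option linter.unusedSimpArgs false
universe u

open CategoryTheory CategoryTheory.Limits AlgebraicGeometry

namespace Groth.Agent.R2.H33.SchDom

variable {S X X' Y Y' : Scheme.{u}}

/-- Base change of a scheme-theoretically dominant quasi-compact morphism `i₂ : Y ⟶ Y'` along the
(flat) projection `X' ×_S Y' ⟶ Y'`. -/
theorem dominant_map_right (f' : X' ⟶ S) (g' : Y' ⟶ S) (i₂ : Y ⟶ Y')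
    [IsSchemeTheoreticallyDominant i₂] [QuasiCompact i₂] [Flat f'] :
    IsSchemeTheoreticallyDominant
      (pullback.map f' (i₂ ≫ g') f' g' (𝟙 X') i₂ (𝟙 S)
        (by rw [Category.comp_id, Category.id_comp]) (by rw [Category.comp_id])) := by
  have hbig : IsPullback (pullback.fst f' (i₂ ≫ g')) (pullback.snd f' (i₂ ≫ g')) f' (i₂ ≫ g') :=
    IsPullback.of_hasPullback _ _
  have hright : IsPullback (pullback.fst f' g') (pullback.snd f' g') f' g' :=
    IsPullback.of_hasPullback _ _
  have hsq : IsPullback
      (pullback.map f' (i₂ ≫ g') f' g' (𝟙 X') i₂ (𝟙 S)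
        (by rw [Category.comp_id, Category.id_comp]) (by rw [Category.comp_id]))
      (pullback.snd f' (i₂ ≫ g')) (pullback.snd f' g') i₂ := by
    refine IsPullback.of_right ?_ (by rw [pullback.lift_snd]) hright
    have : pullback.map f' (i₂ ≫ g') f' g' (𝟙 X') i₂ (𝟙 S)
        (by rw [Category.comp_id, Category.id_comp]) (by rw [Category.comp_id]) ≫
        pullback.fst f' g' = pullback.fst f' (i₂ ≫ g') := by
      rw [pullback.lift_fst, Category.comp_id]
    rw [this]
    exact hbig
  exact IsSchemeTheoreticallyDominant.of_isPullback hsq.flip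

/-- Base change of a scheme-theoretically dominant quasi-compact morphism `i₁ : X ⟶ X'` along the
(flat) projection `X' ×_S Y ⟶ X'`. -/
theorem dominant_map_left (f' : X' ⟶ S) (g : Y ⟶ S) (i₁ : X ⟶ X')
    [IsSchemeTheoreticallyDominant i₁] [QuasiCompact i₁] [Flat g] :
    IsSchemeTheoreticallyDominant
      (pullback.map (i₁ ≫ f') g f' g i₁ (𝟙 Y) (𝟙 S)
        (by rw [Category.comp_id]) (by rw [Category.comp_id, Category.id_comp])) := by
  have hbig : IsPullback (pullback.fst (i₁ ≫ f') g) (pullback.snd (i₁ ≫ f') g) (i₁ ≫ f') g :=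
    IsPullback.of_hasPullback _ _
  have hright : IsPullback (pullback.fst f' g) (pullback.snd f' g) f' g :=
    IsPullback.of_hasPullback _ _
  have hsq : IsPullback
      (pullback.map (i₁ ≫ f') g f' g i₁ (𝟙 Y) (𝟙 S)
        (by rw [Category.comp_id]) (by rw [Category.comp_id, Category.id_comp]))
      (pullback.fst (i₁ ≫ f') g) (pullback.fst f' g) i₁ := by
    refine IsPullback.of_right ?_ (by rw [pullback.lift_fst]) hright.flip
    have : pullback.map (i₁ ≫ f') g f' g i₁ (𝟙 Y) (𝟙 S)
        (by rw [Category.comp_id]) (by rw [Category.comp_id, Category.id_comp]) ≫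
        pullback.snd f' g = pullback.snd (i₁ ≫ f') g := by
      rw [pullback.lift_snd, Category.comp_id]
    rw [this]
    exact hbig.flip
  exact IsSchemeTheoreticallyDominant.of_isPullback hsq.flip

/-- The fibre product, over a base over which everything is flat, of two scheme-theoretically
dominant quasi-compact morphisms is scheme-theoretically dominant. -/
theorem dominant_map (f' : X' ⟶ S) (g' : Y' ⟶ S) (i₁ : X ⟶ X') (i₂ : Y ⟶ Y')
    [IsSchemeTheoreticallyDominant i₁] [QuasiCompact i₁]
    [IsSchemeTheoreticallyDominant i₂] [QuasiCompact i₂] [Flat f'] [Flat (i₂ ≫ g')] :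
    IsSchemeTheoreticallyDominant
      (pullback.map (i₁ ≫ f') (i₂ ≫ g') f' g' i₁ i₂ (𝟙 S)
        (by rw [Category.comp_id]) (by rw [Category.comp_id])) := by
  have h1 := dominant_map_left f' (i₂ ≫ g') i₁
  have h2 := dominant_map_right f' g' i₂
  have hcomp : pullback.map (i₁ ≫ f') (i₂ ≫ g') f' g' i₁ i₂ (𝟙 S)
      (by rw [Category.comp_id]) (by rw [Category.comp_id]) =
      pullback.map (i₁ ≫ f') (i₂ ≫ g') f' (i₂ ≫ g') i₁ (𝟙 Y) (𝟙 S)
        (by rw [Category.comp_id]) (by rw [Category.comp_id, Category.id_comp]) ≫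
      pullback.map f' (i₂ ≫ g') f' g' (𝟙 X') i₂ (𝟙 S)
        (by rw [Category.comp_id, Category.id_comp]) (by rw [Category.comp_id]) := by
    apply pullback.hom_ext
    · simp only [pullback.lift_fst, pullback.lift_fst_assoc, Category.assoc, Category.comp_id,
        pullback.map]
    · simp only [pullback.lift_snd, pullback.lift_snd_assoc, Category.assoc, Category.comp_id,
        pullback.map]
  rw [hcomp]
  infer_instance

/-- Variant of `dominant_map` with arbitrary structure morphisms on the source. -/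
theorem dominant_map' (f : X ⟶ S) (g : Y ⟶ S) (f' : X' ⟶ S) (g' : Y' ⟶ S) (i₁ : X ⟶ X')
    (i₂ : Y ⟶ Y') (e₁ : f = i₁ ≫ f') (e₂ : g = i₂ ≫ g')
    [IsSchemeTheoreticallyDominant i₁] [QuasiCompact i₁]
    [IsSchemeTheoreticallyDominant i₂] [QuasiCompact i₂] [Flat f'] [Flat g] :
    IsSchemeTheoreticallyDominant
      (pullback.map f g f' g' i₁ i₂ (𝟙 S)
        ((Category.comp_id _).trans e₁) ((Category.comp_id _).trans e₂)) := by
  subst e₁ e₂
  exact dominant_map f' g' i₁ i₂

end Groth.Agent.R2.H33.SchDom
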