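import Mathlib
import Groth.Prelude.Def_Grpd
import Groth.Agent.R2.H33GrpdRestrict
import Groth.Agent.R2.H33GrpdRestrictRed
import Groth.Agent.R2.H33SchDom
import Groth.Agent.S1891

/-!
# The scheme-theoretic image of a morphism of groupoid schemes on a field (helper33)
-/

set_option autoImplicit false
universe u

open CategoryTheory CategoryTheory.Limits AlgebraicGeometry
open Groth.Agent.Lib.Helper2.Grpd

namespace Groth.Agent.R2.H33.GrpdImage

open Groth.Agent.R2.H33.GrpdRestrict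

variable {S : Scheme.{u}} {G₁ G₂ : Grpd.GroupoidScheme S}

/-- For a morphism of groupoid schemes `f : G₁ ⟶ G₂` which is an isomorphism on objects and
quasi-compact on arrows, with `G₂.U` field-like, the scheme-theoretic image of `f.fR` carries
restriction data. -/
theorem nonempty_restrData_image (f : Grpd.GroupoidScheme.Hom G₁ G₂) [IsIso f.fU]
    [QuasiCompact f.fR] [IsIntegral G₂.U] [Subsingleton G₂.U] :
    Nonempty (RestrData G₂ f.fR.imageι) := by
  classical
  let ι : f.fR.image ⟶ G₂.R := f.fR.imageι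
  let a' : G₁.R ⟶ f.fR.image := f.fR.toImage
  have ha' : a' ≫ ι = f.fR := f.fR.toImage_imageι
  -- composition
  have hcond : pullback.fst (f.fR ≫ G₂.s) (f.fR ≫ G₂.t) ≫ G₁.s =
      pullback.snd (f.fR ≫ G₂.s) (f.fR ≫ G₂.t) ≫ G₁.t := by
    rw [← cancel_mono f.fU, Category.assoc, Category.assoc, ← f.comm_s, ← f.comm_t]
    exact pullback.condition
  have e₁ : f.fR ≫ G₂.s = a' ≫ ι ≫ G₂.s := by rw [← Category.assoc, ha']
  have e₂ : f.fR ≫ G₂.t = a' ≫ ι ≫ G₂.t := by rw [← Category.assoc, ha']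
  have hδ := Groth.Agent.R2.H33.SchDom.dominant_map' (f.fR ≫ G₂.s) (f.fR ≫ G₂.t)
    (ι ≫ G₂.s) (ι ≫ G₂.t) a' a' e₁ e₂
  have hcomm : pullback.map (f.fR ≫ G₂.s) (f.fR ≫ G₂.t) (ι ≫ G₂.s) (ι ≫ G₂.t) a' a' (𝟙 _)
      ((Category.comp_id _).trans e₁) ((Category.comp_id _).trans e₂) ≫
      (prodMap G₂ ι ≫ G₂.c) = (comp G₁ _ _ hcond ≫ a') ≫ ι := by
    have hR : (comp G₁ _ _ hcond ≫ a') ≫ ι =
        comp G₂
          (pullback.fst (f.fR ≫ G₂.s) (f.fR ≫ G₂.t) ≫ f.fR)
          (pullback.snd (f.fR ≫ G₂.s) (f.fR ≫ G₂.t) ≫ f.fR)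
          (by rw [Category.assoc, Category.assoc]; exact pullback.condition) := by
      refine (Category.assoc _ _ _).trans ?_
      rw [ha']
      exact Groth.Agent.S1891.hom_comp f _ _ hcond
    refine ((Category.assoc _ _ _).symm.trans ?_).trans hR.symm
    unfold comp
    congr 1
    apply pullback.hom_ext
    · simp only [pullback.lift_fst, pullback.lift_fst_assoc, Category.assoc, pullback.map, ha']
    · simp only [pullback.lift_snd, pullback.lift_snd_assoc, Category.assoc, pullback.map, ha']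
  obtain ⟨c', hc'⟩ := Groth.Agent.Lib.Helper11SchImage.exists_lift_of_dominant _ _ _ ι hcomm
  -- identity
  have he' : (inv f.fU ≫ G₁.e ≫ a') ≫ ι = G₂.e := by
    rw [Category.assoc, Category.assoc, ha', Groth.Agent.S1891.hom_e, IsIso.inv_hom_id_assoc]
  -- inverse
  have hicomm : a' ≫ (ι ≫ G₂.i) = (G₁.i ≫ a') ≫ ι := by
    rw [← Category.assoc, ha', Category.assoc, ha', Groth.Agent.S1891.hom_i]
  obtain ⟨i', hi'⟩ := Groth.Agent.Lib.Helper11SchImage.exists_lift_of_dominant a' _ _ ι hicomm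
  exact ⟨{ c' := c', hc := hc', e' := _, he := he', i' := i', hi := hi' }⟩

lemma image_comp (f : Grpd.GroupoidScheme.Hom G₁ G₂) (D : RestrData G₂ f.fR.imageι)
    {T : Scheme.{u}} (α β : T ⟶ G₁.R) (h : α ≫ G₁.s = β ≫ G₁.t)
    (h' : (α ≫ f.fR.toImage) ≫ (f.fR.imageι ≫ G₂.s) =
      (β ≫ f.fR.toImage) ≫ (f.fR.imageι ≫ G₂.t)) :
    (pullback.lift α β h ≫ G₁.c) ≫ f.fR.toImage =
      pullback.lift (α ≫ f.fR.toImage) (β ≫ f.fR.toImage) h' ≫ D.c' := by
  rw [← cancel_mono f.fR.imageι]
  refine Eq.trans ?_ (D.lift_c_ι _ _ _).symm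
  refine (Category.assoc _ _ _).trans ?_
  rw [f.fR.toImage_imageι]
  refine (Groth.Agent.S1891.hom_comp f α β h).trans ?_
  exact comp_congr G₂ _
    (by rw [Category.assoc, f.fR.toImage_imageι]) (by rw [Category.assoc, f.fR.toImage_imageι])

/-- The factorization of `f` through the restriction of `G₂` to the scheme-theoretic image. -/
noncomputable def imageHom (f : Grpd.GroupoidScheme.Hom G₁ G₂) (D : RestrData G₂ f.fR.imageι) :
    Grpd.GroupoidScheme.Hom G₁ (restrict D) where
  fU := f.fU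
  fR := f.fR.toImage
  fU_over := f.fU_over
  comm_s := by
    have h1 : f.fR.toImage ≫ f.fR.imageι ≫ G₂.s = G₁.s ≫ f.fU := by
      rw [← Category.assoc, f.fR.toImage_imageι, f.comm_s]
    exact h1
  comm_t := by
    have h1 : f.fR.toImage ≫ f.fR.imageι ≫ G₂.t = G₁.t ≫ f.fU := by
      rw [← Category.assoc, f.fR.toImage_imageι, f.comm_t]
    exact h1
  comm_c := fun α β h => image_comp f D α β h _

lemma pair_comp_j (G : Grpd.GroupoidScheme S) {T : Scheme.{u}} (α β : T ⟶ G.R)
    (h : α ≫ G.s = β ≫ G.t)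
    (h' : (α ≫ G.j) ≫ pullback.snd G.pU G.pU = (β ≫ G.j) ≫ pullback.fst G.pU G.pU)
    (hc : (pullback.fst (pullback.snd G.pU G.pU) (pullback.fst G.pU G.pU) ≫
        pullback.fst G.pU G.pU) ≫ G.pU =
      (pullback.snd (pullback.snd G.pU G.pU) (pullback.fst G.pU G.pU) ≫
        pullback.snd G.pU G.pU) ≫ G.pU) :
    (pullback.lift α β h ≫ G.c) ≫ G.j =
      pullback.lift (α ≫ G.j) (β ≫ G.j) h' ≫
        pullback.lift
          (pullback.fst (pullback.snd G.pU G.pU) (pullback.fst G.pU G.pU) ≫ pullback.fst G.pU G.pU)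
          (pullback.snd (pullback.snd G.pU G.pU) (pullback.fst G.pU G.pU) ≫ pullback.snd G.pU G.pU)
          hc := by
  have hjs : G.j ≫ pullback.snd G.pU G.pU = G.s := pullback.lift_snd _ _ _
  have hjt : G.j ≫ pullback.fst G.pU G.pU = G.t := pullback.lift_fst _ _ _
  apply pullback.hom_ext
  · rw [Category.assoc, hjt, G.comp_t, Category.assoc, pullback.lift_fst,
      pullback.lift_fst_assoc, Category.assoc, hjt]
  · rw [Category.assoc, hjs, G.comp_s, Category.assoc, pullback.lift_snd,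
      pullback.lift_snd_assoc, Category.assoc, hjs]

/-- The morphism `(id, j)` from a groupoid scheme to the pair groupoid of its objects. -/
noncomputable def pairHom (G : Grpd.GroupoidScheme S) :
    Grpd.GroupoidScheme.Hom G (Groth.Agent.R2.H33.GrpdRestrictRed.pair G.pU) where
  fU := 𝟙 G.U
  fR := G.j
  fU_over := Category.id_comp _
  comm_s := (pullback.lift_snd _ _ _).trans (Category.comp_id _).symm
  comm_t := (pullback.lift_fst _ _ _).trans (Category.comp_id _).symm
  comm_c := fun α β h => pair_comp_j G α β h _ _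

end Groth.Agent.R2.H33.GrpdImage
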