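import Mathlib
import Groth.Agent.Lib.Helper14IrrComp
import Groth.Agent.Lib.Helper3IndEt

/-!
# Counting minimal primes (helper93)

* `encard_irreducibleComponents_through`: the irreducible components of a scheme through a point
  are as many as the minimal primes of the local ring.
* `comap_mem_minimalPrimes_of_flat`: contraction of a minimal prime along a flat map is minimal.
* `encard_minimalPrimes_le_of_faithfullyFlat`.
* `exists_etale_separating`: finitely many minimal primes of an ind-étale algebra are separated on an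
  étale stage.
* `card_le_encard_minimalPrimes`.
-/

set_option autoImplicit false
set_option linter.style.haveILetI false
universe u

namespace Groth.Agent.R2.H93.MinPrimes

open AlgebraicGeometry CategoryTheory

/-- the irreducible components through a point correspond to the minimal primes of the local
ring. -/
theorem encard_irreducibleComponents_through (X : Scheme.{u}) (x : X) :
    {Z : Set X | Z ∈ irreducibleComponents X ∧ x ∈ Z}.encard =
      (minimalPrimes (X.presheaf.stalk x)).encard := by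
  have hb := Groth.Agent.Lib.Helper14.bijOn_irreducibleComponents_specStalk X x
  rw [← hb.image_eq, hb.injOn.encard_image]
  have hset : {z : Spec (X.presheaf.stalk x) | closure ({z} : Set (Spec (X.presheaf.stalk x))) ∈
      irreducibleComponents (Spec (X.presheaf.stalk x) : Type u)} =
      (PrimeSpectrum.asIdeal : PrimeSpectrum (X.presheaf.stalk x) → Ideal (X.presheaf.stalk x)) ⁻¹'
        (minimalPrimes (X.presheaf.stalk x)) := by
    ext z
    have h1 := PrimeSpectrum.vanishingIdeal_mem_minimalPrimes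
      (s := ({z} : Set (PrimeSpectrum (X.presheaf.stalk x))))
    have h2 : PrimeSpectrum.vanishingIdeal ({z} : Set (PrimeSpectrum (X.presheaf.stalk x))) =
        PrimeSpectrum.asIdeal z := PrimeSpectrum.vanishingIdeal_singleton z
    rw [h2] at h1
    exact h1.symm
  rw [hset]
  apply Set.encard_preimage_of_injective_subset_range
  · intro a b h
    exact PrimeSpectrum.ext h
  · intro P hP
    exact ⟨⟨P, hP.1.1⟩, rfl⟩

/-- contraction of a minimal prime along a flat ring map is a minimal prime. -/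
theorem comap_mem_minimalPrimes_of_flat {A B : Type*} [CommRing A] [CommRing B] (f : A →+* B)
    (hf : f.Flat) {Q : Ideal B} (hQ : Q ∈ minimalPrimes B) : Q.comap f ∈ minimalPrimes A := by
  algebraize [f]
  haveI := hQ.1.1
  haveI : (Q.comap (algebraMap A B)).IsPrime := Ideal.comap_isPrime _ _
  refine ⟨⟨Ideal.comap_isPrime _ _, bot_le⟩, ?_⟩
  rintro P ⟨hP, -⟩ hPle
  haveI := hP
  haveI : Q.LiesOver (Q.comap (algebraMap A B)) := ⟨rfl⟩
  obtain ⟨Q', hQ'le, hQ'prime, hQ'over⟩ :=
    Ideal.exists_ideal_le_liesOver_of_le (p := P) (q := Q.comap (algebraMap A B)) Q hPle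
  have hQ'eq : Q ≤ Q' := hQ.2 ⟨hQ'prime, bot_le⟩ hQ'le
  have : Q' = Q := le_antisymm hQ'le hQ'eq
  subst this
  rw [hQ'over.over]
  exact le_rfl

/-- a faithfully flat algebra has at least as many minimal primes. -/
theorem encard_minimalPrimes_le_of_faithfullyFlat (A B : Type*) [CommRing A] [CommRing B]
    [Algebra A B] [Module.FaithfullyFlat A B] :
    (minimalPrimes A).encard ≤ (minimalPrimes B).encard := by
  have hsub : minimalPrimes A ⊆ (fun Q : Ideal B => Q.comap (algebraMap A B)) '' minimalPrimes B := by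
    intro P hP
    haveI := hP.1.1
    obtain ⟨Q, hQ⟩ := PrimeSpectrum.comap_surjective_of_faithfullyFlat (A := A) (B := B) ⟨P, hP.1.1⟩
    obtain ⟨Q', hQ'min, hQ'le⟩ := Ideal.exists_minimalPrimes_le (I := ⊥) (J := Q.asIdeal) bot_le
    refine ⟨Q', hQ'min, ?_⟩
    have hQP : Q.asIdeal.comap (algebraMap A B) = P := congrArg PrimeSpectrum.asIdeal hQ
    haveI := hQ'min.1.1
    have hle : Q'.comap (algebraMap A B) ≤ P := hQP ▸ Ideal.comap_mono hQ'le
    exact le_antisymm hle (hP.2 ⟨Ideal.comap_isPrime _ _, bot_le⟩ hle)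
  exact (Set.encard_le_encard hsub).trans (Set.encard_image_le _ _)

open Groth.Agent.Lib.Helper3.IndEt in
/-- finitely many minimal primes of an algebra satisfying the étale factorisation property are
separated on an étale stage. -/
theorem exists_etale_separating {A₀ R : Type u} [CommRing A₀] [CommRing R] [Algebra A₀ R]
    (hF : Obj.Factor A₀ R) (t : Finset (Ideal R)) (ht : ∀ P ∈ t, P ∈ minimalPrimes R) :
    ∃ (E : Type u) (_ : CommRing E) (_ : Algebra A₀ E) (_ : Algebra.Etale A₀ E) (g : E →ₐ[A₀] R),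
      Set.InjOn (fun P : Ideal R => P.comap g.toRingHom) (t : Set (Ideal R)) := by
  classical
  have hsep : ∀ P ∈ t, ∀ Q ∈ t, P ≠ Q → ∃ x, x ∈ P ∧ x ∉ Q := by
    intro P hP Q hQ hne
    by_contra hcon
    have hPQ : P ≤ Q := fun x hx => by
      by_contra hxQ
      exact hcon ⟨x, hx, hxQ⟩
    have hQP : Q ≤ P := (ht Q hQ).2 ⟨(ht P hP).1.1, bot_le⟩ hPQ
    exact hne (le_antisymm hPQ hQP)
  let σ : Type u := {pq : Ideal R × Ideal R // pq ∈ t ×ˢ t}
  let xs : σ → R := fun i => if h : ∃ x, x ∈ i.1.1 ∧ x ∉ i.1.2 then h.choose else 0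
  let ψ : MvPolynomial σ A₀ →ₐ[A₀] R := MvPolynomial.aeval xs
  obtain ⟨E, _, _, _, f, g, hfg⟩ := hF (MvPolynomial σ A₀) ψ
  refine ⟨E, inferInstance, inferInstance, inferInstance, g, ?_⟩
  intro P hP Q hQ hPQ
  by_contra hne
  have hmem : (P, Q) ∈ t ×ˢ t := Finset.mem_product.mpr ⟨hP, hQ⟩
  obtain ⟨x, hx⟩ := hsep P hP Q hQ hne
  have hex : ∃ x, x ∈ ((⟨(P, Q), hmem⟩ : σ).1.1) ∧ x ∉ ((⟨(P, Q), hmem⟩ : σ).1.2) := ⟨x, hx⟩
  have hxs : xs ⟨(P, Q), hmem⟩ ∈ P ∧ xs ⟨(P, Q), hmem⟩ ∉ Q := by
    simp only [xs, dif_pos hex]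
    exact hex.choose_spec
  have hge : g (f (MvPolynomial.X ⟨(P, Q), hmem⟩)) = xs ⟨(P, Q), hmem⟩ := by
    have := congr($hfg (MvPolynomial.X ⟨(P, Q), hmem⟩))
    rw [AlgHom.comp_apply] at this
    rw [this]
    simp [ψ]
  have h1 : f (MvPolynomial.X ⟨(P, Q), hmem⟩) ∈ P.comap g.toRingHom := by
    show g (f (MvPolynomial.X ⟨(P, Q), hmem⟩)) ∈ P
    rw [hge]; exact hxs.1
  have h2 : f (MvPolynomial.X ⟨(P, Q), hmem⟩) ∈ Q.comap g.toRingHom := by
    have hPQ' : P.comap g.toRingHom = Q.comap g.toRingHom := hPQ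
    rw [← hPQ']; exact h1
  have h3 : g (f (MvPolynomial.X ⟨(P, Q), hmem⟩)) ∈ Q := h2
  rw [hge] at h3
  exact hxs.2 h3

/-- a flat ring map under which finitely many minimal primes have distinct contractions exhibits
that many minimal primes of the source. -/
theorem card_le_encard_minimalPrimes {B R : Type*} [CommRing B] [CommRing R] (f' : B →+* R)
    (hflat : f'.Flat) (t : Finset (Ideal R)) (ht : ∀ P ∈ t, P ∈ minimalPrimes R)
    (hinj : Set.InjOn (fun P : Ideal R => P.comap f') (t : Set (Ideal R))) :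
    (t.card : ℕ∞) ≤ (minimalPrimes B).encard := by
  have hsub : (fun P : Ideal R => P.comap f') '' (t : Set (Ideal R)) ⊆ minimalPrimes B := by
    rintro _ ⟨P, hP, rfl⟩
    exact comap_mem_minimalPrimes_of_flat f' hflat (ht P hP)
  have h1 := Set.encard_le_encard hsub
  rw [hinj.encard_image, Set.encard_coe_eq_coe_finsetCard] at h1
  exact h1

end Groth.Agent.R2.H93.MinPrimes
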