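import Mathlib
import Groth.Prelude.Def_Grpd
import Groth.Agent.Lib.Helper2Grpd
import Groth.Agent.Lib.Helper6SepCl2
import Groth.Agent.R2.H33GrpdShear
import Groth.Agent.R2.H33FieldAut
import Groth.Agent.R2.H84GrpdRestrGen
import Groth.Agent.R2.H93MinPrimes
import Groth.Agent.S1888
import Groth.Agent.S7493

/-!
# helper33: groupoid schemes on a field — local irreducibility

For a groupoid scheme `(U, R, s, t, c)` with `U ≅ Spec k`:
* `component_unique_of_isSepClosed`: if `k` is separably closed, exactly one irreducible component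
  of `R` passes through the identity point;
* `minimalPrimes_stalk_subsingleton`: every local ring of `R` has exactly one minimal prime;
* `existsUnique_component`: exactly one irreducible component passes through `e`.
-/

set_option autoImplicit false
set_option linter.style.haveILetI false
universe u

open CategoryTheory CategoryTheory.Limits AlgebraicGeometry
open Groth.Agent.Lib.Helper2.Grpd

namespace Groth.Agent.R2.H33.GrpdIrr

/-- an irreducible closed subset carries a closed subscheme structure with irreducible underlying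
space. -/
lemma exists_closedImmersion_of_isIrreducible {R : Scheme.{u}} {X : Set R} (hX : IsIrreducible X)
    (hc : IsClosed X) :
    ∃ (Z : Scheme.{u}) (ι : Z ⟶ R), IsClosedImmersion ι ∧ Set.range ι = X ∧ IrreducibleSpace Z := by
  let I := Scheme.IdealSheafData.vanishingIdeal ⟨X, hc⟩
  have hr : Set.range I.subschemeι = X := by
    rw [Scheme.IdealSheafData.range_subschemeι]
    simp [I]
  refine ⟨I.subscheme, I.subschemeι, inferInstance, hr, ?_⟩
  have hemb : Topology.IsEmbedding I.subschemeι := I.subschemeι.isEmbedding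
  have hirr : IrreducibleSpace ↥(Set.range I.subschemeι) := by
    rw [hr]
    exact Subtype.irreducibleSpace hX
  exact hemb.toHomeomorph.irreducibleSpace_iff.mpr hirr

variable {S : Scheme.{u}} (G : Grpd.GroupoidScheme S)

/-- over a separably closed field, exactly one irreducible component of `R` passes through the
identity point. -/
theorem component_unique_of_isSepClosed (k : Type u) [Field k] [IsSepClosed k]
    (eU : G.U ≅ Spec (CommRingCat.of k)) (e0 : G.R) (he0 : ∀ u : G.U, G.e u = e0)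
    {X Y : Set G.R} (hX : X ∈ irreducibleComponents G.R) (hY : Y ∈ irreducibleComponents G.R)
    (heX : e0 ∈ X) (heY : e0 ∈ Y) : X = Y := by
  obtain ⟨ZX, ιX, hιX, hrX, hirrX⟩ := exists_closedImmersion_of_isIrreducible hX.1
    (isClosed_of_mem_irreducibleComponents X hX)
  obtain ⟨ZY, ιY, hιY, hrY, hirrY⟩ := exists_closedImmersion_of_isIrreducible hY.1
    (isClosed_of_mem_irreducibleComponents Y hY)
  letI : ZX.Over (Spec (CommRingCat.of k)) := ⟨ιX ≫ G.s ≫ eU.hom⟩
  haveI hgi : GeometricallyIrreducible (ιX ≫ G.s ≫ eU.hom) :=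
    Groth.Agent.Lib.Helper6.SepCl.geometricallyIrreducible_of_isSepClosed k ZX
  haveI huo : UniversallyOpen (ιX ≫ G.s ≫ eU.hom) := inferInstance
  haveI hW : IrreducibleSpace ↥(pullback (ιX ≫ G.s ≫ eU.hom) (ιY ≫ G.t ≫ eU.hom)) := inferInstance
  let m : pullback (ιX ≫ G.s ≫ eU.hom) (ιY ≫ G.t ≫ eU.hom) ⟶ pullback G.s G.t :=
    pullback.map (ιX ≫ G.s ≫ eU.hom) (ιY ≫ G.t ≫ eU.hom) G.s G.t ιX ιY eU.inv
      (by simp) (by simp)
  have hm : Set.range m = pullback.fst G.s G.t ⁻¹' Set.range ιX ∩
      pullback.snd G.s G.t ⁻¹' Set.range ιY :=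
    Scheme.Pullback.range_map _ _ _ _ _ _ _ _ _
  have hI : IsIrreducible (Set.range (m ≫ G.c)) := by
    have := (IrreducibleSpace.isIrreducible_univ
      ↥(pullback (ιX ≫ G.s ≫ eU.hom) (ιY ≫ G.t ≫ eU.hom))).image (m ≫ G.c)
        (m ≫ G.c).continuous.continuousOn
    rwa [Set.image_univ] at this
  have hXI : X ⊆ Set.range (m ≫ G.c) := by
    intro x hx
    have hz : Groth.Agent.R2.H33.GrpdShear.idE G x ∈ Set.range m := by
      rw [hm]
      refine ⟨?_, ?_⟩
      · rw [Set.mem_preimage, ← Scheme.Hom.comp_apply, Groth.Agent.R2.H33.GrpdShear.idE_fst, hrX]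
        exact hx
      · rw [Set.mem_preimage, ← Scheme.Hom.comp_apply, Groth.Agent.R2.H33.GrpdShear.idE_snd, hrY,
          Scheme.Hom.comp_apply, he0]
        exact heY
    obtain ⟨w, hw⟩ := hz
    refine ⟨w, ?_⟩
    rw [Scheme.Hom.comp_apply, hw, ← Scheme.Hom.comp_apply, Groth.Agent.R2.H33.GrpdShear.idE_c]
    rfl
  have hYI : Y ⊆ Set.range (m ≫ G.c) := by
    intro y hy
    have hz : Groth.Agent.R2.H33.GrpdShear.eId G y ∈ Set.range m := by
      rw [hm]
      refine ⟨?_, ?_⟩
      · rw [Set.mem_preimage, ← Scheme.Hom.comp_apply, Groth.Agent.R2.H33.GrpdShear.eId_fst, hrX,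
          Scheme.Hom.comp_apply, he0]
        exact heX
      · rw [Set.mem_preimage, ← Scheme.Hom.comp_apply, Groth.Agent.R2.H33.GrpdShear.eId_snd, hrY]
        exact hy
    obtain ⟨w, hw⟩ := hz
    refine ⟨w, ?_⟩
    rw [Scheme.Hom.comp_apply, hw, ← Scheme.Hom.comp_apply, Groth.Agent.R2.H33.GrpdShear.eId_c]
    rfl
  have h1 : Set.range (m ≫ G.c) ⊆ X := hX.2 hI hXI
  have h2 : Set.range (m ≫ G.c) ⊆ Y := hY.2 hI hYI
  exact le_antisymm (hXI.trans h2) (hYI.trans h1)

/-- over a separably closed field, the local ring of `R` at the identity point has at most one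
minimal prime. -/
theorem encard_minimalPrimes_stalk_e_le_one (k : Type u) [Field k] [IsSepClosed k]
    (eU : G.U ≅ Spec (CommRingCat.of k)) (e0 : G.R) (he0 : ∀ u : G.U, G.e u = e0) :
    (minimalPrimes (G.R.presheaf.stalk e0)).encard ≤ 1 := by
  rw [← Groth.Agent.R2.H93.MinPrimes.encard_irreducibleComponents_through G.R e0,
    Set.encard_le_one_iff]
  rintro X Y ⟨hX, heX⟩ ⟨hY, heY⟩
  exact component_unique_of_isSepClosed G k eU e0 he0 hX hY heX heY

/-- flat morphisms do not decrease the number of minimal primes of local rings. -/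
lemma encard_minimalPrimes_stalk_le_of_flat {X Y : Scheme.{u}} (f : X ⟶ Y) [Flat f] (x : X) :
    (minimalPrimes (Y.presheaf.stalk (f x))).encard ≤
      (minimalPrimes (X.presheaf.stalk x)).encard := by
  letI : Algebra (Y.presheaf.stalk (f x)) (X.presheaf.stalk x) := (f.stalkMap x).hom.toAlgebra
  haveI : Module.Flat (Y.presheaf.stalk (f x)) (X.presheaf.stalk x) := Flat.stalkMap f x
  haveI : IsLocalHom (algebraMap (Y.presheaf.stalk (f x)) (X.presheaf.stalk x)) :=
    inferInstanceAs (IsLocalHom (f.stalkMap x).hom)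
  haveI : Module.FaithfullyFlat (Y.presheaf.stalk (f x)) (X.presheaf.stalk x) :=
    Module.FaithfullyFlat.of_flat_of_isLocalHom
  exact Groth.Agent.R2.H93.MinPrimes.encard_minimalPrimes_le_of_faithfullyFlat _ _

/-- an isomorphism of schemes preserves the number of minimal primes of local rings. -/
lemma encard_minimalPrimes_stalk_eq_of_iso {X Y : Scheme.{u}} (φ : X ≅ Y) (x : X) :
    (minimalPrimes (Y.presheaf.stalk (φ.hom x))).encard =
      (minimalPrimes (X.presheaf.stalk x)).encard := by
  refine le_antisymm (encard_minimalPrimes_stalk_le_of_flat φ.hom x) ?_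
  have h := encard_minimalPrimes_stalk_le_of_flat φ.inv (φ.hom x)
  have hx : φ.inv (φ.hom x) = x := by
    rw [← Scheme.Hom.comp_apply, φ.hom_inv_id]
    rfl
  rwa [hx] at h

/-- morphisms from the spectrum of a field to the spectrum of a field are flat. -/
lemma flat_specMap_field {k k' : Type u} [Field k] [Field k'] (φ : k →+* k') :
    Flat (Spec.map (CommRingCat.ofHom φ)) := by
  rw [HasRingHomProperty.Spec_iff (P := @Flat)]
  algebraize [φ]
  change Module.Flat k k'
  infer_instance

/-- the restriction of a groupoid along a flat morphism has `R' ⟶ R` flat. -/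
lemma flat_fR {U' : Scheme.{u}} (h : U' ⟶ G.U) [Flat h] :
    Flat (Groth.Agent.R2.H84.GrpdRestrGen.fR G h) := by
  haveI : Flat (Groth.Agent.R2.H84.GrpdRestrGen.hh G h) := by
    unfold Groth.Agent.R2.H84.GrpdRestrGen.hh
    exact MorphismProperty.pullbackMap (P := @Flat) ‹Flat h› ‹Flat h› rfl rfl
  unfold Groth.Agent.R2.H84.GrpdRestrGen.fR
  infer_instance

/-- every local ring of the arrow scheme of a groupoid on a field has at most one minimal prime
(encard form). -/
theorem encard_minimalPrimes_stalk_le_one (k : Type u) [Field k]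
    (eU : G.U ≅ Spec (CommRingCat.of k)) (r : G.R) :
    (minimalPrimes (G.R.presheaf.stalk r)).encard ≤ 1 := by
  classical
  let κ := G.R.residueField r
  let ρ₀ : Spec κ ⟶ G.R := G.R.fromSpecResidueField r
  let τc : CommRingCat.of k ⟶ κ := Spec.preimage (ρ₀ ≫ G.t ≫ eU.hom)
  let σc : CommRingCat.of k ⟶ κ := Spec.preimage (ρ₀ ≫ G.s ≫ eU.hom)
  have hτc : Spec.map τc = ρ₀ ≫ G.t ≫ eU.hom := Spec.map_preimage _
  have hσc : Spec.map σc = ρ₀ ≫ G.s ≫ eU.hom := Spec.map_preimage _
  obtain ⟨k', hk'F, hk'A, ι, φ, hφ⟩ :=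
    Groth.Agent.R2.H33.FieldAut.exists_algClosed_extension_aut (k := k) (κ := κ) τc.hom σc.hom
  have hφ' : CommRingCat.ofHom (ι.comp τc.hom) ≫ CommRingCat.ofHom (φ : k' →+* k') =
      σc ≫ CommRingCat.ofHom ι := by
    ext a
    exact hφ a
  have hτι : CommRingCat.ofHom (ι.comp τc.hom) = τc ≫ CommRingCat.ofHom ι := rfl
  let h : Spec (CommRingCat.of k') ⟶ G.U :=
    Spec.map (CommRingCat.ofHom (ι.comp τc.hom)) ≫ eU.inv
  haveI : Flat h := by
    haveI := flat_specMap_field (ι.comp τc.hom)
    infer_instance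
  let ρ : Spec (CommRingCat.of k') ⟶ G.R := Spec.map (CommRingCat.ofHom ι) ≫ ρ₀
  let u₂ : Spec (CommRingCat.of k') ⟶ Spec (CommRingCat.of k') :=
    Spec.map (CommRingCat.ofHom (φ : k' →+* k'))
  have ht : ρ ≫ G.t = 𝟙 (Spec (CommRingCat.of k')) ≫ h := by
    rw [Category.id_comp]
    change _ = Spec.map (CommRingCat.ofHom (ι.comp τc.hom)) ≫ eU.inv
    rw [hτι, Spec.map_comp, hτc]
    simp only [Category.assoc, Iso.hom_inv_id, Category.comp_id]
    rfl
  have hs : ρ ≫ G.s = u₂ ≫ h := by
    change _ = Spec.map (CommRingCat.ofHom (φ : k' →+* k')) ≫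
      Spec.map (CommRingCat.ofHom (ι.comp τc.hom)) ≫ eU.inv
    rw [← Category.assoc, ← Spec.map_comp, hφ', Spec.map_comp, hσc]
    simp only [Category.assoc, Iso.hom_inv_id, Category.comp_id]
    rfl
  let G' : Grpd.GroupoidScheme S := Groth.Agent.R2.H84.GrpdRestrGen.restr G h
  let x : Spec (CommRingCat.of k') ⟶ Groth.Agent.R2.H84.GrpdRestrGen.R' G h :=
    Groth.Agent.R2.H84.GrpdRestrGen.lift ρ u₂ (𝟙 _) hs ht
  have hx1 : x ≫ Groth.Agent.R2.H84.GrpdRestrGen.fR G h = ρ :=
    Groth.Agent.R2.H84.GrpdRestrGen.lift_fR _ _ _ _ _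
  have hx2 : x ≫ Groth.Agent.R2.H84.GrpdRestrGen.s' G h = u₂ :=
    Groth.Agent.R2.H84.GrpdRestrGen.lift_s _ _ _ _ _
  have hx3 : x ≫ Groth.Agent.R2.H84.GrpdRestrGen.t' G h = 𝟙 (Spec (CommRingCat.of k')) :=
    Groth.Agent.R2.H84.GrpdRestrGen.lift_t _ _ _ _ _
  have hu₂ : IsIso u₂ := by
    have : IsIso (CommRingCat.ofHom (φ : k' →+* k')) :=
      (ConcreteCategory.isIso_iff_bijective _).mpr φ.bijective
    infer_instance
  let pt : ↥(Spec (CommRingCat.of k')) := IsLocalRing.closedPoint k'
  let r' : ↥(Groth.Agent.R2.H84.GrpdRestrGen.R' G h) := x pt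
  have hr' : Groth.Agent.R2.H84.GrpdRestrGen.fR G h r' = r := by
    change (Groth.Agent.R2.H84.GrpdRestrGen.fR G h) (x pt) = r
    rw [← Scheme.Hom.comp_apply, hx1]
    simp only [ρ, Scheme.Hom.comp_apply]
    exact Scheme.fromSpecResidueField_apply _ _
  have hsr : IsIso (G'.s.residueFieldMap r') := by
    haveI : IsIso (x ≫ Groth.Agent.R2.H84.GrpdRestrGen.s' G h) := by rw [hx2]; exact hu₂
    exact Groth.Agent.S7493.isIso_residueFieldMap_of_isIso_comp x
      (Groth.Agent.R2.H84.GrpdRestrGen.s' G h)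
  have htr : IsIso (G'.t.residueFieldMap r') := by
    haveI : IsIso (x ≫ Groth.Agent.R2.H84.GrpdRestrGen.t' G h) := by rw [hx3]; infer_instance
    exact Groth.Agent.S7493.isIso_residueFieldMap_of_isIso_comp x
      (Groth.Agent.R2.H84.GrpdRestrGen.t' G h)
  let eU' : G'.U ≅ Spec (CommRingCat.of k') := Iso.refl _
  obtain ⟨φR, hφR⟩ := Groth.Agent.S1888.result S G' k' eU' r' hsr htr
  -- the identity point of `G'`
  have hsub : Subsingleton G'.U := by
    change Subsingleton ↥(Spec (CommRingCat.of k'))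
    infer_instance
  have he0 : ∀ u : G'.U, G'.e u = G'.e (eU'.inv (IsLocalRing.closedPoint k')) := fun u => by
    rw [Subsingleton.elim u (eU'.inv (IsLocalRing.closedPoint k'))]
  have hA := encard_minimalPrimes_stalk_e_le_one G' k' eU'
    (G'.e (eU'.inv (IsLocalRing.closedPoint k'))) he0
  have hB := encard_minimalPrimes_stalk_eq_of_iso φR (G'.e (eU'.inv (IsLocalRing.closedPoint k')))
  rw [hφR] at hB
  haveI : Flat (Groth.Agent.R2.H84.GrpdRestrGen.fR G h) := flat_fR G h
  have hC := encard_minimalPrimes_stalk_le_of_flat (Groth.Agent.R2.H84.GrpdRestrGen.fR G h) r'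
  rw [hr'] at hC
  exact hC.trans (hB.le.trans hA)

/-- every local ring of the arrow scheme of a groupoid on a field has exactly one minimal prime. -/
theorem minimalPrimes_stalk_subsingleton (k : Type u) [Field k]
    (eU : G.U ≅ Spec (CommRingCat.of k)) (r : G.R) :
    (minimalPrimes (G.R.presheaf.stalk r)).Subsingleton :=
  Set.encard_le_one_iff_subsingleton.mp (encard_minimalPrimes_stalk_le_one G k eU r)

/-- exactly one irreducible component of `R` passes through the identity point. -/
theorem existsUnique_component (k : Type u) [Field k]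
    (eU : G.U ≅ Spec (CommRingCat.of k)) (e0 : G.R) :
    ∃! Z : Set G.R, Z ∈ irreducibleComponents (G.R : Type u) ∧ e0 ∈ Z := by
  refine ⟨irreducibleComponent e0, ⟨irreducibleComponent_mem_irreducibleComponents e0,
    mem_irreducibleComponent⟩, ?_⟩
  rintro Z ⟨hZ, heZ⟩
  have h := encard_minimalPrimes_stalk_le_one G k eU e0
  rw [← Groth.Agent.R2.H93.MinPrimes.encard_irreducibleComponents_through G.R e0,
    Set.encard_le_one_iff] at h
  exact h _ _ ⟨hZ, heZ⟩ ⟨irreducibleComponent_mem_irreducibleComponents e0,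
    mem_irreducibleComponent⟩

end Groth.Agent.R2.H33.GrpdIrr
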