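import Mathlib
import Groth.Prelude.Def_Grpd
import Groth.Agent.Lib.Helper2Grpd
import Groth.Agent.R2.H33GrpdInvOpen

/-!
# Basic facts on groupoid schemes (helper53)

* `i_i`, `isIso_i`: the inverse of a groupoid scheme is an involution;
* `t_prop_of_s`: `t` has every iso-respecting property of `s`;
* `orbit_mem_of_invariant`: invariant opens contain orbits;
* `exists_invariant_affine_open_le`: invariant affine neighbourhoods inside a given open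
  (strengthening of helper33's `exists_invariant_affine_open`).
-/

set_option autoImplicit false
set_option linter.unusedSectionVars false
universe u

open CategoryTheory CategoryTheory.Limits AlgebraicGeometry
open Groth.Agent.Lib.Helper2.Grpd
open Groth.Agent.R2.H33.GrpdInvOpen

namespace Groth.Agent.R2.H53.GrpdBasic

variable {S : Scheme.{u}} (G : Grpd.GroupoidScheme S)

/-- the inverse is an involution. -/
theorem i_i : G.i ≫ G.i = 𝟙 G.R := by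
  have h0 : (𝟙 G.R ≫ G.i) ≫ G.s = 𝟙 G.R ≫ G.t := by rw [Category.assoc, G.i_s]
  have h1 := i_comp G (𝟙 G.R) h0
  have hcs : comp G (𝟙 G.R ≫ G.i) (𝟙 G.R) h0 ≫ G.t = (𝟙 G.R ≫ G.i) ≫ G.t := comp_t G _ _ h0
  have h0' : ((𝟙 G.R ≫ G.i) ≫ G.i) ≫ G.s = comp G (𝟙 G.R ≫ G.i) (𝟙 G.R) h0 ≫ G.t := by
    rw [hcs, Category.assoc, G.i_s]
  have h2 := i_comp_comp G (𝟙 G.R ≫ G.i) (𝟙 G.R) h0 h0'
  -- `(i ≫ i) ∘ (s ≫ e) = 𝟙`
  have h3 : ((𝟙 G.R ≫ G.i) ≫ G.i) ≫ G.s = (𝟙 G.R ≫ G.s ≫ G.e) ≫ G.t := by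
    rw [h0', h1]
  have h4 : comp G ((𝟙 G.R ≫ G.i) ≫ G.i) (𝟙 G.R ≫ G.s ≫ G.e) h3 = 𝟙 G.R :=
    (comp_congr G h3 rfl h1.symm).trans h2
  have h5 : comp G ((𝟙 G.R ≫ G.i) ≫ G.i) (𝟙 G.R ≫ G.s ≫ G.e) h3 = (𝟙 G.R ≫ G.i) ≫ G.i := by
    refine comp_e G _ _ ?_ h3
    simp only [Category.id_comp, Category.assoc]
    rw [← Category.assoc G.i G.s, G.i_s, ← Category.assoc G.i G.t, G.i_t]
  rw [← h4, h5, Category.id_comp]

instance isIso_i : IsIso G.i := ⟨G.i, i_i G, i_i G⟩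

theorem t_prop_of_s (P : MorphismProperty Scheme.{u}) [P.RespectsIso] (h : P G.s) : P G.t := by
  rw [← G.i_s]
  exact (P.cancel_left_of_respectsIso G.i G.s).mpr h

theorem s_prop_of_t (P : MorphismProperty Scheme.{u}) [P.RespectsIso] (h : P G.t) : P G.s := by
  rw [← G.i_t]
  exact (P.cancel_left_of_respectsIso G.i G.t).mpr h

/-- invariant opens contain the orbits of their points. -/
theorem t_mem_of_invariant (W : G.U.Opens) (hW : G.s ⁻¹ᵁ W = G.t ⁻¹ᵁ W) (r : G.R)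
    (h : G.s r ∈ W) : G.t r ∈ W := by
  have : r ∈ G.s ⁻¹ᵁ W := h
  rw [hW] at this
  exact this

theorem s_mem_of_invariant (W : G.U.Opens) (hW : G.s ⁻¹ᵁ W = G.t ⁻¹ᵁ W) (r : G.R)
    (h : G.t r ∈ W) : G.s r ∈ W := by
  have : r ∈ G.t ⁻¹ᵁ W := h
  rw [← hW] at this
  exact this

/-- invariant affine neighbourhoods inside a given open containing the orbit. -/
theorem exists_invariant_affine_open_le [IsFinite G.s] [Flat G.s] [LocallyOfFinitePresentation G.s]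
    (u : G.U) (V : G.U.Opens) (hV : IsAffineOpen V) (V₀ : G.U.Opens)
    (huV : ∀ r : G.R, G.s r = u → G.t r ∈ V ⊓ V₀) :
    ∃ W : G.U.Opens, IsAffineOpen W ∧ u ∈ W ∧ G.s ⁻¹ᵁ W = G.t ⁻¹ᵁ W ∧ W ≤ V ⊓ V₀ := by
  -- the largest invariant open inside `V ⊓ V₀`
  let W' : G.U.Opens := ⟨sat G ((V ⊓ V₀ : G.U.Opens) : Set G.U), sat_isOpen G _ (V ⊓ V₀).isOpen⟩
  have hW'V : W' ≤ V ⊓ V₀ := sat_subset G _
  -- the orbit of `u`
  let O : Set G.U := G.t '' (G.s ⁻¹' {u})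
  have hO : O.Finite := (G.s.finite_preimage_singleton u).image _
  have hOW' : O ⊆ W' := by
    rintro _ ⟨r, hr, rfl⟩
    exact orbit_subset_sat G _ u huV r hr
  obtain ⟨f, hOf, hfW'⟩ := exists_basicOpen_of_finite hV W' O hO hOW'
    ((hOW'.trans hW'V).trans inf_le_left)
  let V₁ : G.U.Opens := G.U.basicOpen f
  have hV₁ : IsAffineOpen V₁ := hV.basicOpen f
  have hle : G.s ⁻¹ᵁ V₁ ≤ G.t ⁻¹ᵁ V := by
    intro r hr
    have h1 : G.s r ∈ W' := hfW' hr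
    exact (h1 r rfl).1
  let h : Γ(G.R, G.s ⁻¹ᵁ V₁) := G.t.appLE V (G.s ⁻¹ᵁ V₁) hle f
  have hbh : G.R.basicOpen h = G.s ⁻¹ᵁ V₁ ⊓ G.t ⁻¹ᵁ V₁ := Scheme.basicOpen_appLE _ _ _ _ _
  obtain ⟨N, hN⟩ := exists_norm_open G.s hV₁ h
  have hWV₁ : G.U.basicOpen N ≤ V₁ := G.U.basicOpen_le N
  have hWsat : (G.U.basicOpen N : Set G.U) = sat G (V₁ : Set G.U) := by
    ext x
    constructor
    · intro hx r hr
      have h1 := (hN x (hWV₁ hx)).mp hx r hr
      rw [hbh] at h1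
      exact h1.2
    · intro hx
      have hxV₁ : x ∈ V₁ := sat_subset G _ hx
      rw [SetLike.mem_coe, hN x hxV₁]
      intro r hr
      rw [hbh]
      refine ⟨?_, hx r hr⟩
      change G.s r ∈ V₁
      rw [hr]
      exact hxV₁
  refine ⟨G.U.basicOpen N, hV₁.basicOpen N, ?_, ?_, ?_⟩
  · change u ∈ (G.U.basicOpen N : Set G.U)
    rw [hWsat]
    intro r hr
    exact hOf ⟨r, hr, rfl⟩
  · apply TopologicalSpace.Opens.ext
    change G.s ⁻¹' (G.U.basicOpen N : Set G.U) = G.t ⁻¹' (G.U.basicOpen N : Set G.U)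
    rw [hWsat]
    exact sat_invariant G _
  · exact (hWV₁.trans hfW').trans hW'V

end Groth.Agent.R2.H53.GrpdBasic
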