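import Mathlib
import Groth.Prelude.Def_Grpd
import Groth.Agent.R2.H33GrpdIrr
import Groth.Agent.R2.H53GrpdBasic

/-!
# helper33: groupoid schemes on a field — geometric irreducibility of the identity component

For a groupoid scheme `(U, R, s, t, c)` with `U ≅ Spec k`, the irreducible component of `R` through
the identity point is geometrically irreducible over `k` via `s` and via `t`.
-/

set_option autoImplicit false
set_option linter.style.haveILetI false
universe u

open CategoryTheory CategoryTheory.Limits AlgebraicGeometry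
open Groth.Agent.Lib.Helper2.Grpd

namespace Groth.Agent.R2.H33.GrpdIrrGeom

section Top

variable {X Y : Type*} [TopologicalSpace X] [TopologicalSpace Y]

/-- a point all of whose generizations are specializations. -/
def IsMaxPt (x : X) : Prop := ∀ y : X, y ⤳ x → x ⤳ y

lemma isMaxPt_of_isGenericPoint {W : Set X} (hW : W ∈ irreducibleComponents X) {η : X}
    (hη : IsGenericPoint η W) : IsMaxPt η := by
  intro y hy
  have h1 : W ⊆ closure {y} := by
    rw [← hη.def]
    exact specializes_iff_closure_subset.mp hy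
  have h2 : closure {y} ⊆ W := hW.2 isIrreducible_singleton.closure h1
  rw [specializes_iff_mem_closure, hη.def]
  exact h2 (subset_closure rfl)

lemma closure_mem_irreducibleComponents_of_isMaxPt [QuasiSober X] {x : X} (hx : IsMaxPt x) :
    closure {x} ∈ irreducibleComponents X := by
  refine ⟨isIrreducible_singleton.closure, fun T hT hxT => ?_⟩
  obtain ⟨y, hy⟩ := QuasiSober.sober hT.closure isClosed_closure
  have hyx : y ⤳ x := by
    rw [specializes_iff_mem_closure, hy.def]
    exact subset_closure (hxT (subset_closure rfl))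
  have hxy := hx y hyx
  calc T ⊆ closure T := subset_closure
    _ = closure {y} := hy.def.symm
    _ ⊆ closure {x} := specializes_iff_closure_subset.mp hxy

lemma IsMaxPt.map {f : X → Y} (hf : GeneralizingMap f) (hc : Continuous f) {x : X}
    (hx : IsMaxPt x) : IsMaxPt (f x) := by
  intro y hy
  obtain ⟨x', hx', rfl⟩ := hf hy
  exact (hx x' hx').map hc

/-- every point has a maximal generization. -/
lemma exists_isMaxPt_specializes [QuasiSober X] (y : X) : ∃ η : X, IsMaxPt η ∧ η ⤳ y := by
  obtain ⟨η, hη⟩ := QuasiSober.sober (isIrreducible_irreducibleComponent (x := y))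
    isClosed_irreducibleComponent
  refine ⟨η, isMaxPt_of_isGenericPoint (irreducibleComponent_mem_irreducibleComponents y) hη, ?_⟩
  rw [specializes_iff_mem_closure, hη.def]
  exact mem_irreducibleComponent

/-- the key topological lemma: preimage of an irreducible component under a generalizing and
specializing map, when the fibre over some point is a single point through which only one irreducible
component passes. -/
theorem isIrreducible_preimage_of_unique_component [QuasiSober X] {π : X → Y}
    (hc : Continuous π) (hgen : GeneralizingMap π) (hspec : SpecializingMap π)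
    {ξ : Y} (hξ : IsMaxPt ξ) {e0 : Y} (he0 : ξ ⤳ e0) {e2 : X} (he2 : π e2 = e0)
    (hfib : ∀ w : X, π w = e0 → w = e2)
    (huniq : ∀ A B : Set X, A ∈ irreducibleComponents X → B ∈ irreducibleComponents X →
      e2 ∈ A → e2 ∈ B → A = B) :
    IsIrreducible (π ⁻¹' closure {ξ}) := by
  have hTc : IsClosed (π ⁻¹' closure {ξ}) := isClosed_closure.preimage hc
  -- step 1
  have step : ∀ y ∈ π ⁻¹' closure {ξ}, ∃ η : X, IsMaxPt η ∧ η ⤳ y ∧ η ∈ π ⁻¹' closure {ξ} ∧
      e2 ∈ closure {η} := by
    intro y hy
    have hξy : ξ ⤳ π y := specializes_iff_mem_closure.mpr hy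
    obtain ⟨y', hy'y, hy'ξ⟩ := hgen hξy
    obtain ⟨η, hηmax, hηy'⟩ := exists_isMaxPt_specializes y'
    have h1 : π η ⤳ ξ := by
      rw [← hy'ξ]
      exact hηy'.map hc
    have h2 : ξ ⤳ π η := hξ _ h1
    have h3 : π η ⤳ e0 := h1.trans he0
    obtain ⟨w, hw, hwe⟩ := hspec h3
    have hw2 : w = e2 := hfib w hwe
    refine ⟨η, hηmax, hηy'.trans hy'y, specializes_iff_mem_closure.mp h2, ?_⟩
    rw [← hw2]
    exact specializes_iff_mem_closure.mp hw
  have he2T : e2 ∈ π ⁻¹' closure {ξ} := by
    rw [Set.mem_preimage, he2]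
    exact specializes_iff_mem_closure.mp he0
  obtain ⟨η0, hη0max, -, hη0T, hη0e⟩ := step e2 he2T
  have hA0 := closure_mem_irreducibleComponents_of_isMaxPt hη0max
  have hsub : π ⁻¹' closure {ξ} ⊆ closure {η0} := by
    intro y hy
    obtain ⟨η, hηmax, hηy, -, hηe⟩ := step y hy
    have hA := closure_mem_irreducibleComponents_of_isMaxPt hηmax
    rw [← huniq _ _ hA hA0 hηe hη0e]
    exact specializes_iff_mem_closure.mp hηy
  have hsup : closure {η0} ⊆ π ⁻¹' closure {ξ} := by
    rw [hTc.closure_subset_iff]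
    exact Set.singleton_subset_iff.mpr hη0T
  rw [le_antisymm hsub hsup]
  exact hA0.1

end Top

/-- criterion: irreducible after base change to the algebraic closure implies geometrically
irreducible. -/
theorem geometricallyIrreducible_of_algClosure (k : Type u) [Field k] (X : Scheme.{u})
    [X.Over (Spec (CommRingCat.of k))]
    [IrreducibleSpace (Curv2.bc k X (AlgebraicClosure k))] :
    GeometricallyIrreducible (X ↘ (Spec (CommRingCat.of k))) := by
  rw [geometricallyIrreducible_iff, geometrically_iff_of_commRing_of_isClosedUnderIsomorphisms]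
  intro K _ _
  let Ω := AlgebraicClosure K
  let φ : AlgebraicClosure k →ₐ[k] Ω := IsAlgClosed.lift
  letI : Algebra (AlgebraicClosure k) Ω := φ.toRingHom.toAlgebra
  haveI : IsScalarTower k (AlgebraicClosure k) Ω :=
    IsScalarTower.of_algebraMap_eq fun x => (φ.commutes x).symm
  exact Groth.Agent.Lib.Helper6.SepCl.irreducibleSpace_bc_of_common k X (AlgebraicClosure k) K Ω

lemma image_mem_irreducibleComponents_of_homeomorph {X Y : Type*} [TopologicalSpace X]
    [TopologicalSpace Y] (φ : X ≃ₜ Y) {W : Set X} (hW : W ∈ irreducibleComponents X) :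
    φ '' W ∈ irreducibleComponents Y := by
  refine ⟨hW.1.image φ φ.continuous.continuousOn, fun T hT hWT => ?_⟩
  have h1 : W ⊆ φ.symm '' T := by
    intro w hw
    exact ⟨φ w, hWT ⟨w, hw, rfl⟩, φ.symm_apply_apply w⟩
  have h2 : φ.symm '' T ⊆ W := hW.2 (hT.image φ.symm φ.symm.continuous.continuousOn) h1
  intro y hy
  exact ⟨φ.symm y, h2 ⟨y, hy, rfl⟩, φ.apply_symm_apply y⟩

variable {S : Scheme.{u}} (G : Grpd.GroupoidScheme S)

lemma e_i : G.e ≫ G.i = G.e := by
  have h1 := G.i_comp G.e
  have h2 := G.comp_e (G.e ≫ G.i)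
  have e1 : (G.e ≫ G.i) ≫ G.s ≫ G.e = G.e := by
    rw [Category.assoc, ← Category.assoc G.i, G.i_s, ← Category.assoc, G.e_t, Category.id_comp]
  have e2 : G.e ≫ G.s ≫ G.e = G.e := by rw [← Category.assoc, G.e_s, Category.id_comp]
  rw [← h2]
  rw [e2] at h1
  refine Eq.trans ?_ h1
  congr 1
  apply pullback.hom_ext
  · rw [pullback.lift_fst, pullback.lift_fst]
  · rw [pullback.lift_snd, pullback.lift_snd, e1]

open Groth.Agent.R2.H84.GrpdRestrGen in
/-- the irreducible component through `e` is geometrically irreducible via `s`. -/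
theorem geometricallyIrreducible_s (k : Type u) [Field k] (eU : G.U ≅ Spec (CommRingCat.of k))
    (Z : Scheme.{u}) (ι : Z ⟶ G.R) [IsClosedImmersion ι] [IrreducibleSpace Z]
    (hZ : Set.range ⇑ι ∈ irreducibleComponents ↥G.R)
    (he : G.e (eU.inv (IsLocalRing.closedPoint k)) ∈ Set.range ⇑ι) :
    GeometricallyIrreducible (ι ≫ G.s ≫ eU.hom) := by
  classical
  let kb := AlgebraicClosure k
  let b : Spec (CommRingCat.of kb) ⟶ Spec (CommRingCat.of k) :=
    Spec.map (CommRingCat.ofHom (algebraMap k kb))
  let h : Spec (CommRingCat.of kb) ⟶ G.U := b ≫ eU.inv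
  haveI hbflat : Flat b := Groth.Agent.R2.H33.GrpdIrr.flat_specMap_field (algebraMap k kb)
  haveI hbint : IsIntegralHom b := by
    rw [IsIntegralHom.SpecMap_iff]
    change (algebraMap k kb).IsIntegral
    exact algebraMap_isIntegral_iff.mpr inferInstance
  haveI : Flat h := inferInstance
  haveI : IsIntegralHom h := inferInstance
  let e0 : G.R := G.e (eU.inv (IsLocalRing.closedPoint k))
  have hsubU : Subsingleton G.U := eU.hom.homeomorph.injective.subsingleton
  have he0 : ∀ u : G.U, G.e u = e0 := fun u => by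
    rw [Subsingleton.elim u (eU.inv (IsLocalRing.closedPoint k))]
  -- the base change `R'' = R ×_{s,U} Spec k̄`
  let π : pullback G.s h ⟶ G.R := pullback.fst G.s h
  haveI : Flat π := inferInstance
  haveI : IsIntegralHom π := inferInstance
  have hgen : GeneralizingMap π := Flat.generalizingMap π
  have hspec : SpecializingMap π := π.isClosedMap.specializingMap
  -- the generic point of the component
  obtain ⟨ξ, hξ⟩ := QuasiSober.sober hZ.1 (isClosed_of_mem_irreducibleComponents _ hZ)
  have hξmax : IsMaxPt ξ := isMaxPt_of_isGenericPoint hZ hξ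
  have hξe0 : ξ ⤳ e0 := by
    rw [specializes_iff_mem_closure, hξ.def]
    exact he
  -- the restricted groupoid
  let G' : Grpd.GroupoidScheme S := restr G h
  let pt : Spec (CommRingCat.of kb) := IsLocalRing.closedPoint kb
  let e1 : G'.R := G'.e pt
  let e2 : ↥(pullback G.s h) := q G h e1
  have he2 : π e2 = e0 := by
    change (pullback.fst G.s h) ((q G h) e1) = e0
    rw [← Scheme.Hom.comp_apply, q_fst]
    change fR G h (e' G h pt) = e0
    rw [e'_fR_apply]
    exact he0 _
  -- the fibre of `π` over `e0` is a single point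
  have hfib : ∀ w : ↥(pullback G.s h), π w = e0 → w = e2 := by
    let mE : pullback (𝟙 G.U) h ⟶ pullback G.s h :=
      pullback.map (𝟙 G.U) h G.s h G.e (𝟙 _) (𝟙 _)
        (by rw [Category.comp_id, G.e_s]) (by simp)
    have hmE : Set.range mE = pullback.fst G.s h ⁻¹' Set.range G.e ∩
        pullback.snd G.s h ⁻¹' Set.range (𝟙 (Spec (CommRingCat.of kb))) :=
      Scheme.Pullback.range_map _ _ _ _ _ _ _ _ _
    have hsubE : Subsingleton ↥(pullback (𝟙 G.U) h) := by
      have : IsIso (pullback.snd (𝟙 G.U) h) := inferInstance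
      exact (pullback.snd (𝟙 G.U) h).homeomorph.injective.subsingleton
    have hmem : ∀ w : ↥(pullback G.s h), π w = e0 → w ∈ Set.range mE := by
      intro w hw
      rw [hmE]
      refine ⟨?_, ?_⟩
      · rw [Set.mem_preimage]
        exact ⟨eU.inv (IsLocalRing.closedPoint k), hw.symm⟩
      · rw [Set.mem_preimage]
        exact ⟨_, rfl⟩
    intro w hw
    obtain ⟨a, rfl⟩ := hmem w hw
    obtain ⟨a2, ha2⟩ := hmem e2 he2
    rw [← ha2, Subsingleton.elim a a2]
  -- uniqueness of the component through `e2`
  haveI : Flat (q G h) :=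
    MorphismProperty.of_isPullback (P := @Flat) (isPullback_q G h).flip inferInstance
  have huniq : ∀ A B : Set ↥(pullback G.s h), A ∈ irreducibleComponents ↥(pullback G.s h) →
      B ∈ irreducibleComponents ↥(pullback G.s h) → e2 ∈ A → e2 ∈ B → A = B := by
    have h1 := Groth.Agent.R2.H33.GrpdIrr.encard_minimalPrimes_stalk_le_of_flat (q G h) e1
    have h2 := Groth.Agent.R2.H33.GrpdIrr.encard_minimalPrimes_stalk_le_one G' kb (Iso.refl _) e1
    have h3 := h1.trans h2
    rw [← Groth.Agent.R2.H93.MinPrimes.encard_irreducibleComponents_through (pullback G.s h) e2,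
      Set.encard_le_one_iff] at h3
    intro A B hA hB hAe hBe
    exact h3 A B ⟨hA, hAe⟩ ⟨hB, hBe⟩
  have hirr : IsIrreducible (π ⁻¹' Set.range ⇑ι) := by
    rw [← hξ.def]
    exact isIrreducible_preimage_of_unique_component π.continuous hgen hspec hξmax hξe0 he2 hfib
      huniq
  -- transport to `Z ×_k k̄`
  have h1 : IrreducibleSpace ↥(pullback ι π) := by
    have hr : Set.range (pullback.snd ι π) = π ⁻¹' Set.range ⇑ι := Scheme.Pullback.range_snd ι π
    have hemb : Topology.IsEmbedding (pullback.snd ι π) := (pullback.snd ι π).isEmbedding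
    have h3 : IrreducibleSpace ↥(Set.range (pullback.snd ι π)) := by
      rw [hr]
      exact Subtype.irreducibleSpace hirr
    exact hemb.toHomeomorph.irreducibleSpace_iff.mpr h3
  have h2 : IrreducibleSpace ↥(pullback (ι ≫ G.s) h) :=
    (pullbackRightPullbackFstIso G.s h ι).hom.homeomorph.irreducibleSpace_iff.mp h1
  let m : pullback (ι ≫ G.s) h ⟶ pullback (ι ≫ G.s ≫ eU.hom) b :=
    pullback.map (ι ≫ G.s) h (ι ≫ G.s ≫ eU.hom) b (𝟙 _) (𝟙 _) eU.hom (by simp) (by simp [h])
  haveI : IsIso m := by
    dsimp only [m]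
    infer_instance
  letI : Z.Over (Spec (CommRingCat.of k)) := ⟨ι ≫ G.s ≫ eU.hom⟩
  haveI : IrreducibleSpace (Curv2.bc k Z (AlgebraicClosure k)) :=
    m.homeomorph.irreducibleSpace_iff.mp h2
  exact geometricallyIrreducible_of_algClosure k Z

/-- the irreducible component through `e` is geometrically irreducible via `t`. -/
theorem geometricallyIrreducible_t (k : Type u) [Field k] (eU : G.U ≅ Spec (CommRingCat.of k))
    (Z : Scheme.{u}) (ι : Z ⟶ G.R) [IsClosedImmersion ι] [IrreducibleSpace Z]
    (hZ : Set.range ⇑ι ∈ irreducibleComponents ↥G.R)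
    (he : G.e (eU.inv (IsLocalRing.closedPoint k)) ∈ Set.range ⇑ι) :
    GeometricallyIrreducible (ι ≫ G.t ≫ eU.hom) := by
  haveI : IsIso G.i := Groth.Agent.R2.H53.GrpdBasic.isIso_i G
  have hZ' : Set.range ⇑(ι ≫ G.i) ∈ irreducibleComponents ↥G.R := by
    have hr : Set.range ⇑(ι ≫ G.i) = G.i.homeomorph '' Set.range ⇑ι := by
      rw [Scheme.Hom.comp_base, TopCat.coe_comp, Set.range_comp]
      rfl
    rw [hr]
    exact image_mem_irreducibleComponents_of_homeomorph G.i.homeomorph hZ
  have he' : G.e (eU.inv (IsLocalRing.closedPoint k)) ∈ Set.range ⇑(ι ≫ G.i) := by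
    obtain ⟨z, hz⟩ := he
    refine ⟨z, ?_⟩
    rw [Scheme.Hom.comp_apply, hz, ← Scheme.Hom.comp_apply, e_i]
  have hmain := geometricallyIrreducible_s G k eU Z (ι ≫ G.i) hZ' he'
  have heq : (ι ≫ G.i) ≫ G.s ≫ eU.hom = ι ≫ G.t ≫ eU.hom := by
    rw [Category.assoc, ← Category.assoc G.i, G.i_s]
  rwa [heq] at hmain

end Groth.Agent.R2.H33.GrpdIrrGeom
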