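import Mathlib
import Groth.Prelude.Def_Grpd
import Groth.Agent.R2.H33GrpdFibre
import Groth.Agent.Lib.Helper25SmUnit
import Groth.Agent.Lib.Helper20SmoothDescSch

/-!
# Homogeneity of groupoid schemes on a field: smoothness (helper33)
-/

set_option autoImplicit false
set_option linter.style.haveILetI false
universe u

open CategoryTheory CategoryTheory.Limits AlgebraicGeometry

namespace Groth.Agent.R2.H33.GrpdSmooth

variable {S : Scheme.{u}} (G : Grpd.GroupoidScheme S)

/-- A groupoid scheme on (the spectrum of) a field whose source map has a smooth point has smooth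
source map. -/
theorem smooth_s_of_nonempty_smoothLocus [Subsingleton G.U] [IsIntegral G.U]
    [LocallyOfFinitePresentation G.s] (hne : (G.s.smoothLocus : Set G.R).Nonempty) :
    Smooth G.s := by
  rw [← Scheme.Hom.smoothLocus_eq_top_iff, eq_top_iff]
  intro r _
  obtain ⟨r₀, hr₀⟩ := hne
  have ht : G.t r = G.t r₀ := Subsingleton.elim _ _
  obtain ⟨z, hz1, hz2⟩ := Scheme.Pullback.exists_preimage_pullback r r₀ ht
  let ι : Spec (CommRingCat.of ((pullback G.t G.t).residueField z)) ⟶ pullback G.t G.t :=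
    (pullback G.t G.t).fromSpecResidueField z
  have hι : ι (IsLocalRing.closedPoint ((pullback G.t G.t).residueField z)) = z :=
    Scheme.fromSpecResidueField_apply _ _
  let α := ι ≫ pullback.fst G.t G.t
  let β := ι ≫ pullback.snd G.t G.t
  have hαβ : α ≫ G.t = β ≫ G.t := by
    simp only [α, β, Category.assoc, pullback.condition]
  obtain ⟨φ, q, h1, h2, h3⟩ := Groth.Agent.R2.H33.GrpdFibre.exists_iso_of_same_target G α β hαβ
  let p := q (IsLocalRing.closedPoint ((pullback G.t G.t).residueField z))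
  have hp : pullback.fst G.s (α ≫ G.s) p = r := by
    change pullback.fst G.s (α ≫ G.s) (q _) = r
    rw [← Scheme.Hom.comp_apply, h2]
    simp only [α, Scheme.Hom.comp_apply, hι, hz1]
  have hφp : pullback.fst G.s (β ≫ G.s) (φ.hom p) = r₀ := by
    change pullback.fst G.s (β ≫ G.s) (φ.hom (q _)) = r₀
    rw [← Scheme.Hom.comp_apply, ← Scheme.Hom.comp_apply, h3]
    simp only [β, Scheme.Hom.comp_apply, hι, hz2]
  have hw : φ.hom p ∈ (pullback.snd G.s (β ≫ G.s)).smoothLocus :=
    Groth.Agent.Lib.Helper25.SmUnit.mem_smoothLocus_pullback_snd G.s (β ≫ G.s) (φ.hom p)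
      (hφp ▸ hr₀)
  have hw' : p ∈ (φ.hom ≫ pullback.snd G.s (β ≫ G.s)).smoothLocus := by
    rw [← Scheme.Hom.preimage_smoothLocus_eq]
    exact hw
  have hw'' : p ∈ (pullback.snd G.s (α ≫ G.s)).smoothLocus := by
    rw [Scheme.Hom.mem_smoothLocus] at hw' ⊢
    rw [h1] at hw'
    exact hw'
  have := Groth.Agent.Lib.Helper20.FlatDesc.formallySmooth_stalkMap_of_flat_baseChange G.s
    (α ≫ G.s) p hw''
  rw [hp] at this
  exact this

end Groth.Agent.R2.H33.GrpdSmooth
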