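import Mathlib
import Groth.Prelude.Def_CoactBr
import Groth.Agent.R2.H33RetNorm

/-!
# Transitivity of `G(K)` on geometric fibres of `Spec B → Spec B^A` (helper33)

`A` a finite projective commutative Hopf algebra over `R`, `B` a comodule algebra whose invariants are `R`.
For `K` algebraically closed and two points `x₁ x₂ : B →ₐ[R] K` there is `g : A →ₐ[R] K` with
`x₂ · g = x₁`.
-/

set_option autoImplicit false
set_option linter.style.haveILetI false
set_option linter.unusedSectionVars false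
universe u

open CategoryTheory CategoryTheory.Limits TensorProduct WithConv
open Groth.Agent.Lib.Helper2.RetCharpoly Groth.Agent.R2.H33.RetNorm

namespace Groth.Agent.R2.H33.HopfOrbit

section Generic

/-- base change of a retract along a pushout square of commutative rings -/
theorem exists_ret_bc' {R S T P : Type u} [CommRing R] [CommRing S] [CommRing T] [CommRing P]
    [Algebra R S] (g : R →+* T) (inl : S →+* P) (inr : T →+* P)
    (h : IsPushout (CommRingCat.ofHom (algebraMap R S)) (CommRingCat.ofHom g)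
      (CommRingCat.ofHom inl) (CommRingCat.ofHom inr)) {n : ℕ} (r : Ret R S n) :
    letI := inr.toAlgebra
    ∃ r' : Ret T P n, ∀ b : S,
      mat r' (Algebra.lmul T P (inl b)) = (mat r (Algebra.lmul R S b)).map g := by
  algebraize [g, inl, inr, inl.comp (algebraMap R S)]
  have : IsScalarTower R T P := .of_algebraMap_eq' <| congr($(h.1.1).hom)
  have h1 : Algebra.IsPushout R S T P := CommRingCat.isPushout_iff_isPushout.mp h
  have h2 : Algebra.IsPushout R T S P := h1.symm
  exact ⟨r.bc, fun b => bc_mat r b⟩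

theorem exists_XY_of_isPushout {A₀ L P : Type u} [CommRing A₀] [CommRing L] [CommRing P]
    [Algebra A₀ L] (τ : A₀ →+* L) (inl₁ inl₂ inr : L →+* P)
    (h1 : IsPushout (CommRingCat.ofHom (algebraMap A₀ L)) (CommRingCat.ofHom τ)
      (CommRingCat.ofHom inl₁) (CommRingCat.ofHom inr))
    (h2 : IsPushout (CommRingCat.ofHom (algebraMap A₀ L)) (CommRingCat.ofHom (algebraMap A₀ L))
      (CommRingCat.ofHom inl₂) (CommRingCat.ofHom inr))
    (hc : ∀ a, inl₂ (τ a) = inl₁ (τ a)) {n : ℕ} (r : Ret A₀ L n) :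
    ∃ (X : A₀ → Matrix (Fin n) (Fin n) L) (Y : Matrix (Fin n) (Fin n) L),
      ∀ a, (mat r (Algebra.lmul A₀ L (τ a))).map τ = X a * Y ∧
        (mat r (Algebra.lmul A₀ L (τ a))).map (algebraMap A₀ L) = Y * X a := by
  obtain ⟨r₁, h₁⟩ := exists_ret_bc' τ inl₁ inr h1 r
  obtain ⟨r₂, h₂⟩ := exists_ret_bc' (algebraMap A₀ L) inl₂ inr h2 r
  letI := inr.toAlgebra
  refine ⟨fun a => LinearMap.toMatrix' (r₁.i ∘ₗ (Algebra.lmul L P (inl₁ (τ a))) ∘ₗ r₂.p),
    LinearMap.toMatrix' (r₂.i ∘ₗ r₁.p), ?_⟩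
  intro a
  constructor
  · rw [trans_mul₁]
    exact (h₁ (τ a)).symm
  · rw [trans_mul₂, ← hc]
    exact (h₂ (τ a)).symm

end Generic

section Conv

variable {R A : Type u} [CommRing R] [CommRing A] [HopfAlgebra R A]
  {W : Type u} [CommRing W] [Algebra R W]

theorem comp_one_conv {W' : Type u} [CommRing W'] [Algebra R W'] (h : W →ₐ[R] W') :
    h.comp (1 : WithConv (A →ₐ[R] W)).ofConv = (1 : WithConv (A →ₐ[R] W')).ofConv := by
  ext a
  simp [AlgHom.convOne_def]

theorem inv_mul_conv (f : A →ₐ[R] W) :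
    toConv (f.comp (HopfAlgebra.antipodeAlgHom R A)) * toConv f = 1 := by
  have h := AlgHom.comp_convMul_distrib f (toConv (HopfAlgebra.antipodeAlgHom R A))
    (toConv (AlgHom.id R A))
  rw [AlgHom.antipode_id_cancel, comp_one_conv] at h
  apply WithConv.ofConv_injective
  rw [h]
  rfl

theorem mul_inv_conv (f : A →ₐ[R] W) :
    toConv f * toConv (f.comp (HopfAlgebra.antipodeAlgHom R A)) = 1 := by
  have h1 := inv_mul_conv f
  have h2 := inv_mul_conv (f.comp (HopfAlgebra.antipodeAlgHom R A))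
  have h3 : toConv ((f.comp (HopfAlgebra.antipodeAlgHom R A)).comp
      (HopfAlgebra.antipodeAlgHom R A)) = toConv f := by
    calc toConv ((f.comp (HopfAlgebra.antipodeAlgHom R A)).comp (HopfAlgebra.antipodeAlgHom R A))
        = toConv ((f.comp (HopfAlgebra.antipodeAlgHom R A)).comp
            (HopfAlgebra.antipodeAlgHom R A)) *
            (toConv (f.comp (HopfAlgebra.antipodeAlgHom R A)) * toConv f) := by
          rw [h1, mul_one]
      _ = toConv f := by rw [← mul_assoc, h2, one_mul]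
  rw [← h3]
  exact h2

theorem inv_mul_cancel_left_conv (f g : A →ₐ[R] W) :
    toConv (f.comp (HopfAlgebra.antipodeAlgHom R A)) * (toConv f * toConv g) = toConv g := by
  rw [← mul_assoc, inv_mul_conv, one_mul]

theorem mul_inv_cancel_left_conv (f g : A →ₐ[R] W) :
    toConv f * (toConv (f.comp (HopfAlgebra.antipodeAlgHom R A)) * toConv g) = toConv g := by
  rw [← mul_assoc, mul_inv_conv, one_mul]

end Conv

section Hopf

variable (R A B : Type u) [CommRing R] [CommRing A] [HopfAlgebra R A] [CommRing B] [Algebra R B]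
  [HopfRep.Comod R A B] [GLin.IsCoactAlg R A B]

/-- the coaction `τ : B → B ⊗ A` -/
noncomputable abbrev tau : B →ₐ[R] B ⊗[R] A := GLin.coactAlgHom R A B

/-- `λ ↦ λ ⊗ 1` -/
noncomputable abbrev inr : B ⊗[R] A →ₐ[R] (B ⊗[R] A) ⊗[R] A := Algebra.TensorProduct.includeLeft

/-- `a ↦ 1 ⊗ a` -/
noncomputable abbrev j₂ : A →ₐ[R] B ⊗[R] A := Algebra.TensorProduct.includeRight

/-- `a ↦ (1 ⊗ a) ⊗ 1` -/
noncomputable abbrev ι₂ : A →ₐ[R] (B ⊗[R] A) ⊗[R] A := (inr R A B).comp (j₂ R A B)

/-- `a ↦ (1 ⊗ 1) ⊗ a` -/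
noncomputable abbrev ι₃ : A →ₐ[R] (B ⊗[R] A) ⊗[R] A := Algebra.TensorProduct.includeRight

/-- `τ ⊗ id` -/
noncomputable abbrev inl₁ : B ⊗[R] A →ₐ[R] (B ⊗[R] A) ⊗[R] A :=
  Algebra.TensorProduct.map (tau R A B) (AlgHom.id R A)

/-- `id ⊗ Δ` (reassociated) -/
noncomputable abbrev inl₂ : B ⊗[R] A →ₐ[R] (B ⊗[R] A) ⊗[R] A :=
  (Algebra.TensorProduct.assoc R R R B A A).symm.toAlgHom.comp
    (Algebra.TensorProduct.map (AlgHom.id R B) (Bialgebra.comulAlgHom R A))

/-- the counit section `B ⊗ A → B` -/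
noncomputable abbrev eps : B ⊗[R] A →ₐ[R] B :=
  (Algebra.TensorProduct.rid R R B).toAlgHom.comp
    (Algebra.TensorProduct.map (AlgHom.id R B) (Bialgebra.counitAlgHom R A))

theorem coassoc_algHom :
    (Algebra.TensorProduct.map (AlgHom.id R B) (Bialgebra.comulAlgHom R A)).comp (tau R A B) =
      (Algebra.TensorProduct.assoc R R R B A A).toAlgHom.comp
        ((Algebra.TensorProduct.map (tau R A B) (AlgHom.id R A)).comp (tau R A B)) :=
  congrArg CommAlgCat.Hom.hom (CoactBr.coactHom_comul R A B)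

theorem counit_algHom :
    (Algebra.TensorProduct.map (AlgHom.id R B) (Bialgebra.counitAlgHom R A)).comp (tau R A B) =
      (Algebra.TensorProduct.rid R R B).symm.toAlgHom :=
  congrArg CommAlgCat.Hom.hom (CoactBr.coactHom_counit R A B)

theorem inl₂_tau (b : B) : inl₂ R A B (tau R A B b) = inl₁ R A B (tau R A B b) := by
  have h := AlgHom.congr_fun (coassoc_algHom R A B) b
  simp only [AlgHom.comp_apply] at h
  simp only [inl₂, inl₁, AlgHom.comp_apply]
  rw [h]
  exact (Algebra.TensorProduct.assoc R R R B A A).symm_apply_apply _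

theorem eps_includeLeft (b : B) : eps R A B (b ⊗ₜ 1) = b := by
  simp [eps]

theorem eps_tau (b : B) : eps R A B (tau R A B b) = b := by
  have h := AlgHom.congr_fun (counit_algHom R A B) b
  simp only [AlgHom.comp_apply] at h
  simp only [eps, AlgHom.comp_apply]
  rw [h]
  exact (Algebra.TensorProduct.rid R R B).apply_symm_apply _

/-- `a ↦ Σ (1 ⊗ a₁) ⊗ a₂` -/
noncomputable def dd : A →ₐ[R] (B ⊗[R] A) ⊗[R] A := (toConv (ι₂ R A B) * toConv (ι₃ R A B)).ofConv

/-- `a ↦ Σ (1 ⊗ S a₁) ⊗ a₂` -/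
noncomputable def dd' : A →ₐ[R] (B ⊗[R] A) ⊗[R] A :=
  (toConv ((ι₂ R A B).comp (HopfAlgebra.antipodeAlgHom R A)) * toConv (ι₃ R A B)).ofConv

/-- the shear automorphism -/
noncomputable def theta : (B ⊗[R] A) ⊗[R] A →ₐ[R] (B ⊗[R] A) ⊗[R] A :=
  Algebra.TensorProduct.lift (inr R A B) (dd R A B) (fun _ _ => .all _ _)

/-- its inverse -/
noncomputable def theta' : (B ⊗[R] A) ⊗[R] A →ₐ[R] (B ⊗[R] A) ⊗[R] A :=
  Algebra.TensorProduct.lift (inr R A B) (dd' R A B) (fun _ _ => .all _ _)

theorem theta_comp_inr : (theta R A B).comp (inr R A B) = inr R A B :=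
  Algebra.TensorProduct.lift_comp_includeLeft _ _ (fun _ _ => .all _ _)

theorem theta'_comp_inr : (theta' R A B).comp (inr R A B) = inr R A B :=
  Algebra.TensorProduct.lift_comp_includeLeft _ _ (fun _ _ => .all _ _)

theorem theta_comp_ι₃ : (theta R A B).comp (ι₃ R A B) = dd R A B :=
  Algebra.TensorProduct.lift_comp_includeRight _ _ (fun _ _ => .all _ _)

theorem theta'_comp_ι₃ : (theta' R A B).comp (ι₃ R A B) = dd' R A B :=
  Algebra.TensorProduct.lift_comp_includeRight _ _ (fun _ _ => .all _ _)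

theorem theta_comp_ι₂ : (theta R A B).comp (ι₂ R A B) = ι₂ R A B := by
  rw [ι₂, ← AlgHom.comp_assoc, theta_comp_inr]

theorem theta'_comp_ι₂ : (theta' R A B).comp (ι₂ R A B) = ι₂ R A B := by
  rw [ι₂, ← AlgHom.comp_assoc, theta'_comp_inr]

theorem theta_comp_dd' : (theta R A B).comp (dd' R A B) = ι₃ R A B := by
  have h := AlgHom.comp_convMul_distrib (theta R A B)
    (toConv ((ι₂ R A B).comp (HopfAlgebra.antipodeAlgHom R A))) (toConv (ι₃ R A B))
  rw [ofConv_toConv, ofConv_toConv, ← AlgHom.comp_assoc, theta_comp_ι₂, theta_comp_ι₃] at h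
  exact h.trans (congrArg WithConv.ofConv (inv_mul_cancel_left_conv (ι₂ R A B) (ι₃ R A B)))

theorem theta'_comp_dd : (theta' R A B).comp (dd R A B) = ι₃ R A B := by
  have h := AlgHom.comp_convMul_distrib (theta' R A B) (toConv (ι₂ R A B)) (toConv (ι₃ R A B))
  rw [ofConv_toConv, ofConv_toConv, theta'_comp_ι₂, theta'_comp_ι₃] at h
  exact h.trans (congrArg WithConv.ofConv (mul_inv_cancel_left_conv (ι₂ R A B) (ι₃ R A B)))

theorem theta_comp_theta' : (theta R A B).comp (theta' R A B) = AlgHom.id R _ := by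
  apply Algebra.TensorProduct.ext'
  intro l a
  have h := AlgHom.congr_fun (theta_comp_dd' R A B) a
  simp only [AlgHom.comp_apply] at h
  simp only [AlgHom.comp_apply, theta', Algebra.TensorProduct.lift_tmul, map_mul, AlgHom.id_apply]
  rw [h]
  have h2 := AlgHom.congr_fun (theta_comp_inr R A B) l
  simp only [AlgHom.comp_apply] at h2
  rw [h2]
  simp

theorem theta'_comp_theta : (theta' R A B).comp (theta R A B) = AlgHom.id R _ := by
  apply Algebra.TensorProduct.ext'
  intro l a
  have h := AlgHom.congr_fun (theta'_comp_dd R A B) a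
  simp only [AlgHom.comp_apply] at h
  simp only [AlgHom.comp_apply, theta, Algebra.TensorProduct.lift_tmul, map_mul, AlgHom.id_apply]
  rw [h]
  have h2 := AlgHom.congr_fun (theta'_comp_inr R A B) l
  simp only [AlgHom.comp_apply] at h2
  rw [h2]
  simp

/-- the shear automorphism as an equivalence -/
noncomputable def thetaEquiv : ((B ⊗[R] A) ⊗[R] A) ≃ₐ[R] ((B ⊗[R] A) ⊗[R] A) :=
  AlgEquiv.ofAlgHom (theta R A B) (theta' R A B) (theta_comp_theta' R A B) (theta'_comp_theta R A B)

theorem assoc_symm_one_tmul (z : A ⊗[R] A) :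
    (Algebra.TensorProduct.assoc R R R B A A).symm ((1 : B) ⊗ₜ[R] z) =
      Algebra.TensorProduct.lift (ι₂ R A B) (ι₃ R A B) (fun _ _ => .all _ _) z := by
  induction z using TensorProduct.induction_on with
  | zero => simp
  | tmul a₁ a₂ => simp
  | add x y hx hy => rw [TensorProduct.tmul_add, map_add, map_add, hx, hy]

theorem inl₂_comp_j₂ : (inl₂ R A B).comp (j₂ R A B) = dd R A B := by
  ext a
  rw [dd, AlgHom.convMul_apply]
  rw [← assoc_symm_one_tmul]
  simp [inl₂]

theorem isPushout₁ :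
    IsPushout (CommRingCat.ofHom (algebraMap B (B ⊗[R] A)))
      (CommRingCat.ofHom (tau R A B).toRingHom)
      (CommRingCat.ofHom (inl₁ R A B).toRingHom) (CommRingCat.ofHom (inr R A B).toRingHom) := by
  have s := CommRingCat.isPushout_tensorProduct R B A
  have outer := CommRingCat.isPushout_tensorProduct R (B ⊗[R] A) A
  have e1 : CommRingCat.ofHom (algebraMap R B) ≫ CommRingCat.ofHom (tau R A B).toRingHom =
      CommRingCat.ofHom (algebraMap R (B ⊗[R] A)) := by
    ext r
    simp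
  have e2 : CommRingCat.ofHom (Algebra.TensorProduct.includeRight : A →ₐ[R] B ⊗[R] A).toRingHom ≫
      CommRingCat.ofHom (inl₁ R A B).toRingHom =
      CommRingCat.ofHom
        (Algebra.TensorProduct.includeRight : A →ₐ[R] (B ⊗[R] A) ⊗[R] A).toRingHom := by
    refine CommRingCat.hom_ext (RingHom.ext fun a => ?_)
    change (inl₁ R A B) ((1 : B) ⊗ₜ[R] a) = (1 : B ⊗[R] A) ⊗ₜ[R] a
    rw [inl₁, Algebra.TensorProduct.map_tmul, map_one, AlgHom.id_apply]
  rw [← e1, ← e2] at outer
  refine (outer.of_left ?_ s).flip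
  refine CommRingCat.hom_ext (RingHom.ext fun b => ?_)
  change (tau R A B b) ⊗ₜ[R] (1 : A) = (inl₁ R A B) (b ⊗ₜ[R] (1 : A))
  rw [inl₁, Algebra.TensorProduct.map_tmul, AlgHom.id_apply]

theorem isPushout₂ :
    IsPushout (CommRingCat.ofHom (algebraMap B (B ⊗[R] A)))
      (CommRingCat.ofHom (algebraMap B (B ⊗[R] A)))
      (CommRingCat.ofHom (inl₂ R A B).toRingHom) (CommRingCat.ofHom (inr R A B).toRingHom) := by
  have s := CommRingCat.isPushout_tensorProduct R B A
  have outer₀ := CommRingCat.isPushout_tensorProduct R (B ⊗[R] A) A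
  have e1 : CommRingCat.ofHom (algebraMap R B) ≫ CommRingCat.ofHom (algebraMap B (B ⊗[R] A)) =
      CommRingCat.ofHom (algebraMap R (B ⊗[R] A)) := by
    ext r
    simp
  have outer : IsPushout
      (CommRingCat.ofHom (algebraMap R B) ≫ CommRingCat.ofHom (algebraMap B (B ⊗[R] A)))
      (CommRingCat.ofHom (algebraMap R A))
      (CommRingCat.ofHom (inr R A B).toRingHom)
      (CommRingCat.ofHom (Algebra.TensorProduct.includeRight : A →ₐ[R] B ⊗[R] A).toRingHom ≫
        CommRingCat.ofHom (inl₂ R A B).toRingHom) := by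
    rw [e1]
    refine outer₀.of_iso (Iso.refl _) (Iso.refl _) (Iso.refl _)
      (thetaEquiv R A B).toRingEquiv.toCommRingCatIso (by simp) (by simp) ?_ ?_
    · refine CommRingCat.hom_ext (RingHom.ext fun l => ?_)
      have h := AlgHom.congr_fun (theta_comp_inr R A B) l
      simp only [AlgHom.comp_apply] at h
      simp only [Iso.refl_hom, Category.id_comp]
      change thetaEquiv R A B (l ⊗ₜ[R] (1 : A)) = l ⊗ₜ[R] (1 : A)
      exact h
    · refine CommRingCat.hom_ext (RingHom.ext fun a => ?_)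
      have h := AlgHom.congr_fun (theta_comp_ι₃ R A B) a
      have h2 := AlgHom.congr_fun (inl₂_comp_j₂ R A B) a
      simp only [AlgHom.comp_apply] at h h2
      simp only [Iso.refl_hom, Category.id_comp]
      change thetaEquiv R A B ((1 : B ⊗[R] A) ⊗ₜ[R] a) = inl₂ R A B ((1 : B) ⊗ₜ[R] a)
      exact h.trans h2.symm
  refine (outer.of_left ?_ s).flip
  refine CommRingCat.hom_ext (RingHom.ext fun b => ?_)
  change (b ⊗ₜ[R] (1 : A)) ⊗ₜ[R] (1 : A) = (inl₂ R A B) (b ⊗ₜ[R] (1 : A))
  simp [inl₂, Algebra.TensorProduct.one_def]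

/-- **Transitivity on geometric fibres.** If the invariants of `B` are `R`, then for `K` algebraically
closed any two `K`-points of `B` are translates of one another by a `K`-point of `A`:
`x₁ = x₂ · g`, i.e. `x₁ b = Σ x₂(b₀) g(b₁)`. -/
theorem exists_translate [Module.Finite R A] [Module.Projective R A]
    (hC : Function.Bijective (algebraMap R (GLin.invariants R A B)))
    (K : Type u) [Field K] [IsAlgClosed K] [Algebra R K] (x₁ x₂ : B →ₐ[R] K) :
    ∃ g : A →ₐ[R] K,
      (Algebra.TensorProduct.lift x₂ g (fun _ _ => .all _ _)).comp (GLin.coactAlgHom R A B) = x₁ := by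
  obtain ⟨n, ⟨r⟩⟩ := exists_ret B (B ⊗[R] A)
  obtain ⟨X, Y, hXY⟩ := exists_XY_of_isPushout (tau R A B).toRingHom (inl₁ R A B).toRingHom
    (inl₂ R A B).toRingHom (inr R A B).toRingHom (isPushout₁ R A B) (isPushout₂ R A B)
    (inl₂_tau R A B) r
  have hεσ : ∀ b, (eps R A B).toRingHom (algebraMap B (B ⊗[R] A) b) = b := fun b =>
    eps_includeLeft R A B b
  have hετ : ∀ b, (eps R A B).toRingHom ((tau R A B).toRingHom b) = b := fun b => eps_tau R A B b
  have hx : ∀ c, algebraMap B (B ⊗[R] A) c = (tau R A B).toRingHom c →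
      x₁.toRingHom c = x₂.toRingHom c := by
    intro c hc
    have hmem : c ∈ GLin.invariants R A B := by
      rw [GLin.mem_invariants_iff]
      exact hc.symm
    obtain ⟨ρ, hρ⟩ := hC.2 ⟨c, hmem⟩
    have hc' : c = algebraMap R B ρ := by
      have := congrArg Subtype.val hρ
      exact this.symm
    rw [hc']
    simp
  obtain ⟨ρ, hρτ, hρσ⟩ := exists_point_of_eq_on_invariants (tau R A B).toRingHom
    (eps R A B).toRingHom hεσ hετ r X Y hXY K x₁.toRingHom x₂.toRingHom hx
  have hσ : ∀ b : B, ρ (b ⊗ₜ[R] (1 : A)) = x₂ b := fun b => RingHom.congr_fun hρσ b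
  have hτ : ∀ b : B, ρ (tau R A B b) = x₁ b := fun b => RingHom.congr_fun hρτ b
  let g : A →ₐ[R] K :=
    { toRingHom := ρ.comp (Algebra.TensorProduct.includeRight : A →ₐ[R] B ⊗[R] A).toRingHom
      commutes' := by
        intro c
        change ρ ((1 : B) ⊗ₜ[R] algebraMap R A c) = algebraMap R K c
        have h1 : (1 : B) ⊗ₜ[R] algebraMap R A c = (algebraMap R B c) ⊗ₜ[R] (1 : A) := by
          rw [Algebra.algebraMap_eq_smul_one, Algebra.algebraMap_eq_smul_one,
            TensorProduct.tmul_smul, TensorProduct.smul_tmul']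
        rw [h1, hσ, AlgHom.commutes] }
  have hg : ∀ a : A, g a = ρ ((1 : B) ⊗ₜ[R] a) := fun a => rfl
  have hlift : ∀ z : B ⊗[R] A, Algebra.TensorProduct.lift x₂ g (fun _ _ => .all _ _) z = ρ z := by
    intro z
    induction z using TensorProduct.induction_on with
    | zero => simp
    | tmul b a =>
      rw [Algebra.TensorProduct.lift_tmul, hg, ← hσ, ← map_mul,
        Algebra.TensorProduct.tmul_mul_tmul, mul_one, one_mul]
    | add x y hx hy => rw [map_add, map_add, hx, hy]
  refine ⟨g, AlgHom.ext fun b => ?_⟩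
  rw [AlgHom.comp_apply, hlift]
  exact hτ b

end Hopf

end Groth.Agent.R2.H33.HopfOrbit
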