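import Mathlib
import Groth.Prelude.Def_CoactBr
import Groth.Agent.R2.H33HopfOrbit

/-!
# Inertia groups along an orbit are conjugate (helper33)
-/

set_option autoImplicit false
universe u
open CategoryTheory MonoidalCategory CartesianMonoidalCategory MonObj AlgebraicGeometry
open CoactBr

namespace Groth.Agent.R2.H33.HopfInertia

variable {R A B : Type u} [CommRing R] [CommRing A] [HopfAlgebra R A]
  [CommRing B] [Algebra R B] [HopfRep.Comod R A B] [GLin.IsCoactAlg R A B]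

/-- `k` fixes `ξ · a` iff `a k a⁻¹` fixes `ξ`. -/
theorem fixes_translate_iff {T : Over (Spec (CommRingCat.of R))} (ξ : T ⟶ sp R B)
    (a k : T ⟶ sp R A) :
    lift k (lift ξ a ≫ ract R A B) ≫ (action R A B).act = lift ξ a ≫ ract R A B ↔
      lift (a * k * a⁻¹) ξ ≫ (action R A B).act = ξ := by
  rw [lift_action_act (R := R) (A := A) (B := B) k (lift ξ a ≫ ract R A B),
    lift_action_act (R := R) (A := A) (B := B) (a * k * a⁻¹) ξ,
    lift_ract_ract (R := R) (A := A) (B := B) ξ a k⁻¹]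
  have hinv : (a * k * a⁻¹)⁻¹ = a * k⁻¹ * a⁻¹ := by
    rw [mul_inv_rev, mul_inv_rev, inv_inv, ← _root_.mul_assoc]
  rw [hinv]
  constructor
  · intro h
    rw [← lift_ract_ract (R := R) (A := A) (B := B) ξ (a * k⁻¹) a⁻¹, h,
      lift_ract_ract (R := R) (A := A) (B := B) ξ a a⁻¹, mul_inv_cancel,
      lift_one_ract (R := R) (A := A) (B := B) ξ]
  · intro h
    have h2 : a * k⁻¹ = (a * k⁻¹ * a⁻¹) * a := by
      rw [_root_.mul_assoc, inv_mul_cancel, _root_.mul_one]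
    rw [h2, ← lift_ract_ract (R := R) (A := A) (B := B) ξ (a * k⁻¹ * a⁻¹) a, h]

/-- If `x₁ = x₂ · gm` as ring-valued points, the inertia at `x₁` is the `gm`-conjugate of the one at
`x₂`. -/
theorem inertia_conj_of_translate {K : Type u} [CommRing K] [Algebra R K] (x₁ x₂ : B →ₐ[R] K)
    (gm : A →ₐ[R] K)
    (hgm : (Algebra.TensorProduct.lift x₂ gm (fun _ _ => .all _ _)).comp (GLin.coactAlgHom R A B) = x₁)
    (T : Over (Spec (CommRingCat.of R))) (h : T ⟶ sp R K) (k : T ⟶ sp R A) :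
    lift k (h ≫ pt x₁) ≫ (action R A B).act = h ≫ pt x₁ ↔
      lift ((h ≫ (pt gm)⁻¹)⁻¹ * k * (h ≫ (pt gm)⁻¹)) (h ≫ pt x₂) ≫ (action R A B).act =
        h ≫ pt x₂ := by
  have h1 : pt x₁ = lift (pt x₂) (pt gm) ≫ ract R A B := by
    rw [lift_pt_ract, hgm]
  have h2 : h ≫ pt x₁ = lift (h ≫ pt x₂) (h ≫ pt gm) ≫ ract R A B := by
    rw [h1, ← Category.assoc, comp_lift]
  have h3 : h ≫ (pt gm)⁻¹ = (h ≫ pt gm)⁻¹ := GrpObj.comp_inv h (pt gm)
  rw [h2, h3, inv_inv]
  exact fixes_translate_iff (h ≫ pt x₂) (h ≫ pt gm) k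

end Groth.Agent.R2.H33.HopfInertia
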