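import Mathlib
import Groth.Prelude.Def_CoactBr
import Groth.Agent.R2.H33HopfInertia

/-!
# Points in the same fibre: common algebraically closed overfield and fpqc base change (helper33)
-/

set_option autoImplicit false
set_option linter.style.haveILetI false
universe u
open CategoryTheory CategoryTheory.Limits MonoidalCategory CartesianMonoidalCategory MonObj
open AlgebraicGeometry TensorProduct
open CoactBr

namespace Groth.Agent.R2.H33.HopfFibre

section Compositum

variable {R K₁ K₂ : Type u} [CommRing R] [Field K₁] [Algebra R K₁] [Field K₂] [Algebra R K₂]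

theorem nontrivial_tensor
    (hq : RingHom.ker (algebraMap R K₁) = RingHom.ker (algebraMap R K₂)) :
    Nontrivial (K₁ ⊗[R] K₂) := by
  let f₁ := Spec.map (CommRingCat.ofHom (algebraMap R K₁))
  let f₂ := Spec.map (CommRingCat.ofHom (algebraMap R K₂))
  let z₁ : Spec (CommRingCat.of K₁) := IsLocalRing.closedPoint K₁
  let z₂ : Spec (CommRingCat.of K₂) := IsLocalRing.closedPoint K₂
  have h : f₁ z₁ = f₂ z₂ := by
    apply PrimeSpectrum.ext
    change (IsLocalRing.maximalIdeal K₁).comap (algebraMap R K₁) =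
      (IsLocalRing.maximalIdeal K₂).comap (algebraMap R K₂)
    rw [IsLocalRing.maximalIdeal_eq_bot, IsLocalRing.maximalIdeal_eq_bot,
      ← RingHom.ker_eq_comap_bot, ← RingHom.ker_eq_comap_bot, hq]
  obtain ⟨z, -, -⟩ := Scheme.Pullback.exists_preimage_pullback z₁ z₂ h
  exact PrimeSpectrum.nonempty_iff_nontrivial.mp ⟨(pullbackSpecIso R K₁ K₂).hom z⟩

/-- Two fields over `R` with the same kernel embed over `R` into a common algebraically closed
field. -/
theorem exists_common_algClosed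
    (hq : RingHom.ker (algebraMap R K₁) = RingHom.ker (algebraMap R K₂)) :
    ∃ (K : Type u) (_ : Field K) (_ : IsAlgClosed K) (_ : Algebra R K),
      Nonempty (K₁ →ₐ[R] K) ∧ Nonempty (K₂ →ₐ[R] K) := by
  have := nontrivial_tensor hq
  obtain ⟨M, hM⟩ := Ideal.exists_maximal (K₁ ⊗[R] K₂)
  letI := Ideal.Quotient.field M
  let L := (K₁ ⊗[R] K₂) ⧸ M
  let K := AlgebraicClosure L
  refine ⟨K, inferInstance, inferInstance, inferInstance, ⟨?_⟩, ⟨?_⟩⟩
  · exact (IsScalarTower.toAlgHom R L K).comp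
      ((Ideal.Quotient.mkₐ R M).comp Algebra.TensorProduct.includeLeft)
  · exact (IsScalarTower.toAlgHom R L K).comp
      ((Ideal.Quotient.mkₐ R M).comp Algebra.TensorProduct.includeRight)

end Compositum

section Cover

variable {R : Type u} [CommRing R] {K₂ K : Type u} [Field K₂] [Algebra R K₂] [Field K] [Algebra R K]

theorem flat_surjective_SpecMap_field (i₂ : K₂ →ₐ[R] K) :
    Flat (Spec.map (CommRingCat.ofHom i₂.toRingHom)) ∧
      Surjective (Spec.map (CommRingCat.ofHom i₂.toRingHom)) := by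
  rw [flat_and_surjective_SpecMap_iff]
  letI := i₂.toRingHom.toAlgebra
  have : Module.FaithfullyFlat K₂ K := inferInstance
  exact RingHom.faithfullyFlat_algebraMap_iff.mpr this

/-- Base change of a `K₂`-scheme to an overfield `K`: an epimorphism `p : T' ⟶ T` over `Spec R` with
`T'` living over `Spec K`. -/
theorem exists_cover (i₂ : K₂ →ₐ[R] K) (T : Over (Spec (CommRingCat.of R))) (h : T ⟶ sp R K₂) :
    ∃ (T' : Over (Spec (CommRingCat.of R))) (p : T' ⟶ T) (h' : T' ⟶ sp R K),
      Epi p ∧ p ≫ h = h' ≫ pt i₂ := by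
  let f : T.left ⟶ Spec (CommRingCat.of K₂) := h.left
  let q : Spec (CommRingCat.of K) ⟶ Spec (CommRingCat.of K₂) :=
    Spec.map (CommRingCat.ofHom i₂.toRingHom)
  obtain ⟨hflat, hsurj⟩ := flat_surjective_SpecMap_field i₂
  have hq : q ≫ (sp R K₂).hom = (sp R K).hom := Over.w (pt i₂)
  have hf : f ≫ (sp R K₂).hom = T.hom := Over.w h
  let T' : Over (Spec (CommRingCat.of R)) := Over.mk (pullback.fst f q ≫ T.hom)
  let p : T' ⟶ T := Over.homMk (pullback.fst f q) rfl
  let h' : T' ⟶ sp R K := Over.homMk (pullback.snd f q) (by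
    change pullback.snd f q ≫ (sp R K).hom = pullback.fst f q ≫ T.hom
    rw [← hq, ← Category.assoc, ← pullback.condition, Category.assoc, hf])
  refine ⟨T', p, h', ?_, ?_⟩
  · have : Epi p.left := by
      change Epi (pullback.fst f q)
      exact Flat.epi_of_flat_of_surjective _
    exact Over.epi_of_epi_left p
  · apply Over.OverMorphism.ext
    change pullback.fst f q ≫ f = pullback.snd f q ≫ q
    exact pullback.condition

end Cover

section Main

open Groth.Agent.R2.H33.HopfOrbit Groth.Agent.R2.H33.HopfInertia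

/-- Trivial inertia at one point of a fibre of `Spec B → Spec R` (invariants `= R`) implies trivial
inertia at every other point of that fibre. -/
theorem inertia_trivial_transfer
    (R A B K₁ K₂ : Type u) [CommRing R] [CommRing A] [HopfAlgebra R A]
    [Module.Finite R A] [Module.Projective R A]
    [CommRing B] [Algebra R B] [HopfRep.Comod R A B] [GLin.IsCoactAlg R A B]
    (hC : Function.Bijective (algebraMap R (GLin.invariants R A B)))
    [Field K₁] [Algebra R K₁] [Field K₂] [Algebra R K₂]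
    (hq : RingHom.ker (algebraMap R K₁) = RingHom.ker (algebraMap R K₂))
    (x₁ : B →ₐ[R] K₁) (x₂ : B →ₐ[R] K₂)
    (h₁ : ∀ (T : Over (Spec (CommRingCat.of R))) (h : T ⟶ CoactBr.sp R K₁) (g : T ⟶ CoactBr.sp R A),
      lift g (h ≫ CoactBr.pt x₁) ≫ (CoactBr.action R A B).act = h ≫ CoactBr.pt x₁ → g = 1)
    (T : Over (Spec (CommRingCat.of R))) (h : T ⟶ CoactBr.sp R K₂) (g : T ⟶ CoactBr.sp R A)
    (hg : lift g (h ≫ CoactBr.pt x₂) ≫ (CoactBr.action R A B).act = h ≫ CoactBr.pt x₂) :
    g = 1 := by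
  obtain ⟨K, _, _, _, ⟨i₁⟩, ⟨i₂⟩⟩ := exists_common_algClosed hq
  obtain ⟨T', p, h', hp, hph⟩ := exists_cover i₂ T h
  let y₁ : B →ₐ[R] K := i₁.comp x₁
  let y₂ : B →ₐ[R] K := i₂.comp x₂
  obtain ⟨gm, hgm⟩ := exists_translate R A B hC K y₂ y₁
  have hy₂ : pt y₂ = pt i₂ ≫ pt x₂ := pt_comp x₂ i₂
  have hy₁ : pt y₁ = pt i₁ ≫ pt x₁ := pt_comp x₁ i₁
  have hfix : lift (p ≫ g) (h' ≫ pt y₂) ≫ (action R A B).act = h' ≫ pt y₂ := by
    rw [hy₂, ← Category.assoc, ← hph, Category.assoc, ← comp_lift, Category.assoc, hg]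
  have hconj := (inertia_conj_of_translate y₂ y₁ gm hgm T' h' (p ≫ g)).mp hfix
  rw [hy₁, ← Category.assoc] at hconj
  have h1 := h₁ T' (h' ≫ pt i₁) _ hconj
  have h2 : p ≫ g = 1 := by
    have e : p ≫ g = (h' ≫ (pt gm)⁻¹) * ((h' ≫ (pt gm)⁻¹)⁻¹ * (p ≫ g) * (h' ≫ (pt gm)⁻¹)) *
        (h' ≫ (pt gm)⁻¹)⁻¹ := by group
    rw [e, h1]
    group
  have h3 : p ≫ g = p ≫ 1 := by rw [h2, MonObj.comp_one]
  exact (cancel_epi p).mp h3

end Main

end Groth.Agent.R2.H33.HopfFibre
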