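import Mathlib
import Groth.Prelude.Def_CoactBr
import Groth.Agent.R2.H33HopfOrbit

/-!
# From `T`-points of `Spec B` over `Spec R` to algebra maps `B → Γ(T)` (helper33)
-/

set_option autoImplicit false
set_option linter.style.haveILetI false
universe u
open CategoryTheory MonoidalCategory CartesianMonoidalCategory MonObj AlgebraicGeometry WithConv
open CoactBr

namespace Groth.Agent.R2.H33.HopfPts

variable {R : Type u} [CommRing R]

/-- `Γ(T)` as an `R`-algebra, for `T` over `Spec R`. -/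
@[reducible] noncomputable def gammaAlgebra (T : Over (Spec (CommRingCat.of R))) : Algebra R Γ(T.left, ⊤) :=
  ((T.hom.appTop.hom).comp (Scheme.ΓSpecIso (CommRingCat.of R)).inv.hom).toAlgebra

attribute [local instance] gammaAlgebra

theorem algebraMap_gamma (T : Over (Spec (CommRingCat.of R))) :
    CommRingCat.ofHom (algebraMap R Γ(T.left, ⊤)) =
      (Scheme.ΓSpecIso (CommRingCat.of R)).inv ≫ T.hom.appTop := rfl

/-- the canonical morphism `T ⟶ Spec Γ(T)` over `Spec R` -/
noncomputable def can (T : Over (Spec (CommRingCat.of R))) : T ⟶ sp R Γ(T.left, ⊤) :=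
  Over.homMk T.left.toSpecΓ (by
    change T.left.toSpecΓ ≫ Spec.map (CommRingCat.ofHom (algebraMap R Γ(T.left, ⊤))) = T.hom
    rw [algebraMap_gamma, Spec.map_comp, ← Scheme.toSpecΓ_naturality_assoc,
      toSpecΓ_SpecMap_ΓSpecIso_inv, Category.comp_id])

@[simp] theorem can_left (T : Over (Spec (CommRingCat.of R))) : (can T).left = T.left.toSpecΓ := rfl

variable {B : Type u} [CommRing B] [Algebra R B]

theorem can_pt_injective (T : Over (Spec (CommRingCat.of R))) (φ ψ : B →ₐ[R] Γ(T.left, ⊤))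
    (h : can T ≫ pt φ = can T ≫ pt ψ) : φ = ψ := by
  have h1 : T.left.toSpecΓ ≫ Spec.map (CommRingCat.ofHom φ.toRingHom) =
      T.left.toSpecΓ ≫ Spec.map (CommRingCat.ofHom ψ.toRingHom) := congrArg CommaMorphism.left h
  have h2 := congrArg Scheme.Hom.appTop h1
  rw [Scheme.Hom.comp_appTop, Scheme.Hom.comp_appTop, Scheme.toSpecΓ_appTop,
    Scheme.ΓSpecIso_naturality, Scheme.ΓSpecIso_naturality] at h2
  have h3 := (cancel_epi _).mp h2
  exact AlgHom.coe_ringHom_injective (congrArg CommRingCat.Hom.hom h3)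

theorem exists_factor (T : Over (Spec (CommRingCat.of R))) (ζ : T ⟶ sp R B) :
    ∃ φ : B →ₐ[R] Γ(T.left, ⊤), ζ = can T ≫ pt φ := by
  let f : T.left ⟶ Spec (CommRingCat.of B) := ζ.left
  let φ₀ : CommRingCat.of B ⟶ Γ(T.left, ⊤) := (Scheme.ΓSpecIso (CommRingCat.of B)).inv ≫ f.appTop
  have hw : f ≫ Spec.map (CommRingCat.ofHom (algebraMap R B)) = T.hom := Over.w ζ
  have hcomm : CommRingCat.ofHom (algebraMap R B) ≫ φ₀ =
      CommRingCat.ofHom (algebraMap R Γ(T.left, ⊤)) := by
    rw [algebraMap_gamma, ← hw, Scheme.Hom.comp_appTop]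
    change CommRingCat.ofHom (algebraMap R B) ≫ (Scheme.ΓSpecIso (CommRingCat.of B)).inv ≫ f.appTop = _
    rw [← Category.assoc, Scheme.ΓSpecIso_inv_naturality, Category.assoc]
  let φ : B →ₐ[R] Γ(T.left, ⊤) :=
    { toRingHom := φ₀.hom
      commutes' := fun r => by
        have := congrArg (fun χ : CommRingCat.of R ⟶ Γ(T.left, ⊤) => χ.hom r) hcomm
        exact this }
  refine ⟨φ, ?_⟩
  apply Over.OverMorphism.ext
  change f = T.left.toSpecΓ ≫ Spec.map φ₀
  rw [Spec.map_comp, ← Scheme.toSpecΓ_naturality_assoc, toSpecΓ_SpecMap_ΓSpecIso_inv,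
    Category.comp_id]

section Action

variable {A : Type u} [CommRing A] [HopfAlgebra R A] [HopfRep.Comod R A B] [GLin.IsCoactAlg R A B]

/-- ring-level form of "`g` fixes `ζ`" -/
theorem fixes_iff (T : Over (Spec (CommRingCat.of R))) (gm : A →ₐ[R] Γ(T.left, ⊤))
    (z : B →ₐ[R] Γ(T.left, ⊤)) :
    lift (can T ≫ pt gm) (can T ≫ pt z) ≫ (action R A B).act = can T ≫ pt z ↔
      (Algebra.TensorProduct.lift z (gm.comp (HopfAlgebra.antipodeAlgHom R A))
        (fun _ _ => .all _ _)).comp (GLin.coactAlgHom R A B) = z := by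
  rw [← comp_lift, Category.assoc, lift_pt_action_act (R := R) (A := A) (B := B) gm z]
  constructor
  · exact can_pt_injective T _ _
  · intro h
    rw [h]

/-- ring-level form of "`g = 1`" -/
theorem eq_one_iff (T : Over (Spec (CommRingCat.of R))) (gm : A →ₐ[R] Γ(T.left, ⊤)) :
    can T ≫ pt gm = 1 ↔
      gm = (Algebra.ofId R Γ(T.left, ⊤)).comp (Bialgebra.counitAlgHom R A) := by
  have h1 : (1 : T ⟶ sp R A) =
      can T ≫ pt ((Algebra.ofId R Γ(T.left, ⊤)).comp (Bialgebra.counitAlgHom R A)) := by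
    rw [← one_eq_pt, MonObj.comp_one]
  rw [h1]
  constructor
  · exact can_pt_injective T _ _
  · intro h
    rw [h]

end Action

end Groth.Agent.R2.H33.HopfPts
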