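import Mathlib
import Groth.Prelude.Def_CoactBr
import Groth.Agent.R2.H33HopfOrbit
import Groth.Agent.R2.H33HopfPts

/-!
# Freeness of a finite group scheme action from trivial inertia (helper33)

`stabIdeal R A B ⊆ B ⊗ A` cuts out the stabilizer `{(x, g) | x · g = x}` in `X × G`;
`Triv R A B f` says that over `D(f) ⊆ X` the stabilizer is the unit section.
-/

set_option autoImplicit false
set_option linter.style.haveILetI false
universe u
open CategoryTheory MonoidalCategory CartesianMonoidalCategory MonObj AlgebraicGeometry WithConv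
open TensorProduct
open CoactBr
open Groth.Agent.R2.H33.HopfOrbit

namespace Groth.Agent.R2.H33.HopfFree

section Ring

variable (R A B : Type u) [CommRing R] [CommRing A] [HopfAlgebra R A] [CommRing B] [Algebra R B]
  [HopfRep.Comod R A B] [GLin.IsCoactAlg R A B]

/-- the ideal of the stabilizer in `B ⊗ A` -/
def stabIdeal : Ideal (B ⊗[R] A) :=
  Ideal.span (Set.range fun b : B => tau R A B b - b ⊗ₜ[R] (1 : A))

/-- `f ∈ B` trivialises the stabilizer -/
def Triv (f : B) : Prop :=
  ∀ a : A, f ⊗ₜ[R] a - (Bialgebra.counitAlgHom R A a • f) ⊗ₜ[R] (1 : A) ∈ stabIdeal R A B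

theorem tau_sub_mem (b : B) : tau R A B b - b ⊗ₜ[R] (1 : A) ∈ stabIdeal R A B :=
  Ideal.subset_span ⟨b, rfl⟩

theorem eps_eq_zero_of_mem {j : B ⊗[R] A} (hj : j ∈ stabIdeal R A B) : eps R A B j = 0 := by
  have hle : stabIdeal R A B ≤ RingHom.ker (eps R A B).toRingHom := by
    rw [stabIdeal, Ideal.span_le]
    rintro _ ⟨b, rfl⟩
    change eps R A B (tau R A B b - b ⊗ₜ[R] (1 : A)) = 0
    rw [map_sub, eps_tau, eps_includeLeft, sub_self]
  exact hle hj

variable {R A B}

/-- ring-level freeness over the locus where `f` is invertible -/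
theorem eq_counit_of_triv {f : B} (hf : Triv R A B f) {W : Type u} [CommRing W] [Algebra R W]
    (z : B →ₐ[R] W) (g' : A →ₐ[R] W) (hunit : IsUnit (z f))
    (hfix : (Algebra.TensorProduct.lift z g' (fun _ _ => .all _ _)).comp (GLin.coactAlgHom R A B) = z) :
    g' = (Algebra.ofId R W).comp (Bialgebra.counitAlgHom R A) := by
  let φ := Algebra.TensorProduct.lift z g' (fun _ _ => .all _ _)
  have hkill : ∀ j ∈ stabIdeal R A B, φ j = 0 := by
    have hle : stabIdeal R A B ≤ RingHom.ker φ.toRingHom := by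
      rw [stabIdeal, Ideal.span_le]
      rintro _ ⟨b, rfl⟩
      change φ (tau R A B b - b ⊗ₜ[R] (1 : A)) = 0
      have h1 := AlgHom.congr_fun hfix b
      rw [AlgHom.comp_apply] at h1
      rw [map_sub, h1, Algebra.TensorProduct.lift_tmul, map_one, _root_.mul_one, sub_self]
    exact fun j hj => hle hj
  ext a
  have h := hkill _ (hf a)
  rw [map_sub, Algebra.TensorProduct.lift_tmul, Algebra.TensorProduct.lift_tmul, map_one, _root_.mul_one,
    map_smul, Algebra.smul_def, mul_comm (algebraMap R W _), ← mul_sub] at h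
  have h2 := hunit.mul_left_cancel (h.trans (mul_zero _).symm)
  rw [sub_eq_zero] at h2
  rw [h2]
  rfl

/-- if `g ∘ S` is the unit point then so is `g` -/
theorem eq_counit_of_comp_antipode {W : Type u} [CommRing W] [Algebra R W] (g : A →ₐ[R] W)
    (h : g.comp (HopfAlgebra.antipodeAlgHom R A) =
      (Algebra.ofId R W).comp (Bialgebra.counitAlgHom R A)) :
    g = (Algebra.ofId R W).comp (Bialgebra.counitAlgHom R A) := by
  have h1 := inv_mul_conv g
  rw [h] at h1
  have h2 : toConv ((Algebra.ofId R W).comp (Bialgebra.counitAlgHom R A)) = 1 := rfl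
  rw [h2, _root_.one_mul] at h1
  exact congrArg WithConv.ofConv h1

/-- if the inertia at `xq : B → κ` is trivial, then any `W`-point of `G` (with `W` a `κ`-algebra)
fixing the image of `xq` (for the right action) is the unit -/
theorem eq_counit_of_pointwise_trivial {κ : Type u} [CommRing κ] [Algebra R κ] (xq : B →ₐ[R] κ)
    (htriv : ∀ (T : Over (Spec (CommRingCat.of R))) (h : T ⟶ sp R κ) (g : T ⟶ sp R A),
      CartesianMonoidalCategory.lift g (h ≫ pt xq) ≫ (action R A B).act = h ≫ pt xq → g = 1)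
    {W : Type u} [CommRing W] [Algebra R W] (hW : κ →ₐ[R] W) (gm : A →ₐ[R] W)
    (hfix : (Algebra.TensorProduct.lift (hW.comp xq) gm (fun _ _ => .all _ _)).comp
      (GLin.coactAlgHom R A B) = hW.comp xq) :
    gm = (Algebra.ofId R W).comp (Bialgebra.counitAlgHom R A) := by
  have hpt : CartesianMonoidalCategory.lift (pt gm)⁻¹ (pt hW ≫ pt xq) ≫
      (action R A B).act = pt hW ≫ pt xq := by
    rw [← pt_comp, lift_action_act (R := R) (A := A) (B := B) (pt gm)⁻¹ (pt (hW.comp xq)), inv_inv,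
      lift_pt_ract, hfix]
  have h1 := htriv (sp R W) (pt hW) (pt gm)⁻¹ hpt
  have h2 : pt gm = 1 := inv_eq_one.mp h1
  rw [one_eq_pt] at h2
  exact pt_injective h2

end Ring

section Key

variable (R A B : Type u) [CommRing R] [CommRing A] [HopfAlgebra R A] [CommRing B] [Algebra R B]
  [HopfRep.Comod R A B] [GLin.IsCoactAlg R A B]

variable {R A B} in
/-- Step 1 (generic target `W`): on a `κ`-algebra `W` receiving the stabilizer of `xq`, the
`G`-coordinate is the unit. -/
theorem piW_eq {κ : Type u} [CommRing κ] [Algebra R κ] (xq : B →ₐ[R] κ)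
    (htriv : ∀ (T : Over (Spec (CommRingCat.of R))) (h : T ⟶ sp R κ) (g : T ⟶ sp R A),
      CartesianMonoidalCategory.lift g (h ≫ pt xq) ≫ (action R A B).act = h ≫ pt xq → g = 1)
    {W : Type u} [CommRing W] [Algebra R W] (hW : κ →ₐ[R] W) (piW : (B ⊗[R] A) →ₐ[R] W)
    (h1 : ∀ b : B, piW (b ⊗ₜ[R] (1 : A)) = hW (xq b))
    (h2 : ∀ j ∈ stabIdeal R A B, piW j = 0) (b : B) (a : A) :
    piW (b ⊗ₜ[R] a) = hW (xq b * algebraMap R κ (Bialgebra.counitAlgHom R A a)) := by
  let gm : A →ₐ[R] W := piW.comp Algebra.TensorProduct.includeRight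
  let z : B →ₐ[R] W := hW.comp xq
  have hlift : Algebra.TensorProduct.lift z gm (fun _ _ => .all _ _) = piW := by
    apply Algebra.TensorProduct.ext'
    intro b a
    rw [Algebra.TensorProduct.lift_tmul]
    change hW (xq b) * piW ((1 : B) ⊗ₜ[R] a) = _
    rw [← h1, ← map_mul, Algebra.TensorProduct.tmul_mul_tmul, _root_.mul_one, _root_.one_mul]
  have hfix : (Algebra.TensorProduct.lift z gm (fun _ _ => .all _ _)).comp
      (GLin.coactAlgHom R A B) = z := by
    ext b
    rw [hlift, AlgHom.comp_apply]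
    change _ = hW (xq b)
    rw [← h1]
    have := h2 _ (tau_sub_mem R A B b)
    rw [map_sub, sub_eq_zero] at this
    exact this
  have h3 : gm = (Algebra.ofId R W).comp (Bialgebra.counitAlgHom R A) :=
    eq_counit_of_pointwise_trivial xq htriv hW gm hfix
  have e2 : piW (b ⊗ₜ[R] a) = z b * gm a := by
    rw [← hlift, Algebra.TensorProduct.lift_tmul]
  have e3 : gm a = hW (algebraMap R κ (Bialgebra.counitAlgHom R A a)) := by
    rw [h3, AlgHom.commutes]
    rfl
  rw [e2, e3, map_mul]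
  rfl

/-- Step 3 (pure commutative algebra): a finite `B`-algebra `L` whose fibre at `q` is spanned by `1`
is, over some `D(f) ∋ q`, spanned by `1`. -/
theorem exists_smul_mem_range {B : Type u} [CommRing B] (L : Type u) [CommRing L] [Algebra B L]
    [Module.Finite B L] (q : Ideal B) [q.IsPrime]
    (hspan : ∀ l : L, ∃ c : q.ResidueField, (1 : q.ResidueField) ⊗ₜ[B] l = c ⊗ₜ[B] (1 : L)) :
    ∃ f : B, f ∉ q ∧ ∀ l : L, ∃ b : B, f • l = algebraMap B L b := by
  let N₁ : Submodule B L := Submodule.span B {(1 : L)}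
  have hspan' : ∀ ω : q.ResidueField ⊗[B] L, ∃ c : q.ResidueField, ω = c ⊗ₜ[B] (1 : L) := by
    intro ω
    induction ω using TensorProduct.induction_on with
    | zero => exact ⟨0, (TensorProduct.zero_tmul _ _).symm⟩
    | add x y hx hy =>
      obtain ⟨c₁, rfl⟩ := hx
      obtain ⟨c₂, rfl⟩ := hy
      exact ⟨c₁ + c₂, (TensorProduct.add_tmul _ _ _).symm⟩
    | tmul c l =>
      obtain ⟨c', hc'⟩ := hspan l
      refine ⟨c * c', ?_⟩
      have : c ⊗ₜ[B] l = c • ((1 : q.ResidueField) ⊗ₜ[B] l) := by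
        rw [TensorProduct.smul_tmul', smul_eq_mul, _root_.mul_one]
      rw [this, hc', TensorProduct.smul_tmul', smul_eq_mul]
  have hsub : Subsingleton (q.ResidueField ⊗[B] (L ⧸ N₁)) := by
    refine subsingleton_of_forall_eq 0 fun t => ?_
    obtain ⟨ω, rfl⟩ := LinearMap.lTensor_surjective q.ResidueField (Submodule.mkQ_surjective N₁) t
    obtain ⟨c, rfl⟩ := hspan' ω
    rw [LinearMap.lTensor_tmul]
    have : N₁.mkQ (1 : L) = 0 := by
      rw [Submodule.mkQ_apply, Submodule.Quotient.mk_eq_zero]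
      exact Submodule.mem_span_singleton_self _
    rw [this, TensorProduct.tmul_zero]
  have hns : (⟨q, inferInstance⟩ : PrimeSpectrum B) ∉ Module.support B (L ⧸ N₁) := by
    rw [Module.mem_support_iff_nontrivial_residueField_tensorProduct]
    exact not_nontrivial _
  rw [Module.mem_support_iff_of_finite] at hns
  obtain ⟨f, hfann, hfq⟩ := SetLike.not_le_iff_exists.mp hns
  refine ⟨f, hfq, fun l => ?_⟩
  have h4 : f • N₁.mkQ l = 0 := Module.mem_annihilator.mp hfann _
  rw [← map_smul, Submodule.mkQ_apply, Submodule.Quotient.mk_eq_zero,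
    Submodule.mem_span_singleton] at h4
  obtain ⟨b, hb⟩ := h4
  exact ⟨b, by rw [← hb, Algebra.algebraMap_eq_smul_one]⟩

variable {R A B} in
/-- Step 2 (generic `B`-algebra `L` receiving the stabilizer): the fibre of `L` at `q` is spanned
by `1`. -/
theorem fibre_spanned {L : Type u} [CommRing L] [Algebra R L] [Algebra B L] [IsScalarTower R B L]
    (q : Ideal B) [q.IsPrime]
    (htriv : ∀ (T : Over (Spec (CommRingCat.of R))) (h : T ⟶ sp R q.ResidueField)
      (g : T ⟶ sp R A),
      CartesianMonoidalCategory.lift g (h ≫ pt (IsScalarTower.toAlgHom R B q.ResidueField)) ≫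
          (action R A B).act =
        h ≫ pt (IsScalarTower.toAlgHom R B q.ResidueField) → g = 1)
    (π : (B ⊗[R] A) →ₐ[R] L) (h1 : ∀ b : B, π (b ⊗ₜ[R] (1 : A)) = algebraMap B L b)
    (h2 : ∀ j ∈ stabIdeal R A B, π j = 0) (l : B ⊗[R] A) :
    ∃ c : q.ResidueField, (1 : q.ResidueField) ⊗ₜ[B] (π l) = c ⊗ₜ[B] (1 : L) := by
  let xq : B →ₐ[R] q.ResidueField := IsScalarTower.toAlgHom R B q.ResidueField
  let hW : q.ResidueField →ₐ[R] q.ResidueField ⊗[B] L := Algebra.TensorProduct.includeLeft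
  let piW : (B ⊗[R] A) →ₐ[R] q.ResidueField ⊗[B] L :=
    ((Algebra.TensorProduct.includeRight : L →ₐ[B] q.ResidueField ⊗[B] L).restrictScalars R).comp π
  have hpi : ∀ l : B ⊗[R] A, piW l = (1 : q.ResidueField) ⊗ₜ[B] (π l) := fun l => rfl
  have hi : ∀ b : B, piW (b ⊗ₜ[R] (1 : A)) = hW (xq b) := by
    intro b
    change _ = (algebraMap B q.ResidueField b) ⊗ₜ[B] (1 : L)
    rw [hpi, h1, Algebra.algebraMap_eq_smul_one, TensorProduct.tmul_smul, TensorProduct.smul_tmul',
      Algebra.algebraMap_eq_smul_one]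
  have hii : ∀ j ∈ stabIdeal R A B, piW j = 0 := by
    intro j hj
    rw [hpi, h2 j hj, TensorProduct.tmul_zero]
  have key := piW_eq xq htriv hW piW hi hii
  induction l using TensorProduct.induction_on with
  | zero => exact ⟨0, by rw [map_zero, TensorProduct.tmul_zero, TensorProduct.zero_tmul]⟩
  | add x y hx hy =>
    obtain ⟨c₁, h₁⟩ := hx
    obtain ⟨c₂, h₂⟩ := hy
    exact ⟨c₁ + c₂, by rw [map_add, TensorProduct.tmul_add, h₁, h₂, TensorProduct.add_tmul]⟩
  | tmul b a =>
    exact ⟨xq b * algebraMap R q.ResidueField (Bialgebra.counitAlgHom R A a), key b a⟩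

/-- **Key lemma.** If the inertia at the canonical point of a prime `q` of `B` is trivial, the
stabilizer is trivial over a basic open neighbourhood `D(f)` of `q`. -/
theorem exists_triv_of_inertia_trivial [Module.Finite R A] (q : Ideal B) [q.IsPrime]
    (htriv : ∀ (T : Over (Spec (CommRingCat.of R))) (h : T ⟶ sp R q.ResidueField)
      (g : T ⟶ sp R A),
      CartesianMonoidalCategory.lift g (h ≫ pt (IsScalarTower.toAlgHom R B q.ResidueField)) ≫
          (action R A B).act =
        h ≫ pt (IsScalarTower.toAlgHom R B q.ResidueField) → g = 1) :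
    ∃ f : B, f ∉ q ∧ Triv R A B f := by
  let J := stabIdeal R A B
  let Lb := (B ⊗[R] A) ⧸ J
  have hfinL : Module.Finite B Lb :=
    Module.Finite.of_surjective (Ideal.Quotient.mkₐ B J).toLinearMap
      (Ideal.Quotient.mkₐ_surjective B J)
  have hmk1 : ∀ b : B, Ideal.Quotient.mkₐ R J (b ⊗ₜ[R] (1 : A)) = algebraMap B Lb b := fun b => rfl
  have hmk2 : ∀ j ∈ stabIdeal R A B, Ideal.Quotient.mkₐ R J j = 0 := fun j hj =>
    Ideal.Quotient.eq_zero_iff_mem.mpr hj
  have hspan : ∀ lb : Lb, ∃ c : q.ResidueField,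
      (1 : q.ResidueField) ⊗ₜ[B] lb = c ⊗ₜ[B] (1 : Lb) := by
    intro lb
    obtain ⟨l, rfl⟩ := Ideal.Quotient.mk_surjective lb
    exact fibre_spanned (L := Lb) q htriv (Ideal.Quotient.mkₐ R J) hmk1 hmk2 l
  obtain ⟨f, hfq, hf⟩ := exists_smul_mem_range Lb q hspan
  refine ⟨f, hfq, fun a => ?_⟩
  obtain ⟨b, hb⟩ := hf (Ideal.Quotient.mk J ((1 : B) ⊗ₜ[R] a))
  have h5 : algebraMap B Lb b = Ideal.Quotient.mk J (b ⊗ₜ[R] (1 : A)) := rfl
  have h6 : f • Ideal.Quotient.mk J ((1 : B) ⊗ₜ[R] a) = Ideal.Quotient.mk J (f ⊗ₜ[R] a) := by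
    refine (Algebra.smul_def (A := Lb) f _).trans ?_
    change Ideal.Quotient.mk J (f ⊗ₜ[R] (1 : A)) * _ = _
    rw [← map_mul, Algebra.TensorProduct.tmul_mul_tmul, _root_.mul_one, _root_.one_mul]
  rw [h5, h6, Ideal.Quotient.eq] at hb
  -- `f ⊗ a - b ⊗ 1 ∈ J`; apply `eps`
  have h7 := eps_eq_zero_of_mem R A B hb
  have h8 : eps R A B (f ⊗ₜ[R] a) = Bialgebra.counitAlgHom R A a • f := by
    simp [eps, Algebra.smul_def, mul_comm]
  rw [map_sub, eps_includeLeft, h8, sub_eq_zero] at h7
  rw [h7]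
  exact hb

end Key

section Ideal

variable (R A B : Type u) [CommRing R] [CommRing A] [HopfAlgebra R A] [CommRing B] [Algebra R B]
  [HopfRep.Comod R A B] [GLin.IsCoactAlg R A B]

/-- the trivialising elements form an ideal of `B` -/
def trivIdeal : Ideal B where
  carrier := {f | Triv R A B f}
  zero_mem' := fun a => by
    rw [smul_zero, TensorProduct.zero_tmul, TensorProduct.zero_tmul, sub_zero]
    exact Ideal.zero_mem _
  add_mem' := fun {f g} hf hg a => by
    have : (f + g) ⊗ₜ[R] a - (Bialgebra.counitAlgHom R A a • (f + g)) ⊗ₜ[R] (1 : A) =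
        (f ⊗ₜ[R] a - (Bialgebra.counitAlgHom R A a • f) ⊗ₜ[R] (1 : A)) +
          (g ⊗ₜ[R] a - (Bialgebra.counitAlgHom R A a • g) ⊗ₜ[R] (1 : A)) := by
      rw [TensorProduct.add_tmul, smul_add, TensorProduct.add_tmul]
      abel
    rw [this]
    exact Ideal.add_mem _ (hf a) (hg a)
  smul_mem' := fun c f hf a => by
    have : (c • f) ⊗ₜ[R] a - (Bialgebra.counitAlgHom R A a • (c • f)) ⊗ₜ[R] (1 : A) =
        (c ⊗ₜ[R] (1 : A)) * (f ⊗ₜ[R] a - (Bialgebra.counitAlgHom R A a • f) ⊗ₜ[R] (1 : A)) := by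
      rw [mul_sub, Algebra.TensorProduct.tmul_mul_tmul, Algebra.TensorProduct.tmul_mul_tmul,
        _root_.one_mul, _root_.one_mul, smul_eq_mul, mul_smul_comm]
    rw [this]
    exact Ideal.mul_mem_left _ _ (hf a)

theorem mem_trivIdeal (f : B) : f ∈ trivIdeal R A B ↔ Triv R A B f := Iff.rfl

variable {R A B} in
/-- local trivialisations at all maximal ideals glue -/
theorem triv_one_of_forall_maximal
    (h : ∀ 𝔫 : Ideal B, 𝔫.IsMaximal → ∃ f : B, f ∉ 𝔫 ∧ Triv R A B f) : Triv R A B 1 := by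
  rw [← mem_trivIdeal, ← Ideal.eq_top_iff_one]
  by_contra hne
  obtain ⟨𝔫, h𝔫, hle⟩ := Ideal.exists_le_maximal _ hne
  obtain ⟨f, hf, hft⟩ := h 𝔫 h𝔫
  exact hf (hle hft)

end Ideal

section Free

open Groth.Agent.R2.H33.HopfPts

attribute [local instance] gammaAlgebra

variable {R A B : Type u} [CommRing R] [CommRing A] [HopfAlgebra R A] [CommRing B] [Algebra R B]
  [HopfRep.Comod R A B] [GLin.IsCoactAlg R A B]

/-- a globally trivial stabilizer means the action is free -/
theorem free_of_triv_one (h1 : Triv R A B 1) (T : Over (Spec (CommRingCat.of R)))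
    (ζ : T ⟶ sp R B) (g : T ⟶ sp R A)
    (hg : CartesianMonoidalCategory.lift g ζ ≫ (action R A B).act = ζ) : g = 1 := by
  obtain ⟨z, rfl⟩ := exists_factor T ζ
  obtain ⟨gm, rfl⟩ := exists_factor T g
  rw [fixes_iff] at hg
  rw [eq_one_iff]
  apply eq_counit_of_comp_antipode
  exact eq_counit_of_triv h1 z _ (by rw [map_one]; exact isUnit_one) hg

end Free

end Groth.Agent.R2.H33.HopfFree
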