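import Mathlib
import Groth.Prelude.Def_CoactBr
import Groth.Agent.R2.H33HopfOrbit
import Groth.Agent.R2.H33HopfInertia
import Groth.Agent.R2.H33HopfFibre
import Groth.Agent.Lib.Helper2RetCharpoly

/-!
# The quotient `Spec B → Spec B^A` for a finite locally free Hopf algebra (helper33)

* `isIntegral_invariants` : `B` is integral over `B^A` (`A` finite projective);
* `exists_translate'` : two geometric points of `B` agreeing on `B^A` are translates;
* `inertia_trivial_transfer'` : triviality of inertia is constant along fibres of `Spec B → Spec B^A`.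
-/

set_option autoImplicit false
set_option linter.style.haveILetI false
set_option linter.unusedSectionVars false
universe u

open CategoryTheory CategoryTheory.Limits TensorProduct Polynomial
open Groth.Agent.Lib.Helper2.RetCharpoly Groth.Agent.R2.H33.RetNorm
open Groth.Agent.R2.H33.HopfOrbit

namespace Groth.Agent.R2.H33.HopfQuot

section Generic

/-- base change of a "retract characteristic polynomial" along a pushout square of commutative
rings, with the left leg an `algebraMap` -/
theorem isRCP_bc' {R S T P : Type u} [CommRing R] [CommRing S] [CommRing T] [CommRing P]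
    [Algebra R S] (g : R →+* T) (inl : S →+* P) (inr : T →+* P)
    (h : IsPushout (CommRingCat.ofHom (algebraMap R S)) (CommRingCat.ofHom g)
      (CommRingCat.ofHom inl) (CommRingCat.ofHom inr)) (n : ℕ) (b : S) (χ : R[X])
    (hχ : IsRCP R S n b χ) :
    letI := inr.toAlgebra
    IsRCP T P n (inl b) (χ.map g) := by
  algebraize [g, inl, inr, inl.comp (algebraMap R S)]
  have : IsScalarTower R T P := .of_algebraMap_eq' <| congr($(h.1.1).hom)
  have h1 : Algebra.IsPushout R S T P := CommRingCat.isPushout_iff_isPushout.mp h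
  have h2 : Algebra.IsPushout R T S P := h1.symm
  exact IsRCP.bc hχ

end Generic

section Integral

variable (R A B : Type u) [CommRing R] [CommRing A] [HopfAlgebra R A] [CommRing B] [Algebra R B]
  [HopfRep.Comod R A B] [GLin.IsCoactAlg R A B]

/-- `B` is integral over the invariants `B^A` when `A` is finite projective over `R`. -/
theorem isIntegral_invariants [Module.Finite R A] [Module.Projective R A] :
    Algebra.IsIntegral (GLin.invariants R A B) B := by
  let σ : B →+* B ⊗[R] A := algebraMap B (B ⊗[R] A)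
  let τ : B →+* B ⊗[R] A := (tau R A B).toRingHom
  let ε : B ⊗[R] A →+* B := (eps R A B).toRingHom
  have hεσ : ∀ b, ε (σ b) = b := fun b => eps_includeLeft R A B b
  have hετ : ∀ b, ε (τ b) = b := fun b => eps_tau R A B b
  obtain ⟨n, hn⟩ := exists_isRCP B (B ⊗[R] A)
  constructor
  intro f
  obtain ⟨χ, hχ⟩ := hn (τ f)
  have e1 := isRCP_bc' τ (inl₁ R A B).toRingHom (inr R A B).toRingHom (isPushout₁ R A B) n (τ f) χ hχ
  have e2 := isRCP_bc' σ (inl₂ R A B).toRingHom (inr R A B).toRingHom (isPushout₂ R A B) n (τ f) χ hχ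
  have hc : (inl₂ R A B).toRingHom (τ f) = (inl₁ R A B).toRingHom (τ f) := inl₂_tau R A B f
  have hmap : χ.map σ = χ.map τ := by
    letI := (inr R A B).toRingHom.toAlgebra
    refine IsRCP.unique ?_ e1
    have e2' : IsRCP (B ⊗[R] A) ((B ⊗[R] A) ⊗[R] A) n ((inl₂ R A B).toRingHom (τ f)) (χ.map σ) := e2
    rw [hc] at e2'
    exact e2'
  have hcoef : ∀ k, χ.coeff k ∈ GLin.invariants R A B := by
    intro k
    have := congrArg (fun q => q.coeff k) hmap
    simp only [Polynomial.coeff_map] at this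
    rw [GLin.mem_invariants_iff]
    exact this.symm
  have h0 : aeval (τ f) χ = 0 := hχ.aeval_eq_zero
  have hmonic : χ.Monic := hχ.monic
  have h1 : eval₂ (RingHom.id _) f χ = 0 := by
    have h2 : eval₂ σ (τ f) χ = 0 := h0
    have h3 := congrArg ε h2
    rw [Polynomial.hom_eval₂, map_zero, hετ] at h3
    have h4 : ε.comp σ = RingHom.id _ := RingHom.ext hεσ
    rwa [h4] at h3
  have hsub : (↑χ.coeffs : Set B) ⊆ (GLin.invariants R A B).toSubring := by
    intro a ha
    obtain ⟨k, -, rfl⟩ := Polynomial.mem_coeffs_iff.mp ha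
    exact hcoef k
  refine ⟨χ.toSubring (GLin.invariants R A B).toSubring hsub,
    (Polynomial.monic_toSubring _ _ _).mpr hmonic, ?_⟩
  have h5 : (χ.toSubring (GLin.invariants R A B).toSubring hsub).map
      (Subring.subtype (GLin.invariants R A B).toSubring) = χ :=
    Polynomial.map_toSubring _ _ _
  rw [← h5, Polynomial.eval₂_map] at h1
  exact h1

end Integral

section Translate

variable (R A B : Type u) [CommRing R] [CommRing A] [HopfAlgebra R A] [CommRing B] [Algebra R B]
  [HopfRep.Comod R A B] [GLin.IsCoactAlg R A B]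

/-- **Transitivity on geometric fibres of `Spec B → Spec B^A`.** For `K` algebraically closed, two
`K`-points of `B` that agree on the invariants are translates of one another by a `K`-point of
`A`. -/
theorem exists_translate' [Module.Finite R A] [Module.Projective R A]
    (K : Type u) [Field K] [IsAlgClosed K] [Algebra R K] (x₁ x₂ : B →ₐ[R] K)
    (hagree : ∀ c ∈ GLin.invariants R A B, x₁ c = x₂ c) :
    ∃ g : A →ₐ[R] K,
      (Algebra.TensorProduct.lift x₂ g (fun _ _ => .all _ _)).comp (GLin.coactAlgHom R A B) = x₁ := by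
  obtain ⟨n, ⟨r⟩⟩ := exists_ret B (B ⊗[R] A)
  obtain ⟨X, Y, hXY⟩ := exists_XY_of_isPushout (tau R A B).toRingHom (inl₁ R A B).toRingHom
    (inl₂ R A B).toRingHom (inr R A B).toRingHom (isPushout₁ R A B) (isPushout₂ R A B)
    (inl₂_tau R A B) r
  have hεσ : ∀ b, (eps R A B).toRingHom (algebraMap B (B ⊗[R] A) b) = b := fun b =>
    eps_includeLeft R A B b
  have hετ : ∀ b, (eps R A B).toRingHom ((tau R A B).toRingHom b) = b := fun b => eps_tau R A B b
  have hx : ∀ c, algebraMap B (B ⊗[R] A) c = (tau R A B).toRingHom c →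
      x₁.toRingHom c = x₂.toRingHom c := by
    intro c hc
    have hmem : c ∈ GLin.invariants R A B := by
      rw [GLin.mem_invariants_iff]
      exact hc.symm
    exact hagree c hmem
  obtain ⟨ρ, hρτ, hρσ⟩ := exists_point_of_eq_on_invariants (tau R A B).toRingHom
    (eps R A B).toRingHom hεσ hετ r X Y hXY K x₁.toRingHom x₂.toRingHom hx
  have hσ : ∀ b : B, ρ (b ⊗ₜ[R] (1 : A)) = x₂ b := fun b => RingHom.congr_fun hρσ b
  have hτ : ∀ b : B, ρ (tau R A B b) = x₁ b := fun b => RingHom.congr_fun hρτ b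
  let g : A →ₐ[R] K :=
    { toRingHom := ρ.comp (Algebra.TensorProduct.includeRight : A →ₐ[R] B ⊗[R] A).toRingHom
      commutes' := by
        intro c
        change ρ ((1 : B) ⊗ₜ[R] algebraMap R A c) = algebraMap R K c
        have h1 : (1 : B) ⊗ₜ[R] algebraMap R A c = (algebraMap R B c) ⊗ₜ[R] (1 : A) := by
          rw [Algebra.algebraMap_eq_smul_one, Algebra.algebraMap_eq_smul_one,
            TensorProduct.tmul_smul, TensorProduct.smul_tmul']
        rw [h1, hσ, AlgHom.commutes] }
  have hg : ∀ a : A, g a = ρ ((1 : B) ⊗ₜ[R] a) := fun a => rfl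
  have hlift : ∀ z : B ⊗[R] A, Algebra.TensorProduct.lift x₂ g (fun _ _ => .all _ _) z = ρ z := by
    intro z
    induction z using TensorProduct.induction_on with
    | zero => simp
    | tmul b a =>
      rw [Algebra.TensorProduct.lift_tmul, hg, ← hσ, ← map_mul,
        Algebra.TensorProduct.tmul_mul_tmul, mul_one, one_mul]
    | add x y hx hy => rw [map_add, map_add, hx, hy]
  refine ⟨g, AlgHom.ext fun b => ?_⟩
  rw [AlgHom.comp_apply, hlift]
  exact hτ b

end Translate

section Transfer

open MonoidalCategory CartesianMonoidalCategory MonObj AlgebraicGeometry CoactBr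
open Groth.Agent.R2.H33.HopfInertia Groth.Agent.R2.H33.HopfFibre

variable (R A B : Type u) [CommRing R] [CommRing A] [HopfAlgebra R A] [CommRing B] [Algebra R B]
  [HopfRep.Comod R A B] [GLin.IsCoactAlg R A B]

/-- transfer of trivial inertia, given a common algebraically closed overfield in which the two
points agree on the invariants -/
theorem transfer_core [Module.Finite R A] [Module.Projective R A]
    {K₁ K₂ K : Type u} [Field K₁] [Algebra R K₁] [Field K₂] [Algebra R K₂]
    [Field K] [IsAlgClosed K] [Algebra R K]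
    (x₁ : B →ₐ[R] K₁) (x₂ : B →ₐ[R] K₂) (i₁ : K₁ →ₐ[R] K) (i₂ : K₂ →ₐ[R] K)
    (hagree : ∀ c ∈ GLin.invariants R A B, i₁ (x₁ c) = i₂ (x₂ c))
    (h₁ : ∀ (T : Over (Spec (CommRingCat.of R))) (h : T ⟶ CoactBr.sp R K₁) (g : T ⟶ CoactBr.sp R A),
      CartesianMonoidalCategory.lift g (h ≫ CoactBr.pt x₁) ≫ (CoactBr.action R A B).act =
        h ≫ CoactBr.pt x₁ → g = 1)
    (T : Over (Spec (CommRingCat.of R))) (h : T ⟶ CoactBr.sp R K₂) (g : T ⟶ CoactBr.sp R A)
    (hg : CartesianMonoidalCategory.lift g (h ≫ CoactBr.pt x₂) ≫ (CoactBr.action R A B).act =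
      h ≫ CoactBr.pt x₂) :
    g = 1 := by
  obtain ⟨T', p, h', hp, hph⟩ := exists_cover i₂ T h
  let y₁ : B →ₐ[R] K := i₁.comp x₁
  let y₂ : B →ₐ[R] K := i₂.comp x₂
  obtain ⟨gm, hgm⟩ := exists_translate' R A B K y₂ y₁ (fun c hc => (hagree c hc).symm)
  have hy₂ : pt y₂ = pt i₂ ≫ pt x₂ := pt_comp x₂ i₂
  have hy₁ : pt y₁ = pt i₁ ≫ pt x₁ := pt_comp x₁ i₁
  have hfix : CartesianMonoidalCategory.lift (p ≫ g) (h' ≫ pt y₂) ≫ (action R A B).act =
      h' ≫ pt y₂ := by
    rw [hy₂, ← Category.assoc, ← hph, Category.assoc, ← comp_lift, Category.assoc, hg]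
  have hconj := (inertia_conj_of_translate y₂ y₁ gm hgm T' h' (p ≫ g)).mp hfix
  rw [hy₁, ← Category.assoc] at hconj
  have h1 := h₁ T' (h' ≫ pt i₁) _ hconj
  have h2 : p ≫ g = 1 := by
    have e : p ≫ g = (h' ≫ (pt gm)⁻¹) * ((h' ≫ (pt gm)⁻¹)⁻¹ * (p ≫ g) * (h' ≫ (pt gm)⁻¹)) *
        (h' ≫ (pt gm)⁻¹)⁻¹ := by group
    rw [e, h1]
    group
  have h3 : p ≫ g = p ≫ 1 := by rw [h2, MonObj.comp_one]
  exact (cancel_epi p).mp h3

/-- Trivial inertia at one point of a fibre of `Spec B → Spec B^A` implies trivial inertia at every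
other point of that fibre. -/
theorem inertia_trivial_transfer' [Module.Finite R A] [Module.Projective R A]
    {K₁ K₂ : Type u} [Field K₁] [Algebra R K₁] [Field K₂] [Algebra R K₂]
    (x₁ : B →ₐ[R] K₁) (x₂ : B →ₐ[R] K₂)
    (hq : ∀ c ∈ GLin.invariants R A B, x₁ c = 0 ↔ x₂ c = 0)
    (h₁ : ∀ (T : Over (Spec (CommRingCat.of R))) (h : T ⟶ CoactBr.sp R K₁) (g : T ⟶ CoactBr.sp R A),
      CartesianMonoidalCategory.lift g (h ≫ CoactBr.pt x₁) ≫ (CoactBr.action R A B).act =
        h ≫ CoactBr.pt x₁ → g = 1)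
    (T : Over (Spec (CommRingCat.of R))) (h : T ⟶ CoactBr.sp R K₂) (g : T ⟶ CoactBr.sp R A)
    (hg : CartesianMonoidalCategory.lift g (h ≫ CoactBr.pt x₂) ≫ (CoactBr.action R A B).act =
      h ≫ CoactBr.pt x₂) :
    g = 1 := by
  let C := GLin.invariants R A B
  letI algC₁ : Algebra C K₁ := (x₁.toRingHom.comp C.val.toRingHom).toAlgebra
  letI algC₂ : Algebra C K₂ := (x₂.toRingHom.comp C.val.toRingHom).toAlgebra
  have hq' : RingHom.ker (algebraMap C K₁) = RingHom.ker (algebraMap C K₂) := by
    ext c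
    exact hq c.1 c.2
  obtain ⟨K, fK, acK, algCK, ⟨i₁⟩, ⟨i₂⟩⟩ := exists_common_algClosed (R := C) hq'
  letI : Algebra R K := ((algebraMap C K).comp (algebraMap R C)).toAlgebra
  let j₁ : K₁ →ₐ[R] K :=
    { i₁.toRingHom with
      commutes' := fun r => by
        change i₁ (algebraMap R K₁ r) = algebraMap C K (algebraMap R C r)
        rw [← i₁.commutes]
        congr 1
        exact (x₁.commutes r).symm }
  let j₂ : K₂ →ₐ[R] K :=
    { i₂.toRingHom with
      commutes' := fun r => by
        change i₂ (algebraMap R K₂ r) = algebraMap C K (algebraMap R C r)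
        rw [← i₂.commutes]
        congr 1
        exact (x₂.commutes r).symm }
  refine transfer_core R A B x₁ x₂ j₁ j₂ ?_ h₁ T h g hg
  intro c hc
  change i₁ (algebraMap C K₁ ⟨c, hc⟩) = i₂ (algebraMap C K₂ ⟨c, hc⟩)
  rw [i₁.commutes, i₂.commutes]

end Transfer

end Groth.Agent.R2.H33.HopfQuot
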