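import Mathlib
import Groth.Prelude.Def_CoactBr
import Groth.Agent.R2.H33HopfQuot
import Groth.Agent.R2.H33HopfFree

/-!
# Trivial inertia at a point ⟺ freeness over a flat neighbourhood in the quotient (helper33)
-/

set_option autoImplicit false
set_option linter.style.haveILetI false
set_option linter.unusedSectionVars false
universe u

open CategoryTheory CategoryTheory.Limits MonoidalCategory CartesianMonoidalCategory MonObj
open AlgebraicGeometry CoactBr
open Groth.Agent.R2.H33.HopfOrbit Groth.Agent.R2.H33.HopfPts Groth.Agent.R2.H33.HopfFree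
open Groth.Agent.R2.H33.HopfQuot

namespace Groth.Agent.R2.H33.HopfQuotFree

attribute [local instance] gammaAlgebra

section Lift

variable {R : Type u} [CommRing R] {B : Type u} [CommRing B] [Algebra R B]

/-- a lift `t` of (the image of) a `T`-point through `Spec C'' → Spec C'` gives a ring map out of
`C''` -/
theorem exists_ringHom_of_lift (T : Over (Spec (CommRingCat.of R))) (z : B →ₐ[R] Γ(T.left, ⊤))
    {C' C'' : Type u} [CommRing C'] [CommRing C''] (α : C' →+* C'') (ψ : C' →+* B)
    (t : T.left ⟶ Spec (CommRingCat.of C''))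
    (ht : t ≫ Spec.map (CommRingCat.ofHom α) =
      (can T ≫ pt z).left ≫ Spec.map (CommRingCat.ofHom ψ)) :
    ∃ φ : C'' →+* Γ(T.left, ⊤), φ.comp α = z.toRingHom.comp ψ := by
  obtain ⟨φ₀, hφ₀⟩ : ∃ φ₀ : CommRingCat.of C'' ⟶ Γ(T.left, ⊤),
      φ₀ = (Scheme.ΓSpecIso (CommRingCat.of C'')).inv ≫ t.appTop := ⟨_, rfl⟩
  have ht' : t = T.left.toSpecΓ ≫ Spec.map φ₀ := by
    rw [hφ₀, Spec.map_comp, ← Scheme.toSpecΓ_naturality_assoc, toSpecΓ_SpecMap_ΓSpecIso_inv,
      Category.comp_id]
  refine ⟨φ₀.hom, ?_⟩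
  have h1 : T.left.toSpecΓ ≫ Spec.map (CommRingCat.ofHom α ≫ φ₀) =
      T.left.toSpecΓ ≫ Spec.map (CommRingCat.ofHom ψ ≫ CommRingCat.ofHom z.toRingHom) := by
    have e1 : T.left.toSpecΓ ≫ Spec.map (CommRingCat.ofHom α ≫ φ₀) =
        t ≫ Spec.map (CommRingCat.ofHom α) := by
      rw [Spec.map_comp, ← Category.assoc, ← ht']
    rw [e1, ht, Spec.map_comp, ← Category.assoc]
    rfl
  have h2 := congrArg Scheme.Hom.appTop h1
  rw [Scheme.Hom.comp_appTop, Scheme.Hom.comp_appTop, Scheme.toSpecΓ_appTop,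
    Scheme.ΓSpecIso_naturality, Scheme.ΓSpecIso_naturality] at h2
  have h3 := (cancel_epi _).mp h2
  exact congrArg CommRingCat.Hom.hom h3

end Lift

section Main

variable (R A B : Type u) [CommRing R] [CommRing A] [HopfAlgebra R A] [CommRing B] [Algebra R B]
  [HopfRep.Comod R A B] [GLin.IsCoactAlg R A B]

/-- trivial inertia at `x` gives an invariant function, nonzero at `x`, over whose nonvanishing
locus the stabilizer is trivial -/
theorem exists_invariant_triv [Module.Finite R A] [Module.Projective R A]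
    {K : Type u} [Field K] [Algebra R K] (x : B →ₐ[R] K)
    (htriv : ∀ (T : Over (Spec (CommRingCat.of R))) (h : T ⟶ CoactBr.sp R K) (g : T ⟶ CoactBr.sp R A),
      CartesianMonoidalCategory.lift g (h ≫ CoactBr.pt x) ≫ (CoactBr.action R A B).act =
        h ≫ CoactBr.pt x → g = 1) :
    ∃ c₀ ∈ GLin.invariants R A B, x c₀ ≠ 0 ∧ Triv R A B c₀ := by
  let C := GLin.invariants R A B
  have hint : Algebra.IsIntegral C B := isIntegral_invariants R A B
  let p : Ideal C := RingHom.ker (x.toRingHom.comp C.val.toRingHom)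
  have hp : p.IsPrime := RingHom.ker_isPrime _
  by_contra hcon
  push Not at hcon
  have hle : (trivIdeal R A B).comap (algebraMap C B) ≤ p := by
    intro c hc
    by_contra hcp
    exact hcon c.1 c.2 hcp hc
  obtain ⟨Q, hIQ, hQ, hQp⟩ := Ideal.exists_ideal_over_prime_of_isIntegral p (trivIdeal R A B) hle
  have hq : ∀ c ∈ GLin.invariants R A B,
      x c = 0 ↔ (IsScalarTower.toAlgHom R B Q.ResidueField) c = 0 := by
    intro c hc
    change x c = 0 ↔ algebraMap B Q.ResidueField c = 0
    rw [Ideal.algebraMap_residueField_eq_zero]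
    have h1 : (⟨c, hc⟩ : C) ∈ Q.comap (algebraMap C B) ↔ c ∈ Q := Iff.rfl
    rw [← h1, hQp]
    rfl
  have htrivQ : ∀ (T : Over (Spec (CommRingCat.of R))) (h : T ⟶ sp R Q.ResidueField)
      (g : T ⟶ sp R A),
      CartesianMonoidalCategory.lift g (h ≫ pt (IsScalarTower.toAlgHom R B Q.ResidueField)) ≫
          (action R A B).act =
        h ≫ pt (IsScalarTower.toAlgHom R B Q.ResidueField) → g = 1 := fun T h g hg =>
    inertia_trivial_transfer' R A B x (IsScalarTower.toAlgHom R B Q.ResidueField) hq htriv T h g hg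
  obtain ⟨f, hfQ, hf⟩ := exists_triv_of_inertia_trivial R A B Q htrivQ
  exact hfQ (hIQ hf)

/-- (⟹) of S14982 -/
theorem exists_flat_lfp_free [Module.Finite R A] [Module.Projective R A]
    {K : Type u} [Field K] [Algebra R K] (x : B →ₐ[R] K)
    (htriv : ∀ (T : Over (Spec (CommRingCat.of R))) (h : T ⟶ CoactBr.sp R K) (g : T ⟶ CoactBr.sp R A),
      CartesianMonoidalCategory.lift g (h ≫ CoactBr.pt x) ≫ (CoactBr.action R A B).act =
        h ≫ CoactBr.pt x → g = 1) :
    ∃ (Y' : Scheme.{u}) (c : Y' ⟶ Spec (CommRingCat.of (GLin.invariants R A B))),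
      Flat c ∧ LocallyOfFinitePresentation c ∧
      (∃ y' : Y', c.base y' =
        (Spec.map (CommRingCat.ofHom (x.toRingHom.comp (GLin.invariants R A B).val.toRingHom))).base
          (IsLocalRing.closedPoint K)) ∧
      ∀ (T : Over (Spec (CommRingCat.of R))) (ζ : T ⟶ CoactBr.sp R B),
        (∃ t : T.left ⟶ Y', t ≫ c =
          ζ.left ≫ Spec.map (CommRingCat.ofHom (GLin.invariants R A B).val.toRingHom)) →
        ∀ g : T ⟶ CoactBr.sp R A,
          CartesianMonoidalCategory.lift g ζ ≫ (CoactBr.action R A B).act = ζ → g = 1 := by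
  obtain ⟨c₀, hc₀, hx, htr⟩ := exists_invariant_triv R A B x htriv
  let C := GLin.invariants R A B
  let c₀' : C := ⟨c₀, hc₀⟩
  refine ⟨Spec (CommRingCat.of (Localization.Away c₀')),
    Spec.map (CommRingCat.ofHom (algebraMap C (Localization.Away c₀'))),
    inferInstance, inferInstance, ?_, ?_⟩
  · let y : PrimeSpectrum C :=
      (Spec.map (CommRingCat.ofHom (x.toRingHom.comp C.val.toRingHom))).base
        (IsLocalRing.closedPoint K)
    have hy : y ∈ Set.range (PrimeSpectrum.comap (algebraMap C (Localization.Away c₀'))) := by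
      rw [PrimeSpectrum.localization_away_comap_range (Localization.Away c₀') c₀']
      change c₀' ∉ y.asIdeal
      intro hmem
      have h1 : (x.toRingHom.comp C.val.toRingHom) c₀' ∈ IsLocalRing.maximalIdeal K := hmem
      rw [IsLocalRing.maximalIdeal_eq_bot, Ideal.mem_bot] at h1
      exact hx h1
    obtain ⟨y', hy'⟩ := hy
    exact ⟨y', hy'⟩
  · rintro T ζ ⟨t, ht⟩ g hg
    obtain ⟨z, rfl⟩ := exists_factor T ζ
    obtain ⟨gm, rfl⟩ := exists_factor T g
    obtain ⟨φ, hφ⟩ := exists_ringHom_of_lift T z (algebraMap C (Localization.Away c₀'))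
      C.val.toRingHom t ht
    have hunit : IsUnit (z c₀) := by
      have h1 : z c₀ = φ (algebraMap C (Localization.Away c₀') c₀') :=
        (RingHom.congr_fun hφ c₀').symm
      rw [h1]
      exact (IsLocalization.Away.algebraMap_isUnit c₀').map φ
    rw [fixes_iff] at hg
    rw [eq_one_iff]
    apply eq_counit_of_comp_antipode
    exact eq_counit_of_triv htr z _ hunit hg

/-- (⟸) of S14982 -/
theorem trivial_of_flat_free {K : Type u} [Field K] [Algebra R K] (x : B →ₐ[R] K)
    (Y' : Scheme.{u}) (c : Y' ⟶ Spec (CommRingCat.of (GLin.invariants R A B))) [Flat c]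
    (y' : Y') (hy' : c.base y' =
        (Spec.map (CommRingCat.ofHom (x.toRingHom.comp (GLin.invariants R A B).val.toRingHom))).base
          (IsLocalRing.closedPoint K))
    (hfree : ∀ (T : Over (Spec (CommRingCat.of R))) (ζ : T ⟶ CoactBr.sp R B),
        (∃ t : T.left ⟶ Y', t ≫ c =
          ζ.left ≫ Spec.map (CommRingCat.ofHom (GLin.invariants R A B).val.toRingHom)) →
        ∀ g : T ⟶ CoactBr.sp R A,
          CartesianMonoidalCategory.lift g ζ ≫ (CoactBr.action R A B).act = ζ → g = 1)
    (T : Over (Spec (CommRingCat.of R))) (h : T ⟶ CoactBr.sp R K) (g : T ⟶ CoactBr.sp R A)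
    (hg : CartesianMonoidalCategory.lift g (h ≫ CoactBr.pt x) ≫ (CoactBr.action R A B).act =
        h ≫ CoactBr.pt x) : g = 1 := by
  let C := GLin.invariants R A B
  let ζ : T ⟶ sp R B := h ≫ pt x
  let π : Spec (CommRingCat.of B) ⟶ Spec (CommRingCat.of C) :=
    Spec.map (CommRingCat.ofHom C.val.toRingHom)
  let m : T.left ⟶ Spec (CommRingCat.of C) := ζ.left ≫ π
  let p₀ : pullback m c ⟶ T.left := pullback.fst m c
  have hflat : Flat p₀ := inferInstance
  have hm : ∀ t₀ : T.left, m.base t₀ = c.base y' := by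
    intro t₀
    rw [hy']
    have h1 : h.left.base t₀ = IsLocalRing.closedPoint K :=
      @Subsingleton.elim (PrimeSpectrum K) _ _ _
    change (Spec.map (CommRingCat.ofHom C.val.toRingHom)).base
      ((Spec.map (CommRingCat.ofHom x.toRingHom)).base (h.left.base t₀)) = _
    rw [h1]
    rfl
  have hsurj : Surjective p₀ := by
    refine ⟨fun t₀ => ?_⟩
    obtain ⟨w, hw, -⟩ := Scheme.Pullback.exists_preimage_pullback t₀ y' (hm t₀)
    exact ⟨w, hw⟩
  let T' : Over (Spec (CommRingCat.of R)) := Over.mk (p₀ ≫ T.hom)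
  let p : T' ⟶ T := Over.homMk p₀ rfl
  have hepi : Epi p := by
    have : Epi p.left := by
      change Epi p₀
      exact Flat.epi_of_flat_of_surjective _
    exact Over.epi_of_epi_left p
  have hlift : ∃ t : T'.left ⟶ Y', t ≫ c =
      (p ≫ ζ).left ≫ Spec.map (CommRingCat.ofHom C.val.toRingHom) :=
    ⟨pullback.snd m c, by
      change pullback.snd m c ≫ c = (pullback.fst m c ≫ ζ.left) ≫ π
      rw [Category.assoc]
      exact pullback.condition.symm⟩
  have hfix : CartesianMonoidalCategory.lift (p ≫ g) (p ≫ ζ) ≫ (action R A B).act = p ≫ ζ := by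
    rw [← comp_lift, Category.assoc, hg]
  have h2 : p ≫ g = 1 := hfree T' (p ≫ ζ) hlift (p ≫ g) hfix
  have h3 : p ≫ g = p ≫ 1 := by rw [h2, MonObj.comp_one]
  exact (cancel_epi p).mp h3

end Main

end Groth.Agent.R2.H33.HopfQuotFree
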