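import Mathlib
import Groth.Prelude.Def_HTop
import Groth.Agent.R2.H33ValLift
import Groth.Agent.R2.H33FpqcV
import Groth.Agent.Lib.Helper10VCover

/-!
# Sheaves for V coverings (helper33)
-/

set_option autoImplicit false
set_option linter.style.haveILetI false
universe w w' w'' v u

open CategoryTheory CategoryTheory.Limits AlgebraicGeometry Opposite HTop IsLocalRing

namespace Groth.Agent.R2.H33.VSheaf

open Groth.Agent.R2.H33.ValLift

section Basic

variable {T : Scheme.{u}}

theorem hasValLift_of_hom {E : PreZeroHypercover.{w} T} {E' : PreZeroHypercover.{w'} T}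
    (φ : E.Hom E') (h : HasValLift E) : HasValLift E' := by
  intro V _ _ g
  obtain ⟨W, hWd, hWv, ψ, hψ, j, g', hg'⟩ := h V g
  exact ⟨W, hWd, hWv, ψ, hψ, φ.s₀ j, g' ≫ φ.h₀ j, by rw [Category.assoc, φ.w₀, hg']⟩

theorem isVCover_of_hom {E : PreZeroHypercover.{w} T} {E' : PreZeroHypercover.{w'} T}
    (φ : E.Hom E') (h : IsVCover E) : IsVCover E' := by
  intro U
  obtain ⟨F, hF, hFE⟩ := h U
  exact ⟨F, hF, hFE.of_hom φ⟩

theorem hasValLift_pullback₂ {Y : Scheme.{u}} (g : Y ⟶ T) (E : PreZeroHypercover.{w} T)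
    (h : HasValLift E) : HasValLift (E.pullback₂ g) := by
  intro V _ _ k
  obtain ⟨W, hWd, hWv, φ, hφ, j, g', hg'⟩ := h V (k ≫ g)
  refine ⟨W, hWd, hWv, φ, hφ, j, pullback.lift g' (Spec.map φ ≫ k) ?_, ?_⟩
  · rw [hg', Category.assoc]
  · exact pullback.lift_snd _ _ _

theorem isVCover_pullback₂ {Y : Scheme.{u}} (g : Y ⟶ T) (E : PreZeroHypercover.{w} T)
    (h : IsVCover E) : IsVCover (E.pullback₂ g) :=
  isVCover_of_hom (PreZeroHypercover.pullbackIso g E).hom
    (Groth.Agent.Lib.Helper10.isVCover_pullback g E h)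

theorem isStandardV_reindex (E : PreZeroHypercover.{w} T) (hE : IsStandardV E) {ι : Type w'}
    (e : ι ≃ E.I₀) : IsStandardV (E.reindex e) := by
  refine ⟨hE.isAffine, ?_, fun j => hE.isAffine_obj (e j), ?_⟩
  · haveI := hE.finite_index
    exact Finite.of_equiv _ e.symm
  · intro V _ _ g
    obtain ⟨W, hWd, hWv, φ, hφ, j, g', hg'⟩ := hE.lift V g
    obtain ⟨k, rfl⟩ := e.surjective j
    exact ⟨W, hWd, hWv, φ, hφ, k, g', hg'⟩

theorem isStandardV_pullback₂ {Y : Scheme.{u}} [IsAffine Y] (g : Y ⟶ T)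
    (E : PreZeroHypercover.{w} T) (hE : IsStandardV E) : IsStandardV (E.pullback₂ g) := by
  haveI := hE.isAffine
  refine ⟨inferInstance, hE.finite_index, fun j => ?_, hasValLift_pullback₂ g E hE.lift⟩
  haveI := hE.isAffine_obj j
  exact inferInstanceAs (IsAffine (pullback (E.f j) g))

/-- Two successive base changes of a standard V covering, the last one to an affine scheme. -/
theorem isStandardV_pullback₂_pullback₂ {Y A : Scheme.{u}} [IsAffine A] (g : Y ⟶ T) (h : A ⟶ Y)
    (E : PreZeroHypercover.{w} T) (hE : IsStandardV E) :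
    IsStandardV ((E.pullback₂ g).pullback₂ h) := by
  haveI := hE.isAffine
  refine ⟨inferInstance, hE.finite_index, fun j => ?_,
    hasValLift_pullback₂ h _ (hasValLift_pullback₂ g E hE.lift)⟩
  haveI := hE.isAffine_obj j
  have : IsAffine (pullback (E.f j) (h ≫ g)) := inferInstance
  change IsAffine (pullback (pullback.snd (E.f j) g) h)
  exact IsAffine.of_isIso (pullbackLeftPullbackSndIso (E.f j) g h).hom

/-- A standard V covering is a V covering. -/
theorem isVCover_of_isStandardV (E : PreZeroHypercover.{w} T) (hE : IsStandardV E) :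
    IsVCover E := by
  intro U
  haveI : IsAffine ((U : T.Opens) : Scheme.{u}) := U.2
  haveI := hE.finite_index
  let n := Nat.card E.I₀
  let e : Fin n ≃ E.I₀ := (Finite.equivFin E.I₀).symm
  refine ⟨(E.pullback₂ (U : T.Opens).ι).reindex e,
    isStandardV_reindex _ (isStandardV_pullback₂ (U : T.Opens).ι E hE) e, ?_⟩
  intro k
  refine ⟨e k, pullback.fst (E.f (e k)) (U : T.Opens).ι, ?_⟩
  exact pullback.condition

end Basic

section Sheaf

variable (F : Scheme.{u}ᵒᵖ ⥤ Type v)

/-- Sheaf property along a refinement. -/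
theorem isSheafFor_of_hom {S : Scheme.{u}} {𝒰 : PreZeroHypercover.{w} S}
    {𝒱 : PreZeroHypercover.{w'} S} (f : 𝒰.Hom 𝒱)
    (H₁ : Presieve.IsSheafFor F 𝒰.presieve₀)
    (H₂ : ∀ {X : Scheme.{u}} (g : X ⟶ S), Presieve.IsSeparatedFor F (𝒰.pullback₂ g).presieve₀) :
    Presieve.IsSheafFor F 𝒱.presieve₀ := by
  rw [Presieve.isSheafFor_iff_generate]
  apply Presieve.isSheafFor_subsieve_aux (S := .generate 𝒰.presieve₀)
  · rw [← Sieve.generate_le_iff, Sieve.generate_sieve, Sieve.generate_le_iff,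
      Presieve.ofArrows_le_iff]
    intro i
    rw [← f.w₀]
    exact ⟨_, f.h₀ i, 𝒱.f _, ⟨_⟩, rfl⟩
  · rwa [← Presieve.isSheafFor_iff_generate]
  · intro Y g hg
    rw [← Sieve.pullbackArrows_comm, ← Presieve.isSeparatedFor_iff_generate,
      ← Presieve.ofArrows_pullback]
    exact H₂ g

variable {F}
variable (hzar : Presieve.IsSheaf Scheme.zariskiTopology F)
  (hstd : ∀ (T : Scheme.{u}) (E : PreZeroHypercover.{u} T), IsStandardV E →
    Presieve.IsSheafFor F E.presieve₀)

include hstd in
theorem isSheafFor_of_isStandardV {T : Scheme.{u}} (E : PreZeroHypercover.{w} T)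
    (hE : IsStandardV E) : Presieve.IsSheafFor F E.presieve₀ := by
  haveI := hE.finite_index
  let n := Nat.card E.I₀
  let e : ULift.{u} (Fin n) ≃ E.I₀ := Equiv.ulift.trans (Finite.equivFin E.I₀).symm
  have := hstd T (E.reindex e) (isStandardV_reindex E hE e)
  rwa [PreZeroHypercover.presieve₀_reindex] at this

include hzar hstd in
theorem isSheafFor_pullback₂_of_isStandardV {T Y : Scheme.{u}} (g : Y ⟶ T)
    (E : PreZeroHypercover.{w} T) (hE : IsStandardV E) :
    Presieve.IsSheafFor F (E.pullback₂ g).presieve₀ := by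
  refine Y.affineOneHypercover.isSheafFor_of_pullback hzar (fun i => ?_) (fun i j k => ?_)
  · rw [← Sieve.pullbackArrows_comm, ← Presieve.ofArrows_pullback,
      ← Presieve.isSheafFor_iff_generate]
    haveI : IsAffine (Y.affineOneHypercover.X i) := inferInstanceAs (IsAffine (Spec _))
    exact isSheafFor_of_isStandardV hstd ((E.pullback₂ g).pullback₂ _)
      (isStandardV_pullback₂_pullback₂ g _ E hE)
  · rw [← Sieve.pullbackArrows_comm, ← Presieve.isSeparatedFor_iff_generate]
    apply Presieve.IsSheafFor.isSeparatedFor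
    rw [← Presieve.ofArrows_pullback]
    haveI : IsAffine (Y.affineOneHypercover.Y k) := inferInstanceAs (IsAffine (Spec _))
    exact isSheafFor_of_isStandardV hstd ((E.pullback₂ g).pullback₂ _)
      (isStandardV_pullback₂_pullback₂ g _ E hE)

include hzar hstd in
theorem isSheafFor_of_isVCover_of_isAffine {T : Scheme.{u}} [IsAffine T]
    (E : PreZeroHypercover.{w} T) (hE : IsVCover E) : Presieve.IsSheafFor F E.presieve₀ := by
  obtain ⟨F₀, hF₀, hF₀E⟩ := hE ⟨⊤, isAffineOpen_top T⟩
  choose idx h hh using hF₀E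
  let F₁ : PreZeroHypercover.{0} T :=
    { I₀ := F₀.I₀
      X := F₀.X
      f := fun j => F₀.f j ≫ (⊤ : T.Opens).ι }
  have hF₁ : IsStandardV F₁ := by
    refine ⟨inferInstance, hF₀.finite_index, hF₀.isAffine_obj, ?_⟩
    intro V _ _ k
    obtain ⟨l, hl⟩ := Groth.Agent.Lib.Helper10.exists_lift_of_closedPoint_mem V k
      (⊤ : T.Opens) trivial
    obtain ⟨W, hWd, hWv, φ, hφ, a, g', hg'⟩ := hF₀.lift V l
    refine ⟨W, hWd, hWv, φ, hφ, a, g', ?_⟩
    change g' ≫ F₀.f a ≫ (⊤ : T.Opens).ι = _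
    rw [← Category.assoc, hg', Category.assoc, hl]
  let φ : F₁.Hom E :=
    { s₀ := idx
      h₀ := h
      w₀ := hh }
  exact isSheafFor_of_hom F φ (isSheafFor_of_isStandardV hstd F₁ hF₁)
    (fun g => (isSheafFor_pullback₂_of_isStandardV hzar hstd g F₁ hF₁).isSeparatedFor)

include hzar hstd in
theorem isSheafFor_of_isVCover {T : Scheme.{u}} (E : PreZeroHypercover.{w} T) (hE : IsVCover E) :
    Presieve.IsSheafFor F E.presieve₀ := by
  refine T.affineOneHypercover.isSheafFor_of_pullback hzar (fun i => ?_) (fun i j k => ?_)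
  · rw [← Sieve.pullbackArrows_comm, ← Presieve.ofArrows_pullback,
      ← Presieve.isSheafFor_iff_generate]
    haveI : IsAffine (T.affineOneHypercover.X i) := inferInstanceAs (IsAffine (Spec _))
    exact isSheafFor_of_isVCover_of_isAffine hzar hstd (E.pullback₂ _) (isVCover_pullback₂ _ E hE)
  · rw [← Sieve.pullbackArrows_comm, ← Presieve.isSeparatedFor_iff_generate]
    apply Presieve.IsSheafFor.isSeparatedFor
    rw [← Presieve.ofArrows_pullback]
    haveI : IsAffine (T.affineOneHypercover.Y k) := inferInstanceAs (IsAffine (Spec _))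
    exact isSheafFor_of_isVCover_of_isAffine hzar hstd (E.pullback₂ _) (isVCover_pullback₂ _ E hE)

/-- A presheaf with the sheaf property for all V coverings is a Zariski sheaf. -/
theorem isSheaf_zariski_of_isVSheaf (h : IsVSheaf F) :
    Presieve.IsSheaf Scheme.zariskiTopology F := by
  change Presieve.IsSheaf Scheme.zariskiPrecoverage.toGrothendieck F
  rw [Precoverage.isSheaf_toGrothendieck_iff_of_isStableUnderBaseChange]
  intro X R hR
  apply h R
  obtain ⟨E, rfl⟩ := R.exists_eq_preZeroHypercover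
  rw [presieve₀_mem_vPrecoverage_iff]
  let 𝒰 : Scheme.Cover (Scheme.precoverage @IsOpenImmersion) X := ⟨E, hR⟩
  haveI : QuasiCompactCover E :=
    QuasiCompactCover.of_isOpenMap (𝒰 := 𝒰) fun i => by
      haveI : IsOpenImmersion (𝒰.f i) := 𝒰.map_prop i
      exact (𝒰.f i).isOpenEmbedding.isOpenMap
  refine Groth.Agent.R2.H33.FpqcV.isVCover_of_flat_of_quasiCompactCover E (fun i => ?_)
  haveI : IsOpenImmersion (E.f i) := 𝒰.map_prop i
  infer_instance

end Sheaf

end Groth.Agent.R2.H33.VSheaf
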