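import Mathlib
import Groth.Prelude.Def_HTop
import Groth.Agent.R2.H33VSheaf

/-!
# Sheaves for ph coverings (helper33)
-/

set_option autoImplicit false
set_option linter.style.haveILetI false
universe w w' w'' v u

open CategoryTheory CategoryTheory.Limits AlgebraicGeometry Opposite HTop IsLocalRing

namespace Groth.Agent.R2.H33.PhSheaf

/-- A family which is the restriction of a proper surjective morphism to the members of an open
covering of its source (a standard ph covering without any affineness condition). -/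
def IsPhLike {T : Scheme.{u}} (E : PreZeroHypercover.{w} T) : Prop :=
  ∃ (U : Scheme.{u}) (f : U ⟶ T) (ι : ∀ j, E.X j ⟶ U),
    IsProper f ∧ Surjective f ∧ (∀ j, IsOpenImmersion (ι j)) ∧ (∀ j, ι j ≫ f = E.f j) ∧
      ∀ x : U, ∃ j, x ∈ Set.range (ι j).base

theorem isPhLike_of_isStandardPh {T : Scheme.{u}} (E : PreZeroHypercover.{w} T)
    (hE : IsStandardPh E) : IsPhLike E := hE.exists_proper

theorem isPhLike_pullback₂ {T Y : Scheme.{u}} (g : Y ⟶ T) (E : PreZeroHypercover.{w} T)
    (hE : IsPhLike E) : IsPhLike (E.pullback₂ g) := by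
  obtain ⟨U, f, ι, hfp, hfs, hι, hιf, hcov⟩ := hE
  let ι' : ∀ j, pullback (E.f j) g ⟶ pullback f g := fun j =>
    pullback.map (E.f j) g f g (ι j) (𝟙 Y) (𝟙 T) (by rw [Category.comp_id, hιf])
      (by rw [Category.comp_id, Category.id_comp])
  refine ⟨pullback f g, pullback.snd f g, ι', inferInstance, inferInstance, fun j => ?_,
    fun j => ?_, fun x => ?_⟩
  · haveI := hι j
    exact inferInstanceAs (IsOpenImmersion (pullback.map (E.f j) g f g (ι j) (𝟙 Y) (𝟙 T) _ _))
  · change pullback.map (E.f j) g f g (ι j) (𝟙 Y) (𝟙 T) _ _ ≫ pullback.snd f g = pullback.snd _ _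
    rw [pullback.lift_snd, Category.comp_id]
  · obtain ⟨j, hj⟩ := hcov ((pullback.fst f g).base x)
    refine ⟨j, ?_⟩
    change x ∈ Set.range (pullback.map (E.f j) g f g (ι j) (𝟙 Y) (𝟙 T) _ _).base
    rw [Scheme.Pullback.range_map]
    refine ⟨hj, ?_⟩
    simp

section Sheaf

variable {F : Scheme.{u}ᵒᵖ ⥤ Type v}
variable (h₁ : Presieve.IsSheaf Scheme.zariskiTopology F)
  (h₂ : ∀ (U V : Scheme.{u}) (f : V ⟶ U), IsProper f → Surjective f →
    Presieve.IsSheafFor F (Presieve.singleton f))

include h₁ h₂ in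
theorem isSheafFor_of_isPhLike {T : Scheme.{u}} (E : PreZeroHypercover.{w} T)
    (hE : IsPhLike E) : Presieve.IsSheafFor F E.presieve₀ := by
  obtain ⟨U, f, ι, hfp, hfs, hι, hιf, hcov⟩ := hE
  rw [Presieve.isSheafFor_iff_generate]
  refine Presieve.isSheafFor_trans F (Sieve.generate (Presieve.singleton f))
    (Sieve.generate E.presieve₀) ?_ ?_ ?_
  · rw [← Presieve.isSheafFor_iff_generate]
    exact h₂ _ _ f hfp hfs
  · intro Y g _
    rw [← Sieve.pullbackArrows_comm, ← Presieve.isSeparatedFor_iff_generate,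
      Presieve.pullback_singleton]
    exact (h₂ _ _ (pullback.snd f g) inferInstance inferInstance).isSeparatedFor
  · rintro Y g ⟨Z, k, l, ⟨⟩, rfl⟩
    apply h₁
    rw [Sieve.pullback_comp]
    apply Scheme.zariskiTopology.pullback_stable
    have hmem : Presieve.ofArrows E.X ι ∈ Scheme.precoverage @IsOpenImmersion U := by
      change (PreZeroHypercover.mk E.I₀ E.X ι).presieve₀ ∈ _
      rw [Scheme.presieve₀_mem_precoverage_iff]
      exact ⟨hcov, hι⟩
    let 𝒪 : U.Cover (Scheme.precoverage @IsOpenImmersion) := ⟨⟨E.I₀, E.X, ι⟩, hmem⟩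
    refine Scheme.zariskiTopology.superset_covering ?_ 𝒪.mem_grothendieckTopology
    rw [Sieve.ofArrows, Sieve.generate_le_iff, Presieve.ofArrows_le_iff]
    intro j
    change (Sieve.generate E.presieve₀).pullback f (ι j)
    rw [Sieve.pullback_apply, hιf]
    exact Sieve.le_generate _ _ _ ⟨j⟩

include h₁ h₂ in
/-- The sheaf property for the base change of a ph covering along an open immersion from an affine
scheme. -/
theorem isSheafFor_pullback₂_of_isPhCover {T Y : Scheme.{u}} [IsAffine Y] (g : Y ⟶ T)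
    [IsOpenImmersion g] (E : PreZeroHypercover.{w} T) (hE : IsPhCover E) :
    Presieve.IsSheafFor F (E.pullback₂ g).presieve₀ := by
  have hU₀ : g.opensRange ∈ T.affineOpens := isAffineOpen_opensRange g
  obtain ⟨F₀, hF₀, hF₀E⟩ := hE.2 ⟨g.opensRange, hU₀⟩
  choose idx h hh using hF₀E
  let e : Y ≅ (g.opensRange : Scheme.{u}) := g.isoOpensRange
  have he : e.hom ≫ g.opensRange.ι = g := by simp [e]
  have he' : e.inv ≫ g = g.opensRange.ι := by rw [Iso.inv_comp_eq]; exact he.symm
  let F₁ : PreZeroHypercover.{0} Y :=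
    { I₀ := F₀.I₀
      X := F₀.X
      f := fun j => F₀.f j ≫ e.inv }
  have hF₁ : IsPhLike F₁ := by
    obtain ⟨U, f, ι, hfp, hfs, hι, hιf, hcov⟩ := hF₀.exists_proper
    refine ⟨U, f ≫ e.inv, ι, inferInstance, inferInstance, hι, fun j => ?_, hcov⟩
    change ι j ≫ f ≫ e.inv = F₀.f j ≫ e.inv
    rw [← Category.assoc, hιf]
  let φ : F₁.Hom (E.pullback₂ g) :=
    { s₀ := idx
      h₀ := fun j => pullback.lift (h j) (F₀.f j ≫ e.inv) (by
        rw [hh j, Category.assoc, he'])
      w₀ := fun j => pullback.lift_snd _ _ _ }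
  exact Groth.Agent.R2.H33.VSheaf.isSheafFor_of_hom F φ (isSheafFor_of_isPhLike h₁ h₂ F₁ hF₁)
    (fun k => (isSheafFor_of_isPhLike h₁ h₂ _ (isPhLike_pullback₂ k F₁ hF₁)).isSeparatedFor)

include h₁ h₂ in
theorem isSheafFor_of_isPhCover {T : Scheme.{u}} (E : PreZeroHypercover.{w} T) (hE : IsPhCover E) :
    Presieve.IsSheafFor F E.presieve₀ := by
  refine T.affineOneHypercover.isSheafFor_of_pullback h₁ (fun i => ?_) (fun i j k => ?_)
  · rw [← Sieve.pullbackArrows_comm, ← Presieve.ofArrows_pullback,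
      ← Presieve.isSheafFor_iff_generate]
    haveI : IsAffine (T.affineOneHypercover.X i) := inferInstanceAs (IsAffine (Spec _))
    haveI : IsOpenImmersion (T.affineOneHypercover.f i) := T.affineCover.map_prop i
    exact isSheafFor_pullback₂_of_isPhCover h₁ h₂ _ E hE
  · rw [← Sieve.pullbackArrows_comm, ← Presieve.isSeparatedFor_iff_generate]
    apply Presieve.IsSheafFor.isSeparatedFor
    rw [← Presieve.ofArrows_pullback]
    haveI : IsAffine (T.affineOneHypercover.Y k) := inferInstanceAs (IsAffine (Spec _))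
    haveI : IsOpenImmersion (T.affineOneHypercover.p₁ k ≫ T.affineOneHypercover.f i) := by
      change IsOpenImmersion (((pullback (T.affineCover.f i) (T.affineCover.f j)).affineCover.f k ≫
        pullback.fst _ _) ≫ T.affineCover.f i)
      haveI : IsOpenImmersion (T.affineCover.f i) := T.affineCover.map_prop i
      haveI : IsOpenImmersion (T.affineCover.f j) := T.affineCover.map_prop j
      haveI : IsOpenImmersion ((pullback (T.affineCover.f i) (T.affineCover.f j)).affineCover.f k) :=
        (pullback (T.affineCover.f i) (T.affineCover.f j)).affineCover.map_prop k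
      infer_instance
    exact isSheafFor_pullback₂_of_isPhCover h₁ h₂ _ E hE

end Sheaf

end Groth.Agent.R2.H33.PhSheaf
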