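import Mathlib
import Groth.Prelude.Def_W4stkschemesremainderFib
import Groth.Agent.Lib.Helper2BddFib

/-!
# Sum of residue degrees on a finite scheme over a field (helper33)
-/

set_option autoImplicit false
set_option linter.style.haveILetI false
universe u

open CategoryTheory CategoryTheory.Limits AlgebraicGeometry

namespace Groth.Agent.R2.H33.ResDeg

open Groth.Agent.Lib.Helper2.BddFib

/-- Evaluation at a point of an affine scheme with Artinian ring of global sections is surjective. -/
lemma evaluation_surjective {X : Scheme.{u}} [IsAffine X] [IsArtinianRing Γ(X, ⊤)] (x : X) :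
    Function.Surjective (X.Γevaluation x).hom := by
  have hU : IsAffineOpen (⊤ : X.Opens) := isAffineOpen_top X
  letI := X.presheaf.algebra_section_stalk (U := ⊤) ⟨x, trivial⟩
  haveI hloc := hU.isLocalization_stalk ⟨x, trivial⟩
  haveI hmax : (hU.primeIdealOf ⟨x, trivial⟩).asIdeal.IsMaximal :=
    IsArtinianRing.isMaximal_of_isPrime _
  intro ξ
  let e := IsLocalization.AtPrime.equivQuotMaximalIdeal
    (hU.primeIdealOf ⟨x, trivial⟩).asIdeal (X.presheaf.stalk x)
  obtain ⟨b, hb⟩ := Ideal.Quotient.mk_surjective (e.symm ξ)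
  refine ⟨b, ?_⟩
  have : e (Ideal.Quotient.mk _ b) = ξ := by rw [hb]; simp
  rw [← this]
  rfl

/-- On an affine scheme, a point is determined by the kernel of its evaluation map. -/
lemma eq_of_ker_evaluation_eq {X : Scheme.{u}} [IsAffine X] {x y : X}
    (h : RingHom.ker (X.Γevaluation x).hom = RingHom.ker (X.Γevaluation y).hom) : x = y := by
  by_contra hne
  obtain ⟨W, hW, hxor⟩ := exists_isOpen_xor_mem hne
  have hb := fun {U : X.Opens} {x : X} (hx : x ∈ U) =>
    (TopologicalSpace.Opens.isBasis_iff_nbhd.mp (isBasis_basicOpen X)) hx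
  rcases hxor with ⟨hxW, hyW⟩ | ⟨hyW, hxW⟩
  · obtain ⟨_, ⟨f, rfl⟩, hxf, hfW⟩ := hb (U := ⟨W, hW⟩) hxW
    have hyf : y ∉ X.basicOpen f := fun h' => hyW (hfW h')
    have h1 : f ∈ RingHom.ker (X.Γevaluation y).hom :=
      (X.evaluation_eq_zero_iff_notMem_basicOpen (U := ⊤) y (by trivial) f).mpr hyf
    rw [← h] at h1
    exact (X.evaluation_eq_zero_iff_notMem_basicOpen (U := ⊤) x (by trivial) f).mp h1 hxf
  · obtain ⟨_, ⟨f, rfl⟩, hyf, hfW⟩ := hb (U := ⟨W, hW⟩) hyW
    have hxf : x ∉ X.basicOpen f := fun h' => hxW (hfW h')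
    have h1 : f ∈ RingHom.ker (X.Γevaluation x).hom :=
      (X.evaluation_eq_zero_iff_notMem_basicOpen (U := ⊤) x (by trivial) f).mpr hxf
    rw [h] at h1
    exact (X.evaluation_eq_zero_iff_notMem_basicOpen (U := ⊤) y (by trivial) f).mp h1 hyf

/-- The canonical map from a field `K` to the residue field of `Spec K` at a point is bijective. -/
lemma bijective_toResidueField (K : Type u) [Field K] (y : Spec (CommRingCat.of K)) :
    Function.Bijective
      ((Scheme.ΓSpecIso (CommRingCat.of K)).inv ≫ (Spec (CommRingCat.of K)).Γevaluation y).hom := by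
  have hbij : Function.Bijective (Scheme.ΓSpecIso (CommRingCat.of K)).inv.hom :=
    ConcreteCategory.bijective_of_isIso (Scheme.ΓSpecIso (CommRingCat.of K)).inv
  haveI : IsArtinianRing Γ(Spec (CommRingCat.of K), ⊤) :=
    Function.Surjective.isArtinianRing (f := (Scheme.ΓSpecIso (CommRingCat.of K)).inv.hom) hbij.2
  refine ⟨RingHom.injective _, ?_⟩
  rw [CommRingCat.hom_comp]
  exact (evaluation_surjective (X := Spec (CommRingCat.of K)) y).comp hbij.2

/-- For a scheme `T` finite of degree at most `n` over a field `K`, the sum of the residue degrees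
of the points of `T` is at most `n`. -/
theorem finsum_residueDegree_le (K : Type u) [Field K] {T : Scheme.{u}}
    (p : T ⟶ Spec (CommRingCat.of K)) (n : ℕ) (h : BddFib.FiniteOfDegLE (CommRingCat.of K) p n) :
    Finite T ∧ ∑ᶠ x : T, p.residueDegree x ≤ n := by
  classical
  obtain ⟨hfin, -⟩ := card_le_of_fdl K p n h
  refine ⟨hfin, ?_⟩
  rw [fdl_iff] at h
  letI : Algebra K Γ(T, ⊤) := (sm K p).toAlgebra
  obtain ⟨haff, hfinm, hrk⟩ := h
  haveI : IsArtinianRing Γ(T, ⊤) := IsArtinianRing.of_finite K _
  letI algκ : ∀ x : T, Algebra K (T.residueField x) := fun x =>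
    ((T.Γevaluation x).hom.comp (algebraMap K Γ(T, ⊤))).toAlgebra
  let ev : ∀ x : T, Γ(T, ⊤) →ₗ[K] T.residueField x := fun x =>
    { toFun := (T.Γevaluation x).hom
      map_add' := map_add _
      map_smul' := fun k b => by
        rw [Algebra.smul_def, map_mul, RingHom.id_apply, Algebra.smul_def]
        rfl }
  have hev : ∀ x, Function.Surjective (ev x) := fun x => evaluation_surjective x
  haveI : ∀ x : T, Module.Finite K (T.residueField x) := fun x =>
    Module.Finite.of_surjective (ev x) (hev x)
  -- the residue degree is the `K`-dimension of the residue field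
  have hdeg : ∀ x : T, p.residueDegree x = Module.finrank K (T.residueField x) := by
    intro x
    let θ : K ≃+* (Spec (CommRingCat.of K)).residueField (p x) :=
      RingEquiv.ofBijective _ (bijective_toResidueField K (p x))
    letI := (p.residueFieldMap x).hom.toAlgebra
    symm
    refine Algebra.finrank_eq_of_equiv_equiv θ (RingEquiv.refl _) ?_
    ext k
    change (p.residueFieldMap x).hom (((Scheme.ΓSpecIso (CommRingCat.of K)).inv ≫
      (Spec (CommRingCat.of K)).Γevaluation (p x)).hom k) =
      (T.Γevaluation x).hom (sm K p k)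
    simp only [sm, CommRingCat.hom_comp, RingHom.comp_apply]
    exact Scheme.Γevaluation_naturality_apply p x _
  haveI := Fintype.ofFinite T
  rw [finsum_eq_sum_of_fintype]
  simp only [hdeg]
  -- Chinese remainder theorem
  let I : T → Ideal Γ(T, ⊤) := fun x => RingHom.ker (T.Γevaluation x).hom
  have hImax : ∀ x, (I x).IsMaximal := fun x =>
    RingHom.ker_isMaximal_of_surjective _ (evaluation_surjective x)
  have hcop : Pairwise (fun x y : T => IsCoprime (I x) (I y)) := by
    intro x y hxy
    rw [Ideal.isCoprime_iff_sup_eq]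
    exact Ideal.IsMaximal.coprime_of_ne (hImax x) (hImax y)
      (fun h => hxy (eq_of_ker_evaluation_eq h))
  let φ : Γ(T, ⊤) →ₗ[K] (∀ x : T, T.residueField x) := LinearMap.pi ev
  have hφ : Function.Surjective φ := by
    intro y
    choose b hb using fun x => hev x (y x)
    obtain ⟨z, hz⟩ := Ideal.quotientInfToPiQuotient_surj hcop
      (fun x => Ideal.Quotient.mk (I x) (b x))
    obtain ⟨c, rfl⟩ := Ideal.Quotient.mk_surjective z
    refine ⟨c, ?_⟩
    funext x
    have h1 : Ideal.Quotient.mk (I x) c = Ideal.Quotient.mk (I x) (b x) := congrFun hz x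
    rw [Ideal.Quotient.eq] at h1
    have h2 : (T.Γevaluation x).hom (c - b x) = 0 := h1
    rw [map_sub, sub_eq_zero] at h2
    change (T.Γevaluation x).hom c = y x
    rw [h2]
    exact hb x
  have h1 := LinearMap.finrank_le_finrank_of_surjective hφ
  rw [Module.finrank_pi_fintype] at h1
  exact h1.trans hrk

end Groth.Agent.R2.H33.ResDeg
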