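import Mathlib
import Groth.Agent.Lib.Helper20SmoothSec

/-!
# helper33: PROJ:smooth-boot PKG-D — an étale multisection of affine space over `ℤ` meeting a
given open of the fibre over a point of `Spec B`.
-/

set_option autoImplicit false
universe u
open TensorProduct

namespace Groth.Agent.R2.H33.SBD

/-- A prime of `R[x]` over `p` comes from a prime of `κ(p)[x]`. -/
theorem exists_prime_comap_map {R : Type*} [CommRing R] {σ : Type*} (p : Ideal R) [p.IsPrime]
    (q : Ideal (MvPolynomial σ R)) [q.IsPrime] (hq : q.comap (MvPolynomial.C) = p) :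
    ∃ q' : Ideal (MvPolynomial σ p.ResidueField), q'.IsPrime ∧
      q'.comap (MvPolynomial.map (algebraMap R p.ResidueField)) = q := by
  obtain ⟨ι₀, hι₀⟩ : ∃ ι₀ : p.ResidueField →+* q.ResidueField,
      ∀ r : R, ι₀ (algebraMap R p.ResidueField r) =
        algebraMap (MvPolynomial σ R) q.ResidueField (MvPolynomial.C r) :=
    ⟨Ideal.ResidueField.map p q MvPolynomial.C hq.symm,
      fun r => Ideal.ResidueField.map_algebraMap p q MvPolynomial.C hq.symm r⟩
  obtain ⟨ev, hev⟩ : ∃ ev : MvPolynomial σ p.ResidueField →+* q.ResidueField,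
      ev = MvPolynomial.eval₂Hom ι₀
        (fun i => algebraMap (MvPolynomial σ R) q.ResidueField (MvPolynomial.X i)) := ⟨_, rfl⟩
  refine ⟨RingHom.ker ev, RingHom.ker_isPrime ev, ?_⟩
  have hcomp : ev.comp (MvPolynomial.map (algebraMap R p.ResidueField)) =
      algebraMap (MvPolynomial σ R) q.ResidueField := by
    apply MvPolynomial.ringHom_ext
    · intro r
      rw [RingHom.comp_apply, MvPolynomial.map_C, hev, MvPolynomial.coe_eval₂Hom,
        MvPolynomial.eval₂_C, hι₀]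
    · intro i
      rw [RingHom.comp_apply, MvPolynomial.map_X, hev, MvPolynomial.coe_eval₂Hom,
        MvPolynomial.eval₂_X]
  rw [RingHom.comap_ker, hcomp, Ideal.ker_algebraMap_residueField]

/-- A prime of `κ(p)[x]` lies over `p`. -/
theorem comap_C_comap_map {R : Type*} [CommRing R] {σ : Type*} (p : Ideal R) [p.IsPrime]
    (q' : Ideal (MvPolynomial σ p.ResidueField)) [q'.IsPrime] :
    (q'.comap (MvPolynomial.map (algebraMap R p.ResidueField))).comap MvPolynomial.C = p := by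
  ext r
  rw [Ideal.mem_comap, Ideal.mem_comap, MvPolynomial.map_C]
  constructor
  · intro h
    by_contra hr
    have hne : algebraMap R p.ResidueField r ≠ 0 := by
      rwa [Ne, Ideal.algebraMap_residueField_eq_zero]
    apply Ideal.IsPrime.ne_top ‹q'.IsPrime›
    apply Ideal.eq_top_of_isUnit_mem _ h
    exact (hne.isUnit).map MvPolynomial.C
  · intro h
    rw [Ideal.algebraMap_residueField_eq_zero.mpr h, map_zero]
    exact Ideal.zero_mem _

/-- `Spec K[x] → Spec k[x]` is open for a field extension `K/k`. -/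
theorem isOpenMap_comap_map {k K : Type*} [Field k] [Field K] (j : k →+* K) (n : ℕ) :
    IsOpenMap (PrimeSpectrum.comap (MvPolynomial.map (σ := Fin n) j)) := by
  let _ := j.toAlgebra
  obtain ⟨ε, hε⟩ : ∃ ε : MvPolynomial (Fin n) k ⊗[k] K ≃+* MvPolynomial (Fin n) K,
      ∀ f : MvPolynomial (Fin n) k, ε (f ⊗ₜ 1) = MvPolynomial.map (algebraMap k K) f := by
    refine ⟨((Algebra.TensorProduct.comm k (MvPolynomial (Fin n) k) K).toRingEquiv).trans
      (MvPolynomial.algebraTensorAlgEquiv k K).toRingEquiv, fun f => ?_⟩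
    change MvPolynomial.algebraTensorAlgEquiv k K
      (Algebra.TensorProduct.comm k (MvPolynomial (Fin n) k) K (f ⊗ₜ 1)) = _
    rw [Algebra.TensorProduct.comm_tmul, MvPolynomial.algebraTensorAlgEquiv_tmul, one_smul]
  have h : MvPolynomial.map j = (ε : _ →+* _).comp
      (algebraMap (MvPolynomial (Fin n) k) (MvPolynomial (Fin n) k ⊗[k] K)) := by
    refine RingHom.ext fun f => ?_
    rw [RingHom.comp_apply, Algebra.TensorProduct.algebraMap_apply, Algebra.algebraMap_self,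
      RingHom.id_apply]
    exact (hε f).symm
  rw [h, PrimeSpectrum.comap_comp]
  exact PrimeSpectrum.isOpenMap_comap_algebraMap_tensorProduct_of_field.comp
    (PrimeSpectrum.isHomeomorph_comap_of_bijective ε.bijective).isOpenMap

/-- Clearing denominators of a polynomial over the residue field of a prime. -/
theorem exists_map_eq_C_mul {R : Type*} [CommRing R] {σ : Type*} (p : Ideal R) [p.IsPrime]
    (g : MvPolynomial σ p.ResidueField) :
    ∃ (P : MvPolynomial σ R) (c : p.ResidueField), c ≠ 0 ∧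
      MvPolynomial.map (algebraMap R p.ResidueField) P = MvPolynomial.C c * g := by
  classical
  obtain ⟨⟨b, hb⟩, hint⟩ := IsLocalization.exist_integer_multiples_of_finset
    (nonZeroDivisors (R ⧸ p)) (g.support.image (fun m => g.coeff m))
  have hc : algebraMap (R ⧸ p) p.ResidueField b ≠ 0 := by
    rw [Ne, map_eq_zero_iff _ (IsFractionRing.injective (R ⧸ p) p.ResidueField)]
    exact nonZeroDivisors.ne_zero hb
  have hr : ∀ m : σ →₀ ℕ, ∃ r : R, algebraMap R p.ResidueField r =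
      algebraMap (R ⧸ p) p.ResidueField b * g.coeff m := by
    intro m
    by_cases hm : m ∈ g.support
    · obtain ⟨x, hx⟩ := hint _ (Finset.mem_image_of_mem _ hm)
      obtain ⟨r, rfl⟩ := Ideal.Quotient.mk_surjective x
      refine ⟨r, ?_⟩
      rw [← Ideal.algebraMap_quotient_residueField_mk, hx, Algebra.smul_def]
    · refine ⟨0, ?_⟩
      rw [MvPolynomial.notMem_support_iff.mp hm, mul_zero, map_zero]
  choose r hr using hr
  refine ⟨∑ m ∈ g.support, MvPolynomial.monomial m (r m),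
    algebraMap (R ⧸ p) p.ResidueField b, hc, ?_⟩
  rw [map_sum]
  conv_rhs => rw [← MvPolynomial.support_sum_monomial_coeff g, Finset.mul_sum]
  refine Finset.sum_congr rfl fun m _ => ?_
  rw [MvPolynomial.map_monomial, hr, MvPolynomial.C_mul_monomial]

/-- `exists_etale_eval_notMem` over `ℤ`, with the étale algebra in an arbitrary universe and
the canonical `ℤ`-algebra structure. -/
theorem exists_etale_int (p : Ideal ℤ) [p.IsPrime] (n : ℕ) (P : MvPolynomial (Fin n) ℤ)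
    (hP : MvPolynomial.map (algebraMap ℤ p.ResidueField) P ≠ 0) :
    ∃ (A' : Type u) (_ : CommRing A') (_ : Algebra.Etale ℤ A') (r : Fin n → A')
      (y : PrimeSpectrum A'), y.asIdeal.comap (algebraMap ℤ A') = p ∧
        MvPolynomial.aeval r P ∉ y.asIdeal := by
  obtain ⟨A₀, _, alg, het, y₀, hy₀prime, hy₀, r₀, hr₀⟩ :=
    Groth.Agent.Lib.Helper20.SmoothSec.exists_etale_eval_notMem p n P hP
  obtain rfl : alg = Ring.toIntAlgebra A₀ := Subsingleton.elim _ _
  obtain ⟨e⟩ : Nonempty (ULift.{u} A₀ ≃ₐ[ℤ] A₀) :=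
    ⟨AlgEquiv.ofRingEquiv (f := ULift.ringEquiv) (fun x => by simp)⟩
  have het' : Algebra.Etale ℤ (ULift.{u} A₀) := Algebra.Etale.of_equiv e.symm
  refine ⟨ULift.{u} A₀, inferInstance, het', fun i => e.symm (r₀ i),
    ⟨y₀.comap e.toRingEquiv.toRingHom, Ideal.comap_isPrime _ _⟩, ?_, ?_⟩
  · rw [hy₀]
    ext a
    change e (algebraMap ℤ _ a) ∈ y₀ ↔ algebraMap ℤ A₀ a ∈ y₀
    rw [e.commutes]
  · change ¬ (e (MvPolynomial.aeval (fun i => e.symm (r₀ i)) P) ∈ y₀)
    have h1 : e (MvPolynomial.aeval (fun i => e.symm (r₀ i)) P) = MvPolynomial.aeval r₀ P := by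
      have := MvPolynomial.comp_aeval_apply (f := fun i => e.symm (r₀ i))
        (e : ULift.{u} A₀ →ₐ[ℤ] A₀) P
      simpa using this
    rw [h1]
    exact hr₀

/-- PROJ:smooth-boot PKG-D. -/
theorem pkgD {B : Type u} [CommRing B] (n : ℕ) (O : Set (PrimeSpectrum (MvPolynomial (Fin n) B)))
    (hO : IsOpen O) (o₀ : PrimeSpectrum (MvPolynomial (Fin n) B)) (ho₀ : o₀ ∈ O) :
    ∃ (A' : Type u) (_ : CommRing A') (_ : Algebra.Etale ℤ A') (r : Fin n → A')
      (y : PrimeSpectrum A') (o : PrimeSpectrum (MvPolynomial (Fin n) B)),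
      o ∈ O ∧ o.comap (MvPolynomial.C : B →+* MvPolynomial (Fin n) B) =
        o₀.comap (MvPolynomial.C : B →+* MvPolynomial (Fin n) B) ∧
      o.comap (MvPolynomial.map (Int.castRingHom B)) =
        y.comap (MvPolynomial.aeval r : MvPolynomial (Fin n) ℤ →ₐ[ℤ] A').toRingHom := by
  obtain ⟨u, hu⟩ : ∃ u : PrimeSpectrum B, u = o₀.comap MvPolynomial.C := ⟨_, rfl⟩
  obtain ⟨p, hp⟩ : ∃ p : PrimeSpectrum ℤ, p = u.comap (Int.castRingHom B) := ⟨_, rfl⟩
  obtain ⟨j, -⟩ : ∃ j : p.asIdeal.ResidueField →+* u.asIdeal.ResidueField, j = j :=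
    ⟨Ideal.ResidueField.map p.asIdeal u.asIdeal (Int.castRingHom B) (by rw [hp]; rfl), rfl⟩
  obtain ⟨β, hβ⟩ : ∃ β : MvPolynomial (Fin n) B →+* MvPolynomial (Fin n) u.asIdeal.ResidueField,
      β = MvPolynomial.map (algebraMap B u.asIdeal.ResidueField) := ⟨_, rfl⟩
  obtain ⟨γ, hγ⟩ : ∃ γ : MvPolynomial (Fin n) ℤ →+* MvPolynomial (Fin n) p.asIdeal.ResidueField,
      γ = MvPolynomial.map (algebraMap ℤ p.asIdeal.ResidueField) := ⟨_, rfl⟩
  have hsq : β.comp (MvPolynomial.map (Int.castRingHom B)) = (MvPolynomial.map j).comp γ := by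
    refine RingHom.ext fun f => ?_
    rw [RingHom.comp_apply, RingHom.comp_apply, hβ, hγ, MvPolynomial.map_map,
      MvPolynomial.map_map]
    congr 2
    exact RingHom.ext_int _ _
  -- lift `o₀` to the fibre
  obtain ⟨o₀', ho₀'prime, ho₀'⟩ :=
    exists_prime_comap_map u.asIdeal o₀.asIdeal (by rw [hu]; rfl)
  rw [← hβ] at ho₀'
  have hO' : IsOpen (PrimeSpectrum.comap β ⁻¹' O) := hO.preimage (PrimeSpectrum.continuous_comap β)
  have ho₀O' : (⟨o₀', ho₀'prime⟩ : PrimeSpectrum _) ∈ PrimeSpectrum.comap β ⁻¹' O := by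
    change PrimeSpectrum.comap β ⟨o₀', ho₀'prime⟩ ∈ O
    have : PrimeSpectrum.comap β ⟨o₀', ho₀'prime⟩ = o₀ := PrimeSpectrum.ext ho₀'
    rw [this]; exact ho₀
  have hV : IsOpen (PrimeSpectrum.comap (MvPolynomial.map j) '' (PrimeSpectrum.comap β ⁻¹' O)) :=
    isOpenMap_comap_map j n _ hO'
  obtain ⟨_, ⟨g, rfl⟩, hz₀g, hgV⟩ :=
    PrimeSpectrum.isTopologicalBasis_basic_opens.exists_subset_of_mem_open
      (⟨_, ho₀O', rfl⟩ : PrimeSpectrum.comap (MvPolynomial.map j) ⟨o₀', ho₀'prime⟩ ∈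
        PrimeSpectrum.comap (MvPolynomial.map j) '' (PrimeSpectrum.comap β ⁻¹' O)) hV
  -- clear denominators
  obtain ⟨P, c, hc, hPg⟩ := exists_map_eq_C_mul p.asIdeal g
  have hP0 : MvPolynomial.map (algebraMap ℤ p.asIdeal.ResidueField) P ≠ 0 := by
    rw [hPg]
    have hg0 : g ≠ 0 := by
      rintro rfl
      exact hz₀g (Ideal.zero_mem _)
    refine mul_ne_zero ?_ hg0
    rwa [Ne, MvPolynomial.C_eq_zero]
  obtain ⟨A', _, het, r, y, hy, hr⟩ := exists_etale_int.{u} p.asIdeal n P hP0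
  refine ⟨A', inferInstance, het, r, y, ?_⟩
  obtain ⟨z, hz⟩ : ∃ z : PrimeSpectrum (MvPolynomial (Fin n) ℤ), z = PrimeSpectrum.comap
      (MvPolynomial.aeval r : MvPolynomial (Fin n) ℤ →ₐ[ℤ] A').toRingHom y := ⟨_, rfl⟩
  have hzC : z.asIdeal.comap MvPolynomial.C = p.asIdeal := by
    rw [← hy, hz]
    ext a
    change (MvPolynomial.aeval r) (MvPolynomial.C a) ∈ y.asIdeal ↔ algebraMap ℤ A' a ∈ y.asIdeal
    rw [MvPolynomial.aeval_C]
  obtain ⟨z', hz'prime, hz'⟩ := exists_prime_comap_map p.asIdeal z.asIdeal hzC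
  rw [← hγ] at hz' hPg
  have hz'g : (⟨z', hz'prime⟩ : PrimeSpectrum _) ∈ (PrimeSpectrum.basicOpen g : Set _) := by
    change g ∉ z'
    intro hg
    apply hr
    have hPz : P ∈ z.asIdeal := by
      rw [← hz', Ideal.mem_comap, hPg]
      exact Ideal.mul_mem_left _ _ hg
    rw [hz] at hPz
    exact hPz
  obtain ⟨t, htO', ht⟩ := hgV hz'g
  refine ⟨PrimeSpectrum.comap β t, htO', ?_, ?_⟩
  · rw [← hu]
    apply PrimeSpectrum.ext
    rw [hβ]
    exact comap_C_comap_map u.asIdeal t.asIdeal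
  · rw [← PrimeSpectrum.comap_comp_apply, hsq, PrimeSpectrum.comap_comp_apply, ht, ← hz]
    exact PrimeSpectrum.ext hz'

/-- PROJ:smooth-boot PKG-D, restated version (general base ring, plain ring homs; board #2084). -/
theorem pkgDGen {A B : Type u} [CommRing A] [CommRing B] (φ : A →+* B) (n : ℕ)
    (O : Set (PrimeSpectrum (MvPolynomial (Fin n) B))) (hO : IsOpen O)
    (o₀ : PrimeSpectrum (MvPolynomial (Fin n) B)) (ho₀ : o₀ ∈ O) :
    ∃ (A' : Type u) (_ : CommRing A') (ψ : A →+* A') (_ : ψ.Etale) (r : Fin n → A')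
      (y : PrimeSpectrum A') (o : PrimeSpectrum (MvPolynomial (Fin n) B)),
      o ∈ O ∧ o.comap (MvPolynomial.C : B →+* MvPolynomial (Fin n) B) =
        o₀.comap (MvPolynomial.C : B →+* MvPolynomial (Fin n) B) ∧
      o.comap (MvPolynomial.map φ) = y.comap (MvPolynomial.eval₂Hom ψ r) := by
  obtain ⟨u, hu⟩ : ∃ u : PrimeSpectrum B, u = o₀.comap MvPolynomial.C := ⟨_, rfl⟩
  obtain ⟨p, hp⟩ : ∃ p : PrimeSpectrum A, p = u.comap φ := ⟨_, rfl⟩
  have hpu : p.asIdeal = u.asIdeal.comap φ := by rw [hp]; rfl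
  obtain ⟨j, hj⟩ : ∃ j : p.asIdeal.ResidueField →+* u.asIdeal.ResidueField,
      ∀ a : A, j (algebraMap A _ a) = algebraMap B _ (φ a) :=
    ⟨Ideal.ResidueField.map p.asIdeal u.asIdeal φ hpu,
      fun a => Ideal.ResidueField.map_algebraMap p.asIdeal u.asIdeal φ hpu a⟩
  obtain ⟨β, hβ⟩ : ∃ β : MvPolynomial (Fin n) B →+* MvPolynomial (Fin n) u.asIdeal.ResidueField,
      β = MvPolynomial.map (algebraMap B u.asIdeal.ResidueField) := ⟨_, rfl⟩
  obtain ⟨γ, hγ⟩ : ∃ γ : MvPolynomial (Fin n) A →+* MvPolynomial (Fin n) p.asIdeal.ResidueField,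
      γ = MvPolynomial.map (algebraMap A p.asIdeal.ResidueField) := ⟨_, rfl⟩
  have hsq : β.comp (MvPolynomial.map φ) = (MvPolynomial.map j).comp γ := by
    refine RingHom.ext fun f => ?_
    rw [RingHom.comp_apply, RingHom.comp_apply, hβ, hγ, MvPolynomial.map_map,
      MvPolynomial.map_map]
    congr 2
    exact RingHom.ext fun a => (hj a).symm
  obtain ⟨o₀', ho₀'prime, ho₀'⟩ :=
    exists_prime_comap_map u.asIdeal o₀.asIdeal (by rw [hu]; rfl)
  rw [← hβ] at ho₀'
  have hO' : IsOpen (PrimeSpectrum.comap β ⁻¹' O) := hO.preimage (PrimeSpectrum.continuous_comap β)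
  have ho₀O' : (⟨o₀', ho₀'prime⟩ : PrimeSpectrum _) ∈ PrimeSpectrum.comap β ⁻¹' O := by
    change PrimeSpectrum.comap β ⟨o₀', ho₀'prime⟩ ∈ O
    have : PrimeSpectrum.comap β ⟨o₀', ho₀'prime⟩ = o₀ := PrimeSpectrum.ext ho₀'
    rw [this]; exact ho₀
  have hV : IsOpen (PrimeSpectrum.comap (MvPolynomial.map j) '' (PrimeSpectrum.comap β ⁻¹' O)) :=
    isOpenMap_comap_map j n _ hO'
  obtain ⟨_, ⟨g, rfl⟩, hz₀g, hgV⟩ :=
    PrimeSpectrum.isTopologicalBasis_basic_opens.exists_subset_of_mem_open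
      (⟨_, ho₀O', rfl⟩ : PrimeSpectrum.comap (MvPolynomial.map j) ⟨o₀', ho₀'prime⟩ ∈
        PrimeSpectrum.comap (MvPolynomial.map j) '' (PrimeSpectrum.comap β ⁻¹' O)) hV
  obtain ⟨P, c, hc, hPg⟩ := exists_map_eq_C_mul p.asIdeal g
  have hP0 : MvPolynomial.map (algebraMap A p.asIdeal.ResidueField) P ≠ 0 := by
    rw [hPg]
    have hg0 : g ≠ 0 := by
      rintro rfl
      exact hz₀g (Ideal.zero_mem _)
    refine mul_ne_zero ?_ hg0
    rwa [Ne, MvPolynomial.C_eq_zero]
  obtain ⟨A', _, alg, het, y, hyprime, hy, r, hr⟩ :=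
    Groth.Agent.Lib.Helper20.SmoothSec.exists_etale_eval_notMem p.asIdeal n P hP0
  refine ⟨A', inferInstance, algebraMap A A', RingHom.etale_algebraMap.mpr het, r,
    ⟨y, hyprime⟩, ?_⟩
  obtain ⟨z, hz⟩ : ∃ z : PrimeSpectrum (MvPolynomial (Fin n) A), z = PrimeSpectrum.comap
      (MvPolynomial.eval₂Hom (algebraMap A A') r) ⟨y, hyprime⟩ := ⟨_, rfl⟩
  have hzC : z.asIdeal.comap MvPolynomial.C = p.asIdeal := by
    rw [hy, hz]
    ext a
    change (MvPolynomial.eval₂Hom (algebraMap A A') r) (MvPolynomial.C a) ∈ y ↔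
      algebraMap A A' a ∈ y
    rw [MvPolynomial.coe_eval₂Hom, MvPolynomial.eval₂_C]
  obtain ⟨z', hz'prime, hz'⟩ := exists_prime_comap_map p.asIdeal z.asIdeal hzC
  rw [← hγ] at hz' hPg
  have hz'g : (⟨z', hz'prime⟩ : PrimeSpectrum _) ∈ (PrimeSpectrum.basicOpen g : Set _) := by
    change g ∉ z'
    intro hg
    apply hr
    have hPz : P ∈ z.asIdeal := by
      rw [← hz', Ideal.mem_comap, hPg]
      exact Ideal.mul_mem_left _ _ hg
    rw [hz] at hPz
    exact hPz
  obtain ⟨t, htO', ht⟩ := hgV hz'g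
  refine ⟨PrimeSpectrum.comap β t, htO', ?_, ?_⟩
  · rw [← hu]
    apply PrimeSpectrum.ext
    rw [hβ]
    exact comap_C_comap_map u.asIdeal t.asIdeal
  · rw [← PrimeSpectrum.comap_comp_apply, hsq, PrimeSpectrum.comap_comp_apply, ht, ← hz]
    exact PrimeSpectrum.ext hz'

end Groth.Agent.R2.H33.SBD
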