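import Mathlib
import Groth.Prelude.Def_Grpd
import Groth.Prelude.Def_Flat

/-!
# PROJ:fppf-boot, package [SLICE] — specification (helper33)

Groupoid slicing (Stacks, More on Groupoids, 04MS–04MY): rows S7506, S7507, S7508.

For a groupoid scheme `G = (U, R, s, t, c, e, i)` and a morphism `g : U' ⟶ U`:
* `hh G g = pullback.snd g G.t ≫ G.s : U' ×_{g,U,t} R ⟶ U` (the morphism `h` of the source);
* `sec G g : U' ⟶ U' ×_{g,U,t} R`, `u' ↦ (u', e (g u'))`, a section of `pullback.fst g G.t`.

`SliceStepStmt` is ONE slicing step at an ARBITRARY stage `g : U' ⟶ U` (not only at the first stage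
as in S7506): this avoids iterated restrictions of groupoids in the induction for S7507.
The proof is the proof of S7506 with `pr₀ = pullback.fst g G.t` in place of `t`:
`C = O_{X,p} / m_u O_{X,p}` is Cohen–Macaulay of dimension `d₂`; if `pr₀♯ (m_{u'})` lies in a minimal
prime `n` of `C`, then on `V(n)` (a domain of finite type over `κ(u)` via `h♯`, with the retraction
given by the point `p`) we get `s♯ = t♯` by the `σ = τ` lemma, so `V(n)` embeds into the stabilizer
fibre `G_u` (via `pr₁`, an immersion) and `d₁ ≥ d₂`; otherwise prime avoidance gives `f ∈ m_{u'}`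
with `pr₀♯ f` a nonzerodivisor on `C`, `U'' = V(f)`, and `X_{g''} = V(pr₀♯ f) ⊂ X_g` is flat over `U`
at `p` with fibre ring `C / f`, Cohen–Macaulay of dimension `d₂ - 1`.
-/

set_option autoImplicit false
universe u

open CategoryTheory CategoryTheory.Limits AlgebraicGeometry

namespace Groth.Agent.R2.H33.SliceSpec

variable {S : Scheme.{u}} (G : Grpd.GroupoidScheme S) {U' : Scheme.{u}} (g : U' ⟶ G.U)

/-- `h = s ∘ pr₁ : U' ×_{g,U,t} R ⟶ U`. -/
noncomputable abbrev hh : pullback g G.t ⟶ G.U := pullback.snd g G.t ≫ G.s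

/-- the section `u' ↦ (u', e (g u'))` of `pr₀ : U' ×_{g,U,t} R ⟶ U'`. -/
noncomputable def sec : U' ⟶ pullback g G.t :=
  pullback.lift (𝟙 U') (g ≫ G.e) (by rw [Category.id_comp, Category.assoc, G.e_t, Category.comp_id])

@[reassoc (attr := simp)]
lemma sec_fst : sec G g ≫ pullback.fst g G.t = 𝟙 U' := pullback.lift_fst _ _ _

@[reassoc (attr := simp)]
lemma sec_snd : sec G g ≫ pullback.snd g G.t = g ≫ G.e := pullback.lift_snd _ _ _

@[reassoc (attr := simp)]
lemma sec_hh : sec G g ≫ hh G g = g := by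
  rw [hh, sec_snd_assoc, G.e_s, Category.comp_id]

lemma sec_fst_apply (u' : U') : pullback.fst g G.t (sec G g u') = u' := by
  rw [← Scheme.Hom.comp_apply, sec_fst]; rfl

lemma sec_snd_apply (u' : U') : pullback.snd g G.t (sec G g u') = G.e (g u') := by
  rw [← Scheme.Hom.comp_apply, sec_snd, Scheme.Hom.comp_apply]

lemma hh_sec_apply (u' : U') : hh G g (sec G g u') = g u' := by
  rw [← Scheme.Hom.comp_apply, sec_hh]

/-- **[STEP]** one slicing step at an arbitrary stage. -/
def SliceStepStmt : Prop :=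
  ∀ (S : Scheme.{u}) (G : Grpd.GroupoidScheme S) [LocallyOfFinitePresentation G.s]
    [LocallyOfFinitePresentation G.t] (_ : ∀ r : G.R, Grpd.IsCMAt G.s r)
    (_ : ∀ r : G.R, Grpd.IsCMAt G.t r)
    (U' : Scheme.{u}) [IsAffine U'] (g : U' ⟶ G.U) [IsImmersion g] [LocallyOfFinitePresentation g]
    (u' : U') (_ : IsClosed ({u'} : Set U'))
    (_ : LocallyOfFiniteType (G.U.fromSpecResidueField (g u')))
    (_ : Grpd.IsCMAt (hh G g) (sec G g u'))
    (_ : topologicalKrullDim ↥(G.stabilizerToU.fiber (g u')) <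
      FlatMor.fibreDimAt (hh G g) (sec G g u')),
    ∃ (U'' : Scheme.{u}) (_ : IsAffine U'') (j : U'' ⟶ U') (u'' : U''),
      IsClosedImmersion j ∧ LocallyOfFinitePresentation j ∧ j u'' = u' ∧
      Grpd.IsCMAt (hh G (j ≫ g)) (sec G (j ≫ g) u'') ∧
      FlatMor.fibreDimAt (hh G (j ≫ g)) (sec G (j ≫ g) u'') + 1 =
        FlatMor.fibreDimAt (hh G g) (sec G g u')

/-- **[LOWER]** the stabilizer fibre has dimension at most the local dimension of the fibre of `s`
at the identity point. -/
def LowerStmt : Prop :=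
  ∀ (S : Scheme.{u}) (G : Grpd.GroupoidScheme S) [LocallyOfFinitePresentation G.s]
    [LocallyOfFinitePresentation G.t] (u : G.U)
    (_ : LocallyOfFiniteType (G.U.fromSpecResidueField u)),
    topologicalKrullDim ↥(G.stabilizerToU.fiber u) ≤ FlatMor.fibreDimAt G.s (G.e u)

/-- **[HOMOG]** homogeneity: the Cohen–Macaulay locus of `h` is saturated for `pr₀`. -/
def HomogStmt : Prop :=
  ∀ (S : Scheme.{u}) (G : Grpd.GroupoidScheme S) [LocallyOfFinitePresentation G.s]
    [LocallyOfFinitePresentation G.t] (_ : ∀ r : G.R, Grpd.IsCMAt G.s r)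
    (_ : ∀ r : G.R, Grpd.IsCMAt G.t r)
    (U' : Scheme.{u}) (g : U' ⟶ G.U) [LocallyOfFinitePresentation g]
    (x : ↑(pullback g G.t)),
    Grpd.IsCMAt (hh G g) x ↔ Grpd.IsCMAt (hh G g) (sec G g (pullback.fst g G.t x))

/-- **[HOMOG-QF]** homogeneity of the fibre dimension of `h`. -/
def HomogDimStmt : Prop :=
  ∀ (S : Scheme.{u}) (G : Grpd.GroupoidScheme S) [LocallyOfFinitePresentation G.s]
    [LocallyOfFinitePresentation G.t] (_ : ∀ r : G.R, Grpd.IsCMAt G.s r)
    (_ : ∀ r : G.R, Grpd.IsCMAt G.t r)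
    (U' : Scheme.{u}) (g : U' ⟶ G.U) [LocallyOfFinitePresentation g]
    (x : ↑(pullback g G.t)),
    FlatMor.fibreDimAt (hh G g) x = FlatMor.fibreDimAt (hh G g) (sec G g (pullback.fst g G.t x))

end Groth.Agent.R2.H33.SliceSpec
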