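import Groth.Agent.R2.H33GoodEpi
import Groth.Agent.Lib.Helper25Tame

/-!
# helper33: the invariants of a tame coaction give a categorical quotient in schemes
-/

set_option autoImplicit false
universe u
open CategoryTheory AlgebraicGeometry Limits

namespace Groth.Agent.R2.H33.TameQuot

open Groth.Agent.R2.H33.GoodEpi

section Generic

variable {B S C' : Type u} [CommRing B] [CommRing S] [CommRing C'] (ρ ι : B →+* S) (j : C' →+* B)

theorem awayMap_algebraMap (c a : C') :
    Localization.awayMap j c (algebraMap C' (Localization.Away c) a) =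
      algebraMap B (Localization.Away (j c)) (j a) := by
  simp [Localization.awayMap, IsLocalization.Away.map, IsLocalization.map_eq]

theorem awayMap_injective (hj : Function.Injective j) (c : C') :
    Function.Injective (Localization.awayMap j c) := by
  rw [injective_iff_map_eq_zero]
  intro x hx
  obtain ⟨⟨a, s⟩, rfl⟩ := IsLocalization.mk'_surjective (Submonoid.powers c) x
  rw [Localization.awayMap, IsLocalization.Away.map, IsLocalization.map_mk',
    IsLocalization.mk'_eq_zero_iff] at hx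
  rw [IsLocalization.mk'_eq_zero_iff]
  obtain ⟨⟨_, n, rfl⟩, hm⟩ := hx
  refine ⟨⟨c ^ n, n, rfl⟩, ?_⟩
  apply hj
  rw [map_mul, map_pow, map_zero]
  exact hm

theorem mem_range_awayMap (heq : ∀ b, ρ b = ι b → b ∈ Set.range j)
    (hρj : ∀ c', ρ (j c') = ι (j c')) (c : C') {L : Type u} [CommRing L] (μ : S →+* L)
    (hμ : ∀ x y, μ x = μ y → ∃ n : ℕ, ι (j c) ^ n * x = ι (j c) ^ n * y)
    (ρc ιc : Localization.Away (j c) →+* L)
    (hρc : ∀ b, ρc (algebraMap B _ b) = μ (ρ b)) (hιc : ∀ b, ιc (algebraMap B _ b) = μ (ι b))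
    (x : Localization.Away (j c)) (hx : ρc x = ιc x) :
    x ∈ Set.range (Localization.awayMap j c) := by
  obtain ⟨n, b, hb⟩ := IsLocalization.Away.surj (j c) x
  have h1 : μ (ρ b) = μ (ι b) := by
    rw [← hρc, ← hιc, ← hb, map_mul, map_mul, map_pow, map_pow, hρc, hιc, hx, hρj]
  obtain ⟨m, hm⟩ := hμ _ _ h1
  have h2 : ρ (j c ^ m * b) = ι (j c ^ m * b) := by
    rw [map_mul, map_mul, map_pow, map_pow, hρj, hm]
  obtain ⟨c', hc'⟩ := heq _ h2
  refine ⟨IsLocalization.mk' _ c' (⟨c ^ (n + m), n + m, rfl⟩ : Submonoid.powers c), ?_⟩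
  have hu : IsUnit (algebraMap B (Localization.Away (j c)) (j c) ^ (n + m)) :=
    (IsLocalization.Away.algebraMap_isUnit (j c)).pow _
  apply hu.mul_left_injective
  change _ * _ = _ * _
  have e1 : algebraMap B (Localization.Away (j c)) (j c) ^ (n + m) =
      Localization.awayMap j c (algebraMap C' (Localization.Away c) (c ^ (n + m))) := by
    rw [awayMap_algebraMap, map_pow, map_pow]
  rw [e1, ← map_mul]
  have e2 : IsLocalization.mk' (Localization.Away c) c'
      (⟨c ^ (n + m), n + m, rfl⟩ : Submonoid.powers c) *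
      algebraMap C' (Localization.Away c) (c ^ (n + m)) = algebraMap C' (Localization.Away c) c' :=
    IsLocalization.mk'_spec _ _ _
  rw [e2, awayMap_algebraMap, hc', ← e1, map_mul, map_pow, pow_add, ← hb]
  ring

theorem exists_lift_of_injective {R S' G : CommRingCat.{u}} (i : R ⟶ S')
    (hi : Function.Injective i.hom) (f : G ⟶ S') (hf : ∀ c, f.hom c ∈ Set.range i.hom) :
    ∃ ψ : G ⟶ R, ψ ≫ i = f := by
  let e : R ≃+* i.hom.range := RingEquiv.ofBijective i.hom.rangeRestrict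
    ⟨fun a b hab => hi (congrArg Subtype.val hab), i.hom.rangeRestrict_surjective⟩
  have hf' : ∀ c, f.hom c ∈ i.hom.range := fun c => by
    obtain ⟨r, hr⟩ := hf c
    exact ⟨r, hr⟩
  refine ⟨CommRingCat.ofHom (e.symm.toRingHom.comp (f.hom.codRestrict i.hom.range hf')), ?_⟩
  ext c
  change i.hom (e.symm (f.hom.codRestrict i.hom.range hf' c)) = f.hom c
  have h1 : (e (e.symm (f.hom.codRestrict i.hom.range hf' c)) : S') =
      (f.hom.codRestrict i.hom.range hf' c : S') := by rw [RingEquiv.apply_symm_apply]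
  exact h1

/-- Local existence of the descended morphism over a basic open of the invariants. -/
theorem exists_local {Z : Scheme.{u}} (ψ : Spec (CommRingCat.of B) ⟶ Z)
    (hψ : Spec.map (CommRingCat.ofHom ρ) ≫ ψ = Spec.map (CommRingCat.ofHom ι) ≫ ψ)
    (hj : Function.Injective j) (heq : ∀ b, ρ b = ι b → b ∈ Set.range j)
    (hρj : ∀ c', ρ (j c') = ι (j c')) (c : C') (W : Z.Opens) (hW : IsAffineOpen W)
    (hcW : ∀ x : PrimeSpectrum B, j c ∉ x.asIdeal → ψ x ∈ W) :
    ∃ χc : Spec (CommRingCat.of (Localization.Away c)) ⟶ Z,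
      Spec.map (CommRingCat.ofHom (Localization.awayMap j c)) ≫ χc =
        Spec.map (CommRingCat.ofHom (algebraMap B (Localization.Away (j c)))) ≫ ψ := by
  obtain ⟨lc, hlc⟩ : ∃ lc : B →+* Localization.Away (j c),
      lc = algebraMap B (Localization.Away (j c)) := ⟨_, rfl⟩
  obtain ⟨μ, hμdef⟩ : ∃ μ : S →+* Localization.Away (ι (j c)),
      μ = algebraMap S (Localization.Away (ι (j c))) := ⟨_, rfl⟩
  have hu : IsUnit (μ (ι (j c))) := by
    rw [hμdef]; exact IsLocalization.Away.algebraMap_isUnit _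
  have hu1 : IsUnit ((μ.comp ρ) (j c)) := by rw [RingHom.comp_apply, hρj]; exact hu
  have hu2 : IsUnit ((μ.comp ι) (j c)) := hu
  obtain ⟨ρc, hρc⟩ : ∃ ρc : Localization.Away (j c) →+* Localization.Away (ι (j c)),
      ρc.comp (algebraMap B _) = μ.comp ρ :=
    ⟨IsLocalization.Away.lift (j c) hu1, IsLocalization.Away.lift_comp _ _⟩
  obtain ⟨ιc, hιc⟩ : ∃ ιc : Localization.Away (j c) →+* Localization.Away (ι (j c)),
      ιc.comp (algebraMap B _) = μ.comp ι :=
    ⟨IsLocalization.Away.lift (j c) hu2, IsLocalization.Away.lift_comp _ _⟩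
  rw [← hlc] at hρc hιc ⊢
  have hμ : ∀ x y, μ x = μ y → ∃ n : ℕ, ι (j c) ^ n * x = ι (j c) ^ n * y := by
    intro x y hxy
    rw [hμdef, IsLocalization.eq_iff_exists (Submonoid.powers (ι (j c)))] at hxy
    obtain ⟨⟨_, n, rfl⟩, h⟩ := hxy
    exact ⟨n, h⟩
  have hrange : Set.range (Spec.map (CommRingCat.ofHom lc) ≫ ψ) ⊆ Set.range hW.fromSpec := by
    rw [hW.range_fromSpec]
    rintro _ ⟨x, rfl⟩
    change ψ (Spec.map (CommRingCat.ofHom lc) x) ∈ W
    apply hcW
    rw [Spec.map_apply]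
    change ¬ (lc (j c) ∈ (x : PrimeSpectrum _).asIdeal)
    intro hmem
    apply (x : PrimeSpectrum _).isPrime.ne_top
    apply Ideal.eq_top_of_isUnit_mem _ hmem
    rw [hlc]; exact IsLocalization.Away.algebraMap_isUnit _
  obtain ⟨g, hg⟩ : ∃ g, g ≫ hW.fromSpec = Spec.map (CommRingCat.ofHom lc) ≫ ψ :=
    ⟨IsOpenImmersion.lift hW.fromSpec _ hrange, IsOpenImmersion.lift_fac _ _ _⟩
  obtain ⟨θ, hθ⟩ : ∃ θ : Γ(Z, W) ⟶ CommRingCat.of (Localization.Away (j c)), Spec.map θ = g :=
    ⟨Spec.preimage g, Spec.map_preimage g⟩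
  have hinv : θ ≫ CommRingCat.ofHom ρc = θ ≫ CommRingCat.ofHom ιc := by
    apply Spec.map_injective
    rw [Spec.map_comp, Spec.map_comp, ← cancel_mono hW.fromSpec, Category.assoc, Category.assoc,
      hθ, hg, ← Category.assoc, ← Category.assoc, ← Spec.map_comp, ← Spec.map_comp]
    have e1 : CommRingCat.ofHom lc ≫ CommRingCat.ofHom ρc =
        CommRingCat.ofHom ρ ≫ CommRingCat.ofHom μ := by
      rw [← CommRingCat.ofHom_comp, ← CommRingCat.ofHom_comp, hρc]
    have e2 : CommRingCat.ofHom lc ≫ CommRingCat.ofHom ιc =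
        CommRingCat.ofHom ι ≫ CommRingCat.ofHom μ := by
      rw [← CommRingCat.ofHom_comp, ← CommRingCat.ofHom_comp, hιc]
    rw [e1, e2, Spec.map_comp, Spec.map_comp, Category.assoc, Category.assoc, hψ]
  obtain ⟨θ', hθ'⟩ := exists_lift_of_injective (CommRingCat.ofHom (Localization.awayMap j c))
    (awayMap_injective j hj c) θ (fun s => by
      refine mem_range_awayMap ρ ι j heq hρj c μ hμ ρc ιc ?_ ?_ _ ?_
      · intro b; rw [← hlc]; exact congrArg (fun f => f b) hρc
      · intro b; rw [← hlc]; exact congrArg (fun f => f b) hιc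
      · exact congrArg (fun f => f.hom s) hinv)
  refine ⟨Spec.map θ' ≫ hW.fromSpec, ?_⟩
  rw [← Category.assoc, ← Spec.map_comp, hθ', hθ, hg]

omit [CommRing S] in
theorem pullback_form {Z : Scheme.{u}} (ψ : Spec (CommRingCat.of B) ⟶ Z) (c : C')
    (χc : Spec (CommRingCat.of (Localization.Away c)) ⟶ Z)
    (hχc : Spec.map (CommRingCat.ofHom (Localization.awayMap j c)) ≫ χc =
        Spec.map (CommRingCat.ofHom (algebraMap B (Localization.Away (j c)))) ≫ ψ) :
    pullback.snd (Spec.map (CommRingCat.ofHom j))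
        (Spec.map (CommRingCat.ofHom (algebraMap C' (Localization.Away c)))) ≫ χc =
      pullback.fst (Spec.map (CommRingCat.ofHom j))
        (Spec.map (CommRingCat.ofHom (algebraMap C' (Localization.Away c)))) ≫ ψ := by
  obtain ⟨π, hπ⟩ : ∃ π, π = Spec.map (CommRingCat.ofHom j) := ⟨_, rfl⟩
  obtain ⟨ic, hic⟩ : ∃ ic, ic = Spec.map (CommRingCat.ofHom (algebraMap C' (Localization.Away c))) :=
    ⟨_, rfl⟩
  obtain ⟨lc, hlc⟩ : ∃ lc, lc = Spec.map (CommRingCat.ofHom (algebraMap B (Localization.Away (j c)))) :=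
    ⟨_, rfl⟩
  have : IsOpenImmersion ic := by rw [hic]; infer_instance
  have : IsOpenImmersion lc := by rw [hlc]; infer_instance
  rw [← hπ, ← hic]
  rw [← hlc] at hχc
  have hsq : Spec.map (CommRingCat.ofHom (Localization.awayMap j c)) ≫ ic = lc ≫ π := by
    rw [hic, hlc, hπ, ← Spec.map_comp, ← Spec.map_comp]
    congr 1
    ext a
    exact awayMap_algebraMap j c a
  have h5 : ∀ y, π y = PrimeSpectrum.comap j y := by
    rw [hπ]; intro y; rfl
  have hrange : Set.range (pullback.fst π ic) ⊆ Set.range lc := by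
    rintro _ ⟨z, rfl⟩
    have h1 : π (pullback.fst π ic z) = ic (pullback.snd π ic z) := by
      have := congrArg (fun f : pullback π ic ⟶ _ => f.base z) (pullback.condition (f := π) (g := ic))
      simpa only [Scheme.Hom.comp_base, TopCat.hom_comp, ContinuousMap.comp_apply] using this
    have h2 : Set.range lc = (PrimeSpectrum.basicOpen (j c) : Set (PrimeSpectrum B)) := by
      rw [hlc]
      exact PrimeSpectrum.localization_away_comap_range (Localization.Away (j c)) (j c)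
    have h3 : Set.range ic = (PrimeSpectrum.basicOpen c : Set (PrimeSpectrum C')) := by
      rw [hic]
      exact PrimeSpectrum.localization_away_comap_range (Localization.Away c) c
    rw [h2]
    have h4 : π (pullback.fst π ic z) ∈ (PrimeSpectrum.basicOpen c : Set (PrimeSpectrum C')) := by
      rw [h1, ← h3]; exact ⟨_, rfl⟩
    rw [h5] at h4
    exact h4
  have hfac : IsOpenImmersion.lift lc (pullback.fst π ic) hrange ≫ lc = pullback.fst π ic :=
    IsOpenImmersion.lift_fac _ _ _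
  have hsnd : IsOpenImmersion.lift lc (pullback.fst π ic) hrange ≫
      Spec.map (CommRingCat.ofHom (Localization.awayMap j c)) = pullback.snd π ic := by
    rw [← cancel_mono ic, Category.assoc, hsq, ← Category.assoc, hfac, pullback.condition]
  rw [← hsnd, Category.assoc, hχc, ← Category.assoc, hfac]

/-- Existence of the descended morphism, given enough invariant functions. -/
theorem exists_desc_generic {Z : Scheme.{u}} (ψ : Spec (CommRingCat.of B) ⟶ Z)
    (hψ : Spec.map (CommRingCat.ofHom ρ) ≫ ψ = Spec.map (CommRingCat.ofHom ι) ≫ ψ)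
    (hj : Function.Injective j) (heq : ∀ b, ρ b = ι b → b ∈ Set.range j)
    (hρj : ∀ c', ρ (j c') = ι (j c'))
    (hgood : Good (Spec.map (CommRingCat.ofHom j)))
    (hspan : Ideal.span {c : C' | ∃ W : Z.Opens, IsAffineOpen W ∧
      ∀ x : PrimeSpectrum B, j c ∉ x.asIdeal → ψ x ∈ W} = ⊤) :
    ∃ χ : Spec (CommRingCat.of C') ⟶ Z, Spec.map (CommRingCat.ofHom j) ≫ χ = ψ := by
  obtain ⟨T, hT⟩ : ∃ T : Set C', T = {c : C' | ∃ W : Z.Opens, IsAffineOpen W ∧
      ∀ x : PrimeSpectrum B, j c ∉ x.asIdeal → ψ x ∈ W} := ⟨_, rfl⟩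
  rw [← hT] at hspan
  have hs : Ideal.span (Set.range (Subtype.val : T → C')) = ⊤ := by
    rw [Subtype.range_coe]; exact hspan
  have hloc : ∀ i : T, ∃ χc : Spec (CommRingCat.of (Localization.Away (i : C'))) ⟶ Z,
      Spec.map (CommRingCat.ofHom (Localization.awayMap j (i : C'))) ≫ χc =
        Spec.map (CommRingCat.ofHom (algebraMap B (Localization.Away (j (i : C'))))) ≫ ψ := by
    rintro ⟨c, hc⟩
    rw [hT] at hc
    obtain ⟨W, hW, hcW⟩ := hc
    exact exists_local ρ ι j ψ hψ hj heq hρj c W hW hcW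
  choose χ hχ using hloc
  exact exists_desc hgood ψ
    (Scheme.affineOpenCoverOfSpanRangeEqTop (R := CommRingCat.of C') (Subtype.val : T → C') hs).openCover
    χ (fun i : T => pullback_form j ψ i.1 (χ i) (hχ i))

end Generic

section Tame

open TensorProduct HopfRep Groth.Agent.Lib.Helper25

theorem zeroLocus_comap_map_subset {B S : Type*} [CommRing B] [CommRing S] (ρ ι : B →+* S)
    (U : Set (PrimeSpectrum B)) (hUo : IsOpen U)
    (hUinv : ∀ x : PrimeSpectrum S, PrimeSpectrum.comap ρ x ∈ U ↔ PrimeSpectrum.comap ι x ∈ U) :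
    PrimeSpectrum.zeroLocus
      ((Ideal.comap ρ (Ideal.map ι (PrimeSpectrum.vanishingIdeal Uᶜ)) : Ideal B) : Set B) ⊆ Uᶜ := by
  rw [← PrimeSpectrum.closure_image_comap_zeroLocus]
  apply closure_minimal _ hUo.isClosed_compl
  rintro _ ⟨x, hx, rfl⟩
  rw [Set.mem_compl_iff, hUinv]
  have h1 : PrimeSpectrum.comap ι x ∈
      PrimeSpectrum.zeroLocus (PrimeSpectrum.vanishingIdeal Uᶜ : Set B) := by
    rw [PrimeSpectrum.mem_zeroLocus] at hx ⊢
    intro a ha
    exact hx (Ideal.mem_map_of_mem _ ha)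
  rw [PrimeSpectrum.zeroLocus_vanishingIdeal_eq_closure, hUo.isClosed_compl.closure_eq] at h1
  exact h1

variable {k : Type u} [CommRing k] {A : Type u} [CommRing A] [HopfAlgebra k A]
variable {B : Type u} [CommRing B] [Algebra k B]

theorem map_includeLeft_le_range (𝔞 : Ideal B) (x : B ⊗[k] A)
    (hx : x ∈ Ideal.map (Algebra.TensorProduct.includeLeftRingHom : B →+* B ⊗[k] A) 𝔞) :
    x ∈ LinearMap.range ((𝔞.restrictScalars k).subtype.rTensor A) := by
  have hmul : ∀ (y : B ⊗[k] A) (z : (𝔞.restrictScalars k) ⊗[k] A),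
      y * ((𝔞.restrictScalars k).subtype.rTensor A z) ∈
        LinearMap.range ((𝔞.restrictScalars k).subtype.rTensor A) := by
    intro y z
    induction y using TensorProduct.induction_on with
    | zero => rw [zero_mul]; exact Submodule.zero_mem _
    | add y₁ y₂ h₁ h₂ => rw [add_mul]; exact Submodule.add_mem _ h₁ h₂
    | tmul b a =>
      induction z using TensorProduct.induction_on with
      | zero => rw [map_zero, mul_zero]; exact Submodule.zero_mem _
      | add z₁ z₂ h₁ h₂ => rw [map_add, mul_add]; exact Submodule.add_mem _ h₁ h₂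
      | tmul a₀ a' =>
        refine ⟨(⟨b * a₀.1, 𝔞.mul_mem_left b a₀.2⟩ : 𝔞.restrictScalars k) ⊗ₜ (a * a'), ?_⟩
        rw [LinearMap.rTensor_tmul, LinearMap.rTensor_tmul, Algebra.TensorProduct.tmul_mul_tmul]
        rfl
  refine Submodule.span_induction ?_ ?_ ?_ ?_ hx
  · rintro _ ⟨a₀, ha₀, rfl⟩
    exact ⟨(⟨a₀, ha₀⟩ : 𝔞.restrictScalars k) ⊗ₜ 1, by rw [LinearMap.rTensor_tmul]; rfl⟩
  · exact Submodule.zero_mem _
  · intro x y _ _ hx hy; exact Submodule.add_mem _ hx hy
  · rintro y x _ ⟨z, rfl⟩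
    exact hmul y z

variable [HopfRep.Comod k A B] [GLin.IsCoactAlg k A B]

theorem span_eq_top (α : A →ₗ[k] B) (hα : Hoch.IsComodHom A α) (hα1 : α 1 = 1)
    {I : Type*} (U : I → Set (PrimeSpectrum B)) (hUo : ∀ i, IsOpen (U i))
    (hUinv : ∀ i (x : PrimeSpectrum (B ⊗[k] A)),
      PrimeSpectrum.comap (GLin.coactAlgHom k A B).toRingHom x ∈ U i ↔
        PrimeSpectrum.comap (Algebra.TensorProduct.includeLeftRingHom : B →+* B ⊗[k] A) x ∈ U i)
    (hUcov : ∀ x, ∃ i, x ∈ U i) :
    Ideal.span {c : GLin.invariants k A B |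
      ∃ i, ∀ x : PrimeSpectrum B, (c : B) ∉ x.asIdeal → x ∈ U i} = ⊤ := by
  obtain ⟨T, hT⟩ : ∃ T : Set (GLin.invariants k A B), T = {c : GLin.invariants k A B |
      ∃ i, ∀ x : PrimeSpectrum B, (c : B) ∉ x.asIdeal → x ∈ U i} := ⟨_, rfl⟩
  rw [← hT]
  obtain ⟨𝔞, h𝔞⟩ : ∃ 𝔞 : I → Ideal B, 𝔞 = fun i => PrimeSpectrum.vanishingIdeal (U i)ᶜ := ⟨_, rfl⟩
  obtain ⟨𝔟, h𝔟⟩ : ∃ 𝔟 : I → Ideal B, 𝔟 = fun i => Ideal.comap (GLin.coactAlgHom k A B).toRingHom
      (Ideal.map (Algebra.TensorProduct.includeLeftRingHom : B →+* B ⊗[k] A) (𝔞 i)) := ⟨_, rfl⟩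
  have hsub : ∀ i, PrimeSpectrum.zeroLocus (𝔟 i : Set B) ⊆ (U i)ᶜ := fun i => by
    rw [h𝔟, h𝔞]
    exact zeroLocus_comap_map_subset _ _ (U i) (hUo i) (hUinv i)
  have htop : (⨆ i, 𝔟 i) = ⊤ := by
    rw [← PrimeSpectrum.zeroLocus_empty_iff_eq_top, PrimeSpectrum.zeroLocus_iSup,
      Set.eq_empty_iff_forall_notMem]
    intro x hx
    obtain ⟨i, hi⟩ := hUcov x
    exact (hsub i (Set.mem_iInter.mp hx i)) hi
  have hE : ∀ i, ∀ b ∈ 𝔟 i, reynoldsInv α hα b ∈ T := by
    intro i b hb
    rw [hT]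
    refine ⟨i, fun x hx => ?_⟩
    by_contra hxU
    apply hx
    have h1 : ((reynoldsInv α hα b : GLin.invariants k A B) : B) ∈ 𝔞 i := by
      change TameAct.reynolds k A B B α b ∈ 𝔞 i
      rw [reynolds_eq]
      rw [h𝔟] at hb
      exact reyAux_mem_of_mem_range α (𝔞 i) (map_includeLeft_le_range (𝔞 i) _ hb)
    rw [h𝔞] at h1
    exact (PrimeSpectrum.mem_vanishingIdeal _ _).mp h1 x hxU
  have key : ∀ b ∈ (⨆ i, 𝔟 i), reynoldsInv α hα b ∈ Ideal.span T := by
    intro b hb
    refine Submodule.iSup_induction 𝔟 (motive := fun b => reynoldsInv α hα b ∈ Ideal.span T) hb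
      ?_ ?_ ?_
    · intro i x hx; exact Ideal.subset_span (hE i x hx)
    · have : reynoldsInv α hα 0 = 0 := Subtype.ext (by simp [reynoldsInv])
      rw [this]; exact Ideal.zero_mem _
    · intro x y hx hy; rw [reynoldsInv_add]; exact Ideal.add_mem _ hx hy
  have h1 := key 1 (by rw [htop]; trivial)
  have h2 : reynoldsInv α hα 1 = 1 := by simpa using reynoldsInv_algebraMap α hα hα1 1
  rw [h2] at h1
  exact (Ideal.eq_top_iff_one _).mpr h1

theorem good_invariants (α : A →ₗ[k] B) (hα : Hoch.IsComodHom A α) (hα1 : α 1 = 1) :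
    Good (Spec.map (CommRingCat.ofHom (algebraMap (GLin.invariants k A B) B))) := by
  refine good_Spec_map _ (AddMonoidHom.mk' (reynoldsInv α hα) (reynoldsInv_add α hα)) ?_ ?_
  · intro c b
    apply Subtype.ext
    change TameAct.reynolds k A B B α ((c : B) * b) = (c : B) * TameAct.reynolds k A B B α b
    exact reynolds_smul_of_mem_fixedPts α c.2 b
  · change reynoldsInv α hα 1 = 1
    simpa using reynoldsInv_algebraMap α hα hα1 1

theorem existsUnique_desc
    (htame : ∃ α : A →ₗ[k] B, Hoch.IsComodHom A α ∧ α 1 = 1)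
    (Z : Scheme.{u}) (ψ : Spec (CommRingCat.of B) ⟶ Z)
    (hψ : Spec.map (CommRingCat.ofHom (GLin.coactAlgHom k A B).toRingHom) ≫ ψ =
      Spec.map (CommRingCat.ofHom
        (Algebra.TensorProduct.includeLeftRingHom : B →+* TensorProduct k B A)) ≫ ψ) :
    ∃! χ : Spec (CommRingCat.of (GLin.invariants k A B)) ⟶ Z,
      Spec.map (CommRingCat.ofHom (algebraMap (GLin.invariants k A B) B)) ≫ χ = ψ := by
  obtain ⟨α, hα, hα1⟩ := htame
  have hgood := good_invariants α hα hα1
  have hepi := hgood.epi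
  have hpt : ∀ x : PrimeSpectrum (B ⊗[k] A),
      ψ (PrimeSpectrum.comap (GLin.coactAlgHom k A B).toRingHom x) =
        ψ (PrimeSpectrum.comap
          (Algebra.TensorProduct.includeLeftRingHom : B →+* B ⊗[k] A) x) := by
    intro x
    have := congrArg (fun f : Spec (CommRingCat.of (B ⊗[k] A)) ⟶ Z => f.base x) hψ
    simp only [Scheme.Hom.comp_base, TopCat.hom_comp, ContinuousMap.comp_apply] at this
    exact this
  have hspan := span_eq_top α hα hα1 (I := Z.affineOpens)
    (fun W => {x : PrimeSpectrum B | ψ x ∈ W.1}) (fun W => (ψ ⁻¹ᵁ W.1).isOpen)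
    (fun W x => by
      change ψ _ ∈ W.1 ↔ ψ _ ∈ W.1
      rw [hpt])
    (fun x => by
      obtain ⟨_, ⟨V, hV, rfl⟩, hy, -⟩ :=
        (Z.isBasis_affineOpens).exists_subset_of_mem_open (Set.mem_univ (ψ x)) isOpen_univ
      exact ⟨⟨V, hV⟩, hy⟩)
  have hex : ∃ χ : Spec (CommRingCat.of (GLin.invariants k A B)) ⟶ Z,
      Spec.map (CommRingCat.ofHom (algebraMap (GLin.invariants k A B) B)) ≫ χ = ψ := by
    refine exists_desc_generic (GLin.coactAlgHom k A B).toRingHom
      (Algebra.TensorProduct.includeLeftRingHom : B →+* B ⊗[k] A)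
      (algebraMap (GLin.invariants k A B) B) ψ hψ Subtype.val_injective ?_ ?_ hgood ?_
    · intro b hb
      exact ⟨⟨b, hb⟩, rfl⟩
    · intro c'
      exact c'.2
    · refine eq_top_mono (Ideal.span_mono ?_) hspan
      rintro c ⟨W, hW⟩
      exact ⟨W.1, W.2, hW⟩
  obtain ⟨χ, hχ⟩ := hex
  exact ⟨χ, hχ, fun χ' hχ' => by
    rw [← cancel_epi (Spec.map (CommRingCat.ofHom (algebraMap (GLin.invariants k A B) B))),
      hχ', hχ]⟩

end Tame

end Groth.Agent.R2.H33.TameQuot
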