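import Mathlib
import Groth.Prelude.Def_HTop
import Groth.Agent.R2.H33ValLift
import Groth.Agent.Lib.Helper10VCover

/-!
# V coverings and the valuation-ring lifting property (helper33)
-/

set_option autoImplicit false
set_option linter.style.haveILetI false
universe w w' u

open CategoryTheory CategoryTheory.Limits AlgebraicGeometry Opposite HTop IsLocalRing

namespace Groth.Agent.R2.H33.VCover

open Groth.Agent.R2.H33.ValLift

/-- Valuation rings along a specialization, in bundled form. -/
theorem exists_valuationRing_of_specializes' {Z : Scheme.{u}} {z z' : Z} (hs : z' ⤳ z) :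
    ∃ (V : CommRingCat.{u}) (_ : IsDomain V) (_ : ValuationRing V) (h : Spec V ⟶ Z),
      h.base (closedPoint V) = z ∧ h.base (genPt V) = z' := by
  obtain ⟨A, h, hcl, hgen⟩ := Groth.Agent.Lib.Helper6.ValRing.exists_valuationRing_of_specializes hs
  let V : CommRingCat.{u} := CommRingCat.of A
  have : IsDomain V := inferInstanceAs (IsDomain A)
  have : ValuationRing V := inferInstanceAs (ValuationRing A)
  refine ⟨V, inferInstance, inferInstance, h, hcl, ?_⟩
  have h1 : (Spec.map (CommRingCat.ofHom (algebraMap A (Z.residueField z')))).base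
      (closedPoint (Z.residueField z')) = genPt V := by
    apply PrimeSpectrum.ext
    change Ideal.comap (algebraMap A (Z.residueField z'))
      (IsLocalRing.maximalIdeal (Z.residueField z')) = ⊥
    rw [IsLocalRing.maximalIdeal_eq_bot]
    exact Ideal.comap_bot_of_injective _ (FaithfulSMul.algebraMap_injective _ _)
  rw [← h1]
  change (Spec.map (CommRingCat.ofHom (algebraMap A (Z.residueField z'))) ≫ h).base _ = z'
  rw [hgen]
  exact Scheme.fromSpecResidueField_apply z' _

/-- A V covering has the valuation-ring lifting property. -/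
theorem hasValLift_of_isVCover {T : Scheme.{u}} (E : PreZeroHypercover.{w} T) (hE : IsVCover E) :
    HasValLift E := by
  intro V _ _ g
  obtain ⟨_, ⟨U, hU, rfl⟩, hgU, -⟩ := T.isBasis_affineOpens.exists_subset_of_mem_open
    (Set.mem_univ (g.base (closedPoint V))) isOpen_univ
  obtain ⟨l, hl⟩ := Groth.Agent.Lib.Helper10.exists_lift_of_closedPoint_mem V g U hgU
  obtain ⟨F, hF, hFE⟩ := hE ⟨U, hU⟩
  obtain ⟨W, hWd, hWv, φ, hφ, j, g', hg'⟩ := hF.lift V l
  obtain ⟨i, h, hh⟩ := hFE j
  refine ⟨W, hWd, hWv, φ, hφ, i, g' ≫ h, ?_⟩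
  rw [Category.assoc, hh, ← Category.assoc, hg', Category.assoc]
  congr 1

/-- For a quasi-compact morphism, the lifting property implies that the one-member family is a
V covering. -/
theorem isVCover_singleton_of_hasValLift {X Y : Scheme.{u}} (f : X ⟶ Y) [QuasiCompact f]
    (hf : HasValLift (PreZeroHypercover.singleton.{w} f)) :
    IsVCover (PreZeroHypercover.singleton.{w} f) := by
  classical
  intro U
  have hc : IsCompact (X := X) (f ⁻¹ᵁ (U : Y.Opens)) := f.isCompact_preimage U.2.isCompact
  obtain ⟨s, hs, hsU⟩ := isCompact_iff_finite_and_eq_biUnion_affineOpens.mp hc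
  haveI : Finite s := hs
  let m := Nat.card s
  let e : Fin m ≃ s := (Finite.equivFin s).symm
  have hle : ∀ k : Fin m, ((e k : X.affineOpens) : X.Opens) ≤ f ⁻¹ᵁ (U : Y.Opens) := by
    intro k
    rw [hsU]
    exact le_iSup₂_of_le (e k : X.affineOpens) (e k).2 le_rfl
  let F : PreZeroHypercover.{0} ((U : Y.Opens) : Scheme.{u}) :=
    { I₀ := Fin m
      X := fun k => (((e k : X.affineOpens) : X.Opens) : Scheme.{u})
      f := fun k => f.resLE (U : Y.Opens) ((e k : X.affineOpens) : X.Opens) (hle k) }
  refine ⟨F, ⟨U.2, inferInstanceAs (Finite (Fin m)), fun k => (e k : X.affineOpens).2, ?_⟩, ?_⟩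
  · intro V _ _ k
    obtain ⟨W, hWd, hWv, φ, hφ, j, g', hg'⟩ := hf V (k ≫ (U : Y.Opens).ι)
    let g'' : Spec W ⟶ X := g'
    have hg'' : g'' ≫ f = Spec.map φ ≫ k ≫ (U : Y.Opens).ι := hg'
    haveI : IsLocalRing W := ValuationRing.isLocalRing W
    have hmem : g''.base (closedPoint W) ∈ f ⁻¹ᵁ (U : Y.Opens) := by
      change f.base (g''.base (closedPoint W)) ∈ (U : Y.Opens)
      have : f.base (g''.base (closedPoint W)) =
          ((U : Y.Opens).ι).base ((Spec.map φ ≫ k).base (closedPoint W)) := by
        change (g'' ≫ f).base _ = (((Spec.map φ ≫ k)) ≫ (U : Y.Opens).ι).base _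
        rw [hg'', Category.assoc]
      rw [this]
      exact ((Spec.map φ ≫ k).base (closedPoint W)).2
    rw [hsU] at hmem
    simp only [TopologicalSpace.Opens.mem_iSup] at hmem
    obtain ⟨a, ha, hmema⟩ := hmem
    obtain ⟨idx, hidx⟩ : ∃ idx, e idx = ⟨a, ha⟩ := ⟨e.symm ⟨a, ha⟩, by simp⟩
    have hmem' : g''.base (closedPoint W) ∈ ((e idx : X.affineOpens) : X.Opens) := by
      rw [hidx]; exact hmema
    obtain ⟨l', hl'⟩ := Groth.Agent.Lib.Helper10.exists_lift_of_closedPoint_mem W g''
      ((e idx : X.affineOpens) : X.Opens) hmem'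
    refine ⟨W, hWd, hWv, φ, hφ, idx, l', ?_⟩
    change l' ≫ f.resLE (U : Y.Opens) ((e idx : X.affineOpens) : X.Opens) (hle idx) = _
    rw [← cancel_mono (U : Y.Opens).ι, Category.assoc, Scheme.Hom.resLE_comp_ι, ← Category.assoc,
      hl', hg'', Category.assoc]
  · intro k
    refine ⟨PUnit.unit, (((e k : X.affineOpens) : X.Opens)).ι, ?_⟩
    change (((e k : X.affineOpens) : X.Opens)).ι ≫ f =
      f.resLE (U : Y.Opens) ((e k : X.affineOpens) : X.Opens) (hle k) ≫ (U : Y.Opens).ι
    rw [Scheme.Hom.resLE_comp_ι]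

/-- The lifting property for a one-member family gives liftings of specializations after any
base change. -/
theorem exists_specializes_of_hasValLift {X Y : Scheme.{u}} (f : X ⟶ Y)
    (hf : HasValLift (PreZeroHypercover.singleton.{w} f)) (Z : Scheme.{u}) (g : Z ⟶ Y) (z' z : Z)
    (hz : z' ⤳ z) :
    ∃ w' w : ↑(pullback g f), w' ⤳ w ∧ (pullback.fst g f).base w' = z' ∧
      (pullback.fst g f).base w = z := by
  obtain ⟨V, hVd, hVv, h, hcl, hgen⟩ := exists_valuationRing_of_specializes' hz
  obtain ⟨W, hWd, hWv, φ, hφ, j, g', hg'⟩ := hf V (h ≫ g)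
  let g'' : Spec W ⟶ X := g'
  have hg'' : g'' ≫ f = Spec.map φ ≫ h ≫ g := hg'
  haveI : IsLocalRing W := ValuationRing.isLocalRing W
  haveI : IsLocalRing V := ValuationRing.isLocalRing V
  let q : Spec W ⟶ pullback g f := pullback.lift (Spec.map φ ≫ h) g'' (by rw [Category.assoc, hg''])
  have hq : q ≫ pullback.fst g f = Spec.map φ ≫ h := pullback.lift_fst _ _ _
  refine ⟨q.base (genPt W), q.base (closedPoint W), ?_, ?_, ?_⟩
  · exact (genPt_specializes W _).map q.base.hom.2
  · change (q ≫ pullback.fst g f).base (genPt W) = z'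
    rw [hq]
    change h.base ((Spec.map φ).base (genPt W)) = z'
    rw [map_genPt_of_injective φ hφ.1, hgen]
  · change (q ≫ pullback.fst g f).base (closedPoint W) = z
    rw [hq]
    change h.base ((Spec.map φ).base (closedPoint W)) = z
    haveI := hφ.2
    rw [map_closedPoint_of_isLocalHom φ, hcl]

/-- Conversely, if specializations lift after base change to spectra of valuation rings, the
one-member family has the lifting property. -/
theorem hasValLift_singleton_of_specializes {X Y : Scheme.{u}} (f : X ⟶ Y)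
    (H : ∀ (Z : Scheme.{u}) (g : Z ⟶ Y) (z' z : Z), z' ⤳ z →
      ∃ w' w : ↑(pullback g f), w' ⤳ w ∧ (pullback.fst g f).base w' = z' ∧
        (pullback.fst g f).base w = z) :
    HasValLift (PreZeroHypercover.singleton.{w} f) := by
  apply hasValLift_of_specializes
  intro V _ _ g
  haveI : IsLocalRing V := ValuationRing.isLocalRing V
  obtain ⟨w', w, hsp, hw', hw⟩ := H (Spec V) g (genPt V) (closedPoint V) (genPt_specializes V _)
  exact ⟨PUnit.unit, w, w', hsp, hw, hw'⟩

/-- The lifting property of a one-member family does not depend on the universe of its index. -/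
theorem hasValLift_singleton_univ {X Y : Scheme.{u}} (f : X ⟶ Y)
    (hf : HasValLift (PreZeroHypercover.singleton.{w} f)) :
    HasValLift (PreZeroHypercover.singleton.{w'} f) := by
  intro V _ _ g
  obtain ⟨W, hWd, hWv, φ, hφ, j, g', hg'⟩ := hf V g
  exact ⟨W, hWd, hWv, φ, hφ, PUnit.unit, g', hg'⟩

end Groth.Agent.R2.H33.VCover
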