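import Mathlib

/-!
# Torsion criterion for lifting a specialization of a local domain (helper33)

For a local domain `V` and a ring map `ψ : V → C`, let `J ψ = Tors_V(C) + 𝔪_V C`.  Then
`1 ∉ J ψ` iff there are primes `q' ≤ q` of `C` with `q' ∩ V = 0` and `q ∩ V = 𝔪_V` (`exists_primes_iff`),
and `1 ∈ J` passes to some finite stage of a filtered colimit (`one_mem_J_of_colimit`).
-/

set_option autoImplicit false
universe u v w

open CategoryTheory

namespace Groth.Agent.R2.H33.ValTors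

section Defs
variable {V : Type*} [CommRing V] [IsDomain V] {C : Type*} [CommRing C] (ψ : V →+* C)

/-- the `V`-torsion ideal of `C` -/
def tors : Ideal C where
  carrier := {c | ∃ v : V, v ≠ 0 ∧ ψ v * c = 0}
  add_mem' := by
    rintro a b ⟨v, hv, hva⟩ ⟨w, hw, hwb⟩
    refine ⟨v * w, mul_ne_zero hv hw, ?_⟩
    rw [map_mul, mul_add]
    have h1 : ψ v * ψ w * a = ψ w * (ψ v * a) := by ring
    have h2 : ψ v * ψ w * b = ψ v * (ψ w * b) := by ring
    rw [h1, h2, hva, hwb, mul_zero, mul_zero, add_zero]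
  zero_mem' := ⟨1, one_ne_zero, by simp⟩
  smul_mem' := by
    rintro c a ⟨v, hv, hva⟩
    refine ⟨v, hv, ?_⟩
    rw [smul_eq_mul]
    have : ψ v * (c * a) = c * (ψ v * a) := by ring
    rw [this, hva, mul_zero]

theorem mem_tors {c : C} : c ∈ tors ψ ↔ ∃ v : V, v ≠ 0 ∧ ψ v * c = 0 := Iff.rfl

variable [IsLocalRing V]

/-- `J ψ = Tors_V(C) + 𝔪_V C` -/
def J : Ideal C := tors ψ ⊔ (IsLocalRing.maximalIdeal V).map ψ

theorem J_le_of_primes (q' q : Ideal C) [q'.IsPrime] (hle : q' ≤ q) (hq' : q'.comap ψ = ⊥)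
    (hq : q.comap ψ = IsLocalRing.maximalIdeal V) : J ψ ≤ q := by
  refine sup_le ?_ ?_
  · rintro c ⟨v, hv, hvc⟩
    apply hle
    have h1 : ψ v * c ∈ q' := by rw [hvc]; exact q'.zero_mem
    rcases Ideal.IsPrime.mem_or_mem inferInstance h1 with h | h
    · exfalso
      have : v ∈ q'.comap ψ := h
      rw [hq', Ideal.mem_bot] at this
      exact hv this
    · exact h
  · rw [Ideal.map_le_iff_le_comap, hq]

theorem exists_primes_of_one_notMem (h : (1 : C) ∉ J ψ) :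
    ∃ q' q : Ideal C, q'.IsPrime ∧ q.IsPrime ∧ q' ≤ q ∧ q'.comap ψ = ⊥ ∧
      q.comap ψ = IsLocalRing.maximalIdeal V := by
  have hne : J ψ ≠ ⊤ := fun htop => h (htop ▸ Submodule.mem_top)
  obtain ⟨q, hqmax, hJq⟩ := Ideal.exists_le_maximal _ hne
  have hqprime : q.IsPrime := hqmax.isPrime
  -- a minimal prime over `tors ψ` inside `q`
  obtain ⟨q', hq'min, hq'q⟩ := Ideal.exists_minimalPrimes_le (I := tors ψ) (J := q)
    (le_sup_left.trans hJq)
  have hq'prime : q'.IsPrime := hq'min.1.1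
  refine ⟨q', q, hq'prime, hqprime, hq'q, ?_, ?_⟩
  · -- `q' ∩ V = 0`
    rw [eq_bot_iff]
    intro v hv
    rw [Ideal.mem_bot]
    by_contra hv0
    have hvq' : ψ v ∈ q' := hv
    obtain ⟨y, hy, hvy⟩ := Ideal.exists_mul_mem_of_mem_minimalPrimes hq'min hvq'
    obtain ⟨w, hw, hwy⟩ := hvy
    apply hy
    refine ⟨w * v, mul_ne_zero hw hv0, ?_⟩
    rw [map_mul, mul_assoc]
    exact hwy
  · have h1 : IsLocalRing.maximalIdeal V ≤ q.comap ψ := by
      rw [← Ideal.map_le_iff_le_comap]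
      exact le_sup_right.trans hJq
    have h2 : q.comap ψ ≠ ⊤ := (Ideal.comap_isPrime ψ q).ne_top
    exact ((IsLocalRing.maximalIdeal.isMaximal V).eq_of_le h2 h1).symm

end Defs

section Map
variable {V : Type*} [CommRing V] [IsDomain V] [IsLocalRing V] {C C' : Type*} [CommRing C]
  [CommRing C'] (ψ : V →+* C) (ψ' : V →+* C') (f : C →+* C') (hf : ∀ v, f (ψ v) = ψ' v)

include hf in
theorem map_mem_tors {c : C} (hc : c ∈ tors ψ) : f c ∈ tors ψ' := by
  obtain ⟨v, hv, hvc⟩ := hc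
  refine ⟨v, hv, ?_⟩
  rw [← hf, ← map_mul, hvc, map_zero]

include hf in
theorem map_mem_J {c : C} (hc : c ∈ J ψ) : f c ∈ J ψ' := by
  have h1 : J ψ ≤ (J ψ').comap f := by
    refine sup_le ?_ ?_
    · intro c hc
      exact le_sup_left (a := tors ψ') (map_mem_tors ψ ψ' f hf hc)
    · rw [Ideal.map_le_iff_le_comap]
      intro v hv
      rw [Ideal.mem_comap, Ideal.mem_comap, hf]
      exact le_sup_right (a := tors ψ') (Ideal.mem_map_of_mem ψ' hv)
  exact h1 hc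

end Map

section Colimit
variable {I : Type w} [Category.{v} I] [IsCofiltered I] {V : Type*} [CommRing V] [IsDomain V]
  [IsLocalRing V] (Cs : I → Type u) [∀ i, CommRing (Cs i)] {C : Type u} [CommRing C]
  (tr : ∀ {i j : I}, (i ⟶ j) → (Cs j →+* Cs i)) (π : ∀ i, Cs i →+* C) (ψs : ∀ i, V →+* Cs i)
  (ψ : V →+* C)
  (hπψ : ∀ i v, π i (ψs i v) = ψ v)
  (htrψ : ∀ {i j : I} (f : i ⟶ j) v, tr f (ψs j v) = ψs i v)
  (hπtr : ∀ {i j : I} (f : i ⟶ j) x, π i (tr f x) = π j x)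
  (hsurj : ∀ c : C, ∃ i x, π i x = c)
  (hinj : ∀ i (x : Cs i), π i x = 0 → ∃ (j : I) (f : j ⟶ i), tr f x = 0)

include hπψ htrψ hπtr hsurj hinj in
/-- In a filtered colimit `C = colim Cs i` of `V`-algebras, `1 ∈ J` already holds at a finite stage. -/
theorem one_mem_J_of_colimit (h : (1 : C) ∈ J ψ) : ∃ i, (1 : Cs i) ∈ J (ψs i) := by
  -- the ideal of elements coming from some `J (ψs i)`
  let J' : Ideal C :=
    { carrier := {c | ∃ i, ∃ x ∈ J (ψs i), π i x = c}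
      zero_mem' := ⟨IsCofiltered.nonempty.some, 0, Ideal.zero_mem _, map_zero _⟩
      add_mem' := by
        rintro a b ⟨i₁, x₁, hx₁, rfl⟩ ⟨i₂, x₂, hx₂, rfl⟩
        refine ⟨IsCofiltered.min i₁ i₂, tr (IsCofiltered.minToLeft i₁ i₂) x₁ +
          tr (IsCofiltered.minToRight i₁ i₂) x₂, ?_, ?_⟩
        · exact Ideal.add_mem _ (map_mem_J _ _ _ (htrψ _) hx₁) (map_mem_J _ _ _ (htrψ _) hx₂)
        · rw [map_add, hπtr, hπtr]
      smul_mem' := by
        rintro c b ⟨i₂, x₂, hx₂, rfl⟩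
        obtain ⟨i₁, x₁, rfl⟩ := hsurj c
        refine ⟨IsCofiltered.min i₁ i₂, tr (IsCofiltered.minToLeft i₁ i₂) x₁ *
          tr (IsCofiltered.minToRight i₁ i₂) x₂, ?_, ?_⟩
        · exact Ideal.mul_mem_left _ _ (map_mem_J _ _ _ (htrψ _) hx₂)
        · rw [map_mul, hπtr, hπtr, smul_eq_mul] }
  have hJJ' : J ψ ≤ J' := by
    refine sup_le ?_ ?_
    · rintro t ⟨v, hv, hvt⟩
      obtain ⟨i, x, rfl⟩ := hsurj t
      have h0 : π i (ψs i v * x) = 0 := by rw [map_mul, hπψ, hvt]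
      obtain ⟨j, f, hf⟩ := hinj i _ h0
      refine ⟨j, tr f x, le_sup_left (a := tors (ψs j)) ⟨v, hv, ?_⟩, hπtr f x⟩
      rw [← htrψ f, ← map_mul, hf]
    · rw [Ideal.map_le_iff_le_comap]
      intro v hv
      let i : I := IsCofiltered.nonempty.some
      exact ⟨i, ψs i v, le_sup_right (a := tors (ψs i)) (Ideal.mem_map_of_mem _ hv), hπψ i v⟩
  obtain ⟨i, x, hx, hx1⟩ := hJJ' h
  have h0 : π i (1 - x) = 0 := by rw [map_sub, map_one, hx1, sub_self]
  obtain ⟨j, f, hf⟩ := hinj i _ h0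
  refine ⟨j, ?_⟩
  rw [map_sub, map_one, sub_eq_zero] at hf
  rw [hf]
  exact map_mem_J _ _ _ (htrψ f) hx

end Colimit

end Groth.Agent.R2.H33.ValTors
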