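import Mathlib
import Groth.Prelude.Def_HTop
import Groth.Agent.R2.H33ValLift
import Groth.Agent.R2.H33ValTors

/-!
# The V-lifting property passes to cofiltered limits of affine schemes (helper33)
-/

set_option autoImplicit false
set_option linter.style.haveILetI false
universe w w' u

open CategoryTheory CategoryTheory.Limits AlgebraicGeometry Opposite HTop IsLocalRing
open Groth.Agent.R2.H33.ValLift Groth.Agent.R2.H33.ValTors

namespace Groth.Agent.R2.H33.VLimit

section S1
variable {V : CommRingCat.{u}} [IsDomain V] [IsLocalRing V] {P : Scheme.{u}} (h : P ⟶ Spec V)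

/-- the ring map `V → Γ(P)` of a morphism `P ⟶ Spec V` -/
noncomputable def ringOf : V →+* Γ(P, ⊤) := ((Scheme.ΓSpecIso V).inv ≫ h.appTop).hom

theorem eq_toSpecΓ_comp : h = P.toSpecΓ ≫ Spec.map ((Scheme.ΓSpecIso V).inv ≫ h.appTop) := by
  rw [Spec.map_comp, ← Category.assoc, ← Scheme.toSpecΓ_naturality, Category.assoc,
    toSpecΓ_SpecMap_ΓSpecIso_inv]
  exact (Category.comp_id _).symm

theorem asIdeal_apply (p : P) :
    (h p : PrimeSpectrum V).asIdeal =
      ((P.toSpecΓ p : PrimeSpectrum Γ(P, ⊤)).asIdeal).comap (ringOf h) := by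
  conv_lhs => rw [eq_toSpecΓ_comp h]
  rfl

theorem ringOf_comp {P' : Scheme.{u}} (f : P' ⟶ P) (v : V) :
    ringOf (f ≫ h) v = f.appTop.hom (ringOf h v) := by
  simp [ringOf, Scheme.Hom.comp_appTop]

/-- **(S1)** for affine `P` over `Spec V`: a specialization over `generic ⤳ closed` exists iff
`1 ∉ Tors + 𝔪 Γ(P)`. -/
theorem exists_specializes_iff [IsAffine P] :
    (∃ p' p : P, p' ⤳ p ∧ h p' = genPt V ∧ h p = closedPoint V) ↔
      (1 : Γ(P, ⊤)) ∉ J (ringOf h) := by
  constructor
  · rintro ⟨p', p, hsp, hp', hp⟩ h1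
    have hle : (P.toSpecΓ p' : PrimeSpectrum Γ(P, ⊤)).asIdeal ≤
        (P.toSpecΓ p : PrimeSpectrum Γ(P, ⊤)).asIdeal := by
      have := hsp.map P.toSpecΓ.continuous
      exact (PrimeSpectrum.le_iff_specializes _ _).mpr this
    have e' : ((P.toSpecΓ p' : PrimeSpectrum Γ(P, ⊤)).asIdeal).comap (ringOf h) = ⊥ := by
      rw [← asIdeal_apply, hp']
      rfl
    have e : ((P.toSpecΓ p : PrimeSpectrum Γ(P, ⊤)).asIdeal).comap (ringOf h) =
        maximalIdeal V := by
      rw [← asIdeal_apply, hp]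
      rfl
    have := J_le_of_primes (ringOf h) _ _ hle e' e h1
    exact (P.toSpecΓ p : PrimeSpectrum Γ(P, ⊤)).isPrime.one_notMem this
  · intro h1
    obtain ⟨q', q, hq', hq, hle, e', e⟩ := exists_primes_of_one_notMem (ringOf h) h1
    obtain ⟨p', hp'⟩ := P.toSpecΓ.homeomorph.surjective (⟨q', hq'⟩ : PrimeSpectrum Γ(P, ⊤))
    obtain ⟨p, hp⟩ := P.toSpecΓ.homeomorph.surjective (⟨q, hq⟩ : PrimeSpectrum Γ(P, ⊤))
    have hp'' : P.toSpecΓ p' = (⟨q', hq'⟩ : PrimeSpectrum Γ(P, ⊤)) := hp'
    have hp''' : P.toSpecΓ p = (⟨q, hq⟩ : PrimeSpectrum Γ(P, ⊤)) := hp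
    refine ⟨p', p, ?_, ?_, ?_⟩
    · rw [← P.toSpecΓ.homeomorph.isInducing.specializes_iff]
      change P.toSpecΓ p' ⤳ P.toSpecΓ p
      rw [hp'', hp''']
      exact (PrimeSpectrum.le_iff_specializes _ _).mp hle
    · apply PrimeSpectrum.ext
      rw [asIdeal_apply, hp'']
      exact e'
    · apply PrimeSpectrum.ext
      rw [asIdeal_apply, hp''']
      exact e

end S1

section Main
variable {Y : Scheme.{u}} {I : Type u} [SmallCategory I] [IsCofiltered I] (D : I ⥤ Over Y)
  [∀ i, IsAffine (D.obj i).left] (c : Cone D) (hc : IsLimit ((Over.forget Y).mapCone c))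

include hc in
/-- the base-changed limit cone over `Spec V` -/
theorem isLimit_pullback_cone {Z : Scheme.{u}} (g : Z ⟶ Y) :
    Nonempty (IsLimit ((Over.forget Z).mapCone ((Over.pullback g).mapCone c))) := by
  haveI : IsConnected I := IsCofiltered.isConnected I
  have hc' : IsLimit c := isLimitOfReflects (Over.forget Y) hc
  exact ⟨isLimitOfPreserves (Over.forget Z) (isLimitOfPreserves (Over.pullback g) hc')⟩

include hc in
theorem hasValLift_of_isLimit [IsAffine Y]
    (H : ∀ i, HasValLift (PreZeroHypercover.singleton.{w} (D.obj i).hom)) :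
    HasValLift (PreZeroHypercover.singleton.{w} c.pt.hom) := by
  intro V _ _ g
  -- the base-changed diagram and its limit cone
  let DP : I ⥤ Scheme.{u} := (D ⋙ Over.pullback g) ⋙ Over.forget (Spec V)
  let cP : Cone DP := (Over.forget (Spec V)).mapCone ((Over.pullback g).mapCone c)
  have hcP : IsLimit cP := (isLimit_pullback_cone D c hc g).some
  have haff : ∀ i, IsAffine (DP.obj i) := fun i =>
    inferInstanceAs (IsAffine (pullback (D.obj i).hom g))
  -- the structure maps to `Spec V`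
  let sP : cP.pt ⟶ Spec V := ((Over.pullback g).obj c.pt).hom
  let sD : ∀ i, DP.obj i ⟶ Spec V := fun i => ((Over.pullback g).obj (D.obj i)).hom
  have hπs : ∀ i, cP.π.app i ≫ sD i = sP := fun i =>
    Over.w ((Over.pullback g).map (c.π.app i))
  have hmaps : ∀ {i j : I} (f : i ⟶ j), DP.map f ≫ sD j = sD i := fun f =>
    Over.w ((Over.pullback g).map (D.map f))
  haveI : IsAffine cP.pt := Scheme.isAffine_of_isLimit cP hcP
  -- each stage has a specialization
  have hstage : ∀ i, (1 : Γ(DP.obj i, ⊤)) ∉ J (ringOf (sD i)) := by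
    intro i
    haveI := haff i
    rw [← exists_specializes_iff]
    obtain ⟨W, hWd, hWv, φ, ⟨hinj, hloc⟩, j, g', hg'⟩ := H i V g
    let l : Spec W ⟶ DP.obj i := pullback.lift g' (Spec.map φ) hg'
    have hl : l ≫ sD i = Spec.map φ := pullback.lift_snd _ _ _
    refine ⟨l (genPt W), l (closedPoint W), (genPt_specializes W _).map l.continuous, ?_, ?_⟩
    · rw [← Scheme.Hom.comp_apply, hl]
      exact map_genPt_of_injective φ hinj
    · rw [← Scheme.Hom.comp_apply, hl]
      exact map_closedPoint_of_isLocalHom φ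
  -- hence so does the limit
  have hlim : (1 : Γ(cP.pt, ⊤)) ∉ J (ringOf sP) := by
    intro h1
    obtain ⟨i, hi⟩ := one_mem_J_of_colimit (I := I) (V := V) (fun i => Γ(DP.obj i, ⊤))
      (C := Γ(cP.pt, ⊤)) (fun {i j} f => (DP.map f).appTop.hom) (fun i => (cP.π.app i).appTop.hom)
      (fun i => ringOf (sD i)) (ringOf sP)
      (by
        intro i v
        rw [← ringOf_comp, hπs])
      (by
        intro i j f v
        rw [← ringOf_comp, hmaps])
      (by
        intro i j f x
        have := cP.w f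
        rw [← this, Scheme.Hom.comp_appTop]
        rfl)
      (by
        intro s
        obtain ⟨i, t, ht⟩ := exists_appTop_π_eq_of_isAffine_of_isLimit DP cP hcP s
        exact ⟨i, t, ht⟩)
      (by
        intro i x hx
        exact exists_appTop_map_eq_zero_of_isAffine_of_isLimit DP cP hcP i x hx)
      h1
    exact hstage i hi
  obtain ⟨p', p, hsp, hp', hp⟩ := (exists_specializes_iff sP).mpr hlim
  obtain ⟨W, hWd, hWv, φ, hφ, l, hl, -, -⟩ := exists_extVal_lift_of_specializes V sP hsp hp hp'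
  refine ⟨W, hWd, hWv, φ, hφ, PUnit.unit, l ≫ pullback.fst c.pt.hom g, ?_⟩
  change (l ≫ pullback.fst c.pt.hom g) ≫ c.pt.hom = Spec.map φ ≫ g
  have e : (pullback.fst c.pt.hom g : cP.pt ⟶ _) ≫ c.pt.hom = sP ≫ g := pullback.condition
  calc (l ≫ pullback.fst c.pt.hom g) ≫ c.pt.hom
      = l ≫ (pullback.fst c.pt.hom g ≫ c.pt.hom) := Category.assoc _ _ _
    _ = l ≫ (sP ≫ g) := congrArg (fun x => l ≫ x) e
    _ = (l ≫ sP) ≫ g := (Category.assoc _ _ _).symm
    _ = Spec.map φ ≫ g := by rw [hl]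

end Main

end Groth.Agent.R2.H33.VLimit
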