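import Mathlib
import Groth.Prelude.Def_HTop
import Groth.Agent.R2.H33VSheaf

/-!
# Sheaves for V coverings: the one-arrow criterion (helper33)
-/

set_option autoImplicit false
set_option linter.style.haveILetI false
universe w w' w'' v u

open CategoryTheory CategoryTheory.Limits AlgebraicGeometry Opposite HTop IsLocalRing

namespace Groth.Agent.R2.H33.VSheafSingle

/-- A family with the valuation-ring lifting property is jointly surjective. -/
theorem exists_mem_range_of_hasValLift {T : Scheme.{u}} (E : PreZeroHypercover.{w} T)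
    (h : HasValLift E) (x : T) : ∃ i, x ∈ Set.range (E.f i).base := by
  obtain ⟨W, hWd, hWv, φ, hφ, j, g', hg'⟩ := h (T.residueField x) (T.fromSpecResidueField x)
  haveI : IsLocalRing W := ValuationRing.isLocalRing W
  refine ⟨j, g'.base (closedPoint W), ?_⟩
  change (g' ≫ E.f j).base (closedPoint W) = x
  rw [hg']
  exact Scheme.fromSpecResidueField_apply x _

/-- The one-member family of the morphism from the coproduct of a standard V covering. -/
theorem isStandardV_singleton_sigmaDesc {T : Scheme.{u}} (E : PreZeroHypercover.{u} T)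
    (hE : IsStandardV E) : IsStandardV (PreZeroHypercover.singleton.{w'} (Sigma.desc E.f)) := by
  haveI := hE.finite_index
  haveI := hE.isAffine_obj
  refine ⟨hE.isAffine, inferInstanceAs (Finite PUnit), fun _ => ?_, ?_⟩
  · exact inferInstanceAs (IsAffine (∐ E.X))
  · intro V _ _ g
    obtain ⟨W, hWd, hWv, φ, hφ, j, g', hg'⟩ := hE.lift V g
    refine ⟨W, hWd, hWv, φ, hφ, PUnit.unit, g' ≫ Sigma.ι E.X j, ?_⟩
    change (g' ≫ Sigma.ι E.X j) ≫ Sigma.desc E.f = _
    rw [Category.assoc, Sigma.ι_desc, hg']

variable {F : Scheme.{u}ᵒᵖ ⥤ Type v}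

theorem isSheafFor_of_isStandardV_of_singleton
    (hzar : Presieve.IsSheaf Scheme.zariskiTopology F)
    (hsing : ∀ (U V : Scheme.{u}) (f : V ⟶ U), IsStandardV (PreZeroHypercover.singleton.{w'} f) →
      Presieve.IsSheafFor F (Presieve.singleton f))
    (T : Scheme.{u}) (E : PreZeroHypercover.{u} T) (hE : IsStandardV E) :
    Presieve.IsSheafFor F E.presieve₀ := by
  have hmem : E.presieve₀ ∈ Scheme.precoverage (⊤ : MorphismProperty Scheme.{u}) T := by
    rw [Scheme.presieve₀_mem_precoverage_iff]
    exact ⟨exists_mem_range_of_hasValLift E hE.lift, fun _ => trivial⟩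
  let 𝒰 : T.Cover (Scheme.precoverage (⊤ : MorphismProperty Scheme.{u})) := ⟨E, hmem⟩
  haveI : Finite 𝒰.I₀ := hE.finite_index
  refine (Scheme.Cover.isSheafFor_sigma_iff hzar 𝒰).mp ?_
  have h1 : Presieve.ofArrows 𝒰.sigma.X 𝒰.sigma.f = Presieve.singleton (Sigma.desc E.f) :=
    Scheme.Cover.presieve₀_sigma 𝒰
  rw [h1]
  exact hsing _ _ _ (isStandardV_singleton_sigmaDesc E hE)

end Groth.Agent.R2.H33.VSheafSingle
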