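import Mathlib
import Groth.Prelude.Def_HTop
import Groth.Prelude.Def_SGA1
import Groth.Agent.R2.H33VCover
import Groth.Agent.R2.H33VSheafSingle
import Groth.Agent.Lib.Helper10QCClosed

/-!
# V coverings are universally submersive (helper33)
-/

set_option autoImplicit false
set_option linter.style.haveILetI false
universe w w' w'' v u

open CategoryTheory CategoryTheory.Limits AlgebraicGeometry Opposite HTop IsLocalRing

namespace Groth.Agent.R2.H33.VSubm

/-- A morphism which, over every affine open of the target, is dominated by a morphism from an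
affine scheme with the valuation-ring lifting property, is a topological quotient map. -/
theorem isQuotientMap_of_local_affine {P Y : Scheme.{u}} (f : P ⟶ Y)
    (H : ∀ U : Y.affineOpens, ∃ (W : Scheme.{u}) (_ : IsAffine W) (h : W ⟶ P)
      (q : W ⟶ ((U : Y.Opens) : Scheme.{u})), h ≫ f = q ≫ (U : Y.Opens).ι ∧
        HasValLift (PreZeroHypercover.singleton.{0} q)) :
    Topology.IsQuotientMap f.base := by
  rw [Topology.isQuotientMap_iff_isClosed]
  constructor
  · intro y
    obtain ⟨_, ⟨U, hU, rfl⟩, hyU, -⟩ := Y.isBasis_affineOpens.exists_subset_of_mem_open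
      (Set.mem_univ y) isOpen_univ
    obtain ⟨W, hW, h, q, hq, hVL⟩ := H ⟨U, hU⟩
    obtain ⟨_, w, hw⟩ := Groth.Agent.R2.H33.VSheafSingle.exists_mem_range_of_hasValLift _ hVL
      (⟨y, hyU⟩ : U)
    refine ⟨h.base w, ?_⟩
    change (h ≫ f).base w = y
    rw [hq]
    change (Scheme.Opens.ι (X := Y) U).base (q.base w) = y
    have hw' : q.base w = (⟨y, hyU⟩ : U) := hw
    rw [hw']
    rfl
  · intro C
    refine ⟨fun hC => hC.preimage f.base.hom.2, fun hC => ?_⟩
    rw [TopologicalSpace.IsOpenCover.isClosed_iff_coe_preimage (iSup_affineOpens_eq_top Y)]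
    intro V
    obtain ⟨W, hW, h, q, hq, hVL⟩ := H V
    haveI : IsAffine ((V : Y.Opens) : Scheme.{u}) := V.2
    let CU : Set ((V : Y.Opens) : Scheme.{u}) := (fun v => (V : Y.Opens).ι.base v) ⁻¹' C
    change IsClosed CU
    have hsurj : Function.Surjective q.base := by
      intro v
      obtain ⟨_, w, hw⟩ := Groth.Agent.R2.H33.VSheafSingle.exists_mem_range_of_hasValLift _ hVL v
      exact ⟨w, hw⟩
    have hpre : q.base ⁻¹' CU = h.base ⁻¹' (f.base ⁻¹' C) := by
      ext w
      change (V : Y.Opens).ι.base (q.base w) ∈ C ↔ f.base (h.base w) ∈ C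
      have : (V : Y.Opens).ι.base (q.base w) = f.base (h.base w) := by
        change (q ≫ (V : Y.Opens).ι).base w = (h ≫ f).base w
        rw [hq]
      rw [this]
    have hcl : IsClosed (q.base ⁻¹' CU) := by
      rw [hpre]
      exact hC.preimage h.base.hom.2
    have himg : q.base '' (q.base ⁻¹' CU) = CU := Set.image_preimage_eq CU hsurj
    rw [← himg]
    apply Groth.Agent.Lib.Helper10.QCClosed.isClosed_image_of_stableUnderSpecialization q _ hcl
    rw [himg]
    intro y' y hyy hy'
    obtain ⟨w', w, hsp, hw', hw⟩ :=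
      Groth.Agent.R2.H33.VCover.exists_specializes_of_hasValLift q hVL _ (𝟙 _) y' y hyy
    have hc : ∀ z : ↑(pullback (𝟙 ((V : Y.Opens) : Scheme.{u})) q),
        q.base ((pullback.snd (𝟙 _) q).base z) = (pullback.fst (𝟙 _) q).base z := by
      intro z
      change (pullback.snd (𝟙 _) q ≫ q).base z = _
      rw [← pullback.condition, Category.comp_id]
    have h1 : (pullback.snd (𝟙 _) q).base w' ∈ q.base ⁻¹' CU := by
      change q.base _ ∈ CU
      rw [hc, hw']
      exact hy'
    have h2 : (pullback.snd (𝟙 _) q).base w ∈ q.base ⁻¹' CU :=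
      (hsp.map (pullback.snd (𝟙 _) q).base.hom.2).mem_closed hcl h1
    have h3 : q.base ((pullback.snd (𝟙 _) q).base w) ∈ CU := h2
    rwa [hc, hw] at h3

/-- The morphism from the coproduct of a V covering is universally submersive. -/
theorem univSubmersive_sigmaDesc {X : Scheme.{u}} (E : PreZeroHypercover.{u} X) (hE : IsVCover E) :
    SGA1.UnivSubmersive (Sigma.desc E.f) := by
  intro P' Y' g' g f' hpb
  change Topology.IsQuotientMap f'.base
  apply isQuotientMap_of_local_affine
  intro U'
  have hE' : IsVCover (E.pullback₁ g) := Groth.Agent.Lib.Helper10.isVCover_pullback g E hE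
  obtain ⟨F₀, hF₀, hF₀E⟩ := hE' U'
  haveI := hF₀.finite_index
  let n := Nat.card F₀.I₀
  let e : ULift.{u} (Fin n) ≃ F₀.I₀ := Equiv.ulift.trans (Finite.equivFin F₀.I₀).symm
  let F : PreZeroHypercover.{u} ((U' : Y'.Opens) : Scheme.{u}) := F₀.reindex e
  have hF : IsStandardV F := Groth.Agent.R2.H33.VSheaf.isStandardV_reindex F₀ hF₀ e
  have hFE : ∀ j : F.I₀, ∃ (i : E.I₀) (h : F.X j ⟶ pullback g (E.f i)),
      h ≫ pullback.fst g (E.f i) = F.f j ≫ (U' : Y'.Opens).ι := fun j => hF₀E (e j)
  choose idx h hh using hFE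
  haveI := hF.finite_index
  haveI := hF.isAffine_obj
  have hW : IsAffine (∐ F.X) := inferInstance
  -- the maps into the pullback
  have hcomp : ∀ j, (h j ≫ pullback.snd g (E.f (idx j)) ≫ Sigma.ι E.X (idx j)) ≫ Sigma.desc E.f =
      (F.f j ≫ (U' : Y'.Opens).ι) ≫ g := by
    intro j
    rw [Category.assoc, Category.assoc, Sigma.ι_desc, ← pullback.condition, ← Category.assoc, hh j]
  let l : ∀ j, F.X j ⟶ P' := fun j => hpb.lift _ _ (hcomp j).symm
  have hl : ∀ j, l j ≫ f' = F.f j ≫ (U' : Y'.Opens).ι := fun j => hpb.lift_fst _ _ _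
  refine ⟨∐ F.X, hW, Sigma.desc l, Sigma.desc F.f, ?_, ?_⟩
  · apply Sigma.hom_ext
    intro j
    rw [Sigma.ι_desc_assoc, Sigma.ι_desc_assoc, hl]
  · exact (Groth.Agent.R2.H33.VSheafSingle.isStandardV_singleton_sigmaDesc F hF).lift

end Groth.Agent.R2.H33.VSubm
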