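import Mathlib
import Groth.Prelude.Def_HTop
import Groth.Agent.R2.H33ValLift

/-!
# Valuation-ring lifting for proper surjective morphisms (helper33)
-/

set_option autoImplicit false
set_option linter.style.haveILetI false
universe w w' u

open CategoryTheory CategoryTheory.Limits AlgebraicGeometry Opposite HTop IsLocalRing

namespace Groth.Agent.R2.H33.ValLiftPh

open Groth.Agent.R2.H33.ValLift

/-- A morphism from the spectrum of a local ring into `U` factors through any open immersion whose
range contains the image of the closed point. -/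
theorem exists_lift_openImmersion {U Y : Scheme.{u}} (ι : Y ⟶ U) [IsOpenImmersion ι]
    (A : CommRingCat.{u}) [IsLocalRing A] (l : Spec A ⟶ U)
    (hc : l.base (closedPoint A) ∈ Set.range ι.base) : ∃ l' : Spec A ⟶ Y, l' ≫ ι = l := by
  have hrange : Set.range l.base ⊆ Set.range ι.base := by
    rintro _ ⟨y, rfl⟩
    have hy : y ⤳ closedPoint A := IsLocalRing.specializes_closedPoint (R := A) y
    exact (hy.map l.base.hom.2).mem_open ι.isOpenEmbedding.isOpen_range hc
  exact ⟨IsOpenImmersion.lift ι l hrange, IsOpenImmersion.lift_fac _ _ _⟩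

/-- A family obtained from a proper surjective morphism `f : U ⟶ T` by restricting to the members of
an open covering of `U` has the valuation-ring lifting property. -/
theorem hasValLift_of_proper_surjective {T U : Scheme.{u}} (E : PreZeroHypercover.{w} T)
    (f : U ⟶ T) [IsProper f] [Surjective f]
    (ι : ∀ j, E.X j ⟶ U) (hι : ∀ j, IsOpenImmersion (ι j)) (hιf : ∀ j, ι j ≫ f = E.f j)
    (hcov : ∀ x : U, ∃ j, x ∈ Set.range (ι j).base) : HasValLift E := by
  intro V _ _ g
  let K := FractionRing V
  let gK : Spec (CommRingCat.of K) ⟶ T := Spec.map (CommRingCat.ofHom (algebraMap V K)) ≫ g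
  obtain ⟨z, hz⟩ := (pullback.fst gK f).surjective (closedPoint K)
  let P := pullback gK f
  let L : CommRingCat.{u} := P.residueField z
  let i₁ : Spec L ⟶ U := P.fromSpecResidueField z ≫ pullback.snd gK f
  let κ : CommRingCat.of K ⟶ L := Spec.preimage (P.fromSpecResidueField z ≫ pullback.fst gK f)
  have hκ : Spec.map κ = P.fromSpecResidueField z ≫ pullback.fst gK f := Spec.map_preimage _
  let ψ : V →+* L := κ.hom.comp (algebraMap V K)
  have hψinj : Function.Injective ψ :=
    (RingHom.injective κ.hom).comp (IsFractionRing.injective V K)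
  obtain ⟨A, hA, hloc⟩ := exists_factor_valuationRing ψ
  let W : CommRingCat.{u} := CommRingCat.of A
  let φ : V ⟶ W := CommRingCat.ofHom (ψ.codRestrict _ hA)
  have hφL : φ ≫ CommRingCat.ofHom (algebraMap A L) = CommRingCat.ofHom (algebraMap V K) ≫ κ := by
    ext a; rfl
  have hsq : i₁ ≫ f = Spec.map (CommRingCat.ofHom (algebraMap A L)) ≫ (Spec.map φ ≫ g) := by
    rw [← Category.assoc, ← Spec.map_comp, hφL, Spec.map_comp, hκ]
    simp only [i₁, Category.assoc, gK]
    rw [← pullback.condition]
  have hex : ValuativeCriterion.Existence f := by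
    have hU : UniversallyClosed f := inferInstance
    rw [UniversallyClosed.eq_valuativeCriterion] at hU
    exact hU.1
  let S : ValuativeCommSq f :=
    { R := A
      K := L
      i₁ := i₁
      i₂ := Spec.map φ ≫ g
      commSq := ⟨hsq⟩ }
  obtain ⟨l, hl₁, hl₂⟩ := (hex S).exists_lift
  change l ≫ f = Spec.map φ ≫ g at hl₂
  obtain ⟨j, hj⟩ := hcov (l.base (closedPoint W))
  haveI := hι j
  obtain ⟨l', hl'⟩ := exists_lift_openImmersion (ι j) W l hj
  refine ⟨W, inferInstanceAs (IsDomain A), inferInstanceAs (ValuationRing A), φ, ⟨?_, hloc⟩, j, l', ?_⟩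
  · intro a b hab
    apply hψinj
    exact congrArg Subtype.val hab
  · rw [← hιf j, ← Category.assoc, hl', hl₂]

end Groth.Agent.R2.H33.ValLiftPh
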