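import Mathlib
import Groth.Prelude.Def_Pi1
import Groth.Agent.Lib.Helper4NormIso

/-!
# helper34: birational morphisms onto normal schemes which are finite on sections

* `bijective_of_finite_of_birational`: a finite extension of a normal domain inside its fraction
  field is trivial;
* `isIso_app_of_finite_of_birational`: `X`, `Y` integral, `Y` normal, `f : X ⟶ Y` sending the generic
  point to the generic point with an isomorphism on function fields, `V` a nonempty affine open with
  `Γ(Y, V) → Γ(X, f⁻¹V)` finite ⇒ `IsIso (f.app V)`.  (For `f` proper over a locally Noetherian `Y` the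
  finiteness is helper40's `R2/H40SteinFact.finite_app_of_isProper`; the combination is used in `S15544`.)
-/

set_option autoImplicit false
set_option linter.style.haveILetI false

open CategoryTheory CategoryTheory.Limits AlgebraicGeometry

universe u

namespace Groth.Agent.R2.H34.BirNormal


/-- A finite birational extension of a normal domain is trivial. -/
theorem bijective_of_finite_of_birational {B C K : Type*} [CommRing B] [IsDomain B]
    [IsIntegrallyClosed B] [CommRing C] [Field K] [Algebra B K] [IsFractionRing B K]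
    (φ : B →+* C) (hφ : φ.Finite) (ψ : C →+* K) (hψ : Function.Injective ψ)
    (hcomp : ψ.comp φ = algebraMap B K) : Function.Bijective φ := by
  constructor
  · intro a b hab
    apply IsFractionRing.injective B K
    rw [← hcomp, RingHom.comp_apply, RingHom.comp_apply, hab]
  · intro c
    obtain ⟨p, hp, hpc⟩ := hφ.to_isIntegral c
    have h1 : IsIntegral B (ψ c) := by
      refine ⟨p, hp, ?_⟩
      rw [← hcomp, ← Polynomial.hom_eval₂, hpc, map_zero]
    obtain ⟨b, hb⟩ := IsIntegrallyClosed.isIntegral_iff.1 h1
    refine ⟨b, hψ ?_⟩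
    rw [← hb, ← hcomp, RingHom.comp_apply]

variable {X Y : Scheme.{u}} [IsIntegral X] [IsIntegral Y]

/-- A birational morphism onto a normal integral scheme which is finite on sections over the affine
open `V` is an isomorphism on sections over `V`. -/
theorem isIso_app_of_finite_of_birational (hY : Pi1.IsNormalScheme Y) (f : X ⟶ Y)
    (hgen : f (genericPoint X) = genericPoint Y) (hbir : IsIso (f.stalkMap (genericPoint X)))
    (V : Y.Opens) (hV : IsAffineOpen V) [hne : Nonempty V] (hfin : (f.app V).hom.Finite) :
    IsIso (f.app V) := by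
  haveI : IsDomain Γ(Y, V) := IsIntegral.component_integral V
  haveI : IsIntegrallyClosed Γ(Y, V) :=
    Groth.Agent.Lib.Helper4.NormIso.isIntegrallyClosed_sections hY V hV
  haveI : IsFractionRing Γ(Y, V) Y.functionField := functionField_isFractionRing_of_isAffineOpen Y V hV
  -- the generic point of `X` lies in `f⁻¹ V`
  have hηV : genericPoint Y ∈ V := by
    obtain ⟨⟨v, hv⟩⟩ := hne
    exact ((genericPoint_spec Y).specializes (Set.mem_univ v)).mem_open V.2 hv
  have hηX : genericPoint X ∈ f ⁻¹ᵁ V := by
    show f (genericPoint X) ∈ V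
    rw [hgen]; exact hηV
  haveI : Nonempty (f ⁻¹ᵁ V) := ⟨⟨_, hηX⟩⟩
  -- `K(Y) ≅ K(X)`
  have hsp : f (genericPoint X) ⤳ genericPoint Y := (Inseparable.of_eq hgen).specializes
  set θ : Y.presheaf.stalk (genericPoint Y) ⟶ X.presheaf.stalk (genericPoint X) :=
    Y.presheaf.stalkSpecializes hsp ≫ f.stalkMap (genericPoint X) with hθ
  haveI : IsIso (Y.presheaf.stalkSpecializes hsp) :=
    (Y.presheaf.stalkCongr (Inseparable.of_eq hgen.symm)).isIso_hom
  haveI : IsIso θ := by rw [hθ]; infer_instance
  let ψ : Γ(X, f ⁻¹ᵁ V) →+* Y.functionField :=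
    (inv θ).hom.comp (X.presheaf.germ (f ⁻¹ᵁ V) (genericPoint X) hηX).hom
  have hψ : Function.Injective ψ := by
    have h1 : Function.Injective (inv θ).hom := (ConcreteCategory.bijective_of_isIso (inv θ)).1
    have h2 : Function.Injective (X.presheaf.germ (f ⁻¹ᵁ V) (genericPoint X) hηX).hom :=
      germ_injective_of_isIntegral X (genericPoint X) hηX
    exact h1.comp h2
  have hcomp : ψ.comp (f.app V).hom = algebraMap Γ(Y, V) Y.functionField := by
    ext b
    show (inv θ).hom ((X.presheaf.germ (f ⁻¹ᵁ V) (genericPoint X) hηX).hom ((f.app V).hom b)) =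
      (Y.presheaf.germ V (genericPoint Y) hηV).hom b
    have h1 : (X.presheaf.germ (f ⁻¹ᵁ V) (genericPoint X) hηX).hom ((f.app V).hom b) =
        θ.hom ((Y.presheaf.germ V (genericPoint Y) hηV).hom b) := by
      have h2 : Y.presheaf.germ V (genericPoint Y) hηV ≫ θ =
          f.app V ≫ X.presheaf.germ (f ⁻¹ᵁ V) (genericPoint X) hηX := by
        rw [hθ, TopCat.Presheaf.germ_stalkSpecializes_assoc, Scheme.Hom.germ_stalkMap]
      exact (congrArg (fun φ : Γ(Y, V) ⟶ X.presheaf.stalk (genericPoint X) => φ.hom b) h2).symm
    rw [h1]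
    exact congrArg (fun φ : Y.presheaf.stalk (genericPoint Y) ⟶ Y.presheaf.stalk (genericPoint Y) =>
      φ.hom ((Y.presheaf.germ V (genericPoint Y) hηV).hom b)) (IsIso.hom_inv_id θ)
  have hbij := bijective_of_finite_of_birational (f.app V).hom hfin ψ hψ hcomp
  exact (ConcreteCategory.isIso_iff_bijective (f.app V)).2 hbij

end Groth.Agent.R2.H34.BirNormal
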