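import Mathlib

/-!
# helper34: fibres of `f : X ⟶ Y` at `y` versus the closed fibre of `X ×_Y Spec O_{Y,y} ⟶ Spec O_{Y,y}`
(PROJ:stein, package ST-3).  Imports Mathlib only.

* `locX f y = pullback f (Y.fromSpecStalk y)`, `locFst`, `locSnd`; `locFst` is a preimmersion
  (topological embedding); `locFst_preimage_fibre`, `image_closedFibre`;
* `closedFibreHomeo : locSnd ⁻¹' {closedPoint} ≃ₜ f ⁻¹' {y}`, `closedFibreHomeoFiber : … ≃ₜ f.fiber y`,
  `isPreconnected_closedFibre_iff`, `isConnected_closedFibre_iff`, `preconnectedSpace_fiber_iff`,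
  `connectedSpace_fiber_iff`, `closedFibre_eq_zeroLocus`;
* for a local ring `A` and `g : Z ⟶ Spec A`: `closedFibreSch A g = pullback g (Spec κ(A) ⟶ Spec A)`,
  `closedFibreSchHomeo : closedFibreSch A g ≃ₜ g ⁻¹' {closedPoint A}` and the connectedness corollaries;
* `closedFibreSchIsoFiber : pullback (locSnd f y) (Spec.map (Y.residue y)) ≅ f.fiber y` (schemes).
-/

set_option autoImplicit false

open CategoryTheory CategoryTheory.Limits AlgebraicGeometry IsLocalRing

universe u

namespace Groth.Agent.R2.H34.SteinFibre

variable {X Y : Scheme.{u}} (f : X ⟶ Y) (y : Y)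

/-- `X₁ = X ×_Y Spec O_{Y,y}`. -/
noncomputable abbrev locX : Scheme.{u} := pullback f (Y.fromSpecStalk y)

/-- the projection `X₁ ⟶ X`. -/
noncomputable abbrev locFst : locX f y ⟶ X := pullback.fst f (Y.fromSpecStalk y)

/-- the projection `X₁ ⟶ Spec O_{Y,y}`. -/
noncomputable abbrev locSnd : locX f y ⟶ Spec (Y.presheaf.stalk y) :=
  pullback.snd f (Y.fromSpecStalk y)

instance isPreimmersion_locFst : IsPreimmersion (locFst f y) :=
  MorphismProperty.pullback_fst _ _ inferInstance

theorem isEmbedding_locFst : Topology.IsEmbedding (locFst f y) :=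
  (locFst f y).isEmbedding

theorem range_locFst : Set.range (locFst f y) = f ⁻¹' {z | z ⤳ y} := by
  rw [Scheme.Pullback.range_fst, Scheme.range_fromSpecStalk]

theorem locFst_comp_apply (z : locX f y) :
    f (locFst f y z) = Y.fromSpecStalk y (locSnd f y z) := by
  have h : locFst f y ≫ f = locSnd f y ≫ Y.fromSpecStalk y := pullback.condition
  have := congrArg (fun φ : locX f y ⟶ Y => φ z) h
  simpa using this

theorem fromSpecStalk_eq_iff (c : Spec (Y.presheaf.stalk y)) :
    Y.fromSpecStalk y c = y ↔ c = closedPoint (Y.presheaf.stalk y) := by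
  constructor
  · intro h
    apply (Y.fromSpecStalk y).isEmbedding.injective
    rw [h, Scheme.fromSpecStalk_closedPoint]
  · rintro rfl
    exact Scheme.fromSpecStalk_closedPoint

/-- the preimage in `X₁` of the fibre `f⁻¹(y)` is the closed fibre of `X₁ ⟶ Spec O_{Y,y}`. -/
theorem locFst_preimage_fibre :
    locFst f y ⁻¹' (f ⁻¹' {y}) = locSnd f y ⁻¹' {closedPoint (Y.presheaf.stalk y)} := by
  ext z
  show f (locFst f y z) = y ↔ locSnd f y z = closedPoint (Y.presheaf.stalk y)
  rw [locFst_comp_apply, fromSpecStalk_eq_iff]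

theorem fibre_subset_range_locFst : f ⁻¹' {y} ⊆ Set.range (locFst f y) := by
  rw [range_locFst]
  intro x hx
  simp only [Set.mem_preimage, Set.mem_singleton_iff] at hx
  show f x ⤳ y
  rw [hx]

theorem image_closedFibre :
    locFst f y '' (locSnd f y ⁻¹' {closedPoint (Y.presheaf.stalk y)}) = f ⁻¹' {y} := by
  rw [← locFst_preimage_fibre, Set.image_preimage_eq_of_subset (fibre_subset_range_locFst f y)]

/-- the closed fibre of `X₁ ⟶ Spec O_{Y,y}` is homeomorphic to `f⁻¹(y)`. -/
noncomputable def closedFibreHomeo :
    (locSnd f y ⁻¹' {closedPoint (Y.presheaf.stalk y)} : Set (locX f y)) ≃ₜ (f ⁻¹' {y} : Set X) :=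
  ((isEmbedding_locFst f y).homeomorphImage _).trans (Homeomorph.setCongr (image_closedFibre f y))

@[simp]
theorem closedFibreHomeo_apply (z : (locSnd f y ⁻¹' {closedPoint (Y.presheaf.stalk y)} : Set (locX f y))) :
    (closedFibreHomeo f y z : X) = locFst f y z := rfl

/-- the closed fibre of `X₁ ⟶ Spec O_{Y,y}` is homeomorphic to the scheme-theoretic fibre. -/
noncomputable def closedFibreHomeoFiber :
    (locSnd f y ⁻¹' {closedPoint (Y.presheaf.stalk y)} : Set (locX f y)) ≃ₜ f.fiber y :=
  (closedFibreHomeo f y).trans (f.fiberHomeo y).symm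

theorem isPreconnected_closedFibre_iff :
    _root_.IsPreconnected (locSnd f y ⁻¹' {closedPoint (Y.presheaf.stalk y)}) ↔
      _root_.IsPreconnected (f ⁻¹' {y}) := by
  rw [← image_closedFibre f y]
  exact ((isEmbedding_locFst f y).isInducing.isPreconnected_image).symm

theorem isConnected_closedFibre_iff :
    _root_.IsConnected (locSnd f y ⁻¹' {closedPoint (Y.presheaf.stalk y)}) ↔
      _root_.IsConnected (f ⁻¹' {y}) := by
  rw [← image_closedFibre f y]
  exact ⟨fun h => ⟨h.1.image _, ((isEmbedding_locFst f y).isInducing.isPreconnected_image).2 h.2⟩,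
    fun h => ⟨Set.image_nonempty.1 h.1,
      ((isEmbedding_locFst f y).isInducing.isPreconnected_image).1 h.2⟩⟩

theorem preconnectedSpace_congr {α β : Type*} [TopologicalSpace α] [TopologicalSpace β]
    (e : α ≃ₜ β) : PreconnectedSpace α ↔ PreconnectedSpace β := by
  rw [preconnectedSpace_iff_univ, preconnectedSpace_iff_univ, ← e.isPreconnected_image,
    Set.image_univ_of_surjective e.surjective]

theorem preconnectedSpace_fiber_iff :
    PreconnectedSpace (f.fiber y) ↔
      _root_.IsPreconnected (locSnd f y ⁻¹' {closedPoint (Y.presheaf.stalk y)}) := by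
  rw [isPreconnected_closedFibre_iff, isPreconnected_iff_preconnectedSpace]
  exact preconnectedSpace_congr (f.fiberHomeo y)

theorem connectedSpace_fiber_iff :
    ConnectedSpace (f.fiber y) ↔
      _root_.IsConnected (locSnd f y ⁻¹' {closedPoint (Y.presheaf.stalk y)}) := by
  rw [isConnected_closedFibre_iff, isConnected_iff_connectedSpace]
  exact (f.fiberHomeo y).connectedSpace_iff

theorem zeroLocus_maximalIdeal (R : Type*) [CommRing R] [IsLocalRing R] :
    PrimeSpectrum.zeroLocus (maximalIdeal R : Set R) = {closedPoint R} := by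
  ext p
  simp only [PrimeSpectrum.mem_zeroLocus, SetLike.coe_subset_coe, Set.mem_singleton_iff]
  constructor
  · intro h
    apply PrimeSpectrum.ext
    exact ((IsLocalRing.maximalIdeal.isMaximal R).eq_of_le p.isPrime.ne_top h).symm
  · rintro rfl
    exact le_rfl

/-- the closed fibre written with the zero locus of the maximal ideal. -/
theorem closedFibre_eq_zeroLocus :
    locSnd f y ⁻¹' {closedPoint (Y.presheaf.stalk y)} =
      locSnd f y ⁻¹' (PrimeSpectrum.zeroLocus (maximalIdeal (Y.presheaf.stalk y) : Set _)) := by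
  rw [zeroLocus_maximalIdeal]
  rfl

/-! ### the closed fibre over a local ring, scheme form versus subspace form -/

section Local

variable (A : CommRingCat.{u}) [IsLocalRing A] {Z : Scheme.{u}} (g : Z ⟶ Spec A)

/-- `Spec κ(A) ⟶ Spec A`. -/
noncomputable abbrev specResidue : Spec (CommRingCat.of (ResidueField A)) ⟶ Spec A :=
  Spec.map (CommRingCat.ofHom (residue A))

instance isClosedImmersion_specResidue : IsClosedImmersion (specResidue A) :=
  IsClosedImmersion.spec_of_surjective _ (residue_surjective (R := A))

theorem range_specResidue : Set.range (specResidue A) = {closedPoint A} := by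
  have h := _root_.range_comap_of_surjective (ResidueField A) (residue A)
    (residue_surjective (R := A))
  rw [IsLocalRing.ker_residue, zeroLocus_maximalIdeal] at h
  exact h

/-- the scheme-theoretic closed fibre `Z ×_{Spec A} Spec κ(A)`. -/
noncomputable abbrev closedFibreSch : Scheme.{u} := pullback g (specResidue A)

instance : IsClosedImmersion (pullback.fst g (specResidue A)) :=
  MorphismProperty.pullback_fst _ _ inferInstance

theorem range_closedFibreSch_fst :
    Set.range (pullback.fst g (specResidue A)) = g ⁻¹' {closedPoint A} := by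
  rw [Scheme.Pullback.range_fst, range_specResidue]

/-- the scheme-theoretic closed fibre is homeomorphic to the subspace `g⁻¹(closed point)`. -/
noncomputable def closedFibreSchHomeo :
    closedFibreSch A g ≃ₜ (g ⁻¹' {closedPoint A} : Set Z) :=
  ((pullback.fst g (specResidue A)).isEmbedding.toHomeomorph).trans
    (Homeomorph.setCongr (range_closedFibreSch_fst A g))

theorem preconnectedSpace_closedFibreSch_iff :
    PreconnectedSpace (closedFibreSch A g) ↔ _root_.IsPreconnected (g ⁻¹' {closedPoint A}) := by
  rw [isPreconnected_iff_preconnectedSpace]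
  exact preconnectedSpace_congr (closedFibreSchHomeo A g)

theorem connectedSpace_closedFibreSch_iff :
    ConnectedSpace (closedFibreSch A g) ↔ _root_.IsConnected (g ⁻¹' {closedPoint A}) := by
  rw [isConnected_iff_connectedSpace]
  exact (closedFibreSchHomeo A g).connectedSpace_iff

end Local

/-! ### the scheme-theoretic fibre of `f` at `y` is the closed fibre of `X₁ ⟶ Spec O_{Y,y}` -/

/-- `f.fiber y ≅ X₁ ×_{Spec O_{Y,y}} Spec κ(y)` as schemes. -/
noncomputable def closedFibreSchIsoFiber :
    pullback (locSnd f y) (Spec.map (Y.residue y)) ≅ f.fiber y :=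
  pullbackLeftPullbackSndIso f (Y.fromSpecStalk y) (Spec.map (Y.residue y))

@[reassoc (attr := simp)]
theorem closedFibreSchIsoFiber_hom_fiberι :
    (closedFibreSchIsoFiber f y).hom ≫ f.fiberι y =
      pullback.fst (locSnd f y) (Spec.map (Y.residue y)) ≫ locFst f y :=
  pullbackLeftPullbackSndIso_hom_fst f (Y.fromSpecStalk y) (Spec.map (Y.residue y))

@[reassoc (attr := simp)]
theorem closedFibreSchIsoFiber_hom_toSpecResidueField :
    (closedFibreSchIsoFiber f y).hom ≫ f.fiberToSpecResidueField y =
      pullback.snd (locSnd f y) (Spec.map (Y.residue y)) :=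
  pullbackLeftPullbackSndIso_hom_snd f (Y.fromSpecStalk y) (Spec.map (Y.residue y))

example : closedFibreSch (Y.presheaf.stalk y) (locSnd f y) =
    pullback (locSnd f y) (Spec.map (Y.residue y)) := rfl

end Groth.Agent.R2.H34.SteinFibre
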