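import Mathlib
import Groth.Agent.R2.H34SteinFibre
import Groth.Agent.Lib.Helper6StalkIso

/-!
# helper34: global functions of `X ×_Y Spec O_{Y,y}` (PROJ:stein, package ST-2, `f_* O_X = O_Y` case)

Uses Mathlib's flat base change of sections (`isIso_pushoutSection_of_isQuasiSeparated_of_flat_right`)
along the flat morphism `Spec O_{Y,y} ⟶ Y`.

* `isIso_pushoutSection_loc`: for `f` qcqs and `V ∋ y` affine open,
  `Γ(X, f⁻¹V) ⊗_{Γ(Y,V)} O_{Y,y} ≅ Γ(X ×_Y Spec O_{Y,y}, ⊤)` (Mathlib's `pushoutSection` is an iso);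
* `isIso_locSnd_appTop`: if moreover `f.app V` is an iso then `Γ(Spec O_{Y,y}) ⟶ Γ(X₁)` is an iso;
* `stalkIsoΓLocX`, `isLocalRing_Γ_locX`, `isLocalRing_Γ_locX_of_forall_isIso_app`.
-/

set_option autoImplicit false
set_option linter.style.haveILetI false

open CategoryTheory CategoryTheory.Limits AlgebraicGeometry IsLocalRing

universe u

namespace Groth.Agent.R2.H34.SteinFibre

variable {X Y : Scheme.{u}} (f : X ⟶ Y) (y : Y)

theorem isPullback_loc : IsPullback (locFst f y) (locSnd f y) f (Y.fromSpecStalk y) :=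
  IsPullback.of_hasPullback f (Y.fromSpecStalk y)

theorem fromSpecStalk_preimage_eq_top (V : Y.Opens) (hy : y ∈ V) :
    (Y.fromSpecStalk y) ⁻¹ᵁ V = ⊤ := by
  rw [eq_top_iff]
  intro c _
  show Y.fromSpecStalk y c ∈ V
  have h1 : c ⤳ closedPoint (Y.presheaf.stalk y) := specializes_closedPoint c
  have h2 := h1.map (Y.fromSpecStalk y).continuous
  rw [Scheme.fromSpecStalk_closedPoint] at h2
  exact h2.mem_open V.2 hy

theorem locFst_preimage_eq_top (V : Y.Opens) (hy : y ∈ V) :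
    (locFst f y) ⁻¹ᵁ (f ⁻¹ᵁ V) = ⊤ := by
  have h : locFst f y ≫ f = locSnd f y ≫ Y.fromSpecStalk y := pullback.condition
  rw [← Scheme.Hom.comp_preimage, h, Scheme.Hom.comp_preimage, fromSpecStalk_preimage_eq_top y V hy]
  rfl

/-- Flat base change for global sections along `Spec O_{Y,y} ⟶ Y`:
`Γ(X, f⁻¹V) ⊗_{Γ(Y,V)} O_{Y,y} ≅ Γ(X ×_Y Spec O_{Y,y}, ⊤)` for `f` qcqs and `V ∋ y` affine open. -/
theorem isIso_pushoutSection_loc [QuasiCompact f] [QuasiSeparated f] (V : Y.Opens)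
    (hV : IsAffineOpen V)
    (hUST : (⊤ : (Spec (Y.presheaf.stalk y)).Opens) ≤ (Y.fromSpecStalk y) ⁻¹ᵁ V)
    (hUY : (⊤ : (locX f y).Opens) = (locFst f y) ⁻¹ᵁ (f ⁻¹ᵁ V) ⊓ (locSnd f y) ⁻¹ᵁ ⊤) :
    IsIso (pushoutSection (isPullback_loc f y) hUST (le_refl (f ⁻¹ᵁ V)) hUY) := by
  have hqc : IsCompact (X := X) (f ⁻¹ᵁ V) :=
    QuasiCompact.isCompact_preimage (f := f) _ V.2 hV.isCompact
  have hqs : IsQuasiSeparated (α := X) (f ⁻¹ᵁ V) :=
    f.isQuasiSeparated_preimage hV.isQuasiSeparated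
  haveI := Groth.Agent.Lib.Helper6.flat_fromSpecStalk Y y
  exact isIso_pushoutSection_of_isQuasiSeparated_of_flat_right (isPullback_loc f y) hUST
    (le_refl (f ⁻¹ᵁ V)) hUY hV (isAffineOpen_top (Spec (Y.presheaf.stalk y))) hqc hqs

/-- Flat base change for global sections along `Spec O_{Y,y} ⟶ Y` (Mathlib's `pushoutSection`):
if `f` is qcqs and `f.app V` is an isomorphism for one affine open neighbourhood `V` of `y`, then
`Γ(Spec O_{Y,y}, ⊤) ⟶ Γ(X ×_Y Spec O_{Y,y}, ⊤)` is an isomorphism. -/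
theorem isIso_locSnd_appTop [QuasiCompact f] [QuasiSeparated f] (V : Y.Opens) (hV : IsAffineOpen V)
    (hy : y ∈ V) (hf : IsIso (f.app V)) : IsIso (locSnd f y).appTop := by
  have H := isPullback_loc f y
  have hUST : (⊤ : (Spec (Y.presheaf.stalk y)).Opens) ≤ (Y.fromSpecStalk y) ⁻¹ᵁ V := by
    rw [fromSpecStalk_preimage_eq_top y V hy]
  have hUSX : f ⁻¹ᵁ V ≤ f ⁻¹ᵁ V := le_rfl
  have hUY : (⊤ : (locX f y).Opens) = (locFst f y) ⁻¹ᵁ (f ⁻¹ᵁ V) ⊓ (locSnd f y) ⁻¹ᵁ ⊤ := by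
    rw [locFst_preimage_eq_top f y V hy]
    simp
  have hiso : IsIso (pushoutSection H hUST hUSX hUY) :=
    isIso_pushoutSection_loc f y V hV hUST hUY
  have hinr : IsIso (pushout.inr (f.appLE V (f ⁻¹ᵁ V) hUSX) ((Y.fromSpecStalk y).appLE V ⊤ hUST)) := by
    haveI : IsIso (f.appLE V (f ⁻¹ᵁ V) hUSX) := by
      rw [Scheme.Hom.appLE_eq_app]
      exact hf
    infer_instance
  have hcomp : pushout.inr (f.appLE V (f ⁻¹ᵁ V) hUSX) ((Y.fromSpecStalk y).appLE V ⊤ hUST) ≫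
      pushoutSection H hUST hUSX hUY = (locSnd f y).appLE ⊤ ⊤ (by simp) := by
    exact pushout.inr_desc _ _ _
  have h3 : IsIso ((locSnd f y).appLE ⊤ ⊤ (by simp)) := by
    rw [← hcomp]
    infer_instance
  have h4 : (locSnd f y).appLE ⊤ ⊤ (by simp) = (locSnd f y).appTop := by
    simp [Scheme.Hom.appLE, Scheme.Hom.appTop]
  rwa [h4] at h3

/-- the ring isomorphism `O_{Y,y} ≅ Γ(X ×_Y Spec O_{Y,y}, ⊤)` when `f` is qcqs and `O_Y(V) ≅ O_X(f⁻¹V)`
for one affine open neighbourhood `V` of `y`. -/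
noncomputable def stalkIsoΓLocX [QuasiCompact f] [QuasiSeparated f] (V : Y.Opens)
    (hV : IsAffineOpen V) (hy : y ∈ V) (hf : IsIso (f.app V)) :
    Y.presheaf.stalk y ≅ Γ(locX f y, ⊤) :=
  haveI := isIso_locSnd_appTop f y V hV hy hf
  (Scheme.ΓSpecIso (Y.presheaf.stalk y)).symm ≪≫ asIso (locSnd f y).appTop

theorem isLocalRing_Γ_locX [QuasiCompact f] [QuasiSeparated f] (V : Y.Opens)
    (hV : IsAffineOpen V) (hy : y ∈ V) (hf : IsIso (f.app V)) :
    IsLocalRing Γ(locX f y, ⊤) :=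
  (stalkIsoΓLocX f y V hV hy hf).commRingCatIsoToRingEquiv.isLocalRing

/-- **ST-2 (special case used for Zariski's connectedness theorem).** If `f` is qcqs and
`f_* O_X = O_Y`, then the ring of global functions of `X ×_Y Spec O_{Y,y}` is local. -/
theorem isLocalRing_Γ_locX_of_forall_isIso_app [QuasiCompact f] [QuasiSeparated f]
    (hf : ∀ U : Y.Opens, IsIso (f.app U)) : IsLocalRing Γ(locX f y, ⊤) := by
  obtain ⟨_, ⟨V, hV, rfl⟩, hyV, -⟩ :=
    Y.isBasis_affineOpens.exists_subset_of_mem_open (Set.mem_univ y) isOpen_univ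
  exact isLocalRing_Γ_locX f y V hV hyV (hf V)

end Groth.Agent.R2.H34.SteinFibre
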