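import Mathlib
import Groth.Prelude.Def_Formal
import Groth.Prelude.Def_CohB1
import Groth.Agent.Lib.Helper4NormDelta
import Groth.Agent.R2.H35FFReesH
import Groth.Agent.R2.H40FormalMod
import Groth.Agent.S9530

/-!
# helper34: support of `M / I^n M` (PROJ:stein, package ST-1)

`X` over `Spec A`, `g = X ↘ Spec A`, `I : Ideal A`.

* `support_modPow_subset A I n M : CohB1.support (Formal.modPow I n M) ⊆ CohB1.support M ∩ g ⁻¹' zeroLocus I`
  (any `M : X.Modules`, any `n`);
* `support_modPow_one_structureModule A I : CohB1.support (Formal.modPow I 1 O_X) = g ⁻¹' zeroLocus I`;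
* `germ_modPowπ_one_ne_zero`, `notMem_basicOpen_of_modPowπ_app_eq_zero` (a local function whose image in
  `O_X / I O_X` vanishes lies in the maximal ideal at every point over `V(I)`);
* tools: `resΓ`, `smulModΓ_app`, `isUnit_resΓ`, `subsingleton_stalk_of_smulModΓ_eq_zero`,
  `mem_basicOpen_toGlobal_iff`, the closed subscheme `ZI A X I = X ×_A Spec A/I`, `iI`, `range_iI`,
  `quotToPush : O_X / I O_X ⟶ i_* O_Z`, `oneStalk_ne_zero`.
-/

set_option autoImplicit false
set_option linter.style.haveILetI false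
set_option linter.unusedSectionVars false

open CategoryTheory CategoryTheory.Limits AlgebraicGeometry Opposite

universe u

namespace Groth.Agent.R2.H34.SteinSupp

open Groth.Agent.Lib.Helper4.NormDelta

variable {A : Type u} [CommRing A] {X : Scheme.{u}} [X.Over (Spec (CommRingCat.of A))]

/-- restriction of a global function to an open. -/
noncomputable def resΓ (X : Scheme.{u}) (r : Γ(X, ⊤)) (W : X.Opens) : Γ(X, W) :=
  X.presheaf.map (homOfLE (le_top : W ≤ ⊤)).op r

theorem smulModΓ_app (M : X.Modules) (r : Γ(X, ⊤)) (W : X.Opens) (m : Γ(M, W)) :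
    Scheme.Modules.Hom.app (Formal.smulModΓ M r) W m = resΓ X r W • m := rfl

theorem isUnit_resΓ (r : Γ(X, ⊤)) (W : X.Opens) (hW : W ≤ X.basicOpen r) : IsUnit (resΓ X r W) := by
  have h3 : IsUnit (X.presheaf.map (homOfLE (le_top : X.basicOpen r ≤ ⊤)).op r) :=
    RingedSpace.isUnit_res_basicOpen X.toRingedSpace r
  have h4 := h3.map (X.presheaf.map (homOfLE hW).op).hom
  have h5 : (X.presheaf.map (homOfLE hW).op).hom
      (X.presheaf.map (homOfLE (le_top : X.basicOpen r ≤ ⊤)).op r) = resΓ X r W := by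
    unfold resΓ
    rw [← CommRingCat.comp_apply, ← Functor.map_comp]
    rfl
  rwa [h5] at h4

/-- If multiplication by a global function `r` is zero on `M` then the stalks of `M` vanish on
`X.basicOpen r`. -/
theorem subsingleton_stalk_of_smulModΓ_eq_zero (M : X.Modules) (r : Γ(X, ⊤))
    (h : Formal.smulModΓ M r = 0) (x : X) (hx : x ∈ X.basicOpen r) :
    Subsingleton (M.presheaf.stalk x) := by
  refine subsingleton_of_forall_eq 0 (fun y => ?_)
  obtain ⟨V, hxV, t, rfl⟩ := M.presheaf.exists_germ_eq y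
  have hxW : x ∈ V ⊓ X.basicOpen r := ⟨hxV, hx⟩
  have h1 : M.presheaf.germ V x hxV t = M.presheaf.germ (V ⊓ X.basicOpen r) x hxW
      (M.presheaf.map (homOfLE inf_le_left).op t) :=
    (TopCat.Presheaf.germ_res_apply M.presheaf (homOfLE inf_le_left) x hxW t).symm
  rw [h1]
  have h2 : resΓ X r (V ⊓ X.basicOpen r) •
      (show Γ(M, V ⊓ X.basicOpen r) from M.presheaf.map (homOfLE inf_le_left).op t) = 0 := by
    rw [← smulModΓ_app, h]
    rfl
  obtain ⟨u, hu'⟩ := isUnit_resΓ r (V ⊓ X.basicOpen r) inf_le_right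
  have h5 : (show Γ(M, V ⊓ X.basicOpen r) from M.presheaf.map (homOfLE inf_le_left).op t) = 0 := by
    have := congrArg (fun z => (↑u⁻¹ : Γ(X, V ⊓ X.basicOpen r)) • z) h2
    simp only [smul_zero] at this
    rw [← hu', ← mul_smul, Units.inv_mul, one_smul] at this
    exact this
  have h6 : M.presheaf.map (homOfLE (inf_le_left : V ⊓ X.basicOpen r ≤ V)).op t = 0 := h5
  rw [h6, map_zero]

theorem mem_basicOpen_toGlobal_iff (g : X ⟶ Spec (CommRingCat.of A)) (b : A) (x : X) :
    x ∈ X.basicOpen (show Γ(X, ⊤) from Coh.toGlobal g b) ↔ b ∉ (g x).asIdeal := by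
  have h1 : (show Γ(X, ⊤) from Coh.toGlobal g b) =
      g.appTop.hom ((Scheme.ΓSpecIso (CommRingCat.of A)).inv.hom b) := rfl
  rw [h1, ← Scheme.preimage_basicOpen_top g, basicOpen_eq_of_affine]
  rfl

variable (A) in
/-- `M / I^n M` (`n ≥ 1`) is supported inside `Supp M ∩ g⁻¹ V(I)`. -/
theorem support_modPow_subset (I : Ideal A) (n : ℕ) (M : X.Modules) :
    CohB1.support (Formal.modPow I n M) ⊆
      CohB1.support M ∩
        (X ↘ Spec (CommRingCat.of A)) ⁻¹' (PrimeSpectrum.zeroLocus (I : Set A)) := by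
  intro x hx
  refine ⟨?_, ?_⟩
  · -- quotient of `M`
    intro hM
    apply hx
    haveI : Epi (Formal.modPowπ I n M) := Groth.Agent.R2.H40.FormalMod.epi_modPowπ I n M
    have hs := stalkLin_surjective (Formal.modPowπ I n M) x
    exact hs.subsingleton
  · by_contra hcon
    apply hx
    -- some `a ∈ I` is not in the prime `g x`
    have h1 : ¬ (I : Set A) ⊆ ((X ↘ Spec (CommRingCat.of A)) x).asIdeal := fun h => hcon h
    obtain ⟨a, haI, hap⟩ := Set.not_subset.1 h1
    have hb : a ^ n ∈ I ^ n := Ideal.pow_mem_pow haI n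
    have hbp : a ^ n ∉ ((X ↘ Spec (CommRingCat.of A)) x).asIdeal := fun h =>
      hap (((X ↘ Spec (CommRingCat.of A)) x).isPrime.mem_of_pow_mem n h)
    have h0 : Formal.smulMod A (Formal.modPow I n M) (a ^ n) = 0 :=
      Groth.Agent.R2.H35.FFRees.smulMod_modPow_eq_zero I M n (a ^ n) hb
    exact subsingleton_stalk_of_smulModΓ_eq_zero (Formal.modPow I n M)
      (show Γ(X, ⊤) from Coh.toGlobal (X ↘ Spec (CommRingCat.of A)) (a ^ n)) h0 x
      ((mem_basicOpen_toGlobal_iff _ _ x).2 hbp)

/-! ### the closed subscheme `X ×_A Spec A/I` -/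

section Closed

variable (A) (X) (I : Ideal A)

/-- `Spec A/I ⟶ Spec A`. -/
noncomputable abbrev specQuot : Spec (CommRingCat.of (A ⧸ I)) ⟶ Spec (CommRingCat.of A) :=
  Spec.map (CommRingCat.ofHom (Ideal.Quotient.mk I))

/-- `Z = X ×_A Spec A/I`. -/
noncomputable abbrev ZI : Scheme.{u} := pullback (X ↘ Spec (CommRingCat.of A)) (specQuot A I)

/-- the closed immersion `Z ⟶ X`. -/
noncomputable abbrev iI : ZI A X I ⟶ X := pullback.fst (X ↘ Spec (CommRingCat.of A)) (specQuot A I)

theorem range_specQuot : Set.range (specQuot A I) = PrimeSpectrum.zeroLocus (I : Set A) := by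
  have h := _root_.range_comap_of_surjective (A ⧸ I) (Ideal.Quotient.mk I)
    Ideal.Quotient.mk_surjective
  rw [Ideal.mk_ker] at h
  exact h

theorem range_iI : Set.range (iI A X I) =
    (X ↘ Spec (CommRingCat.of A)) ⁻¹' (PrimeSpectrum.zeroLocus (I : Set A)) := by
  rw [Scheme.Pullback.range_fst, range_specQuot]

theorem iI_appTop_toGlobal (a : A) (ha : a ∈ I) :
    (iI A X I).appTop.hom (show Γ(X, ⊤) from Coh.toGlobal (X ↘ Spec (CommRingCat.of A)) a) = 0 := by
  have h1 : (show Γ(X, ⊤) from Coh.toGlobal (X ↘ Spec (CommRingCat.of A)) a) =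
      (X ↘ Spec (CommRingCat.of A)).appTop.hom ((Scheme.ΓSpecIso (CommRingCat.of A)).inv.hom a) := rfl
  rw [h1, ← CommRingCat.comp_apply, ← Scheme.Hom.comp_appTop]
  have h2 : iI A X I ≫ (X ↘ Spec (CommRingCat.of A)) =
      pullback.snd (X ↘ Spec (CommRingCat.of A)) (specQuot A I) ≫ specQuot A I := pullback.condition
  rw [h2, Scheme.Hom.comp_appTop, CommRingCat.comp_apply]
  have h3 : (specQuot A I).appTop.hom ((Scheme.ΓSpecIso (CommRingCat.of A)).inv.hom a) =
      (Scheme.ΓSpecIso (CommRingCat.of (A ⧸ I))).inv.hom (Ideal.Quotient.mk I a) := by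
    have := Scheme.ΓSpecIso_inv_naturality (CommRingCat.ofHom (Ideal.Quotient.mk I))
    exact (congrArg (fun φ => φ.hom a) this).symm
  rw [h3, Ideal.Quotient.eq_zero_iff_mem.2 ha, map_zero, map_zero]

theorem iI_app_resΓ_toGlobal (a : A) (ha : a ∈ I) (W : X.Opens) :
    ((iI A X I).app W).hom
      (resΓ X (show Γ(X, ⊤) from Coh.toGlobal (X ↘ Spec (CommRingCat.of A)) a) W) = 0 := by
  have hnat := (iI A X I).naturality (homOfLE (le_top : W ≤ ⊤)).op
  have h1 := congrArg (fun φ => φ.hom
    (show Γ(X, ⊤) from Coh.toGlobal (X ↘ Spec (CommRingCat.of A)) a)) hnat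
  simp only [CommRingCat.comp_apply] at h1
  unfold resΓ
  rw [h1]
  have h2 := iI_appTop_toGlobal A X I a ha
  have h3 : ((iI A X I).app ⊤).hom
      (show Γ(X, ⊤) from Coh.toGlobal (X ↘ Spec (CommRingCat.of A)) a) = 0 := h2
  rw [h3, map_zero]

theorem smulMod_comp_unitToPush (a : A) (ha : a ∈ I) :
    Formal.smulMod A (Coh.structureModule X) a ≫ ClSub.unitToPush (iI A X I) = 0 := by
  apply Scheme.Modules.hom_ext
  intro W
  ext s
  rw [Scheme.Modules.Hom.comp_app]
  show Scheme.Modules.Hom.app (ClSub.unitToPush (iI A X I)) W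
      (Scheme.Modules.Hom.app (Formal.smulModΓ (Coh.structureModule X)
        (show Γ(X, ⊤) from Coh.toGlobal (X ↘ Spec (CommRingCat.of A)) a)) W s) = 0
  rw [smulModΓ_app, unitToPush_app]
  have h1 : (resΓ X (show Γ(X, ⊤) from Coh.toGlobal (X ↘ Spec (CommRingCat.of A)) a) W •
      (show Γ(Coh.structureModule X, W) from s) : Γ(Coh.structureModule X, W)) =
      (show Γ(X, W) from
        resΓ X (show Γ(X, ⊤) from Coh.toGlobal (X ↘ Spec (CommRingCat.of A)) a) W *
          (show Γ(X, W) from s)) := rfl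
  rw [h1, map_mul, iI_app_resΓ_toGlobal A X I a ha W, zero_mul]
  rfl

/-- the induced map `O_X / I O_X ⟶ i_* O_Z`. -/
noncomputable def quotToPush :
    Formal.modPow I 1 (Coh.structureModule X) ⟶ pushO (iI A X I) :=
  cokernel.desc _ (ClSub.unitToPush (iI A X I))
    ((Groth.Agent.S9530.smulFamily_comp_eq_zero_iff (J := I ^ 1) _).2 (fun a ha =>
      smulMod_comp_unitToPush A X I a (by simpa using ha)))

theorem modPowπ_quotToPush :
    Formal.modPowπ I 1 (Coh.structureModule X) ≫ quotToPush A X I =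
      ClSub.unitToPush (iI A X I) :=
  cokernel.π_desc _ _ _

end Closed

/-- the germ of `1` in `(f_* O_N)_x` is nonzero at points of the image of `f`. -/
theorem oneStalk_ne_zero {N : Scheme.{u}} (f : N ⟶ X) (z : N) : oneStalk f (f z) ≠ 0 := by
  intro h0
  have h1 : (pushO f).presheaf.germ ⊤ (f z) (TopologicalSpace.Opens.mem_top _) (toPush f ⊤ 1) =
      (pushO f).presheaf.germ ⊤ (f z) (TopologicalSpace.Opens.mem_top _) 0 := by
    rw [map_zero]
    exact h0
  obtain ⟨W, hxW, i₁, i₂, hW⟩ := (pushO f).presheaf.germ_eq (f z) _ _ _ _ h1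
  rw [map_zero] at hW
  -- `1 = 0` in `Γ(N, f⁻¹ W)`
  have h2 : (1 : Γ(N, f ⁻¹ᵁ W)) = 0 := by
    have h3 : (pushO f).presheaf.map i₁.op (toPush f ⊤ 1) =
        toPush f W (N.presheaf.map (homOfLE (le_top : f ⁻¹ᵁ W ≤ ⊤)).op 1) := rfl
    rw [h3, map_one] at hW
    exact hW
  have hz : z ∈ f ⁻¹ᵁ W := hxW
  have h4 := congrArg (N.presheaf.germ (f ⁻¹ᵁ W) z hz).hom h2
  rw [map_one, map_zero] at h4
  exact one_ne_zero h4

variable (A) in
/-- the germ of the image of `1` in `O_X / I O_X` is nonzero at every point over `V(I)`. -/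
theorem germ_modPowπ_one_ne_zero (I : Ideal A) (x : X)
    (hx : (X ↘ Spec (CommRingCat.of A)) x ∈ PrimeSpectrum.zeroLocus (I : Set A)) :
    (Formal.modPow I 1 (Coh.structureModule X)).presheaf.germ ⊤ x (TopologicalSpace.Opens.mem_top _)
      (Scheme.Modules.Hom.app (Formal.modPowπ I 1 (Coh.structureModule X)) ⊤
        (show Γ(Coh.structureModule X, ⊤) from (1 : Γ(X, ⊤)))) ≠ 0 := by
  have hx' : x ∈ Set.range (iI A X I) := by rw [range_iI A X I]; exact hx
  obtain ⟨z, rfl⟩ := hx'
  intro h0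
  apply oneStalk_ne_zero (iI A X I) z
  have h1 : oneStalk (iI A X I) (iI A X I z) =
      stalkLin (quotToPush A X I) (iI A X I z)
        ((Formal.modPow I 1 (Coh.structureModule X)).presheaf.germ ⊤ (iI A X I z)
          (TopologicalSpace.Opens.mem_top _)
          (Scheme.Modules.Hom.app (Formal.modPowπ I 1 (Coh.structureModule X)) ⊤
            (show Γ(Coh.structureModule X, ⊤) from (1 : Γ(X, ⊤))))) := by
    rw [stalkLin_germ]
    have h2 : Scheme.Modules.Hom.app (quotToPush A X I) ⊤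
        (Scheme.Modules.Hom.app (Formal.modPowπ I 1 (Coh.structureModule X)) ⊤
          (show Γ(Coh.structureModule X, ⊤) from (1 : Γ(X, ⊤)))) =
        Scheme.Modules.Hom.app (ClSub.unitToPush (iI A X I)) ⊤
          (show Γ(Coh.structureModule X, ⊤) from (1 : Γ(X, ⊤))) := by
      rw [← modPowπ_quotToPush A X I]
      rfl
    rw [h2, unitToPush_app, map_one]
    rfl
  rw [h1, h0, map_zero]

variable (A) in
/-- **ST-1 (=)**: the support of `O_X / I O_X` is the preimage of `V(I)`. -/
theorem support_modPow_one_structureModule (I : Ideal A) :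
    CohB1.support (Formal.modPow I 1 (Coh.structureModule X)) =
      (X ↘ Spec (CommRingCat.of A)) ⁻¹' (PrimeSpectrum.zeroLocus (I : Set A)) := by
  apply Set.Subset.antisymm
  · exact fun x hx => (support_modPow_subset A I 1 (Coh.structureModule X) hx).2
  · intro x hx hsub
    exact germ_modPowπ_one_ne_zero A I x hx (Subsingleton.elim _ _)

variable (A) in
/-- **ST-1 (c)**: a local function whose image in `O_X / I O_X` vanishes lies in the maximal ideal at
every point over `V(I)`. -/
theorem notMem_basicOpen_of_modPowπ_app_eq_zero (I : Ideal A) (W : X.Opens) (s : Γ(X, W)) (x : X)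
    (hxW : x ∈ W)
    (hx : (X ↘ Spec (CommRingCat.of A)) x ∈ PrimeSpectrum.zeroLocus (I : Set A))
    (hs : Scheme.Modules.Hom.app (Formal.modPowπ I 1 (Coh.structureModule X)) W
      (show Γ(Coh.structureModule X, W) from s) = 0) : x ∉ X.basicOpen s := by
  intro hxs
  apply germ_modPowπ_one_ne_zero A I x hx
  set π := Formal.modPowπ I 1 (Coh.structureModule X) with hπ
  -- restrict `1` to `W`
  have h1 : (Formal.modPow I 1 (Coh.structureModule X)).presheaf.germ ⊤ x
      (TopologicalSpace.Opens.mem_top _)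
      (Scheme.Modules.Hom.app π ⊤ (show Γ(Coh.structureModule X, ⊤) from (1 : Γ(X, ⊤)))) =
      (Formal.modPow I 1 (Coh.structureModule X)).presheaf.germ W x hxW
      (Scheme.Modules.Hom.app π W (show Γ(Coh.structureModule X, W) from (1 : Γ(X, W)))) := by
    rw [← TopCat.Presheaf.germ_res_apply (Formal.modPow I 1 (Coh.structureModule X)).presheaf
      (homOfLE (le_top : W ≤ ⊤)) x hxW, ← Groth.Agent.Lib.Helper2.ModExact.app_map]
    congr 2
    exact map_one (X.presheaf.map (homOfLE (le_top : W ≤ ⊤)).op).hom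
  rw [h1]
  -- `s • π(1) = π(s) = 0`
  have h2 : s • Scheme.Modules.Hom.app π W (show Γ(Coh.structureModule X, W) from (1 : Γ(X, W))) =
      0 := by
    rw [← Groth.Agent.Lib.Helper2.ModExact.app_smul, ← hs]
    congr 1
    exact mul_one s
  have h3 := congrArg ((Formal.modPow I 1 (Coh.structureModule X)).presheaf.germ W x hxW) h2
  rw [Groth.Agent.Lib.Helper2.QCoh.germ_smul, map_zero] at h3
  have hu : IsUnit (X.presheaf.germ W x hxW s) := (X.toRingedSpace.mem_basicOpen s x hxW).1 hxs
  exact Groth.Agent.Lib.Helper2.QCoh.germ_smul_eq_zero_of_isUnit hu h3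

end Groth.Agent.R2.H34.SteinSupp
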