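import Mathlib
import Groth.Agent.R2.H34SteinFibre
import Groth.Agent.R2.H34SteinLoc
import Groth.Agent.R2.H34SteinSupp

/-!
# helper34: Zariski connectedness at one point, assembled from ST-0 (PROJ:stein)

`ST0` is the shape of helper64's package ST-0 (a proper scheme over a Noetherian ring whose ring of
global functions is local has preconnected `Supp (O_X / I O_X)`).  Given it,
`connectedSpace_fiber_of_isIso_app` shows: `f : X ⟶ Y` proper, `Y` locally Noetherian, `V ∋ y` affine
open with `O_Y(V) ≅ O_X(f⁻¹V)` ⇒ `f.fiber y` is connected (in particular nonempty).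
Uses ST-1 (`H34SteinSupp`), ST-2 (`H34SteinLoc`), ST-3 (`H34SteinFibre`).
-/

set_option autoImplicit false
set_option linter.style.haveILetI false

open CategoryTheory CategoryTheory.Limits AlgebraicGeometry IsLocalRing

universe u

namespace Groth.Agent.R2.H34.SteinAsm

open Groth.Agent.R2.H34.SteinFibre Groth.Agent.R2.H34.SteinSupp

/-- the shape of package ST-0 of PROJ:stein (helper64) -/
def ST0 : Prop :=
  ∀ (A : Type u) [CommRing A] [IsNoetherianRing A] (I : Ideal A) (X : Scheme.{u})
    [X.Over (Spec (CommRingCat.of A))] [IsProper (X ↘ Spec (CommRingCat.of A))]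
    [IsLocalRing Γ(X, ⊤)],
    _root_.IsPreconnected (CohB1.support (Formal.modPow I 1 (Coh.structureModule X)))

/-- A closed map from a nonempty scheme to the spectrum of a local ring hits the closed point. -/
theorem nonempty_closedFibre_of_isClosedMap (A : CommRingCat.{u}) [IsLocalRing A] {Z : Scheme.{u}}
    (g : Z ⟶ Spec A) (hg : IsClosedMap g) [Nonempty Z] :
    (g ⁻¹' {closedPoint A}).Nonempty := by
  have hcl : IsClosed (Set.range g) := hg.isClosed_range
  obtain ⟨z⟩ := ‹Nonempty Z›
  have hmem : closedPoint A ∈ Set.range g :=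
    (specializes_closedPoint (g z)).mem_closed hcl ⟨z, rfl⟩
  obtain ⟨w, hw⟩ := hmem
  exact ⟨w, hw⟩

/-- a scheme with nontrivial ring of global sections is nonempty -/
theorem nonempty_of_nontrivial_Γ (Z : Scheme.{u}) [Nontrivial Γ(Z, ⊤)] : Nonempty Z := by
  by_contra h
  rw [not_nonempty_iff] at h
  exact not_subsingleton Γ(Z, ⊤) inferInstance

variable {X Y : Scheme.{u}}

/-- **Zariski's connectedness theorem at one point**, from ST-0: if `f` is proper, `Y` is locally
Noetherian and `O_Y(V) ≅ O_X(f⁻¹ V)` for one affine open neighbourhood `V` of `y`, then the fibre of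
`f` over `y` is connected (and nonempty). -/
theorem connectedSpace_fiber_of_isIso_app (h0 : ST0.{u}) (f : X ⟶ Y) [IsProper f]
    [IsLocallyNoetherian Y] (y : Y) (V : Y.Opens) (hV : IsAffineOpen V) (hy : y ∈ V)
    (hf : IsIso (f.app V)) : ConnectedSpace (f.fiber y) := by
  rw [connectedSpace_fiber_iff]
  haveI hloc : IsLocalRing Γ(locX f y, ⊤) := isLocalRing_Γ_locX f y V hV hy hf
  haveI : IsProper (locSnd f y) := MorphismProperty.pullback_snd _ _ inferInstance
  refine ⟨?_, ?_⟩
  · haveI : Nonempty (locX f y) := nonempty_of_nontrivial_Γ _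
    exact nonempty_closedFibre_of_isClosedMap (Y.presheaf.stalk y) (locSnd f y)
      (locSnd f y).isClosedMap
  · letI : (locX f y).Over (Spec (CommRingCat.of (Y.presheaf.stalk y))) := ⟨locSnd f y⟩
    haveI : IsProper (locX f y ↘ Spec (CommRingCat.of (Y.presheaf.stalk y))) :=
      (inferInstance : IsProper (locSnd f y))
    have h1 := h0 (Y.presheaf.stalk y) (maximalIdeal (Y.presheaf.stalk y)) (locX f y)
    rw [support_modPow_one_structureModule] at h1
    rw [closedFibre_eq_zeroLocus]
    exact h1

end Groth.Agent.R2.H34.SteinAsm
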