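import Mathlib
import Groth.Agent.R2.H34BirNormal
import Groth.Agent.R2.H34SteinFibre
import Groth.Agent.R2.H40SteinAsm2

/-!
# helper34: connectedness of the special fibre of a flat proper model (for S2209)

* `isSchemeTheoreticallyDominant_specMap`: `Spec K ⟶ Spec R` is scheme-theoretically dominant for an
  injective ring map `R → K`;
* `bijective_toΓ_of_isPullback`: `R` an integrally closed domain with fraction field `K`,
  `p : X ⟶ Spec R` flat with `Γ(X, O_X)` finite over `R` and generic fibre `C` with `Γ(C, O_C) = K`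
  ⇒ `R → Γ(X, O_X)` is bijective (flat base change of the scheme-theoretically dominant
  `Spec K ⟶ Spec R` makes `Γ(X, O_X) → Γ(C, O_C) = K` injective, and a finite `R`-subalgebra of `K`
  is `R`);
* `connectedSpace_closedFibre_of_bijective`: with PROJ:stein's `ST0`, if moreover `R` is Noetherian
  local and `p` proper, the closed fibre `X ×_R Spec κ(R)` is connected.
-/

set_option autoImplicit false
set_option linter.style.haveILetI false

open CategoryTheory CategoryTheory.Limits AlgebraicGeometry IsLocalRing

universe u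

namespace Groth.Agent.R2.H34.ModelConn

open Groth.Agent.R2.H34.SteinAsm Groth.Agent.R2.H34.SteinFibre

/-- `Spec K ⟶ Spec R` is scheme-theoretically dominant when `R → K` is injective. -/
theorem isSchemeTheoreticallyDominant_specMap {R K : CommRingCat.{u}} (φ : R ⟶ K)
    (hφ : Function.Injective φ.hom) : IsSchemeTheoreticallyDominant (Spec.map φ) := by
  rw [isSchemeTheoreticallyDominant_iff, Scheme.ker_of_isAffine]
  have hker : RingHom.ker (Spec.map φ).appTop.hom = ⊥ := by
    rw [RingHom.ker_eq_bot_iff_eq_zero]
    intro x hx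
    have h1 : (Spec.map φ).appTop ≫ (Scheme.ΓSpecIso K).hom = (Scheme.ΓSpecIso R).hom ≫ φ :=
      Scheme.ΓSpecIso_naturality φ
    have h2 : ((Scheme.ΓSpecIso R).hom ≫ φ).hom x = 0 := by
      rw [← h1]
      show (Scheme.ΓSpecIso K).hom.hom ((Spec.map φ).appTop.hom x) = 0
      rw [hx, map_zero]
    have h3 : (Scheme.ΓSpecIso R).hom.hom x = 0 := by
      apply hφ
      rw [map_zero]
      exact h2
    have h4 := (ConcreteCategory.bijective_of_isIso (Scheme.ΓSpecIso R).hom).1
    apply h4
    rw [map_zero]
    exact h3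
  rw [hker]
  exact map_bot (Scheme.IdealSheafData.equivOfIsAffine (X := Spec R)).symm

/-- **Global functions of a flat model.** Let `R` be an integrally closed domain with fraction field
`K`, `p : X ⟶ Spec R` flat with `Γ(X, O_X)` finite over `R`, whose generic fibre `C` has
`Γ(C, O_C) = K`.  Then `R → Γ(X, O_X)` is bijective. -/
theorem bijective_toΓ_of_isPullback (R : Type u) [CommRing R] [IsDomain R] [IsIntegrallyClosed R]
    {X C : Scheme.{u}} (p : X ⟶ Spec (CommRingCat.of R)) [Flat p]
    (f : C ⟶ Spec (CommRingCat.of (FractionRing R))) (g : C ⟶ X)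
    (hsq : IsPullback g f p (Spec.map (CommRingCat.ofHom (algebraMap R (FractionRing R)))))
    (hH0 : IsIso f.appTop) (hfin : p.appTop.hom.Finite) :
    Function.Bijective ((Scheme.ΓSpecIso (CommRingCat.of R)).inv ≫ p.appTop).hom := by
  set j : Spec (CommRingCat.of (FractionRing R)) ⟶ Spec (CommRingCat.of R) :=
    Spec.map (CommRingCat.ofHom (algebraMap R (FractionRing R))) with hj
  haveI : IsSchemeTheoreticallyDominant j :=
    isSchemeTheoreticallyDominant_specMap _ (IsFractionRing.injective R (FractionRing R))
  haveI : QuasiCompact j := inferInstance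
  haveI : IsSchemeTheoreticallyDominant g := IsSchemeTheoreticallyDominant.of_isPullback hsq.flip
  haveI : QuasiCompact g := MorphismProperty.of_isPullback (P := @QuasiCompact) hsq.flip inferInstance
  have hinj : Function.Injective g.appTop.hom := g.app_injective ⊤
  have hfin' : ((Scheme.ΓSpecIso (CommRingCat.of R)).inv ≫ p.appTop).hom.Finite := by
    rw [CommRingCat.hom_comp]
    exact hfin.comp (RingHom.Finite.of_surjective _
      (ConcreteCategory.bijective_of_isIso (Scheme.ΓSpecIso (CommRingCat.of R)).inv).2)
  let ψ : Γ(X, ⊤) ⟶ CommRingCat.of (FractionRing R) :=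
    g.appTop ≫ inv f.appTop ≫ (Scheme.ΓSpecIso (CommRingCat.of (FractionRing R))).hom
  have hψ : Function.Injective ψ.hom := by
    have h1 : Function.Injective (inv f.appTop ≫
        (Scheme.ΓSpecIso (CommRingCat.of (FractionRing R))).hom).hom :=
      (ConcreteCategory.bijective_of_isIso (inv f.appTop ≫
        (Scheme.ΓSpecIso (CommRingCat.of (FractionRing R))).hom)).1
    show Function.Injective (g.appTop ≫ (inv f.appTop ≫
        (Scheme.ΓSpecIso (CommRingCat.of (FractionRing R))).hom)).hom
    rw [CommRingCat.hom_comp]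
    exact h1.comp hinj
  have hcat : ((Scheme.ΓSpecIso (CommRingCat.of R)).inv ≫ p.appTop) ≫ ψ =
      CommRingCat.ofHom (algebraMap R (FractionRing R)) := by
    have h1 : p.appTop ≫ g.appTop = j.appTop ≫ f.appTop := by
      rw [← Scheme.Hom.comp_appTop, ← Scheme.Hom.comp_appTop, hsq.w]
    have h2 : j.appTop ≫ (Scheme.ΓSpecIso (CommRingCat.of (FractionRing R))).hom =
        (Scheme.ΓSpecIso (CommRingCat.of R)).hom ≫
          CommRingCat.ofHom (algebraMap R (FractionRing R)) :=
      Scheme.ΓSpecIso_naturality _
    show ((Scheme.ΓSpecIso (CommRingCat.of R)).inv ≫ p.appTop) ≫ g.appTop ≫ inv f.appTop ≫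
      (Scheme.ΓSpecIso (CommRingCat.of (FractionRing R))).hom = _
    rw [Category.assoc, reassoc_of% h1, IsIso.hom_inv_id_assoc, h2, Iso.inv_hom_id_assoc]
  have hcomp : ψ.hom.comp ((Scheme.ΓSpecIso (CommRingCat.of R)).inv ≫ p.appTop).hom =
      algebraMap R (FractionRing R) := by
    rw [← CommRingCat.hom_comp, hcat]
    rfl
  exact Groth.Agent.R2.H34.BirNormal.bijective_of_finite_of_birational
    ((Scheme.ΓSpecIso (CommRingCat.of R)).inv ≫ p.appTop).hom hfin' ψ.hom hψ hcomp

/-- If `R → Γ(X, O_X)` is bijective, `R` is Noetherian local and `p : X ⟶ Spec R` is proper, the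
closed fibre of `p` is connected. -/
theorem connectedSpace_closedFibre_of_bijective (h0 : ST0.{u}) (R : Type u) [CommRing R]
    [IsNoetherianRing R] [IsLocalRing R] {X : Scheme.{u}} (p : X ⟶ Spec (CommRingCat.of R))
    [IsProper p]
    (hbij : Function.Bijective ((Scheme.ΓSpecIso (CommRingCat.of R)).inv ≫ p.appTop).hom) :
    ConnectedSpace ↥(pullback p (Spec.map (CommRingCat.ofHom (algebraMap R (ResidueField R))))) := by
  haveI : IsLocalRing Γ(X, ⊤) :=
    (RingEquiv.ofBijective _ hbij).isLocalRing
  have h1 := Groth.Agent.R2.H40.SteinAsm2.isConnected_closedFibre_of_isLocalRing h0 R p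
  exact (connectedSpace_closedFibreSch_iff (CommRingCat.of R) p).2 h1

end Groth.Agent.R2.H34.ModelConn
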