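import Mathlib

/-!
# Helpers for Stein factorization statements (helper34)

* `isUnit_or_isNilpotent_of_isIntegral`: in an algebra over a field with only trivial idempotents,
  an integral element is a unit or nilpotent.
* `isLocalRing_of_isIntegral_of_idem_trivial`: a nontrivial integral algebra over a field with only
  trivial idempotents is a local ring.
-/

set_option autoImplicit false
universe u

namespace Groth.Agent.R2.H34.Stein

open Polynomial

/-- In an algebra over a field having only trivial idempotents, every integral element is a unit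
or nilpotent. -/
theorem isUnit_or_isNilpotent_of_isIntegral {K B : Type*} [Field K] [CommRing B] [Algebra K B]
    (hidem : ∀ e : B, IsIdempotentElem e → e = 0 ∨ e = 1) (b : B) (hb : IsIntegral K b) :
    IsUnit b ∨ IsNilpotent b := by
  classical
  set p : K[X] := X * minpoly K b with hp
  have hp0 : p ≠ 0 := mul_ne_zero X_ne_zero (minpoly.ne_zero hb)
  have hpb : aeval b p = 0 := by simp [hp, minpoly.aeval]
  have hroot : p.IsRoot 0 := by simp [hp]
  set m := p.rootMultiplicity 0 with hm
  have hmpos : 0 < m := (rootMultiplicity_pos hp0).2 hroot
  obtain ⟨q, hq, hqdvd⟩ := exists_eq_pow_rootMultiplicity_mul_and_not_dvd p hp0 0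
  rw [C_0, sub_zero, ← hm] at hq
  rw [C_0, sub_zero] at hqdvd
  have hcop : IsCoprime (X ^ m : K[X]) q :=
    IsCoprime.pow_left ((irreducible_X.coprime_iff_not_dvd).2 hqdvd)
  obtain ⟨u, v, huv⟩ := hcop
  have h1 : aeval b u * b ^ m + aeval b v * aeval b q = 1 := by
    have := congrArg (aeval b) huv
    simpa using this
  have h0 : b ^ m * aeval b q = 0 := by
    have := congrArg (aeval b) hq
    rw [hpb] at this
    simpa using this.symm
  set e := aeval b v * aeval b q with he
  have hidem_e : IsIdempotentElem e := by
    show e * e = e
    have h2 : e = 1 - aeval b u * b ^ m := by rw [← h1]; ring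
    calc e * e = e * (1 - aeval b u * b ^ m) := by rw [← h2]
      _ = e - aeval b v * aeval b u * (b ^ m * aeval b q) := by rw [he]; ring
      _ = e := by rw [h0]; ring
  rcases hidem e hidem_e with h | h
  · left
    rw [h, add_zero] at h1
    have : IsUnit (b ^ m) := IsUnit.of_mul_eq_one_right _ h1
    exact (isUnit_pow_iff hmpos.ne').1 this
  · right
    refine ⟨m, ?_⟩
    have hq1 : aeval b q * aeval b v = 1 := by rw [mul_comm]; exact h
    calc b ^ m = b ^ m * (aeval b q * aeval b v) := by rw [hq1, mul_one]
      _ = (b ^ m * aeval b q) * aeval b v := by ring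
      _ = 0 := by rw [h0, zero_mul]

/-- A nontrivial integral algebra over a field having only trivial idempotents is local. -/
theorem isLocalRing_of_isIntegral_of_idem_trivial {K B : Type*} [Field K] [CommRing B] [Algebra K B]
    [Nontrivial B] [Algebra.IsIntegral K B]
    (hidem : ∀ e : B, IsIdempotentElem e → e = 0 ∨ e = 1) : IsLocalRing B := by
  refine IsLocalRing.of_isUnit_or_isUnit_one_sub_self fun b => ?_
  rcases isUnit_or_isNilpotent_of_isIntegral hidem b (Algebra.IsIntegral.isIntegral (R := K) b) with h | h
  · exact Or.inl h
  · exact Or.inr h.isUnit_one_sub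

end Groth.Agent.R2.H34.Stein
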