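import Mathlib
import Groth.Agent.R2.H34Stein
import Groth.Agent.Lib.Helper14Idem

/-!
# Algebra behind "geometrically connected iff global sections local with purely inseparable
residue field" (helper34)

For an integral algebra `R` over a field `k`:
* `TrivIdem A`: `A` is nontrivial and has only the trivial idempotents.
* `forward`: if `K ⊗[k] R` has only trivial idempotents for all field extensions `K/k`, then `R` is
  local of dimension zero and every element has a `q^n`-th power which is a scalar up to a nilpotent.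
* `backward`: the converse.
-/

set_option autoImplicit false
set_option linter.style.haveILetI false
universe u

namespace Groth.Agent.R2.H34.GeomConnAlg

open TensorProduct

/-- `A` is nontrivial and its only idempotents are `0` and `1`. -/
def TrivIdem (A : Type*) [CommRing A] : Prop :=
  Nontrivial A ∧ ∀ e : A, IsIdempotentElem e → e = 0 ∨ e = 1

theorem TrivIdem.of_ringEquiv {A B : Type*} [CommRing A] [CommRing B] (e : A ≃+* B)
    (h : TrivIdem A) : TrivIdem B := by
  obtain ⟨h1, h2⟩ := h
  haveI := h1
  refine ⟨e.symm.surjective.nontrivial, fun b hb => ?_⟩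
  have hb' : IsIdempotentElem (e.symm b) := by
    show e.symm b * e.symm b = e.symm b
    rw [← map_mul, hb.eq]
  rcases h2 _ hb' with h | h
  · left
    simpa using congrArg e h
  · right
    simpa using congrArg e h

variable {k : Type u} [Field k] {R : Type u} [CommRing R] [Algebra k R]

section backward

variable (K : Type u) [Field K] [Algebra k K]

/-- the predicate used in the induction: some `q^n`-th power is a scalar up to a nilpotent -/
private def P (q : ℕ) (x : K ⊗[k] R) : Prop :=
  ∃ (n : ℕ) (μ : K), IsNilpotent (x ^ (q ^ n) - algebraMap K (K ⊗[k] R) μ)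

theorem backward [Nontrivial R]
    (hpi : ∀ a : R, ∃ (n : ℕ) (c : k), IsNilpotent (a ^ (ringExpChar k ^ n) - algebraMap k R c)) :
    TrivIdem (K ⊗[k] R) := by
  classical
  set q := ringExpChar k with hq
  haveI : ExpChar k q := ringExpChar.expChar k
  have hinjR : Function.Injective (algebraMap k R) := (algebraMap k R).injective
  have hinjK : Function.Injective (algebraMap K (K ⊗[k] R)) :=
    Algebra.TensorProduct.includeLeft_injective (S := k) hinjR
  haveI : Nontrivial (K ⊗[k] R) := hinjK.nontrivial
  have hinjk : Function.Injective (algebraMap k (K ⊗[k] R)) := (algebraMap k (K ⊗[k] R)).injective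
  haveI : ExpChar (K ⊗[k] R) q := expChar_of_injective_algebraMap hinjk q
  refine ⟨inferInstance, ?_⟩
  -- raising the level
  have hstep : ∀ (x : K ⊗[k] R) (n : ℕ) (μ : K),
      IsNilpotent (x ^ (q ^ n) - algebraMap K (K ⊗[k] R) μ) →
      IsNilpotent (x ^ (q ^ (n + 1)) - algebraMap K (K ⊗[k] R) (μ ^ q)) := by
    intro x n μ h
    have : x ^ (q ^ (n + 1)) - algebraMap K (K ⊗[k] R) (μ ^ q) =
        (x ^ (q ^ n) - algebraMap K (K ⊗[k] R) μ) ^ q := by
      rw [sub_pow_expChar, pow_succ, pow_mul, map_pow]
    rw [this]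
    exact h.pow_of_pos (expChar_pos k q).ne'
  have hraise : ∀ (x : K ⊗[k] R) (n m : ℕ), n ≤ m →
      (∃ μ : K, IsNilpotent (x ^ (q ^ n) - algebraMap K (K ⊗[k] R) μ)) →
      (∃ μ : K, IsNilpotent (x ^ (q ^ m) - algebraMap K (K ⊗[k] R) μ)) := by
    intro x n m hnm
    induction m, hnm using Nat.le_induction with
    | base => exact id
    | succ m _ ih =>
      intro h
      obtain ⟨μ, hμ⟩ := ih h
      exact ⟨μ ^ q, hstep x m μ hμ⟩
  -- every element satisfies `P`
  have hP : ∀ x : K ⊗[k] R, ∃ (n : ℕ) (μ : K),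
      IsNilpotent (x ^ (q ^ n) - algebraMap K (K ⊗[k] R) μ) := by
    intro x
    induction x using TensorProduct.induction_on with
    | zero => exact ⟨0, 0, by simp⟩
    | tmul l r =>
      obtain ⟨n, c, hc⟩ := hpi r
      refine ⟨n, l ^ (q ^ n) * algebraMap k K c, ?_⟩
      have h1 : (l ⊗ₜ[k] r) ^ (q ^ n) - algebraMap K (K ⊗[k] R) (l ^ (q ^ n) * algebraMap k K c) =
          (l ^ (q ^ n)) ⊗ₜ[k] (r ^ (q ^ n) - algebraMap k R c) := by
        rw [Algebra.TensorProduct.tmul_pow, Algebra.TensorProduct.algebraMap_apply,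
          tmul_sub]
        congr 1
        rw [Algebra.algebraMap_eq_smul_one c, Algebra.algebraMap_eq_smul_one c, mul_smul_comm,
          mul_one]
        show (c • l ^ q ^ n) ⊗ₜ[k] (1 : R) = _
        rw [smul_tmul]
      rw [h1]
      obtain ⟨m, hm⟩ := hc
      exact ⟨m, by rw [Algebra.TensorProduct.tmul_pow, hm, tmul_zero]⟩
    | add x y hx hy =>
      obtain ⟨n₁, hx'⟩ := hx
      obtain ⟨n₂, hy'⟩ := hy
      obtain ⟨μ₁, h₁⟩ := hraise x n₁ (max n₁ n₂) (le_max_left _ _) hx'
      obtain ⟨μ₂, h₂⟩ := hraise y n₂ (max n₁ n₂) (le_max_right _ _) hy'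
      refine ⟨max n₁ n₂, μ₁ + μ₂, ?_⟩
      have : (x + y) ^ (q ^ max n₁ n₂) - algebraMap K (K ⊗[k] R) (μ₁ + μ₂) =
          (x ^ (q ^ max n₁ n₂) - algebraMap K (K ⊗[k] R) μ₁) +
            (y ^ (q ^ max n₁ n₂) - algebraMap K (K ⊗[k] R) μ₂) := by
        rw [add_pow_expChar_pow, map_add]; ring
      rw [this]
      exact (Commute.all _ _).isNilpotent_add h₁ h₂
  intro e he
  obtain ⟨n, μ, hμ⟩ := hP e
  have hen : e ^ (q ^ n) = e := he.pow_eq (pow_ne_zero n (expChar_pos k q).ne')
  rw [hen] at hμ
  -- `μ` is idempotent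
  have hμ2 : IsNilpotent (algebraMap K (K ⊗[k] R) (μ * μ - μ)) := by
    have hmem : e - algebraMap K (K ⊗[k] R) μ ∈ nilradical (K ⊗[k] R) := hμ
    have h2 : algebraMap K (K ⊗[k] R) (μ * μ - μ) =
        (e - algebraMap K (K ⊗[k] R) μ) *
          (e - algebraMap K (K ⊗[k] R) μ - (2 * e - 1)) := by
      have hee : e * e = e := he
      rw [map_sub, map_mul]
      linear_combination hee
    rw [h2]
    exact (nilradical (K ⊗[k] R)).mul_mem_right _ hmem
  have hμ3 : μ * μ - μ = 0 := by
    obtain ⟨m, hm⟩ := hμ2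
    rw [← map_pow] at hm
    have := hinjK (hm.trans (map_zero _).symm)
    exact pow_eq_zero_iff (M₀ := K) (n := m) (by
      rintro rfl
      simp at this) |>.1 this
  have hμ4 : μ = 0 ∨ μ = 1 := by
    have : μ * (μ - 1) = 0 := by rw [mul_sub, mul_one]; exact hμ3
    rcases mul_eq_zero.1 this with h | h
    · exact Or.inl h
    · exact Or.inr (sub_eq_zero.1 h)
  rcases hμ4 with rfl | rfl
  · left
    exact Groth.Agent.Lib.Helper14Idem.eq_of_isNilpotent_sub he IsIdempotentElem.zero
      (by rwa [map_zero] at hμ)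
  · right
    exact Groth.Agent.Lib.Helper14Idem.eq_of_isNilpotent_sub he IsIdempotentElem.one
      (by rwa [map_one] at hμ)

end backward

section forward

open Groth.Agent.R2.H34.Stein

theorem forward [Algebra.IsIntegral k R]
    (H : ∀ (K : Type u) [Field K] [Algebra k K], TrivIdem (K ⊗[k] R)) :
    IsLocalRing R ∧ ringKrullDim R = 0 ∧
      ∀ a : R, ∃ (n : ℕ) (c : k), IsNilpotent (a ^ (ringExpChar k ^ n) - algebraMap k R c) := by
  classical
  -- `R` itself
  have hR : TrivIdem R := (H k).of_ringEquiv (Algebra.TensorProduct.lid k R).toRingEquiv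
  obtain ⟨hnt, hid⟩ := hR
  haveI := hnt
  haveI hloc : IsLocalRing R := isLocalRing_of_isIntegral_of_idem_trivial (K := k) hid
  have hun : ∀ x : R, IsNilpotent x ↔ ¬ IsUnit x := by
    intro x
    constructor
    · intro hx hu
      obtain ⟨n, hn⟩ := hx
      have : IsUnit (x ^ n) := hu.pow n
      rw [hn] at this
      exact not_isUnit_zero this
    · intro hx
      rcases isUnit_or_isNilpotent_of_isIntegral hid x
        (Algebra.IsIntegral.isIntegral (R := k) x) with h | h
      · exact absurd h hx
      · exact h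
  have hdim0 : Ring.KrullDimLE 0 R :=
    (((Ring.krullDimLE_zero_and_isLocalRing_tfae R).out 2 0 rfl rfl).1 hun).1
  refine ⟨hloc, (ringKrullDimZero_iff_ringKrullDim_eq_zero).1 hdim0, ?_⟩
  -- the residue field is purely inseparable over `k`
  haveI hpi : IsPurelyInseparable k (IsLocalRing.ResidueField R) := by
    haveI : Nonempty (IsLocalRing.ResidueField R →+* AlgebraicClosure (IsLocalRing.ResidueField R)) :=
      ⟨algebraMap _ _⟩
    refine IsPurelyInseparable.of_injective_comp_algebraMap k (IsLocalRing.ResidueField R)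
      (AlgebraicClosure (IsLocalRing.ResidueField R)) ?_
    intro f₁ f₂ hf
    dsimp only at hf
    letI : Algebra k (AlgebraicClosure (IsLocalRing.ResidueField R)) :=
      (f₁.comp (algebraMap k (IsLocalRing.ResidueField R))).toAlgebra
    obtain ⟨hntL, hidL⟩ := H (AlgebraicClosure (IsLocalRing.ResidueField R))
    haveI := hntL
    haveI : IsLocalRing (AlgebraicClosure (IsLocalRing.ResidueField R) ⊗[k] R) :=
      isLocalRing_of_isIntegral_of_idem_trivial
        (K := AlgebraicClosure (IsLocalRing.ResidueField R)) hidL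
    let g₁ : R →ₐ[k] AlgebraicClosure (IsLocalRing.ResidueField R) :=
      { toRingHom := f₁.comp (IsLocalRing.residue R)
        commutes' := fun c => by
          show f₁ (IsLocalRing.residue R (algebraMap k R c)) = f₁ (algebraMap k _ c)
          rfl }
    let g₂ : R →ₐ[k] AlgebraicClosure (IsLocalRing.ResidueField R) :=
      { toRingHom := f₂.comp (IsLocalRing.residue R)
        commutes' := fun c => by
          show f₂ (IsLocalRing.residue R (algebraMap k R c)) = f₁ (algebraMap k _ c)
          have := congrArg (fun t => t c) hf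
          exact this.symm }
    let φ₁ := Algebra.TensorProduct.lift
      (Algebra.ofId (AlgebraicClosure (IsLocalRing.ResidueField R))
        (AlgebraicClosure (IsLocalRing.ResidueField R))) g₁ (fun _ _ => Commute.all _ _)
    let φ₂ := Algebra.TensorProduct.lift
      (Algebra.ofId (AlgebraicClosure (IsLocalRing.ResidueField R))
        (AlgebraicClosure (IsLocalRing.ResidueField R))) g₂ (fun _ _ => Commute.all _ _)
    have hsurj₁ : Function.Surjective φ₁ := fun l => ⟨algebraMap _ _ l, φ₁.commutes l⟩
    have hsurj₂ : Function.Surjective φ₂ := fun l => ⟨algebraMap _ _ l, φ₂.commutes l⟩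
    have hker : RingHom.ker φ₁.toRingHom = RingHom.ker φ₂.toRingHom := by
      have m₁ := RingHom.ker_isMaximal_of_surjective φ₁.toRingHom hsurj₁
      have m₂ := RingHom.ker_isMaximal_of_surjective φ₂.toRingHom hsurj₂
      rw [IsLocalRing.eq_maximalIdeal m₁, IsLocalRing.eq_maximalIdeal m₂]
    have hφ : ∀ t, φ₁ t = φ₂ t := by
      intro t
      have hmem : t - algebraMap _ _ (φ₁ t) ∈ RingHom.ker φ₁.toRingHom := by
        rw [RingHom.mem_ker]
        show φ₁ (t - algebraMap _ _ (φ₁ t)) = 0
        rw [map_sub, φ₁.commutes]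
        exact sub_self _
      rw [hker, RingHom.mem_ker] at hmem
      have hmem' : φ₂ (t - algebraMap _ _ (φ₁ t)) = 0 := hmem
      rw [map_sub, φ₂.commutes, sub_eq_zero] at hmem'
      exact hmem'.symm
    ext x
    obtain ⟨r, rfl⟩ := IsLocalRing.residue_surjective x
    have := hφ (1 ⊗ₜ[k] r)
    simpa [φ₁, φ₂, g₁, g₂] using this
  intro a
  haveI : ExpChar k (ringExpChar k) := ringExpChar.expChar k
  obtain ⟨n, c, hc⟩ := IsPurelyInseparable.pow_mem k (ringExpChar k) (IsLocalRing.residue R a)
  refine ⟨n, c, (hun _).2 ?_⟩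
  change _ ∈ nonunits R
  rw [← IsLocalRing.mem_maximalIdeal, ← IsLocalRing.residue_eq_zero_iff, map_sub, map_pow, ← hc,
    sub_eq_zero]
  rfl

end forward

end Groth.Agent.R2.H34.GeomConnAlg
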