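import Mathlib
import Groth.Agent.R2.H34GeomConnAlg

/-!
# Connectedness of a scheme and idempotents of its ring of global sections (helper34)

* `isClopen_basicOpen_of_isIdempotentElem`: the basic open of an idempotent global section is clopen.
* `exists_idempotent_of_isClopen`: every clopen subset is the basic open of an idempotent.
* `connectedSpace_iff_trivIdem`: a scheme is connected iff its ring of global sections is nontrivial
  with only trivial idempotents.
-/

set_option autoImplicit false
set_option linter.style.haveILetI false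
universe u

open CategoryTheory AlgebraicGeometry TopologicalSpace Opposite

namespace Groth.Agent.R2.H34.ConnIdem

open Groth.Agent.R2.H34.GeomConnAlg

variable (Y : Scheme.{u})

/-- complement of the basic open of an idempotent -/
theorem basicOpen_compl_of_isIdempotentElem {e : Γ(Y, ⊤)} (he : IsIdempotentElem e) :
    ((Y.basicOpen e : Y.Opens) : Set Y)ᶜ = (Y.basicOpen (1 - e) : Y.Opens) := by
  have hinf : Y.basicOpen e ⊓ Y.basicOpen (1 - e) = ⊥ := by
    rw [← Scheme.basicOpen_mul, mul_sub, mul_one, he.eq, sub_self, Scheme.basicOpen_zero]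
  ext x
  simp only [Set.mem_compl_iff, SetLike.mem_coe]
  constructor
  · intro hx
    rw [Scheme.mem_basicOpen_top] at hx ⊢
    have h1 : Y.presheaf.germ ⊤ x trivial e + Y.presheaf.germ ⊤ x trivial (1 - e) = 1 := by
      rw [← map_add, add_sub_cancel, map_one]
    rcases IsLocalRing.isUnit_or_isUnit_of_add_one h1 with h | h
    · exact absurd h hx
    · exact h
  · intro hx hx'
    have : x ∈ Y.basicOpen e ⊓ Y.basicOpen (1 - e) := ⟨hx', hx⟩
    rw [hinf] at this
    exact this

theorem isClopen_basicOpen_of_isIdempotentElem {e : Γ(Y, ⊤)} (he : IsIdempotentElem e) :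
    IsClopen ((Y.basicOpen e : Y.Opens) : Set Y) := by
  refine ⟨?_, (Y.basicOpen e).2⟩
  rw [← isOpen_compl_iff, basicOpen_compl_of_isIdempotentElem Y he]
  exact (Y.basicOpen (1 - e)).2

/-- the family of two opens indexed by `Bool` -/
private def fam (U V : Y.Opens) : Bool → Y.Opens := fun b => bif b then U else V

theorem exists_idempotent_of_isClopen (U : Y.Opens) (hU : IsClosed (U : Set Y)) :
    ∃ e : Γ(Y, ⊤), IsIdempotentElem e ∧ Y.basicOpen e = U := by
  classical
  let V : Y.Opens := ⟨(U : Set Y)ᶜ, hU.isOpen_compl⟩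
  have hUV : U ⊓ V = ⊥ := by
    ext x
    simp [V]
  have hVU : V ⊓ U = ⊥ := by rw [inf_comm]; exact hUV
  let sf : ∀ b : Bool, Γ(Y, fam Y U V b) := fun b =>
    match b with
    | true => (1 : Γ(Y, U))
    | false => (0 : Γ(Y, V))
  have hcompat : TopCat.Presheaf.IsCompatible Y.presheaf (fam Y U V) sf := by
    intro i j
    rcases i with _ | _ <;> rcases j with _ | _
    · rfl
    · haveI : Subsingleton Γ(Y, fam Y U V false ⊓ fam Y U V true) := by
        show Subsingleton Γ(Y, V ⊓ U)
        rw [hVU]; infer_instance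
      exact Subsingleton.elim _ _
    · haveI : Subsingleton Γ(Y, fam Y U V true ⊓ fam Y U V false) := by
        show Subsingleton Γ(Y, U ⊓ V)
        rw [hUV]; infer_instance
      exact Subsingleton.elim _ _
    · rfl
  have hcover : (⊤ : Y.Opens) ≤ iSup (fam Y U V) := by
    intro x _
    rw [Opens.mem_iSup]
    by_cases hx : x ∈ U
    · exact ⟨true, hx⟩
    · exact ⟨false, hx⟩
  have hle : ∀ b, fam Y U V b ≤ (⊤ : Y.Opens) := fun b => le_top
  have hleU : U ≤ (⊤ : Y.Opens) := le_top
  have hleV : V ≤ (⊤ : Y.Opens) := le_top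
  have hglue : ∃ e : Γ(Y, ⊤), Y.presheaf.map (homOfLE hleU).op e = (1 : Γ(Y, U)) ∧
      Y.presheaf.map (homOfLE hleV).op e = (0 : Γ(Y, V)) := by
    obtain ⟨e, he, -⟩ := Y.sheaf.existsUnique_gluing' (fam Y U V) ⊤ (fun b => homOfLE (hle b))
      hcover sf hcompat
    exact ⟨e, he true, he false⟩
  obtain ⟨e, heU, heV⟩ := hglue
  have hcover₂ : (⊤ : Y.Opens) ≤ U ⊔ V := by
    intro x _
    by_cases hx : x ∈ U
    · exact Or.inl hx
    · exact Or.inr hx
  refine ⟨e, ?_, ?_⟩
  · -- idempotent
    refine Y.sheaf.eq_of_locally_eq₂ (homOfLE hleU) (homOfLE hleV) hcover₂ _ _ ?_ ?_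
    · show Y.presheaf.map (homOfLE hleU).op (e * e) = Y.presheaf.map (homOfLE hleU).op e
      rw [map_mul, heU, mul_one]
    · show Y.presheaf.map (homOfLE hleV).op (e * e) = Y.presheaf.map (homOfLE hleV).op e
      rw [map_mul, heV, mul_zero]
  · -- basic open
    ext x
    simp only [SetLike.mem_coe]
    rw [Y.mem_basicOpen_top e x]
    constructor
    · intro hx
      by_contra hxU
      have hxV : x ∈ V := hxU
      have : Y.presheaf.germ ⊤ x trivial e = Y.presheaf.germ V x hxV
          (Y.presheaf.map (homOfLE hleV).op e) :=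
        (TopCat.Presheaf.germ_res_apply Y.presheaf (homOfLE hleV) x hxV e).symm
      rw [this, heV, map_zero] at hx
      exact not_isUnit_zero hx
    · intro hxU
      have : Y.presheaf.germ ⊤ x trivial e = Y.presheaf.germ U x hxU
          (Y.presheaf.map (homOfLE hleU).op e) :=
        (TopCat.Presheaf.germ_res_apply Y.presheaf (homOfLE hleU) x hxU e).symm
      rw [this, heU, map_one]
      exact isUnit_one

theorem connectedSpace_iff_trivIdem : ConnectedSpace Y ↔ TrivIdem Γ(Y, ⊤) := by
  constructor
  · intro hc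
    haveI : Nonempty (⊤ : Y.Opens) := ⟨⟨Classical.arbitrary Y, trivial⟩⟩
    refine ⟨inferInstance, fun e he => ?_⟩
    rcases isClopen_iff.1 (isClopen_basicOpen_of_isIdempotentElem Y he) with h | h
    · left
      -- `1 - e` is a unit
      have hcompl := basicOpen_compl_of_isIdempotentElem Y he
      rw [h, Set.compl_empty] at hcompl
      have hu : IsUnit (1 - e) := by
        refine RingedSpace.isUnit_of_isUnit_germ Y.toRingedSpace ⊤ (1 - e) (fun x hx => ?_)
        have hx' : x ∈ (Y.basicOpen (1 - e) : Set Y) := by rw [← hcompl]; trivial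
        exact (Y.mem_basicOpen_top (1 - e) x).1 hx'
      have h1 : (1 - e) * (1 - e) = 1 - e := he.one_sub.eq
      have h2 : 1 - e = 1 := by
        obtain ⟨u, hu⟩ := hu
        have := congrArg (fun t => (↑u⁻¹ : Γ(Y, ⊤)) * t) h1
        simp only [← hu, ← mul_assoc, Units.inv_mul, one_mul] at this
        rw [← hu]; exact this
      exact (sub_eq_self.1 h2)
    · right
      have hu : IsUnit e := by
        refine RingedSpace.isUnit_of_isUnit_germ Y.toRingedSpace ⊤ e (fun x hx => ?_)
        have hx' : x ∈ (Y.basicOpen e : Set Y) := by rw [h]; trivial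
        exact (Y.mem_basicOpen_top e x).1 hx'
      obtain ⟨u, hu⟩ := hu
      have := congrArg (fun t => (↑u⁻¹ : Γ(Y, ⊤)) * t) he.eq
      simp only [← hu, ← mul_assoc, Units.inv_mul, one_mul] at this
      rw [← hu]; exact this
  · rintro ⟨hnt, hid⟩
    haveI : Nonempty Y := by
      by_contra hne
      rw [not_nonempty_iff] at hne
      haveI : Subsingleton Γ(Y, ⊤) := inferInstance
      exact not_subsingleton Γ(Y, ⊤) inferInstance
    rw [connectedSpace_iff_clopen]
    refine ⟨inferInstance, fun s hs => ?_⟩
    obtain ⟨e, he, hes⟩ := exists_idempotent_of_isClopen Y ⟨s, hs.2⟩ hs.1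
    rcases hid e he with rfl | rfl
    · left
      rw [Scheme.basicOpen_zero] at hes
      have := congrArg (fun W : Y.Opens => (W : Set Y)) hes
      simpa using this.symm
    · right
      rw [Scheme.basicOpen_one] at hes
      have := congrArg (fun W : Y.Opens => (W : Set Y)) hes
      simpa using this.symm

end Groth.Agent.R2.H34.ConnIdem
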