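import Mathlib
import Groth.Agent.R2.H34ConnIdem

/-!
# Global sections of the base change of a qcqs scheme over a field (helper34)

* `nonempty_ringEquiv_tensor`: for `f : X ⟶ Spec k` quasi-compact and quasi-separated and a field
  extension `K/k`, `Γ(X_K, ⊤) ≃+* K ⊗[k] Γ(X, ⊤)`.
-/

set_option autoImplicit false
set_option linter.style.haveILetI false
universe u

open CategoryTheory CategoryTheory.Limits AlgebraicGeometry TensorProduct

namespace Groth.Agent.R2.H34.GeomConnBC

variable (k : Type u) [Field k] {X : Scheme.{u}} (f : X ⟶ Spec (CommRingCat.of k))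

/-- the structure map on global sections -/
noncomputable def alpha : CommRingCat.of k ⟶ Γ(X, ⊤) :=
  (Scheme.ΓSpecIso (CommRingCat.of k)).inv ≫ f.appTop

/-- the `k`-algebra structure on global sections -/
noncomputable abbrev algebraΓ : Algebra k Γ(X, ⊤) := (alpha k f).hom.toAlgebra

theorem appLE_top_top {X Y : Scheme.{u}} (g : X ⟶ Y) (h : (⊤ : X.Opens) ≤ g ⁻¹ᵁ ⊤) :
    g.appLE ⊤ ⊤ h = g.appTop := by
  have : g.appLE ⊤ (g ⁻¹ᵁ ⊤) le_rfl = g.app ⊤ := g.appLE_eq_app
  exact this

theorem nonempty_ringEquiv_tensor [QuasiCompact f] [QuasiSeparated f]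
    (K : Type u) [Field K] [Algebra k K] :
    letI := algebraΓ k f
    Nonempty (Γ(pullback f (Spec.map (CommRingCat.ofHom (algebraMap k K))), ⊤) ≃+*
      K ⊗[k] Γ(X, ⊤)) := by
  letI := algebraΓ k f
  set φ : CommRingCat.of k ⟶ CommRingCat.of K := CommRingCat.ofHom (algebraMap k K) with hφ
  haveI : Flat (Spec.map φ) := by
    rw [Flat.SpecMap_iff]
    exact RingHom.flat_algebraMap_iff.2 inferInstance
  haveI : CompactSpace X := (quasiCompact_iff_compactSpace f).mp inferInstance
  haveI : QuasiSeparatedSpace X := (quasiSeparated_iff_quasiSeparatedSpace f).mp inferInstance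
  have H : IsPullback (pullback.fst f (Spec.map φ)) (pullback.snd f (Spec.map φ)) f (Spec.map φ) :=
    IsPullback.of_hasPullback _ _
  have hUST : (⊤ : (Spec (CommRingCat.of K)).Opens) ≤ (Spec.map φ) ⁻¹ᵁ ⊤ := le_top
  have hUSX : (⊤ : X.Opens) ≤ f ⁻¹ᵁ ⊤ := le_top
  have hUY : (⊤ : (pullback f (Spec.map φ)).Opens) =
      (pullback.fst f (Spec.map φ)) ⁻¹ᵁ ⊤ ⊓ (pullback.snd f (Spec.map φ)) ⁻¹ᵁ ⊤ := by simp
  haveI hiso : IsIso (pushoutSection H hUST hUSX hUY) :=
    isIso_pushoutSection_of_isQuasiSeparated_of_flat_right H hUST hUSX hUY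
      (isAffineOpen_top _) (isAffineOpen_top _) isCompact_univ
      (isQuasiSeparated_univ_iff.mpr inferInstance)
  have hpo := (isIso_pushoutSection_iff H hUST hUSX hUY).mp hiso
  -- rewrite the four maps
  have hpo' : IsPushout (alpha k f) φ ((pullback.fst f (Spec.map φ)).appTop)
      ((Scheme.ΓSpecIso (CommRingCat.of K)).inv ≫ (pullback.snd f (Spec.map φ)).appTop) := by
    refine hpo.of_iso (Scheme.ΓSpecIso (CommRingCat.of k)) (Iso.refl _)
      (Scheme.ΓSpecIso (CommRingCat.of K)) (Iso.refl _) ?_ ?_ ?_ ?_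
    · rw [appLE_top_top]; simp [alpha]
    · rw [appLE_top_top]; exact Scheme.ΓSpecIso_naturality φ
    · rw [appLE_top_top]; simp
    · rw [appLE_top_top]; simp
  have hten := CommRingCat.isPushout_tensorProduct k Γ(X, ⊤) K
  have hα : CommRingCat.ofHom (algebraMap k Γ(X, ⊤)) = alpha k f := rfl
  rw [hα] at hten
  let e₁ := (hten.isoIsPushout _ _ hpo').commRingCatIsoToRingEquiv
  exact ⟨e₁.symm.trans (Algebra.TensorProduct.comm k Γ(X, ⊤) K).toRingEquiv⟩

end Groth.Agent.R2.H34.GeomConnBC
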