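import Mathlib
import Groth.Agent.S7856
import Groth.Agent.Lib.Helper6SmGeom
import Groth.Agent.R2.H34ModelConn

/-!
# helper34: `H^0(X, O_X) = k` for geometrically connected and reduced proper integral `k`-schemes,
and geometric connectedness of flat proper models (for S18427)

* `surjective_algebraMap_of_isReduced_tensor`: a `k`-domain whose elements are purely inseparable
  over `k` and which stays reduced over an algebraic closure is `k`;
* `isIso_appTop_of_geomConnected_of_geomReduced`: `f : X ⟶ Spec k` proper, `X` integral,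
  `f` geometrically connected and geometrically reduced ⇒ `IsIso f.appTop` (uses prior `S7856`);
* `geometricallyReduced_of_smooth` (copy of `Lib/Helper3Isog`, to avoid its import closure);
* `geometricallyConnected_of_model`: `R` a Noetherian integrally closed domain, `p : X ⟶ Spec R` flat
  and proper with `Γ(X, O_X)` finite over `R` (automatic; kept as a hypothesis to keep this file
  independent of `S0002`) whose generic fibre has `H^0 = Frac R` ⇒ `p` is geometrically connected
  (given PROJ:stein's `ST0`).
-/

set_option autoImplicit false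
set_option linter.style.haveILetI false

open CategoryTheory CategoryTheory.Limits AlgebraicGeometry TensorProduct

universe u

namespace Groth.Agent.R2.H34.GeomConnH0

/-- **algebra core**: a `k`-algebra `L` (a domain) all of whose elements are purely inseparable over `k`
and which stays reduced over an algebraic closure is `k` itself. -/
theorem surjective_algebraMap_of_isReduced_tensor (k L : Type u) [Field k] [CommRing L] [IsDomain L]
    [Algebra k L] (hred : IsReduced (AlgebraicClosure k ⊗[k] L))
    (hpi : ∀ a : L, ∃ (n : ℕ) (c : k), a ^ (ringExpChar k ^ n) = algebraMap k L c) :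
    Function.Surjective (algebraMap k L) := by
  intro a
  obtain ⟨n, c, hc⟩ := hpi a
  set q := ringExpChar k with hq
  haveI : ExpChar k q := ringExpChar.expChar k
  have hqpos : 0 < q ^ n := pow_pos (expChar_pos k q) n
  obtain ⟨b, hb⟩ := IsAlgClosed.exists_pow_nat_eq (algebraMap k (AlgebraicClosure k) c) hqpos
  have hinjk : Function.Injective (algebraMap k (AlgebraicClosure k ⊗[k] L)) := by
    haveI : Nontrivial (AlgebraicClosure k ⊗[k] L) := by
      have h1 : Function.Injective
          (Algebra.TensorProduct.includeRight : L →ₐ[k] AlgebraicClosure k ⊗[k] L) :=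
        Algebra.TensorProduct.includeRight_injective
          (FaithfulSMul.algebraMap_injective k (AlgebraicClosure k))
      exact h1.nontrivial
    exact (algebraMap k (AlgebraicClosure k ⊗[k] L)).injective
  haveI : ExpChar (AlgebraicClosure k ⊗[k] L) q := expChar_of_injective_algebraMap hinjk q
  -- the element `1 ⊗ a - b ⊗ 1` is nilpotent
  have ht : ((1 : AlgebraicClosure k) ⊗ₜ[k] a - b ⊗ₜ[k] (1 : L)) ^ (q ^ n) = 0 := by
    rw [sub_pow_expChar_pow, Algebra.TensorProduct.tmul_pow, Algebra.TensorProduct.tmul_pow,
      one_pow, one_pow, hc, hb, sub_eq_zero]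
    rw [Algebra.algebraMap_eq_smul_one, Algebra.algebraMap_eq_smul_one, TensorProduct.smul_tmul]
  have ht0 : (1 : AlgebraicClosure k) ⊗ₜ[k] a - b ⊗ₜ[k] (1 : L) = 0 :=
    IsNilpotent.eq_zero ⟨_, ht⟩
  have heq : (1 : AlgebraicClosure k) ⊗ₜ[k] a = b ⊗ₜ[k] (1 : L) := sub_eq_zero.1 ht0
  -- hence `a` is a scalar
  by_contra hnot
  have hnotmem : a ∉ (⊥ : Subalgebra k L).toSubmodule := by
    intro hmem
    exact hnot (Algebra.mem_bot.1 hmem)
  obtain ⟨φ, hφa, hφ⟩ := Submodule.exists_dual_map_eq_bot_of_notMem hnotmem inferInstance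
  have hφ1 : φ 1 = 0 := by
    have h1 : φ 1 ∈ Submodule.map φ (⊥ : Subalgebra k L).toSubmodule :=
      Submodule.mem_map_of_mem (Subalgebra.one_mem _)
    rw [hφ] at h1
    exact (Submodule.mem_bot k).1 h1
  have h2 := congrArg (fun z => TensorProduct.rid k (AlgebraicClosure k) (LinearMap.lTensor _ φ z)) heq
  simp only [LinearMap.lTensor_tmul, hφ1, TensorProduct.rid_tmul, zero_smul] at h2
  have h3 : algebraMap k (AlgebraicClosure k) (φ a) = 0 := by
    rw [Algebra.algebraMap_eq_smul_one]; exact h2
  exact hφa ((map_eq_zero_iff _ (FaithfulSMul.algebraMap_injective k (AlgebraicClosure k))).1 h3)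

open Groth.Agent.R2.H34.GeomConnBC in
/-- **`H^0(X, O_X) = k`** for an integral proper `k`-scheme which is geometrically connected and
geometrically reduced. -/
theorem isIso_appTop_of_geomConnected_of_geomReduced (k : Type u) [Field k] {X : Scheme.{u}}
    (f : X ⟶ Spec (CommRingCat.of k)) [IsProper f] [IsIntegral X] [GeometricallyConnected f]
    [GeometricallyReduced f] : IsIso f.appTop := by
  letI := algebraΓ k f
  haveI : IsDomain Γ(X, ⊤) := inferInstance
  obtain ⟨-, -, hpi⟩ := (Groth.Agent.S7856.result k f).1 inferInstance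
  have hpi' : ∀ a : Γ(X, ⊤), ∃ (n : ℕ) (c : k),
      a ^ (ringExpChar k ^ n) = algebraMap k Γ(X, ⊤) c := by
    intro a
    obtain ⟨n, c, h⟩ := hpi a
    exact ⟨n, c, sub_eq_zero.1 h.eq_zero⟩
  have hred : IsReduced (AlgebraicClosure k ⊗[k] Γ(X, ⊤)) := by
    obtain ⟨e⟩ := nonempty_ringEquiv_tensor k f (AlgebraicClosure k)
    haveI : IsReduced (pullback f (Spec.map (CommRingCat.ofHom
        (algebraMap k (AlgebraicClosure k))))) :=
      pullback_of_geometrically (P := @IsReduced)
        (GeometricallyReduced.geometrically_isReduced (f := f)) (AlgebraicClosure k) _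
    exact isReduced_of_injective e.symm.toRingHom e.symm.injective
  have hsurj := surjective_algebraMap_of_isReduced_tensor k Γ(X, ⊤) hred hpi'
  have hinj : Function.Injective (algebraMap k Γ(X, ⊤)) := (algebraMap k Γ(X, ⊤)).injective
  haveI hα : IsIso (alpha k f) :=
    (ConcreteCategory.isIso_iff_bijective (alpha k f)).2 ⟨hinj, hsurj⟩
  have h : f.appTop = (Scheme.ΓSpecIso (CommRingCat.of k)).hom ≫ alpha k f := by
    unfold alpha
    rw [Iso.hom_inv_id_assoc]
  rw [h]
  infer_instance

/-- smooth morphisms are geometrically reduced (as in `Lib/Helper3Isog`). -/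
theorem geometricallyReduced_of_smooth {X S : Scheme.{u}} (g : X ⟶ S) [Smooth g] :
    GeometricallyReduced g := by
  constructor
  intro K _ y Z fst snd h
  haveI : Smooth snd := MorphismProperty.of_isPullback h inferInstance
  exact Groth.Agent.Lib.Helper6.SmGeom.isReduced_of_smooth_over_field K Z snd

open Groth.Agent.R2.H34.SteinAsm in
/-- **Geometric connectedness of a flat proper model with `H^0(generic fibre) = Frac R`.** -/
theorem geometricallyConnected_of_model (h0 : ST0.{u}) (R : Type u) [CommRing R] [IsDomain R]
    [IsIntegrallyClosed R] [IsNoetherianRing R] {X C : Scheme.{u}}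
    (p : X ⟶ Spec (CommRingCat.of R)) [Flat p] [IsProper p]
    (f : C ⟶ Spec (CommRingCat.of (FractionRing R))) (g : C ⟶ X)
    (hsq : IsPullback g f p (Spec.map (CommRingCat.ofHom (algebraMap R (FractionRing R)))))
    (hH0 : IsIso f.appTop) (hfin : p.appTop.hom.Finite) : GeometricallyConnected p := by
  have hbij := Groth.Agent.R2.H34.ModelConn.bijective_toΓ_of_isPullback R p f g hsq hH0 hfin
  haveI hα : IsIso ((Scheme.ΓSpecIso (CommRingCat.of R)).inv ≫ p.appTop) :=
    (ConcreteCategory.isIso_iff_bijective _).2 hbij
  have hiso : IsIso (p.app ⊤) := by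
    have h : p.app ⊤ = (Scheme.ΓSpecIso (CommRingCat.of R)).hom ≫
        ((Scheme.ΓSpecIso (CommRingCat.of R)).inv ≫ p.appTop) := by
      rw [Iso.hom_inv_id_assoc]
    rw [h]
    exact @IsIso.comp_isIso _ _ _ _ _ _ _ inferInstance hα
  rw [GeometricallyConnected.iff_geometricallyConnected_fiber]
  intro y
  exact Groth.Agent.R2.H40.SteinAsm2.geometricallyConnected_fiber_of_isIso_app h0 p y ⊤
    (isAffineOpen_top _) trivial hiso

end Groth.Agent.R2.H34.GeomConnH0
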