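import Mathlib

/-!
# The rigidity lemma (Mumford, GIT 6.1), proper flat case (helper34)

`rigidity`: let `p : X ⟶ S` be flat, surjective and closed with `O_S ≅ p_* O_X` locally on `S`
(hypothesis `hO`, the conclusion of "κ(s) = H⁰(X_s, O) ⇒ O_S → p_* O_X is an isomorphism near `s`"),
such that `X ×_S X ⟶ S` is open, let `q : Y ⟶ S` be separated and `f : X ⟶ Y` a morphism over `S`,
with `S` connected. If `f` collapses one fibre of `p` to a point, then `f = p ≫ t` for a
section `t` of `q`.

The proof: the collapsed locus is open (factor `f` through an affine open of `Y` near the image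
point and use `Γ(p⁻¹U, O_X) = Γ(U, O_S)`), closed (separatedness of `q`, openness of
`X ×_S X ⟶ S`), and the local factorizations glue as `p` is an epimorphism (flat and surjective).
-/

set_option autoImplicit false
set_option linter.style.haveILetI false
universe u

open CategoryTheory CategoryTheory.Limits AlgebraicGeometry Opposite TopologicalSpace

namespace Groth.Agent.R2.H34.Rigidity

/-- A morphism to an affine scheme factors through any morphism inducing an isomorphism on global
sections. -/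
theorem exists_factor_of_isIso_appTop {P U V : Scheme.{u}} [IsAffine V] (g : P ⟶ U)
    [IsIso g.appTop] (h : P ⟶ V) : ∃ t : U ⟶ V, g ≫ t = h := by
  refine ⟨U.toSpecΓ ≫ Spec.map (h.appTop ≫ inv g.appTop) ≫ V.isoSpec.inv, ?_⟩
  rw [Scheme.toSpecΓ_naturality_assoc, ← Spec.map_comp_assoc, Category.assoc, IsIso.inv_hom_id,
    Category.comp_id, ← Scheme.toSpecΓ_naturality_assoc, Scheme.toSpecΓ_isoSpec_inv,
    Category.comp_id]

variable {X S Y : Scheme.{u}} (p : X ⟶ S) (q : Y ⟶ S) (f : X ⟶ Y)

/-- `f` factors through `p` over the open `U`. -/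
def FactorsOver (U : S.Opens) : Prop :=
  ∃ t : U.toScheme ⟶ Y, pullback.fst p U.ι ≫ f = pullback.snd p U.ι ≫ t

/-- The set of points of `S` over which `f` collapses the fibre of `p` to at most one point. -/
def collapsed : Set S := {s | ∀ x x' : X, p x = s → p x' = s → f x = f x'}

variable {p f}

/-- local factorization over a neighbourhood of a point with collapsed fibre. -/
theorem exists_factorsOver_of_mem_collapsed [Surjective p] (hcl : IsClosedMap p)
    (hO : ∀ s : S, ∃ U : S.Opens, s ∈ U ∧ ∀ V : S.Opens, V ≤ U → IsIso (p.app V))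
    {s : S} (hs : s ∈ collapsed p f) : ∃ U : S.Opens, s ∈ U ∧ FactorsOver p f U := by
  obtain ⟨x₀, hx₀⟩ := p.surjective s
  obtain ⟨V, hV, hyV, -⟩ := exists_isAffineOpen_mem_and_subset (X := Y) (x := f x₀)
    (U := ⊤) trivial
  -- the open set of points whose fibre maps into `V`
  let U₁ : S.Opens := ⟨(p '' ((f ⁻¹ᵁ V : X.Opens) : Set X)ᶜ)ᶜ,
    (hcl _ (f ⁻¹ᵁ V).2.isClosed_compl).isOpen_compl⟩
  have hsU₁ : s ∈ U₁ := by
    rintro ⟨x, hx, hxs⟩
    apply hx
    show f x ∈ V
    rw [hs x x₀ hxs hx₀]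
    exact hyV
  have hU₁ : ∀ x : X, p x ∈ U₁ → f x ∈ V := by
    intro x hx
    by_contra hcon
    exact hx ⟨x, hcon, rfl⟩
  obtain ⟨U₂, hsU₂, hU₂⟩ := hO s
  obtain ⟨U, hU, hsU, hUle⟩ := exists_isAffineOpen_mem_and_subset (X := S) (x := s)
    (U := U₁ ⊓ U₂) ⟨hsU₁, hsU₂⟩
  refine ⟨U, hsU, ?_⟩
  have hle : p ⁻¹ᵁ U ≤ f ⁻¹ᵁ V := fun x hx => hU₁ x (hUle hx).1
  haveI : IsIso (p ∣_ U).appTop := by
    rw [morphismRestrict_appTop]
    refine @IsIso.comp_isIso _ _ _ _ _ _ _ (hU₂ _ ?_) (@Functor.map_isIso _ _ _ _ _ _ _ _ (@isIso_op _ _ _ _ _ (by infer_instance)))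
    intro y hy
    obtain ⟨u, -, rfl⟩ := hy
    exact (hUle u.2).2
  haveI : IsAffine V.toScheme := hV
  obtain ⟨t', ht'⟩ := exists_factor_of_isIso_appTop (p ∣_ U) (f.resLE V (p ⁻¹ᵁ U) hle)
  refine ⟨t' ≫ V.ι, ?_⟩
  rw [← pullbackRestrictIsoRestrict_hom_ι, ← pullbackRestrictIsoRestrict_hom_morphismRestrict,
    Category.assoc, Category.assoc, ← Scheme.Hom.resLE_comp_ι f hle, reassoc_of% ht']

/-- points of `p⁻¹(U)` come from `pullback p U.ι`. -/
theorem exists_preimage_of_mem {U : S.Opens} {x : X} (hx : p x ∈ U) :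
    ∃ z : ↥(pullback p U.ι), pullback.fst p U.ι z = x ∧ U.ι (pullback.snd p U.ι z) = p x := by
  obtain ⟨z, hz1, hz2⟩ := Scheme.Pullback.exists_preimage_pullback (f := p) (g := U.ι) x
    ⟨p x, hx⟩ rfl
  exact ⟨z, hz1, by rw [hz2]; rfl⟩

/-- over an open with a factorization all fibres are collapsed. -/
theorem subset_collapsed_of_factorsOver {U : S.Opens} (hU : FactorsOver p f U) :
    (U : Set S) ⊆ collapsed p f := by
  obtain ⟨t, ht⟩ := hU
  intro u hu x x' hx hx'
  obtain ⟨z, hz1, hz2⟩ := exists_preimage_of_mem (p := p) (U := U) (x := x) (by rw [hx]; exact hu)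
  obtain ⟨z', hz1', hz2'⟩ := exists_preimage_of_mem (p := p) (U := U) (x := x')
    (by rw [hx']; exact hu)
  have h1 : f x = t (pullback.snd p U.ι z) := by
    rw [← hz1, ← Scheme.Hom.comp_apply, ht, Scheme.Hom.comp_apply]
  have h2 : f x' = t (pullback.snd p U.ι z') := by
    rw [← hz1', ← Scheme.Hom.comp_apply, ht, Scheme.Hom.comp_apply]
  have h3 : pullback.snd p U.ι z = pullback.snd p U.ι z' := by
    apply U.ι.injective
    rw [hz2, hz2', hx, hx']
  rw [h1, h2, h3]

variable (p f) in
/-- the comparison morphism `X ×_S X ⟶ Y ×_S Y`. -/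
noncomputable def prodMap (hf : f ≫ q = p) : pullback p p ⟶ pullback q q :=
  pullback.lift (pullback.fst p p ≫ f) (pullback.snd p p ≫ f)
    (by rw [Category.assoc, Category.assoc, hf, pullback.condition])

/-- over an open with a factorization, the comparison morphism lands in the diagonal. -/
theorem prodMap_mem_range_diagonal (hf : f ≫ q = p) {U : S.Opens} (hU : FactorsOver p f U)
    (z : ↥(pullback p p)) (hz : (pullback.fst p p ≫ p) z ∈ U) :
    prodMap p q f hf z ∈ Set.range (pullback.diagonal q) := by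
  obtain ⟨t, ht⟩ := hU
  set π := pullback.fst p p ≫ p with hπ
  obtain ⟨w, hw, -⟩ := exists_preimage_of_mem (p := π) (U := U) (x := z) hz
  have hc1 : (pullback.fst π U.ι ≫ pullback.fst p p) ≫ p = pullback.snd π U.ι ≫ U.ι := by
    rw [Category.assoc, ← hπ, pullback.condition]
  have hc2 : (pullback.fst π U.ι ≫ pullback.snd p p) ≫ p = pullback.snd π U.ι ≫ U.ι := by
    rw [Category.assoc, ← pullback.condition (f := p) (g := p), ← hπ, pullback.condition]
  have key : pullback.fst π U.ι ≫ prodMap p q f hf =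
      (pullback.snd π U.ι ≫ t) ≫ pullback.diagonal q := by
    apply pullback.hom_ext
    · rw [Category.assoc, Category.assoc, pullback.diagonal_fst, Category.comp_id, prodMap,
        pullback.lift_fst, ← Category.assoc,
        ← pullback.lift_fst (pullback.fst π U.ι ≫ pullback.fst p p) (pullback.snd π U.ι) hc1,
        Category.assoc, ht, pullback.lift_snd_assoc]
    · rw [Category.assoc, Category.assoc, pullback.diagonal_snd, Category.comp_id, prodMap,
        pullback.lift_snd, ← Category.assoc,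
        ← pullback.lift_fst (pullback.fst π U.ι ≫ pullback.snd p p) (pullback.snd π U.ι) hc2,
        Category.assoc, ht, pullback.lift_snd_assoc]
  refine ⟨t (pullback.snd π U.ι w), ?_⟩
  rw [← hw, ← Scheme.Hom.comp_apply, ← Scheme.Hom.comp_apply, ← Scheme.Hom.comp_apply, key,
    Category.assoc]

/-- The collapsed locus is closed. -/
theorem isClosed_collapsed [IsSeparated q] (hf : f ≫ q = p)
    (hop : IsOpenMap (pullback.fst p p ≫ p))
    (hloc : ∀ s ∈ collapsed p f, ∃ U : S.Opens, s ∈ U ∧ FactorsOver p f U) :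
    IsClosed (collapsed p f) := by
  rw [← closure_subset_iff_isClosed]
  intro s₀ hs₀ x x' hx hx'
  set π := pullback.fst p p ≫ p with hπ
  -- the closed set `D'`
  let D' : Set ↥(pullback p p) := prodMap p q f hf ⁻¹' Set.range (pullback.diagonal q)
  have hD'closed : IsClosed D' :=
    (pullback.diagonal q).isClosedEmbedding.isClosed_range.preimage
      (prodMap p q f hf).continuous
  have hsub : π ⁻¹' collapsed p f ⊆ D' := by
    intro z hz
    obtain ⟨U, hsU, hU⟩ := hloc _ hz
    exact prodMap_mem_range_diagonal (q := q) hf hU z hsU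
  have h1 : π ⁻¹' closure (collapsed p f) ⊆ D' :=
    (hop.preimage_closure_subset_closure_preimage).trans (hD'closed.closure_subset_iff.mpr hsub)
  obtain ⟨z, hz1, hz2⟩ := Scheme.Pullback.exists_preimage_pullback (f := p) (g := p) x x'
    (by rw [hx, hx'])
  have hzmem : z ∈ D' := h1 (by
    show π z ∈ closure (collapsed p f)
    rw [hπ, Scheme.Hom.comp_apply, hz1, hx]
    exact hs₀)
  obtain ⟨y, hy⟩ := hzmem
  have e1 : f x = y := by
    rw [← hz1, ← Scheme.Hom.comp_apply, ← pullback.lift_fst (pullback.fst p p ≫ f)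
      (pullback.snd p p ≫ f) (by rw [Category.assoc, Category.assoc, hf, pullback.condition]),
      Scheme.Hom.comp_apply]
    show pullback.fst q q (prodMap p q f hf z) = y
    rw [← hy, ← Scheme.Hom.comp_apply, pullback.diagonal_fst]
    rfl
  have e2 : f x' = y := by
    rw [← hz2, ← Scheme.Hom.comp_apply, ← pullback.lift_snd (pullback.fst p p ≫ f)
      (pullback.snd p p ≫ f) (by rw [Category.assoc, Category.assoc, hf, pullback.condition]),
      Scheme.Hom.comp_apply]
    show pullback.snd q q (prodMap p q f hf z) = y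
    rw [← hy, ← Scheme.Hom.comp_apply, pullback.diagonal_snd]
    rfl
  rw [e1, e2]

/-- two local factorizations agree on the overlap (`p` flat and surjective). -/
theorem factor_compat [Flat p] [Surjective p] {U U' : S.Opens} (t : U.toScheme ⟶ Y)
    (t' : U'.toScheme ⟶ Y) (ht : pullback.fst p U.ι ≫ f = pullback.snd p U.ι ≫ t)
    (ht' : pullback.fst p U'.ι ≫ f = pullback.snd p U'.ι ≫ t') :
    pullback.fst U.ι U'.ι ≫ t = pullback.snd U.ι U'.ι ≫ t' := by
  set a : pullback U.ι U'.ι ⟶ S := pullback.fst U.ι U'.ι ≫ U.ι with ha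
  haveI : Epi (pullback.snd p a) := Flat.epi_of_flat_of_surjective _
  rw [← cancel_epi (pullback.snd p a)]
  have hc1 : pullback.fst p a ≫ p = (pullback.snd p a ≫ pullback.fst U.ι U'.ι) ≫ U.ι := by
    rw [pullback.condition, Category.assoc]
  have hc2 : pullback.fst p a ≫ p = (pullback.snd p a ≫ pullback.snd U.ι U'.ι) ≫ U'.ι := by
    rw [pullback.condition, Category.assoc, ha, pullback.condition]
  have e1 : pullback.snd p a ≫ pullback.fst U.ι U'.ι ≫ t = pullback.fst p a ≫ f := by
    rw [← Category.assoc, ← pullback.lift_snd (pullback.fst p a)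
      (pullback.snd p a ≫ pullback.fst U.ι U'.ι) hc1, Category.assoc, ← ht,
      pullback.lift_fst_assoc]
  have e2 : pullback.snd p a ≫ pullback.snd U.ι U'.ι ≫ t' = pullback.fst p a ≫ f := by
    rw [← Category.assoc, ← pullback.lift_snd (pullback.fst p a)
      (pullback.snd p a ≫ pullback.snd U.ι U'.ι) hc2, Category.assoc, ← ht',
      pullback.lift_fst_assoc]
  rw [e1, e2]

/-- **Rigidity lemma** (Mumford, GIT 6.1; flat closed surjective case with `O_S = p_* O_X`
locally). -/
theorem rigidity [IsSeparated q] [ConnectedSpace S] [Flat p] [Surjective p] (hf : f ≫ q = p)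
    (hcl : IsClosedMap p) (hop : IsOpenMap (pullback.fst p p ≫ p))
    (hO : ∀ s : S, ∃ U : S.Opens, s ∈ U ∧ ∀ V : S.Opens, V ≤ U → IsIso (p.app V))
    (s : S) (hs : ∀ x x' : X, p x = s → p x' = s → f x = f x') :
    ∃ t : S ⟶ Y, t ≫ q = 𝟙 S ∧ f = p ≫ t := by
  have hloc : ∀ s ∈ collapsed p f, ∃ U : S.Opens, s ∈ U ∧ FactorsOver p f U :=
    fun s hs => exists_factorsOver_of_mem_collapsed hcl hO hs
  have hopenC : IsOpen (collapsed p f) := by
    rw [isOpen_iff_forall_mem_open]
    intro s' hs'
    obtain ⟨U, hsU, hU⟩ := hloc s' hs'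
    exact ⟨U, subset_collapsed_of_factorsOver hU, U.2, hsU⟩
  have hclosedC : IsClosed (collapsed p f) := isClosed_collapsed (q := q) hf hop hloc
  have huniv : collapsed p f = Set.univ :=
    IsClopen.eq_univ ⟨hclosedC, hopenC⟩ ⟨s, hs⟩
  have hall : ∀ s : S, ∃ U : S.Opens, s ∈ U ∧ FactorsOver p f U :=
    fun s => hloc s (by rw [huniv]; trivial)
  choose U hsU hU using hall
  choose t ht using hU
  let 𝒰 : S.OpenCover := S.openCoverOfIsOpenCover U (by
    rw [IsOpenCover, ← top_le_iff]
    intro s _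
    exact Opens.mem_iSup.mpr ⟨s, hsU s⟩)
  let T : S ⟶ Y := 𝒰.glueMorphisms t (fun s s' => factor_compat (t s) (t s') (ht s) (ht s'))
  have hT : ∀ s, (U s).ι ≫ T = t s := fun s => 𝒰.ι_glueMorphisms t _ s
  have hpT : f = p ≫ T := by
    refine Scheme.Cover.hom_ext (𝒰.pullback₁ p) _ _ fun s => ?_
    show pullback.fst p (U s).ι ≫ f = pullback.fst p (U s).ι ≫ p ≫ T
    rw [pullback.condition_assoc, hT, ht]
  refine ⟨T, ?_, hpT⟩
  haveI : Epi p := Flat.epi_of_flat_of_surjective p
  rw [← cancel_epi p, ← Category.assoc, ← hpT, hf, Category.comp_id]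

end Groth.Agent.R2.H34.Rigidity
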