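import Mathlib
import Groth.Prelude.Def_ega3
import Groth.Agent.R2.H34Rigidity

/-!
# Rigidity lemma: fibrewise forms (helper34)

Consumers of `H34Rigidity.rigidity` in the shape used by the frozen statements: the hypothesis
`hO` is the conclusion of S2393 (`κ(s) ≅ Γ(X_s, O)` ⇒ `O_S ≅ p_* O_X` near `s`) at every point.
-/

set_option autoImplicit false
set_option linter.style.haveILetI false
universe u

open CategoryTheory CategoryTheory.Limits AlgebraicGeometry Opposite TopologicalSpace

namespace Groth.Agent.R2.H34.Rigidity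

/-- a fibre whose ring of global functions is the residue field is nonempty. -/
theorem nonempty_fiber_of_bijective {X S : Scheme.{u}} (f : X ⟶ S) (s : S)
    (h : Function.Bijective (algebraMap (S.residueField s) Γ(f.fiber s, ⊤))) :
    Nonempty (f.fiber s) := by
  by_contra hcon
  rw [not_nonempty_iff] at hcon
  haveI : Subsingleton Γ(f.fiber s, ⊤) := by
    have : (⊤ : (f.fiber s).Opens) = ⊥ := by
      ext x; exact hcon.elim x
    rw [this]
    infer_instance
  have h01 : (0 : S.residueField s) = 1 := h.1 (Subsingleton.elim _ _)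
  exact zero_ne_one h01

/-- Rigidity, with `O_S ≅ f_* O_X` locally as a hypothesis: a morphism from a proper flat
`S`-scheme which is constant on one fibre is constant over the connected base `S`. -/
theorem factors_of_fibre_constant {X Y S : Scheme.{u}} [IsLocallyNoetherian S] [ConnectedSpace ↥S]
    (f : X ⟶ S) [IsProper f] [Flat f]
    (hO : ∀ s : S, ∃ U : S.Opens, s ∈ U ∧ ∀ V : S.Opens, V ≤ U → IsIso (f.app V))
    (hne : ∀ s : S, Nonempty (f.fiber s))
    (g : Y ⟶ S) [IsSeparated g] (π : X ⟶ Y) (hπ : π ≫ g = f) (s : ↥S)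
    (hs : ∀ x x' : X, f x = s → f x' = s → π x = π x') :
    ∃ σ : S ⟶ Y, σ ≫ g = 𝟙 S ∧ π = f ≫ σ := by
  haveI : Surjective f := by
    constructor
    intro s'
    obtain ⟨z⟩ := hne s'
    have : f.fiberι s' z ∈ Set.range (f.fiberι s') := ⟨z, rfl⟩
    rw [Scheme.Hom.range_fiberι] at this
    exact ⟨_, this⟩
  haveI : LocallyOfFinitePresentation f :=
    LocallyOfFinitePresentation.iff_locallyOfFiniteType.mpr inferInstance
  have hop : IsOpenMap (pullback.fst f f ≫ f) := (pullback.fst f f ≫ f).isOpenMap
  exact rigidity (q := g) hπ f.isClosedMap hop hO s hs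

/-- a morphism which is scheme-theoretically constant on the fibre over `s` is set-theoretically
constant there. -/
theorem collapsed_of_fiber_factor {X Y S : Scheme.{u}} (f : X ⟶ S) (π : X ⟶ Y) (s : S)
    (hs : ∃ y : Spec (S.residueField s) ⟶ Y,
      f.fiberι s ≫ π = f.fiberToSpecResidueField s ≫ y) :
    ∀ x x' : X, f x = s → f x' = s → π x = π x' := by
  obtain ⟨y, hy⟩ := hs
  have key : ∀ x : X, f x = s → π x = y default := by
    intro x hx
    have : x ∈ Set.range (f.fiberι s) := by rw [Scheme.Hom.range_fiberι]; exact hx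
    obtain ⟨z, rfl⟩ := this
    rw [← Scheme.Hom.comp_apply, hy, Scheme.Hom.comp_apply]
    congr 1
    exact Subsingleton.elim _ _
  intro x x' hx hx'
  rw [key x hx, key x' hx']

/-- the `appTop` form of the fibre condition implies the `algebraMap` form. -/
theorem bijective_algebraMap_of_bijective_appTop {X S : Scheme.{u}} (p : X ⟶ S) (s : S)
    (h : Function.Bijective (pullback.snd p (S.fromSpecResidueField s)).appTop) :
    Function.Bijective (algebraMap (S.residueField s) Γ(p.fiber s, ⊤)) := by
  have h2 : Function.Bijective (Scheme.ΓSpecIso (S.residueField s)).inv.hom :=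
    (ConcreteCategory.bijective_of_isIso (Scheme.ΓSpecIso (S.residueField s)).inv)
  exact h.comp h2

end Groth.Agent.R2.H34.Rigidity
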