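import Mathlib
import Groth.Prelude.Def_Red
import Groth.Agent.R2.H34GeomConnH0
import Groth.Agent.R2.H34RigidityFib
import Groth.Agent.Lib.Helper11SmInt
import Groth.Agent.Lib.Helper6SepCl2
import Groth.Agent.Lib.Helper12GeomConn

/-!
# `H^0` of the fibres of an abelian scheme (helper34)

* `bijective_algebraMap_fiber_of_smooth`: for `ξ : X ⟶ S` proper, smooth and geometrically
  connected, `κ(s) → Γ(X_s, O)` is bijective for every `s`;
* `geometricallyConnected_of_connected_geomFibre`: if the geometric fibres (over an algebraic
  closure of `κ(s)`) of `X/S` are all connected, then `X.hom` is geometrically connected.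
-/

set_option autoImplicit false
universe u

open CategoryTheory CategoryTheory.Limits AlgebraicGeometry Opposite TopologicalSpace

namespace Groth.Agent.R2.H34.AbSchH0

/-- for a proper smooth geometrically connected morphism, `κ(s) → Γ(X_s, O)` is bijective. -/
theorem bijective_algebraMap_fiber_of_smooth {X S : Scheme.{u}} (ξ : X ⟶ S)
    [IsProper ξ] [Smooth ξ] [GeometricallyConnected ξ] (s : S) :
    Function.Bijective (algebraMap (S.residueField s) Γ(ξ.fiber s, ⊤)) := by
  apply Rigidity.bijective_algebraMap_of_bijective_appTop
  have : IsProper (ξ.fiberToSpecResidueField s) :=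
    MorphismProperty.pullback_snd (P := @IsProper) _ _ inferInstance
  have : Smooth (ξ.fiberToSpecResidueField s) :=
    MorphismProperty.pullback_snd (P := @Smooth) _ _ inferInstance
  have : GeometricallyReduced (ξ.fiberToSpecResidueField s) :=
    GeomConnH0.geometricallyReduced_of_smooth _
  have : IsLocallyNoetherian (ξ.fiber s) :=
    LocallyOfFiniteType.isLocallyNoetherian (ξ.fiberToSpecResidueField s)
  have : CompactSpace (ξ.fiber s) :=
    QuasiCompact.compactSpace_of_compactSpace (ξ.fiberToSpecResidueField s)
  have : IsNoetherian (ξ.fiber s) := {}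
  have : IsIntegral (ξ.fiber s) :=
    Groth.Agent.Lib.Helper11SmInt.isIntegral_of_connected_of_isDomain_stalk
      (fun x => Groth.Agent.Lib.Helper11SmInt.isDomain_stalk_of_smooth (S.residueField s)
        (ξ.fiberToSpecResidueField s) x)
  have h := GeomConnH0.isIso_appTop_of_geomConnected_of_geomReduced (S.residueField s)
    (X := ξ.fiber s) (ξ.fiberToSpecResidueField s)
  exact @ConcreteCategory.bijective_of_isIso _ _ _ _ _ _ _ _ _ h

/-- if the geometric fibres over algebraic closures of the residue fields are connected, the
morphism is geometrically connected. -/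
theorem geometricallyConnected_of_connected_geomFibre {S : Scheme.{u}} (X : Over S)
    (hc : ∀ s : S, ConnectedSpace (Red.geomFibre s X).left) : GeometricallyConnected X.hom := by
  rw [GeometricallyConnected.iff_geometricallyConnected_fiber]
  intro s
  let kbar := AlgebraicClosure (S.residueField s)
  let a : Spec (CommRingCat.of kbar) ⟶ Spec (S.residueField s) :=
    Spec.map (CommRingCat.ofHom (algebraMap (S.residueField s) kbar))
  let A : Scheme.{u} := pullback X.hom (Red.geomPt s)
  let fstA : A ⟶ Spec (CommRingCat.of kbar) := pullback.snd X.hom (Red.geomPt s)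
  have hcond : pullback.fst X.hom (Red.geomPt s) ≫ X.hom =
      (fstA ≫ a) ≫ S.fromSpecResidueField s := by
    rw [pullback.condition, Category.assoc]
    rfl
  let sndA : A ⟶ X.hom.fiber s :=
    pullback.lift (pullback.fst X.hom (Red.geomPt s)) (fstA ≫ a) hcond
  have sq : IsPullback fstA sndA a (X.hom.fiberToSpecResidueField s) := by
    have hright : IsPullback (X.hom.fiberι s) (X.hom.fiberToSpecResidueField s) X.hom
        (S.fromSpecResidueField s) := IsPullback.of_hasPullback _ _
    have houter : IsPullback (sndA ≫ X.hom.fiberι s) fstA X.hom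
        (a ≫ S.fromSpecResidueField s) := by
      have h1 : sndA ≫ X.hom.fiberι s = pullback.fst X.hom (Red.geomPt s) :=
        pullback.lift_fst _ _ _
      rw [h1]
      exact IsPullback.of_hasPullback X.hom (Red.geomPt s)
    have h2 : sndA ≫ X.hom.fiberToSpecResidueField s = fstA ≫ a := pullback.lift_snd _ _ _
    exact (IsPullback.of_right houter h2 hright).flip
  have : Surjective a := by
    constructor
    intro x
    obtain ⟨y⟩ : Nonempty ↥(Spec (CommRingCat.of kbar)) := inferInstance
    exact ⟨y, Subsingleton.elim _ _⟩
  have : GeometricallyConnected fstA := by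
    let : A.Over (Spec (CommRingCat.of kbar)) := ⟨fstA⟩
    have : ConnectedSpace A := hc s
    exact Groth.Agent.Lib.Helper6.SepCl.geometricallyConnected_of_isSepClosed kbar A
  exact Groth.Agent.Lib.Helper12.GeomConn.geometricallyConnected_of_isPullback_of_surjective sq

end Groth.Agent.R2.H34.AbSchH0
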