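import Groth.Agent.R2.H34Rigidity

/-!
# Rigidity lemma over a possibly disconnected base (helper34)

`rigidity'`: as `Rigidity.rigidity`, but the base need not be connected: it is enough that every
connected component of the base contains a point with collapsed fibre.
-/

set_option autoImplicit false
universe u

open CategoryTheory CategoryTheory.Limits AlgebraicGeometry Opposite TopologicalSpace

namespace Groth.Agent.R2.H34.Rigidity

variable {X S Y : Scheme.{u}} {p : X ⟶ S} {q : Y ⟶ S} {f : X ⟶ Y}

/-- gluing: if `f` factors through `p` locally on `S`, it factors globally through a section. -/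
theorem exists_section_of_forall_factorsOver [Flat p] [Surjective p] (hf : f ≫ q = p)
    (hall : ∀ s : S, ∃ U : S.Opens, s ∈ U ∧ FactorsOver p f U) :
    ∃ t : S ⟶ Y, t ≫ q = 𝟙 S ∧ f = p ≫ t := by
  choose U hsU hU using hall
  choose t ht using hU
  let 𝒰 : S.OpenCover := S.openCoverOfIsOpenCover U (by
    rw [IsOpenCover, ← top_le_iff]
    intro s _
    exact Opens.mem_iSup.mpr ⟨s, hsU s⟩)
  let T : S ⟶ Y := 𝒰.glueMorphisms t (fun s s' => factor_compat (t s) (t s') (ht s) (ht s'))
  have hT : ∀ s, (U s).ι ≫ T = t s := fun s => 𝒰.ι_glueMorphisms t _ s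
  have hpT : f = p ≫ T := by
    refine Scheme.Cover.hom_ext (𝒰.pullback₁ p) _ _ fun s => ?_
    show pullback.fst p (U s).ι ≫ f = pullback.fst p (U s).ι ≫ p ≫ T
    rw [pullback.condition_assoc, hT, ht]
  refine ⟨T, ?_, hpT⟩
  have : Epi p := Flat.epi_of_flat_of_surjective p
  rw [← cancel_epi p, ← Category.assoc, ← hpT, hf, Category.comp_id]

/-- **Rigidity lemma**, base not necessarily connected: every connected component of the base
contains a point whose fibre is collapsed. -/
theorem rigidity' [IsSeparated q] [Flat p] [Surjective p] (hf : f ≫ q = p)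
    (hcl : IsClosedMap p) (hop : IsOpenMap (pullback.fst p p ≫ p))
    (hO : ∀ s : S, ∃ U : S.Opens, s ∈ U ∧ ∀ V : S.Opens, V ≤ U → IsIso (p.app V))
    (hs : ∀ s : S, ∃ s' ∈ connectedComponent s, s' ∈ collapsed p f) :
    ∃ t : S ⟶ Y, t ≫ q = 𝟙 S ∧ f = p ≫ t := by
  have hloc : ∀ s ∈ collapsed p f, ∃ U : S.Opens, s ∈ U ∧ FactorsOver p f U :=
    fun s hs => exists_factorsOver_of_mem_collapsed hcl hO hs
  have hopenC : IsOpen (collapsed p f) := by
    rw [isOpen_iff_forall_mem_open]
    intro s' hs'
    obtain ⟨U, hsU, hU⟩ := hloc s' hs'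
    exact ⟨U, subset_collapsed_of_factorsOver hU, U.2, hsU⟩
  have hclosedC : IsClosed (collapsed p f) := isClosed_collapsed (q := q) hf hop hloc
  refine exists_section_of_forall_factorsOver hf fun s => hloc s ?_
  obtain ⟨s', hs'1, hs'2⟩ := hs s
  have h1 : connectedComponent s' ⊆ collapsed p f :=
    IsClopen.connectedComponent_subset ⟨hclosedC, hopenC⟩ hs'2
  rw [← connectedComponent_eq hs'1] at h1
  exact h1 mem_connectedComponent

end Groth.Agent.R2.H34.Rigidity
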