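import Mathlib
import Groth.Agent.R2.H34RigidityB
import Groth.Agent.R2.H34AbSchH0

/-!
# Rigidity for `X ×_S X ⟶ X` (helper34)

`exists_factor_snd`: `π : B ⟶ S` proper, smooth, geometrically connected with a section `e`,
`g : G₀ ⟶ S` separated, `Φ₀ : B ×_S B ⟶ G₀` over `S` with `Φ₀ ∘ (id, e π) = c₀ ∘ π`. Then
`Φ₀ = t₀ ∘ pr₂` for some `t₀ : B ⟶ G₀` over `S`.
The hypothesis `h2393` is the statement of S2393.
-/

set_option autoImplicit false
universe u

open CategoryTheory CategoryTheory.Limits AlgebraicGeometry Opposite TopologicalSpace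

namespace Groth.Agent.R2.H34.AbSchRigid

/-- the statement of S2393. -/
def Stmt2393 : Prop :=
  ∀ {X Y : Scheme.{u}} (f : X ⟶ Y) [IsProper f] [Flat f] [IsLocallyNoetherian Y] (y : Y),
    Function.Bijective (algebraMap (Y.residueField y) Γ(f.fiber y, ⊤)) →
    ∃ U : Y.Opens, y ∈ U ∧ ∀ V : Y.Opens, V ≤ U → IsIso (f.app V)

open Rigidity in
theorem exists_factor_snd (h2393 : Stmt2393.{u}) {B S G₀ : Scheme.{u}} [IsLocallyNoetherian S]
    (π : B ⟶ S) [IsProper π] [Smooth π] [GeometricallyConnected π]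
    (e : S ⟶ B) (he : e ≫ π = 𝟙 S) (g : G₀ ⟶ S) [IsSeparated g]
    (Φ₀ : pullback π π ⟶ G₀) (hΦ : Φ₀ ≫ g = pullback.snd π π ≫ π)
    (c₀ : S ⟶ G₀)
    (hc : pullback.lift (𝟙 B) (π ≫ e) (by rw [Category.id_comp, Category.assoc, he,
      Category.comp_id]) ≫ Φ₀ = π ≫ c₀) :
    ∃ t₀ : B ⟶ G₀, t₀ ≫ g = π ∧ Φ₀ = pullback.snd π π ≫ t₀ := by
  have hBn : IsLocallyNoetherian B := LocallyOfFiniteType.isLocallyNoetherian π
  set p : pullback π π ⟶ B := pullback.snd π π with hp
  set i : B ⟶ pullback π π := pullback.lift (𝟙 B) (π ≫ e) (by rw [Category.id_comp,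
    Category.assoc, he, Category.comp_id]) with hi
  let q : pullback g π ⟶ B := pullback.snd g π
  let F : pullback π π ⟶ pullback g π := pullback.lift Φ₀ p hΦ
  have hFq : F ≫ q = p := pullback.lift_snd _ _ _
  have hFfst : F ≫ pullback.fst g π = Φ₀ := pullback.lift_fst _ _ _
  have hflat : Flat p := inferInstance
  have hsurj : Surjective p := inferInstance
  have hlfp : LocallyOfFinitePresentation p := inferInstance
  have hO : ∀ b : B, ∃ U : B.Opens, b ∈ U ∧ ∀ V : B.Opens, V ≤ U → IsIso (p.app V) :=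
    fun b => h2393 p b (AbSchH0.bijective_algebraMap_fiber_of_smooth p b)
  have hop : IsOpenMap (pullback.fst p p ≫ p) := (pullback.fst p p ≫ p).isOpenMap
  -- the pullback square exhibiting `p⁻¹(e(S)) = B`
  have hpb : IsPullback i π p e := by
    have h1 : i ≫ pullback.fst π π = 𝟙 B := pullback.lift_fst _ _ _
    have h2 : i ≫ p = π ≫ e := pullback.lift_snd _ _ _
    refine IsPullback.of_right ?_ h2 (IsPullback.of_hasPullback π π)
    rw [h1, he]
    exact IsPullback.of_horiz_isIso ⟨by simp⟩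
  let c : S ⟶ pullback g π := pullback.lift c₀ e (by
    have : Epi π := Flat.epi_of_flat_of_surjective π
    rw [← cancel_epi π, ← reassoc_of% hc, hΦ]
    rw [← Category.assoc, show i ≫ p = π ≫ e from pullback.lift_snd _ _ _, Category.assoc])
  have hiF : i ≫ F = π ≫ c := by
    apply pullback.hom_ext
    · rw [Category.assoc, hFfst, hc, Category.assoc, pullback.lift_fst]
    · rw [Category.assoc, Category.assoc, show F ≫ pullback.snd g π = p from hFq,
        show c ≫ pullback.snd g π = e from pullback.lift_snd _ _ _]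
      exact pullback.lift_snd _ _ _
  have hkey : ∀ z : ↥(pullback π π), p z ∈ Set.range e → F z = c (π (p z)) := by
    rintro z ⟨s, hs⟩
    obtain ⟨w, hw1, hw2⟩ := Scheme.exists_preimage_of_isPullback hpb z s hs.symm
    have h3 : π (p z) = s := by
      rw [← hs, ← Scheme.Hom.comp_apply, he]
      rfl
    rw [h3, ← hw1, ← hw2, ← Scheme.Hom.comp_apply, ← Scheme.Hom.comp_apply, hiF]
  have hmeet : ∀ b : B, ∃ b' ∈ connectedComponent b, b' ∈ collapsed p F := by
    intro b
    refine ⟨e (π b), ?_, ?_⟩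
    · have hpre : _root_.IsPreconnected (π ⁻¹' {π b}) :=
        (Scheme.Hom.isConnected_preimage_singleton π (π b)).isPreconnected
      refine hpre.subset_connectedComponent (x := b) rfl ?_
      show π (e (π b)) = π b
      rw [← Scheme.Hom.comp_apply, he]
      rfl
    · intro z z' hz hz'
      rw [hkey z (by rw [hz]; exact ⟨_, rfl⟩), hkey z' (by rw [hz']; exact ⟨_, rfl⟩), hz, hz']
  obtain ⟨t, ht1, ht2⟩ := rigidity' (q := q) hFq p.isClosedMap hop hO hmeet
  refine ⟨t ≫ pullback.fst g π, ?_, ?_⟩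
  · rw [Category.assoc, pullback.condition, reassoc_of% ht1]
  · rw [← hFfst, ht2, Category.assoc]

end Groth.Agent.R2.H34.AbSchRigid
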