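import Mathlib

/-!
# A unit-preserving morphism of group objects whose "defect" factors through the second projection
is a homomorphism (helper34)

In a cartesian monoidal category, for group objects `X`, `G` and `f : X ⟶ G` with `η ≫ f = η`,
let `defect f : X ⊗ X ⟶ G` be `(x, y) ↦ f(xy) f(y)⁻¹ f(x)⁻¹`.
* `lift_id_one_comp_defect`: `defect f ∘ (id, 1) = 1`;
* `isMonHom_of_defect_eq_snd_comp`: if `defect f = snd ≫ t`, then `f` is a homomorphism.
-/

set_option autoImplicit false
universe v u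

open CategoryTheory MonoidalCategory CartesianMonoidalCategory MonObj GrpObj

namespace Groth.Agent.R2.H34.GrpUnitHom

variable {C : Type u} [Category.{v} C] [CartesianMonoidalCategory C] {X G : C} [GrpObj X] [GrpObj G]

/-- `(x, y) ↦ f(xy) f(y)⁻¹ f(x)⁻¹`. -/
noncomputable def defect (f : X ⟶ G) : X ⊗ X ⟶ G :=
  (μ[X] ≫ f) * (snd X X ≫ f)⁻¹ * (fst X X ≫ f)⁻¹

theorem lift_id_one_comp_defect (f : X ⟶ G) (hf : η[X] ≫ f = η[G]) :
    lift (𝟙 X) (toUnit X ≫ η[X]) ≫ defect f = 1 := by
  unfold defect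
  rw [MonObj.comp_mul, MonObj.comp_mul, GrpObj.comp_inv, GrpObj.comp_inv, ← Category.assoc,
    ← Category.assoc, ← Category.assoc, lift_fst, lift_snd, lift_comp_one_right, Category.id_comp,
    Category.assoc, hf, ← Hom.one_def]
  simp

theorem lift_one_id_comp_defect (f : X ⟶ G) (hf : η[X] ≫ f = η[G]) :
    lift (toUnit X ≫ η[X]) (𝟙 X) ≫ defect f = 1 := by
  unfold defect
  rw [MonObj.comp_mul, MonObj.comp_mul, GrpObj.comp_inv, GrpObj.comp_inv, ← Category.assoc,
    ← Category.assoc, ← Category.assoc, lift_fst, lift_snd, lift_comp_one_left, Category.id_comp,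
    Category.assoc, hf, ← Hom.one_def]
  simp

theorem isMonHom_of_defect_eq_one (f : X ⟶ G) (hf : η[X] ≫ f = η[G]) (h : defect f = 1) :
    IsMonHom f := by
  refine ⟨hf, ?_⟩
  have h1 : μ[X] ≫ f = (fst X X ≫ f) * (snd X X ≫ f) := by
    unfold defect at h
    have h2 := mul_eq_one_iff_eq_inv.mp h
    rw [_root_.inv_inv] at h2
    have h3 := mul_inv_eq_iff_eq_mul.mp h2
    exact h3
  rw [h1, Hom.mul_def, tensorHom_def']
  congr 1
  ext <;> simp

theorem isMonHom_of_defect_eq_snd_comp (f : X ⟶ G) (hf : η[X] ≫ f = η[G]) (t : X ⟶ G)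
    (h : defect f = snd X X ≫ t) : IsMonHom f := by
  have ht : t = 1 := by
    have h1 := lift_one_id_comp_defect f hf
    rw [h, ← Category.assoc, lift_snd, Category.id_comp] at h1
    exact h1
  apply isMonHom_of_defect_eq_one f hf
  rw [h, ht, MonObj.comp_one]

end Groth.Agent.R2.H34.GrpUnitHom
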