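import Mathlib
import Groth.Agent.R2.H34AbSchRigid
import Groth.Agent.R2.H34GrpUnitHom

/-!
# Unit-preserving morphisms out of an abelian scheme are homomorphisms (helper34)

`isMonHom_of_unit`: `S` locally Noetherian, `X/S` a smooth proper group scheme with geometrically
connected fibres, `G/S` a separated group scheme, `f : X ⟶ G` over `S` with `f(e) = e`. Then `f` is
a homomorphism. (Given the statement of S2393.)
-/

set_option autoImplicit false
universe u

open CategoryTheory CategoryTheory.Limits AlgebraicGeometry MonoidalCategory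
  CartesianMonoidalCategory MonObj GrpObj

namespace Groth.Agent.R2.H34.AbSchHom

theorem isMonHom_of_unit (h2393 : AbSchRigid.Stmt2393.{u}) (S : Scheme.{u})
    [IsLocallyNoetherian S] (X G : Over S) [GrpObj X] [GrpObj G] [Smooth X.hom] [IsProper X.hom]
    [GeometricallyConnected X.hom] [IsSeparated G.hom] (f : X ⟶ G) (hf : η[X] ≫ f = η[G]) :
    IsMonHom f := by
  have he : η[X].left ≫ X.hom = 𝟙 S := Over.w η[X]
  have hΦ : (GrpUnitHom.defect f).left ≫ G.hom = pullback.snd X.hom X.hom ≫ X.hom := by
    rw [Over.w (GrpUnitHom.defect f), Over.tensorObj_hom, pullback.condition]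
  have hc : pullback.lift (𝟙 X.left) (X.hom ≫ η[X].left) (by
      rw [Category.id_comp, Category.assoc, he, Category.comp_id]) ≫ (GrpUnitHom.defect f).left =
      X.hom ≫ η[G].left := by
    have h1 := congrArg CommaMorphism.left (GrpUnitHom.lift_id_one_comp_defect f hf)
    rw [Hom.one_def] at h1
    exact h1
  obtain ⟨t₀, ht1, ht2⟩ := AbSchRigid.exists_factor_snd h2393 X.hom η[X].left he G.hom
    (GrpUnitHom.defect f).left hΦ η[G].left hc
  refine GrpUnitHom.isMonHom_of_defect_eq_snd_comp f hf (Over.homMk t₀ ht1) ?_
  ext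
  exact ht2

end Groth.Agent.R2.H34.AbSchHom
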