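import Mathlib
import Groth.Agent.R2.H34GeomConnH0
import Groth.Agent.R2.H34RigidityFib

/-!
# The collapsed locus of a morphism out of a proper flat family is clopen (helper34)

* `geometricallyConnected_of_geometricallyIrreducible`;
* `bijective_algebraMap_fiber_of_geometricallyIntegral`: for `ξ : X ⟶ S` proper and geometrically
  integral, `κ(s) → Γ(X_s, O)` is bijective for every `s`;
* `isClopen_collapsed`: with `O_S ≅ ξ_* O_X` locally (hypothesis `hO`, the conclusion of S2393),
  the locus of points of `S` over which `f : X ⟶ Y` is constant on the fibre is closed and open.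
-/

set_option autoImplicit false
universe u

open CategoryTheory CategoryTheory.Limits AlgebraicGeometry Opposite TopologicalSpace

namespace Groth.Agent.R2.H34.CollapsedClopen

theorem geometricallyConnected_of_geometricallyIrreducible {X S : Scheme.{u}} (g : X ⟶ S)
    [GeometricallyIrreducible g] : GeometricallyConnected g := by
  constructor
  intro K _ y Z fst snd h
  have : IrreducibleSpace Z := GeometricallyIrreducible.geometrically_irreducibleSpace y fst snd h
  infer_instance

/-- for a proper geometrically integral morphism, `κ(s) → Γ(X_s, O)` is bijective. -/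
theorem bijective_algebraMap_fiber_of_geometricallyIntegral {X S : Scheme.{u}} (ξ : X ⟶ S)
    [IsProper ξ] [GeometricallyIntegral ξ] (s : S) :
    Function.Bijective (algebraMap (S.residueField s) Γ(ξ.fiber s, ⊤)) := by
  apply Rigidity.bijective_algebraMap_of_bijective_appTop
  have : IsProper (ξ.fiberToSpecResidueField s) :=
    MorphismProperty.pullback_snd (P := @IsProper) _ _ inferInstance
  have : GeometricallyConnected (ξ.fiberToSpecResidueField s) :=
    geometricallyConnected_of_geometricallyIrreducible _
  have h := GeomConnH0.isIso_appTop_of_geomConnected_of_geomReduced (S.residueField s)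
    (X := ξ.fiber s) (ξ.fiberToSpecResidueField s)
  exact @ConcreteCategory.bijective_of_isIso _ _ _ _ _ _ _ _ _ h

open Rigidity in
/-- the collapsed locus is closed and open. -/
theorem isClopen_collapsed {X Y S : Scheme.{u}} [IsLocallyNoetherian S]
    (ξ : X ⟶ S) [IsProper ξ] [Flat ξ] [Surjective ξ]
    (hO : ∀ s : S, ∃ U : S.Opens, s ∈ U ∧ ∀ V : S.Opens, V ≤ U → IsIso (ξ.app V))
    (v : Y ⟶ S) [IsSeparated v] (f : X ⟶ Y) (hf : f ≫ v = ξ) :
    IsClosed (collapsed ξ f) ∧ IsOpen (collapsed ξ f) := by
  have hloc : ∀ s ∈ collapsed ξ f, ∃ U : S.Opens, s ∈ U ∧ FactorsOver ξ f U :=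
    fun s hs => exists_factorsOver_of_mem_collapsed ξ.isClosedMap hO hs
  have : LocallyOfFinitePresentation ξ :=
    LocallyOfFinitePresentation.iff_locallyOfFiniteType.mpr inferInstance
  have hop : IsOpenMap (pullback.fst ξ ξ ≫ ξ) := (pullback.fst ξ ξ ≫ ξ).isOpenMap
  refine ⟨isClosed_collapsed (q := v) hf hop hloc, ?_⟩
  rw [isOpen_iff_forall_mem_open]
  intro s hs
  obtain ⟨U, hsU, hU⟩ := hloc s hs
  exact ⟨U, subset_collapsed_of_factorsOver hU, U.2, hsU⟩

/-- for surjective `ξ`, the locus "all points of the fibre go to one point" is the collapsed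
locus. -/
theorem setOf_eq_collapsed {X Y S : Scheme.{u}} (ξ : X ⟶ S) [Surjective ξ] (f : X ⟶ Y) :
    {s : ↥S | ∃ y : ↥Y, ∀ x : ↥X, ξ.base x = s → f.base x = y} = Rigidity.collapsed ξ f := by
  ext s
  constructor
  · rintro ⟨y, hy⟩ x x' hx hx'
    exact (hy x hx).trans (hy x' hx').symm
  · intro hs
    obtain ⟨x0, hx0⟩ := ξ.surjective s
    exact ⟨f x0, fun x hx => hs x x0 hx hx0⟩

end Groth.Agent.R2.H34.CollapsedClopen
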