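import Mathlib
import Groth.Agent.Lib.Helper4NormIso

/-!
# A proper birational morphism from an integral curve onto a normal curve is an isomorphism
(helper34)

* `exists_algebraMap_eq_of_isIntegral_of_mul_eq`: algebra lemma (integrally closed base).
* `isClosed_singleton_of_ne_genericPoint`: in an irreducible space of dimension one, points other
  than the generic point are closed.
* `finite_of_isClosed_of_genericPoint_notMem`: proper closed subsets of a Noetherian irreducible
  one-dimensional sober space are finite.
* `isIso_of_integral_birational`: integral birational morphism of integral schemes with normal target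
  is an isomorphism.
-/

set_option autoImplicit false
set_option linter.style.haveILetI false
universe u

open CategoryTheory AlgebraicGeometry TopologicalSpace

namespace Groth.Agent.R2.H34.CurveIso

section Algebra

variable {A B : Type*} [CommRing A] [IsDomain A] [IsIntegrallyClosed A] [CommRing B] [IsDomain B]
  [Algebra A B]

/-- If `A` is an integrally closed domain, `B ⊇ A` a domain, `b ∈ B` integral over `A` with
`s b = a` for some `a, s ∈ A`, `s ≠ 0`, then `b ∈ A`. -/
theorem exists_algebraMap_eq_of_isIntegral_of_mul_eq
    (hinj : Function.Injective (algebraMap A B)) {b : B} (hb : IsIntegral A b) {a s : A}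
    (hs : s ≠ 0) (h : algebraMap A B s * b = algebraMap A B a) : ∃ a' : A, algebraMap A B a' = b := by
  haveI : FaithfulSMul A B := (faithfulSMul_iff_algebraMap_injective A B).2 hinj
  let K := FractionRing A
  let L := FractionRing B
  letI : Algebra K L := FractionRing.liftAlgebra A L
  haveI : IsScalarTower A K L := FractionRing.isScalarTower_liftAlgebra A L
  have hsK : algebraMap A K s ≠ 0 := by
    rw [Ne, map_eq_zero_iff _ (IsFractionRing.injective A K)]; exact hs
  -- the fraction `a / s`
  set x : K := algebraMap A K a / algebraMap A K s with hx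
  have hxL : algebraMap K L x = algebraMap B L b := by
    have hsL : algebraMap K L (algebraMap A K s) ≠ 0 := by
      rw [Ne, map_eq_zero_iff _ (algebraMap K L).injective]; exact hsK
    have h1 : algebraMap K L (algebraMap A K s) * algebraMap B L b =
        algebraMap K L (algebraMap A K a) := by
      rw [← IsScalarTower.algebraMap_apply A K L, ← IsScalarTower.algebraMap_apply A K L,
        IsScalarTower.algebraMap_apply A B L, IsScalarTower.algebraMap_apply A B L, ← map_mul, h]
    rw [hx, map_div₀, div_eq_iff hsL, mul_comm, h1]
  have hxint : IsIntegral A x := by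
    have h2 : IsIntegral A (algebraMap B L b) := hb.map (IsScalarTower.toAlgHom A B L)
    rw [← hxL] at h2
    exact (isIntegral_algHom_iff (IsScalarTower.toAlgHom A K L) (algebraMap K L).injective).1 h2
  obtain ⟨a', ha'⟩ := IsIntegrallyClosed.isIntegral_iff.1 hxint
  refine ⟨a', ?_⟩
  apply IsFractionRing.injective B L
  rw [← hxL, ← ha', ← IsScalarTower.algebraMap_apply A B L, ← IsScalarTower.algebraMap_apply A K L]

end Algebra

section Topology

variable {X : Type*} [TopologicalSpace X]

/-- In a T0 space of Krull dimension at most one with a generic point `η`, every other point is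
closed. -/
theorem isClosed_singleton_of_ne_genericPoint [T0Space X]
    (hdim : topologicalKrullDim X ≤ 1) {η x : X} (hη : closure {η} = Set.univ) (hx : x ≠ η) :
    IsClosed ({x} : Set X) := by
  by_contra hcl
  have hne : closure ({x} : Set X) ≠ {x} := fun h => hcl (h ▸ isClosed_closure)
  obtain ⟨z, hz, hzx⟩ : ∃ z ∈ closure ({x} : Set X), z ≠ x := by
    by_contra hcon
    push Not at hcon
    apply hne
    apply Set.Subset.antisymm
    · intro z hz
      exact hcon z hz
    · exact subset_closure
  let Z₀ : IrreducibleCloseds X := ⟨closure {z}, isIrreducible_singleton.closure, isClosed_closure⟩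
  let Z₁ : IrreducibleCloseds X := ⟨closure {x}, isIrreducible_singleton.closure, isClosed_closure⟩
  let Z₂ : IrreducibleCloseds X := ⟨closure {η}, isIrreducible_singleton.closure, isClosed_closure⟩
  have h01 : Z₀ < Z₁ := by
    refine lt_of_le_of_ne ?_ ?_
    · show closure {z} ⊆ closure {x}
      exact closure_minimal (Set.singleton_subset_iff.2 hz) isClosed_closure
    · intro h
      have h' : closure ({z} : Set X) = closure {x} := congrArg (fun W : IrreducibleCloseds X => (W : Set X)) h
      have hxz : x ∈ closure ({z} : Set X) := h' ▸ subset_closure rfl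
      have h1 : x ⤳ z := specializes_iff_mem_closure.2 hz
      have h2 : z ⤳ x := specializes_iff_mem_closure.2 hxz
      exact hzx (h2.antisymm h1).eq
  have h12 : Z₁ < Z₂ := by
    refine lt_of_le_of_ne ?_ ?_
    · show closure {x} ⊆ closure {η}
      rw [hη]; exact Set.subset_univ _
    · intro h
      have h' : closure ({x} : Set X) = closure {η} := congrArg (fun W : IrreducibleCloseds X => (W : Set X)) h
      have hηx : η ∈ closure ({x} : Set X) := h' ▸ subset_closure rfl
      have h1 : x ⤳ η := specializes_iff_mem_closure.2 hηx
      have h2 : η ⤳ x := specializes_iff_mem_closure.2 (hη ▸ Set.mem_univ x)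
      exact hx (h1.antisymm h2).eq
  let p : LTSeries (IrreducibleCloseds X) := LTSeries.mk 2 ![Z₀, Z₁, Z₂] (by
    rw [Fin.strictMono_iff_lt_succ]
    intro i
    fin_cases i
    · exact h01
    · exact h12)
  have h2 : ((2 : ℕ) : WithBot ℕ∞) ≤ topologicalKrullDim X := Order.LTSeries.length_le_krullDim p
  have : ((2 : ℕ) : WithBot ℕ∞) ≤ 1 := h2.trans hdim
  exact absurd this (by decide)

/-- Closed subsets avoiding the generic point of a Noetherian sober space of dimension at most one
are finite. -/
theorem finite_of_isClosed_of_genericPoint_notMem [T0Space X] [QuasiSober X] [NoetherianSpace X]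
    (hdim : topologicalKrullDim X ≤ 1) {η : X} (hη : closure {η} = Set.univ) {Z : Set X}
    (hZ : IsClosed Z) (hηZ : η ∉ Z) : Z.Finite := by
  obtain ⟨S, hSfin, hSirr, hZS⟩ :=
    NoetherianSpace.exists_finite_set_closeds_irreducible (⟨Z, hZ⟩ : Closeds X)
  have hZ' : Z = ⋃ t ∈ S, (t : Set X) := by
    have := congrArg (fun W : Closeds X => (W : Set X)) hZS
    have hcl : IsClosed (⋃ a ∈ S, (a : Set X)) := hSfin.isClosed_biUnion fun a _ => a.2
    simpa [Closeds.coe_sSup, hcl.closure_eq] using this
  rw [hZ']
  refine hSfin.biUnion fun t ht => ?_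
  obtain ⟨w, hw⟩ := QuasiSober.sober (hSirr t ht) t.2
  have hwt : w ∈ (t : Set X) := hw.mem
  have hwZ : w ∈ Z := by
    rw [hZ']; exact Set.mem_biUnion ht hwt
  have hwη : w ≠ η := fun h => hηZ (h ▸ hwZ)
  have hcl := isClosed_singleton_of_ne_genericPoint hdim hη hwη
  have : (t : Set X) = {w} := by
    rw [← hw.def, hcl.closure_eq]
  rw [this]
  exact Set.finite_singleton w

end Topology

section Schemes

open MorphismProperty

/-- An integral birational morphism of integral schemes with normal target is an isomorphism. -/
theorem isIso_of_integral_birational {X Y : Scheme.{u}} [IsIntegral X] [IsIntegral Y]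
    (hN : Pi1.IsNormalScheme Y) (f : X ⟶ Y) [IsIntegralHom f]
    (hdom : f.base (genericPoint X) = genericPoint Y)
    (hdeg : IsIso (f.stalkMap (genericPoint X))) : IsIso f := by
  rw [← isomorphisms.iff]
  apply IsZariskiLocalAtTarget.of_iSup_eq_top (P := isomorphisms Scheme)
    (fun U : Y.affineOpens => U.1) (iSup_affineOpens_eq_top Y)
  intro U
  show IsIso (f ∣_ U.1)
  rw [isIso_morphismRestrict_iff_isIso_app f U.2, ConcreteCategory.isIso_iff_bijective]
  by_cases hne : Nonempty U.1
  · -- the generic points
    have hηU : genericPoint Y ∈ U.1 := by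
      obtain ⟨⟨y, hy⟩⟩ := hne
      exact ((genericPoint_spec Y).mem_open_set_iff U.1.2).2 ⟨y, trivial, hy⟩
    have hη'U : f.base (genericPoint X) ∈ U.1 := hdom ▸ hηU
    have hη'V : genericPoint X ∈ f ⁻¹ᵁ U.1 := hη'U
    haveI : Nonempty (f ⁻¹ᵁ U.1) := ⟨⟨_, hη'V⟩⟩
    haveI : IsDomain Γ(Y, U.1) := IsIntegral.component_integral U.1
    haveI : IsDomain Γ(X, f ⁻¹ᵁ U.1) := IsIntegral.component_integral (f ⁻¹ᵁ U.1)
    haveI : IsIntegrallyClosed Γ(Y, U.1) :=
      Groth.Agent.Lib.Helper4.NormIso.isIntegrallyClosed_sections hN U.1 U.2
    letI : Algebra Γ(Y, U.1) Γ(X, f ⁻¹ᵁ U.1) := (f.app U.1).hom.toAlgebra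
    have hstalk_inj : Function.Injective (f.stalkMap (genericPoint X)).hom :=
      ((ConcreteCategory.isIso_iff_bijective _).1 hdeg).1
    have hstalk_surj : Function.Surjective (f.stalkMap (genericPoint X)).hom :=
      ((ConcreteCategory.isIso_iff_bijective _).1 hdeg).2
    have hinj : Function.Injective (f.app U.1).hom := by
      rw [injective_iff_map_eq_zero]
      intro a ha
      have h1 := f.germ_stalkMap_apply U.1 (genericPoint X) hη'U a
      rw [ha, map_zero] at h1
      have h2 : Y.presheaf.germ U.1 (f.base (genericPoint X)) hη'U a = 0 :=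
        hstalk_inj (h1.trans (map_zero _).symm)
      exact germ_injective_of_isIntegral Y _ hη'U (h2.trans (map_zero _).symm)
    refine ⟨hinj, fun b => ?_⟩
    -- write the germ of `b` as a fraction
    obtain ⟨t, ht⟩ := hstalk_surj (X.presheaf.germ (f ⁻¹ᵁ U.1) (genericPoint X) hη'V b)
    letI := TopCat.Presheaf.algebra_section_stalk Y.presheaf
      (⟨f.base (genericPoint X), hη'U⟩ : U.1)
    haveI := U.2.isLocalization_stalk ⟨f.base (genericPoint X), hη'U⟩
    obtain ⟨⟨a, s⟩, hts⟩ := IsLocalization.surj
      (U.2.primeIdealOf ⟨f.base (genericPoint X), hη'U⟩).asIdeal.primeCompl t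
    have hs0 : (s : Γ(Y, U.1)) ≠ 0 := by
      intro h
      exact s.2 (h ▸ Ideal.zero_mem _)
    have hts' : t * Y.presheaf.germ U.1 (f.base (genericPoint X)) hη'U s =
        Y.presheaf.germ U.1 (f.base (genericPoint X)) hη'U a := hts
    have h3 := congrArg (f.stalkMap (genericPoint X)).hom hts'
    rw [map_mul, ht] at h3
    erw [f.germ_stalkMap_apply U.1 (genericPoint X) hη'U s,
      f.germ_stalkMap_apply U.1 (genericPoint X) hη'U a] at h3
    rw [← map_mul] at h3
    have h4 : b * (f.app U.1).hom s = (f.app U.1).hom a :=
      germ_injective_of_isIntegral X _ hη'V h3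
    have hbint : IsIntegral Γ(Y, U.1) b := f.isIntegral_app U.1 U.2 b
    obtain ⟨a', ha'⟩ := exists_algebraMap_eq_of_isIntegral_of_mul_eq (A := Γ(Y, U.1))
      (B := Γ(X, f ⁻¹ᵁ U.1)) hinj hbint hs0 (by rw [mul_comm]; exact h4)
    exact ⟨a', ha'⟩
  · -- empty open
    have hU : U.1 = ⊥ := by
      ext x
      simp only [TopologicalSpace.Opens.coe_bot, Set.mem_empty_iff_false, iff_false]
      exact fun hx => hne ⟨⟨x, hx⟩⟩
    haveI : Subsingleton Γ(Y, U.1) := by rw [hU]; infer_instance
    haveI : Subsingleton Γ(X, f ⁻¹ᵁ U.1) := by
      rw [hU]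
      show Subsingleton Γ(X, ⊥)
      infer_instance
    exact ⟨fun a b _ => Subsingleton.elim a b, fun b => ⟨0, Subsingleton.elim _ _⟩⟩

end Schemes

section Curves

/-- fibres of a closed dominant map between integral one-dimensional schemes, with Noetherian source,
are finite. -/
theorem finite_preimage_singleton {C' C : Scheme.{u}} [IsIntegral C'] [IsIntegral C]
    [IsNoetherian C'] (f : C' ⟶ C) (h1' : topologicalKrullDim C' = 1)
    (h1 : topologicalKrullDim C = 1) (hcl : IsClosedMap f.base)
    (hdom : f.base (genericPoint C') = genericPoint C) (y : C) : (f.base ⁻¹' {y}).Finite := by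
  have hη' : closure ({genericPoint C'} : Set C') = Set.univ := (genericPoint_spec C').def
  have hη : closure ({genericPoint C} : Set C) = Set.univ := (genericPoint_spec C).def
  by_cases hy : y = genericPoint C
  · subst hy
    refine (Set.finite_singleton (genericPoint C')).subset ?_
    intro x' hx'
    rw [Set.mem_singleton_iff]
    by_contra hne
    have hx'cl : IsClosed ({x'} : Set C') :=
      isClosed_singleton_of_ne_genericPoint h1'.le hη' hne
    have hcl' : IsClosed ({genericPoint C} : Set C) := by
      have := hcl _ hx'cl
      rwa [Set.image_singleton, hx'] at this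
    have huniv : (Set.univ : Set C) = {genericPoint C} := by rw [← hη, hcl'.closure_eq]
    haveI : Subsingleton C := by
      refine ⟨fun a b => ?_⟩
      have ha : a ∈ ({genericPoint C} : Set C) := huniv ▸ Set.mem_univ a
      have hb : b ∈ ({genericPoint C} : Set C) := huniv ▸ Set.mem_univ b
      rw [Set.mem_singleton_iff] at ha hb
      rw [ha, hb]
    haveI : Subsingleton (IrreducibleCloseds C) := by
      refine ⟨fun Z W => ?_⟩
      apply IrreducibleCloseds.ext
      obtain ⟨z, hz⟩ := Z.isIrreducible.nonempty
      obtain ⟨w, hw⟩ := W.isIrreducible.nonempty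
      ext c
      constructor
      · intro _; rw [Subsingleton.elim c w]; exact hw
      · intro _; rw [Subsingleton.elim c z]; exact hz
    have : topologicalKrullDim C ≤ 0 := Order.krullDim_nonpos_of_subsingleton
    rw [h1] at this
    exact absurd this (by decide)
  · have hZ : IsClosed (f.base ⁻¹' closure {y}) := isClosed_closure.preimage f.continuous
    have hηZ : genericPoint C' ∉ f.base ⁻¹' closure {y} := by
      intro h
      have h' : genericPoint C ∈ closure ({y} : Set C) := hdom ▸ h
      have h1 : y ⤳ genericPoint C := specializes_iff_mem_closure.2 h'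
      have h2 : genericPoint C ⤳ y := genericPoint_specializes y
      exact hy (h1.antisymm h2).eq
    exact (finite_of_isClosed_of_genericPoint_notMem h1'.le hη' hZ hηZ).subset
      (Set.preimage_mono subset_closure)

/-- A proper birational morphism from an integral curve to a normal curve over a field is an
isomorphism. -/
theorem isIso_of_curves (k : Type u) [Field k] {C' C : Scheme.{u}}
    (p' : C' ⟶ Spec (CommRingCat.of k)) (p : C ⟶ Spec (CommRingCat.of k))
    [IsIntegral C'] [IsProper p'] (h1' : topologicalKrullDim C' = 1)
    [IsIntegral C] [IsSeparated p] (h1 : topologicalKrullDim C = 1)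
    (hN : Pi1.IsNormalScheme C) (f : C' ⟶ C) (hf : f ≫ p = p')
    (hdom : f.base (genericPoint C') = genericPoint C)
    (hdeg : IsIso (f.stalkMap (genericPoint C'))) : IsIso f := by
  haveI : IsProper (f ≫ p) := hf ▸ inferInstance
  haveI : IsProper f := IsProper.of_comp f p
  haveI : IsLocallyNoetherian C' := LocallyOfFiniteType.isLocallyNoetherian p'
  haveI : CompactSpace C' := (quasiCompact_iff_compactSpace p').mp inferInstance
  haveI : IsNoetherian C' := {}
  haveI : LocallyQuasiFinite f :=
    LocallyQuasiFinite.of_finite_preimage_singleton f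
      (finite_preimage_singleton f h1' h1 f.isClosedMap hdom)
  haveI : IsFinite f := IsFinite.of_isProper_of_locallyQuasiFinite f
  exact isIso_of_integral_birational hN f hdom hdeg

end Curves

end Groth.Agent.R2.H34.CurveIso
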