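import Mathlib

/-!
# Flatness of a quotient `P / φ(P)` (helper34)

`flat_of_exact`: let `P` be a flat `A`-module, `φ : P → P` linear, `q : P → Q` surjective with
`ker q = range φ`.  If for every ideal `I`, `φ z ∈ I P → z ∈ I P`, then `Q` is flat.
-/

set_option autoImplicit false

namespace Groth.Agent.R2.H34.FlatQuot

open TensorProduct LinearMap

variable {A : Type*} [CommRing A] {P Q : Type*} [AddCommGroup P] [Module A P]
  [AddCommGroup Q] [Module A Q]

/-- The multiplication map `I ⊗ M → M`. -/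
noncomputable abbrev mu (I : Ideal A) (M : Type*) [AddCommGroup M] [Module A M] : I ⊗[A] M →ₗ[A] M :=
  TensorProduct.lift ((lsmul A M).comp I.subtype)

theorem mu_tmul (I : Ideal A) (M : Type*) [AddCommGroup M] [Module A M] (i : I) (x : M) :
    mu I M (i ⊗ₜ x) = (i : A) • x := by
  simp [mu]

theorem mu_mem (I : Ideal A) (M : Type*) [AddCommGroup M] [Module A M] (y : I ⊗[A] M) :
    mu I M y ∈ (I • ⊤ : Submodule A M) := by
  induction y using TensorProduct.induction_on with
  | zero => simp
  | tmul i x => rw [mu_tmul]; exact Submodule.smul_mem_smul i.2 trivial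
  | add a b ha hb => rw [map_add]; exact Submodule.add_mem _ ha hb

theorem exists_mu_eq (I : Ideal A) (M : Type*) [AddCommGroup M] [Module A M] (z : M)
    (hz : z ∈ (I • ⊤ : Submodule A M)) : ∃ w : I ⊗[A] M, mu I M w = z := by
  refine Submodule.smul_induction_on hz ?_ ?_
  · intro i hi x _
    exact ⟨(⟨i, hi⟩ : I) ⊗ₜ x, by rw [mu_tmul]⟩
  · rintro x y ⟨w1, rfl⟩ ⟨w2, rfl⟩
    exact ⟨w1 + w2, map_add _ _ _⟩

theorem mu_naturality (I : Ideal A) {M N : Type*} [AddCommGroup M] [Module A M] [AddCommGroup N]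
    [Module A N] (g : M →ₗ[A] N) (y : I ⊗[A] M) : mu I N (lTensor I g y) = g (mu I M y) := by
  induction y using TensorProduct.induction_on with
  | zero => simp
  | tmul i x => simp [mu]
  | add a b ha hb => simp only [map_add, ha, hb]

theorem flat_of_exact [Module.Flat A P] (φ : P →ₗ[A] P) (q : P →ₗ[A] Q)
    (hq : Function.Surjective q) (hex : Function.Exact φ q)
    (h : ∀ (I : Ideal A) (z : P), φ z ∈ (I • ⊤ : Submodule A P) → z ∈ (I • ⊤ : Submodule A P)) :
    Module.Flat A Q := by
  rw [Module.Flat.iff_lift_lsmul_comp_subtype_injective]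
  intro I _
  rw [injective_iff_map_eq_zero]
  intro x hx
  change mu I Q x = 0 at hx
  obtain ⟨y, rfl⟩ := LinearMap.lTensor_surjective I hq x
  rw [mu_naturality] at hx
  obtain ⟨z, hz⟩ := (hex (mu I P y)).mp hx
  have hz' : z ∈ (I • ⊤ : Submodule A P) := h I z (hz ▸ mu_mem I P y)
  obtain ⟨w, rfl⟩ := exists_mu_eq I P z hz'
  have hinj : Function.Injective (mu I P) :=
    (Module.Flat.iff_lift_lsmul_comp_subtype_injective.mp ‹Module.Flat A P›) (I := I)
      (by assumption)
  have hy : y = lTensor I φ w := by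
    apply hinj
    rw [mu_naturality, hz]
  rw [hy, ← LinearMap.comp_apply, ← LinearMap.lTensor_comp]
  have : q ∘ₗ φ = 0 := by
    ext p
    exact (hex (φ p)).mpr ⟨p, rfl⟩
  rw [this, LinearMap.lTensor_zero, LinearMap.zero_apply]

end Groth.Agent.R2.H34.FlatQuot
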