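import Mathlib

/-!
# Generic étaleness and separability of the function field extension (helper34)

For a dominant morphism `f : X ⟶ Y` of integral schemes, locally of finite type, with
`e : f ξ_X = ξ_Y`, the function field `K(X)` is a `K(Y)`-algebra via
`stalkSpecializes ≫ f.stalkMap ξ_X`.

* `isSeparable_of_formallyUnramified`: if `f` is formally unramified on a nonempty open of `X`,
  then `K(X)/K(Y)` is separable.
* `exists_etale_of_isSeparable`: if `Y` is locally Noetherian and `K(X)/K(Y)` is separable then `f`
  is étale on a nonempty open of `X`.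
-/

set_option autoImplicit false
set_option linter.style.haveILetI false

universe u

open AlgebraicGeometry CategoryTheory TopologicalSpace Opposite

namespace Groth.Agent.R2.H34.GenEtale

variable {X Y : Scheme.{u}}

/-- The algebra structure `K(Y) → K(X)`. -/
noncomputable abbrev ffAlgebra [IrreducibleSpace X] [IrreducibleSpace Y] (f : X ⟶ Y)
    (e : f (genericPoint X) = genericPoint Y) : Algebra Y.functionField X.functionField :=
  ((Y.presheaf.stalkSpecializes (specializes_of_eq e) ≫ f.stalkMap (genericPoint X)).hom).toAlgebra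

theorem isIso_stalkSpecializes_of_eq (Y : Scheme.{u}) {x y : Y} (h : x = y) :
    IsIso (Y.presheaf.stalkSpecializes (specializes_of_eq h)) :=
  (Y.presheaf.stalkCongr (Inseparable.of_eq h.symm)).isIso_hom

/-- from an étale ring map on affine opens to an étale morphism. -/
theorem etale_ι_comp_of_appLE (f : X ⟶ Y) {V : Y.Opens} (hV : IsAffineOpen V) {U : X.Opens}
    (hU : IsAffineOpen U) (e : U ≤ f ⁻¹ᵁ V) (h : (f.appLE V U e).hom.Etale) :
    Etale (U.ι ≫ f) := by
  rw [← Scheme.Hom.resLE_comp_ι f e]
  haveI : Etale (f.resLE V U e) := by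
    haveI : IsAffine U.toScheme := hU
    haveI : IsAffine V.toScheme := hV
    rw [HasRingHomProperty.iff_of_isAffine (P := @Etale)]
    exact (RingHom.Etale.respectsIso.arrow_mk_iso_iff (arrowResLEAppIso f V U e)).mpr h
  infer_instance

section Unram

variable [IsIntegral X] [IsIntegral Y]

theorem isSeparable_of_formallyUnramified (f : X ⟶ Y) [LocallyOfFiniteType f]
    (e : f (genericPoint X) = genericPoint Y) (U : X.Opens) (hU : (U : Set X).Nonempty)
    (h : FormallyUnramified (U.ι ≫ f)) :
    letI := ffAlgebra f e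
    Algebra.IsSeparable Y.functionField X.functionField := by
  letI alg := ffAlgebra f e
  have hξU : genericPoint X ∈ U :=
    ((genericPoint_spec X).mem_open_set_iff U.isOpen).mpr (by simpa [Set.univ_inter] using hU)
  let u : U.toScheme := ⟨genericPoint X, hξU⟩
  have h1 : ((U.ι ≫ f).stalkMap u).hom.FormallyUnramified :=
    FormallyUnramified.stalkMap (U.ι ≫ f) u
  rw [Scheme.Hom.stalkMap_comp] at h1
  have h2 : (f.stalkMap (genericPoint X)).hom.FormallyUnramified :=
    (RingHom.FormallyUnramified.respectsIso.cancel_right_isIso (f.stalkMap (U.ι u))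
      (U.ι.stalkMap u)).mp h1
  haveI hiso := isIso_stalkSpecializes_of_eq Y e
  have h3 : (Y.presheaf.stalkSpecializes (specializes_of_eq e) ≫
      f.stalkMap (genericPoint X)).hom.FormallyUnramified :=
    (RingHom.FormallyUnramified.respectsIso.cancel_left_isIso
      (Y.presheaf.stalkSpecializes (specializes_of_eq e)) (f.stalkMap (genericPoint X))).mpr h2
  have h4 : (f.stalkMap (genericPoint X)).hom.EssFiniteType := LocallyOfFiniteType.stalkMap f _
  have h5 : (Y.presheaf.stalkSpecializes (specializes_of_eq e) ≫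
      f.stalkMap (genericPoint X)).hom.EssFiniteType :=
    (RingHom.EssFiniteType.respectsIso.cancel_left_isIso
      (Y.presheaf.stalkSpecializes (specializes_of_eq e)) (f.stalkMap (genericPoint X))).mpr h4
  haveI : Algebra.FormallyUnramified Y.functionField X.functionField := by
    rw [← RingHom.formallyUnramified_algebraMap, RingHom.algebraMap_toAlgebra]
    exact h3
  haveI : Algebra.EssFiniteType Y.functionField X.functionField := by
    rw [← RingHom.essFiniteType_algebraMap, RingHom.algebraMap_toAlgebra]
    exact h5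
  exact Algebra.FormallyUnramified.isSeparable Y.functionField X.functionField

end Unram

section Sep

variable [IsIntegral X] [IsIntegral Y]

/-- compatibility of `K(Y) → K(X)` with the coordinate ring map of affine opens. -/
theorem ffAlgebra_germ (f : X ⟶ Y) (e : f (genericPoint X) = genericPoint Y)
    {V : Y.Opens} {W : X.Opens} (hWV : W ≤ f ⁻¹ᵁ V) [Nonempty V] [Nonempty W] (r : Γ(Y, V)) :
    letI := ffAlgebra f e
    algebraMap Y.functionField X.functionField (Y.germToFunctionField V r) =
      X.germToFunctionField W (f.appLE V W hWV r) := by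
  letI alg := ffAlgebra f e
  have hξV : genericPoint Y ∈ V :=
    ((genericPoint_spec Y).mem_open_set_iff V.isOpen).mpr (by simpa using ‹Nonempty V›)
  have hξW : genericPoint X ∈ W :=
    ((genericPoint_spec X).mem_open_set_iff W.isOpen).mpr (by simpa using ‹Nonempty W›)
  have hfξ : f (genericPoint X) ∈ V := hWV hξW
  have key : Y.presheaf.germ V (genericPoint Y) hξV ≫
      (Y.presheaf.stalkSpecializes (specializes_of_eq e) ≫ f.stalkMap (genericPoint X)) =
      f.appLE V W hWV ≫ X.presheaf.germ W (genericPoint X) hξW := by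
    rw [← Category.assoc, TopCat.Presheaf.germ_stalkSpecializes, Scheme.Hom.germ_stalkMap,
      Scheme.Hom.appLE, Category.assoc, TopCat.Presheaf.germ_res]
  exact congrArg (fun g => g.hom r) key

theorem exists_etale_of_isSeparable [IsLocallyNoetherian Y] (f : X ⟶ Y) [LocallyOfFiniteType f]
    (e : f (genericPoint X) = genericPoint Y)
    (h : letI := ffAlgebra f e; Algebra.IsSeparable Y.functionField X.functionField) :
    ∃ U : X.Opens, (U : Set X).Nonempty ∧ Etale (U.ι ≫ f) := by
  letI alg := ffAlgebra f e
  haveI : Algebra.IsSeparable Y.functionField X.functionField := h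
  -- affine opens
  obtain ⟨V, hV, hξV, -⟩ :=
    exists_isAffineOpen_mem_and_subset (U := ⊤) (x := genericPoint Y) trivial
  have hfξ : genericPoint X ∈ f ⁻¹ᵁ V := by
    change f (genericPoint X) ∈ V
    rw [e]; exact hξV
  obtain ⟨W, hW, hξW, hWV0⟩ :=
    exists_isAffineOpen_mem_and_subset (U := f ⁻¹ᵁ V) (x := genericPoint X) hfξ
  have hWV : W ≤ f ⁻¹ᵁ V := hWV0
  haveI : Nonempty V := ⟨⟨_, hξV⟩⟩
  haveI : Nonempty W := ⟨⟨_, hξW⟩⟩
  haveI : IsNoetherianRing Γ(Y, V) := IsLocallyNoetherian.component_noetherian ⟨V, hV⟩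
  haveI : IsFractionRing Γ(Y, V) Y.functionField :=
    functionField_isFractionRing_of_isAffineOpen Y V hV
  haveI : IsFractionRing Γ(X, W) X.functionField :=
    functionField_isFractionRing_of_isAffineOpen X W hW
  -- algebra structures
  letI algRA : Algebra Γ(Y, V) Γ(X, W) := (f.appLE V W hWV).hom.toAlgebra
  letI algRK : Algebra Γ(Y, V) X.functionField :=
    ((algebraMap Γ(X, W) X.functionField).comp (algebraMap Γ(Y, V) Γ(X, W))).toAlgebra
  haveI : IsScalarTower Γ(Y, V) Γ(X, W) X.functionField := IsScalarTower.of_algebraMap_eq' rfl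
  haveI : IsScalarTower Γ(Y, V) Y.functionField X.functionField := by
    refine IsScalarTower.of_algebraMap_eq fun r => ?_
    exact (ffAlgebra_germ f e hWV r).symm
  haveI : Algebra.FiniteType Γ(Y, V) Γ(X, W) := f.finiteType_appLE hV hW hWV
  haveI : Algebra.FinitePresentation Γ(Y, V) Γ(X, W) :=
    Algebra.FinitePresentation.of_finiteType.mp inferInstance
  -- formally étale at the generic point
  haveI : Algebra.FormallyEtale Γ(Y, V) Y.functionField :=
    Algebra.FormallyEtale.of_isLocalization (nonZeroDivisors Γ(Y, V))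
  haveI : Algebra.FormallyEtale Y.functionField X.functionField :=
    Algebra.FormallyEtale.of_isSeparable _ _
  haveI : Algebra.FormallyEtale Γ(Y, V) X.functionField :=
    Algebra.FormallyEtale.comp Γ(Y, V) Y.functionField X.functionField
  have hM : (⊥ : Ideal Γ(X, W)).primeCompl = nonZeroDivisors Γ(X, W) := by
    ext a
    simp [Ideal.primeCompl, mem_nonZeroDivisors_iff_ne_zero]
  haveI : IsLocalization (⊥ : Ideal Γ(X, W)).primeCompl X.functionField := by
    rw [hM]; infer_instance
  let eq1 : X.functionField ≃ₐ[Γ(X, W)] Localization.AtPrime (⊥ : Ideal Γ(X, W)) :=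
    IsLocalization.algEquiv (⊥ : Ideal Γ(X, W)).primeCompl _ _
  haveI : Algebra.IsEtaleAt Γ(Y, V) (⊥ : Ideal Γ(X, W)) :=
    Algebra.FormallyEtale.of_equiv (eq1.restrictScalars Γ(Y, V))
  obtain ⟨g, hg, hgE⟩ := Algebra.exists_etale_of_isEtaleAt (R := Γ(Y, V)) (⊥ : Ideal Γ(X, W))
  -- the basic open
  have hUW : X.basicOpen g ≤ W := X.basicOpen_le g
  have hU : IsAffineOpen (X.basicOpen g) := hW.basicOpen g
  haveI : IsLocalization.Away g Γ(X, X.basicOpen g) := hW.isLocalization_basicOpen g
  letI algRU : Algebra Γ(Y, V) Γ(X, X.basicOpen g) :=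
    (f.appLE V (X.basicOpen g) (hUW.trans hWV)).hom.toAlgebra
  haveI : IsScalarTower Γ(Y, V) Γ(X, W) Γ(X, X.basicOpen g) := by
    refine IsScalarTower.of_algebraMap_eq' ?_
    change (f.appLE V (X.basicOpen g) (hUW.trans hWV)).hom =
      (X.presheaf.map (homOfLE hUW).op).hom.comp (f.appLE V W hWV).hom
    rw [← CommRingCat.hom_comp, Scheme.Hom.appLE_map]
  let eq2 : Localization.Away g ≃ₐ[Γ(X, W)] Γ(X, X.basicOpen g) :=
    IsLocalization.algEquiv (Submonoid.powers g) _ _
  haveI : Algebra.Etale Γ(Y, V) Γ(X, X.basicOpen g) :=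
    Algebra.Etale.of_equiv (eq2.restrictScalars Γ(Y, V))
  refine ⟨X.basicOpen g, ?_, etale_ι_comp_of_appLE f hV hU (hUW.trans hWV) ?_⟩
  · refine ⟨genericPoint X, ?_⟩
    exact ((genericPoint_spec X).mem_open_set_iff (X.basicOpen g).isOpen).mpr (by
      rw [Set.univ_inter]
      by_contra hemp
      rw [Set.not_nonempty_iff_eq_empty] at hemp
      have h0 : X.basicOpen g = ⊥ := by
        ext x
        simp only [Opens.coe_bot, Set.mem_empty_iff_false, iff_false]
        intro hx
        have : x ∈ (X.basicOpen g : Set X) := hx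
        rw [hemp] at this
        exact this
      rw [AlgebraicGeometry.basicOpen_eq_bot_iff] at h0
      exact hg (by simpa using h0))
  · exact ‹Algebra.Etale Γ(Y, V) Γ(X, X.basicOpen g)›

end Sep

end Groth.Agent.R2.H34.GenEtale
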