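import Groth.Agent.Lib.Helper6RatPt
import Mathlib

/-!
# Generic smoothness over a perfect function field (helper34)

* `IsConstructible.nhd_generic`, `IsLocallyConstructible.exists_open_disjoint`: a (locally)
  constructible set not containing the generic point misses an open neighbourhood of it.
* `isLocallyConstructible_of_isClosed`: closed sets in locally Noetherian spaces are locally
  constructible.
* `mem_smoothLocus_of_map_eq_genericPoint`: points over the generic point are smooth points
  (regular source, perfect function field).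
* `exists_dense_open_smooth`: generic smoothness.
-/

set_option autoImplicit false
set_option linter.style.haveILetI false
universe u
open CategoryTheory CategoryTheory.Limits AlgebraicGeometry Topology TopologicalSpace

namespace Groth.Agent.R2.H34.GenSmooth

section top

variable {T : Type*} [TopologicalSpace T]

/-- In a space with a generic point `η`, a constructible set or its complement contains an open
neighbourhood of `η`. -/
theorem IsConstructible.nhd_generic {η : T} (hη : ∀ O : Set T, IsOpen O → O.Nonempty → η ∈ O)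
    {s : Set T} (hs : IsConstructible s) :
    (η ∈ s → ∃ O : Set T, IsOpen O ∧ η ∈ O ∧ O ⊆ s) ∧
      (η ∉ s → ∃ O : Set T, IsOpen O ∧ η ∈ O ∧ Disjoint O s) := by
  induction hs using IsConstructible.empty_union_induction with
  | open_retrocompact U hUopen hUcomp =>
    refine ⟨fun h => ⟨U, hUopen, h, subset_rfl⟩, fun h => ⟨Set.univ, isOpen_univ, trivial, ?_⟩⟩
    rw [Set.univ_disjoint]
    by_contra hne
    exact h (hη U hUopen (Set.nonempty_iff_ne_empty.2 hne))
  | union s hs t ht ihs iht =>
    constructor
    · rintro (h | h)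
      · obtain ⟨O, h1, h2, h3⟩ := ihs.1 h
        exact ⟨O, h1, h2, h3.trans Set.subset_union_left⟩
      · obtain ⟨O, h1, h2, h3⟩ := iht.1 h
        exact ⟨O, h1, h2, h3.trans Set.subset_union_right⟩
    · intro h
      rw [Set.mem_union, not_or] at h
      obtain ⟨O, h1, h2, h3⟩ := ihs.2 h.1
      obtain ⟨O', h1', h2', h3'⟩ := iht.2 h.2
      refine ⟨O ∩ O', h1.inter h1', ⟨h2, h2'⟩, ?_⟩
      rw [Set.disjoint_union_right]
      exact ⟨h3.mono_left Set.inter_subset_left, h3'.mono_left Set.inter_subset_right⟩
  | compl s hs ih =>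
    constructor
    · intro h
      obtain ⟨O, h1, h2, h3⟩ := ih.2 h
      exact ⟨O, h1, h2, h3.subset_compl_right⟩
    · intro h
      rw [Set.mem_compl_iff, not_not] at h
      obtain ⟨O, h1, h2, h3⟩ := ih.1 h
      exact ⟨O, h1, h2, Set.disjoint_compl_right_iff_subset.2 h3⟩

/-- In a space with a generic point `η`, a locally constructible set not containing `η` misses an
open neighbourhood of `η`. -/
theorem IsLocallyConstructible.exists_open_disjoint {η : T}
    (hη : ∀ O : Set T, IsOpen O → O.Nonempty → η ∈ O)
    {s : Set T} (hs : IsLocallyConstructible s) (h : η ∉ s) :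
    ∃ O : Set T, IsOpen O ∧ η ∈ O ∧ Disjoint O s := by
  obtain ⟨U, hU, hUopen, hUs⟩ := hs η
  have hηU : η ∈ U := mem_of_mem_nhds hU
  let η' : U := ⟨η, hηU⟩
  have hη' : ∀ O : Set U, IsOpen O → O.Nonempty → η' ∈ O := by
    intro O hO hne
    have h1 : IsOpen (Subtype.val '' O) := hUopen.isOpenMap_subtype_val O hO
    have h2 := hη _ h1 (hne.image _)
    obtain ⟨y, hy, hyη⟩ := h2
    have : y = η' := Subtype.ext hyη
    rwa [← this]
  obtain ⟨O, hO1, hO2, hO3⟩ := (IsConstructible.nhd_generic hη' hUs).2 h
  refine ⟨Subtype.val '' O, hUopen.isOpenMap_subtype_val O hO1, ⟨η', hO2, rfl⟩, ?_⟩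
  rw [Set.disjoint_left]
  rintro _ ⟨y, hy, rfl⟩ hys
  exact Set.disjoint_left.1 hO3 hy hys

/-- closed subsets of a space covered by Noetherian open subspaces are locally constructible -/
theorem isLocallyConstructible_of_isClosed {Z : Set T} (hZ : IsClosed Z)
    (hcov : ∀ x : T, ∃ U : Set T, IsOpen U ∧ x ∈ U ∧ NoetherianSpace U) :
    IsLocallyConstructible Z := by
  intro x
  obtain ⟨U, hUopen, hxU, hN⟩ := hcov x
  refine ⟨U, hUopen.mem_nhds hxU, hUopen, ?_⟩
  rw [← isConstructible_compl]
  have hopen : IsOpen ((Subtype.val : U → T) ⁻¹' Z)ᶜ :=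
    (hZ.preimage continuous_subtype_val).isOpen_compl
  refine IsRetrocompact.isConstructible hopen ?_
  intro V _ _
  exact NoetherianSpace.isCompact _

end top


/-- points of the generic fibre of a morphism from a regular scheme to an integral scheme with
perfect function field are smooth points -/
theorem mem_smoothLocus_of_map_eq_genericPoint (X Y : Scheme.{u}) [IsIntegral Y]
    (f : X ⟶ Y) [LocallyOfFinitePresentation f] [PerfectField Y.functionField]
    (x : X) (hreg : IsRegularLocalRing (X.presheaf.stalk x)) (hx : f x = genericPoint Y) :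
    x ∈ f.smoothLocus := by
  rw [Scheme.Hom.mem_smoothLocus]
  have hess := LocallyOfFiniteType.stalkMap f x
  let e : Y.presheaf.stalk (f x) ≃+* Y.functionField :=
    (Y.presheaf.stalkCongr (.of_eq hx)).commRingCatIsoToRingEquiv
  letI : Field (Y.presheaf.stalk (f x)) := (e.toMulEquiv.isField (Field.toIsField _)).toField
  letI : Algebra Y.functionField (Y.presheaf.stalk (f x)) := e.symm.toRingHom.toAlgebra
  haveI : Algebra.IsIntegral Y.functionField (Y.presheaf.stalk (f x)) :=
    Algebra.isIntegral_of_surjective e.symm.surjective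
  haveI : PerfectField (Y.presheaf.stalk (f x)) :=
    Algebra.IsAlgebraic.perfectField (K := Y.functionField)
  algebraize [(f.stalkMap x).hom]
  exact Groth.Agent.Lib.Helper6.RatPt.formallySmooth_of_isRegularLocalRing_of_perfectField
    (Y.presheaf.stalk (f x)) (X.presheaf.stalk x)


/-- **Generic smoothness**: a dominant quasi-compact morphism locally of finite presentation from
a regular scheme to an integral scheme with perfect function field is smooth over a dense open. -/
theorem exists_dense_open_smooth (X Y : Scheme.{u}) [IsIntegral Y]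
    [IsLocallyNoetherian X] (hreg : ∀ x : X, IsRegularLocalRing (X.presheaf.stalk x))
    (f : X ⟶ Y) [LocallyOfFinitePresentation f] [QuasiCompact f]
    [PerfectField Y.functionField] :
    ∃ V : Y.Opens, Dense (V : Set Y) ∧ Smooth (f ∣_ V) := by
  -- the non-smooth locus
  have hZcl : IsClosed ((f.smoothLocus : Set X)ᶜ) := f.smoothLocus.2.isClosed_compl
  have hZlc : IsLocallyConstructible ((f.smoothLocus : Set X)ᶜ) := by
    refine isLocallyConstructible_of_isClosed hZcl fun x => ?_
    obtain ⟨W, hW, hxW, -⟩ := exists_isAffineOpen_mem_and_subset (X := X) (x := x) (U := ⊤) trivial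
    haveI : IsNoetherianRing Γ(X, W) := IsLocallyNoetherian.component_noetherian ⟨W, hW⟩
    exact ⟨W, W.2, hxW, noetherianSpace_of_isAffineOpen W hW⟩
  have hC := f.isLocallyConstructible_image hZlc
  have hη : ∀ O : Set Y, IsOpen O → O.Nonempty → genericPoint Y ∈ O := by
    intro O hO hne
    exact ((genericPoint_spec Y).mem_open_set_iff hO).2 (by rwa [Set.univ_inter])
  have hηC : genericPoint Y ∉ f '' ((f.smoothLocus : Set X)ᶜ) := by
    rintro ⟨x, hx, hfx⟩
    exact hx (mem_smoothLocus_of_map_eq_genericPoint X Y f x (hreg x) hfx)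
  obtain ⟨O, hO, hηO, hdisj⟩ := IsLocallyConstructible.exists_open_disjoint hη hC hηC
  refine ⟨⟨O, hO⟩, ?_, ?_⟩
  · have h1 : closure {genericPoint Y} = Set.univ := genericPoint_spec Y
    rw [dense_iff_closure_eq, ← Set.univ_subset_iff, ← h1]
    exact closure_mono (Set.singleton_subset_iff.2 hηO)
  · rw [← Scheme.Hom.smoothLocus_eq_top_iff, eq_top_iff]
    rintro x' -
    have hx' : (x'.1 : X) ∈ f.smoothLocus := by
      by_contra hcon
      have h1 : f x'.1 ∈ O := x'.2
      exact Set.disjoint_left.1 hdisj h1 ⟨x'.1, hcon, rfl⟩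
    rw [Scheme.Hom.mem_smoothLocus] at hx' ⊢
    exact (RingHom.FormallySmooth.respectsIso.arrow_mk_iso_iff
      (morphismRestrictStalkMap f ⟨O, hO⟩ x')).2 hx'

end Groth.Agent.R2.H34.GenSmooth
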