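import Mathlib
import Groth.Agent.R2.H34PInsepGlue
import Groth.Agent.Lib.Helper6SmGeom

/-!
# helper34: `(X_{k'})_red` is geometrically reduced for a suitable finite purely inseparable `k'/k`

For `f : X ⟶ Spec k` locally of finite type with `X` having finitely many irreducible components
(no quasi-compactness), `exists_geometricallyReduced_red` produces a finite purely inseparable
extension `k'/k` such that the reduction of `X ×_k k'` is geometrically reduced over `k'` (S1629).

* `exists_dense_isAffineOpen_of_finite`: finitely many irreducible components ⇒ a dense affine open;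
* `main_of_dense_affine`: `PInsepGlue.main` (S2769) for a given dense affine open;
* `exists_iso_of_surjective_closedImmersions`: uniqueness of the reduced closed subscheme structure
  with full support;
* `geometricallyReduced_of_dense_smooth`: reduced, locally Noetherian, smooth over `k'` on a dense
  open ⇒ geometrically reduced (flat base change of scheme-theoretic dominance, Mathlib);
* `isReduced_nilradical_subscheme`, `surjective_nilradical_subschemeι`;
* `geometricallyReduced_red_of_dense_smooth`, `exists_geometricallyReduced_red`.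
-/

set_option autoImplicit false
set_option linter.style.haveILetI false
universe u

open CategoryTheory CategoryTheory.Limits AlgebraicGeometry Opposite TensorProduct TopologicalSpace

namespace Groth.Agent.R2.H34.PInsepGeomRed

open Groth.Agent.R2.H34.PInsepGlue Groth.Agent.R2.H34

/-- A scheme with finitely many irreducible components has a dense affine open subscheme. -/
theorem exists_dense_isAffineOpen_of_finite (X : Scheme.{u})
    (hirr : (irreducibleComponents X).Finite) :
    ∃ U : X.Opens, IsAffineOpen U ∧ Dense (U : Set X) := by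
  classical
  haveI : Finite (irreducibleComponents X) := hirr.to_subtype
  -- generic points
  have hgen : ∀ Z : irreducibleComponents X, ∃ ξ : X, IsGenericPoint ξ (Z : Set X) := fun Z =>
    ⟨Z.2.1.genericPoint, Z.2.1.isGenericPoint_genericPoint
      (isClosed_of_mem_irreducibleComponents _ Z.2)⟩
  choose ξ hξ using hgen
  -- the complement of the other components
  let O : irreducibleComponents X → Set X := fun Z =>
    (⋃ Z' ∈ {Z' : irreducibleComponents X | Z' ≠ Z}, (Z' : Set X))ᶜ
  have hOopen : ∀ Z, IsOpen (O Z) := by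
    intro Z
    apply isOpen_compl_iff.2
    exact Set.Finite.isClosed_biUnion (Set.toFinite _)
      (fun Z' _ => isClosed_of_mem_irreducibleComponents _ Z'.2)
  have hOsub : ∀ Z (x : X), x ∈ O Z → ∀ Z' : irreducibleComponents X, x ∈ (Z' : Set X) → Z' = Z := by
    intro Z x hx Z' hxZ'
    by_contra hne
    apply hx
    simp only [Set.mem_iUnion]
    exact ⟨Z', hne, hxZ'⟩
  have hξO : ∀ Z, ξ Z ∈ O Z := by
    intro Z hmem
    simp only [Set.mem_iUnion] at hmem
    obtain ⟨Z', hne, hZ'⟩ := hmem
    apply hne
    -- `Z ⊆ Z'` hence equal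
    have hsub : (Z : Set X) ⊆ (Z' : Set X) := by
      rw [← (hξ Z).def]
      exact (isClosed_of_mem_irreducibleComponents _ Z'.2).closure_subset_iff.2
        (Set.singleton_subset_iff.2 hZ')
    exact Subtype.ext (Set.Subset.antisymm (Z.2.2 Z'.2.1 hsub) hsub)
  -- affine neighbourhoods of the generic points
  have hV : ∀ Z : irreducibleComponents X, ∃ V : X.Opens, IsAffineOpen V ∧ ξ Z ∈ V ∧
      (V : Set X) ⊆ O Z := by
    intro Z
    obtain ⟨_, ⟨V, hV, rfl⟩, hξV, hVO⟩ :=
      X.isBasis_affineOpens.exists_subset_of_mem_open (hξO Z) (hOopen Z)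
    exact ⟨V, hV, hξV, hVO⟩
  choose V hVaff hξV hVO using hV
  refine ⟨iSup V, IsAffineOpen.iSup_of_disjoint hVaff ?_, ?_⟩
  · intro Z Z' hne
    show Disjoint (V Z) (V Z')
    rw [← Opens.coe_disjoint, Set.disjoint_left]
    intro x hx hx'
    have h1 := hOsub Z x (hVO Z hx) ⟨irreducibleComponent x, irreducibleComponent_mem_irreducibleComponents x⟩
      mem_irreducibleComponent
    have h2 := hOsub Z' x (hVO Z' hx') ⟨irreducibleComponent x, irreducibleComponent_mem_irreducibleComponents x⟩
      mem_irreducibleComponent
    exact hne (h1.symm.trans h2)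
  · rw [dense_iff_closure_eq, Set.eq_univ_iff_forall]
    intro x
    let Z : irreducibleComponents X :=
      ⟨irreducibleComponent x, irreducibleComponent_mem_irreducibleComponents x⟩
    have h1 : ξ Z ∈ ((iSup V : X.Opens) : Set X) := by
      rw [Opens.coe_iSup]
      exact Set.mem_iUnion.2 ⟨Z, hξV Z⟩
    have h2 : (Z : Set X) ⊆ closure ((iSup V : X.Opens) : Set X) := by
      rw [← (hξ Z).def]
      exact closure_mono (Set.singleton_subset_iff.2 h1)
    exact h2 mem_irreducibleComponent

/-- `PInsepGlue.main` with a given dense affine open instead of quasi-compactness. -/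
theorem main_of_dense_affine (k : Type u) [Field k] {X : Scheme.{u}}
    (f : X ⟶ Spec (CommRingCat.of k)) [LocallyOfFiniteType f]
    (U₀ : X.Opens) (hU₀ : IsAffineOpen U₀) (hdense₀ : Dense (U₀ : Set X)) :
    ∃ (U : X.Opens) (_ : Dense (U : Set X)) (k' : Type u) (_ : Field k') (_ : Algebra k k')
      (_ : Module.Finite k k') (_ : IsPurelyInseparable k k') (Z : Scheme.{u}) (_ : IsReduced Z)
      (i : Z ⟶ pullback (U.ι ≫ f) (Spec.map (CommRingCat.ofHom (algebraMap k k')))),
      IsClosedImmersion i ∧ Function.Surjective i.base ∧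
      Smooth (i ≫ pullback.snd (U.ι ≫ f) (Spec.map (CommRingCat.ofHom (algebraMap k k')))) := by
  letI algA : Algebra k Γ(X, U₀) := (strMap k f hU₀).hom.toAlgebra
  haveI : Algebra.FiniteType k Γ(X, U₀) := finiteType_strMap k f hU₀
  obtain ⟨g, hg, k', iF, iA, hfin, hpi, H⟩ := PInsepRed.exists_smooth_red k Γ(X, U₀)
  have hU : IsAffineOpen (X.basicOpen g) := hU₀.basicOpen g
  letI algR : Algebra k Γ(X, X.basicOpen g) := (strMap k f hU).hom.toAlgebra
  haveI : IsScalarTower k Γ(X, U₀) Γ(X, X.basicOpen g) := by
    refine IsScalarTower.of_algebraMap_eq' ?_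
    have := strMap_res k f hU₀ hU (X.basicOpen_le g)
    exact congrArg CommRingCat.Hom.hom this.symm
  haveI : IsLocalization.Away g Γ(X, X.basicOpen g) := hU₀.isLocalization_basicOpen g
  have hsm := H Γ(X, X.basicOpen g)
  -- the reduced ring and the quotient map
  let π : Γ(X, X.basicOpen g) ⊗[k] k' →+*
      (k' ⊗[k] Γ(X, X.basicOpen g)) ⧸ nilradical (k' ⊗[k] Γ(X, X.basicOpen g)) :=
    (Ideal.Quotient.mk _).comp (Algebra.TensorProduct.comm k Γ(X, X.basicOpen g) k').toRingHom
  have hπsurj : Function.Surjective π :=
    Ideal.Quotient.mk_surjective.comp (AlgEquiv.surjective _)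
  have hπsnd : π.comp (RingHomClass.toRingHom (Algebra.TensorProduct.includeRight :
      k' →ₐ[k] Γ(X, X.basicOpen g) ⊗[k] k')) =
      algebraMap k' ((k' ⊗[k] Γ(X, X.basicOpen g)) ⧸ nilradical (k' ⊗[k] Γ(X, X.basicOpen g))) := by
    ext c
    simp [π]
    rfl
  -- the isomorphisms of pullbacks
  have hw : ((X.basicOpen g).ι ≫ f) ≫ 𝟙 _ = hU.isoSpec.hom ≫
      Spec.map (CommRingCat.ofHom (algebraMap k Γ(X, X.basicOpen g))) := by
    rw [Category.comp_id, ι_comp k f hU]
    rfl
  let Θ₁ : pullback ((X.basicOpen g).ι ≫ f) (Spec.map (CommRingCat.ofHom (algebraMap k k'))) ⟶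
      pullback (Spec.map (CommRingCat.ofHom (algebraMap k Γ(X, X.basicOpen g))))
        (Spec.map (CommRingCat.ofHom (algebraMap k k'))) :=
    pullback.map _ _ _ _ hU.isoSpec.hom (𝟙 _) (𝟙 _) hw (by simp)
  haveI : IsIso Θ₁ := by dsimp only [Θ₁]; infer_instance
  let Θ₂ := pullbackSpecIso k Γ(X, X.basicOpen g) k'
  let i : Spec (CommRingCat.of
      ((k' ⊗[k] Γ(X, X.basicOpen g)) ⧸ nilradical (k' ⊗[k] Γ(X, X.basicOpen g)))) ⟶
      pullback ((X.basicOpen g).ι ≫ f) (Spec.map (CommRingCat.ofHom (algebraMap k k'))) :=
    Spec.map (CommRingCat.ofHom π) ≫ Θ₂.inv ≫ inv Θ₁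
  haveI hci : IsClosedImmersion (Spec.map (CommRingCat.ofHom π)) :=
    IsClosedImmersion.spec_of_surjective _ hπsurj
  haveI : IsReduced ((k' ⊗[k] Γ(X, X.basicOpen g)) ⧸ nilradical (k' ⊗[k] Γ(X, X.basicOpen g))) :=
    (Ideal.isRadical_iff_quotient_reduced _).mp
      (show (nilradical (k' ⊗[k] Γ(X, X.basicOpen g))).IsRadical from Ideal.radical_isRadical ⊥)
  refine ⟨X.basicOpen g, dense_basicOpen hU₀ hdense₀ g hg, k', iF, iA, hfin, hpi, _, inferInstance,
    i, ?_, ?_, ?_⟩
  · dsimp only [i]; infer_instance
  · haveI : Surjective (Spec.map (CommRingCat.ofHom π)) := by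
      rw [surjective_iff]
      change Function.Surjective (PrimeSpectrum.comap π)
      have h1 : Function.Surjective (PrimeSpectrum.comap
          (Ideal.Quotient.mk (nilradical (k' ⊗[k] Γ(X, X.basicOpen g))))) :=
        (PrimeSpectrum.comap_quotientMk_bijective_of_le_nilradical le_rfl).2
      have h2 : Function.Surjective (PrimeSpectrum.comap
          (Algebra.TensorProduct.comm k Γ(X, X.basicOpen g) k').toRingHom) :=
        (PrimeSpectrum.isHomeomorph_comap_of_bijective
          (Algebra.TensorProduct.comm k Γ(X, X.basicOpen g) k').bijective).surjective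
      exact h2.comp h1
    haveI : Surjective i := by dsimp only [i]; infer_instance
    exact (inferInstance : Surjective i).surj
  · have h1 : inv Θ₁ ≫ pullback.snd _ _ = pullback.snd _ _ := by
      rw [IsIso.inv_comp_eq]
      simp only [Θ₁, pullback.map, Category.comp_id]
      exact (pullback.lift_snd _ _ _).symm
    have hsnd : i ≫ pullback.snd _ _ = Spec.map (CommRingCat.ofHom (algebraMap k'
        ((k' ⊗[k] Γ(X, X.basicOpen g)) ⧸ nilradical (k' ⊗[k] Γ(X, X.basicOpen g))))) := by
      dsimp only [i]
      rw [Category.assoc, Category.assoc, h1]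
      dsimp only [Θ₂]
      rw [pullbackSpecIso_inv_snd, ← Spec.map_comp, ← CommRingCat.ofHom_comp, hπsnd]
    rw [hsnd, HasRingHomProperty.Spec_iff (P := @Smooth)]
    exact RingHom.smooth_algebraMap.mpr hsm

/-- Two reduced closed subschemes with full support are canonically isomorphic. -/
theorem exists_iso_of_surjective_closedImmersions {Z₁ Z₂ T : Scheme.{u}} [IsReduced Z₁]
    [IsReduced Z₂] (i₁ : Z₁ ⟶ T) (i₂ : Z₂ ⟶ T) [IsClosedImmersion i₁] [IsClosedImmersion i₂]
    [Surjective i₁] [Surjective i₂] : ∃ e : Z₁ ≅ Z₂, e.hom ≫ i₂ = i₁ := by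
  haveI : IsIso (pullback.fst i₁ i₂) := isIso_of_isClosedImmersion_of_surjective _
  haveI : IsIso (pullback.snd i₁ i₂) := isIso_of_isClosedImmersion_of_surjective _
  refine ⟨(asIso (pullback.fst i₁ i₂)).symm ≪≫ asIso (pullback.snd i₁ i₂), ?_⟩
  simp only [Iso.trans_hom, Iso.symm_hom, asIso_inv, asIso_hom, Category.assoc, IsIso.inv_comp_eq]
  exact pullback.condition.symm

/-- A reduced locally Noetherian scheme over a field `k'` which is smooth over `k'` on a dense open
subscheme is geometrically reduced over `k'`. -/
theorem geometricallyReduced_of_dense_smooth {Z : Scheme.{u}} [IsReduced Z] [IsLocallyNoetherian Z]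
    (k' : Type u) [Field k'] (gZ : Z ⟶ Spec (CommRingCat.of k')) {W' : Scheme.{u}} (j : W' ⟶ Z)
    [IsOpenImmersion j] (hj : Dense (Set.range j)) [Smooth (j ≫ gZ)] :
    GeometricallyReduced gZ := by
  rw [geometricallyReduced_iff, geometrically_iff_of_commRing_of_isClosedUnderIsomorphisms]
  intro K _ _
  set s : Spec (CommRingCat.of K) ⟶ Spec (CommRingCat.of k') :=
    Spec.map (CommRingCat.ofHom (algebraMap k' K)) with hs
  haveI : IsDominant j := ⟨hj⟩
  haveI : IsSchemeTheoreticallyDominant j := .of_isDominant j
  haveI : QuasiCompact j := inferInstance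
  haveI : Flat s := by
    rw [hs, Flat.SpecMap_iff]
    exact RingHom.flat_algebraMap_iff.2 inferInstance
  haveI : Flat (pullback.fst gZ s) := inferInstance
  haveI : IsSchemeTheoreticallyDominant (pullback.snd j (pullback.fst gZ s)) := inferInstance
  haveI : QuasiCompact (pullback.snd j (pullback.fst gZ s)) := inferInstance
  haveI : IsReduced (pullback j (pullback.fst gZ s)) := by
    let e : pullback j (pullback.fst gZ s) ≅ pullback (j ≫ gZ) s :=
      pullbackRightPullbackFstIso gZ s j
    haveI : Smooth (pullback.snd (j ≫ gZ) s) := inferInstance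
    haveI : Smooth (e.hom ≫ pullback.snd (j ≫ gZ) s) := inferInstance
    exact Groth.Agent.Lib.Helper6.SmGeom.isReduced_of_smooth_over_field K _
      (e.hom ≫ pullback.snd (j ≫ gZ) s)
  exact IsSchemeTheoreticallyDominant.isReduced (pullback.snd j (pullback.fst gZ s))

/-- the reduced induced subscheme `X_red` is reduced. -/
instance isReduced_nilradical_subscheme (Y : Scheme.{u}) : IsReduced Y.nilradical.subscheme := by
  haveI : ∀ U : Y.nilradical.subschemeCover.openCover.I₀,
      IsReduced (Y.nilradical.subschemeCover.openCover.X U) := by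
    intro U
    haveI : _root_.IsReduced (Γ(Y, U.1) ⧸ Y.nilradical.ideal U) := by
      apply (Ideal.isRadical_iff_quotient_reduced _).mp
      show ((⊥ : Scheme.IdealSheafData Y).radical.ideal U).IsRadical
      rw [Scheme.IdealSheafData.radical_ideal]
      exact Ideal.radical_isRadical _
    show IsReduced (Spec (CommRingCat.of (Γ(Y, U.1) ⧸ Y.nilradical.ideal U)))
    infer_instance
  exact IsReduced.of_openCover _ Y.nilradical.subschemeCover.openCover

instance surjective_nilradical_subschemeι (Y : Scheme.{u}) : Surjective Y.nilradical.subschemeι := by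
  rw [surjective_iff, ← Set.range_eq_univ, Scheme.IdealSheafData.range_subschemeι,
    Scheme.support_nilradical]
  rfl

/-- If `(U ×_k k')_red` is smooth over `k'` for a dense open `U` of `X`, then `(X ×_k k')_red` is
geometrically reduced over `k'` (`s : Spec k' ⟶ Spec k` flat of finite presentation). -/
theorem geometricallyReduced_red_of_dense_smooth (k k' : Type u) [Field k] [Field k']
    {X : Scheme.{u}} (f : X ⟶ Spec (CommRingCat.of k)) [LocallyOfFiniteType f]
    (s : Spec (CommRingCat.of k') ⟶ Spec (CommRingCat.of k)) [Flat s]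
    [LocallyOfFinitePresentation s] (U : X.Opens) (hUdense : Dense (U : Set X))
    {Z₁ : Scheme.{u}} [IsReduced Z₁] (i : Z₁ ⟶ pullback (U.ι ≫ f) s) [IsClosedImmersion i]
    [Surjective i] [Smooth (i ≫ pullback.snd (U.ι ≫ f) s)] :
    GeometricallyReduced ((pullback f s).nilradical.subschemeι ≫ pullback.snd f s) := by
  set Y := pullback f s with hY
  set ι := Y.nilradical.subschemeι with hι
  -- the open subscheme `U_{k'}` of `Y`
  let jT : pullback (U.ι ≫ f) s ⟶ Y :=
    pullback.map (U.ι ≫ f) s f s U.ι (𝟙 _) (𝟙 _) (by simp) (by simp)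
  haveI : IsOpenImmersion jT := by dsimp only [jT]; infer_instance
  have hjT_snd : jT ≫ pullback.snd f s = pullback.snd (U.ι ≫ f) s := by
    dsimp only [jT]
    rw [pullback.lift_snd, Category.comp_id]
  have hjT_range : Set.range jT = (pullback.fst f s) ⁻¹' (U : Set X) := by
    dsimp only [jT]
    rw [Scheme.Pullback.range_map]
    simp
  -- the open subscheme of `Y_red` over it, and its closed immersion into `U_{k'}`
  let j : pullback ι jT ⟶ Y.nilradical.subscheme := pullback.fst ι jT
  let c : pullback ι jT ⟶ pullback (U.ι ≫ f) s := pullback.snd ι jT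
  haveI : IsOpenImmersion j := by dsimp only [j]; infer_instance
  haveI : IsClosedImmersion c := by dsimp only [c]; infer_instance
  haveI : Surjective c := by dsimp only [c]; infer_instance
  haveI : IsReduced (pullback ι jT) := isReduced_of_isOpenImmersion j
  obtain ⟨e, he⟩ := exists_iso_of_surjective_closedImmersions i c
  -- smoothness
  have hsm : Smooth (j ≫ ι ≫ pullback.snd f s) := by
    have h1 : j ≫ ι ≫ pullback.snd f s = e.inv ≫ i ≫ pullback.snd (U.ι ≫ f) s := by
      rw [← he, Category.assoc, Iso.inv_hom_id_assoc, ← hjT_snd]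
      have := pullback.condition (f := ι) (g := jT)
      dsimp only [j, c]
      rw [reassoc_of% this]
    rw [h1]
    infer_instance
  -- density
  have hdense : Dense (Set.range j) := by
    dsimp only [j]
    rw [Scheme.Pullback.range_fst, hjT_range, ← Set.preimage_comp]
    have hopen : IsOpenMap ((pullback.fst f s) ∘ ι) := by
      haveI : UniversallyOpen (pullback.fst f s) := inferInstance
      have h1 : IsOpenMap (pullback.fst f s) := (pullback.fst f s).isOpenMap
      have h2 : IsOpenMap ι := by
        have hemb : Topology.IsClosedEmbedding ι := ι.isClosedEmbedding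
        have hsurj : Function.Surjective ι := ι.surjective
        exact (hemb.isEmbedding.toHomeomorphOfSurjective hsurj).isOpenMap
      exact h1.comp h2
    exact hUdense.preimage hopen
  haveI : IsLocallyNoetherian Y.nilradical.subscheme := by
    haveI : LocallyOfFiniteType (ι ≫ pullback.snd f s) := inferInstance
    exact LocallyOfFiniteType.isLocallyNoetherian (ι ≫ pullback.snd f s)
  haveI := hsm
  exact geometricallyReduced_of_dense_smooth k' (ι ≫ pullback.snd f s) j hdense

/-- **Reduction after a finite purely inseparable extension is geometrically reduced** (scheme form):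
`f : X ⟶ Spec k` locally of finite type with `X` having finitely many irreducible components. -/
theorem exists_geometricallyReduced_red (k : Type u) [Field k] {X : Scheme.{u}}
    (f : X ⟶ Spec (CommRingCat.of k)) [LocallyOfFiniteType f]
    (hirr : (irreducibleComponents X).Finite) :
    ∃ (k' : Type u) (_ : Field k') (_ : Algebra k k'), FiniteDimensional k k' ∧
      IsPurelyInseparable k k' ∧
      GeometricallyReduced
        ((pullback f (Spec.map (CommRingCat.ofHom (algebraMap k k')))).nilradical.subschemeι ≫
          pullback.snd f (Spec.map (CommRingCat.ofHom (algebraMap k k')))) := by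
  obtain ⟨U₀, hU₀, hdense₀⟩ := exists_dense_isAffineOpen_of_finite X hirr
  obtain ⟨U, hUdense, k', iF, iA, hfin, hpi, Z₁, hZ₁, i, hicl, hisurj, hism⟩ :=
    main_of_dense_affine k f U₀ hU₀ hdense₀
  refine ⟨k', iF, iA, hfin, hpi, ?_⟩
  haveI : Flat (Spec.map (CommRingCat.ofHom (algebraMap k k'))) := by
    rw [Flat.SpecMap_iff]
    exact RingHom.flat_algebraMap_iff.2 inferInstance
  haveI : LocallyOfFinitePresentation (Spec.map (CommRingCat.ofHom (algebraMap k k'))) := by
    rw [HasRingHomProperty.Spec_iff (P := @LocallyOfFinitePresentation)]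
    show (algebraMap k k').FinitePresentation
    rw [RingHom.finitePresentation_algebraMap]
    exact Algebra.FinitePresentation.of_finiteType.mp inferInstance
  haveI := hZ₁
  haveI := hicl
  haveI : Surjective i := ⟨hisurj⟩
  haveI := hism
  exact geometricallyReduced_red_of_dense_smooth k k' f _ U hUdense i

end Groth.Agent.R2.H34.PInsepGeomRed
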