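import Mathlib
import Groth.Agent.R2.H34PInsepGlue
import Groth.Agent.R2.H34PInsepGeomRed

/-!
# Geometrically reduced ⇔ generically smooth (helper34, for S1549)

* `exists_smooth_basicOpen`: a nonempty affine open of a reduced, geometrically reduced scheme
  locally of finite type over a field contains a nonempty basic open which is smooth over `k`.
* `exists_dense_smooth_of_geometricallyReduced`: the union of all smooth opens is dense.
-/

set_option autoImplicit false
set_option linter.style.haveILetI false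
universe u

open CategoryTheory CategoryTheory.Limits AlgebraicGeometry Opposite TensorProduct TopologicalSpace

namespace Groth.Agent.R2.H34.GeomRedSmooth

open Groth.Agent.R2.H34.PInsepGlue

/-- For an affine open `V` of a geometrically reduced `k`-scheme, `K ⊗_k Γ(X, V)` is reduced. -/
theorem isReduced_tensor_of_geometricallyReduced (k : Type u) [Field k] {X : Scheme.{u}}
    (f : X ⟶ Spec (CommRingCat.of k)) [GeometricallyReduced f] {V : X.Opens}
    (hV : IsAffineOpen V) (K : Type u) [Field K] [Algebra k K] :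
    letI : Algebra k Γ(X, V) := (strMap k f hV).hom.toAlgebra
    IsReduced (K ⊗[k] Γ(X, V)) := by
  letI algA : Algebra k Γ(X, V) := (strMap k f hV).hom.toAlgebra
  set s : Spec (CommRingCat.of K) ⟶ Spec (CommRingCat.of k) :=
    Spec.map (CommRingCat.ofHom (algebraMap k K)) with hs
  haveI : IsReduced (pullback f s) :=
    pullback_of_geometrically (P := @IsReduced)
      (GeometricallyReduced.geometrically_isReduced (f := f)) K _
  let jT : pullback (V.ι ≫ f) s ⟶ pullback f s :=
    pullback.map (V.ι ≫ f) s f s V.ι (𝟙 _) (𝟙 _) (by simp) (by simp)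
  haveI : IsOpenImmersion jT := by dsimp only [jT]; infer_instance
  haveI : IsReduced (pullback (V.ι ≫ f) s) := isReduced_of_isOpenImmersion jT
  have hw : (V.ι ≫ f) ≫ 𝟙 _ = hV.isoSpec.hom ≫
      Spec.map (CommRingCat.ofHom (algebraMap k Γ(X, V))) := by
    rw [Category.comp_id, ι_comp k f hV]
    rfl
  let Θ₁ : pullback (V.ι ≫ f) s ⟶
      pullback (Spec.map (CommRingCat.ofHom (algebraMap k Γ(X, V)))) s :=
    pullback.map _ _ _ _ hV.isoSpec.hom (𝟙 _) (𝟙 _) hw (by simp)
  haveI : IsIso Θ₁ := by dsimp only [Θ₁]; infer_instance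
  let Θ₂ := pullbackSpecIso k Γ(X, V) K
  haveI : IsReduced (Spec (CommRingCat.of (Γ(X, V) ⊗[k] K))) :=
    isReduced_of_isOpenImmersion (Θ₂.inv ≫ inv Θ₁)
  haveI : _root_.IsReduced (Γ(X, V) ⊗[k] K) := by
    have := (affine_isReduced_iff (CommRingCat.of (Γ(X, V) ⊗[k] K))).mp inferInstance
    exact this
  exact isReduced_of_injective (Algebra.TensorProduct.comm k K Γ(X, V)).toRingHom
    (Algebra.TensorProduct.comm k K Γ(X, V)).injective

/-- A nonempty affine open of a reduced and geometrically reduced scheme locally of finite type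
over a field contains a nonempty basic open smooth over the field. -/
theorem exists_smooth_basicOpen (k : Type u) [Field k] {X : Scheme.{u}}
    (f : X ⟶ Spec (CommRingCat.of k)) [LocallyOfFiniteType f] [IsReduced X]
    [GeometricallyReduced f] {V : X.Opens} (hV : IsAffineOpen V) (hne : (V : Set X).Nonempty) :
    ∃ r : Γ(X, V), ((X.basicOpen r : X.Opens) : Set X).Nonempty ∧
      Smooth ((X.basicOpen r).ι ≫ f) := by
  letI algA : Algebra k Γ(X, V) := (strMap k f hV).hom.toAlgebra
  haveI : Algebra.FiniteType k Γ(X, V) := finiteType_strMap k f hV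
  haveI : IsNoetherianRing Γ(X, V) := Algebra.FiniteType.isNoetherianRing k _
  haveI : Algebra.FinitePresentation k Γ(X, V) := Algebra.FinitePresentation.of_finiteType.mp ‹_›
  haveI : Nontrivial Γ(X, V) := by
    obtain ⟨x, hx⟩ := hne
    have : Nonempty (Spec Γ(X, V)) := ⟨hV.isoSpec.hom ⟨x, hx⟩⟩
    by_contra hcon
    rw [not_nontrivial_iff_subsingleton] at hcon
    exact (inferInstance : IsEmpty (PrimeSpectrum Γ(X, V))).false (hV.isoSpec.hom ⟨x, hx⟩)
  have hred := isReduced_tensor_of_geometricallyReduced k f hV (AlgebraicClosure k)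
  obtain ⟨M, hM⟩ := Ideal.exists_maximal Γ(X, V)
  haveI := hM.isPrime
  obtain ⟨𝔭, h𝔭, -⟩ := Ideal.exists_minimalPrimes_le (show (⊥ : Ideal Γ(X, V)) ≤ M from bot_le)
  haveI : 𝔭.IsPrime := h𝔭.1.1
  haveI : Algebra.IsSmoothAt k 𝔭 :=
    PInsepRed.isSmoothAt_of_mem_minimalPrimes k (AlgebraicClosure k) Γ(X, V) hred 𝔭 h𝔭
  obtain ⟨r, hr𝔭, hsm⟩ := Algebra.IsSmoothAt.exists_notMem_smooth k 𝔭
  have hU : IsAffineOpen (X.basicOpen r) := hV.basicOpen r
  refine ⟨r, ?_, ?_⟩
  · refine ⟨hV.fromSpec ⟨𝔭, inferInstance⟩, ?_⟩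
    have : (⟨𝔭, inferInstance⟩ : Spec Γ(X, V)) ∈ hV.fromSpec ⁻¹ᵁ X.basicOpen r := by
      rw [hV.fromSpec_preimage_basicOpen]
      exact hr𝔭
    exact this
  · letI algR : Algebra k Γ(X, X.basicOpen r) := (strMap k f hU).hom.toAlgebra
    haveI : IsScalarTower k Γ(X, V) Γ(X, X.basicOpen r) := by
      refine IsScalarTower.of_algebraMap_eq' ?_
      have := strMap_res k f hV hU (X.basicOpen_le r)
      exact congrArg CommRingCat.Hom.hom this.symm
    haveI : IsLocalization.Away r Γ(X, X.basicOpen r) := hV.isLocalization_basicOpen r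
    let e : Localization.Away r ≃ₐ[Γ(X, V)] Γ(X, X.basicOpen r) :=
      IsLocalization.algEquiv (Submonoid.powers r) _ _
    haveI : Algebra.Smooth k Γ(X, X.basicOpen r) := Algebra.Smooth.of_equiv (e.restrictScalars k)
    rw [ι_comp k f hU]
    haveI : Smooth (Spec.map (strMap k f hU)) := by
      rw [HasRingHomProperty.Spec_iff (P := @Smooth)]
      exact RingHom.smooth_algebraMap.mpr ‹_›
    infer_instance

/-- A reduced, geometrically reduced scheme locally of finite type over a field has a dense open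
subscheme which is smooth over the field. -/
theorem exists_dense_smooth_of_geometricallyReduced (k : Type u) [Field k] {X : Scheme.{u}}
    (f : X ⟶ Spec (CommRingCat.of k)) [LocallyOfFiniteType f] [IsReduced X]
    [GeometricallyReduced f] :
    ∃ U : X.Opens, Dense (U : Set X) ∧ Smooth (U.ι ≫ f) := by
  haveI : LocallyOfFinitePresentation f :=
    LocallyOfFinitePresentation.iff_locallyOfFiniteType.mpr inferInstance
  refine ⟨f.smoothLocus, ?_, ?_⟩
  · rw [dense_iff_inter_open]
    intro O hO hOne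
    obtain ⟨x, hx⟩ := hOne
    obtain ⟨V, hV, hxV, hVO⟩ := exists_isAffineOpen_mem_and_subset (U := ⟨O, hO⟩) (x := x) hx
    obtain ⟨r, ⟨y, hy⟩, hsm⟩ := exists_smooth_basicOpen k f hV ⟨x, hxV⟩
    refine ⟨y, hVO (X.basicOpen_le r hy), ?_⟩
    have h1 : (X.basicOpen r).ι ⁻¹ᵁ f.smoothLocus = ⊤ := by
      rw [Scheme.Hom.preimage_smoothLocus_eq, Scheme.Hom.smoothLocus_eq_top]
    have h2 : (⟨y, hy⟩ : X.basicOpen r) ∈ (X.basicOpen r).ι ⁻¹ᵁ f.smoothLocus := by
      rw [h1]; trivial
    exact h2
  · rw [← Scheme.Hom.smoothLocus_eq_top_iff, ← Scheme.Hom.preimage_smoothLocus_eq]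
    rw [← top_le_iff]
    intro x _
    exact x.2

end Groth.Agent.R2.H34.GeomRedSmooth
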