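import Mathlib

/-!
# Smoothness of group schemes over a field from a smooth open piece (helper34)

Generalisation of Mathlib's `AlgebraicGeometry.smooth_of_grpObj` (homogeneity argument):
a group scheme locally of finite type over a field which has a nonempty open subscheme smooth
over the field is smooth.
-/

set_option autoImplicit false
universe u
open CategoryTheory CategoryTheory.Limits MonoidalCategory CartesianMonoidalCategory MonObj GrpObj AlgebraicGeometry

namespace Groth.Agent.R2.H34.GrpSmooth

variable {K : Type u} [Field K] {G : Scheme.{u}} (f : G ⟶ Spec (.of K))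
    [LocallyOfFiniteType f] [GrpObj (Over.mk f)]

set_option backward.defeqAttrib.useBackward true in
set_option backward.isDefEq.respectTransparency false in
/-- A group scheme locally of finite type over an algebraically closed field whose smooth locus is
nonempty is smooth (homogeneity). -/
lemma smooth_of_nonempty_smoothLocus_of_isAlgClosed [IsAlgClosed K]
    (hne : (f.smoothLocus : Set G).Nonempty) : Smooth f := by
  have := LocallyOfFiniteType.jacobsonSpace f
  rw [← Scheme.Hom.smoothLocus_eq_top_iff, ← TopologicalSpace.Opens.coe_eq_univ,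
    ← not_ne_iff, ← Set.nonempty_compl]
  intro H
  obtain ⟨x, hx, hxc⟩ :=
    nonempty_inter_closedPoints H f.smoothLocus.2.isClosed_compl.isLocallyClosed
  obtain ⟨y, hy : y ∈ f.smoothLocus, hyc⟩ := nonempty_inter_closedPoints
    hne f.smoothLocus.2.isLocallyClosed
  let x' : 𝟙_ _ ⟶ Over.mk f := Over.homMk _ ((pointEquivClosedPoint f).symm ⟨x, hxc⟩).2
  let y' : 𝟙_ _ ⟶ Over.mk f := Over.homMk _ ((pointEquivClosedPoint f).symm ⟨y, hyc⟩).2
  let α := (GrpObj.mulRight (A := Over.mk f) x').symm ≪≫
    (GrpObj.mulRight (A := Over.mk f) y')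
  have hα : x' ≫ α.hom = y' := by
    dsimp only [Iso.trans_hom, Iso.symm_hom, α]
    rw [← Category.assoc, ← Iso.eq_comp_inv]
    simp [comp_lift_assoc]
  have hα' : α.hom.left x = y := by
    simpa [x', y', pointEquivClosedPoint] using congr(($hα).left (IsLocalRing.closedPoint K))
  rw! [← hα', ← α.hom.left.mem_preimage, Scheme.Hom.preimage_smoothLocus_eq,
    show α.hom.left ≫ f = f from α.hom.w] at hy
  exact hx hy

/-- A group scheme locally of finite type over a field having a nonempty open subscheme smooth over
the field is smooth. -/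
lemma smooth_of_smooth_opens (U : G.Opens) (hne : (U : Set G).Nonempty) (hU : Smooth (U.ι ≫ f)) :
    Smooth f := by
  let Ω : Type u := AlgebraicClosure K
  let g : Spec (.of Ω) ⟶ Spec (.of K) := Spec.map (CommRingCat.ofHom <| algebraMap K Ω)
  apply MorphismProperty.of_pullback_snd_of_descendsAlong
    (Q := @Surjective ⊓ @Flat ⊓ @QuasiCompact) (g := g)
  · exact ⟨⟨inferInstance, inferInstance⟩, inferInstance⟩
  · let : GrpObj (Over.mk (Limits.pullback.snd f g)) := Over.grpObjMkPullbackSnd
    apply smooth_of_nonempty_smoothLocus_of_isAlgClosed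
    let W : (pullback f g).Opens := (pullback.fst f g) ⁻¹ᵁ U
    have hpb : IsPullback (pullback.fst f g ∣_ U) (W.ι ≫ pullback.snd f g) (U.ι ≫ f) g :=
      ((isPullback_morphismRestrict (pullback.fst f g) U).flip.paste_horiz
        (IsPullback.of_hasPullback f g).flip).flip
    have : Smooth (W.ι ≫ pullback.snd f g) :=
      MorphismProperty.of_isPullback (P := @Smooth) hpb hU
    obtain ⟨x, hx⟩ := hne
    obtain ⟨x', hx'⟩ := (pullback.fst f g).surjective x
    refine ⟨x', ?_⟩
    have h1 : W ≤ (pullback.snd f g).smoothLocus := by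
      have h2 := Scheme.Hom.preimage_smoothLocus_eq W.ι (pullback.snd f g)
      rw [Scheme.Hom.smoothLocus_eq_top (W.ι ≫ pullback.snd f g)] at h2
      intro z hz
      have : (⟨z, hz⟩ : W) ∈ W.ι ⁻¹ᵁ (pullback.snd f g).smoothLocus := by rw [h2]; trivial
      exact this
    exact h1 (show x' ∈ W from by rw [Scheme.Hom.mem_preimage, hx']; exact hx)

/-- Form for `G : Over (Spec k)`. -/
lemma smooth_of_smooth_opens_over (G : Over (Spec (CommRingCat.of K))) [GrpObj G]
    [LocallyOfFiniteType G.hom] (U : G.left.Opens) (hne : (U : Set G.left).Nonempty)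
    (hU : Smooth (U.ι ≫ G.hom)) : Smooth G.hom := by
  have hGrp : GrpObj (Over.mk G.hom) := ‹GrpObj G›
  exact smooth_of_smooth_opens G.hom U hne hU

end Groth.Agent.R2.H34.GrpSmooth
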