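import Mathlib

/-!
# Free module of differentials in characteristic zero forces regularity (helper34)

For a Noetherian local `k`-algebra `R` with residue field `k` (char `k = 0`) such that `Ω_{R/k}` is
free of rank `n`: `dim R ≥ n` (`le_ringKrullDim`).  Key steps: a derivation `∂` with `∂ x = 1`,
`x ∈ m`, makes `x` a nonzerodivisor (`isSMulRegular_of_derivation`), and `Ω_{(R/x)/k}` is free of
rank `n - 1` (`exists_equiv_quotient`).
-/

set_option autoImplicit false
set_option linter.style.haveILetI false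
universe u
open TensorProduct KaehlerDifferential IsLocalRing

namespace Groth.Agent.R2.H34.KaehlerReg

section nzd

variable {k R : Type u} [Field k] [CharZero k] [CommRing R] [Algebra k R] [IsLocalRing R]
  [IsNoetherianRing R]

/-- In a Noetherian local `ℚ`-algebra, an element `x` of the maximal ideal admitting a derivation
`∂` with `∂ x = 1` is a nonzerodivisor. -/
theorem isSMulRegular_of_derivation (d : Derivation k R R) (x : R) (hx : x ∈ maximalIdeal R)
    (hd : d x = 1) : IsSMulRegular R x := by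
  -- the annihilators of the powers of `x`
  let I : ℕ →o Ideal R :=
    { toFun := fun j => LinearMap.ker (LinearMap.mulRight R (x ^ j))
      monotone' := by
        apply monotone_nat_of_le_succ
        intro j a ha
        rw [LinearMap.mem_ker, LinearMap.mulRight_apply] at ha ⊢
        rw [pow_succ, ← mul_assoc, ha, zero_mul] }
  have hI : ∀ j a, a ∈ I j ↔ a * x ^ j = 0 := fun j a => by
    change a ∈ LinearMap.ker (LinearMap.mulRight R (x ^ j)) ↔ _
    rw [LinearMap.mem_ker, LinearMap.mulRight_apply]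
  obtain ⟨N, hN⟩ := monotone_stabilizes_iff_noetherian.mpr (inferInstance : IsNoetherian R R) I
  have hJ : ∀ j, I j ≤ I N := by
    intro j
    rcases le_total j N with h | h
    · exact I.monotone h
    · exact (hN j h).ge
  -- Leibniz
  have hleib : ∀ j a, a * x ^ (j + 1) = 0 → ((j + 1 : ℕ) • a + x * d a) * x ^ j = 0 := by
    intro j a ha
    have h1 := congrArg d ha
    rw [map_zero, Derivation.leibniz, Derivation.leibniz_pow, hd, Nat.add_sub_cancel] at h1
    simp only [smul_eq_mul, nsmul_eq_mul, mul_one] at h1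
    rw [nsmul_eq_mul]
    linear_combination h1
  have claimA : ∀ j a, a ∈ I j → d a ∈ I (j + 1) := by
    intro j a ha
    rw [hI] at ha ⊢
    have h1 : a * x ^ (j + 1) = 0 := by rw [pow_succ, ← mul_assoc, ha, zero_mul]
    have h2 := hleib j a h1
    have h3 : d a * x ^ (j + 1) = ((j + 1 : ℕ) • a + x * d a) * x ^ j - (j + 1 : ℕ) • (a * x ^ j) := by
      rw [nsmul_eq_mul, nsmul_eq_mul]; ring
    rw [h3, h2, ha, smul_zero, sub_zero]
  have hunit : ∀ j : ℕ, ∃ u : R, u * ((j + 1 : ℕ) : R) = 1 := by
    intro j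
    refine ⟨algebraMap k R (((j + 1 : ℕ) : k)⁻¹), ?_⟩
    rw [← map_natCast (algebraMap k R), ← map_mul, inv_mul_cancel₀, map_one]
    exact_mod_cast Nat.succ_ne_zero j
  have claimB : ∀ j a, a ∈ I j → ∃ b ∈ I N, a = x * b := by
    intro j
    induction j with
    | zero =>
      intro a ha
      rw [hI, pow_zero, mul_one] at ha
      exact ⟨0, zero_mem _, by rw [ha, mul_zero]⟩
    | succ j ih =>
      intro a ha
      have ha' := (hI _ _).1 ha
      have h2 := hleib j a ha'
      obtain ⟨b₁, hb₁, hc⟩ := ih _ ((hI _ _).2 h2)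
      have hda : d a ∈ I N := hJ _ (claimA _ a ha)
      obtain ⟨u, hu⟩ := hunit j
      refine ⟨u * (b₁ - d a), Ideal.mul_mem_left _ _ (sub_mem hb₁ hda), ?_⟩
      rw [nsmul_eq_mul] at hc
      have : a = u * (((j + 1 : ℕ) : R) * a) := by rw [← mul_assoc, hu, one_mul]
      calc a = u * (((j + 1 : ℕ) : R) * a) := this
        _ = x * (u * (b₁ - d a)) := by linear_combination u * hc
  have hle : I N ≤ maximalIdeal R • I N := by
    intro a ha
    obtain ⟨b, hb, rfl⟩ := claimB N a ha
    exact Submodule.smul_mem_smul hx hb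
  have hbot : I N = ⊥ :=
    Submodule.eq_bot_of_le_smul_of_le_jacobson_bot (maximalIdeal R) (I N)
      (IsNoetherian.noetherian _) hle (IsLocalRing.maximalIdeal_le_jacobson _)
  intro a b hab
  simp only [smul_eq_mul] at hab
  have h1 : a - b ∈ I 1 := by
    rw [hI, pow_one, sub_mul, mul_comm a, mul_comm b, hab, sub_self]
  have h2 : a - b ∈ I N := hJ 1 h1
  rw [hbot, Submodule.mem_bot, sub_eq_zero] at h2
  exact h2

end nzd

section exists_der

variable {k R : Type u} [Field k] [CommRing R] [Algebra k R] [IsLocalRing R]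

/-- every element is a constant plus an element of the maximal ideal -/
theorem exists_sub_mem (hres : Function.Surjective (algebraMap k (ResidueField R))) (a : R) :
    ∃ c : k, a - algebraMap k R c ∈ maximalIdeal R := by
  obtain ⟨c, hc⟩ := hres (residue R a)
  refine ⟨c, ?_⟩
  rw [← residue_eq_zero_iff, map_sub, ← hc, IsScalarTower.algebraMap_apply k R (ResidueField R)]
  exact sub_self _

/-- If `Ω_{R/k}` is free of rank `n + 1` and the residue field is `k`, there are `x ∈ m` and a
linear form `l` on `Ω` with `l (dx) = 1`. -/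
theorem exists_linearForm (hres : Function.Surjective (algebraMap k (ResidueField R))) (n : ℕ)
    (e : Ω[R⁄k] ≃ₗ[R] (Fin (n + 1) → R)) :
    ∃ (x : R) (l : Ω[R⁄k] →ₗ[R] R), x ∈ maximalIdeal R ∧ l (D k R x) = 1 := by
  by_contra hcon
  push Not at hcon
  -- all coordinates of all `dx`, `x ∈ m`, lie in `m`
  have h1 : ∀ x ∈ maximalIdeal R, ∀ i, e (D k R x) i ∈ maximalIdeal R := by
    intro x hx i
    by_contra hu
    have hu' : IsUnit (e (D k R x) i) := by
      by_contra h
      exact hu h
    obtain ⟨u, hu⟩ := hu'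
    refine hcon x (((u⁻¹ : Rˣ) : R) • ((LinearMap.proj i).comp e.toLinearMap)) hx ?_
    simp only [LinearMap.smul_apply, LinearMap.comp_apply, LinearEquiv.coe_coe, LinearMap.proj_apply,
      smul_eq_mul]
    rw [← hu, Units.inv_mul]
  let N : Submodule R Ω[R⁄k] :=
    { carrier := {ω | ∀ i, e ω i ∈ maximalIdeal R}
      add_mem' := fun {a b} ha hb i => by
        rw [map_add, Pi.add_apply]
        exact add_mem (ha i) (hb i)
      zero_mem' := fun i => by
        rw [map_zero, Pi.zero_apply]
        exact zero_mem _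
      smul_mem' := fun c {a} ha i => by
        rw [map_smul, Pi.smul_apply, smul_eq_mul]
        exact Ideal.mul_mem_left _ _ (ha i) }
  have hN : N = ⊤ := by
    rw [eq_top_iff, ← KaehlerDifferential.span_range_derivation k R, Submodule.span_le]
    rintro _ ⟨a, rfl⟩
    obtain ⟨c, hc⟩ := exists_sub_mem hres a
    have h2 : D k R a = D k R (a - algebraMap k R c) := by
      rw [map_sub, Derivation.map_algebraMap, sub_zero]
    intro i
    rw [h2]
    exact h1 _ hc i
  have h3 : e.symm (Pi.single 0 1) ∈ N := by rw [hN]; trivial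
  have h4 := h3 0
  rw [LinearEquiv.apply_symm_apply, Pi.single_eq_same] at h4
  exact (maximalIdeal.isMaximal R).ne_top ((Ideal.eq_top_iff_one _).2 h4)

end exists_der

section quot

variable {k R : Type u} [Field k] [CommRing R] [Algebra k R] [IsLocalRing R]

theorem isLocalRing_quotient (x : R) (hx : x ∈ maximalIdeal R) :
    IsLocalRing (R ⧸ Ideal.span {x}) := by
  have hne : Ideal.span {x} ≠ ⊤ := by
    intro h
    have : (1 : R) ∈ Ideal.span {x} := by rw [h]; trivial
    rw [Ideal.mem_span_singleton] at this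
    exact hx (isUnit_of_dvd_one this)
  haveI : Nontrivial (R ⧸ Ideal.span {x}) := Ideal.Quotient.nontrivial_iff.2 hne
  exact IsLocalRing.of_surjective' (Ideal.Quotient.mk (Ideal.span {x})) Ideal.Quotient.mk_surjective

/-- the module of differentials of `R/(x)` is free of rank one less, when `dx` is part of a
basis. -/
theorem exists_equiv_quotient (n : ℕ) (e : Ω[R⁄k] ≃ₗ[R] (Fin (n + 1) → R)) (x : R)
    (hx : x ∈ maximalIdeal R) (l : Ω[R⁄k] →ₗ[R] R) (hl : l (D k R x) = 1) :
    Nonempty (Ω[(R ⧸ Ideal.span {x})⁄k] ≃ₗ[R ⧸ Ideal.span {x}] (Fin n → R ⧸ Ideal.span {x})) := by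
  haveI := isLocalRing_quotient x hx
  have hsurj : Function.Surjective (algebraMap R (R ⧸ Ideal.span {x})) :=
    Ideal.Quotient.mk_surjective
  let v : (R ⧸ Ideal.span {x}) ⊗[R] Ω[R⁄k] := 1 ⊗ₜ D k R x
  let φ : (R ⧸ Ideal.span {x}) ⊗[R] Ω[R⁄k] →ₗ[R ⧸ Ideal.span {x}] Ω[(R ⧸ Ideal.span {x})⁄k] :=
    mapBaseChange k R (R ⧸ Ideal.span {x})
  let l' : (R ⧸ Ideal.span {x}) ⊗[R] Ω[R⁄k] →ₗ[R ⧸ Ideal.span {x}] (R ⧸ Ideal.span {x}) :=
    (TensorProduct.AlgebraTensorModule.rid R (R ⧸ Ideal.span {x})
      (R ⧸ Ideal.span {x})).toLinearMap ∘ₗ (l.baseChange (R ⧸ Ideal.span {x}))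
  have hl'v : l' v = 1 := by
    simp only [l', v, LinearMap.comp_apply, LinearMap.baseChange_tmul, hl, LinearEquiv.coe_coe,
      TensorProduct.AlgebraTensorModule.rid_tmul, one_smul]
  have hmk : (Ideal.Quotient.mk (Ideal.span {x})) x = 0 :=
    Ideal.Quotient.eq_zero_iff_mem.2 (Ideal.mem_span_singleton_self x)
  have hφv : φ v = 0 := by
    simp only [φ, v, mapBaseChange_tmul, one_smul, map_D]
    rw [show algebraMap R (R ⧸ Ideal.span {x}) x = 0 from hmk, map_zero]
  have hker : ∀ p, φ p = 0 → ∃ r : R ⧸ Ideal.span {x}, p = r • v := by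
    intro p hp
    obtain ⟨c, rfl⟩ :=
      (exact_kerCotangentToTensor_mapBaseChange k R (R ⧸ Ideal.span {x}) hsurj p).1 hp
    obtain ⟨⟨y, hy⟩, rfl⟩ := Ideal.toCotangent_surjective _ c
    have hy' : y ∈ Ideal.span {x} := by
      rw [RingHom.mem_ker] at hy
      exact Ideal.Quotient.eq_zero_iff_mem.1 hy
    obtain ⟨r, rfl⟩ := Ideal.mem_span_singleton'.1 hy'
    refine ⟨Ideal.Quotient.mk (Ideal.span {x}) r, ?_⟩
    rw [kerCotangentToTensor_toCotangent]
    simp only [v, Derivation.leibniz, TensorProduct.tmul_add, TensorProduct.tmul_smul]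
    rw [TensorProduct.smul_tmul', TensorProduct.smul_tmul', TensorProduct.smul_tmul']
    have h1 : x • (1 : R ⧸ Ideal.span {x}) = 0 := by
      rw [Algebra.smul_def, mul_one]; exact hmk
    have h2 : r • (1 : R ⧸ Ideal.span {x}) =
        Ideal.Quotient.mk (Ideal.span {x}) r • (1 : R ⧸ Ideal.span {x}) := by
      rw [Algebra.smul_def, smul_eq_mul]; rfl
    rw [h1, TensorProduct.zero_tmul, add_zero, h2]
  let Φ : (R ⧸ Ideal.span {x}) ⊗[R] Ω[R⁄k] →ₗ[R ⧸ Ideal.span {x}]
      Ω[(R ⧸ Ideal.span {x})⁄k] × (R ⧸ Ideal.span {x}) := φ.prod l'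
  have hΦ : Function.Bijective Φ := by
    constructor
    · rw [← LinearMap.ker_eq_bot, LinearMap.ker_eq_bot']
      intro p hp
      have h1 : φ p = 0 := congrArg Prod.fst hp
      have h2 : l' p = 0 := congrArg Prod.snd hp
      obtain ⟨r, rfl⟩ := hker p h1
      rw [map_smul, hl'v, smul_eq_mul, mul_one] at h2
      rw [h2, zero_smul]
    · rintro ⟨ω, r⟩
      obtain ⟨p₀, hp₀⟩ := mapBaseChange_surjective k R (R ⧸ Ideal.span {x}) hsurj ω
      refine ⟨p₀ + (r - l' p₀) • v, ?_⟩
      change (φ (p₀ + (r - l' p₀) • v), l' (p₀ + (r - l' p₀) • v)) = (ω, r)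
      rw [map_add, map_smul, hφv, smul_zero, add_zero, map_add, map_smul, hl'v, smul_eq_mul,
        mul_one, add_sub_cancel]
      exact Prod.ext hp₀ rfl
  let E := LinearEquiv.ofBijective Φ hΦ
  -- `Ω'` is finitely generated projective, hence free
  haveI : Module.Finite R Ω[R⁄k] := Module.Finite.equiv e.symm
  haveI : Module.Free R Ω[R⁄k] := Module.Free.of_equiv e.symm
  haveI : Module.Finite (R ⧸ Ideal.span {x}) Ω[(R ⧸ Ideal.span {x})⁄k] :=
    Module.Finite.of_surjective φ (mapBaseChange_surjective k R (R ⧸ Ideal.span {x}) hsurj)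
  haveI : Module.Projective (R ⧸ Ideal.span {x}) Ω[(R ⧸ Ideal.span {x})⁄k] :=
    Module.Projective.of_split (E.symm.toLinearMap ∘ₗ LinearMap.inl _ _ _)
      (LinearMap.fst _ _ _ ∘ₗ E.toLinearMap) (by
        ext ω
        simp)
  haveI : Module.Free (R ⧸ Ideal.span {x}) Ω[(R ⧸ Ideal.span {x})⁄k] :=
    Module.free_of_flat_of_isLocalRing
  have hrank : Module.finrank (R ⧸ Ideal.span {x}) Ω[(R ⧸ Ideal.span {x})⁄k] = n := by
    have h1 := E.finrank_eq
    rw [Module.finrank_prod, Module.finrank_self, Module.finrank_baseChange, e.finrank_eq,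
      Module.finrank_fin_fun] at h1
    omega
  exact ⟨(Module.finBasisOfFinrankEq _ _ hrank).equivFun⟩

end quot

section main

variable (k : Type u) [Field k] [CharZero k]

/-- In characteristic zero, a Noetherian local `k`-algebra with residue field `k` whose module of
differentials is free of rank `n` has dimension at least `n`. -/
theorem le_ringKrullDim : ∀ (n : ℕ) (R : Type u) [CommRing R] [Algebra k R] [IsLocalRing R]
    [IsNoetherianRing R], Function.Surjective (algebraMap k (ResidueField R)) →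
    (Ω[R⁄k] ≃ₗ[R] (Fin n → R)) → (n : WithBot ℕ∞) ≤ ringKrullDim R := by
  intro n
  induction n with
  | zero =>
    intro R _ _ _ _ _ _
    rw [Nat.cast_zero]
    exact ringKrullDim_nonneg_of_nontrivial
  | succ n ih =>
    intro R _ _ _ _ hres e
    obtain ⟨x, l, hx, hl⟩ := exists_linearForm hres n e
    let d : Derivation k R R := l.compDer (D k R)
    have hd : d x = 1 := hl
    have hreg := isSMulRegular_of_derivation d x hx hd
    haveI := isLocalRing_quotient x hx
    obtain ⟨e'⟩ := exists_equiv_quotient n e x hx l hl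
    have hres' : Function.Surjective (algebraMap k (ResidueField (R ⧸ Ideal.span {x}))) := by
      intro y
      obtain ⟨a', rfl⟩ := residue_surjective y
      obtain ⟨a, rfl⟩ := Ideal.Quotient.mk_surjective a'
      obtain ⟨c, hc⟩ := exists_sub_mem hres a
      refine ⟨c, ?_⟩
      haveI : IsLocalHom (Ideal.Quotient.mk (Ideal.span {x})) :=
        IsLocalHom.of_surjective _ Ideal.Quotient.mk_surjective
      have h1 : Ideal.Quotient.mk (Ideal.span {x}) (a - algebraMap k R c) ∈
          maximalIdeal (R ⧸ Ideal.span {x}) := map_nonunit _ _ hc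
      rw [← residue_eq_zero_iff, map_sub, map_sub, sub_eq_zero] at h1
      rw [h1, IsScalarTower.algebraMap_apply k (R ⧸ Ideal.span {x})
        (ResidueField (R ⧸ Ideal.span {x}))]
      rfl
    have h1 := ih (R ⧸ Ideal.span {x}) hres' e'
    have h2 := ringKrullDim_quotient_span_singleton_succ_eq_ringKrullDim hreg hx
    rw [← h2, Nat.cast_succ]
    exact add_le_add_left h1 1

end main

end Groth.Agent.R2.H34.KaehlerReg
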