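import Mathlib

/-!
# McCoy's theorem for multivariate polynomials (helper34)

* `eq_zero_of_mul_eq_zero_of_smul`: if no nonzero scalar kills `P`, then `P` is a non-zero-divisor
  (McCoy), for `MvPolynomial σ R` (any `σ`, using the lexicographic monomial order on a
  linearly ordered well-founded `σ`; we state it for general `MonomialOrder`).
* `mem_nonZeroDivisors_of_span_coeff_eq_top`: a primitive polynomial is a non-zero-divisor.
-/

set_option autoImplicit false

namespace Groth.Agent.R2.H34.McCoy

open MvPolynomial
open scoped MonomialOrder

variable {σ : Type*} {R : Type*} [CommRing R]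

/-- McCoy: if `r • P = 0 → r = 0` for all scalars `r`, then `P * Q = 0 → Q = 0`. -/
theorem eq_zero_of_mul_eq_zero_of_smul (m : MonomialOrder σ) (P : MvPolynomial σ R)
    (h : ∀ r : R, r • P = 0 → r = 0) : ∀ Q : MvPolynomial σ R, P * Q = 0 → Q = 0 := by
  classical
  intro Q
  -- well-founded induction on the degree of `Q`
  induction' hd : m.toSyn (m.degree Q) using WellFoundedLT.induction with d IH generalizing Q
  intro hQ
  by_contra hQ0
  -- the set of monomials `a` of `P` with `P_a • Q ≠ 0`
  set S : Finset (σ →₀ ℕ) := P.support.filter (fun a => P.coeff a • Q ≠ 0) with hS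
  by_cases hSe : S = ∅
  · -- all `P_a • Q = 0`
    have hall : ∀ a, P.coeff a • Q = 0 := by
      intro a
      by_cases ha : a ∈ P.support
      · by_contra hne
        have : a ∈ S := by rw [hS, Finset.mem_filter]; exact ⟨ha, hne⟩
        rw [hSe] at this
        exact absurd this (Finset.notMem_empty a)
      · rw [notMem_support_iff.mp ha, zero_smul]
    have hlc : m.leadingCoeff Q • P = 0 := by
      ext a
      have := congrArg (fun p => coeff (m.degree Q) p) (hall a)
      simp only [coeff_smul, smul_eq_mul, coeff_zero] at this ⊢
      rw [mul_comm]; exact this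
    exact hQ0 (m.leadingCoeff_eq_zero_iff.mp (h _ hlc))
  · obtain ⟨a, haS, hamax⟩ := Finset.exists_max_image S m.toSyn (Finset.nonempty_iff_ne_empty.mpr hSe)
    have haS' := haS
    rw [hS, Finset.mem_filter] at haS'
    obtain ⟨haP, haQ⟩ := haS'
    -- `P_c • Q = 0` for `c ≻ a`
    have hgt : ∀ c, m.toSyn a < m.toSyn c → P.coeff c • Q = 0 := by
      intro c hc
      by_contra hne
      have hcS : c ∈ S := by
        rw [hS, Finset.mem_filter]
        refine ⟨?_, hne⟩
        rw [mem_support_iff]
        intro h0
        exact hne (by rw [h0, zero_smul])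
      exact absurd (hamax c hcS) (not_le.mpr hc)
    -- the key coefficient
    have hkey : P.coeff a * m.leadingCoeff Q = 0 := by
      have h1 : (P * Q).coeff (a + m.degree Q) = P.coeff a * m.leadingCoeff Q := by
        rw [coeff_mul]
        refine Finset.sum_eq_single (a, m.degree Q) ?_ ?_
        · rintro ⟨c, e⟩ hce hne
          rw [Finset.HasAntidiagonal.mem_antidiagonal] at hce
          dsimp only at hce ⊢
          rcases lt_trichotomy (m.toSyn c) (m.toSyn a) with hlt | heq | hgt'
          · -- then `e ≻ deg Q`
            have : m.degree Q ≺[m] e := by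
              apply lt_of_add_lt_add_left (a := m.toSyn c)
              have h2 : m.toSyn c + m.toSyn e = m.toSyn a + m.toSyn (m.degree Q) := by
                rw [← map_add, hce, map_add]
              rw [h2]
              exact add_lt_add_left hlt _
            rw [m.coeff_eq_zero_of_lt this, mul_zero]
          · exfalso
            apply hne
            have hca : c = a := m.toSyn.injective heq
            subst hca
            have h2 : e = m.degree Q := add_left_cancel hce
            rw [h2]
          · have h0 := hgt c hgt'
            have h2 : coeff e (P.coeff c • Q) = 0 := by rw [h0, coeff_zero]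
            rwa [coeff_smul, smul_eq_mul] at h2
        · intro hnot
          exfalso
          apply hnot
          rw [Finset.HasAntidiagonal.mem_antidiagonal]
      rw [← h1, hQ, coeff_zero]
    -- `Q' = P_a • Q` has smaller degree
    set Q' := P.coeff a • Q with hQ'
    have hPQ' : P * Q' = 0 := by
      rw [hQ', mul_smul_comm, hQ, smul_zero]
    have hdegle : m.degree Q' ≼[m] m.degree Q := m.degree_smul_le
    have hdeglt : m.toSyn (m.degree Q') < d := by
      rw [← hd]
      refine lt_of_le_of_ne hdegle ?_
      intro heq
      have heq' : m.degree Q' = m.degree Q := m.toSyn.injective heq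
      apply haQ
      rw [← m.leadingCoeff_eq_zero_iff, MonomialOrder.leadingCoeff, heq', hQ', coeff_smul,
        smul_eq_mul]
      exact hkey
    exact haQ (IH _ hdeglt Q' rfl hPQ')

/-- McCoy's theorem for multivariate polynomials: `P` is a non-zero-divisor as soon as no nonzero
scalar kills it. -/
theorem mem_nonZeroDivisors_of_forall_smul [LinearOrder σ] [WellFoundedGT σ]
    (P : MvPolynomial σ R) (h : ∀ r : R, r • P = 0 → r = 0) : P ∈ nonZeroDivisors (MvPolynomial σ R) := by
  rw [mem_nonZeroDivisors_iff_right]
  intro Q hQ
  exact eq_zero_of_mul_eq_zero_of_smul MonomialOrder.lex P h Q (by rw [mul_comm]; exact hQ)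

/-- A primitive polynomial is not killed by a nonzero scalar. -/
theorem eq_zero_of_smul_eq_zero_of_span_coeff_eq_top (P : MvPolynomial σ R)
    (hP : Ideal.span (Set.range P.coeff) = ⊤) (r : R) (hr : r • P = 0) : r = 0 := by
  have h1 : ∀ x ∈ Ideal.span (Set.range P.coeff), r * x = 0 := by
    intro x hx
    induction hx using Submodule.span_induction with
    | mem x hx =>
      obtain ⟨a, rfl⟩ := hx
      have := congrArg (fun p => coeff a p) hr
      simpa [coeff_smul] using this
    | zero => simp
    | add x y _ _ hx hy => rw [mul_add, hx, hy, add_zero]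
    | smul c x _ hx => rw [smul_eq_mul, mul_left_comm, hx, mul_zero]
  have := h1 1 (by rw [hP]; trivial)
  simpa using this

/-- A primitive polynomial in finitely many variables is a non-zero-divisor. -/
theorem mem_nonZeroDivisors_of_span_coeff_eq_top [LinearOrder σ] [WellFoundedGT σ]
    (P : MvPolynomial σ R) (hP : Ideal.span (Set.range P.coeff) = ⊤) :
    P ∈ nonZeroDivisors (MvPolynomial σ R) :=
  mem_nonZeroDivisors_of_forall_smul P (eq_zero_of_smul_eq_zero_of_span_coeff_eq_top P hP)

end Groth.Agent.R2.H34.McCoy
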