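import Mathlib

/-!
# Helpers for "no embedded points when global sections are reduced" (helper34)

* `isClosed_singleton_of_specializes_of_ne`: in a T0 space of Krull dimension ≤ 1, a proper
  specialization of a point is a closed point.
* `exists_nilpotent_of_isAssociatedPrime`: Noetherian ring `B`, maximal ideal `m`, prime `q < m`,
  `m B_m ∈ Ass(B_m)`: then some nonzero `b ∈ B` has `b * b = 0` and `m b = 0`.
-/

set_option autoImplicit false
set_option linter.style.haveILetI false
set_option linter.deprecated false

namespace Groth.Agent.R2.H34.NoEmb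

open TopologicalSpace

section Topology

variable {X : Type*} [TopologicalSpace X]

theorem isClosed_singleton_of_specializes_of_ne [T0Space X]
    (hdim : topologicalKrullDim X ≤ 1) {y x : X} (hyx : y ⤳ x) (hne : y ≠ x) :
    IsClosed ({x} : Set X) := by
  by_contra hcl
  have hne' : closure ({x} : Set X) ≠ {x} := fun h => hcl (h ▸ isClosed_closure)
  obtain ⟨z, hz, hzx⟩ : ∃ z ∈ closure ({x} : Set X), z ≠ x := by
    by_contra hcon
    push Not at hcon
    apply hne'
    apply Set.Subset.antisymm
    · intro z hz
      exact hcon z hz
    · exact subset_closure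
  let Z₀ : IrreducibleCloseds X := ⟨closure {z}, isIrreducible_singleton.closure, isClosed_closure⟩
  let Z₁ : IrreducibleCloseds X := ⟨closure {x}, isIrreducible_singleton.closure, isClosed_closure⟩
  let Z₂ : IrreducibleCloseds X := ⟨closure {y}, isIrreducible_singleton.closure, isClosed_closure⟩
  have h01 : Z₀ < Z₁ := by
    refine lt_of_le_of_ne ?_ ?_
    · show closure {z} ⊆ closure {x}
      exact closure_minimal (Set.singleton_subset_iff.2 hz) isClosed_closure
    · intro h
      have h' : closure ({z} : Set X) = closure {x} :=
        congrArg (fun W : IrreducibleCloseds X => (W : Set X)) h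
      have hxz : x ∈ closure ({z} : Set X) := h' ▸ subset_closure rfl
      have h1 : x ⤳ z := specializes_iff_mem_closure.2 hz
      have h2 : z ⤳ x := specializes_iff_mem_closure.2 hxz
      exact hzx (h2.antisymm h1).eq
  have h12 : Z₁ < Z₂ := by
    refine lt_of_le_of_ne ?_ ?_
    · show closure {x} ⊆ closure {y}
      exact closure_minimal (Set.singleton_subset_iff.2 (specializes_iff_mem_closure.1 hyx))
        isClosed_closure
    · intro h
      have h' : closure ({x} : Set X) = closure {y} :=
        congrArg (fun W : IrreducibleCloseds X => (W : Set X)) h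
      have hyx' : y ∈ closure ({x} : Set X) := h' ▸ subset_closure rfl
      have h1 : x ⤳ y := specializes_iff_mem_closure.2 hyx'
      exact hne (hyx.antisymm h1).eq
  let p : LTSeries (IrreducibleCloseds X) := LTSeries.mk 2 ![Z₀, Z₁, Z₂] (by
    rw [Fin.strictMono_iff_lt_succ]
    intro i
    fin_cases i
    · exact h01
    · exact h12)
  have h2 : ((2 : ℕ) : WithBot ℕ∞) ≤ topologicalKrullDim X := Order.LTSeries.length_le_krullDim p
  have : ((2 : ℕ) : WithBot ℕ∞) ≤ 1 := h2.trans hdim
  exact absurd this (by decide)

end Topology

section Algebra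

open IsLocalRing

theorem exists_nilpotent_of_isAssociatedPrime (B : Type*) [CommRing B] [IsNoetherianRing B]
    (S : Type*) [CommRing S] [Algebra B S] [IsLocalRing S]
    (m : Ideal B) [hm : m.IsMaximal] [IsLocalization.AtPrime S m]
    (q : Ideal B) [hq : q.IsPrime] (hqm : q < m)
    (h : IsAssociatedPrime (maximalIdeal S) S) :
    ∃ b : B, b ≠ 0 ∧ b * b = 0 ∧ ∀ t ∈ m, t * b = 0 := by
  haveI : IsLocalizedModule m.primeCompl (Algebra.linearMap B S) :=
    isLocalizedModule_iff_isLocalization.mpr inferInstance
  have key := Module.associatedPrimes.preimage_comap_associatedPrimes_eq_associatedPrimes_of_isLocalizedModule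
    m.primeCompl S (Algebra.linearMap B S)
  have hc : (maximalIdeal S).comap (algebraMap B S) = m :=
    IsLocalization.AtPrime.comap_maximalIdeal S m
  have hmass : m ∈ associatedPrimes B B := by
    have h1 : maximalIdeal S ∈ associatedPrimes S S := h
    rw [← key, Set.mem_preimage, hc] at h1
    exact h1
  obtain ⟨-, b, hb⟩ := (isAssociatedPrime_iff (M := B)).mp hmass
  have hmb : ∀ t ∈ m, t * b = 0 := by
    intro t ht
    rw [hb, Submodule.mem_colon_singleton] at ht
    simpa using ht
  have hb0 : b ≠ 0 := by
    rintro rfl
    apply hm.ne_top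
    rw [hb, Ideal.eq_top_iff_one, Submodule.mem_colon_singleton]
    simp
  have hbm : b ∈ m := by
    by_contra hbm
    apply hqm.not_ge
    intro t ht
    have h0 : t * b ∈ q := by rw [hmb t ht]; exact q.zero_mem
    rcases hq.mem_or_mem h0 with h1 | h1
    · exact h1
    · exact absurd (hqm.le h1) hbm
  exact ⟨b, hb0, hmb b hbm, hmb⟩

end Algebra

end Groth.Agent.R2.H34.NoEmb
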