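import Groth.Agent.R2.H34Rigidity

/-!
# Rigidity without flatness: epimorphisms and gluing of local factorizations (helper34)

* `epi_of_surjective_of_injective_app`: a surjective morphism `p : X ⟶ S` with `O_S → p_* O_X`
  injective is an epimorphism of schemes; also for `p ∣_ V` and `pullback.snd p a`, `a` an open
  immersion.
* `factor_compat'`: uniqueness of local factorizations of `f` through `p`.
* `exists_factor_baseChange`: if `τ : T ⟶ S` lands in the locus where `f` factors locally through
  `p`, the base change of `f` to `T` factors through the projection.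
-/

set_option autoImplicit false
universe u

open CategoryTheory CategoryTheory.Limits AlgebraicGeometry Opposite TopologicalSpace

namespace Groth.Agent.R2.H34.RigidityEpi

/-- a surjective morphism with `O_S → p_* O_X` injective is an epimorphism of schemes -/
theorem epi_of_surjective_of_injective_app {X S : Scheme.{u}} (p : X ⟶ S) [Surjective p]
    (hinj : ∀ U : S.Opens, Function.Injective (p.app U).hom) : Epi p := by
  refine ⟨fun {Z} t t' h => ?_⟩
  have hpt : ∀ s : S, t s = t' s := by
    intro s
    obtain ⟨x, rfl⟩ := p.surjective s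
    rw [← Scheme.Hom.comp_apply, ← Scheme.Hom.comp_apply, h]
  let W : Z.affineCover.I₀ → Z.Opens := fun i => (Z.affineCover.f i).opensRange
  have hW : ∀ i, IsAffineOpen (W i) := fun i => isAffineOpen_opensRange _
  let V : Z.affineCover.I₀ → S.Opens := fun i => t ⁻¹ᵁ W i
  have hV' : ∀ i, V i ≤ t' ⁻¹ᵁ W i := fun i s hs => by
    show t' s ∈ W i
    rw [← hpt]; exact hs
  have hcov : IsOpenCover V := by
    rw [IsOpenCover, ← top_le_iff]
    intro s _
    exact Opens.mem_iSup.mpr ⟨Z.affineCover.idx (t s), Z.affineCover.covers (t s)⟩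
  suffices key : ∀ i : Z.affineCover.I₀, (V i).ι ≫ t = (V i).ι ≫ t' from
    Scheme.Cover.hom_ext (S.openCoverOfIsOpenCover V hcov) _ _ key
  intro i
  rw [← Scheme.Hom.resLE_comp_ι t (le_refl _), ← Scheme.Hom.resLE_comp_ι t' (hV' i)]
  congr 1
  have : IsAffine (W i).toScheme := hW i
  apply ext_of_isAffine
  have hmono : Function.Injective (p ∣_ V i).appTop.hom := by
    have e := morphismRestrict_appTop p (V i)
    have h3 : Function.Injective
        ((X.presheaf.map (eqToHom (image_morphismRestrict_preimage p (V i) ⊤)).op).hom ∘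
          (p.app ((V i).ι ''ᵁ ⊤)).hom) :=
      (ConcreteCategory.bijective_of_isIso
        (X.presheaf.map (eqToHom (image_morphismRestrict_preimage p (V i) ⊤)).op)).1.comp (hinj _)
    intro a b hab
    apply h3
    have ea := congr($e a)
    have eb := congr($e b)
    exact ea.symm.trans (hab.trans eb)
  have hcomp : (p ∣_ V i) ≫ t.resLE (W i) (V i) le_rfl =
      (p ∣_ V i) ≫ t'.resLE (W i) (V i) (hV' i) := by
    rw [← cancel_mono (W i).ι, Category.assoc, Category.assoc, Scheme.Hom.resLE_comp_ι,
      Scheme.Hom.resLE_comp_ι, morphismRestrict_ι_assoc, morphismRestrict_ι_assoc, h]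
  have h2 := congr_arg Scheme.Hom.appTop hcomp
  rw [Scheme.Hom.comp_appTop, Scheme.Hom.comp_appTop] at h2
  ext a
  apply hmono
  exact congr($h2 a)

/-- the same for the restriction over an open subset. -/
theorem epi_morphismRestrict {X S : Scheme.{u}} (p : X ⟶ S) [Surjective p]
    (hinj : ∀ U : S.Opens, Function.Injective (p.app U).hom) (V : S.Opens) : Epi (p ∣_ V) := by
  have : Surjective (p ∣_ V) := IsZariskiLocalAtTarget.restrict (P := @Surjective) ‹_› V
  apply epi_of_surjective_of_injective_app
  intro U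
  have e := morphismRestrict_app p V U
  have h3 : Function.Injective
      ((X.presheaf.map (eqToHom (image_morphismRestrict_preimage p V U)).op).hom ∘
        (p.app (V.ι ''ᵁ U)).hom) :=
    (ConcreteCategory.bijective_of_isIso
      (X.presheaf.map (eqToHom (image_morphismRestrict_preimage p V U)).op)).1.comp (hinj _)
  intro a b hab
  apply h3
  have ea := congr($e a)
  have eb := congr($e b)
  exact ea.symm.trans (hab.trans eb)

/-- the same for the base change along an open immersion. -/
theorem epi_pullback_snd {X S Z : Scheme.{u}} (p : X ⟶ S) [Surjective p]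
    (hinj : ∀ U : S.Opens, Function.Injective (p.app U).hom) (a : Z ⟶ S) [IsOpenImmersion a] :
    Epi (pullback.snd p a) := by
  have := epi_morphismRestrict p hinj a.opensRange
  have e := morphismRestrictOpensRange p a
  have h1 : pullback.snd p a = e.inv.left ≫ (p ∣_ a.opensRange) ≫ e.hom.right := by
    have hw : e.inv.left ≫ (p ∣_ a.opensRange) = pullback.snd p a ≫ e.inv.right := e.inv.w
    rw [reassoc_of% hw, ← Arrow.comp_right, e.inv_hom_id]
    simp
  rw [h1]
  infer_instance

open Rigidity

variable {X S Y : Scheme.{u}} {p : X ⟶ S} {f : X ⟶ Y}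

/-- two local factorizations agree on the overlap (`p` surjective with `O_S → p_* O_X`
injective). -/
theorem factor_compat' [Surjective p] (hinj : ∀ U : S.Opens, Function.Injective (p.app U).hom)
    {U U' : S.Opens} (t : U.toScheme ⟶ Y)
    (t' : U'.toScheme ⟶ Y) (ht : pullback.fst p U.ι ≫ f = pullback.snd p U.ι ≫ t)
    (ht' : pullback.fst p U'.ι ≫ f = pullback.snd p U'.ι ≫ t') :
    pullback.fst U.ι U'.ι ≫ t = pullback.snd U.ι U'.ι ≫ t' := by
  set a : pullback U.ι U'.ι ⟶ S := pullback.fst U.ι U'.ι ≫ U.ι with ha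
  have : Epi (pullback.snd p a) := epi_pullback_snd p hinj a
  rw [← cancel_epi (pullback.snd p a)]
  have hc1 : pullback.fst p a ≫ p = (pullback.snd p a ≫ pullback.fst U.ι U'.ι) ≫ U.ι := by
    rw [pullback.condition, Category.assoc]
  have hc2 : pullback.fst p a ≫ p = (pullback.snd p a ≫ pullback.snd U.ι U'.ι) ≫ U'.ι := by
    rw [pullback.condition, Category.assoc, ha, pullback.condition]
  have e1 : pullback.snd p a ≫ pullback.fst U.ι U'.ι ≫ t = pullback.fst p a ≫ f := by
    rw [← Category.assoc, ← pullback.lift_snd (pullback.fst p a)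
      (pullback.snd p a ≫ pullback.fst U.ι U'.ι) hc1, Category.assoc, ← ht,
      pullback.lift_fst_assoc]
  have e2 : pullback.snd p a ≫ pullback.snd U.ι U'.ι ≫ t' = pullback.fst p a ≫ f := by
    rw [← Category.assoc, ← pullback.lift_snd (pullback.fst p a)
      (pullback.snd p a ≫ pullback.snd U.ι U'.ι) hc2, Category.assoc, ← ht',
      pullback.lift_fst_assoc]
  rw [e1, e2]

/-- if `τ : T ⟶ S` lands in the locus where `f` factors locally through `p`, then the base change
of `f` to `T` factors through the projection to `T`. -/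
theorem exists_factor_baseChange [Surjective p]
    (hinj : ∀ U : S.Opens, Function.Injective (p.app U).hom) (q : Y ⟶ S) (hf : f ≫ q = p)
    {T : Scheme.{u}} (τ : T ⟶ S)
    (hloc : ∀ t : T, ∃ U : S.Opens, τ t ∈ U ∧ FactorsOver p f U) :
    ∃ r : T ⟶ Y, r ≫ q = τ ∧ pullback.fst p τ ≫ f = pullback.snd p τ ≫ r := by
  choose U hU hfac using hloc
  choose tU htU using hfac
  let A : T → T.Opens := fun t => τ ⁻¹ᵁ U t
  have hcov : IsOpenCover A := by
    rw [IsOpenCover, ← top_le_iff]
    intro t _
    exact Opens.mem_iSup.mpr ⟨t, hU t⟩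
  let 𝒰 : T.OpenCover := T.openCoverOfIsOpenCover A hcov
  let g : ∀ t : T, (A t).toScheme ⟶ Y := fun t => (τ ∣_ U t) ≫ tU t
  have hcompat : ∀ t t' : T, pullback.fst (A t).ι (A t').ι ≫ g t =
      pullback.snd (A t).ι (A t').ι ≫ g t' := by
    intro t t'
    let m : pullback (A t).ι (A t').ι ⟶ pullback (U t).ι (U t').ι :=
      pullback.map _ _ _ _ (τ ∣_ U t) (τ ∣_ U t') τ (morphismRestrict_ι _ _).symm
        (morphismRestrict_ι _ _).symm
    have h1 : pullback.fst (A t).ι (A t').ι ≫ (τ ∣_ U t) = m ≫ pullback.fst _ _ :=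
      (pullback.lift_fst _ _ _).symm
    have h2 : pullback.snd (A t).ι (A t').ι ≫ (τ ∣_ U t') = m ≫ pullback.snd _ _ :=
      (pullback.lift_snd _ _ _).symm
    show pullback.fst (A t).ι (A t').ι ≫ (τ ∣_ U t) ≫ tU t =
      pullback.snd (A t).ι (A t').ι ≫ (τ ∣_ U t') ≫ tU t'
    rw [reassoc_of% h1, reassoc_of% h2, factor_compat' hinj (tU t) (tU t') (htU t) (htU t')]
  let r : T ⟶ Y := 𝒰.glueMorphisms g hcompat
  have hr : ∀ t, (A t).ι ≫ r = g t := fun t => 𝒰.ι_glueMorphisms g hcompat t
  have htq : ∀ t, tU t ≫ q = (U t).ι := by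
    intro t
    have : Epi (pullback.snd p (U t).ι) := epi_pullback_snd p hinj _
    rw [← cancel_epi (pullback.snd p (U t).ι), ← reassoc_of% (htU t), hf, pullback.condition]
  refine ⟨r, ?_, ?_⟩
  · refine Scheme.Cover.hom_ext 𝒰 _ _ fun t => ?_
    show (A t).ι ≫ r ≫ q = (A t).ι ≫ τ
    rw [reassoc_of% (hr t)]
    show ((τ ∣_ U t) ≫ tU t) ≫ q = _
    rw [Category.assoc, htq, morphismRestrict_ι]
  · refine Scheme.Cover.hom_ext (𝒰.pullback₁ (pullback.snd p τ)) _ _ fun t => ?_
    show pullback.fst (pullback.snd p τ) (A t).ι ≫ pullback.fst p τ ≫ f =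
      pullback.fst (pullback.snd p τ) (A t).ι ≫ pullback.snd p τ ≫ r
    have hc : (pullback.fst (pullback.snd p τ) (A t).ι ≫ pullback.fst p τ) ≫ p =
        (pullback.snd (pullback.snd p τ) (A t).ι ≫ (τ ∣_ U t)) ≫ (U t).ι := by
      rw [Category.assoc, pullback.condition, pullback.condition_assoc, Category.assoc,
        morphismRestrict_ι]
    rw [pullback.condition_assoc, hr]
    show _ = pullback.snd (pullback.snd p τ) (A t).ι ≫ (τ ∣_ U t) ≫ tU t
    rw [← Category.assoc, ← pullback.lift_fst _ _ hc, Category.assoc, htU t,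
      pullback.lift_snd_assoc, Category.assoc]

end Groth.Agent.R2.H34.RigidityEpi
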