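import Mathlib
import Groth.Agent.R2.H34PInsepGlue
import Groth.Agent.Lib.Helper6SmGeom

/-!
# Smooth stratification after a finite purely inseparable extension (helper34, for S7632)

* `isReduced_vanishingIdeal_subscheme`: the reduced induced structure is reduced.
* `vanishingIdeal_le_ker`: a morphism from a reduced scheme with image in a closed set `T` kills
  the vanishing ideal of `T`.
* `exists_iso_stratum`: uniqueness of the reduced induced structure on a locally closed subset.
* `GoodStratum`, `GoodStratum.baseChange`, `GoodStratum.smooth`.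
-/

set_option autoImplicit false
set_option linter.style.haveILetI false
universe u

open CategoryTheory CategoryTheory.Limits AlgebraicGeometry Opposite TensorProduct TopologicalSpace

namespace Groth.Agent.R2.H34.SmoothStrat

open Scheme.IdealSheafData

variable {Y : Scheme.{u}}

/-- The reduced induced closed subscheme structure is reduced. -/
instance isReduced_vanishingIdeal_subscheme (T : Closeds Y) :
    IsReduced (vanishingIdeal T).subscheme := by
  haveI : ∀ U : (vanishingIdeal T).subschemeCover.openCover.I₀,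
      IsReduced ((vanishingIdeal T).subschemeCover.openCover.X U) := by
    intro U
    haveI : _root_.IsReduced (Γ(Y, U.1) ⧸ (vanishingIdeal T).ideal U) := by
      apply (Ideal.isRadical_iff_quotient_reduced _).mp
      rw [vanishingIdeal_ideal]
      exact PrimeSpectrum.isRadical_vanishingIdeal _
    show IsReduced (Spec (CommRingCat.of (Γ(Y, U.1) ⧸ (vanishingIdeal T).ideal U)))
    infer_instance
  exact IsReduced.of_openCover _ (vanishingIdeal T).subschemeCover.openCover

/-- A morphism from a reduced scheme whose image lies in the closed set `T` kills the vanishing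
ideal of `T`. -/
theorem vanishingIdeal_le_ker {Z : Scheme.{u}} [IsReduced Z] (j : Z ⟶ Y) (T : Closeds Y)
    (h : Set.range j ⊆ (T : Set Y)) : vanishingIdeal T ≤ j.ker := by
  unfold Scheme.Hom.ker
  rw [le_ofIdeals_iff]
  intro U s hs
  rw [vanishingIdeal_ideal, PrimeSpectrum.mem_vanishingIdeal] at hs
  rw [RingHom.mem_ker, ← AlgebraicGeometry.basicOpen_eq_bot_iff, ← Scheme.preimage_basicOpen]
  rw [← le_bot_iff]
  intro z hz
  exfalso
  change j z ∈ Y.basicOpen s at hz
  have hzU : j z ∈ U.1 := Y.basicOpen_le s hz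
  have hzT : j z ∈ (T : Set Y) := h ⟨z, rfl⟩
  have hzU' : j z ∈ Set.range U.2.fromSpec := by rw [U.2.range_fromSpec]; exact hzU
  obtain ⟨p, hp⟩ := hzU'
  have h1 : s ∈ p.asIdeal := hs p (by rw [Set.mem_preimage, hp]; exact hzT)
  have h2 : p ∈ U.2.fromSpec ⁻¹ᵁ Y.basicOpen s := by
    rw [Scheme.Hom.mem_preimage, hp]; exact hz
  rw [U.2.fromSpec_preimage_basicOpen] at h2
  exact h2 h1

/-- Uniqueness of the reduced induced structure on a locally closed subset: a reduced scheme
immersed in `Y` with image `T \ W` is the open subscheme `W.compl` of the reduced induced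
subscheme on `T`. -/
theorem exists_iso_stratum (T W : Closeds Y) {Z : Scheme.{u}} [IsReduced Z] (j : Z ⟶ Y)
    [IsImmersion j] (hj : Set.range j = (T : Set Y) \ (W : Set Y)) :
    ∃ e : Z ≅ ((vanishingIdeal T).subschemeι ⁻¹ᵁ W.compl).toScheme,
      e.hom ≫ ((vanishingIdeal T).subschemeι ⁻¹ᵁ W.compl).ι ≫ (vanishingIdeal T).subschemeι = j := by
  set ι := (vanishingIdeal T).subschemeι with hι
  set O := ι ⁻¹ᵁ W.compl with hO
  have hker : ι.ker ≤ j.ker := by
    rw [hι, ker_subschemeι]
    exact vanishingIdeal_le_ker j T (by rw [hj]; exact Set.sdiff_subset)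
  let l : Z ⟶ (vanishingIdeal T).subscheme := IsClosedImmersion.lift ι j hker
  have hl : l ≫ ι = j := IsClosedImmersion.lift_fac ι j hker
  have hlO : Set.range l ⊆ Set.range O.ι := by
    rw [Scheme.Opens.range_ι]
    rintro _ ⟨z, rfl⟩
    show ι (l z) ∈ W.compl
    rw [← Scheme.Hom.comp_apply, hl]
    have : j z ∈ (T : Set Y) \ (W : Set Y) := by rw [← hj]; exact ⟨z, rfl⟩
    exact this.2
  let l' : Z ⟶ O.toScheme := IsOpenImmersion.lift O.ι l hlO
  have hl' : l' ≫ O.ι = l := IsOpenImmersion.lift_fac O.ι l hlO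
  have hfac : l' ≫ O.ι ≫ ι = j := by rw [← Category.assoc, hl', hl]
  haveI : IsImmersion (l' ≫ O.ι ≫ ι) := by rw [hfac]; infer_instance
  haveI : IsImmersion l' := IsImmersion.of_comp l' (O.ι ≫ ι)
  have hsurj : Function.Surjective l' := by
    intro o
    have h1 : ι (O.ι o) ∈ (T : Set Y) \ (W : Set Y) := by
      refine ⟨?_, ?_⟩
      · have : ι (O.ι o) ∈ Set.range ι := ⟨_, rfl⟩
        rw [hι, range_subschemeι, coe_support_vanishingIdeal] at this
        exact this
      · have : (O.ι o) ∈ O := by
          rw [Scheme.Opens.ι_apply]; exact o.2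
        exact this
    rw [← hj] at h1
    obtain ⟨z, hz⟩ := h1
    refine ⟨z, ?_⟩
    apply O.ι.injective
    apply ι.injective
    rw [← hz, ← hfac]
    rfl
  haveI : Surjective l' := ⟨hsurj⟩
  haveI : IsClosedImmersion l' := IsClosedImmersion.of_isPreimmersion l' (by
    rw [Set.range_eq_univ.mpr hsurj]; exact isClosed_univ)
  haveI : IsReduced O.toScheme := isReduced_of_isOpenImmersion O.ι
  haveI : IsIso l' := isIso_of_isClosedImmersion_of_surjective l'
  exact ⟨asIso l', hfac⟩

/-- A stratum `T \ W` of `Y` which is smooth over `S` for its reduced structure, presented by an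
arbitrary immersion with this image whose source is smooth over `S`. -/
def GoodStratum {S : Scheme.{u}} (g : Y ⟶ S) (T W : Closeds Y) : Prop :=
  ∃ (Z : Scheme.{u}) (j : Z ⟶ Y), IsImmersion j ∧ Set.range j = (T : Set Y) \ (W : Set Y) ∧
    Smooth (j ≫ g)

/-- Good strata are stable under base change. -/
theorem GoodStratum.baseChange {Y' S S' : Scheme.{u}} {g : Y ⟶ S} {g' : Y' ⟶ S'} {φ : Y' ⟶ Y}
    {σ : S' ⟶ S} (h : IsPullback φ g' g σ) {T W : Closeds Y} (hg : GoodStratum g T W) :
    GoodStratum g' (T.preimage φ.continuous) (W.preimage φ.continuous) := by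
  obtain ⟨Z, j, hj, hr, hs⟩ := hg
  refine ⟨pullback j φ, pullback.snd j φ, inferInstance, ?_, ?_⟩
  · rw [Scheme.Pullback.range_snd, hr]
    rfl
  · have hp : IsPullback (pullback.fst j φ) (pullback.snd j φ ≫ g') (j ≫ g) σ :=
      (IsPullback.of_hasPullback j φ).paste_vert h
    exact MorphismProperty.of_isPullback hp hs

/-- For a good stratum over a field the open subscheme `W.compl` of the reduced induced subscheme
on `T` is smooth. -/
theorem GoodStratum.smooth {K : Type u} [Field K] {g : Y ⟶ Spec (CommRingCat.of K)}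
    {T W : Closeds Y} (hg : GoodStratum g T W) :
    Smooth (((vanishingIdeal T).subschemeι ⁻¹ᵁ W.compl).ι ≫ (vanishingIdeal T).subschemeι ≫ g) := by
  obtain ⟨Z, j, hj, hr, hs⟩ := hg
  haveI : IsReduced Z := Groth.Agent.Lib.Helper6.SmGeom.isReduced_of_smooth_over_field K Z (j ≫ g)
  obtain ⟨e, he⟩ := exists_iso_stratum T W j hr
  have : ((vanishingIdeal T).subschemeι ⁻¹ᵁ W.compl).ι ≫ (vanishingIdeal T).subschemeι ≫ g =
      e.inv ≫ j ≫ g := by
    rw [← he]
    simp
  rw [this]
  infer_instance

section exists_good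

variable {K : Type u} [Field K]

/-- From S2769: a nonempty closed subset `T` of a scheme of finite type over a field `K` has a
strictly smaller closed subset `W` such that, after a finite purely inseparable extension `K'/K`,
`T \ W` is a good stratum of the base change. -/
theorem exists_goodStratum (g : Y ⟶ Spec (CommRingCat.of K)) [LocallyOfFiniteType g]
    [QuasiCompact g] (T : Closeds Y) (hT : (T : Set Y).Nonempty) :
    ∃ W : Closeds Y, W < T ∧ ∃ (K' : Type u) (_ : Field K') (_ : Algebra K K')
      (_ : Module.Finite K K') (_ : IsPurelyInseparable K K'),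
      GoodStratum (pullback.snd g (Spec.map (CommRingCat.ofHom (algebraMap K K'))))
        (T.preimage (pullback.fst g (Spec.map (CommRingCat.ofHom (algebraMap K K')))).continuous)
        (W.preimage (pullback.fst g (Spec.map (CommRingCat.ofHom (algebraMap K K')))).continuous) := by
  set ι := (vanishingIdeal T).subschemeι with hι
  have hrange : Set.range ι = (T : Set Y) := by
    rw [hι, range_subschemeι, coe_support_vanishingIdeal]
  obtain ⟨U, hUd, K', iF, iA, hfin, hpi, Z, hZ, i, hci, hsurj, hsm⟩ :=
    PInsepGlue.main K (ι ≫ g)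
  -- the closed complement
  let W : Closeds Y := ⟨ι '' ((U : Set (vanishingIdeal T).subscheme)ᶜ),
    ι.isClosedEmbedding.isClosedMap _ U.2.isClosed_compl⟩
  have hWT : (W : Set Y) ⊆ T := by
    rintro _ ⟨x, -, rfl⟩
    rw [← hrange]; exact ⟨x, rfl⟩
  have hdiff : (T : Set Y) \ (W : Set Y) = ι '' (U : Set (vanishingIdeal T).subscheme) := by
    ext y
    constructor
    · rintro ⟨hyT, hyW⟩
      rw [← hrange] at hyT
      obtain ⟨x, rfl⟩ := hyT
      refine ⟨x, ?_, rfl⟩
      by_contra hx
      exact hyW ⟨x, hx, rfl⟩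
    · rintro ⟨x, hx, rfl⟩
      refine ⟨by rw [← hrange]; exact ⟨x, rfl⟩, ?_⟩
      rintro ⟨x', hx', he⟩
      rw [ι.injective he] at hx'
      exact hx' hx
  refine ⟨W, ?_, K', iF, iA, hfin, hpi, ?_⟩
  · refine lt_of_le_of_ne hWT ?_
    intro heq
    -- `U` is nonempty
    obtain ⟨y, hy⟩ := hT
    rw [← hrange] at hy
    obtain ⟨x, rfl⟩ := hy
    obtain ⟨u, -, hu⟩ := hUd.inter_open_nonempty Set.univ isOpen_univ ⟨x, trivial⟩
    have h1 : ι u ∈ (T : Set Y) \ (W : Set Y) := by rw [hdiff]; exact ⟨u, hu, rfl⟩
    rw [heq] at h1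
    exact h1.2 h1.1
  · have e₁ : U.ι ≫ ι ≫ g = (U.ι ≫ ι) ≫ g := by rw [Category.assoc]
    let m : pullback (U.ι ≫ ι ≫ g) (Spec.map (CommRingCat.ofHom (algebraMap K K'))) ⟶
        pullback g (Spec.map (CommRingCat.ofHom (algebraMap K K'))) :=
      pullback.map (U.ι ≫ ι ≫ g) _ g _ (U.ι ≫ ι) (𝟙 _) (𝟙 _)
        ((Category.comp_id _).trans e₁) ((Category.comp_id _).trans (Category.id_comp _).symm)
    haveI : IsImmersion m :=
      MorphismProperty.pullbackMap (P := @IsImmersion) (inferInstance : IsImmersion (U.ι ≫ ι))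
        (inferInstance : IsImmersion (𝟙 (Spec (CommRingCat.of K')))) e₁ (Category.id_comp _).symm
    haveI := hci
    refine ⟨Z, i ≫ m, inferInstance, ?_, ?_⟩
    · rw [Scheme.Hom.comp_base, TopCat.coe_comp, Set.range_comp, Set.range_eq_univ.mpr hsurj,
        Set.image_univ]
      dsimp only [m]
      rw [Scheme.Pullback.range_map]
      simp only [Scheme.Hom.id_base, TopCat.coe_id, Set.range_id, Set.preimage_univ,
        Set.inter_univ]
      rw [Scheme.Hom.comp_base, TopCat.coe_comp, Set.range_comp, Scheme.Opens.range_ι, ← hdiff]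
      rfl
    · have : (i ≫ m) ≫ pullback.snd g _ = i ≫ pullback.snd (U.ι ≫ ι ≫ g) _ := by
        dsimp only [m]
        rw [Category.assoc, pullback.lift_snd, Category.comp_id]
      rw [this]
      exact hsm

end exists_good

section fieldext

variable (k K : Type u) [Field k] [Field K] [Algebra k K]

theorem universallyInjective_specMap [IsPurelyInseparable k K] :
    UniversallyInjective (Spec.map (CommRingCat.ofHom (algebraMap k K))) := by
  have := (tfae_universallyInjective (f := Spec.map (CommRingCat.ofHom (algebraMap k K)))).out 0 1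
  rw [this]
  intro L _ g₁ g₂ h
  dsimp only at h
  rw [← Spec.map_preimage g₁, ← Spec.map_preimage g₂] at h ⊢
  rw [← Spec.map_comp, ← Spec.map_comp] at h
  have h' := Spec.map_injective h
  congr 1
  ext x
  have := IsPurelyInseparable.injective_comp_algebraMap k K L
    (a₁ := (Spec.preimage g₁).hom) (a₂ := (Spec.preimage g₂).hom)
    (by
      ext y
      have := congrArg (fun φ => φ.hom y) h'
      simpa using this)
  rw [this]

theorem isFinite_specMap [Module.Finite k K] :
    IsFinite (Spec.map (CommRingCat.ofHom (algebraMap k K))) := by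
  rw [IsFinite.SpecMap_iff]
  exact RingHom.finite_algebraMap.mpr inferInstance

theorem surjective_specMap :
    Surjective (Spec.map (CommRingCat.ofHom (algebraMap k K))) := by
  constructor
  intro x
  exact ⟨default, Subsingleton.elim _ _⟩

end fieldext

section tower

variable (k : Type u) [Field k] {X : Scheme.{u}} (f : X ⟶ Spec (CommRingCat.of k))

/-- `Spec K' ⟶ Spec K` for a field extension. -/
noncomputable abbrev sp (K K' : Type u) [Field K] [Field K'] [Algebra K K'] :
    Spec (CommRingCat.of K') ⟶ Spec (CommRingCat.of K) :=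
  Spec.map (CommRingCat.ofHom (algebraMap K K'))

theorem sp_comp (K K' : Type u) [Field K] [Field K'] [Algebra k K] [Algebra k K'] [Algebra K K']
    [IsScalarTower k K K'] : sp K K' ≫ sp k K = sp k K' := by
  rw [sp, sp, sp, ← Spec.map_comp, ← CommRingCat.ofHom_comp, ← IsScalarTower.algebraMap_eq]

theorem injective_fst (K : Type u) [Field K] [Algebra k K] [IsPurelyInseparable k K] :
    Function.Injective (pullback.fst f (sp k K)) := by
  haveI : UniversallyInjective (pullback.fst f (sp k K)) :=
    MorphismProperty.pullback_fst (P := @UniversallyInjective) f (sp k K)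
      (universallyInjective_specMap k K)
  exact (pullback.fst f (sp k K)).injective

theorem surjective_fst (K : Type u) [Field K] [Algebra k K] :
    Function.Surjective (pullback.fst f (sp k K)) := by
  haveI := surjective_specMap k K
  exact (pullback.fst f (sp k K)).surjective

theorem isClosedMap_fst (K : Type u) [Field K] [Algebra k K] [Module.Finite k K] :
    IsClosedMap (pullback.fst f (sp k K)) := by
  haveI := isFinite_specMap k K
  exact (pullback.fst f (sp k K)).isClosedMap

/-- The transition map `X_{K'} ⟶ X_K` of a tower `k → K → K'`. -/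
noncomputable def towerMap (K K' : Type u) [Field K] [Field K'] [Algebra k K] [Algebra k K']
    [Algebra K K'] [IsScalarTower k K K'] : pullback f (sp k K') ⟶ pullback f (sp k K) :=
  pullback.lift (pullback.fst _ _) (pullback.snd _ _ ≫ sp K K')
    (by rw [Category.assoc, sp_comp, pullback.condition])

variable (K K' : Type u) [Field K] [Field K'] [Algebra k K] [Algebra k K']
    [Algebra K K'] [IsScalarTower k K K']

@[reassoc (attr := simp)]
theorem towerMap_fst : towerMap k f K K' ≫ pullback.fst f (sp k K) = pullback.fst f (sp k K') :=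
  pullback.lift_fst _ _ _

@[reassoc (attr := simp)]
theorem towerMap_snd :
    towerMap k f K K' ≫ pullback.snd f (sp k K) = pullback.snd f (sp k K') ≫ sp K K' :=
  pullback.lift_snd _ _ _

theorem isPullback_towerMap :
    IsPullback (towerMap k f K K') (pullback.snd f (sp k K')) (pullback.snd f (sp k K))
      (sp K K') := by
  refine IsPullback.of_right ?_ (towerMap_snd k f K K') (IsPullback.of_hasPullback f (sp k K))
  rw [towerMap_fst, sp_comp]
  exact IsPullback.of_hasPullback f (sp k K')

end tower

section main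

variable (k : Type u) [Field k] {X : Scheme.{u}} (f : X ⟶ Spec (CommRingCat.of k))

/-- A smooth stratification of the preimage of the closed set `T` in `X_K`. -/
def StratOn (K : Type u) [Field K] [Algebra k K] (T : Closeds X) : Prop :=
  ∃ (t : ℕ) (I : Fin (t + 1) → (pullback f (sp k K)).IdealSheafData),
    Monotone I ∧ I 0 = vanishingIdeal (T.preimage (pullback.fst f (sp k K)).continuous) ∧
    I (Fin.last t) = ⊤ ∧
    ∀ i : Fin t, Smooth (((I i.castSucc).subschemeι ⁻¹ᵁ (I i.succ).support.compl).ι ≫
      (I i.castSucc).subschemeι ≫ pullback.snd f (sp k K))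

theorem stratOn_bot (K : Type u) [Field K] [Algebra k K] : StratOn k f K ⊥ := by
  refine ⟨0, fun _ => ⊤, fun _ _ _ => le_rfl, ?_, rfl, fun i => i.elim0⟩
  have : (⊥ : Closeds X).preimage (pullback.fst f (sp k K)).continuous = ⊥ :=
    Closeds.ext (by simp [Closeds.preimage])
  rw [this, vanishingIdeal_bot]

/-- prepend a good stratum to a stratification. -/
theorem stratOn_cons (K : Type u) [Field K] [Algebra k K] {T W : Closeds X} (hWT : W ≤ T)
    (hgood : GoodStratum (pullback.snd f (sp k K))
      (T.preimage (pullback.fst f (sp k K)).continuous)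
      (W.preimage (pullback.fst f (sp k K)).continuous))
    (hW : StratOn k f K W) : StratOn k f K T := by
  obtain ⟨t, J, hmono, hJ0, hJlast, hJsm⟩ := hW
  set T' := T.preimage (pullback.fst f (sp k K)).continuous with hT'
  set W' := W.preimage (pullback.fst f (sp k K)).continuous with hW'
  have hle : W' ≤ T' := fun x hx => hWT hx
  refine ⟨t + 1, Fin.cons (vanishingIdeal T') J, ?_, ?_, ?_, ?_⟩
  · rw [Fin.monotone_iff_le_succ]
    intro i
    refine Fin.cases ?_ (fun i' => ?_) i
    · rw [Fin.castSucc_zero, Fin.cons_zero, Fin.cons_succ, hJ0]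
      exact vanishingIdeal_antimono hle
    · rw [← Fin.succ_castSucc, Fin.cons_succ, Fin.cons_succ]
      exact hmono (Fin.castSucc_le_succ i')
  · rw [Fin.cons_zero]
  · rw [← Fin.succ_last, Fin.cons_succ, hJlast]
  · intro i
    refine Fin.cases ?_ (fun i' => ?_) i
    · have e1 : (Fin.cons (vanishingIdeal T') J : Fin (t + 1 + 1) → _) (Fin.castSucc 0) =
          vanishingIdeal T' := by rw [Fin.castSucc_zero, Fin.cons_zero]
      have e2 : (Fin.cons (vanishingIdeal T') J : Fin (t + 1 + 1) → _) (Fin.succ 0) =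
          vanishingIdeal W' := by rw [Fin.cons_succ, hJ0]
      have e3 : (vanishingIdeal W').support = W' := Closeds.ext (coe_support_vanishingIdeal W')
      rw [e1, e2, e3]
      exact hgood.smooth
    · have e1 : (Fin.cons (vanishingIdeal T') J : Fin (t + 1 + 1) → _) (Fin.castSucc i'.succ) =
          J i'.castSucc := by rw [← Fin.succ_castSucc, Fin.cons_succ]
      have e2 : (Fin.cons (vanishingIdeal T') J : Fin (t + 1 + 1) → _) (Fin.succ i'.succ) =
          J i'.succ := by rw [Fin.cons_succ]
      rw [e1, e2]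
      exact hJsm i'

/-- **Smooth stratification after a finite purely inseparable extension** (inductive form). -/
theorem exists_strat [LocallyOfFiniteType f] [QuasiCompact f] (T : Closeds X) :
    ∀ (K₁ : Type u) [Field K₁] [Algebra k K₁] [Module.Finite k K₁] [IsPurelyInseparable k K₁],
      ∃ (K₃ : Type u) (_ : Field K₃) (_ : Algebra k K₃) (_ : Algebra K₁ K₃)
        (_ : IsScalarTower k K₁ K₃) (_ : Module.Finite k K₃) (_ : IsPurelyInseparable k K₃),
        StratOn k f K₃ T := by
  haveI : IsLocallyNoetherian X := LocallyOfFiniteType.isLocallyNoetherian f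
  haveI : CompactSpace X := QuasiCompact.compactSpace_of_compactSpace f
  haveI : IsNoetherian X := {}
  induction T using WellFoundedLT.induction with
  | ind T ih =>
  intro K₁ _ _ _ _
  by_cases hT : (T : Set X).Nonempty
  swap
  · have : T = ⊥ := by
      rw [Set.not_nonempty_iff_eq_empty] at hT
      exact Closeds.ext hT
    subst this
    exact ⟨K₁, inferInstance, inferInstance, Algebra.id K₁, inferInstance, inferInstance,
      inferInstance, stratOn_bot k f K₁⟩
  -- the preimage of `T` in `X_{K₁}`
  set g := pullback.snd f (sp k K₁) with hg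
  set T₁ := T.preimage (pullback.fst f (sp k K₁)).continuous with hT₁
  have hT₁ne : (T₁ : Set ↥(pullback f (sp k K₁))).Nonempty := by
    obtain ⟨x, hx⟩ := hT
    obtain ⟨y, rfl⟩ := surjective_fst k f K₁ x
    exact ⟨y, hx⟩
  obtain ⟨W₁, hW₁, K₂, iF₂, iA₁₂, hfin₁₂, hpi₁₂, hgood⟩ := exists_goodStratum g T₁ hT₁ne
  letI iA₂ : Algebra k K₂ := ((algebraMap K₁ K₂).comp (algebraMap k K₁)).toAlgebra
  haveI : IsScalarTower k K₁ K₂ := IsScalarTower.of_algebraMap_eq (fun x => rfl)
  haveI : Module.Finite k K₂ := Module.Finite.trans K₁ K₂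
  haveI : IsPurelyInseparable k K₂ := IsPurelyInseparable.trans k K₁ K₂
  -- the image of `W₁` in `X`
  let W : Closeds X := ⟨pullback.fst f (sp k K₁) '' (W₁ : Set ↥(pullback f (sp k K₁))),
    isClosedMap_fst k f K₁ _ W₁.isClosed⟩
  have hinj := injective_fst k f K₁
  have hWle : W ≤ T := by
    rintro _ ⟨y, hy, rfl⟩
    exact hW₁.le hy
  have hWlt : W < T := by
    refine lt_of_le_of_ne hWle fun heq => ?_
    apply hW₁.ne
    refine le_antisymm hW₁.le fun y hy => ?_
    have : pullback.fst f (sp k K₁) y ∈ (W : Set X) := by rw [heq]; exact hy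
    obtain ⟨y', hy', he⟩ := this
    rw [← hinj he]
    exact hy'
  obtain ⟨K₃, iF₃, iA₃, iA₂₃, htow₂₃, hfin₃, hpi₃, hstrat⟩ := ih W hWlt K₂
  letI iA₁₃ : Algebra K₁ K₃ := ((algebraMap K₂ K₃).comp (algebraMap K₁ K₂)).toAlgebra
  haveI : IsScalarTower K₁ K₂ K₃ := IsScalarTower.of_algebraMap_eq (fun x => rfl)
  haveI htow₁₃ : IsScalarTower k K₁ K₃ := IsScalarTower.of_algebraMap_eq (fun x => by
    rw [IsScalarTower.algebraMap_apply k K₂ K₃, IsScalarTower.algebraMap_apply k K₁ K₂]
    rfl)
  refine ⟨K₃, iF₃, iA₃, iA₁₃, htow₁₃, hfin₃, hpi₃, ?_⟩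
  refine stratOn_cons k f K₃ hWle ?_ hstrat
  -- base change of the good stratum
  have hcomm : towerMap k f K₁ K₃ ≫ g = (pullback.snd f (sp k K₃) ≫ sp K₂ K₃) ≫ sp K₁ K₂ := by
    rw [hg, towerMap_snd, Category.assoc, sp_comp]
  let φ : pullback f (sp k K₃) ⟶ pullback g (sp K₁ K₂) :=
    pullback.lift (towerMap k f K₁ K₃) (pullback.snd f (sp k K₃) ≫ sp K₂ K₃) hcomm
  have hφ : IsPullback φ (pullback.snd f (sp k K₃)) (pullback.snd g (sp K₁ K₂)) (sp K₂ K₃) := by
    refine IsPullback.of_right ?_ (pullback.lift_snd _ _ _) (IsPullback.of_hasPullback g (sp K₁ K₂))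
    rw [pullback.lift_fst, sp_comp]
    exact isPullback_towerMap k f K₁ K₃
  have hgood₃ := hgood.baseChange hφ
  have hφfst : φ ≫ pullback.fst g (sp K₁ K₂) = towerMap k f K₁ K₃ := pullback.lift_fst _ _ _
  have e1 : (T₁.preimage (pullback.fst g (sp K₁ K₂)).continuous).preimage φ.continuous =
      T.preimage (pullback.fst f (sp k K₃)).continuous := by
    apply Closeds.ext
    ext x
    show pullback.fst f (sp k K₁) (pullback.fst g (sp K₁ K₂) (φ x)) ∈ (T : Set X) ↔
      pullback.fst f (sp k K₃) x ∈ (T : Set X)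
    rw [← Scheme.Hom.comp_apply, ← Scheme.Hom.comp_apply, ← Category.assoc, hφfst, towerMap_fst]
  have e2 : (W₁.preimage (pullback.fst g (sp K₁ K₂)).continuous).preimage φ.continuous =
      W.preimage (pullback.fst f (sp k K₃)).continuous := by
    apply Closeds.ext
    ext x
    show pullback.fst g (sp K₁ K₂) (φ x) ∈ (W₁ : Set ↥(pullback f (sp k K₁))) ↔
      pullback.fst f (sp k K₃) x ∈ pullback.fst f (sp k K₁) '' (W₁ : Set ↥(pullback f (sp k K₁)))
    rw [← Scheme.Hom.comp_apply, hφfst, ← towerMap_fst k f K₁ K₃, Scheme.Hom.comp_apply]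
    exact (hinj.mem_set_image).symm
  rw [e1, e2] at hgood₃
  exact hgood₃

end main

end Groth.Agent.R2.H34.SmoothStrat
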