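import Mathlib
import Groth.Prelude.Def_CohB1
import Groth.Prelude.Def_FSch3
import Groth.Agent.R2.H17ComplAff

/-!
# Pullbacks of products and powers of ideal sheaves (helper35)

* `comap_mul_le`, `comap_pow_le` : `(K₁ K₂).comap f ≤ K₁.comap f * K₂.comap f`, `(K^m).comap f ≤ (K.comap f)^m`
  for quasi-compact `f`.
* `idealSpec_pow_le` : on `Spec A`, the ideal sheaf of `I^m` is inside the `m`-th power of that of `I`.
* `exists_fac_thickι` : `V((I·O_X)^(n+1)) ⟶ X` factors through `X ×_A Spec (A/I^(n+1)) ⟶ X`.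
-/

set_option autoImplicit false
set_option linter.style.haveILetI false
universe u
open AlgebraicGeometry CategoryTheory CategoryTheory.Limits TopologicalSpace

namespace Groth.Agent.R2.H35.ComapPow

variable {X Y : Scheme.{u}}

/-- restricting a pulled back section to the preimage of an open in a closed subscheme. -/
theorem res_comp_app (J : X.IdealSheafData) (f : X ⟶ Y) (V : Y.Opens) (U : X.Opens)
    (hUV : U ≤ f ⁻¹ᵁ V) (a : Γ(Y, V)) :
    (J.subscheme.presheaf.map (homOfLE (show J.subschemeι ⁻¹ᵁ U ≤ (J.subschemeι ≫ f) ⁻¹ᵁ V from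
      fun _ hx => hUV hx)).op).hom (((J.subschemeι ≫ f).app V).hom a) =
      (J.subschemeι.app U).hom ((f.appLE V U hUV).hom a) := by
  have h3 : (J.subschemeι ≫ f).app V ≫ J.subscheme.presheaf.map
      (homOfLE (show J.subschemeι ⁻¹ᵁ U ≤ (J.subschemeι ≫ f) ⁻¹ᵁ V from
        fun x hx => hUV hx)).op = f.appLE V U hUV ≫ J.subschemeι.app U := by
    rw [Scheme.Hom.app_eq_appLE (f := J.subschemeι ≫ f), Scheme.Hom.appLE_map,
      Scheme.Hom.app_eq_appLE (f := J.subschemeι) (U := U),
      Scheme.Hom.appLE_comp_appLE]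
  exact ConcreteCategory.congr_hom h3 a

/-- membership in the pulled back ideal sheaf, for sections coming from the base. -/
theorem appLE_mem_comap (K : Y.IdealSheafData) (f : X ⟶ Y) [QuasiCompact f] (V : Y.affineOpens)
    (U : X.affineOpens) (hUV : U.1 ≤ f ⁻¹ᵁ V.1) (a : Γ(Y, V.1)) (ha : a ∈ K.ideal V) :
    (f.appLE V.1 U.1 hUV).hom a ∈ (K.comap f).ideal U := by
  have h1 := K.le_map_comap f V ha
  rw [Scheme.IdealSheafData.map, Scheme.Hom.ker_apply, RingHom.mem_ker] at h1
  rw [← (K.comap f).ker_subschemeι_app U, RingHom.mem_ker, ← res_comp_app (K.comap f) f V.1 U.1 hUV a,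
    h1, map_zero]

/-- the pullback of a product of ideal sheaves is inside the product of the pullbacks. -/
theorem comap_mul_le (K₁ K₂ : Y.IdealSheafData) (f : X ⟶ Y) [QuasiCompact f] :
    (K₁ * K₂).comap f ≤ K₁.comap f * K₂.comap f := by
  rw [← Scheme.IdealSheafData.le_map_iff_comap_le]
  intro V
  rw [Scheme.IdealSheafData.ideal_mul, Pi.mul_apply, Ideal.mul_le]
  intro a ha b hb
  rw [Scheme.IdealSheafData.map, Scheme.Hom.ker_apply, RingHom.mem_ker]
  refine TopCat.Sheaf.eq_of_locally_eq' (K₁.comap f * K₂.comap f).subscheme.sheaf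
    (fun U : {U : X.affineOpens // U.1 ≤ f ⁻¹ᵁ V.1} =>
      (K₁.comap f * K₂.comap f).subschemeι ⁻¹ᵁ U.1.1) _
    (fun U => homOfLE (fun x hx => U.2 hx)) ?_ _ _ (fun U => ?_)
  · intro z hz
    have hz' : (K₁.comap f * K₂.comap f).subschemeι z ∈ f ⁻¹ᵁ V.1 := hz
    obtain ⟨U, hU, hzU, hUV⟩ := exists_isAffineOpen_mem_and_subset (U := f ⁻¹ᵁ V.1) hz'
    exact Opens.mem_iSup.2 ⟨⟨⟨U, hU⟩, hUV⟩, hzU⟩
  · have h1 := res_comp_app (K₁.comap f * K₂.comap f) f V.1 U.1.1 U.2 (a * b)
    refine h1.trans (Eq.trans ?_ (map_zero _).symm)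
    rw [map_mul, ← RingHom.mem_ker,
      (K₁.comap f * K₂.comap f).ker_subschemeι_app U.1, Scheme.IdealSheafData.ideal_mul,
      Pi.mul_apply]
    exact Ideal.mul_mem_mul (appLE_mem_comap K₁ f V U.1 U.2 a ha) (appLE_mem_comap K₂ f V U.1 U.2 b hb)

/-- the pullback of a power of an ideal sheaf is inside the power of the pullback. -/
theorem comap_pow_le (K : Y.IdealSheafData) (f : X ⟶ Y) [QuasiCompact f] (m : ℕ) :
    (K ^ (m + 1)).comap f ≤ (K.comap f) ^ (m + 1) := by
  induction m with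
  | zero => simp
  | succ m ih =>
    rw [pow_succ, pow_succ (K.comap f)]
    refine (comap_mul_le _ _ f).trans ?_
    exact mul_le_mul' ih le_rfl


section Spec

variable (A : Type u) [CommRing A] (I : Ideal A)

/-- on `Spec A`, the ideal sheaf of `I^m` is contained in the `m`-th power of the ideal sheaf of `I`. -/
theorem idealSpec_pow_le (m : ℕ) : FSch.idealSpec A (I ^ m) ≤ FSch.idealSpec A I ^ m := by
  refine Scheme.IdealSheafData.le_of_isAffine ?_
  rw [Scheme.IdealSheafData.ideal_pow, Pi.pow_apply,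
    Groth.Agent.R2.H17.ComplAff.idealSpec_ideal_top, Groth.Agent.R2.H17.ComplAff.idealSpec_ideal_top]
  intro x hx
  rw [Ideal.mem_comap] at hx
  have hinv : ∀ y, (Scheme.ΓSpecIso (CommRingCat.of A)).inv.hom
      ((Scheme.ΓSpecIso (CommRingCat.of A)).hom.hom y) = y := fun y => by
    rw [← CommRingCat.comp_apply, Iso.hom_inv_id]; rfl
  have h1 : Ideal.map (Scheme.ΓSpecIso (CommRingCat.of A)).inv.hom I ≤
      I.comap (Scheme.ΓSpecIso (CommRingCat.of A)).hom.hom := by
    rw [Ideal.map_le_iff_le_comap]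
    intro y hy
    rw [Ideal.mem_comap, Ideal.mem_comap]
    have : (Scheme.ΓSpecIso (CommRingCat.of A)).hom.hom
        ((Scheme.ΓSpecIso (CommRingCat.of A)).inv.hom y) = y := by
      rw [← CommRingCat.comp_apply, Iso.inv_hom_id]; rfl
    rwa [this]
  have h2 := Ideal.mem_map_of_mem (Scheme.ΓSpecIso (CommRingCat.of A)).inv.hom hx
  rw [hinv, Ideal.map_pow] at h2
  exact Ideal.pow_right_mono h1 m h2

variable {A} {X : Scheme.{u}} (f : X ⟶ Spec (CommRingCat.of A)) [QuasiCompact f]

/-- the closed subscheme cut out by `(I·O_X)^(n+1)` lies in `X ×_A Spec (A/I^(n+1))`. -/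
theorem exists_fac_thickι (n : ℕ) :
    ∃ k : ((FSch.idealSpec A I).comap f ^ (n + 1)).subscheme ⟶ CohB1.thick f I n,
      k ≫ CohB1.thickι f I n = ((FSch.idealSpec A I).comap f ^ (n + 1)).subschemeι := by
  haveI : IsClosedImmersion (CohB1.specQuot I n) := by
    unfold CohB1.specQuot
    exact IsClosedImmersion.spec_of_surjective _ Ideal.Quotient.mk_surjective
  haveI hci : IsClosedImmersion (CohB1.thickι f I n) :=
    (inferInstance : IsClosedImmersion (pullback.fst f (CohB1.specQuot I n)))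
  have hker : (CohB1.thickι f I n).ker ≤
      ((FSch.idealSpec A I).comap f ^ (n + 1)).subschemeι.ker := by
    rw [Scheme.IdealSheafData.ker_subschemeι]
    have h1 : (CohB1.thickι f I n).ker = (CohB1.specQuot I n).ker.comap f :=
      Scheme.IdealSheafData.ker_fst_of_isClosedImmersion (CohB1.specQuot I n) f
    rw [h1]
    refine le_trans (Scheme.IdealSheafData.comap_mono f ?_) (comap_pow_le _ f n)
    exact idealSpec_pow_le A I (n + 1)
  exact ⟨IsClosedImmersion.lift (CohB1.thickι f I n) _ hker,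
    IsClosedImmersion.lift_fac (CohB1.thickι f I n) _ hker⟩

end Spec

end Groth.Agent.R2.H35.ComapPow
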