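import Mathlib
import Groth.Agent.R2.H1AlgzSpec
import Groth.Agent.R2.H88ExistSec
import Groth.Agent.R2.H54ClosedImm
import Groth.Agent.R2.H35ThickFree
import Groth.Agent.R2.H35ComapPow
import Groth.Agent.S7864
import Groth.Agent.Lib.Helper23PB
import Groth.Agent.Lib.Helper23QAffSec
import Groth.Agent.Lib.Helper23AmpleIso
import Groth.Agent.R2.H55RelSerreB
import Groth.Agent.S9705

/-!
# PROJ:algz — package [LB] (helper35)

Algebraization of a compatible system of invertible modules on the thickenings of a closed subscheme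
`W ⊆ P^N_A` (`A` Noetherian, `I`-adically complete).
-/

set_option autoImplicit false
set_option linter.style.haveILetI false
universe u
open CategoryTheory CategoryTheory.Limits AlgebraicGeometry Opposite

namespace Groth.Agent.R2.H35.AlgzLB

open Groth.Agent.R2.H1.TowerMod Groth.Agent.R2.H1.AlgzSpec Groth.Agent.R2.H1.FibreKer
  Groth.Agent.R2.H1.Tower

section TwoEpis

variable {X : Scheme.{u}} {M P Q : X.Modules}

theorem kernel_ι_comp_eq_zero (p : M ⟶ P) (q : M ⟶ Q)
    (hker : ∀ U : X.Opens, IsAffineOpen U → ∀ x : Γ(M, U), p.app U x = 0 → q.app U x = 0) :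
    kernel.ι p ≫ q = 0 := by
  apply Groth.Agent.Helper13ModAffine.hom_ext_affine
  intro U hU
  ext m
  have h1 : p.app U ((kernel.ι p).app U m) = 0 := by
    have h : (kernel.ι p ≫ p).app U m = 0 := by
      rw [kernel.condition]
      rfl
    exact h
  exact hker U hU _ h1

theorem epi_of_surjective_affine (p : M ⟶ P)
    (hp : ∀ U : X.Opens, IsAffineOpen U → Function.Surjective (p.app U)) : Epi p := by
  refine Groth.Agent.Lib.Helper23.Serre.epi_of_locally_surjective _ (fun V t x hx => ?_)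
  obtain ⟨_, ⟨W, hW, rfl⟩, hxW, hWV⟩ :=
    X.isBasis_affineOpens.exists_subset_of_mem_open hx V.2
  obtain ⟨s, hs⟩ := hp W hW (P.presheaf.map (homOfLE hWV).op t)
  exact ⟨W, hWV, hxW, s, hs⟩

/-- two quotients of `M` with the same kernels on affine opens are isomorphic -/
theorem exists_iso_of_ker_eq (p : M ⟶ P) (q : M ⟶ Q)
    (hp : ∀ U : X.Opens, IsAffineOpen U → Function.Surjective (p.app U))
    (hq : ∀ U : X.Opens, IsAffineOpen U → Function.Surjective (q.app U))
    (hker : ∀ U : X.Opens, IsAffineOpen U → ∀ x : Γ(M, U), p.app U x = 0 ↔ q.app U x = 0) :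
    ∃ e : P ≅ Q, p ≫ e.hom = q := by
  haveI : Epi p := epi_of_surjective_affine p hp
  haveI : Epi q := epi_of_surjective_affine q hq
  have h1 : kernel.ι p ≫ q = 0 := kernel_ι_comp_eq_zero p q (fun U hU x => (hker U hU x).1)
  have h2 : kernel.ι q ≫ p = 0 := kernel_ι_comp_eq_zero q p (fun U hU x => (hker U hU x).2)
  refine ⟨⟨Abelian.epiDesc p q h1, Abelian.epiDesc q p h2, ?_, ?_⟩, Abelian.comp_epiDesc _ _ _⟩
  · rw [← cancel_epi p, ← Category.assoc, Abelian.comp_epiDesc, Abelian.comp_epiDesc,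
      Category.comp_id]
  · rw [← cancel_epi q, ← Category.assoc, Abelian.comp_epiDesc, Abelian.comp_epiDesc,
      Category.comp_id]

end TwoEpis

section Thick

variable {A : Type u} [CommRing A] (I : Ideal A) {W Z : Scheme.{u}}
  [W.Over (Spec (CommRingCat.of A))] (n : ℕ) (w : Z ⟶ W)
  (t : Z ⟶ Spec (CommRingCat.of (A ⧸ I ^ (n + 1))))
  (hpb : IsPullback w t (W ↘ Spec (CommRingCat.of A)) (CohB1.specQuot I n))

include hpb in
theorem isClosedImmersion_of_isPullback : IsClosedImmersion w := by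
  haveI : IsClosedImmersion (CohB1.specQuot I n) :=
    IsClosedImmersion.spec_of_surjective _ Ideal.Quotient.mk_surjective
  exact MorphismProperty.of_isPullback (P := @IsClosedImmersion) hpb.flip inferInstance

include hpb in
theorem ker_app_eq {U : W.Opens} (hU : IsAffineOpen U) :
    RingHom.ker (w.app U).hom =
      Ideal.map (ρ (W ↘ Spec (CommRingCat.of A)) U).hom (I ^ (n + 1)) := by
  apply le_antisymm
  · intro s hs
    exact mem_map_of_app_eq_zero (I ^ (n + 1)) (W ↘ Spec (CommRingCat.of A)) w t hpb hU s hs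
  · rw [Ideal.map_le_iff_le_comap]
    intro a ha
    rw [Ideal.mem_comap, RingHom.mem_ker, ρ_comp, hpb.w]
    exact ρ_eq_zero (I ^ (n + 1)) t _ a ha

variable (M : W.Modules) [M.IsQuasicoherent]

/-- the canonical map `M ⟶ w_* w^* M` -/
noncomputable abbrev toPushPull :
    M ⟶ (Scheme.Modules.pushforward w).obj ((Scheme.Modules.pullback w).obj M) :=
  trans w M _ (Iso.refl _)

include hpb in
theorem toPushPull_app_eq_zero_iff {U : W.Opens} (hU : IsAffineOpen U) (x : Γ(M, U)) :
    (toPushPull w M).app U x = 0 ↔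
      x ∈ (Ideal.map (ρ (W ↘ Spec (CommRingCat.of A)) U).hom (I ^ (n + 1)) • ⊤ :
        Submodule Γ(W, U) Γ(M, U)) := by
  haveI := isClosedImmersion_of_isPullback I n w t hpb
  rw [← ker_app_eq I n w t hpb hU]
  constructor
  · intro hx
    exact mem_smul_top_of_trans_app_eq_zero w M _ (Iso.refl _) hU x hx
  · intro hx
    refine Submodule.smul_induction_on hx (fun r hr m _ => ?_) (fun a b ha hb => ?_)
    · rw [trans_smul, RingHom.mem_ker.1 hr, zero_smul]
      rfl
    · rw [map_add, ha, hb, add_zero]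

include hpb in
theorem exists_iso_modPow [IsNoetherianRing A] :
    ∃ e : (Scheme.Modules.pushforward w).obj ((Scheme.Modules.pullback w).obj M) ≅
        Formal.modPow I (n + 1) M,
      toPushPull w M ≫ e.hom = Formal.modPowπ I (n + 1) M := by
  haveI := isClosedImmersion_of_isPullback I n w t hpb
  refine exists_iso_of_ker_eq _ _ (fun U hU => trans_app_surjective w M _ (Iso.refl _) hU)
    (fun U hU => Groth.Agent.R2.H88.ExistSec.modPowπ_app_surjective I (n + 1) M hU)
    (fun U hU x => ?_)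
  rw [toPushPull_app_eq_zero_iff I n w t hpb M hU,
    Groth.Agent.R2.H88.ExistSec.modPowπ_app_eq_zero_iff I (n + 1) M hU, ← Ideal.map_pow]
  rfl

end Thick

section Main

/-- the statement of S0061 (essential surjectivity of completion, projective case) -/
def ES : Prop :=
  ∀ (A : Type u) [CommRing A] [IsNoetherianRing A]
    (I : Ideal A) [IsAdicComplete I A] (n : ℕ) (X : Scheme.{u}) [X.Over (Spec (CommRingCat.of A))]
    (i : X ⟶ CohB1.ProjSpace n A) [IsClosedImmersion i]
    (_ : i ≫ CohB1.ProjSpace.toSpec n A = X ↘ Spec (CommRingCat.of A))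
    (G : ℕᵒᵖ ⥤ X.Modules) (_ : Formal.IsCohFormal I G),
    ∃ M : X.Modules, Coh.IsCoh M ∧ Nonempty (Formal.completion I M ≅ G)

theorem isInvertible_of_isFinLocFreeOfRank_one {X : Scheme.{u}} (L : X.Modules)
    (h : FlatMod.IsFinLocFreeOfRank 1 L) : PicF.IsInvertible L := by
  intro x
  obtain ⟨U, hxU, ⟨ε⟩⟩ := h x
  exact ⟨U, hxU, ⟨ε ≪≫
    Limits.coproductUniqueIso (fun _ : Fin 1 => Coh.structureModule (↑U : Scheme.{u}))⟩⟩

/-- transport of "finite locally free of rank one" along an isomorphism -/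
theorem isFinLocFreeOfRank_one_of_iso {X : Scheme.{u}} {L L' : X.Modules} (e : L ≅ L')
    (h : PicF.IsInvertible L) : FlatMod.IsFinLocFreeOfRank 1 L' :=
  Groth.Agent.Lib.Helper23.SecTw.isFinLocFreeOfRank_one_of_isInvertible _
    (Groth.Agent.Lib.Helper23.AmpleIso.isInvertible_of_iso e h)

theorem pkgLB_of (hPF : PkgPF.{u}) (hES : ES.{u}) : PkgLB.{u} := by
  intro A _ _ I _ T N W ι _ w hw hpb L hL φ
  letI : W.Over (Spec (CommRingCat.of A)) := ⟨ι ≫ CohB1.ProjSpace.toSpec N A⟩
  haveI : IsProper (CohB1.ProjSpace.toSpec N A) :=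
    Groth.Agent.S9705.isProper_projSpace_toSpec N A
  haveI : IsProper (W ↘ Spec (CommRingCat.of A)) :=
    inferInstanceAs (IsProper (ι ≫ CohB1.ProjSpace.toSpec N A))
  haveI : IsLocallyNoetherian W :=
    LocallyOfFiniteType.isLocallyNoetherian (W ↘ Spec (CommRingCat.of A))
  -- the compatible system and the tower map
  let S : T.Mod := ⟨L, φ, fun n =>
    Groth.Agent.Lib.Helper23.SecTw.isQuasicoherent_of_isInvertible (L n) (hL n)⟩
  let c : TowerMap T (W ↘ Spec (CommRingCat.of A)) := ⟨w, hw, fun n => (hpb n).w⟩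
  have hcl : ∀ n, IsClosedImmersion (c.c n) := fun n =>
    isClosedImmersion_of_isPullback I n (w n) (T.p n) (hpb n)
  have hcoh : ∀ n, Coh.IsCoh (S.F n) := fun n =>
    Groth.Agent.R2.H55.RelSerreB.isCoh_of_isInvertible (L n) (hL n)
  have hform : Formal.IsCohFormal I (pushTower c S) := hPF A I T W c hcl S hcoh
  obtain ⟨M, hM, ⟨e⟩⟩ := hES A I N W ι rfl (pushTower c S) hform
  haveI : M.IsQuasicoherent := hM.1
  -- the restrictions of `M`
  have hiso : ∀ n, Nonempty ((Scheme.Modules.pullback (w n)).obj M ≅ L n) := by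
    intro n
    haveI : IsClosedImmersion (w n) := hcl n
    obtain ⟨α, -⟩ := exists_iso_modPow I n (w n) (T.p n) (hpb n) M
    let β : Formal.modPow I (n + 1) M ≅ (Scheme.Modules.pushforward (w n)).obj (L n) :=
      e.app (op n)
    exact ⟨(Groth.Agent.R2.H54.ClosedImm.fullyFaithfulPush (w n)).preimageIso (α ≪≫ β)⟩
  refine ⟨M, ?_, hiso⟩
  -- invertibility
  apply isInvertible_of_isFinLocFreeOfRank_one
  apply Groth.Agent.S7864.result A I W (W ↘ Spec (CommRingCat.of A)) M hM 1
  intro n
  obtain ⟨k, hk⟩ := Groth.Agent.R2.H35.ComapPow.exists_fac_thickι I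
    (W ↘ Spec (CommRingCat.of A)) n
  let κ : CohB1.thick (W ↘ Spec (CommRingCat.of A)) I n ⟶ T.Xs n :=
    (hpb n).lift (CohB1.thickι (W ↘ Spec (CommRingCat.of A)) I n)
      (CohB1.thickToBase (W ↘ Spec (CommRingCat.of A)) I n) pullback.condition
  have hκ : κ ≫ w n = CohB1.thickι (W ↘ Spec (CommRingCat.of A)) I n := (hpb n).lift_fst _ _ _
  have hfac : (k ≫ κ) ≫ w n =
      FSch.completionToX W ((FSch.idealSpec A I).comap (W ↘ Spec (CommRingCat.of A))) n := by
    rw [Category.assoc, hκ, hk]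
  obtain ⟨θ⟩ := hiso n
  let ε : (Scheme.Modules.pullback (k ≫ κ)).obj (L n) ≅
      (Scheme.Modules.pullback (FSch.completionToX W
        ((FSch.idealSpec A I).comap (W ↘ Spec (CommRingCat.of A))) n)).obj M :=
    (Scheme.Modules.pullback (k ≫ κ)).mapIso θ.symm ≪≫
      (Scheme.Modules.pullbackComp (k ≫ κ) (w n)).app M ≪≫
      (Scheme.Modules.pullbackCongr hfac).app M
  exact isFinLocFreeOfRank_one_of_iso ε
    (Groth.Agent.Lib.Helper23.PB.isInvertible_pullback _ _ (hL n))

end Main

end Groth.Agent.R2.H35.AlgzLB
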