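import Groth.Agent.R2.H64SteinIdem
import Groth.Agent.R2.H35SteinSupp
import Groth.Agent.R2.H34SteinAsm
import Groth.Agent.R2.H5CohThick
import Groth.Agent.S0058
import Groth.Agent.S0003

/-!
# Zariski connectedness: the unconditional core statements (helper64, PROJ:stein ST-0)

* `st0 : Groth.Agent.R2.H34.SteinAsm.ST0`: `A` Noetherian, `X` proper over `Spec A`, `Γ(X, O_X)` local ⇒ the
  closed fibre `Supp (O_X / I O_X)` is preconnected  (from `S0058`).
* `exists_section_of_clopen`: the semi-local tool: a decomposition `f⁻¹ V(I) = U ⊔ U'` into closed subsets is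
  separated by a global function `r` (`r ≡ 1` on `U`, `r ≡ 0` on `U'`).
* `exists_isClopen_of_complete`: `A` Noetherian and `I`-adically complete ⇒ every such decomposition is
  separated by a clopen subset of `X` (from `S0003`).
-/

set_option autoImplicit false
universe u

open CategoryTheory CategoryTheory.Limits AlgebraicGeometry Opposite TopologicalSpace

namespace Groth.Agent.R2.H64.SteinST0

variable (A : Type u) [CommRing A] [IsNoetherianRing A] (I : Ideal A) (X : Scheme.{u})
  [X.Over (Spec (CommRingCat.of A))] [IsProper (X ↘ Spec (CommRingCat.of A))]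

theorem support_eq (n : ℕ) :
    CohB1.support (Formal.modPow I (n + 1) (Coh.structureModule X)) =
      (X ↘ Spec (CommRingCat.of A)).base ⁻¹' (PrimeSpectrum.zeroLocus (I : Set A)) :=
  Groth.Agent.R2.H35.SteinSupp.support_modPow_structureModule I (n + 1) (Nat.le_add_left 1 n)

theorem hsupp (n : ℕ) :
    CohB1.support (Formal.modPow I (n + 1) (Coh.structureModule X)) ⊆
      CohB1.support (Formal.modPow I 1 (Coh.structureModule X)) := by
  rw [support_eq A I X n, support_eq A I X 0]

theorem isClosed_support :
    IsClosed (CohB1.support (Formal.modPow I 1 (Coh.structureModule X))) := by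
  rw [support_eq A I X 0]
  exact (PrimeSpectrum.isClosed_zeroLocus _).preimage (X ↘ Spec (CommRingCat.of A)).continuous

/-- **Semi-local Zariski connectedness tool.** -/
theorem exists_section_of_clopen (U U' : Set X) (hU : IsClosed U) (hU' : IsClosed U')
    (hd : Disjoint U U')
    (hUU' : U ∪ U' = (X ↘ Spec (CommRingCat.of A)).base ⁻¹' (PrimeSpectrum.zeroLocus (I : Set A))) :
    ∃ r : Γ(X, ⊤), (∀ x ∈ U, x ∉ X.basicOpen (1 - r)) ∧ (∀ x ∈ U', x ∉ X.basicOpen r) :=
  Groth.Agent.R2.H64.SteinCore.exists_section_of_clopen I (hsupp A I X)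
    (Groth.Agent.S0058.result A I X (Coh.structureModule X)
      (Groth.Agent.R2.H5.CohThick.isCoh_structureModule X) 0)
    U U' hU hU' hd (hUU'.trans (support_eq A I X 0).symm)

/-- **ST-0.** -/
theorem st0 : Groth.Agent.R2.H34.SteinAsm.ST0.{u} := by
  intro A _ _ I X _ _ _
  exact Groth.Agent.R2.H64.SteinCore.isPreconnected_of_isLocalRing I (hsupp A I X)
    (Groth.Agent.S0058.result A I X (Coh.structureModule X)
      (Groth.Agent.R2.H5.CohThick.isCoh_structureModule X) 0)
    (isClosed_support A I X)

/-- Over a complete base every clopen decomposition of the closed fibre lifts to `X`. -/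
theorem exists_isClopen_of_complete [IsAdicComplete I A] (U U' : Set X) (hU : IsClosed U)
    (hU' : IsClosed U') (hd : Disjoint U U')
    (hUU' : U ∪ U' = (X ↘ Spec (CommRingCat.of A)).base ⁻¹' (PrimeSpectrum.zeroLocus (I : Set A))) :
    ∃ C : Set X, IsClopen C ∧ U ⊆ C ∧ Disjoint U' C :=
  Groth.Agent.R2.H64.SteinIdem.exists_isClopen_of_clopen I (hsupp A I X)
    (Groth.Agent.S0003.result A I X (Coh.structureModule X)
      (Groth.Agent.R2.H5.CohThick.isCoh_structureModule X) 0)
    U U' hU hU' hd (hUU'.trans (support_eq A I X 0).symm)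

end Groth.Agent.R2.H64.SteinST0
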