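import Mathlib
import Groth.Agent.R2.H35FFRel

/-!
# The filtration `R_k = ker (H^p(X, M) → H^p(X, M/I^(k+1)M))` is `I`-good
(helper35, coh-core package F, consumer S4461)

`s4461_rel` / `s4461_of`: the frozen conclusion of S4461 against finiteness of coherent cohomology.
-/

set_option autoImplicit false
set_option linter.style.haveILetI false
universe u

open CategoryTheory CategoryTheory.Limits AlgebraicGeometry Opposite

namespace Groth.Agent.R2.H35.FFGood

open Groth.Agent.R2.H64.FFGr Groth.Agent.R2.H64.FFSpec Groth.Agent.R2.H64.FFCore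
  Groth.Agent.R2.H64.FFGrFin Groth.Agent.R2.H62.CohLES
open Groth.Agent.R2.H35.FFRees (HHmap_smulMod ιK τK πH exact_ιK_πH ιK_τK)
open Groth.Agent.R2.H35.FFRel

variable (A : Type u) [CommRing A] [IsNoetherianRing A] (I : Ideal A) (X : Scheme.{u})
  [X.Over (Spec (CommRingCat.of A))] [IsLocallyNoetherian X] [CompactSpace X]
  (C : X.Modules → Prop) (hC : SubQuotClosed C)

include hC in
/-- **S4461 relative to `C`**: the kernels of `H^p(X, M) → H^p(X, M/I^(k+1)M)` form an `I`-good
filtration. -/
theorem s4461_rel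
    (hfin : ∀ M : X.Modules, Coh.IsCoh M → C M → ∀ q, Module.Finite A (Coh.HH X M q))
    (M : X.Modules) (hM : Coh.IsCoh M) (hCM : C M) (p : ℕ) :
    ∃ k₀ : ℕ, ∀ k : ℕ, k₀ ≤ k →
      ((Formal.toHHmodPow I M p (k + 1)).ker : Set (Coh.HH X M p)) =
        ((I • Submodule.span A ((Formal.toHHmodPow I M p k).ker : Set (Coh.HH X M p)) :
          Submodule A (Coh.HH X M p)) : Set (Coh.HH X M p)) := by
  obtain ⟨r, a, hai, D, -, -, hgen⟩ := exists_reesData_cohGen_rel A I X C hC hfin M hM hCM
  obtain ⟨d, hd⟩ := hgen p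
  refine ⟨d, fun k hk => ?_⟩
  have hset : ∀ n, ((Formal.toHHmodPow I M p n).ker : Set (Coh.HH X M p)) =
      ((LinearMap.ker (HHmapA A (Formal.modPowπ I (n + 1) M) p) : Submodule A (Coh.HH X M p)) :
        Set (Coh.HH X M p)) := by
    intro n
    ext x
    exact Iff.rfl
  rw [hset k, hset (k + 1), Submodule.span_eq]
  have hex : ∀ n, Function.Exact (HHmapA A (kernel.ι (Formal.modPowπ I n M)) p)
      (HHmapA A (Formal.modPowπ I n M) p) := fun n => exact_f_g (powSC_shortExact I n M) p
  have key : LinearMap.ker (HHmapA A (Formal.modPowπ I (k + 1 + 1) M) p) =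
      I • LinearMap.ker (HHmapA A (Formal.modPowπ I (k + 1) M) p) := by
    apply le_antisymm
    · intro x hx
      obtain ⟨z, rfl⟩ := (hex (k + 1 + 1) x).1 hx
      have hz := hd (k + 1) (by omega) (Submodule.mem_top (x := z))
      have gen : ∀ z', z' ∈ ⨆ i, (⊤ : Submodule A (Coh.HH X (powMod I (k + 1) M) p)).map
          (HHmapA A (D.mul i (k + 1)) p) →
          HHmapA A (kernel.ι (Formal.modPowπ I (k + 1 + 1) M)) p z' ∈
            I • LinearMap.ker (HHmapA A (Formal.modPowπ I (k + 1) M) p) := by
        intro z' hz'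
        induction hz' using Submodule.iSup_induction' with
        | mem i z' hz' =>
          obtain ⟨w, -, rfl⟩ := hz'
          have e : HHmapA A (kernel.ι (Formal.modPowπ I (k + 1 + 1) M)) p
              (HHmapA A (D.mul i (k + 1)) p w) =
              a i • HHmapA A (kernel.ι (Formal.modPowπ I (k + 1) M)) p w := by
            change HHmap (kernel.ι (Formal.modPowπ I (k + 1 + 1) M)) p
              (HHmap (D.mul i (k + 1)) p w) =
              a i • HHmap (kernel.ι (Formal.modPowπ I (k + 1) M)) p w
            rw [← HHmap_comp, D.mul_ι, HHmap_comp, HHmap_smulMod]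
          rw [e]
          refine Submodule.smul_mem_smul (hai i) ?_
          exact (hex (k + 1)).apply_apply_eq_zero w
        | zero => rw [map_zero]; exact Submodule.zero_mem _
        | add y z _ _ hy hz => rw [map_add]; exact Submodule.add_mem _ hy hz
      exact gen z hz
    · rw [Submodule.smul_le]
      intro b hb x hx
      obtain ⟨y, rfl⟩ := (hex (k + 1) x).1 hx
      have e : b • HHmapA A (kernel.ι (Formal.modPowπ I (k + 1) M)) p y =
          HHmapA A (kernel.ι (Formal.modPowπ I (k + 1 + 1) M)) p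
            (HHmapA A (Groth.Agent.R2.H35.FFRees.mulPow I (k + 1) M b hb) p y) :=
        (ιK_τK I M p b hb (k + 1) y).symm
      rw [e]
      exact (hex (k + 1 + 1)).apply_apply_eq_zero _
  exact congrArg (fun S : Submodule A (Coh.HH X M p) => (S : Set (Coh.HH X M p))) key

/-- **S4461 against S0002** (finiteness for all coherent modules). -/
theorem s4461_of (hfin : ∀ M : X.Modules, Coh.IsCoh M → ∀ q, Module.Finite A (Coh.HH X M q))
    (M : X.Modules) (hM : Coh.IsCoh M) (p : ℕ) :
    ∃ k₀ : ℕ, ∀ k : ℕ, k₀ ≤ k →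
      ((Formal.toHHmodPow I M p (k + 1)).ker : Set (Coh.HH X M p)) =
        ((I • Submodule.span A ((Formal.toHHmodPow I M p k).ker : Set (Coh.HH X M p)) :
          Submodule A (Coh.HH X M p)) : Set (Coh.HH X M p)) :=
  s4461_rel A I X (fun _ => True) ⟨fun _ _ _ => trivial, fun _ _ _ => trivial⟩
    (fun N hN _ q => hfin N hN q) M hM trivial p

end Groth.Agent.R2.H35.FFGood
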