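import Mathlib
import Groth.Prelude.Def_Formal2
import Groth.Agent.R2.H64FFMain

/-!
# Uniform Artin–Rees bounds for `H^p(X, I^n F)` (helper35, coh-core package F, corollaries)

For `X` over a Noetherian ring `A` (locally Noetherian, quasi-compact), `I ⊆ A`, `F` coherent, and
against `hfin` (finiteness of coherent cohomology = S0002):

* `s0837_of` : `∃ c, ∀ n ≥ c, ker (H^p(I^n F) → H^p(F)) = ker (H^p(I^n F) → H^p(I^(n-c) F))`;
* `s0853_of` : `∃ c, ∀ n m, im (H^p(I^(n+m) F) → H^p(I^n F)) ⊆ I^(m-(c-n)) H^p(I^n F)`.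

The algebra (`iter_le`, `exists_uniform_ker`) is extracted from helper64's
`FFCore.exists_uniform_ML`.
-/

set_option autoImplicit false
set_option linter.style.haveILetI false

namespace Groth.Agent.R2.H35.FFKer

open Groth.Agent.R2.H64.FFGr Groth.Agent.R2.H64.FFCore

section Algebra

universe u v w

variable {A : Type u} [CommRing A] (I : Ideal A) {ι : Type w} (a : ι → A)
variable {HK : ℕ → Type v} [∀ n, AddCommGroup (HK n)] [∀ n, Module A (HK n)]

/-- Iterated transitions of a sub-system `W` generated from degree `d` on land in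
`I^(j-(d-m)) W m`. -/
theorem iter_le (ha : ∀ i, a i ∈ I) (s : ∀ m, HK (m + 1) →ₗ[A] HK m)
    (τ : ι → ∀ m, HK m →ₗ[A] HK (m + 1))
    (hsτ : ∀ i m x, s m (τ i m x) = a i • x)
    (W : ∀ m, Submodule A (HK m)) (hWs : ∀ m x, x ∈ W (m + 1) → s m x ∈ W m)
    (d : ℕ) (hd : GenFrom τ W d) (m j : ℕ) :
    (W (m + j)).map (sC s m j) ≤ I ^ (j - (d - m)) • W m := by
  have hstep : ∀ m, d ≤ m → (W (m + 1)).map (s m) ≤ I • W m := by
    intro m hm
    have key : ∀ y, y ∈ ⨆ i, (W m).map (τ i m) → s m y ∈ I • W m := by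
      intro y hy'
      induction hy' using Submodule.iSup_induction' with
      | mem i y hy =>
        obtain ⟨z, hz, rfl⟩ := hy
        rw [hsτ]
        exact Submodule.smul_mem_smul (ha i) hz
      | zero => rw [map_zero]; exact Submodule.zero_mem _
      | add y z _ _ hy hz => rw [map_add]; exact Submodule.add_mem _ hy hz
    rintro _ ⟨x, hx, rfl⟩
    exact key x (hd m hm hx)
  induction j with
  | zero =>
    rintro _ ⟨x, hx, rfl⟩
    rw [sC_zero]
    simpa using hx
  | succ j ih =>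
    rintro _ ⟨x, hx, rfl⟩
    rw [sC_succ]
    by_cases hmj : d ≤ m + j
    · have h1 : s (m + j) x ∈ I • W (m + j) := hstep (m + j) hmj ⟨x, hx, rfl⟩
      have h2 : sC s m j (s (m + j) x) ∈ (I • W (m + j)).map (sC s m j) := ⟨_, h1, rfl⟩
      rw [Submodule.map_smul''] at h2
      have h3 : I • (W (m + j)).map (sC s m j) ≤ I • (I ^ (j - (d - m)) • W m) :=
        Submodule.smul_mono le_rfl ih
      have h4 : j + 1 - (d - m) = (j - (d - m)) + 1 := by omega
      rw [h4, pow_succ', mul_smul]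
      exact h3 h2
    · have h4 : j + 1 - (d - m) = 0 := by omega
      have h5 : j - (d - m) = 0 := by omega
      have h1 : s (m + j) x ∈ W (m + j) := hWs (m + j) x hx
      have h2 := ih ⟨_, h1, rfl⟩
      rw [h5] at h2
      rw [h4]
      exact h2

variable {H' : Type v} [AddCommGroup H'] [Module A H']

/-- **Uniform vanishing of iterated transitions on `ker ι'`.** -/
theorem exists_uniform_ker [IsNoetherianRing A] [Finite ι] (ha : ∀ i, a i ∈ I)
    (ι' : ∀ m, HK m →ₗ[A] H')
    (s : ∀ m, HK (m + 1) →ₗ[A] HK m) (τ : ι → ∀ m, HK m →ₗ[A] HK (m + 1))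
    (hι's : ∀ m x, ι' m (s m x) = ι' (m + 1) x)
    (hι'τ : ∀ i m x, ι' (m + 1) (τ i m x) = a i • ι' m x)
    (hsτ : ∀ i m x, s m (τ i m x) = a i • x)
    (e : ℕ) (hW0 : ∀ m (r : A), r ∈ I ^ (m + e) → ∀ x : HK m, ι' m x = 0 → r • x = 0)
    (hcomm : ∀ i k n x, τ i (n + 1) (τ k n x) = τ k (n + 1) (τ i n x))
    (hfin : ∀ m, Module.Finite A (HK m)) (d₀ : ℕ) (hgen : GenFrom τ (fun _ => ⊤) d₀) :
    ∃ c, ∀ m j, c ≤ j → ∀ x : HK (m + j), ι' (m + j) x = 0 → sC s m j x = 0 := by
  let W : ∀ m, Submodule A (HK m) := fun m => LinearMap.ker (ι' m)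
  have hWτ : ∀ i m x, x ∈ W m → τ i m x ∈ W (m + 1) := by
    intro i m x hx
    change ι' (m + 1) (τ i m x) = 0
    rw [hι'τ, (show ι' m x = 0 from hx), smul_zero]
  have hWs : ∀ m x, x ∈ W (m + 1) → s m x ∈ W m := by
    intro m x hx
    change ι' m (s m x) = 0
    rw [hι's]; exact hx
  obtain ⟨d, hd⟩ := exists_genFrom_of_sub τ hcomm hfin d₀ hgen W hWτ
  have hW0' : ∀ m (r : A), r ∈ I ^ (m + e) → ∀ x ∈ W m, r • x = 0 :=
    fun m r hr x hx => hW0 m r hr x hx
  have hWd' : ∀ m, d ≤ m → ∀ (r : A), r ∈ I ^ (d + e) → ∀ x ∈ W m, r • x = 0 := by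
    intro m hm'
    induction m, hm' using Nat.le_induction with
    | base => exact hW0' d
    | succ m hm' ih =>
      intro r hr x hx
      have key : ∀ y, y ∈ ⨆ i, (W m).map (τ i m) → r • y = 0 := by
        intro y hy'
        induction hy' using Submodule.iSup_induction' with
        | mem i y hy =>
          obtain ⟨z, hz, rfl⟩ := hy
          rw [← map_smul, ih r hr z hz, map_zero]
        | zero => rw [smul_zero]
        | add y z _ _ hy hz => rw [smul_add, hy, hz, add_zero]
      exact key x (hd m hm' hx)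
  have hWd : ∀ m (r : A), r ∈ I ^ (d + e) → ∀ x ∈ W m, r • x = 0 := by
    intro m
    by_cases hm : m ≤ d
    · intro r hr x hx
      exact hW0' m r (Ideal.pow_le_pow_right (by omega) hr) x hx
    · exact hWd' m (by omega)
  refine ⟨2 * d + e, fun m j hj x hx => ?_⟩
  have h1 := iter_le I a ha s τ hsτ W hWs d hd m j ⟨x, hx, rfl⟩
  have h2 : I ^ (j - (d - m)) ≤ I ^ (d + e) := Ideal.pow_le_pow_right (by omega)
  have h3 : I ^ (j - (d - m)) • W m ≤ ⊥ := by
    rw [Submodule.smul_le]
    intro r hr n hn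
    rw [hWd m r (h2 hr) n hn]
    exact Submodule.zero_mem _
  exact (Submodule.mem_bot A).1 (h3 h1)

end Algebra

section Geometry

universe u

open CategoryTheory CategoryTheory.Limits AlgebraicGeometry Opposite
open Groth.Agent.R2.H64.FFSpec Groth.Agent.R2.H64.FFGrFin Groth.Agent.R2.H64.FFMain
  Groth.Agent.R2.H62.CohLES
open Groth.Agent.R2.H35.FFRees (HHmap_smulMod smul_HH_modPow_eq_zero)

variable {A : Type u} [CommRing A] (I : Ideal A) {X : Scheme.{u}}
  [X.Over (Spec (CommRingCat.of A))]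

theorem idealPowIncl_ι {m n : ℕ} (h : m ≤ n) (M : X.Modules) :
    Formal2.idealPowIncl I h M ≫ kernel.ι (Formal.modPowπ I m M) =
      kernel.ι (Formal.modPowπ I n M) :=
  kernel.lift_ι _ _ _

theorem idealPowIncl_refl (m : ℕ) (M : X.Modules) :
    Formal2.idealPowIncl I (le_refl m) M = 𝟙 _ := by
  rw [← cancel_mono (kernel.ι (Formal.modPowπ I m M)), idealPowIncl_ι, Category.id_comp]

theorem idealPowIncl_succ {r : ℕ} {a : Fin r → A} {M : X.Modules} (D : ReesData I a M)
    {m n : ℕ} (h : m ≤ n) (h' : m ≤ n + 1) :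
    Formal2.idealPowIncl I h' M = D.incl n ≫ Formal2.idealPowIncl I h M := by
  rw [← cancel_mono (kernel.ι (Formal.modPowπ I m M)), idealPowIncl_ι, Category.assoc,
    idealPowIncl_ι, D.incl_ι]

variable (A) in
/-- On cohomology, `idealPowIncl` is the iterate of the one-step inclusions. -/
theorem HHmap_idealPowIncl_eq_sC {r : ℕ} {a : Fin r → A} {M : X.Modules} (D : ReesData I a M)
    (p m j : ℕ) (h : m ≤ m + j) (x : Coh.HH X (powMod I (m + j) M) p) :
    HHmap (Formal2.idealPowIncl I h M) p x =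
      sC (HK := fun n => Coh.HH X (powMod I n M) p) (fun n => HHmapA A (D.incl n) p) m j x := by
  induction j with
  | zero =>
    rw [sC_zero]
    have : Formal2.idealPowIncl I h M = 𝟙 _ := idealPowIncl_refl I m M
    rw [this]
    exact HHmap_id p x
  | succ j ih =>
    rw [sC_succ, ← ih (Nat.le_add_right m j)]
    have : Formal2.idealPowIncl I h M =
        D.incl (m + j) ≫ Formal2.idealPowIncl I (Nat.le_add_right m j) M :=
      idealPowIncl_succ I D (Nat.le_add_right m j) h
    rw [this, HHmap_comp]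
    rfl

variable (A) (X)
variable [IsNoetherianRing A] [IsLocallyNoetherian X] [CompactSpace X]

/-- **S0853 against S0002.** -/
theorem s0853_of (hfin : ∀ M : X.Modules, Coh.IsCoh M → ∀ q, Module.Finite A (Coh.HH X M q))
    (F : X.Modules) (hF : Coh.IsCoh F) (p : ℕ) :
    ∃ c : ℕ, ∀ (n m : ℕ), c ≤ n + m →
      Set.range (Sheaf.H.map ((SheafOfModules.toSheaf _).map
        (Formal2.idealPowIncl I (Nat.le_add_right n m) F)) p) ⊆
        SetLike.coe (I ^ (m - (c - n)) •
          (⊤ : Submodule A (Coh.HH X (Formal2.idealPowMod I n F) p))) := by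
  obtain ⟨r, a, hai, D, -, -, hgen⟩ := exists_reesData_cohGen A I X hfin F hF
  obtain ⟨d, hd⟩ := hgen p
  refine ⟨d, fun n m _ => ?_⟩
  rintro _ ⟨x, rfl⟩
  have h1 := iter_le I a hai (HK := fun n => Coh.HH X (powMod I n F) p)
    (fun n => HHmapA A (D.incl n) p) (fun i n => HHmapA A (D.mul i n) p)
    (fun i n x => by
      change HHmap (D.incl n) p (HHmap (D.mul i n) p x) = a i • x
      rw [← HHmap_comp, D.mul_incl, HHmap_smulMod])
    (fun _ => ⊤) (fun _ _ _ => Submodule.mem_top) d hd n m ⟨x, Submodule.mem_top, rfl⟩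
  rw [← HHmap_idealPowIncl_eq_sC A I D p n m (Nat.le_add_right n m) x] at h1
  exact h1

/-- **S0837 against S0002.** -/
theorem s0837_of (hfin : ∀ M : X.Modules, Coh.IsCoh M → ∀ q, Module.Finite A (Coh.HH X M q))
    (F : X.Modules) (hF : Coh.IsCoh F) (p : ℕ) :
    ∃ c : ℕ, ∀ (n : ℕ) (_ : c ≤ n),
      (Sheaf.H.map ((SheafOfModules.toSheaf _).map (Formal2.idealPowModι I n F)) p).ker =
        (Sheaf.H.map ((SheafOfModules.toSheaf _).map
          (Formal2.idealPowIncl I (Nat.sub_le n c) F)) p).ker := by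
  obtain ⟨r, a, hai, D, hcomm, hcoh, hgen⟩ := exists_reesData_cohGen A I X hfin F hF
  obtain ⟨d, hd⟩ := hgen p
  have hW0 : ∀ m (r : A), r ∈ I ^ (m + 0) → ∀ x : Coh.HH X (powMod I m F) p,
      HHmapA A (kernel.ι (Formal.modPowπ I m F)) p x = 0 → r • x = 0 := by
    cases p with
    | zero =>
      intro m r _ x hx
      have hx0 : x = 0 :=
        HHmap_f_zero_injective (powSC_shortExact I m F) (hx.trans (map_zero _).symm)
      rw [hx0, smul_zero]
    | succ q =>
      intro m r hr x hx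
      obtain ⟨y, rfl⟩ := ((exact_δ_f (powSC_shortExact I m F) q) x).1 hx
      have h1 : r • δA (powSC_shortExact I m F) A q y =
          δA (powSC_shortExact I m F) A q (r • y) :=
        ((δA (powSC_shortExact I m F) A q).map_smul r y).symm
      have h2 : r • y = 0 := smul_HH_modPow_eq_zero I F q m r hr y
      rw [h2, map_zero] at h1
      exact h1
  obtain ⟨c, hc⟩ := exists_uniform_ker I a hai
    (HK := fun n => Coh.HH X (powMod I n F) p) (H' := Coh.HH X F p)
    (fun n => HHmapA A (kernel.ι (Formal.modPowπ I n F)) p)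
    (fun n => HHmapA A (D.incl n) p) (fun i n => HHmapA A (D.mul i n) p)
    (fun n x => by
      change HHmap (kernel.ι (Formal.modPowπ I n F)) p (HHmap (D.incl n) p x) =
        HHmap (kernel.ι (Formal.modPowπ I (n + 1) F)) p x
      rw [← HHmap_comp, D.incl_ι])
    (fun i n x => by
      change HHmap (kernel.ι (Formal.modPowπ I (n + 1) F)) p (HHmap (D.mul i n) p x) =
        a i • HHmap (kernel.ι (Formal.modPowπ I n F)) p x
      rw [← HHmap_comp, D.mul_ι, HHmap_comp, HHmap_smulMod])
    (fun i n x => by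
      change HHmap (D.incl n) p (HHmap (D.mul i n) p x) = a i • x
      rw [← HHmap_comp, D.mul_incl, HHmap_smulMod])
    0 hW0
    (fun i k n x => by
      change HHmap (D.mul i (n + 1)) p (HHmap (D.mul k n) p x) =
        HHmap (D.mul k (n + 1)) p (HHmap (D.mul i n) p x)
      rw [← HHmap_comp, ← HHmap_comp, hcomm])
    (fun n => hfin _ (hcoh n) p) d hd
  have key : ∀ (m n : ℕ) (h : m ≤ n), m + c ≤ n →
      ∀ x : Coh.HH X (powMod I n F) p, HHmap (kernel.ι (Formal.modPowπ I n F)) p x = 0 →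
        HHmap (Formal2.idealPowIncl I h F) p x = 0 := by
    intro m n h hmn
    obtain ⟨j, rfl⟩ : ∃ j, n = m + j := ⟨n - m, by omega⟩
    intro x hx
    rw [HHmap_idealPowIncl_eq_sC A I D]
    exact hc m j (by omega) x hx
  refine ⟨c, fun n h => ?_⟩
  ext x
  constructor
  · intro hx
    exact key (n - c) n (Nat.sub_le n c) (by omega) x hx
  · intro hx
    change HHmap (kernel.ι (Formal.modPowπ I n F)) p x = 0
    rw [← idealPowIncl_ι I (Nat.sub_le n c) F, HHmap_comp,
      show HHmap (Formal2.idealPowIncl I (Nat.sub_le n c) F) p x = 0 from hx, map_zero]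

end Geometry

end Groth.Agent.R2.H35.FFKer
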