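import Mathlib
import Groth.Agent.Lib.Helper19ComplDim

/-!
# Completed local rings of nodes: evaluation of power series and surjectivity

Helper library for S7924 / S7925 (helper35).
-/

set_option autoImplicit false
set_option linter.unusedSectionVars false
universe u

namespace Groth.Agent.R2.H35.NodeCompl

open IsLocalRing

section ComplMap

variable {A B : Type u} [CommRing A] [IsLocalRing A] [CommRing B] [IsLocalRing B]
  [Algebra A B] [IsLocalHom (algebraMap A B)]

theorem map_max_le : (maximalIdeal A).map (algebraMap A B) ≤ maximalIdeal B :=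
  Ideal.map_le_iff_le_comap.mpr (fun a ha => map_nonunit (algebraMap A B) a ha)

theorem pow_le_comap (n : ℕ) :
    maximalIdeal A ^ n ≤ (maximalIdeal B ^ n).comap (Algebra.ofId A B) := by
  rw [← Ideal.map_le_iff_le_comap]
  change (maximalIdeal A ^ n).map (algebraMap A B) ≤ _
  rw [Ideal.map_pow]
  exact Ideal.pow_right_mono map_max_le n

/-- The truncated completion maps. -/
noncomputable def complTrunc (n : ℕ) :
    AdicCompletion (maximalIdeal A) A →ₐ[A] B ⧸ maximalIdeal B ^ n :=
  (Ideal.quotientMapₐ (maximalIdeal B ^ n) (Algebra.ofId A B) (pow_le_comap n)).comp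
      (AdicCompletion.evalₐ (maximalIdeal A) n)

theorem complTrunc_mk (n : ℕ) (c : AdicCompletion.AdicCauchySequence (maximalIdeal A) A) :
    complTrunc (B := B) n (AdicCompletion.mk (maximalIdeal A) A c) =
      Ideal.Quotient.mk (maximalIdeal B ^ n) (algebraMap A B (c n)) := by
  unfold complTrunc
  simp only [AlgHom.comp_apply, AdicCompletion.evalₐ_mk]
  rw [Ideal.quotient_map_mkₐ]
  rfl

theorem complTrunc_compat {m n : ℕ} (hle : m ≤ n) :
    (Ideal.Quotient.factorₐ A (Ideal.pow_le_pow_right hle)).comp (complTrunc (A := A) (B := B) n) =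
      complTrunc m := by
  ext x
  obtain ⟨c, rfl⟩ := AdicCompletion.mk_surjective (maximalIdeal A) A x
  rw [AlgHom.comp_apply, complTrunc_mk, complTrunc_mk, Ideal.Quotient.factorₐ_apply_mk,
    Ideal.Quotient.eq]
  have h1 := c.property hle
  rw [SModEq.sub_mem] at h1
  have h2 : c n - c m ∈ maximalIdeal A ^ m := by
    simpa using Ideal.neg_mem_iff _ |>.mpr h1
  simpa using pow_le_comap (B := B) m h2

/-- The map induced on completions by a local homomorphism. -/
noncomputable def complMap :
    AdicCompletion (maximalIdeal A) A →ₐ[A] AdicCompletion (maximalIdeal B) B :=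
  AdicCompletion.liftAlgHom (maximalIdeal B) (fun n => complTrunc n) complTrunc_compat

omit [IsLocalRing A] [IsLocalRing B] [IsLocalHom (algebraMap A B)] in
theorem algebraMap_comp (I : Ideal B) (a : A) :
    algebraMap A (AdicCompletion I B) a =
      algebraMap B (AdicCompletion I B) (algebraMap A B a) := by
  rw [AdicCompletion.algebraMap_apply, AdicCompletion.algebraMap_apply]
  simp

theorem evalₐ_complMap (n : ℕ) (x : AdicCompletion (maximalIdeal A) A) :
    AdicCompletion.evalₐ (maximalIdeal B) n (complMap (B := B) x) = complTrunc n x :=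
  AdicCompletion.evalₐ_liftAlgHom _ _ complTrunc_compat n x

theorem evalₐ_complMap_mk (n : ℕ) (c : AdicCompletion.AdicCauchySequence (maximalIdeal A) A) :
    AdicCompletion.evalₐ (maximalIdeal B) n
      (complMap (B := B) (AdicCompletion.mk (maximalIdeal A) A c)) =
      Ideal.Quotient.mk (maximalIdeal B ^ n) (algebraMap A B (c n)) := by
  rw [evalₐ_complMap, complTrunc_mk]

end ComplMap

section Eval

variable {σ : Type} [Finite σ] {R S : Type u} [CommRing R] [CommRing S] (J : Ideal S)

theorem eq_of_forall_mk_eq [IsHausdorff J S] {x y : S}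
    (h : ∀ n, Ideal.Quotient.mk (J ^ n) x = Ideal.Quotient.mk (J ^ n) y) : x = y := by
  rw [← sub_eq_zero]
  apply IsHausdorff.haus (I := J) inferInstance
  intro n
  rw [SModEq.zero]
  simpa using (Ideal.Quotient.eq.mp (h n))

variable (φ : R →+* S) (a : σ → S) (ha : ∀ i, a i ∈ J)

omit [Finite σ] in
include ha in
theorem eval₂_mem_pow (n : ℕ) (p : MvPolynomial σ R) (hp : p ∈ MvPolynomial.idealOfVars σ R ^ n) :
    MvPolynomial.eval₂Hom φ a p ∈ J ^ n := by
  have : (MvPolynomial.idealOfVars σ R ^ n).map (MvPolynomial.eval₂Hom φ a) ≤ J ^ n := by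
    rw [Ideal.map_pow]
    apply Ideal.pow_right_mono
    rw [MvPolynomial.idealOfVars, Ideal.map_span, Ideal.span_le]
    rintro _ ⟨_, ⟨i, rfl⟩, rfl⟩
    simpa using ha i
  exact this (Ideal.mem_map_of_mem _ hp)

/-- The truncated evaluation maps. -/
noncomputable def evalTrunc (n : ℕ) : MvPowerSeries σ R →+* S ⧸ J ^ n :=
  (Ideal.Quotient.lift (MvPolynomial.idealOfVars σ R ^ n)
    ((Ideal.Quotient.mk (J ^ n)).comp (MvPolynomial.eval₂Hom φ a))
    (fun p hp => by
      rw [RingHom.comp_apply, Ideal.Quotient.eq_zero_iff_mem]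
      exact eval₂_mem_pow J φ a ha n p hp)).comp
    (MvPowerSeries.truncTotalAlgHom σ R n).toRingHom

theorem evalTrunc_apply (n : ℕ) (p : MvPowerSeries σ R) :
    evalTrunc J φ a ha n p =
      Ideal.Quotient.mk (J ^ n) (MvPolynomial.eval₂Hom φ a (MvPowerSeries.truncTotal n p)) := by
  rfl

variable [IsAdicComplete J S]

omit [IsAdicComplete J S] in
theorem evalTrunc_compat {m n : ℕ} (hle : m ≤ n) :
    (Ideal.Quotient.factorPow J hle).comp (evalTrunc J φ a ha n) = evalTrunc J φ a ha m := by
  ext p
  rw [RingHom.comp_apply, evalTrunc_apply, evalTrunc_apply]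
  change Ideal.Quotient.mk (J ^ m) _ = _
  rw [Ideal.Quotient.eq, ← map_sub]
  exact eval₂_mem_pow J φ a ha m _
    (MvPowerSeries.truncTotal_sub_truncTotal_mem_pow_idealOfVars hle le_rfl p)

/-- Evaluation of power series at topologically nilpotent elements of an adically complete ring. -/
noncomputable def evalPS : MvPowerSeries σ R →+* S :=
  IsAdicComplete.liftRingHom J (evalTrunc J φ a ha) (evalTrunc_compat J φ a ha)

theorem mk_evalPS (n : ℕ) (p : MvPowerSeries σ R) :
    Ideal.Quotient.mk (J ^ n) (evalPS J φ a ha p) = evalTrunc J φ a ha n p :=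
  IsAdicComplete.mk_liftRingHom J _ (evalTrunc_compat J φ a ha) n p

theorem evalPS_coe (p : MvPolynomial σ R) :
    evalPS J φ a ha (p : MvPowerSeries σ R) = MvPolynomial.eval₂Hom φ a p := by
  apply eq_of_forall_mk_eq J
  intro n
  rw [mk_evalPS, evalTrunc_apply, Ideal.Quotient.eq, ← map_sub]
  apply eval₂_mem_pow J φ a ha n
  have h := (MvPowerSeries.truncTotalAlgHom σ R n).commutes p
  rw [MvPowerSeries.truncTotalAlgHom_apply] at h
  exact Ideal.Quotient.eq.mp h

theorem evalPS_C (r : R) : evalPS J φ a ha (MvPowerSeries.C r) = φ r := by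
  rw [← MvPolynomial.coe_C, evalPS_coe]
  simp

theorem evalPS_X (i : σ) : evalPS J φ a ha (MvPowerSeries.X i) = a i := by
  rw [← MvPolynomial.coe_X, evalPS_coe]
  simp

theorem map_span_X_evalPS :
    (Ideal.span (Set.range (MvPowerSeries.X : σ → MvPowerSeries σ R))).map (evalPS J φ a ha) =
      Ideal.span (Set.range a) := by
  rw [Ideal.map_span, ← Set.range_comp]
  congr 2
  ext i
  simp [evalPS_X]

/-- Complete Nakayama for evaluation of power series. -/
theorem evalPS_surjective [IsNoetherianRing S] (hJ : J ≤ Ideal.jacobson ⊥)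
    (h : Function.Surjective ((Ideal.Quotient.mk (Ideal.span (Set.range a))).comp φ)) :
    Function.Surjective (evalPS J φ a ha) := by
  have hle : Ideal.span (Set.range a) ≤ J := by
    rw [Ideal.span_le]
    rintro _ ⟨i, rfl⟩
    exact ha i
  have : IsHausdorff ((Ideal.span (Set.range (MvPowerSeries.X : σ → MvPowerSeries σ R))).map
      (evalPS J φ a ha)) S := by
    rw [map_span_X_evalPS]
    exact IsHausdorff.of_le_jacobson _ _ (hle.trans hJ)
  apply surjective_of_mk_map_comp_surjective
    (I := Ideal.span (Set.range (MvPowerSeries.X : σ → MvPowerSeries σ R)))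
  intro c
  obtain ⟨c, rfl⟩ := Ideal.Quotient.mk_surjective c
  obtain ⟨r, hr⟩ := h (Ideal.Quotient.mk _ c)
  refine ⟨MvPowerSeries.C r, ?_⟩
  rw [RingHom.comp_apply, evalPS_C]
  rw [RingHom.comp_apply] at hr
  rw [Ideal.Quotient.eq] at hr ⊢
  rw [map_span_X_evalPS]
  exact hr

end Eval

section Lim

variable {R : Type u} [CommRing R] (I : Ideal R)

/-- The limit in the completion of a sequence with `s (n+1) - s n ∈ I ^ n`. -/
noncomputable def limSeq (s : ℕ → R) (hs : ∀ n, s (n + 1) - s n ∈ I ^ n) : AdicCompletion I R :=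
  AdicCompletion.mk I R (AdicCompletion.AdicCauchySequence.mk I R s (fun n => by
    rw [SModEq.sub_mem]
    have := (Ideal.neg_mem_iff _).mpr (hs n)
    simpa using this))

theorem evalₐ_limSeq (s : ℕ → R) (hs : ∀ n, s (n + 1) - s n ∈ I ^ n) (n : ℕ) :
    AdicCompletion.evalₐ I n (limSeq I s hs) = Ideal.Quotient.mk (I ^ n) (s n) := by
  unfold limSeq
  rw [AdicCompletion.evalₐ_mk]
  rfl

theorem mem_map_pow_of_evalₐ_eq_zero (hI : I.FG) (n : ℕ) (x : AdicCompletion I R)
    (hx : AdicCompletion.evalₐ I n x = 0) :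
    x ∈ (I.map (algebraMap R (AdicCompletion I R))) ^ n := by
  have h1 : AdicCompletion.eval I R n x = 0 := by
    rw [← AdicCompletion.factor_evalₐ_eq_eval I x (le_of_eq (by simp)), hx, map_zero]
  have h2 : x ∈ (I ^ n • ⊤ : Submodule R (AdicCompletion I R)) := by
    rw [AdicCompletion.pow_smul_top_eq_ker_eval hI]
    exact h1
  rw [Ideal.smul_top_eq_map, Submodule.restrictScalars_mem, Ideal.map_pow] at h2
  exact h2

theorem limSeq_sub_of_mem (hI : I.FG) (s : ℕ → R) (hs : ∀ n, s (n + 1) - s n ∈ I ^ n) (n : ℕ) :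
    limSeq I s hs - algebraMap R (AdicCompletion I R) (s n) ∈
      (I.map (algebraMap R (AdicCompletion I R))) ^ n := by
  apply mem_map_pow_of_evalₐ_eq_zero I hI
  rw [map_sub, evalₐ_limSeq, AdicCompletion.algebraMap_apply, AdicCompletion.evalₐ_of,
    Algebra.algebraMap_self, RingHom.id_apply, sub_self]

theorem limSeq_mem (hI : I.FG) (s : ℕ → R) (hs : ∀ n, s (n + 1) - s n ∈ I ^ n) (h1 : s 1 ∈ I) :
    limSeq I s hs ∈ I.map (algebraMap R (AdicCompletion I R)) := by
  have h := limSeq_sub_of_mem I hI s hs 1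
  rw [pow_one] at h
  have := add_mem h (Ideal.mem_map_of_mem (algebraMap R (AdicCompletion I R)) h1)
  simpa using this

end Lim

section Closed

theorem mem_of_forall_mem_sup_pow {S : Type u} [CommRing S] [IsLocalRing S] [IsNoetherianRing S]
    (K : Ideal S) (x : S) (h : ∀ n, ∃ y ∈ K, x - y ∈ maximalIdeal S ^ n) : x ∈ K := by
  rw [← Ideal.Quotient.eq_zero_iff_mem]
  apply IsHausdorff.haus (I := maximalIdeal S) (M := S ⧸ K) inferInstance
  intro n
  rw [SModEq.zero]
  obtain ⟨y, hy, hxy⟩ := h n
  have h1 : Ideal.Quotient.mk K x = (x - y) • (Ideal.Quotient.mk K 1) := by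
    rw [Algebra.smul_def, map_one, mul_one, Ideal.Quotient.algebraMap_eq, map_sub,
      Ideal.Quotient.eq_zero_iff_mem.mpr hy, sub_zero]
  rw [h1]
  exact Submodule.smul_mem_smul hxy Submodule.mem_top

end Closed

section Node

variable {A B : Type u} [CommRing A] [IsLocalRing A] [IsNoetherianRing A]
  [CommRing B] [IsLocalRing B] [IsNoetherianRing B] [Algebra A B] [IsLocalHom (algebraMap A B)]

omit [IsNoetherianRing A] [IsNoetherianRing B] in
theorem map_pow_le (n : ℕ) : (maximalIdeal A ^ n).map (algebraMap A B) ≤ maximalIdeal B ^ n := by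
  rw [Ideal.map_pow]
  exact Ideal.pow_right_mono map_max_le n

omit [IsNoetherianRing A] [IsNoetherianRing B] in
theorem map_pow_succ_le (n : ℕ) :
    (maximalIdeal A ^ (n + 1)).map (algebraMap A B) ≤ maximalIdeal B ^ n :=
  (map_pow_le (n + 1)).trans (Ideal.pow_le_pow_right n.le_succ)

omit [IsNoetherianRing A] [IsNoetherianRing B] [IsLocalRing B] [IsLocalHom (algebraMap A B)] in
theorem map_pow_succ_le_map (n : ℕ) :
    (maximalIdeal A ^ (n + 1)).map (algebraMap A B) ≤ (maximalIdeal A).map (algebraMap A B) :=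
  Ideal.map_mono (Ideal.pow_le_self (Nat.succ_ne_zero n))

/-- The ideal `𝔪_A B̂`. -/
noncomputable abbrev mBhat (A B : Type u) [CommRing A] [IsLocalRing A] [CommRing B] [IsLocalRing B]
    [Algebra A B] : Ideal (AdicCompletion (maximalIdeal B) B) :=
  (maximalIdeal A).map (algebraMap A (AdicCompletion (maximalIdeal B) B))

omit [IsNoetherianRing A] [IsLocalHom (algebraMap A B)] [IsNoetherianRing B] in
theorem algebraMap_mem_mBhat (b : B) (hb : b ∈ (maximalIdeal A).map (algebraMap A B)) :
    algebraMap B (AdicCompletion (maximalIdeal B) B) b ∈ mBhat A B := by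
  have : ((maximalIdeal A).map (algebraMap A B)).map
      (algebraMap B (AdicCompletion (maximalIdeal B) B)) ≤ mBhat A B := by
    rw [Ideal.map_map]
    apply le_of_eq
    congr 1
  exact this (Ideal.mem_map_of_mem _ hb)

omit [IsNoetherianRing A] [IsNoetherianRing B] in
theorem sub_zero_mem (s : ℕ → B)
    (hs : ∀ n, s (n + 1) - s n ∈ (maximalIdeal A ^ (n + 1)).map (algebraMap A B)) (n : ℕ) :
    s n - s 0 ∈ (maximalIdeal A).map (algebraMap A B) := by
  induction n with
  | zero => simp
  | succ n ih =>
    have : s (n + 1) - s 0 = (s (n + 1) - s n) + (s n - s 0) := by ring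
    rw [this]
    exact add_mem (map_pow_succ_le_map n (hs n)) ih

omit [IsNoetherianRing A] in
/-- The limit of a sequence converging `𝔪_A`-adically is congruent to its first term mod `𝔪_A B̂`. -/
theorem limSeq_sub_mem_mBhat (s : ℕ → B)
    (hs : ∀ n, s (n + 1) - s n ∈ (maximalIdeal A ^ (n + 1)).map (algebraMap A B)) :
    limSeq (maximalIdeal B) s (fun n => map_pow_succ_le n (hs n)) -
      algebraMap B (AdicCompletion (maximalIdeal B) B) (s 0) ∈ mBhat A B := by
  apply mem_of_forall_mem_sup_pow
  intro n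
  refine ⟨algebraMap B (AdicCompletion (maximalIdeal B) B) (s n - s 0),
    algebraMap_mem_mBhat _ (sub_zero_mem s hs n), ?_⟩
  have h := limSeq_sub_of_mem (maximalIdeal B) (maximalIdeal B).fg_of_isNoetherianRing s
    (fun n => map_pow_succ_le n (hs n)) n
  rw [← AdicCompletion.maximalIdeal_eq_map] at h
  convert h using 1
  rw [map_sub]
  ring

/-- `complMap` is local. -/
theorem complMap_mem_maximalIdeal (x : AdicCompletion (maximalIdeal A) A)
    (hx : x ∈ maximalIdeal (AdicCompletion (maximalIdeal A) A)) :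
    complMap (B := B) x ∈ maximalIdeal (AdicCompletion (maximalIdeal B) B) := by
  rw [AdicCompletion.maximalIdeal_eq_map] at hx
  have : ((maximalIdeal A).map (algebraMap A (AdicCompletion (maximalIdeal A) A))).map
      (complMap (A := A) (B := B)) ≤ maximalIdeal (AdicCompletion (maximalIdeal B) B) := by
    rw [Ideal.map_le_iff_le_comap, Ideal.map_le_iff_le_comap]
    intro a ha
    rw [Ideal.mem_comap, Ideal.mem_comap, AlgHom.commutes, AdicCompletion.algebraMap_apply,
      AdicCompletion.maximalIdeal_eq_map]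
    exact Ideal.mem_map_of_mem _ (map_max_le (Ideal.mem_map_of_mem _ ha))
  exact this (Ideal.mem_map_of_mem _ hx)

/-- Every element of `B̂` is congruent to the image of an element of `A` modulo the maximal ideal. -/
theorem exists_sub_mem_maximalIdeal
    (hres : Function.Bijective (IsLocalRing.ResidueField.map (algebraMap A B)))
    (x : AdicCompletion (maximalIdeal B) B) :
    ∃ a : A, x - algebraMap A (AdicCompletion (maximalIdeal B) B) a ∈
      maximalIdeal (AdicCompletion (maximalIdeal B) B) := by
  obtain ⟨b, hb⟩ := Ideal.Quotient.mk_surjective (AdicCompletion.evalₐ (maximalIdeal B) 1 x)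
  obtain ⟨c', hc'⟩ := hres.2 (residue B b)
  obtain ⟨c, rfl⟩ := residue_surjective c'
  rw [ResidueField.map_residue] at hc'
  have h1 : b - algebraMap A B c ∈ maximalIdeal B := by
    rw [← residue_eq_zero_iff, map_sub, hc', sub_self]
  refine ⟨c, ?_⟩
  have h2 : x - algebraMap A (AdicCompletion (maximalIdeal B) B) c =
      (x - algebraMap B (AdicCompletion (maximalIdeal B) B) b) +
        algebraMap B (AdicCompletion (maximalIdeal B) B) (b - algebraMap A B c) := by
    rw [map_sub, AdicCompletion.algebraMap_apply (S := A), AdicCompletion.algebraMap_apply (S := B),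
      AdicCompletion.algebraMap_apply (S := B)]
    simp
  rw [h2]
  apply add_mem
  · have := mem_map_pow_of_evalₐ_eq_zero (maximalIdeal B) (maximalIdeal B).fg_of_isNoetherianRing 1
      (x - algebraMap B (AdicCompletion (maximalIdeal B) B) b) (by
        rw [map_sub, ← hb, AdicCompletion.algebraMap_apply, AdicCompletion.evalₐ_of]
        simp)
    rwa [pow_one, ← AdicCompletion.maximalIdeal_eq_map] at this
  · rw [AdicCompletion.maximalIdeal_eq_map]
    exact Ideal.mem_map_of_mem _ h1

omit [IsNoetherianRing A] in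
theorem mBhat_le : mBhat A B ≤ maximalIdeal (AdicCompletion (maximalIdeal B) B) := by
  rw [Ideal.map_le_iff_le_comap]
  intro a ha
  rw [Ideal.mem_comap, algebraMap_comp, AdicCompletion.maximalIdeal_eq_map]
  exact Ideal.mem_map_of_mem _ (map_max_le (Ideal.mem_map_of_mem _ ha))

omit [IsNoetherianRing A] [IsLocalHom (algebraMap A B)] [IsNoetherianRing B] in
theorem map_map_eq_mBhat : ((maximalIdeal A).map (algebraMap A B)).map
    (algebraMap B (AdicCompletion (maximalIdeal B) B)) = mBhat A B := by
  rw [Ideal.map_map]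
  congr 1

/-- Main construction: the evaluation map `Â[[x,y]] → B̂` at the limits of the approximating
sequences is surjective and kills `xy - α`. -/
theorem exists_evalPS_surjective
    (hres : Function.Bijective (IsLocalRing.ResidueField.map (algebraMap A B)))
    (u v : B)
    (hgen : maximalIdeal B = Ideal.span {u, v} ⊔ (maximalIdeal A).map (algebraMap A B))
    (us vs : ℕ → B) (ε : ℕ → A) (h0u : us 0 = u) (h0v : vs 0 = v)
    (husm : ∀ n, us n ∈ maximalIdeal B) (hvsm : ∀ n, vs n ∈ maximalIdeal B)
    (hεm : ∀ n, ε n ∈ maximalIdeal A)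
    (hus : ∀ n, us (n + 1) - us n ∈ (maximalIdeal A ^ (n + 1)).map (algebraMap A B))
    (hvs : ∀ n, vs (n + 1) - vs n ∈ (maximalIdeal A ^ (n + 1)).map (algebraMap A B))
    (hε : ∀ n, ε (n + 1) - ε n ∈ maximalIdeal A ^ (n + 1))
    (hprod : ∀ n, us n * vs n - algebraMap A B (ε n) ∈
      (maximalIdeal A ^ (n + 1)).map (algebraMap A B)) :
    ∃ (α : AdicCompletion (maximalIdeal A) A)
      (_ : α ∈ (maximalIdeal A).map (algebraMap A (AdicCompletion (maximalIdeal A) A)))
      (Φ : MvPowerSeries (Fin 2) (AdicCompletion (maximalIdeal A) A) →+*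
        AdicCompletion (maximalIdeal B) B),
      Function.Surjective Φ ∧ (∀ a, Φ (MvPowerSeries.C a) = complMap a) ∧
      Φ (MvPowerSeries.X 0 * MvPowerSeries.X 1 - MvPowerSeries.C α) = 0 ∧
      Φ (MvPowerSeries.X 0) - algebraMap B (AdicCompletion (maximalIdeal B) B) u ∈ mBhat A B ∧
      Φ (MvPowerSeries.X 1) - algebraMap B (AdicCompletion (maximalIdeal B) B) v ∈ mBhat A B := by
  classical
  set uh := limSeq (maximalIdeal B) us (fun n => map_pow_succ_le n (hus n)) with huh
  set vh := limSeq (maximalIdeal B) vs (fun n => map_pow_succ_le n (hvs n)) with hvh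
  set α := limSeq (maximalIdeal A) ε (fun n => Ideal.pow_le_pow_right n.le_succ (hε n)) with hα
  have huc : uh - algebraMap B (AdicCompletion (maximalIdeal B) B) u ∈ mBhat A B :=
    h0u ▸ limSeq_sub_mem_mBhat us hus
  have hvc : vh - algebraMap B (AdicCompletion (maximalIdeal B) B) v ∈ mBhat A B :=
    h0v ▸ limSeq_sub_mem_mBhat vs hvs
  have huhm : uh ∈ maximalIdeal (AdicCompletion (maximalIdeal B) B) := by
    rw [AdicCompletion.maximalIdeal_eq_map]
    exact limSeq_mem _ (maximalIdeal B).fg_of_isNoetherianRing _ _ (husm 1)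
  have hvhm : vh ∈ maximalIdeal (AdicCompletion (maximalIdeal B) B) := by
    rw [AdicCompletion.maximalIdeal_eq_map]
    exact limSeq_mem _ (maximalIdeal B).fg_of_isNoetherianRing _ _ (hvsm 1)
  have hαm : α ∈ (maximalIdeal A).map (algebraMap A (AdicCompletion (maximalIdeal A) A)) :=
    limSeq_mem _ (maximalIdeal A).fg_of_isNoetherianRing _ _ (hεm 1)
  have hprodh : uh * vh = complMap α := by
    apply AdicCompletion.ext_evalₐ
    intro n
    rw [map_mul, huh, hvh, evalₐ_limSeq, evalₐ_limSeq, hα]
    unfold limSeq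
    rw [evalₐ_complMap_mk, ← map_mul, Ideal.Quotient.eq]
    exact map_pow_succ_le n (hprod n)
  let a : Fin 2 → AdicCompletion (maximalIdeal B) B := ![uh, vh]
  have ha : ∀ i, a i ∈ maximalIdeal (AdicCompletion (maximalIdeal B) B) := by
    intro i
    fin_cases i
    · exact huhm
    · exact hvhm
  refine ⟨α, hαm, evalPS (maximalIdeal (AdicCompletion (maximalIdeal B) B))
    (complMap (A := A) (B := B)).toRingHom a ha, ?_, ?_, ?_, ?_, ?_⟩
  · apply evalPS_surjective _ _ _ _ (maximalIdeal_le_jacobson _)
    set Jc := Ideal.span (Set.range a) with hJc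
    set θ := (Ideal.Quotient.mk Jc).comp (complMap (A := A) (B := B)).toRingHom with hθ
    have hmax : maximalIdeal (AdicCompletion (maximalIdeal B) B) ≤ Jc ⊔ mBhat A B := by
      rw [AdicCompletion.maximalIdeal_eq_map,
        congrArg (Ideal.map (algebraMap B (AdicCompletion (maximalIdeal B) B))) hgen,
        Ideal.map_sup, Ideal.map_span]
      apply sup_le
      · rw [Ideal.span_le]
        rintro _ ⟨b, hb, rfl⟩
        simp only [Set.mem_insert_iff, Set.mem_singleton_iff] at hb
        rcases hb with rfl | rfl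
        · have : algebraMap B (AdicCompletion (maximalIdeal B) B) b =
              uh - (uh - algebraMap B (AdicCompletion (maximalIdeal B) B) b) := by ring
          rw [this]
          exact sub_mem (Ideal.mem_sup_left (Ideal.subset_span ⟨0, rfl⟩)) (Ideal.mem_sup_right huc)
        · have : algebraMap B (AdicCompletion (maximalIdeal B) B) b =
              vh - (vh - algebraMap B (AdicCompletion (maximalIdeal B) B) b) := by ring
          rw [this]
          exact sub_mem (Ideal.mem_sup_left (Ideal.subset_span ⟨1, rfl⟩)) (Ideal.mem_sup_right hvc)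
      · rw [map_map_eq_mBhat]
        exact le_sup_right
    have hθa : ∀ a0 : A, θ (algebraMap A (AdicCompletion (maximalIdeal A) A) a0) =
        Ideal.Quotient.mk Jc (algebraMap A (AdicCompletion (maximalIdeal B) B) a0) := by
      intro a0
      simp [θ]
    have hθmap : (maximalIdeal (AdicCompletion (maximalIdeal A) A)).map θ =
        (mBhat A B).map (Ideal.Quotient.mk Jc) := by
      rw [AdicCompletion.maximalIdeal_eq_map, Ideal.map_map, Ideal.map_map]
      have h4 : θ.comp (algebraMap A (AdicCompletion (maximalIdeal A) A)) =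
          (Ideal.Quotient.mk Jc).comp (algebraMap A (AdicCompletion (maximalIdeal B) B)) :=
        RingHom.ext hθa
      rw [h4]
    have : IsHausdorff ((maximalIdeal (AdicCompletion (maximalIdeal A) A)).map θ)
        (AdicCompletion (maximalIdeal B) B ⧸ Jc) := by
      apply IsHausdorff.of_le_jacobson
      rw [hθmap, Ideal.map_le_iff_le_comap]
      intro x hx
      rw [Ideal.mem_comap, Ideal.mem_jacobson_bot]
      intro y
      obtain ⟨y, rfl⟩ := Ideal.Quotient.mk_surjective y
      rw [← map_mul, ← map_one (Ideal.Quotient.mk Jc), ← map_add]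
      apply IsUnit.map
      have hxy : x * y ∈ maximalIdeal (AdicCompletion (maximalIdeal B) B) :=
        Ideal.mul_mem_right _ _ (mBhat_le hx)
      have := Ideal.mem_jacobson_bot.mp (maximalIdeal_le_jacobson ⊥ hxy) 1
      simpa using this
    apply surjective_of_mk_map_comp_surjective
      (I := maximalIdeal (AdicCompletion (maximalIdeal A) A)) (f := θ)
    intro c
    obtain ⟨c, rfl⟩ := Ideal.Quotient.mk_surjective c
    obtain ⟨b, rfl⟩ := Ideal.Quotient.mk_surjective c
    obtain ⟨a0, ha0⟩ := exists_sub_mem_maximalIdeal hres b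
    refine ⟨algebraMap A (AdicCompletion (maximalIdeal A) A) a0, ?_⟩
    rw [RingHom.comp_apply, Ideal.Quotient.eq, hθmap, hθa, ← map_sub]
    have h3 := hmax ((Ideal.neg_mem_iff _).mpr ha0)
    rw [neg_sub] at h3
    obtain ⟨j, hj, m, hm, hjm⟩ := Submodule.mem_sup.mp h3
    rw [← hjm, map_add, Ideal.Quotient.eq_zero_iff_mem.mpr hj, zero_add]
    exact Ideal.mem_map_of_mem _ hm
  · intro x
    exact evalPS_C _ _ _ _ x
  · rw [map_sub, map_mul, evalPS_X, evalPS_X, evalPS_C]
    change uh * vh - complMap α = 0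
    rw [hprodh, sub_self]
  · rw [evalPS_X]
    exact huc
  · rw [evalPS_X]
    exact hvc

end Node

end Groth.Agent.R2.H35.NodeCompl
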