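import Mathlib

/-!
# Flat modules and nilpotent ideals (helper56)

ns `Groth.Agent.R2.H56.FlatNil`:
* `eq_bot_of_le_smul_of_pow_eq_bot`, `eq_top_of_sup_smul_top_eq_top`: Nakayama for nilpotent ideals (no finiteness);
* `exists_sum_of_mem_smul_top`: finite-sum representation of elements of `I • ⊤`;
* `mem_smul_top_of_flat_of_smul_mem`: in a flat module, `t • r ∈ I M` implies `r ∈ (I : t) M`;
* `mem_smul_ker_of_flat`: for a surjection `ψ : M → N` onto a flat module, `ker ψ ∩ I M = I ker ψ`;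
* `bijective_of_flat_of_nilpotent`: a linear map `M → N` with `N` flat which is bijective modulo a nilpotent ideal
  is bijective.
-/

set_option autoImplicit false

namespace Groth.Agent.R2.H56.FlatNil

variable {R M N : Type*} [CommRing R] [AddCommGroup M] [Module R M] [AddCommGroup N] [Module R N]

theorem le_pow_smul_of_le_smul (I : Ideal R) (K : Submodule R M) (h : K ≤ I • K) (j : ℕ) :
    K ≤ I ^ j • K := by
  induction j with
  | zero => simp
  | succ j ih =>
    calc K ≤ I • K := h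
      _ ≤ I • (I ^ j • K) := Submodule.smul_mono le_rfl ih
      _ = I ^ (j + 1) • K := by rw [← Submodule.mul_smul, ← pow_succ']

/-- Nakayama for a nilpotent ideal: `K ≤ I K` forces `K = 0`. -/
theorem eq_bot_of_le_smul_of_pow_eq_bot (I : Ideal R) (n : ℕ) (hI : I ^ n = ⊥) (K : Submodule R M)
    (h : K ≤ I • K) : K = ⊥ := by
  have := le_pow_smul_of_le_smul I K h n
  rw [hI, Submodule.bot_smul] at this
  exact le_bot_iff.1 this

/-- Nakayama for a nilpotent ideal: `K + I M = M` forces `K = M`. -/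
theorem eq_top_of_sup_smul_top_eq_top (I : Ideal R) (n : ℕ) (hI : I ^ n = ⊥) (K : Submodule R M)
    (h : K ⊔ I • (⊤ : Submodule R M) = ⊤) : K = ⊤ := by
  have key : ∀ j : ℕ, K ⊔ I ^ j • (⊤ : Submodule R M) = ⊤ := by
    intro j
    induction j with
    | zero => simp
    | succ j ih =>
      rw [eq_top_iff]
      calc (⊤ : Submodule R M) = K ⊔ I • (⊤ : Submodule R M) := h.symm
        _ = K ⊔ I • (K ⊔ I ^ j • (⊤ : Submodule R M)) := by rw [ih]
        _ = K ⊔ (I • K ⊔ I • (I ^ j • (⊤ : Submodule R M))) := by rw [Submodule.smul_sup]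
        _ ≤ K ⊔ I ^ (j + 1) • (⊤ : Submodule R M) := by
          rw [← Submodule.mul_smul, ← pow_succ']
          exact sup_le le_sup_left (sup_le (Submodule.smul_le_right.trans le_sup_left) le_sup_right)
  have := key n
  rw [hI, Submodule.bot_smul, sup_bot_eq] at this
  exact this

/-- Elements of `I M` are finite sums `∑ aᵢ mᵢ` with `aᵢ ∈ I`. -/
theorem exists_sum_of_mem_smul_top (I : Ideal R) (x : M) (hx : x ∈ I • (⊤ : Submodule R M)) :
    ∃ (ι : Type) (_ : Fintype ι) (a : ι → R) (m : ι → M), (∀ i, a i ∈ I) ∧ x = ∑ i, a i • m i := by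
  refine Submodule.smul_induction_on hx ?_ ?_
  · intro a ha m _
    exact ⟨Unit, inferInstance, fun _ => a, fun _ => m, fun _ => ha, by simp⟩
  · rintro x y ⟨ι₁, _, a₁, m₁, ha₁, rfl⟩ ⟨ι₂, _, a₂, m₂, ha₂, rfl⟩
    refine ⟨ι₁ ⊕ ι₂, inferInstance, Sum.elim a₁ a₂, Sum.elim m₁ m₂, ?_, ?_⟩
    · rintro (i | i)
      · exact ha₁ i
      · exact ha₂ i
    · rw [Fintype.sum_sum_type]
      rfl

/-- In a flat module, `t r ∈ I M` implies `r ∈ J M` as soon as `J` contains the colon ideal `(I : t)`. -/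
theorem mem_smul_top_of_flat_of_smul_mem [Module.Flat R M] (I J : Ideal R) (t : R)
    (hJ : ∀ c : R, t * c ∈ I → c ∈ J) (r : M) (h : t • r ∈ I • (⊤ : Submodule R M)) :
    r ∈ J • (⊤ : Submodule R M) := by
  obtain ⟨ι, _, a, m, ha, hsum⟩ := exists_sum_of_mem_smul_top I _ h
  let f : Option ι → R := fun o => Option.elim o t (fun i => - a i)
  let x : Option ι → M := fun o => Option.elim o r m
  have hrel : ∑ o, f o • x o = 0 := by
    rw [Fintype.sum_option]
    simp only [f, x, Option.elim_none, Option.elim_some, neg_smul, Finset.sum_neg_distrib]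
    rw [hsum, add_neg_cancel]
  obtain ⟨κ, c, y, hxy, hc⟩ := Module.Flat.isTrivialRelation_of_sum_smul_eq_zero hrel
  have hr : r = ∑ j, c none j • y j := hxy none
  rw [hr]
  refine Submodule.sum_mem _ fun j _ => Submodule.smul_mem_smul (hJ _ ?_) Submodule.mem_top
  have hj := hc j
  rw [Fintype.sum_option] at hj
  simp only [f, Option.elim_none, Option.elim_some, neg_mul, Finset.sum_neg_distrib] at hj
  rw [add_neg_eq_zero] at hj
  rw [hj]
  exact Ideal.sum_mem _ fun i _ => Ideal.mul_mem_right _ _ (ha i)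

/-- For a surjection `ψ : M → N` onto a flat module, an element of `ker ψ ∩ I M` lies in `I ker ψ`. -/
theorem mem_smul_ker_of_flat [Module.Flat R N] (ψ : M →ₗ[R] N) (hψ : Function.Surjective ψ) (I : Ideal R)
    (x : M) (hx : x ∈ I • (⊤ : Submodule R M)) (h0 : ψ x = 0) : x ∈ I • LinearMap.ker ψ := by
  obtain ⟨ι, _, a, m, ha, rfl⟩ := exists_sum_of_mem_smul_top I _ hx
  have hrel : ∑ i, a i • ψ (m i) = 0 := by
    rw [← h0, map_sum]
    simp
  obtain ⟨κ, b, y, hxy, hb⟩ := Module.Flat.isTrivialRelation_of_sum_smul_eq_zero hrel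
  choose z hz using fun j => hψ (y j)
  have hk : ∀ i, m i - ∑ j, b i j • z j ∈ LinearMap.ker ψ := by
    intro i
    have h3 : ψ (m i) = ∑ j, b i j • y j := hxy i
    rw [LinearMap.mem_ker, map_sub, map_sum, h3, sub_eq_zero]
    simp [hz]
  have hdecomp : ∑ i, a i • m i = ∑ i, a i • (m i - ∑ j, b i j • z j) := by
    have h2 : ∑ i, a i • ∑ j, b i j • z j = 0 := by
      simp_rw [Finset.smul_sum, smul_smul]
      rw [Finset.sum_comm]
      refine Finset.sum_eq_zero fun j _ => ?_
      rw [← Finset.sum_smul, hb j, zero_smul]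
    simp_rw [smul_sub]
    rw [Finset.sum_sub_distrib, h2, sub_zero]
  rw [hdecomp]
  exact Submodule.sum_mem _ fun i _ => Submodule.smul_mem_smul (ha i) (hk i)

/-- A linear map into a flat module which is bijective modulo a nilpotent ideal `I` is bijective:
surjectivity modulo `I` is `range ψ + I N = N`, injectivity modulo `I` is `ψ x ∈ I N → x ∈ I M`. -/
theorem bijective_of_flat_of_nilpotent [Module.Flat R N] (ψ : M →ₗ[R] N) (I : Ideal R) (n : ℕ)
    (hI : I ^ n = ⊥) (hsurj : LinearMap.range ψ ⊔ I • (⊤ : Submodule R N) = ⊤)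
    (hinj : ∀ x : M, ψ x ∈ I • (⊤ : Submodule R N) → x ∈ I • (⊤ : Submodule R M)) :
    Function.Bijective ψ := by
  have hs : Function.Surjective ψ :=
    LinearMap.range_eq_top.1 (eq_top_of_sup_smul_top_eq_top I n hI _ hsurj)
  refine ⟨?_, hs⟩
  rw [← LinearMap.ker_eq_bot]
  apply eq_bot_of_le_smul_of_pow_eq_bot I n hI
  intro x hx
  have hx0 : ψ x = 0 := hx
  exact mem_smul_ker_of_flat ψ hs I x (hinj x (by rw [hx0]; exact zero_mem _)) hx0

end Groth.Agent.R2.H56.FlatNil
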