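import Mathlib
import Groth.Agent.R2.H35NodeCompl
import Groth.Agent.R2.H56FlatNil

/-!
# Completed local rings of nodes: injectivity in the flat case

Helper library for S7925 (helper35).
-/

set_option autoImplicit false
set_option linter.unusedSectionVars false
universe u

namespace Groth.Agent.R2.H35.NodeInj

open IsLocalRing Groth.Agent.R2.H35.NodeCompl

section Endo

/-- A surjective ring endomorphism of a Noetherian ring is injective. -/
theorem injective_of_surjective_ringEnd {N : Type*} [CommRing N] [IsNoetherianRing N]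
    (s : N →+* N) (hs : Function.Surjective s) : Function.Injective s := by
  rw [injective_iff_map_eq_zero]
  intro x hx
  let K : ℕ →o Ideal N :=
    { toFun := fun n => RingHom.ker (s ^ n)
      monotone' := by
        intro m n hmn y hy
        rw [RingHom.mem_ker] at hy ⊢
        obtain ⟨k, rfl⟩ := Nat.exists_eq_add_of_le hmn
        rw [add_comm, pow_add, RingHom.mul_def, RingHom.comp_apply, hy, map_zero] }
  obtain ⟨n, hn⟩ := monotone_stabilizes_iff_noetherian.mpr (inferInstance : IsNoetherian N N) K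
  have hsn : Function.Surjective (s ^ n) := by
    rw [RingHom.coe_pow]
    exact hs.iterate n
  obtain ⟨y, rfl⟩ := hsn x
  have h1 : y ∈ K (n + 1) := by
    change y ∈ RingHom.ker (s ^ (n + 1))
    rw [RingHom.mem_ker, pow_succ', RingHom.mul_def, RingHom.comp_apply, hx]
  rw [← hn (n + 1) n.le_succ] at h1
  exact h1

end Endo

section CoeffIdeal

variable {σ : Type*} {R : Type*} [CommRing R]

/-- A power series all of whose coefficients lie in a finitely generated ideal `I` lies in the
extension of `I` to the power series ring. -/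
theorem mem_map_C_of_coeff_mem (I : Ideal R) (hI : I.FG) (f : MvPowerSeries σ R)
    (hf : ∀ d, MvPowerSeries.coeff d f ∈ I) :
    f ∈ I.map (MvPowerSeries.C : R →+* MvPowerSeries σ R) := by
  classical
  obtain ⟨t, rfl⟩ := hI
  have h1 : ∀ d, ∃ c : R → R, MvPowerSeries.coeff d f = ∑ a ∈ t, c a * a := by
    intro d
    have := hf d
    rw [Submodule.mem_span_finset] at this
    obtain ⟨c, -, hc⟩ := this
    exact ⟨c, by simpa [smul_eq_mul] using hc.symm⟩
  choose c hc using h1
  let g : R → MvPowerSeries σ R := fun a d => c d a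
  have h2 : f = ∑ a ∈ t, (MvPowerSeries.C a : MvPowerSeries σ R) * g a := by
    ext d
    rw [hc d, map_sum]
    refine Finset.sum_congr rfl fun a _ => ?_
    rw [MvPowerSeries.coeff_C_mul, mul_comm]
    rfl
  rw [h2]
  refine Ideal.sum_mem _ fun a ha => Ideal.mul_mem_right _ _ ?_
  exact Ideal.mem_map_of_mem _ (Ideal.subset_span ha)

end CoeffIdeal

section QuotCompl

variable {R : Type u} [CommRing R] (I K : Ideal R)

theorem pow_le_comap_mk (n : ℕ) :
    I ^ n ≤ ((I.map (Ideal.Quotient.mk K)) ^ n).comap (Ideal.Quotient.mk K) := by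
  rw [← Ideal.map_le_iff_le_comap, Ideal.map_pow]

/-- Truncated maps for the completion of a quotient. -/
noncomputable def quotTrunc (n : ℕ) :
    AdicCompletion I R →+* (R ⧸ K) ⧸ (I.map (Ideal.Quotient.mk K)) ^ n :=
  (Ideal.quotientMap ((I.map (Ideal.Quotient.mk K)) ^ n) (Ideal.Quotient.mk K)
    (pow_le_comap_mk I K n)).comp (AdicCompletion.evalₐ I n).toRingHom

theorem quotTrunc_mk (n : ℕ) (c : AdicCompletion.AdicCauchySequence I R) :
    quotTrunc I K n (AdicCompletion.mk I R c) =
      Ideal.Quotient.mk _ (Ideal.Quotient.mk K (c n)) := by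
  unfold quotTrunc
  rw [RingHom.comp_apply]
  change Ideal.quotientMap _ _ _ (AdicCompletion.evalₐ I n (AdicCompletion.mk I R c)) = _
  rw [AdicCompletion.evalₐ_mk, Ideal.quotientMap_mk]

theorem quotTrunc_compat {m n : ℕ} (hle : m ≤ n) :
    (Ideal.Quotient.factorPow (I.map (Ideal.Quotient.mk K)) hle).comp (quotTrunc I K n) =
      quotTrunc I K m := by
  ext x
  obtain ⟨c, rfl⟩ := AdicCompletion.mk_surjective I R x
  rw [RingHom.comp_apply, quotTrunc_mk, quotTrunc_mk]
  change Ideal.Quotient.mk _ _ = _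
  rw [Ideal.Quotient.eq, ← map_sub]
  apply pow_le_comap_mk I K m
  have h1 := c.property hle
  rw [SModEq.sub_mem] at h1
  simpa using Ideal.neg_mem_iff _ |>.mpr h1

/-- The map from the completion of `R` to the completion of `R ⧸ K`. -/
noncomputable def quotCompl :
    AdicCompletion I R →+* AdicCompletion (I.map (Ideal.Quotient.mk K)) (R ⧸ K) :=
  AdicCompletion.liftRingHom _ (quotTrunc I K) (quotTrunc_compat I K)

theorem evalₐ_quotCompl_mk (n : ℕ) (c : AdicCompletion.AdicCauchySequence I R) :
    AdicCompletion.evalₐ _ n (quotCompl I K (AdicCompletion.mk I R c)) =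
      Ideal.Quotient.mk _ (Ideal.Quotient.mk K (c n)) := by
  unfold quotCompl
  rw [AdicCompletion.evalₐ_liftRingHom, quotTrunc_mk]

theorem quotCompl_algebraMap (r : R) :
    quotCompl I K (algebraMap R (AdicCompletion I R) r) =
      algebraMap (R ⧸ K) (AdicCompletion (I.map (Ideal.Quotient.mk K)) (R ⧸ K))
        (Ideal.Quotient.mk K r) := by
  apply AdicCompletion.ext_evalₐ
  intro n
  unfold quotCompl
  rw [AdicCompletion.evalₐ_liftRingHom, AdicCompletion.algebraMap_apply,
    AdicCompletion.algebraMap_apply, AdicCompletion.evalₐ_of]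
  unfold quotTrunc
  rw [RingHom.comp_apply]
  change Ideal.quotientMap _ _ _ (AdicCompletion.evalₐ I n (AdicCompletion.of I R _)) = _
  rw [AdicCompletion.evalₐ_of, Ideal.quotientMap_mk]
  simp

theorem quotCompl_surjective : Function.Surjective (quotCompl I K) := by
  intro y
  obtain ⟨c, rfl⟩ := AdicCompletion.mk_surjective _ _ y
  have h1 : ∀ n, ∃ d ∈ I ^ n, Ideal.Quotient.mk K d = c (n + 1) - c n := by
    intro n
    have h2 := c.property n.le_succ
    rw [SModEq.sub_mem] at h2
    have h3 : c (n + 1) - c n ∈ (I ^ n).map (Ideal.Quotient.mk K) := by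
      rw [Ideal.map_pow]
      simpa using Ideal.neg_mem_iff _ |>.mpr h2
    obtain ⟨d, hd, hd'⟩ :=
      (Ideal.mem_map_iff_of_surjective _ Ideal.Quotient.mk_surjective).mp h3
    exact ⟨d, hd, hd'⟩
  choose d hd hd' using h1
  obtain ⟨b0, hb0⟩ := Ideal.Quotient.mk_surjective (c 0)
  let b : ℕ → R := fun n => Nat.rec b0 (fun n bn => bn + d n) n
  have hb : ∀ n, Ideal.Quotient.mk K (b n) = c n := by
    intro n
    induction n with
    | zero => exact hb0
    | succ n ih =>
      change Ideal.Quotient.mk K (b n + d n) = _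
      rw [map_add, ih, hd']
      ring
  have hbs : ∀ n, b (n + 1) - b n ∈ I ^ n := by
    intro n
    change b n + d n - b n ∈ _
    rw [add_sub_cancel_left]
    exact hd n
  refine ⟨limSeq I b hbs, ?_⟩
  apply AdicCompletion.ext_evalₐ
  intro n
  unfold limSeq
  rw [evalₐ_quotCompl_mk, AdicCompletion.evalₐ_mk]
  change Ideal.Quotient.mk _ (Ideal.Quotient.mk K (b n)) = _
  rw [hb]

end QuotCompl

section Reduction

variable {R κ : Type*} [CommRing R] [CommRing κ]

theorem map_surjective_of_surjective {σ : Type*} (ρ : R →+* κ) (hρ : Function.Surjective ρ) :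
    Function.Surjective (MvPowerSeries.map ρ : MvPowerSeries σ R →+* MvPowerSeries σ κ) := by
  intro h
  choose c hc using fun d => hρ (MvPowerSeries.coeff d h)
  let f : MvPowerSeries σ R := c
  refine ⟨f, ?_⟩
  ext d
  rw [MvPowerSeries.coeff_map]
  exact hc d

/-- Reduction of the node ring modulo the kernel of `ρ`. -/
theorem exists_reduction (ρ : R →+* κ) (hρ : Function.Surjective ρ) (hker : (RingHom.ker ρ).FG)
    (α : R) (hα : ρ α = 0) :
    ∃ t : (MvPowerSeries (Fin 2) R ⧸ Ideal.span {(MvPowerSeries.X 0 * MvPowerSeries.X 1 -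
          MvPowerSeries.C α : MvPowerSeries (Fin 2) R)}) →+*
        (MvPowerSeries (Fin 2) κ ⧸ Ideal.span {(MvPowerSeries.X 0 * MvPowerSeries.X 1 :
          MvPowerSeries (Fin 2) κ)}),
      Function.Surjective t ∧
      RingHom.ker t ≤ ((RingHom.ker ρ).map (MvPowerSeries.C : R →+* MvPowerSeries (Fin 2) R)).map
        (Ideal.Quotient.mk _) := by
  classical
  set T : MvPowerSeries (Fin 2) R →+* MvPowerSeries (Fin 2) κ := MvPowerSeries.map ρ with hT
  have hTs : Function.Surjective T := map_surjective_of_surjective ρ hρ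
  have hTnode : T (MvPowerSeries.X 0 * MvPowerSeries.X 1 - MvPowerSeries.C α) =
      MvPowerSeries.X 0 * MvPowerSeries.X 1 := by
    rw [map_sub, map_mul, hT, MvPowerSeries.map_X, MvPowerSeries.map_X, MvPowerSeries.map_C, hα,
      map_zero, sub_zero]
  have hTker : ∀ f, T f = 0 → f ∈ (RingHom.ker ρ).map
      (MvPowerSeries.C : R →+* MvPowerSeries (Fin 2) R) := by
    intro f hf
    apply mem_map_C_of_coeff_mem _ hker
    intro d
    rw [RingHom.mem_ker, ← MvPowerSeries.coeff_map, ← hT, hf, map_zero]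
  have hkill : ∀ p ∈ Ideal.span {(MvPowerSeries.X 0 * MvPowerSeries.X 1 -
      MvPowerSeries.C α : MvPowerSeries (Fin 2) R)},
      ((Ideal.Quotient.mk (Ideal.span {(MvPowerSeries.X 0 * MvPowerSeries.X 1 :
        MvPowerSeries (Fin 2) κ)})).comp T) p = 0 := by
    intro p hp
    obtain ⟨q, rfl⟩ := Ideal.mem_span_singleton'.mp hp
    rw [RingHom.comp_apply, map_mul, hTnode, Ideal.Quotient.eq_zero_iff_mem]
    exact Ideal.mul_mem_left _ _ (Ideal.subset_span rfl)
  refine ⟨Ideal.Quotient.lift _ _ hkill, ?_, ?_⟩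
  · intro y
    obtain ⟨y, rfl⟩ := Ideal.Quotient.mk_surjective y
    obtain ⟨p, rfl⟩ := hTs y
    exact ⟨Ideal.Quotient.mk _ p, by rw [Ideal.Quotient.lift_mk]; rfl⟩
  · intro q hq
    obtain ⟨p, rfl⟩ := Ideal.Quotient.mk_surjective q
    rw [RingHom.mem_ker, Ideal.Quotient.lift_mk, RingHom.comp_apply,
      Ideal.Quotient.eq_zero_iff_mem] at hq
    obtain ⟨h, hh⟩ := Ideal.mem_span_singleton'.mp hq
    obtain ⟨p', rfl⟩ := hTs h
    have h0 : T (p - p' * (MvPowerSeries.X 0 * MvPowerSeries.X 1 - MvPowerSeries.C α)) = 0 := by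
      rw [map_sub, map_mul, hTnode, hh, sub_self]
    have h1 := hTker _ h0
    have h2 : Ideal.Quotient.mk (Ideal.span {(MvPowerSeries.X 0 * MvPowerSeries.X 1 -
          MvPowerSeries.C α : MvPowerSeries (Fin 2) R)}) p =
        Ideal.Quotient.mk _ (p - p' * (MvPowerSeries.X 0 * MvPowerSeries.X 1 -
          MvPowerSeries.C α)) := by
      rw [Ideal.Quotient.eq]
      have : p - (p - p' * (MvPowerSeries.X 0 * MvPowerSeries.X 1 - MvPowerSeries.C α)) =
          p' * (MvPowerSeries.X 0 * MvPowerSeries.X 1 - MvPowerSeries.C α) := by ring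
      rw [this]
      exact Ideal.mul_mem_left _ _ (Ideal.subset_span rfl)
    rw [h2]
    exact Ideal.mem_map_of_mem _ h1

end Reduction

section Main

variable {A B : Type u} [CommRing A] [IsLocalRing A] [IsNoetherianRing A]
  [CommRing B] [IsLocalRing B] [IsNoetherianRing B] [Algebra A B] [IsLocalHom (algebraMap A B)]
  [Module.Flat A B]

/-- The node ideal `(xy - α)`. -/
noncomputable abbrev nodeIdeal {R : Type*} [CommRing R] (α : R) : Ideal (MvPowerSeries (Fin 2) R) :=
  Ideal.span {(MvPowerSeries.X 0 * MvPowerSeries.X 1 - MvPowerSeries.C α : MvPowerSeries (Fin 2) R)}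

/-- The ideal `(xy)`. -/
noncomputable abbrev nodeIdeal₀ (κ : Type*) [CommRing κ] : Ideal (MvPowerSeries (Fin 2) κ) :=
  Ideal.span {(MvPowerSeries.X 0 * MvPowerSeries.X 1 : MvPowerSeries (Fin 2) κ)}

omit [IsLocalRing A] [IsNoetherianRing A] in
theorem algebraMap_node_eq (I : Ideal A) (α : AdicCompletion I A) (a : A) :
    algebraMap A (MvPowerSeries (Fin 2) (AdicCompletion I A) ⧸ nodeIdeal α) a =
      Ideal.Quotient.mk _ (MvPowerSeries.C (algebraMap A (AdicCompletion I A) a)) := by
  rw [← MvPowerSeries.algebraMap_apply]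
  rfl

/-- Injectivity of a surjection from the formal node ring over `Â` onto `B̂` in the flat case with
nodal completed fibre. -/
theorem injective_of_surjective
    (α : AdicCompletion (maximalIdeal A) A)
    (hα : α ∈ (maximalIdeal A).map (algebraMap A (AdicCompletion (maximalIdeal A) A)))
    (ψ : (MvPowerSeries (Fin 2) (AdicCompletion (maximalIdeal A) A) ⧸ nodeIdeal α) →ₐ[A]
        AdicCompletion (maximalIdeal B) B)
    (hψ : Function.Surjective ψ)
    (e : AdicCompletion ((maximalIdeal B).map (Ideal.Quotient.mk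
          ((maximalIdeal A).map (algebraMap A B))))
          (B ⧸ (maximalIdeal A).map (algebraMap A B)) ≃+*
        (MvPowerSeries (Fin 2) (ResidueField A) ⧸ nodeIdeal₀ (ResidueField A))) :
    Function.Injective ψ := by
  classical
  -- the residue map on `Â`
  let ρ : AdicCompletion (maximalIdeal A) A →+* ResidueField A :=
    (AdicCompletion.evalOneₐ (maximalIdeal A)).toRingHom
  have hρs : Function.Surjective ρ := AdicCompletion.evalOneₐ_surjective (maximalIdeal A)
  have hρk : RingHom.ker ρ =
      (maximalIdeal A).map (algebraMap A (AdicCompletion (maximalIdeal A) A)) :=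
    AdicCompletion.ker_evalOneₐ_eq_map (maximalIdeal A) (maximalIdeal A).fg_of_isNoetherianRing
  have hρfg : (RingHom.ker ρ).FG := by
    rw [hρk]
    exact ((maximalIdeal A).fg_of_isNoetherianRing).map _
  have hρα : ρ α = 0 := by
    rw [← RingHom.mem_ker, hρk]
    exact hα
  obtain ⟨t, hts, htk⟩ := exists_reduction ρ hρs hρfg α hρα
  have hmQ : ((RingHom.ker ρ).map (MvPowerSeries.C : _ →+*
      MvPowerSeries (Fin 2) (AdicCompletion (maximalIdeal A) A))).map
      (Ideal.Quotient.mk (nodeIdeal α)) =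
      (maximalIdeal A).map (algebraMap A (MvPowerSeries (Fin 2)
        (AdicCompletion (maximalIdeal A) A) ⧸ nodeIdeal α)) := by
    rw [hρk, Ideal.map_map, Ideal.map_map]
    congr 1
    ext a
    rw [algebraMap_node_eq]
    rfl
  -- the comparison with the completed fibre
  let g := quotCompl (maximalIdeal B) ((maximalIdeal A).map (algebraMap A B))
  have hgs : Function.Surjective g :=
    quotCompl_surjective (maximalIdeal B) ((maximalIdeal A).map (algebraMap A B))
  let G : (MvPowerSeries (Fin 2) (AdicCompletion (maximalIdeal A) A) ⧸ nodeIdeal α) →+*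
      (MvPowerSeries (Fin 2) (ResidueField A) ⧸ nodeIdeal₀ (ResidueField A)) :=
    (e : _ →+* _).comp (g.comp ψ.toRingHom)
  have hGdef : ∀ x, G x = e (g (ψ x)) := fun x => rfl
  have hGs : Function.Surjective G := by
    intro y
    obtain ⟨y1, rfl⟩ := e.surjective y
    obtain ⟨y2, rfl⟩ := hgs y1
    obtain ⟨y3, rfl⟩ := hψ y2
    exact ⟨y3, rfl⟩
  have hGm : (maximalIdeal A).map (algebraMap A (MvPowerSeries (Fin 2)
        (AdicCompletion (maximalIdeal A) A) ⧸ nodeIdeal α)) ≤ RingHom.ker G := by
    rw [Ideal.map_le_iff_le_comap]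
    intro a ha
    rw [Ideal.mem_comap, RingHom.mem_ker, hGdef, ψ.commutes, algebraMap_comp]
    change e (quotCompl _ _ _) = 0
    rw [quotCompl_algebraMap,
      Ideal.Quotient.eq_zero_iff_mem.mpr (Ideal.mem_map_of_mem _ ha), map_zero, map_zero]
  have htk' : RingHom.ker t ≤ (maximalIdeal A).map (algebraMap A (MvPowerSeries (Fin 2)
        (AdicCompletion (maximalIdeal A) A) ⧸ nodeIdeal α)) := htk.trans (le_of_eq hmQ)
  have hker : RingHom.ker t ≤ RingHom.ker G := htk'.trans hGm
  let s := RingHom.liftOfSurjective t hts ⟨G, hker⟩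
  have hst : ∀ x, s (t x) = G x := RingHom.liftOfSurjective_comp_apply t hts ⟨G, hker⟩
  have hss : Function.Surjective s := by
    intro y
    obtain ⟨x, rfl⟩ := hGs y
    exact ⟨t x, hst x⟩
  have hsi := injective_of_surjective_ringEnd s hss
  have hkψ : ∀ x, ψ x = 0 → x ∈ (maximalIdeal A).map (algebraMap A (MvPowerSeries (Fin 2)
        (AdicCompletion (maximalIdeal A) A) ⧸ nodeIdeal α)) := by
    intro x hx
    have h1 : G x = 0 := by rw [hGdef, hx, map_zero, map_zero]
    rw [← hst] at h1
    have h2 := hsi (h1.trans (map_zero s).symm)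
    exact htk' (RingHom.mem_ker.mpr h2)
  -- flatness of `B̂` over `A`
  have hflat : Module.Flat A (AdicCompletion (maximalIdeal B) B) :=
    Module.Flat.trans A B (AdicCompletion (maximalIdeal B) B)
  -- the node ring is local
  have hnt : Nontrivial (MvPowerSeries (Fin 2) (AdicCompletion (maximalIdeal A) A) ⧸ nodeIdeal α) :=
    ψ.toRingHom.domain_nontrivial
  have hloc : IsLocalRing (MvPowerSeries (Fin 2) (AdicCompletion (maximalIdeal A) A) ⧸ nodeIdeal α) :=
    IsLocalRing.of_surjective' (Ideal.Quotient.mk (nodeIdeal α)) Ideal.Quotient.mk_surjective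
  have hjac : (maximalIdeal A).map (algebraMap A (MvPowerSeries (Fin 2)
        (AdicCompletion (maximalIdeal A) A) ⧸ nodeIdeal α)) ≤ Ideal.jacobson ⊥ := by
    refine le_trans ?_ (maximalIdeal_le_jacobson _)
    rw [Ideal.map_le_iff_le_comap]
    intro a ha
    rw [Ideal.mem_comap, mem_maximalIdeal, mem_nonunits_iff]
    intro hunit
    have h1 := hunit.map ψ
    rw [ψ.commutes] at h1
    have h2 : algebraMap A (AdicCompletion (maximalIdeal B) B) a ∈
        maximalIdeal (AdicCompletion (maximalIdeal B) B) :=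
      mBhat_le (Ideal.mem_map_of_mem _ ha)
    exact (mem_nonunits_iff.mp ((mem_maximalIdeal _).mp h2)) h1
  rw [injective_iff_map_eq_zero]
  intro x hx
  have hKle : RingHom.ker ψ.toRingHom ≤ (maximalIdeal A).map (algebraMap A (MvPowerSeries (Fin 2)
        (AdicCompletion (maximalIdeal A) A) ⧸ nodeIdeal α)) • RingHom.ker ψ.toRingHom := by
    intro y hy
    have hy0 : ψ y = 0 := hy
    have h1 : y ∈ (maximalIdeal A) • (⊤ : Submodule A (MvPowerSeries (Fin 2)
        (AdicCompletion (maximalIdeal A) A) ⧸ nodeIdeal α)) := by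
      rw [Ideal.smul_top_eq_map, Submodule.restrictScalars_mem]
      exact hkψ y hy0
    have h2 := Groth.Agent.R2.H56.FlatNil.mem_smul_ker_of_flat ψ.toLinearMap hψ (maximalIdeal A) y h1 hy0
    refine Submodule.smul_induction_on h2 ?_ ?_
    · intro a ha k hk
      rw [Algebra.smul_def]
      exact Submodule.smul_mem_smul (Ideal.mem_map_of_mem _ ha) hk
    · intro y z hy hz
      exact add_mem hy hz
  have hK : RingHom.ker ψ.toRingHom = ⊥ :=
    Submodule.eq_bot_of_le_smul_of_le_jacobson_bot _ _ (IsNoetherian.noetherian _) hKle hjac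
  have hxK : x ∈ RingHom.ker ψ.toRingHom := hx
  rw [hK] at hxK
  exact hxK

end Main

end Groth.Agent.R2.H35.NodeInj
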