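import Mathlib
import Groth.Prelude.Def_SpSeq

/-!
# Classes of objects closed under subquotients and extensions pass through spectral sequences (helper35)

Let `P` be a class of objects of an abelian category which is closed under isomorphisms, subobjects, quotients and
extensions and contains the zero objects (a "Serre class").

* `prop_page`     : if `E_{r₀}^{pq}` is in `P` then every `E_r^{pq}` is in `P`.
* `prop_of_finite_filtration` : an object with a finite filtration whose graded pieces are in `P` is in `P`.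
* `prop_abutment` : if `E` has abutment data on `H` with the filtration of `H n` finite and all `E_{r₀}^{p, n-p}` in `P`,
  then `H n` is in `P`.
-/

set_option autoImplicit false
universe v u

open CategoryTheory CategoryTheory.Limits

namespace Groth.Agent.R2.H35.SSClass

variable {C : Type u} [Category.{v} C] [Abelian C]

/-- a class of objects closed under isomorphisms, subobjects, quotients, extensions, containing zero objects -/
structure SerreClass (P : C → Prop) : Prop where
  iso : ∀ {X Y : C}, (X ≅ Y) → P X → P Y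
  zero : ∀ {X : C}, IsZero X → P X
  sub : ∀ {X Y : C} (f : X ⟶ Y) [Mono f], P Y → P X
  quot : ∀ {X Y : C} (f : X ⟶ Y) [Epi f], P X → P Y
  ext : ∀ S : ShortComplex C, S.ShortExact → P S.X₁ → P S.X₃ → P S.X₂

section page

variable {κ : Type*} {c : ℤ → ComplexShape κ} {r₀ : ℤ}

theorem prop_page {P : C → Prop} (hP : SerreClass P) (E : SpectralSequence C c r₀) (pq : κ)
    (h : P ((E.page r₀ le_rfl).X pq)) : ∀ (r : ℤ) (hr : r₀ ≤ r), P ((E.page r hr).X pq) := by
  intro r hr
  induction r, hr using Int.leInduction with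
  | base => exact h
  | succ r hr ih =>
    have h1 : P ((E.page r hr).cycles pq) := hP.sub ((E.page r hr).iCycles pq) ih
    have h2 : P ((E.page r hr).homology pq) := hP.quot ((E.page r hr).homologyπ pq) h1
    exact hP.iso (E.iso r (r + 1) pq rfl hr) h2

end page

/-- finite filtrations -/
theorem prop_of_finite_filtration {P : C → Prop} (hP : SerreClass P) {X : C} (F : ℤ → Subobject X)
    (hF : Antitone F) (hfin : (∃ a : ℤ, F a = ⊤) ∧ ∃ b : ℤ, F b = ⊥)
    (hgr : ∀ p : ℤ, P (SpSeq.grPiece F hF p)) : P X := by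
  obtain ⟨⟨a, ha⟩, ⟨b, hb⟩⟩ := hfin
  -- every step is in `P`, by descending induction from `b`
  have step : ∀ k : ℕ, P ((F (b - k) : Subobject X) : C) := by
    intro k
    induction k with
    | zero =>
      have : F (b - (0 : ℕ)) = ⊥ := by simpa using hb
      rw [this]
      exact hP.zero (IsZero.of_iso (isZero_zero C) Subobject.botCoeIsoZero)
    | succ k ih =>
      have hle : F (b - (k + 1 : ℕ) + 1) ≤ F (b - (k + 1 : ℕ)) := hF (Int.le_add_one le_rfl)
      have heq : b - (k + 1 : ℕ) + 1 = b - (k : ℕ) := by push_cast; ring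
      let S : ShortComplex C := ShortComplex.mk
        ((F (b - (k + 1 : ℕ) + 1)).ofLE (F (b - (k + 1 : ℕ))) hle)
        (cokernel.π _) (cokernel.condition _)
      have hS : S.ShortExact :=
        { exact := ShortComplex.exact_cokernel _
          mono_f := inferInstanceAs (Mono (Subobject.ofLE _ _ _))
          epi_g := inferInstanceAs (Epi (cokernel.π _)) }
      refine hP.ext S hS ?_ (hgr (b - (k + 1 : ℕ)))
      change P ((F (b - (k + 1 : ℕ) + 1) : Subobject X) : C)
      rw [heq]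
      exact ih
  by_cases hab : a ≤ b
  · obtain ⟨k, hk⟩ : ∃ k : ℕ, b - k = a := ⟨(b - a).toNat, by rw [Int.toNat_of_nonneg (by omega)]; ring⟩
    have h1 := step k
    rw [hk, ha] at h1
    exact hP.iso (asIso (⊤ : Subobject X).arrow) h1
  · have hle : F a ≤ F b := hF (by omega)
    rw [ha, hb] at hle
    have htop : (⊤ : Subobject X) = ⊥ := le_antisymm hle bot_le
    have h1 : P (((⊥ : Subobject X)) : C) :=
      hP.zero (IsZero.of_iso (isZero_zero C) Subobject.botCoeIsoZero)
    rw [← htop] at h1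
    exact hP.iso (asIso (⊤ : Subobject X).arrow) h1

/-- **Serre classes pass to the abutment** of a spectral sequence with finite filtrations. -/
theorem prop_abutment {P : C → Prop} (hP : SerreClass P) {r₀ : ℤ} (E : CohomologicalSpectralSequence C r₀)
    (H : ℤ → C) (a : SpSeq.Abutment E H) (n : ℤ) (hfin : a.IsFinite n)
    (hE : ∀ p : ℤ, P ((E.page r₀ le_rfl).X (p, n - p))) : P (H n) := by
  refine prop_of_finite_filtration hP (a.fil n) (a.anti n) hfin (fun p => ?_)
  have h1 : P ((E.page (a.rk (p, n - p)) (a.stat (p, n - p)).1).X (p, n - p)) :=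
    prop_page hP E (p, n - p) (hE p) _ _
  have h2 := hP.iso (a.β (p, n - p)) h1
  have key : ∀ (m : ℤ) (_ : m = n), P (SpSeq.grPiece (a.fil m) (a.anti m) p) →
      P (SpSeq.grPiece (a.fil n) (a.anti n) p) := by
    intro m hm h
    subst hm
    exact h
  exact key _ (by ring) h2

/-! ## Thick classes (closed under kernels, cokernels, extensions only) and first-quadrant spectral sequences -/

/-- a class of objects closed under isomorphisms, kernels and cokernels of maps between members, extensions,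
containing the zero objects (e.g. coherent modules on a locally Noetherian scheme inside all `O`-modules) -/
structure ThickClass (P : C → Prop) : Prop where
  iso : ∀ {X Y : C}, (X ≅ Y) → P X → P Y
  zero : ∀ {X : C}, IsZero X → P X
  ker : ∀ {X Y : C} (f : X ⟶ Y), P X → P Y → P (kernel f)
  coker : ∀ {X Y : C} (f : X ⟶ Y), P X → P Y → P (cokernel f)
  ext : ∀ S : ShortComplex C, S.ShortExact → P S.X₁ → P S.X₃ → P S.X₂

/-- objects which embed into a member of `P` -/
def Emb (P : C → Prop) (X : C) : Prop := ∃ Q : C, P Q ∧ ∃ m : X ⟶ Q, Mono m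

omit [Abelian C] in
theorem Emb.of_prop {P : C → Prop} {X : C} (h : P X) : Emb P X := ⟨X, h, 𝟙 X, inferInstance⟩

/-- finite filtrations (only extensions are needed) -/
theorem ThickClass.prop_of_finite_filtration {P : C → Prop} (hP : ThickClass P) {X : C} (F : ℤ → Subobject X)
    (hF : Antitone F) (hfin : (∃ a : ℤ, F a = ⊤) ∧ ∃ b : ℤ, F b = ⊥)
    (hgr : ∀ p : ℤ, P (SpSeq.grPiece F hF p)) : P X := by
  obtain ⟨⟨a, ha⟩, ⟨b, hb⟩⟩ := hfin
  have step : ∀ k : ℕ, P ((F (b - k) : Subobject X) : C) := by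
    intro k
    induction k with
    | zero =>
      have : F (b - (0 : ℕ)) = ⊥ := by simpa using hb
      rw [this]
      exact hP.zero (IsZero.of_iso (isZero_zero C) Subobject.botCoeIsoZero)
    | succ k ih =>
      have hle : F (b - (k + 1 : ℕ) + 1) ≤ F (b - (k + 1 : ℕ)) := hF (Int.le_add_one le_rfl)
      have heq : b - (k + 1 : ℕ) + 1 = b - (k : ℕ) := by push_cast; ring
      let S : ShortComplex C := ShortComplex.mk
        ((F (b - (k + 1 : ℕ) + 1)).ofLE (F (b - (k + 1 : ℕ))) hle)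
        (cokernel.π _) (cokernel.condition _)
      have hS : S.ShortExact :=
        { exact := ShortComplex.exact_cokernel _
          mono_f := inferInstanceAs (Mono (Subobject.ofLE _ _ _))
          epi_g := inferInstanceAs (Epi (cokernel.π _)) }
      refine hP.ext S hS ?_ (hgr (b - (k + 1 : ℕ)))
      change P ((F (b - (k + 1 : ℕ) + 1) : Subobject X) : C)
      rw [heq]
      exact ih
  by_cases hab : a ≤ b
  · obtain ⟨k, hk⟩ : ∃ k : ℕ, b - k = a := ⟨(b - a).toNat, by rw [Int.toNat_of_nonneg (by omega)]; ring⟩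
    have h1 := step k
    rw [hk, ha] at h1
    exact hP.iso (asIso (⊤ : Subobject X).arrow) h1
  · have hle : F a ≤ F b := hF (by omega)
    rw [ha, hb] at hle
    have htop : (⊤ : Subobject X) = ⊥ := le_antisymm hle bot_le
    have h1 : P (((⊥ : Subobject X)) : C) :=
      hP.zero (IsZero.of_iso (isZero_zero C) Subobject.botCoeIsoZero)
    rw [← htop] at h1
    exact hP.iso (asIso (⊤ : Subobject X).arrow) h1

/-- **L1**: the homology of `X₁ ⟶ X₂ ⟶ X₃` is in `P` if `X₁`, `X₂` are and `X₃` embeds into a member of `P`. -/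
theorem ThickClass.prop_homology {P : C → Prop} (hP : ThickClass P) (S : ShortComplex C)
    (h1 : P S.X₁) (h2 : P S.X₂) (h3 : Emb P S.X₃) : P S.homology := by
  obtain ⟨Q, hQ, m, hm⟩ := h3
  have hk : P (kernel (S.g ≫ m)) := hP.ker (S.g ≫ m) h2 hQ
  have hc : P S.cycles := hP.iso ((kernelCompMono S.g m) ≪≫ S.cyclesIsoKernel.symm) hk
  have hcok : P (cokernel S.toCycles) := hP.coker S.toCycles h1 hc
  exact hP.iso (IsColimit.coconePointUniqueUpToIso (colimit.isColimit _) S.homologyIsCokernel) hcok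

/-- cokernels along a monomorphism: `coker u ⟶ coker (u ≫ i)` is a monomorphism when `i` is. -/
theorem mono_cokernel_desc {A Z Q : C} (u : A ⟶ Z) (i : Z ⟶ Q) [Mono i] :
    Mono (cokernel.desc u (i ≫ cokernel.π (u ≫ i)) (by rw [← Category.assoc, cokernel.condition])) := by
  refine Preadditive.mono_of_cancel_zero _ (fun {T} g hg => ?_)
  obtain ⟨T', π, hπ, z, hz⟩ := surjective_up_to_refinements_of_epi (cokernel.π u) g
  have h1 : (z ≫ i) ≫ cokernel.π (u ≫ i) = 0 := by
    have := hz =≫ cokernel.desc u (i ≫ cokernel.π (u ≫ i))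
      (by rw [← Category.assoc, cokernel.condition])
    rw [Category.assoc, hg, comp_zero, Category.assoc, cokernel.π_desc] at this
    rw [Category.assoc]
    exact this.symm
  have hex : (ShortComplex.mk (u ≫ i) (cokernel.π (u ≫ i)) (cokernel.condition _)).Exact :=
    ShortComplex.exact_cokernel _
  obtain ⟨T'', π', hπ', a, ha⟩ := hex.exact_up_to_refinements (z ≫ i) h1
  have h2 : π' ≫ z = a ≫ u := by
    rw [← cancel_mono i, Category.assoc, Category.assoc]
    exact ha
  have h3 : (π' ≫ π) ≫ g = 0 := by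
    rw [Category.assoc, hz, ← Category.assoc, h2, Category.assoc, cokernel.condition, comp_zero]
  have : Epi (π' ≫ π) := epi_comp _ _
  exact (cancel_epi (π' ≫ π)).1 (by rw [h3, comp_zero])

/-- **L2**: the homology of `X₁ ⟶ X₂ ⟶ X₃` embeds into a member of `P` if `X₁ ∈ P` and `X₂` embeds into a member of `P`. -/
theorem ThickClass.emb_homology {P : C → Prop} (hP : ThickClass P) (S : ShortComplex C)
    (h1 : P S.X₁) (h2 : Emb P S.X₂) : Emb P S.homology := by
  obtain ⟨Q, hQ, m, hm⟩ := h2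
  refine ⟨cokernel (S.toCycles ≫ (S.iCycles ≫ m)), ?_, ?_⟩
  · have : S.toCycles ≫ S.iCycles ≫ m = S.f ≫ m := by rw [← Category.assoc, S.toCycles_i]
    rw [this]
    exact hP.coker (S.f ≫ m) h1 hQ
  · let e : cokernel S.toCycles ≅ S.homology :=
      IsColimit.coconePointUniqueUpToIso (colimit.isColimit _) S.homologyIsCokernel
    have hm' := mono_cokernel_desc S.toCycles (S.iCycles ≫ m)
    exact ⟨e.inv ≫ cokernel.desc S.toCycles ((S.iCycles ≫ m) ≫ cokernel.π (S.toCycles ≫ S.iCycles ≫ m)) _,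
      mono_comp _ _⟩

omit [Abelian C] in
theorem Emb.of_iso {P : C → Prop} {X Y : C} (e : X ≅ Y) (h : Emb P X) : Emb P Y := by
  obtain ⟨Q, hQ, m, hm⟩ := h
  exact ⟨Q, hQ, e.inv ≫ m, mono_comp _ _⟩

section firstQuadrant

theorem prev_up' (r : ℤ) (pq : ℤ × ℤ) :
    (ComplexShape.up' ((r, 1 - r) : ℤ × ℤ)).prev pq = (pq.1 - r, pq.2 - (1 - r)) := by
  apply ComplexShape.prev_eq'
  change (pq.1 - r, pq.2 - (1 - r)) + ((r, 1 - r) : ℤ × ℤ) = pq
  ext <;> simp

theorem next_up' (r : ℤ) (pq : ℤ × ℤ) :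
    (ComplexShape.up' ((r, 1 - r) : ℤ × ℤ)).next pq = (pq.1 + r, pq.2 + (1 - r)) := by
  apply ComplexShape.next_eq'
  change pq + ((r, 1 - r) : ℤ × ℤ) = (pq.1 + r, pq.2 + (1 - r))
  rfl

/-- The pages of a first-quadrant `E₂` spectral sequence whose `E₂^{p,q}` are in a thick class `P` for `q ≤ n`:
in total degree `≤ n` all `E_r^{p,q}` are in `P`, and in total degree `n + 1` those with `q ≤ n` embed into members of `P`. -/
theorem ThickClass.prop_page_low {P : C → Prop} (hP : ThickClass P) (E : E₂CohomologicalSpectralSequence C) (n : ℤ)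
    (hz : ∀ pq : ℤ × ℤ, (pq.1 < 0 ∨ pq.2 < 0) → IsZero ((E.page 2 le_rfl).X pq))
    (h2 : ∀ pq : ℤ × ℤ, 0 ≤ pq.1 → 0 ≤ pq.2 → pq.2 ≤ n → P ((E.page 2 le_rfl).X pq)) :
    ∀ (r : ℤ) (hr : 2 ≤ r),
      (∀ pq : ℤ × ℤ, (pq.1 < 0 ∨ pq.2 < 0) → IsZero ((E.page r hr).X pq)) ∧
      (∀ pq : ℤ × ℤ, 0 ≤ pq.1 → 0 ≤ pq.2 → pq.1 + pq.2 ≤ n → P ((E.page r hr).X pq)) ∧
      (∀ pq : ℤ × ℤ, 0 ≤ pq.1 → 0 ≤ pq.2 → pq.1 + pq.2 = n + 1 → pq.2 ≤ n →
        Emb P ((E.page r hr).X pq)) := by
  intro r hr
  induction r, hr using Int.leInduction with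
  | base =>
    exact ⟨hz, fun pq h1 h2' h3 => h2 pq h1 h2' (by omega),
      fun pq h1 h2' _ h4 => Emb.of_prop (h2 pq h1 h2' h4)⟩
  | succ r hr ih =>
    obtain ⟨ihz, ih0, ih1⟩ := ih
    -- the object at any position of page `r`, as member of `P` when zero or in low total degree
    have hlow : ∀ pq : ℤ × ℤ, ((pq.1 < 0 ∨ pq.2 < 0) ∨ (0 ≤ pq.1 ∧ 0 ≤ pq.2 ∧ pq.1 + pq.2 ≤ n)) →
        P ((E.page r hr).X pq) := by
      rintro pq (h | ⟨h1, h2', h3⟩)
      · exact hP.zero (ihz pq h)
      · exact ih0 pq h1 h2' h3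
    have hX₁ : ∀ pq : ℤ × ℤ, 0 ≤ pq.1 → 0 ≤ pq.2 → pq.1 + pq.2 ≤ n + 1 →
        P (((E.page r hr).sc pq).X₁) := by
      intro pq h1 h2' h3
      change P ((E.page r hr).X ((ComplexShape.up' ((r, 1 - r) : ℤ × ℤ)).prev pq))
      rw [prev_up']
      apply hlow
      by_cases h : pq.1 - r < 0
      · exact Or.inl (Or.inl h)
      · refine Or.inr ⟨by omega, ?_, ?_⟩
        · change 0 ≤ pq.2 - (1 - r); omega
        · change pq.1 - r + (pq.2 - (1 - r)) ≤ n; omega
    have hX₃ : ∀ pq : ℤ × ℤ, 0 ≤ pq.1 → 0 ≤ pq.2 → pq.1 + pq.2 ≤ n →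
        Emb P (((E.page r hr).sc pq).X₃) := by
      intro pq h1 h2' h3
      change Emb P ((E.page r hr).X ((ComplexShape.up' ((r, 1 - r) : ℤ × ℤ)).next pq))
      rw [next_up']
      by_cases h : pq.2 + (1 - r) < 0
      · exact Emb.of_prop (hP.zero (ihz _ (Or.inr h)))
      · by_cases h' : pq.1 + pq.2 + 1 ≤ n
        · refine Emb.of_prop (ih0 _ ?_ ?_ ?_)
          · change 0 ≤ pq.1 + r; omega
          · change 0 ≤ pq.2 + (1 - r); omega
          · change pq.1 + r + (pq.2 + (1 - r)) ≤ n; omega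
        · refine ih1 _ ?_ ?_ ?_ ?_
          · change 0 ≤ pq.1 + r; omega
          · change 0 ≤ pq.2 + (1 - r); omega
          · change pq.1 + r + (pq.2 + (1 - r)) = n + 1; omega
          · change pq.2 + (1 - r) ≤ n; omega
    refine ⟨fun pq h => ?_, fun pq h1 h2' h3 => ?_, fun pq h1 h2' h3 h4 => ?_⟩
    · exact IsZero.of_iso (ShortComplex.isZero_homology_of_isZero_X₂ _ (ihz pq h))
        (E.iso r (r + 1) pq rfl hr).symm
    · exact hP.iso (E.iso r (r + 1) pq rfl hr)
        (hP.prop_homology ((E.page r hr).sc pq) (hX₁ pq h1 h2' (by omega)) (ih0 pq h1 h2' h3)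
          (hX₃ pq h1 h2' h3))
    · exact Emb.of_iso (E.iso r (r + 1) pq rfl hr)
        (hP.emb_homology ((E.page r hr).sc pq) (hX₁ pq h1 h2' (by omega)) (ih1 pq h1 h2' h3 h4))

/-- **Low-degree abutment**: for a first-quadrant `E₂` spectral sequence with `E₂^{p,q} ∈ P` for `q ≤ n` (`P` thick) and
abutment `H` with finite filtrations, `H i ∈ P` for all `i ≤ n`. -/
theorem ThickClass.prop_abutment_low {P : C → Prop} (hP : ThickClass P) (E : E₂CohomologicalSpectralSequence C)
    (H : ℤ → C) (a : SpSeq.Abutment E H) (n : ℤ)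
    (hz : ∀ pq : ℤ × ℤ, (pq.1 < 0 ∨ pq.2 < 0) → IsZero ((E.page 2 le_rfl).X pq))
    (h2 : ∀ pq : ℤ × ℤ, 0 ≤ pq.1 → 0 ≤ pq.2 → pq.2 ≤ n → P ((E.page 2 le_rfl).X pq))
    (i : ℤ) (hi : i ≤ n) (hfin : a.IsFinite i) : P (H i) := by
  refine hP.prop_of_finite_filtration (a.fil i) (a.anti i) hfin (fun p => ?_)
  obtain ⟨hz', h0, -⟩ := hP.prop_page_low E n hz h2 (a.rk (p, i - p)) (a.stat (p, i - p)).1
  have h1 : P ((E.page (a.rk (p, i - p)) (a.stat (p, i - p)).1).X (p, i - p)) := by
    by_cases h : p < 0 ∨ i - p < 0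
    · exact hP.zero (hz' (p, i - p) h)
    · exact h0 (p, i - p) (by change 0 ≤ p; omega) (by change 0 ≤ i - p; omega)
        (by change p + (i - p) ≤ n; omega)
  have h2' := hP.iso (a.β (p, i - p)) h1
  have key : ∀ (m : ℤ) (_ : m = i), P (SpSeq.grPiece (a.fil m) (a.anti m) p) →
      P (SpSeq.grPiece (a.fil i) (a.anti i) p) := by
    intro m hm h
    subst hm
    exact h
  exact key _ (by ring) h2'

end firstQuadrant

end Groth.Agent.R2.H35.SSClass
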