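import Mathlib
import Groth.Agent.Lib.Helper21GSS
import Groth.Agent.Lib.Helper21DerPost
import Groth.Agent.R2.H35SSClass
import Groth.Agent.R2.H62RpushCoh2
import Groth.Agent.R2.H5CohThick
import Groth.Agent.R2.H1RpushRestrict

/-!
# Coherence of `R^i (g ≫ f)_*` from coherence of `R^i g_*` for `f` proper (helper35)

`f : X ⟶ S` proper, `S` locally Noetherian, `g = U.ι : U ⟶ X` an open immersion, `F` an `O_U`-module.  If `R^i g_* F` is
coherent for all `i ≤ n`, then `R^i (g ≫ f)_* F` is coherent for all `i ≤ n` (frozen `S5186`).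

Proof: the Grothendieck spectral sequence `R^p f_* (R^q g_* F) ⇒ R^{p+q} (g ≫ f)_* F` (`g_*` preserves injectives, having
the exact left adjoint "restriction to `U`"), coherence of `R^p f_*` of coherent modules (`S0036`), and the low-degree
analysis of `R2/H35SSClass` for the thick class of coherent modules on a locally Noetherian scheme.
-/

set_option autoImplicit false
set_option linter.style.haveILetI false
universe u

open CategoryTheory CategoryTheory.Limits AlgebraicGeometry
open scoped ZeroObject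

namespace Groth.Agent.R2.H35.OpenProper

open Groth.Agent.R2.H35.SSClass Groth.Agent.R2.H5.CohThick

/-- coherent modules on a locally Noetherian scheme form a thick class -/
theorem thickClass_isCoh (S : Scheme.{u}) [IsLocallyNoetherian S] :
    ThickClass (fun M : S.Modules => Coh.IsCoh M) where
  iso e h := (cohP S).prop_of_iso e h
  zero h := isCoh_of_isZero S h
  ker f h1 h2 := (cohP S).prop_kernel f h1 h2
  coker f h1 h2 := (cohP S).prop_cokernel f h1 h2
  ext _ hT h1 h3 := (cohP S).prop_X₂_of_shortExact hT h1 h3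

/-- direct image along an open immersion preserves injective modules -/
theorem injective_pushforward_of_isOpenImmersion {U X : Scheme.{u}} (j : U ⟶ X) [IsOpenImmersion j]
    (Q : U.Modules) [Injective Q] : Injective ((Scheme.Modules.pushforward j).obj Q) := by
  haveI : (Scheme.Modules.restrictFunctor j).PreservesMonomorphisms := inferInstance
  haveI : (Scheme.Modules.pushforward j).PreservesInjectiveObjects :=
    Functor.preservesInjectiveObjects_of_adjunction_of_preservesMonomorphisms
      (Scheme.Modules.restrictAdjunction j)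
  exact (Scheme.Modules.pushforward j).injective_obj_of_injective inferInstance

/-- **S5186.** -/
theorem s5186 {X S : Scheme.{u}} (f : X ⟶ S) [IsProper f] [IsLocallyNoetherian S] (U : X.Opens)
    [HasInjectiveResolutions (U : Scheme.{u}).Modules] [HasInjectiveResolutions X.Modules]
    (F : (U : Scheme.{u}).Modules) (n : ℕ)
    (hg : ∀ i : ℕ, i ≤ n → Coh.IsCoh ((Coh.Rpush U.ι i).obj F)) (i : ℕ) (hi : i ≤ n) :
    Coh.IsCoh ((Coh.Rpush (U.ι ≫ f) i).obj F) := by
  let T : (U : Scheme.{u}).Modules ⥤ X.Modules := Scheme.Modules.pushforward U.ι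
  let G : X.Modules ⥤ S.Modules := Scheme.Modules.pushforward f
  have hT : ∀ Q : (U : Scheme.{u}).Modules, Injective Q → ∀ q : ℕ, 0 < q →
      IsZero ((G.rightDerived q).obj (T.obj Q)) := by
    intro Q hQ q hq
    haveI : Injective (T.obj Q) := injective_pushforward_of_isOpenImmersion U.ι Q
    obtain ⟨q, rfl⟩ : ∃ q', q = q' + 1 := ⟨q - 1, by omega⟩
    exact Functor.isZero_rightDerived_obj_injective_succ G q (T.obj Q)
  -- targets
  let H : ℤ → S.Modules := fun m => if 0 ≤ m then (Coh.Rpush (U.ι ≫ f) m.toNat).obj F else 0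
  let E2 : ℤ → ℤ → S.Modules := fun p q =>
    if 0 ≤ p ∧ 0 ≤ q then (G.rightDerived p.toNat).obj ((T.rightDerived q.toNat).obj F) else 0
  have hH : ∀ m : ℕ, Nonempty (((T ⋙ G).rightDerived m).obj F ≅ H m) := by
    intro m
    have e : T ⋙ G ≅ Scheme.Modules.pushforward (U.ι ≫ f) := Scheme.Modules.pushforwardComp U.ι f
    refine ⟨(Groth.Agent.Lib.Helper21.DerPost.natIsoRightDerived e m).app F ≪≫ eqToIso ?_⟩
    simp [H]
  have hH' : ∀ m : ℤ, m < 0 → IsZero (H m) := by
    intro m hm
    simp only [H, if_neg (not_le.2 hm)]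
    exact isZero_zero _
  have hE2 : ∀ p q : ℕ, Nonempty ((G.rightDerived p).obj ((T.rightDerived q).obj F) ≅ E2 p q) := by
    intro p q
    refine ⟨eqToIso ?_⟩
    simp [E2]
  have hE2' : ∀ p q : ℤ, ¬ (0 ≤ p ∧ 0 ≤ q) → IsZero (E2 p q) := by
    intro p q h
    simp only [E2, if_neg h]
    exact isZero_zero _
  obtain ⟨E, a, ha, -, hpq⟩ :=
    Groth.Agent.Lib.Helper21.GSS.gss_general T G hT F H hH hH' E2 hE2 hE2'
  have hP := thickClass_isCoh S
  have hz : ∀ pq : ℤ × ℤ, (pq.1 < 0 ∨ pq.2 < 0) → IsZero ((E.page 2 le_rfl).X pq) := by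
    rintro ⟨p, q⟩ h
    refine IsZero.of_iso (hE2' p q ?_) (hpq p q).some
    rintro ⟨h1, h2⟩
    rcases h with h | h <;> omega
  have h2 : ∀ pq : ℤ × ℤ, 0 ≤ pq.1 → 0 ≤ pq.2 → pq.2 ≤ (n : ℤ) →
      Coh.IsCoh ((E.page 2 le_rfl).X pq) := by
    rintro ⟨p, q⟩ h1 h2 h3
    refine hP.iso (hpq p q).some.symm ?_
    simp only [E2, if_pos (And.intro h1 h2)]
    exact Groth.Agent.R2.H62.RpushCoh.isCoh_Rpush f _ (hg q.toNat (by omega)) p.toNat
  have key := hP.prop_abutment_low E H a (n : ℤ) hz h2 (i : ℤ) (by exact_mod_cast hi) (ha i)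
  simpa [H] using key

end Groth.Agent.R2.H35.OpenProper
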