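import Mathlib
import Groth.Prelude.Def_ArSurf
import Groth.Prelude.Def_Pic
import Groth.Agent.Lib.Helper23PB

/-!
# helper35: a morphism contracting everything to one point pulls invertible modules back to trivial ones
-/

set_option autoImplicit false
universe u
open AlgebraicGeometry CategoryTheory CategoryTheory.Limits

namespace Groth.Agent.R2.H35.PullTriv

/-- a global section which is nowhere vanishing is a unit -/
theorem isUnit_of_basicOpen_eq_top {E : Scheme.{u}} (r : Γ(E, ⊤)) (h : E.basicOpen r = ⊤) : IsUnit r := by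
  apply RingedSpace.isUnit_of_isUnit_germ E.toRingedSpace ⊤ r
  intro x hx
  have hx' : x ∈ E.basicOpen r := by rw [h]; trivial
  exact (E.mem_basicOpen r x hx).1 hx'

/-- a morphism to an affine scheme all of whose points go to a single point `p` factors through the
spectrum of the localization at `p` -/
theorem exists_factor_local_affine {E : Scheme.{u}} (B : CommRingCat.{u}) (g : E ⟶ Spec B)
    (p : PrimeSpectrum B) (h : ∀ x : E, g x = p) :
    ∃ a : E ⟶ Spec (CommRingCat.of (Localization.AtPrime p.asIdeal)),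
      a ≫ Spec.map (CommRingCat.ofHom (algebraMap B (Localization.AtPrime p.asIdeal))) = g := by
  let φ : B ⟶ Γ(E, ⊤) := (Scheme.ΓSpecIso B).inv ≫ g.appTop
  have hg : g = E.toSpecΓ ≫ Spec.map φ := by
    have h1 := Scheme.toSpecΓ_naturality g
    have h2 : (Spec B).toSpecΓ ≫ Spec.map (Scheme.ΓSpecIso B).inv = 𝟙 _ :=
      toSpecΓ_SpecMap_ΓSpecIso_inv B
    calc g = g ≫ (Spec B).toSpecΓ ≫ Spec.map (Scheme.ΓSpecIso B).inv := by rw [h2, Category.comp_id]
      _ = E.toSpecΓ ≫ Spec.map g.appTop ≫ Spec.map (Scheme.ΓSpecIso B).inv := by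
          rw [← Category.assoc, h1, Category.assoc]
      _ = E.toSpecΓ ≫ Spec.map φ := by rw [← Spec.map_comp]
  have hunit : ∀ b : p.asIdeal.primeCompl, IsUnit (φ.hom b) := by
    intro b
    apply isUnit_of_basicOpen_eq_top
    rw [← Scheme.toSpecΓ_preimage_basicOpen]
    ext x
    simp only [TopologicalSpace.Opens.coe_top, Set.mem_univ, iff_true]
    have h3 : (Spec.map φ) (E.toSpecΓ x) = p := by
      rw [← Scheme.Hom.comp_apply, ← hg]
      exact h x
    have h4 : ∀ q : PrimeSpectrum Γ(E, ⊤), (Spec.map φ) q = p →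
        q ∈ PrimeSpectrum.basicOpen (φ.hom b) := by
      intro q hq
      rw [PrimeSpectrum.mem_basicOpen]
      intro hmem
      apply b.2
      have h5 : (b : B) ∈ ((Spec.map φ) q : PrimeSpectrum B).asIdeal := hmem
      rw [hq] at h5
      exact h5
    exact h4 _ h3
  let ψ : Localization.AtPrime p.asIdeal →+* Γ(E, ⊤) := IsLocalization.lift (M := p.asIdeal.primeCompl) hunit
  refine ⟨E.toSpecΓ ≫ Spec.map (CommRingCat.ofHom ψ), ?_⟩
  rw [Category.assoc, ← Spec.map_comp, hg]
  congr 2
  ext b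
  simp [ψ]

/-- a morphism all of whose points go to a single point `y` factors through the spectrum of a
local ring -/
theorem exists_factor_local {E Y : Scheme.{u}} (g : E ⟶ Y) (y : Y) (h : ∀ x : E, g x = y) :
    ∃ (R : CommRingCat.{u}) (_ : IsLocalRing R) (a : E ⟶ Spec R) (b : Spec R ⟶ Y), a ≫ b = g := by
  obtain ⟨_, ⟨V, hV, rfl⟩, hyV, -⟩ :=
    Y.isBasis_affineOpens.exists_subset_of_mem_open (Set.mem_univ y) isOpen_univ
  obtain ⟨V, rfl⟩ : ∃ V' : Y.Opens, V' = V := ⟨V, rfl⟩
  have hV : IsAffineOpen V := hV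
  have hrange : Set.range g ⊆ Set.range V.ι := by
    rintro _ ⟨x, rfl⟩
    rw [h x, Scheme.Opens.range_ι]
    exact hyV
  let g₁ : E ⟶ V := IsOpenImmersion.lift V.ι g hrange
  have hg₁ : g₁ ≫ V.ι = g := IsOpenImmersion.lift_fac _ _ _
  let g₂ : E ⟶ Spec Γ(Y, V) := g₁ ≫ hV.isoSpec.hom
  let p : PrimeSpectrum Γ(Y, V) := hV.isoSpec.hom ⟨y, hyV⟩
  have hp : ∀ x, g₂ x = p := by
    intro x
    have h1 : g₁ x = ⟨y, hyV⟩ := by
      apply V.ι.injective
      rw [← Scheme.Hom.comp_apply, hg₁, h x]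
      rfl
    change hV.isoSpec.hom (g₁ x) = hV.isoSpec.hom ⟨y, hyV⟩
    rw [h1]
  obtain ⟨a, ha⟩ := exists_factor_local_affine _ g₂ p hp
  refine ⟨CommRingCat.of (Localization.AtPrime p.asIdeal), inferInstanceAs (IsLocalRing (Localization.AtPrime p.asIdeal)), a,
    Spec.map (CommRingCat.ofHom (algebraMap Γ(Y, V) (Localization.AtPrime p.asIdeal))) ≫
      hV.isoSpec.inv ≫ V.ι, ?_⟩
  rw [← Category.assoc, ha]
  simp only [g₂, Category.assoc, Iso.hom_inv_id_assoc, hg₁]

open Groth.Agent.Lib.Helper23.PB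

/-- a module which is trivial on the open `⊤` is trivial -/
theorem nonempty_iso_of_restrict_top {X : Scheme.{u}} (L : X.Modules) (U : X.Opens) (hU : U = ⊤)
    (e : L.restrict U.ι ≅ Coh.structureModule (U : Scheme.{u})) :
    Nonempty (L ≅ Coh.structureModule X) := by
  subst hU
  let j : ((⊤ : X.Opens) : Scheme.{u}) ⟶ X := (⊤ : X.Opens).ι
  let k : X ⟶ ((⊤ : X.Opens) : Scheme.{u}) := X.topIso.inv
  have hkj : k ≫ j = 𝟙 X := X.toIso_inv_ι
  refine ⟨((Scheme.Modules.pullbackId X).app L).symm ≪≫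
    ((Scheme.Modules.pullbackCongr hkj).app L).symm ≪≫
    ((Scheme.Modules.pullbackComp k j).app L).symm ≪≫
    (Scheme.Modules.pullback k).mapIso ((Scheme.Modules.restrictFunctorIsoPullback j).app L).symm ≪≫
    (Scheme.Modules.pullback k).mapIso e ≪≫ pullbackUnitIso k⟩

/-- an invertible module on the spectrum of a local ring is trivial -/
theorem nonempty_iso_of_isInvertible_of_isLocalRing (R : CommRingCat.{u}) [IsLocalRing R]
    (L : (Spec R).Modules) (hL : PicF.IsInvertible L) : Nonempty (L ≅ Coh.structureModule (Spec R)) := by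
  obtain ⟨U, hU, ⟨e⟩⟩ := hL (IsLocalRing.closedPoint R)
  exact nonempty_iso_of_restrict_top L U ((IsLocalRing.closedPoint_mem_iff U).1 hU) e

/-- pulling an invertible module back along a morphism which contracts everything to one point
gives a trivial module -/
theorem nonempty_pullback_iso_of_const {E Y : Scheme.{u}} (g : E ⟶ Y) (y : Y) (h : ∀ x : E, g x = y)
    (M : Y.Modules) (hM : PicF.IsInvertible M) :
    Nonempty ((Scheme.Modules.pullback g).obj M ≅ Coh.structureModule E) := by
  obtain ⟨R, hR, a, b, hab⟩ := exists_factor_local g y h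
  obtain ⟨e⟩ := nonempty_iso_of_isInvertible_of_isLocalRing R _ (isInvertible_pullback b M hM)
  exact ⟨((Scheme.Modules.pullbackCongr hab).app M).symm ≪≫
    ((Scheme.Modules.pullbackComp a b).app M).symm ≪≫
    (Scheme.Modules.pullback a).mapIso e ≪≫ pullbackUnitIso a⟩

/-- morphisms of modules commute with multiplication by global functions -/
theorem smulAb_naturality {X : Scheme.{u}} {M M' : X.Modules} (φ : M ⟶ M') (r : Coh.Γtop X) :
    Coh.smulAb M r ≫ (SheafOfModules.toSheaf X.ringCatSheaf).map φ =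
      (SheafOfModules.toSheaf X.ringCatSheaf).map φ ≫ Coh.smulAb M' r := by
  ext U m
  change (φ.val.app U).hom (@HSMul.hSMul (X.ringCatSheaf.obj.obj U) (M.val.obj U) (M.val.obj U) _
      (Coh.resTop X U r) m) =
    @HSMul.hSMul (X.ringCatSheaf.obj.obj U) (M'.val.obj U) (M'.val.obj U) _ (Coh.resTop X U r)
      ((φ.val.app U).hom m)
  exact (φ.val.app U).hom.map_smul _ _

/-- an isomorphism of modules induces a linear equivalence on cohomology -/
noncomputable def hhEquiv {X : Scheme.{u}} {M M' : X.Modules} (e : M ≅ M') (n : ℕ) :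
    Coh.HH X M n ≃ₗ[Coh.Γtop X] Coh.HH X M' n where
  toFun := Sheaf.H.map ((SheafOfModules.toSheaf X.ringCatSheaf).map e.hom) n
  invFun := Sheaf.H.map ((SheafOfModules.toSheaf X.ringCatSheaf).map e.inv) n
  map_add' := map_add _
  map_smul' r x := by
    change Sheaf.H.map _ n (Sheaf.H.map (Coh.smulAb M r) n x) =
      Sheaf.H.map (Coh.smulAb M' r) n (Sheaf.H.map _ n x)
    rw [← Sheaf.H.map_comp_apply, ← Sheaf.H.map_comp_apply, smulAb_naturality]
  left_inv x := by
    have h : (SheafOfModules.toSheaf X.ringCatSheaf).map e.hom ≫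
        (SheafOfModules.toSheaf X.ringCatSheaf).map e.inv = 𝟙 _ :=
      ((SheafOfModules.toSheaf X.ringCatSheaf).mapIso e).hom_inv_id
    rw [← Sheaf.H.map_comp_apply, h, Sheaf.H.map_id_apply]
  right_inv x := by
    have h : (SheafOfModules.toSheaf X.ringCatSheaf).map e.inv ≫
        (SheafOfModules.toSheaf X.ringCatSheaf).map e.hom = 𝟙 _ :=
      ((SheafOfModules.toSheaf X.ringCatSheaf).mapIso e).inv_hom_id
    rw [← Sheaf.H.map_comp_apply, h, Sheaf.H.map_id_apply]

theorem finrank_HH_eq_of_iso (k : Type u) [Field k] (X : Scheme.{u}) [X.Over (Spec (CommRingCat.of k))]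
    {M M' : X.Modules} (e : M ≅ M') (n : ℕ) :
    Module.finrank k (Coh.HH X M n) = Module.finrank k (Coh.HH X M' n) := by
  let E := hhEquiv e n
  let E' : Coh.HH X M n ≃ₗ[k] Coh.HH X M' n :=
    { E.toAddEquiv with
      map_smul' := fun c x => E.map_smul (Coh.toGlobal (X ↘ Spec (CommRingCat.of k)) c) x }
  exact E'.finrank_eq

theorem eulerCharLE_eq_of_iso (k : Type u) [Field k] (X : Scheme.{u}) [X.Over (Spec (CommRingCat.of k))]
    {M M' : X.Modules} (e : M ≅ M') (d : ℕ) :
    FGA.eulerCharLE k X M d = FGA.eulerCharLE k X M' d := by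
  unfold FGA.eulerCharLE
  refine Finset.sum_congr rfl (fun i _ => ?_)
  rw [finrank_HH_eq_of_iso k X e i]

theorem curveDeg_eq_zero_of_iso (k : Type u) [Field k] (X : Scheme.{u}) [X.Over (Spec (CommRingCat.of k))]
    {M : X.Modules} (e : M ≅ Coh.structureModule X) : ArSurf.curveDeg k X M = 0 := by
  unfold ArSurf.curveDeg
  rw [eulerCharLE_eq_of_iso k X e 1, sub_self]

end Groth.Agent.R2.H35.PullTriv
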