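import Mathlib

/-!
# Chains of irreducible closed subsets and Krull dimension (helper35)

Elementary chain lemmas for `topologicalKrullDim`, used for S7919.
-/

set_option autoImplicit false
universe u

open Set Order TopologicalSpace Topology

namespace Groth.Agent.R2.H35.SpecDim

variable {T : Type*} [TopologicalSpace T]

/-- If a closed subset `D` of positive dimension is strictly contained in an irreducible closed
subset `E`, itself strictly contained in an irreducible closed subset `F`, then `dim T ≥ 3`. -/
theorem three_le_dim_of_chain {D : Set T} (hD : IsClosed D) (hD1 : 1 ≤ topologicalKrullDim D)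
    (E F : IrreducibleCloseds T) (hDE : D ⊆ (E : Set T)) (hDE' : D ≠ (E : Set T)) (hEF : E < F) :
    (3 : WithBot ℕ∞) ≤ topologicalKrullDim T := by
  obtain ⟨Z0, Z1, hlt⟩ := Order.one_le_krullDim_iff.mp hD1
  have hind : IsInducing (Subtype.val : D → T) := IsInducing.subtypeVal
  set W0 := IrreducibleCloseds.map (Subtype.val : D → T) hind.continuous Z0 with hW0
  set W1 := IrreducibleCloseds.map (Subtype.val : D → T) hind.continuous Z1 with hW1
  have h01 : W0 < W1 := IrreducibleCloseds.map_strictMono_of_isInducing hind hlt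
  have hW1D : (W1 : Set T) ⊆ D := by
    rw [hW1, IrreducibleCloseds.coe_map]
    refine closure_minimal ?_ hD
    rintro _ ⟨x, -, rfl⟩
    exact x.2
  have h1E : W1 < E := by
    refine lt_of_le_of_ne ?_ ?_
    · exact fun x hx => hDE (hW1D hx)
    · intro h
      apply hDE'
      refine Subset.antisymm hDE ?_
      rw [← h]
      exact hW1D
  have e1 : height W0 + 1 ≤ height W1 := height_add_one_le h01
  have e2 : height W1 + 1 ≤ height E := height_add_one_le h1E
  have e3 : height E + 1 ≤ height F := height_add_one_le hEF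
  have e4 : (3 : ℕ∞) ≤ height F := by
    calc (3 : ℕ∞) = 0 + 1 + 1 + 1 := by norm_num
      _ ≤ height W0 + 1 + 1 + 1 := by gcongr; exact zero_le
      _ ≤ height W1 + 1 + 1 := by gcongr
      _ ≤ height E + 1 := by gcongr
      _ ≤ height F := e3
  calc (3 : WithBot ℕ∞) = ((3 : ℕ∞) : WithBot ℕ∞) := rfl
    _ ≤ (height F : WithBot ℕ∞) := by exact_mod_cast e4
    _ ≤ topologicalKrullDim T := height_le_krullDim F

/-- Three points strictly specializing give dimension at least two. -/
theorem two_le_dim_of_points {a b c : T} (hcb : c ⤳ b) (hba : b ⤳ a) (hab : ¬ a ⤳ b)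
    (hbc : ¬ b ⤳ c) : (2 : WithBot ℕ∞) ≤ topologicalKrullDim T := by
  let cl : T → IrreducibleCloseds T := fun x =>
    ⟨closure {x}, isIrreducible_singleton.closure, isClosed_closure⟩
  have hlt : ∀ {x y : T}, y ⤳ x → ¬ x ⤳ y → cl x < cl y := by
    intro x y hyx hxy
    refine lt_of_le_of_ne ?_ ?_
    · exact (specializes_iff_closure_subset.mp hyx)
    · intro h
      apply hxy
      rw [specializes_iff_mem_closure]
      have : (cl x : Set T) = cl y := congrArg _ h
      change closure {x} = closure {y} at this
      rw [this]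
      exact subset_closure rfl
  have e1 : height (cl a) + 1 ≤ height (cl b) := height_add_one_le (hlt hba hab)
  have e2 : height (cl b) + 1 ≤ height (cl c) := height_add_one_le (hlt hcb hbc)
  have e4 : (2 : ℕ∞) ≤ height (cl c) := by
    calc (2 : ℕ∞) = 0 + 1 + 1 := by norm_num
      _ ≤ height (cl a) + 1 + 1 := by gcongr; exact zero_le
      _ ≤ height (cl b) + 1 := by gcongr
      _ ≤ height (cl c) := e2
  calc (2 : WithBot ℕ∞) = ((2 : ℕ∞) : WithBot ℕ∞) := rfl
    _ ≤ (height (cl c) : WithBot ℕ∞) := by exact_mod_cast e4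
    _ ≤ topologicalKrullDim T := height_le_krullDim (cl c)

/-- In a `T0` space, if `D = closure {ξ}` has dimension `≤ 1` (as a subspace) then every point
`z ≠ ξ` of `D` is closed. -/
theorem isClosed_singleton_of_dim_le_one [T0Space T] {D : Set T} {ξ : T} (hD : D = closure {ξ})
    (hdim : topologicalKrullDim D ≤ 1) {z : T} (hz : ξ ⤳ z) (hne : z ≠ ξ) :
    IsClosed ({z} : Set T) := by
  have hDc : IsClosed D := hD ▸ isClosed_closure
  have hξD : ξ ∈ D := hD ▸ subset_closure rfl
  have hzD : z ∈ D := hz.mem_closed hDc hξD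
  rw [← closure_subset_iff_isClosed]
  intro w hw
  have hzw : z ⤳ w := specializes_iff_mem_closure.mpr hw
  by_contra hwz
  have hwz' : w ≠ z := hwz
  have hwD : w ∈ D := hzw.mem_closed hDc hzD
  have h2 : (2 : WithBot ℕ∞) ≤ topologicalKrullDim D := by
    refine two_le_dim_of_points (a := ⟨w, hwD⟩) (b := ⟨z, hzD⟩) (c := ⟨ξ, hξD⟩) ?_ ?_ ?_ ?_
    · rw [subtype_specializes_iff]; exact hz
    · rw [subtype_specializes_iff]; exact hzw
    · rw [subtype_specializes_iff]; exact fun h => hwz' (h.antisymm hzw).eq
    · rw [subtype_specializes_iff]; exact fun h => hne (h.antisymm hz).eq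
  have : (2 : WithBot ℕ∞) ≤ 1 := h2.trans hdim
  exact absurd this (by decide)

end Groth.Agent.R2.H35.SpecDim
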