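import Mathlib
import Groth.Agent.R2.H62RpushCoh
import Groth.Agent.R2.H28RpushRestrict

/-!
# Sections of `R^p f_* F` over an affine open `V` of the base, linearly over `Γ(Y, V)` (helper35)

For `f : X ⟶ Y` qcqs, `V ⊆ Y` affine open and `F` quasi-coherent on `X`:
`secEquivV : Γ(R^p f_* F, V) ≃+ H^p(f⁻¹V, F|_{f⁻¹V})`, linear over `Γ(Y, V)` where `f⁻¹V` is a scheme
over `Spec Γ(Y, V)` through `(f ∣_ V) ≫ hV.isoSpec.hom`.
-/

set_option autoImplicit false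
set_option linter.style.haveILetI false
universe u
open CategoryTheory CategoryTheory.Limits AlgebraicGeometry Opposite TopologicalSpace

namespace Groth.Agent.R2.H35.StalkFF

open Groth.Agent.R2.H62.RpushCoh

variable {X Y : Scheme.{u}} (f : X ⟶ Y) {V : Y.Opens} (hV : IsAffineOpen V)

/-- `f⁻¹V` as a scheme over `Spec Γ(Y, V)`. -/
@[reducible] noncomputable def overV :
    (↑(f ⁻¹ᵁ V) : Scheme.{u}).Over (Spec (CommRingCat.of Γ(Y, V))) :=
  ⟨(f ∣_ V) ≫ hV.isoSpec.hom⟩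

theorem toGlobal_overV (r : Γ(Y, V)) :
    Coh.toGlobal (A := Γ(Y, V)) ((f ∣_ V) ≫ hV.isoSpec.hom) r =
      (f ∣_ V).appTop.hom (V.topIso.inv.hom r) := by
  unfold Coh.toGlobal
  rw [Scheme.Hom.comp_appTop, IsAffineOpen.isoSpec_hom_appTop]
  change (f ∣_ V).appTop.hom (V.topIso.inv.hom ((Scheme.ΓSpecIso Γ(Y, V)).hom.hom
    ((Scheme.ΓSpecIso Γ(Y, V)).inv.hom r))) = _
  congr 2
  exact ConcreteCategory.congr_hom ((Scheme.ΓSpecIso Γ(Y, V)).inv_hom_id) r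

/-- sections of isomorphic modules -/
noncomputable def secEquivOfIso {Z : Scheme.{u}} {M M' : Z.Modules} (e : M ≅ M') (U : Z.Opens) :
    Γ(M, U) ≃+ Γ(M', U) where
  toFun x := (e.hom.app U).hom x
  invFun x := (e.inv.app U).hom x
  left_inv x := by
    have h := congrArg (fun φ : M ⟶ M => (Scheme.Modules.Hom.app φ U).hom x) e.hom_inv_id
    exact h
  right_inv x := by
    have h := congrArg (fun φ : M' ⟶ M' => (Scheme.Modules.Hom.app φ U).hom x) e.inv_hom_id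
    exact h
  map_add' x y := map_add _ x y

theorem secEquivOfIso_smul {Z : Scheme.{u}} {M M' : Z.Modules} (e : M ≅ M') (U : Z.Opens)
    (r : Γ(Z, U)) (x : Γ(M, U)) : secEquivOfIso e U (r • x) = r • secEquivOfIso e U x :=
  Scheme.Modules.Hom.app_smul e.hom r x

/-- `Γ(N, V) ≃ Γ(N|_V, ⊤)` -/
noncomputable def secTop (N : Y.Modules) (V : Y.Opens) : Γ(N, V) ≃+ Γ(N.restrict V.ι, ⊤) :=
  (N.presheaf.mapIso (eqToIso V.ι_image_top).op).addCommGroupIsoToAddEquiv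

theorem secTop_apply (N : Y.Modules) (V : Y.Opens) (n : Γ(N, V)) :
    secTop N V n = N.presheaf.map (eqToHom V.ι_image_top).op n := rfl

theorem secTop_smul (N : Y.Modules) (V : Y.Opens) (r : Γ(Y, V)) (n : Γ(N, V)) :
    secTop N V (r • n) = (show Γ((↑V : Scheme.{u}), ⊤) from V.topIso.inv.hom r) • secTop N V n := by
  rw [secTop_apply, secTop_apply, Scheme.Modules.map_smul]
  have h1 : ∀ (s : Γ((↑V : Scheme.{u}), ⊤)) (x : Γ(N.restrict V.ι, ⊤)),
      s • x = (show Γ(Y, V.ι ''ᵁ ⊤) from (V.ι.appIso ⊤).inv.hom s) •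
        (show Γ(N, V.ι ''ᵁ ⊤) from x) := fun s x => rfl
  refine Eq.trans ?_ (h1 (V.topIso.inv.hom r) (N.presheaf.map (eqToHom V.ι_image_top).op n)).symm
  have h2 : (show Γ(Y, V.ι ''ᵁ ⊤) from (V.ι.appIso ⊤).inv.hom (V.topIso.inv.hom r)) =
      Y.presheaf.map (eqToHom V.ι_image_top).op r := by
    rw [Scheme.Opens.ι_appIso]
    rfl
  rw [h2]

section Main

variable [QuasiCompact f] [QuasiSeparated f] (F : X.Modules) [F.IsQuasicoherent] (p : ℕ)

include hV in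
/-- **Sections of `R^p f_* F` over an affine open `V`** are `H^p(f⁻¹V, F|)`, `Γ(Y,V)`-linearly. -/
theorem exists_secEquivV :
    letI := overV f hV
    ∃ σ : Γ((Coh.Rpush f p).obj F, V) ≃+
        Coh.HH (↑(f ⁻¹ᵁ V) : Scheme.{u}) (F.restrict (f ⁻¹ᵁ V).ι) p,
      ∀ (r : Γ(Y, V)) (n : Γ((Coh.Rpush f p).obj F, V)), σ (r • n) = r • σ n := by
  letI := overV f hV
  haveI : IsAffine (↑V : Scheme.{u}) := hV
  let N := (Coh.Rpush f p).obj F
  let FV := F.restrict (f ⁻¹ᵁ V).ι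
  let e₁ : N.restrict V.ι ≅ (Coh.Rpush (f ∣_ V) p).obj FV :=
    (Groth.Agent.R2.H28.RpushRestrict.rpushRestrictIso f V p).app F
  let c := secEquiv (f ∣_ V) FV p
  let σ : Γ(N, V) ≃+ Coh.HH (↑(f ⁻¹ᵁ V) : Scheme.{u}) FV p :=
    ((secTop N V).trans (secEquivOfIso e₁ ⊤)).trans c
  refine ⟨σ, fun r n => ?_⟩
  change c (secEquivOfIso e₁ ⊤ (secTop N V (r • n))) = r • c (secEquivOfIso e₁ ⊤ (secTop N V n))
  rw [secTop_smul, secEquivOfIso_smul]
  set z := secEquivOfIso e₁ ⊤ (secTop N V n) with hz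
  set s : Γ((↑V : Scheme.{u}), ⊤) := V.topIso.inv.hom r with hs
  have h1 := secEquiv_smul (f ∣_ V) FV p s z
  have h3 := Coh.smulAb_app ((Coh.Rpush (f ∣_ V) p).obj FV) s (op ⊤) z
  have h2 : Coh.resTop (↑V : Scheme.{u}) (op ⊤) s = s := by
    change ((↑V : Scheme.{u}).ringCatSheaf.obj.map (𝟙 (op ⊤))).hom s = s
    rw [CategoryTheory.Functor.map_id]
    rfl
  rw [h2] at h3
  refine ((congrArg c h3.symm).trans h1).trans ?_
  change _ = Sheaf.H.map (Coh.smulAb FV (Coh.toGlobal ((f ∣_ V) ≫ hV.isoSpec.hom) r)) p (c z)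
  rw [toGlobal_overV]

end Main

end Groth.Agent.R2.H35.StalkFF
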