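import Mathlib
import Groth.Agent.R2.H62CohLES

/-!
# Base change square at the local ring of a point, through an affine neighbourhood (helper35)

For `f : X ⟶ Y`, `V ∋ y` affine open of `Y`, and a cartesian square
`X₁ = X ×_Y Spec O_{Y,y}`: the induced `g₁ : X₁ ⟶ f⁻¹V` makes `X₁ = f⁻¹V ×_{Spec Γ(Y,V)} Spec O_{Y,y}`
(`leftSq`), and `g₁^* (F|_{f⁻¹V}) ≅ g^* F` (`pullIso`).  Also `HHequivOfIso`: isomorphic modules have
linearly isomorphic cohomology.
-/

set_option autoImplicit false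
set_option linter.style.haveILetI false
universe u
open CategoryTheory CategoryTheory.Limits AlgebraicGeometry Opposite TopologicalSpace

namespace Groth.Agent.R2.H35.StalkFF

variable {X Y : Scheme.{u}} (f : X ⟶ Y) {V : Y.Opens} (hV : IsAffineOpen V)

theorem rightSq : IsPullback (f ⁻¹ᵁ V).ι ((f ∣_ V) ≫ hV.isoSpec.hom) f hV.fromSpec := by
  have h := (isPullback_morphismRestrict f V).flip
  refine IsPullback.of_iso h (Iso.refl _) (Iso.refl _) hV.isoSpec (Iso.refl _) ?_ ?_ ?_ ?_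
  · simp
  · simp
  · simp
  · rw [IsAffineOpen.fromSpec, Iso.hom_inv_id_assoc]; exact Category.comp_id _

variable {y : Y} (hy : y ∈ V) {X₁ : Scheme.{u}}
  [X₁.Over (Spec (CommRingCat.of (Y.presheaf.stalk y)))] (g : X₁ ⟶ X)
  (hsq : IsPullback g (X₁ ↘ Spec (CommRingCat.of (Y.presheaf.stalk y))) f (Y.fromSpecStalk y))

include hsq in
theorem sq_comm : g ≫ f = ((X₁ ↘ Spec (CommRingCat.of (Y.presheaf.stalk y))) ≫
    Spec.map (Y.presheaf.germ V y hy)) ≫ hV.fromSpec := by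
  rw [hsq.w, Category.assoc]
  congr 1
  exact (hV.fromSpecStalk_eq_fromSpecStalk hy).symm

/-- the lift `X₁ ⟶ f⁻¹V` -/
noncomputable def g₁ : X₁ ⟶ (f ⁻¹ᵁ V : Scheme.{u}) :=
  (rightSq f hV).lift g ((X₁ ↘ Spec (CommRingCat.of (Y.presheaf.stalk y))) ≫
    Spec.map (Y.presheaf.germ V y hy)) (sq_comm f hV hy g hsq)

theorem g₁_ι : g₁ f hV hy g hsq ≫ (f ⁻¹ᵁ V).ι = g := (rightSq f hV).lift_fst _ _ _

theorem g₁_snd : g₁ f hV hy g hsq ≫ ((f ∣_ V) ≫ hV.isoSpec.hom) =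
    (X₁ ↘ Spec (CommRingCat.of (Y.presheaf.stalk y))) ≫ Spec.map (Y.presheaf.germ V y hy) :=
  (rightSq f hV).lift_snd _ _ _

theorem leftSq : IsPullback (g₁ f hV hy g hsq) (X₁ ↘ Spec (CommRingCat.of (Y.presheaf.stalk y)))
    ((f ∣_ V) ≫ hV.isoSpec.hom) (Spec.map (Y.presheaf.germ V y hy)) := by
  refine IsPullback.of_right ?_ (g₁_snd f hV hy g hsq) (rightSq f hV)
  rw [g₁_ι]
  have : Spec.map (Y.presheaf.germ V y hy) ≫ hV.fromSpec = Y.fromSpecStalk y :=
    hV.fromSpecStalk_eq_fromSpecStalk hy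
  rw [this]
  exact hsq

/-- `g₁^* (F|_{f⁻¹V}) ≅ g^* F` -/
noncomputable def pullIso (F : X.Modules) :
    (Scheme.Modules.pullback (g₁ f hV hy g hsq)).obj (F.restrict (f ⁻¹ᵁ V).ι) ≅
      (Scheme.Modules.pullback g).obj F :=
  (Scheme.Modules.pullback (g₁ f hV hy g hsq)).mapIso
      ((Scheme.Modules.restrictFunctorIsoPullback (f ⁻¹ᵁ V).ι).app F) ≪≫
    (Scheme.Modules.pullbackComp (g₁ f hV hy g hsq) (f ⁻¹ᵁ V).ι).app F ≪≫
    (Scheme.Modules.pullbackCongr (g₁_ι f hV hy g hsq)).app F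

section HH

open Groth.Agent.R2.H62.CohLES

variable (B : Type u) [CommRing B] {Z : Scheme.{u}} [Z.Over (Spec (CommRingCat.of B))]

/-- isomorphic modules have linearly isomorphic cohomology -/
noncomputable def HHequivOfIso {M M' : Z.Modules} (e : M ≅ M') (p : ℕ) :
    Coh.HH Z M p ≃ₗ[B] Coh.HH Z M' p :=
  LinearEquiv.ofLinearMap (HHmapA B e.hom p) (HHmapA B e.inv p)
    (by
      ext x
      change HHmap e.hom p (HHmap e.inv p x) = x
      rw [← HHmap_comp, e.inv_hom_id]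
      exact HHmap_id p x)
    (by
      ext x
      change HHmap e.inv p (HHmap e.hom p x) = x
      rw [← HHmap_comp, e.hom_inv_id]
      exact HHmap_id p x)

end HH

end Groth.Agent.R2.H35.StalkFF
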