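import Mathlib
import Groth.Agent.R2.H35StalkFFA
import Groth.Agent.R2.H35StalkFFB
import Groth.Agent.R2.H1RpushQCoh
import Groth.Agent.Lib.Helper2FlatOver
import Groth.Agent.Lib.Helper20FormalPull
import Groth.Agent.Lib.Helper2PullbackSec

/-!
# The stalk of `R^p f_* F` at `y` is `H^p(X ×_Y Spec O_{Y,y}, F)` (helper35)

Against the statement `FlatBCStmt` of flat base change over an affine base (= frozen S0034):
`exists_stalk_equiv_HH` : `(R^p f_* F)_y ≃ₗ[O_{Y,y}] H^p(X₁, g^* F)` for `f` qcqs, `F` quasi-coherent.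
`s4467_of` : the frozen statement of S4467 against `FlatBCStmt`, `S0002`-shape and `S0059`-shape
hypotheses.
-/

set_option autoImplicit false
set_option linter.style.haveILetI false
universe u
open CategoryTheory CategoryTheory.Limits AlgebraicGeometry Opposite TopologicalSpace TensorProduct

namespace Groth.Agent.R2.H35.StalkFF

open Groth.Agent.Lib.Helper2.FlatOver

/-- the statement of S0034 (flat base change over an affine base) -/
def FlatBCStmt : Prop :=
  ∀ (A B : Type u) [CommRing A] [CommRing B] [Algebra A B] [Module.Flat A B] (X X' : Scheme.{u})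
    [X.Over (Spec (CommRingCat.of A))] [X'.Over (Spec (CommRingCat.of B))] [CompactSpace X]
    [QuasiSeparatedSpace X] (g' : X' ⟶ X)
    (_ : IsPullback g' (X' ↘ Spec (CommRingCat.of B)) (X ↘ Spec (CommRingCat.of A))
      (Spec.map (CommRingCat.ofHom (algebraMap A B))))
    (M : X.Modules) [Coh.IsQCoh M] (i : ℕ),
    Nonempty (TensorProduct A B (Coh.HH X M i) ≃ₗ[B]
      Coh.HH X' ((Scheme.Modules.pullback g').obj M) i)

section Loc

variable {Y : Scheme.{u}} {V : Y.Opens} (hV : IsAffineOpen V) (N : Y.Modules) [N.IsQuasicoherent]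
  (y : Y) (hy : y ∈ V)

include hV in
/-- the stalk of a quasi-coherent module is the base change of its sections over an affine open -/
theorem exists_stalk_equiv :
    letI : Algebra Γ(Y, V) (Y.presheaf.stalk y) := (Y.presheaf.germ V y hy).hom.toAlgebra
    ∃ e : (Y.presheaf.stalk y) ⊗[Γ(Y, V)] Γ(N, V) ≃ₗ[Y.presheaf.stalk y] N.presheaf.stalk y,
      ∀ (b : Y.presheaf.stalk y) (n : Γ(N, V)), e (b ⊗ₜ n) = b • N.presheaf.germ V y hy n := by
  letI : Algebra Γ(Y, V) (Y.presheaf.stalk y) := (Y.presheaf.germ V y hy).hom.toAlgebra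
  letI := moduleStalkSections N V y hy
  haveI : IsScalarTower Γ(Y, V) (Y.presheaf.stalk y) (N.presheaf.stalk y) :=
    IsScalarTower.of_algebraMap_smul fun a s => rfl
  haveI := isLocalizedModule_germ hV N y hy
  haveI : IsLocalization.AtPrime (Y.presheaf.stalk y) (hV.primeIdealOf ⟨y, hy⟩).asIdeal :=
    hV.isLocalization_stalk ⟨y, hy⟩
  have hbc : IsBaseChange (Y.presheaf.stalk y) (germₗ N V y hy) :=
    IsLocalizedModule.isBaseChange (hV.primeIdealOf ⟨y, hy⟩).asIdeal.primeCompl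
      (Y.presheaf.stalk y) (germₗ N V y hy)
  refine ⟨hbc.equiv, fun b n => ?_⟩
  rw [IsBaseChange.equiv_tmul]
  rfl

include hV in
theorem flat_stalk :
    letI : Algebra Γ(Y, V) (Y.presheaf.stalk y) := (Y.presheaf.germ V y hy).hom.toAlgebra
    Module.Flat Γ(Y, V) (Y.presheaf.stalk y) := by
  letI : Algebra Γ(Y, V) (Y.presheaf.stalk y) := (Y.presheaf.germ V y hy).hom.toAlgebra
  haveI : IsLocalization.AtPrime (Y.presheaf.stalk y) (hV.primeIdealOf ⟨y, hy⟩).asIdeal :=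
    hV.isLocalization_stalk ⟨y, hy⟩
  exact IsLocalization.flat (Y.presheaf.stalk y) (hV.primeIdealOf ⟨y, hy⟩).asIdeal.primeCompl

end Loc

variable {X Y : Scheme.{u}} (f : X ⟶ Y)

/-- **The stalk of `R^p f_* F` at `y`** is the cohomology of the base change to `Spec O_{Y,y}`. -/
theorem exists_stalk_equiv_HH (h34 : FlatBCStmt.{u}) [QuasiCompact f] [QuasiSeparated f]
    (F : X.Modules) [F.IsQuasicoherent] (y : Y) (p : ℕ) (X₁ : Scheme.{u})
    [X₁.Over (Spec (CommRingCat.of (Y.presheaf.stalk y)))] (g : X₁ ⟶ X)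
    (hsq : IsPullback g (X₁ ↘ Spec (CommRingCat.of (Y.presheaf.stalk y))) f (Y.fromSpecStalk y)) :
    Nonempty (((Coh.Rpush f p).obj F).presheaf.stalk y ≃ₗ[Y.presheaf.stalk y]
      Coh.HH X₁ ((Scheme.Modules.pullback g).obj F) p) := by
  obtain ⟨_, ⟨V, hV, rfl⟩, hy, -⟩ :=
    Y.isBasis_affineOpens.exists_subset_of_mem_open (Set.mem_univ y) isOpen_univ
  have hy : y ∈ V := hy
  letI : Algebra Γ(Y, V) (Y.presheaf.stalk y) := (Y.presheaf.germ V y hy).hom.toAlgebra
  letI := overV f hV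
  haveI : ((Coh.Rpush f p).obj F).IsQuasicoherent :=
    Groth.Agent.R2.H1.RpushQCoh.isQuasicoherent_Rpush f F p
  haveI : Module.Flat Γ(Y, V) (Y.presheaf.stalk y) := flat_stalk hV y hy
  haveI : IsAffine (↑V : Scheme.{u}) := hV
  haveI : CompactSpace (↑(f ⁻¹ᵁ V) : Scheme.{u}) :=
    QuasiCompact.compactSpace_of_compactSpace (f ∣_ V)
  haveI : QuasiSeparatedSpace (↑(f ⁻¹ᵁ V) : Scheme.{u}) :=
    quasiSeparatedSpace_of_quasiSeparated (f ∣_ V)
  obtain ⟨e₀, -⟩ := exists_stalk_equiv hV ((Coh.Rpush f p).obj F) y hy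
  obtain ⟨σ, hσ⟩ := exists_secEquivV f hV F p
  let σl : Γ((Coh.Rpush f p).obj F, V) ≃ₗ[Γ(Y, V)]
      Coh.HH (↑(f ⁻¹ᵁ V) : Scheme.{u}) (F.restrict (f ⁻¹ᵁ V).ι) p :=
    { σ with map_smul' := hσ }
  let e₁ : (Y.presheaf.stalk y) ⊗[Γ(Y, V)] Γ((Coh.Rpush f p).obj F, V) ≃ₗ[Y.presheaf.stalk y]
      (Y.presheaf.stalk y) ⊗[Γ(Y, V)]
        Coh.HH (↑(f ⁻¹ᵁ V) : Scheme.{u}) (F.restrict (f ⁻¹ᵁ V).ι) p :=
    TensorProduct.AlgebraTensorModule.congr (LinearEquiv.refl _ _) σl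
  obtain ⟨e₂⟩ := h34 Γ(Y, V) (Y.presheaf.stalk y) (↑(f ⁻¹ᵁ V) : Scheme.{u}) X₁
    (g₁ f hV hy g hsq) (leftSq f hV hy g hsq) (F.restrict (f ⁻¹ᵁ V).ι) p
  let e₃ := HHequivOfIso (Y.presheaf.stalk y) (pullIso f hV hy g hsq F) p
  exact ⟨e₀.symm.trans (e₁.trans (e₂.trans e₃))⟩

/-- **S4467 against S0034, S0002 and S0059.** -/
theorem s4467_of (h34 : FlatBCStmt.{u})
    (h02 : ∀ (A : Type u) [CommRing A] [IsNoetherianRing A] (X : Scheme.{u})
      [X.Over (Spec (CommRingCat.of A))] [IsProper (X ↘ Spec (CommRingCat.of A))]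
      (M : X.Modules), Coh.IsCoh M → ∀ i : ℕ, Module.Finite A (Coh.HH X M i))
    (h59 : ∀ (A : Type u) [CommRing A] [IsNoetherianRing A] (I : Ideal A) (X : Scheme.{u})
      [X.Over (Spec (CommRingCat.of A))] [IsProper (X ↘ Spec (CommRingCat.of A))]
      (M : X.Modules), Coh.IsCoh M → ∀ p : ℕ,
        Nonempty (AdicCompletion I (Coh.HH X M p) ≃+ Formal.HHlim I M p))
    [IsProper f] [IsLocallyNoetherian Y] [HasInjectiveResolutions X.Modules]
    (F : X.Modules) (hF : Coh.IsCoh F) (y : Y) (p : ℕ)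
    (X₁ : Scheme.{u}) [X₁.Over (Spec (CommRingCat.of (Y.presheaf.stalk y)))] (g : X₁ ⟶ X)
    (hsq : IsPullback g (X₁ ↘ Spec (CommRingCat.of (Y.presheaf.stalk y))) f (Y.fromSpecStalk y)) :
    Module.Finite (Y.presheaf.stalk y) (((Coh.Rpush f p).obj F).presheaf.stalk y) ∧
    Nonempty (AdicCompletion (IsLocalRing.maximalIdeal (Y.presheaf.stalk y))
        (((Coh.Rpush f p).obj F).presheaf.stalk y) ≃+
      Formal.HHlim (IsLocalRing.maximalIdeal (Y.presheaf.stalk y))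
        ((Scheme.Modules.pullback g).obj F) p) := by
  haveI : F.IsQuasicoherent := hF.1
  haveI : SheafOfModules.IsFiniteType (R := X.ringCatSheaf) F := hF.2
  obtain ⟨e⟩ := exists_stalk_equiv_HH f h34 F y p X₁ g hsq
  haveI : IsProper (X₁ ↘ Spec (CommRingCat.of (Y.presheaf.stalk y))) :=
    MorphismProperty.of_isPullback hsq inferInstance
  have hcoh : Coh.IsCoh ((Scheme.Modules.pullback g).obj F) :=
    ⟨Groth.Agent.Lib.Helper2.PullbackSec.isQuasicoherent_pullback g F,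
      Groth.Agent.Lib.Helper20.FormalPull.isFiniteType_pullback g F⟩
  haveI : IsNoetherianRing (Y.presheaf.stalk y) := inferInstance
  haveI hfin := h02 (Y.presheaf.stalk y) X₁ _ hcoh p
  refine ⟨Module.Finite.equiv e.symm, ?_⟩
  obtain ⟨c⟩ := h59 (Y.presheaf.stalk y) (IsLocalRing.maximalIdeal (Y.presheaf.stalk y)) X₁ _ hcoh p
  exact ⟨(AdicCompletion.congr _ e).toAddEquiv.trans c⟩

end Groth.Agent.R2.H35.StalkFF
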