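import Mathlib
import Groth.Prelude.Def_OmegaPn
import Groth.Agent.Lib.Helper18Con3
import Groth.Agent.Lib.Helper20OmegaAff

set_option autoImplicit false
set_option linter.style.haveILetI false
set_option linter.unusedSectionVars false
universe u
open CategoryTheory AlgebraicGeometry Limits TopologicalSpace Opposite TensorProduct

namespace Groth.Agent.R2.H36.GrBC

open Groth.Agent.Helper18OmLS Groth.Agent.Helper18Om Groth.Agent.Helper18Con
open Groth.Agent.Helper13PullbackUnit Groth.Agent.Helper13ModGlue Groth.Agent.Lib.Helper6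

section idealSectGeneral
variable {X : Scheme.{u}} (K : X.IdealSheafData)

theorem idealSect_mem {W : X.Opens} (hW : IsAffineOpen W) (s : Γ(ClSub.idealMod K, W)) :
    OmegaSh.idealSect K W s ∈ K.ideal ⟨W, hW⟩ := by
  rw [← K.ker_subschemeι_app ⟨W, hW⟩, RingHom.mem_ker]
  exact Groth.Agent.Lib.Helper20.IdealModSec.ι_toSubscheme K W s

/-- a function on any open `W` whose restrictions to all affine opens lie in `K` is killed by `O_X → O_X/K`. -/
theorem subschemeι_app_eq_zero_of_forall (W : X.Opens) (x : Γ(X, W))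
    (hx : ∀ (W' : X.Opens) (hW' : IsAffineOpen W') (h : W' ≤ W),
      X.presheaf.map (homOfLE h).op x ∈ K.ideal ⟨W', hW'⟩) :
    (K.subschemeι.app W) x = 0 := by
  refine (K.subscheme).IsSheaf.section_ext fun y hy => ?_
  obtain ⟨_, ⟨W', hW', rfl⟩, hyW', hW'W : W' ≤ W⟩ :=
    X.isBasis_affineOpens.exists_subset_of_mem_open hy W.isOpen
  refine ⟨K.subschemeι ⁻¹ᵁ W', K.subschemeι.preimage_mono hW'W, hyW', ?_⟩
  rw [map_zero]
  have hn := K.subschemeι.naturality (homOfLE hW'W).op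
  have hn' := congr($hn x)
  rw [ConcreteCategory.comp_apply, ConcreteCategory.comp_apply] at hn'
  refine hn'.symm.trans ?_
  have h1 := hx W' hW' hW'W
  rw [← K.ker_subschemeι_app ⟨W', hW'⟩, RingHom.mem_ker] at h1
  exact h1

theorem exists_idealSect_of_forall (W : X.Opens) (x : Γ(X, W))
    (hx : ∀ (W' : X.Opens) (hW' : IsAffineOpen W') (h : W' ≤ W),
      X.presheaf.map (homOfLE h).op x ∈ K.ideal ⟨W', hW'⟩) :
    ∃ s : Γ(ClSub.idealMod K, W), OmegaSh.idealSect K W s = x :=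
  Groth.Agent.Lib.Helper20.IdealModSec.exists_eq_ι K W x (by
    rw [Groth.Agent.Lib.Helper20.IdealModSec.toSubscheme_app]
    exact subschemeι_app_eq_zero_of_forall K W x hx)

theorem exists_idealSect_of_mem {W : X.Opens} (hW : IsAffineOpen W) (x : Γ(X, W))
    (hx : x ∈ K.ideal ⟨W, hW⟩) :
    ∃ s : Γ(ClSub.idealMod K, W), OmegaSh.idealSect K W s = x :=
  Groth.Agent.Lib.Helper20.IdealModSec.exists_eq_ι K W x (by
    rw [Groth.Agent.Lib.Helper20.IdealModSec.toSubscheme_app]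
    rw [← K.ker_subschemeι_app ⟨W, hW⟩, RingHom.mem_ker] at hx
    exact hx)

end idealSectGeneral

section powIdeal
variable {Z X : Scheme.{u}} (i : Z ⟶ X) [QuasiCompact i] (n : ℕ)

theorem pow_ideal_eq {U : X.Opens} (hU : IsAffineOpen U) :
    (i.ker ^ n).ideal ⟨U, hU⟩ = (RingHom.ker (i.app U).hom) ^ n := by
  rw [Scheme.IdealSheafData.ideal_pow, Pi.pow_apply, Scheme.Hom.ker_apply]

end powIdeal

section chart
variable {Z X Z' X' : Scheme.{u}} (i : Z ⟶ X) (i' : Z' ⟶ X') [IsImmersion i] [IsImmersion i']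
  [QuasiCompact i] [QuasiCompact i'] (g : X ⟶ X') (gZ : Z ⟶ Z') (hsq : IsPullback i gZ g i') (n : ℕ)
  (φ : (Scheme.Modules.pullback gZ).obj (PrinPart.grMod i' n) ⟶ PrinPart.grMod i n)
  (hφ : PrinPart.IsGrMap i i' g gZ n φ)
  {V' : X'.Opens} (hV' : IsAffineOpen V') (hV'c : V' ≤ i'.coborderRange)
  {U : X.Opens} (hU : IsAffineOpen U) (hUV' : U ≤ g ⁻¹ᵁ V') (hUc : U ≤ i.coborderRange)

include hsq in
/-- `g♯` maps the ideal of `i'` over `V'` into the ideal of `i` over any `W ≤ g⁻¹ V'`. -/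
theorem appLE_mem_ker {W : X.Opens} (hW : W ≤ g ⁻¹ᵁ V') (a : Γ(X', V')) (ha : i'.app V' a = 0) :
    i.app W (g.appLE V' W hW a) = 0 := by
  have hle : i ⁻¹ᵁ W ≤ gZ ⁻¹ᵁ (i' ⁻¹ᵁ V') := chart_le i i' g gZ hsq hW
  have h1 : g.appLE V' W hW ≫ i.appLE W (i ⁻¹ᵁ W) le_rfl =
      (i ≫ g).appLE V' (i ⁻¹ᵁ W) (i.preimage_mono hW) :=
    Scheme.Hom.appLE_comp_appLE _ _ _ _ _ _ _
  have h2 : i'.appLE V' (i' ⁻¹ᵁ V') le_rfl ≫ gZ.appLE (i' ⁻¹ᵁ V') (i ⁻¹ᵁ W) hle =
      (gZ ≫ i').appLE V' (i ⁻¹ᵁ W) hle :=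
    Scheme.Hom.appLE_comp_appLE _ _ _ _ _ _ _
  have h3 := OmegaSh.appLE_congr_hom hsq.w (U := V') (V := i ⁻¹ᵁ W) (i.preimage_mono hW) hle
  have h4 : g.appLE V' W hW ≫ i.appLE W (i ⁻¹ᵁ W) le_rfl =
      i'.appLE V' (i' ⁻¹ᵁ V') le_rfl ≫ gZ.appLE (i' ⁻¹ᵁ V') (i ⁻¹ᵁ W) hle := by
    rw [h1, h2, h3]
  have h5 := congr($h4 a)
  rw [ConcreteCategory.comp_apply, ConcreteCategory.comp_apply, ← Scheme.Hom.app_eq_appLE,
    ← Scheme.Hom.app_eq_appLE, ha, map_zero] at h5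
  exact h5

include hsq in
/-- `g♯` maps `n`-th powers of the ideals into each other. -/
theorem appLE_mem_pow {W : X.Opens} (hW : W ≤ g ⁻¹ᵁ V') (a : Γ(X', V'))
    (ha : a ∈ (RingHom.ker (i'.app V').hom) ^ n) :
    g.appLE V' W hW a ∈ (RingHom.ker (i.app W).hom) ^ n := by
  have h1 : Ideal.map (g.appLE V' W hW).hom (RingHom.ker (i'.app V').hom) ≤
      RingHom.ker (i.app W).hom := by
    rw [Ideal.map_le_iff_le_comap]
    intro a ha
    exact appLE_mem_ker i i' g gZ hsq hW a ha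
  have h2 := Ideal.mem_map_of_mem (g.appLE V' W hW).hom ha
  rw [Ideal.map_pow] at h2
  exact Ideal.pow_right_mono h1 n h2

end chart

section chart2
variable {Z X Z' X' : Scheme.{u}} (i : Z ⟶ X) (i' : Z' ⟶ X') [IsImmersion i] [IsImmersion i']
  [QuasiCompact i] [QuasiCompact i'] (g : X ⟶ X') (gZ : Z ⟶ Z') (hsq : IsPullback i gZ g i') (n : ℕ)
  (φ : (Scheme.Modules.pullback gZ).obj (PrinPart.grMod i' n) ⟶ PrinPart.grMod i n)
  (hφ : PrinPart.IsGrMap i i' g gZ n φ)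
  {V' : X'.Opens} (hV' : IsAffineOpen V') (hV'c : V' ≤ i'.coborderRange)
  {U : X.Opens} (hU : IsAffineOpen U) (hUV' : U ≤ g ⁻¹ᵁ V') (hUc : U ≤ i.coborderRange)

include hsq hV' in
/-- a section of `I^n` over `g⁻¹ V'` lifting `g♯ σ'`. -/
theorem exists_idealSect_app (s' : Γ(ClSub.idealMod (i'.ker ^ n), V')) :
    ∃ s : Γ(ClSub.idealMod (i.ker ^ n), g ⁻¹ᵁ V'),
      OmegaSh.idealSect (i.ker ^ n) (g ⁻¹ᵁ V') s =
        g.app V' (OmegaSh.idealSect (i'.ker ^ n) V' s') := by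
  refine exists_idealSect_of_forall _ _ _ ?_
  intro W' hW' h
  rw [pow_ideal_eq i n hW']
  have h1 := idealSect_mem (i'.ker ^ n) hV' s'
  rw [pow_ideal_eq i' n hV'] at h1
  have h2 := appLE_mem_pow i i' g gZ hsq n h _ h1
  have h3 : g.appLE V' W' h (OmegaSh.idealSect (i'.ker ^ n) V' s') =
      X.presheaf.map (homOfLE h).op (g.app V' (OmegaSh.idealSect (i'.ker ^ n) V' s')) := by
    rw [Scheme.Hom.appLE]
    rfl
  rwa [h3] at h2

include hsq hφ hV' hUV' in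
/-- `φ` on a doubly pulled back section, over the chart. -/
theorem phi_double (s' : Γ(ClSub.idealMod (i'.ker ^ n), V'))
    (t : Γ(ClSub.idealMod (i.ker ^ n), U))
    (ht : OmegaSh.idealSect (i.ker ^ n) U t =
      g.appLE V' U hUV' (OmegaSh.idealSect (i'.ker ^ n) V' s')) :
    φ.app (i ⁻¹ᵁ U) (unitSec gZ (PrinPart.grMod i' n) (chart_le i i' g gZ hsq hUV')
      (unitSec i' (ClSub.idealMod (i'.ker ^ n)) (le_refl (i' ⁻¹ᵁ V')) s')) =
    unitSec i (ClSub.idealMod (i.ker ^ n)) (le_refl (i ⁻¹ᵁ U)) t := by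
  obtain ⟨s, hs⟩ := exists_idealSect_app i i' g gZ hsq n hV' s'
  have h1 : unitSec i' (ClSub.idealMod (i'.ker ^ n)) (le_refl (i' ⁻¹ᵁ V')) s' =
      PrinPart.grSect i' n V' s' := by
    rw [unitSec_apply]
    exact presheaf_map_homOfLE_refl _ _ _
  rw [h1, unitSec_apply]
  have h2 := congr($(φ.mapPresheaf.naturality (homOfLE (chart_le i i' g gZ hsq hUV')).op)
    (OmegaSh.pullSect gZ (PrinPart.grMod i' n) (i' ⁻¹ᵁ V') (PrinPart.grSect i' n V' s')))
  refine h2.trans ?_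
  have h3 := hφ.2 V' s' s hs (i ⁻¹ᵁ U) (chart_le i i' g gZ hsq hUV') (i.preimage_mono hUV')
  refine h3.trans ?_
  -- `s` restricted to `U` is `t`
  have h4 : (ClSub.idealMod (i.ker ^ n)).presheaf.map (homOfLE hUV').op s = t := by
    apply idealSect_injective
    rw [idealSect_res, hs, ht, Scheme.Hom.appLE]
    rfl
  rw [← h4, unitSec_res i (ClSub.idealMod (i.ker ^ n)) hUV' (le_refl (i ⁻¹ᵁ U)) s, unitSec_apply]
  rfl

end chart2

section chart3
variable {Z X Z' X' : Scheme.{u}} (i : Z ⟶ X) (i' : Z' ⟶ X') [IsImmersion i] [IsImmersion i']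
  [QuasiCompact i] [QuasiCompact i'] (g : X ⟶ X') (gZ : Z ⟶ Z') (hsq : IsPullback i gZ g i') (n : ℕ)
  (φ : (Scheme.Modules.pullback gZ).obj (PrinPart.grMod i' n) ⟶ PrinPart.grMod i n)
  (hφ : PrinPart.IsGrMap i i' g gZ n φ)
  {V' : X'.Opens} (hV' : IsAffineOpen V') (hV'c : V' ≤ i'.coborderRange)
  {U : X.Opens} (hU : IsAffineOpen U) (hUV' : U ≤ g ⁻¹ᵁ V') (hUc : U ≤ i.coborderRange)

include hsq hφ hV' hV'c hU hUV' hUc in
theorem chart_gr :
    Function.Surjective (φ.app (i ⁻¹ᵁ U)) ∧ (Flat g → Function.Bijective (φ.app (i ⁻¹ᵁ U))) := by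
  have hTaff : IsAffineOpen (i ⁻¹ᵁ U) :=
    Groth.Agent.Lib.Helper20.ConormalStalk.isAffineOpen_preimage i hU hUc
  have hT'aff : IsAffineOpen (i' ⁻¹ᵁ V') :=
    Groth.Agent.Lib.Helper20.ConormalStalk.isAffineOpen_preimage i' hV' hV'c
  have hTT' := chart_le i i' g gZ hsq hUV'
  letI algA'A : Algebra Γ(X', V') Γ(X, U) := (g.appLE V' U hUV').hom.toAlgebra
  letI algAR : Algebra Γ(X, U) Γ(Z, i ⁻¹ᵁ U) := (i.appLE U (i ⁻¹ᵁ U) le_rfl).hom.toAlgebra
  letI algA'R : Algebra Γ(X', V') Γ(Z, i ⁻¹ᵁ U) :=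
    ((algebraMap Γ(X, U) Γ(Z, i ⁻¹ᵁ U)).comp (algebraMap Γ(X', V') Γ(X, U))).toAlgebra
  haveI : IsScalarTower Γ(X', V') Γ(X, U) Γ(Z, i ⁻¹ᵁ U) :=
    IsScalarTower.of_algebraMap_eq fun _ => rfl
  have hsqR : ∀ a : Γ(X', V'), algebraMap Γ(X', V') Γ(Z, i ⁻¹ᵁ U) a =
      gZ.appLE (i' ⁻¹ᵁ V') (i ⁻¹ᵁ U) hTT' (i'.appLE V' (i' ⁻¹ᵁ V') le_rfl a) := by
    intro a
    have h1 : g.appLE V' U hUV' ≫ i.appLE U (i ⁻¹ᵁ U) le_rfl =
        (i ≫ g).appLE V' (i ⁻¹ᵁ U) (i.preimage_mono hUV') :=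
      Scheme.Hom.appLE_comp_appLE _ _ _ _ _ _ _
    have h2 : i'.appLE V' (i' ⁻¹ᵁ V') le_rfl ≫ gZ.appLE (i' ⁻¹ᵁ V') (i ⁻¹ᵁ U) hTT' =
        (gZ ≫ i').appLE V' (i ⁻¹ᵁ U) hTT' :=
      Scheme.Hom.appLE_comp_appLE _ _ _ _ _ _ _
    have h3 := OmegaSh.appLE_congr_hom hsq.w (U := V') (V := i ⁻¹ᵁ U) (i.preimage_mono hUV') hTT'
    have h4 : g.appLE V' U hUV' ≫ i.appLE U (i ⁻¹ᵁ U) le_rfl =
        i'.appLE V' (i' ⁻¹ᵁ V') le_rfl ≫ gZ.appLE (i' ⁻¹ᵁ V') (i ⁻¹ᵁ U) hTT' := by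
      rw [h1, h2, h3]
    exact congr($h4 a)
  -- the pushout square of rings and the kernel
  have hPO : IsPushout (g.appLE V' U hUV') (i'.appLE V' (i' ⁻¹ᵁ V') le_rfl)
      (i.appLE U (i ⁻¹ᵁ U) (by simp)) (gZ.appLE (i' ⁻¹ᵁ V') (i ⁻¹ᵁ U) hTT') := by
    have hUY : i ⁻¹ᵁ U = i ⁻¹ᵁ U ⊓ gZ ⁻¹ᵁ (i' ⁻¹ᵁ V') := (inf_eq_left.2 hTT').symm
    have := isIso_pushoutSection_of_isAffineOpen hsq (le_refl _) hUV' hUY hV' hT'aff hU
    exact (isIso_pushoutSection_iff hsq _ _ hUY).mp this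
  have hsurj' : Function.Surjective (i'.appLE V' (i' ⁻¹ᵁ V') le_rfl).hom := by
    have := Groth.Agent.Lib.Helper20.ConormalStalk.app_surjective i' hV' hV'c
    rw [Scheme.Hom.app_eq_appLE] at this
    exact this
  have hker := ker_eq_map_of_isPushout hPO hsurj'
  have hkerI : RingHom.ker (i.app U).hom = RingHom.ker (i.appLE U (i ⁻¹ᵁ U) le_rfl).hom := by
    rw [← Scheme.Hom.app_eq_appLE]
  have hkerI' : RingHom.ker (i'.app V').hom = RingHom.ker (i'.appLE V' (i' ⁻¹ᵁ V') le_rfl).hom := by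
    rw [← Scheme.Hom.app_eq_appLE]
  -- the comparison map of ideals
  have hτex : ∀ s' : Γ(ClSub.idealMod (i'.ker ^ n), V'), ∃ s : Γ(ClSub.idealMod (i.ker ^ n), U),
      OmegaSh.idealSect (i.ker ^ n) U s =
        g.appLE V' U hUV' (OmegaSh.idealSect (i'.ker ^ n) V' s') := by
    intro s'
    refine exists_idealSect_of_mem (i.ker ^ n) hU _ ?_
    rw [pow_ideal_eq i n hU]
    have h1 := idealSect_mem (i'.ker ^ n) hV' s'
    rw [pow_ideal_eq i' n hV'] at h1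
    exact appLE_mem_pow i i' g gZ hsq n hUV' _ h1
  choose τf hτf using hτex
  let τ : Γ(ClSub.idealMod (i'.ker ^ n), V') →+ Γ(ClSub.idealMod (i.ker ^ n), U) :=
    { toFun := τf
      map_zero' := by
        apply idealSect_injective
        rw [hτf, map_zero, map_zero, map_zero]
      map_add' := fun a b => by
        apply idealSect_injective
        rw [hτf, map_add, map_add, map_add, hτf, hτf] }
  have hτ : ∀ (a : Γ(X', V')) (m : Γ(ClSub.idealMod (i'.ker ^ n), V')),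
      τ (a • m) = algebraMap Γ(X', V') Γ(X, U) a • τ m := by
    intro a m
    apply idealSect_injective
    change OmegaSh.idealSect (i.ker ^ n) U (τf (a • m)) = OmegaSh.idealSect (i.ker ^ n) U
      (algebraMap Γ(X', V') Γ(X, U) a • τf m)
    rw [hτf, idealSect_smul, idealSect_smul, hτf, map_mul]
    rfl
  have hgen : ∀ m : Γ(ClSub.idealMod (i.ker ^ n), U), m ∈ Submodule.span Γ(X, U) (Set.range τ) := by
    intro m
    have h1 : OmegaSh.idealSect (i.ker ^ n) U m ∈ Ideal.map (g.appLE V' U hUV').hom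
        ((RingHom.ker (i'.appLE V' (i' ⁻¹ᵁ V') le_rfl).hom) ^ n) := by
      rw [Ideal.map_pow, ← hker, ← hkerI, ← pow_ideal_eq i n hU]
      exact idealSect_mem (i.ker ^ n) hU m
    have key : ∀ x ∈ Ideal.map (g.appLE V' U hUV').hom
        ((RingHom.ker (i'.appLE V' (i' ⁻¹ᵁ V') le_rfl).hom) ^ n),
        ∃ m ∈ Submodule.span Γ(X, U) (Set.range τ), OmegaSh.idealSect (i.ker ^ n) U m = x := by
      intro x hx
      refine Submodule.span_induction ?_ ?_ ?_ ?_ hx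
      · rintro _ ⟨σ', hσ', rfl⟩
        obtain ⟨s', hs'⟩ := exists_idealSect_of_mem (i'.ker ^ n) hV' σ' (by
          rw [pow_ideal_eq i' n hV', hkerI']
          exact hσ')
        refine ⟨τ s', Submodule.subset_span ⟨s', rfl⟩, ?_⟩
        change OmegaSh.idealSect (i.ker ^ n) U (τf s') = _
        rw [hτf, hs']
      · exact ⟨0, zero_mem _, map_zero _⟩
      · rintro x y _ _ ⟨m, hm, rfl⟩ ⟨m', hm', rfl⟩
        exact ⟨m + m', add_mem hm hm', map_add _ _ _⟩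
      · rintro a x _ ⟨m, hm, rfl⟩
        exact ⟨a • m, Submodule.smul_mem _ a hm, idealSect_smul _ U a m⟩
    obtain ⟨m₀, hm₀, hmn⟩ := key _ h1
    rwa [idealSect_injective _ _ hmn] at hm₀
  -- the tensor product descriptions
  haveI : (ClSub.idealMod (i.ker ^ n)).IsQuasicoherent :=
    Groth.Agent.Lib.Helper20.OmegaAff.isQuasicoherent_idealMod _
  haveI : (ClSub.idealMod (i'.ker ^ n)).IsQuasicoherent :=
    Groth.Agent.Lib.Helper20.OmegaAff.isQuasicoherent_idealMod _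
  obtain ⟨e₃, he₃⟩ := exists_pullback_equiv i (ClSub.idealMod (i.ker ^ n)) (le_refl (i ⁻¹ᵁ U)) hU hTaff rfl
  let L : Γ(ClSub.idealMod (i'.ker ^ n), V') →+
      Γ((Scheme.Modules.pullback gZ).obj ((Scheme.Modules.pullback i').obj (ClSub.idealMod (i'.ker ^ n))),
        i ⁻¹ᵁ U) :=
    (unitSec gZ ((Scheme.Modules.pullback i').obj (ClSub.idealMod (i'.ker ^ n))) hTT').comp
      (unitSec i' (ClSub.idealMod (i'.ker ^ n)) (le_refl (i' ⁻¹ᵁ V')))
  have hL : ∀ (a : Γ(X', V')) (m : Γ(ClSub.idealMod (i'.ker ^ n), V')),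
      L (a • m) = algebraMap Γ(X', V') Γ(Z, i ⁻¹ᵁ U) a • L m := by
    intro a m
    change unitSec gZ _ hTT' (unitSec i' (ClSub.idealMod (i'.ker ^ n)) (le_refl (i' ⁻¹ᵁ V')) (a • m)) = _
    rw [unitSec_smul, unitSec_smul, hsqR]
    rfl
  obtain ⟨Λ, hΛ⟩ := exists_baseChangeEquiv (A := Γ(X', V')) (B := Γ(Z, i ⁻¹ᵁ U)) L hL
    (fun N _ _ l hl => existsUnique_lift₂ i' gZ (ClSub.idealMod (i'.ker ^ n)) hV' hT'aff (le_refl _)
      hTaff hTT' N l (fun r x => by rw [hl, hsqR]))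
  obtain ⟨Φ, hΦ, hΦs, hΦb⟩ := exists_tensor_map (R := Γ(Z, i ⁻¹ᵁ U)) τ hτ
  let φT : Γ((Scheme.Modules.pullback gZ).obj ((Scheme.Modules.pullback i').obj
      (ClSub.idealMod (i'.ker ^ n))), i ⁻¹ᵁ U) →+
      Γ((Scheme.Modules.pullback i).obj (ClSub.idealMod (i.ker ^ n)), i ⁻¹ᵁ U) := (φ.app (i ⁻¹ᵁ U)).hom
  have hφT : ∀ x, φT x = φ.app (i ⁻¹ᵁ U) x := fun _ => rfl
  have hcomp : ∀ v : Γ(Z, i ⁻¹ᵁ U) ⊗[Γ(X', V')] Γ(ClSub.idealMod (i'.ker ^ n), V'),
      φT (Λ v) = e₃ (Φ v) := by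
    intro v
    induction v using TensorProduct.induction_on with
    | zero => rw [map_zero, map_zero, map_zero, map_zero]
    | tmul r s' =>
      rw [hΛ, hΦ, he₃]
      refine (Scheme.Modules.Hom.app_smul φ r _).trans ?_
      congr 1
      exact phi_double i i' g gZ hsq n φ hφ hV' hUV' s' (τ s') (hτf s')
    | add x y hx hy => rw [map_add, map_add, map_add, map_add, hx, hy]
  constructor
  · intro y
    obtain ⟨w, rfl⟩ := e₃.surjective y
    obtain ⟨v, rfl⟩ := hΦs hgen w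
    exact ⟨Λ v, (hφT _).symm.trans (hcomp v)⟩
  · intro hflat
    haveI : Module.Flat Γ(X', V') Γ(X, U) := Scheme.Hom.flat_appLE g hV' hU hUV'
    let ι' : Γ(ClSub.idealMod (i'.ker ^ n), V') →ₗ[Γ(X', V')] Γ(X', V') :=
      { toFun := OmegaSh.idealSect (i'.ker ^ n) V'
        map_add' := map_add _
        map_smul' := fun a m => idealSect_smul _ V' a m }
    let ι : Γ(ClSub.idealMod (i.ker ^ n), U) →ₗ[Γ(X, U)] Γ(X, U) :=
      { toFun := OmegaSh.idealSect (i.ker ^ n) U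
        map_add' := map_add _
        map_smul' := fun a m => idealSect_smul _ U a m }
    have hb := hΦb ι' ι inferInstance (idealSect_injective _ V') (idealSect_injective _ U)
      (fun n' => hτf n') hgen
    constructor
    · intro x y hxy
      obtain ⟨v, rfl⟩ := Λ.surjective x
      obtain ⟨w, rfl⟩ := Λ.surjective y
      have hxy' : φT (Λ v) = φT (Λ w) := hxy
      rw [hcomp, hcomp] at hxy'
      rw [hb.1 (e₃.injective hxy')]
    · intro y
      obtain ⟨w, rfl⟩ := e₃.surjective y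
      obtain ⟨v, rfl⟩ := hb.2 w
      exact ⟨Λ v, (hφT _).symm.trans (hcomp v)⟩

end chart3

section main
variable {Z X Z' X' : Scheme.{u}} (i : Z ⟶ X) (i' : Z' ⟶ X') [IsImmersion i] [IsImmersion i']
  [QuasiCompact i] [QuasiCompact i'] (g : X ⟶ X') (gZ : Z ⟶ Z') (hsq : IsPullback i gZ g i') (n : ℕ)

include hsq in
/-- the canonical map of `n`-th graded pieces for a cartesian square is an epimorphism,
and an isomorphism when the base change map is flat. -/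
theorem main_gr (φ : (Scheme.Modules.pullback gZ).obj (PrinPart.grMod i' n) ⟶ PrinPart.grMod i n)
    (hφ : PrinPart.IsGrMap i i' g gZ n φ) : Epi φ ∧ (Flat g → IsIso φ) := by
  haveI : (ClSub.idealMod (i.ker ^ n)).IsQuasicoherent :=
    Groth.Agent.Lib.Helper20.OmegaAff.isQuasicoherent_idealMod _
  haveI : (ClSub.idealMod (i'.ker ^ n)).IsQuasicoherent :=
    Groth.Agent.Lib.Helper20.OmegaAff.isQuasicoherent_idealMod _
  haveI : (PrinPart.grMod i n).IsQuasicoherent :=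
    inferInstanceAs ((Scheme.Modules.pullback i).obj (ClSub.idealMod (i.ker ^ n))).IsQuasicoherent
  haveI : (PrinPart.grMod i' n).IsQuasicoherent :=
    inferInstanceAs ((Scheme.Modules.pullback i').obj (ClSub.idealMod (i'.ker ^ n))).IsQuasicoherent
  let ι : Type u := {T : X'.Opens × X.Opens // IsAffineOpen T.1 ∧ T.1 ≤ i'.coborderRange ∧
    IsAffineOpen T.2 ∧ T.2 ≤ g ⁻¹ᵁ T.1 ∧ T.2 ≤ i.coborderRange}
  have hcover : IsOpenCover (fun T : ι => i ⁻¹ᵁ T.1.2) := by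
    refine IsOpenCover.mk (eq_top_iff.mpr ?_)
    intro z _
    obtain ⟨V', U, hV', hV'c, hU, hUV', hUc, hz⟩ := exists_chart_S9372 i i' g gZ hsq z
    exact Opens.mem_iSup.mpr ⟨⟨⟨V', U⟩, hV', hV'c, hU, hUV', hUc⟩, hz⟩
  have haff : ∀ T : ι, IsAffineOpen (i ⁻¹ᵁ T.1.2) := fun T =>
    Groth.Agent.Lib.Helper20.ConormalStalk.isAffineOpen_preimage i T.2.2.2.1 T.2.2.2.2.2
  have hch : ∀ T : ι, _ := fun T : ι =>
    chart_gr i i' g gZ hsq n φ hφ T.2.1 T.2.2.1 T.2.2.2.1 T.2.2.2.2.1 T.2.2.2.2.2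
  constructor
  · exact epi_of_surjective_app_cover φ _ hcover haff (fun T => (hch T).1)
  · intro hflat
    exact isIso_of_bijective_app_cover φ _ hcover haff (fun T => (hch T).2 hflat)

end main

end Groth.Agent.R2.H36.GrBC
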