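import Mathlib
import Groth.Agent.R2.H74FSmSpec
import Groth.Agent.Lib.Helper14Descent2

/-!
# PROJ:fsm-glue, package LP (helper47): projectivity is Zariski local, no finiteness

`pkgLP : PkgLP`: if `span s = ⊤` and all `R_g ⊗ M` (`g ∈ s`) are projective then `M` is projective.
Route: finite subcover, `S = Π R_g` is faithfully flat, `S ⊗ M` is projective over the product ring
(explicit retract of a free module), then Raynaud–Gruson descent (`S0585`, Lib `Helper14Descent2`).
-/

set_option autoImplicit false
set_option linter.unusedSectionVars false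
set_option linter.style.haveILetI false
universe u
open TensorProduct

namespace Groth.Agent.R2.H47.FSmLP

section Pi

variable {R : Type u} [CommRing R] {ι : Type u} [Fintype ι] [DecidableEq ι]
  (B : ι → Type u) [∀ i, CommRing (B i)] [∀ i, Algebra R (B i)]
  (M : Type u) [AddCommGroup M] [Module R M]

/-- `B i ⊗ M → (Π B) ⊗ M`, induced by `Pi.single i`. -/
noncomputable def eps (i : ι) : B i ⊗[R] M →ₗ[R] (Π i, B i) ⊗[R] M :=
  LinearMap.rTensor M (LinearMap.single R B i)

omit [Fintype ι] in
lemma eps_tmul (i : ι) (b : B i) (m : M) :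
    eps B M i (b ⊗ₜ m) = (Pi.single i b : Π i, B i) ⊗ₜ[R] m := rfl

lemma single_smul_eps (i : ι) (b : B i) (y : B i ⊗[R] M) :
    (Pi.single i b : Π i, B i) • eps B M i y = eps B M i (b • y) := by
  induction y using TensorProduct.induction_on with
  | zero => simp
  | tmul b' m =>
    rw [eps_tmul, TensorProduct.smul_tmul', TensorProduct.smul_tmul', eps_tmul, smul_eq_mul,
      smul_eq_mul, ← Pi.single_mul]
  | add x y hx hy => rw [map_add, smul_add, hx, hy, smul_add, map_add]

/-- push a finitely supported family on `B i ⊗ M` with values in `B i` to one on the sigma type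
with values in the product ring. -/
noncomputable def push (i : ι) :
    ((B i ⊗[R] M) →₀ B i) →ₗ[R] ((Σ i, B i ⊗[R] M) →₀ (Π i, B i)) :=
  (Finsupp.lmapDomain (Π i, B i) R (fun y : B i ⊗[R] M => (⟨i, y⟩ : Σ i, B i ⊗[R] M))) ∘ₗ
    (Finsupp.mapRange.linearMap (LinearMap.single R B i))

lemma push_single (i : ι) (y : B i ⊗[R] M) (b : B i) :
    push B M i (Finsupp.single y b) = Finsupp.single ⟨i, y⟩ (Pi.single i b) := by
  simp [push]

/-- the family of vectors of `(Π B) ⊗ M` indexed by the sigma type. -/
noncomputable def vec : (Σ i, B i ⊗[R] M) → (Π i, B i) ⊗[R] M := fun x => eps B M x.1 x.2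

lemma linearCombination_push (i : ι) (φ : (B i ⊗[R] M) →₀ B i) :
    Finsupp.linearCombination (Π i, B i) (vec B M) (push B M i φ) =
      eps B M i (Finsupp.linearCombination (B i) id φ) := by
  induction φ using Finsupp.induction_linear with
  | zero => simp
  | add f g hf hg => rw [map_add, map_add, hf, hg, map_add, map_add]
  | single y b =>
    rw [push_single, Finsupp.linearCombination_single, Finsupp.linearCombination_single]
    exact single_smul_eps B M i b y

/-- a module which is projective after base change to each factor of a finite product ring is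
projective after base change to the product. -/
theorem projective_pi_tensor (h : ∀ i, Module.Projective (B i) (B i ⊗[R] M)) :
    Module.Projective (Π i, B i) ((Π i, B i) ⊗[R] M) := by
  have hs := fun i => Module.projective_def'.1 (h i)
  choose s hs using hs
  let i₀ : M →ₗ[R] ((Σ i, B i ⊗[R] M) →₀ (Π i, B i)) :=
    ∑ i, (push B M i) ∘ₗ ((s i).restrictScalars R) ∘ₗ (TensorProduct.mk R (B i) M 1)
  have key : ∀ m : M, Finsupp.linearCombination (Π i, B i) (vec B M) (i₀ m) =
      (1 : Π i, B i) ⊗ₜ[R] m := by
    intro m
    have h1 : i₀ m = ∑ i, push B M i (s i ((1 : B i) ⊗ₜ[R] m)) := by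
      simp [i₀, LinearMap.sum_apply]
    rw [h1, map_sum]
    have h2 : ∀ i, Finsupp.linearCombination (Π i, B i) (vec B M)
        (push B M i (s i ((1 : B i) ⊗ₜ[R] m))) = (Pi.single i (1 : B i) : Π i, B i) ⊗ₜ[R] m := by
      intro i
      rw [linearCombination_push]
      have := LinearMap.congr_fun (hs i) ((1 : B i) ⊗ₜ[R] m)
      rw [LinearMap.comp_apply, LinearMap.id_apply] at this
      rw [this, eps_tmul]
    rw [Finset.sum_congr rfl (fun i _ => h2 i), ← TensorProduct.sum_tmul,
      Finset.univ_sum_single]
    rfl
  refine Module.Projective.of_split (LinearMap.liftBaseChange (Π i, B i) i₀)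
    (Finsupp.linearCombination (Π i, B i) (vec B M)) ?_
  apply TensorProduct.AlgebraTensorModule.ext
  intro t m
  rw [LinearMap.comp_apply, LinearMap.liftBaseChange_tmul, map_smul, key, LinearMap.id_apply,
    TensorProduct.smul_tmul', smul_eq_mul, mul_one]

end Pi

/-- **Package LP**. -/
theorem pkgLP : Groth.Agent.R2.H74.FSm.PkgLP.{u} := by
  intro R _ M _ _ s hs hproj
  classical
  obtain ⟨s', hs's, hs'⟩ := (Ideal.span_eq_top_iff_finite s).1 hs
  let B : (↥s') → Type u := fun g => Localization.Away g.1
  have : Module.Flat R (Π i, B i) :=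
    Module.Flat.of_linearEquiv (DirectSum.linearEquivFunOnFintype R (↥s') B).symm
  have : Module.FaithfullyFlat R (Π i, B i) := by
    rw [Module.faithfullyFlat_iff]
    refine ⟨inferInstance, fun m hm htop => ?_⟩
    -- some `g ∈ s'` is not in `m`
    have hex : ∃ g : ↥s', g.1 ∉ m := by
      by_contra hcon
      push Not at hcon
      have : Ideal.span (s' : Set R) ≤ m := Ideal.span_le.2 (fun g hg => hcon ⟨g, hg⟩)
      rw [hs'] at this
      exact hm.ne_top (top_le_iff.1 this)
    obtain ⟨g, hg⟩ := hex
    have hdisj : Disjoint (Submonoid.powers g.1 : Set R) (m : Set R) := by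
      rw [Set.disjoint_left]
      rintro x ⟨n, rfl⟩ hx
      exact hg (hm.isPrime.mem_of_pow_mem n hx)
    have hprime : (Ideal.map (algebraMap R (B g)) m).IsPrime :=
      IsLocalization.isPrime_of_isPrime_disjoint (Submonoid.powers g.1) (B g) m hm.isPrime hdisj
    have h1 : (1 : Π i, B i) ∈ (m • ⊤ : Submodule R (Π i, B i)) := by rw [htop]; trivial
    have h2 : ∀ z ∈ (m • ⊤ : Submodule R (Π i, B i)),
        z g ∈ Ideal.map (algebraMap R (B g)) m := by
      intro z hz
      refine Submodule.smul_induction_on hz ?_ ?_
      · intro a ha b _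
        show (a • b) g ∈ _
        rw [Pi.smul_apply, Algebra.smul_def]
        exact Ideal.mul_mem_right _ _ (Ideal.mem_map_of_mem _ ha)
      · intro x y hx hy
        rw [Pi.add_apply]; exact Ideal.add_mem _ hx hy
    exact hprime.ne_top ((Ideal.eq_top_iff_one _).mpr (h2 1 h1))
  have : Module.Projective (Π i, B i) ((Π i, B i) ⊗[R] M) :=
    projective_pi_tensor B M (fun g => hproj g.1 (hs's g.2))
  exact Groth.Agent.Lib.Helper14.Descent.projective_of_faithfullyFlat_baseChange (R := R)
    (S := Π i, B i)

end Groth.Agent.R2.H47.FSmLP
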