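import Mathlib
import Groth.Agent.R2.H74FSmSpec

/-!
# PROJ:fsm-glue, package TSZ (helper47): lifting "derivations" through trivial square zero extensions

`pkgTSZ : PkgTSZ`: in the setting of `R2/H74FSmSpec`, if `(B, J)` is formally smooth over `D(g)`
(`LocFS J g`), then `A`-linear maps `D : B → N` killing `Q = A·1 + J²` lift along surjections
`N' → N` of modules over `(A ⧸ I)_g`.
-/

set_option autoImplicit false
set_option linter.unusedSectionVars false
set_option linter.style.haveILetI false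
universe u
open TensorProduct Groth.Agent.R2.H74.FSm

namespace Groth.Agent.R2.H47.FSmTSZ

section General

variable {A B : Type u} [CommRing A] [CommRing B] [Algebra A B] {I : Ideal A} {J : Ideal B}

/-- the reduction map `B → B ⧸ J ≅ A ⧸ I → S` for an `A ⧸ I`-algebra `S`, characterised on elements. -/
lemma exists_rho (h : Setup I J) (S : Type u) [CommRing S] [Algebra A S]
    (hS : ∀ a ∈ I, algebraMap A S a = 0) :
    ∃ ρ : B →ₐ[A] S, ∀ b ∈ J, ρ b = 0 := by
  -- the map `A ⧸ I → B ⧸ J` is bijective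
  have hle : I ≤ J.comap (algebraMap A B) := h.comap.le
  let φ : A ⧸ I →+* B ⧸ J := Ideal.quotientMap J (algebraMap A B) hle
  have hφ : ∀ a : A, φ (Ideal.Quotient.mk I a) = Ideal.Quotient.mk J (algebraMap A B a) :=
    fun a => Ideal.quotientMap_mk
  have hinj : Function.Injective φ := by
    rw [injective_iff_map_eq_zero]
    intro x hx
    obtain ⟨a, rfl⟩ := Ideal.Quotient.mk_surjective x
    rw [hφ, Ideal.Quotient.eq_zero_iff_mem] at hx
    rw [Ideal.Quotient.eq_zero_iff_mem, h.comap]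
    exact hx
  have hsurj : Function.Surjective φ := by
    intro y
    obtain ⟨b, rfl⟩ := Ideal.Quotient.mk_surjective y
    obtain ⟨a, ha⟩ := h.surj b
    refine ⟨Ideal.Quotient.mk I a, ?_⟩
    rw [hφ]
    exact (Ideal.Quotient.eq.2 ha).symm
  let e : A ⧸ I ≃+* B ⧸ J := RingEquiv.ofBijective φ ⟨hinj, hsurj⟩
  let σ : A ⧸ I →+* S := Ideal.Quotient.lift I (algebraMap A S) hS
  let ρ₀ : B →+* S := σ.comp (e.symm.toRingHom.comp (Ideal.Quotient.mk J))
  have hρ₀ : ∀ a : A, ρ₀ (algebraMap A B a) = algebraMap A S a := by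
    intro a
    show σ (e.symm (Ideal.Quotient.mk J (algebraMap A B a))) = _
    have : e.symm (Ideal.Quotient.mk J (algebraMap A B a)) = Ideal.Quotient.mk I a := by
      rw [RingEquiv.symm_apply_eq]
      exact (hφ a).symm
    rw [this]
    exact Ideal.Quotient.lift_mk _ _ _
  refine ⟨{ ρ₀ with commutes' := hρ₀ }, fun b hb => ?_⟩
  show σ (e.symm (Ideal.Quotient.mk J b)) = 0
  rw [Ideal.Quotient.eq_zero_iff_mem.2 hb, map_zero, map_zero]

variable (S : Type u) [CommRing S] [Algebra A S]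
variable (N : Type u) [AddCommGroup N] [Module S N] [Module A N] [IsScalarTower A S N]

/-- Leibniz rule for `A`-linear maps killing `Q = A·1 + J²`. -/
lemma leibniz (h : Setup I J) (ρ : B →ₐ[A] S) (hρ : ∀ b ∈ J, ρ b = 0)
    (D : B →ₗ[A] N) (hD : Q A J ≤ LinearMap.ker D) (x y : B) :
    D (x * y) = ρ x • D y + ρ y • D x := by
  have hD1 : ∀ a : A, D (algebraMap A B a) = 0 := fun a =>
    hD (Submodule.mem_sup_left ⟨a, rfl⟩)
  have hD2 : ∀ j ∈ J, ∀ j' ∈ J, D (j * j') = 0 := fun j hj j' hj' =>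
    hD (Submodule.mem_sup_right (Ideal.mul_mem_mul hj hj'))
  obtain ⟨a, ha⟩ := h.surj x
  obtain ⟨a', ha'⟩ := h.surj y
  have hρx : ρ x = algebraMap A S a := by
    have := hρ _ ha
    rw [map_sub, AlgHom.commutes, sub_eq_zero] at this
    exact this
  have hρy : ρ y = algebraMap A S a' := by
    have := hρ _ ha'
    rw [map_sub, AlgHom.commutes, sub_eq_zero] at this
    exact this
  have hDx : D x = D (x - algebraMap A B a) := by rw [map_sub, hD1, sub_zero]
  have hDy : D y = D (y - algebraMap A B a') := by rw [map_sub, hD1, sub_zero]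
  have hxy : x * y = algebraMap A B (a * a') + a • (y - algebraMap A B a') +
      a' • (x - algebraMap A B a) + (x - algebraMap A B a) * (y - algebraMap A B a') := by
    rw [Algebra.smul_def, Algebra.smul_def, map_mul]
    ring
  rw [hxy, map_add, map_add, map_add, hD1, hD2 _ ha _ ha', map_smul, map_smul, ← hDx, ← hDy,
    hρx, hρy, algebraMap_smul, algebraMap_smul, zero_add, add_zero]

variable [Module Sᵐᵒᵖ N] [IsCentralScalar S N]

/-- the `A`-algebra map `B → S ⊕ N` attached to `ρ` and a "derivation" `D`. -/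
noncomputable def psi (h : Setup I J) (ρ : B →ₐ[A] S) (hρ : ∀ b ∈ J, ρ b = 0)
    (D : B →ₗ[A] N) (hD : Q A J ≤ LinearMap.ker D) : B →ₐ[A] TrivSqZeroExt S N where
  toFun b := TrivSqZeroExt.inl (ρ b) + TrivSqZeroExt.inr (D b)
  map_one' := by
    have hD1 : D 1 = 0 := by
      have : (1 : B) = algebraMap A B 1 := (map_one _).symm
      rw [this]
      exact hD (Submodule.mem_sup_left ⟨1, rfl⟩)
    rw [map_one, hD1, TrivSqZeroExt.inr_zero, add_zero, TrivSqZeroExt.inl_one]
  map_mul' x y := by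
    apply TrivSqZeroExt.ext
    · simp
    · rw [TrivSqZeroExt.snd_mul]
      simp only [TrivSqZeroExt.snd_add, TrivSqZeroExt.snd_inl, TrivSqZeroExt.snd_inr,
        TrivSqZeroExt.fst_add, TrivSqZeroExt.fst_inl, TrivSqZeroExt.fst_inr, zero_add, add_zero]
      rw [op_smul_eq_smul]
      exact leibniz S N h ρ hρ D hD x y
  map_zero' := by simp
  map_add' x y := by
    rw [map_add, map_add, TrivSqZeroExt.inl_add, TrivSqZeroExt.inr_add]
    abel
  commutes' a := by
    have hD1 : D (algebraMap A B a) = 0 := hD (Submodule.mem_sup_left ⟨a, rfl⟩)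
    rw [AlgHom.commutes, hD1, TrivSqZeroExt.inr_zero, add_zero]
    rfl

lemma fst_psi (h : Setup I J) (ρ : B →ₐ[A] S) (hρ : ∀ b ∈ J, ρ b = 0)
    (D : B →ₗ[A] N) (hD : Q A J ≤ LinearMap.ker D) (b : B) :
    (psi S N h ρ hρ D hD b).fst = ρ b := by
  simp [psi]

lemma snd_psi (h : Setup I J) (ρ : B →ₐ[A] S) (hρ : ∀ b ∈ J, ρ b = 0)
    (D : B →ₗ[A] N) (hD : Q A J ≤ LinearMap.ker D) (b : B) :
    (psi S N h ρ hρ D hD b).snd = D b := by
  simp [psi]

end General

section Lift

variable {A B : Type u} [CommRing A] [CommRing B] [Algebra A B] {I : Ideal A} {J : Ideal B}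
variable (S : Type u) [CommRing S] [Algebra A S]
variable (N' N : Type u) [AddCommGroup N'] [AddCommGroup N] [Module S N'] [Module S N]
  [Module A N'] [Module A N] [IsScalarTower A S N'] [IsScalarTower A S N]
  [Module Sᵐᵒᵖ N'] [IsCentralScalar S N'] [Module Sᵐᵒᵖ N] [IsCentralScalar S N]

/-- the core of package TSZ, for an arbitrary `A ⧸ I`-algebra `S` in which `g` is invertible. -/
theorem lift_core (h : Setup I J) (g : A) (hfs : LocFS J g)
    (hS : ∀ a ∈ I, algebraMap A S a = 0) (hg : IsUnit (algebraMap A S g))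
    (p : N' →ₗ[S] N) (hp : Function.Surjective p)
    (D : B →ₗ[A] N) (hD : Q A J ≤ LinearMap.ker D) :
    ∃ D' : B →ₗ[A] N', Q A J ≤ LinearMap.ker D' ∧ ∀ b, p (D' b) = D b := by
  obtain ⟨ρ, hρ⟩ := exists_rho h S hS
  let ψ := psi S N h ρ hρ D hD
  let q : TrivSqZeroExt S N' →ₐ[A] TrivSqZeroExt S N := (TrivSqZeroExt.map p).restrictScalars A
  let r : TrivSqZeroExt S N →ₐ[A] S := TrivSqZeroExt.fstHom A S N
  have hq : Function.Surjective q := by
    intro x
    obtain ⟨n', hn'⟩ := hp x.snd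
    refine ⟨TrivSqZeroExt.inl x.fst + TrivSqZeroExt.inr n', ?_⟩
    show TrivSqZeroExt.map p _ = x
    rw [map_add, TrivSqZeroExt.map_inl, TrivSqZeroExt.map_inr, hn']
    exact TrivSqZeroExt.inl_fst_add_inr_snd_eq x
  have hr : Function.Surjective r := fun s => ⟨TrivSqZeroExt.inl s, rfl⟩
  have hker : RingHom.ker ((r.comp q : TrivSqZeroExt S N' →ₐ[A] S) : TrivSqZeroExt S N' →+* S) ^ 2
      = ⊥ := by
    rw [eq_bot_iff, pow_two, Ideal.mul_le]
    intro x hx y hy
    have hx' : x.fst = 0 := by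
      have : (TrivSqZeroExt.map p x).fst = 0 := hx
      rwa [TrivSqZeroExt.fst_map] at this
    have hy' : y.fst = 0 := by
      have : (TrivSqZeroExt.map p y).fst = 0 := hy
      rwa [TrivSqZeroExt.fst_map] at this
    rw [Ideal.mem_bot]
    apply TrivSqZeroExt.ext
    · rw [TrivSqZeroExt.fst_mul, hx', zero_mul, TrivSqZeroExt.fst_zero]
    · rw [TrivSqZeroExt.snd_mul, hx', hy', zero_smul, MulOpposite.op_zero, zero_smul, add_zero,
        TrivSqZeroExt.snd_zero]
  have hunit : IsUnit (algebraMap A (TrivSqZeroExt S N') g) := by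
    rw [TrivSqZeroExt.algebraMap_eq_inl']
    exact TrivSqZeroExt.isUnit_inl_iff.2 hg
  obtain ⟨ψ', hψ'⟩ := hfs (TrivSqZeroExt S N') (TrivSqZeroExt S N) S q r hq hr hker hunit ψ
    (fun b hb => by
      show (psi S N h ρ hρ D hD b).fst = 0
      rw [fst_psi, hρ b hb])
  have hψ'b : ∀ b, TrivSqZeroExt.map p (ψ' b) = ψ b := fun b =>
    congrArg (fun k : B →ₐ[A] TrivSqZeroExt S N => k b) hψ'
  have hfst : ∀ b, (ψ' b).fst = ρ b := by
    intro b
    rw [← TrivSqZeroExt.fst_map p, hψ'b, fst_psi]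
  refine ⟨{ toFun := fun b => (ψ' b).snd
            map_add' := fun x y => by rw [map_add, TrivSqZeroExt.snd_add]
            map_smul' := fun a x => by
              rw [map_smul, TrivSqZeroExt.snd_smul, RingHom.id_apply] }, ?_, ?_⟩
  · rw [Q, sup_le_iff]
    constructor
    · rintro _ ⟨a, rfl⟩
      show (ψ' (algebraMap A B a)).snd = 0
      rw [AlgHom.commutes, TrivSqZeroExt.algebraMap_eq_inl', TrivSqZeroExt.snd_inl]
    · intro z hz
      show (ψ' z).snd = 0
      have hz' : z ∈ J * J := hz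
      refine Submodule.mul_induction_on hz' ?_ ?_
      · intro j hj j' hj'
        rw [map_mul, TrivSqZeroExt.snd_mul, hfst, hfst, hρ j hj, hρ j' hj', zero_smul,
          MulOpposite.op_zero, zero_smul, add_zero]
      · intro x y hx hy
        rw [map_add, TrivSqZeroExt.snd_add, hx, hy, add_zero]
  · intro b
    show p (ψ' b).snd = D b
    rw [← TrivSqZeroExt.snd_map p, hψ'b, snd_psi]

end Lift

/-- **Package TSZ**. -/
theorem pkgTSZ : Groth.Agent.R2.H74.FSm.PkgTSZ.{u} := by
  intro A B _ _ _ I J h g hfs N' N _ _ _ _ _ _ _ _ p hp D hD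
  letI : Module (Localization.Away (Ideal.Quotient.mk I g))ᵐᵒᵖ N' :=
    Module.compHom N' ((RingHom.id (Localization.Away (Ideal.Quotient.mk I g))).fromOpposite
      mul_comm)
  haveI : IsCentralScalar (Localization.Away (Ideal.Quotient.mk I g)) N' := ⟨fun _ _ => rfl⟩
  letI : Module (Localization.Away (Ideal.Quotient.mk I g))ᵐᵒᵖ N :=
    Module.compHom N ((RingHom.id (Localization.Away (Ideal.Quotient.mk I g))).fromOpposite
      mul_comm)
  haveI : IsCentralScalar (Localization.Away (Ideal.Quotient.mk I g)) N := ⟨fun _ _ => rfl⟩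
  refine lift_core (Localization.Away (Ideal.Quotient.mk I g)) N' N h g hfs ?_ ?_ p hp D hD
  · intro a ha
    rw [IsScalarTower.algebraMap_apply A (A ⧸ I) (Localization.Away (Ideal.Quotient.mk I g)),
      Ideal.Quotient.algebraMap_eq, Ideal.Quotient.eq_zero_iff_mem.2 ha, map_zero]
  · rw [IsScalarTower.algebraMap_apply A (A ⧸ I) (Localization.Away (Ideal.Quotient.mk I g)),
      Ideal.Quotient.algebraMap_eq]
    exact IsLocalization.Away.algebraMap_isUnit (Ideal.Quotient.mk I g)

end Groth.Agent.R2.H47.FSmTSZ
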