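import Mathlib
import Groth.Prelude.Def_MoreMor
import Groth.Agent.R2.H74FSmSpec

/-!
# PROJ:fsm-glue — package Aff (helper51)

For affine opens `U ⊆ f⁻¹ V`, the restriction `U ⟶ V` has the infinitesimal lifting property iff
`Γ(Y, V) → Γ(X, U)` is formally smooth.

* `isFormallySmoothHom_of_arrowIso` : `MoreMor.IsFormallySmoothHom` is invariant under isomorphisms of arrows.
* `isFormallySmoothHom_SpecMap_iff` : `IsFormallySmoothHom (Spec.map φ) ↔ φ.hom.FormallySmooth`.
* `isoSpec_hom_SpecMap_appLE` : `hU.isoSpec.hom ≫ Spec.map (f.appLE V U h) = f.resLE V U h ≫ hV.isoSpec.hom`.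
* `pkgAff : PkgAff`.
-/

set_option autoImplicit false
set_option linter.style.haveILetI false
universe u
open CategoryTheory AlgebraicGeometry

namespace Groth.Agent.R2.H51.FSmAff

/-- the infinitesimal lifting property is invariant under isomorphisms of arrows. -/
theorem isFormallySmoothHom_of_arrowIso {X Y X' Y' : Scheme.{u}} {f : X ⟶ Y} {f' : X' ⟶ Y'}
    (e₁ : X ≅ X') (e₂ : Y ≅ Y') (h : e₁.hom ≫ f' = f ≫ e₂.hom)
    (hf : MoreMor.IsFormallySmoothHom f) : MoreMor.IsFormallySmoothHom f' := by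
  intro A _ I hI a b hab
  have h' : f' = e₁.inv ≫ f ≫ e₂.hom := by rw [← h, Iso.inv_hom_id_assoc]
  obtain ⟨l, hl1, hl2⟩ := hf A I hI (a ≫ e₁.inv) (b ≫ e₂.inv) (by
    rw [← Category.assoc, hab, h']
    simp)
  refine ⟨l ≫ e₁.hom, ?_, ?_⟩
  · rw [← Category.assoc, hl1, Category.assoc, Iso.inv_hom_id, Category.comp_id]
  · rw [Category.assoc, h, ← Category.assoc, hl2, Category.assoc, Iso.inv_hom_id, Category.comp_id]

/-- affine case: `Spec.map φ` has the infinitesimal lifting property iff `φ` is formally smooth. -/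
theorem isFormallySmoothHom_SpecMap_iff {R S : CommRingCat.{u}} (φ : R ⟶ S) :
    MoreMor.IsFormallySmoothHom (Spec.map φ) ↔ φ.hom.FormallySmooth := by
  letI := φ.hom.toAlgebra
  constructor
  · intro hf
    change Algebra.FormallySmooth R S
    apply Algebra.FormallySmooth.of_comp_surjective
    intro B _ _ I hI g
    let a : Spec (CommRingCat.of (B ⧸ I)) ⟶ Spec S := Spec.map (CommRingCat.ofHom g.toRingHom)
    let b : Spec (CommRingCat.of B) ⟶ Spec R := Spec.map (CommRingCat.ofHom (algebraMap R B))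
    have hab : Spec.map (CommRingCat.ofHom (Ideal.Quotient.mk I)) ≫ b = a ≫ Spec.map φ := by
      change Spec.map _ ≫ Spec.map _ = Spec.map _ ≫ Spec.map _
      rw [← Spec.map_comp, ← Spec.map_comp]
      congr 1
      ext r
      change Ideal.Quotient.mk I (algebraMap R B r) = g (algebraMap R S r)
      rw [g.commutes]
      rfl
    obtain ⟨l, hl1, hl2⟩ := hf B I hI a b hab
    obtain ⟨lam, rfl⟩ := Spec.map_surjective l
    have h1 : lam ≫ CommRingCat.ofHom (Ideal.Quotient.mk I) = CommRingCat.ofHom g.toRingHom := by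
      apply Spec.map_injective
      rw [Spec.map_comp]
      exact hl1
    have h2 : φ ≫ lam = CommRingCat.ofHom (algebraMap R B) := by
      apply Spec.map_injective
      rw [Spec.map_comp]
      exact hl2
    refine ⟨{ lam.hom with commutes' := fun r => ?_ }, ?_⟩
    · exact congrArg (fun t : R ⟶ CommRingCat.of B => t.hom r) h2
    · apply AlgHom.ext
      intro x
      exact congrArg (fun t : S ⟶ CommRingCat.of (B ⧸ I) => t.hom x) h1
  · intro hφ
    haveI : Algebra.FormallySmooth R S := hφ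
    intro A _ I hI a b hab
    obtain ⟨α, rfl⟩ := Spec.map_surjective a
    obtain ⟨β, rfl⟩ := Spec.map_surjective b
    have hc : β ≫ CommRingCat.ofHom (Ideal.Quotient.mk I) = φ ≫ α := by
      apply Spec.map_injective
      rw [Spec.map_comp, Spec.map_comp]
      exact hab
    letI : Algebra R A := β.hom.toAlgebra
    let g : S →ₐ[R] A ⧸ I :=
      { α.hom with
        commutes' := fun r => (congrArg (fun t : R ⟶ CommRingCat.of (A ⧸ I) => t.hom r) hc).symm }
    obtain ⟨l, hl⟩ := Algebra.FormallySmooth.exists_lift I ⟨2, hI⟩ g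
    refine ⟨Spec.map (CommRingCat.ofHom l.toRingHom), ?_, ?_⟩
    · rw [← Spec.map_comp]
      congr 1
      ext x
      exact AlgHom.congr_fun hl x
    · rw [← Spec.map_comp]
      congr 1
      ext r
      exact l.commutes r

/-- the restriction `U ⟶ V` of `f` to affine opens corresponds to `Spec.map (f.appLE V U h)`. -/
theorem isoSpec_hom_SpecMap_appLE {X Y : Scheme.{u}} (f : X ⟶ Y) (U : X.Opens) (V : Y.Opens)
    (hU : IsAffineOpen U) (hV : IsAffineOpen V) (hUV : U ≤ f ⁻¹ᵁ V) :
    hU.isoSpec.hom ≫ Spec.map (f.appLE V U hUV) = f.resLE V U hUV ≫ hV.isoSpec.hom := by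
  rw [← cancel_mono hV.fromSpec, Category.assoc, Category.assoc,
    IsAffineOpen.SpecMap_appLE_fromSpec f hV hU hUV, hV.isoSpec_hom_fromSpec,
    Scheme.Hom.resLE_comp_ι, ← Category.assoc, hU.isoSpec_hom_fromSpec]

/-- **Package Aff** of `PROJ:fsm-glue`. -/
theorem pkgAff : Groth.Agent.R2.H74.FSm.PkgAff.{u} := by
  intro X Y f U V hU hV hUV
  refine Iff.trans ?_ (isFormallySmoothHom_SpecMap_iff (f.appLE V U hUV))
  constructor
  · intro h
    exact isFormallySmoothHom_of_arrowIso hU.isoSpec hV.isoSpec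
      (isoSpec_hom_SpecMap_appLE f U V hU hV hUV) h
  · intro h
    refine isFormallySmoothHom_of_arrowIso hU.isoSpec.symm hV.isoSpec.symm ?_ h
    change hU.isoSpec.inv ≫ f.resLE V U hUV = Spec.map (f.appLE V U hUV) ≫ hV.isoSpec.inv
    rw [Iso.inv_comp_eq, ← Category.assoc, isoSpec_hom_SpecMap_appLE f U V hU hV hUV,
      Category.assoc, Iso.hom_inv_id, Category.comp_id]

end Groth.Agent.R2.H51.FSmAff
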