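import Mathlib
import Groth.Agent.R2.H74FSmSpec

/-!
# Gluing local infinitesimal lifts: the ring-level assembler (helper74, PROJ:fsm-glue)
-/

set_option autoImplicit false
set_option linter.style.haveILetI false
universe u
open TensorProduct

namespace Groth.Agent.R2.H74.FSm

variable {A B : Type u} [CommRing A] [CommRing B] [Algebra A B] {I : Ideal A} {J : Ideal B}

/-! ## Projectivity of the module of "differentials" `B ⧸ (A·1 + J²)` -/

/-- over `D(g)` the module of differentials is projective. -/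
lemma locProj (hTSZ : PkgTSZ.{u}) (hS : Setup I J) (g : A) (hg : LocFS J g) :
    Module.Projective (Localization.Away (Ideal.Quotient.mk I g))
      (Localization.Away (Ideal.Quotient.mk I g) ⊗[A] (B ⧸ Q A J)) := by
  set S := Localization.Away (Ideal.Quotient.mk I g) with hSdef
  refine Module.Projective.of_lifting_property'' fun p hp => ?_
  let D₀ : B →ₗ[A] S ⊗[A] (B ⧸ Q A J) := (TensorProduct.mk A S (B ⧸ Q A J) 1) ∘ₗ (Q A J).mkQ
  have hD₀ : Q A J ≤ LinearMap.ker D₀ := by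
    intro x hx
    rw [LinearMap.mem_ker]
    show (TensorProduct.mk A S (B ⧸ Q A J) 1) ((Q A J).mkQ x) = 0
    rw [Submodule.mkQ_apply, (Submodule.Quotient.mk_eq_zero _).mpr hx, map_zero]
  obtain ⟨D₁, hD₁Q, hD₁⟩ := hTSZ A B I J hS g hg _ _ p hp D₀ hD₀
  refine ⟨((Q A J).liftQ D₁ hD₁Q).liftBaseChange S, ?_⟩
  rw [LinearMap.liftBaseChange_comp]
  ext b
  simp only [AlgebraTensorModule.curry_apply, curry_apply,
    LinearMap.coe_restrictScalars, LinearMap.liftBaseChange_tmul, LinearMap.coe_comp,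
    Function.comp_apply, Submodule.mkQ_apply, Submodule.liftQ_apply, one_smul, LinearMap.id_coe,
    id_eq]
  exact hD₁ b

/-- the module of differentials is projective. -/
lemma globProj (hLP : PkgLP.{u}) (hTSZ : PkgTSZ.{u}) (hS : Setup I J) (s : Set A)
    (hs : Ideal.span s = ⊤) (hloc : ∀ g ∈ s, LocFS J g) :
    Module.Projective (A ⧸ I) ((A ⧸ I) ⊗[A] (B ⧸ Q A J)) := by
  refine hLP (A ⧸ I) _ (Ideal.Quotient.mk I '' s) ?_ ?_
  · rw [← Ideal.map_span, hs, Ideal.map_top]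
  · rintro _ ⟨g, hg, rfl⟩
    haveI := locProj hTSZ hS g (hloc g hg)
    exact Module.Projective.of_equiv
      (AlgebraTensorModule.cancelBaseChange A (A ⧸ I)
        (Localization.Away (Ideal.Quotient.mk I g))
        (Localization.Away (Ideal.Quotient.mk I g)) (B ⧸ Q A J)).symm

/-- lifting of "derivations" along surjections of `A`-modules killed by `I`. -/
lemma lift_of_proj (hproj : Module.Projective (A ⧸ I) ((A ⧸ I) ⊗[A] (B ⧸ Q A J)))
    {N' N : Type u} [AddCommGroup N'] [AddCommGroup N] [Module A N'] [Module A N]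
    (hN' : ∀ a ∈ I, ∀ n : N', a • n = 0) (hN : ∀ a ∈ I, ∀ n : N, a • n = 0)
    (p : N' →ₗ[A] N) (hp : Function.Surjective p) (D : B →ₗ[A] N)
    (hD : Q A J ≤ LinearMap.ker D) :
    ∃ D' : B →ₗ[A] N', Q A J ≤ LinearMap.ker D' ∧ ∀ b, p (D' b) = D b := by
  have tN' : Module.IsTorsionBySet A N' (I : Set A) := fun n a => hN' a.1 a.2 n
  have tN : Module.IsTorsionBySet A N (I : Set A) := fun n a => hN a.1 a.2 n
  letI : Module (A ⧸ I) N' := tN'.module
  letI : Module (A ⧸ I) N := tN.module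
  haveI : IsScalarTower A (A ⧸ I) N' := tN'.isScalarTower
  haveI : IsScalarTower A (A ⧸ I) N := tN.isScalarTower
  have hsurj : Function.Surjective (algebraMap A (A ⧸ I)) := Ideal.Quotient.mk_surjective
  let p' : N' →ₗ[A ⧸ I] N := LinearMap.extendScalarsOfSurjective hsurj p
  let Dt : (A ⧸ I) ⊗[A] (B ⧸ Q A J) →ₗ[A ⧸ I] N := ((Q A J).liftQ D hD).liftBaseChange (A ⧸ I)
  obtain ⟨E, hE⟩ := Module.projective_lifting_property p' Dt hp
  refine ⟨(E.restrictScalars A) ∘ₗ (TensorProduct.mk A (A ⧸ I) (B ⧸ Q A J) 1) ∘ₗ (Q A J).mkQ,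
    ?_, ?_⟩
  · intro x hx
    rw [LinearMap.mem_ker, LinearMap.comp_apply, LinearMap.comp_apply, Submodule.mkQ_apply,
      (Submodule.Quotient.mk_eq_zero _).mpr hx, map_zero, map_zero]
  · intro b
    have := congr($hE (1 ⊗ₜ[A] (Q A J).mkQ b))
    simpa [p', Dt] using this

section lifts
variable {R : Type u} [CommRing R] [Algebra A R]

lemma map_sq_eq_bot (hI : I ^ 2 = ⊥) : (I.map (algebraMap A R)) ^ 2 = ⊥ := by
  rw [← Ideal.map_pow, hI, Ideal.map_bot]

lemma mul_eq_zero_of_mem_map (hI : I ^ 2 = ⊥) {x y : R} (hx : x ∈ I.map (algebraMap A R))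
    (hy : y ∈ I.map (algebraMap A R)) : x * y = 0 := by
  have := Ideal.mul_mem_mul hx hy
  rwa [← pow_two, map_sq_eq_bot hI, Ideal.mem_bot] at this

lemma IsLift.sub_mem {ψ : B →ₐ[A] R} (hψ : IsLift I J ψ) {x : B} {y : A}
    (hxy : x - algebraMap A B y ∈ J) : ψ x - algebraMap A R y ∈ I.map (algebraMap A R) := by
  have := hψ _ hxy
  rwa [map_sub, AlgHom.commutes] at this

lemma IsLift.comp {R' : Type u} [CommRing R'] [Algebra A R'] {ψ : B →ₐ[A] R}
    (hψ : IsLift I J ψ) (φ : R →ₐ[A] R') : IsLift I J (φ.comp ψ) := by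
  intro b hb
  have h1 : φ (ψ b) ∈ (I.map (algebraMap A R)).map (φ : R →+* R') :=
    Ideal.mem_map_of_mem _ (hψ b hb)
  rw [Ideal.map_map] at h1
  have h2 : (φ : R →+* R').comp (algebraMap A R) = algebraMap A R' := φ.comp_algebraMap
  rw [h2] at h1
  exact h1

/-- the difference of two lifts is a "derivation" with values in `I R`. -/
lemma IsLift.sub (hS : Setup I J) {ψ₁ ψ₂ : B →ₐ[A] R} (h₁ : IsLift I J ψ₁) (h₂ : IsLift I J ψ₂) :
    (∀ x, (ψ₁.toLinearMap - ψ₂.toLinearMap) x ∈ I.map (algebraMap A R)) ∧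
      Q A J ≤ LinearMap.ker (ψ₁.toLinearMap - ψ₂.toLinearMap) := by
  constructor
  · intro x
    obtain ⟨y, hy⟩ := hS.surj x
    have : (ψ₁.toLinearMap - ψ₂.toLinearMap) x =
        (ψ₁ x - algebraMap A R y) - (ψ₂ x - algebraMap A R y) := by
      simp
    rw [this]
    exact Ideal.sub_mem _ (h₁.sub_mem hy) (h₂.sub_mem hy)
  · refine sup_le ?_ ?_
    · rintro _ ⟨y, rfl⟩
      simp
    · intro z hz
      have hz' : z ∈ J * J := hz
      rw [LinearMap.mem_ker]
      refine Submodule.mul_induction_on hz' ?_ ?_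
      · intro m hm n hn
        have e1 := mul_eq_zero_of_mem_map hS.sq (h₁ m hm) (h₁ n hn)
        have e2 := mul_eq_zero_of_mem_map hS.sq (h₂ m hm) (h₂ n hn)
        simp [e1, e2]
      · intro x y hx hy
        rw [map_add, hx, hy, add_zero]

/-- Leibniz rule for a "derivation" with values in `I R`, with respect to a lift. -/
lemma leibniz_of_lift (hS : Setup I J) {ψ : B →ₐ[A] R} (hψ : IsLift I J ψ) (δ : B →ₗ[A] R)
    (hδK : ∀ x, δ x ∈ I.map (algebraMap A R)) (hδQ : Q A J ≤ LinearMap.ker δ) (x y : B) :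
    δ (x * y) = ψ x * δ y + ψ y * δ x := by
  have hδA : ∀ a : A, δ (algebraMap A B a) = 0 := fun a =>
    LinearMap.mem_ker.mp (hδQ (Submodule.mem_sup_left ⟨a, rfl⟩))
  have hδJJ : ∀ j ∈ J, ∀ j' ∈ J, δ (j * j') = 0 := fun j hj j' hj' =>
    LinearMap.mem_ker.mp (hδQ (Submodule.mem_sup_right (Ideal.mul_mem_mul hj hj')))
  obtain ⟨a, ha⟩ := hS.surj x
  obtain ⟨a', ha'⟩ := hS.surj y
  set j := x - algebraMap A B a with hj
  set j' := y - algebraMap A B a' with hj'
  have hx : x = algebraMap A B a + j := by rw [hj]; ring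
  have hy : y = algebraMap A B a' + j' := by rw [hj']; ring
  have hxy : x * y = algebraMap A B (a * a') + (a • j' + a' • j) + j * j' := by
    rw [hx, hy, map_mul, Algebra.smul_def, Algebra.smul_def]; ring
  have hδx : δ x = δ j := by rw [hx, map_add, hδA, zero_add]
  have hδy : δ y = δ j' := by rw [hy, map_add, hδA, zero_add]
  have hψx : ψ x = algebraMap A R a + ψ j := by rw [hx, map_add, AlgHom.commutes]
  have hψy : ψ y = algebraMap A R a' + ψ j' := by rw [hy, map_add, AlgHom.commutes]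
  have z1 : ψ j * δ j' = 0 := mul_eq_zero_of_mem_map hS.sq (hψ j ha) (hδK j')
  have z2 : ψ j' * δ j = 0 := mul_eq_zero_of_mem_map hS.sq (hψ j' ha') (hδK j)
  rw [hxy, map_add, map_add, hδA, hδJJ j ha j' ha', map_add, map_smul, map_smul, hδx, hδy,
    hψx, hψy, add_mul, add_mul, z1, z2, Algebra.smul_def, Algebra.smul_def]
  ring

/-- a lift may be modified by a "derivation" with values in `I R`. -/
lemma IsLift.modify (hS : Setup I J) {ψ : B →ₐ[A] R} (hψ : IsLift I J ψ) (δ : B →ₗ[A] R)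
    (hδK : ∀ x, δ x ∈ I.map (algebraMap A R)) (hδQ : Q A J ≤ LinearMap.ker δ) :
    ∃ ψ' : B →ₐ[A] R, IsLift I J ψ' ∧ ∀ x, ψ' x = ψ x - δ x := by
  have hδ1 : δ 1 = 0 := by
    have := LinearMap.mem_ker.mp (hδQ (Submodule.mem_sup_left ⟨1, rfl⟩))
    simpa using this
  refine ⟨AlgHom.ofLinearMap (ψ.toLinearMap - δ) ?_ ?_, ?_, fun x => rfl⟩
  · simp [hδ1]
  · intro x y
    have hL := leibniz_of_lift hS hψ δ hδK hδQ x y
    have z : δ x * δ y = 0 := mul_eq_zero_of_mem_map hS.sq (hδK x) (hδK y)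
    simp only [LinearMap.sub_apply, AlgHom.toLinearMap_apply, map_mul, hL]
    linear_combination (-1 : R) * z
  · intro b hb
    exact Ideal.sub_mem _ (hψ b hb) (hδK b)

lemma map_mem_map {R' : Type u} [CommRing R'] [Algebra A R'] (φ : R →ₐ[A] R') {x : R}
    (hx : x ∈ I.map (algebraMap A R)) : φ x ∈ I.map (algebraMap A R') := by
  have h1 : φ x ∈ (I.map (algebraMap A R)).map (φ : R →+* R') := Ideal.mem_map_of_mem _ hx
  rw [Ideal.map_map] at h1
  have h2 : (φ : R →+* R').comp (algebraMap A R) = algebraMap A R' := φ.comp_algebraMap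
  rw [h2] at h1
  exact h1

end lifts

set_option maxHeartbeats 1600000 in
/-- abstract gluing of two lifts along a "two element cover". -/
theorem glue_two (hS : Setup I J)
    (hproj : Module.Projective (A ⧸ I) ((A ⧸ I) ⊗[A] (B ⧸ Q A J)))
    {R R₁ R₂ R₁₂ : Type u} [CommRing R] [CommRing R₁] [CommRing R₂] [CommRing R₁₂]
    [Algebra A R] [Algebra A R₁] [Algebra A R₂] [Algebra A R₁₂]
    (ι₁ : R →ₐ[A] R₁) (ι₂ : R →ₐ[A] R₂) (κ₁ : R₁ →ₐ[A] R₁₂) (κ₂ : R₂ →ₐ[A] R₁₂)
    (hE : ∀ x y, κ₁ x = κ₂ y → ∃ z, ι₁ z = x ∧ ι₂ z = y)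
    (hE0 : ∀ z, ι₁ z = 0 → ι₂ z = 0 → z = 0)
    (hSj : ∀ w ∈ I.map (algebraMap A R₁₂), ∃ x ∈ I.map (algebraMap A R₁),
      ∃ y ∈ I.map (algebraMap A R₂), w = κ₁ x - κ₂ y)
    (hE1 : ∀ z, ι₁ z ∈ I.map (algebraMap A R₁) → ι₂ z ∈ I.map (algebraMap A R₂) →
      z ∈ I.map (algebraMap A R))
    {ψ₁ : B →ₐ[A] R₁} {ψ₂ : B →ₐ[A] R₂} (h₁ : IsLift I J ψ₁) (h₂ : IsLift I J ψ₂) :
    ∃ ψ : B →ₐ[A] R, IsLift I J ψ := by
  set K₁ : Submodule A R₁ := (I.map (algebraMap A R₁)).restrictScalars A with hK₁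
  set K₂ : Submodule A R₂ := (I.map (algebraMap A R₂)).restrictScalars A with hK₂
  set K₁₂ : Submodule A R₁₂ := (I.map (algebraMap A R₁₂)).restrictScalars A with hK₁₂
  have hκ₁ : ∀ x ∈ K₁, κ₁.toLinearMap x ∈ K₁₂ := fun x hx => map_mem_map κ₁ hx
  have hκ₂ : ∀ x ∈ K₂, κ₂.toLinearMap x ∈ K₁₂ := fun x hx => map_mem_map κ₂ hx
  let p : (K₁ × K₂) →ₗ[A] K₁₂ :=
    (κ₁.toLinearMap.restrict hκ₁).comp (LinearMap.fst A K₁ K₂) -
      (κ₂.toLinearMap.restrict hκ₂).comp (LinearMap.snd A K₁ K₂)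
  have hp : Function.Surjective p := by
    rintro ⟨w, hw⟩
    obtain ⟨x, hx, y, hy, hxy⟩ := hSj w hw
    refine ⟨(⟨x, hx⟩, ⟨y, hy⟩), Subtype.ext ?_⟩
    simp [p, hxy]
  have hN' : ∀ a ∈ I, ∀ n : K₁ × K₂, a • n = 0 := by
    intro a ha n
    refine Prod.ext (Subtype.ext ?_) (Subtype.ext ?_)
    · show a • (n.1 : R₁) = 0
      rw [Algebra.smul_def]
      exact mul_eq_zero_of_mem_map hS.sq (Ideal.mem_map_of_mem _ ha) n.1.2
    · show a • (n.2 : R₂) = 0
      rw [Algebra.smul_def]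
      exact mul_eq_zero_of_mem_map hS.sq (Ideal.mem_map_of_mem _ ha) n.2.2
  have hN : ∀ a ∈ I, ∀ n : K₁₂, a • n = 0 := by
    intro a ha n
    refine Subtype.ext ?_
    show a • (n : R₁₂) = 0
    rw [Algebra.smul_def]
    exact mul_eq_zero_of_mem_map hS.sq (Ideal.mem_map_of_mem _ ha) n.2
  obtain ⟨hδK, hδQ⟩ := IsLift.sub hS (h₁.comp κ₁) (h₂.comp κ₂)
  set δ := (κ₁.comp ψ₁).toLinearMap - (κ₂.comp ψ₂).toLinearMap with hδ
  let δ' : B →ₗ[A] K₁₂ := LinearMap.codRestrict K₁₂ δ hδK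
  have hδ'Q : Q A J ≤ LinearMap.ker δ' := by
    intro x hx
    rw [LinearMap.mem_ker]
    exact Subtype.ext (LinearMap.mem_ker.mp (hδQ hx))
  obtain ⟨D', hD'Q, hD'⟩ := lift_of_proj hproj hN' hN p hp δ' hδ'Q
  let δ₁ : B →ₗ[A] R₁ := K₁.subtype ∘ₗ (LinearMap.fst A K₁ K₂) ∘ₗ D'
  let δ₂ : B →ₗ[A] R₂ := K₂.subtype ∘ₗ (LinearMap.snd A K₁ K₂) ∘ₗ D'
  have hδ₁K : ∀ x, δ₁ x ∈ I.map (algebraMap A R₁) := fun x => (D' x).1.2
  have hδ₂K : ∀ x, δ₂ x ∈ I.map (algebraMap A R₂) := fun x => (D' x).2.2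
  have hδ₁Q : Q A J ≤ LinearMap.ker δ₁ := by
    intro x hx
    have := LinearMap.mem_ker.mp (hD'Q hx)
    rw [LinearMap.mem_ker]
    simp [δ₁, this]
  have hδ₂Q : Q A J ≤ LinearMap.ker δ₂ := by
    intro x hx
    have := LinearMap.mem_ker.mp (hD'Q hx)
    rw [LinearMap.mem_ker]
    simp [δ₂, this]
  obtain ⟨ψ₁', hψ₁', e₁⟩ := h₁.modify hS δ₁ hδ₁K hδ₁Q
  obtain ⟨ψ₂', hψ₂', e₂⟩ := h₂.modify hS δ₂ hδ₂K hδ₂Q
  have hagree : ∀ x, κ₁ (ψ₁' x) = κ₂ (ψ₂' x) := by
    intro x
    have h := congrArg Subtype.val (hD' x)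
    have h' : κ₁ (δ₁ x) - κ₂ (δ₂ x) = κ₁ (ψ₁ x) - κ₂ (ψ₂ x) := by
      simpa [p, δ', δ, δ₁, δ₂] using h
    rw [e₁, e₂, map_sub, map_sub]
    linear_combination h'.symm
  let ι : R →ₐ[A] R₁ × R₂ := ι₁.prod ι₂
  have hinj : Function.Injective ι := by
    rw [injective_iff_map_eq_zero]
    intro z hz
    have h1 : ι₁ z = 0 := congrArg Prod.fst hz
    have h2 : ι₂ z = 0 := congrArg Prod.snd hz
    exact hE0 z h1 h2
  let F : B →ₐ[A] R₁ × R₂ := ψ₁'.prod ψ₂'
  have hrange : ∀ x, F x ∈ ι.range := by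
    intro x
    obtain ⟨z, hz1, hz2⟩ := hE _ _ (hagree x)
    exact ⟨z, Prod.ext hz1 hz2⟩
  let e := AlgEquiv.ofInjective ι hinj
  let ψ : B →ₐ[A] R := (e.symm : ι.range →ₐ[A] R).comp (F.codRestrict ι.range hrange)
  have key : ∀ x, ι (ψ x) = F x := by
    intro x
    have := congrArg Subtype.val (e.apply_symm_apply (F.codRestrict ι.range hrange x))
    exact this
  refine ⟨ψ, fun x hx => hE1 _ ?_ ?_⟩
  · have : ι₁ (ψ x) = ψ₁' x := congrArg Prod.fst (key x)
    rw [this]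
    exact hψ₁' x hx
  · have : ι₂ (ψ x) = ψ₂' x := congrArg Prod.snd (key x)
    rw [this]
    exact hψ₂' x hx

/-! ## The ideal of elements over which a lift exists -/

/-- a lift exists over `D(g)`. -/
def HasLift (I : Ideal A) (J : Ideal B) (g : A) : Prop :=
  ∃ ψ : B →ₐ[A] Localization.Away g, IsLift I J ψ

/-- the `A`-algebra map out of `A_g` to an `A`-algebra in which `g` is invertible. -/
noncomputable def awayLiftAlg (g : A) {R : Type u} [CommRing R] [Algebra A R]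
    (hg : IsUnit (algebraMap A R g)) : Localization.Away g →ₐ[A] R :=
  IsLocalization.liftAlgHom (M := Submonoid.powers g) (f := Algebra.ofId A R) (by
    rintro ⟨_, n, rfl⟩
    simpa using hg.pow n)

lemma HasLift.of_isUnit {g : A} (hg : HasLift I J g) {R : Type u} [CommRing R] [Algebra A R]
    (hu : IsUnit (algebraMap A R g)) : ∃ ψ : B →ₐ[A] R, IsLift I J ψ := by
  obtain ⟨ψ, hψ⟩ := hg
  exact ⟨(awayLiftAlg g hu).comp ψ, hψ.comp _⟩

lemma hasLift_zero : HasLift I J (0 : A) := by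
  haveI : Subsingleton (Localization.Away (0 : A)) :=
    IsLocalization.subsingleton (M := Submonoid.powers (0 : A)) ⟨1, by simp⟩
  refine ⟨AlgHom.ofLinearMap 0 (Subsingleton.elim _ _) (fun _ _ => Subsingleton.elim _ _), ?_⟩
  intro b _
  rw [Subsingleton.elim (AlgHom.ofLinearMap 0 _ _ b) 0]
  exact Ideal.zero_mem _

lemma HasLift.mul {g : A} (hg : HasLift I J g) (c : A) : HasLift I J (c * g) := by
  refine hg.of_isUnit ?_
  exact isUnit_of_dvd_unit (map_dvd _ (dvd_mul_left g c))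
    (IsLocalization.Away.algebraMap_isUnit (c * g))

set_option maxHeartbeats 1600000 in
lemma HasLift.add (hG : PkgG.{u}) (hS : Setup I J)
    (hproj : Module.Projective (A ⧸ I) ((A ⧸ I) ⊗[A] (B ⧸ Q A J))) {g h : A}
    (hg : HasLift I J g) (hh : HasLift I J h) : HasLift I J (g + h) := by
  set R := Localization.Away (g + h) with hR
  set g' : R := algebraMap A R g with hg'
  set h' : R := algebraMap A R h with hh'
  have hunit : IsUnit (g' + h') := by
    rw [hg', hh', ← map_add]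
    exact IsLocalization.Away.algebraMap_isUnit (g + h)
  have hspan : Ideal.span {g', h'} = ⊤ :=
    Ideal.eq_top_of_isUnit_mem _ (Ideal.add_mem _ (Ideal.subset_span (by simp))
      (Ideal.subset_span (by simp))) hunit
  obtain ⟨hE, hE0, hSj, hE1⟩ := hG R g' h' hspan
  let ι₁ : R →ₐ[A] Localization.Away g' := IsScalarTower.toAlgHom A R _
  let ι₂ : R →ₐ[A] Localization.Away h' := IsScalarTower.toAlgHom A R _
  let κ₁ : Localization.Away g' →ₐ[A] Localization.Away (g' * h') :=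
    { toRingHom := IsLocalization.Away.awayToAwayRight (S := Localization.Away g')
        (P := Localization.Away (g' * h')) g' h'
      commutes' := fun a => by
        show IsLocalization.Away.awayToAwayRight (S := Localization.Away g')
          (P := Localization.Away (g' * h')) g' h' (algebraMap A (Localization.Away g') a) = _
        rw [IsScalarTower.algebraMap_apply A R (Localization.Away g'),
          IsLocalization.Away.awayToAwayRight_eq, ← IsScalarTower.algebraMap_apply] }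
  let κ₂ : Localization.Away h' →ₐ[A] Localization.Away (g' * h') :=
    { toRingHom := IsLocalization.Away.awayToAwayLeft (S := Localization.Away h')
        (P := Localization.Away (g' * h')) h' g'
      commutes' := fun a => by
        show IsLocalization.Away.awayToAwayLeft (S := Localization.Away h')
          (P := Localization.Away (g' * h')) h' g' (algebraMap A (Localization.Away h') a) = _
        rw [IsScalarTower.algebraMap_apply A R (Localization.Away h'),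
          IsLocalization.Away.awayToAwayLeft_eq, ← IsScalarTower.algebraMap_apply] }
  have hmap : ∀ (T : Type u) [CommRing T] [Algebra A T] [Algebra R T] [IsScalarTower A R T],
      I.map (algebraMap A T) = (I.map (algebraMap A R)).map (algebraMap R T) := by
    intro T _ _ _ _
    rw [Ideal.map_map, ← IsScalarTower.algebraMap_eq]
  obtain ⟨ψ₁, hψ₁⟩ := hg.of_isUnit (R := Localization.Away g') (by
    rw [IsScalarTower.algebraMap_apply A R (Localization.Away g')]
    exact IsLocalization.Away.algebraMap_isUnit g')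
  obtain ⟨ψ₂, hψ₂⟩ := hh.of_isUnit (R := Localization.Away h') (by
    rw [IsScalarTower.algebraMap_apply A R (Localization.Away h')]
    exact IsLocalization.Away.algebraMap_isUnit h')
  refine glue_two hS hproj ι₁ ι₂ κ₁ κ₂ (fun x y hxy => hE x y hxy) (fun z h1 h2 => hE0 z h1 h2)
    ?_ ?_ hψ₁ hψ₂
  · intro w hw
    rw [hmap] at hw
    obtain ⟨x, hx, y, hy, hxy⟩ := hSj _ w hw
    refine ⟨x, ?_, y, ?_, hxy⟩
    · rw [hmap]; exact hx
    · rw [hmap]; exact hy
  · intro z h1 h2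
    rw [hmap] at h1 h2
    exact hE1 _ z h1 h2

/-- local formal smoothness gives a local lift. -/
lemma hasLift_of_locFS (hS : Setup I J) {g : A} (hg : LocFS J g) : HasLift I J g := by
  set R' := Localization.Away g with hR'
  set K : Ideal R' := I.map (algebraMap A R') with hK
  let σ : A ⧸ I →ₐ[A] B ⧸ J := Ideal.quotientMapₐ J (Algebra.ofId A B) (fun x hx => by
    have : x ∈ J.comap (algebraMap A B) := hS.comap ▸ hx
    exact this)
  have hσ : ∀ a : A, σ (Ideal.Quotient.mk I a) = Ideal.Quotient.mk J (algebraMap A B a) :=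
    fun a => rfl
  have hinj : Function.Injective σ := by
    rw [injective_iff_map_eq_zero]
    intro x hx
    obtain ⟨a, rfl⟩ := Ideal.Quotient.mk_surjective x
    rw [hσ, Ideal.Quotient.eq_zero_iff_mem] at hx
    rw [Ideal.Quotient.eq_zero_iff_mem, hS.comap]
    exact hx
  have hsurj : Function.Surjective σ := by
    intro y
    obtain ⟨b, rfl⟩ := Ideal.Quotient.mk_surjective y
    obtain ⟨a, ha⟩ := hS.surj b
    refine ⟨Ideal.Quotient.mk I a, ?_⟩
    rw [hσ]
    exact (Ideal.Quotient.eq.mpr ha).symm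
  let e : (A ⧸ I) ≃ₐ[A] (B ⧸ J) := AlgEquiv.ofBijective σ ⟨hinj, hsurj⟩
  let ρ : B →ₐ[A] A ⧸ I := (e.symm : B ⧸ J →ₐ[A] A ⧸ I).comp (Ideal.Quotient.mkₐ A J)
  have hρ : ∀ b ∈ J, ρ b = 0 := by
    intro b hb
    show e.symm (Ideal.Quotient.mk J b) = 0
    rw [Ideal.Quotient.eq_zero_iff_mem.mpr hb, map_zero]
  let τ : A ⧸ I →ₐ[A] R' ⧸ K := Ideal.quotientMapₐ K (Algebra.ofId A R')
    (fun a ha => Ideal.mem_map_of_mem _ ha)
  let ψ₀ : B →ₐ[A] R' ⧸ K := τ.comp ρ
  have hψ₀ : ∀ b ∈ J, (AlgHom.id A (R' ⧸ K)) (ψ₀ b) = 0 := by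
    intro b hb
    show τ (ρ b) = 0
    rw [hρ b hb, map_zero]
  have hker : RingHom.ker (((AlgHom.id A (R' ⧸ K)).comp (Ideal.Quotient.mkₐ A K) :
      R' →ₐ[A] R' ⧸ K) : R' →+* R' ⧸ K) ^ 2 = ⊥ := by
    have : (((AlgHom.id A (R' ⧸ K)).comp (Ideal.Quotient.mkₐ A K) :
      R' →ₐ[A] R' ⧸ K) : R' →+* R' ⧸ K) = Ideal.Quotient.mk K := rfl
    rw [this, Ideal.mk_ker]
    exact map_sq_eq_bot hS.sq
  obtain ⟨ψ', hψ'⟩ := hg R' (R' ⧸ K) (R' ⧸ K) (Ideal.Quotient.mkₐ A K) (AlgHom.id A _)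
    Ideal.Quotient.mk_surjective Function.surjective_id hker
    (IsLocalization.Away.algebraMap_isUnit g) ψ₀ hψ₀
  refine ⟨ψ', fun b hb => ?_⟩
  have h1 : Ideal.Quotient.mk K (ψ' b) = ψ₀ b := congr($hψ' b)
  have h2 : ψ₀ b = 0 := hψ₀ b hb
  rw [h2] at h1
  exact Ideal.Quotient.eq_zero_iff_mem.mp h1

/-- **Ring-level gluing theorem** from the three packages. -/
theorem ringGlue (hLP : PkgLP.{u}) (hG : PkgG.{u}) (hTSZ : PkgTSZ.{u}) : RingGlue.{u} := by
  intro A B _ _ _ I J hS s hs hloc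
  have hproj := globProj hLP hTSZ hS s hs hloc
  let L : Ideal A :=
    { carrier := {g | HasLift I J g}
      add_mem' := fun hg hh => HasLift.add hG hS hproj hg hh
      zero_mem' := hasLift_zero
      smul_mem' := fun c g hg => by
        show HasLift I J (c • g)
        rw [smul_eq_mul]
        exact HasLift.mul hg c }
  have hsL : s ⊆ L := fun g hg => hasLift_of_locFS hS (hloc g hg)
  have hL : L = ⊤ := top_le_iff.mp (hs ▸ Ideal.span_le.mpr hsL)
  have h1 : HasLift I J (1 : A) := by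
    have : (1 : A) ∈ L := hL ▸ Submodule.mem_top
    exact this
  obtain ⟨ψ, hψ⟩ := h1.of_isUnit (R := A) (by simp)
  refine ⟨ψ, fun b hb => ?_⟩
  have := hψ b hb
  rwa [Algebra.algebraMap_self, Ideal.map_id] at this

end Groth.Agent.R2.H74.FSm
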