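import Mathlib
import Groth.Prelude.Def_MoreMor
import Groth.Agent.S1434
import Groth.Agent.S0440

/-!
# First order neighbourhood of an immersion from an affine scheme (helper74, PROJ:fsm-glue)
-/

set_option autoImplicit false
set_option linter.style.haveILetI false
universe u
open CategoryTheory AlgebraicGeometry Limits

namespace Groth.Agent.R2.H74.FSm

/-- For an immersion `s : T₀ ⟶ P` from an affine scheme there is an affine scheme `Z'` with a
monomorphism `h' : Z' ⟶ P` through which `s` factors by a surjective closed immersion `j₀`, and such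
that every `β : S ⟶ P` which restricts along a first order thickening `t : S₀ ⟶ S` to a morphism
factoring through `s` factors through `h'` (the first order infinitesimal neighbourhood). -/
theorem exists_firstOrderNbhd {T₀ P : Scheme.{u}} (s : T₀ ⟶ P) [IsImmersion s] [IsAffine T₀] :
    ∃ (Z' : Scheme.{u}) (h' : Z' ⟶ P) (j₀ : T₀ ⟶ Z'), IsAffine Z' ∧ Mono h' ∧
      IsClosedImmersion j₀ ∧ j₀ ≫ h' = s ∧
      ∀ (S₀ S : Scheme.{u}) (t : S₀ ⟶ S), MoreMor.IsFirstOrderThickening t →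
        ∀ (a₁ : S₀ ⟶ T₀) (β : S ⟶ P), t ≫ β = a₁ ≫ s → ∃ α : S ⟶ Z', α ≫ h' = β := by
  set W := s.coborderRange with hW
  set s' := s.liftCoborder with hs'
  have hs'ι : s' ≫ W.ι = s := s.liftCoborder_ι
  set 𝓘 : (W : Scheme.{u}).IdealSheafData := s'.ker with h𝓘
  have hle : 𝓘 ^ 2 ≤ 𝓘 := by
    intro U
    rw [Scheme.IdealSheafData.ideal_pow]
    exact Ideal.pow_le_self two_ne_zero
  have hker : ((𝓘 ^ 2).subschemeι).ker ≤ s'.ker := by
    rw [Scheme.IdealSheafData.ker_subschemeι]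
    exact hle
  set j₀ := IsClosedImmersion.lift (𝓘 ^ 2).subschemeι s' hker with hj₀
  have hj₀fac : j₀ ≫ (𝓘 ^ 2).subschemeι = s' := IsClosedImmersion.lift_fac _ _ _
  haveI : IsClosedImmersion (j₀ ≫ (𝓘 ^ 2).subschemeι) := by rw [hj₀fac]; infer_instance
  haveI hj₀cl : IsClosedImmersion j₀ := IsClosedImmersion.of_comp j₀ (𝓘 ^ 2).subschemeι
  have hj₀surj : Function.Surjective j₀ := by
    intro z
    have hz : (𝓘 ^ 2).subschemeι z ∈ Set.range s' := by
      have h1 : (𝓘 ^ 2).subschemeι z ∈ ((𝓘 ^ 2).support : Set (W : Scheme.{u})) := by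
        rw [← Scheme.IdealSheafData.range_subschemeι]
        exact ⟨z, rfl⟩
      have h2 : ((𝓘 ^ 2).support : Set (W : Scheme.{u})) = (𝓘.support : Set (W : Scheme.{u})) := by
        simp
      have h3 : (𝓘.support : Set (W : Scheme.{u})) = Set.range s' := by
        rw [Scheme.Hom.support_ker]
        exact s'.isClosedEmbedding.isClosed_range.closure_eq
      rw [h2] at h1
      rw [← h3]
      exact h1
    obtain ⟨y, hy⟩ := hz
    refine ⟨y, ?_⟩
    apply (𝓘 ^ 2).subschemeι.isEmbedding.injective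
    rw [← hy, ← hj₀fac]
    rfl
  haveI : IsAffine (𝓘 ^ 2).subscheme := Groth.Agent.S0440.result j₀ hj₀surj
  refine ⟨(𝓘 ^ 2).subscheme, (𝓘 ^ 2).subschemeι ≫ W.ι, j₀, inferInstance, inferInstance, hj₀cl, ?_, ?_⟩
  · rw [← Category.assoc, hj₀fac, hs'ι]
  · intro S₀ S t ht a₁ β hβ
    obtain ⟨⟨htc, hts⟩, htk⟩ := ht
    have hrange : Set.range β ⊆ Set.range W.ι := by
      rintro _ ⟨x, rfl⟩
      obtain ⟨y, rfl⟩ := hts.surj x
      have h1 : β (t y) = (t ≫ β) y := rfl
      rw [h1, hβ, ← hs'ι]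
      exact ⟨s' (a₁ y), rfl⟩
    have hβW : IsOpenImmersion.lift W.ι β hrange ≫ W.ι = β := IsOpenImmersion.lift_fac _ _ _
    set βW := IsOpenImmersion.lift W.ι β hrange with hβW_def
    have w : (a₁ ≫ s'.toImage) ≫ 𝓘.subschemeι = t ≫ βW := by
      rw [← cancel_mono W.ι, Category.assoc, Category.assoc, Category.assoc, hβW, hβ]
      have : s'.toImage ≫ 𝓘.subschemeι = s' := s'.toImage_imageι
      rw [reassoc_of% this, hs'ι]
    obtain ⟨α, hα, -⟩ := Groth.Agent.S1434.result 𝓘 t ⟨⟨htc, hts⟩, htk⟩ (a₁ ≫ s'.toImage) βW w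
    exact ⟨α, by rw [← Category.assoc, hα, hβW]⟩

end Groth.Agent.R2.H74.FSm
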