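import Mathlib
import Groth.Prelude.Def_MoreMor
import Groth.Agent.R2.H74FSmSpec
import Groth.Agent.R2.H74FSmNbhd
import Groth.Agent.Lib.Helper18UT4

/-!
# Gluing local infinitesimal lifts: the scheme side (helper74, PROJ:fsm-glue)
-/

set_option autoImplicit false
set_option linter.style.haveILetI false
universe u
open CategoryTheory AlgebraicGeometry Limits
open Groth.Agent.Helper18UT (toAff toAff_injective toAff_surjective toAff_comp map_toAff
  isFirstOrderThickening_SpecMap)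

namespace Groth.Agent.R2.H74.FSm

/-! ## Generalities on morphisms from affine schemes -/

lemma toAff_comp_toSpec {Z' : Scheme.{u}} [IsAffine Z'] {A R : CommRingCat.{u}}
    (π' : Z' ⟶ Spec A) (χ : Γ(Z', ⊤) ⟶ R) :
    toAff Z' χ ≫ π' = Spec.map ((Scheme.ΓSpecIso A).inv ≫ π'.appTop ≫ χ) := by
  rw [toAff_comp]
  unfold toAff
  rw [Scheme.isoSpec_Spec_inv, ← Spec.map_comp]

lemma eq_toAff {W : Scheme.{u}} [IsAffine W] {R : CommRingCat.{u}} (m : Spec R ⟶ W) :
    m = toAff W (m.appTop ≫ (Scheme.ΓSpecIso R).hom) := by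
  unfold toAff
  rw [Spec.map_comp, ← Scheme.isoSpec_Spec_hom, Category.assoc,
    Scheme.isoSpec_hom_naturality_assoc, Iso.hom_inv_id, Category.comp_id]

/-- lifting against a surjection of rings with square zero kernel (not necessarily a quotient map). -/
lemma lift_of_surj {X Y : Scheme.{u}} {f : X ⟶ Y} (hf : MoreMor.IsFormallySmoothHom f)
    {R' R'' : Type u} [CommRing R'] [CommRing R''] (q : R' →+* R'') (hq : Function.Surjective q)
    (hk : RingHom.ker q ^ 2 = ⊥) (a : Spec (CommRingCat.of R'') ⟶ X)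
    (b : Spec (CommRingCat.of R') ⟶ Y) (hab : Spec.map (CommRingCat.ofHom q) ≫ b = a ≫ f) :
    ∃ l : Spec (CommRingCat.of R') ⟶ X, Spec.map (CommRingCat.ofHom q) ≫ l = a ∧ l ≫ f = b := by
  let e : (R' ⧸ RingHom.ker q) ≃+* R'' := RingHom.quotientKerEquivOfSurjective hq
  have he : (e : (R' ⧸ RingHom.ker q) →+* R'').comp (Ideal.Quotient.mk (RingHom.ker q)) = q := by
    ext x; rfl
  have he' : CommRingCat.ofHom q = CommRingCat.ofHom (Ideal.Quotient.mk (RingHom.ker q)) ≫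
      CommRingCat.ofHom (e : (R' ⧸ RingHom.ker q) →+* R'') := by
    rw [← CommRingCat.ofHom_comp, he]
  have hes : CommRingCat.ofHom (e : (R' ⧸ RingHom.ker q) →+* R'') ≫
      CommRingCat.ofHom (e.symm : R'' →+* (R' ⧸ RingHom.ker q)) = 𝟙 _ := by
    ext x; simp
  have hse : CommRingCat.ofHom (e.symm : R'' →+* (R' ⧸ RingHom.ker q)) ≫
      CommRingCat.ofHom (e : (R' ⧸ RingHom.ker q) →+* R'') = 𝟙 _ := by
    ext x; simp
  obtain ⟨l, hl1, hl2⟩ := hf R' (RingHom.ker q) hk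
    (Spec.map (CommRingCat.ofHom (e.symm : R'' →+* (R' ⧸ RingHom.ker q))) ≫ a) b (by
      rw [Category.assoc, ← hab, ← Category.assoc, ← Spec.map_comp, he', Category.assoc, hes,
        Category.comp_id])
  refine ⟨l, ?_, hl2⟩
  rw [he', Spec.map_comp, Category.assoc, hl1, ← Category.assoc, ← Spec.map_comp, hse,
    Spec.map_id, Category.id_comp]

/-- `Spec` of a surjection whose kernel consists of nilpotents is surjective on points. -/
lemma specMap_surjective_of_ker_le_nilradical {R S : Type u} [CommRing R] [CommRing S]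
    (r : R →+* S) (hr : Function.Surjective r) (hk : RingHom.ker r ≤ nilradical R)
    (x : Spec (CommRingCat.of R)) : ∃ y : Spec (CommRingCat.of S),
      (Spec.map (CommRingCat.ofHom r)) y = x := by
  let x' : PrimeSpectrum R := x
  have hx : x' ∈ Set.range (PrimeSpectrum.comap r) := by
    rw [range_comap_of_surjective _ _ hr, PrimeSpectrum.mem_zeroLocus]
    exact fun y hy => (nilradical_le_prime x'.asIdeal) (hk hy)
  obtain ⟨y, hy⟩ := hx
  exact ⟨y, hy⟩

/-! ## The first order neighbourhood of the graph -/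

/-- The first order neighbourhood `Z'` of the graph of `a : Spec (A ⧸ I) ⟶ X` inside
`X ×_Y Spec A`, with the universal property we need. -/
structure NbhdData {X Y : Scheme.{u}} (f : X ⟶ Y) (A : Type u) [CommRing A] (I : Ideal A)
    (a : Spec (CommRingCat.of (A ⧸ I)) ⟶ X) (b : Spec (CommRingCat.of A) ⟶ Y) where
  Z' : Scheme.{u}
  aff : IsAffine Z'
  h' : Z' ⟶ pullback f b
  mono : Mono h'
  j₀ : Spec (CommRingCat.of (A ⧸ I)) ⟶ Z'
  fac₁ : j₀ ≫ h' ≫ pullback.fst f b = a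
  fac₂ : j₀ ≫ h' ≫ pullback.snd f b = Spec.map (CommRingCat.ofHom (Ideal.Quotient.mk I))
  up : ∀ (S₀ S : Scheme.{u}) (t : S₀ ⟶ S), MoreMor.IsFirstOrderThickening t →
    ∀ (a₁ : S₀ ⟶ Spec (CommRingCat.of (A ⧸ I))) (β : S ⟶ pullback f b),
      t ≫ β ≫ pullback.fst f b = a₁ ≫ a →
      t ≫ β ≫ pullback.snd f b = a₁ ≫ Spec.map (CommRingCat.ofHom (Ideal.Quotient.mk I)) →
      ∃ α : S ⟶ Z', α ≫ h' = β

attribute [instance] NbhdData.aff NbhdData.mono

section
variable {X Y : Scheme.{u}} {f : X ⟶ Y} {A : Type u} [CommRing A] {I : Ideal A}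
  {a : Spec (CommRingCat.of (A ⧸ I)) ⟶ X} {b : Spec (CommRingCat.of A) ⟶ Y}

theorem exists_nbhdData
    (hab : Spec.map (CommRingCat.ofHom (Ideal.Quotient.mk I)) ≫ b = a ≫ f) :
    Nonempty (NbhdData f A I a b) := by
  set i₀ := Spec.map (CommRingCat.ofHom (Ideal.Quotient.mk I)) with hi₀
  let s₀ : Spec (CommRingCat.of (A ⧸ I)) ⟶ pullback f b := pullback.lift a i₀ hab.symm
  have hs₀1 : s₀ ≫ pullback.fst f b = a := pullback.lift_fst _ _ _
  have hs₀2 : s₀ ≫ pullback.snd f b = i₀ := pullback.lift_snd _ _ _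
  haveI : IsClosedImmersion i₀ :=
    IsClosedImmersion.spec_of_surjective _ Ideal.Quotient.mk_surjective
  haveI : IsImmersion (s₀ ≫ pullback.snd f b) := by rw [hs₀2]; infer_instance
  haveI : IsImmersion s₀ := IsImmersion.of_comp s₀ (pullback.snd f b)
  obtain ⟨Z', h', j₀, hZ', hmono, -, hj₀, hUP⟩ := exists_firstOrderNbhd s₀
  refine ⟨⟨Z', hZ', h', hmono, j₀, ?_, ?_, ?_⟩⟩
  · rw [← Category.assoc, hj₀, hs₀1]
  · rw [← Category.assoc, hj₀, hs₀2]
  · intro S₀ S t ht a₁ β h1 h2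
    refine hUP S₀ S t ht a₁ β ?_
    apply pullback.hom_ext
    · rw [Category.assoc, Category.assoc, h1, hs₀1]
    · rw [Category.assoc, Category.assoc, h2, hs₀2]

variable (N : NbhdData f A I a b)

/-- the structure map `A → Γ(Z')`. -/
noncomputable def NbhdData.φ : CommRingCat.of A ⟶ Γ(N.Z', ⊤) :=
  (Scheme.ΓSpecIso (CommRingCat.of A)).inv ≫ (N.h' ≫ pullback.snd f b).appTop

/-- the ideal of `Spec (A ⧸ I)` in `Z'`. -/
noncomputable def NbhdData.J : Ideal Γ(N.Z', ⊤) := RingHom.ker N.j₀.appTop.hom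

lemma NbhdData.φ_comp_j₀ : N.φ ≫ N.j₀.appTop =
    CommRingCat.ofHom (Ideal.Quotient.mk I) ≫
      (Scheme.ΓSpecIso (CommRingCat.of (A ⧸ I))).inv := by
  unfold NbhdData.φ
  rw [Category.assoc, ← Scheme.Hom.comp_appTop, N.fac₂, Scheme.ΓSpecIso_inv_naturality]

lemma NbhdData.j₀_φ_apply (x : A) : N.j₀.appTop.hom (N.φ.hom x) =
    (Scheme.ΓSpecIso (CommRingCat.of (A ⧸ I))).inv.hom (Ideal.Quotient.mk I x) :=
  congr($(N.φ_comp_j₀).hom x)

/-- the `A`-algebra structure on `Γ(Z')`. -/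
@[reducible] noncomputable def NbhdData.algebra : Algebra A Γ(N.Z', ⊤) := N.φ.hom.toAlgebra

lemma NbhdData.algebraMap_eq : letI := N.algebra
    algebraMap A Γ(N.Z', ⊤) = N.φ.hom := rfl

lemma NbhdData.setup (hI : I ^ 2 = ⊥) : letI := N.algebra
    Setup I N.J := by
  letI := N.algebra
  have hinj : Function.Injective (Scheme.ΓSpecIso (CommRingCat.of (A ⧸ I))).inv.hom :=
    (ConcreteCategory.bijective_of_isIso (Scheme.ΓSpecIso (CommRingCat.of (A ⧸ I))).inv).1
  refine ⟨hI, ?_, ?_⟩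
  · ext x
    rw [Ideal.mem_comap, NbhdData.J, RingHom.mem_ker, N.algebraMap_eq, N.j₀_φ_apply,
      map_eq_zero_iff _ hinj, Ideal.Quotient.eq_zero_iff_mem]
  · intro b'
    obtain ⟨x, hx⟩ := Ideal.Quotient.mk_surjective
      ((Scheme.ΓSpecIso (CommRingCat.of (A ⧸ I))).hom.hom (N.j₀.appTop.hom b'))
    refine ⟨x, ?_⟩
    rw [NbhdData.J, RingHom.mem_ker, map_sub, N.algebraMap_eq, N.j₀_φ_apply, hx, sub_eq_zero]
    have := congr($((Scheme.ΓSpecIso (CommRingCat.of (A ⧸ I))).hom_inv_id).hom (N.j₀.appTop.hom b'))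
    exact this.symm

lemma NbhdData.exists_sub_mem (x : Γ(N.Z', ⊤)) : ∃ y : A, x - N.φ.hom y ∈ N.J := by
  obtain ⟨y, hy⟩ := Ideal.Quotient.mk_surjective
    ((Scheme.ΓSpecIso (CommRingCat.of (A ⧸ I))).hom.hom (N.j₀.appTop.hom x))
  refine ⟨y, ?_⟩
  rw [NbhdData.J, RingHom.mem_ker, map_sub, N.j₀_φ_apply, hy, sub_eq_zero]
  have := congr($((Scheme.ΓSpecIso (CommRingCat.of (A ⧸ I))).hom_inv_id).hom (N.j₀.appTop.hom x))
  exact this.symm

lemma NbhdData.toAff_snd {R : CommRingCat.{u}} (χ : Γ(N.Z', ⊤) ⟶ R) :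
    toAff N.Z' χ ≫ N.h' ≫ pullback.snd f b = Spec.map (N.φ ≫ χ) := by
  rw [toAff_comp_toSpec]
  unfold NbhdData.φ
  rw [Category.assoc]

/-- A point of `Z'` which kills `J` modulo `r` restricts along `Spec r` to a point of
`Spec (A ⧸ I)`. -/
lemma NbhdData.restrict_eq {R'' R₀ : CommRingCat.{u}} (χ : Γ(N.Z', ⊤) ⟶ R'') (r : R'' ⟶ R₀)
    (θ : CommRingCat.of (A ⧸ I) ⟶ R₀)
    (hθ : ∀ y : A, θ.hom (Ideal.Quotient.mk I y) = r.hom (χ.hom (N.φ.hom y)))
    (hJ : ∀ x ∈ N.J, r.hom (χ.hom x) = 0) :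
    Spec.map r ≫ toAff N.Z' χ = Spec.map θ ≫ N.j₀ := by
  rw [map_toAff, eq_toAff (Spec.map θ ≫ N.j₀)]
  congr 1
  rw [Scheme.Hom.comp_appTop, Category.assoc, Scheme.ΓSpecIso_naturality]
  ext x
  obtain ⟨y, hy⟩ := N.exists_sub_mem x
  have hx : x = N.φ.hom y + (x - N.φ.hom y) := by ring
  have h0 : N.j₀.appTop.hom (x - N.φ.hom y) = 0 := hy
  have hii := congr($((Scheme.ΓSpecIso (CommRingCat.of (A ⧸ I))).inv_hom_id).hom
    (Ideal.Quotient.mk I y))
  simp only [CommRingCat.hom_comp, RingHom.comp_apply, CommRingCat.hom_id, RingHom.id_apply]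
    at hii ⊢
  conv_lhs => rw [hx, map_add, map_add, hJ _ hy, add_zero, ← hθ]
  conv_rhs => rw [hx, map_add, map_add, map_add, h0, map_zero, map_zero, add_zero,
    N.j₀_φ_apply, hii]

lemma NbhdData.φ_mem_J {y : A} (hy : y ∈ I) : N.φ.hom y ∈ N.J := by
  rw [NbhdData.J, RingHom.mem_ker, N.j₀_φ_apply, Ideal.Quotient.eq_zero_iff_mem.mpr hy, map_zero]

set_option maxHeartbeats 1600000 in
/-- local formal smoothness of `(Γ(Z'), J)` over `D(g)` from a formally smooth chart. -/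
theorem NbhdData.locFS (U : X.Opens) (hU : MoreMor.IsFormallySmoothHom (U.ι ≫ f)) (g : A)
    (hg : ∀ z : PrimeSpectrum (A ⧸ I), Ideal.Quotient.mk I g ∉ z.asIdeal → a z ∈ U) :
    letI := N.algebra
    LocFS N.J g := by
  letI := N.algebra
  intro R' R'' R₀ _ _ _ _ _ _ q r hq hr hker hgu ψ hψ
  set χ : Γ(N.Z', ⊤) ⟶ CommRingCat.of R'' := CommRingCat.ofHom ψ.toRingHom with hχ
  have hχφ : ∀ y : A, χ.hom (N.φ.hom y) = algebraMap A R'' y := fun y => ψ.commutes y
  have hkill : ∀ y ∈ I, algebraMap A R₀ y = 0 := by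
    intro y hy
    have h1 := hψ _ (N.φ_mem_J hy)
    have h2 : ψ (N.φ.hom y) = algebraMap A R'' y := ψ.commutes y
    rw [h2, r.commutes] at h1
    exact h1
  let θ₀ : A ⧸ I →+* R₀ := Ideal.Quotient.lift I (algebraMap A R₀) hkill
  have hθ₀ : ∀ y : A, θ₀ (Ideal.Quotient.mk I y) = algebraMap A R₀ y := fun y =>
    Ideal.Quotient.lift_mk I _ _
  set θ : CommRingCat.of (A ⧸ I) ⟶ CommRingCat.of R₀ := CommRingCat.ofHom θ₀ with hθdef
  set rr : CommRingCat.of R'' ⟶ CommRingCat.of R₀ := CommRingCat.ofHom (r : R'' →+* R₀) with hrr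
  set qq : CommRingCat.of R' ⟶ CommRingCat.of R'' := CommRingCat.ofHom (q : R' →+* R'') with hqq
  have hθ : ∀ y : A, θ.hom (Ideal.Quotient.mk I y) = rr.hom (χ.hom (N.φ.hom y)) := by
    intro y
    rw [hχφ]
    exact (hθ₀ y).trans (r.commutes y).symm
  have hres : Spec.map rr ≫ toAff N.Z' χ = Spec.map θ ≫ N.j₀ :=
    N.restrict_eq χ rr θ hθ (fun x hx => hψ x hx)
  set β := toAff N.Z' χ with hβdef
  set ξ := β ≫ N.h' ≫ pullback.fst f b with hξdef
  have hrξ : Spec.map rr ≫ ξ = Spec.map θ ≫ a := by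
    rw [hξdef, ← Category.assoc, hres, Category.assoc, N.fac₁]
  have hkr : RingHom.ker (r : R'' →+* R₀) ≤ nilradical R'' := by
    intro x hx
    obtain ⟨y, rfl⟩ := hq x
    have hy : y ∈ RingHom.ker ((r.comp q : R' →ₐ[A] R₀) : R' →+* R₀) := hx
    have h2 : y ^ 2 ∈ RingHom.ker ((r.comp q : R' →ₐ[A] R₀) : R' →+* R₀) ^ 2 :=
      Ideal.pow_mem_pow hy 2
    rw [hker, Ideal.mem_bot] at h2
    exact mem_nilradical.mpr ⟨2, by rw [← map_pow, h2, map_zero]⟩
  have hunit : IsUnit (algebraMap A R₀ g) := by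
    have : algebraMap A R₀ g = (r.comp q) (algebraMap A R' g) := ((r.comp q).commutes g).symm
    rw [this]
    exact hgu.map _
  have hξU : Set.range ξ ⊆ Set.range U.ι := by
    rintro _ ⟨w, rfl⟩
    obtain ⟨w₀, rfl⟩ := specMap_surjective_of_ker_le_nilradical (r : R'' →+* R₀) hr hkr w
    have h1 : ξ ((Spec.map rr) w₀) = (Spec.map rr ≫ ξ) w₀ := rfl
    have h3 : (Spec.map θ ≫ a) w₀ = a ((Spec.map θ) w₀) := rfl
    rw [h1, hrξ, h3, Scheme.Opens.range_ι]
    refine hg _ ?_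
    show Ideal.Quotient.mk I g ∉ ((w₀ : PrimeSpectrum R₀).asIdeal.comap θ₀)
    rw [Ideal.mem_comap, hθ₀]
    exact fun h => (w₀ : PrimeSpectrum R₀).isPrime.ne_top (Ideal.eq_top_of_isUnit_mem _ h hunit)
  have hξUfac : IsOpenImmersion.lift U.ι ξ hξU ≫ U.ι = ξ := IsOpenImmersion.lift_fac _ _ _
  set ξU := IsOpenImmersion.lift U.ι ξ hξU with hξUdef
  set pA' := Spec.map (CommRingCat.ofHom (algebraMap A R')) with hpA'
  have hβsnd : β ≫ N.h' ≫ pullback.snd f b = Spec.map (CommRingCat.ofHom (algebraMap A R'')) := by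
    rw [hβdef, N.toAff_snd]
    congr 1
    ext y
    exact hχφ y
  have hqA : Spec.map qq ≫ pA' = Spec.map (CommRingCat.ofHom (algebraMap A R'')) := by
    rw [hpA', ← Spec.map_comp]
    congr 1
    ext y
    exact q.commutes y
  have hcomm : Spec.map qq ≫ (pA' ≫ b) = ξU ≫ (U.ι ≫ f) := by
    rw [← Category.assoc, hqA, ← hβsnd, ← Category.assoc ξU, hξUfac, hξdef]
    simp only [Category.assoc]
    rw [pullback.condition]
  have hkq : RingHom.ker (q : R' →+* R'') ^ 2 = ⊥ := by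
    refine le_bot_iff.mp (le_trans (Ideal.pow_right_mono ?_ 2) hker.le)
    intro x hx
    show r (q x) = 0
    rw [show q x = 0 from hx, map_zero]
  obtain ⟨l', hl'1, hl'2⟩ := lift_of_surj hU (q : R' →+* R'') hq hkq ξU (pA' ≫ b) hcomm
  let β' : Spec (CommRingCat.of R') ⟶ pullback f b :=
    pullback.lift (l' ≫ U.ι) pA' (by rw [Category.assoc]; exact hl'2)
  have hβ'1 : β' ≫ pullback.fst f b = l' ≫ U.ι := pullback.lift_fst _ _ _
  have hβ'2 : β' ≫ pullback.snd f b = pA' := pullback.lift_snd _ _ _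
  set t' := Spec.map (CommRingCat.ofHom ((r.comp q : R' →ₐ[A] R₀) : R' →+* R₀)) with ht'def
  have ht'eq : t' = Spec.map rr ≫ Spec.map qq := by
    rw [← Spec.map_comp]
    rfl
  have ht' : MoreMor.IsFirstOrderThickening t' :=
    isFirstOrderThickening_SpecMap _ (hr.comp hq) hker
  have h1 : t' ≫ β' ≫ pullback.fst f b = Spec.map θ ≫ a := by
    rw [hβ'1, ht'eq, Category.assoc, ← Category.assoc (Spec.map qq), hl'1, hξUfac, hrξ]
  have h2 : t' ≫ β' ≫ pullback.snd f b =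
      Spec.map θ ≫ Spec.map (CommRingCat.ofHom (Ideal.Quotient.mk I)) := by
    rw [hβ'2, hpA', ht'def, ← Spec.map_comp, ← Spec.map_comp]
    congr 1
    ext y
    exact ((r.comp q).commutes y).trans (hθ₀ y).symm
  obtain ⟨α, hα⟩ := N.up _ _ t' ht' (Spec.map θ) β' h1 h2
  obtain ⟨χ', hχ'⟩ := toAff_surjective N.Z' α
  have hχ'φ : N.φ ≫ χ' = CommRingCat.ofHom (algebraMap A R') := by
    apply Spec.map_injective
    rw [← N.toAff_snd, hχ', ← Category.assoc, hα, hβ'2]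
  refine ⟨{ toRingHom := χ'.hom, commutes' := fun y => congr($(hχ'φ).hom y) }, ?_⟩
  have hfin : χ' ≫ qq = χ := by
    apply toAff_injective N.Z'
    rw [← map_toAff, hχ', ← cancel_mono N.h', Category.assoc, hα]
    apply pullback.hom_ext
    · rw [Category.assoc, hβ'1, ← Category.assoc, hl'1, hξUfac, hξdef, Category.assoc]
    · rw [Category.assoc, hβ'2, hqA, Category.assoc, hβsnd]
  ext x
  exact congr($(hfin).hom x)

end

set_option maxHeartbeats 800000 in
/-- The scheme-level gluing theorem from the ring-level one. -/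
theorem schemeGlue_of_ringGlue (hRG : RingGlue.{u}) : SchemeGlue.{u} := by
  intro X Y f hloc A _ I hI a b hab
  obtain ⟨N⟩ := exists_nbhdData hab
  letI := N.algebra
  let s : Set A := {g | ∃ U : X.Opens, MoreMor.IsFormallySmoothHom (U.ι ≫ f) ∧
      ∀ z : PrimeSpectrum (A ⧸ I), Ideal.Quotient.mk I g ∉ z.asIdeal → a z ∈ U}
  have hs : Ideal.span s = ⊤ := by
    by_contra hne
    obtain ⟨m, hm, hsm⟩ := Ideal.exists_le_maximal _ hne
    have hIm : I ≤ m := by
      have : I ^ 2 ≤ m := by rw [hI]; exact bot_le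
      exact hm.isPrime.le_of_pow_le this
    have hkerle : RingHom.ker (Ideal.Quotient.mk I) ≤ m := by rw [Ideal.mk_ker]; exact hIm
    let z : PrimeSpectrum (A ⧸ I) := ⟨m.map (Ideal.Quotient.mk I),
      Ideal.map_isPrime_of_surjective Ideal.Quotient.mk_surjective hkerle⟩
    have hzm : ∀ g : A, Ideal.Quotient.mk I g ∈ z.asIdeal ↔ g ∈ m := by
      intro g
      show Ideal.Quotient.mk I g ∈ m.map (Ideal.Quotient.mk I) ↔ _
      rw [← Ideal.mem_comap, Ideal.comap_map_of_surjective _ Ideal.Quotient.mk_surjective,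
        ← RingHom.ker_eq_comap_bot, sup_eq_left.mpr hkerle]
    obtain ⟨U, hzU, hU⟩ := hloc (a z)
    have hopen : IsOpen (a ⁻¹' (U : Set X)) := U.2.preimage a.continuous
    obtain ⟨_, ⟨g₀, rfl⟩, hzg₀, hg₀U⟩ :=
      PrimeSpectrum.isTopologicalBasis_basic_opens.exists_subset_of_mem_open
        (show z ∈ a ⁻¹' (U : Set X) from hzU) hopen
    obtain ⟨g, rfl⟩ := Ideal.Quotient.mk_surjective g₀
    have hgs : g ∈ s := ⟨U, hU, fun z' hz' => hg₀U hz'⟩
    exact hzg₀ ((hzm g).mpr (hsm (Ideal.subset_span hgs)))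
  obtain ⟨ψ, hψ⟩ := hRG A Γ(N.Z', ⊤) I N.J (N.setup hI) s hs
    (fun g ⟨U, hU, hg⟩ => N.locFS U hU g hg)
  set χ : Γ(N.Z', ⊤) ⟶ CommRingCat.of A := CommRingCat.ofHom (ψ : Γ(N.Z', ⊤) →+* A) with hχ
  have hχφ : ∀ y : A, χ.hom (N.φ.hom y) = y := fun y => ψ.commutes y
  set β := toAff N.Z' χ with hβ
  have hβsnd : β ≫ N.h' ≫ pullback.snd f b = 𝟙 _ := by
    rw [hβ, N.toAff_snd]
    have : N.φ ≫ χ = 𝟙 (CommRingCat.of A) := by
      ext y
      exact hχφ y
    rw [this, Spec.map_id]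
  have hres : Spec.map (CommRingCat.ofHom (Ideal.Quotient.mk I)) ≫ β = N.j₀ := by
    have := N.restrict_eq χ (CommRingCat.ofHom (Ideal.Quotient.mk I)) (𝟙 _)
      (fun y => by
        show Ideal.Quotient.mk I y = Ideal.Quotient.mk I (χ.hom (N.φ.hom y))
        rw [hχφ])
      (fun x hx => Ideal.Quotient.eq_zero_iff_mem.mpr (hψ x hx))
    rwa [Spec.map_id, Category.id_comp] at this
  refine ⟨β ≫ N.h' ≫ pullback.fst f b, ?_, ?_⟩
  · rw [← Category.assoc, hres, N.fac₁]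
  · rw [Category.assoc, Category.assoc, pullback.condition, ← Category.assoc N.h',
      ← Category.assoc β, hβsnd, Category.id_comp]

end Groth.Agent.R2.H74.FSm
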