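import Mathlib
import Groth.Agent.R2.H74FSmSpec

/-!
# PROJ:fsm-glue, package G (helper97): two-element covers of `Spec R` by basic opens
-/

set_option autoImplicit false
universe u

namespace Groth.Agent.R2.H97.FSmG

open IsLocalization

variable {R : Type u} [CommRing R]

theorem exists_bezout_pow {g h : R} (hspan : Ideal.span {g, h} = ⊤) (N : ℕ) :
    ∃ u v : R, u * g ^ N + v * h ^ N = 1 := by
  have h1 := Ideal.span_pow_eq_top {g, h} hspan N
  rw [Set.image_pair] at h1
  have : (1 : R) ∈ Ideal.span {g ^ N, h ^ N} := by rw [h1]; trivial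
  obtain ⟨u, v, huv⟩ := Ideal.mem_span_pair.mp this
  exact ⟨u, v, huv⟩

/-- An element killed by a power of `g` and by a power of `h` is zero. -/
theorem eq_zero_of_pow_mul {g h : R} (hspan : Ideal.span {g, h} = ⊤) (I : Ideal R) (z : R) {n m : ℕ}
    (hn : g ^ n * z ∈ I) (hm : h ^ m * z ∈ I) : z ∈ I := by
  obtain ⟨u, v, huv⟩ := exists_bezout_pow hspan (max n m)
  have hn' : g ^ max n m * z ∈ I := by
    rw [← Nat.sub_add_cancel (le_max_left n m), pow_add, mul_assoc]
    exact I.mul_mem_left _ hn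
  have hm' : h ^ max n m * z ∈ I := by
    rw [← Nat.sub_add_cancel (le_max_right n m), pow_add, mul_assoc]
    exact I.mul_mem_left _ hm
  have : z = u * (g ^ max n m * z) + v * (h ^ max n m * z) := by
    calc z = (u * g ^ max n m + v * h ^ max n m) * z := by rw [huv, one_mul]
      _ = _ := by ring
  rw [this]
  exact I.add_mem (I.mul_mem_left _ hn') (I.mul_mem_left _ hm')

theorem exists_pow_mul_mem (g : R) (I : Ideal R) (z : R)
    (hz : algebraMap R (Localization.Away g) z ∈ I.map (algebraMap R (Localization.Away g))) :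
    ∃ n : ℕ, g ^ n * z ∈ I := by
  rw [IsLocalization.mem_map_algebraMap_iff (Submonoid.powers g)] at hz
  obtain ⟨⟨a, ⟨_, n, rfl⟩⟩, has⟩ := hz
  rw [← map_mul] at has
  obtain ⟨⟨_, k, rfl⟩, hc⟩ := (IsLocalization.eq_iff_exists (Submonoid.powers g) _).mp has
  refine ⟨k + n, ?_⟩
  have : g ^ (k + n) * z = g ^ k * a.1 := by
    rw [← hc]; ring
  rw [this]
  exact I.mul_mem_left _ a.2

theorem pkgG : Groth.Agent.R2.H74.FSm.PkgG.{u} := by
  intro R _ g h hspan
  let Rg := Localization.Away g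
  let Rh := Localization.Away h
  let Rgh := Localization.Away (g * h)
  let ρ : Rg →+* Rgh := Away.awayToAwayRight (S := Rg) (P := Rgh) g h
  let l : Rh →+* Rgh := Away.awayToAwayLeft (S := Rh) (P := Rgh) h g
  have hρ : ∀ a : R, ρ (algebraMap R Rg a) = algebraMap R Rgh a :=
    fun a => Away.awayToAwayRight_eq (S := Rg) (P := Rgh) g h a
  have hl : ∀ a : R, l (algebraMap R Rh a) = algebraMap R Rgh a :=
    fun a => Away.awayToAwayLeft_eq (S := Rh) (P := Rgh) h g a
  have hE0 : ∀ z : R, algebraMap R Rg z = 0 → algebraMap R Rh z = 0 → z = 0 := by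
    intro z hzg hzh
    obtain ⟨⟨_, n, rfl⟩, hn⟩ := (IsLocalization.map_eq_zero_iff (Submonoid.powers g) Rg z).mp hzg
    obtain ⟨⟨_, m, rfl⟩, hm⟩ := (IsLocalization.map_eq_zero_iff (Submonoid.powers h) Rh z).mp hzh
    have := eq_zero_of_pow_mul hspan ⊥ z (n := n) (m := m) (by simpa using hn) (by simpa using hm)
    simpa using this
  refine ⟨?_, hE0, ?_, ?_⟩
  · -- (E) sections glue
    intro x y hxy
    obtain ⟨⟨a, ⟨_, n, rfl⟩⟩, ha⟩ := IsLocalization.surj (Submonoid.powers g) x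
    obtain ⟨⟨b, ⟨_, m, rfl⟩⟩, hb⟩ := IsLocalization.surj (Submonoid.powers h) y
    simp only at ha hb
    -- common exponent
    set N := max n m with hN
    obtain ⟨a₁, ha'⟩ : ∃ a₁ : R, x * algebraMap R Rg (g ^ N) = algebraMap R Rg a₁ := by
      refine ⟨a * g ^ (N - n), ?_⟩
      rw [map_mul, ← ha, mul_assoc, ← map_mul, ← pow_add, Nat.add_sub_cancel' (le_max_left n m)]
    obtain ⟨b₁, hb'⟩ : ∃ b₁ : R, y * algebraMap R Rh (h ^ N) = algebraMap R Rh b₁ := by
      refine ⟨b * h ^ (N - m), ?_⟩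
      rw [map_mul, ← hb, mul_assoc, ← map_mul, ← pow_add, Nat.add_sub_cancel' (le_max_right n m)]
    -- the compatibility in `R_{gh}`
    have hcomp : algebraMap R Rgh (a₁ * h ^ N) = algebraMap R Rgh (b₁ * g ^ N) := by
      have e1 : ρ x * algebraMap R Rgh (g ^ N) = algebraMap R Rgh a₁ := by
        rw [← hρ, ← map_mul, ha', hρ]
      have e2 : l y * algebraMap R Rgh (h ^ N) = algebraMap R Rgh b₁ := by
        rw [← hl, ← map_mul, hb', hl]
      rw [map_mul, map_mul, ← e1, ← e2]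
      show ρ x * _ * _ = l y * _ * _
      rw [show ρ x = l y from hxy]
      ring
    obtain ⟨⟨_, k, rfl⟩, hk⟩ := (IsLocalization.eq_iff_exists (Submonoid.powers (g * h)) Rgh).mp hcomp
    simp only at hk
    obtain ⟨a₂, ha₂⟩ : ∃ a₂ : R, a₂ = a₁ * g ^ k := ⟨_, rfl⟩
    obtain ⟨b₂, hb₂⟩ : ∃ b₂ : R, b₂ = b₁ * h ^ k := ⟨_, rfl⟩
    have hx2 : x * algebraMap R Rg (g ^ (N + k)) = algebraMap R Rg a₂ := by
      rw [pow_add, map_mul, ← mul_assoc, ha', ← map_mul, ha₂]
    have hy2 : y * algebraMap R Rh (h ^ (N + k)) = algebraMap R Rh b₂ := by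
      rw [pow_add, map_mul, ← mul_assoc, hb', ← map_mul, hb₂]
    have hcross : a₂ * h ^ (N + k) = b₂ * g ^ (N + k) := by
      have : a₂ * h ^ (N + k) = (g * h) ^ k * (a₁ * h ^ N) := by rw [ha₂]; ring
      rw [this, hk, hb₂]; ring
    obtain ⟨u, v, huv⟩ := exists_bezout_pow hspan (N + k)
    refine ⟨u * a₂ + v * b₂, ?_, ?_⟩
    · have hunit : IsUnit (algebraMap R Rg (g ^ (N + k))) :=
        IsLocalization.map_units Rg (⟨g ^ (N + k), N + k, rfl⟩ : Submonoid.powers g)
      apply hunit.mul_right_cancel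
      rw [hx2, ← map_mul]
      congr 1
      calc (u * a₂ + v * b₂) * g ^ (N + k) = u * a₂ * g ^ (N + k) + v * (b₂ * g ^ (N + k)) := by ring
        _ = u * a₂ * g ^ (N + k) + v * (a₂ * h ^ (N + k)) := by rw [hcross]
        _ = (u * g ^ (N + k) + v * h ^ (N + k)) * a₂ := by ring
        _ = a₂ := by rw [huv, one_mul]
    · have hunit : IsUnit (algebraMap R Rh (h ^ (N + k))) :=
        IsLocalization.map_units Rh (⟨h ^ (N + k), N + k, rfl⟩ : Submonoid.powers h)
      apply hunit.mul_right_cancel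
      rw [hy2, ← map_mul]
      congr 1
      calc (u * a₂ + v * b₂) * h ^ (N + k) = u * (a₂ * h ^ (N + k)) + v * b₂ * h ^ (N + k) := by ring
        _ = u * (b₂ * g ^ (N + k)) + v * b₂ * h ^ (N + k) := by rw [hcross]
        _ = (u * g ^ (N + k) + v * h ^ (N + k)) * b₂ := by ring
        _ = b₂ := by rw [huv, one_mul]
  · -- (S)
    intro I w hw
    rw [IsLocalization.mem_map_algebraMap_iff (Submonoid.powers (g * h))] at hw
    obtain ⟨⟨a, ⟨_, n, rfl⟩⟩, has⟩ := hw
    simp only at has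
    obtain ⟨u, v, huv⟩ := exists_bezout_pow hspan n
    have hug : IsUnit (algebraMap R Rg (g ^ n)) :=
      IsLocalization.map_units Rg (⟨g ^ n, n, rfl⟩ : Submonoid.powers g)
    have huh : IsUnit (algebraMap R Rh (h ^ n)) :=
      IsLocalization.map_units Rh (⟨h ^ n, n, rfl⟩ : Submonoid.powers h)
    have hugh : IsUnit (algebraMap R Rgh ((g * h) ^ n)) :=
      IsLocalization.map_units Rgh (⟨(g * h) ^ n, n, rfl⟩ : Submonoid.powers (g * h))
    obtain ⟨x, hxmem, hxg⟩ : ∃ x ∈ I.map (algebraMap R Rg),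
        x * algebraMap R Rg (g ^ n) = algebraMap R Rg (v * a.1) := by
      refine ⟨algebraMap R Rg (v * a.1) * ↑hug.unit⁻¹, ?_, ?_⟩
      · exact Ideal.mul_mem_right _ _ (Ideal.mem_map_of_mem _ (I.mul_mem_left _ a.2))
      · rw [mul_assoc, IsUnit.val_inv_mul, mul_one]
    obtain ⟨y, hymem, hyh⟩ : ∃ y ∈ I.map (algebraMap R Rh),
        y * algebraMap R Rh (h ^ n) = algebraMap R Rh (-(u * a.1)) := by
      refine ⟨algebraMap R Rh (-(u * a.1)) * ↑huh.unit⁻¹, ?_, ?_⟩
      · exact Ideal.mul_mem_right _ _ (Ideal.mem_map_of_mem _ (neg_mem (I.mul_mem_left _ a.2)))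
      · rw [mul_assoc, IsUnit.val_inv_mul, mul_one]
    refine ⟨x, hxmem, y, hymem, ?_⟩
    · apply hugh.mul_right_cancel
      rw [has]
      have e1 : ρ x * algebraMap R Rgh ((g * h) ^ n) = algebraMap R Rgh (v * a.1 * h ^ n) := by
        rw [mul_pow, map_mul, ← mul_assoc, ← hρ (g ^ n), ← map_mul, hxg, hρ, ← map_mul]
      have e2 : l y * algebraMap R Rgh ((g * h) ^ n) = algebraMap R Rgh (-(u * a.1) * g ^ n) := by
        rw [mul_pow, mul_comm (g ^ n) (h ^ n), map_mul, ← mul_assoc, ← hl (h ^ n), ← map_mul, hyh,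
          hl, ← map_mul]
      show _ = (ρ x - l y) * _
      rw [sub_mul, e1, e2, ← map_sub]
      congr 1
      calc a.1 = (u * g ^ n + v * h ^ n) * a.1 := by rw [huv, one_mul]
        _ = _ := by ring
  · -- (E1)
    intro I z hzg hzh
    obtain ⟨n, hn⟩ := exists_pow_mul_mem g I z hzg
    obtain ⟨m, hm⟩ := exists_pow_mul_mem h I z hzh
    exact eq_zero_of_pow_mul hspan I z hn hm

end Groth.Agent.R2.H97.FSmG
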