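import Mathlib
import Groth.Prelude.Def_MoreMor
import Groth.Agent.R2.H74FSmSpec
import Groth.Agent.R2.H74FSmScheme
import Groth.Agent.R2.H74FSmRing
import Groth.Agent.R2.H47FSmLP
import Groth.Agent.R2.H47FSmTSZ
import Groth.Agent.R2.H97FSmG
import Groth.Agent.R2.H51FSmAff
import Groth.Agent.R2.H14FSmOpen
import Groth.Agent.S9763

/-!
# Formal smoothness is local on the source and target (helper74, PROJ:fsm-glue)

Stacks 02H6: `MoreMor.IsFormallySmoothHom` (lifting against affine square zero thickenings) can be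
checked Zariski-locally, and is equivalent to formal smoothness of all ring maps on affine charts.
-/

set_option autoImplicit false
universe u
open CategoryTheory AlgebraicGeometry

namespace Groth.Agent.R2.H74.FSm

/-- The ring-level gluing theorem. -/
theorem ringGlue' : RingGlue.{u} :=
  ringGlue Groth.Agent.R2.H47.FSmLP.pkgLP Groth.Agent.R2.H97.FSmG.pkgG
    Groth.Agent.R2.H47.FSmTSZ.pkgTSZ

/-- Stacks 02H6 (2) ⇒ (1): a morphism which is formally smooth locally on the source is formally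
smooth. -/
theorem schemeGlue : SchemeGlue.{u} := schemeGlue_of_ringGlue ringGlue'

/-- Stacks 02H6 (1) ⇔ (3). -/
theorem isFormallySmoothHom_iff_affine {X Y : Scheme.{u}} (f : X ⟶ Y) :
    MoreMor.IsFormallySmoothHom f ↔ ∀ (U : X.Opens) (V : Y.Opens) (_ : IsAffineOpen U)
      (_ : IsAffineOpen V) (hUV : U ≤ f ⁻¹ᵁ V),
      letI := (f.appLE V U hUV).hom.toAlgebra
      Algebra.FormallySmooth Γ(Y, V) Γ(X, U) := by
  constructor
  · intro hf U V hU hV hUV
    exact (Groth.Agent.R2.H51.FSmAff.pkgAff f U V hU hV hUV).mp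
      (Groth.Agent.S9763.result f hf U V hUV)
  · intro h
    refine schemeGlue f fun x => ?_
    obtain ⟨_, ⟨V, hV, rfl⟩, hxV, -⟩ := Y.isBasis_affineOpens.exists_subset_of_mem_open
      (Set.mem_univ (f x)) isOpen_univ
    obtain ⟨_, ⟨U, hU, rfl⟩, hxU, hUV⟩ := X.isBasis_affineOpens.exists_subset_of_mem_open
      (show x ∈ ((f ⁻¹ᵁ V : X.Opens) : Set X) from hxV) (f ⁻¹ᵁ V).2
    refine ⟨U, hxU, ?_⟩
    exact Groth.Agent.R2.H14.FSmOpen.isFormallySmoothHom_ι_comp_of_resLE f U V hUV
      ((Groth.Agent.R2.H51.FSmAff.pkgAff f U V hU hV hUV).mpr (h U V hU hV hUV))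

end Groth.Agent.R2.H74.FSm
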