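import Mathlib
import Groth.Prelude.Def_Omega4
import Groth.Prelude.Def_MoreMor
import Groth.Agent.R2.H74FSmMain
import Groth.Agent.R2.H36GrBC
import Groth.Agent.Lib.Helper18OmLS15

/-!
# The conormal sheaf of a formally smooth subscheme injects into the differentials (helper36)

EGA IV 17.2.5-style: `j : X' ⟶ X` a quasi-compact immersion, `f : X ⟶ Y` with `j ≫ f` formally smooth; then
`N_j → j^* Ω_{X/Y}` is a monomorphism.
-/

set_option autoImplicit false
set_option linter.style.haveILetI false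
universe u
open CategoryTheory AlgebraicGeometry Limits TopologicalSpace Opposite TensorProduct

namespace Groth.Agent.R2.H36.FSmConormal

open Groth.Agent.Helper18OmLS Groth.Agent.Helper13PullbackUnit KaehlerDifferential

section ring
variable (R P A : Type u) [CommRing R] [CommRing P] [CommRing A] [Algebra R P] [Algebra P A]
  [Algebra R A] [IsScalarTower R P A]

/-- Stacks 031J: for `A = P/I` formally smooth over `R` (any `P`), `I/I² → A ⊗_P Ω_{P/R}` is (split)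
injective. -/
theorem kerCotangentToTensor_injective_of_formallySmooth [Algebra.FormallySmooth R A]
    (hf : Function.Surjective (algebraMap P A)) :
    Function.Injective (kerCotangentToTensor R P A) := by
  let g := (IsScalarTower.toAlgHom R P A).kerSquareLift
  have hg : Function.Surjective g := by
    intro a
    obtain ⟨p, rfl⟩ := hf a
    exact ⟨Ideal.Quotient.mk _ p, rfl⟩
  have hg' : IsNilpotent (RingHom.ker g.toRingHom) := by
    refine ⟨2, ?_⟩
    have h1 := AlgHom.ker_kerSquareLift (IsScalarTower.toAlgHom R P A)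
    rw [h1, Ideal.cotangentIdeal_square]
    rfl
  let σ := Algebra.FormallySmooth.liftOfSurjective (AlgHom.id R A) g hg hg'
  have hσ : g.comp σ = AlgHom.id R A :=
    Algebra.FormallySmooth.comp_liftOfSurjective (AlgHom.id R A) g hg hg'
  obtain ⟨l, hl⟩ := (retractionKerCotangentToTensorEquivSection (R := R) hf).symm ⟨σ, hσ⟩
  intro x y hxy
  have := congrArg l hxy
  rwa [← LinearMap.comp_apply, ← LinearMap.comp_apply, hl] at this

end ring

section chart
variable {X' X Y : Scheme.{u}} (j : X' ⟶ X) [IsImmersion j] [QuasiCompact j] (f : X ⟶ Y)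
  (hf : MoreMor.IsFormallySmoothHom (j ≫ f))
  (Ω' : X.Modules) (d : OmegaSh.Der f Ω') (hd : OmegaSh.IsUniversal d)
  (φ : Omega.conormal j ⟶ (Scheme.Modules.pullback j).obj Ω') (hφ : OmegaSh.IsConormalDiff j d φ)

include hf hd hφ in
theorem chart_injective {W : Y.Opens} (hW : IsAffineOpen W) {V : X.Opens} (hV : IsAffineOpen V)
    (hVW : V ≤ f ⁻¹ᵁ W) (hVj : V ≤ j.coborderRange) :
    Function.Injective (φ.app (j ⁻¹ᵁ V)) := by
  have hU : IsAffineOpen (j ⁻¹ᵁ V) :=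
    Groth.Agent.Lib.Helper20.ConormalStalk.isAffineOpen_preimage j hV hVj
  have hsurj : Function.Surjective (j.app V) :=
    Groth.Agent.Lib.Helper20.ConormalStalk.app_surjective j hV hVj
  have hUV : j ⁻¹ᵁ V ≤ j ⁻¹ᵁ V := le_refl _
  have hUW : j ⁻¹ᵁ V ≤ (j ≫ f) ⁻¹ᵁ W := fun y hy => hVW hy
  letI algCA : Algebra Γ(Y, W) Γ(X, V) := (f.appLE W V hVW).hom.toAlgebra
  letI algCB : Algebra Γ(Y, W) Γ(X', j ⁻¹ᵁ V) := ((j ≫ f).appLE W (j ⁻¹ᵁ V) hUW).hom.toAlgebra
  letI algAB : Algebra Γ(X, V) Γ(X', j ⁻¹ᵁ V) := (j.appLE V (j ⁻¹ᵁ V) hUV).hom.toAlgebra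
  haveI : IsScalarTower Γ(Y, W) Γ(X, V) Γ(X', j ⁻¹ᵁ V) := by
    refine IsScalarTower.of_algebraMap_eq fun r => ?_
    have h1 : f.appLE W V hVW ≫ j.appLE V (j ⁻¹ᵁ V) hUV = (j ≫ f).appLE W (j ⁻¹ᵁ V) hUW :=
      Scheme.Hom.appLE_comp_appLE _ _ _ _ _ _ _
    exact congr($h1.symm r)
  have hsurjAB : Function.Surjective (algebraMap Γ(X, V) Γ(X', j ⁻¹ᵁ V)) := by
    intro b
    obtain ⟨a, ha⟩ := hsurj b
    refine ⟨a, ?_⟩
    rw [← ha]
    change (j.appLE V (j ⁻¹ᵁ V) hUV) a = _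
    rw [← Scheme.Hom.app_eq_appLE]
  haveI : Algebra.FormallySmooth Γ(Y, W) Γ(X', j ⁻¹ᵁ V) :=
    (Groth.Agent.R2.H74.FSm.isFormallySmoothHom_iff_affine (j ≫ f)).mp hf _ W hU hW hUW
  haveI : Ω'.IsQuasicoherent := isQuasicoherent_of_isUniversal f d hd
  have hker : RingHom.ker (algebraMap Γ(X, V) Γ(X', j ⁻¹ᵁ V)) = RingHom.ker (j.app V).hom := by
    ext a
    rw [RingHom.mem_ker, RingHom.mem_ker]
    change (j.appLE V (j ⁻¹ᵁ V) hUV) a = 0 ↔ _
    rw [← Scheme.Hom.app_eq_appLE]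
  rw [injective_iff_map_eq_zero]
  intro n hn
  obtain ⟨s, rfl⟩ := exists_unitSec_eq j (ClSub.idealMod j.ker) hUV hV hU rfl hsurjAB n
  rw [phi_unitSec j d φ hφ hUV s] at hn
  obtain ⟨e, he⟩ := exists_pullback_equiv j Ω' hUV hV hU rfl
  have h1 : (1 : Γ(X', j ⁻¹ᵁ V)) ⊗ₜ[Γ(X, V)] d.app V (OmegaSh.idealSect j.ker V s) = 0 := by
    apply e.injective
    rw [he, one_smul, hn, map_zero]
  let sX := sectionsEquiv f d hd hV hW hVW rfl
  have h2 : (1 : Γ(X', j ⁻¹ᵁ V)) ⊗ₜ[Γ(X, V)]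
      D Γ(Y, W) Γ(X, V) (OmegaSh.idealSect j.ker V s) = 0 := by
    have h := congrArg (TensorProduct.AlgebraTensorModule.congr
      (LinearEquiv.refl Γ(X', j ⁻¹ᵁ V) Γ(X', j ⁻¹ᵁ V)) sX) h1
    rw [TensorProduct.AlgebraTensorModule.congr_tmul, map_zero] at h
    have h' := sectionsEquiv_d f d hd hV hW hVW rfl (OmegaSh.idealSect j.ker V s)
    rw [← h']
    exact h
  have hx : OmegaSh.idealSect j.ker V s ∈ RingHom.ker (algebraMap Γ(X, V) Γ(X', j ⁻¹ᵁ V)) := by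
    rw [hker, ← Scheme.Hom.ker_apply j ⟨V, hV⟩]
    exact Groth.Agent.R2.H36.GrBC.idealSect_mem j.ker hV s
  have h3 : kerCotangentToTensor Γ(Y, W) Γ(X, V) Γ(X', j ⁻¹ᵁ V)
      (Ideal.toCotangent _ ⟨OmegaSh.idealSect j.ker V s, hx⟩) = 0 := by
    rw [kerCotangentToTensor_toCotangent]
    exact h2
  have h4 := kerCotangentToTensor_injective_of_formallySmooth Γ(Y, W) Γ(X, V) Γ(X', j ⁻¹ᵁ V)
    hsurjAB (h3.trans (map_zero _).symm)
  have h5 : OmegaSh.idealSect j.ker V s ∈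
      RingHom.ker (algebraMap Γ(X, V) Γ(X', j ⁻¹ᵁ V)) ^ 2 :=
    (Ideal.toCotangent_eq_zero _ _).mp h4
  rw [hker] at h5
  have h6 := mem_smul_top_of_idealSect_mem_sq j V s h5
  rw [← hker] at h6
  exact unitSec_eq_zero_of_mem_smul_top j (ClSub.idealMod j.ker) hUV rfl h6

include hf hd hφ in
/-- EGA IV 17.2.5, injectivity: the conormal sheaf of a formally smooth subscheme injects into the pulled back
differentials. -/
theorem mono_of_formallySmooth : Mono φ := by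
  refine mono_of_injective_app_basis φ
    {U | ∃ (V : X.Opens) (W : Y.Opens), IsAffineOpen V ∧ IsAffineOpen W ∧ V ≤ f ⁻¹ᵁ W ∧
      V ≤ j.coborderRange ∧ U = j ⁻¹ᵁ V} ?_ ?_
  · rw [TopologicalSpace.Opens.isBasis_iff_nbhd]
    intro O x hx
    obtain ⟨O'set, hO'open, hO'eq⟩ := j.isEmbedding.isInducing.isOpen_iff.mp O.isOpen
    let O' : X.Opens := ⟨O'set, hO'open⟩
    have hO' : ∀ z' : X', j z' ∈ O' ↔ z' ∈ O := by
      intro z'
      have : z' ∈ (j ⁻¹' O'set) ↔ z' ∈ (O : Set X') := by rw [hO'eq]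
      exact this
    obtain ⟨W, hW, hxW, -⟩ := exists_isAffineOpen_mem_and_subset (x := f (j x)) (U := ⊤) trivial
    have hx2 : j x ∈ (f ⁻¹ᵁ W ⊓ j.coborderRange) ⊓ O' :=
      ⟨⟨hxW, subset_coborder ⟨x, rfl⟩⟩, (hO' x).mpr hx⟩
    obtain ⟨V, hV, hxV, hVle⟩ := exists_isAffineOpen_mem_and_subset (x := j x) hx2
    refine ⟨j ⁻¹ᵁ V, ⟨V, W, hV, hW, hVle.trans (inf_le_left.trans inf_le_left),
      hVle.trans (inf_le_left.trans inf_le_right), rfl⟩, hxV, ?_⟩
    intro z hz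
    exact (hO' z).mp (hVle hz).2
  · rintro U ⟨V, W, hV, hW, hVW, hVj, rfl⟩
    exact chart_injective j f hf Ω' d hd φ hφ hW hV hVW hVj

end chart

end Groth.Agent.R2.H36.FSmConormal
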