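import Mathlib
import Groth.Prelude.Def_Omega4
import Groth.Prelude.Def_MoreMor
import Groth.Prelude.Def_FlatMod2
import Groth.Agent.R2.H74FSmMain
import Groth.Agent.Lib.Helper18OmLS15
import Groth.Agent.Lib.Helper20LocFree
import Groth.Agent.Lib.Helper3EtGUSchB

/-!
# Differentials of formally smooth morphisms, sheaf level (helper36)

Chartwise consequences of `Algebra.FormallySmooth` through helper18's dictionary
`sectionsEquiv : Γ(Ω', U) ≃ₗ Ω[Γ(X,U)⁄Γ(Y,V)]` and helper74's `isFormallySmoothHom_iff_affine`.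
-/

set_option autoImplicit false
set_option linter.style.haveILetI false
universe u
open CategoryTheory AlgebraicGeometry Limits TopologicalSpace Opposite TensorProduct

namespace Groth.Agent.R2.H36.FSmOmega

open Groth.Agent.Helper18OmLS Groth.Agent.Lib.Helper20.PullbackAff Groth.Agent.Lib.Helper20.Thickening

section locfree
variable {X Y : Scheme.{u}} (f : X ⟶ Y) (hf : MoreMor.IsFormallySmoothHom f) [LocallyOfFiniteType f]
  (Ω' : X.Modules) (d : OmegaSh.Der f Ω') (hd : OmegaSh.IsUniversal d)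

include hf hd in
/-- EGA IV 17.2.3 (i), finite type case: the differentials of a formally smooth morphism locally of
finite type are finite locally free. -/
theorem isFinLocFree_of_formallySmooth : FlatMod.IsFinLocFree Ω' := by
  haveI : Ω'.IsQuasicoherent := isQuasicoherent_of_isUniversal f d hd
  intro x
  obtain ⟨V, hV, U, hU, hUV, hxU, -⟩ :=
    Groth.Agent.Lib.Helper3.EtGUSch.exists_affine_nhds f x ⊤ trivial
  letI : Algebra Γ(Y, V) Γ(X, U) := (f.appLE V U hUV).hom.toAlgebra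
  haveI : Algebra.FormallySmooth Γ(Y, V) Γ(X, U) :=
    (Groth.Agent.R2.H74.FSm.isFormallySmoothHom_iff_affine f).mp hf U V hU hV hUV
  haveI : Algebra.FiniteType Γ(Y, V) Γ(X, U) :=
    HasRingHomProperty.appLE (P := @LocallyOfFiniteType) f inferInstance ⟨V, hV⟩ ⟨U, hU⟩ hUV
  let sX := sectionsEquiv f d hd hU hV hUV rfl
  let e : Ω[Γ(X, U)⁄Γ(Y, V)] ≃ₗ[Γ(X, U)] (ΓUF hU).obj Ω' := sX.symm.trans (ΓUEquiv hU Ω')
  haveI : Module.Finite Γ(X, U) Ω[Γ(X, U)⁄Γ(Y, V)] := inferInstance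
  haveI : Module.Projective Γ(X, U) Ω[Γ(X, U)⁄Γ(Y, V)] := inferInstance
  haveI : Module.FinitePresentation Γ(X, U) Ω[Γ(X, U)⁄Γ(Y, V)] :=
    Module.finitePresentation_of_projective _ _
  haveI : Module.FinitePresentation Γ(X, U) ((ΓUF hU).obj Ω') :=
    Module.FinitePresentation.of_equiv e
  haveI : Module.Flat Γ(X, U) ((ΓUF hU).obj Ω') := Module.Flat.of_linearEquiv e.symm
  obtain ⟨D, m, hxD, -, h⟩ :=
    Groth.Agent.Lib.Helper20.LocFree.exists_restrict_iso_freeMod Ω' hU x hxU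
  exact ⟨D, m, hxD, h⟩

end locfree

section ring
variable (R A B : Type u) [CommRing R] [CommRing A] [CommRing B] [Algebra R A] [Algebra R B]
  [Algebra A B] [IsScalarTower R A B]

open KaehlerDifferential in
theorem mapBaseChange_injective_of_formallySmooth [Algebra.FormallySmooth A B] :
    Function.Injective (KaehlerDifferential.mapBaseChange R A B) := by
  rw [injective_iff_map_eq_zero]
  intro x hx
  obtain ⟨y, rfl⟩ := (Algebra.H1Cotangent.exact_δ_mapBaseChange R A B x).mp hx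
  rw [Subsingleton.elim y 0, map_zero]

open KaehlerDifferential in
/-- a `B`-linear map on `B ⊗[A] Ω[A⁄R]` with the values of `mapBaseChange` on the `b ⊗ D a` is it. -/
theorem eq_mapBaseChange (κ : B ⊗[A] Ω[A⁄R] →ₗ[B] Ω[B⁄R])
    (hκ : ∀ (b : B) (a : A), κ (b ⊗ₜ D R A a) = b • D R B (algebraMap A B a)) :
    κ = KaehlerDifferential.mapBaseChange R A B := by
  apply TensorProduct.AlgebraTensorModule.ext
  intro b ω
  have hω : ω ∈ Submodule.span A (Set.range (D R A)) := by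
    rw [KaehlerDifferential.span_range_derivation]
    trivial
  revert b
  refine Submodule.span_induction (p := fun ω _ => ∀ b : B, κ (b ⊗ₜ ω) =
    KaehlerDifferential.mapBaseChange R A B (b ⊗ₜ ω)) ?_ ?_ ?_ ?_ hω
  · rintro _ ⟨a, rfl⟩ b
    rw [hκ, KaehlerDifferential.mapBaseChange_tmul, KaehlerDifferential.map_D]
  · intro b
    rw [TensorProduct.tmul_zero, map_zero, map_zero]
  · intro x y _ _ hx hy b
    rw [TensorProduct.tmul_add, map_add, map_add, hx, hy]
  · intro a x _ hx b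
    rw [← TensorProduct.smul_tmul, hx]

end ring

section mono
variable {X Y S : Scheme.{u}} (g : Y ⟶ S) (h : X ⟶ S) (f : X ⟶ Y) (w : f ≫ g = h)
  (hf : MoreMor.IsFormallySmoothHom f)
  (ΩY : Y.Modules) (dY : OmegaSh.Der g ΩY) (hY : OmegaSh.IsUniversal dY)
  (ΩX : X.Modules) (dX : OmegaSh.Der h ΩX) (hX : OmegaSh.IsUniversal dX)
  (c : (Scheme.Modules.pullback f).obj ΩY ⟶ ΩX) (hc : OmegaSh.IsDiffCompat f dY dX c)

include w hf hY hX hc in
theorem chart_injective {U : X.Opens} (hU : IsAffineOpen U) {V : Y.Opens} (hV : IsAffineOpen V)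
    {W : S.Opens} (hW : IsAffineOpen W) (hUV : U ≤ f ⁻¹ᵁ V) (hVW : V ≤ g ⁻¹ᵁ W) :
    Function.Injective (c.app U) := by
  subst w
  have hUW : U ≤ (f ≫ g) ⁻¹ᵁ W := hUV.trans (f.preimage_mono hVW)
  letI : Algebra Γ(S, W) Γ(Y, V) := (g.appLE W V hVW).hom.toAlgebra
  letI : Algebra Γ(S, W) Γ(X, U) := ((f ≫ g).appLE W U hUW).hom.toAlgebra
  letI : Algebra Γ(Y, V) Γ(X, U) := (f.appLE V U hUV).hom.toAlgebra
  haveI : IsScalarTower Γ(S, W) Γ(Y, V) Γ(X, U) := IsScalarTower.of_algebraMap_eq fun r => by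
    change ((f ≫ g).appLE W U hUW).hom r = (f.appLE V U hUV).hom ((g.appLE W V hVW).hom r)
    rw [← Scheme.Hom.appLE_comp_appLE _ _ W V U hVW hUV]
    rfl
  haveI : Algebra.FormallySmooth Γ(Y, V) Γ(X, U) :=
    (Groth.Agent.R2.H74.FSm.isFormallySmoothHom_iff_affine f).mp hf U V hU hV hUV
  obtain ⟨e₁, κ, hκ1, hκ2⟩ := exists_chart_model' f g (f ≫ g) dY dX c hc hUV hY hX hU hV hW hVW hW hUW
    rfl rfl rfl
  have hκ := eq_mapBaseChange Γ(S, W) Γ(Y, V) Γ(X, U) κ hκ2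
  have hinj := mapBaseChange_injective_of_formallySmooth Γ(S, W) Γ(Y, V) Γ(X, U)
  intro x y hxy
  obtain ⟨t, rfl⟩ := e₁.surjective x
  obtain ⟨t', rfl⟩ := e₁.surjective y
  have h1 : κ t = κ t' := by rw [hκ1, hκ1, hxy]
  rw [hκ] at h1
  rw [hinj h1]

include w hf hY hX hc in
/-- EGA IV 17.2.3 (ii), injectivity: for `f` formally smooth, `f^* Ω_{Y/S} → Ω_{X/S}` is a monomorphism. -/
theorem mono_of_formallySmooth : Mono c := by
  refine mono_of_injective_app_basis c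
    {U | IsAffineOpen U ∧ ∃ (V : Y.Opens) (W : S.Opens), IsAffineOpen V ∧ IsAffineOpen W ∧
      U ≤ f ⁻¹ᵁ V ∧ V ≤ g ⁻¹ᵁ W} ?_ ?_
  · rw [TopologicalSpace.Opens.isBasis_iff_nbhd]
    intro U₀ x hx
    obtain ⟨W, hW, V, hV, hVW, hfxV, -⟩ :=
      Groth.Agent.Lib.Helper3.EtGUSch.exists_affine_nhds g (f x) ⊤ trivial
    obtain ⟨U, hU, hxU, hle⟩ := TopologicalSpace.Opens.isBasis_iff_nbhd.mp X.isBasis_affineOpens
      (show x ∈ U₀ ⊓ f ⁻¹ᵁ V from ⟨hx, hfxV⟩)
    exact ⟨U, ⟨hU, V, W, hV, hW, hle.trans inf_le_right, hVW⟩, hxU, hle.trans inf_le_left⟩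
  · rintro U ⟨hU, V, W, hV, hW, hUV, hVW⟩
    exact chart_injective g h f w hf ΩY dY hY ΩX dX hX c hc hU hV hW hUV hVW

end mono

end Groth.Agent.R2.H36.FSmOmega
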