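import Mathlib

set_option autoImplicit false
universe u
open TensorProduct

namespace Groth.Agent.R2.H36.GrBCAlg

section L1
variable {R' A' R A : Type u} [CommRing R'] [CommRing A'] [CommRing R] [CommRing A]
  [Algebra R' A'] [Algebra R' R] [Algebra A' A] [Algebra R A] [Algebra R' A]
  [IsScalarTower R' A' A] [IsScalarTower R' R A] [hpo : Algebra.IsPushout R' R A' A]
  {M' : Type u} [AddCommGroup M'] [Module A' M'] [Module R' M'] [IsScalarTower R' A' M']
  (ι' : M' →ₗ[A'] A')

/-- the comparison map `R ⊗[R'] M' → A ⊗[A'] M'`. -/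
noncomputable def psi : R ⊗[R'] M' →+ A ⊗[A'] M' :=
  TensorProduct.liftAddHom
    { toFun := fun r =>
        { toFun := fun m => (algebraMap R A r) ⊗ₜ[A'] m
          map_zero' := TensorProduct.tmul_zero _ _
          map_add' := fun m m' => TensorProduct.tmul_add _ _ _ }
      map_zero' := by
        ext m
        change (algebraMap R A 0) ⊗ₜ[A'] m = 0
        rw [map_zero, TensorProduct.zero_tmul]
      map_add' := fun r r' => by
        ext m
        change (algebraMap R A (r + r')) ⊗ₜ[A'] m = _ + _
        rw [map_add, TensorProduct.add_tmul]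
        rfl }
    (fun c r m => by
      change (algebraMap R A (c • r)) ⊗ₜ[A'] m = (algebraMap R A r) ⊗ₜ[A'] (c • m)
      rw [← algebraMap_smul A' c m, ← TensorProduct.smul_tmul, Algebra.smul_def c r, map_mul,
        ← IsScalarTower.algebraMap_apply, Algebra.smul_def, ← IsScalarTower.algebraMap_apply])

omit hpo in
theorem psi_tmul (r : R) (m : M') :
    psi (R' := R') (A' := A') (A := A) (r ⊗ₜ[R'] m) = (algebraMap R A r) ⊗ₜ[A'] m := rfl

include hpo in
theorem psi_surjective : Function.Surjective (psi (R' := R') (A' := A') (R := R) (A := A) (M' := M')) := by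
  have hbc : IsBaseChange R (IsScalarTower.toAlgHom R' A' A).toLinearMap := hpo.out
  intro x
  induction x using TensorProduct.induction_on with
  | zero => exact ⟨0, map_zero _⟩
  | add x y hx hy =>
    obtain ⟨x', rfl⟩ := hx
    obtain ⟨y', rfl⟩ := hy
    exact ⟨x' + y', map_add _ _ _⟩
  | tmul a m =>
    obtain ⟨z, rfl⟩ := hbc.equiv.surjective a
    induction z using TensorProduct.induction_on with
    | zero =>
      refine ⟨0, ?_⟩
      rw [map_zero, map_zero, TensorProduct.zero_tmul]
    | add z w hz hw =>
      obtain ⟨z', hz'⟩ := hz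
      obtain ⟨w', hw'⟩ := hw
      refine ⟨z' + w', ?_⟩
      rw [map_add, hz', hw', map_add, TensorProduct.add_tmul]
    | tmul r a' =>
      refine ⟨r ⊗ₜ[R'] (a' • m), ?_⟩
      rw [psi_tmul, IsBaseChange.equiv_tmul, ← TensorProduct.smul_tmul, Algebra.smul_def,
        Algebra.smul_def, mul_comm]
      rfl

include hpo in
theorem lTensor_injective_of_isPushout
    (h : Function.Injective (LinearMap.lTensor R (ι'.restrictScalars R'))) :
    Function.Injective (LinearMap.lTensor A ι') := by
  have hbc : IsBaseChange R (IsScalarTower.toAlgHom R' A' A).toLinearMap := hpo.out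
  have key : ∀ z : R ⊗[R'] M', TensorProduct.rid A' A (LinearMap.lTensor A ι' (psi z)) =
      hbc.equiv (LinearMap.lTensor R (ι'.restrictScalars R') z) := by
    intro z
    induction z using TensorProduct.induction_on with
    | zero => simp
    | add z w hz hw => rw [map_add, map_add, map_add, map_add, map_add, hz, hw]
    | tmul r m =>
      rw [psi_tmul, LinearMap.lTensor_tmul, TensorProduct.rid_tmul, LinearMap.lTensor_tmul,
        IsBaseChange.equiv_tmul, Algebra.smul_def, Algebra.smul_def, mul_comm]
      rfl
  intro x y hxy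
  obtain ⟨x', rfl⟩ := psi_surjective (R' := R') (A' := A') (R := R) (A := A) x
  obtain ⟨y', rfl⟩ := psi_surjective (R' := R') (A' := A') (R := R) (A := A) y
  have h1 := congrArg (TensorProduct.rid A' A) hxy
  rw [key, key] at h1
  rw [h (hbc.equiv.injective h1)]

end L1

section L2
variable {R' A' : Type u} [CommRing R'] [CommRing A'] [Algebra R' A']
  {M' : Type u} [AddCommGroup M'] [Module A' M'] [Module R' M'] [IsScalarTower R' A' M']
  (ι' : M' →ₗ[A'] A') (π' : A' →+* R') (hπ' : ∀ r : R', π' (algebraMap R' A' r) = r)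
  (hι' : Function.Injective ι') (hrange : ∀ a : A', π' a = 0 → ∃ m, ι' m = a)
  (hzero : ∀ m, π' (ι' m) = 0)

include hπ' hι' hrange hzero in
/-- a split injection stays injective after any base change. -/
theorem lTensor_injective_of_split (N : Type u) [AddCommGroup N] [Module R' N] :
    Function.Injective (LinearMap.lTensor N (ι'.restrictScalars R')) := by
  have hex : ∀ a : A', ∃ m, ι' m = a - algebraMap R' A' (π' a) := by
    intro a
    apply hrange
    rw [map_sub, hπ', sub_self]
  choose ρf hρf using hex
  let ρ : A' →ₗ[R'] M' :=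
    { toFun := ρf
      map_add' := fun a b => by
        apply hι'
        rw [map_add, hρf, hρf, hρf, map_add, map_add]
        ring
      map_smul' := fun c a => by
        apply hι'
        rw [RingHom.id_apply, ← algebraMap_smul A' c (ρf a), map_smul, hρf, hρf, Algebra.smul_def,
          map_mul, hπ', smul_eq_mul, map_mul]
        ring }
  have hρ : ρ.comp (ι'.restrictScalars R') = LinearMap.id := by
    ext m
    apply hι'
    change ι' (ρf (ι' m)) = ι' m
    rw [hρf]
    rw [hzero m, map_zero, sub_zero]
  have h2 : (LinearMap.lTensor N ρ).comp (LinearMap.lTensor N (ι'.restrictScalars R')) =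
      LinearMap.id := by
    rw [← LinearMap.lTensor_comp, hρ, LinearMap.lTensor_id]
  intro x y hxy
  have := congrArg (LinearMap.lTensor N ρ) hxy
  rw [← LinearMap.comp_apply, ← LinearMap.comp_apply, h2] at this
  exact this

end L2

section L0
variable {A' A R : Type u} [CommRing A'] [CommRing A] [CommRing R] [Algebra A' A] [Algebra A R]
  [Algebra A' R] [IsScalarTower A' A R]
  {N' N : Type u} [AddCommGroup N'] [Module A' N'] [AddCommGroup N] [Module A N]
  (τ : N' →+ N) (hτ : ∀ (a : A') (n : N'), τ (a • n) = algebraMap A' A a • τ n)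

include hτ in
/-- variant of `Helper18Con.exists_tensor_map` with the flatness hypothesis replaced by injectivity
of `A ⊗ N' → A ⊗ A'`. -/
theorem exists_tensor_map' :
    ∃ Φ : R ⊗[A'] N' →+ R ⊗[A] N, (∀ (r : R) (n' : N'), Φ (r ⊗ₜ n') = r ⊗ₜ τ n') ∧
      ((∀ n : N, n ∈ Submodule.span A (Set.range τ)) → Function.Surjective Φ) ∧
      ∀ (ι' : N' →ₗ[A'] A') (ι : N →ₗ[A] A), Function.Injective (LinearMap.lTensor A ι') →
        Function.Injective ι → (∀ n', ι (τ n') = algebraMap A' A (ι' n')) →
        (∀ n : N, n ∈ Submodule.span A (Set.range τ)) → Function.Bijective Φ := by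
  let _ : Module A' N := Module.compHom N (algebraMap A' A)
  have : IsScalarTower A' A N := IsScalarTower.of_algebraMap_smul fun _ _ => rfl
  let τl : N' →ₗ[A'] N := { toFun := τ, map_add' := map_add τ, map_smul' := fun a n => hτ a n }
  let β : A ⊗[A'] N' →ₗ[A] N := LinearMap.liftBaseChange A τl
  have hβ : ∀ (a : A) (n' : N'), β (a ⊗ₜ n') = a • τ n' := fun a n' =>
    LinearMap.liftBaseChange_tmul _ _ _ _
  let c := TensorProduct.AlgebraTensorModule.cancelBaseChange A' A A R N'
  let Φl : R ⊗[A'] N' →ₗ[A] R ⊗[A] N := (LinearMap.lTensor R β).comp c.symm.toLinearMap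
  have hΦ : ∀ (r : R) (n' : N'), Φl (r ⊗ₜ n') = r ⊗ₜ τ n' := by
    intro r n'
    change (LinearMap.lTensor R β) (c.symm (r ⊗ₜ n')) = _
    rw [TensorProduct.AlgebraTensorModule.cancelBaseChange_symm_tmul, LinearMap.lTensor_tmul, hβ,
      one_smul]
  have hsurj : (∀ n : N, n ∈ Submodule.span A (Set.range τ)) → Function.Surjective β := by
    intro hgen
    rw [← LinearMap.range_eq_top, eq_top_iff]
    intro n _
    have hn := hgen n
    refine Submodule.span_le.2 ?_ hn
    rintro _ ⟨n', rfl⟩
    exact ⟨1 ⊗ₜ n', by rw [hβ, one_smul]⟩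
  refine ⟨Φl.toAddMonoidHom, hΦ, ?_, ?_⟩
  · intro hgen
    have h1 : Function.Surjective (LinearMap.lTensor R β) :=
      LinearMap.lTensor_surjective R (hsurj hgen)
    exact h1.comp c.symm.surjective
  · intro ι' ι h1 hι hcomp hgen
    have hinj : Function.Injective β := by
      have h2 : ∀ x : A ⊗[A'] N', ι (β x) = TensorProduct.rid A' A (LinearMap.lTensor A ι' x) := by
        intro x
        induction x using TensorProduct.induction_on with
        | zero => simp
        | tmul a n' =>
          rw [hβ, map_smul, hcomp, LinearMap.lTensor_tmul, TensorProduct.rid_tmul, smul_eq_mul,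
            Algebra.smul_def, mul_comm]
        | add x y hx hy => rw [map_add, map_add, map_add, map_add, hx, hy]
      intro x y hxy
      apply h1
      apply (TensorProduct.rid A' A).injective
      rw [← h2, ← h2, hxy]
    let βe : A ⊗[A'] N' ≃ₗ[A] N := LinearEquiv.ofBijective β ⟨hinj, hsurj hgen⟩
    have h3 : Function.Bijective (LinearMap.lTensor R β) :=
      (LinearEquiv.lTensor R βe).bijective
    exact h3.comp c.symm.bijective

end L0

end Groth.Agent.R2.H36.GrBCAlg
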