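import Mathlib
import Groth.Prelude.Def_OmegaPn
import Groth.Agent.R2.H36GrBC
import Groth.Agent.R2.H36GrBCAlg

set_option autoImplicit false
set_option linter.style.haveILetI false
set_option linter.unusedSectionVars false
universe u
open CategoryTheory AlgebraicGeometry Limits TopologicalSpace Opposite TensorProduct

namespace Groth.Agent.R2.H36.GrBC2

open Groth.Agent.Helper18OmLS Groth.Agent.Helper18Om Groth.Agent.Helper18Con
open Groth.Agent.Helper13PullbackUnit Groth.Agent.Helper13ModGlue Groth.Agent.Lib.Helper6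
open Groth.Agent.R2.H36.GrBC

section chart4
variable {Z X Z' X' : Scheme.{u}} (i : Z ⟶ X) (i' : Z' ⟶ X') [IsImmersion i] [IsImmersion i']
  [QuasiCompact i] [QuasiCompact i'] (g : X ⟶ X') (gZ : Z ⟶ Z') (hsq : IsPullback i gZ g i') (n : ℕ)
  (φ : (Scheme.Modules.pullback gZ).obj (PrinPart.grMod i' n) ⟶ PrinPart.grMod i n)
  (hφ : PrinPart.IsGrMap i i' g gZ n φ)
  {V' : X'.Opens} (hV' : IsAffineOpen V') (hV'c : V' ≤ i'.coborderRange)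
  {U : X.Opens} (hU : IsAffineOpen U) (hUV' : U ≤ g ⁻¹ᵁ V') (hUc : U ≤ i.coborderRange)

include hsq hφ hV' hV'c hU hUV' hUc in
theorem chart_gr_of_inj :
    Function.Surjective (φ.app (i ⁻¹ᵁ U)) ∧
      ((letI : Algebra Γ(X', V') Γ(X, U) := (g.appLE V' U hUV').hom.toAlgebra
        ∀ ι' : Γ(ClSub.idealMod (i'.ker ^ n), V') →ₗ[Γ(X', V')] Γ(X', V'),
          (∀ m, ι' m = OmegaSh.idealSect (i'.ker ^ n) V' m) →
          Function.Injective (LinearMap.lTensor Γ(X, U) ι')) →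
        Function.Bijective (φ.app (i ⁻¹ᵁ U))) := by
  have hTaff : IsAffineOpen (i ⁻¹ᵁ U) :=
    Groth.Agent.Lib.Helper20.ConormalStalk.isAffineOpen_preimage i hU hUc
  have hT'aff : IsAffineOpen (i' ⁻¹ᵁ V') :=
    Groth.Agent.Lib.Helper20.ConormalStalk.isAffineOpen_preimage i' hV' hV'c
  have hTT' := chart_le i i' g gZ hsq hUV'
  letI algA'A : Algebra Γ(X', V') Γ(X, U) := (g.appLE V' U hUV').hom.toAlgebra
  letI algAR : Algebra Γ(X, U) Γ(Z, i ⁻¹ᵁ U) := (i.appLE U (i ⁻¹ᵁ U) le_rfl).hom.toAlgebra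
  letI algA'R : Algebra Γ(X', V') Γ(Z, i ⁻¹ᵁ U) :=
    ((algebraMap Γ(X, U) Γ(Z, i ⁻¹ᵁ U)).comp (algebraMap Γ(X', V') Γ(X, U))).toAlgebra
  haveI : IsScalarTower Γ(X', V') Γ(X, U) Γ(Z, i ⁻¹ᵁ U) :=
    IsScalarTower.of_algebraMap_eq fun _ => rfl
  have hsqR : ∀ a : Γ(X', V'), algebraMap Γ(X', V') Γ(Z, i ⁻¹ᵁ U) a =
      gZ.appLE (i' ⁻¹ᵁ V') (i ⁻¹ᵁ U) hTT' (i'.appLE V' (i' ⁻¹ᵁ V') le_rfl a) := by
    intro a
    have h1 : g.appLE V' U hUV' ≫ i.appLE U (i ⁻¹ᵁ U) le_rfl =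
        (i ≫ g).appLE V' (i ⁻¹ᵁ U) (i.preimage_mono hUV') :=
      Scheme.Hom.appLE_comp_appLE _ _ _ _ _ _ _
    have h2 : i'.appLE V' (i' ⁻¹ᵁ V') le_rfl ≫ gZ.appLE (i' ⁻¹ᵁ V') (i ⁻¹ᵁ U) hTT' =
        (gZ ≫ i').appLE V' (i ⁻¹ᵁ U) hTT' :=
      Scheme.Hom.appLE_comp_appLE _ _ _ _ _ _ _
    have h3 := OmegaSh.appLE_congr_hom hsq.w (U := V') (V := i ⁻¹ᵁ U) (i.preimage_mono hUV') hTT'
    have h4 : g.appLE V' U hUV' ≫ i.appLE U (i ⁻¹ᵁ U) le_rfl =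
        i'.appLE V' (i' ⁻¹ᵁ V') le_rfl ≫ gZ.appLE (i' ⁻¹ᵁ V') (i ⁻¹ᵁ U) hTT' := by
      rw [h1, h2, h3]
    exact congr($h4 a)
  -- the pushout square of rings and the kernel
  have hPO : IsPushout (g.appLE V' U hUV') (i'.appLE V' (i' ⁻¹ᵁ V') le_rfl)
      (i.appLE U (i ⁻¹ᵁ U) (by simp)) (gZ.appLE (i' ⁻¹ᵁ V') (i ⁻¹ᵁ U) hTT') := by
    have hUY : i ⁻¹ᵁ U = i ⁻¹ᵁ U ⊓ gZ ⁻¹ᵁ (i' ⁻¹ᵁ V') := (inf_eq_left.2 hTT').symm
    have := isIso_pushoutSection_of_isAffineOpen hsq (le_refl _) hUV' hUY hV' hT'aff hU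
    exact (isIso_pushoutSection_iff hsq _ _ hUY).mp this
  have hsurj' : Function.Surjective (i'.appLE V' (i' ⁻¹ᵁ V') le_rfl).hom := by
    have := Groth.Agent.Lib.Helper20.ConormalStalk.app_surjective i' hV' hV'c
    rw [Scheme.Hom.app_eq_appLE] at this
    exact this
  have hker := ker_eq_map_of_isPushout hPO hsurj'
  have hkerI : RingHom.ker (i.app U).hom = RingHom.ker (i.appLE U (i ⁻¹ᵁ U) le_rfl).hom := by
    rw [← Scheme.Hom.app_eq_appLE]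
  have hkerI' : RingHom.ker (i'.app V').hom = RingHom.ker (i'.appLE V' (i' ⁻¹ᵁ V') le_rfl).hom := by
    rw [← Scheme.Hom.app_eq_appLE]
  -- the comparison map of ideals
  have hτex : ∀ s' : Γ(ClSub.idealMod (i'.ker ^ n), V'), ∃ s : Γ(ClSub.idealMod (i.ker ^ n), U),
      OmegaSh.idealSect (i.ker ^ n) U s =
        g.appLE V' U hUV' (OmegaSh.idealSect (i'.ker ^ n) V' s') := by
    intro s'
    refine exists_idealSect_of_mem (i.ker ^ n) hU _ ?_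
    rw [pow_ideal_eq i n hU]
    have h1 := idealSect_mem (i'.ker ^ n) hV' s'
    rw [pow_ideal_eq i' n hV'] at h1
    exact appLE_mem_pow i i' g gZ hsq n hUV' _ h1
  choose τf hτf using hτex
  let τ : Γ(ClSub.idealMod (i'.ker ^ n), V') →+ Γ(ClSub.idealMod (i.ker ^ n), U) :=
    { toFun := τf
      map_zero' := by
        apply idealSect_injective
        rw [hτf, map_zero, map_zero, map_zero]
      map_add' := fun a b => by
        apply idealSect_injective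
        rw [hτf, map_add, map_add, map_add, hτf, hτf] }
  have hτ : ∀ (a : Γ(X', V')) (m : Γ(ClSub.idealMod (i'.ker ^ n), V')),
      τ (a • m) = algebraMap Γ(X', V') Γ(X, U) a • τ m := by
    intro a m
    apply idealSect_injective
    change OmegaSh.idealSect (i.ker ^ n) U (τf (a • m)) = OmegaSh.idealSect (i.ker ^ n) U
      (algebraMap Γ(X', V') Γ(X, U) a • τf m)
    rw [hτf, idealSect_smul, idealSect_smul, hτf, map_mul]
    rfl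
  have hgen : ∀ m : Γ(ClSub.idealMod (i.ker ^ n), U), m ∈ Submodule.span Γ(X, U) (Set.range τ) := by
    intro m
    have h1 : OmegaSh.idealSect (i.ker ^ n) U m ∈ Ideal.map (g.appLE V' U hUV').hom
        ((RingHom.ker (i'.appLE V' (i' ⁻¹ᵁ V') le_rfl).hom) ^ n) := by
      rw [Ideal.map_pow, ← hker, ← hkerI, ← pow_ideal_eq i n hU]
      exact idealSect_mem (i.ker ^ n) hU m
    have key : ∀ x ∈ Ideal.map (g.appLE V' U hUV').hom
        ((RingHom.ker (i'.appLE V' (i' ⁻¹ᵁ V') le_rfl).hom) ^ n),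
        ∃ m ∈ Submodule.span Γ(X, U) (Set.range τ), OmegaSh.idealSect (i.ker ^ n) U m = x := by
      intro x hx
      refine Submodule.span_induction ?_ ?_ ?_ ?_ hx
      · rintro _ ⟨σ', hσ', rfl⟩
        obtain ⟨s', hs'⟩ := exists_idealSect_of_mem (i'.ker ^ n) hV' σ' (by
          rw [pow_ideal_eq i' n hV', hkerI']
          exact hσ')
        refine ⟨τ s', Submodule.subset_span ⟨s', rfl⟩, ?_⟩
        change OmegaSh.idealSect (i.ker ^ n) U (τf s') = _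
        rw [hτf, hs']
      · exact ⟨0, zero_mem _, map_zero _⟩
      · rintro x y _ _ ⟨m, hm, rfl⟩ ⟨m', hm', rfl⟩
        exact ⟨m + m', add_mem hm hm', map_add _ _ _⟩
      · rintro a x _ ⟨m, hm, rfl⟩
        exact ⟨a • m, Submodule.smul_mem _ a hm, idealSect_smul _ U a m⟩
    obtain ⟨m₀, hm₀, hmn⟩ := key _ h1
    rwa [idealSect_injective _ _ hmn] at hm₀
  -- the tensor product descriptions
  haveI : (ClSub.idealMod (i.ker ^ n)).IsQuasicoherent :=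
    Groth.Agent.Lib.Helper20.OmegaAff.isQuasicoherent_idealMod _
  haveI : (ClSub.idealMod (i'.ker ^ n)).IsQuasicoherent :=
    Groth.Agent.Lib.Helper20.OmegaAff.isQuasicoherent_idealMod _
  obtain ⟨e₃, he₃⟩ := exists_pullback_equiv i (ClSub.idealMod (i.ker ^ n)) (le_refl (i ⁻¹ᵁ U)) hU hTaff rfl
  let L : Γ(ClSub.idealMod (i'.ker ^ n), V') →+
      Γ((Scheme.Modules.pullback gZ).obj ((Scheme.Modules.pullback i').obj (ClSub.idealMod (i'.ker ^ n))),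
        i ⁻¹ᵁ U) :=
    (unitSec gZ ((Scheme.Modules.pullback i').obj (ClSub.idealMod (i'.ker ^ n))) hTT').comp
      (unitSec i' (ClSub.idealMod (i'.ker ^ n)) (le_refl (i' ⁻¹ᵁ V')))
  have hL : ∀ (a : Γ(X', V')) (m : Γ(ClSub.idealMod (i'.ker ^ n), V')),
      L (a • m) = algebraMap Γ(X', V') Γ(Z, i ⁻¹ᵁ U) a • L m := by
    intro a m
    change unitSec gZ _ hTT' (unitSec i' (ClSub.idealMod (i'.ker ^ n)) (le_refl (i' ⁻¹ᵁ V')) (a • m)) = _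
    rw [unitSec_smul, unitSec_smul, hsqR]
    rfl
  obtain ⟨Λ, hΛ⟩ := exists_baseChangeEquiv (A := Γ(X', V')) (B := Γ(Z, i ⁻¹ᵁ U)) L hL
    (fun N _ _ l hl => existsUnique_lift₂ i' gZ (ClSub.idealMod (i'.ker ^ n)) hV' hT'aff (le_refl _)
      hTaff hTT' N l (fun r x => by rw [hl, hsqR]))
  obtain ⟨Φ, hΦ, hΦs, hΦb⟩ := Groth.Agent.R2.H36.GrBCAlg.exists_tensor_map' (R := Γ(Z, i ⁻¹ᵁ U)) τ hτ
  let φT : Γ((Scheme.Modules.pullback gZ).obj ((Scheme.Modules.pullback i').obj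
      (ClSub.idealMod (i'.ker ^ n))), i ⁻¹ᵁ U) →+
      Γ((Scheme.Modules.pullback i).obj (ClSub.idealMod (i.ker ^ n)), i ⁻¹ᵁ U) := (φ.app (i ⁻¹ᵁ U)).hom
  have hφT : ∀ x, φT x = φ.app (i ⁻¹ᵁ U) x := fun _ => rfl
  have hcomp : ∀ v : Γ(Z, i ⁻¹ᵁ U) ⊗[Γ(X', V')] Γ(ClSub.idealMod (i'.ker ^ n), V'),
      φT (Λ v) = e₃ (Φ v) := by
    intro v
    induction v using TensorProduct.induction_on with
    | zero => rw [map_zero, map_zero, map_zero, map_zero]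
    | tmul r s' =>
      rw [hΛ, hΦ, he₃]
      refine (Scheme.Modules.Hom.app_smul φ r _).trans ?_
      congr 1
      exact phi_double i i' g gZ hsq n φ hφ hV' hUV' s' (τ s') (hτf s')
    | add x y hx hy => rw [map_add, map_add, map_add, map_add, hx, hy]
  constructor
  · intro y
    obtain ⟨w, rfl⟩ := e₃.surjective y
    obtain ⟨v, rfl⟩ := hΦs hgen w
    exact ⟨Λ v, (hφT _).symm.trans (hcomp v)⟩
  · intro hinj
    let ι' : Γ(ClSub.idealMod (i'.ker ^ n), V') →ₗ[Γ(X', V')] Γ(X', V') :=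
      { toFun := OmegaSh.idealSect (i'.ker ^ n) V'
        map_add' := map_add _
        map_smul' := fun a m => idealSect_smul _ V' a m }
    let ι : Γ(ClSub.idealMod (i.ker ^ n), U) →ₗ[Γ(X, U)] Γ(X, U) :=
      { toFun := OmegaSh.idealSect (i.ker ^ n) U
        map_add' := map_add _
        map_smul' := fun a m => idealSect_smul _ U a m }
    have hb := hΦb ι' ι (hinj ι' (fun _ => rfl)) (idealSect_injective _ U)
      (fun n' => hτf n') hgen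
    constructor
    · intro x y hxy
      obtain ⟨v, rfl⟩ := Λ.surjective x
      obtain ⟨w, rfl⟩ := Λ.surjective y
      have hxy' : φT (Λ v) = φT (Λ w) := hxy
      rw [hcomp, hcomp] at hxy'
      rw [hb.1 (e₃.injective hxy')]
    · intro y
      obtain ⟨w, rfl⟩ := e₃.surjective y
      obtain ⟨v, rfl⟩ := hb.2 w
      exact ⟨Λ v, (hφT _).symm.trans (hcomp v)⟩

end chart4

section pushout
variable {X Z X' Z' : Scheme.{u}} {g : X ⟶ X'} {q : X ⟶ Z} {q' : X' ⟶ Z'} {gZ : Z ⟶ Z'}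
  (hsq2 : IsPullback g q q' gZ)
  {T' : Z'.Opens} (hT' : IsAffineOpen T') {V' : X'.Opens} (hV' : IsAffineOpen V')
  (hV'T' : V' ≤ q' ⁻¹ᵁ T') {T : Z.Opens} (hT : IsAffineOpen T) (hTT' : T ≤ gZ ⁻¹ᵁ T')
  {U : X.Opens} (hUeq : U = g ⁻¹ᵁ V' ⊓ q ⁻¹ᵁ T) (hUV' : U ≤ g ⁻¹ᵁ V')

include hsq2 hT' hV' hV'T' hT hTT' hUeq in
theorem isAffineOpen_of_isPullback : IsAffineOpen U := by
  have : IsAffine _ := hT'
  have : IsAffine _ := hT
  have : IsAffine _ := hV'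
  exact .of_isIso (Scheme.Hom.isPullback_resLE hsq2 hTT' hV'T' hUeq).isoPullback.hom

include hsq2 hT' hV' hT hUeq in
theorem lTensor_injective_of_isPullback
    (M' : Type u) [AddCommGroup M'] [Module Γ(X', V') M'] (ι' : M' →ₗ[Γ(X', V')] Γ(X', V'))
    (h : letI : Algebra Γ(Z', T') Γ(X', V') := (q'.appLE T' V' hV'T').hom.toAlgebra
      letI : Algebra Γ(Z', T') Γ(Z, T) := (gZ.appLE T' T hTT').hom.toAlgebra
      letI : Module Γ(Z', T') M' := Module.compHom M' (algebraMap Γ(Z', T') Γ(X', V'))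
      haveI : IsScalarTower Γ(Z', T') Γ(X', V') M' := IsScalarTower.of_algebraMap_smul fun _ _ => rfl
      Function.Injective (LinearMap.lTensor Γ(Z, T) (ι'.restrictScalars Γ(Z', T')))) :
    letI : Algebra Γ(X', V') Γ(X, U) := (g.appLE V' U hUV').hom.toAlgebra
    Function.Injective (LinearMap.lTensor Γ(X, U) ι') := by
  have hUT : U ≤ q ⁻¹ᵁ T := hUeq.le.trans inf_le_right
  letI algR'A' : Algebra Γ(Z', T') Γ(X', V') := (q'.appLE T' V' hV'T').hom.toAlgebra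
  letI algR'R : Algebra Γ(Z', T') Γ(Z, T) := (gZ.appLE T' T hTT').hom.toAlgebra
  letI algA'A : Algebra Γ(X', V') Γ(X, U) := (g.appLE V' U hUV').hom.toAlgebra
  letI algRA : Algebra Γ(Z, T) Γ(X, U) := (q.appLE T U hUT).hom.toAlgebra
  letI algR'A : Algebra Γ(Z', T') Γ(X, U) :=
    ((algebraMap Γ(X', V') Γ(X, U)).comp (algebraMap Γ(Z', T') Γ(X', V'))).toAlgebra
  haveI : IsScalarTower Γ(Z', T') Γ(X', V') Γ(X, U) := IsScalarTower.of_algebraMap_eq fun _ => rfl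
  have hcomm : q'.appLE T' V' hV'T' ≫ g.appLE V' U hUV' =
      gZ.appLE T' T hTT' ≫ q.appLE T U hUT := by
    rw [Scheme.Hom.appLE_comp_appLE, Scheme.Hom.appLE_comp_appLE]
    exact OmegaSh.appLE_congr_hom hsq2.w _ _
  haveI : IsScalarTower Γ(Z', T') Γ(Z, T) Γ(X, U) := IsScalarTower.of_algebraMap_eq fun r =>
    congr($hcomm r)
  have hPO : IsPushout (q'.appLE T' V' hV'T') (gZ.appLE T' T hTT')
      (g.appLE V' U hUV') (q.appLE T U hUT) := by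
    have := isIso_pushoutSection_of_isAffineOpen hsq2 hTT' hV'T' hUeq hT' hT hV'
    exact (isIso_pushoutSection_iff hsq2 _ _ hUeq).mp this
  haveI : Algebra.IsPushout Γ(Z', T') Γ(Z, T) Γ(X', V') Γ(X, U) :=
    CommRingCat.isPushout_iff_isPushout.mp hPO.flip
  letI : Module Γ(Z', T') M' := Module.compHom M' (algebraMap Γ(Z', T') Γ(X', V'))
  haveI : IsScalarTower Γ(Z', T') Γ(X', V') M' := IsScalarTower.of_algebraMap_smul fun _ _ => rfl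
  exact Groth.Agent.R2.H36.GrBCAlg.lTensor_injective_of_isPushout (R' := Γ(Z', T')) (R := Γ(Z, T)) ι' h

end pushout

theorem coborderRange_eq_top {Z X : Scheme.{u}} (i : Z ⟶ X) [IsClosedImmersion i] :
    i.coborderRange = ⊤ :=
  Opens.ext (IsClosed.coborder_eq i.isClosedEmbedding.isClosed_range)

section sectionCase
variable {Z X Z' X' : Scheme.{u}} (i : Z ⟶ X) (i' : Z' ⟶ X') [IsClosedImmersion i]
  [IsClosedImmersion i'] (g : X ⟶ X') (gZ : Z ⟶ Z') (q : X ⟶ Z) (q' : X' ⟶ Z')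
  (hq : i ≫ q = 𝟙 Z) (hq' : i' ≫ q' = 𝟙 Z') (hsq2 : IsPullback g q q' gZ)
  (hcomm : i ≫ g = gZ ≫ i')

omit [IsClosedImmersion i] [IsClosedImmersion i'] in
include hq hq' hsq2 hcomm in
theorem isPullback_top : IsPullback i gZ g i' := by
  have houter : IsPullback gZ (i ≫ q) (i' ≫ q') gZ := by
    rw [hq, hq']
    exact IsPullback.of_vert_isIso ⟨by simp⟩
  exact (IsPullback.of_bot houter hcomm.symm hsq2).flip

omit [IsClosedImmersion i'] in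
include hq' in
theorem preimage_preimage_eq (W : Z'.Opens) : i' ⁻¹ᵁ (q' ⁻¹ᵁ W) = W := by
  change (i' ≫ q') ⁻¹ᵁ W = W
  rw [hq']
  rfl

include hq' in
/-- the split injectivity hypothesis for `n = 1`. -/
theorem split_inj {V' : X'.Opens} (hV' : IsAffineOpen V') (hV'q : V' ≤ q' ⁻¹ᵁ (i' ⁻¹ᵁ V'))
    (N : Type u) [AddCommGroup N] [Module Γ(Z', i' ⁻¹ᵁ V') N]
    (ι' : Γ(ClSub.idealMod (i'.ker ^ 1), V') →ₗ[Γ(X', V')] Γ(X', V'))
    (hι' : ∀ m, ι' m = OmegaSh.idealSect (i'.ker ^ 1) V' m) :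
    letI : Algebra Γ(Z', i' ⁻¹ᵁ V') Γ(X', V') := (q'.appLE (i' ⁻¹ᵁ V') V' hV'q).hom.toAlgebra
    letI : Module Γ(Z', i' ⁻¹ᵁ V') Γ(ClSub.idealMod (i'.ker ^ 1), V') :=
      Module.compHom _ (algebraMap Γ(Z', i' ⁻¹ᵁ V') Γ(X', V'))
    haveI : IsScalarTower Γ(Z', i' ⁻¹ᵁ V') Γ(X', V') Γ(ClSub.idealMod (i'.ker ^ 1), V') :=
      IsScalarTower.of_algebraMap_smul fun _ _ => rfl
    Function.Injective (LinearMap.lTensor N (ι'.restrictScalars Γ(Z', i' ⁻¹ᵁ V'))) := by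
  letI : Algebra Γ(Z', i' ⁻¹ᵁ V') Γ(X', V') := (q'.appLE (i' ⁻¹ᵁ V') V' hV'q).hom.toAlgebra
  letI : Module Γ(Z', i' ⁻¹ᵁ V') Γ(ClSub.idealMod (i'.ker ^ 1), V') :=
    Module.compHom _ (algebraMap Γ(Z', i' ⁻¹ᵁ V') Γ(X', V'))
  haveI : IsScalarTower Γ(Z', i' ⁻¹ᵁ V') Γ(X', V') Γ(ClSub.idealMod (i'.ker ^ 1), V') :=
    IsScalarTower.of_algebraMap_smul fun _ _ => rfl
  have hker : ∀ a : Γ(X', V'), (i'.appLE V' (i' ⁻¹ᵁ V') le_rfl).hom a = 0 ↔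
      a ∈ (i'.ker ^ 1).ideal ⟨V', hV'⟩ := by
    intro a
    rw [pow_ideal_eq i' 1 hV', pow_one, RingHom.mem_ker, Scheme.Hom.app_eq_appLE]
  refine Groth.Agent.R2.H36.GrBCAlg.lTensor_injective_of_split ι'
    (i'.appLE V' (i' ⁻¹ᵁ V') le_rfl).hom ?_ ?_ ?_ ?_ N
  · intro r
    have h1 : q'.appLE (i' ⁻¹ᵁ V') V' hV'q ≫ i'.appLE V' (i' ⁻¹ᵁ V') le_rfl = 𝟙 _ := by
      rw [Scheme.Hom.appLE_comp_appLE]
      exact OmegaSh.id_appLE_eq_id hq' _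
    exact congr($h1 r)
  · intro a b hab
    rw [hι', hι'] at hab
    exact idealSect_injective _ _ hab
  · intro a ha
    obtain ⟨m, hm⟩ := exists_idealSect_of_mem (i'.ker ^ 1) hV' a ((hker a).1 ha)
    exact ⟨m, (hι' m).trans hm⟩
  · intro m
    rw [hι', hker]
    exact idealSect_mem _ hV' m

end sectionCase

section sectionMain
variable {Z X Z' X' : Scheme.{u}} (i : Z ⟶ X) (i' : Z' ⟶ X') [IsClosedImmersion i]
  [IsClosedImmersion i'] (g : X ⟶ X') (gZ : Z ⟶ Z') (q : X ⟶ Z) (q' : X' ⟶ Z')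
  (hq : i ≫ q = 𝟙 Z) (hq' : i' ≫ q' = 𝟙 Z') (hsq2 : IsPullback g q q' gZ)
  (hcomm : i ≫ g = gZ ≫ i')

include hq hq' hcomm in
theorem exists_chart_section (z : Z) : ∃ (V' : X'.Opens) (T : Z.Opens), IsAffineOpen V' ∧
    V' ≤ q' ⁻¹ᵁ (i' ⁻¹ᵁ V') ∧ IsAffineOpen T ∧ T ≤ gZ ⁻¹ᵁ (i' ⁻¹ᵁ V') ∧
    z ∈ i ⁻¹ᵁ (g ⁻¹ᵁ V' ⊓ q ⁻¹ᵁ T) := by
  have hq'x : ∀ y : Z', q' (i' y) = y := fun y => by
    rw [← Scheme.Hom.comp_apply, hq']; rfl
  have hqx : ∀ y : Z, q (i y) = y := fun y => by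
    rw [← Scheme.Hom.comp_apply, hq]; rfl
  have hgx : ∀ y : Z, g (i y) = i' (gZ y) := fun y => by
    rw [← Scheme.Hom.comp_apply, ← Scheme.Hom.comp_apply, hcomm]
  obtain ⟨T₀', hT₀', hzT₀', -⟩ := exists_isAffineOpen_mem_and_subset (x := gZ z)
    (U := (⊤ : Z'.Opens)) trivial
  have hx' : i' (gZ z) ∈ q' ⁻¹ᵁ T₀' := by
    change q' (i' (gZ z)) ∈ T₀'
    rw [hq'x]; exact hzT₀'
  obtain ⟨V₁, hV₁, hxV₁, hV₁T₀'⟩ := exists_isAffineOpen_mem_and_subset (x := i' (gZ z)) hx'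
  have hT₁ : IsAffineOpen (i' ⁻¹ᵁ V₁) :=
    Groth.Agent.Lib.Helper20.ConormalStalk.isAffineOpen_preimage i' hV₁
      (by rw [coborderRange_eq_top]; exact le_top)
  have hT₁T₀' : i' ⁻¹ᵁ V₁ ≤ (𝟙 Z') ⁻¹ᵁ T₀' := by
    intro y hy
    have : q' (i' y) ∈ T₀' := hV₁T₀' hy
    rwa [hq'x] at this
  have hV' : IsAffineOpen (V₁ ⊓ q' ⁻¹ᵁ (i' ⁻¹ᵁ V₁)) :=
    isAffineOpen_of_isPullback (g := 𝟙 X') (q := q') (q' := q') (gZ := 𝟙 Z')
      (IsPullback.of_horiz_isIso ⟨by simp⟩) hT₀' hV₁ hV₁T₀' hT₁ hT₁T₀' rfl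
  have hpre : i' ⁻¹ᵁ (V₁ ⊓ q' ⁻¹ᵁ (i' ⁻¹ᵁ V₁)) = i' ⁻¹ᵁ V₁ := by
    ext y
    constructor
    · intro hy; exact hy.1
    · intro hy
      refine ⟨hy, ?_⟩
      change q' (i' y) ∈ i' ⁻¹ᵁ V₁
      rw [hq'x]; exact hy
  have hzV' : gZ z ∈ i' ⁻¹ᵁ (V₁ ⊓ q' ⁻¹ᵁ (i' ⁻¹ᵁ V₁)) := by
    rw [hpre]; exact hxV₁
  obtain ⟨T, hT, hzT, hTle⟩ := exists_isAffineOpen_mem_and_subset (x := z)
    (U := gZ ⁻¹ᵁ (i' ⁻¹ᵁ (V₁ ⊓ q' ⁻¹ᵁ (i' ⁻¹ᵁ V₁)))) hzV'
  refine ⟨V₁ ⊓ q' ⁻¹ᵁ (i' ⁻¹ᵁ V₁), T, hV', ?_, hT, hTle, ?_, ?_⟩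
  · rw [hpre]; exact inf_le_right
  · change g (i z) ∈ (V₁ ⊓ q' ⁻¹ᵁ (i' ⁻¹ᵁ V₁) : X'.Opens)
    rw [hgx]
    exact hzV'
  · change q (i z) ∈ T
    rw [hqx]; exact hzT

include hq hq' hsq2 hcomm in
/-- the canonical map of `n`-th graded pieces of a section and its base change is an isomorphism
as soon as the chartwise injectivity hypothesis holds. -/
theorem main_gr_section (n : ℕ)
    (φ : (Scheme.Modules.pullback gZ).obj (PrinPart.grMod i' n) ⟶ PrinPart.grMod i n)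
    (hφ : PrinPart.IsGrMap i i' g gZ n φ)
    (hinj : ∀ (V' : X'.Opens) (_ : IsAffineOpen V') (hV'q : V' ≤ q' ⁻¹ᵁ (i' ⁻¹ᵁ V'))
      (N : Type u) [AddCommGroup N] [Module Γ(Z', i' ⁻¹ᵁ V') N]
      (ι' : Γ(ClSub.idealMod (i'.ker ^ n), V') →ₗ[Γ(X', V')] Γ(X', V'))
      (_ : ∀ m, ι' m = OmegaSh.idealSect (i'.ker ^ n) V' m),
      letI : Algebra Γ(Z', i' ⁻¹ᵁ V') Γ(X', V') := (q'.appLE (i' ⁻¹ᵁ V') V' hV'q).hom.toAlgebra
      letI : Module Γ(Z', i' ⁻¹ᵁ V') Γ(ClSub.idealMod (i'.ker ^ n), V') :=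
        Module.compHom _ (algebraMap Γ(Z', i' ⁻¹ᵁ V') Γ(X', V'))
      haveI : IsScalarTower Γ(Z', i' ⁻¹ᵁ V') Γ(X', V') Γ(ClSub.idealMod (i'.ker ^ n), V') :=
        IsScalarTower.of_algebraMap_smul fun _ _ => rfl
      Function.Injective (LinearMap.lTensor N (ι'.restrictScalars Γ(Z', i' ⁻¹ᵁ V')))) :
    IsIso φ := by
  have hsq1 := isPullback_top i i' g gZ q q' hq hq' hsq2 hcomm
  haveI : (ClSub.idealMod (i.ker ^ n)).IsQuasicoherent :=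
    Groth.Agent.Lib.Helper20.OmegaAff.isQuasicoherent_idealMod _
  haveI : (ClSub.idealMod (i'.ker ^ n)).IsQuasicoherent :=
    Groth.Agent.Lib.Helper20.OmegaAff.isQuasicoherent_idealMod _
  haveI : (PrinPart.grMod i n).IsQuasicoherent :=
    inferInstanceAs ((Scheme.Modules.pullback i).obj (ClSub.idealMod (i.ker ^ n))).IsQuasicoherent
  haveI : (PrinPart.grMod i' n).IsQuasicoherent :=
    inferInstanceAs ((Scheme.Modules.pullback i').obj (ClSub.idealMod (i'.ker ^ n))).IsQuasicoherent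
  let ι : Type u := {P : X'.Opens × Z.Opens // IsAffineOpen P.1 ∧ P.1 ≤ q' ⁻¹ᵁ (i' ⁻¹ᵁ P.1) ∧
    IsAffineOpen P.2 ∧ P.2 ≤ gZ ⁻¹ᵁ (i' ⁻¹ᵁ P.1)}
  let Uof : ι → X.Opens := fun P => g ⁻¹ᵁ P.1.1 ⊓ q ⁻¹ᵁ P.1.2
  have hT'aff : ∀ P : ι, IsAffineOpen (i' ⁻¹ᵁ P.1.1) := fun P =>
    Groth.Agent.Lib.Helper20.ConormalStalk.isAffineOpen_preimage i' P.2.1
      (by rw [coborderRange_eq_top]; exact le_top)
  have hUaff : ∀ P : ι, IsAffineOpen (Uof P) := fun P =>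
    isAffineOpen_of_isPullback hsq2 (hT'aff P) P.2.1 P.2.2.1 P.2.2.2.1 P.2.2.2.2 rfl
  have hcover : IsOpenCover (fun P : ι => i ⁻¹ᵁ (Uof P)) := by
    refine IsOpenCover.mk (eq_top_iff.mpr ?_)
    intro z _
    obtain ⟨V', T, hV', hV'q, hT, hTle, hz⟩ := exists_chart_section i i' g gZ q q' hq hq' hcomm z
    exact Opens.mem_iSup.mpr ⟨⟨⟨V', T⟩, hV', hV'q, hT, hTle⟩, hz⟩
  have haff : ∀ P : ι, IsAffineOpen (i ⁻¹ᵁ (Uof P)) := fun P =>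
    Groth.Agent.Lib.Helper20.ConormalStalk.isAffineOpen_preimage i (hUaff P)
      (by rw [coborderRange_eq_top]; exact le_top)
  refine isIso_of_bijective_app_cover φ _ hcover haff (fun P => ?_)
  have hUV' : Uof P ≤ g ⁻¹ᵁ P.1.1 := inf_le_left
  refine (chart_gr_of_inj i i' g gZ hsq1 n φ hφ P.2.1 (by rw [coborderRange_eq_top]; exact le_top)
    (hUaff P) hUV' (by rw [coborderRange_eq_top]; exact le_top)).2 ?_
  intro ι' hι'
  refine lTensor_injective_of_isPullback hsq2 (hT'aff P) P.2.1 P.2.2.1 P.2.2.2.1 P.2.2.2.2 rfl hUV'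
    _ ι' ?_
  letI : Algebra Γ(Z', i' ⁻¹ᵁ P.1.1) Γ(Z, P.1.2) :=
    (gZ.appLE (i' ⁻¹ᵁ P.1.1) P.1.2 P.2.2.2.2).hom.toAlgebra
  exact hinj P.1.1 P.2.1 P.2.2.1 Γ(Z, P.1.2) ι' hι'

end sectionMain

end Groth.Agent.R2.H36.GrBC2
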