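import Mathlib
import Groth.Prelude.Def_OmegaPn
import Groth.Agent.R2.H36GrBC2
import Groth.Agent.Lib.Helper2LocFree
import Groth.Agent.Lib.Helper20Nakayama

set_option autoImplicit false
set_option linter.style.haveILetI false
set_option linter.unusedSectionVars false
universe u
open CategoryTheory AlgebraicGeometry Limits TopologicalSpace Opposite TensorProduct

namespace Groth.Agent.R2.H36.GrBC3

open Groth.Agent.Helper18OmLS Groth.Agent.Helper18Om Groth.Agent.Helper18Con
open Groth.Agent.Helper13PullbackUnit Groth.Agent.Helper13ModGlue Groth.Agent.Lib.Helper6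
open Groth.Agent.R2.H36.GrBC Groth.Agent.R2.H36.GrBC2

section flatChain
variable {Z' X' : Scheme.{u}} (i' : Z' ⟶ X') [IsClosedImmersion i'] (q' : X' ⟶ Z')
  (hq' : i' ≫ q' = 𝟙 Z')
  {V' : X'.Opens} (hV' : IsAffineOpen V') (hV'q : V' ≤ q' ⁻¹ᵁ (i' ⁻¹ᵁ V'))

include hq' hV' in
theorem flat_inj (n : ℕ) (hflat : ∀ k < n, FlatMod.IsFlat (PrinPart.grMod i' k))
    (N : Type u) [AddCommGroup N] [Module Γ(Z', i' ⁻¹ᵁ V') N]
    (ι' : Γ(ClSub.idealMod (i'.ker ^ n), V') →ₗ[Γ(X', V')] Γ(X', V'))
    (hι' : ∀ m, ι' m = OmegaSh.idealSect (i'.ker ^ n) V' m) :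
    letI : Algebra Γ(Z', i' ⁻¹ᵁ V') Γ(X', V') := (q'.appLE (i' ⁻¹ᵁ V') V' hV'q).hom.toAlgebra
    letI : Module Γ(Z', i' ⁻¹ᵁ V') Γ(ClSub.idealMod (i'.ker ^ n), V') :=
      Module.compHom _ (algebraMap Γ(Z', i' ⁻¹ᵁ V') Γ(X', V'))
    haveI : IsScalarTower Γ(Z', i' ⁻¹ᵁ V') Γ(X', V') Γ(ClSub.idealMod (i'.ker ^ n), V') :=
      IsScalarTower.of_algebraMap_smul fun _ _ => rfl
    Function.Injective (LinearMap.lTensor N (ι'.restrictScalars Γ(Z', i' ⁻¹ᵁ V'))) := by
  have hT' : IsAffineOpen (i' ⁻¹ᵁ V') :=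
    Groth.Agent.Lib.Helper20.ConormalStalk.isAffineOpen_preimage i' hV'
      (by rw [coborderRange_eq_top]; exact le_top)
  letI algR'A' : Algebra Γ(Z', i' ⁻¹ᵁ V') Γ(X', V') :=
    (q'.appLE (i' ⁻¹ᵁ V') V' hV'q).hom.toAlgebra
  letI algA'R' : Algebra Γ(X', V') Γ(Z', i' ⁻¹ᵁ V') :=
    (i'.appLE V' (i' ⁻¹ᵁ V') le_rfl).hom.toAlgebra
  letI modk : ∀ k : ℕ, Module Γ(Z', i' ⁻¹ᵁ V') Γ(ClSub.idealMod (i'.ker ^ k), V') := fun k =>
    Module.compHom _ (algebraMap Γ(Z', i' ⁻¹ᵁ V') Γ(X', V'))
  haveI towerk : ∀ k : ℕ, IsScalarTower Γ(Z', i' ⁻¹ᵁ V') Γ(X', V')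
      Γ(ClSub.idealMod (i'.ker ^ k), V') := fun k =>
    IsScalarTower.of_algebraMap_smul fun _ _ => rfl
  have hsm : ∀ (k : ℕ) (r : Γ(Z', i' ⁻¹ᵁ V')) (m : Γ(ClSub.idealMod (i'.ker ^ k), V')),
      r • m = (algebraMap Γ(Z', i' ⁻¹ᵁ V') Γ(X', V') r) • m := fun _ _ _ => rfl
  have hπσ : ∀ r : Γ(Z', i' ⁻¹ᵁ V'),
      algebraMap Γ(X', V') Γ(Z', i' ⁻¹ᵁ V') (algebraMap Γ(Z', i' ⁻¹ᵁ V') Γ(X', V') r) = r := by
    intro r
    have h1 : q'.appLE (i' ⁻¹ᵁ V') V' hV'q ≫ i'.appLE V' (i' ⁻¹ᵁ V') le_rfl = 𝟙 _ := by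
      rw [Scheme.Hom.appLE_comp_appLE]
      exact OmegaSh.id_appLE_eq_id hq' _
    exact congr($h1 r)
  have hsurjπ : Function.Surjective (algebraMap Γ(X', V') Γ(Z', i' ⁻¹ᵁ V')) := by
    have := Groth.Agent.Lib.Helper20.ConormalStalk.app_surjective i' hV'
      (by rw [coborderRange_eq_top]; exact le_top)
    rw [Scheme.Hom.app_eq_appLE] at this
    exact this
  have hkerπ : RingHom.ker (algebraMap Γ(X', V') Γ(Z', i' ⁻¹ᵁ V')) = RingHom.ker (i'.app V').hom := by
    rw [Scheme.Hom.app_eq_appLE]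
    rfl
  -- the linear maps `ι_k`
  let ιk : ∀ k : ℕ, Γ(ClSub.idealMod (i'.ker ^ k), V') →ₗ[Γ(X', V')] Γ(X', V') := fun k =>
    { toFun := OmegaSh.idealSect (i'.ker ^ k) V'
      map_add' := map_add _
      map_smul' := fun a m => idealSect_smul _ V' a m }
  have hιk : ∀ k m, ιk k m = OmegaSh.idealSect (i'.ker ^ k) V' m := fun _ _ => rfl
  have hmemk : ∀ (k : ℕ) (m : Γ(ClSub.idealMod (i'.ker ^ k), V')),
      OmegaSh.idealSect (i'.ker ^ k) V' m ∈ (RingHom.ker (i'.app V').hom) ^ k := by
    intro k m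
    rw [← pow_ideal_eq i' k hV']
    exact idealSect_mem _ hV' m
  have hexk : ∀ (k : ℕ) (a : Γ(X', V')), a ∈ (RingHom.ker (i'.app V').hom) ^ k →
      ∃ m : Γ(ClSub.idealMod (i'.ker ^ k), V'), OmegaSh.idealSect (i'.ker ^ k) V' m = a := by
    intro k a ha
    exact exists_idealSect_of_mem _ hV' a (by rw [pow_ideal_eq i' k hV']; exact ha)
  -- the main claim
  have C : ∀ k ≤ n, Function.Injective
      (LinearMap.lTensor N ((ιk k).restrictScalars Γ(Z', i' ⁻¹ᵁ V'))) := by
    intro k
    induction k with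
    | zero =>
      intro _
      have hbij : Function.Bijective ((ιk 0).restrictScalars Γ(Z', i' ⁻¹ᵁ V')) := by
        constructor
        · intro a b hab
          exact idealSect_injective _ _ hab
        · intro a
          obtain ⟨m, hm⟩ := hexk 0 a (by rw [pow_zero, Ideal.one_eq_top]; trivial)
          exact ⟨m, hm⟩
      let e := LinearEquiv.ofBijective ((ιk 0).restrictScalars Γ(Z', i' ⁻¹ᵁ V')) hbij
      exact (LinearEquiv.lTensor N e).injective
    | succ k ih =>
      intro hk
      have hCk := ih (Nat.le_of_succ_le hk)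
      have hfl : FlatMod.IsFlat (PrinPart.grMod i' k) := hflat k hk
      -- the inclusion `j`
      have hjex : ∀ m' : Γ(ClSub.idealMod (i'.ker ^ (k + 1)), V'),
          ∃ m : Γ(ClSub.idealMod (i'.ker ^ k), V'),
            OmegaSh.idealSect (i'.ker ^ k) V' m = OmegaSh.idealSect (i'.ker ^ (k + 1)) V' m' := by
        intro m'
        exact hexk k _ (Ideal.pow_le_pow_right (Nat.le_succ k) (hmemk (k + 1) m'))
      choose jf hjf using hjex
      let j : Γ(ClSub.idealMod (i'.ker ^ (k + 1)), V') →ₗ[Γ(Z', i' ⁻¹ᵁ V')]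
          Γ(ClSub.idealMod (i'.ker ^ k), V') :=
        { toFun := jf
          map_add' := fun a b => by
            apply idealSect_injective
            rw [hjf, map_add, map_add, hjf, hjf]
          map_smul' := fun r m => by
            apply idealSect_injective
            rw [RingHom.id_apply, hjf, hsm, hsm, idealSect_smul, idealSect_smul, hjf] }
      have hjinj : Function.Injective j := by
        intro a b hab
        apply idealSect_injective (i'.ker ^ (k + 1)) V'
        rw [← hjf a, ← hjf b]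
        exact congrArg _ hab
      have hcompj : ((ιk k).restrictScalars Γ(Z', i' ⁻¹ᵁ V')).comp j =
          (ιk (k + 1)).restrictScalars Γ(Z', i' ⁻¹ᵁ V') := LinearMap.ext hjf
      -- the projection `p`
      haveI : (ClSub.idealMod (i'.ker ^ k)).IsQuasicoherent :=
        Groth.Agent.Lib.Helper20.OmegaAff.isQuasicoherent_idealMod _
      haveI : (PrinPart.grMod i' k).IsQuasicoherent :=
        inferInstanceAs ((Scheme.Modules.pullback i').obj (ClSub.idealMod (i'.ker ^ k))).IsQuasicoherent
      let p : Γ(ClSub.idealMod (i'.ker ^ k), V') →ₗ[Γ(Z', i' ⁻¹ᵁ V')]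
          Γ(PrinPart.grMod i' k, i' ⁻¹ᵁ V') :=
        { toFun := unitSec i' (ClSub.idealMod (i'.ker ^ k)) (le_refl (i' ⁻¹ᵁ V'))
          map_add' := map_add _
          map_smul' := fun r m => by
            rw [RingHom.id_apply, hsm, unitSec_smul]
            congr 1
            exact hπσ r }
      have hpsurj : Function.Surjective p := fun y =>
        exists_unitSec_eq i' (ClSub.idealMod (i'.ker ^ k)) (le_refl (i' ⁻¹ᵁ V')) hV' hT' rfl hsurjπ y
      have hflatP : Module.Flat Γ(Z', i' ⁻¹ᵁ V') Γ(PrinPart.grMod i' k, i' ⁻¹ᵁ V') :=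
        Groth.Agent.Lib.Helper2.LocFree.flat_sections_of_isFlatAt (PrinPart.grMod i' k) hT'
          (fun x _ => hfl x)
      have hexact : Function.Exact j p := by
        intro m
        constructor
        · intro hm
          obtain ⟨e, he⟩ := exists_pullback_equiv i' (ClSub.idealMod (i'.ker ^ k))
            (le_refl (i' ⁻¹ᵁ V')) hV' hT' rfl
          have h1 : (1 : Γ(Z', i' ⁻¹ᵁ V')) ⊗ₜ[Γ(X', V')] m = 0 := by
            apply e.injective
            rw [he, one_smul, map_zero]
            exact hm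
          have h2 := Groth.Agent.Lib.Helper20.Nakayama.mem_smul_top_of_one_tmul_eq_zero
            Γ(X', V') Γ(Z', i' ⁻¹ᵁ V') hsurjπ _ m h1
          refine Submodule.smul_induction_on h2 ?_ ?_
          · intro a ha m₀ _
            have ha' : a ∈ RingHom.ker (i'.app V').hom := by rw [← hkerπ]; exact ha
            have h3 : a * OmegaSh.idealSect (i'.ker ^ k) V' m₀ ∈
                (RingHom.ker (i'.app V').hom) ^ (k + 1) := by
              rw [pow_succ']
              exact Ideal.mul_mem_mul ha' (hmemk k m₀)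
            obtain ⟨m', hm'⟩ := hexk (k + 1) _ h3
            refine ⟨m', ?_⟩
            apply idealSect_injective
            change OmegaSh.idealSect (i'.ker ^ k) V' (jf m') = _
            rw [hjf, hm', idealSect_smul]
          · rintro x y ⟨x', rfl⟩ ⟨y', rfl⟩
            exact ⟨x' + y', map_add j x' y'⟩
        · rintro ⟨m', rfl⟩
          change unitSec i' (ClSub.idealMod (i'.ker ^ k)) (le_refl (i' ⁻¹ᵁ V')) (jf m') = 0
          apply unitSec_eq_zero_of_mem_smul_top i' (ClSub.idealMod (i'.ker ^ k))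
            (le_refl (i' ⁻¹ᵁ V')) rfl
          rw [hkerπ]
          have h1 := hmemk (k + 1) m'
          rw [pow_succ'] at h1
          have key : ∀ x (hx : x ∈ RingHom.ker (i'.app V').hom * (RingHom.ker (i'.app V').hom) ^ k)
              (m : Γ(ClSub.idealMod (i'.ker ^ k), V')),
              OmegaSh.idealSect (i'.ker ^ k) V' m = x →
              m ∈ (RingHom.ker (i'.app V').hom • ⊤ :
                Submodule Γ(X', V') Γ(ClSub.idealMod (i'.ker ^ k), V')) := by
            intro x hx
            refine Submodule.mul_induction_on' (C := fun x _ =>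
              ∀ m : Γ(ClSub.idealMod (i'.ker ^ k), V'),
                OmegaSh.idealSect (i'.ker ^ k) V' m = x →
                m ∈ (RingHom.ker (i'.app V').hom • ⊤ :
                  Submodule Γ(X', V') Γ(ClSub.idealMod (i'.ker ^ k), V'))) ?_ ?_ hx
            · intro a ha b hb m hm
              obtain ⟨mb, hmb⟩ := hexk k b hb
              have : m = a • mb := by
                apply idealSect_injective
                rw [hm, idealSect_smul, hmb]
              rw [this]
              exact Submodule.smul_mem_smul ha trivial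
            · intro x hx y hy hxC hyC m hm
              have hx' : x ∈ (RingHom.ker (i'.app V').hom) ^ k :=
                Ideal.mul_le_right hx
              obtain ⟨mx, hmx⟩ := hexk k x hx'
              have hmy : OmegaSh.idealSect (i'.ker ^ k) V' (m - mx) = y := by
                rw [map_sub, hm, hmx, add_sub_cancel_left]
              have : m = mx + (m - mx) := by abel
              rw [this]
              exact add_mem (hxC mx hmx) (hyC _ hmy)
          exact key _ h1 _ (hjf m')
      have hjN : Function.Injective (j.lTensor N) :=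
        LinearMap.lTensor_injective_of_exact_of_flat p hpsurj j hjinj hexact N
      rw [← hcompj, LinearMap.lTensor_comp]
      exact hCk.comp hjN
  have hιeq : ι' = ιk n := LinearMap.ext hι'
  rw [hιeq]
  exact C n le_rfl

end flatChain

end Groth.Agent.R2.H36.GrBC3
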