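import Mathlib
import Groth.Prelude.Def_OmegaPn
import Groth.Agent.R2.H36GrBC
import Groth.Agent.Lib.Helper20FormalPull
import Groth.Agent.Lib.Helper23FinType2
import Groth.Agent.Lib.Helper2PullbackSec

/-!
# `Gr_n(f)` is quasi-coherent of finite type for a closed immersion locally of finite presentation (helper36)
-/

set_option autoImplicit false
set_option linter.style.haveILetI false
universe u
open CategoryTheory AlgebraicGeometry Limits TopologicalSpace Opposite

namespace Groth.Agent.R2.H36.GrFin

open Groth.Agent.R2.H36.GrBC Groth.Agent.Helper18OmLS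

section idealMod
variable {X : Scheme.{u}} (K : X.IdealSheafData)

/-- sections of an ideal sheaf (as a module) over an affine open form a finite module as soon as the ideal
is finitely generated. -/
theorem finite_sections_idealMod {U : X.Opens} (hU : IsAffineOpen U) (hK : (K.ideal ⟨U, hU⟩).FG) :
    Module.Finite Γ(X, U) Γ(ClSub.idealMod K, U) := by
  let L : Γ(ClSub.idealMod K, U) →ₗ[Γ(X, U)] Γ(X, U) :=
    { toFun := fun s => OmegaSh.idealSect K U s
      map_add' := fun x y => map_add _ x y
      map_smul' := fun b s => idealSect_smul K U b s }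
  have hinj : Function.Injective L := idealSect_injective K U
  have hrange : LinearMap.range L = K.ideal ⟨U, hU⟩ := by
    apply le_antisymm
    · rintro _ ⟨s, rfl⟩
      exact idealSect_mem K hU s
    · intro x hx
      obtain ⟨s, hs⟩ := exists_idealSect_of_mem K hU x hx
      exact ⟨s, hs⟩
  have hfin : Module.Finite Γ(X, U) (LinearMap.range L) := by
    rw [hrange]
    exact Module.Finite.iff_fg.mpr hK
  exact Module.Finite.equiv (LinearEquiv.ofInjective L hinj).symm

end idealMod

section closedImm
variable {Y X : Scheme.{u}} (f : Y ⟶ X) [IsClosedImmersion f] [LocallyOfFinitePresentation f] (n : ℕ)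

theorem fg_ker_app {U : X.Opens} (hU : IsAffineOpen U) : (RingHom.ker (f.app U).hom).FG := by
  have hfp : (f.appLE U (f ⁻¹ᵁ U) le_rfl).hom.FinitePresentation :=
    HasRingHomProperty.appLE (P := @LocallyOfFinitePresentation) f inferInstance ⟨U, hU⟩
      ⟨f ⁻¹ᵁ U, hU.preimage f⟩ le_rfl
  rw [Scheme.Hom.appLE_eq_app] at hfp
  letI : Algebra Γ(X, U) Γ(Y, f ⁻¹ᵁ U) := (f.app U).hom.toAlgebra
  haveI : Algebra.FinitePresentation Γ(X, U) Γ(Y, f ⁻¹ᵁ U) := hfp
  exact Algebra.FinitePresentation.ker_fG_of_surjective (Algebra.ofId Γ(X, U) Γ(Y, f ⁻¹ᵁ U))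
    (f.app_surjective U hU)

theorem isFiniteType_idealMod_pow :
    SheafOfModules.IsFiniteType (R := X.ringCatSheaf) (ClSub.idealMod (f.ker ^ n)) := by
  rw [Groth.Agent.Lib.Helper23.FinType.isFiniteType_iff_forall_affine]
  intro U hU
  refine finite_sections_idealMod _ hU ?_
  rw [pow_ideal_eq f n hU]
  exact (fg_ker_app f hU).pow

theorem isCoh_grMod : Coh.IsCoh (PrinPart.grMod f n) := by
  haveI := isFiniteType_idealMod_pow f n
  exact ⟨Groth.Agent.Lib.Helper2.PullbackSec.isQuasicoherent_pullback f _,
    Groth.Agent.Lib.Helper20.FormalPull.isFiniteType_pullback f _⟩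

end closedImm

end Groth.Agent.R2.H36.GrFin
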