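import Mathlib

/-!
# Truncated logarithm polynomial (helper36)

`logPoly d = Σ_{n ≤ d} (-1)^n/(n+1) X^(n+1) ∈ ℚ[X]` and the congruence
`logPoly d ((1+X)^j - 1) ≡ j · logPoly d (X) mod X^(d+1)`.
-/

namespace Groth.Agent.R2.H36.LogPoly

open Polynomial Finset

/-- The truncated logarithm polynomial `Σ_{n ≤ d} (-1)^n/(n+1) X^(n+1)`. -/
noncomputable def logPoly (d : ℕ) : ℚ[X] :=
  ∑ n ∈ range (d + 1), C ((-1 : ℚ) ^ n / ((n : ℚ) + 1)) * X ^ (n + 1)

theorem derivative_logPoly (d : ℕ) :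
    derivative (logPoly d) = ∑ n ∈ range (d + 1), (-X : ℚ[X]) ^ n := by
  rw [logPoly, derivative_sum]
  refine sum_congr rfl fun n _ => ?_
  rw [derivative_C_mul_X_pow]
  have h : ((n : ℚ) + 1) ≠ 0 := by positivity
  rw [Nat.add_sub_cancel, neg_pow (X : ℚ[X])]
  have e : ((-1 : ℚ) ^ n / ((n : ℚ) + 1) * ((n + 1 : ℕ) : ℚ)) = (-1 : ℚ) ^ n := by
    push_cast
    field_simp
  rw [e]
  simp

theorem one_add_mul_derivative_logPoly (d : ℕ) :
    (1 + X) * derivative (logPoly d) = 1 - (-X : ℚ[X]) ^ (d + 1) := by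
  rw [derivative_logPoly]
  have := mul_neg_geom_sum (-X : ℚ[X]) (d + 1)
  rw [sub_neg_eq_add] at this
  exact this

theorem eval_zero_logPoly (d : ℕ) : (logPoly d).eval 0 = 0 := by
  rw [logPoly, eval_finsetSum]
  refine sum_eq_zero fun n _ => ?_
  simp

theorem X_pow_dvd (d j : ℕ) :
    (X : ℚ[X]) ^ (d + 1) ∣ (logPoly d).comp ((1 + X) ^ (j + 1) - 1) - C ((j : ℚ) + 1) * logPoly d := by
  set S : ℚ[X] := (1 + X) ^ (j + 1) - 1 with hS
  set D : ℚ[X] := (logPoly d).comp S - C ((j : ℚ) + 1) * logPoly d with hD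
  have hXS : (X : ℚ[X]) ∣ S := by
    have := sub_dvd_pow_sub_pow (1 + X : ℚ[X]) 1 (j + 1)
    simpa using this
  have hS' : derivative S = C ((j : ℚ) + 1) * (1 + X) ^ j := by
    rw [hS, derivative_sub, derivative_one, sub_zero, derivative_pow]
    simp
  have hcomp : (1 + X) ^ (j + 1) * (derivative (logPoly d)).comp S = 1 - (-S) ^ (d + 1) := by
    have := congrArg (fun p : ℚ[X] => p.comp S) (one_add_mul_derivative_logPoly d)
    simp only [mul_comp, add_comp, one_comp, X_comp, sub_comp, pow_comp, neg_comp] at this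
    rw [← this, hS]
    ring
  have hD' : (1 + X) * derivative D =
      C ((j : ℚ) + 1) * ((-X) ^ (d + 1) - (-S) ^ (d + 1)) := by
    rw [hD, derivative_sub, derivative_comp, derivative_mul, derivative_C, zero_mul, zero_add, hS']
    have e1 : (1 + X) * (C ((j : ℚ) + 1) * (1 + X) ^ j * (derivative (logPoly d)).comp S -
        C ((j : ℚ) + 1) * derivative (logPoly d)) =
        C ((j : ℚ) + 1) * ((1 + X) ^ (j + 1) * (derivative (logPoly d)).comp S -
          (1 + X) * derivative (logPoly d)) := by ring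
    rw [e1, hcomp, one_add_mul_derivative_logPoly]
    ring
  have hdvd : (X : ℚ[X]) ^ (d + 1) ∣ (1 + X) * derivative D := by
    rw [hD']
    apply Dvd.dvd.mul_left
    apply dvd_sub
    · rw [neg_pow]; exact Dvd.intro_left _ rfl
    · rw [neg_pow]; exact Dvd.dvd.mul_left (pow_dvd_pow_of_dvd hXS _) _
  have hcop : IsCoprime ((X : ℚ[X]) ^ (d + 1)) (1 + X) := by
    apply IsCoprime.pow_left
    exact ⟨-1, 1, by ring⟩
  have hdvd' : (X : ℚ[X]) ^ (d + 1) ∣ derivative D := hcop.dvd_of_dvd_mul_left hdvd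
  rw [X_pow_dvd_iff] at hdvd' ⊢
  intro k hk
  rcases k with _ | m
  · rw [coeff_zero_eq_eval_zero, hD, eval_sub, eval_comp, eval_mul, eval_zero_logPoly, hS]
    simp [eval_zero_logPoly]
  · have := hdvd' m (by omega)
    rw [coeff_derivative] at this
    have h : ((m : ℚ) + 1) ≠ 0 := by positivity
    exact (mul_eq_zero.mp this).resolve_right h

/-- In a commutative `ℚ`-algebra, if `x^(d+1) = 0` then
`logPoly d ((1+x)^(j+1) - 1) = (j+1) · logPoly d (x)`. -/
theorem aeval_eq {A : Type*} [CommRing A] [Algebra ℚ A] (d j : ℕ) (x : A) (hx : x ^ (d + 1) = 0) :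
    aeval ((1 + x) ^ (j + 1) - 1) (logPoly d) = ((j : ℚ) + 1) • aeval x (logPoly d) := by
  obtain ⟨q, hq⟩ := X_pow_dvd d j
  have := congrArg (aeval x) hq
  rw [map_sub, aeval_comp, map_mul, map_mul, map_pow, aeval_X, hx, zero_mul, aeval_C] at this
  simp only [map_sub, map_pow, map_add, map_one, aeval_X] at this
  rw [sub_eq_zero] at this
  rw [this, Algebra.smul_def, map_add, map_one]

theorem aeval_logPoly {A : Type*} [CommRing A] [Algebra ℚ A] (d : ℕ) (x : A) :
    aeval x (logPoly d) = ∑ n ∈ range (d + 1), ((-1 : ℚ) ^ n / ((n : ℚ) + 1)) • x ^ (n + 1) := by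
  rw [logPoly, map_sum]
  refine sum_congr rfl fun n _ => ?_
  rw [map_mul, aeval_C, map_pow, aeval_X, Algebra.smul_def]

end Groth.Agent.R2.H36.LogPoly
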