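import Mathlib
import Groth.Prelude.Def_Omega4
import Groth.Agent.R2.H36FSmOmega

/-!
# `φ^*Ω_Y → Ω_X` is a monomorphism for a dominant, generically separable morphism of integral
schemes with smooth target (helper36)

Chartwise: `B ⊗[A] Ω[A⁄R] → Ω[B⁄R]` is injective because `Ω[A⁄R]` is flat, `B ⊆ κ(ξ_X)` and
`A → κ(ξ_X)` is formally étale (localization at the generic point of `Y`, then a separable algebraic
field extension), using `mapBaseChange_injective_of_formallySmooth` (H36FSmOmega).
-/

set_option autoImplicit false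
set_option linter.style.haveILetI false
universe u
open CategoryTheory AlgebraicGeometry Limits TopologicalSpace Opposite TensorProduct

namespace Groth.Agent.R2.H36.OmegaGenSep

section ring
variable (R A B L : Type u) [CommRing R] [CommRing A] [CommRing B] [CommRing L]
  [Algebra R A] [Algebra R B] [Algebra A B] [IsScalarTower R A B]
  [Algebra R L] [Algebra A L] [Algebra B L] [IsScalarTower R A L] [IsScalarTower A B L]
  [IsScalarTower R B L]

open KaehlerDifferential in
/-- `Ω[A⁄R] → Ω[B⁄R] → Ω[L⁄R]` is `Ω[A⁄R] → Ω[L⁄R]`. -/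
theorem map_map (ω : Ω[A⁄R]) :
    KaehlerDifferential.map R R B L (KaehlerDifferential.map R R A B ω) =
      KaehlerDifferential.map R R A L ω := by
  have hω : ω ∈ Submodule.span A (Set.range (D R A)) := by
    rw [KaehlerDifferential.span_range_derivation]
    trivial
  refine Submodule.span_induction (p := fun ω _ => KaehlerDifferential.map R R B L
    (KaehlerDifferential.map R R A B ω) = KaehlerDifferential.map R R A L ω) ?_ ?_ ?_ ?_ hω
  · rintro _ ⟨a, rfl⟩
    rw [KaehlerDifferential.map_D, KaehlerDifferential.map_D, KaehlerDifferential.map_D,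
      ← IsScalarTower.algebraMap_apply]
  · rw [map_zero, map_zero, map_zero]
  · intro x y _ _ hx hy
    rw [map_add, map_add, map_add, hx, hy]
  · intro a x _ hx
    rw [map_smul (KaehlerDifferential.map R R A B),
      ← algebraMap_smul B a (KaehlerDifferential.map R R A B x),
      map_smul (KaehlerDifferential.map R R B L), algebraMap_smul, hx, map_smul]

open KaehlerDifferential in
/-- the comparison `B ⊗[A] Ω[A⁄R] → Ω[B⁄R]` is injective as soon as `Ω[A⁄R]` is `A`-flat and `B` embeds
into an `A`-algebra `L` formally smooth over `A` (e.g. `A ⊆ B` domains with `Frac B` separable algebraic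
over `Frac A`). -/
theorem mapBaseChange_injective_of_flat_of_formallySmooth [Module.Flat A Ω[A⁄R]]
    [Algebra.FormallySmooth A L] (hBL : Function.Injective (algebraMap B L)) :
    Function.Injective (KaehlerDifferential.mapBaseChange R A B) := by
  have h1 : Function.Injective
      (LinearMap.rTensor Ω[A⁄R] (IsScalarTower.toAlgHom A B L).toLinearMap) :=
    Module.Flat.rTensor_preserves_injective_linearMap _ hBL
  have h2 := Groth.Agent.R2.H36.FSmOmega.mapBaseChange_injective_of_formallySmooth R A L
  have hcomm : ∀ x : B ⊗[A] Ω[A⁄R],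
      KaehlerDifferential.map R R B L (KaehlerDifferential.mapBaseChange R A B x) =
        KaehlerDifferential.mapBaseChange R A L
          (LinearMap.rTensor Ω[A⁄R] (IsScalarTower.toAlgHom A B L).toLinearMap x) := by
    intro x
    induction x using TensorProduct.induction_on with
    | zero => simp only [map_zero]
    | add x y hx hy => simp only [map_add, hx, hy]
    | tmul b ω =>
      rw [KaehlerDifferential.mapBaseChange_tmul, LinearMap.rTensor_tmul,
        KaehlerDifferential.mapBaseChange_tmul, map_smul, map_map]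
      rw [← algebraMap_smul L b]
      rfl
  rw [injective_iff_map_eq_zero]
  intro x hx
  have h3 := hcomm x
  rw [hx, map_zero] at h3
  exact (injective_iff_map_eq_zero _).mp h1 x ((injective_iff_map_eq_zero _).mp h2 _ h3.symm)

end ring


section sch
variable {X Y : Scheme.{u}} (f : X ⟶ Y) [IsIntegral X] [IsIntegral Y]

omit [IsIntegral Y] in
theorem closure_image_genericPoint (hdom : DenseRange f.base) :
    closure {f.base (genericPoint X)} = Set.univ := by
  have h := (genericPoint_spec X).image f.continuous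
  rw [h.def, Set.image_univ]
  exact hdom.closure_range

theorem isField_stalk_image_genericPoint (hdom : DenseRange f.base) :
    IsField (Y.presheaf.stalk (f.base (genericPoint X))) := by
  apply isField_stalk_of_closure_mem_irreducibleComponents
  rw [closure_image_genericPoint f hdom, irreducibleComponents_eq_singleton]
  rfl

omit [IsIntegral X] in
theorem map_evaluation {U U' : X.Opens} (x : X) (hx : x ∈ U) (hUU' : U ≤ U') :
    X.presheaf.map (homOfLE hUU').op ≫ X.evaluation U x hx = X.evaluation U' x (hUU' hx) := by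
  rw [← Scheme.germ_residue, ← Scheme.germ_residue, ← Category.assoc, TopCat.Presheaf.germ_res]

theorem formallyEtale_evaluation (hdom : DenseRange f.base)
    (hsep : letI := (f.residueFieldMap (genericPoint X)).hom.toAlgebra
      Algebra.IsSeparable (Y.residueField (f.base (genericPoint X))) (X.residueField (genericPoint X)))
    {U : X.Opens} (hξ : genericPoint X ∈ U) {V : Y.Opens} (hV : IsAffineOpen V)
    (hUV : U ≤ f ⁻¹ᵁ V) :
    letI := ((f.appLE V U hUV) ≫ X.evaluation U (genericPoint X) hξ).hom.toAlgebra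
    Algebra.FormallyEtale Γ(Y, V) (X.residueField (genericPoint X)) := by
  letI : Algebra Γ(Y, V) (X.residueField (genericPoint X)) :=
    ((f.appLE V U hUV) ≫ X.evaluation U (genericPoint X) hξ).hom.toAlgebra
  have hy : f.base (genericPoint X) ∈ V := hUV hξ
  letI aSt : Algebra Γ(Y, V) (Y.presheaf.stalk (f.base (genericPoint X))) :=
    (Y.presheaf.germ V _ hy).hom.toAlgebra
  haveI := hV.isLocalization_stalk ⟨_, hy⟩
  haveI : Algebra.FormallyEtale Γ(Y, V) (Y.presheaf.stalk (f.base (genericPoint X))) :=
    Algebra.FormallyEtale.of_isLocalization (hV.primeIdealOf ⟨_, hy⟩).asIdeal.primeCompl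
  letI : Algebra (Y.presheaf.stalk (f.base (genericPoint X)))
      (Y.residueField (f.base (genericPoint X))) := (Y.residue _).hom.toAlgebra
  letI : Algebra Γ(Y, V) (Y.residueField (f.base (genericPoint X))) :=
    (Y.evaluation V _ hy).hom.toAlgebra
  haveI : IsScalarTower Γ(Y, V) (Y.presheaf.stalk (f.base (genericPoint X)))
      (Y.residueField (f.base (genericPoint X))) := .of_algebraMap_eq fun _ => rfl
  have hbij : Function.Bijective (algebraMap (Y.presheaf.stalk (f.base (genericPoint X)))
      (Y.residueField (f.base (genericPoint X)))) := by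
    refine ⟨?_, Y.residue_surjective _⟩
    letI := (isField_stalk_image_genericPoint f hdom).toField
    exact RingHom.injective _
  haveI : Algebra.FormallyEtale (Y.presheaf.stalk (f.base (genericPoint X)))
      (Y.residueField (f.base (genericPoint X))) :=
    Algebra.FormallyEtale.of_equiv (AlgEquiv.ofBijective (Algebra.ofId _ _) hbij)
  haveI : Algebra.FormallyEtale Γ(Y, V) (Y.residueField (f.base (genericPoint X))) :=
    Algebra.FormallyEtale.comp Γ(Y, V) (Y.presheaf.stalk (f.base (genericPoint X))) _
  letI : Algebra (Y.residueField (f.base (genericPoint X))) (X.residueField (genericPoint X)) :=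
    (f.residueFieldMap (genericPoint X)).hom.toAlgebra
  haveI : Algebra.IsSeparable (Y.residueField (f.base (genericPoint X)))
    (X.residueField (genericPoint X)) := hsep
  haveI : Algebra.FormallyEtale (Y.residueField (f.base (genericPoint X)))
    (X.residueField (genericPoint X)) := Algebra.FormallyEtale.of_isSeparable _ _
  haveI : IsScalarTower Γ(Y, V) (Y.residueField (f.base (genericPoint X)))
      (X.residueField (genericPoint X)) := .of_algebraMap_eq fun a => by
    change (X.evaluation U (genericPoint X) hξ) ((f.appLE V U hUV) a) =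
      f.residueFieldMap (genericPoint X) (Y.evaluation V _ hy a)
    rw [Scheme.evaluation_naturality_apply, ← map_evaluation (genericPoint X) hξ hUV]
    rfl
  exact Algebra.FormallyEtale.comp Γ(Y, V) (Y.residueField (f.base (genericPoint X)))
    (X.residueField (genericPoint X))

end sch


section mono
open Groth.Agent.Helper18OmLS
variable {X Y S : Scheme.{u}} (g : Y ⟶ S) (h : X ⟶ S) (f : X ⟶ Y) (w : f ≫ g = h)
  [IsIntegral X] [IsIntegral Y] [Smooth g] (hdom : DenseRange f.base)
  (hsep : letI := (f.residueFieldMap (genericPoint X)).hom.toAlgebra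
    Algebra.IsSeparable (Y.residueField (f.base (genericPoint X))) (X.residueField (genericPoint X)))
  (ΩY : Y.Modules) (dY : OmegaSh.Der g ΩY) (hY : OmegaSh.IsUniversal dY)
  (ΩX : X.Modules) (dX : OmegaSh.Der h ΩX) (hX : OmegaSh.IsUniversal dX)
  (c : (Scheme.Modules.pullback f).obj ΩY ⟶ ΩX) (hc : OmegaSh.IsDiffCompat f dY dX c)

include w hdom hsep hY hX hc in
theorem chart_injective {U : X.Opens} (hU : IsAffineOpen U) (hξ : genericPoint X ∈ U)
    {V : Y.Opens} (hV : IsAffineOpen V)
    {W : S.Opens} (hW : IsAffineOpen W) (hUV : U ≤ f ⁻¹ᵁ V) (hVW : V ≤ g ⁻¹ᵁ W) :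
    Function.Injective (c.app U) := by
  subst w
  have hUW : U ≤ (f ≫ g) ⁻¹ᵁ W := hUV.trans (f.preimage_mono hVW)
  letI : Algebra Γ(S, W) Γ(Y, V) := (g.appLE W V hVW).hom.toAlgebra
  letI : Algebra Γ(S, W) Γ(X, U) := ((f ≫ g).appLE W U hUW).hom.toAlgebra
  letI : Algebra Γ(Y, V) Γ(X, U) := (f.appLE V U hUV).hom.toAlgebra
  haveI : IsScalarTower Γ(S, W) Γ(Y, V) Γ(X, U) := IsScalarTower.of_algebraMap_eq fun r => by
    change ((f ≫ g).appLE W U hUW).hom r = (f.appLE V U hUV).hom ((g.appLE W V hVW).hom r)
    rw [← Scheme.Hom.appLE_comp_appLE _ _ W V U hVW hUV]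
    rfl
  -- the big field `L = κ(ξ_X)`
  letI : Algebra Γ(X, U) (X.residueField (genericPoint X)) :=
    (X.evaluation U (genericPoint X) hξ).hom.toAlgebra
  letI : Algebra Γ(Y, V) (X.residueField (genericPoint X)) :=
    ((f.appLE V U hUV) ≫ X.evaluation U (genericPoint X) hξ).hom.toAlgebra
  letI : Algebra Γ(S, W) (X.residueField (genericPoint X)) :=
    (((f ≫ g).appLE W U hUW) ≫ X.evaluation U (genericPoint X) hξ).hom.toAlgebra
  haveI : IsScalarTower Γ(Y, V) Γ(X, U) (X.residueField (genericPoint X)) :=
    IsScalarTower.of_algebraMap_eq fun _ => rfl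
  haveI : IsScalarTower Γ(S, W) Γ(X, U) (X.residueField (genericPoint X)) :=
    IsScalarTower.of_algebraMap_eq fun _ => rfl
  haveI : IsScalarTower Γ(S, W) Γ(Y, V) (X.residueField (genericPoint X)) :=
    IsScalarTower.of_algebraMap_eq fun r => by
      change (X.evaluation U (genericPoint X) hξ) (algebraMap Γ(S, W) Γ(X, U) r) =
        (X.evaluation U (genericPoint X) hξ) (algebraMap Γ(Y, V) Γ(X, U) (algebraMap Γ(S, W) Γ(Y, V) r))
      rw [← IsScalarTower.algebraMap_apply]
  haveI : Algebra.FormallyEtale Γ(Y, V) (X.residueField (genericPoint X)) :=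
    formallyEtale_evaluation f hdom hsep hξ hV hUV
  haveI : Algebra.Smooth Γ(S, W) Γ(Y, V) :=
    HasRingHomProperty.appLE (P := @Smooth) g inferInstance ⟨W, hW⟩ ⟨V, hV⟩ hVW
  have hBL : Function.Injective (algebraMap Γ(X, U) (X.residueField (genericPoint X))) := by
    change Function.Injective (X.evaluation U (genericPoint X) hξ)
    rw [← Scheme.germ_residue]
    letI : Field (X.presheaf.stalk (genericPoint X)) :=
      inferInstanceAs (Field X.functionField)
    intro a b hab
    exact germ_injective_of_isIntegral X (genericPoint X) hξ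
      ((X.residue (genericPoint X)).hom.injective hab)
  obtain ⟨e₁, κ, hκ1, hκ2⟩ := exists_chart_model' f g (f ≫ g) dY dX c hc hUV hY hX hU hV hW hVW hW hUW
    rfl rfl rfl
  have hκ := Groth.Agent.R2.H36.FSmOmega.eq_mapBaseChange Γ(S, W) Γ(Y, V) Γ(X, U) κ hκ2
  have hinj := mapBaseChange_injective_of_flat_of_formallySmooth Γ(S, W) Γ(Y, V) Γ(X, U)
    (X.residueField (genericPoint X)) hBL
  intro x y hxy
  obtain ⟨t, rfl⟩ := e₁.surjective x
  obtain ⟨t', rfl⟩ := e₁.surjective y
  have h1 : κ t = κ t' := by rw [hκ1, hκ1, hxy]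
  rw [hκ] at h1
  rw [hinj h1]

include w hdom hsep hY hX hc in
/-- for `f : X ⟶ Y` dominant between integral schemes, `Y` smooth over `S`, `κ(ξ_X)` separable
algebraic over `κ(f ξ_X)`: `f^* Ω_{Y/S} → Ω_{X/S}` is a monomorphism. -/
theorem mono_of_dominant_separable : Mono c := by
  refine mono_of_injective_app_basis c
    {U | IsAffineOpen U ∧ genericPoint X ∈ U ∧ ∃ (V : Y.Opens) (W : S.Opens),
      IsAffineOpen V ∧ IsAffineOpen W ∧ U ≤ f ⁻¹ᵁ V ∧ V ≤ g ⁻¹ᵁ W} ?_ ?_
  · rw [TopologicalSpace.Opens.isBasis_iff_nbhd]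
    intro U₀ x hx
    obtain ⟨W, hW, V, hV, hVW, hfxV, -⟩ :=
      Groth.Agent.Lib.Helper3.EtGUSch.exists_affine_nhds g (f x) ⊤ trivial
    obtain ⟨U, hU, hxU, hle⟩ := TopologicalSpace.Opens.isBasis_iff_nbhd.mp X.isBasis_affineOpens
      (show x ∈ U₀ ⊓ f ⁻¹ᵁ V from ⟨hx, hfxV⟩)
    refine ⟨U, ⟨hU, ?_, V, W, hV, hW, hle.trans inf_le_right, hVW⟩, hxU, hle.trans inf_le_left⟩
    exact ((genericPoint_spec X).mem_open_set_iff U.isOpen).mpr ⟨x, trivial, hxU⟩
  · rintro U ⟨hU, hξ, V, W, hV, hW, hUV, hVW⟩
    exact chart_injective g h f w hdom hsep ΩY dY hY ΩX dX hX c hc hU hξ hV hW hUV hVW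

end mono

end Groth.Agent.R2.H36.OmegaGenSep
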