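import Mathlib
import Groth.Prelude.Def_Omega4
import Groth.Agent.Lib.Helper19FSField
import Groth.Agent.Lib.Helper20StalkExact
import Groth.Agent.R2.H36OmegaGenSep

/-!
# `f^*Ω_Z → Ω_X` is a monomorphism when the generic fibre is geometrically reduced (helper36)

Same chart argument as `H36OmegaGenSep`, with "`κ(ξ_X)` separable algebraic over `κ(f ξ_X)`" replaced by
"`κ(ξ_X)` formally smooth over `κ(f ξ_X)`", which follows from geometric reducedness of the generic
fibre: the coordinate ring `B ⊗[A] κ` of an affine open of the fibre is geometrically reduced, `κ(ξ_X)`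
is a localization of it, and a geometrically reduced field extension is formally smooth
(helper19 `formallySmooth_of_isGeometricallyReduced`, EGA 0_IV 19.6.1).
-/

set_option autoImplicit false
set_option linter.style.haveILetI false
universe u
open CategoryTheory AlgebraicGeometry Limits TopologicalSpace Opposite TensorProduct

namespace Groth.Agent.R2.H36.OmegaGenSep2

section loc
variable (K : Type u) [Field K] (C : Type u) [CommRing C] [Algebra K C]

/-- geometric reducedness passes to localizations (as in helper6's `GeomRedGen`). -/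
theorem isGeometricallyReduced_of_isLocalization [Algebra.IsGeometricallyReduced K C]
    (M : Submonoid C) (L : Type u) [CommRing L] [Algebra C L] [Algebra K L] [IsScalarTower K C L]
    [IsLocalization M L] : Algebra.IsGeometricallyReduced K L := by
  rw [Algebra.isGeometricallyReduced_field_iff]
  letI : Algebra (AlgebraicClosure K ⊗[K] C) (AlgebraicClosure K ⊗[K] L) :=
    (Algebra.TensorProduct.map (AlgHom.id (AlgebraicClosure K) (AlgebraicClosure K))
      (IsScalarTower.toAlgHom K C L)).toRingHom.toAlgebra
  haveI : IsScalarTower (AlgebraicClosure K) (AlgebraicClosure K ⊗[K] C)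
      (AlgebraicClosure K ⊗[K] L) := IsScalarTower.of_algebraMap_eq' (by
    ext x
    simp [RingHom.algebraMap_toAlgebra])
  haveI : IsLocalization (M.map (Algebra.TensorProduct.includeRight (R := K)
      (A := AlgebraicClosure K))) (AlgebraicClosure K ⊗[K] L) :=
    IsLocalization.tensorProduct_tensorProduct_right K (AlgebraicClosure K) M L (by
      ext x
      simp [RingHom.algebraMap_toAlgebra])
  have hred : IsReduced (AlgebraicClosure K ⊗[K] C) := inferInstance
  exact isReduced_localizationPreserves (M.map (Algebra.TensorProduct.includeRight (R := K)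
      (A := AlgebraicClosure K))) (AlgebraicClosure K ⊗[K] L) hred

end loc

section ring
attribute [local instance] Algebra.TensorProduct.rightAlgebra

variable (A B κ L : Type u) [CommRing A] [CommRing B] [Field κ] [Field L]
  [Algebra A B] [Algebra A κ] [Algebra B L] [Algebra κ L] [Algebra A L]
  [IsScalarTower A B L] [IsScalarTower A κ L]

/-- `A → B` with `κ = A_p`, `L = B_q` fields, `κ → L` compatible: if the "generic fibre" `B ⊗[A] κ` is
geometrically reduced over `κ`, then `L` is formally smooth over `κ`. -/
theorem formallySmooth_of_tensor_isGeometricallyReduced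
    (p : Ideal A) [p.IsPrime] [IsLocalization.AtPrime κ p]
    (q : Ideal B) [q.IsPrime] [IsLocalization.AtPrime L q]
    (hC : Algebra.IsGeometricallyReduced κ (B ⊗[A] κ)) : Algebra.FormallySmooth κ L := by
  -- `B ⊗[A] κ` is the localization of `B` at the image of `A ∖ p`
  haveI h3 : IsLocalization (Algebra.algebraMapSubmonoid B p.primeCompl) (B ⊗[A] κ) :=
    IsLocalization.tensor κ p.primeCompl
  -- the map `B ⊗[A] κ → L`
  let g : B ⊗[A] κ →ₐ[A] L :=
    Algebra.TensorProduct.productMap (IsScalarTower.toAlgHom A B L) (IsScalarTower.toAlgHom A κ L)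
  letI : Algebra (B ⊗[A] κ) L := g.toRingHom.toAlgebra
  haveI : IsScalarTower B (B ⊗[A] κ) L := IsScalarTower.of_algebraMap_eq fun b => by
    change algebraMap B L b = g (b ⊗ₜ 1)
    simp [g]
  haveI : IsScalarTower κ (B ⊗[A] κ) L := IsScalarTower.of_algebraMap_eq fun c => by
    change algebraMap κ L c = g (1 ⊗ₜ c)
    simp [g]
  have hle : Algebra.algebraMapSubmonoid B p.primeCompl ≤ q.primeCompl := by
    rintro _ ⟨a, ha, rfl⟩
    have h1 : IsUnit (algebraMap A κ a) := (IsLocalization.AtPrime.isUnit_to_map_iff κ p a).mpr ha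
    have h2 : IsUnit (algebraMap B L (algebraMap A B a)) := by
      rw [← IsScalarTower.algebraMap_apply, IsScalarTower.algebraMap_apply A κ L]
      exact h1.map _
    exact (IsLocalization.AtPrime.isUnit_to_map_iff L q _).mp h2
  haveI : IsLocalization (q.primeCompl.map (algebraMap B (B ⊗[A] κ))) L :=
    IsLocalization.isLocalization_of_submonoid_le (B ⊗[A] κ) L _ _ hle
  haveI : Algebra.IsGeometricallyReduced κ L :=
    isGeometricallyReduced_of_isLocalization κ (B ⊗[A] κ)
      (q.primeCompl.map (algebraMap B (B ⊗[A] κ))) L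
  exact Groth.Agent.Lib.Helper19.PBasis.formallySmooth_of_isGeometricallyReduced

end ring


section geomred

/-- geometric reducedness is inherited by open subschemes of the source. -/
theorem geometricallyReduced_comp_of_isOpenImmersion {U G S : Scheme.{u}} (j : U ⟶ G)
    [IsOpenImmersion j] (h : G ⟶ S) [hG : GeometricallyReduced h] :
    GeometricallyReduced (j ≫ h) := by
  rw [geometricallyReduced_iff]
  intro K _ y W fst snd hW
  let l : W ⟶ pullback h y := pullback.lift (fst ≫ j) snd (by rw [Category.assoc, hW.w])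
  have hsq : IsPullback fst l j (pullback.fst h y) := by
    refine IsPullback.of_bot ?_ (pullback.lift_fst _ _ _).symm (IsPullback.of_hasPullback h y)
    rw [show l ≫ pullback.snd h y = snd from pullback.lift_snd _ _ _]
    exact hW
  haveI : IsOpenImmersion l := MorphismProperty.of_isPullback (P := @IsOpenImmersion) hsq
    inferInstance
  haveI : IsReduced (pullback h y) := pullback_of_geometrically hG.1 K y
  exact isReduced_of_isOpenImmersion l

/-- `Spec C → Spec k` geometrically reduced ⇒ `C` geometrically reduced over `k`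
(helper6's lemma, for a ring `C`). -/
theorem isGeometricallyReduced_of_specMap (k C : Type u) [Field k] [CommRing C] [Algebra k C]
    [hf : GeometricallyReduced (Spec.map (CommRingCat.ofHom (algebraMap k C)))] :
    Algebra.IsGeometricallyReduced k C := by
  have h1 : AlgebraicGeometry.IsReduced (pullback (Spec.map (CommRingCat.ofHom (algebraMap k C)))
      (Spec.map (CommRingCat.ofHom (algebraMap k (AlgebraicClosure k))))) :=
    pullback_of_geometrically hf.1 (AlgebraicClosure k) _
  haveI : AlgebraicGeometry.IsReduced (Spec (CommRingCat.of (C ⊗[k] AlgebraicClosure k))) :=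
    isReduced_of_isOpenImmersion (pullbackSpecIso k C (AlgebraicClosure k)).inv
  have h2 : IsReduced (C ⊗[k] AlgebraicClosure k) :=
    (affine_isReduced_iff (CommRingCat.of (C ⊗[k] AlgebraicClosure k))).mp inferInstance
  rw [Algebra.isGeometricallyReduced_field_iff]
  exact isReduced_of_injective (Algebra.TensorProduct.comm k (AlgebraicClosure k) C)
    (Algebra.TensorProduct.comm k (AlgebraicClosure k) C).injective

end geomred

section fibre
attribute [local instance] Algebra.TensorProduct.rightAlgebra

variable {X Z : Scheme.{u}} (f : X ⟶ Z) (y : Z)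

theorem SpecMap_evaluation_fromSpec {V : Z.Opens} (hV : IsAffineOpen V) (hy : y ∈ V) :
    Spec.map (Z.evaluation V y hy) ≫ hV.fromSpec = Z.fromSpecResidueField y := by
  rw [← Scheme.germ_residue, Spec.map_comp, Category.assoc]
  change _ ≫ hV.fromSpecStalk hy = _
  rw [IsAffineOpen.fromSpecStalk_eq_fromSpecStalk]
  rfl

/-- the coordinate ring `Γ(X,U) ⊗ κ(y)` of an affine open of the fibre of `f` over `y` is geometrically
reduced over `κ(y)` when the fibre is. -/
theorem isGeometricallyReduced_tensor_of_fibre
    [hG : GeometricallyReduced (pullback.snd f (Z.fromSpecResidueField y))]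
    {U : X.Opens} (hU : IsAffineOpen U) {V : Z.Opens} (hV : IsAffineOpen V)
    (hUV : U ≤ f ⁻¹ᵁ V) (hy : y ∈ V) :
    letI := (f.appLE V U hUV).hom.toAlgebra
    letI := (Z.evaluation V y hy).hom.toAlgebra
    Algebra.IsGeometricallyReduced (Z.residueField y) (Γ(X, U) ⊗[Γ(Z, V)] (Z.residueField y)) := by
  letI : Algebra Γ(Z, V) Γ(X, U) := (f.appLE V U hUV).hom.toAlgebra
  letI : Algebra Γ(Z, V) (Z.residueField y) := (Z.evaluation V y hy).hom.toAlgebra
  have e1 : Spec.map (f.appLE V U hUV) ≫ hV.fromSpec = hU.fromSpec ≫ f :=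
    IsAffineOpen.SpecMap_appLE_fromSpec f hV hU hUV
  have e2 := SpecMap_evaluation_fromSpec y hV hy
  have hW : IsPullback (pullback.fst (Spec.map (f.appLE V U hUV)) (Spec.map (Z.evaluation V y hy)))
      (pullback.snd _ _) (hU.fromSpec ≫ f) (Z.fromSpecResidueField y) := by
    rw [← e1, ← e2]
    exact IsPullback.of_isLimit (pullbackIsPullbackOfCompMono _ _ hV.fromSpec)
  let l : pullback (Spec.map (f.appLE V U hUV)) (Spec.map (Z.evaluation V y hy)) ⟶
      pullback f (Z.fromSpecResidueField y) :=
    pullback.lift (pullback.fst _ _ ≫ hU.fromSpec) (pullback.snd _ _)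
      (by rw [Category.assoc]; exact hW.w)
  have hl : IsPullback (pullback.fst _ _) l hU.fromSpec (pullback.fst f _) := by
    refine IsPullback.of_bot ?_ (pullback.lift_fst _ _ _).symm (IsPullback.of_hasPullback f _)
    rw [show l ≫ pullback.snd f _ = pullback.snd _ _ from pullback.lift_snd _ _ _]
    exact hW
  haveI : IsOpenImmersion l := MorphismProperty.of_isPullback (P := @IsOpenImmersion) hl
    inferInstance
  haveI h1 : GeometricallyReduced (l ≫ pullback.snd f (Z.fromSpecResidueField y)) :=
    geometricallyReduced_comp_of_isOpenImmersion l _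
  rw [show l ≫ pullback.snd f _ = pullback.snd _ _ from pullback.lift_snd _ _ _] at h1
  haveI : GeometricallyReduced (Spec.map (CommRingCat.ofHom
      (algebraMap (Z.residueField y) (Γ(X, U) ⊗[Γ(Z, V)] (Z.residueField y))))) := by
    have h2 := pullbackSpecIso_inv_snd Γ(Z, V) Γ(X, U) (Z.residueField y)
    have h3 : GeometricallyReduced ((pullbackSpecIso Γ(Z, V) Γ(X, U) (Z.residueField y)).inv ≫
        pullback.snd _ _) :=
      (MorphismProperty.cancel_left_of_respectsIso @GeometricallyReduced _ _).mpr h1
    rw [h2] at h3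
    exact h3
  exact isGeometricallyReduced_of_specMap _ _

end fibre

section fibre2
attribute [local instance] Algebra.TensorProduct.rightAlgebra

/-- at a point whose local ring is a field, the residue field is the localization of the sections
over an affine open neighbourhood. -/
theorem isLocalization_residueField_of_isField {X : Scheme.{u}} {U : X.Opens} (hU : IsAffineOpen U)
    (x : X) (hx : x ∈ U) (hfield : IsField (X.presheaf.stalk x)) :
    letI := (X.evaluation U x hx).hom.toAlgebra
    IsLocalization.AtPrime (X.residueField x) (hU.primeIdealOf ⟨x, hx⟩).asIdeal := by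
  letI : Algebra Γ(X, U) (X.residueField x) := (X.evaluation U x hx).hom.toAlgebra
  letI : Algebra Γ(X, U) (X.presheaf.stalk x) := (X.presheaf.germ U x hx).hom.toAlgebra
  haveI : IsLocalization.AtPrime (X.presheaf.stalk x) (hU.primeIdealOf ⟨x, hx⟩).asIdeal :=
    hU.isLocalization_stalk ⟨x, hx⟩
  letI : Algebra (X.presheaf.stalk x) (X.residueField x) := (X.residue x).hom.toAlgebra
  haveI : IsScalarTower Γ(X, U) (X.presheaf.stalk x) (X.residueField x) :=
    .of_algebraMap_eq fun _ => rfl
  have hbij : Function.Bijective (IsScalarTower.toAlgHom Γ(X, U) (X.presheaf.stalk x)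
      (X.residueField x)) := by
    refine ⟨?_, X.residue_surjective x⟩
    letI := hfield.toField
    exact RingHom.injective (algebraMap (X.presheaf.stalk x) (X.residueField x))
  exact IsLocalization.isLocalization_of_algEquiv _ (AlgEquiv.ofBijective _ hbij)

variable {X Z : Scheme.{u}} (f : X ⟶ Z) [IsIntegral X] [IsIntegral Z]

/-- generic fibre geometrically reduced ⇒ `κ(ξ_X)` formally smooth over `κ(f ξ_X)`. -/
theorem formallySmooth_residueFieldMap (hdom : DenseRange f.base)
    [hG : GeometricallyReduced
      (pullback.snd f (Z.fromSpecResidueField (f.base (genericPoint X))))] :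
    letI := (f.residueFieldMap (genericPoint X)).hom.toAlgebra
    Algebra.FormallySmooth (Z.residueField (f.base (genericPoint X)))
      (X.residueField (genericPoint X)) := by
  letI : Algebra (Z.residueField (f.base (genericPoint X))) (X.residueField (genericPoint X)) :=
    (f.residueFieldMap (genericPoint X)).hom.toAlgebra
  -- charts
  obtain ⟨V, hV, hyV, -⟩ := TopologicalSpace.Opens.isBasis_iff_nbhd.mp Z.isBasis_affineOpens
    (show f.base (genericPoint X) ∈ (⊤ : Z.Opens) from trivial)
  obtain ⟨U, hU, hξ, hUV⟩ := TopologicalSpace.Opens.isBasis_iff_nbhd.mp X.isBasis_affineOpens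
    (show genericPoint X ∈ f ⁻¹ᵁ V from hyV)
  letI : Algebra Γ(Z, V) Γ(X, U) := (f.appLE V U hUV).hom.toAlgebra
  letI : Algebra Γ(Z, V) (Z.residueField (f.base (genericPoint X))) :=
    (Z.evaluation V _ hyV).hom.toAlgebra
  letI : Algebra Γ(X, U) (X.residueField (genericPoint X)) :=
    (X.evaluation U (genericPoint X) hξ).hom.toAlgebra
  letI : Algebra Γ(Z, V) (X.residueField (genericPoint X)) :=
    ((f.appLE V U hUV) ≫ X.evaluation U (genericPoint X) hξ).hom.toAlgebra
  haveI : IsScalarTower Γ(Z, V) Γ(X, U) (X.residueField (genericPoint X)) :=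
    IsScalarTower.of_algebraMap_eq fun _ => rfl
  haveI : IsScalarTower Γ(Z, V) (Z.residueField (f.base (genericPoint X)))
      (X.residueField (genericPoint X)) := .of_algebraMap_eq fun a => by
    change (X.evaluation U (genericPoint X) hξ) ((f.appLE V U hUV) a) =
      f.residueFieldMap (genericPoint X) (Z.evaluation V _ hyV a)
    rw [Scheme.evaluation_naturality_apply,
      ← Groth.Agent.R2.H36.OmegaGenSep.map_evaluation (genericPoint X) hξ hUV]
    rfl
  haveI := isLocalization_residueField_of_isField hV _ hyV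
    (Groth.Agent.R2.H36.OmegaGenSep.isField_stalk_image_genericPoint f hdom)
  haveI := isLocalization_residueField_of_isField hU (genericPoint X) hξ
    (Field.toIsField X.functionField)
  exact formallySmooth_of_tensor_isGeometricallyReduced Γ(Z, V) Γ(X, U)
    (Z.residueField (f.base (genericPoint X))) (X.residueField (genericPoint X))
    (hV.primeIdealOf ⟨_, hyV⟩).asIdeal (hU.primeIdealOf ⟨_, hξ⟩).asIdeal
    (isGeometricallyReduced_tensor_of_fibre f _ hU hV hUV hyV)

end fibre2


section mono
open Groth.Agent.Helper18OmLS Groth.Agent.R2.H36.OmegaGenSep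

theorem formallySmooth_evaluation {X Y : Scheme.{u}} (f : X ⟶ Y) [IsIntegral X] [IsIntegral Y]
    (hdom : DenseRange f.base)
    (hfs : letI := (f.residueFieldMap (genericPoint X)).hom.toAlgebra
      Algebra.FormallySmooth (Y.residueField (f.base (genericPoint X)))
        (X.residueField (genericPoint X)))
    {U : X.Opens} (hξ : genericPoint X ∈ U) {V : Y.Opens} (hV : IsAffineOpen V)
    (hUV : U ≤ f ⁻¹ᵁ V) :
    letI := ((f.appLE V U hUV) ≫ X.evaluation U (genericPoint X) hξ).hom.toAlgebra
    Algebra.FormallySmooth Γ(Y, V) (X.residueField (genericPoint X)) := by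
  letI : Algebra Γ(Y, V) (X.residueField (genericPoint X)) :=
    ((f.appLE V U hUV) ≫ X.evaluation U (genericPoint X) hξ).hom.toAlgebra
  have hy : f.base (genericPoint X) ∈ V := hUV hξ
  letI : Algebra Γ(Y, V) (Y.residueField (f.base (genericPoint X))) :=
    (Y.evaluation V _ hy).hom.toAlgebra
  haveI := isLocalization_residueField_of_isField hV _ hy
    (isField_stalk_image_genericPoint f hdom)
  haveI : Algebra.FormallyEtale Γ(Y, V) (Y.residueField (f.base (genericPoint X))) :=
    Algebra.FormallyEtale.of_isLocalization (hV.primeIdealOf ⟨_, hy⟩).asIdeal.primeCompl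
  letI : Algebra (Y.residueField (f.base (genericPoint X))) (X.residueField (genericPoint X)) :=
    (f.residueFieldMap (genericPoint X)).hom.toAlgebra
  haveI : Algebra.FormallySmooth (Y.residueField (f.base (genericPoint X)))
    (X.residueField (genericPoint X)) := hfs
  haveI : IsScalarTower Γ(Y, V) (Y.residueField (f.base (genericPoint X)))
      (X.residueField (genericPoint X)) := .of_algebraMap_eq fun a => by
    change (X.evaluation U (genericPoint X) hξ) ((f.appLE V U hUV) a) =
      f.residueFieldMap (genericPoint X) (Y.evaluation V _ hy a)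
    rw [Scheme.evaluation_naturality_apply, ← map_evaluation (genericPoint X) hξ hUV]
    rfl
  exact Algebra.FormallySmooth.comp Γ(Y, V) (Y.residueField (f.base (genericPoint X)))
    (X.residueField (genericPoint X))

variable {X Y S : Scheme.{u}} (g : Y ⟶ S) (h : X ⟶ S) (f : X ⟶ Y) (w : f ≫ g = h)
  [IsIntegral X] [IsIntegral Y] [Smooth g] (hdom : DenseRange f.base)
  (hfs : letI := (f.residueFieldMap (genericPoint X)).hom.toAlgebra
    Algebra.FormallySmooth (Y.residueField (f.base (genericPoint X)))
      (X.residueField (genericPoint X)))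
  (ΩY : Y.Modules) (dY : OmegaSh.Der g ΩY) (hY : OmegaSh.IsUniversal dY)
  (ΩX : X.Modules) (dX : OmegaSh.Der h ΩX) (hX : OmegaSh.IsUniversal dX)
  (c : (Scheme.Modules.pullback f).obj ΩY ⟶ ΩX) (hc : OmegaSh.IsDiffCompat f dY dX c)

include w hdom hfs hY hX hc in
theorem chart_injective {U : X.Opens} (hU : IsAffineOpen U) (hξ : genericPoint X ∈ U)
    {V : Y.Opens} (hV : IsAffineOpen V)
    {W : S.Opens} (hW : IsAffineOpen W) (hUV : U ≤ f ⁻¹ᵁ V) (hVW : V ≤ g ⁻¹ᵁ W) :
    Function.Injective (c.app U) := by
  subst w
  have hUW : U ≤ (f ≫ g) ⁻¹ᵁ W := hUV.trans (f.preimage_mono hVW)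
  letI : Algebra Γ(S, W) Γ(Y, V) := (g.appLE W V hVW).hom.toAlgebra
  letI : Algebra Γ(S, W) Γ(X, U) := ((f ≫ g).appLE W U hUW).hom.toAlgebra
  letI : Algebra Γ(Y, V) Γ(X, U) := (f.appLE V U hUV).hom.toAlgebra
  haveI : IsScalarTower Γ(S, W) Γ(Y, V) Γ(X, U) := IsScalarTower.of_algebraMap_eq fun r => by
    change ((f ≫ g).appLE W U hUW).hom r = (f.appLE V U hUV).hom ((g.appLE W V hVW).hom r)
    rw [← Scheme.Hom.appLE_comp_appLE _ _ W V U hVW hUV]
    rfl
  letI : Algebra Γ(X, U) (X.residueField (genericPoint X)) :=
    (X.evaluation U (genericPoint X) hξ).hom.toAlgebra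
  letI : Algebra Γ(Y, V) (X.residueField (genericPoint X)) :=
    ((f.appLE V U hUV) ≫ X.evaluation U (genericPoint X) hξ).hom.toAlgebra
  letI : Algebra Γ(S, W) (X.residueField (genericPoint X)) :=
    (((f ≫ g).appLE W U hUW) ≫ X.evaluation U (genericPoint X) hξ).hom.toAlgebra
  haveI : IsScalarTower Γ(Y, V) Γ(X, U) (X.residueField (genericPoint X)) :=
    IsScalarTower.of_algebraMap_eq fun _ => rfl
  haveI : IsScalarTower Γ(S, W) Γ(X, U) (X.residueField (genericPoint X)) :=
    IsScalarTower.of_algebraMap_eq fun _ => rfl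
  haveI : IsScalarTower Γ(S, W) Γ(Y, V) (X.residueField (genericPoint X)) :=
    IsScalarTower.of_algebraMap_eq fun r => by
      change (X.evaluation U (genericPoint X) hξ) (algebraMap Γ(S, W) Γ(X, U) r) =
        (X.evaluation U (genericPoint X) hξ) (algebraMap Γ(Y, V) Γ(X, U) (algebraMap Γ(S, W) Γ(Y, V) r))
      rw [← IsScalarTower.algebraMap_apply]
  haveI : Algebra.FormallySmooth Γ(Y, V) (X.residueField (genericPoint X)) :=
    formallySmooth_evaluation f hdom hfs hξ hV hUV
  haveI : Algebra.Smooth Γ(S, W) Γ(Y, V) :=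
    HasRingHomProperty.appLE (P := @Smooth) g inferInstance ⟨W, hW⟩ ⟨V, hV⟩ hVW
  have hBL : Function.Injective (algebraMap Γ(X, U) (X.residueField (genericPoint X))) := by
    change Function.Injective (X.evaluation U (genericPoint X) hξ)
    rw [← Scheme.germ_residue]
    letI : Field (X.presheaf.stalk (genericPoint X)) :=
      inferInstanceAs (Field X.functionField)
    intro a b hab
    exact germ_injective_of_isIntegral X (genericPoint X) hξ
      ((X.residue (genericPoint X)).hom.injective hab)
  obtain ⟨e₁, κ, hκ1, hκ2⟩ := exists_chart_model' f g (f ≫ g) dY dX c hc hUV hY hX hU hV hW hVW hW hUW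
    rfl rfl rfl
  have hκ := Groth.Agent.R2.H36.FSmOmega.eq_mapBaseChange Γ(S, W) Γ(Y, V) Γ(X, U) κ hκ2
  have hinj := mapBaseChange_injective_of_flat_of_formallySmooth Γ(S, W) Γ(Y, V) Γ(X, U)
    (X.residueField (genericPoint X)) hBL
  intro x y hxy
  obtain ⟨t, rfl⟩ := e₁.surjective x
  obtain ⟨t', rfl⟩ := e₁.surjective y
  have h1 : κ t = κ t' := by rw [hκ1, hκ1, hxy]
  rw [hκ] at h1
  rw [hinj h1]

include w hdom hfs hY hX hc in
/-- for `f : X ⟶ Y` dominant between integral schemes, `Y` smooth over `S`, `κ(ξ_X)` formally smooth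
over `κ(f ξ_X)`: `f^* Ω_{Y/S} → Ω_{X/S}` is a monomorphism. -/
theorem mono_of_dominant_formallySmooth : Mono c := by
  refine mono_of_injective_app_basis c
    {U | IsAffineOpen U ∧ genericPoint X ∈ U ∧ ∃ (V : Y.Opens) (W : S.Opens),
      IsAffineOpen V ∧ IsAffineOpen W ∧ U ≤ f ⁻¹ᵁ V ∧ V ≤ g ⁻¹ᵁ W} ?_ ?_
  · rw [TopologicalSpace.Opens.isBasis_iff_nbhd]
    intro U₀ x hx
    obtain ⟨W, hW, V, hV, hVW, hfxV, -⟩ :=
      Groth.Agent.Lib.Helper3.EtGUSch.exists_affine_nhds g (f x) ⊤ trivial
    obtain ⟨U, hU, hxU, hle⟩ := TopologicalSpace.Opens.isBasis_iff_nbhd.mp X.isBasis_affineOpens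
      (show x ∈ U₀ ⊓ f ⁻¹ᵁ V from ⟨hx, hfxV⟩)
    refine ⟨U, ⟨hU, ?_, V, W, hV, hW, hle.trans inf_le_right, hVW⟩, hxU, hle.trans inf_le_left⟩
    exact ((genericPoint_spec X).mem_open_set_iff U.isOpen).mpr ⟨x, trivial, hxU⟩
  · rintro U ⟨hU, hξ, V, W, hV, hW, hUV, hVW⟩
    exact chart_injective g h f w hdom hfs ΩY dY hY ΩX dX hX c hc hU hξ hV hW hUV hVW

include w hdom hY hX hc in
/-- the same with the hypothesis "the fibre of `f` over `f ξ_X` is geometrically reduced". -/
theorem mono_of_dominant_geometricallyReduced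
    [GeometricallyReduced (pullback.snd f (Y.fromSpecResidueField (f.base (genericPoint X))))] :
    Mono c :=
  mono_of_dominant_formallySmooth g h f w hdom (formallySmooth_residueFieldMap f hdom)
    ΩY dY hY ΩX dX hX c hc

/-- restriction to an open subscheme preserves monomorphisms of modules. -/
theorem mono_restrict {X : Scheme.{u}} {M N : X.Modules} (c : M ⟶ N) [Mono c] (U : X.Opens) :
    Mono ((Scheme.Modules.restrictFunctor U.ι).map c) := by
  refine mono_of_injective_app_basis _ Set.univ ?_ ?_
  · rw [TopologicalSpace.Opens.isBasis_iff_nbhd]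
    intro U₀ x hx
    exact ⟨U₀, trivial, hx, le_rfl⟩
  · rintro W -
    exact Groth.Agent.Lib.Helper20.StalkExact.injective_app_of_mono c (U.ι ''ᵁ W)

end mono

end Groth.Agent.R2.H36.OmegaGenSep2
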