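import Mathlib
import Groth.Prelude.Def_Omega4
import Groth.Agent.Lib.Helper18OmLS15

/-!
# Differentials of a fibre product (helper36): `p^* Ω_{X/S} ⊕ q^* Ω_{Y/S} ≅ Ω_{X ×_S Y / S}`
-/

set_option autoImplicit false
set_option linter.style.haveILetI false
universe u
open CategoryTheory AlgebraicGeometry Limits TopologicalSpace Opposite TensorProduct

namespace Groth.Agent.R2.H36.OmegaProd

open Groth.Agent.Helper18OmLS Groth.Agent.Helper13PullbackUnit KaehlerDifferential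

section ring
variable (R A B C : Type u) [CommRing R] [CommRing A] [CommRing B] [CommRing C]
  [Algebra R A] [Algebra R B] [Algebra R C] [Algebra A C] [Algebra B C]
  [IsScalarTower R A C] [IsScalarTower R B C] [Algebra.IsPushout R A B C]

theorem map_comp_mapBaseChange_left :
    (KaehlerDifferential.map R B C C) ∘ₗ (mapBaseChange R A C) =
      (haveI : Algebra.IsPushout R B A C := Algebra.IsPushout.symm inferInstance
       (tensorKaehlerEquiv R B A C).toLinearMap) := by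
  haveI : Algebra.IsPushout R B A C := Algebra.IsPushout.symm inferInstance
  apply tensor_kaehler_ext
  intro a
  rw [LinearMap.comp_apply, mapBaseChange_tmul, one_smul, KaehlerDifferential.map_D,
    KaehlerDifferential.map_D, LinearEquiv.coe_coe, tensorKaehlerEquiv_tmul_D, one_smul]
  rfl

/-- `Ω_{A ⊗_R B / R} = (C ⊗_A Ω_{A/R}) ⊕ (C ⊗_B Ω_{B/R})`: surjectivity. -/
theorem exists_add_eq (y : Ω[C⁄R]) :
    ∃ (x₁ : C ⊗[A] Ω[A⁄R]) (x₂ : C ⊗[B] Ω[B⁄R]),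
      mapBaseChange R A C x₁ + mapBaseChange R B C x₂ = y := by
  haveI : Algebra.IsPushout R B A C := Algebra.IsPushout.symm inferInstance
  have hA := map_comp_mapBaseChange_left R A B C
  let x₁ := (tensorKaehlerEquiv R B A C).symm (KaehlerDifferential.map R B C C y)
  have h1 : KaehlerDifferential.map R B C C (mapBaseChange R A C x₁) =
      KaehlerDifferential.map R B C C y := by
    have := congr($hA x₁)
    rw [LinearMap.comp_apply] at this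
    rw [this]
    exact (tensorKaehlerEquiv R B A C).apply_symm_apply _
  have h2 : KaehlerDifferential.map R B C C (y - mapBaseChange R A C x₁) = 0 := by
    rw [map_sub, h1, sub_self]
  obtain ⟨x₂, hx₂⟩ := (exact_mapBaseChange_map R B C _).mp h2
  exact ⟨x₁, x₂, by rw [hx₂, add_sub_cancel]⟩

/-- injectivity. -/
theorem eq_zero_of_add_eq_zero (x₁ : C ⊗[A] Ω[A⁄R]) (x₂ : C ⊗[B] Ω[B⁄R])
    (h : mapBaseChange R A C x₁ + mapBaseChange R B C x₂ = 0) : x₁ = 0 ∧ x₂ = 0 := by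
  haveI : Algebra.IsPushout R B A C := Algebra.IsPushout.symm inferInstance
  have hA := map_comp_mapBaseChange_left R A B C
  have hB := map_comp_mapBaseChange_left R B A C
  have e1 : KaehlerDifferential.map R B C C (mapBaseChange R B C x₂) = 0 :=
    (exact_mapBaseChange_map R B C _).mpr ⟨x₂, rfl⟩
  have e2 : KaehlerDifferential.map R A C C (mapBaseChange R A C x₁) = 0 :=
    (exact_mapBaseChange_map R A C _).mpr ⟨x₁, rfl⟩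
  have h1 : x₁ = 0 := by
    have := congrArg (KaehlerDifferential.map R B C C) h
    rw [map_add, e1, add_zero, map_zero] at this
    have h' := congr($hA x₁)
    rw [LinearMap.comp_apply, this] at h'
    exact (tensorKaehlerEquiv R B A C).injective (h'.symm.trans (map_zero _).symm)
  have h2 : x₂ = 0 := by
    have := congrArg (KaehlerDifferential.map R A C C) h
    rw [map_add, e2, zero_add, map_zero] at this
    have h' := congr($hB x₂)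
    rw [LinearMap.comp_apply, this] at h'
    exact (tensorKaehlerEquiv R A B C).injective (h'.symm.trans (map_zero _).symm)
  exact ⟨h1, h2⟩

end ring

section coprodSections
variable {X : Scheme.{u}} {M₁ M₂ N : X.Modules} (c₁ : M₁ ⟶ N) (c₂ : M₂ ⟶ N) (U : X.Opens)

theorem total :
    (coprod.desc (𝟙 _) 0 : M₁ ⨿ M₂ ⟶ M₁) ≫ coprod.inl +
      (coprod.desc 0 (𝟙 _) : M₁ ⨿ M₂ ⟶ M₂) ≫ coprod.inr = 𝟙 _ := by
  apply coprod.hom_ext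
  · rw [Preadditive.comp_add, coprod.inl_desc_assoc, coprod.inl_desc_assoc, Category.id_comp,
      zero_comp, add_zero, Category.comp_id]
  · rw [Preadditive.comp_add, coprod.inr_desc_assoc, coprod.inr_desc_assoc, Category.id_comp,
      zero_comp, zero_add, Category.comp_id]

theorem desc_app_inl (t : Γ(M₁, U)) :
    (coprod.desc c₁ c₂).app U ((coprod.inl : M₁ ⟶ M₁ ⨿ M₂).app U t) = c₁.app U t := by
  have h := congrArg (fun φ => Scheme.Modules.Hom.app φ U) (coprod.inl_desc c₁ c₂)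
  exact congr($h t)

theorem desc_app_inr (t : Γ(M₂, U)) :
    (coprod.desc c₁ c₂).app U ((coprod.inr : M₂ ⟶ M₁ ⨿ M₂).app U t) = c₂.app U t := by
  have h := congrArg (fun φ => Scheme.Modules.Hom.app φ U) (coprod.inr_desc c₁ c₂)
  exact congr($h t)

/-- sections of a binary coproduct of modules are pairs: bijectivity criterion for `coprod.desc`. -/
theorem desc_app_bijective
    (hs : ∀ y : Γ(N, U), ∃ (x₁ : Γ(M₁, U)) (x₂ : Γ(M₂, U)), c₁.app U x₁ + c₂.app U x₂ = y)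
    (hi : ∀ (x₁ : Γ(M₁, U)) (x₂ : Γ(M₂, U)), c₁.app U x₁ + c₂.app U x₂ = 0 → x₁ = 0 ∧ x₂ = 0) :
    Function.Bijective ((coprod.desc c₁ c₂).app U) := by
  constructor
  · rw [injective_iff_map_eq_zero]
    intro z hz
    set π₁ : M₁ ⨿ M₂ ⟶ M₁ := coprod.desc (𝟙 _) 0 with hπ₁
    set π₂ : M₁ ⨿ M₂ ⟶ M₂ := coprod.desc 0 (𝟙 _) with hπ₂
    have htot : z = (coprod.inl : M₁ ⟶ _).app U (π₁.app U z) +
        (coprod.inr : M₂ ⟶ _).app U (π₂.app U z) := by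
      have h := congrArg (fun φ => Scheme.Modules.Hom.app φ U) (total (M₁ := M₁) (M₂ := M₂))
      have h2 := congr($h z)
      exact h2.symm
    have hc : (coprod.desc c₁ c₂).app U z = c₁.app U (π₁.app U z) + c₂.app U (π₂.app U z) := by
      conv_lhs => rw [htot]
      rw [map_add, desc_app_inl, desc_app_inr]
    rw [hc] at hz
    obtain ⟨h1, h2⟩ := hi _ _ hz
    rw [htot, h1, h2, map_zero, map_zero, add_zero]
  · intro y
    obtain ⟨x₁, x₂, rfl⟩ := hs y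
    exact ⟨(coprod.inl : M₁ ⟶ _).app U x₁ + (coprod.inr : M₂ ⟶ _).app U x₂, by
      rw [map_add, desc_app_inl, desc_app_inr]⟩

end coprodSections

section main
variable {X Y S Z : Scheme.{u}} (a : X ⟶ S) (b : Y ⟶ S)
  (p : Z ⟶ X) (q : Z ⟶ Y) (h : Z ⟶ S) (wp : p ≫ a = h) (wq : q ≫ b = h) (hZ : IsPullback p q a b)
  (ΩX : X.Modules) (dX : OmegaSh.Der a ΩX) (hX : OmegaSh.IsUniversal dX)
  (ΩY : Y.Modules) (dY : OmegaSh.Der b ΩY) (hY : OmegaSh.IsUniversal dY)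
  (ΩZ : Z.Modules) (dZ : OmegaSh.Der h ΩZ) (hZu : OmegaSh.IsUniversal dZ)
  (c₁ : (Scheme.Modules.pullback p).obj ΩX ⟶ ΩZ) (hc₁ : OmegaSh.IsDiffCompat p dX dZ c₁)
  (c₂ : (Scheme.Modules.pullback q).obj ΩY ⟶ ΩZ) (hc₂ : OmegaSh.IsDiffCompat q dY dZ c₂)

include wp wq hZ hX hY hZu hc₁ hc₂ in
theorem chart_bijective {T : S.Opens} (hT : IsAffineOpen T) {U : X.Opens} (hU : IsAffineOpen U)
    {V : Y.Opens} (hV : IsAffineOpen V) (hUT : U ≤ a ⁻¹ᵁ T) (hVT : V ≤ b ⁻¹ᵁ T) :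
    Function.Bijective ((coprod.desc c₁ c₂).app (p ⁻¹ᵁ U ⊓ q ⁻¹ᵁ V)) := by
  subst wp
  have hN : IsAffineOpen (p ⁻¹ᵁ U ⊓ q ⁻¹ᵁ V) := by
    have : IsAffine _ := hT
    have : IsAffine _ := hV
    have : IsAffine _ := hU
    exact .of_isIso (Scheme.Hom.isPullback_resLE hZ hVT hUT rfl).isoPullback.hom
  have hNU : p ⁻¹ᵁ U ⊓ q ⁻¹ᵁ V ≤ p ⁻¹ᵁ U := inf_le_left
  have hNV : p ⁻¹ᵁ U ⊓ q ⁻¹ᵁ V ≤ q ⁻¹ᵁ V := inf_le_right
  have hNT : p ⁻¹ᵁ U ⊓ q ⁻¹ᵁ V ≤ (p ≫ a) ⁻¹ᵁ T := hNU.trans (p.preimage_mono hUT)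
  have hPO : IsPushout (a.appLE T U hUT) (b.appLE T V hVT)
      (p.appLE U (p ⁻¹ᵁ U ⊓ q ⁻¹ᵁ V) hNU) (q.appLE V (p ⁻¹ᵁ U ⊓ q ⁻¹ᵁ V) hNV) :=
    (isIso_pushoutSection_iff hZ hVT hUT rfl).1
      (isIso_pushoutSection_of_isAffineOpen hZ hVT hUT rfl hT hV hU)
  letI algRA : Algebra Γ(S, T) Γ(X, U) := (a.appLE T U hUT).hom.toAlgebra
  letI algRB : Algebra Γ(S, T) Γ(Y, V) := (b.appLE T V hVT).hom.toAlgebra
  letI algAC : Algebra Γ(X, U) Γ(Z, p ⁻¹ᵁ U ⊓ q ⁻¹ᵁ V) :=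
    (p.appLE U (p ⁻¹ᵁ U ⊓ q ⁻¹ᵁ V) hNU).hom.toAlgebra
  letI algBC : Algebra Γ(Y, V) Γ(Z, p ⁻¹ᵁ U ⊓ q ⁻¹ᵁ V) :=
    (q.appLE V (p ⁻¹ᵁ U ⊓ q ⁻¹ᵁ V) hNV).hom.toAlgebra
  letI algRC : Algebra Γ(S, T) Γ(Z, p ⁻¹ᵁ U ⊓ q ⁻¹ᵁ V) :=
    ((p ≫ a).appLE T (p ⁻¹ᵁ U ⊓ q ⁻¹ᵁ V) hNT).hom.toAlgebra
  haveI : IsScalarTower Γ(S, T) Γ(X, U) Γ(Z, p ⁻¹ᵁ U ⊓ q ⁻¹ᵁ V) :=
    IsScalarTower.of_algebraMap_eq fun r => by
      have h1 : a.appLE T U hUT ≫ p.appLE U (p ⁻¹ᵁ U ⊓ q ⁻¹ᵁ V) hNU =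
          (p ≫ a).appLE T (p ⁻¹ᵁ U ⊓ q ⁻¹ᵁ V) hNT := Scheme.Hom.appLE_comp_appLE _ _ _ _ _ _ _
      exact congr($h1.symm r)
  haveI : IsScalarTower Γ(S, T) Γ(Y, V) Γ(Z, p ⁻¹ᵁ U ⊓ q ⁻¹ᵁ V) :=
    IsScalarTower.of_algebraMap_eq fun r => by
      have h1 : b.appLE T V hVT ≫ q.appLE V (p ⁻¹ᵁ U ⊓ q ⁻¹ᵁ V) hNV =
          (q ≫ b).appLE T (p ⁻¹ᵁ U ⊓ q ⁻¹ᵁ V) (hNV.trans (q.preimage_mono hVT)) :=
        Scheme.Hom.appLE_comp_appLE _ _ _ _ _ _ _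
      have h2 : (q ≫ b).appLE T (p ⁻¹ᵁ U ⊓ q ⁻¹ᵁ V) (hNV.trans (q.preimage_mono hVT)) =
          (p ≫ a).appLE T (p ⁻¹ᵁ U ⊓ q ⁻¹ᵁ V) hNT := OmegaSh.appLE_congr_hom wq _ _
      exact (congr($h2.symm r)).trans (congr($h1.symm r))
  haveI : Algebra.IsPushout Γ(S, T) Γ(X, U) Γ(Y, V) Γ(Z, p ⁻¹ᵁ U ⊓ q ⁻¹ᵁ V) :=
    CommRingCat.isPushout_iff_isPushout.mp hPO
  obtain ⟨e₁, κ₁, hκ₁1, hκ₁2, -⟩ := exists_chart_model'' p a (p ≫ a) dX dZ c₁ hc₁ hNU hX hZu hN hU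
    hT hUT hT hNT rfl rfl rfl
  obtain ⟨e₂, κ₂, hκ₂1, hκ₂2, -⟩ := exists_chart_model'' q b (p ≫ a) dY dZ c₂ hc₂ hNV hY hZu hN hV
    hT hVT hT hNT rfl rfl rfl
  have hκ₁ : κ₁ = mapBaseChange Γ(S, T) Γ(X, U) Γ(Z, p ⁻¹ᵁ U ⊓ q ⁻¹ᵁ V) := by
    apply tensor_kaehler_ext
    intro x
    rw [hκ₁2, mapBaseChange_tmul, KaehlerDifferential.map_D]
  have hκ₂ : κ₂ = mapBaseChange Γ(S, T) Γ(Y, V) Γ(Z, p ⁻¹ᵁ U ⊓ q ⁻¹ᵁ V) := by
    apply tensor_kaehler_ext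
    intro x
    rw [hκ₂2, mapBaseChange_tmul, KaehlerDifferential.map_D]
  set sZ := sectionsEquiv (p ≫ a) dZ hZu hN hT hNT rfl with hsZ
  refine desc_app_bijective c₁ c₂ _ ?_ ?_
  · intro y
    obtain ⟨x₁, x₂, hx⟩ := exists_add_eq Γ(S, T) Γ(X, U) Γ(Y, V) Γ(Z, p ⁻¹ᵁ U ⊓ q ⁻¹ᵁ V) (sZ y)
    refine ⟨e₁ x₁, e₂ x₂, ?_⟩
    apply sZ.injective
    rw [map_add, ← hκ₁1, ← hκ₂1, hκ₁, hκ₂, hx]
  · intro m₁ m₂ hm
    obtain ⟨x₁, rfl⟩ := e₁.surjective m₁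
    obtain ⟨x₂, rfl⟩ := e₂.surjective m₂
    have h0 := congrArg sZ hm
    rw [map_add, ← hκ₁1, ← hκ₂1, hκ₁, hκ₂, map_zero] at h0
    obtain ⟨h1, h2⟩ := eq_zero_of_add_eq_zero Γ(S, T) Γ(X, U) Γ(Y, V)
      Γ(Z, p ⁻¹ᵁ U ⊓ q ⁻¹ᵁ V) x₁ x₂ h0
    rw [h1, h2, map_zero, map_zero]
    exact ⟨rfl, rfl⟩

include wp wq hZ hX hY hZu hc₁ hc₂ in
/-- EGA IV 16.4.23: `p^* Ω_{X/S} ⊕ q^* Ω_{Y/S} ≅ Ω_{X ×_S Y / S}`. -/
theorem isIso_desc : IsIso (coprod.desc c₁ c₂) := by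
  haveI : ΩX.IsQuasicoherent := isQuasicoherent_of_isUniversal a dX hX
  haveI : ΩY.IsQuasicoherent := isQuasicoherent_of_isUniversal b dY hY
  haveI : ΩZ.IsQuasicoherent := isQuasicoherent_of_isUniversal h dZ hZu
  haveI : ((Scheme.Modules.pullback p).obj ΩX).IsQuasicoherent :=
    Groth.Agent.Lib.Helper2.PullbackSec.isQuasicoherent_pullback p ΩX
  haveI : ((Scheme.Modules.pullback q).obj ΩY).IsQuasicoherent :=
    Groth.Agent.Lib.Helper2.PullbackSec.isQuasicoherent_pullback q ΩY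
  haveI : ((Scheme.Modules.pullback p).obj ΩX ⊞ (Scheme.Modules.pullback q).obj ΩY).IsQuasicoherent :=
    Groth.Agent.Lib.Helper23.QCohLocal.isQuasicoherent_biprod _ _
  haveI : ((Scheme.Modules.pullback p).obj ΩX ⨿ (Scheme.Modules.pullback q).obj ΩY).IsQuasicoherent :=
    (SheafOfModules.isQuasicoherent Z.ringCatSheaf).prop_of_iso
      (biprod.isoCoprod ((Scheme.Modules.pullback p).obj ΩX) ((Scheme.Modules.pullback q).obj ΩY))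
      inferInstance
  let ι : Type u := {t : S.Opens × X.Opens × Y.Opens // IsAffineOpen t.1 ∧ IsAffineOpen t.2.1 ∧
    IsAffineOpen t.2.2 ∧ t.2.1 ≤ a ⁻¹ᵁ t.1 ∧ t.2.2 ≤ b ⁻¹ᵁ t.1}
  have haff : ∀ t : ι, IsAffineOpen (p ⁻¹ᵁ t.1.2.1 ⊓ q ⁻¹ᵁ t.1.2.2) := by
    rintro ⟨⟨T, U, V⟩, hT, hU, hV, hUT, hVT⟩
    have : IsAffine _ := hT
    have : IsAffine _ := hV
    have : IsAffine _ := hU
    exact .of_isIso (Scheme.Hom.isPullback_resLE hZ hVT hUT rfl).isoPullback.hom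
  refine isIso_of_bijective_app_cover (coprod.desc c₁ c₂)
    (fun t : ι => p ⁻¹ᵁ t.1.2.1 ⊓ q ⁻¹ᵁ t.1.2.2) ?_ haff
    (fun t => chart_bijective a b p q h wp wq hZ ΩX dX hX ΩY dY hY ΩZ dZ hZu c₁ hc₁ c₂ hc₂
      t.2.1 t.2.2.1 t.2.2.2.1 t.2.2.2.2.1 t.2.2.2.2.2)
  rw [TopologicalSpace.IsOpenCover, eq_top_iff]
  intro z _
  obtain ⟨T, hT, hzT, -⟩ := exists_isAffineOpen_mem_and_subset (x := h z) (U := ⊤) trivial
  have hz1 : p z ∈ a ⁻¹ᵁ T := by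
    change a (p z) ∈ T
    rw [← Scheme.Hom.comp_apply, wp]
    exact hzT
  have hz2 : q z ∈ b ⁻¹ᵁ T := by
    change b (q z) ∈ T
    rw [← Scheme.Hom.comp_apply, wq]
    exact hzT
  obtain ⟨U, hU, hzU, hUT⟩ := exists_isAffineOpen_mem_and_subset (x := p z) hz1
  obtain ⟨V, hV, hzV, hVT⟩ := exists_isAffineOpen_mem_and_subset (x := q z) hz2
  exact TopologicalSpace.Opens.mem_iSup.mpr ⟨⟨⟨T, U, V⟩, hT, hU, hV, hUT, hVT⟩, ⟨hzU, hzV⟩⟩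

end main

end Groth.Agent.R2.H36.OmegaProd
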