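import Mathlib
import Groth.Prelude.Def_OmegaPn
import Groth.Agent.Lib.Helper20ConormalStalk
import Groth.Agent.R2.H36GrBC2

set_option autoImplicit false
set_option linter.style.haveILetI false
universe u
open CategoryTheory AlgebraicGeometry TopologicalSpace Opposite

namespace Groth.Agent.R2.H36.PPAff

section coborder
variable {Y X : Scheme.{u}} (j : Y ⟶ X) [IsImmersion j]

/-- an open over which the immersion restricts to a closed immersion lies in the coborder. -/
theorem le_coborderRange_of_isClosedImmersion (W : X.Opens) [IsClosedImmersion (j ∣_ W)] :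
    W ≤ j.coborderRange := by
  intro p hp
  change p ∈ coborder (Set.range j)
  rw [coborder, Set.mem_compl_iff]
  rintro ⟨hcl, hnot⟩
  apply hnot
  have h1 : p ∈ closure ((W : Set X) ∩ Set.range j) :=
    W.isOpen.inter_closure ⟨hp, hcl⟩
  have h2 : (W : Set X) ∩ Set.range j = W.ι '' (Set.range (j ∣_ W)) := by
    ext x
    constructor
    · rintro ⟨hxW, z, rfl⟩
      refine ⟨⟨j z, hxW⟩, ⟨⟨z, hxW⟩, ?_⟩, rfl⟩
      apply Subtype.ext
      exact morphismRestrict_base_coe j W _
    · rintro ⟨w, ⟨z, rfl⟩, rfl⟩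
      refine ⟨((j ∣_ W) z).2, z.1, ?_⟩
      exact (morphismRestrict_base_coe j W z).symm
  rw [h2] at h1
  have h3 : (⟨p, hp⟩ : W) ∈ closure (Set.range (j ∣_ W)) := by
    rw [W.ι.isOpenEmbedding.isEmbedding.closure_eq_preimage_closure_image]
    exact h1
  have h4 : IsClosed (Set.range (j ∣_ W)) := (j ∣_ W).isClosedEmbedding.isClosed_range
  rw [h4.closure_eq] at h3
  obtain ⟨z, hz⟩ := h3
  refine ⟨z.1, ?_⟩
  have := congrArg Subtype.val hz
  rw [morphismRestrict_base_coe] at this
  exact this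

end coborder

section closedImm
variable {Y X : Scheme.{u}} (j : Y ⟶ X)

theorem isClosedImmersion_morphismRestrict_of_surjective {W : X.Opens} (hW : IsAffineOpen W)
    (hW' : IsAffineOpen (j ⁻¹ᵁ W)) (hs : Function.Surjective (j.app W)) :
    IsClosedImmersion (j ∣_ W) := by
  haveI : IsAffine W.toScheme := hW
  haveI : IsAffine (j ⁻¹ᵁ W).toScheme := hW'
  apply IsClosedImmersion.of_surjective_of_isAffine
  rw [morphismRestrict_appTop]
  have key : ∀ W' : X.Opens, W' = W → Function.Surjective (j.app W') := by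
    rintro W' rfl; exact hs
  have h1 := key _ W.ι_image_top
  have h2 : Function.Bijective (Y.presheaf.map
      (eqToHom (image_morphismRestrict_preimage j W ⊤)).op) :=
    ConcreteCategory.bijective_of_isIso _
  intro a
  obtain ⟨b, hb⟩ := h2.2 a
  obtain ⟨c, hc⟩ := h1 b
  refine ⟨c, ?_⟩
  change (Y.presheaf.map (eqToHom (image_morphismRestrict_preimage j W ⊤)).op)
    ((j.app (W.ι ''ᵁ ⊤)) c) = a
  rw [hc, hb]

end closedImm

section diag
variable {X S : Scheme.{u}} (f : X ⟶ S)

open CategoryTheory.Limits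

theorem diagonal_preimage_diagNbhd (U : X.Opens) :
    pullback.diagonal f ⁻¹ᵁ OmegaSh.diagNbhd f U = U :=
  le_antisymm (OmegaSh.diagonal_preimage_le f (le_refl _)) (OmegaSh.le_preimage_diagNbhd f U)

variable {U : X.Opens} (hU : IsAffineOpen U) {V : S.Opens} (hV : IsAffineOpen V)
  (hUV : U ≤ f ⁻¹ᵁ V)

include hU hV hUV in
theorem isAffineOpen_diagNbhd : IsAffineOpen (OmegaSh.diagNbhd f U) :=
  Groth.Agent.R2.H36.GrBC2.isAffineOpen_of_isPullback (IsPullback.of_hasPullback f f) hV hU hUV hU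
    hUV rfl

include hU hV hUV in
theorem isPushout_diagNbhd :
    IsPushout (f.appLE V U hUV) (f.appLE V U hUV)
      ((pullback.fst f f).appLE U (OmegaSh.diagNbhd f U) inf_le_left)
      ((pullback.snd f f).appLE U (OmegaSh.diagNbhd f U) inf_le_right) := by
  have := isIso_pushoutSection_of_isAffineOpen (IsPullback.of_hasPullback f f) hUV hUV
    (rfl : OmegaSh.diagNbhd f U = _) hV hU hU
  exact (isIso_pushoutSection_iff (IsPullback.of_hasPullback f f) _ _ rfl).mp this

/-- `Δ♯ ∘ fst♯` is the restriction along `Δ⁻¹ W = U`. -/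
theorem fst_appLE_diagonal_app (U : X.Opens) :
    (pullback.fst f f).appLE U (OmegaSh.diagNbhd f U) inf_le_left ≫
      (pullback.diagonal f).app (OmegaSh.diagNbhd f U) =
    X.presheaf.map (homOfLE (diagonal_preimage_diagNbhd f U).le).op := by
  rw [Scheme.Hom.app_eq_appLE, Scheme.Hom.appLE_comp_appLE]
  exact OmegaSh.id_appLE_eq (pullback.diagonal_fst f) _ _

theorem snd_appLE_diagonal_app (U : X.Opens) :
    (pullback.snd f f).appLE U (OmegaSh.diagNbhd f U) inf_le_right ≫
      (pullback.diagonal f).app (OmegaSh.diagNbhd f U) =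
    X.presheaf.map (homOfLE (diagonal_preimage_diagNbhd f U).le).op := by
  rw [Scheme.Hom.app_eq_appLE, Scheme.Hom.appLE_comp_appLE]
  exact OmegaSh.id_appLE_eq (pullback.diagonal_snd f) _ _

theorem diagonal_app_surjective (U : X.Opens) :
    Function.Surjective ((pullback.diagonal f).app (OmegaSh.diagNbhd f U)) := by
  intro a
  have hbij : Function.Bijective (X.presheaf.map
      (homOfLE (diagonal_preimage_diagNbhd f U).le).op) := by
    have : IsIso (homOfLE (diagonal_preimage_diagNbhd f U).le) :=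
      ⟨homOfLE (diagonal_preimage_diagNbhd f U).ge, Subsingleton.elim _ _, Subsingleton.elim _ _⟩
    exact ConcreteCategory.bijective_of_isIso _
  obtain ⟨b, hb⟩ := hbij.2 a
  refine ⟨(pullback.fst f f).appLE U (OmegaSh.diagNbhd f U) inf_le_left b, ?_⟩
  rw [← ConcreteCategory.comp_apply, fst_appLE_diagonal_app]
  exact hb

include hU hV hUV in
theorem isClosedImmersion_diagonal_restrict :
    IsClosedImmersion (pullback.diagonal f ∣_ OmegaSh.diagNbhd f U) := by
  refine isClosedImmersion_morphismRestrict_of_surjective _ (isAffineOpen_diagNbhd f hU hV hUV) ?_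
    (diagonal_app_surjective f U)
  rw [diagonal_preimage_diagNbhd]
  exact hU

include hU hV hUV in
theorem diagNbhd_le_coborderRange :
    OmegaSh.diagNbhd f U ≤ (pullback.diagonal f).coborderRange := by
  haveI := isClosedImmersion_diagonal_restrict f hU hV hUV
  exact le_coborderRange_of_isClosedImmersion _ _

end diag

section algebra
variable {A B : Type u} [CommRing A] [CommRing B]

theorem comap_pow_of_bijective (e : A →+* B) (he : Function.Bijective e) (J : Ideal B) (m : ℕ) :
    Ideal.comap e (J ^ m) = (Ideal.comap e J) ^ m := by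
  have h1 : Ideal.map e (Ideal.comap e J) = J := Ideal.map_comap_of_surjective e he.2 J
  conv_lhs => rw [← h1, ← Ideal.map_pow]
  exact Ideal.comap_map_of_bijective e he

end algebra

section nbhdGeneral
variable {X P : Scheme.{u}} (Δ : X ⟶ P) [IsImmersion Δ] (m : ℕ)

/-- the immersion of the closed subscheme of the coborder defined by the `m`-th power of the ideal. -/
noncomputable abbrev jm : (Δ.liftCoborder.ker ^ m).subscheme ⟶ P :=
  (Δ.liftCoborder.ker ^ m).subschemeι ≫ Δ.coborderRange.ι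

theorem ι_app_bijective {W : P.Opens} (hWC : W ≤ Δ.coborderRange) :
    Function.Bijective (Δ.coborderRange.ι.app W) := by
  rw [Scheme.Opens.ι_app]
  have h : Δ.coborderRange.ι ''ᵁ Δ.coborderRange.ι ⁻¹ᵁ W = W := by
    rw [Scheme.Hom.image_preimage_eq_opensRange_inf, Scheme.Opens.opensRange_ι]
    exact inf_eq_right.mpr hWC
  have e : (homOfLE (x := Δ.coborderRange.ι ''ᵁ Δ.coborderRange.ι ⁻¹ᵁ W)
      (Set.image_preimage_subset _ _)) = (eqToIso h).hom := Subsingleton.elim _ _
  rw [e]
  exact ConcreteCategory.bijective_of_isIso (P.presheaf.mapIso (eqToIso h).op).hom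

theorem ker_app_eq_comap (W : P.Opens) :
    RingHom.ker (Δ.app W).hom =
      Ideal.comap (Δ.coborderRange.ι.app W).hom
        (RingHom.ker (Δ.liftCoborder.app (Δ.coborderRange.ι ⁻¹ᵁ W)).hom) := by
  have key : ∀ (ψ : Γ(X, Δ ⁻¹ᵁ W) ⟶ Γ(X, (Δ.liftCoborder ≫ Δ.coborderRange.ι) ⁻¹ᵁ W)), IsIso ψ →
      Δ.coborderRange.ι.app W ≫ Δ.liftCoborder.app (Δ.coborderRange.ι ⁻¹ᵁ W) = Δ.app W ≫ ψ →
      ∀ x : Γ(P, W), (Δ.app W) x = 0 ↔
        (Δ.liftCoborder.app (Δ.coborderRange.ι ⁻¹ᵁ W)) ((Δ.coborderRange.ι.app W) x) = 0 := by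
    intro ψ hψ h x
    have h2 := congr($h x)
    rw [ConcreteCategory.comp_apply, ConcreteCategory.comp_apply] at h2
    have hinj : Function.Injective ψ := (ConcreteCategory.bijective_of_isIso ψ).1
    constructor
    · intro hx
      exact h2.trans ((congrArg (fun y => ψ y) hx).trans (map_zero _))
    · intro hx
      exact hinj ((h2.symm.trans hx).trans (map_zero _).symm)
  have h := Scheme.Hom.congr_app Δ.liftCoborder_ι W
  rw [Scheme.Hom.comp_app] at h
  ext x
  rw [Ideal.mem_comap, RingHom.mem_ker, RingHom.mem_ker]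
  exact key _ inferInstance h x

theorem ker_jm_app {W : P.Opens} (hW : IsAffineOpen W) (hWC : W ≤ Δ.coborderRange) :
    RingHom.ker ((jm Δ m).app W).hom = (RingHom.ker (Δ.app W).hom) ^ m := by
  have hW' : IsAffineOpen (Δ.coborderRange.ι ⁻¹ᵁ W) :=
    hW.preimage_of_isOpenImmersion _ (by rw [Scheme.Opens.opensRange_ι]; exact hWC)
  rw [ker_app_eq_comap Δ W, ← comap_pow_of_bijective _ (ι_app_bijective Δ hWC)]
  ext x
  rw [Ideal.mem_comap, RingHom.mem_ker]
  change ((Δ.liftCoborder.ker ^ m).subschemeι.app (Δ.coborderRange.ι ⁻¹ᵁ W)).hom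
      ((Δ.coborderRange.ι.app W).hom x) = 0 ↔ _
  rw [← RingHom.mem_ker
      (f := ((Δ.liftCoborder.ker ^ m).subschemeι.app (Δ.coborderRange.ι ⁻¹ᵁ W)).hom),
    (Δ.liftCoborder.ker ^ m).ker_subschemeι_app ⟨_, hW'⟩,
    Groth.Agent.R2.H36.GrBC.pow_ideal_eq Δ.liftCoborder m hW']

end nbhdGeneral

section nbhd
variable {X S : Scheme.{u}} (f : X ⟶ S) (n : ℕ)

open CategoryTheory.Limits

theorem nbhdι_eq : PrinPart.nbhdι f n = jm (pullback.diagonal f) (n + 1) := rfl

instance isImmersion_nbhdι : IsImmersion (PrinPart.nbhdι f n) := by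
  rw [nbhdι_eq]
  infer_instance

theorem nbhdι_toNbhd_apply (y : X) :
    PrinPart.nbhdι f n (PrinPart.toNbhd f n y) = pullback.diagonal f y := by
  have h := PrinPart.toNbhd_ι f n
  have h2 := congrArg (fun g : X ⟶ pullback f f => g y) h
  exact h2

theorem range_nbhdι : Set.range (PrinPart.nbhdι f n) = Set.range (pullback.diagonal f) := by
  ext p
  constructor
  · rintro ⟨x, rfl⟩
    obtain ⟨y, rfl⟩ := PrinPart.toInfNbhd_surjective (PrinPart.diagCl f) n x
    exact ⟨y, (nbhdι_toNbhd_apply f n y).symm⟩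
  · rintro ⟨y, rfl⟩
    exact ⟨PrinPart.toNbhd f n y, nbhdι_toNbhd_apply f n y⟩

theorem coborderRange_nbhdι :
    (PrinPart.nbhdι f n).coborderRange = (pullback.diagonal f).coborderRange := by
  ext1
  change coborder (Set.range (PrinPart.nbhdι f n)) = coborder (Set.range (pullback.diagonal f))
  rw [range_nbhdι]

theorem nbhdι_preimage_diagNbhd (U : X.Opens) :
    PrinPart.nbhdι f n ⁻¹ᵁ OmegaSh.diagNbhd f U = PrinPart.pr1 f n ⁻¹ᵁ U := by
  have h2 := PrinPart.preimage_pr1 f n U
  change PrinPart.pr1 f n ⁻¹ᵁ U ⊓ PrinPart.pr2 f n ⁻¹ᵁ U = _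
  rw [← h2, inf_idem]

variable {U : X.Opens} (hU : IsAffineOpen U) {V : S.Opens} (hV : IsAffineOpen V)
  (hUV : U ≤ f ⁻¹ᵁ V)

include hU hV hUV in
theorem diagNbhd_le_coborderRange_nbhdι :
    OmegaSh.diagNbhd f U ≤ (PrinPart.nbhdι f n).coborderRange := by
  rw [coborderRange_nbhdι]
  exact diagNbhd_le_coborderRange f hU hV hUV

include hU hV hUV in
theorem isAffineOpen_pr1_preimage : IsAffineOpen (PrinPart.pr1 f n ⁻¹ᵁ U) := by
  rw [← nbhdι_preimage_diagNbhd]
  exact Groth.Agent.Lib.Helper20.ConormalStalk.isAffineOpen_preimage (PrinPart.nbhdι f n)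
    (isAffineOpen_diagNbhd f hU hV hUV) (diagNbhd_le_coborderRange_nbhdι f n hU hV hUV)

include hU hV hUV in
theorem nbhdι_app_surjective :
    Function.Surjective ((PrinPart.nbhdι f n).app (OmegaSh.diagNbhd f U)) :=
  Groth.Agent.Lib.Helper20.ConormalStalk.app_surjective (PrinPart.nbhdι f n)
    (isAffineOpen_diagNbhd f hU hV hUV) (diagNbhd_le_coborderRange_nbhdι f n hU hV hUV)

include hU hV hUV in
theorem ker_nbhdι_app :
    RingHom.ker ((PrinPart.nbhdι f n).app (OmegaSh.diagNbhd f U)).hom =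
      (RingHom.ker ((pullback.diagonal f).app (OmegaSh.diagNbhd f U)).hom) ^ (n + 1) :=
  ker_jm_app (pullback.diagonal f) (n + 1) (isAffineOpen_diagNbhd f hU hV hUV)
    (diagNbhd_le_coborderRange f hU hV hUV)

end nbhd

end Groth.Agent.R2.H36.PPAff
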