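import Mathlib
import Groth.Prelude.Def_OmegaPn
import Groth.Agent.R2.H36PPAff
import Groth.Agent.Lib.Helper18OmLS13
import Groth.Agent.Lib.Helper20OmegaAff

set_option autoImplicit false
set_option linter.style.haveILetI false
universe u
open CategoryTheory AlgebraicGeometry TopologicalSpace Opposite
open TensorProduct

namespace Groth.Agent.R2.H36.PPAff

section theta
variable {X S : Scheme.{u}} (f : X ⟶ S) (n : ℕ)
variable {U : X.Opens} (hU : IsAffineOpen U) {V : S.Opens} (hV : IsAffineOpen V)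
  (hUV : U ≤ f ⁻¹ᵁ V)
variable {A B : Type u} [CommRing A] [CommRing B] [Algebra A B]
  (eA : CommRingCat.of A ≅ Γ(S, V)) (eB : CommRingCat.of B ≅ Γ(X, U))
  (hAB : CommRingCat.ofHom (algebraMap A B) ≫ eB.hom = eA.hom ≫ f.appLE V U hUV)

open CategoryTheory.Limits

include hU hV hAB in
theorem isPushout_diagNbhd' :
    IsPushout (CommRingCat.ofHom (algebraMap A B)) (CommRingCat.ofHom (algebraMap A B))
      (eB.hom ≫ (pullback.fst f f).appLE U (OmegaSh.diagNbhd f U) inf_le_left)
      (eB.hom ≫ (pullback.snd f f).appLE U (OmegaSh.diagNbhd f U) inf_le_right) :=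
  (isPushout_diagNbhd f hU hV hUV).of_iso' eA eB eB (Iso.refl _) hAB.symm hAB.symm
    (by simp) (by simp)

/-- the ring isomorphism `B ⊗_A B ≅ Γ(X ×_S X, pr₁⁻¹U ∩ pr₂⁻¹U)`. -/
noncomputable def mu : CommRingCat.of (B ⊗[A] B) ≅ Γ(pullback f f, OmegaSh.diagNbhd f U) :=
  (CommRingCat.isPushout_tensorProduct A B B).isoIsPushout _ _
    (isPushout_diagNbhd' f hU hV hUV eA eB hAB)

theorem inl_mu :
    CommRingCat.ofHom (S := B ⊗[A] B) Algebra.TensorProduct.includeLeftRingHom ≫
      (mu f hU hV hUV eA eB hAB).hom =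
    eB.hom ≫ (pullback.fst f f).appLE U (OmegaSh.diagNbhd f U) inf_le_left :=
  IsPushout.inl_isoIsPushout_hom _ _ _ _

theorem inr_mu :
    CommRingCat.ofHom (S := B ⊗[A] B) Algebra.TensorProduct.includeRight.toRingHom ≫
      (mu f hU hV hUV eA eB hAB).hom =
    eB.hom ≫ (pullback.snd f f).appLE U (OmegaSh.diagNbhd f U) inf_le_right :=
  IsPushout.inr_isoIsPushout_hom _ _ _ _

theorem mu_tmul (b b' : B) :
    (mu f hU hV hUV eA eB hAB).hom (b ⊗ₜ[A] b') =
      (pullback.fst f f).appLE U (OmegaSh.diagNbhd f U) inf_le_left (eB.hom b) *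
        (pullback.snd f f).appLE U (OmegaSh.diagNbhd f U) inf_le_right (eB.hom b') := by
  have h1 := congr($(inl_mu f hU hV hUV eA eB hAB) b)
  have h2 := congr($(inr_mu f hU hV hUV eA eB hAB) b')
  rw [ConcreteCategory.comp_apply, ConcreteCategory.comp_apply] at h1 h2
  rw [← h1, ← h2, ← map_mul]
  congr 1
  change b ⊗ₜ[A] b' = (b ⊗ₜ[A] (1 : B)) * ((1 : B) ⊗ₜ[A] b')
  rw [Algebra.TensorProduct.tmul_mul_tmul, mul_one, one_mul]

/-- `Δ♯ ∘ μ = (restriction) ∘ eB ∘ (multiplication)`. -/
theorem mu_diagonal_app :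
    (mu f hU hV hUV eA eB hAB).hom ≫ (pullback.diagonal f).app (OmegaSh.diagNbhd f U) =
      CommRingCat.ofHom (Algebra.TensorProduct.lmul' A (S := B)).toRingHom ≫ eB.hom ≫
        X.presheaf.map (homOfLE (diagonal_preimage_diagNbhd f U).le).op := by
  apply (CommRingCat.isPushout_tensorProduct A B B).hom_ext
  · rw [reassoc_of% (inl_mu f hU hV hUV eA eB hAB), fst_appLE_diagonal_app]
    ext b
    simp
  · rw [reassoc_of% (inr_mu f hU hV hUV eA eB hAB), snd_appLE_diagonal_app]
    ext b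
    simp

theorem comap_mu_ker_diagonal :
    Ideal.comap (mu f hU hV hUV eA eB hAB).hom.hom
      (RingHom.ker ((pullback.diagonal f).app (OmegaSh.diagNbhd f U)).hom) =
    KaehlerDifferential.ideal A B := by
  have hbij : Function.Bijective (X.presheaf.map
      (homOfLE (diagonal_preimage_diagNbhd f U).le).op) := by
    have : IsIso (homOfLE (diagonal_preimage_diagNbhd f U).le) :=
      ⟨homOfLE (diagonal_preimage_diagNbhd f U).ge, Subsingleton.elim _ _, Subsingleton.elim _ _⟩
    exact ConcreteCategory.bijective_of_isIso _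
  have hB : Function.Bijective eB.hom := ConcreteCategory.bijective_of_isIso _
  ext x
  rw [Ideal.mem_comap, RingHom.mem_ker]
  have h := congr($(mu_diagonal_app f hU hV hUV eA eB hAB) x)
  rw [ConcreteCategory.comp_apply, ConcreteCategory.comp_apply, ConcreteCategory.comp_apply] at h
  change (pullback.diagonal f).app (OmegaSh.diagNbhd f U) ((mu f hU hV hUV eA eB hAB).hom x) = 0 ↔ _
  rw [h]
  change _ ↔ x ∈ RingHom.ker (Algebra.TensorProduct.lmul' A (S := B))
  rw [RingHom.mem_ker]
  constructor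
  · intro hx
    apply hB.1
    apply hbij.1
    rw [map_zero, map_zero]
    exact hx
  · intro hx
    have : (CommRingCat.ofHom (Algebra.TensorProduct.lmul' A (S := B)).toRingHom) x = 0 := hx
    rw [this, map_zero, map_zero]

/-- `Θ : B ⊗_A B → Γ(X^{(n)}_Δ, p₁⁻¹U)`, `b ⊗ b' ↦ p₁♯ b · p₂♯ b'`. -/
noncomputable def theta :
    CommRingCat.of (B ⊗[A] B) ⟶ Γ(PrinPart.nbhd f n, PrinPart.pr1 f n ⁻¹ᵁ U) :=
  (mu f hU hV hUV eA eB hAB).hom ≫
    (PrinPart.nbhdι f n).appLE (OmegaSh.diagNbhd f U) (PrinPart.pr1 f n ⁻¹ᵁ U)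
      (nbhdι_preimage_diagNbhd f n U).ge

theorem theta_tmul (b b' : B) :
    theta f n hU hV hUV eA eB hAB (b ⊗ₜ[A] b') =
      (PrinPart.pr1 f n).app U (eB.hom b) *
        (PrinPart.pr2 f n).appLE U (PrinPart.pr1 f n ⁻¹ᵁ U) (PrinPart.preimage_pr1 f n U).le
          (eB.hom b') := by
  rw [theta, ConcreteCategory.comp_apply, mu_tmul, map_mul, ← ConcreteCategory.comp_apply,
    ← ConcreteCategory.comp_apply (f := (pullback.snd f f).appLE U (OmegaSh.diagNbhd f U) _),
    Scheme.Hom.appLE_comp_appLE, Scheme.Hom.appLE_comp_appLE, Scheme.Hom.app_eq_appLE]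
  rfl

theorem res_nbhd_bijective :
    Function.Bijective ((PrinPart.nbhd f n).presheaf.map
      (homOfLE (nbhdι_preimage_diagNbhd f n U).ge).op) := by
  have : IsIso (homOfLE (nbhdι_preimage_diagNbhd f n U).ge) :=
    ⟨homOfLE (nbhdι_preimage_diagNbhd f n U).le, Subsingleton.elim _ _, Subsingleton.elim _ _⟩
  exact ConcreteCategory.bijective_of_isIso _

include hU hV hUV in
theorem theta_surjective : Function.Surjective (theta f n hU hV hUV eA eB hAB) := by
  intro y
  obtain ⟨y1, rfl⟩ := (res_nbhd_bijective f n (U := U)).2 y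
  obtain ⟨y2, rfl⟩ := nbhdι_app_surjective f n hU hV hUV y1
  obtain ⟨x, rfl⟩ := (ConcreteCategory.bijective_of_isIso (mu f hU hV hUV eA eB hAB).hom).2 y2
  exact ⟨x, rfl⟩

theorem ker_theta :
    RingHom.ker (theta f n hU hV hUV eA eB hAB).hom = KaehlerDifferential.ideal A B ^ (n + 1) := by
  rw [← comap_mu_ker_diagonal f hU hV hUV eA eB hAB,
    ← comap_pow_of_bijective _ (ConcreteCategory.bijective_of_isIso (mu f hU hV hUV eA eB hAB).hom),
    ← ker_nbhdι_app f n hU hV hUV]
  ext x
  rw [Ideal.mem_comap, RingHom.mem_ker, RingHom.mem_ker]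
  change (PrinPart.nbhd f n).presheaf.map (homOfLE (nbhdι_preimage_diagNbhd f n U).ge).op
    ((PrinPart.nbhdι f n).app (OmegaSh.diagNbhd f U) ((mu f hU hV hUV eA eB hAB).hom x)) = 0 ↔
    (PrinPart.nbhdι f n).app (OmegaSh.diagNbhd f U) ((mu f hU hV hUV eA eB hAB).hom x) = 0
  constructor
  · intro hx
    apply (res_nbhd_bijective f n (U := U)).1
    rw [map_zero]
    exact hx
  · intro hx
    rw [hx, map_zero]

end theta

section kappaGeneral
open Groth.Agent.Helper13PullbackUnit
variable {X Y : Scheme.{u}} (g : Y ⟶ X) {U : X.Opens} {W : Y.Opens} (hle : W ≤ g ⁻¹ᵁ U)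

/-- the pulled back unit section of `g^* O_X` over `W`. -/
noncomputable def oneSec : Γ((Scheme.Modules.pullback g).obj (Coh.structureModule X), W) :=
  unitSec g (Coh.structureModule X) hle (OmegaSh.strSect X U 1)

/-- `κ : Γ(Y, W) → Γ(g^* O_X, W)`, `σ ↦ σ • 1`. -/
noncomputable def kappa :
    Γ(Y, W) →ₗ[Γ(Y, W)] Γ((Scheme.Modules.pullback g).obj (Coh.structureModule X), W) :=
  LinearMap.toSpanSingleton Γ(Y, W) _ (oneSec g hle)

theorem kappa_apply (σ : Γ(Y, W)) : kappa g hle σ = σ • oneSec g hle := rfl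

theorem kappa_appLE (b : Γ(X, U)) :
    kappa g hle (g.appLE U W hle b) = unitSec g (Coh.structureModule X) hle (OmegaSh.strSect X U b) := by
  rw [kappa_apply, oneSec, ← unitSec_smul, ← OmegaSh.strSect_mul, mul_one]

theorem kappa_bijective (hU : IsAffineOpen U) (hW : IsAffineOpen W) :
    Function.Bijective (kappa g hle) := by
  -- the left inverse
  obtain ⟨l', hl', -⟩ := existsUnique_lift g (Coh.structureModule X) hU hW hle Γ(Y, W)
    ((g.appLE U W hle).hom.toAddMonoidHom.comp (OmegaSh.fnSect X U))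
    (fun r x => by
      change (g.appLE U W hle) (r * OmegaSh.fnSect X U x) = _
      rw [map_mul]
      rfl)
  have hleft : ∀ σ, l' (kappa g hle σ) = σ := by
    intro σ
    rw [kappa_apply, map_smul, oneSec, hl']
    change σ * (g.appLE U W hle) 1 = σ
    rw [map_one, mul_one]
  -- uniqueness gives the right inverse
  obtain ⟨l'', -, hl''⟩ := existsUnique_lift g (Coh.structureModule X) hU hW hle
    Γ((Scheme.Modules.pullback g).obj (Coh.structureModule X), W)
    (unitSec g (Coh.structureModule X) hle) (fun r x => unitSec_smul g _ hle r x)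
  have h1 : (kappa g hle).comp l' = l'' := hl'' _ (fun x => by
    rw [LinearMap.comp_apply, hl']
    exact kappa_appLE g hle x)
  have h2 : LinearMap.id = l'' := hl'' _ (fun x => rfl)
  refine ⟨fun a b hab => ?_, fun y => ⟨l' y, ?_⟩⟩
  · rw [← hleft a, ← hleft b, hab]
  · have := congrArg (fun t => t y) (h1.trans h2.symm)
    exact this

end kappaGeneral

section model
open Groth.Agent.Helper13PullbackUnit
variable {X S : Scheme.{u}} (f : X ⟶ S) (n : ℕ)
variable {U : X.Opens} (hU : IsAffineOpen U) {V : S.Opens} (hV : IsAffineOpen V)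
  (hUV : U ≤ f ⁻¹ᵁ V)
variable {A B : Type u} [CommRing A] [CommRing B] [Algebra A B]
  (eA : CommRingCat.of A ≅ Γ(S, V)) (eB : CommRingCat.of B ≅ Γ(X, U))
  (hAB : CommRingCat.ofHom (algebraMap A B) ≫ eB.hom = eA.hom ≫ f.appLE V U hUV)

theorem dn_eq (b : Γ(X, U)) :
    PrinPart.dn f n U b = unitSec (PrinPart.pr2 f n) (Coh.structureModule X)
      (PrinPart.preimage_pr1 f n U).le (OmegaSh.strSect X U b) := rfl

/-- `r • d^n b = κ (p₁♯ r · p₂♯ b)`. -/
theorem smul_dn_eq (r b : Γ(X, U)) :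
    (r • PrinPart.dn f n U b : Γ(PrinPart.P f n, U)) =
      kappa (PrinPart.pr2 f n) (PrinPart.preimage_pr1 f n U).le
        ((PrinPart.pr1 f n).app U r *
          (PrinPart.pr2 f n).appLE U (PrinPart.pr1 f n ⁻¹ᵁ U)
            (PrinPart.preimage_pr1 f n U).le b) := by
  rw [← smul_eq_mul, map_smul, kappa_appLE]
  rfl

include hU hV hUV hAB in
/-- **affine model of the sheaf of principal parts**: over an affine open `U` of `X` lying over an
affine open `V` of `S`, `Γ(U, P^n_{X/S}) = (B ⊗_A B) / I^{n+1}`. -/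
theorem affine_model (ψ : B ⊗[A] B →+ Γ(PrinPart.P f n, U))
    (hψ : ∀ b b' : B, ψ (b ⊗ₜ[A] b') = eB.hom b • PrinPart.dn f n U (eB.hom b')) :
    Function.Surjective ψ ∧
      ψ.ker = (KaehlerDifferential.ideal A B ^ (n + 1)).toAddSubgroup := by
  have hNU := isAffineOpen_pr1_preimage f n hU hV hUV
  have hκ := kappa_bijective (PrinPart.pr2 f n) (PrinPart.preimage_pr1 f n U).le hU hNU
  have key : ∀ x : B ⊗[A] B, ψ x =
      kappa (PrinPart.pr2 f n) (PrinPart.preimage_pr1 f n U).le
        (theta f n hU hV hUV eA eB hAB x) := by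
    intro x
    induction x using TensorProduct.induction_on with
    | zero =>
      rw [map_zero, map_zero, map_zero]
      rfl
    | tmul b b' => rw [hψ, theta_tmul, smul_dn_eq]
    | add x y hx hy =>
      rw [map_add, map_add, map_add, hx, hy]
      rfl
  constructor
  · intro y
    obtain ⟨σ, rfl⟩ := hκ.2 y
    obtain ⟨x, rfl⟩ := theta_surjective f n hU hV hUV eA eB hAB σ
    exact ⟨x, key x⟩
  · ext x
    rw [AddMonoidHom.mem_ker, key, ← ker_theta f n hU hV hUV eA eB hAB]
    change _ ↔ x ∈ RingHom.ker (theta f n hU hV hUV eA eB hAB).hom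
    rw [RingHom.mem_ker]
    constructor
    · intro hx
      apply hκ.1
      rw [map_zero]
      exact hx
    · intro hx
      have : (theta f n hU hV hUV eA eB hAB) x = 0 := hx
      rw [this, map_zero]
      rfl

end model

end Groth.Agent.R2.H36.PPAff
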