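import Mathlib
import Groth.Prelude.Def_OmegaPn
import Groth.Prelude.Def_PP16
import Groth.Agent.R2.H36PPAff2
import Groth.Agent.S5002
import Groth.Agent.S3814
import Groth.Agent.S5959
import Groth.Agent.Lib.Helper23FinType2
import Groth.Agent.Lib.Helper2FinPushFP
import Groth.Agent.Lib.Helper2FPAff
import Groth.Agent.Lib.Helper2FlatOver2

set_option autoImplicit false
set_option linter.style.haveILetI false
universe u
open CategoryTheory AlgebraicGeometry TopologicalSpace Opposite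
open TensorProduct

namespace Groth.Agent.R2.H36.PPFin

open Groth.Agent.R2.H36.PPAff

section algebra

theorem finite_of_ringHom {R S M : Type*} [CommRing R] [CommRing S] [AddCommGroup M]
    [Module R M] [Module S M] (φ : R →+* S) (hφ : φ.Finite)
    (hsm : ∀ (r : R) (m : M), r • m = φ r • m) [Module.Finite S M] : Module.Finite R M := by
  letI := φ.toAlgebra
  haveI : IsScalarTower R S M := ⟨fun r s m => by
    rw [hsm, Algebra.smul_def, mul_smul]
    rfl⟩
  haveI : Module.Finite R S := hφ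
  exact Module.Finite.trans S M

theorem finitePresentation_of_ringHom {R S M : Type*} [CommRing R] [CommRing S] [AddCommGroup M]
    [Module R M] [Module S M] (φ : R →+* S)
    (hφ : letI := φ.toAlgebra; Module.FinitePresentation R S)
    (hsm : ∀ (r : R) (m : M), r • m = φ r • m) [Module.FinitePresentation S M] :
    Module.FinitePresentation R M := by
  letI := φ.toAlgebra
  haveI : IsScalarTower R S M := ⟨fun r s m => by
    rw [hsm, Algebra.smul_def, mul_smul]
    rfl⟩
  haveI : Module.FinitePresentation R S := hφ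
  exact Module.FinitePresentation.trans R M S

end algebra

section ringEquiv
variable {X S : Scheme.{u}} (f : X ⟶ S) (n : ℕ)
variable {U : X.Opens} (hU : IsAffineOpen U) {V : S.Opens} (hV : IsAffineOpen V)
  (hUV : U ≤ f ⁻¹ᵁ V)
variable {A B : Type u} [CommRing A] [CommRing B] [Algebra A B]
  (eA : CommRingCat.of A ≅ Γ(S, V)) (eB : CommRingCat.of B ≅ Γ(X, U))
  (hAB : CommRingCat.ofHom (algebraMap A B) ≫ eB.hom = eA.hom ≫ f.appLE V U hUV)

include hU hV hUV hAB in
/-- `Γ(X^{(n)}_Δ, p₁⁻¹U)` is the ring of principal parts `P^n_{B/A}`. -/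
theorem exists_ringEquiv :
    ∃ e : PP16.P n A B ≃+* Γ(PrinPart.nbhd f n, PrinPart.pr1 f n ⁻¹ᵁ U),
      (∀ t : B ⊗[A] B, e (Ideal.Quotient.mk _ t) = theta f n hU hV hUV eA eB hAB t) ∧
      (∀ (b : B) (x : PP16.P n A B), e (b • x) = (PrinPart.pr1 f n).app U (eB.hom b) * e x) := by
  let e1 : PP16.P n A B ≃+* (B ⊗[A] B) ⧸ RingHom.ker (theta f n hU hV hUV eA eB hAB).hom :=
    Ideal.quotEquivOfEq (ker_theta f n hU hV hUV eA eB hAB).symm
  let e2 := RingHom.quotientKerEquivOfSurjective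
    (f := (theta f n hU hV hUV eA eB hAB).hom) (theta_surjective f n hU hV hUV eA eB hAB)
  have h1 : ∀ t : B ⊗[A] B, (e1.trans e2) (Ideal.Quotient.mk _ t) =
      theta f n hU hV hUV eA eB hAB t := by
    intro t
    rw [RingEquiv.trans_apply, Ideal.quotEquivOfEq_mk,
      RingHom.quotientKerEquivOfSurjective_apply_mk]
  refine ⟨e1.trans e2, h1, fun b x => ?_⟩
  have hb : algebraMap B (PP16.P n A B) b = Ideal.Quotient.mk _ (b ⊗ₜ[A] (1 : B)) := rfl
  rw [Algebra.smul_def, map_mul, hb, h1, theta_tmul, map_one, map_one, mul_one]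

end ringEquiv

section sections
variable {X S : Scheme.{u}} (f : X ⟶ S) (n : ℕ)
variable {U : X.Opens} (hU : IsAffineOpen U) {V : S.Opens} (hV : IsAffineOpen V)
  (hUV : U ≤ f ⁻¹ᵁ V)

include hU hV hUV in
theorem exists_linearEquiv :
    letI : Algebra Γ(S, V) Γ(X, U) := (f.appLE V U hUV).hom.toAlgebra
    letI : Algebra Γ(X, U) Γ(PrinPart.nbhd f n, PrinPart.pr1 f n ⁻¹ᵁ U) :=
      ((PrinPart.pr1 f n).app U).hom.toAlgebra
    Nonempty (PP16.P n Γ(S, V) Γ(X, U) ≃ₗ[Γ(X, U)]
      Γ(PrinPart.nbhd f n, PrinPart.pr1 f n ⁻¹ᵁ U)) := by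
  letI : Algebra Γ(S, V) Γ(X, U) := (f.appLE V U hUV).hom.toAlgebra
  letI : Algebra Γ(X, U) Γ(PrinPart.nbhd f n, PrinPart.pr1 f n ⁻¹ᵁ U) :=
    ((PrinPart.pr1 f n).app U).hom.toAlgebra
  have hAB : CommRingCat.ofHom (algebraMap Γ(S, V) Γ(X, U)) ≫ (Iso.refl Γ(X, U)).hom =
      (Iso.refl Γ(S, V)).hom ≫ f.appLE V U hUV := by
    ext x
    rfl
  obtain ⟨e, -, he⟩ := exists_ringEquiv f n hU hV hUV (Iso.refl _) (Iso.refl _) hAB
  exact ⟨{ e with
    map_smul' := fun b x => by
      rw [RingHom.id_apply]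
      exact he b x }⟩

include hU hV hUV in
theorem finite_pr1_app [LocallyOfFiniteType f] : ((PrinPart.pr1 f n).app U).hom.Finite := by
  letI : Algebra Γ(S, V) Γ(X, U) := (f.appLE V U hUV).hom.toAlgebra
  letI : Algebra Γ(X, U) Γ(PrinPart.nbhd f n, PrinPart.pr1 f n ⁻¹ᵁ U) :=
    ((PrinPart.pr1 f n).app U).hom.toAlgebra
  haveI : Algebra.FiniteType Γ(S, V) Γ(X, U) :=
    HasRingHomProperty.appLE (P := @LocallyOfFiniteType) f inferInstance ⟨V, hV⟩ ⟨U, hU⟩ hUV
  haveI := Groth.Agent.S5002.result n Γ(S, V) Γ(X, U)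
  obtain ⟨e⟩ := exists_linearEquiv f n hU hV hUV
  exact Module.Finite.equiv e

include hU hV hUV in
theorem finitePresentation_pr1_app [LocallyOfFinitePresentation f] :
    letI : Algebra Γ(X, U) Γ(PrinPart.nbhd f n, PrinPart.pr1 f n ⁻¹ᵁ U) :=
      ((PrinPart.pr1 f n).app U).hom.toAlgebra
    Module.FinitePresentation Γ(X, U) Γ(PrinPart.nbhd f n, PrinPart.pr1 f n ⁻¹ᵁ U) := by
  letI : Algebra Γ(S, V) Γ(X, U) := (f.appLE V U hUV).hom.toAlgebra
  letI : Algebra Γ(X, U) Γ(PrinPart.nbhd f n, PrinPart.pr1 f n ⁻¹ᵁ U) :=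
    ((PrinPart.pr1 f n).app U).hom.toAlgebra
  haveI : Algebra.FinitePresentation Γ(S, V) Γ(X, U) :=
    HasRingHomProperty.appLE (P := @LocallyOfFinitePresentation) f inferInstance ⟨V, hV⟩ ⟨U, hU⟩ hUV
  haveI := Groth.Agent.S3814.result n Γ(S, V) Γ(X, U)
  obtain ⟨e⟩ := exists_linearEquiv f n hU hV hUV
  exact Module.FinitePresentation.of_equiv e

variable (F : X.Modules) [F.IsQuasicoherent]

include hU hV hUV in
theorem finite_pullback_sections [Module.Finite Γ(X, U) Γ(F, U)] :
    Module.Finite Γ(PrinPart.nbhd f n, PrinPart.pr1 f n ⁻¹ᵁ U)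
      Γ((Scheme.Modules.pullback (PrinPart.pr2 f n)).obj F, PrinPart.pr1 f n ⁻¹ᵁ U) := by
  have hNU := isAffineOpen_pr1_preimage f n hU hV hUV
  letI : Algebra Γ(X, U) Γ(PrinPart.nbhd f n, PrinPart.pr1 f n ⁻¹ᵁ U) :=
    ((PrinPart.pr2 f n).appLE U (PrinPart.pr1 f n ⁻¹ᵁ U)
      (PrinPart.preimage_pr1 f n U).le).hom.toAlgebra
  obtain ⟨e, -⟩ := Groth.Agent.Helper18OmLS.exists_pullback_equiv (PrinPart.pr2 f n) F
    (PrinPart.preimage_pr1 f n U).le hU hNU rfl
  exact Module.Finite.equiv e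

include hU hV hUV in
theorem finitePresentation_pullback_sections [Module.FinitePresentation Γ(X, U) Γ(F, U)] :
    Module.FinitePresentation Γ(PrinPart.nbhd f n, PrinPart.pr1 f n ⁻¹ᵁ U)
      Γ((Scheme.Modules.pullback (PrinPart.pr2 f n)).obj F, PrinPart.pr1 f n ⁻¹ᵁ U) := by
  have hNU := isAffineOpen_pr1_preimage f n hU hV hUV
  letI : Algebra Γ(X, U) Γ(PrinPart.nbhd f n, PrinPart.pr1 f n ⁻¹ᵁ U) :=
    ((PrinPart.pr2 f n).appLE U (PrinPart.pr1 f n ⁻¹ᵁ U)
      (PrinPart.preimage_pr1 f n U).le).hom.toAlgebra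
  obtain ⟨e, -⟩ := Groth.Agent.Helper18OmLS.exists_pullback_equiv (PrinPart.pr2 f n) F
    (PrinPart.preimage_pr1 f n U).le hU hNU rfl
  exact Module.FinitePresentation.of_equiv e

include hU hV hUV in
/-- sections of `P^n_{X/S}(F)` over an affine open over an affine open are finite, for `f` locally of
finite type and `F` quasi-coherent of finite type. -/
theorem finite_sections_PMod [LocallyOfFiniteType f] [Module.Finite Γ(X, U) Γ(F, U)] :
    Module.Finite Γ(X, U) Γ(PrinPart.PMod f n F, U) := by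
  haveI := finite_pullback_sections f n hU hV hUV F
  exact @finite_of_ringHom Γ(X, U) Γ(PrinPart.nbhd f n, PrinPart.pr1 f n ⁻¹ᵁ U)
    Γ((Scheme.Modules.pullback (PrinPart.pr2 f n)).obj F, PrinPart.pr1 f n ⁻¹ᵁ U) _ _ _
    (show Module Γ(X, U) Γ(PrinPart.PMod f n F, U) from inferInstance) _
    ((PrinPart.pr1 f n).app U).hom (finite_pr1_app f n hU hV hUV) (fun r m => rfl) _

include hU hV hUV in
theorem finitePresentation_sections_PMod [LocallyOfFinitePresentation f]
    [Module.FinitePresentation Γ(X, U) Γ(F, U)] :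
    Module.FinitePresentation Γ(X, U) Γ(PrinPart.PMod f n F, U) := by
  haveI := finitePresentation_pullback_sections f n hU hV hUV F
  exact @finitePresentation_of_ringHom Γ(X, U) Γ(PrinPart.nbhd f n, PrinPart.pr1 f n ⁻¹ᵁ U)
    Γ((Scheme.Modules.pullback (PrinPart.pr2 f n)).obj F, PrinPart.pr1 f n ⁻¹ᵁ U) _ _ _
    (show Module Γ(X, U) Γ(PrinPart.PMod f n F, U) from inferInstance) _
    ((PrinPart.pr1 f n).app U).hom (finitePresentation_pr1_app f n hU hV hUV) (fun r m => rfl) _

end sections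

section global
variable {X S : Scheme.{u}} (f : X ⟶ S) (n : ℕ) (F : X.Modules) [F.IsQuasicoherent]

theorem isOpenCover_affine_over :
    IsOpenCover (fun x : X =>
      (Groth.Agent.Lib.Helper2.FlatOver.exists_affine_nhds f x).choose) := by
  rw [TopologicalSpace.IsOpenCover, eq_top_iff]
  intro x _
  exact TopologicalSpace.Opens.mem_iSup.mpr ⟨x,
    (Groth.Agent.Lib.Helper2.FlatOver.exists_affine_nhds f x).choose_spec.choose_spec.2.2.1⟩

theorem isFiniteType_PMod [LocallyOfFiniteType f]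
    [SheafOfModules.IsFiniteType (R := X.ringCatSheaf) F] :
    SheafOfModules.IsFiniteType (R := X.ringCatSheaf) (PrinPart.PMod f n F) := by
  haveI : (PrinPart.PMod f n F).IsQuasicoherent :=
    Groth.Agent.S5959.result f n F inferInstance
  refine Groth.Agent.Lib.Helper23.FinType.isFiniteType_of_finite _ _ (isOpenCover_affine_over f)
    (fun x => (Groth.Agent.Lib.Helper2.FlatOver.exists_affine_nhds f x).choose_spec.choose_spec.1)
    (fun x => ?_)
  obtain ⟨hU, hV, -, hUV⟩ :=
    (Groth.Agent.Lib.Helper2.FlatOver.exists_affine_nhds f x).choose_spec.choose_spec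
  haveI := Groth.Agent.Lib.Helper23.FinType.finite_of_isFiniteType F hU
  exact finite_sections_PMod f n hU hV hUV F

theorem isFinitePresentation_PMod [LocallyOfFinitePresentation f]
    [SheafOfModules.IsFinitePresentation (R := X.ringCatSheaf) F] :
    SheafOfModules.IsFinitePresentation (R := X.ringCatSheaf) (PrinPart.PMod f n F) := by
  haveI : (PrinPart.PMod f n F).IsQuasicoherent :=
    Groth.Agent.S5959.result f n F inferInstance
  refine Groth.Agent.Lib.Helper2.FinPushFP.isFinitePresentation_of_finitePresentation_sections _ _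
    (isOpenCover_affine_over f)
    (fun x => (Groth.Agent.Lib.Helper2.FlatOver.exists_affine_nhds f x).choose_spec.choose_spec.1)
    (fun x => ?_)
  obtain ⟨hU, hV, -, hUV⟩ :=
    (Groth.Agent.Lib.Helper2.FlatOver.exists_affine_nhds f x).choose_spec.choose_spec
  haveI := Groth.Agent.Lib.Helper2.FPAff.finitePresentation_sections F hU
  exact finitePresentation_sections_PMod f n hU hV hUV F

end global

end Groth.Agent.R2.H36.PPFin
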