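import Mathlib
import Groth.Prelude.Def_OmegaPn
import Groth.Prelude.Def_PP16
import Groth.Agent.R2.H36PPFin
import Groth.Agent.R2.H36GrBC2
import Groth.Agent.S3806
import Groth.Agent.Lib.Helper18OmLS9

set_option autoImplicit false
set_option linter.style.haveILetI false
universe u
open CategoryTheory AlgebraicGeometry TopologicalSpace Opposite
open TensorProduct

namespace Groth.Agent.R2.H36.PPBC

open Groth.Agent.R2.H36.PPAff Groth.Agent.R2.H36.PPFin Groth.Agent.Helper13PullbackUnit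

section sectionsP
variable {X S : Scheme.{u}} (f : X ⟶ S) (n : ℕ)
variable {U : X.Opens} (hU : IsAffineOpen U) {V : S.Opens} (hV : IsAffineOpen V)
  (hUV : U ≤ f ⁻¹ᵁ V)
  [Algebra Γ(S, V) Γ(X, U)] (halg : algebraMap Γ(S, V) Γ(X, U) = (f.appLE V U hUV).hom)

include hU hV hUV halg in
/-- **sections of `P^n_{X/S}` over an affine open over an affine open**: `Γ(U, P^n_{X/S}) = P^n_{B/A}` as
`B`-modules, `[r ⊗ b] ↦ r • d^n b`. -/
theorem exists_linearEquiv_P :
    ∃ k : PP16.P n Γ(S, V) Γ(X, U) ≃ₗ[Γ(X, U)] Γ(PrinPart.P f n, U),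
      ∀ r b : Γ(X, U), k (Ideal.Quotient.mk _ (r ⊗ₜ[Γ(S, V)] b)) = r • PrinPart.dn f n U b := by
  have hAB : CommRingCat.ofHom (algebraMap Γ(S, V) Γ(X, U)) ≫ (Iso.refl Γ(X, U)).hom =
      (Iso.refl Γ(S, V)).hom ≫ f.appLE V U hUV := by
    ext x
    exact congr($halg x)
  obtain ⟨e, he1, he2⟩ := exists_ringEquiv f n hU hV hUV (Iso.refl _) (Iso.refl _) hAB
  have hNU := isAffineOpen_pr1_preimage f n hU hV hUV
  have hκ := kappa_bijective (PrinPart.pr2 f n) (PrinPart.preimage_pr1 f n U).le hU hNU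
  let k0 : PP16.P n Γ(S, V) Γ(X, U) →ₗ[Γ(X, U)] Γ(PrinPart.P f n, U) :=
    { toFun := fun x => kappa (PrinPart.pr2 f n) (PrinPart.preimage_pr1 f n U).le (e x)
      map_add' := fun x y => by
        rw [map_add, map_add]
        rfl
      map_smul' := fun b x => by
        rw [RingHom.id_apply, he2, ← smul_eq_mul, map_smul]
        rfl }
  have hk0 : Function.Bijective k0 := hκ.comp e.bijective
  refine ⟨LinearEquiv.ofBijective k0 hk0, fun r b => ?_⟩
  change kappa (PrinPart.pr2 f n) (PrinPart.preimage_pr1 f n U).le (e (Ideal.Quotient.mk _ _)) = _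
  rw [he1, theta_tmul, smul_dn_eq]
  rfl

end sectionsP

section pmapRes
variable {X S X' S' : Scheme.{u}} (f : X ⟶ S) (f' : X' ⟶ S') (u : X' ⟶ X) (n : ℕ)
  (φ : (Scheme.Modules.pullback u).obj (PrinPart.P f n) ⟶ PrinPart.P f' n)
  (hφ : PrinPart.IsPMap f f' u n φ)

theorem dn_map {U W : X.Opens} (h : W ≤ U) (b : Γ(X, U)) :
    PrinPart.dn f n W (X.presheaf.map (homOfLE h).op b) =
      (PrinPart.P f n).presheaf.map (homOfLE h).op (PrinPart.dn f n U b) := by
  change PrinPart.dP f n _ W (OmegaSh.strSect X W (X.presheaf.map (homOfLE h).op b)) = _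
  rw [OmegaSh.strSect_map, PrinPart.dP_map]
  rfl

include hφ in
/-- the value of a `P`-map on pulled back sections over a smaller open. -/
theorem isPMap_unitSec {U : X.Opens} {U' : X'.Opens} (hle : U' ≤ u ⁻¹ᵁ U) (b : Γ(X, U)) :
    φ.app U' (unitSec u (PrinPart.P f n) hle (PrinPart.dn f n U b)) =
      PrinPart.dn f' n U' (u.appLE U U' hle b) := by
  rw [unitSec_apply]
  have h1 := congr($(φ.mapPresheaf.naturality (homOfLE hle).op)
    (OmegaSh.pullSect u (PrinPart.P f n) U (PrinPart.dn f n U b)))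
  rw [ConcreteCategory.comp_apply, ConcreteCategory.comp_apply] at h1
  refine h1.trans ?_
  change (PrinPart.P f' n).presheaf.map (homOfLE hle).op (φ.app (u ⁻¹ᵁ U) _) = _
  rw [hφ U b, ← dn_map]
  rfl

end pmapRes

section chart
attribute [local instance] PP16.mapAlgebra PP16.isScalarTower_mapAlgebra

variable {X S X' S' : Scheme.{u}} (f : X ⟶ S) (g : S' ⟶ S) (u : X' ⟶ X) (f' : X' ⟶ S')
  (hsq : IsPullback u f' f g) (n : ℕ)
  (φ : (Scheme.Modules.pullback u).obj (PrinPart.P f n) ⟶ PrinPart.P f' n)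
  (hφ : PrinPart.IsPMap f f' u n φ)
  {V : S.Opens} (hV : IsAffineOpen V) {V' : S'.Opens} (hV' : IsAffineOpen V')
  (hV'V : V' ≤ g ⁻¹ᵁ V)
  {U : X.Opens} (hU : IsAffineOpen U) (hUV : U ≤ f ⁻¹ᵁ V)
  {U' : X'.Opens} (hU'eq : U' = u ⁻¹ᵁ U ⊓ f' ⁻¹ᵁ V')

include hsq hφ hV hV' hV'V hU hUV hU'eq in
theorem chart_bijective : Function.Bijective (φ.app U') := by
  have hU'U : U' ≤ u ⁻¹ᵁ U := hU'eq.le.trans inf_le_left
  have hU'V' : U' ≤ f' ⁻¹ᵁ V' := hU'eq.le.trans inf_le_right
  have hU' : IsAffineOpen U' :=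
    Groth.Agent.R2.H36.GrBC2.isAffineOpen_of_isPullback hsq hV hU hUV hV' hV'V hU'eq
  letI algAB : Algebra Γ(S, V) Γ(X, U) := (f.appLE V U hUV).hom.toAlgebra
  letI algAA' : Algebra Γ(S, V) Γ(S', V') := (g.appLE V V' hV'V).hom.toAlgebra
  letI algBB' : Algebra Γ(X, U) Γ(X', U') := (u.appLE U U' hU'U).hom.toAlgebra
  letI algA'B' : Algebra Γ(S', V') Γ(X', U') := (f'.appLE V' U' hU'V').hom.toAlgebra
  letI algAB' : Algebra Γ(S, V) Γ(X', U') :=
    ((algebraMap Γ(S', V') Γ(X', U')).comp (algebraMap Γ(S, V) Γ(S', V'))).toAlgebra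
  haveI : IsScalarTower Γ(S, V) Γ(S', V') Γ(X', U') := IsScalarTower.of_algebraMap_eq fun _ => rfl
  have hcomm : f.appLE V U hUV ≫ u.appLE U U' hU'U =
      g.appLE V V' hV'V ≫ f'.appLE V' U' hU'V' := by
    rw [Scheme.Hom.appLE_comp_appLE, Scheme.Hom.appLE_comp_appLE]
    exact OmegaSh.appLE_congr_hom hsq.w _ _
  haveI : IsScalarTower Γ(S, V) Γ(X, U) Γ(X', U') := IsScalarTower.of_algebraMap_eq fun r =>
    congr($hcomm.symm r)
  have hPO : IsPushout (f.appLE V U hUV) (g.appLE V V' hV'V)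
      (u.appLE U U' hU'U) (f'.appLE V' U' hU'V') := by
    have := isIso_pushoutSection_of_isAffineOpen hsq hV'V hUV hU'eq hV hV' hU
    exact (isIso_pushoutSection_iff hsq _ _ hU'eq).mp this
  haveI : Algebra.IsPushout Γ(S, V) Γ(X, U) Γ(S', V') Γ(X', U') :=
    CommRingCat.isPushout_iff_isPushout.mp hPO
  have h3806 := Groth.Agent.S3806.result n Γ(S, V) Γ(X, U) Γ(S', V') Γ(X', U')
  have hbc := h3806.symm.out
  -- identifications
  haveI : (PrinPart.P f n).IsQuasicoherent :=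
    Groth.Agent.S5959.result f n _ (inferInstanceAs (Coh.structureModule X).IsQuasicoherent)
  obtain ⟨k, hk⟩ := exists_linearEquiv_P f n hU hV hUV rfl
  obtain ⟨k', hk'⟩ := exists_linearEquiv_P f' n hU' hV' hU'V' rfl
  obtain ⟨eT, heT⟩ := Groth.Agent.Helper18OmLS.exists_pullback_equiv u (PrinPart.P f n) hU'U hU hU'
    (rfl : algebraMap Γ(X, U) Γ(X', U') = (u.appLE U U' hU'U).hom)
  -- the key compatibility
  have sub : ∀ x : PP16.P n Γ(S, V) Γ(X, U),
      φ.app U' (unitSec u (PrinPart.P f n) hU'U (k x)) =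
        k' (algebraMap (PP16.P n Γ(S, V) Γ(X, U)) (PP16.P n Γ(S', V') Γ(X', U')) x) := by
    intro x
    obtain ⟨t, rfl⟩ := Ideal.Quotient.mk_surjective x
    induction t using TensorProduct.induction_on with
    | zero => rw [map_zero, map_zero, map_zero, map_zero, map_zero, map_zero]
    | tmul r b =>
      rw [hk, unitSec_smul, Scheme.Modules.Hom.app_smul, isPMap_unitSec f f' u n φ hφ]
      change _ = k' (PP16.map n Γ(S, V) Γ(X, U) Γ(S', V') Γ(X', U') (Ideal.Quotient.mk _ _))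
      rw [PP16.map_mk, PP16.tensorMap_tmul, hk']
      rfl
    | add x y hx hy =>
      rw [map_add, map_add, map_add, map_add, map_add, map_add, hx, hy]
  have main : ∀ z : Γ(X', U') ⊗[Γ(X, U)] PP16.P n Γ(S, V) Γ(X, U),
      φ.app U' (eT ((LinearEquiv.lTensor Γ(X', U') k) z)) = k' (hbc.equiv z) := by
    intro z
    induction z using TensorProduct.induction_on with
    | zero => rw [map_zero, map_zero, map_zero, map_zero, map_zero]
    | tmul b' x =>
      rw [LinearEquiv.lTensor_tmul, heT, Scheme.Modules.Hom.app_smul, sub, hbc.equiv_tmul,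
        map_smul]
      rfl
    | add x y hx hy =>
      rw [map_add, map_add, map_add, map_add, map_add, hx, hy]
  have hb2 : Function.Bijective (fun z => k' (hbc.equiv z)) :=
    k'.bijective.comp hbc.equiv.bijective
  have hb1 : Function.Bijective (fun z => eT ((LinearEquiv.lTensor Γ(X', U') k) z)) :=
    eT.bijective.comp (LinearEquiv.lTensor Γ(X', U') k).bijective
  have hcomp : (fun y => φ.app U' y) ∘ (fun z => eT ((LinearEquiv.lTensor Γ(X', U') k) z)) =
      fun z => k' (hbc.equiv z) := funext main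
  have h3 : Function.Bijective ((fun y => φ.app U' y) ∘
      (fun z => eT ((LinearEquiv.lTensor Γ(X', U') k) z))) := hcomp ▸ hb2
  exact (Function.Bijective.of_comp_iff _ hb1).mp h3

end chart

section global
variable {X S X' S' : Scheme.{u}} (f : X ⟶ S) (g : S' ⟶ S) (u : X' ⟶ X) (f' : X' ⟶ S')
  (hsq : IsPullback u f' f g) (n : ℕ)
  (φ : (Scheme.Modules.pullback u).obj (PrinPart.P f n) ⟶ PrinPart.P f' n)
  (hφ : PrinPart.IsPMap f f' u n φ)

include hsq in
theorem exists_chart (x' : X') : ∃ (V : S.Opens) (V' : S'.Opens) (U : X.Opens),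
    IsAffineOpen V ∧ IsAffineOpen V' ∧ V' ≤ g ⁻¹ᵁ V ∧ IsAffineOpen U ∧ U ≤ f ⁻¹ᵁ V ∧
      x' ∈ u ⁻¹ᵁ U ⊓ f' ⁻¹ᵁ V' := by
  obtain ⟨V, hV, hxV, -⟩ := TopologicalSpace.Opens.isBasis_iff_nbhd.mp S.isBasis_affineOpens
    (TopologicalSpace.Opens.mem_top (f (u x')))
  have hw : f (u x') = g (f' x') := by
    rw [← Scheme.Hom.comp_apply, ← Scheme.Hom.comp_apply, hsq.w]
  obtain ⟨V', hV', hxV', hV'V⟩ := TopologicalSpace.Opens.isBasis_iff_nbhd.mp
    S'.isBasis_affineOpens (show f' x' ∈ g ⁻¹ᵁ V from by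
      change g (f' x') ∈ V
      rw [← hw]
      exact hxV)
  obtain ⟨U, hU, hxU, hUV⟩ := TopologicalSpace.Opens.isBasis_iff_nbhd.mp
    X.isBasis_affineOpens (show u x' ∈ f ⁻¹ᵁ V from hxV)
  exact ⟨V, V', U, hV, hV', hV'V, hU, hUV, hxU, hxV'⟩

include hsq hφ in
/-- **base change of principal parts**: for a cartesian square, `u^* P^n_{X/S} ≅ P^n_{X'/S'}`. -/
theorem isIso_of_isPMap : IsIso φ := by
  haveI : (PrinPart.P f n).IsQuasicoherent :=
    Groth.Agent.S5959.result f n _ (inferInstanceAs (Coh.structureModule X).IsQuasicoherent)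
  haveI : (PrinPart.P f' n).IsQuasicoherent :=
    Groth.Agent.S5959.result f' n _ (inferInstanceAs (Coh.structureModule X').IsQuasicoherent)
  haveI : ((Scheme.Modules.pullback u).obj (PrinPart.P f n)).IsQuasicoherent :=
    Groth.Agent.Lib.Helper2.PullbackSec.isQuasicoherent_pullback _ _
  choose V V' U hV hV' hV'V hU hUV hx using exists_chart f g u f' hsq
  refine Groth.Agent.Helper18OmLS.isIso_of_bijective_app_cover φ
    (fun x' => u ⁻¹ᵁ U x' ⊓ f' ⁻¹ᵁ V' x') ?_ (fun x' => ?_) (fun x' => ?_)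
  · rw [TopologicalSpace.IsOpenCover, eq_top_iff]
    intro x' _
    exact TopologicalSpace.Opens.mem_iSup.mpr ⟨x', hx x'⟩
  · exact Groth.Agent.R2.H36.GrBC2.isAffineOpen_of_isPullback hsq (hV x') (hU x') (hUV x')
      (hV' x') (hV'V x') rfl
  · exact chart_bijective f g u f' hsq n φ hφ (hV x') (hV' x') (hV'V x') (hU x') (hUV x') rfl

end global

end Groth.Agent.R2.H36.PPBC
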