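import Mathlib
import Groth.Prelude.Def_OmegaPn
import Groth.Agent.R2.H16ClosedImmAdj

/-!
# `F ↦ P^n_{X/S}(F)` preserves colimits (helper36)

`pr1 f n` is a homeomorphism on points, so its pushforward on `O`-modules preserves colimits
(helper16's pattern for closed immersions).
-/

set_option autoImplicit false
set_option linter.style.haveILetI false
universe u
open CategoryTheory CategoryTheory.Limits AlgebraicGeometry TopologicalSpace Opposite

namespace Groth.Agent.R2.H36.PPColim

open Groth.Agent.R2.H16.ClosedImmAdj

section general
variable {N X : Scheme.{u}} (p : N ⟶ X)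

/-- the pushforward of `O`-modules along a morphism which is an isomorphism of underlying spaces
preserves colimits. -/
theorem preservesColimits_pushforward_of_topIso (e : N.toTopCat ≅ X.toTopCat)
    (he : e.hom = p.base) : PreservesColimitsOfSize.{u, u} (Scheme.Modules.pushforward p) := by
  change PreservesColimitsOfSize.{u, u} (SheafOfModules.pushforward.{u} p.toRingCatSheafHom)
  have hcomp : SheafOfModules.pushforward.{u} p.toRingCatSheafHom ⋙
      SheafOfModules.toSheaf.{u} X.ringCatSheaf =
      SheafOfModules.toSheaf.{u} N.ringCatSheaf ⋙ CohTop.push p.base := rfl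
  haveI : PreservesColimitsOfSize.{u, u} (CohTop.push p.base) := by
    rw [← he]
    exact preservesColimits_push_of_iso e
  constructor
  intro K' _
  haveI : PreservesColimitsOfShape K' (SheafOfModules.toSheaf.{u} N.ringCatSheaf) :=
    Groth.Agent.S0484.preservesColimitsOfShape_toSheaf _ N.ringCatSheaf K'
  haveI : PreservesColimitsOfShape K' (SheafOfModules.toSheaf.{u} X.ringCatSheaf) :=
    Groth.Agent.S0484.preservesColimitsOfShape_toSheaf _ X.ringCatSheaf K'
  haveI : ReflectsColimitsOfShape K' (SheafOfModules.toSheaf.{u} X.ringCatSheaf) :=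
    reflectsColimitsOfShape_of_reflectsIsomorphisms
  haveI : PreservesColimitsOfShape K'
      (SheafOfModules.pushforward.{u} p.toRingCatSheafHom ⋙
        SheafOfModules.toSheaf.{u} X.ringCatSheaf) := by
    rw [hcomp]; infer_instance
  exact preservesColimitsOfShape_of_reflects_of_preserves _
    (SheafOfModules.toSheaf.{u} X.ringCatSheaf)

/-- a morphism with a surjective section is an isomorphism on underlying spaces. -/
noncomputable def topIsoOfSection (t : X ⟶ N) (h : t ≫ p = 𝟙 X)
    (ht : Function.Surjective t) : N.toTopCat ≅ X.toTopCat where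
  hom := p.base
  inv := t.base
  hom_inv_id := by
    ext x
    obtain ⟨y, rfl⟩ := ht x
    change t (p (t y)) = t y
    have hy : p (t y) = y := by
      rw [← Scheme.Hom.comp_apply, h]
      rfl
    rw [hy]
  inv_hom_id := by
    ext y
    change p (t y) = y
    rw [← Scheme.Hom.comp_apply, h]
    rfl

end general

section pp
variable {X S : Scheme.{u}} (f : X ⟶ S) (n : ℕ)

theorem preservesColimits_pushforward_pr1 :
    PreservesColimitsOfSize.{u, u} (Scheme.Modules.pushforward (PrinPart.pr1 f n)) :=
  preservesColimits_pushforward_of_topIso (PrinPart.pr1 f n)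
    (topIsoOfSection (PrinPart.pr1 f n) (PrinPart.toNbhd f n) (PrinPart.toNbhd_pr1 f n)
      (PrinPart.toInfNbhd_surjective (PrinPart.diagCl f) n)) rfl

theorem preservesColimits_PMod :
    PreservesColimitsOfSize.{u, u}
      ((Scheme.Modules.pullback (PrinPart.pr2 f n)) ⋙
        (Scheme.Modules.pushforward (PrinPart.pr1 f n))) := by
  haveI := preservesColimits_pushforward_pr1 f n
  haveI : PreservesColimitsOfSize.{u, u} (Scheme.Modules.pullback (PrinPart.pr2 f n)) :=
    (Scheme.Modules.pullbackPushforwardAdjunction (PrinPart.pr2 f n)).leftAdjoint_preservesColimits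
  exact comp_preservesColimits _ _

end pp

end Groth.Agent.R2.H36.PPColim
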