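import Mathlib
import Groth.Prelude.Def_OmegaPn
import Groth.Prelude.Def_PP16
import Groth.Prelude.Def_DiffOp
import Groth.Agent.R2.H36PPFin
import Groth.Agent.S3815
import Groth.Agent.S5959

set_option autoImplicit false
set_option linter.style.haveILetI false
universe u
open CategoryTheory AlgebraicGeometry TopologicalSpace Opposite
open TensorProduct

namespace Groth.Agent.R2.H36.PPGlob

open Groth.Agent.R2.H36.PPAff Groth.Agent.R2.H36.PPFin Groth.Agent.Helper13PullbackUnit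

section PMsections
variable {X S : Scheme.{u}} (f : X ⟶ S) (n : ℕ) (F : X.Modules) [F.IsQuasicoherent]
variable {U : X.Opens} (hU : IsAffineOpen U) {V : S.Opens} (hV : IsAffineOpen V)
  (hUV : U ≤ f ⁻¹ᵁ V)
  [Algebra Γ(S, V) Γ(X, U)] (halg : algebraMap Γ(S, V) Γ(X, U) = (f.appLE V U hUV).hom)

include hU hV hUV halg in
/-- **sections of `P^n_{X/S}(F)` over a chart**: `Γ(U, P^n(F)) = P^n_{B/A} ⊗_B Γ(U, F)` (`PP16.PM`), compatibly
with the left `B`-structures and with `d^n`. -/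
theorem exists_addEquiv_PM :
    ∃ Φ : PP16.PM n Γ(S, V) Γ(X, U) Γ(F, U) ≃+ Γ(PrinPart.PMod f n F, U),
      (∀ (b : Γ(X, U)) (t : PP16.PM n Γ(S, V) Γ(X, U) Γ(F, U)),
        Φ (algebraMap Γ(X, U) (PP16.P n Γ(S, V) Γ(X, U)) b • t) = b • Φ t) ∧
      ∀ m : Γ(F, U), Φ (PP16.dM n Γ(S, V) Γ(X, U) Γ(F, U) m) = PrinPart.dP f n F U m := by
  have hAB : CommRingCat.ofHom (algebraMap Γ(S, V) Γ(X, U)) ≫ (Iso.refl Γ(X, U)).hom =
      (Iso.refl Γ(S, V)).hom ≫ f.appLE V U hUV := by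
    ext x
    exact congr($halg x)
  obtain ⟨e, he1, he2⟩ := exists_ringEquiv f n hU hV hUV (Iso.refl _) (Iso.refl _) hAB
  have hNU := isAffineOpen_pr1_preimage f n hU hV hUV
  letI algPn : Algebra Γ(X, U) Γ(PrinPart.nbhd f n, PrinPart.pr1 f n ⁻¹ᵁ U) :=
    ((PrinPart.pr2 f n).appLE U (PrinPart.pr1 f n ⁻¹ᵁ U)
      (PrinPart.preimage_pr1 f n U).le).hom.toAlgebra
  obtain ⟨eT, heT⟩ := Groth.Agent.Helper18OmLS.exists_pullback_equiv (PrinPart.pr2 f n) F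
    (PrinPart.preimage_pr1 f n U).le hU hNU rfl
  have hdn : ∀ b : Γ(X, U), e (PP16.dn n Γ(S, V) Γ(X, U) b) =
      (PrinPart.pr2 f n).appLE U (PrinPart.pr1 f n ⁻¹ᵁ U) (PrinPart.preimage_pr1 f n U).le b := by
    intro b
    change e (Ideal.Quotient.mk _ ((1 : Γ(X, U)) ⊗ₜ[Γ(S, V)] b)) = _
    rw [he1, theta_tmul]
    change (PrinPart.pr1 f n).app U 1 * _ = _
    rw [map_one, one_mul]
    rfl
  let eR : PP16.Pr n Γ(S, V) Γ(X, U) ≃ₗ[Γ(X, U)]
      Γ(PrinPart.nbhd f n, PrinPart.pr1 f n ⁻¹ᵁ U) :=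
    { toFun := fun x => e (show PP16.P n Γ(S, V) Γ(X, U) from x)
      invFun := fun y => (show PP16.Pr n Γ(S, V) Γ(X, U) from e.symm y)
      left_inv := fun x => e.symm_apply_apply _
      right_inv := fun y => e.apply_symm_apply _
      map_add' := fun x y => map_add e _ _
      map_smul' := fun b x => by
        change e (PP16.dn n Γ(S, V) Γ(X, U) b * (show PP16.P n Γ(S, V) Γ(X, U) from x)) =
          (PrinPart.pr2 f n).appLE U (PrinPart.pr1 f n ⁻¹ᵁ U) (PrinPart.preimage_pr1 f n U).le b *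
            e (show PP16.P n Γ(S, V) Γ(X, U) from x)
        rw [map_mul, hdn] }
  let Φ0 := (TensorProduct.congr eR (LinearEquiv.refl Γ(X, U) Γ(F, U))).toAddEquiv.trans
    eT.toAddEquiv
  have hΦ : ∀ (x : PP16.Pr n Γ(S, V) Γ(X, U)) (m : Γ(F, U)),
      Φ0 (x ⊗ₜ m) = e (show PP16.P n Γ(S, V) Γ(X, U) from x) •
        unitSec (PrinPart.pr2 f n) F (PrinPart.preimage_pr1 f n U).le m := by
    intro x m
    change eT ((TensorProduct.congr eR (LinearEquiv.refl Γ(X, U) Γ(F, U))) (x ⊗ₜ m)) = _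
    rw [TensorProduct.congr_tmul, heT]
    rfl
  have h1 : ∀ (b : Γ(X, U)) (t : PP16.Pr n Γ(S, V) Γ(X, U) ⊗[Γ(X, U)] Γ(F, U)),
      Φ0 (algebraMap Γ(X, U) (PP16.P n Γ(S, V) Γ(X, U)) b • t) =
        (PrinPart.pr1 f n).app U b • Φ0 t := by
    intro b t
    induction t using TensorProduct.induction_on with
    | zero => rw [smul_zero, map_zero, smul_zero]
    | tmul x m =>
      rw [TensorProduct.smul_tmul', hΦ, hΦ]
      change e (algebraMap Γ(X, U) (PP16.P n Γ(S, V) Γ(X, U)) b *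
        (show PP16.P n Γ(S, V) Γ(X, U) from x)) • _ = _
      rw [← Algebra.smul_def, he2, mul_smul]
      rfl
    | add x y hx hy => rw [smul_add, map_add, map_add, hx, hy, smul_add]
  have h2 : ∀ m : Γ(F, U), Φ0 (PP16.dM n Γ(S, V) Γ(X, U) Γ(F, U) m) =
      unitSec (PrinPart.pr2 f n) F (PrinPart.preimage_pr1 f n U).le m := by
    intro m
    change Φ0 ((1 : PP16.Pr n Γ(S, V) Γ(X, U)) ⊗ₜ m) = _
    rw [hΦ]
    change e 1 • _ = _
    rw [map_one, one_smul]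
  exact ⟨Φ0, h1, h2⟩

end PMsections

section global
variable {X S : Scheme.{u}} [IsAffine X] [IsAffine S] (f : X ⟶ S) (F G : X.Modules)
  [F.IsQuasicoherent] (k : ℕ)

omit [IsAffine S] [F.IsQuasicoherent] in
theorem hG_top (W : X.Opens) : Function.Bijective
    (G.presheaf.map (homOfLE ((isAffineOpen_top X).fromSpec.image_preimage_le W)).op) := by
  refine map_bijective_of_eq G ?_ _
  rw [Scheme.Hom.image_preimage_eq_opensRange_inf, IsAffineOpen.opensRange_fromSpec]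
  exact top_inf_eq W

/-- a ring-level differential operator on global sections over affine schemes comes from a sheaf-level one. -/
theorem exists_diffOp_of_ring :
    letI : Algebra Γ(S, ⊤) Γ(X, ⊤) := f.appTop.hom.toAlgebra
    letI : Module Γ(S, ⊤) Γ(F, ⊤) := Module.compHom Γ(F, ⊤) f.appTop.hom
    letI : Module Γ(S, ⊤) Γ(G, ⊤) := Module.compHom Γ(G, ⊤) f.appTop.hom
    haveI : IsScalarTower Γ(S, ⊤) Γ(X, ⊤) Γ(F, ⊤) := IsScalarTower.of_algebraMap_smul fun _ _ => rfl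
    haveI : IsScalarTower Γ(S, ⊤) Γ(X, ⊤) Γ(G, ⊤) := IsScalarTower.of_algebraMap_smul fun _ _ => rfl
    ∀ D' : Γ(F, ⊤) →ₗ[Γ(S, ⊤)] Γ(G, ⊤), Diff16.IsDiffOpLE Γ(S, ⊤) Γ(X, ⊤) Γ(F, ⊤) Γ(G, ⊤) k D' →
      ∃ D : F.presheaf ⟶ G.presheaf, PrinPart.IsDiffOpLE f F G k D ∧
        ∀ m : Γ(F, ⊤), (D.app (op ⊤)).hom m = D' m := by
  letI : Algebra Γ(S, ⊤) Γ(X, ⊤) := f.appTop.hom.toAlgebra
  letI : Module Γ(S, ⊤) Γ(F, ⊤) := Module.compHom Γ(F, ⊤) f.appTop.hom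
  letI : Module Γ(S, ⊤) Γ(G, ⊤) := Module.compHom Γ(G, ⊤) f.appTop.hom
  haveI : IsScalarTower Γ(S, ⊤) Γ(X, ⊤) Γ(F, ⊤) := IsScalarTower.of_algebraMap_smul fun _ _ => rfl
  haveI : IsScalarTower Γ(S, ⊤) Γ(X, ⊤) Γ(G, ⊤) := IsScalarTower.of_algebraMap_smul fun _ _ => rfl
  intro D' hD'
  have halg : algebraMap Γ(S, ⊤) Γ(X, ⊤) = (f.appLE ⊤ ⊤ le_top).hom := by
    have h : f.appLE ⊤ ⊤ le_top = f.appTop := by
      rw [Scheme.Hom.appLE]
      refine Eq.trans ?_ (Category.comp_id _)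
      congr 1
      exact X.presheaf.map_id _
    rw [h]
    rfl
  obtain ⟨u', ⟨hu1, hu2⟩, -⟩ :=
    (Groth.Agent.S3815.result k Γ(S, ⊤) Γ(X, ⊤) Γ(F, ⊤) Γ(G, ⊤) D').mp hD'
  obtain ⟨Φ, hΦ1, hΦ2⟩ := exists_addEquiv_PM f k F (isAffineOpen_top X) (isAffineOpen_top S)
    le_top halg
  let l : Γ(PrinPart.PMod f k F, ⊤) →+ Γ(G, ⊤) := u'.comp Φ.symm.toAddMonoidHom
  have hl : ∀ (r : Γ(X, ⊤)) (x : Γ(PrinPart.PMod f k F, ⊤)), l (r • x) = r • l x := by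
    intro r x
    obtain ⟨t, rfl⟩ := Φ.surjective x
    change u' (Φ.symm (r • Φ t)) = r • u' (Φ.symm (Φ t))
    rw [← hΦ1, Φ.symm_apply_apply, Φ.symm_apply_apply, hu1]
  haveI : (PrinPart.PMod f k F).IsQuasicoherent := Groth.Agent.S5959.result f k F inferInstance
  obtain ⟨ψ, hψ⟩ := exists_hom_of_app (isAffineOpen_top X) (PrinPart.PMod f k F) G (hG_top G) l hl
  refine ⟨PrinPart.dPHom f k F ≫ ψ.mapPresheaf, ⟨ψ, fun U t => rfl⟩, fun m => ?_⟩
  change ψ.app ⊤ (PrinPart.dP f k F ⊤ m) = D' m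
  rw [hψ]
  change u' (Φ.symm (PrinPart.dP f k F ⊤ m)) = _
  rw [← hΦ2, Φ.symm_apply_apply, hu2]

end global

end Groth.Agent.R2.H36.PPGlob
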