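import Mathlib
import Groth.Prelude.Def_OmegaPn
import Groth.Prelude.Def_PP16
import Groth.Prelude.Def_DiffOp
import Groth.Agent.R2.H36PPGlob
import Groth.Agent.S2799
import Groth.Agent.Lib.Helper13ModBasis
import Groth.Agent.Lib.Helper3EtGUSchB

/-!
# Composition of differential operators between quasi-coherent modules (helper36)

`isDiffOpLE_comp_of_qcoh`: EGA IV 16.8.9 for quasi-coherent `F`, `G` (chartwise from the ring-level
`Diff16.isDiffOpLE_comp`, glued over the basis of charts).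
-/

set_option autoImplicit false
set_option linter.style.haveILetI false
universe u
open CategoryTheory AlgebraicGeometry TopologicalSpace Opposite
open TensorProduct

namespace Groth.Agent.R2.H36.PPComp

open Groth.Agent.Lib.Helper4 PP16 Diff16
open Groth.Agent.R2.H36.PPGlob

section ring
variable (n : ℕ) {A B : Type u} [CommRing A] [CommRing B] [Algebra A B]
variable {M N : Type u} [AddCommGroup M] [Module A M] [Module B M] [IsScalarTower A B M]
  [AddCommGroup N] [Module A N] [Module B N] [IsScalarTower A B N]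

/-- existence of a factorisation through `d^n_M` suffices for order `≤ n`. -/
theorem isDiffOpLE_of_exists (D : M →ₗ[A] N) (u : PM n A B M →+ N)
    (h1 : ∀ (b : B) (t : PM n A B M), u (algebraMap B (P n A B) b • t) = b • u t)
    (h2 : ∀ m : M, u (dM n A B M m) = D m) : IsDiffOpLE A B M N n D := by
  rw [isDiffOpLE_iff_evalOp]
  intro m
  rw [isDiffOpLE_iff_linearize]
  intro x hx
  rw [← linTwo_eq_linearize, ← eq_linTwo_of_props n D u h1 h2, prMk_eq_zero n x hx,
    TensorProduct.zero_tmul, map_zero]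

/-- `P^n(M)` is generated over `B` (left structure) by the `d^n m`. -/
theorem PM_induction {p : PM n A B M → Prop} (h0 : p 0) (hadd : ∀ x y, p x → p y → p (x + y))
    (hs : ∀ (b : B) (m : M), p (algebraMap B (P n A B) b • dM n A B M m)) (t : PM n A B M) :
    p t := by
  induction t using TensorProduct.induction_on with
  | zero => exact h0
  | tmul x m =>
    obtain ⟨y, rfl⟩ := prMk_surjective n x
    induction y using TensorProduct.induction_on with
    | zero =>
      rw [prMk_zero, TensorProduct.zero_tmul]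
      exact h0
    | tmul b c =>
      rw [prMk_tmul_tmul]
      exact hs b (c • m)
    | add y z hy hz =>
      rw [prMk_add, TensorProduct.add_tmul]
      exact hadd _ _ hy hz
  | add x y hx hy => exact hadd _ _ hx hy

end ring

section base
variable {X S : Scheme.{u}} (f : X ⟶ S) (n : ℕ) (F : X.Modules)
variable {U : X.Opens} {V : S.Opens} (hUV : U ≤ f ⁻¹ᵁ V)

theorem appLE_congr_hom {X Y : Scheme.{u}} {g g' : X ⟶ Y} (h : g = g') (V : Y.Opens) (W : X.Opens)
    (e : W ≤ g ⁻¹ᵁ V) (e' : W ≤ g' ⁻¹ᵁ V) (a : Γ(Y, V)) :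
    g.appLE V W e a = g'.appLE V W e' a := by
  subst h
  rfl

/-- `d^n_F` is linear over the functions coming from the base. -/
theorem dP_smul_base (a : Γ(S, V)) (m : Γ(F, U)) :
    PrinPart.dP f n F U (f.appLE V U hUV a • m) =
      f.appLE V U hUV a • PrinPart.dP f n F U m := by
  rw [PrinPart.dP_apply, PrinPart.dP_apply, OmegaSh.pullSect_smul]
  have h1 := Scheme.Modules.map_smul ((Scheme.Modules.pullback (PrinPart.pr2 f n)).obj F)
    (homOfLE (PrinPart.preimage_pr1 f n U).le) ((PrinPart.pr2 f n).app U (f.appLE V U hUV a))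
    (OmegaSh.pullSect (PrinPart.pr2 f n) F U m)
  refine h1.trans ?_
  have h2 : (PrinPart.nbhd f n).presheaf.map (homOfLE (PrinPart.preimage_pr1 f n U).le).op
      ((PrinPart.pr2 f n).app U (f.appLE V U hUV a)) =
      (PrinPart.pr1 f n).app U (f.appLE V U hUV a) := by
    have e2 : PrinPart.pr1 f n ⁻¹ᵁ U ≤ (PrinPart.pr2 f n ≫ f) ⁻¹ᵁ V := by
      rw [PrinPart.preimage_pr1]
      exact (PrinPart.pr2 f n).preimage_mono hUV
    have e1 : PrinPart.pr1 f n ⁻¹ᵁ U ≤ (PrinPart.pr1 f n ≫ f) ⁻¹ᵁ V :=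
      (PrinPart.pr1 f n).preimage_mono hUV
    have hL : (PrinPart.nbhd f n).presheaf.map (homOfLE (PrinPart.preimage_pr1 f n U).le).op
        ((PrinPart.pr2 f n).app U (f.appLE V U hUV a)) =
        (PrinPart.pr2 f n ≫ f).appLE V (PrinPart.pr1 f n ⁻¹ᵁ U) e2 a := by
      rw [← Scheme.Hom.appLE_comp_appLE _ _ V U (PrinPart.pr1 f n ⁻¹ᵁ U) hUV
        (PrinPart.preimage_pr1 f n U).le]
      rfl
    have hR : (PrinPart.pr1 f n).app U (f.appLE V U hUV a) =
        (PrinPart.pr1 f n ≫ f).appLE V (PrinPart.pr1 f n ⁻¹ᵁ U) e1 a := by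
      rw [← Scheme.Hom.appLE_comp_appLE _ _ V U (PrinPart.pr1 f n ⁻¹ᵁ U) hUV le_rfl,
        Scheme.Hom.appLE_eq_app]
      rfl
    rw [hL, hR]
    exact (appLE_congr_hom (PrinPart.pr1_comp f n) V _ e1 e2 a).symm
  rw [h2]
  rfl

end base

section chart
variable {X S : Scheme.{u}} (f : X ⟶ S) (n : ℕ) (F : X.Modules) [F.IsQuasicoherent]
variable {U : X.Opens} (hU : IsAffineOpen U) {V : S.Opens} (hV : IsAffineOpen V)
  (hUV : U ≤ f ⁻¹ᵁ V)

include hU hV hUV in
/-- over a chart, the sections of `P^n(F)` are generated over `Γ(X, U)` by the `d^n m`. -/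
theorem PMod_induction {p : Γ(PrinPart.PMod f n F, U) → Prop} (h0 : p 0)
    (hadd : ∀ x y, p x → p y → p (x + y))
    (hs : ∀ (b : Γ(X, U)) (m : Γ(F, U)), p (b • PrinPart.dP f n F U m))
    (x : Γ(PrinPart.PMod f n F, U)) : p x := by
  letI : Algebra Γ(S, V) Γ(X, U) := (f.appLE V U hUV).hom.toAlgebra
  letI mF : Module Γ(S, V) Γ(F, U) := Module.compHom Γ(F, U) (algebraMap Γ(S, V) Γ(X, U))
  haveI : IsScalarTower Γ(S, V) Γ(X, U) Γ(F, U) :=
    IsScalarTower.of_algebraMap_smul fun _ _ => rfl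
  obtain ⟨Φ, hΦ1, hΦ2⟩ := exists_addEquiv_PM f n F hU hV hUV rfl
  obtain ⟨t, rfl⟩ := Φ.surjective x
  refine PM_induction n (p := fun t => p (Φ t)) ?_ ?_ ?_ t
  · rw [map_zero]
    exact h0
  · intro x y hx hy
    rw [map_add]
    exact hadd _ _ hx hy
  · intro b m
    rw [hΦ1, hΦ2]
    exact hs b m

variable (n' : ℕ) (G H : X.Modules) [G.IsQuasicoherent]

include hU hV hUV in
/-- the chart-level composite: `d^{n+n'} m ↦ u'(d^{n'}(u(d^n m)))` extends to a `Γ(X, U)`-linear map. -/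
theorem exists_chart_comp (u : PrinPart.PMod f n F ⟶ G) (u' : PrinPart.PMod f n' G ⟶ H) :
    ∃ d : Γ(PrinPart.PMod f (n + n') F, U) →+ Γ(H, U),
      (∀ (b : Γ(X, U)) (x : Γ(PrinPart.PMod f (n + n') F, U)), d (b • x) = b • d x) ∧
      ∀ m : Γ(F, U), d (PrinPart.dP f (n + n') F U m) =
        u'.app U (PrinPart.dP f n' G U (u.app U (PrinPart.dP f n F U m))) := by
  letI : Algebra Γ(S, V) Γ(X, U) := (f.appLE V U hUV).hom.toAlgebra
  letI mF : Module Γ(S, V) Γ(F, U) := Module.compHom Γ(F, U) (algebraMap Γ(S, V) Γ(X, U))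
  letI mG : Module Γ(S, V) Γ(G, U) := Module.compHom Γ(G, U) (algebraMap Γ(S, V) Γ(X, U))
  letI mH : Module Γ(S, V) Γ(H, U) := Module.compHom Γ(H, U) (algebraMap Γ(S, V) Γ(X, U))
  haveI : IsScalarTower Γ(S, V) Γ(X, U) Γ(F, U) :=
    IsScalarTower.of_algebraMap_smul fun _ _ => rfl
  haveI : IsScalarTower Γ(S, V) Γ(X, U) Γ(G, U) :=
    IsScalarTower.of_algebraMap_smul fun _ _ => rfl
  haveI : IsScalarTower Γ(S, V) Γ(X, U) Γ(H, U) :=
    IsScalarTower.of_algebraMap_smul fun _ _ => rfl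
  obtain ⟨Φ, hΦ1, hΦ2⟩ := exists_addEquiv_PM f n F hU hV hUV rfl
  obtain ⟨Φ', hΦ'1, hΦ'2⟩ := exists_addEquiv_PM f n' G hU hV hUV rfl
  obtain ⟨Φ₀, hΦ₀1, hΦ₀2⟩ := exists_addEquiv_PM f (n + n') F hU hV hUV rfl
  let D₁ : Γ(F, U) →ₗ[Γ(S, V)] Γ(G, U) :=
    { toFun := fun m => u.app U (PrinPart.dP f n F U m)
      map_add' := fun x y => by rw [map_add, map_add]
      map_smul' := fun a m => by
        change u.app U (PrinPart.dP f n F U (f.appLE V U hUV a • m)) =
          f.appLE V U hUV a • u.app U (PrinPart.dP f n F U m)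
        rw [dP_smul_base, Scheme.Modules.Hom.app_smul] }
  let D₂ : Γ(G, U) →ₗ[Γ(S, V)] Γ(H, U) :=
    { toFun := fun m => u'.app U (PrinPart.dP f n' G U m)
      map_add' := fun x y => by rw [map_add, map_add]
      map_smul' := fun a m => by
        change u'.app U (PrinPart.dP f n' G U (f.appLE V U hUV a • m)) =
          f.appLE V U hUV a • u'.app U (PrinPart.dP f n' G U m)
        rw [dP_smul_base, Scheme.Modules.Hom.app_smul] }
  have hD₁ : IsDiffOpLE Γ(S, V) Γ(X, U) Γ(F, U) Γ(G, U) n D₁ := by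
    refine isDiffOpLE_of_exists n D₁ ((u.app U).hom.comp Φ.toAddMonoidHom) ?_ ?_
    · intro b t
      change u.app U (Φ (algebraMap Γ(X, U) (PP16.P n Γ(S, V) Γ(X, U)) b • t)) =
        b • u.app U (Φ t)
      rw [hΦ1, Scheme.Modules.Hom.app_smul]
    · intro m
      change u.app U (Φ (PP16.dM n Γ(S, V) Γ(X, U) Γ(F, U) m)) = _
      rw [hΦ2]
      rfl
  have hD₂ : IsDiffOpLE Γ(S, V) Γ(X, U) Γ(G, U) Γ(H, U) n' D₂ := by
    refine isDiffOpLE_of_exists n' D₂ ((u'.app U).hom.comp Φ'.toAddMonoidHom) ?_ ?_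
    · intro b t
      change u'.app U (Φ' (algebraMap Γ(X, U) (PP16.P n' Γ(S, V) Γ(X, U)) b • t)) =
        b • u'.app U (Φ' t)
      rw [hΦ'1, Scheme.Modules.Hom.app_smul]
    · intro m
      change u'.app U (Φ' (PP16.dM n' Γ(S, V) Γ(X, U) Γ(G, U) m)) = _
      rw [hΦ'2]
      rfl
  have hD := Groth.Agent.S2799.result Γ(S, V) Γ(X, U) Γ(F, U) Γ(G, U) Γ(H, U) n n' D₁ D₂ hD₁ hD₂
  refine ⟨(pmLift (n + n') (D₂ ∘ₗ D₁) hD).comp Φ₀.symm.toAddMonoidHom, ?_, ?_⟩
  · intro b x
    obtain ⟨t, rfl⟩ := Φ₀.surjective x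
    change pmLift (n + n') (D₂ ∘ₗ D₁) hD (Φ₀.symm (b • Φ₀ t)) =
      b • pmLift (n + n') (D₂ ∘ₗ D₁) hD (Φ₀.symm (Φ₀ t))
    rw [← hΦ₀1, Φ₀.symm_apply_apply, Φ₀.symm_apply_apply, pmLift_smul]
  · intro m
    change pmLift (n + n') (D₂ ∘ₗ D₁) hD (Φ₀.symm (PrinPart.dP f (n + n') F U m)) = _
    rw [← hΦ₀2, Φ₀.symm_apply_apply, pmLift_dM]
    rfl

end chart

section glue
variable {X S : Scheme.{u}} (f : X ⟶ S)

theorem app_map {M N : X.Modules} (φ : M ⟶ N) {U W : X.Opens} (h : W ≤ U) (x : Γ(M, U)) :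
    φ.app W (M.presheaf.map (homOfLE h).op x) = N.presheaf.map (homOfLE h).op (φ.app U x) :=
  CategoryTheory.congr_fun (φ.mapPresheaf.naturality (homOfLE h).op) x

/-- the charts of `f`: pairs of affine opens `U ⊆ f⁻¹ V`. -/
def Chart : Type u :=
  {p : X.Opens × S.Opens // IsAffineOpen p.1 ∧ IsAffineOpen p.2 ∧ p.1 ≤ f ⁻¹ᵁ p.2}

theorem isBasis_charts : Opens.IsBasis (Set.range (fun i : Chart f => i.1.1)) := by
  rw [Opens.isBasis_iff_nbhd]
  intro U₀ x hx
  obtain ⟨V, hV, U, hU, hle, hxU, hUU₀⟩ :=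
    Groth.Agent.Lib.Helper3.EtGUSch.exists_affine_nhds f x U₀ hx
  exact ⟨U, ⟨⟨(U, V), hU, hV, hle⟩, rfl⟩, hxU, hUU₀⟩

variable (n n' : ℕ) (F G H : X.Modules) [F.IsQuasicoherent] [G.IsQuasicoherent]

/-- **EGA IV 16.8.9 for quasi-coherent modules**, in factorised form. -/
theorem exists_comp (u : PrinPart.PMod f n F ⟶ G) (u' : PrinPart.PMod f n' G ⟶ H) :
    ∃ w : PrinPart.PMod f (n + n') F ⟶ H, ∀ (U : X.Opens) (m : Γ(F, U)),
      w.app U (PrinPart.dP f (n + n') F U m) =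
        u'.app U (PrinPart.dP f n' G U (u.app U (PrinPart.dP f n F U m))) := by
  classical
  let B : Chart f → X.Opens := fun i => i.1.1
  have hB : Opens.IsBasis (Set.range B) := isBasis_charts f
  choose d hd1 hd2 using fun i : Chart f =>
    exists_chart_comp f n F i.2.1 i.2.2.1 i.2.2.2 n' G H u u'
  have nat : ∀ (i i' : Chart f) (h : B i' ≤ B i),
      (PrinPart.PMod f (n + n') F).presheaf.map (homOfLE h).op ≫ AddCommGrpCat.ofHom (d i') =
        AddCommGrpCat.ofHom (d i) ≫ H.presheaf.map (homOfLE h).op := by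
    intro i i' h
    ext x
    change d i' ((PrinPart.PMod f (n + n') F).presheaf.map (homOfLE h).op x) =
      H.presheaf.map (homOfLE h).op (d i x)
    refine PMod_induction f (n + n') F i.2.1 i.2.2.1 i.2.2.2
      (p := fun x => d i' ((PrinPart.PMod f (n + n') F).presheaf.map (homOfLE h).op x) =
        H.presheaf.map (homOfLE h).op (d i x)) ?_ ?_ ?_ x
    · rw [map_zero, map_zero, map_zero, map_zero]
    · intro x y hx hy
      rw [map_add, map_add, hx, hy, map_add, map_add]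
    · intro b m
      rw [Scheme.Modules.map_smul, hd1, hd1, Scheme.Modules.map_smul, ← PrinPart.dP_map, hd2, hd2]
      congr 1
      rw [← app_map, ← PrinPart.dP_map, ← app_map, ← PrinPart.dP_map]
  let w : PrinPart.PMod f (n + n') F ⟶ H :=
    Groth.Agent.Helper13ModBasis.homOfBasis B hB (fun i => AddCommGrpCat.ofHom (d i)) nat
      (fun i a m => hd1 i a m)
  have hw : ∀ i : Chart f, w.app (B i) = AddCommGrpCat.ofHom (d i) :=
    Groth.Agent.Helper13ModBasis.homOfBasis_app B hB _ nat _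
  refine ⟨w, fun U m => ?_⟩
  refine Groth.Agent.Helper13ModBasis.section_ext_basis B hB H _ _ fun i hle => ?_
  rw [← app_map, ← PrinPart.dP_map, hw]
  change d i _ = _
  rw [hd2, ← app_map, ← PrinPart.dP_map, ← app_map, ← PrinPart.dP_map]

/-- **EGA IV 16.8.9 for quasi-coherent `F`, `G`**: the composite of differential operators of orders
`≤ n` and `≤ n'` has order `≤ n + n'`. -/
theorem isDiffOpLE_comp_of_qcoh (D : F.presheaf ⟶ G.presheaf) (D' : G.presheaf ⟶ H.presheaf)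
    (hD : PrinPart.IsDiffOpLE f F G n D) (hD' : PrinPart.IsDiffOpLE f G H n' D') :
    PrinPart.IsDiffOpLE f F H (n + n') (D ≫ D') := by
  obtain ⟨u, hu⟩ := hD
  obtain ⟨u', hu'⟩ := hD'
  obtain ⟨w, hw⟩ := exists_comp f n n' F G H u u'
  refine ⟨w, fun U t => ?_⟩
  rw [hw]
  change D'.app (op U) (D.app (op U) t) = _
  rw [hu, hu']

omit [G.IsQuasicoherent] in
/-- over charts, hence globally: maps out of `P^n(F)` (`F` quasi-coherent) are determined on the `d^n t`. -/
theorem hom_ext_of_dP_qcoh (a b : PrinPart.PMod f n F ⟶ G)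
    (h : ∀ (U : X.Opens) (t : Γ(F, U)),
      a.app U (PrinPart.dP f n F U t) = b.app U (PrinPart.dP f n F U t)) : a = b := by
  refine Groth.Agent.Helper13ModBasis.hom_ext_basis (fun i : Chart f => i.1.1) (isBasis_charts f)
    a b fun i => ?_
  ext x
  refine PMod_induction f n F i.2.1 i.2.2.1 i.2.2.2
    (p := fun x => a.app i.1.1 x = b.app i.1.1 x) ?_ ?_ ?_ x
  · rw [map_zero, map_zero]
  · intro x y hx hy
    rw [map_add, map_add, hx, hy]
  · intro r m
    rw [Scheme.Modules.Hom.app_smul, Scheme.Modules.Hom.app_smul, h]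

end glue

end Groth.Agent.R2.H36.PPComp
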