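import Mathlib
import Groth.Prelude.Def_OmegaPn
import Groth.Agent.Lib.Helper4PPSch

set_option autoImplicit false
universe u
open CategoryTheory AlgebraicGeometry TopologicalSpace Opposite

namespace Groth.Agent.R2.H36.PPZero

section general
variable {N X : Scheme.{u}}

theorem map_app_of_eq {q q' : N ⟶ X} (h : q = q') (U : X.Opens) (e : q ⁻¹ᵁ U ≤ q' ⁻¹ᵁ U)
    (a : Γ(X, U)) : N.presheaf.map (homOfLE e).op (q'.app U a) = q.app U a := by
  subst h
  have : (homOfLE e) = 𝟙 _ := Subsingleton.elim _ _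
  rw [this, op_id, N.presheaf.map_id]
  rfl

end general

section zero
variable {X S : Scheme.{u}} (f : X ⟶ S)

theorem pr1_zero_eq : PrinPart.pr1 f 0 = PrinPart.pr2 f 0 := by
  have := Groth.Agent.Lib.Helper4.PPSch.isIso_toNbhd_zero f
  rw [← cancel_epi (PrinPart.toNbhd f 0), PrinPart.toNbhd_pr1, PrinPart.toNbhd_pr2]

/-- `d^0 (a • t) = a • d^0 t`. -/
theorem dP_zero_smul (F : X.Modules) (U : X.Opens) (a : Γ(X, U)) (t : Γ(F, U)) :
    PrinPart.dP f 0 F U (a • t) = a • PrinPart.dP f 0 F U t := by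
  rw [PrinPart.dP_apply, PrinPart.dP_apply, OmegaSh.pullSect_smul]
  have h1 := Scheme.Modules.map_smul ((Scheme.Modules.pullback (PrinPart.pr2 f 0)).obj F)
    (homOfLE (PrinPart.preimage_pr1 f 0 U).le) ((PrinPart.pr2 f 0).app U a)
    (OmegaSh.pullSect (PrinPart.pr2 f 0) F U t)
  refine h1.trans ?_
  rw [map_app_of_eq (pr1_zero_eq f) U]
  rfl

end zero

section zero2
variable {X S : Scheme.{u}} (f : X ⟶ S)

/-- the augmentation `P^0(F) ⟶ F`, inverse to `d^0`. -/
noncomputable def eps (F : X.Modules) : PrinPart.PMod f 0 F ⟶ F :=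
  haveI := Groth.Agent.Lib.Helper4.PPSch.isIso_pr2_zero f
  haveI := Groth.Agent.Lib.Helper4.PPSch.isIso_unit_app (PrinPart.pr2 f 0) F
  (Scheme.Modules.pushforwardCongr (pr1_zero_eq f)).hom.app _ ≫
    inv ((Scheme.Modules.pullbackPushforwardAdjunction (PrinPart.pr2 f 0)).unit.app F)

theorem eps_dP (F : X.Modules) (U : X.Opens) (t : Γ(F, U)) :
    (eps f F).app U (PrinPart.dP f 0 F U t) = t := by
  have := Groth.Agent.Lib.Helper4.PPSch.isIso_pr2_zero f
  have := Groth.Agent.Lib.Helper4.PPSch.isIso_unit_app (PrinPart.pr2 f 0) F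
  have h1 : (eps f F).app U (PrinPart.dP f 0 F U t) =
      (inv ((Scheme.Modules.pullbackPushforwardAdjunction (PrinPart.pr2 f 0)).unit.app F)).app U
        (((Scheme.Modules.pullback (PrinPart.pr2 f 0)).obj F).presheaf.map
          (eqToHom (by rw [pr1_zero_eq f])).op
          (((Scheme.Modules.pullback (PrinPart.pr2 f 0)).obj F).presheaf.map
            (homOfLE (PrinPart.preimage_pr1 f 0 U).le).op
            (OmegaSh.pullSect (PrinPart.pr2 f 0) F U t))) := rfl
  rw [h1, OmegaSh.resM_resM]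
  have h2 : ((Scheme.Modules.pullback (PrinPart.pr2 f 0)).obj F).presheaf.map
      (eqToHom (by rw [pr1_zero_eq f] : PrinPart.pr2 f 0 ⁻¹ᵁ U = PrinPart.pr1 f 0 ⁻¹ᵁ U) ≫
        homOfLE (PrinPart.preimage_pr1 f 0 U).le).op
      (OmegaSh.pullSect (PrinPart.pr2 f 0) F U t) = OmegaSh.pullSect (PrinPart.pr2 f 0) F U t := by
    have : (eqToHom (by rw [pr1_zero_eq f] : PrinPart.pr2 f 0 ⁻¹ᵁ U = PrinPart.pr1 f 0 ⁻¹ᵁ U) ≫
        homOfLE (PrinPart.preimage_pr1 f 0 U).le) = 𝟙 _ := Subsingleton.elim _ _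
    rw [this, op_id, CategoryTheory.Functor.map_id]
    rfl
  rw [h2]
  have h3 : (Scheme.Modules.pullbackPushforwardAdjunction (PrinPart.pr2 f 0)).unit.app F ≫
      inv ((Scheme.Modules.pullbackPushforwardAdjunction (PrinPart.pr2 f 0)).unit.app F) = 𝟙 _ :=
    IsIso.hom_inv_id _
  have h4 := congrArg (fun φ => Scheme.Modules.Hom.app φ U) h3
  exact congr($h4 t)

/-- a linear morphism of the underlying presheaves of abelian groups is a morphism of modules. -/
noncomputable def ofLinear {F G : X.Modules} (D : F.presheaf ⟶ G.presheaf)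
    (hD : ∀ (U : X.Opens) (a : Γ(X, U)) (t : Γ(F, U)), D.app (op U) (a • t) = a • D.app (op U) t) :
    F ⟶ G :=
  ⟨PresheafOfModules.homMk D (fun U r m => hD U.unop r m)⟩

theorem ofLinear_app {F G : X.Modules} (D : F.presheaf ⟶ G.presheaf)
    (hD : ∀ (U : X.Opens) (a : Γ(X, U)) (t : Γ(F, U)), D.app (op U) (a • t) = a • D.app (op U) t)
    (U : X.Opens) (t : Γ(F, U)) : (ofLinear D hD).app U t = D.app (op U) t := rfl

theorem isDiffOpLE_zero_iff (F G : X.Modules) (D : F.presheaf ⟶ G.presheaf) :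
    PrinPart.IsDiffOpLE f F G 0 D ↔
      ∀ (U : X.Opens) (a : Γ(X, U)) (t : Γ(F, U)), D.app (op U) (a • t) = a • D.app (op U) t := by
  constructor
  · rintro ⟨w, hw⟩ U a t
    rw [hw, hw, dP_zero_smul]
    exact Scheme.Modules.Hom.app_smul w a _
  · intro hD
    refine ⟨eps f F ≫ ofLinear D hD, fun U t => ?_⟩
    rw [Scheme.Modules.Hom.comp_app, ConcreteCategory.comp_apply, eps_dP, ofLinear_app]

end zero2

end Groth.Agent.R2.H36.PPZero
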