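import Mathlib
import Groth.Prelude.Def_OmegaPn
import Groth.Agent.R2.H36PPAff2
import Groth.Agent.Lib.Helper3EtGUSchB
import Groth.Agent.Lib.Helper18Om1
import Groth.Agent.R2.H36PPZero

set_option autoImplicit false
set_option linter.style.haveILetI false
universe u
open CategoryTheory AlgebraicGeometry TopologicalSpace Opposite
open TensorProduct

namespace Groth.Agent.R2.H36.PPDer

open Groth.Agent.R2.H36.PPAff Groth.Agent.Helper13PullbackUnit

section vanish
variable {X S : Scheme.{u}} (f : X ⟶ S) (n : ℕ)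

/-- `p₂♯ a - p₁♯ a` as a function on `p₁⁻¹U`. -/
noncomputable def delta (U : X.Opens) (a : Γ(X, U)) :
    Γ(PrinPart.nbhd f n, PrinPart.pr1 f n ⁻¹ᵁ U) :=
  (PrinPart.pr2 f n).appLE U (PrinPart.pr1 f n ⁻¹ᵁ U) (PrinPart.preimage_pr1 f n U).le a -
    (PrinPart.pr1 f n).app U a

theorem delta_res {U U' : X.Opens} (h : U' ≤ U) (a : Γ(X, U)) :
    (PrinPart.nbhd f n).presheaf.map (homOfLE ((PrinPart.pr1 f n).preimage_mono h)).op
      (delta f n U a) = delta f n U' (X.presheaf.map (homOfLE h).op a) := by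
  rw [delta, delta, map_sub]
  congr 1
  · rw [← ConcreteCategory.comp_apply, ← ConcreteCategory.comp_apply,
      Scheme.Hom.appLE_map, Scheme.Hom.map_appLE]
  · rw [← ConcreteCategory.comp_apply, ← ConcreteCategory.comp_apply]
    have := (PrinPart.pr1 f n).naturality (homOfLE h).op
    exact congr($this.symm a)

variable {U : X.Opens} (hU : IsAffineOpen U) {V : S.Opens} (hV : IsAffineOpen V)
  (hUV : U ≤ f ⁻¹ᵁ V)

include hU hV hUV in
theorem prod_delta_affine (a : Fin (n + 1) → Γ(X, U)) : ∏ i, delta f n U (a i) = 0 := by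
  letI : Algebra Γ(S, V) Γ(X, U) := (f.appLE V U hUV).hom.toAlgebra
  have hAB : CommRingCat.ofHom (algebraMap Γ(S, V) Γ(X, U)) ≫ (Iso.refl Γ(X, U)).hom =
      (Iso.refl Γ(S, V)).hom ≫ f.appLE V U hUV := by
    ext x
    rfl
  have key : ∀ b : Γ(X, U), delta f n U b =
      theta f n hU hV hUV (Iso.refl _) (Iso.refl _) hAB
        ((1 : Γ(X, U)) ⊗ₜ[Γ(S, V)] b - b ⊗ₜ[Γ(S, V)] (1 : Γ(X, U))) := by
    intro b
    rw [map_sub, theta_tmul, theta_tmul]
    change _ = (PrinPart.pr1 f n).app U 1 * _ - _ * (PrinPart.pr2 f n).appLE U _ _ 1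
    rw [map_one, map_one, one_mul, mul_one]
    rfl
  simp_rw [key]
  rw [← map_prod]
  have hmem : ∏ i : Fin (n + 1), ((1 : Γ(X, U)) ⊗ₜ[Γ(S, V)] a i - a i ⊗ₜ[Γ(S, V)] (1 : Γ(X, U))) ∈
      KaehlerDifferential.ideal Γ(S, V) Γ(X, U) ^ (n + 1) := by
    have h1 := Ideal.prod_mem_prod (s := Finset.univ)
      (I := fun _ : Fin (n + 1) => KaehlerDifferential.ideal Γ(S, V) Γ(X, U))
      (x := fun i => (1 : Γ(X, U)) ⊗ₜ[Γ(S, V)] a i - a i ⊗ₜ[Γ(S, V)] (1 : Γ(X, U)))
      (fun i _ => KaehlerDifferential.one_smul_sub_smul_one_mem_ideal Γ(S, V) (a i))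
    rw [Finset.prod_const, Finset.card_univ, Fintype.card_fin] at h1
    exact h1
  rw [← ker_theta f n hU hV hUV (Iso.refl _) (Iso.refl _) hAB] at hmem
  exact hmem

omit hU hV hUV in
/-- the product of `n + 1` sections `p₂♯ a - p₁♯ a` vanishes on the `n`-th neighbourhood. -/
theorem prod_delta (U : X.Opens) (a : Fin (n + 1) → Γ(X, U)) : ∏ i, delta f n U (a i) = 0 := by
  choose V hV U' hU' hUV' hxU' hU'U using
    fun x : U => Groth.Agent.Lib.Helper3.EtGUSch.exists_affine_nhds f x.1 U x.2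
  refine TopCat.Sheaf.eq_of_locally_eq' (PrinPart.nbhd f n).sheaf
    (fun x : U => PrinPart.pr1 f n ⁻¹ᵁ U' x) (PrinPart.pr1 f n ⁻¹ᵁ U)
    (fun x => homOfLE ((PrinPart.pr1 f n).preimage_mono (hU'U x))) ?_ _ _ (fun x => ?_)
  · intro y hy
    exact TopologicalSpace.Opens.mem_iSup.mpr ⟨⟨PrinPart.pr1 f n y, hy⟩, hxU' _⟩
  · change (PrinPart.nbhd f n).presheaf.map _ _ = (PrinPart.nbhd f n).presheaf.map _ _
    rw [map_prod, map_zero]
    rw [Finset.prod_congr rfl (fun i _ => delta_res f n (hU'U x) (a i))]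
    exact prod_delta_affine f n (hU' x) (hV x) (hUV' x) _

end vanish

section identities
variable {X S : Scheme.{u}} (f : X ⟶ S) (n : ℕ)

theorem dn_eq_kappa (U : X.Opens) (b : Γ(X, U)) :
    PrinPart.dn f n U b = kappa (PrinPart.pr2 f n) (PrinPart.preimage_pr1 f n U).le
      ((PrinPart.pr2 f n).appLE U (PrinPart.pr1 f n ⁻¹ᵁ U) (PrinPart.preimage_pr1 f n U).le b) := by
  rw [kappa_appLE]
  rfl

/-- the Leibniz identity in `P^1`: `d¹(ab) - a d¹b - b d¹a + ab d¹1 = 0`. -/
theorem leibniz_dn (U : X.Opens) (a b : Γ(X, U)) :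
    PrinPart.dn f 1 U (a * b) - a • PrinPart.dn f 1 U b - b • PrinPart.dn f 1 U a +
      (a * b) • PrinPart.dn f 1 U 1 = 0 := by
  have h := prod_delta f 1 U ![a, b]
  rw [Fin.prod_univ_two] at h
  simp only [Matrix.cons_val_zero, Matrix.cons_val_one] at h
  have key : kappa (PrinPart.pr2 f 1) (PrinPart.preimage_pr1 f 1 U).le
        ((PrinPart.pr2 f 1).appLE U (PrinPart.pr1 f 1 ⁻¹ᵁ U) (PrinPart.preimage_pr1 f 1 U).le (a * b)) -
      kappa (PrinPart.pr2 f 1) (PrinPart.preimage_pr1 f 1 U).le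
        ((PrinPart.pr1 f 1).app U a *
          (PrinPart.pr2 f 1).appLE U (PrinPart.pr1 f 1 ⁻¹ᵁ U) (PrinPart.preimage_pr1 f 1 U).le b) -
      kappa (PrinPart.pr2 f 1) (PrinPart.preimage_pr1 f 1 U).le
        ((PrinPart.pr1 f 1).app U b *
          (PrinPart.pr2 f 1).appLE U (PrinPart.pr1 f 1 ⁻¹ᵁ U) (PrinPart.preimage_pr1 f 1 U).le a) +
      kappa (PrinPart.pr2 f 1) (PrinPart.preimage_pr1 f 1 U).le
        ((PrinPart.pr1 f 1).app U (a * b) *
          (PrinPart.pr2 f 1).appLE U (PrinPart.pr1 f 1 ⁻¹ᵁ U) (PrinPart.preimage_pr1 f 1 U).le 1) = 0 := by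
    rw [← map_sub, ← map_sub, ← map_add]
    refine Eq.trans ?_ ((congrArg (kappa (PrinPart.pr2 f 1) (PrinPart.preimage_pr1 f 1 U).le) h).trans
      (map_zero _))
    congr 1
    rw [delta, delta, map_mul, map_mul, map_one]
    ring
  rw [smul_dn_eq, smul_dn_eq, smul_dn_eq, dn_eq_kappa]
  exact key

/-- `d^n` of a function from the base: `d^n (f♯ c) = f♯ c • d^n 1`. -/
theorem dn_app (V : S.Opens) (c : Γ(S, V)) :
    PrinPart.dn f n (f ⁻¹ᵁ V) (f.app V c) = f.app V c • PrinPart.dn f n (f ⁻¹ᵁ V) 1 := by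
  rw [smul_dn_eq, dn_eq_kappa, map_one, mul_one]
  congr 1
  rw [Scheme.Hom.app_eq_appLE, ← ConcreteCategory.comp_apply, ← ConcreteCategory.comp_apply,
    Scheme.Hom.app_eq_appLE, Scheme.Hom.appLE_comp_appLE, Scheme.Hom.appLE_comp_appLE]
  exact congr($(OmegaSh.appLE_congr_hom (PrinPart.pr1_comp f n).symm _ _) c)

end identities

section orderOne
variable {X S : Scheme.{u}} (f : X ⟶ S) (G : X.Modules)
  (D : (Coh.structureModule X).presheaf ⟶ G.presheaf)

/-- `D(1)` over `U`. -/
noncomputable def g1 (U : X.Opens) : Γ(G, U) := D.app (op U) (OmegaSh.strSect X U 1)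

theorem g1_res {U V : X.Opens} (h : V ≤ U) :
    G.presheaf.map (homOfLE h).op (g1 G D U) = g1 G D V := by
  have h1 := congr($(D.naturality (homOfLE h).op) (OmegaSh.strSect X U 1))
  rw [ConcreteCategory.comp_apply, ConcreteCategory.comp_apply] at h1
  refine h1.symm.trans ?_
  rw [g1, ← OmegaSh.strSect_map, map_one]

/-- the linear part `s ↦ s • D(1)` as a map of presheaves of groups. -/
noncomputable def vP : (Coh.structureModule X).presheaf ⟶ G.presheaf where
  app U := AddCommGrpCat.ofHom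
    { toFun := fun s => (OmegaSh.fnSect X U.unop s) • g1 G D U.unop
      map_zero' := by
        change (0 : Γ(X, U.unop)) • g1 G D U.unop = 0
        exact zero_smul _ _
      map_add' := fun s t => by
        change (OmegaSh.fnSect X U.unop s + OmegaSh.fnSect X U.unop t) • g1 G D U.unop = _
        exact add_smul _ _ _ }
  naturality U V i := by
    ext s
    change (OmegaSh.fnSect X V.unop ((Coh.structureModule X).presheaf.map i s)) • g1 G D V.unop =
      G.presheaf.map i ((OmegaSh.fnSect X U.unop s) • g1 G D U.unop)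
    have h1 := Scheme.Modules.map_smul G i.unop (OmegaSh.fnSect X U.unop s) (g1 G D U.unop)
    refine Eq.trans ?_ h1.symm
    have h2 : G.presheaf.map i.unop.op (g1 G D U.unop) = g1 G D V.unop := g1_res G D i.unop.le
    rw [h2]
    rfl

theorem vP_app (U : X.Opens) (a : Γ(X, U)) :
    (vP G D).app (op U) (OmegaSh.strSect X U a) = a • g1 G D U := rfl

theorem vP_smul (U : X.Opens) (a : Γ(X, U)) (t : Γ(Coh.structureModule X, U)) :
    (vP G D).app (op U) (a • t) = a • (vP G D).app (op U) t := by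
  change (a * OmegaSh.fnSect X U t) • g1 G D U = a • ((OmegaSh.fnSect X U t) • g1 G D U)
  rw [mul_smul]

variable (u : PrinPart.PMod f 1 (Coh.structureModule X) ⟶ G)
  (hu : ∀ (U : X.Opens) (t : Γ(Coh.structureModule X, U)),
    D.app (op U) t = u.app U (PrinPart.dP f 1 (Coh.structureModule X) U t))

include hu in
theorem D_strSect (U : X.Opens) (a : Γ(X, U)) :
    D.app (op U) (OmegaSh.strSect X U a) = u.app U (PrinPart.dn f 1 U a) := hu U _

include hu in
theorem D_leibniz (U : X.Opens) (a b : Γ(X, U)) :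
    D.app (op U) (OmegaSh.strSect X U (a * b)) - a • D.app (op U) (OmegaSh.strSect X U b) -
      b • D.app (op U) (OmegaSh.strSect X U a) + (a * b) • g1 G D U = 0 := by
  have h := congrArg (fun y => u.app U y) (leibniz_dn f U a b)
  simp only [map_add, map_sub, map_zero] at h
  rw [Scheme.Modules.Hom.app_smul, Scheme.Modules.Hom.app_smul, Scheme.Modules.Hom.app_smul] at h
  rw [g1, D_strSect f G D u hu, D_strSect f G D u hu, D_strSect f G D u hu, D_strSect f G D u hu]
  exact h

include hu in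
theorem D_app (V : S.Opens) (c : Γ(S, V)) :
    D.app (op (f ⁻¹ᵁ V)) (OmegaSh.strSect X (f ⁻¹ᵁ V) (f.app V c)) =
      f.app V c • g1 G D (f ⁻¹ᵁ V) := by
  rw [g1, D_strSect f G D u hu, D_strSect f G D u hu, dn_app, Scheme.Modules.Hom.app_smul]

/-- the derivation part `a ↦ D(a) - a • D(1)`. -/
noncomputable def dD : OmegaSh.Der f G where
  d {W} := ((D.app W).hom.comp (OmegaSh.strSect X W.unop)) -
    ((vP G D).app W).hom.comp (OmegaSh.strSect X W.unop)
  d_mul {W} a' b' := by
    obtain ⟨W⟩ := W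
    let a : Γ(X, W) := a'
    let b : Γ(X, W) := b'
    change D.app (op W) (OmegaSh.strSect X W (a * b)) - (a * b) • g1 G D W =
      a • (D.app (op W) (OmegaSh.strSect X W b) - b • g1 G D W) +
        b • (D.app (op W) (OmegaSh.strSect X W a) - a • g1 G D W)
    have h := D_leibniz f G D u hu W a b
    have h2 : b • a • g1 G D W = (a * b) • g1 G D W := by
      rw [← mul_smul, mul_comm]
    rw [smul_sub, smul_sub, ← mul_smul, h2]
    have h3 := sub_eq_zero.mp (show D.app (op W) (OmegaSh.strSect X W (a * b)) -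
        (a • D.app (op W) (OmegaSh.strSect X W b) + b • D.app (op W) (OmegaSh.strSect X W a) -
          (a * b) • g1 G D W) = 0 by rw [← h]; abel)
    rw [h3]
    abel
  d_map {W W'} i a := by
    change D.app W' (OmegaSh.strSect X W'.unop (X.presheaf.map i a)) -
        (vP G D).app W' (OmegaSh.strSect X W'.unop (X.presheaf.map i a)) =
      G.presheaf.map i (D.app W (OmegaSh.strSect X W.unop a) -
        (vP G D).app W (OmegaSh.strSect X W.unop a))
    rw [map_sub]
    have h1 := congr($(D.naturality i) (OmegaSh.strSect X W.unop a))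
    have h2 := congr($((vP G D).naturality i) (OmegaSh.strSect X W.unop a))
    rw [ConcreteCategory.comp_apply, ConcreteCategory.comp_apply] at h1 h2
    rw [← h1, ← h2]
    rfl
  d_app {V} c := by
    change D.app (op (f ⁻¹ᵁ V.unop)) (OmegaSh.strSect X (f ⁻¹ᵁ V.unop) (f.app V.unop c)) -
      (f.app V.unop c) • g1 G D (f ⁻¹ᵁ V.unop) = 0
    rw [D_app f G D u hu, sub_self]

theorem dD_app (U : X.Opens) (a : Γ(X, U)) :
    (dD f G D u hu).app U a = D.app (op U) (OmegaSh.strSect X U a) - a • g1 G D U := rfl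

include hu in
/-- a differential operator `O_X → G` of order at most one is uniquely `v + d`, `v` linear and `d` an
`S`-derivation. -/
theorem existsUnique_linear_add_der :
    ∃! p : (Coh.structureModule X ⟶ G) × OmegaSh.Der f G,
      ∀ (U : X.Opens) (a : Γ(X, U)),
        D.app (op U) (OmegaSh.strSect X U a) = p.1.app U (OmegaSh.strSect X U a) + p.2.app U a := by
  refine ⟨⟨Groth.Agent.R2.H36.PPZero.ofLinear (vP G D) (vP_smul G D), dD f G D u hu⟩, ?_, ?_⟩
  · intro U a
    change _ = a • g1 G D U + (D.app (op U) (OmegaSh.strSect X U a) - a • g1 G D U)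
    abel
  · rintro ⟨v', d'⟩ h'
    have hone : ∀ U : X.Opens, v'.app U (OmegaSh.strSect X U 1) = g1 G D U := by
      intro U
      have h1 := h' U 1
      have h2 : d'.app U 1 = 0 := d'.d_one (op U)
      rw [h2, add_zero] at h1
      exact h1.symm
    have hv : ∀ (U : X.Opens) (a : Γ(X, U)),
        v'.app U (OmegaSh.strSect X U a) = a • g1 G D U := by
      intro U a
      have : OmegaSh.strSect X U a = a • OmegaSh.strSect X U 1 := by
        rw [← OmegaSh.strSect_mul, mul_one]
      rw [this, Scheme.Modules.Hom.app_smul, hone]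
    have e1 : v' = Groth.Agent.R2.H36.PPZero.ofLinear (vP G D) (vP_smul G D) := by
      apply Scheme.Modules.hom_ext
      intro U
      ext a
      exact hv U a
    have e2 : d' = dD f G D u hu := by
      apply Groth.Agent.Helper18Om.der_ext
      intro U a
      have h1 := h' U a
      rw [dD_app, h1]
      change _ = v'.app U (OmegaSh.strSect X U a) + d'.app U a - a • g1 G D U
      rw [hv U a]
      abel
    rw [e1, e2]

end orderOne

end Groth.Agent.R2.H36.PPDer
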