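import Mathlib
import Groth.Prelude.Def_OmegaPn
import Groth.Agent.R2.H36PPAff2
import Groth.Agent.Lib.Helper18OmLS13
import Groth.Agent.Lib.Helper2PullbackSec
import Groth.Agent.S5959

set_option autoImplicit false
set_option linter.style.haveILetI false
universe u
open CategoryTheory AlgebraicGeometry TopologicalSpace Opposite
open TensorProduct

namespace Groth.Agent.R2.H36.PPEpi

open Groth.Agent.R2.H36.PPAff

section span
variable {X S : Scheme.{u}} (f : X ⟶ S) (n : ℕ)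
variable {U : X.Opens} (hU : IsAffineOpen U) {V : S.Opens} (hV : IsAffineOpen V)
  (hUV : U ≤ f ⁻¹ᵁ V)

include hU hV hUV in
/-- over an affine open `U` lying over an affine open of `S`, the sections of `P^n_{X/S}` are
generated as a `Γ(X, U)`-module by the `d^n b`. -/
theorem span_dn_eq_top :
    Submodule.span Γ(X, U) (Set.range (PrinPart.dn f n U)) = ⊤ := by
  letI : Algebra Γ(S, V) Γ(X, U) := (f.appLE V U hUV).hom.toAlgebra
  have hAB : CommRingCat.ofHom (algebraMap Γ(S, V) Γ(X, U)) ≫ (Iso.refl Γ(X, U)).hom =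
      (Iso.refl Γ(S, V)).hom ≫ f.appLE V U hUV := by
    ext x
    rfl
  have hNU := isAffineOpen_pr1_preimage f n hU hV hUV
  have hκ := kappa_bijective (PrinPart.pr2 f n) (PrinPart.preimage_pr1 f n U).le hU hNU
  rw [eq_top_iff]
  rintro y -
  obtain ⟨σ, rfl⟩ := hκ.2 y
  obtain ⟨x, rfl⟩ := theta_surjective f n hU hV hUV (Iso.refl _) (Iso.refl _) hAB σ
  induction x using TensorProduct.induction_on with
  | zero =>
    rw [map_zero, map_zero]
    exact Submodule.zero_mem _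
  | tmul b b' =>
    rw [theta_tmul, ← smul_dn_eq]
    exact Submodule.smul_mem _ _ (Submodule.subset_span ⟨_, rfl⟩)
  | add x y hx hy =>
    rw [map_add, map_add]
    exact Submodule.add_mem _ hx hy

end span

section epi
variable {X S X' S' : Scheme.{u}} (f : X ⟶ S) (f' : X' ⟶ S') (u : X' ⟶ X) (n : ℕ)
  (φ : (Scheme.Modules.pullback u).obj (PrinPart.P f n) ⟶ PrinPart.P f' n)
  (hφ : PrinPart.IsPMap f f' u n φ)

include hφ in
theorem app_surjective_of_isPMap {U : X.Opens} {V' : S'.Opens} (hU' : IsAffineOpen (u ⁻¹ᵁ U))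
    (hV' : IsAffineOpen V') (hUV' : u ⁻¹ᵁ U ≤ f' ⁻¹ᵁ V') (hs : Function.Surjective (u.app U)) :
    Function.Surjective (φ.app (u ⁻¹ᵁ U)) := by
  intro y
  have hy : y ∈ Submodule.span Γ(X', u ⁻¹ᵁ U) (Set.range (PrinPart.dn f' n (u ⁻¹ᵁ U))) := by
    rw [span_dn_eq_top f' n hU' hV' hUV']
    trivial
  refine Submodule.span_induction (p := fun y _ => ∃ x, φ.app (u ⁻¹ᵁ U) x = y) ?_ ?_ ?_ ?_ hy
  · rintro _ ⟨c, rfl⟩
    obtain ⟨b, rfl⟩ := hs c
    exact ⟨_, hφ U b⟩
  · exact ⟨0, map_zero _⟩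
  · rintro a b _ _ ⟨x, rfl⟩ ⟨y, rfl⟩
    exact ⟨x + y, map_add _ _ _⟩
  · rintro r a _ ⟨x, rfl⟩
    exact ⟨r • x, Scheme.Modules.Hom.app_smul _ _ _⟩

include hφ in
theorem epi_of_isPMap
    (hcov : ∀ x : X', ∃ (U : X.Opens) (V' : S'.Opens), x ∈ u ⁻¹ᵁ U ∧ IsAffineOpen (u ⁻¹ᵁ U) ∧
      IsAffineOpen V' ∧ u ⁻¹ᵁ U ≤ f' ⁻¹ᵁ V' ∧ Function.Surjective (u.app U)) : Epi φ := by
  haveI : (PrinPart.P f n).IsQuasicoherent :=
    Groth.Agent.S5959.result f n _ (inferInstanceAs (Coh.structureModule X).IsQuasicoherent)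
  haveI : (PrinPart.P f' n).IsQuasicoherent :=
    Groth.Agent.S5959.result f' n _ (inferInstanceAs (Coh.structureModule X').IsQuasicoherent)
  haveI : ((Scheme.Modules.pullback u).obj (PrinPart.P f n)).IsQuasicoherent :=
    Groth.Agent.Lib.Helper2.PullbackSec.isQuasicoherent_pullback _ _
  choose U V' hx hU' hV' hUV' hs using hcov
  refine Groth.Agent.Helper18OmLS.epi_of_surjective_app_cover φ (fun x => u ⁻¹ᵁ U x) ?_ hU'
    (fun x => app_surjective_of_isPMap f f' u n φ hφ (hU' x) (hV' x) (hUV' x) (hs x))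
  rw [TopologicalSpace.IsOpenCover, eq_top_iff]
  intro x _
  exact TopologicalSpace.Opens.mem_iSup.mpr ⟨x, hx x⟩

end epi

end Groth.Agent.R2.H36.PPEpi
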