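import Mathlib
import Groth.Prelude.Def_OmegaPn

/-!
# Helper for S5969 (helper77): the symmetry of the infinitesimal neighbourhoods of the diagonal.
-/

set_option autoImplicit false
set_option linter.unusedSectionVars false
set_option linter.unusedVariables false
set_option linter.style.haveILetI false

open CategoryTheory CategoryTheory.Limits AlgebraicGeometry TopologicalSpace Opposite

namespace Groth.Agent.R2.H77.NbhdSymm

universe u

section General

variable {X P : Scheme.{u}} (Δ : X ⟶ P) [IsImmersion Δ] (τ : P ⟶ P)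
  (hτ : τ ≫ τ = 𝟙 P) (hΔ : Δ ≫ τ = Δ)

include hτ hΔ in
theorem preimage_range : τ.base ⁻¹' Set.range Δ.base = Set.range Δ.base := by
  ext x
  constructor
  · rintro ⟨y, hy⟩
    refine ⟨y, ?_⟩
    have h1 : τ.base (τ.base x) = x := by
      rw [← Scheme.Hom.comp_apply, hτ]; rfl
    have h2 : τ.base (Δ.base y) = Δ.base y := by
      rw [← Scheme.Hom.comp_apply, hΔ]
    rw [← h1, ← hy, h2]
  · rintro ⟨y, rfl⟩
    refine ⟨y, ?_⟩
    have h2 : τ.base (Δ.base y) = Δ.base y := by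
      rw [← Scheme.Hom.comp_apply, hΔ]
    exact h2.symm

include hτ in
theorem isIso_of_invol : IsIso τ := ⟨τ, hτ, hτ⟩

include hτ hΔ in
theorem preimage_coborderRange : τ ⁻¹ᵁ Δ.coborderRange = Δ.coborderRange := by
  haveI := isIso_of_invol τ hτ
  ext1
  change τ.base ⁻¹' coborder (Set.range Δ.base) = coborder (Set.range Δ.base)
  rw [← coborder_preimage τ.isOpenEmbedding.isOpenMap τ.continuous, preimage_range Δ τ hτ hΔ]

/-- The restriction of `τ` to the coborder open of `Δ`. -/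
noncomputable def τU : (Δ.coborderRange : Scheme.{u}) ⟶ (Δ.coborderRange : Scheme.{u}) :=
  τ.resLE Δ.coborderRange Δ.coborderRange (le_of_eq (preimage_coborderRange Δ τ hτ hΔ).symm)

theorem τU_ι : τU Δ τ hτ hΔ ≫ Δ.coborderRange.ι = Δ.coborderRange.ι ≫ τ :=
  Scheme.Hom.resLE_comp_ι _ _

theorem lift_τU : Δ.liftCoborder ≫ τU Δ τ hτ hΔ = Δ.liftCoborder := by
  rw [← cancel_mono Δ.coborderRange.ι, Category.assoc, τU_ι, Scheme.Hom.liftCoborder_ι_assoc, hΔ,
    Scheme.Hom.liftCoborder_ι]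

theorem τU_invol : τU Δ τ hτ hΔ ≫ τU Δ τ hτ hΔ = 𝟙 _ := by
  rw [← cancel_mono Δ.coborderRange.ι, Category.assoc, τU_ι, ← Category.assoc, τU_ι, Category.assoc,
    hτ, Category.comp_id, Category.id_comp]

theorem pow_le_map (n : ℕ) :
    Δ.liftCoborder.ker ^ n ≤ (Δ.liftCoborder.ker ^ n).map (τU Δ τ hτ hΔ) := by
  haveI : IsIso (τU Δ τ hτ hΔ) := isIso_of_invol _ (τU_invol Δ τ hτ hΔ)
  have hI : Δ.liftCoborder.ker.map (τU Δ τ hτ hΔ) = Δ.liftCoborder.ker := by
    rw [Scheme.IdealSheafData.map_ker, lift_τU]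
  intro V
  rw [Scheme.IdealSheafData.ideal_map_of_isAffineHom, Scheme.IdealSheafData.ideal_pow,
    Pi.pow_apply, Pi.pow_apply]
  have h2 := congrArg (fun J : Scheme.IdealSheafData _ => J.ideal V) hI
  simp only [Scheme.IdealSheafData.ideal_map_of_isAffineHom] at h2
  rw [← h2]
  exact Ideal.le_comap_pow _ _

end General

section Diagonal

variable {X S : Scheme.{u}} (f : X ⟶ S)

theorem symm_invol : (pullbackSymmetry f f).hom ≫ (pullbackSymmetry f f).hom = 𝟙 _ := by
  apply pullback.hom_ext <;> simp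

theorem diag_symm : pullback.diagonal f ≫ (pullbackSymmetry f f).hom = pullback.diagonal f := by
  apply pullback.hom_ext <;> simp

theorem exists_symmetry (n : ℕ) :
    ∃ σ : PrinPart.nbhd f n ⟶ PrinPart.nbhd f n,
      σ ≫ PrinPart.nbhdι f n = PrinPart.nbhdι f n ≫ (pullbackSymmetry f f).hom ∧
      σ ≫ σ = 𝟙 (PrinPart.nbhd f n) ∧
      σ ≫ PrinPart.pr1 f n = PrinPart.pr2 f n ∧ σ ≫ PrinPart.pr2 f n = PrinPart.pr1 f n ∧
      PrinPart.toNbhd f n ≫ σ = PrinPart.toNbhd f n := by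
  set τ := (pullbackSymmetry f f).hom with hτdef
  have hτ : τ ≫ τ = 𝟙 _ := symm_invol f
  have hΔ : pullback.diagonal f ≫ τ = pullback.diagonal f := diag_symm f
  let σ : PrinPart.nbhd f n ⟶ PrinPart.nbhd f n :=
    Scheme.IdealSheafData.subschemeMap _ _ (τU (pullback.diagonal f) τ hτ hΔ)
      (pow_le_map (pullback.diagonal f) τ hτ hΔ (n + 1))
  have hσ : σ ≫ PrinPart.nbhdι f n = PrinPart.nbhdι f n ≫ τ := by
    simp only [PrinPart.nbhdι, PrinPart.infNbhdι, σ, Category.assoc]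
    rw [Scheme.IdealSheafData.subschemeMap_subschemeι_assoc, τU_ι]
  haveI : Mono (PrinPart.nbhdι f n) := by
    unfold PrinPart.nbhdι PrinPart.infNbhdι
    infer_instance
  refine ⟨σ, hσ, ?_, ?_, ?_, ?_⟩
  · rw [← cancel_mono (PrinPart.nbhdι f n), Category.assoc, hσ, ← Category.assoc, hσ,
      Category.assoc, hτ, Category.comp_id, Category.id_comp]
  · rw [PrinPart.pr1, ← Category.assoc, hσ, Category.assoc, PrinPart.pr2, hτdef,
      pullbackSymmetry_hom_comp_fst]
  · rw [PrinPart.pr2, ← Category.assoc, hσ, Category.assoc, PrinPart.pr1, hτdef,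
      pullbackSymmetry_hom_comp_snd]
  · rw [← cancel_mono (PrinPart.nbhdι f n), Category.assoc, hσ, PrinPart.toNbhd_ι_assoc, hΔ,
      PrinPart.toNbhd_ι]

end Diagonal

end Groth.Agent.R2.H77.NbhdSymm
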