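import Mathlib
import Groth.Prelude.Def_OmegaPn
import Groth.Prelude.Def_FlatMod2
import Groth.Agent.R2.H36PPAff2
import Groth.Agent.R2.H77NbhdSymm
import Groth.Agent.Lib.Helper26FpqcMod
import Groth.Agent.Lib.Helper21FlatCalc
import Groth.Agent.Lib.Helper2LocFree
import Groth.Agent.Lib.Helper2FlatOver2
import Groth.Agent.Lib.Helper26ModLim2
import Groth.Agent.S5959

set_option autoImplicit false
set_option linter.style.haveILetI false
universe u
open CategoryTheory CategoryTheory.Limits AlgebraicGeometry TopologicalSpace Opposite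

namespace Groth.Agent.R2.H36.PPFlat

open Groth.Agent.R2.H36.PPAff Groth.Agent.Helper13PullbackUnit

section exactPullback
variable {X Y : Scheme.{u}} (h : X ⟶ Y) [Flat h]

/-- pullback of modules along a flat morphism is exact. -/
theorem preservesFiniteLimits_pullback_of_flat :
    PreservesFiniteLimits (Scheme.Modules.pullback h) := by
  haveI : (Scheme.Modules.pullback h).Additive :=
    (Scheme.Modules.pullbackPushforwardAdjunction h).left_adjoint_additive
  haveI : PreservesFiniteColimits (Scheme.Modules.pullback h) :=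
    ⟨fun _ _ _ => (Scheme.Modules.pullbackPushforwardAdjunction h).leftAdjoint_preservesColimits.1⟩
  rw [Functor.preservesFiniteLimits_iff_forall_exact_map_and_mono]
  intro S hS
  haveI := hS.mono_f
  exact ⟨(Groth.Agent.Lib.Helper21.FlatCalc.exact_and_epi_of_rightExact _ S hS).1,
    Groth.Agent.Lib.Helper26.FpqcMod.mono_pullback_of_flat h S.f⟩

end exactPullback

section flatPr
variable {X S : Scheme.{u}} (f : X ⟶ S) (n : ℕ) (hP : FlatMod.IsFlat (PrinPart.P f n))
variable {U : X.Opens} (hU : IsAffineOpen U) {V : S.Opens} (hV : IsAffineOpen V)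
  (hUV : U ≤ f ⁻¹ᵁ V)

include hP hU hV hUV in
theorem flat_pr1_app : ((PrinPart.pr1 f n).app U).hom.Flat := by
  haveI : (PrinPart.P f n).IsQuasicoherent :=
    Groth.Agent.S5959.result f n _ (inferInstanceAs (Coh.structureModule X).IsQuasicoherent)
  haveI h1 : Module.Flat Γ(X, U) Γ(PrinPart.P f n, U) :=
    Groth.Agent.Lib.Helper2.LocFree.flat_sections_of_isFlatAt _ hU (fun x _ => hP x)
  have hNU := isAffineOpen_pr1_preimage f n hU hV hUV
  have hκ := kappa_bijective (PrinPart.pr2 f n) (PrinPart.preimage_pr1 f n U).le hU hNU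
  letI : Algebra Γ(X, U) Γ(PrinPart.nbhd f n, PrinPart.pr1 f n ⁻¹ᵁ U) :=
    ((PrinPart.pr1 f n).app U).hom.toAlgebra
  let k0 : Γ(PrinPart.nbhd f n, PrinPart.pr1 f n ⁻¹ᵁ U) →ₗ[Γ(X, U)] Γ(PrinPart.P f n, U) :=
    { toFun := fun σ => kappa (PrinPart.pr2 f n) (PrinPart.preimage_pr1 f n U).le σ
      map_add' := fun x y => by
        rw [map_add]
        rfl
      map_smul' := fun b x => by
        rw [RingHom.id_apply, Algebra.smul_def, ← smul_eq_mul, map_smul]
        rfl }
  have hk0 : Function.Bijective k0 := hκ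
  exact Module.Flat.of_linearEquiv (LinearEquiv.ofBijective k0 hk0)

end flatPr

section flatPr2
variable {X S : Scheme.{u}} (f : X ⟶ S) (n : ℕ) (hP : FlatMod.IsFlat (PrinPart.P f n))

include hP in
theorem flat_pr1 : Flat (PrinPart.pr1 f n) := by
  have hQ : RingHom.StableUnderCompositionWithLocalizationAwaySource RingHom.Flat :=
    (RingHom.Flat.stableUnderComposition.stableUnderCompositionWithLocalizationAway
      RingHom.Flat.holdsForLocalizationAway).left
  rw [HasRingHomProperty.iff_exists_appLE (P := @Flat) hQ]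
  intro y
  obtain ⟨U, V, hU, hV, hxU, hUV⟩ :=
    Groth.Agent.Lib.Helper2.FlatOver.exists_affine_nhds f (PrinPart.pr1 f n y)
  refine ⟨⟨U, hU⟩, ⟨PrinPart.pr1 f n ⁻¹ᵁ U, isAffineOpen_pr1_preimage f n hU hV hUV⟩, hxU,
    le_rfl, ?_⟩
  have h := flat_pr1_app f n hP hU hV hUV
  rw [Scheme.Hom.app_eq_appLE] at h
  exact h

include hP in
theorem flat_pr2 : Flat (PrinPart.pr2 f n) := by
  obtain ⟨σ, -, hσσ, hσ1, -, -⟩ := Groth.Agent.R2.H77.NbhdSymm.exists_symmetry f n
  haveI : IsIso σ := ⟨σ, hσσ, hσσ⟩
  haveI := flat_pr1 f n hP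
  rw [← hσ1]
  infer_instance

include hP in
/-- if `P^n_{X/S}` is flat (left structure), `F ↦ P^n_{X/S}(F)` is exact. -/
theorem preservesFiniteLimits_PMod :
    PreservesFiniteLimits
      ((Scheme.Modules.pullback (PrinPart.pr2 f n)) ⋙
        (Scheme.Modules.pushforward (PrinPart.pr1 f n))) := by
  haveI := flat_pr2 f n hP
  haveI : PreservesFiniteLimits (Scheme.Modules.pullback (PrinPart.pr2 f n)) :=
    preservesFiniteLimits_pullback_of_flat _
  haveI : PreservesFiniteLimits (Scheme.Modules.pushforward (PrinPart.pr1 f n)) := by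
    haveI := (Scheme.Modules.pullbackPushforwardAdjunction
      (PrinPart.pr1 f n)).rightAdjoint_preservesLimits
    infer_instance
  exact comp_preservesFiniteLimits _ _

end flatPr2

end Groth.Agent.R2.H36.PPFlat
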