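import Mathlib
import Groth.Prelude.Def_OmegaPn

set_option autoImplicit false
universe u
open CategoryTheory AlgebraicGeometry TopologicalSpace Opposite

namespace Groth.Agent.R2.H36.PPOrder

open Scheme.Modules

section general
variable {N M X : Scheme.{u}} (t : N ⟶ M) (a b : M ⟶ X) (a' b' : N ⟶ X)
  (ha : a' = t ≫ a) (hb : b' = t ≫ b) (F : X.Modules)

/-- the transition map `b^* F ⟶ t_* b'^* F` for `b' = t ≫ b`. -/
noncomputable def eta : (Scheme.Modules.pullback b).obj F ⟶ (pushforward t).obj ((Scheme.Modules.pullback b').obj F) :=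
  ((pullbackPushforwardAdjunction b).homEquiv F _).symm
    ((pullbackPushforwardAdjunction b').unit.app F ≫
      (pushforwardCongr hb).hom.app _ ≫ (pushforwardComp t b).inv.app _)

theorem unit_eta :
    (pullbackPushforwardAdjunction b).unit.app F ≫ (pushforward b).map (eta t b b' hb F) =
      (pullbackPushforwardAdjunction b').unit.app F ≫
        (pushforwardCongr hb).hom.app _ ≫ (pushforwardComp t b).inv.app _ := by
  have := ((pullbackPushforwardAdjunction b).homEquiv F
    ((pushforward t).obj ((Scheme.Modules.pullback b').obj F))).apply_symm_apply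
    ((pullbackPushforwardAdjunction b').unit.app F ≫
      (pushforwardCongr hb).hom.app _ ≫ (pushforwardComp t b).inv.app _)
  rw [Adjunction.homEquiv_unit] at this
  exact this

/-- the transition map `a_* b^* F ⟶ a'_* b'^* F`. -/
noncomputable def rho : (pushforward a).obj ((Scheme.Modules.pullback b).obj F) ⟶
    (pushforward a').obj ((Scheme.Modules.pullback b').obj F) :=
  (pushforward a).map (eta t b b' hb F) ≫ (pushforwardComp t a).hom.app _ ≫
    (pushforwardCongr ha.symm).hom.app _

theorem eta_app_pullSect (U : X.Opens) (s : Γ(F, U)) :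
    (eta t b b' hb F).app (b ⁻¹ᵁ U) (OmegaSh.pullSect b F U s) =
      ((Scheme.Modules.pullback b').obj F).presheaf.map (eqToHom (by rw [hb]; rfl)).op
        (OmegaSh.pullSect b' F U s) := by
  have h := unit_eta t b b' hb F
  have h2 := congrArg (fun φ => Scheme.Modules.Hom.app φ U) h
  have h3 := congr($h2 s)
  exact h3

end general

section general2
variable {N M X : Scheme.{u}} (t : N ⟶ M) (a b : M ⟶ X) (a' b' : N ⟶ X)
  (ha : a' = t ≫ a) (hb : b' = t ≫ b) (F : X.Modules)

theorem rho_app_res (U : X.Opens) (e : a ⁻¹ᵁ U ≤ b ⁻¹ᵁ U) (e' : a' ⁻¹ᵁ U ≤ b' ⁻¹ᵁ U) (s : Γ(F, U)) :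
    (rho t a b a' b' ha hb F).app U
      (((Scheme.Modules.pullback b).obj F).presheaf.map (homOfLE e).op (OmegaSh.pullSect b F U s)) =
    ((Scheme.Modules.pullback b').obj F).presheaf.map (homOfLE e').op (OmegaSh.pullSect b' F U s) := by
  have hnat := congr($((eta t b b' hb F).mapPresheaf.naturality (homOfLE e).op)
    (OmegaSh.pullSect b F U s))
  have h1 : (rho t a b a' b' ha hb F).app U
      (((Scheme.Modules.pullback b).obj F).presheaf.map (homOfLE e).op (OmegaSh.pullSect b F U s)) =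
      ((Scheme.Modules.pullback b').obj F).presheaf.map (eqToHom (by rw [ha]; rfl)).op
        ((eta t b b' hb F).app (a ⁻¹ᵁ U)
          (((Scheme.Modules.pullback b).obj F).presheaf.map (homOfLE e).op
            (OmegaSh.pullSect b F U s))) := rfl
  rw [h1]
  have h2 : (eta t b b' hb F).app (a ⁻¹ᵁ U)
      (((Scheme.Modules.pullback b).obj F).presheaf.map (homOfLE e).op (OmegaSh.pullSect b F U s)) =
      ((Scheme.Modules.pullback b').obj F).presheaf.map (homOfLE (t.preimage_mono e)).op
        ((eta t b b' hb F).app (b ⁻¹ᵁ U) (OmegaSh.pullSect b F U s)) := hnat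
  rw [h2, eta_app_pullSect, OmegaSh.resM_resM, OmegaSh.resM_resM]
  rfl

end general2

section order
variable {X S : Scheme.{u}} (f : X ⟶ S)

theorem pr1_eq {n m : ℕ} (h : n ≤ m) :
    PrinPart.pr1 f n = PrinPart.infNbhdMap (PrinPart.diagCl f) h ≫ PrinPart.pr1 f m := by
  unfold PrinPart.pr1 PrinPart.nbhdι
  rw [← Category.assoc, ← Category.assoc, PrinPart.infNbhdMap_ι]

theorem pr2_eq {n m : ℕ} (h : n ≤ m) :
    PrinPart.pr2 f n = PrinPart.infNbhdMap (PrinPart.diagCl f) h ≫ PrinPart.pr2 f m := by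
  unfold PrinPart.pr2 PrinPart.nbhdι
  rw [← Category.assoc, ← Category.assoc, PrinPart.infNbhdMap_ι]

/-- the transition map `P^m(F) ⟶ P^n(F)` for `n ≤ m`. -/
noncomputable def trans {n m : ℕ} (h : n ≤ m) (F : X.Modules) :
    PrinPart.PMod f m F ⟶ PrinPart.PMod f n F :=
  rho (PrinPart.infNbhdMap (PrinPart.diagCl f) h) (PrinPart.pr1 f m) (PrinPart.pr2 f m)
    (PrinPart.pr1 f n) (PrinPart.pr2 f n) (pr1_eq f h) (pr2_eq f h) F

theorem trans_dP {n m : ℕ} (h : n ≤ m) (F : X.Modules) (U : X.Opens) (t : Γ(F, U)) :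
    (trans f h F).app U (PrinPart.dP f m F U t) = PrinPart.dP f n F U t := by
  rw [PrinPart.dP_apply, PrinPart.dP_apply]
  exact rho_app_res _ _ _ _ _ (pr1_eq f h) (pr2_eq f h) F U _ _ t

theorem isDiffOpLE_of_le (F G : X.Modules) {n m : ℕ} (h : n ≤ m)
    (D : F.presheaf ⟶ G.presheaf) (hD : PrinPart.IsDiffOpLE f F G n D) :
    PrinPart.IsDiffOpLE f F G m D := by
  obtain ⟨w, hw⟩ := hD
  refine ⟨trans f h F ≫ w, ?_⟩
  intro U t
  rw [hw U t, Scheme.Modules.Hom.comp_app, ConcreteCategory.comp_apply]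
  exact congrArg (fun x => w.app U x) (trans_dP f h F U t).symm

end order

end Groth.Agent.R2.H36.PPOrder
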