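import Mathlib
import Groth.Prelude.Def_OmegaPn
import Groth.Prelude.Def_PP16
import Groth.Agent.R2.H36PPBC
import Groth.Agent.R2.H36PPEpi
import Groth.Agent.R2.H36PPOrder
import Groth.Agent.R2.H36PPZero
import Groth.Agent.Lib.Helper18OmLS24
import Groth.Agent.Lib.Helper18OmLS6
import Groth.Agent.Lib.Helper20OmegaQCoh
import Groth.Agent.Lib.Helper23QCohAbelian

set_option autoImplicit false
set_option linter.style.haveILetI false
universe u
open CategoryTheory AlgebraicGeometry TopologicalSpace Opposite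
open TensorProduct

namespace Groth.Agent.R2.H36.PPOmega

open Groth.Agent.R2.H36.PPAff Groth.Agent.R2.H36.PPBC Groth.Agent.R2.H36.PPEpi

section algebra
variable (A B : Type u) [CommRing A] [CommRing B] [Algebra A B]

/-- a `B`-linear map `Ω_{B/A} → P^1_{B/A}` sending `d b` to the class of `1 ⊗ b − b ⊗ 1` is injective. -/
theorem injective_of_D (J : Ω[B⁄A] →ₗ[B] PP16.P 1 A B)
    (hJ : ∀ b : B, J (KaehlerDifferential.D A B b) =
      Ideal.Quotient.mk _ ((1 : B) ⊗ₜ[A] b - b ⊗ₜ[A] (1 : B))) :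
    Function.Injective J := by
  have h : J = ((KaehlerDifferential.ideal A B).cotangentToQuotientSquare).restrictScalars B := by
    apply LinearMap.ext_on_range (KaehlerDifferential.span_range_derivation A B)
    intro b
    rw [hJ, KaehlerDifferential.D_apply]
    rfl
  rw [h]
  exact (KaehlerDifferential.ideal A B).cotangentToQuotientSquare_injective

end algebra

section aug
variable {X S : Scheme.{u}} (f : X ⟶ S) (n : ℕ)

/-- the augmentation `P^n_{X/S} ⟶ O_X`, `d^n t ↦ t`. -/
noncomputable def aug : PrinPart.P f n ⟶ Coh.structureModule X :=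
  Groth.Agent.R2.H36.PPOrder.trans f (Nat.zero_le n) _ ≫ Groth.Agent.R2.H36.PPZero.eps f _

theorem aug_dn (U : X.Opens) (t : Γ(X, U)) :
    (aug f n).app U (PrinPart.dn f n U t) = OmegaSh.strSect X U t := by
  rw [aug, Scheme.Modules.Hom.comp_app, ConcreteCategory.comp_apply]
  change (Groth.Agent.R2.H36.PPZero.eps f _).app U
    ((Groth.Agent.R2.H36.PPOrder.trans f (Nat.zero_le n) _).app U
      (PrinPart.dP f n _ U (OmegaSh.strSect X U t))) = _
  rw [Groth.Agent.R2.H36.PPOrder.trans_dP, Groth.Agent.R2.H36.PPZero.eps_dP]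

end aug

section main
open CategoryTheory.Limits
variable {X S : Scheme.{u}} (f : X ⟶ S) [QuasiSeparated f]
  (e : Coh.structureModule X ⟶ PrinPart.P f 1)
  (he : ∀ (U : X.Opens) (s : Γ(X, U)), e.app U (OmegaSh.strSect X U s) = s • PrinPart.dn f 1 U 1)
  (ι : Omega.sheaf f ⟶ PrinPart.P f 1)
  (hι : ∀ (U : X.Opens) (s : Γ(X, U)),
    ι.app U ((OmegaSh.dOmega f).app U s) = PrinPart.dn f 1 U s - s • PrinPart.dn f 1 U 1)

include he in
omit [QuasiSeparated f] in
theorem aug_e (U : X.Opens) (t : Γ(Coh.structureModule X, U)) :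
    (aug f 1).app U (e.app U t) = t := by
  have h1 := he U (OmegaSh.fnSect X U t)
  have h2 : e.app U t = (OmegaSh.fnSect X U t) • PrinPart.dn f 1 U 1 := h1
  rw [h2, Scheme.Modules.Hom.app_smul, aug_dn, ← OmegaSh.strSect_mul, mul_one]
  rfl

variable {U : X.Opens} (hU : IsAffineOpen U) {V : S.Opens} (hV : IsAffineOpen V)
  (hUV : U ≤ f ⁻¹ᵁ V)

include hι hU hV hUV in
theorem aug_ι (ω : Γ(Omega.sheaf f, U)) : (aug f 1).app U (ι.app U ω) = 0 := by
  have hω := Groth.Agent.Helper18OmLS.mem_span_dOmega f hUV hU hV ω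
  refine Submodule.span_induction (p := fun ω _ => (aug f 1).app U (ι.app U ω) = 0) ?_ ?_ ?_ ?_ hω
  · rintro _ ⟨s, rfl⟩
    change (aug f 1).app U (ι.app U ((OmegaSh.dOmega f).app U s)) = 0
    rw [hι, map_sub, Scheme.Modules.Hom.app_smul, aug_dn, aug_dn, ← OmegaSh.strSect_mul, mul_one,
      sub_self]
  · rw [map_zero, map_zero]
  · intro a b _ _ ha hb
    rw [map_add, map_add, ha, hb, add_zero]
  · intro r a _ ha
    rw [Scheme.Modules.Hom.app_smul, Scheme.Modules.Hom.app_smul, ha, smul_zero]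

include hι hU hV hUV in
theorem ι_app_injective : Function.Injective (ι.app U) := by
  letI : Algebra Γ(S, V) Γ(X, U) := (f.appLE V U hUV).hom.toAlgebra
  obtain ⟨k, hk⟩ := exists_linearEquiv_P f 1 hU hV hUV rfl
  let sE := Groth.Agent.Helper18OmLS.sectionsEquiv f (OmegaSh.dOmega f)
    (Groth.Agent.Helper18OmLS.isUniversal_dOmega f) hU hV hUV rfl
  let ιL : Γ(Omega.sheaf f, U) →ₗ[Γ(X, U)] Γ(PrinPart.P f 1, U) :=
    { toFun := fun x => ι.app U x
      map_add' := fun x y => map_add _ x y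
      map_smul' := fun r x => Scheme.Modules.Hom.app_smul ι r x }
  let J : Ω[Γ(X, U)⁄Γ(S, V)] →ₗ[Γ(X, U)] PP16.P 1 Γ(S, V) Γ(X, U) :=
    k.symm.toLinearMap ∘ₗ ιL ∘ₗ sE.symm.toLinearMap
  have hJ : ∀ b : Γ(X, U), J (KaehlerDifferential.D Γ(S, V) Γ(X, U) b) =
      Ideal.Quotient.mk _ ((1 : Γ(X, U)) ⊗ₜ[Γ(S, V)] b - b ⊗ₜ[Γ(S, V)] (1 : Γ(X, U))) := by
    intro b
    have h1 : sE.symm (KaehlerDifferential.D Γ(S, V) Γ(X, U) b) = (OmegaSh.dOmega f).app U b := by
      rw [LinearEquiv.symm_apply_eq]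
      exact (Groth.Agent.Helper18OmLS.sectionsEquiv_d f (OmegaSh.dOmega f)
        (Groth.Agent.Helper18OmLS.isUniversal_dOmega f) hU hV hUV rfl b).symm
    change k.symm (ι.app U (sE.symm (KaehlerDifferential.D Γ(S, V) Γ(X, U) b))) = _
    rw [h1, hι, LinearEquiv.symm_apply_eq, map_sub, map_sub, hk, hk, one_smul]
  have hinj := injective_of_D Γ(S, V) Γ(X, U) J hJ
  intro x y hxy
  have h2 : J (sE x) = J (sE y) := by
    change k.symm (ι.app U (sE.symm (sE x))) = k.symm (ι.app U (sE.symm (sE y)))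
    rw [LinearEquiv.symm_apply_apply, LinearEquiv.symm_apply_apply, hxy]
  exact sE.injective (hinj h2)

include he hι hU hV hUV in
theorem desc_app_surjective : Function.Surjective ((coprod.desc e ι).app U) := by
  intro y
  have hy : y ∈ Submodule.span Γ(X, U) (Set.range (PrinPart.dn f 1 U)) := by
    rw [span_dn_eq_top f 1 hU hV hUV]
    trivial
  refine Submodule.span_induction (p := fun y _ => ∃ x, (coprod.desc e ι).app U x = y)
    ?_ ?_ ?_ ?_ hy
  · rintro _ ⟨b, rfl⟩
    refine ⟨(coprod.inr : Omega.sheaf f ⟶ Coh.structureModule X ⨿ Omega.sheaf f).app U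
        ((OmegaSh.dOmega f).app U b) +
      (coprod.inl : Coh.structureModule X ⟶ Coh.structureModule X ⨿ Omega.sheaf f).app U
        (OmegaSh.strSect X U b), ?_⟩
    rw [map_add, ← ConcreteCategory.comp_apply, ← ConcreteCategory.comp_apply,
      ← Scheme.Modules.Hom.comp_app, ← Scheme.Modules.Hom.comp_app, coprod.inr_desc,
      coprod.inl_desc, hι, he, sub_add_cancel]
  · exact ⟨0, map_zero _⟩
  · rintro a b _ _ ⟨x, rfl⟩ ⟨y, rfl⟩
    exact ⟨x + y, map_add _ _ _⟩
  · rintro r a _ ⟨x, rfl⟩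
    exact ⟨r • x, Scheme.Modules.Hom.app_smul _ _ _⟩

omit [QuasiSeparated f] in
theorem total :
    (coprod.desc (𝟙 _) 0 : Coh.structureModule X ⨿ Omega.sheaf f ⟶ Coh.structureModule X) ≫
        coprod.inl +
      (coprod.desc 0 (𝟙 _) : Coh.structureModule X ⨿ Omega.sheaf f ⟶ Omega.sheaf f) ≫
        coprod.inr = 𝟙 _ := by
  apply coprod.hom_ext
  · rw [Preadditive.comp_add, coprod.inl_desc_assoc, coprod.inl_desc_assoc, Category.id_comp,
      zero_comp, add_zero, Category.comp_id]
  · rw [Preadditive.comp_add, coprod.inr_desc_assoc, coprod.inr_desc_assoc, Category.id_comp,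
      zero_comp, zero_add, Category.comp_id]

include he hι hU hV hUV in
theorem desc_app_injective : Function.Injective ((coprod.desc e ι).app U) := by
  rw [injective_iff_map_eq_zero]
  intro z hz
  set π₁ : Coh.structureModule X ⨿ Omega.sheaf f ⟶ Coh.structureModule X :=
    coprod.desc (𝟙 _) 0 with hπ₁
  set π₂ : Coh.structureModule X ⨿ Omega.sheaf f ⟶ Omega.sheaf f := coprod.desc 0 (𝟙 _) with hπ₂
  have htot : z = (coprod.inl : Coh.structureModule X ⟶ _).app U (π₁.app U z) +
      (coprod.inr : Omega.sheaf f ⟶ _).app U (π₂.app U z) := by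
    have h := congrArg (fun φ => Scheme.Modules.Hom.app φ U) (total f)
    have h2 := congr($h z)
    exact h2.symm
  have hc : (coprod.desc e ι).app U z = e.app U (π₁.app U z) + ι.app U (π₂.app U z) := by
    have hl : ∀ t, (coprod.desc e ι).app U
        ((coprod.inl : Coh.structureModule X ⟶ _).app U t) = e.app U t := fun t => by
      have h := congrArg (fun φ => Scheme.Modules.Hom.app φ U) (coprod.inl_desc e ι)
      exact congr($h t)
    have hr : ∀ t, (coprod.desc e ι).app U
        ((coprod.inr : Omega.sheaf f ⟶ _).app U t) = ι.app U t := fun t => by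
      have h := congrArg (fun φ => Scheme.Modules.Hom.app φ U) (coprod.inr_desc e ι)
      exact congr($h t)
    conv_lhs => rw [htot]
    rw [map_add, hl, hr]
  rw [hc] at hz
  have h1 := congrArg (fun y => (aug f 1).app U y) hz
  simp only [map_add, map_zero] at h1
  rw [aug_e f e he, aug_ι f ι hι hU hV hUV, add_zero] at h1
  rw [h1, map_zero, zero_add] at hz
  have h2 : π₂.app U z = 0 := ι_app_injective f ι hι hU hV hUV (hz.trans (map_zero _).symm)
  rw [htot, h1, h2, map_zero, map_zero, add_zero]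

include he hι in
/-- `O_X ⊕ Ω_{X/S} ≅ P^1_{X/S}`. -/
theorem isIso_desc : IsIso (coprod.desc e ι) := by
  haveI : (PrinPart.P f 1).IsQuasicoherent :=
    Groth.Agent.S5959.result f 1 _ (inferInstanceAs (Coh.structureModule X).IsQuasicoherent)
  haveI : (Omega.sheaf f).IsQuasicoherent :=
    Groth.Agent.Lib.Helper20.OmegaQCoh.isQuasicoherent_omega f
  haveI : (Coh.structureModule X ⊞ Omega.sheaf f).IsQuasicoherent :=
    Groth.Agent.Lib.Helper23.QCohLocal.isQuasicoherent_biprod _ _
  haveI : (Coh.structureModule X ⨿ Omega.sheaf f).IsQuasicoherent :=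
    (SheafOfModules.isQuasicoherent X.ringCatSheaf).prop_of_iso
      (biprod.isoCoprod (Coh.structureModule X) (Omega.sheaf f)) inferInstance
  choose U V hU hV hxU hUV using Groth.Agent.Lib.Helper2.FlatOver.exists_affine_nhds f
  refine Groth.Agent.Helper18OmLS.isIso_of_bijective_app_cover (coprod.desc e ι) U ?_ hU
    (fun x => ⟨desc_app_injective f e he ι hι (hU x) (hV x) (hUV x),
      desc_app_surjective f e he ι hι (hU x) (hV x) (hUV x)⟩)
  rw [TopologicalSpace.IsOpenCover, eq_top_iff]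
  intro x _
  exact TopologicalSpace.Opens.mem_iSup.mpr ⟨x, hxU x⟩

end main

end Groth.Agent.R2.H36.PPOmega
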