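import Mathlib

/-!
# Quasi-homeomorphisms and sheaf categories (helper36)

For a continuous map `f : X₀ ⟶ X`: `f⁻¹` is bijective on opens iff `f^*` is an equivalence on sheaves of sets iff
`f^*` is an equivalence on sheaves of abelian groups.
-/

set_option autoImplicit false
universe u
open CategoryTheory TopologicalSpace Opposite TopCat

namespace Groth.Agent.R2.H36.QuasiHomeo

variable {X₀ X : TopCat.{u}} (f : X₀ ⟶ X)

section partA

variable (hf : Function.Bijective (fun U : Opens X => (Opens.map f).obj U))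

include hf in
theorem le_of_map_le {U V : Opens X} (h : (Opens.map f).obj U ≤ (Opens.map f).obj V) : U ≤ V := by
  have h1 : (Opens.map f).obj (U ⊔ V) = (Opens.map f).obj V := by
    apply le_antisymm
    · rintro x (hx | hx)
      · exact h hx
      · exact hx
    · exact fun x hx => Or.inr hx
  have h2 : U ⊔ V = V := hf.1 h1
  exact h2 ▸ le_sup_left

include hf in
theorem isEquivalence_map : (Opens.map f).IsEquivalence where
  faithful := ⟨fun _ => Subsingleton.elim _ _⟩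
  full := ⟨fun {U V} g => ⟨homOfLE (le_of_map_le f hf g.le), Subsingleton.elim _ _⟩⟩
  essSurj := ⟨fun W => by
    obtain ⟨V, hV⟩ := hf.2 W
    exact ⟨V, ⟨eqToIso hV⟩⟩⟩

include hf in
theorem isDenseSubsite_map :
    (Opens.map f).IsDenseSubsite (Opens.grothendieckTopology X) (Opens.grothendieckTopology X₀) := by
  haveI := isEquivalence_map f hf
  refine { functorPushforward_mem_iff := ?_ }
  intro U S
  constructor
  · intro H x hx
    -- the union of the members of `S`
    let V : Opens X := ⨆ (p : {W : Opens X // ∃ g : W ⟶ U, S g}), p.1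
    have hVU : V ≤ U := iSup_le fun p => p.2.choose.le
    have h1 : (Opens.map f).obj U ≤ (Opens.map f).obj V := by
      intro y hy
      obtain ⟨W, g, ⟨Z, a, b, ha, -⟩, hyW⟩ := H y hy
      have : y ∈ (Opens.map f).obj Z := b.le hyW
      exact Opens.mem_iSup.2 ⟨⟨Z, a, ha⟩, this⟩
    have h2 : U ≤ V := le_of_map_le f hf h1
    obtain ⟨⟨W, g, hg⟩, hxW⟩ := Opens.mem_iSup.1 (h2 hx)
    exact ⟨W, g, hg, hxW⟩
  · intro H y hy
    obtain ⟨W, g, hg, hxW⟩ := H (f y) hy
    exact ⟨(Opens.map f).obj W, (Opens.map f).map g, ⟨W, g, 𝟙 _, hg, by simp⟩, hxW⟩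

include hf in
theorem isEquivalence_pushforward (A : Type*) [Category A] :
    (TopCat.Sheaf.pushforward A f).IsEquivalence := by
  have h1 := isEquivalence_map f hf
  let e' : Opens X₀ ≌ Opens X := (Opens.map f).asEquivalence.symm
  have h2 : e'.inverse.IsDenseSubsite (Opens.grothendieckTopology X) (Opens.grothendieckTopology X₀) :=
    isDenseSubsite_map f hf
  have h3 : TopCat.Sheaf.pushforward A f =
      (e'.sheafCongr (Opens.grothendieckTopology X₀) (Opens.grothendieckTopology X) A).functor := rfl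
  rw [h3]
  infer_instance

end partA

section test

variable (Y : TopCat.{u}) (Z : Set Y)

/-- the two-element group in universe `u`. -/
abbrev F2 : Type u := ULift.{u} (ZMod 2)

theorem F2_one_ne_zero : (ULift.up 1 : F2.{u}) ≠ 0 := by
  intro h
  have := congrArg ULift.down h
  exact absurd this (by decide)

/-- the local predicate "vanishes outside `Z`". -/
def suppPred : LocalPredicate (fun _ : Y => F2.{u}) where
  pred {U} s := ∀ y : U, y.1 ∉ Z → s y = 0
  res := fun i s hs y hy => hs (i y) hy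
  locality := fun {U} s hs y hy => by
    obtain ⟨V, hyV, i, hV⟩ := hs y
    exact hV ⟨y.1, hyV⟩ hy

/-- the sheaf of sets of all `F2`-valued functions vanishing outside `Z`. -/
def funTy : TopCat.Sheaf (Type u) Y := subsheafToTypes (suppPred Y Z)

/-- the subgroup of functions on `W` vanishing outside `Z`. -/
def suppSub (W : Opens Y) : AddSubgroup (W → F2.{u}) where
  carrier := {s | ∀ y : W, y.1 ∉ Z → s y = 0}
  zero_mem' := fun _ _ => rfl
  add_mem' := fun {a b} ha hb y hy => by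
    change a y + b y = 0
    rw [ha y hy, hb y hy, add_zero]
  neg_mem' := fun {a} ha y hy => by
    change -a y = 0
    rw [ha y hy, neg_zero]

/-- the presheaf of abelian groups of all `F2`-valued functions vanishing outside `Z`. -/
def funAbPre : TopCat.Presheaf AddCommGrpCat.{u} Y where
  obj W := AddCommGrpCat.of (suppSub Y Z W.unop)
  map {W W'} i := AddCommGrpCat.ofHom
    { toFun := fun s => ⟨fun y => s.1 (i.unop y), fun y hy => s.2 (i.unop y) hy⟩
      map_zero' := rfl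
      map_add' := fun _ _ => rfl }

def funAbPreForget : funAbPre Y Z ⋙ forget AddCommGrpCat ≅ (funTy Y Z).obj :=
  NatIso.ofComponents (fun _ => Iso.refl _) (by intros; rfl)

theorem isSheaf_funAbPre : (funAbPre Y Z).IsSheaf :=
  (TopCat.Presheaf.isSheaf_iff_isSheaf_comp (forget AddCommGrpCat) _).mpr
    (TopCat.Presheaf.isSheaf_of_iso (funAbPreForget Y Z).symm (funTy Y Z).property)

/-- the sheaf of abelian groups of all `F2`-valued functions vanishing outside `Z`. -/
def funAb : TopCat.Sheaf AddCommGrpCat.{u} Y := ⟨funAbPre Y Z, isSheaf_funAbPre Y Z⟩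

end test

section generic
variable {C : Type*} [Category C]

theorem isIso_map_of_essSurj [(TopCat.Sheaf.pushforward C f).EssSurj] (S : TopCat.Sheaf C X)
    {W U : Opens X} (i : W ⟶ U) (h : (Opens.map f).obj U ≤ (Opens.map f).obj W) :
    IsIso (S.obj.map i.op) := by
  obtain ⟨T, ⟨e⟩⟩ := Functor.EssSurj.mem_essImage (F := TopCat.Sheaf.pushforward C f) S
  let eP := (sheafToPresheaf _ _).mapIso e
  have hnat := eP.hom.naturality i.op
  have h1 : IsIso ((Opens.map f).map i) :=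
    ⟨homOfLE h, Subsingleton.elim _ _, Subsingleton.elim _ _⟩
  have h2 : IsIso (((TopCat.Sheaf.pushforward C f).obj T).obj.map i.op) := by
    change IsIso (T.obj.map ((Opens.map f).map i).op)
    infer_instance
  have h3 : S.obj.map i.op = inv (eP.hom.app (op U)) ≫
      ((TopCat.Sheaf.pushforward C f).obj T).obj.map i.op ≫ eP.hom.app (op W) := by
    rw [IsIso.eq_inv_comp]
    exact hnat.symm
  rw [h3]
  infer_instance

end generic

theorem injective_of_essSurj_type [(TopCat.Sheaf.pushforward (Type u) f).EssSurj] :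
    Function.Injective (fun U : Opens X => (Opens.map f).obj U) := by
  have key : ∀ U V : Opens X, (Opens.map f).obj U = (Opens.map f).obj V → U ≤ V := by
    intro U V hUV x hxU
    by_contra hxV
    classical
    let i : U ⊓ V ⟶ U := homOfLE inf_le_left
    have h : (Opens.map f).obj U ≤ (Opens.map f).obj (U ⊓ V) := by
      intro y hy
      have hy' : y ∈ (Opens.map f).obj V := hUV ▸ hy
      exact ⟨hy, hy'⟩
    have hiso := isIso_map_of_essSurj f (funTy X {x}) i h
    have hbij := (isIso_iff_bijective _).1 hiso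
    let s₁ : (funTy X {x}).obj.obj (op U) :=
      ⟨fun y => if y.1 = x then ULift.up 1 else 0, fun y hy => if_neg hy⟩
    let s₀ : (funTy X {x}).obj.obj (op U) := ⟨fun _ => 0, fun _ _ => rfl⟩
    have : (funTy X {x}).obj.map i.op s₁ = (funTy X {x}).obj.map i.op s₀ := by
      apply Subtype.ext
      funext y
      change (if (i y).1 = x then _ else _) = 0
      rw [if_neg]
      intro hy
      exact hxV (hy ▸ y.2.2)
    have h2 := hbij.1 this
    have h3 := congrFun (congrArg Subtype.val h2) ⟨x, hxU⟩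
    exact F2_one_ne_zero (by simpa [s₁, s₀] using h3)
  intro U V hUV
  exact le_antisymm (key U V hUV) (key V U hUV.symm)

theorem injective_of_essSurj_ab [(TopCat.Sheaf.pushforward AddCommGrpCat.{u} f).EssSurj] :
    Function.Injective (fun U : Opens X => (Opens.map f).obj U) := by
  have key : ∀ U V : Opens X, (Opens.map f).obj U = (Opens.map f).obj V → U ≤ V := by
    intro U V hUV x hxU
    by_contra hxV
    classical
    let i : U ⊓ V ⟶ U := homOfLE inf_le_left
    have h : (Opens.map f).obj U ≤ (Opens.map f).obj (U ⊓ V) := by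
      intro y hy
      have hy' : y ∈ (Opens.map f).obj V := hUV ▸ hy
      exact ⟨hy, hy'⟩
    have hiso := isIso_map_of_essSurj f (funAb X {x}) i h
    have hbij := ConcreteCategory.bijective_of_isIso ((funAb X {x}).obj.map i.op)
    let s₁ : (funAb X {x}).obj.obj (op U) :=
      ⟨fun y => if y.1 = x then ULift.up 1 else 0, fun y hy => if_neg hy⟩
    let s₀ : (funAb X {x}).obj.obj (op U) := ⟨fun _ => 0, fun _ _ => rfl⟩
    have : (funAb X {x}).obj.map i.op s₁ = (funAb X {x}).obj.map i.op s₀ := by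
      apply Subtype.ext
      funext y
      change (if (i y).1 = x then _ else _) = 0
      rw [if_neg]
      intro hy
      exact hxV (hy ▸ y.2.2)
    have h2 := hbij.1 this
    have h3 := congrFun (congrArg Subtype.val h2) ⟨x, hxU⟩
    exact F2_one_ne_zero (by simpa [s₁, s₀] using h3)
  intro U V hUV
  exact le_antisymm (key U V hUV) (key V U hUV.symm)

section ulim

variable {Y : Type u} (𝒰 : Ultrafilter Y)

/-- the limit of an `F2`-valued function along an ultrafilter. -/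
noncomputable def ulim (g : Y → F2.{u}) : F2.{u} :=
  (Ultrafilter.eq_pure_of_finite (𝒰.map g)).choose

theorem ulim_spec (g : Y → F2.{u}) : {y | g y = ulim 𝒰 g} ∈ 𝒰 := by
  have h := (Ultrafilter.eq_pure_of_finite (𝒰.map g)).choose_spec
  have h1 : ({ulim 𝒰 g} : Set F2.{u}) ∈ 𝒰.map g := by
    rw [h]
    exact Filter.mem_pure.2 rfl
  exact h1

theorem ulim_eq (g : Y → F2.{u}) (a : F2.{u}) (h : {y | g y = a} ∈ 𝒰) : ulim 𝒰 g = a := by
  have h1 := Filter.inter_mem h (ulim_spec 𝒰 g)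
  obtain ⟨y, hy1, hy2⟩ := 𝒰.neBot.nonempty_of_mem h1
  exact hy2.symm.trans hy1

theorem ulim_add (g h : Y → F2.{u}) : ulim 𝒰 (g + h) = ulim 𝒰 g + ulim 𝒰 h := by
  apply ulim_eq
  filter_upwards [ulim_spec 𝒰 g, ulim_spec 𝒰 h] with y hy1 hy2
  change g y + h y = _
  rw [hy1, hy2]

theorem ulim_congr (g h : Y → F2.{u}) (H : {y | g y = h y} ∈ 𝒰) : ulim 𝒰 g = ulim 𝒰 h := by
  apply ulim_eq
  filter_upwards [H, ulim_spec 𝒰 h] with y hy1 hy2
  rw [hy1, hy2]

theorem ulim_zero : ulim 𝒰 (0 : Y → F2.{u}) = 0 :=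
  ulim_eq 𝒰 _ _ (Filter.univ_mem' fun _ => rfl)

end ulim

section ext

variable {Y : TopCat.{u}}

open Classical in
/-- extension by zero. -/
noncomputable def extz (W : Opens Y) (s : W → F2.{u}) : Y → F2.{u} :=
  fun y => if h : y ∈ W then s ⟨y, h⟩ else 0

theorem extz_apply (W : Opens Y) (s : W → F2.{u}) (y : Y) (h : y ∈ W) : extz W s y = s ⟨y, h⟩ :=
  dif_pos h

theorem extz_add (W : Opens Y) (s t : W → F2.{u}) : extz W (s + t) = extz W s + extz W t := by
  funext y
  by_cases h : y ∈ W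
  · simp [extz, h]
  · simp [extz, h]

theorem extz_res {W W' : Opens Y} (i : W' ⟶ W) (s : W → F2.{u}) (y : Y) (h : y ∈ W') :
    extz W' (fun z => s (i z)) y = extz W s y := by
  rw [extz_apply _ _ _ h, extz_apply _ _ _ (i.le h)]
  rfl

end ext


section key

variable (U₀ : Opens X₀) (x₀ : X₀) (hx₀ : x₀ ∈ U₀)
  (H : ∀ V : Opens X, f x₀ ∈ V → ¬ ((Opens.map f).obj V ≤ U₀))

include H in
theorem exists_ultrafilter : ∃ 𝒰 : Ultrafilter X₀,
    ∀ V : Opens X, f x₀ ∈ V → (((Opens.map f).obj V : Set X₀) ∩ (U₀ : Set X₀)ᶜ) ∈ 𝒰 := by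
  have hne : (Filter.comap f (nhds (f x₀)) ⊓ Filter.principal ((U₀ : Set X₀)ᶜ)).NeBot := by
    rw [Filter.inf_principal_neBot_iff]
    intro S hS
    obtain ⟨t, ht, htS⟩ := Filter.mem_comap.1 hS
    obtain ⟨V, hVt, hV, hxV⟩ := mem_nhds_iff.1 ht
    have := H ⟨V, hV⟩ hxV
    rw [SetLike.not_le_iff_exists] at this
    obtain ⟨y, hy1, hy2⟩ := this
    exact ⟨y, htS (hVt hy1), hy2⟩
  refine ⟨Ultrafilter.of (Filter.comap f (nhds (f x₀)) ⊓ Filter.principal ((U₀ : Set X₀)ᶜ)),
    fun V hV => Ultrafilter.of_le _ ?_⟩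
  exact Filter.inter_mem_inf (Filter.preimage_mem_comap (V.isOpen.mem_nhds hV))
    (Filter.mem_principal_self _)

end key

section typeCase

variable (U₀ : Opens X₀) (x₀ : X₀) (𝒰 : Ultrafilter X₀)
  (h𝒰 : ∀ V : Opens X, f x₀ ∈ V → (((Opens.map f).obj V : Set X₀) ∩ (U₀ : Set X₀)ᶜ) ∈ 𝒰)

open Classical in
/-- the component of `etaTy`. -/
noncomputable def etaTyFun (W : Opens X₀) (s : (funTy X₀ (U₀ : Set X₀)ᶜ).obj.obj (op W)) :
    (funTy X₀ {x₀}).obj.obj (op W) :=
  ⟨fun y => if y.1 = x₀ then ulim 𝒰 (extz W s.1) else 0, fun y hy => if_neg hy⟩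

include h𝒰 in
theorem etaTyFun_res {V V' : Opens X} (i : V' ⟶ V)
    (s : (funTy X₀ (U₀ : Set X₀)ᶜ).obj.obj (op ((Opens.map f).obj V))) :
    etaTyFun U₀ x₀ 𝒰 _ ((funTy X₀ (U₀ : Set X₀)ᶜ).obj.map ((Opens.map f).map i).op s) =
      (funTy X₀ {x₀}).obj.map ((Opens.map f).map i).op (etaTyFun U₀ x₀ 𝒰 _ s) := by
  classical
  apply Subtype.ext
  funext y
  change (if y.1 = x₀ then _ else _) = (if y.1 = x₀ then _ else _)
  by_cases hy : y.1 = x₀
  · rw [if_pos hy, if_pos hy]
    apply ulim_congr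
    have hx₀ : f x₀ ∈ V' := by
      have := y.2
      rw [hy] at this
      exact this
    refine Filter.mem_of_superset (h𝒰 V' hx₀) ?_
    rintro z ⟨hz, -⟩
    exact extz_res ((Opens.map f).map i) s.1 z hz
  · rw [if_neg hy, if_neg hy]

include h𝒰 in
/-- the morphism `η`. -/
noncomputable def etaTy :
    (TopCat.Sheaf.pushforward (Type u) f).obj (funTy X₀ (U₀ : Set X₀)ᶜ) ⟶
    (TopCat.Sheaf.pushforward (Type u) f).obj (funTy X₀ {x₀}) :=
  ObjectProperty.homMk
    { app := fun V => ↾(etaTyFun U₀ x₀ 𝒰 ((Opens.map f).obj V.unop))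
      naturality := fun V V' i => by
        ext s
        exact etaTyFun_res f U₀ x₀ 𝒰 h𝒰 i.unop s }

end typeCase

theorem extz_zero {Y : TopCat.{u}} (W : Opens Y) (y : Y) : extz W (fun _ => (0 : F2.{u})) y = 0 := by
  by_cases h : y ∈ W
  · simp [extz, h]
  · simp [extz, h]

theorem exists_nhd_of_full_type [(TopCat.Sheaf.pushforward (Type u) f).Full]
    (U₀ : Opens X₀) (x₀ : X₀) (hx₀ : x₀ ∈ U₀) :
    ∃ V : Opens X, f x₀ ∈ V ∧ (Opens.map f).obj V ≤ U₀ := by
  by_contra H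
  push Not at H
  obtain ⟨𝒰, h𝒰⟩ := exists_ultrafilter f U₀ x₀ H
  obtain ⟨ψ₀, hψ₀⟩ := Functor.Full.map_surjective (F := TopCat.Sheaf.pushforward (Type u) f)
    (etaTy f U₀ x₀ 𝒰 h𝒰)
  have h1 : ψ₀.hom.app (op ((Opens.map f).obj ⊤)) = ↾(etaTyFun U₀ x₀ 𝒰 ((Opens.map f).obj ⊤)) :=
    congrArg (fun m => m.hom.app (op ⊤)) hψ₀
  classical
  let j : U₀ ⟶ (Opens.map f).obj ⊤ := homOfLE (fun y _ => trivial)
  let s₁ : (funTy X₀ (U₀ : Set X₀)ᶜ).obj.obj (op ((Opens.map f).obj ⊤)) :=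
    ⟨fun y => if y.1 ∈ U₀ then 0 else ULift.up 1, fun y hy => if_pos (not_not.1 hy)⟩
  let s₀ : (funTy X₀ (U₀ : Set X₀)ᶜ).obj.obj (op ((Opens.map f).obj ⊤)) :=
    ⟨fun _ => 0, fun _ _ => rfl⟩
  have h2 : (funTy X₀ (U₀ : Set X₀)ᶜ).obj.map j.op s₁ =
      (funTy X₀ (U₀ : Set X₀)ᶜ).obj.map j.op s₀ := by
    apply Subtype.ext
    funext y
    change (if (j y).1 ∈ U₀ then _ else _) = 0
    exact if_pos y.2
  have hnat := ψ₀.hom.naturality j.op
  have h3 : (funTy X₀ {x₀}).obj.map j.op (ψ₀.hom.app _ s₁) =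
      (funTy X₀ {x₀}).obj.map j.op (ψ₀.hom.app _ s₀) := by
    have e1 := congrArg (fun m => m s₁) hnat
    have e0 := congrArg (fun m => m s₀) hnat
    simp only [types_comp_apply] at e1 e0
    rw [← e1, ← e0, h2]
  rw [h1] at h3
  have h4 := congrFun (congrArg Subtype.val h3) ⟨x₀, hx₀⟩
  have h5 : ulim 𝒰 (extz ((Opens.map f).obj ⊤) s₁.1) = ulim 𝒰 (extz ((Opens.map f).obj ⊤) s₀.1) := by
    have : ∀ s : (funTy X₀ (U₀ : Set X₀)ᶜ).obj.obj (op ((Opens.map f).obj ⊤)),
        ((funTy X₀ {x₀}).obj.map j.op ((↾(etaTyFun U₀ x₀ 𝒰 ((Opens.map f).obj ⊤))) s)).1 ⟨x₀, hx₀⟩ =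
          ulim 𝒰 (extz ((Opens.map f).obj ⊤) s.1) := by
      intro s
      change (if (j ⟨x₀, hx₀⟩).1 = x₀ then _ else _) = _
      exact if_pos rfl
    rw [← this s₁, ← this s₀]
    exact h4
  have h6 : ulim 𝒰 (extz ((Opens.map f).obj ⊤) s₁.1) = ULift.up 1 := by
    apply ulim_eq
    refine Filter.mem_of_superset (h𝒰 ⊤ trivial) ?_
    rintro z ⟨hz, hz'⟩
    change extz _ _ z = _
    rw [extz_apply _ _ _ hz]
    exact if_neg hz'
  have h7 : ulim 𝒰 (extz ((Opens.map f).obj ⊤) s₀.1) = 0 := by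
    apply ulim_eq
    exact Filter.univ_mem' fun z => extz_zero _ z
  rw [h6, h7] at h5
  exact F2_one_ne_zero h5

theorem surjective_of_full_type [(TopCat.Sheaf.pushforward (Type u) f).Full] :
    Function.Surjective (fun U : Opens X => (Opens.map f).obj U) := by
  intro U₀
  refine ⟨sSup {V : Opens X | (Opens.map f).obj V ≤ U₀}, ?_⟩
  apply le_antisymm
  · intro y hy
    obtain ⟨V, hV, hyV⟩ := Opens.mem_sSup.1 hy
    exact hV hyV
  · intro y hy
    obtain ⟨V, hyV, hV⟩ := exists_nhd_of_full_type f U₀ y hy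
    exact Opens.mem_sSup.2 ⟨V, hV, hyV⟩

section abCase

variable (U₀ : Opens X₀) (x₀ : X₀) (𝒰 : Ultrafilter X₀)
  (h𝒰 : ∀ V : Opens X, f x₀ ∈ V → (((Opens.map f).obj V : Set X₀) ∩ (U₀ : Set X₀)ᶜ) ∈ 𝒰)

open Classical in
/-- the component of `etaAb`. -/
noncomputable def etaAbFun (W : Opens X₀) :
    suppSub X₀ (U₀ : Set X₀)ᶜ W →+ suppSub X₀ {x₀} W where
  toFun s := ⟨fun y => if y.1 = x₀ then ulim 𝒰 (extz W s.1) else 0, fun y hy => if_neg hy⟩
  map_zero' := by
    apply Subtype.ext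
    funext y
    change (if y.1 = x₀ then ulim 𝒰 (extz W (fun _ => 0)) else 0) = 0
    by_cases hy : y.1 = x₀
    · rw [if_pos hy]
      exact ulim_eq 𝒰 _ _ (Filter.univ_mem' fun z => extz_zero _ z)
    · rw [if_neg hy]
  map_add' s t := by
    apply Subtype.ext
    funext y
    change (if y.1 = x₀ then ulim 𝒰 (extz W (s.1 + t.1)) else 0) =
      (if y.1 = x₀ then ulim 𝒰 (extz W s.1) else 0) + (if y.1 = x₀ then ulim 𝒰 (extz W t.1) else 0)
    by_cases hy : y.1 = x₀
    · rw [if_pos hy, if_pos hy, if_pos hy, extz_add, ulim_add]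
    · rw [if_neg hy, if_neg hy, if_neg hy, add_zero]

include h𝒰 in
theorem etaAbFun_res {V V' : Opens X} (i : V' ⟶ V)
    (s : (funAb X₀ (U₀ : Set X₀)ᶜ).obj.obj (op ((Opens.map f).obj V))) :
    etaAbFun U₀ x₀ 𝒰 _ ((funAb X₀ (U₀ : Set X₀)ᶜ).obj.map ((Opens.map f).map i).op s) =
      (funAb X₀ {x₀}).obj.map ((Opens.map f).map i).op (etaAbFun U₀ x₀ 𝒰 _ s) := by
  classical
  apply Subtype.ext
  funext y
  change (if y.1 = x₀ then _ else _) = (if y.1 = x₀ then _ else _)
  by_cases hy : y.1 = x₀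
  · rw [if_pos hy, if_pos hy]
    apply ulim_congr
    have hx₀ : f x₀ ∈ V' := by
      have := y.2
      rw [hy] at this
      exact this
    refine Filter.mem_of_superset (h𝒰 V' hx₀) ?_
    rintro z ⟨hz, -⟩
    exact extz_res ((Opens.map f).map i) s.1 z hz
  · rw [if_neg hy, if_neg hy]

include h𝒰 in
/-- the morphism `η`. -/
noncomputable def etaAb :
    (TopCat.Sheaf.pushforward AddCommGrpCat.{u} f).obj (funAb X₀ (U₀ : Set X₀)ᶜ) ⟶
    (TopCat.Sheaf.pushforward AddCommGrpCat.{u} f).obj (funAb X₀ {x₀}) :=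
  ObjectProperty.homMk
    { app := fun V => AddCommGrpCat.ofHom (etaAbFun U₀ x₀ 𝒰 ((Opens.map f).obj V.unop))
      naturality := fun V V' i => by
        ext s
        exact etaAbFun_res f U₀ x₀ 𝒰 h𝒰 i.unop s }

end abCase

theorem exists_nhd_of_full_ab [(TopCat.Sheaf.pushforward AddCommGrpCat.{u} f).Full]
    (U₀ : Opens X₀) (x₀ : X₀) (hx₀ : x₀ ∈ U₀) :
    ∃ V : Opens X, f x₀ ∈ V ∧ (Opens.map f).obj V ≤ U₀ := by
  by_contra H
  push Not at H
  obtain ⟨𝒰, h𝒰⟩ := exists_ultrafilter f U₀ x₀ H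
  obtain ⟨ψ₀, hψ₀⟩ := Functor.Full.map_surjective (F := TopCat.Sheaf.pushforward AddCommGrpCat.{u} f)
    (etaAb f U₀ x₀ 𝒰 h𝒰)
  have h1 : ψ₀.hom.app (op ((Opens.map f).obj ⊤)) =
      AddCommGrpCat.ofHom (etaAbFun U₀ x₀ 𝒰 ((Opens.map f).obj ⊤)) :=
    congrArg (fun m => m.hom.app (op ⊤)) hψ₀
  classical
  let j : U₀ ⟶ (Opens.map f).obj ⊤ := homOfLE (fun y _ => trivial)
  let s₁ : (funAb X₀ (U₀ : Set X₀)ᶜ).obj.obj (op ((Opens.map f).obj ⊤)) :=
    ⟨fun y => if y.1 ∈ U₀ then 0 else ULift.up 1, fun y hy => if_pos (not_not.1 hy)⟩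
  let s₀ : (funAb X₀ (U₀ : Set X₀)ᶜ).obj.obj (op ((Opens.map f).obj ⊤)) :=
    ⟨fun _ => 0, fun _ _ => rfl⟩
  have h2 : (funAb X₀ (U₀ : Set X₀)ᶜ).obj.map j.op s₁ =
      (funAb X₀ (U₀ : Set X₀)ᶜ).obj.map j.op s₀ := by
    apply Subtype.ext
    funext y
    change (if (j y).1 ∈ U₀ then _ else _) = 0
    exact if_pos y.2
  have hnat := ψ₀.hom.naturality j.op
  have h3 : (funAb X₀ {x₀}).obj.map j.op (ψ₀.hom.app _ s₁) =
      (funAb X₀ {x₀}).obj.map j.op (ψ₀.hom.app _ s₀) := by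
    have e1 := congrArg (fun m => m s₁) hnat
    have e0 := congrArg (fun m => m s₀) hnat
    simp only [ConcreteCategory.comp_apply] at e1 e0
    rw [← e1, ← e0, h2]
  rw [h1] at h3
  have h4 := congrFun (congrArg Subtype.val h3) ⟨x₀, hx₀⟩
  have h5 : ulim 𝒰 (extz ((Opens.map f).obj ⊤) s₁.1) = ulim 𝒰 (extz ((Opens.map f).obj ⊤) s₀.1) := by
    have : ∀ s : (funAb X₀ (U₀ : Set X₀)ᶜ).obj.obj (op ((Opens.map f).obj ⊤)),
        ((funAb X₀ {x₀}).obj.map j.op
          ((AddCommGrpCat.ofHom (etaAbFun U₀ x₀ 𝒰 ((Opens.map f).obj ⊤))) s)).1 ⟨x₀, hx₀⟩ =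
          ulim 𝒰 (extz ((Opens.map f).obj ⊤) s.1) := by
      intro s
      change (if (j ⟨x₀, hx₀⟩).1 = x₀ then _ else _) = _
      exact if_pos rfl
    rw [← this s₁, ← this s₀]
    exact h4
  have h6 : ulim 𝒰 (extz ((Opens.map f).obj ⊤) s₁.1) = ULift.up 1 := by
    apply ulim_eq
    refine Filter.mem_of_superset (h𝒰 ⊤ trivial) ?_
    rintro z ⟨hz, hz'⟩
    change extz _ _ z = _
    rw [extz_apply _ _ _ hz]
    exact if_neg hz'
  have h7 : ulim 𝒰 (extz ((Opens.map f).obj ⊤) s₀.1) = 0 := by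
    apply ulim_eq
    exact Filter.univ_mem' fun z => extz_zero _ z
  rw [h6, h7] at h5
  exact F2_one_ne_zero h5

theorem surjective_of_full_ab [(TopCat.Sheaf.pushforward AddCommGrpCat.{u} f).Full] :
    Function.Surjective (fun U : Opens X => (Opens.map f).obj U) := by
  intro U₀
  refine ⟨sSup {V : Opens X | (Opens.map f).obj V ≤ U₀}, ?_⟩
  apply le_antisymm
  · intro y hy
    obtain ⟨V, hV, hyV⟩ := Opens.mem_sSup.1 hy
    exact hV hyV
  · intro y hy
    obtain ⟨V, hyV, hV⟩ := exists_nhd_of_full_ab f U₀ y hy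
    exact Opens.mem_sSup.2 ⟨V, hV, hyV⟩

/-- **EGA IV 10.? / quasi-homeomorphisms**: the three conditions are equivalent. -/
theorem tfae (X₀ X : TopCat.{u}) (f : X₀ ⟶ X) :
    [Function.Bijective (fun U : Opens X => (Opens.map f).obj U),
      (TopCat.Sheaf.pullback (Type u) f).IsEquivalence,
      (TopCat.Sheaf.pullback AddCommGrpCat.{u} f).IsEquivalence].TFAE := by
  tfae_have 1 → 2 := fun hf => by
    haveI := isEquivalence_pushforward f hf (Type u)
    exact (TopCat.Sheaf.pullbackPushforwardAdjunction (Type u) f).isEquivalence_left_of_isEquivalence_right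
  tfae_have 2 → 1 := fun h => by
    haveI := h
    haveI := (TopCat.Sheaf.pullbackPushforwardAdjunction (Type u)
      f).isEquivalence_right_of_isEquivalence_left
    exact ⟨injective_of_essSurj_type f, surjective_of_full_type f⟩
  tfae_have 1 → 3 := fun hf => by
    haveI := isEquivalence_pushforward f hf AddCommGrpCat.{u}
    exact (TopCat.Sheaf.pullbackPushforwardAdjunction AddCommGrpCat.{u}
      f).isEquivalence_left_of_isEquivalence_right
  tfae_have 3 → 1 := fun h => by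
    haveI := h
    haveI := (TopCat.Sheaf.pullbackPushforwardAdjunction AddCommGrpCat.{u}
      f).isEquivalence_right_of_isEquivalence_left
    exact ⟨injective_of_essSurj_ab f, surjective_of_full_ab f⟩
  tfae_finish

end Groth.Agent.R2.H36.QuasiHomeo
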