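import Mathlib
import Groth.Prelude.Def_RelProj3
import Groth.Agent.Lib.Helper2RelTwistExist
import Groth.Agent.Lib.Helper2RelTildeInj
import Groth.Agent.R2.H36GrModLocSect

/-!
# Existence of the module `(ℳ(n))~` on a relative Proj for a quasi-coherent graded module (helper36)

Module analogue of `Helper2RelTwistExist`: the chart modules `(emb_U)_* (ℳ(U)(n))~` with the comparison maps
`GrMod.comap` along basic opens satisfy the hypotheses of the gluing theorem `RelObjGlue.exists_glue`.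
-/

set_option autoImplicit false
universe u
open CategoryTheory Limits AlgebraicGeometry TopologicalSpace Opposite
open scoped HomogeneousIdeal

namespace Groth.Agent.R2.H36.RelTildeExist

open RelProj Groth.Agent.Lib.Helper6 Groth.Agent.Lib.Helper2.RelObjGlue Groth.Agent.Lib.Helper2.RelTildeQCoh
  Groth.Agent.Lib.Helper2.RelTildeGlue Groth.Agent.Lib.Helper2.RelTwistGen Groth.Agent.Lib.Helper2.RelTwistTriv
  Groth.Agent.Lib.Helper2.RelTwistPullback Groth.Agent.Lib.Helper2.RelTwistComap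
  Groth.Agent.Lib.Helper2.RelTwistExist Groth.Agent.Lib.Helper2.Push

section alg

variable {A σ : Type u} [CommRing A] [SetLike σ A] [AddSubgroupClass σ A] (𝒜 : ℕ → σ) [GradedRing 𝒜]
variable {M τ : Type u} [AddCommGroup M] [Module A M] [SetLike τ M] [AddSubgroupClass τ M] (ℳ : ℕ → τ)
  [SetLike.GradedSMul 𝒜 ℳ]

theorem tilde_ext {n : ℤ} (W : (Proj 𝒜).Opens) (s s' : Γ(GrMod.tilde 𝒜 ℳ n, W))
    (h : ∀ y : W, GrMod.val s y = GrMod.val s' y) : s = s' :=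
  Subtype.ext (funext fun y => Subtype.ext (h y))

/-- the values of a section at two equal points are the same fraction. -/
theorem exists_mk_eq_mod {m : ℤ} (O : (Proj 𝒜).Opens) (t : Γ(GrMod.tilde 𝒜 ℳ m, O))
    (y₁ y₂ : ProjectiveSpectrum 𝒜) (h : y₁ = y₂) (hy₁ : y₁ ∈ O) (hy₂ : y₂ ∈ O) :
    ∃ (a : M) (f : A) (hf₁ : f ∈ y₁.asHomogeneousIdeal.toIdeal.primeCompl)
      (hf₂ : f ∈ y₂.asHomogeneousIdeal.toIdeal.primeCompl),
      GrMod.val t ⟨y₁, hy₁⟩ = LocalizedModule.mk a ⟨f, hf₁⟩ ∧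
        GrMod.val t ⟨y₂, hy₂⟩ = LocalizedModule.mk a ⟨f, hf₂⟩ := by
  subst h
  have key : ∀ v : GrMod.LocMod 𝒜 (M := M) y₁, ∃ (a : M) (f : A)
      (hf₁ : f ∈ y₁.asHomogeneousIdeal.toIdeal.primeCompl), v = LocalizedModule.mk a ⟨f, hf₁⟩ := by
    intro v
    induction v using LocalizedModule.induction_on with
    | h a s => exact ⟨a, s.1, s.2, rfl⟩
  obtain ⟨a, f, hf₁, e⟩ := key (GrMod.val t ⟨y₁, hy₁⟩)
  exact ⟨a, f, hf₁, hf₁, e, e⟩

theorem mk_congr_mod {R : Type*} [CommRing R] (T : Submonoid R) {M' : Type*} [AddCommGroup M'] [Module R M']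
    {a a' : M'} {b b' : R} (ha : a = a') (hb : b = b') (h : b ∈ T) (h' : b' ∈ T) :
    (LocalizedModule.mk a ⟨b, h⟩ : LocalizedModule T M') = LocalizedModule.mk a' ⟨b', h'⟩ := by
  subst ha; subst hb; rfl

end alg

variable {S P : Scheme.{u}} {𝒮 : RelProj.QCGrAlg S} (p : P ⟶ S)
  (chart : ∀ (U : S.Opens) (hU : IsAffineOpen U), (((p ⁻¹ᵁ U : P.Opens) : Scheme.{u}) ≅ Proj (𝒮.deg U hU)))
  (ℳ : RelProj.GrModule 𝒮)

/-- the localisation facts for a basic pair, for the algebra and for a quasi-coherent graded module. -/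
theorem loc_facts_mod (hℳ : Coh.IsQCoh ((AMod.toOS 𝒮.toQCAlg).obj ℳ.mod)) {V D : S.Opens}
    (hV : IsAffineOpen V) (hD : IsAffineOpen D) (hb : IsBasic V D) :
    ∃ c ∈ 𝒮.deg V hV 0, IsUnit (𝒮.res hV hD hb.le c) ∧
      (∀ b : 𝒮.presheaf.obj (op D), ∃ (a : 𝒮.presheaf.obj (op V)) (k : ℕ),
        b * 𝒮.res hV hD hb.le c ^ k = 𝒮.res hV hD hb.le a) ∧
      (∀ a : 𝒮.presheaf.obj (op V), 𝒮.res hV hD hb.le a = 0 → ∃ k : ℕ, c ^ k * a = 0) ∧
      (∀ ν : ℳ.mod.val.obj (op D), ∃ (m : ℳ.mod.val.obj (op V)) (k : ℕ),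
        𝒮.res hV hD hb.le c ^ k • ν = ℳ.res hV hD hb.le m) ∧
      (∀ m : ℳ.mod.val.obj (op V), ℳ.res hV hD hb.le m = 0 → ∃ k : ℕ, c ^ k • m = 0) := by
  obtain ⟨r, rfl⟩ := hb
  let ψ := 𝒮.res hV hD (S.basicOpen_le r)
  let _inst := (𝒮.presheaf.map (homOfLE (S.basicOpen_le r)).op).hom.toAlgebra
  let c := (𝒮.str.app (op V)).hom r
  have hloc : IsLocalization.Away c (𝒮.presheaf.obj (op (S.basicOpen r))) := 𝒮.isQC V hV r
  haveI : ((AMod.toOS 𝒮.toQCAlg).obj ℳ.mod).IsQuasicoherent := hℳ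
  have hlocM := IsLocOn.of_isQuasicoherent hV ((AMod.toOS 𝒮.toQCAlg).obj ℳ.mod)
  refine ⟨c, 𝒮.str_mem V hV r, ?_, ?_, ?_, ?_, ?_⟩
  · exact IsLocalization.map_units (M := Submonoid.powers c) (𝒮.presheaf.obj (op (S.basicOpen r))) ⟨c, 1, pow_one _⟩
  · intro b
    obtain ⟨⟨x, s, hs⟩, hxs⟩ := IsLocalization.surj (Submonoid.powers c) b
    obtain ⟨k, rfl⟩ := (Submonoid.mem_powers_iff _ _).mp hs
    change b * ψ (c ^ k) = ψ x at hxs
    rw [map_pow] at hxs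
    exact ⟨x, k, hxs⟩
  · intro a ha
    have h1 : algebraMap (𝒮.presheaf.obj (op V)) (𝒮.presheaf.obj (op (S.basicOpen r))) a = 0 := ha
    rw [IsLocalization.map_eq_zero_iff (Submonoid.powers c)] at h1
    obtain ⟨⟨s, hs⟩, hm⟩ := h1
    obtain ⟨k, rfl⟩ := (Submonoid.mem_powers_iff _ _).mp hs
    exact ⟨k, hm⟩
  · intro ν
    obtain ⟨k, t, ht⟩ := hlocM.exists_extension r (show Γ((AMod.toOS 𝒮.toQCAlg).obj ℳ.mod, S.basicOpen r) from ν)
    refine ⟨t, k, ?_⟩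
    have hnat : (𝒮.str.app (op (S.basicOpen r))).hom (S.presheaf.map (homOfLE (S.basicOpen_le r)).op r) = ψ c := by
      have := 𝒮.str.naturality (homOfLE (S.basicOpen_le r)).op
      exact congrArg (fun f => f.hom r) this
    refine Eq.trans ?_ ht.symm
    change ψ c ^ k • ν = ((𝒮.str.app (op (S.basicOpen r))).hom
      ((S.presheaf.map (homOfLE (S.basicOpen_le r)).op r) ^ k)) • ν
    rw [map_pow, hnat]
  · intro m hm
    obtain ⟨k, hk⟩ := hlocM.exists_pow_smul_eq_zero r (show Γ((AMod.toOS 𝒮.toQCAlg).obj ℳ.mod, V) from m) hm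
    refine ⟨k, Eq.trans ?_ hk⟩
    change c ^ k • m = ((𝒮.str.app (op V)).hom (r ^ k)) • m
    rw [map_pow]

section tau

variable (n : ℤ)

/-- the comparison of chart modules along `D ≤ V`. -/
noncomputable def tauOf {V D : S.Opens} (hV : IsAffineOpen V) (hD : IsAffineOpen D) (hle : D ≤ V)
    (irr : (𝒮.deg D hD)₊ ≤ ((𝒮.deg V hV)₊).map (𝒮.res hV hD hle))
    (geo : Proj.map (𝒮.res hV hD hle) irr ≫ RelProj.emb p chart V hV = RelProj.emb p chart D hD) :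
    (Scheme.Modules.pushforward (RelProj.emb p chart V hV)).obj
        (GrMod.tilde (𝒮.deg V hV) (ℳ.deg V hV) n) ⟶
      (Scheme.Modules.pushforward (RelProj.emb p chart D hD)).obj
        (GrMod.tilde (𝒮.deg D hD) (ℳ.deg D hD) n) :=
  (Scheme.Modules.pushforward (RelProj.emb p chart V hV)).map
      (GrMod.comap (𝒮.res hV hD hle) irr (ℳ.res hV hD hle) (ℳ.res_mem hV hD hle) n) ≫
    (Scheme.Modules.pushforwardComp (Proj.map (𝒮.res hV hD hle) irr) (RelProj.emb p chart V hV)).hom.app _ ≫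
    (Scheme.Modules.pushforwardCongr geo).hom.app _

theorem val_tauOf {V D : S.Opens} (hV : IsAffineOpen V) (hD : IsAffineOpen D) (hle : D ≤ V)
    (irr : (𝒮.deg D hD)₊ ≤ ((𝒮.deg V hV)₊).map (𝒮.res hV hD hle))
    (geo : Proj.map (𝒮.res hV hD hle) irr ≫ RelProj.emb p chart V hV = RelProj.emb p chart D hD)
    (W : P.Opens) (t : Γ(GrMod.tilde (𝒮.deg V hV) (ℳ.deg V hV) n, RelProj.emb p chart V hV ⁻¹ᵁ W))
    (y : ProjectiveSpectrum (𝒮.deg D hD)) (hy : (RelProj.emb p chart D hD).base y ∈ W)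
    (hy' : (RelProj.emb p chart V hV).base (ProjectiveSpectrum.comap (𝒮.res hV hD hle) irr y) ∈ W) :
    GrMod.val (V := RelProj.emb p chart D hD ⁻¹ᵁ W) ((tauOf p chart ℳ n hV hD hle irr geo).app W t) ⟨y, hy⟩ =
      GrMod.locModMap (𝒮.res hV hD hle) irr (ℳ.res hV hD hle) y
        (GrMod.val (V := RelProj.emb p chart V hV ⁻¹ᵁ W) t ⟨_, hy'⟩) :=
  rfl

theorem res_res_apply_mod {V D D₃ : S.Opens} (hV : IsAffineOpen V) (hD : IsAffineOpen D) (hD₃ : IsAffineOpen D₃)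
    (hle₁ : D ≤ V) (hle₂ : D₃ ≤ D) (x : ℳ.mod.val.obj (op V)) :
    ℳ.res hD hD₃ hle₂ (ℳ.res hV hD hle₁ x) = ℳ.res hV hD₃ (hle₂.trans hle₁) x := by
  change (ℳ.mod.val.presheaf.map (homOfLE hle₂).op) ((ℳ.mod.val.presheaf.map (homOfLE hle₁).op) x) =
    (ℳ.mod.val.presheaf.map (homOfLE (hle₂.trans hle₁)).op) x
  rw [← ConcreteCategory.comp_apply, ← Functor.map_comp]
  rfl

theorem tauOf_comp {V D D₃ : S.Opens} (hV : IsAffineOpen V) (hD : IsAffineOpen D) (hD₃ : IsAffineOpen D₃)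
    (hle₁ : D ≤ V) (hle₂ : D₃ ≤ D)
    (irr₁ : (𝒮.deg D hD)₊ ≤ ((𝒮.deg V hV)₊).map (𝒮.res hV hD hle₁))
    (geo₁ : Proj.map (𝒮.res hV hD hle₁) irr₁ ≫ RelProj.emb p chart V hV = RelProj.emb p chart D hD)
    (irr₂ : (𝒮.deg D₃ hD₃)₊ ≤ ((𝒮.deg D hD)₊).map (𝒮.res hD hD₃ hle₂))
    (geo₂ : Proj.map (𝒮.res hD hD₃ hle₂) irr₂ ≫ RelProj.emb p chart D hD = RelProj.emb p chart D₃ hD₃)
    (irr₃ : (𝒮.deg D₃ hD₃)₊ ≤ ((𝒮.deg V hV)₊).map (𝒮.res hV hD₃ (hle₂.trans hle₁)))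
    (geo₃ : Proj.map (𝒮.res hV hD₃ (hle₂.trans hle₁)) irr₃ ≫ RelProj.emb p chart V hV =
      RelProj.emb p chart D₃ hD₃) :
    tauOf p chart ℳ n hV hD hle₁ irr₁ geo₁ ≫ tauOf p chart ℳ n hD hD₃ hle₂ irr₂ geo₂ =
      tauOf p chart ℳ n hV hD₃ (hle₂.trans hle₁) irr₃ geo₃ := by
  apply Scheme.Modules.hom_ext
  intro W
  ext t
  apply tilde_ext
  rintro ⟨y, hy⟩
  have hy₂ : (RelProj.emb p chart D hD).base (ProjectiveSpectrum.comap (𝒮.res hD hD₃ hle₂) irr₂ y) ∈ W := by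
    rw [emb_comap_of_geo p chart hD hD₃ hle₂ irr₂ geo₂]; exact hy
  have hy₁ : (RelProj.emb p chart V hV).base (ProjectiveSpectrum.comap (𝒮.res hV hD hle₁) irr₁
      (ProjectiveSpectrum.comap (𝒮.res hD hD₃ hle₂) irr₂ y)) ∈ W := by
    rw [emb_comap_of_geo p chart hV hD hle₁ irr₁ geo₁]; exact hy₂
  have hy₃ : (RelProj.emb p chart V hV).base
      (ProjectiveSpectrum.comap (𝒮.res hV hD₃ (hle₂.trans hle₁)) irr₃ y) ∈ W := by
    rw [emb_comap_of_geo p chart hV hD₃ (hle₂.trans hle₁) irr₃ geo₃]; exact hy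
  change GrMod.locModMap (𝒮.res hD hD₃ hle₂) irr₂ (ℳ.res hD hD₃ hle₂) y
      (GrMod.locModMap (𝒮.res hV hD hle₁) irr₁ (ℳ.res hV hD hle₁) _
        (GrMod.val (V := RelProj.emb p chart V hV ⁻¹ᵁ W) t ⟨_, hy₁⟩)) =
    GrMod.locModMap (𝒮.res hV hD₃ (hle₂.trans hle₁)) irr₃ (ℳ.res hV hD₃ (hle₂.trans hle₁)) y
      (GrMod.val (V := RelProj.emb p chart V hV ⁻¹ᵁ W) t ⟨_, hy₃⟩)
  obtain ⟨a, f, hf₁, hf₂, e₁, e₂⟩ := exists_mk_eq_mod (𝒮.deg V hV) (ℳ.deg V hV)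
    (RelProj.emb p chart V hV ⁻¹ᵁ W) t _ _
    (comap_comap hV hD hD₃ hle₁ hle₂ irr₁ irr₂ irr₃ y) hy₁ hy₃
  rw [e₁, e₂, GrMod.locModMap_mk, GrMod.locModMap_mk, GrMod.locModMap_mk]
  exact mk_congr_mod _ (res_res_apply_mod ℳ hV hD hD₃ hle₁ hle₂ a) (res_res_apply hV hD hD₃ hle₁ hle₂ f) _ _

theorem tauOf_bijective (hP : RelProj.IsRelProj 𝒮 p chart)
    (hℳ : Coh.IsQCoh ((AMod.toOS 𝒮.toQCAlg).obj ℳ.mod)) {V D : S.Opens} (hV : IsAffineOpen V)
    (hD : IsAffineOpen D) (hb : IsBasic V D) (W : P.Opens) (hW : W ≤ p ⁻¹ᵁ D) :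
    Function.Bijective ((tauOf p chart ℳ n hV hD hb.le (irr_of_isBasic hV hD hb)
      (geo_of_isBasic hP hV hD hb)).app W) := by
  have geo := geo_of_isBasic hP hV hD hb
  obtain ⟨c, hc, hunit, hsurj, hker, hvsurj, hvker⟩ := loc_facts_mod ℳ hℳ hV hD hb
  have hec := emb_comap_of_geo p chart hV hD hb.le (irr_of_isBasic hV hD hb) geo
  have hsub : (RelProj.emb p chart D hD ⁻¹ᵁ W : (Proj (𝒮.deg D hD)).Opens).1 ⊆
      ProjectiveSpectrum.comap (𝒮.res hV hD hb.le) (irr_of_isBasic hV hD hb) ⁻¹'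
        (RelProj.emb p chart V hV ⁻¹ᵁ W : (Proj (𝒮.deg V hV)).Opens).1 := by
    intro y hy
    show (RelProj.emb p chart V hV).base _ ∈ W
    rw [hec]; exact hy
  have hcov : ∀ y ∈ (RelProj.emb p chart V hV ⁻¹ᵁ W : (Proj (𝒮.deg V hV)).Opens),
      ∃ y'' ∈ (RelProj.emb p chart D hD ⁻¹ᵁ W : (Proj (𝒮.deg D hD)).Opens),
        ProjectiveSpectrum.comap (𝒮.res hV hD hb.le) (irr_of_isBasic hV hD hb) y'' = y := by
    intro y hy
    obtain ⟨y'', hy''⟩ := le_opensRange_emb p chart D hD (hW hy)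
    have hy''e : (RelProj.emb p chart D hD).base y'' = (RelProj.emb p chart V hV).base y := hy''
    refine ⟨y'', ?_, ?_⟩
    · show (RelProj.emb p chart D hD).base y'' ∈ W
      rw [hy''e]; exact hy
    · apply emb_injective p chart V hV
      exact (hec y'').trans hy''e
  have hinj : Function.Injective
      (ProjectiveSpectrum.comap (𝒮.res hV hD hb.le) (irr_of_isBasic hV hD hb)) := by
    intro y₁ y₂ h
    apply emb_injective p chart D hD
    have h1 := hec y₁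
    have h2 := hec y₂
    rw [h] at h1
    exact h1.symm.trans h2
  have hopen : IsOpenMap (ProjectiveSpectrum.comap (𝒮.res hV hD hb.le) (irr_of_isBasic hV hD hb)) := by
    haveI : IsOpenImmersion (Proj.map (𝒮.res hV hD hb.le) (irr_of_isBasic hV hD hb) ≫
        RelProj.emb p chart V hV) := by
      rw [geo]; infer_instance
    haveI : IsOpenImmersion (Proj.map (𝒮.res hV hD hb.le) (irr_of_isBasic hV hD hb)) :=
      IsOpenImmersion.of_comp _ (RelProj.emb p chart V hV)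
    exact (Proj.map (𝒮.res hV hD hb.le) (irr_of_isBasic hV hD hb)).isOpenEmbedding.isOpenMap
  have hbij := Groth.Agent.R2.H36.GrModLocSect.comapApp_bijective (𝒮.res hV hD hb.le)
    (irr_of_isBasic hV hD hb) (ℳ.res hV hD hb.le) (ℳ.res_mem hV hD hb.le) c hc hunit hsurj hvsurj hvker
    n _ _ hsub hcov hinj hopen
  exact hbij

end tau

/-- **existence of the module `(ℳ(n))~`** on a relative Proj, for `ℳ` quasi-coherent. -/
theorem exists_isRelTilde (hP : RelProj.IsRelProj 𝒮 p chart)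
    (hℳ : Coh.IsQCoh ((AMod.toOS 𝒮.toQCAlg).obj ℳ.mod)) (n : ℤ) :
    ∃ (F : P.Modules) (lam : ∀ (U : S.Opens) (hU : IsAffineOpen U),
      F ⟶ (Scheme.Modules.pushforward (RelProj.emb p chart U hU)).obj
        (GrMod.tilde (𝒮.deg U hU) (ℳ.deg U hU) n)),
      RelProj.IsRelTilde 𝒮 p chart ℳ n F lam := by
  obtain ⟨L, lam, hbij, hcond⟩ := exists_glue p
    (fun U hU => (Scheme.Modules.pushforward (RelProj.emb p chart U hU)).obj
      (GrMod.tilde (𝒮.deg U hU) (ℳ.deg U hU) n))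
    (fun V hV D hD hb => tauOf p chart ℳ n hV hD hb.le (irr_of_isBasic hV hD hb) (geo_of_isBasic hP hV hD hb))
    (fun V hV W => res_push_bijective (RelProj.emb p chart V hV) _ (p ⁻¹ᵁ V) W
      (fun z => opensRange_emb_le p chart V hV ⟨z, rfl⟩))
    (fun V hV D hD hb W hW => tauOf_bijective p chart ℳ n hP hℳ hV hD hb W hW)
    (fun V hV D hD D₃ hD₃ hb₁ hb₂ hb₃ => tauOf_comp p chart ℳ n hV hD hD₃ hb₁.le hb₂.le _ _ _ _ _ _)
  refine ⟨L, lam, ⟨hbij, ?_⟩⟩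
  intro U hU r W s y hy hy'
  have h3 := hcond U hU (S.basicOpen r) (hU.basicOpen r) ⟨r, rfl⟩
  have h4 := congrArg (fun φ : L ⟶ (Scheme.Modules.pushforward (RelProj.emb p chart (S.basicOpen r)
    (hU.basicOpen r))).obj (GrMod.tilde (𝒮.deg (S.basicOpen r) (hU.basicOpen r))
      (ℳ.deg (S.basicOpen r) (hU.basicOpen r)) n) => φ.app W s) h3
  exact (congrArg (fun σ : Γ(GrMod.tilde (𝒮.deg (S.basicOpen r) (hU.basicOpen r))
      (ℳ.deg (S.basicOpen r) (hU.basicOpen r)) n,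
    RelProj.emb p chart (S.basicOpen r) (hU.basicOpen r) ⁻¹ᵁ W) => GrMod.val σ ⟨y, hy⟩) h4.symm).trans rfl

end Groth.Agent.R2.H36.RelTildeExist
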