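import Mathlib
import Groth.Prelude.Def_Omega4
import Groth.Prelude.Def_Flat
import Groth.Prelude.Def_FlatMod2
import Groth.Agent.Lib.Helper18OmLS15
import Groth.Agent.Lib.Helper20LocFree
import Groth.Agent.Lib.Helper3SmDim

/-!
# Differentials of a smooth morphism: free of rank the local fibre dimension (helper36)

EGA IV 17.10.2: on a standard smooth chart of relative dimension `n`, `Ω'` is free of rank `n`
(Mathlib's `SubmersivePresentation.basisKaehler` through helper18's `sectionsEquiv`), and the fibre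
has local dimension `n` there (helper3's `fibreDimAt_eq_of_chart`).
-/

set_option autoImplicit false
set_option linter.style.haveILetI false
universe u
open CategoryTheory AlgebraicGeometry Limits TopologicalSpace Opposite TensorProduct

namespace Groth.Agent.R2.H36.SmOmegaRank

open Groth.Agent.Helper18OmLS Groth.Agent.Lib.Helper20.PullbackAff Groth.Agent.Lib.Helper20.Thickening

/-- ring level: a standard smooth algebra of relative dimension `n` has `Ω` free on `n` generators
(no nontriviality needed). -/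
theorem nonempty_basis_fin {R S : Type u} [CommRing R] [CommRing S] [Algebra R S] (n : ℕ)
    [Algebra.IsStandardSmoothOfRelativeDimension n R S] :
    Nonempty (Module.Basis (Fin n) S Ω[S⁄R]) := by
  classical
  obtain ⟨ι, σ, _, _, P, hP⟩ := ‹Algebra.IsStandardSmoothOfRelativeDimension n R S›
  letI : Fintype ι := Fintype.ofFinite ι
  letI : Fintype σ := Fintype.ofFinite σ
  have hcard : Fintype.card ((Set.range P.map)ᶜ : Set ι) = n := by
    rw [← hP]
    simp only [Fintype.card_compl_set, Algebra.Presentation.dimension, Nat.card_eq_fintype_card,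
      Set.card_range_of_injective P.map_inj]
  exact ⟨P.basisKaehler.reindex (Fintype.equivFinOfCardEq hcard)⟩

section chart
variable {X Y : Scheme.{u}} (f : X ⟶ Y) (Ω' : X.Modules) (d : OmegaSh.Der f Ω')
  (hd : OmegaSh.IsUniversal d)

include hd in
/-- on a standard smooth chart of relative dimension `n`, `Ω'` is free of rank `n`. -/
theorem nonempty_restrict_iso_freeMod_of_chart (n : ℕ)
    {V : Y.Opens} (hV : IsAffineOpen V) {U : X.Opens} (hU : IsAffineOpen U)
    (e : U ≤ f ⁻¹ᵁ V) (h : (f.appLE V U e).hom.IsStandardSmoothOfRelativeDimension n) :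
    Nonempty (Ω'.restrict U.ι ≅ FlatMod.freeMod (↑U) n) := by
  haveI : Ω'.IsQuasicoherent := isQuasicoherent_of_isUniversal f d hd
  letI : Algebra Γ(Y, V) Γ(X, U) := (f.appLE V U e).hom.toAlgebra
  haveI : Algebra.IsStandardSmoothOfRelativeDimension n Γ(Y, V) Γ(X, U) := h
  let sX := sectionsEquiv f d hd hU hV e rfl
  let eq : Ω[Γ(X, U)⁄Γ(Y, V)] ≃ₗ[Γ(X, U)] (ΓUF hU).obj Ω' := sX.symm.trans (ΓUEquiv hU Ω')
  obtain ⟨b⟩ := nonempty_basis_fin (R := Γ(Y, V)) (S := Γ(X, U)) n
  exact ⟨Groth.Agent.Lib.Helper20.LocFree.restrictIsoFreeMod' Ω' hU (b.map eq)⟩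

include hd in
/-- EGA IV 17.10.2: for `f` smooth, `Ω'` is locally free of rank the local fibre dimension. -/
theorem exists_restrict_iso_freeMod_fibreDimAt [Smooth f] (x : X) :
    ∃ (U : X.Opens) (n : ℕ), x ∈ U ∧ Nonempty (Ω'.restrict U.ι ≅ FlatMod.freeMod (↑U) n) ∧
      FlatMor.fibreDimAt f x = (n : WithBot ℕ∞) := by
  obtain ⟨V, hV, U, hU, hxU, e, hf⟩ := Smooth.exists_isStandardSmooth f x
  obtain ⟨n, hn⟩ := Groth.Agent.Lib.Helper3.SmDim.exists_relDim_of_isStandardSmooth _ hf
  exact ⟨U, n, hxU, nonempty_restrict_iso_freeMod_of_chart f Ω' d hd n hV hU e hn,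
    Groth.Agent.Lib.Helper3.SmDim.fibreDimAt_eq_of_chart f n x hV hU hxU e hn⟩

end chart

end Groth.Agent.R2.H36.SmOmegaRank
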