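import Mathlib

/-!
# Kähler differentials of a symmetric algebra, abstract form (helper36)

For `f : M →ₗ[R] B` exhibiting `B` as the symmetric algebra of `M` (`IsSymmetricAlgebra f`), the
`B`-linear map `B ⊗[R] M → Ω[B⁄R]`, `b ⊗ m ↦ b • D (f m)` is bijective. (Generalises
`Groth.Agent.Lib.Helper10.kaehler_symmetricAlgebra_bijective` from `SymmetricAlgebra R M` itself.)
-/

set_option autoImplicit false
universe u
open TensorProduct

namespace Groth.Agent.R2.H36.SymKaehler

section
variable {R : Type u} [CommRing R] {M : Type u} [AddCommGroup M] [Module R M]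
  {B : Type u} [CommRing B] [Algebra R B] {f : M →ₗ[R] B} (h : IsSymmetricAlgebra f)
  (N : Type u) [AddCommGroup N] [Module R N] [Module B N] [IsScalarTower R B N]

include h in
/-- A derivation out of a symmetric algebra with prescribed values on generators. -/
theorem exists_derivation (g : M →ₗ[R] N) :
    ∃ δ : Derivation R B N, ∀ m, δ (f m) = g m := by
  let _ : Module Bᵐᵒᵖ N := Module.compHom _ ((RingHom.id B).fromOpposite mul_comm)
  have : IsCentralScalar B N := ⟨fun r m => rfl⟩
  have : IsScalarTower R Bᵐᵒᵖ N := ⟨fun a c n => by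
    change (a • c).unop • n = a • (c.unop • n)
    rw [MulOpposite.unop_smul, smul_assoc]⟩
  let f' : M →ₗ[R] TrivSqZeroExt B N :=
    (TrivSqZeroExt.inlAlgHom R B N).toLinearMap ∘ₗ f +
      ((TrivSqZeroExt.inrHom B N).restrictScalars R) ∘ₗ g
  let F : B →ₐ[R] TrivSqZeroExt B N := h.lift f'
  have hFf : ∀ m, F (f m) = f' m := fun m => h.lift_eq f' m
  have hF1 : ∀ c, (F c).fst = c := by
    intro c
    have : (TrivSqZeroExt.fstHom R B N).comp F = AlgHom.id R _ := by
      apply h.algHom_ext
      ext m
      simp [hFf, f']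
    exact congrArg (fun φ : B →ₐ[R] B => φ c) this
  refine ⟨{ toLinearMap := (TrivSqZeroExt.sndHom B N).restrictScalars R ∘ₗ F.toLinearMap
            map_one_eq_zero' := ?_
            leibniz' := ?_ }, ?_⟩
  · simp
  · intro a b
    simp only [LinearMap.coe_comp, Function.comp_apply, LinearMap.coe_restrictScalars,
      AlgHom.toLinearMap_apply, map_mul]
    change (F a * F b).snd = _
    rw [TrivSqZeroExt.snd_mul, hF1, hF1]
    rfl
  · intro m
    simp [hFf, f']

end

section
variable {R : Type u} [CommRing R] {M : Type u} [AddCommGroup M] [Module R M]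
  {B : Type u} [CommRing B] [Algebra R B] {f : M →ₗ[R] B} (h : IsSymmetricAlgebra f)

include h in
theorem kaehler_bijective :
    Function.Bijective (LinearMap.liftBaseChange B
      ((KaehlerDifferential.D R B).toLinearMap.restrictScalars R ∘ₗ f)) := by
  set φ := LinearMap.liftBaseChange B
      ((KaehlerDifferential.D R B).toLinearMap.restrictScalars R ∘ₗ f) with hφ
  obtain ⟨δ, hδ⟩ := exists_derivation h (B ⊗[R] M) (TensorProduct.mk R B M 1)
  let ψ : Ω[B⁄R] →ₗ[B] (B ⊗[R] M) := δ.liftKaehlerDifferential
  have hφ1 : ∀ (c : B) (m : M), φ (c ⊗ₜ m) = c • KaehlerDifferential.D R B (f m) := by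
    intro c m
    simp [hφ]
  have h1 : ψ ∘ₗ φ = LinearMap.id := by
    apply TensorProduct.AlgebraTensorModule.ext
    intro c m
    simp only [LinearMap.coe_comp, Function.comp_apply, LinearMap.id_coe, id_eq]
    rw [hφ1, map_smul]
    change c • δ.liftKaehlerDifferential (KaehlerDifferential.D R _ _) = _
    rw [Derivation.liftKaehlerDifferential_comp_D, hδ, TensorProduct.mk_apply,
      TensorProduct.smul_tmul', smul_eq_mul, mul_one]
  have h2 : ∀ c : B, φ (δ c) = KaehlerDifferential.D R _ c := by
    intro c
    induction c using h.induction with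
    | algebraMap r => rw [Derivation.map_algebraMap, Derivation.map_algebraMap, map_zero]
    | ι m => rw [hδ, TensorProduct.mk_apply, hφ1, one_smul]
    | mul a b ha hb =>
      rw [Derivation.leibniz, Derivation.leibniz, map_add, map_smul, map_smul, ha, hb]
    | add a b ha hb => rw [map_add, map_add, map_add, ha, hb]
  have h3 : φ ∘ₗ ψ = LinearMap.id := by
    apply LinearMap.ext_on_range (KaehlerDifferential.span_range_derivation R B)
    intro c
    simp only [LinearMap.coe_comp, Function.comp_apply, LinearMap.id_coe, id_eq]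
    change φ (δ.liftKaehlerDifferential (KaehlerDifferential.D R _ c)) = _
    rw [Derivation.liftKaehlerDifferential_comp_D, h2]
  refine ⟨?_, ?_⟩
  · intro x y hxy
    have := congrArg ψ hxy
    rwa [← LinearMap.comp_apply, ← LinearMap.comp_apply, h1] at this
  · intro y
    exact ⟨ψ y, by rw [← LinearMap.comp_apply, h3]; rfl⟩

end

end Groth.Agent.R2.H36.SymKaehler
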