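import Mathlib
import Groth.Prelude.Def_RelSpec
import Groth.Prelude.Def_Omega4
import Groth.Agent.R2.H36SymKaehler
import Groth.Agent.Lib.Helper13SymAlgLocal
import Groth.Agent.Lib.Helper18OmLS14
import Groth.Agent.Lib.Helper2PullbackSec
import Groth.Agent.S8255

/-!
# Differentials of a vector bundle `V(E)` (helper36): `p^* E ≅ Ω_{V(E)/S}` (EGA IV 16.4.8-style)
-/

set_option autoImplicit false
set_option linter.style.haveILetI false
universe u
open CategoryTheory AlgebraicGeometry Limits TopologicalSpace Opposite TensorProduct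

namespace Groth.Agent.R2.H36.VBOmega

open Groth.Agent.Helper18OmLS Groth.Agent.Helper13PullbackUnit Groth.Agent.Helper13SymAlg
  Groth.Agent.Helper13SymLoc

variable {S : Scheme.{u}} (E : S.Modules) [E.IsQuasicoherent]
  (A : RelSpec.QCAlg S) (j : E ⟶ A.toModule)

section chart
variable {U : S.Opens} (hU : IsAffineOpen U)

omit [E.IsQuasicoherent] in
theorem isIso_gammaAff : IsIso (A.gammaAff U hU) := by
  rw [← A.gammaMap_app U hU]
  haveI := Groth.Agent.S8255.result A
  infer_instance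

/-- the generator `t'` of `Γ(V(E), p⁻¹U)` attached to a section `m` of `E` over `U`. -/
noncomputable def gen (m : Γ(E, U)) : Γ(A.spec, A.π ⁻¹ᵁ U) :=
  haveI := isIso_gammaAff A hU
  (inv (A.gammaAff U hU)).hom (φAdd E A j U m)

omit [E.IsQuasicoherent] in
theorem gammaAff_gen (m : Γ(E, U)) : (A.gammaAff U hU).hom (gen E A j hU m) = φAdd E A j U m := by
  haveI := isIso_gammaAff A hU
  exact congr($(IsIso.inv_hom_id (A.gammaAff U hU)) (φAdd E A j U m))

omit [E.IsQuasicoherent] in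
theorem gammaMap_gen (m : Γ(E, U)) :
    (A.gammaMap.app (op U)).hom (gen E A j hU m) = (j.app U).hom m := by
  rw [A.gammaMap_app U hU]
  exact gammaAff_gen E A j hU m

omit [E.IsQuasicoherent] in
theorem inv_gammaAff_str (r : Γ(S, U)) :
    haveI := isIso_gammaAff A hU
    (inv (A.gammaAff U hU)).hom ((A.str.app (op U)).hom r) = (A.π.app U).hom r := by
  haveI := isIso_gammaAff A hU
  rw [← A.π_app_gammaAff U hU]
  exact congr($(IsIso.hom_inv_id (A.gammaAff U hU)) ((A.π.app U).hom r))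

end chart

section chart2
variable {U : S.Opens} (hU : IsAffineOpen U)

omit [E.IsQuasicoherent] in
theorem gen_add (x y : Γ(E, U)) : gen E A j hU (x + y) = gen E A j hU x + gen E A j hU y := by
  unfold gen
  rw [map_add, map_add]

theorem gen_smul (r : Γ(S, U)) (m : Γ(E, U)) :
    gen E A j hU (r • m) = (A.π.app U).hom r * gen E A j hU m := by
  unfold gen
  rw [φAdd_smul, map_mul, inv_gammaAff_str]

/-- `m ↦ t'` as a linear map over the functions on `U`. -/
noncomputable def genLin :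
    letI : Algebra Γ(S, U) Γ(A.spec, A.π ⁻¹ᵁ U) := (A.π.app U).hom.toAlgebra
    Γ(E, U) →ₗ[Γ(S, U)] Γ(A.spec, A.π ⁻¹ᵁ U) :=
  letI : Algebra Γ(S, U) Γ(A.spec, A.π ⁻¹ᵁ U) := (A.π.app U).hom.toAlgebra
  { toFun := gen E A j hU
    map_add' := gen_add E A j hU
    map_smul' := gen_smul E A j hU }

/-- the functions on `p⁻¹U` are the symmetric algebra of `Γ(U, E)`. -/
theorem isSymmetricAlgebra_genLin (hA : RelSpec.IsSymAlg E A j) :
    letI : Algebra Γ(S, U) Γ(A.spec, A.π ⁻¹ᵁ U) := (A.π.app U).hom.toAlgebra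
    IsSymmetricAlgebra (genLin E A j hU) := by
  letI : Algebra Γ(S, U) Γ(A.spec, A.π ⁻¹ᵁ U) := (A.π.app U).hom.toAlgebra
  haveI := isIso_gammaAff A hU
  have hcomp : (A.gammaAff U hU).hom.comp
      (SymmetricAlgebra.lift (genLin E A j hU)).toRingHom = σ E A j U := by
    refine ringHom_ext (fun a => ?_) (fun m => ?_)
    · change (A.gammaAff U hU).hom
        (SymmetricAlgebra.lift (genLin E A j hU) (algebraMap _ _ a)) = _
      rw [AlgHom.commutes]
      unfold σ
      rw [symLift_algebraMap]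
      exact congr($(A.π_app_gammaAff U hU) a)
    · change (A.gammaAff U hU).hom
        (SymmetricAlgebra.lift (genLin E A j hU) (SymmetricAlgebra.ι _ _ m)) = _
      rw [SymmetricAlgebra.lift_ι_apply]
      unfold σ
      rw [symLift_ι]
      exact gammaAff_gen E A j hU m
  have hσ := bijective_σ E U hU hA
  have hg : Function.Bijective (A.gammaAff U hU).hom :=
    ConcreteCategory.bijective_of_isIso (A.gammaAff U hU)
  have h2 : Function.Bijective ((A.gammaAff U hU).hom ∘
      (SymmetricAlgebra.lift (genLin E A j hU))) := by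
    have : ((A.gammaAff U hU).hom ∘ (SymmetricAlgebra.lift (genLin E A j hU))) =
        σ E A j U := by
      rw [← hcomp]
      rfl
    rw [this]
    exact hσ
  exact (Function.Bijective.of_comp_iff' hg _).mp h2

end chart2

section main
variable (hA : RelSpec.IsSymAlg E A j)
  (Ω' : A.spec.Modules) (d : OmegaSh.Der A.π Ω') (hd : OmegaSh.IsUniversal d)
  (φ : (Scheme.Modules.pullback A.π).obj E ⟶ Ω')
  (hφ : ∀ (U : S.Opens) (t : Γ(E, U)) (t' : Γ(A.spec, A.π ⁻¹ᵁ U)),
    A.gammaMap.app (op U) t' = j.app U t →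
      φ.app (A.π ⁻¹ᵁ U) (OmegaSh.pullSect A.π E U t) = d.app (A.π ⁻¹ᵁ U) t')

include hA hd hφ in
theorem chart_bijective {U : S.Opens} (hU : IsAffineOpen U) :
    Function.Bijective (φ.app (A.π ⁻¹ᵁ U)) := by
  letI : Algebra Γ(S, U) Γ(A.spec, A.π ⁻¹ᵁ U) := (A.π.app U).hom.toAlgebra
  have hW : IsAffineOpen (A.π ⁻¹ᵁ U) := hU.preimage A.π
  have halg : algebraMap Γ(S, U) Γ(A.spec, A.π ⁻¹ᵁ U) =
      (A.π.appLE U (A.π ⁻¹ᵁ U) le_rfl).hom := by
    rw [Scheme.Hom.appLE_eq_app]
    rfl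
  obtain ⟨e, he⟩ := exists_pullback_equiv A.π E (le_refl (A.π ⁻¹ᵁ U)) hU hW halg
  let sX := sectionsEquiv A.π d hd hW hU le_rfl halg
  have hsX : ∀ b, sX (d.app (A.π ⁻¹ᵁ U) b) =
      KaehlerDifferential.D Γ(S, U) Γ(A.spec, A.π ⁻¹ᵁ U) b :=
    sectionsEquiv_d A.π d hd hW hU le_rfl halg
  have hsym := isSymmetricAlgebra_genLin E A j hU hA
  have hbij := Groth.Agent.R2.H36.SymKaehler.kaehler_bijective hsym
  have hunit : ∀ m : Γ(E, U), φ.app (A.π ⁻¹ᵁ U) (unitSec A.π E (le_refl (A.π ⁻¹ᵁ U)) m) =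
      d.app (A.π ⁻¹ᵁ U) (gen E A j hU m) := by
    intro m
    rw [unitSec_apply, presheaf_map_homOfLE_refl]
    exact hφ U m (gen E A j hU m) (gammaMap_gen E A j hU m)
  have hcomp : ∀ t : Γ(A.spec, A.π ⁻¹ᵁ U) ⊗[Γ(S, U)] Γ(E, U),
      sX (φ.app (A.π ⁻¹ᵁ U) (e t)) =
        LinearMap.liftBaseChange Γ(A.spec, A.π ⁻¹ᵁ U)
          ((KaehlerDifferential.D Γ(S, U) Γ(A.spec, A.π ⁻¹ᵁ U)).toLinearMap.restrictScalars
            Γ(S, U) ∘ₗ genLin E A j hU) t := by
    intro t
    induction t using TensorProduct.induction_on with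
    | zero => rw [map_zero, map_zero, map_zero, map_zero]
    | tmul b m =>
      rw [he, Scheme.Modules.Hom.app_smul, map_smul, hunit, hsX, LinearMap.liftBaseChange_tmul]
      rfl
    | add x y hx hy => rw [map_add, map_add, map_add, map_add, hx, hy]
  have h3 : Function.Bijective (fun t => sX (φ.app (A.π ⁻¹ᵁ U) (e t))) := by
    have : (fun t => sX (φ.app (A.π ⁻¹ᵁ U) (e t))) = ⇑(LinearMap.liftBaseChange
        Γ(A.spec, A.π ⁻¹ᵁ U) ((KaehlerDifferential.D Γ(S, U)
          Γ(A.spec, A.π ⁻¹ᵁ U)).toLinearMap.restrictScalars Γ(S, U) ∘ₗ genLin E A j hU)) :=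
      funext hcomp
    rw [this]
    exact hbij
  have h4 : Function.Bijective (fun x => sX (φ.app (A.π ⁻¹ᵁ U) x)) := by
    have : (fun x => sX (φ.app (A.π ⁻¹ᵁ U) x)) =
        (fun t => sX (φ.app (A.π ⁻¹ᵁ U) (e t))) ∘ e.symm := by
      funext x
      simp
    rw [this]
    exact h3.comp e.symm.bijective
  exact (Function.Bijective.of_comp_iff' sX.bijective _).mp h4

include hA hd hφ in
/-- **differentials of a vector bundle**: `p^* E ≅ Ω_{V(E)/S}`. -/
theorem isIso_of_isSymAlg : IsIso φ := by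
  haveI : Ω'.IsQuasicoherent := isQuasicoherent_of_isUniversal A.π d hd
  haveI : ((Scheme.Modules.pullback A.π).obj E).IsQuasicoherent :=
    Groth.Agent.Lib.Helper2.PullbackSec.isQuasicoherent_pullback A.π E
  refine isIso_of_bijective_app_cover φ (fun U : S.affineOpens => A.π ⁻¹ᵁ (U : S.Opens)) ?_
    (fun U => U.2.preimage A.π) (fun U => chart_bijective E A j hA Ω' d hd φ hφ U.2)
  rw [TopologicalSpace.IsOpenCover, eq_top_iff]
  intro x _
  obtain ⟨V, hV, hxV, -⟩ := TopologicalSpace.Opens.isBasis_iff_nbhd.mp S.isBasis_affineOpens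
    (TopologicalSpace.Opens.mem_top (A.π x))
  exact TopologicalSpace.Opens.mem_iSup.mpr ⟨⟨V, hV⟩, hxV⟩

end main

end Groth.Agent.R2.H36.VBOmega
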