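-- helper83: INTERFACE FILE of the mini-project "fpqc descent of affine morphisms of algebraic
-- spaces" (S10533 S10534 S10539 S10540 S10545 S10605).  Named statements only.
import Mathlib
import Groth.Prelude.Def_AlgSpCov

set_option autoImplicit false
universe u
open CategoryTheory CategoryTheory.Limits AlgebraicGeometry
open AlgSp

namespace Groth.Agent.R2.H83.AffDescSpec

/-- PACKAGE AD-Q: the affine quotient `Spec (eq (Γ(U) ⇉ Γ(R)))` commutes with flat base change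
whenever the base-changed relation is effective with affine quotient. -/
def AffQuotStmt : Prop :=
  ∀ {Z U R : Scheme.{u}} [IsAffine Z] [IsAffine U] [IsAffine R] (ν : U ⟶ Z) (s t : R ⟶ U)
    (_ : s ≫ ν = t ≫ ν),
    ∃ (Q : Scheme.{u}) (_ : IsAffine Q) (ρ : U ⟶ Q) (σ : Q ⟶ Z), ρ ≫ σ = ν ∧ s ≫ ρ = t ≫ ρ ∧
      ∀ (W V U' R' : Scheme.{u}) (_ : IsAffine W) (_ : IsAffine V) (c : W ⟶ Z) (_ : Flat c)
        (β : V ⟶ W) (uU : U' ⟶ U) (uW : U' ⟶ W) (_ : IsPullback uU uW ν c)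
        (rR : R' ⟶ R) (rW : R' ⟶ W) (_ : IsPullback rR rW (s ≫ ν) c)
        (s' t' : R' ⟶ U') (_ : s' ≫ uU = rR ≫ s) (_ : t' ≫ uU = rR ≫ t) (_ : s' ≫ uW = rW)
        (_ : t' ≫ uW = rW) (q : U' ⟶ V) (_ : Flat q) (_ : Surjective q) (_ : q ≫ β = uW)
        (_ : IsPullback s' t' q q),
        ∃ θ : V ⟶ Q, q ≫ θ = uU ≫ ρ ∧ IsPullback θ β σ c

/-- THEOREM AD-M (the core, helper83): for a morphism `f : X ⟶ Y` of algebraic spaces whose base
changes `p i` along an fpqc covering are "affine with `P`" (tested on affine schemes), the base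
change of `f` to every affine scheme is an affine scheme whose structure morphism has `P`; here `P`
is fpqc local on the target. -/
def MStmt (S : Scheme.{u}) : Prop :=
  ∀ (P : MorphismProperty Scheme.{u}) [IsZariskiLocalAtTarget P]
    [P.DescendsAlong (@Surjective ⊓ @Flat ⊓ @QuasiCompact)]
    {ι : Type u} {Y : AlgSp.Sp S} (Yi : ι → AlgSp.Sp S) (g : ∀ i, Yi i ⟶ Y)
    (_ : AlgSp.IsAlgSpace Y) (_ : AlgSp.IsFpqcCover Yi g) {X : AlgSp.Sp S} (f : X ⟶ Y)
    (_ : AlgSp.IsAlgSpace X) (Xi : ι → AlgSp.Sp S) (p : ∀ i, Xi i ⟶ Yi i) (q : ∀ i, Xi i ⟶ X)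
    (_ : ∀ i, IsPullback (q i) (p i) f (g i))
    (_ : ∀ (i : ι) (W : Over S), IsAffine W.left → ∀ (l : (AlgSp.yon S).obj W ⟶ Yi i),
      ∃ (V : Over S) (β : V ⟶ W) (fst : (AlgSp.yon S).obj V ⟶ Xi i),
        IsPullback fst ((AlgSp.yon S).map β) (p i) l ∧ IsAffine V.left ∧ P β.left)
    (Z : Over S) (_ : IsAffine Z.left) (y : (AlgSp.yon S).obj Z ⟶ Y),
    ∃ (Q : Over S) (σ : Q ⟶ Z) (fst : (AlgSp.yon S).obj Q ⟶ X),
      IsPullback fst ((AlgSp.yon S).map σ) f y ∧ IsAffine Q.left ∧ P σ.left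

end Groth.Agent.R2.H83.AffDescSpec
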