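import Mathlib
import Groth.Agent.R2.H83AffDescSpec
import Groth.Agent.Lib.Helper12ZarGlue
import Groth.Agent.Lib.Helper12Descent
import Groth.Agent.Lib.Helper12Torsor
import Groth.Prelude.Def_AlgSp3
import Groth.Prelude.Def_AlgSpInf
import Groth.Prelude.Def_AlgSpMor5

/-!
# fpqc locality on the base of affine-type morphisms of algebraic spaces, from helper83's core
theorem `MStmt` (helper37; package AD-ROWS of the mini-project algsp-affdesc)

From `hM : Groth.Agent.R2.H83.AffDescSpec.MStmt S` alone: the six rows S10533 (affine), S10534 (closed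
immersions), S10539 (integral), S10540 (finite), S10545 (finite locally free), S10605 (thickenings).
-/

set_option autoImplicit false
set_option backward.isDefEq.respectTransparency.types false
set_option linter.style.haveILetI false
universe u
open CategoryTheory CategoryTheory.Limits AlgebraicGeometry Opposite MorphismProperty
open AlgSp

namespace Groth.Agent.R2.H37.AffDescRows

open Groth.Agent.R2.H83.AffDescSpec

variable {S : Scheme.{u}}

/-- "every base change to an affine scheme is an affine scheme whose structure map has `P`". -/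
def AffWith (P : MorphismProperty Scheme.{u}) : MorphismProperty (AlgSp.Sp S) := fun F G f =>
  ∀ ⦃Z : Over S⦄, IsAffine Z.left → ∀ (g : (AlgSp.yon S).obj Z ⟶ G),
    ∃ (W : Over S) (i : W ⟶ Z) (fst : (AlgSp.yon S).obj W ⟶ F),
      IsPullback fst ((AlgSp.yon S).map i) f g ∧ IsAffine W.left ∧ P i.left

/-- `AffWith P` is stable under base change. -/
lemma affWith_of_isPullback (P : MorphismProperty Scheme.{u}) {F G G' Q : AlgSp.Sp S} {f : F ⟶ G}
    {g' : G' ⟶ G} {fst : Q ⟶ F} {snd : Q ⟶ G'} (sq : IsPullback fst snd f g')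
    (hf : AffWith P f) : AffWith P snd := by
  intro Z hZ c
  obtain ⟨W, i, a, sqW, hW, hP⟩ := hf hZ (c ≫ g')
  have hw : a ≫ f = ((AlgSp.yon S).map i ≫ c) ≫ g' := by rw [Category.assoc]; exact sqW.w
  refine ⟨W, i, sq.lift a ((AlgSp.yon S).map i ≫ c) hw, ?_, hW, hP⟩
  refine IsPullback.of_right ?_ (sq.lift_snd _ _ _) sq
  rw [sq.lift_fst]
  exact sqW

/-- `AffWith P` is fpqc local on the base (from the core theorem). -/
theorem isLocalOnBase_affWith (hM : MStmt S) (P : MorphismProperty Scheme.{u})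
    [IsZariskiLocalAtTarget P] [P.DescendsAlong (@Surjective ⊓ @Flat ⊓ @QuasiCompact)] :
    AlgSp.IsLocalOnBase (AlgSp.IsFpqcCover (S := S)) (AffWith P) := by
  intro ι Y Yi g hY hYi hcov X f hX Xi p q hXi sq
  constructor
  · intro hf i
    exact affWith_of_isPullback P (sq i) hf
  · intro H Z hZ y
    exact hM P Yi g hY hcov f hX Xi p q sq (fun i W hW l => H i hW l) Z hZ y

/-- `RepWith P` is fpqc local on the base (from the core theorem), for `P` forcing affineness of the
source over an affine target. -/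
theorem isLocalOnBase_repWith (hM : MStmt S) (P : MorphismProperty Scheme.{u})
    [IsZariskiLocalAtTarget P] [P.DescendsAlong (@Surjective ⊓ @Flat ⊓ @QuasiCompact)]
    (haff : ∀ {A B : Scheme.{u}} (k : A ⟶ B), P k → IsAffine B → IsAffine A) :
    AlgSp.IsLocalOnBase (AlgSp.IsFpqcCover (S := S)) (AlgSp.RepWith P) := by
  intro ι Y Yi g hY hYi hcov X f hX Xi p q hXi sq
  constructor
  · intro hf i
    exact MorphismProperty.of_isPullback (P := AlgSp.RepWith P) (sq i) hf
  · intro H
    apply Groth.Agent.Lib.Helper12.ZarGlue.repWith_of_affine P f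
    intro Z hZ y
    obtain ⟨Q, σ, fst, sqQ, hQ, hP⟩ := hM P Yi g hY hcov f hX Xi p q sq (fun i W hW l => by
      obtain ⟨V, β, fst, sqV⟩ := (H i).1 l
      have hPβ : P β.left := (H i).2 l fst β sqV
      exact ⟨V, β, fst, sqV, haff β.left hPβ hW, hPβ⟩) Z hZ y
    exact ⟨Q, σ, fst, sqQ, hP⟩

/-- S10533 -/
theorem isLocalOnBase_fpqc_isAffineMor (hM : MStmt S) :
    AlgSp.IsLocalOnBase (AlgSp.IsFpqcCover (S := S)) AlgSp.IsAffineMor := by
  have key := isLocalOnBase_affWith hM (⊤ : MorphismProperty Scheme.{u})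
  have e : ∀ {F G : AlgSp.Sp S} (f : F ⟶ G), AlgSp.IsAffineMor f ↔ AffWith ⊤ f := by
    intro F G f
    constructor
    · intro h Z hZ g
      obtain ⟨W, i, fst, sq, hW⟩ := h hZ g
      exact ⟨W, i, fst, sq, hW, trivial⟩
    · intro h Z hZ g
      obtain ⟨W, i, fst, sq, hW, _⟩ := h hZ g
      exact ⟨W, i, fst, sq, hW⟩
  intro ι Y Yi g hY hYi hcov X f hX Xi p q hXi sq
  rw [e f]
  have := key Yi g hY hYi hcov f hX Xi p q hXi sq
  rw [this]
  exact forall_congr' fun i => (e (p i)).symm

/-- S10539 -/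
theorem isLocalOnBase_fpqc_isIntegralMor (hM : MStmt S) :
    AlgSp.IsLocalOnBase (AlgSp.IsFpqcCover (S := S)) AlgSp.IsIntegralMor := by
  haveI := Groth.Agent.Lib.Helper12.descendsAlong_isIntegralHom.{u}
  exact isLocalOnBase_affWith hM @IsIntegralHom

/-- S10540 -/
theorem isLocalOnBase_fpqc_isFiniteMor (hM : MStmt S) :
    AlgSp.IsLocalOnBase (AlgSp.IsFpqcCover (S := S)) AlgSp.IsFiniteMor := by
  haveI := Groth.Agent.Lib.Helper12.descendsAlong_isFinite.{u}
  exact isLocalOnBase_affWith hM @IsFinite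

/-- S10534 -/
theorem isLocalOnBase_fpqc_repWith_isClosedImmersion (hM : MStmt S) :
    AlgSp.IsLocalOnBase (AlgSp.IsFpqcCover (S := S)) (AlgSp.RepWith @IsClosedImmersion) := by
  haveI := Groth.Agent.Lib.Helper12.descendsAlong_isClosedImmersion.{u}
  refine isLocalOnBase_repWith hM @IsClosedImmersion (fun k hk hB => ?_)
  haveI := hk
  haveI := hB
  exact isAffine_of_isAffineHom k

/-- S10545 -/
theorem isLocalOnBase_fpqc_isFinLocFreeMor (hM : MStmt S) :
    AlgSp.IsLocalOnBase (AlgSp.IsFpqcCover (S := S)) AlgSp.IsFinLocFreeMor := by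
  haveI := Groth.Agent.Lib.Helper12.descendsAlong_isFinite.{u}
  haveI := Groth.Agent.Lib.Helper12.descendsAlong_flat.{u}
  have e : (AlgSp.finLocFree : MorphismProperty Scheme.{u}) =
      (@IsFinite ⊓ (@Flat ⊓ @LocallyOfFinitePresentation) : MorphismProperty Scheme.{u}) := rfl
  haveI : IsZariskiLocalAtTarget (AlgSp.finLocFree : MorphismProperty Scheme.{u}) := by
    rw [e]; infer_instance
  haveI : (AlgSp.finLocFree : MorphismProperty Scheme.{u}).DescendsAlong
      (@Surjective ⊓ @Flat ⊓ @QuasiCompact) := by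
    rw [e]; infer_instance
  refine isLocalOnBase_repWith hM AlgSp.finLocFree (fun k hk hB => ?_)
  haveI : IsFinite k := hk.1
  haveI := hB
  exact isAffine_of_isAffineHom k

/-- S10605 -/
theorem isLocalOnBase_fpqc_isThickMor (hM : MStmt S) :
    AlgSp.IsLocalOnBase (AlgSp.IsFpqcCover (S := S)) AlgSp.IsThickMor := by
  haveI := Groth.Agent.Lib.Helper12.descendsAlong_isClosedImmersion.{u}
  have e : (AlgSp.thick : MorphismProperty Scheme.{u}) =
      (@IsClosedImmersion ⊓ @Surjective : MorphismProperty Scheme.{u}) := rfl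
  haveI : IsZariskiLocalAtTarget (AlgSp.thick : MorphismProperty Scheme.{u}) := by
    rw [e]; infer_instance
  haveI : (AlgSp.thick : MorphismProperty Scheme.{u}).DescendsAlong
      (@Surjective ⊓ @Flat ⊓ @QuasiCompact) := by
    rw [e]; infer_instance
  refine isLocalOnBase_repWith hM AlgSp.thick (fun k hk hB => ?_)
  haveI : IsClosedImmersion k := hk.1
  haveI := hB
  exact isAffine_of_isAffineHom k

end Groth.Agent.R2.H37.AffDescRows
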