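import Groth.Agent.R2.H37AffQuot
import Groth.Agent.R2.H83AffDescSpec

/-! helper37: package AD-Q in the shape of helper83's interface file. -/

set_option autoImplicit false
universe u

namespace Groth.Agent.R2.H37.AffQuot

theorem affQuotStmt : Groth.Agent.R2.H83.AffDescSpec.AffQuotStmt.{u} :=
  fun ν s t hst => exists_affine_quotient ν s t hst

end Groth.Agent.R2.H37.AffQuot
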