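import Mathlib.Tactic
import Groth.Prelude.Def_Red2
import Groth.Agent.Lib.Helper27GaGm

/-!
# Points of the diagonalisable group `D_S(M)` (helper37)

For `X : Over S`, a point `x : X ⟶ Red.DS S M` is the same as a family of functions
`dsFn x m ∈ Γ(X.left, ⊤)` multiplicative in `m` (a character `M → Γ(X)ˣ`).

Main results: `dsFn_mul`, `dsFn_comp`, `dsFn_add`, `dsFn_zero`, `dsFn_ext`, `dsFn_exists`,
and `hom_DS_Ga_eq_one`: every multiplicative map `D_S(M) ⟶ 𝔾_a` is trivial.
-/

set_option autoImplicit false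
universe u

open CategoryTheory MonoidalCategory CartesianMonoidalCategory MonObj GrpObj AlgebraicGeometry
open CategoryTheory.Limits
open scoped TensorProduct
open Groth.Agent.Lib.Helper27.GaGm

namespace Groth.Agent.R2.H37.DiagPoints

section Algebra

open MonoidAlgebra in
/-- a primitive element of a monoid algebra vanishes -/
theorem primitive_eq_zero {B : Type*} [CommRing B] {G : Type*} [Monoid G] (a : MonoidAlgebra B G)
    (h : mapDomainRingHom B (MonoidHom.prod (MonoidHom.id G) (MonoidHom.id G)) a =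
      mapDomainRingHom B (MonoidHom.inl G G) a + mapDomainRingHom B (MonoidHom.inr G G) a) :
    a = 0 := by
  classical
  have hδ : Function.Injective (MonoidHom.prod (MonoidHom.id G) (MonoidHom.id G)) := by
    intro x y hxy
    exact congrArg Prod.fst hxy
  have hl : Function.Injective (MonoidHom.inl G G) := by
    intro x y hxy
    exact congrArg Prod.fst hxy
  have hr : Function.Injective (MonoidHom.inr G G) := by
    intro x y hxy
    exact congrArg Prod.snd hxy
  have key : ∀ p : G × G,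
      Finsupp.mapDomain (MonoidHom.prod (MonoidHom.id G) (MonoidHom.id G)) a.coeff p
      = Finsupp.mapDomain (MonoidHom.inl G G) a.coeff p +
        Finsupp.mapDomain (MonoidHom.inr G G) a.coeff p := by
    intro p
    have := congrArg (fun x => x.coeff p) h
    simpa using this
  have h1 : a.coeff 1 = 0 := by
    have := key (1, 1)
    have e1 : Finsupp.mapDomain (MonoidHom.prod (MonoidHom.id G) (MonoidHom.id G)) a.coeff (1, 1)
        = a.coeff 1 := Finsupp.mapDomain_apply hδ a.coeff 1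
    have e2 : Finsupp.mapDomain (MonoidHom.inl G G) a.coeff (1, 1) = a.coeff 1 :=
      Finsupp.mapDomain_apply hl a.coeff 1
    have e3 : Finsupp.mapDomain (MonoidHom.inr G G) a.coeff (1, 1) = a.coeff 1 :=
      Finsupp.mapDomain_apply hr a.coeff 1
    rw [e1, e2, e3] at this
    exact left_eq_add.mp this
  ext g
  by_cases hg : g = 1
  · subst hg; simpa using h1
  · have := key (g, g)
    have e1 : Finsupp.mapDomain (MonoidHom.prod (MonoidHom.id G) (MonoidHom.id G)) a.coeff (g, g)
        = a.coeff g := Finsupp.mapDomain_apply hδ a.coeff g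
    have e2 : Finsupp.mapDomain (MonoidHom.inl G G) a.coeff (g, g) = 0 := by
      apply Finsupp.mapDomain_of_notMem_range
      rintro ⟨x, hx⟩
      exact hg (congrArg Prod.snd hx).symm
    have e3 : Finsupp.mapDomain (MonoidHom.inr G G) a.coeff (g, g) = 0 := by
      apply Finsupp.mapDomain_of_notMem_range
      rintro ⟨x, hx⟩
      exact hg (congrArg Prod.fst hx).symm
    rw [e1, e2, e3, add_zero] at this
    simpa using this

end Algebra

variable {S : Scheme.{u}} {M : Type} [AddCommGroup M]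

/-- the underlying morphism to `Spec ℤ[M]` of a point of `D_S(M)`. -/
noncomputable def dsPt {X : Over S} (x : X ⟶ Red.DS S M) :
    X.left ⟶ Spec (CommRingCat.of (MonoidAlgebra (ULift.{u} ℤ) (Multiplicative M))) :=
  x.left ≫ pullback.fst _ _

/-- the character functions of a point of `D_S(M)`. -/
noncomputable def dsFn {X : Over S} (x : X ⟶ Red.DS S M) (m : M) : Γ(X.left, ⊤) :=
  fn (dsPt x) (MonoidAlgebra.single (Multiplicative.ofAdd m) 1)

lemma dsFn_eq_fn {X : Over S} (x : X ⟶ Red.DS S M) (m : M) :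
    dsFn x m = fn (adjEquiv (Limits.IsTerminal.from specULiftZIsTerminal S)
      (Red.diag (ULift.{u} ℤ) M) X x).left
      (MonoidAlgebra.single (Multiplicative.ofAdd m) 1) := rfl

theorem dsFn_mul {X : Over S} (x y : X ⟶ Red.DS S M) (m : M) :
    dsFn (x * y) m = dsFn x m * dsFn y m := by
  rw [dsFn_eq_fn, dsFn_eq_fn, dsFn_eq_fn, adjEquiv_mul]
  refine fn_mul_left_of_grouplike _ _ _ ?_
  simp

theorem dsFn_comp {X X' : Over S} (g : X' ⟶ X) (x : X ⟶ Red.DS S M) (m : M) :
    dsFn (g ≫ x) m = g.left.appTop (dsFn x m) := by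
  have h : dsPt (g ≫ x) = g.left ≫ dsPt x := by
    unfold dsPt
    rw [Over.comp_left]
    exact Category.assoc _ _ _
  unfold dsFn
  rw [h, fn_comp]

theorem dsFn_add {X : Over S} (x : X ⟶ Red.DS S M) (m n : M) :
    dsFn x (m + n) = dsFn x m * dsFn x n := by
  unfold dsFn
  rw [fn_eq, fn_eq, fn_eq, ← map_mul, MonoidAlgebra.single_mul_single, ofAdd_add, _root_.mul_one]

theorem dsFn_zero {X : Over S} (x : X ⟶ Red.DS S M) : dsFn x 0 = 1 := by
  unfold dsFn
  rw [fn_eq, ofAdd_zero, ← MonoidAlgebra.one_def, map_one]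

theorem dsFn_ext {X : Over S} (x y : X ⟶ Red.DS S M) (h : ∀ m, dsFn x m = dsFn y m) : x = y := by
  have h2 : dsPt x = dsPt y := by
    apply fn_ext
    intro a
    have : fnHom (dsPt x) = fnHom (dsPt y) := by
      apply MonoidAlgebra.ringHom_ext'
      · exact ulift_int_ringHom_ext _ _
      · ext m
        exact h (Multiplicative.toAdd m)
    exact congrArg (fun k : _ →+* _ => k a) this
  apply (adjEquiv (Limits.IsTerminal.from specULiftZIsTerminal S)
    (Red.diag (ULift.{u} ℤ) M) X).injective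
  apply Over.OverMorphism.ext
  exact h2

theorem dsFn_exists {X : Over S} (χ : Multiplicative M →* Γ(X.left, ⊤)) :
    ∃ x : X ⟶ Red.DS S M, ∀ m, dsFn x m = χ (Multiplicative.ofAdd m) := by
  let _ : Algebra (ULift.{u} ℤ) Γ(X.left, ⊤) := ULift.algebra' ℤ Γ(X.left, ⊤)
  obtain ⟨y', hy'⟩ := fn_surj
    (MonoidAlgebra.lift (ULift.{u} ℤ) Γ(X.left, ⊤) (Multiplicative M) χ).toRingHom
  refine ⟨(adjEquiv (Limits.IsTerminal.from specULiftZIsTerminal S)
    (Red.diag (ULift.{u} ℤ) M) X).symm
    (Over.homMk y' (specULiftZIsTerminal.hom_ext _ _)), fun m => ?_⟩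
  rw [dsFn_eq_fn, Equiv.apply_symm_apply]
  refine (hy' _).trans ?_
  simp only [AlgHom.toRingHom_eq_coe, RingHom.coe_coe, MonoidAlgebra.lift_single]
  rw [one_smul]

section Main

/-- the value in `B` of a function on `Spec B` (seen over `S`). -/
noncomputable def ev {B : Type u} [CommRing B] (f : Spec (CommRingCat.of B) ⟶ S) :
    Γ((Over.mk f).left, ⊤) →+* B :=
  (Scheme.ΓSpecIso (CommRingCat.of B)).hom.hom

lemma ev_injective {B : Type u} [CommRing B] (f : Spec (CommRingCat.of B) ⟶ S) :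
    Function.Injective (ev f) := by
  intro a b h
  have := congrArg (fun t => (Scheme.ΓSpecIso (CommRingCat.of B)).inv.hom t) h
  simpa [ev] using this

lemma ev_inv {B : Type u} [CommRing B] (f : Spec (CommRingCat.of B) ⟶ S) (b : B) :
    ev f ((Scheme.ΓSpecIso (CommRingCat.of B)).inv.hom b) = b := by
  simp [ev]

lemma ev_comp {B₁ B₂ : Type u} [CommRing B₁] [CommRing B₂]
    (f₁ : Spec (CommRingCat.of B₁) ⟶ S) (f₂ : Spec (CommRingCat.of B₂) ⟶ S) (θ : B₁ →+* B₂)
    (g : Over.mk f₂ ⟶ Over.mk f₁) (hg : g.left = Spec.map (CommRingCat.ofHom θ))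
    (s : Γ((Over.mk f₁).left, ⊤)) :
    ev f₂ (g.left.appTop s) = θ (ev f₁ s) := by
  have := Scheme.ΓSpecIso_naturality (CommRingCat.ofHom θ)
  have h2 := congrArg (fun k => k.hom s) this
  simp only [CommRingCat.hom_comp, RingHom.comp_apply, CommRingCat.hom_ofHom] at h2
  rw [hg]
  exact h2

/-- `Spec` of a ring map compatible with the structure maps, as a morphism over `S`. -/
noncomputable def specHom {B₁ B₂ : Type u} [CommRing B₁] [CommRing B₂]
    (f₁ : Spec (CommRingCat.of B₁) ⟶ S) (f₂ : Spec (CommRingCat.of B₂) ⟶ S) (θ : B₁ →+* B₂)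
    (h : Spec.map (CommRingCat.ofHom θ) ≫ f₁ = f₂) : Over.mk f₂ ⟶ Over.mk f₁ :=
  Over.homMk (Spec.map (CommRingCat.ofHom θ)) h

lemma specHom_left {B₁ B₂ : Type u} [CommRing B₁] [CommRing B₂]
    (f₁ : Spec (CommRingCat.of B₁) ⟶ S) (f₂ : Spec (CommRingCat.of B₂) ⟶ S) (θ : B₁ →+* B₂)
    (h : Spec.map (CommRingCat.ofHom θ) ≫ f₁ = f₂) :
    (specHom f₁ f₂ θ h).left = Spec.map (CommRingCat.ofHom θ) := rfl

lemma ev_dsFn_specHom {B₁ B₂ : Type u} [CommRing B₁] [CommRing B₂]
    (f₁ : Spec (CommRingCat.of B₁) ⟶ S) (f₂ : Spec (CommRingCat.of B₂) ⟶ S) (θ : B₁ →+* B₂)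
    (h : Spec.map (CommRingCat.ofHom θ) ≫ f₁ = f₂) (x : Over.mk f₁ ⟶ Red.DS S M) (m : M) :
    ev f₂ (dsFn (specHom f₁ f₂ θ h ≫ x) m) = θ (ev f₁ (dsFn x m)) := by
  rw [dsFn_comp]
  exact ev_comp f₁ f₂ θ _ (specHom_left f₁ f₂ θ h) _

lemma ev_gaFn_specHom {B₁ B₂ : Type u} [CommRing B₁] [CommRing B₂]
    (f₁ : Spec (CommRingCat.of B₁) ⟶ S) (f₂ : Spec (CommRingCat.of B₂) ⟶ S) (θ : B₁ →+* B₂)
    (h : Spec.map (CommRingCat.ofHom θ) ≫ f₁ = f₂) (z : Over.mk f₁ ⟶ Red.Ga S) :
    ev f₂ (Red.gaFn (specHom f₁ f₂ θ h ≫ z)) = θ (ev f₁ (Red.gaFn z)) := by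
  rw [gaFn_comp]
  exact ev_comp f₁ f₂ θ _ (specHom_left f₁ f₂ θ h) _

/-- a multiplicative map `D_S(M) ⟶ 𝔾_a` kills every point with values in an affine scheme. -/
theorem comp_eq_one_of_affine {B : Type u} [CommRing B] (f : Spec (CommRingCat.of B) ⟶ S)
    (w : Red.DS S M ⟶ Red.Ga S)
    (hw : ∀ (X : Over S) (x y : X ⟶ Red.DS S M), (x * y) ≫ w = (x ≫ w) * (y ≫ w))
    (x : Over.mk f ⟶ Red.DS S M) : x ≫ w = 1 := by
  classical
  let f₁ : Spec (CommRingCat.of (MonoidAlgebra B (Multiplicative M))) ⟶ S :=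
    Spec.map (CommRingCat.ofHom (algebraMap B (MonoidAlgebra B (Multiplicative M)))) ≫ f
  let f₂ : Spec (CommRingCat.of (MonoidAlgebra B (Multiplicative M × Multiplicative M))) ⟶ S :=
    Spec.map (CommRingCat.ofHom
      (algebraMap B (MonoidAlgebra B (Multiplicative M × Multiplicative M)))) ≫ f
  -- the universal point
  obtain ⟨xu, hxu⟩ := dsFn_exists (S := S) (X := Over.mk f₁) (M := M)
    (((Scheme.ΓSpecIso (CommRingCat.of (MonoidAlgebra B (Multiplicative M)))).inv.hom :
      MonoidAlgebra B (Multiplicative M) →+* Γ((Over.mk f₁).left, ⊤)).toMonoidHom.comp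
        (MonoidAlgebra.of B (Multiplicative M)))
  have hxu' : ∀ m, ev f₁ (dsFn xu m) = MonoidAlgebra.single (Multiplicative.ofAdd m) 1 := by
    intro m
    rw [hxu m]
    exact ev_inv f₁ _
  -- the three ring maps
  have hθ : ∀ φ : Multiplicative M →* Multiplicative M × Multiplicative M,
      Spec.map (CommRingCat.ofHom (MonoidAlgebra.mapDomainRingHom B φ)) ≫ f₁ = f₂ := by
    intro φ
    change Spec.map _ ≫ Spec.map _ ≫ f = Spec.map _ ≫ f
    rw [← Category.assoc, ← Spec.map_comp, ← CommRingCat.ofHom_comp,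
      MonoidAlgebra.mapDomainRingHom_comp_algebraMap]
  have hpt : ∀ (φ : Multiplicative M →* Multiplicative M × Multiplicative M) (m : M),
      ev f₂ (dsFn (specHom f₁ f₂ _ (hθ φ) ≫ xu) m) =
        MonoidAlgebra.single (φ (Multiplicative.ofAdd m)) 1 := by
    intro φ m
    rw [ev_dsFn_specHom, hxu']
    simp
  have hmul : specHom f₁ f₂ _ (hθ (MonoidHom.prod (MonoidHom.id _) (MonoidHom.id _))) ≫ xu =
      (specHom f₁ f₂ _ (hθ (MonoidHom.inl _ _)) ≫ xu) *
        (specHom f₁ f₂ _ (hθ (MonoidHom.inr _ _)) ≫ xu) := by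
    apply dsFn_ext
    intro m
    apply ev_injective f₂
    rw [dsFn_mul, map_mul, hpt, hpt, hpt, MonoidAlgebra.single_mul_single]
    simp
  have hadd := congrArg (fun t => ev f₂ (Red.gaFn (t ≫ w))) hmul
  rw [hw, gaFn_mul, map_add, Category.assoc, Category.assoc, Category.assoc,
    ev_gaFn_specHom, ev_gaFn_specHom, ev_gaFn_specHom] at hadd
  have ha := primitive_eq_zero _ hadd
  have hxuw : xu ≫ w = 1 := by
    apply gaFn_injective
    rw [gaFn_one]
    apply ev_injective f₁
    rw [ha, map_zero]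
  -- an arbitrary point is a pull-back of the universal one
  let χ : Multiplicative M →* B :=
    { toFun := fun g => ev f (dsFn x (Multiplicative.toAdd g))
      map_one' := by
        change ev f (dsFn x 0) = 1
        rw [dsFn_zero, map_one]
      map_mul' := by
        intro g h
        change ev f (dsFn x (Multiplicative.toAdd g + Multiplicative.toAdd h)) = _
        rw [dsFn_add, map_mul] }
  have hθ' : Spec.map (CommRingCat.ofHom
      (MonoidAlgebra.lift B B (Multiplicative M) χ).toRingHom) ≫ f₁ = f := by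
    change Spec.map _ ≫ Spec.map _ ≫ f = f
    rw [← Category.assoc, ← Spec.map_comp, ← CommRingCat.ofHom_comp]
    have : (MonoidAlgebra.lift B B (Multiplicative M) χ).toRingHom.comp
        (algebraMap B (MonoidAlgebra B (Multiplicative M))) = RingHom.id B := by
      ext b
      simp
    rw [this]
    simp
  have hx : x = specHom f₁ f _ hθ' ≫ xu := by
    apply dsFn_ext
    intro m
    apply ev_injective f
    rw [ev_dsFn_specHom, hxu']
    simp [χ]
  rw [hx, Category.assoc, hxuw, MonObj.comp_one]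

/-- every multiplicative map `D_S(M) ⟶ 𝔾_a` is trivial. -/
theorem hom_DS_Ga_eq_one (w : Red.DS S M ⟶ Red.Ga S)
    (hw : ∀ (X : Over S) (x y : X ⟶ Red.DS S M), (x * y) ≫ w = (x ≫ w) * (y ≫ w)) : w = 1 := by
  apply Over.OverMorphism.ext
  apply ((Red.DS S M).left.affineCover).hom_ext
  intro j
  let ιj : (Over.mk (((Red.DS S M).left.affineCover).f j ≫ (Red.DS S M).hom) : Over S) ⟶
      Red.DS S M := Over.homMk (((Red.DS S M).left.affineCover).f j) rfl
  have e1 : ∀ m : Red.DS S M ⟶ Red.Ga S,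
      ((Red.DS S M).left.affineCover).f j ≫ m.left = (ιj ≫ m).left := fun m => rfl
  rw [e1, e1, MonObj.comp_one]
  congr 1
  exact comp_eq_one_of_affine _ w hw ιj

end Main

end Groth.Agent.R2.H37.DiagPoints
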