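import Mathlib
import Groth.Agent.R2.H37DiagPoints

/-!
# Character coordinates on the points of a locally diagonalisable group (helper37)

`H` an `S`-group with `φ : H ×_S U ≅ D_U(M)` (as groups over `U`, `hU : U ⟶ S`).  For every `S`-scheme
`T` with a lift `τ : T ⟶ U` of its structure map, the `T`-points of `H` are the characters
`M → Γ(T)ˣ`: `chrFn`, with `chrFn_mul`, `chrFn_comp`, `chrFn_ext`, `chrFn_exists`.
-/

set_option autoImplicit false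
universe u

open CategoryTheory MonoidalCategory CartesianMonoidalCategory MonObj GrpObj AlgebraicGeometry
open CategoryTheory.Limits
open Groth.Agent.Lib.Helper27.GaGm

namespace Groth.Agent.R2.H37.Chr

open Groth.Agent.R2.H37.DiagPoints

variable {S U : Scheme.{u}} {H : Over S} [GrpObj H] {M : Type} [AddCommGroup M] (hU : U ⟶ S)
  (φ : Grp.mk (Red.bc hU H) ≅ Grp.mk (Red.DS U M))

/-- a point of `H` over `T ⟶ U ⟶ S`, as a point over `(Over.map hU).obj (T ⟶ U)`. -/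
def toMap (T : Over S) (τ : T.left ⟶ U) (hτ : τ ≫ hU = T.hom) (h : T ⟶ H) :
    (Over.map hU).obj (Over.mk τ) ⟶ H :=
  Over.homMk h.left (by
    change h.left ≫ H.hom = τ ≫ hU
    rw [hτ]
    exact Over.w h)

/-- the point of `D_U(M)` attached to a point of `H`. -/
noncomputable def toDS (T : Over S) (τ : T.left ⟶ U) (hτ : τ ≫ hU = T.hom) (h : T ⟶ H) :
    Over.mk τ ⟶ Red.DS U M :=
  (adjEquiv hU H (Over.mk τ)).symm (toMap hU T τ hτ h) ≫ φ.hom.hom.hom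

/-- the point of `H` attached to a point of `D_U(M)`. -/
noncomputable def ofDS (T : Over S) (τ : T.left ⟶ U) (hτ : τ ≫ hU = T.hom)
    (y : Over.mk τ ⟶ Red.DS U M) : T ⟶ H :=
  Over.homMk (adjEquiv hU H (Over.mk τ) (y ≫ φ.inv.hom.hom)).left (by
    rw [← hτ]
    exact Over.w (adjEquiv hU H (Over.mk τ) (y ≫ φ.inv.hom.hom)))

lemma toMap_ofDS (T : Over S) (τ : T.left ⟶ U) (hτ : τ ≫ hU = T.hom)
    (y : Over.mk τ ⟶ Red.DS U M) :
    toMap hU T τ hτ (ofDS hU φ T τ hτ y) = adjEquiv hU H (Over.mk τ) (y ≫ φ.inv.hom.hom) := by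
  apply Over.OverMorphism.ext
  rfl

lemma toDS_ofDS (T : Over S) (τ : T.left ⟶ U) (hτ : τ ≫ hU = T.hom)
    (y : Over.mk τ ⟶ Red.DS U M) : toDS hU φ T τ hτ (ofDS hU φ T τ hτ y) = y := by
  unfold toDS
  rw [toMap_ofDS, Equiv.symm_apply_apply, Category.assoc]
  have e : φ.inv.hom.hom ≫ φ.hom.hom.hom = 𝟙 _ := by
    have := congrArg (fun k => k.hom.hom) φ.inv_hom_id
    exact this
  rw [e, Category.comp_id]

lemma ofDS_toDS (T : Over S) (τ : T.left ⟶ U) (hτ : τ ≫ hU = T.hom) (h : T ⟶ H) :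
    ofDS hU φ T τ hτ (toDS hU φ T τ hτ h) = h := by
  have e : φ.hom.hom.hom ≫ φ.inv.hom.hom = 𝟙 _ := by
    have := congrArg (fun k => k.hom.hom) φ.hom_inv_id
    exact this
  have key : adjEquiv hU H (Over.mk τ) (toDS hU φ T τ hτ h ≫ φ.inv.hom.hom) =
      toMap hU T τ hτ h := by
    unfold toDS
    rw [Category.assoc, e, Category.comp_id, Equiv.apply_symm_apply]
  apply Over.OverMorphism.ext
  exact congrArg (fun k => k.left) key

lemma toMap_mul (T : Over S) (τ : T.left ⟶ U) (hτ : τ ≫ hU = T.hom) (h h' : T ⟶ H) :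
    toMap hU T τ hτ (h * h') = toMap hU T τ hτ h * toMap hU T τ hτ h' := by
  apply Over.OverMorphism.ext
  have e1 : (toMap hU T τ hτ (h * h')).left = (h * h').left := rfl
  rw [e1, Hom.mul_def, Hom.mul_def, Over.comp_left, Over.comp_left]
  congr 1

lemma toDS_mul (T : Over S) (τ : T.left ⟶ U) (hτ : τ ≫ hU = T.hom) (h h' : T ⟶ H) :
    toDS hU φ T τ hτ (h * h') = toDS hU φ T τ hτ h * toDS hU φ T τ hτ h' := by
  unfold toDS
  rw [toMap_mul, adjEquiv_symm_mul]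
  exact MonObj.mul_comp _ _ φ.hom.hom.hom

/-- naturality -/
lemma toDS_comp {T T' : Over S} (p : T' ⟶ T) (τ : T.left ⟶ U) (hτ : τ ≫ hU = T.hom)
    (τ' : T'.left ⟶ U) (hτ' : τ' ≫ hU = T'.hom) (hp : p.left ≫ τ = τ') (h : T ⟶ H) :
    toDS hU φ T' τ' hτ' (p ≫ h) =
      (Over.homMk p.left hp : Over.mk τ' ⟶ Over.mk τ) ≫ toDS hU φ T τ hτ h := by
  subst hp
  unfold toDS
  rw [← Category.assoc]
  congr 1
  unfold adjEquiv
  rw [Equiv.symm_symm, Equiv.symm_symm, ← Adjunction.homEquiv_naturality_left]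
  congr 1

/-- the character functions of a point of `H`. -/
noncomputable def chrFn (T : Over S) (τ : T.left ⟶ U) (hτ : τ ≫ hU = T.hom) (h : T ⟶ H) (m : M) :
    Γ(T.left, ⊤) :=
  dsFn (S := U) (X := Over.mk τ) (toDS hU φ T τ hτ h) m

lemma chrFn_mul (T : Over S) (τ : T.left ⟶ U) (hτ : τ ≫ hU = T.hom) (h h' : T ⟶ H) (m : M) :
    chrFn hU φ T τ hτ (h * h') m = chrFn hU φ T τ hτ h m * chrFn hU φ T τ hτ h' m := by
  unfold chrFn
  rw [toDS_mul, dsFn_mul]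

lemma chrFn_add (T : Over S) (τ : T.left ⟶ U) (hτ : τ ≫ hU = T.hom) (h : T ⟶ H) (m n : M) :
    chrFn hU φ T τ hτ h (m + n) = chrFn hU φ T τ hτ h m * chrFn hU φ T τ hτ h n :=
  dsFn_add _ m n

lemma chrFn_zero (T : Over S) (τ : T.left ⟶ U) (hτ : τ ≫ hU = T.hom) (h : T ⟶ H) :
    chrFn hU φ T τ hτ h 0 = 1 :=
  dsFn_zero _

lemma chrFn_one (T : Over S) (τ : T.left ⟶ U) (hτ : τ ≫ hU = T.hom) (m : M) :
    chrFn hU φ T τ hτ (1 : T ⟶ H) m = 1 := by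
  have h1 := chrFn_mul hU φ T τ hτ 1 1 m
  rw [_root_.mul_one] at h1
  have h2 : chrFn hU φ T τ hτ (1 : T ⟶ H) m * chrFn hU φ T τ hτ (1 : T ⟶ H) (-m) = 1 := by
    rw [← chrFn_add, add_neg_cancel, chrFn_zero]
  calc chrFn hU φ T τ hτ (1 : T ⟶ H) m
      = chrFn hU φ T τ hτ (1 : T ⟶ H) m *
          (chrFn hU φ T τ hτ (1 : T ⟶ H) m * chrFn hU φ T τ hτ (1 : T ⟶ H) (-m)) := by
        rw [h2, _root_.mul_one]
    _ = (chrFn hU φ T τ hτ (1 : T ⟶ H) m * chrFn hU φ T τ hτ (1 : T ⟶ H) m) *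
          chrFn hU φ T τ hτ (1 : T ⟶ H) (-m) := by ring
    _ = 1 := by rw [← h1, h2]

lemma chrFn_comp {T T' : Over S} (p : T' ⟶ T) (τ : T.left ⟶ U) (hτ : τ ≫ hU = T.hom)
    (τ' : T'.left ⟶ U) (hτ' : τ' ≫ hU = T'.hom) (hp : p.left ≫ τ = τ') (h : T ⟶ H) (m : M) :
    chrFn hU φ T' τ' hτ' (p ≫ h) m = p.left.appTop (chrFn hU φ T τ hτ h m) := by
  unfold chrFn
  rw [toDS_comp hU φ p τ hτ τ' hτ' hp, dsFn_comp]
  rfl

lemma chrFn_ext (T : Over S) (τ : T.left ⟶ U) (hτ : τ ≫ hU = T.hom) (h h' : T ⟶ H)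
    (hh : ∀ m, chrFn hU φ T τ hτ h m = chrFn hU φ T τ hτ h' m) : h = h' := by
  have := dsFn_ext _ _ hh
  rw [← ofDS_toDS hU φ T τ hτ h, this, ofDS_toDS]

lemma chrFn_exists (T : Over S) (τ : T.left ⟶ U) (hτ : τ ≫ hU = T.hom)
    (χ : Multiplicative M →* Γ(T.left, ⊤)) :
    ∃ h : T ⟶ H, ∀ m, chrFn hU φ T τ hτ h m = χ (Multiplicative.ofAdd m) := by
  obtain ⟨y, hy⟩ := dsFn_exists (X := Over.mk τ) χ
  refine ⟨ofDS hU φ T τ hτ y, fun m => ?_⟩
  unfold chrFn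
  rw [toDS_ofDS]
  exact hy m

end Groth.Agent.R2.H37.Chr
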