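-- helper83: INTERFACE FILE of the mini-project "descent of immersions / quasi-affine morphisms of
-- algebraic spaces" (S10547 S10538 S10537).  Named statements only.
import Mathlib
import Groth.Prelude.Def_AlgSpCov

set_option autoImplicit false
universe u
open CategoryTheory CategoryTheory.Limits AlgebraicGeometry
open AlgSp

namespace Groth.Agent.R2.H83.ImmDescSpec

/-- PACKAGE LC-1: for a morphism `ν : U ⟶ Z` of affine schemes and a standard fpqc covering
`c j : W j ⟶ Z`, if the preimage of the image of `ν` in every `W j` is locally closed, then the image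
of `ν` is locally closed.  (Proof: `closure (range ν) = V(ker Γ(ν))`, and the kernel commutes with
the flat base changes `c j`, so `c j ⁻¹ (closure (range ν) \ range ν)` is
`closure (c j ⁻¹ range ν) \ c j ⁻¹ range ν`, which is closed; conclude because `∐ W j ⟶ Z` is a
quotient map.) -/
def LocClosedFpqcStmt : Prop :=
  ∀ {Z U : Scheme.{u}} [IsAffine Z] [IsAffine U] (ν : U ⟶ Z) {m : ℕ} (W : Fin m → Scheme.{u})
    (c : ∀ j, W j ⟶ Z), (∀ j, IsAffine (W j)) → (∀ j, Flat (c j)) →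
    (∀ z : Z, ∃ j, z ∈ Set.range (c j)) →
    (∀ j, IsLocallyClosed (⇑(c j) ⁻¹' Set.range ⇑ν)) → IsLocallyClosed (Set.range ⇑ν)

/-- PACKAGE AD-Q2: the variant of `AffDescSpec.AffQuotStmt` in which the base changed quotient `V`
is only quasi-affine: then `V` is an open subscheme of the base change `Q ×_Z W` of the affine
quotient `Q = Spec (eq (Γ(U) ⇉ Γ(R)))`. -/
def QAffQuotStmt : Prop :=
  ∀ {Z U R : Scheme.{u}} [IsAffine Z] [IsAffine U] [IsAffine R] (ν : U ⟶ Z) (s t : R ⟶ U)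
    (_ : s ≫ ν = t ≫ ν),
    ∃ (Q : Scheme.{u}) (_ : IsAffine Q) (ρ : U ⟶ Q) (σ : Q ⟶ Z), ρ ≫ σ = ν ∧ s ≫ ρ = t ≫ ρ ∧
      ∀ (W V U' R' : Scheme.{u}) (_ : IsAffine W) (_ : V.IsQuasiAffine) (c : W ⟶ Z) (_ : Flat c)
        (β : V ⟶ W) (uU : U' ⟶ U) (uW : U' ⟶ W) (_ : IsPullback uU uW ν c)
        (rR : R' ⟶ R) (rW : R' ⟶ W) (_ : IsPullback rR rW (s ≫ ν) c)
        (s' t' : R' ⟶ U') (_ : s' ≫ uU = rR ≫ s) (_ : t' ≫ uU = rR ≫ t) (_ : s' ≫ uW = rW)
        (_ : t' ≫ uW = rW) (q : U' ⟶ V) (_ : Flat q) (_ : Surjective q)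
        (_ : LocallyOfFinitePresentation q) (_ : q ≫ β = uW)
        (_ : IsPullback s' t' q q),
        ∃ (θ : V ⟶ Q) (w : θ ≫ σ = β ≫ c), q ≫ θ = uU ≫ ρ ∧
          IsOpenImmersion (pullback.lift θ β w)

end Groth.Agent.R2.H83.ImmDescSpec
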