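import Mathlib
import Groth.Agent.R2.H37DescAff
import Groth.Agent.R2.H37DescRadicial
import Groth.Agent.R2.H37DescIQA
import Groth.Agent.S1134
import Groth.Agent.S9866

/-!
# Effective descent along finite locally free morphisms (helper37)

For `p : X ⟶ S` finite, flat, locally of finite presentation and surjective, `s : V ×_S X ⟶ V` is a
closed map and `t` is an open map.  Hence, for an affine open `U` of `V`, the set `sat U` of points
whose equivalence class lies in `U` is a stable open inside `U`, and the saturation of a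
quasi-compact open inside `sat U` is a stable quasi-compact open inside the affine `U`, hence
quasi-affine: quasi-affine descent (S1134) and gluing (S9866) give effectivity as soon as every
equivalence class lies in an affine open (SGA 1 VIII 7.6, SGA 3 V 4.1, without norms).
-/

set_option autoImplicit false
set_option linter.style.haveILetI false
set_option backward.isDefEq.respectTransparency false
set_option backward.isDefEq.respectTransparency.types false
universe u

open CategoryTheory Limits AlgebraicGeometry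

namespace Groth.Agent.R2.H37.DescFinLF

open Desc Groth.Agent.R2.H37.DescAff Groth.Agent.R2.H37.DescRadicial Groth.Agent.R2.H37.DescIQA

section Sat

variable {X S : Scheme.{u}} (p : X ⟶ S) (D : SchDD p)

/-- the identity point of the relation. -/
lemma exists_rel_self (v : D.obj.left) :
    ∃ r : Rel p D, (s p D).base r = v ∧ (t p D).base r = v := by
  let e : D.obj.left ⟶ Rel p D := mk p D (𝟙 D.obj.left) D.obj.hom (by rw [Category.id_comp])
  have he1 : e ≫ s p D = 𝟙 _ := mk_s _ _ _ _ _
  have he2 : e ≫ t p D = 𝟙 _ := by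
    rw [mk_t, Φ_congr D rfl (Category.id_comp D.obj.hom).symm, Φ_self]
  refine ⟨e.base v, ?_, ?_⟩
  · rw [← Scheme.Hom.comp_apply, he1]
    rfl
  · rw [← Scheme.Hom.comp_apply, he2]
    rfl

/-- composition of points of the relation. -/
lemma exists_rel_comp (r r' : Rel p D) (h : (t p D).base r = (s p D).base r') :
    ∃ r'' : Rel p D, (s p D).base r'' = (s p D).base r ∧ (t p D).base r'' = (t p D).base r' := by
  obtain ⟨z, hz1, hz2⟩ := Scheme.Pullback.exists_preimage_pullback (f := t p D) (g := s p D) r r' h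
  let a : pullback (t p D) (s p D) ⟶ Rel p D := pullback.fst _ _
  let b : pullback (t p D) (s p D) ⟶ Rel p D := pullback.snd _ _
  have hab : a ≫ t p D = b ≫ s p D := pullback.condition
  have hc : ((a ≫ s p D) ≫ D.obj.hom) ≫ p = (b ≫ pr₂ p D) ≫ p := by
    rw [← comp_ν, Category.assoc, s_ν, ← Category.assoc, hab, Category.assoc, DescAff.cond, Category.assoc]
  let c : pullback (t p D) (s p D) ⟶ Rel p D := mk p D (a ≫ s p D) (b ≫ pr₂ p D) hc
  have hcs : c ≫ s p D = a ≫ s p D := mk_s _ _ _ _ _
  have hct : c ≫ t p D = b ≫ t p D := by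
    rw [mk_t, comp_t p D b]
    have e1 : a ≫ t p D = Φ D (a ≫ s p D) (a ≫ pr₂ p D) (pt_h p D a) := comp_t p D a
    have e2 : b ≫ s p D = Φ D (a ≫ s p D) (a ≫ pr₂ p D) (pt_h p D a) := hab.symm.trans e1
    rw [Φ_congr D e2 rfl, Φ_Φ]
  refine ⟨c.base z, ?_, ?_⟩
  · rw [← Scheme.Hom.comp_apply, hcs, Scheme.Hom.comp_apply]
    exact congrArg _ hz1
  · rw [← Scheme.Hom.comp_apply, hct, Scheme.Hom.comp_apply]
    exact congrArg _ hz2

/-- the set of points whose equivalence class lies in `U`. -/
def satSet (U : Set D.obj.left) : Set D.obj.left :=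
  {v | ∀ r : Rel p D, (s p D).base r = v → (t p D).base r ∈ U}

lemma satSet_subset (U : Set D.obj.left) : satSet p D U ⊆ U := by
  intro v hv
  obtain ⟨r, hr1, hr2⟩ := exists_rel_self p D v
  have := hv r hr1
  rwa [hr2] at this

lemma satSet_eq_compl (U : Set D.obj.left) :
    satSet p D U = ((s p D).base '' ((t p D).base ⁻¹' Uᶜ))ᶜ := by
  ext v
  simp only [satSet, Set.mem_ofPred_eq, Set.mem_compl_iff, Set.mem_image, Set.mem_preimage,
    not_exists, not_and]
  constructor
  · intro h r hr hrv
    exact hr (h r hrv)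
  · intro h r hrv
    by_contra hr
    exact h r hr hrv

/-- `sat U` is stable. -/
lemma image_satSet_subset (U : Set D.obj.left) :
    (t p D).base '' ((s p D).base ⁻¹' satSet p D U) ⊆ satSet p D U := by
  rintro _ ⟨r, hr, rfl⟩ r' hr'
  obtain ⟨r'', h1, h2⟩ := exists_rel_comp p D r r' hr'.symm
  rw [← h2]
  exact hr r'' h1

/-- the saturation of any set is stable. -/
lemma image_image_subset (A : Set D.obj.left) :
    (t p D).base '' ((s p D).base ⁻¹' ((t p D).base '' ((s p D).base ⁻¹' A))) ⊆
      (t p D).base '' ((s p D).base ⁻¹' A) := by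
  rintro _ ⟨r', ⟨r, hr, hrr'⟩, rfl⟩
  obtain ⟨r'', h1, h2⟩ := exists_rel_comp p D r r' hrr'
  refine ⟨r'', ?_, h2⟩
  change (s p D).base r'' ∈ A
  rw [h1]
  exact hr

/-- an open whose saturation is contained in it is stable. -/
lemma stable_of_image_subset (W : D.obj.left.Opens)
    (h : (t p D).base '' ((s p D).base ⁻¹' (W : Set D.obj.left)) ⊆ W) : Stable D W.ι := by
  intro T x₀ x₁ hx w
  have hr : Set.range (D.φ x₀ x₁ hx (up D W.ι w)).1.base ⊆ Set.range W.ι.base := by
    rintro _ ⟨z, rfl⟩
    rw [φ_val, Scheme.Opens.range_ι]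
    refine h (mem_t_image p D _ x₁ _ z _ ?_)
    change (w.1 ≫ W.ι).base z ∈ (W : Set D.obj.left)
    rw [Scheme.Hom.comp_base, TopCat.coe_comp]
    exact ((w.1.base z)).2
  exact ⟨IsOpenImmersion.lift W.ι _ hr, IsOpenImmersion.lift_fac _ _ _⟩

end Sat

section AffineCore

variable {X S : Scheme.{u}} [IsAffine X] (p : X ⟶ S) [Surjective p] [IsFinite p] [Flat p]
  [LocallyOfFinitePresentation p] (D : SchDD p)

instance isFinite_s : IsFinite (s p D) :=
  MorphismProperty.pullback_fst (P := @IsFinite) _ _ inferInstance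

instance universallyOpen_t : UniversallyOpen (t p D) :=
  MorphismProperty.of_isPullback (P := @UniversallyOpen) (isPullback_t p D) inferInstance

omit [IsAffine X] [Surjective p] [Flat p] [LocallyOfFinitePresentation p] in
/-- the equivalence class of a point is finite. -/
lemma finite_class (v : D.obj.left) :
    ((t p D).base '' ((s p D).base ⁻¹' {v})).Finite :=
  ((s p D).finite_preimage_singleton v).image _

omit [IsAffine X] [Surjective p] [IsFinite p] [Flat p] [LocallyOfFinitePresentation p] in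
/-- all points of an equivalence class lie over the same point of the base. -/
lemma class_base (v : D.obj.left) (c : D.obj.left)
    (hc : c ∈ (t p D).base '' ((s p D).base ⁻¹' {v})) :
    p.base (D.obj.hom.base c) = p.base (D.obj.hom.base v) := by
  obtain ⟨r, hr, rfl⟩ := hc
  have hr' : (s p D).base r = v := hr
  have h1 : (t p D ≫ ν p D).base r = (s p D ≫ ν p D).base r := by rw [s_ν]
  rw [Scheme.Hom.comp_apply, Scheme.Hom.comp_apply, hr'] at h1
  simpa only [ν, Scheme.Hom.comp_apply] using h1

/-- **Affine core**: if `X` is affine and every equivalence class lies in an affine open, the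
descent datum is effective. -/
theorem effective_of_classes
    (hC : ∀ v : D.obj.left, ∃ U : D.obj.left.Opens, IsAffineOpen U ∧
      (t p D).base '' ((s p D).base ⁻¹' {v}) ⊆ U) :
    ∃ Z : Over S, Nonempty ((toDD p).obj Z ≅ D) := by
  haveI : QuasiCompact p := inferInstance
  refine Groth.Agent.S9866.result p D (fun v => ?_)
  obtain ⟨U, hU, hCU⟩ := hC v
  -- the stable open `sat U`
  have hWo : IsOpen (satSet p D (U : Set D.obj.left)) := by
    rw [satSet_eq_compl, isOpen_compl_iff]
    exact (s p D).isClosedMap _ (U.isOpen.isClosed_compl.preimage (t p D).continuous)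
  let W : D.obj.left.Opens := ⟨satSet p D (U : Set D.obj.left), hWo⟩
  have hvW : v ∈ W := fun r hr => hCU ⟨r, hr, rfl⟩
  obtain ⟨_, ⟨O', hO, rfl⟩, hvO, hOW⟩ := D.obj.left.isBasis_affineOpens.exists_subset_of_mem_open
    hvW W.isOpen
  let O : D.obj.left.Opens := O'
  -- the saturation of `O`
  let Õ : D.obj.left.Opens := ⟨(t p D).base '' ((s p D).base ⁻¹' (O : Set D.obj.left)),
    (t p D).isOpenMap _ (O.isOpen.preimage (s p D).continuous)⟩
  have hÕc : IsCompact (Õ : Set D.obj.left) := isCompact_t_image p D O hO.isCompact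
  have hÕW : (Õ : Set D.obj.left) ⊆ W :=
    (Set.image_mono (Set.preimage_mono hOW)).trans (image_satSet_subset p D _)
  have hÕU : Õ ≤ U := fun x hx => satSet_subset p D _ (hÕW hx)
  have hvÕ : v ∈ Õ := by
    obtain ⟨r, hr1, hr2⟩ := exists_rel_self p D v
    refine ⟨r, ?_, hr2⟩
    change (s p D).base r ∈ (O : Set D.obj.left)
    rw [hr1]
    exact hvO
  have hst : Stable D Õ.ι := stable_of_image_subset p D Õ (image_image_subset p D _)
  refine ⟨restrict D Õ.ι hst, restrictHom D Õ.ι hst, ?_, ?_, ?_⟩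
  · change IsOpenImmersion Õ.ι
    infer_instance
  · change v ∈ Set.range Õ.ι.base
    rw [Scheme.Opens.range_ι]
    exact hvÕ
  · haveI : IsAffine U.toScheme := hU
    haveI : CompactSpace (Õ : Scheme.{u}) := isCompact_iff_compactSpace.mp hÕc
    haveI : (Õ : Scheme.{u}).IsQuasiAffine :=
      Scheme.IsQuasiAffine.of_isImmersion (D.obj.left.homOfLE hÕU)
    exact Groth.Agent.S1134.result p (restrict D Õ.ι hst)
      (isQuasiAffine_hom_of_isQuasiAffine (Õ.ι ≫ D.obj.hom))

end AffineCore

section Local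

open Groth.Agent.R2.H37.DescSheaf Groth.Agent.R2.H37.DescRows

variable {X Y : Scheme.{u}} (p : X ⟶ Y) [Surjective p] [Flat p] [QuasiCompact p]

/-- **Localization on the base**: a descent datum relative to an fpqc morphism `p` is effective as
soon as, over every affine open `W` of the base, every descent datum relative to `p ∣_ W` on the
restriction of the underlying scheme is effective. -/
theorem effective_of_local (D : SchDD p)
    (H : ∀ W : Y.Opens, IsAffineOpen W → ∀ D' : SchDD (p ∣_ W),
      D'.obj = Over.mk (pullback.snd D.obj.hom (p ⁻¹ᵁ W).ι) →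
      ∃ Z : Over W.toScheme, Nonempty ((toDD (p ∣_ W)).obj Z ≅ D')) :
    ∃ Z : Over Y, Nonempty ((toDD p).obj Z ≅ D) := by
  apply effective_of_one
  let DF : SchDDFam (fun _ : PUnit.{u + 1} => p) := (SchDDFam.ofSchDD.{u, u} p).obj D
  refine isEffective_of_local_beta DF (fun a : Y.affineOpens => a.1) (iSup_affineOpens_eq_top Y)
    (fun a => (p ⁻¹ᵁ a.1).toScheme) (fun a => p ∣_ a.1)
    (fun a => ?_) (fun a => ?_) (fun a => ?_)
    (fun a => Over.mk (pullback.snd (DF.obj PUnit.unit).hom (p ⁻¹ᵁ a.1).ι))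
    (fun a => betaPull DF a.1.ι (p ∣_ a.1) PUnit.unit (p ⁻¹ᵁ a.1).ι (morphismRestrict_ι p a.1))
    (fun a => ?_)
  · exact MorphismProperty.of_isPullback (P := @Flat) (isPullback_morphismRestrict p a.1).flip
      inferInstance
  · exact MorphismProperty.of_isPullback (P := @Surjective)
      (isPullback_morphismRestrict p a.1).flip inferInstance
  · exact MorphismProperty.of_isPullback (P := @QuasiCompact)
      (isPullback_morphismRestrict p a.1).flip inferInstance
  · exact H a.1 a.2 _ rfl

end Local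

section Transfer

/-- **Prime avoidance for affine opens**: a finite set of points of an affine open `U` contained in
an open `O` lies in an affine open contained in `U ⊓ O` (a basic open of `U`). -/
lemma exists_affineOpen_of_finite {V : Scheme.{u}} (U : V.Opens) (hU : IsAffineOpen U)
    (O : V.Opens) (F : Set V) (hF : F.Finite) (hFU : F ⊆ U) (hFO : F ⊆ O) :
    ∃ U₁ : V.Opens, IsAffineOpen U₁ ∧ U₁ ≤ U ∧ U₁ ≤ O ∧ F ⊆ U₁ := by
  classical
  rcases F.eq_empty_or_nonempty with rfl | ⟨x₀, hx₀⟩
  · exact ⟨⊥, isAffineOpen_bot V, bot_le, bot_le, Set.empty_subset _⟩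
  let q : V → PrimeSpectrum Γ(V, U) := fun x =>
    if h : x ∈ U then hU.primeIdealOf ⟨x, h⟩ else hU.primeIdealOf ⟨x₀, hFU hx₀⟩
  have hq : ∀ x, x ∈ U → hU.fromSpec (q x) = x := by
    intro x hx
    simp only [q, dif_pos hx]
    exact hU.fromSpec_primeIdealOf ⟨x, hx⟩
  have hZc : IsClosed ({y : PrimeSpectrum Γ(V, U) | hU.fromSpec y ∈ O}ᶜ) :=
    (O.isOpen.preimage hU.fromSpec.continuous).isClosed_compl
  obtain ⟨I, hI⟩ := (PrimeSpectrum.isClosed_iff_zeroLocus_ideal _).1 hZc
  have hmemZ : ∀ y : PrimeSpectrum Γ(V, U), I ≤ y.asIdeal → hU.fromSpec y ∉ O := by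
    intro y hy hyO
    have h1 : y ∈ PrimeSpectrum.zeroLocus (I : Set Γ(V, U)) := hy
    rw [← hI] at h1
    exact h1 hyO
  have hnotZ : ∀ y : PrimeSpectrum Γ(V, U), hU.fromSpec y ∉ O → I ≤ y.asIdeal := by
    intro y hy
    have h1 : y ∈ ({y : PrimeSpectrum Γ(V, U) | hU.fromSpec y ∈ O}ᶜ) := hy
    rw [hI] at h1
    exact h1
  have hnot : ¬ ((I : Set Γ(V, U)) ⊆ ⋃ i ∈ q '' F, (i.asIdeal : Set Γ(V, U))) := by
    rw [Ideal.subset_union_prime_finite (hF.image q) (q x₀) (q x₀) (fun i _ _ _ => i.isPrime)]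
    rintro ⟨_, ⟨x, hx, rfl⟩, hle⟩
    apply hmemZ (q x) hle
    rw [hq x (hFU hx)]
    exact hFO hx
  obtain ⟨f, hfI, hf⟩ := Set.not_subset.1 hnot
  have hmem : ∀ x, x ∈ U → (x ∈ V.basicOpen f ↔ f ∉ (q x).asIdeal) := by
    intro x hx
    have h1 : (q x ∈ hU.fromSpec ⁻¹ᵁ V.basicOpen f) ↔ x ∈ V.basicOpen f := by
      change hU.fromSpec (q x) ∈ V.basicOpen f ↔ _
      rw [hq x hx]
    rw [← h1, hU.fromSpec_preimage_basicOpen f]
    exact PrimeSpectrum.mem_basicOpen _ _
  refine ⟨V.basicOpen f, hU.basicOpen f, V.basicOpen_le f, ?_, ?_⟩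
  · intro x hx
    have hxU : x ∈ U := V.basicOpen_le f hx
    by_contra hxO
    have h1 : I ≤ (q x).asIdeal := hnotZ (q x) (by rw [hq x hxU]; exact hxO)
    exact ((hmem x hxU).1 hx) (h1 hfI)
  · intro x hx
    rw [SetLike.mem_coe, hmem x (hFU hx)]
    intro hfx
    apply hf
    simp only [Set.mem_iUnion]
    exact ⟨q x, ⟨x, hx, rfl⟩, hfx⟩


/-- transfer of affine neighbourhoods of finite sets along an open immersion. -/
lemma exists_affineOpen_preimage {V' V : Scheme.{u}} (j : V' ⟶ V) [IsOpenImmersion j] (F : Set V')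
    (hF : F.Finite) (U : V.Opens) (hU : IsAffineOpen U) (hFU : j.base '' F ⊆ U) :
    ∃ U' : V'.Opens, IsAffineOpen U' ∧ F ⊆ U' := by
  obtain ⟨U₁, hU₁, -, hU₁r, hFU₁⟩ := exists_affineOpen_of_finite U hU j.opensRange (j.base '' F)
    (hF.image _) hFU (by rintro _ ⟨x, -, rfl⟩; exact ⟨x, rfl⟩)
  refine ⟨j ⁻¹ᵁ U₁, ?_, fun x hx => hFU₁ ⟨x, hx, rfl⟩⟩
  rw [← Scheme.Hom.isAffineOpen_iff_of_isOpenImmersion j, Scheme.Hom.image_preimage_eq_opensRange_inf,
    inf_eq_right.2 hU₁r]
  exact hU₁

/-- an object of `Over X'` equal to a base change along an open immersion `X' ⟶ X` is an open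
subscheme of the original object. -/
lemma exists_openImmersion_of_obj_eq {X' X : Scheme.{u}} (i : X' ⟶ X) [IsOpenImmersion i]
    (V : Over X) (V' : Over X') (h : V' = Over.mk (pullback.snd V.hom i)) :
    ∃ j : V'.left ⟶ V.left, IsOpenImmersion j ∧ j ≫ V.hom = V'.hom ≫ i := by
  subst h
  exact ⟨pullback.fst _ _, inferInstance, pullback.condition⟩

end Transfer

section Finsets

open Groth.Agent.R2.H37.DescSheaf Groth.Agent.R2.H37.DescRows

variable {X Y : Scheme.{u}} (p : X ⟶ Y) [Surjective p] [IsFinite p] [Flat p]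
  [LocallyOfFinitePresentation p]

/-- **Effective descent along a finite locally free morphism** when finite sets of points of the
underlying scheme lying over a common point of the base lie in affine opens (SGA 1 VIII 7.6). -/
theorem effective_of_finsets (D : SchDD p)
    (hV : ∀ (y : Y) (F : Finset D.obj.left), (∀ v ∈ F, p.base (D.obj.hom.base v) = y) →
      ∃ U : D.obj.left.Opens, IsAffineOpen U ∧ ∀ v ∈ F, v ∈ U) :
    ∃ Z : Over Y, Nonempty ((toDD p).obj Z ≅ D) := by
  haveI : QuasiCompact p := inferInstance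
  refine effective_of_local p D (fun W hW D' hD' => ?_)
  haveI : IsAffine (p ⁻¹ᵁ W).toScheme := hW.preimage p
  haveI : Surjective (p ∣_ W) := MorphismProperty.of_isPullback (P := @Surjective)
    (isPullback_morphismRestrict p W).flip inferInstance
  haveI : IsFinite (p ∣_ W) := MorphismProperty.of_isPullback (P := @IsFinite)
    (isPullback_morphismRestrict p W).flip inferInstance
  haveI : Flat (p ∣_ W) := MorphismProperty.of_isPullback (P := @Flat)
    (isPullback_morphismRestrict p W).flip inferInstance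
  haveI : LocallyOfFinitePresentation (p ∣_ W) :=
    MorphismProperty.of_isPullback (P := @LocallyOfFinitePresentation)
      (isPullback_morphismRestrict p W).flip inferInstance
  obtain ⟨j, hjo, hj⟩ := exists_openImmersion_of_obj_eq (p ⁻¹ᵁ W).ι D.obj D'.obj hD'
  refine effective_of_classes (p ∣_ W) D' (fun v' => ?_)
  classical
  have hfin := finite_class (p ∣_ W) D' v'
  have hover : ∀ v ∈ (hfin.image j.base).toFinset, p.base (D.obj.hom.base v) =
      W.ι.base ((p ∣_ W).base (D'.obj.hom.base v')) := by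
    intro v hv
    rw [Set.Finite.mem_toFinset] at hv
    obtain ⟨c, hc, rfl⟩ := hv
    have h1 := class_base (p ∣_ W) D' v' c hc
    rw [← h1]
    have h2 : (j ≫ D.obj.hom ≫ p).base c = (D'.obj.hom ≫ (p ∣_ W) ≫ W.ι).base c := by
      rw [← Category.assoc, hj, Category.assoc, morphismRestrict_ι]
    simpa only [Scheme.Hom.comp_apply] using h2
  obtain ⟨U, hU, hFU⟩ := hV _ _ hover
  obtain ⟨U', hU', hFU'⟩ := exists_affineOpen_preimage j _ hfin U hU (by
    rintro _ ⟨c, hc, rfl⟩
    exact hFU _ ((Set.Finite.mem_toFinset _).2 ⟨c, hc, rfl⟩))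
  exact ⟨U', hU', hFU'⟩

end Finsets

section Card

variable {X S : Scheme.{u}} (p : X ⟶ S) [IsFinite p] (D : SchDD p)

/-- the number of points of an equivalence class is bounded by the number of geometric points of
the fibres of `p`. -/
lemma encard_class_le (d : ℕ)
    (hfib : ∀ (k : Type u) [Field k] [IsAlgClosed k] (y : Spec (CommRingCat.of k) ⟶ S),
      Set.encard {x : Spec (CommRingCat.of k) ⟶ X | x ≫ p = y} ≤ d) (v : D.obj.left) :
    ((t p D).base '' ((s p D).base ⁻¹' {v})).encard ≤ d := by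
  classical
  let K := D.obj.left.residueField v
  let k := AlgebraicClosure K
  obtain ⟨vbar, hvbar_def⟩ : ∃ vb : Spec (CommRingCat.of k) ⟶ D.obj.left,
      vb = Spec.map (CommRingCat.ofHom (algebraMap K k)) ≫ D.obj.left.fromSpecResidueField v :=
    ⟨_, rfl⟩
  let F' := pullback vbar (s p D)
  let π : F' ⟶ Spec (CommRingCat.of k) := pullback.fst vbar (s p D)
  let sn : F' ⟶ Rel p D := pullback.snd vbar (s p D)
  have hcond : π ≫ vbar = sn ≫ s p D := pullback.condition
  haveI : IsFinite π := MorphismProperty.pullback_fst (P := @IsFinite) _ _ inferInstance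
  have hsub : ∀ a b : Spec (CommRingCat.of k), a = b := fun a b => Subsingleton.elim a b
  haveI : DiscreteTopology F' := by
    rw [← isDiscrete_univ_iff]
    have h1 := π.isDiscrete_preimage_singleton (IsLocalRing.closedPoint k)
    have h2 : π.base ⁻¹' {IsLocalRing.closedPoint k} = Set.univ := by
      ext z
      simp only [Set.mem_preimage, Set.mem_singleton_iff, Set.mem_univ, iff_true]
      exact hsub _ _
    rwa [h2] at h1
  let σ : F' → (Spec (CommRingCat.of k) ⟶ F') := fun f => pointOfClosedPoint π f (isClosed_discrete _)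
  have hσπ : ∀ f, σ f ≫ π = 𝟙 _ := fun f => pointOfClosedPoint_comp π f _
  have hσpt : ∀ f, (σ f).base (IsLocalRing.closedPoint k) = f := fun f =>
    pointOfClosedPoint_apply π f _ _
  let g : F' → (Spec (CommRingCat.of k) ⟶ X) := fun f => σ f ≫ sn ≫ pr₂ p D
  have hg : ∀ f, g f ≫ p = vbar ≫ ν p D := by
    intro f
    change (σ f ≫ sn ≫ pr₂ p D) ≫ p = _
    rw [Category.assoc, Category.assoc, ← DescAff.cond, ← Category.assoc sn, ← hcond, Category.assoc,
      ← Category.assoc (σ f), hσπ, Category.id_comp]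
  have hσs : ∀ f, (σ f ≫ sn) ≫ s p D = vbar := by
    intro f
    rw [Category.assoc, ← hcond, ← Category.assoc, hσπ, Category.id_comp]
  have hginj : Function.Injective g := by
    intro f f' hff'
    have h1 : σ f ≫ sn = σ f' ≫ sn := by
      refine rel_ext p D _ _ ?_ ?_
      · rw [hσs, hσs]
      · simpa only [Category.assoc] using hff'
    have h2 : σ f = σ f' := by
      refine pullback.hom_ext ?_ h1
      exact (hσπ f).trans (hσπ f').symm
    rw [← hσpt f, ← hσpt f', h2]
  have hcardF : (Set.univ : Set F').encard ≤ d := by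
    rw [← hginj.encard_image]
    refine (Set.encard_le_encard ?_).trans (hfib k (vbar ≫ ν p D))
    rintro _ ⟨f, -, rfl⟩
    exact hg f
  have hvbar : vbar.base (IsLocalRing.closedPoint k) = v := by
    rw [hvbar_def, Scheme.Hom.comp_apply]
    exact Scheme.fromSpecResidueField_apply _ _
  have hcov : (t p D).base '' ((s p D).base ⁻¹' {v}) ⊆
      (fun f : F' => (t p D).base (sn.base f)) '' Set.univ := by
    rintro _ ⟨r, hr, rfl⟩
    have hr' : (s p D).base r = v := hr
    obtain ⟨z, -, hz2⟩ := Scheme.Pullback.exists_preimage_pullback (f := vbar) (g := s p D)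
      (IsLocalRing.closedPoint k) r (hvbar.trans hr'.symm)
    exact ⟨z, Set.mem_univ _, congrArg _ hz2⟩
  exact (Set.encard_le_encard hcov).trans ((Set.encard_image_le _ _).trans hcardF)

end Card

section Bounded

open Groth.Agent.R2.H37.DescSheaf Groth.Agent.R2.H37.DescRows

/-- enumeration (with repetitions) of a finite nonempty set with at most `d` elements. -/
lemma exists_fin_enum {α : Type*} (C : Set α) (hC : C.Finite) (d : ℕ) (hd : C.encard ≤ d) (a : α)
    (ha : a ∈ C) : ∃ f : Fin d → α, (∀ i, f i ∈ C) ∧ C ⊆ Set.range f := by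
  classical
  have hn : hC.toFinset.card ≤ d := by
    rw [hC.encard_eq_coe_toFinset_card] at hd
    exact_mod_cast hd
  let e := hC.toFinset.equivFin
  refine ⟨fun i => if h : i.1 < hC.toFinset.card then (e.symm ⟨i.1, h⟩).1 else a, fun i => ?_,
    fun c hc => ?_⟩
  · by_cases h : i.1 < hC.toFinset.card
    · simp only [dif_pos h]
      exact (hC.mem_toFinset).1 (e.symm ⟨i.1, h⟩).2
    · simp only [dif_neg h]
      exact ha
  · let c' : hC.toFinset := ⟨c, (hC.mem_toFinset).2 hc⟩
    refine ⟨⟨(e c').1, (e c').2.trans_le hn⟩, ?_⟩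
    simp only [dif_pos (e c').2]
    have : (⟨(e c').1, (e c').2⟩ : Fin hC.toFinset.card) = e c' := rfl
    rw [this, Equiv.symm_apply_apply]

variable {X Y : Scheme.{u}} (p : X ⟶ Y) [Surjective p] [IsFinite p] [Flat p]
  [LocallyOfFinitePresentation p]

/-- **Effective descent along a finite locally free morphism with at most `d` geometric points in
each fibre**, when any `d` points of the underlying scheme over a common point of the base lie in an
affine open (SGA 1 VIII 7.6). -/
theorem effective_of_bounded (d : ℕ)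
    (hfib : ∀ (k : Type u) [Field k] [IsAlgClosed k] (y : Spec (CommRingCat.of k) ⟶ Y),
      Set.encard {x : Spec (CommRingCat.of k) ⟶ X | x ≫ p = y} ≤ d) (D : SchDD p)
    (hV : ∀ (y : Y) (v : Fin d → D.obj.left), (∀ i, p.base (D.obj.hom.base (v i)) = y) →
      ∃ U : D.obj.left.Opens, IsAffineOpen U ∧ ∀ i, v i ∈ U) :
    ∃ Z : Over Y, Nonempty ((toDD p).obj Z ≅ D) := by
  haveI : QuasiCompact p := inferInstance
  refine effective_of_local p D (fun W hW D' hD' => ?_)
  haveI : IsAffine (p ⁻¹ᵁ W).toScheme := hW.preimage p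
  haveI : Surjective (p ∣_ W) := MorphismProperty.of_isPullback (P := @Surjective)
    (isPullback_morphismRestrict p W).flip inferInstance
  haveI : IsFinite (p ∣_ W) := MorphismProperty.of_isPullback (P := @IsFinite)
    (isPullback_morphismRestrict p W).flip inferInstance
  haveI : Flat (p ∣_ W) := MorphismProperty.of_isPullback (P := @Flat)
    (isPullback_morphismRestrict p W).flip inferInstance
  haveI : LocallyOfFinitePresentation (p ∣_ W) :=
    MorphismProperty.of_isPullback (P := @LocallyOfFinitePresentation)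
      (isPullback_morphismRestrict p W).flip inferInstance
  have hfib' : ∀ (k : Type u) [Field k] [IsAlgClosed k] (y : Spec (CommRingCat.of k) ⟶ W.toScheme),
      Set.encard {x : Spec (CommRingCat.of k) ⟶ (p ⁻¹ᵁ W).toScheme | x ≫ (p ∣_ W) = y} ≤ d := by
    intro k _ _ y
    refine (Set.encard_le_encard_of_injOn (f := fun x => x ≫ (p ⁻¹ᵁ W).ι) ?_ ?_).trans
      (hfib k (y ≫ W.ι))
    · intro x hx
      have hx' : x ≫ (p ∣_ W) = y := hx
      change (x ≫ (p ⁻¹ᵁ W).ι) ≫ p = y ≫ W.ι
      rw [Category.assoc, ← morphismRestrict_ι, ← Category.assoc, hx']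
    · intro x _ x' _ hxx'
      exact (cancel_mono (p ⁻¹ᵁ W).ι).1 hxx'
  obtain ⟨j, hjo, hj⟩ := exists_openImmersion_of_obj_eq (p ⁻¹ᵁ W).ι D.obj D'.obj hD'
  refine effective_of_classes (p ∣_ W) D' (fun v' => ?_)
  have hfin := finite_class (p ∣_ W) D' v'
  have hv' : v' ∈ (t (p ∣_ W) D').base '' ((s (p ∣_ W) D').base ⁻¹' {v'}) := by
    obtain ⟨r, hr1, hr2⟩ := exists_rel_self (p ∣_ W) D' v'
    exact ⟨r, hr1, hr2⟩
  obtain ⟨f, hfC, hCf⟩ := exists_fin_enum _ hfin d (encard_class_le (p ∣_ W) D' d hfib' v') v' hv'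
  have hover : ∀ i, p.base (D.obj.hom.base (j.base (f i))) =
      W.ι.base ((p ∣_ W).base (D'.obj.hom.base v')) := by
    intro i
    have h1 := class_base (p ∣_ W) D' v' (f i) (hfC i)
    rw [← h1]
    have h2 : (j ≫ D.obj.hom ≫ p).base (f i) = (D'.obj.hom ≫ (p ∣_ W) ≫ W.ι).base (f i) := by
      rw [← Category.assoc, hj, Category.assoc, morphismRestrict_ι]
    simpa only [Scheme.Hom.comp_apply] using h2
  obtain ⟨U, hU, hFU⟩ := hV _ (fun i => j.base (f i)) hover
  obtain ⟨U', hU', hFU'⟩ := exists_affineOpen_preimage j _ hfin U hU (by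
    rintro _ ⟨c, hc, rfl⟩
    obtain ⟨i, rfl⟩ := hCf hc
    exact hFU i)
  exact ⟨U', hU', hFU'⟩

end Bounded

end Groth.Agent.R2.H37.DescFinLF
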