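import Mathlib

/-!
# Morphisms out of affine schemes: joint epimorphisms and pushouts along nilpotent thickenings (helper37)

* `hom_ext_of_jointly_injective`: if `φ i : R →+* R' i` is a finite family of ring maps, jointly
  injective and jointly surjective on spectra, then two morphisms `Spec R ⟶ Z` into an arbitrary
  scheme which agree after composing with all `Spec.map (φ i)` are equal.
-/

set_option autoImplicit false
universe u

open CategoryTheory AlgebraicGeometry

namespace Groth.Agent.R2.H37.Infinitesimal

/-- a morphism from an affine scheme landing in an affine open comes from a ring map -/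
theorem exists_factor_affine {X : Scheme.{u}} (U : X.Opens) (hU : IsAffineOpen U)
    {B : CommRingCat.{u}} (v : Spec B ⟶ X) (hv : Set.range v.base ⊆ (U : Set X)) :
    ∃ ψ : Γ(X, U) ⟶ B, v = Spec.map ψ ≫ hU.isoSpec.inv ≫ U.ι := by
  have hr : Set.range v.base ⊆ Set.range U.ι.base := by
    rw [Scheme.Opens.range_ι]
    exact hv
  refine ⟨Spec.preimage (IsOpenImmersion.lift U.ι v hr ≫ hU.isoSpec.hom), ?_⟩
  rw [Spec.map_preimage, Category.assoc, Iso.hom_inv_id_assoc, IsOpenImmersion.lift_fac]

theorem factor_affine_inj {X : Scheme.{u}} (U : X.Opens) (hU : IsAffineOpen U)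
    {B : CommRingCat.{u}} (ψ ψ' : Γ(X, U) ⟶ B)
    (h : Spec.map ψ ≫ hU.isoSpec.inv ≫ U.ι = Spec.map ψ' ≫ hU.isoSpec.inv ≫ U.ι) : ψ = ψ' := by
  apply Spec.map_injective
  rw [← cancel_mono (hU.isoSpec.inv ≫ U.ι)]
  exact h

section JointInj

variable {R : Type u} [CommRing R] {idx : Type*} [Finite idx] {R' : idx → Type u} [∀ i, CommRing (R' i)]
  (φ : ∀ i, R →+* R' i)

/-- joint injectivity passes to localizations away from an element -/
theorem awayMap_jointly_injective (hinj : ∀ x : R, (∀ i, φ i x = 0) → x = 0) (r : R)
    (x : Localization.Away r) (hx : ∀ i, Localization.awayMap (φ i) r x = 0) : x = 0 := by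
  obtain ⟨⟨a, ⟨_, n, rfl⟩⟩, rfl⟩ := IsLocalization.mk'_surjective (Submonoid.powers r) x
  have h1 : ∀ i, ∃ m : ℕ, (φ i r) ^ m * φ i a = 0 := by
    intro i
    have := hx i
    rw [Localization.awayMap, IsLocalization.Away.map, IsLocalization.map_mk',
      IsLocalization.mk'_eq_zero_iff] at this
    obtain ⟨⟨_, m, rfl⟩, hm⟩ := this
    exact ⟨m, hm⟩
  choose m hm using h1
  have := Fintype.ofFinite idx
  let N : ℕ := Finset.sup Finset.univ m
  have hN : ∀ i, φ i (r ^ N * a) = 0 := by
    intro i
    have hle : m i ≤ N := Finset.le_sup (Finset.mem_univ i)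
    rw [map_mul, map_pow, ← Nat.sub_add_cancel hle, pow_add, mul_assoc, hm i, mul_zero]
  have h0 := hinj _ hN
  rw [IsLocalization.mk'_eq_zero_iff]
  exact ⟨⟨r ^ N, N, rfl⟩, h0⟩

/-- the square relating `φ` and its localization. -/
theorem awayMap_comp_algebraMap {P : Type u} [CommRing P] (f : R →+* P) (r : R) :
    (Localization.awayMap f r).comp (algebraMap R (Localization.Away r)) =
      (algebraMap P (Localization.Away (f r))).comp f :=
  IsLocalization.map_comp _

/-- **Joint epimorphism.** A finite family of ring maps `φ i : R →+* R' i` which is jointly injective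
and jointly surjective on spectra induces a jointly epimorphic family `Spec (R' i) ⟶ Spec R` in the
category of schemes. -/
theorem hom_ext_of_jointly_injective
    (hsurj : ∀ p : PrimeSpectrum R, ∃ (i : idx) (q : PrimeSpectrum (R' i)), PrimeSpectrum.comap (φ i) q = p)
    (hinj : ∀ x : R, (∀ i, φ i x = 0) → x = 0) {Z : Scheme.{u}}
    (g h : Spec (CommRingCat.of R) ⟶ Z)
    (hgh : ∀ i, Spec.map (CommRingCat.ofHom (φ i)) ≫ g = Spec.map (CommRingCat.ofHom (φ i)) ≫ h) :
    g = h := by
  have hbase : ∀ y : Spec (CommRingCat.of R), g.base y = h.base y := by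
    intro y
    obtain ⟨i, q, rfl⟩ := hsurj y
    have := congrArg (fun k => k.base q) (hgh i)
    exact this
  have key : ∀ y : Spec (CommRingCat.of R), ∃ r : R, y ∈ PrimeSpectrum.basicOpen r ∧
      Spec.map (CommRingCat.ofHom (algebraMap R (Localization.Away r))) ≫ g =
        Spec.map (CommRingCat.ofHom (algebraMap R (Localization.Away r))) ≫ h := by
    intro y
    obtain ⟨_, ⟨V, hV, rfl⟩, hyV, -⟩ :=
      Z.isBasis_affineOpens.exists_subset_of_mem_open (Set.mem_univ (g.base y)) isOpen_univ
    have hyO : y ∈ (g ⁻¹ᵁ V ⊓ h ⁻¹ᵁ V : (Spec (CommRingCat.of R)).Opens) := by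
      refine ⟨hyV, ?_⟩
      change h.base y ∈ V
      rw [← hbase y]
      exact hyV
    obtain ⟨_, ⟨r, rfl⟩, hyr, hrO⟩ :=
      (TopologicalSpace.Opens.isBasis_iff_nbhd.mp (PrimeSpectrum.isBasis_basic_opens (R := R))) hyO
    refine ⟨r, hyr, ?_⟩
    have hrange : ∀ q : Spec (CommRingCat.of (Localization.Away r)),
        (Spec.map (CommRingCat.ofHom (algebraMap R (Localization.Away r)))).base q ∈
          (g ⁻¹ᵁ V ⊓ h ⁻¹ᵁ V : (Spec (CommRingCat.of R)).Opens) := by
      intro q
      apply hrO
      have : (Spec.map (CommRingCat.ofHom (algebraMap R (Localization.Away r)))).base q ∈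
          Set.range (PrimeSpectrum.comap (algebraMap R (Localization.Away r))) := ⟨q, rfl⟩
      rw [PrimeSpectrum.localization_away_comap_range (Localization.Away r) r] at this
      exact this
    obtain ⟨ψg, hψg⟩ := exists_factor_affine V hV
      (Spec.map (CommRingCat.ofHom (algebraMap R (Localization.Away r))) ≫ g) (by
        rintro _ ⟨q, rfl⟩
        exact (hrange q).1)
    obtain ⟨ψh, hψh⟩ := exists_factor_affine V hV
      (Spec.map (CommRingCat.ofHom (algebraMap R (Localization.Away r))) ≫ h) (by
        rintro _ ⟨q, rfl⟩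
        exact (hrange q).2)
    rw [hψg, hψh]
    have hψ : ψg = ψh := by
      have hi : ∀ i, ψg ≫ CommRingCat.ofHom (Localization.awayMap (φ i) r) =
          ψh ≫ CommRingCat.ofHom (Localization.awayMap (φ i) r) := by
        intro i
        apply factor_affine_inj V hV
        rw [Spec.map_comp, Spec.map_comp, Category.assoc, Category.assoc, ← hψg, ← hψh,
          ← Category.assoc, ← Category.assoc, ← Spec.map_comp, ← CommRingCat.ofHom_comp,
          awayMap_comp_algebraMap, CommRingCat.ofHom_comp, Spec.map_comp, Category.assoc,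
          Category.assoc, hgh i]
      ext a
      have h0 : ψg.hom a - ψh.hom a = 0 := by
        apply awayMap_jointly_injective φ hinj r
        intro i
        have := congrArg (fun k => k.hom a) (hi i)
        simp only [CommRingCat.hom_comp, CommRingCat.hom_ofHom, RingHom.comp_apply] at this
        rw [map_sub, this, sub_self]
      exact sub_eq_zero.mp h0
    rw [hψ]
  choose r hr using key
  let 𝒰 : (Spec (CommRingCat.of R)).OpenCover :=
    Scheme.Cover.mkOfCovers (PrimeSpectrum R)
      (fun y => Spec (CommRingCat.of (Localization.Away (r y))))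
      (fun y => Spec.map (CommRingCat.ofHom (algebraMap R (Localization.Away (r y)))))
      (by
        intro x
        have hx : x ∈ Set.range (PrimeSpectrum.comap (algebraMap R (Localization.Away (r x)))) := by
          rw [PrimeSpectrum.localization_away_comap_range (Localization.Away (r x)) (r x)]
          exact (hr x).1
        obtain ⟨q, hq⟩ := hx
        exact ⟨x, q, hq⟩)
      (fun y => inferInstance)
  exact 𝒰.hom_ext _ _ (fun y => (hr y).2)

end JointInj

end Groth.Agent.R2.H37.Infinitesimal
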