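import Mathlib
import Groth.Agent.R2.H37Infinitesimal

/-!
# Square-zero thickenings: the pair ring `B ×_{B/I} B` and its quotient `(B/I) ⊕ I` (helper37)

For an ideal `I` of square zero in `B`:
* `pairRing I` is the ring of pairs `(a, b)` congruent modulo `I`, with projections `p1`, `p2`,
  the diagonal `diagP`, and `mkPair` (a pair of congruent ring maps);
* `nIdeal I` is the ideal of pairs `(a, a)`, `a ∈ I` (an ideal because `I² = 0`), and
  `qMap : pairRing I →+* pairRing I ⧸ nIdeal I` is the quotient (the ring `(B/I) ⊕ I`);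
  the composite `B → pairRing I → quotient` kills `I`;
* `pair_hom_ext`: `Spec p1` and `Spec qMap` are jointly epimorphic: a morphism from
  `Spec (pairRing I)` to any scheme is determined by its restrictions along `p1` and `qMap`.
-/

set_option autoImplicit false
universe u

open CategoryTheory AlgebraicGeometry

namespace Groth.Agent.R2.H37.Pair

open Groth.Agent.R2.H37.Infinitesimal

variable {B : Type u} [CommRing B] (I : Ideal B)

/-- pairs of elements of `B` congruent modulo `I`. -/
def pairRing : Subring (B × B) where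
  carrier := {t | t.2 - t.1 ∈ I}
  mul_mem' := by
    rintro ⟨a, b⟩ ⟨a', b'⟩ h h'
    have : b * b' - a * a' = b * (b' - a') + (b - a) * a' := by ring
    change b * b' - a * a' ∈ I
    rw [this]
    exact I.add_mem (I.mul_mem_left _ h') (I.mul_mem_right _ h)
  one_mem' := by
    change (1 : B) - 1 ∈ I
    simp
  add_mem' := by
    rintro ⟨a, b⟩ ⟨a', b'⟩ h h'
    have : (b + b') - (a + a') = (b - a) + (b' - a') := by ring
    change (b + b') - (a + a') ∈ I
    rw [this]
    exact I.add_mem h h'
  zero_mem' := by
    change (0 : B) - 0 ∈ I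
    simp
  neg_mem' := by
    rintro ⟨a, b⟩ h
    have : (-b) - (-a) = -(b - a) := by ring
    change (-b) - (-a) ∈ I
    rw [this]
    exact I.neg_mem h

/-- first projection -/
def p1 : pairRing I →+* B := (RingHom.fst B B).comp (pairRing I).subtype
/-- second projection -/
def p2 : pairRing I →+* B := (RingHom.snd B B).comp (pairRing I).subtype

variable {I}

lemma mem_pair (t : pairRing I) : p2 I t - p1 I t ∈ I := t.2

lemma pair_ext {t t' : pairRing I} (h1 : p1 I t = p1 I t') (h2 : p2 I t = p2 I t') : t = t' := by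
  apply Subtype.ext
  exact Prod.ext h1 h2

/-- a pair of congruent ring maps gives a ring map to the pair ring. -/
def mkPair {A : Type u} [CommRing A] (α β : A →+* B) (h : ∀ a, β a - α a ∈ I) :
    A →+* pairRing I :=
  RingHom.codRestrict (α.prod β) (pairRing I) (fun a => h a)

section mkPair
variable {A : Type u} [CommRing A] (α β : A →+* B) (h : ∀ a, β a - α a ∈ I)

lemma p1_mkPair : (p1 I).comp (mkPair α β h) = α := rfl
lemma p2_mkPair : (p2 I).comp (mkPair α β h) = β := rfl
lemma p1_mkPair_apply (a : A) : p1 I (mkPair α β h a) = α a := rfl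
lemma p2_mkPair_apply (a : A) : p2 I (mkPair α β h a) = β a := rfl

end mkPair

variable (I) in
/-- the diagonal -/
def diagP : B →+* pairRing I := mkPair (RingHom.id B) (RingHom.id B) (fun a => by simp)

lemma p1_diagP : (p1 I).comp (diagP I) = RingHom.id B := rfl
lemma p2_diagP : (p2 I).comp (diagP I) = RingHom.id B := rfl
lemma p1_diagP_apply (b : B) : p1 I (diagP I b) = b := rfl
lemma p2_diagP_apply (b : B) : p2 I (diagP I b) = b := rfl

lemma p1_surjective : Function.Surjective (p1 I) := fun b => ⟨diagP I b, rfl⟩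

/-- the ideal of pairs `(a, a)` with `a ∈ I`. -/
def nIdeal (hI : I * I = ⊥) : Ideal (pairRing I) where
  carrier := {t | p1 I t ∈ I ∧ p1 I t = p2 I t}
  add_mem' := by
    rintro t t' ⟨h1, h2⟩ ⟨h1', h2'⟩
    refine ⟨?_, ?_⟩
    · rw [map_add]; exact I.add_mem h1 h1'
    · rw [map_add, map_add, h2, h2']
  zero_mem' := by
    refine ⟨?_, ?_⟩
    · rw [map_zero]; exact I.zero_mem
    · rw [map_zero, map_zero]
  smul_mem' := by
    rintro c t ⟨h1, h2⟩
    refine ⟨?_, ?_⟩
    · rw [smul_eq_mul, map_mul]; exact I.mul_mem_left _ h1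
    · rw [smul_eq_mul, map_mul, map_mul, ← h2]
      have : (p2 I c - p1 I c) * p1 I t ∈ I * I := Ideal.mul_mem_mul (mem_pair c) h1
      rw [hI] at this
      have h0 : (p2 I c - p1 I c) * p1 I t = 0 := this
      have : p2 I c * p1 I t - p1 I c * p1 I t = 0 := by rw [← h0]; ring
      exact (sub_eq_zero.mp this).symm

lemma mem_nIdeal (hI : I * I = ⊥) (t : pairRing I) :
    t ∈ nIdeal hI ↔ p1 I t ∈ I ∧ p1 I t = p2 I t := Iff.rfl

/-- the quotient map to `(B/I) ⊕ I`. -/
def qMap (hI : I * I = ⊥) : pairRing I →+* pairRing I ⧸ nIdeal hI := Ideal.Quotient.mk _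

lemma qMap_eq_iff (hI : I * I = ⊥) (t t' : pairRing I) :
    qMap hI t = qMap hI t' ↔ p1 I t - p1 I t' ∈ I ∧ p1 I t - p1 I t' = p2 I t - p2 I t' := by
  unfold qMap
  rw [Ideal.Quotient.eq, mem_nIdeal, map_sub, map_sub]

/-- the composite `B → pairRing I → quotient` kills `I`. -/
lemma qMap_diagP_of_mem (hI : I * I = ⊥) {b : B} (hb : b ∈ I) : qMap hI (diagP I b) = 0 := by
  unfold qMap
  rw [Ideal.Quotient.eq_zero_iff_mem, mem_nIdeal]
  exact ⟨hb, rfl⟩

/-- criterion for two pairs of ring maps to agree after `qMap`. -/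
lemma qMap_mkPair_eq (hI : I * I = ⊥) {A : Type u} [CommRing A] (α β α' β' : A →+* B)
    (h : ∀ a, β a - α a ∈ I) (h' : ∀ a, β' a - α' a ∈ I)
    (h1 : ∀ a, α a - α' a ∈ I) (h2 : ∀ a, β a - α a = β' a - α' a) :
    (qMap hI).comp (mkPair α β h) = (qMap hI).comp (mkPair α' β' h') := by
  ext a
  rw [RingHom.comp_apply, RingHom.comp_apply, qMap_eq_iff]
  refine ⟨h1 a, ?_⟩
  change α a - α' a = β a - β' a
  have := h2 a
  linear_combination (-1 : B) * this

/-- the converse: agreement after `qMap` gives the relation between second components. -/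
lemma eq_of_qMap_eq (hI : I * I = ⊥) (t t' : pairRing I) (h : qMap hI t = qMap hI t') :
    p2 I t - p1 I t = p2 I t' - p1 I t' := by
  have := ((qMap_eq_iff hI t t').mp h).2
  linear_combination (-1 : B) * this

/-- auxiliary two-member family of rings. -/
def twoRing (B E : Type u) : Bool → Type u := fun b => bif b then B else E

instance twoRingCommRing (B E : Type u) [CommRing B] [CommRing E] :
    ∀ b, CommRing (twoRing B E b) := fun b =>
  match b with
  | true => (inferInstance : CommRing B)
  | false => (inferInstance : CommRing E)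

/-- auxiliary two-member family of ring maps. -/
def twoHom {D B E : Type u} [CommRing D] [CommRing B] [CommRing E] (f : D →+* B) (g : D →+* E) :
    ∀ b, D →+* twoRing B E b := fun b =>
  match b with
  | true => f
  | false => g

/-- `Spec p1` and `Spec qMap` are jointly epimorphic. -/
theorem pair_hom_ext (hI : I * I = ⊥) {Z : Scheme.{u}}
    (g h : Spec (CommRingCat.of (pairRing I)) ⟶ Z)
    (e1 : Spec.map (CommRingCat.ofHom (p1 I)) ≫ g = Spec.map (CommRingCat.ofHom (p1 I)) ≫ h)
    (e2 : Spec.map (CommRingCat.ofHom (qMap hI)) ≫ g =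
      Spec.map (CommRingCat.ofHom (qMap hI)) ≫ h) : g = h := by
  refine hom_ext_of_jointly_injective (idx := Bool)
    (R' := twoRing B (pairRing I ⧸ nIdeal hI)) (twoHom (p1 I) (qMap hI)) ?_ ?_ g h ?_
  · intro p
    have hp : p ∈ Set.range (PrimeSpectrum.comap (p1 I)) := by
      rw [range_comap_of_surjective _ _ p1_surjective]
      intro x hx
      have hx0 : p1 I x = 0 := hx
      have hxx : x * x = 0 := by
        apply pair_ext
        · simp [hx0]
        · rw [map_mul, map_zero]
          have h2 := mem_pair x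
          rw [hx0, sub_zero] at h2
          have : p2 I x * p2 I x ∈ I * I := Ideal.mul_mem_mul h2 h2
          rwa [hI] at this
      have : x * x ∈ p.asIdeal := by rw [hxx]; exact p.asIdeal.zero_mem
      exact (p.isPrime.mem_or_mem this).elim id id
    obtain ⟨q, hq⟩ := hp
    exact ⟨true, q, hq⟩
  · intro x hx
    have h1 : p1 I x = 0 := hx true
    have h2 : qMap hI x = 0 := hx false
    have h3 : x ∈ nIdeal hI := by
      unfold qMap at h2
      exact Ideal.Quotient.eq_zero_iff_mem.mp h2
    apply pair_ext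
    · rw [h1, map_zero]
    · rw [← h3.2, h1, map_zero]
  · intro i
    cases i
    · exact e2
    · exact e1

/-- `Spec p1` and `Spec p2` are jointly epimorphic. -/
theorem pair_hom_ext' (hI : I * I = ⊥) {Z : Scheme.{u}}
    (g h : Spec (CommRingCat.of (pairRing I)) ⟶ Z)
    (e1 : Spec.map (CommRingCat.ofHom (p1 I)) ≫ g = Spec.map (CommRingCat.ofHom (p1 I)) ≫ h)
    (e2 : Spec.map (CommRingCat.ofHom (p2 I)) ≫ g = Spec.map (CommRingCat.ofHom (p2 I)) ≫ h) :
    g = h := by
  refine hom_ext_of_jointly_injective (idx := Bool)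
    (R' := twoRing B B) (twoHom (p1 I) (p2 I)) ?_ ?_ g h ?_
  · intro p
    have hp : p ∈ Set.range (PrimeSpectrum.comap (p1 I)) := by
      rw [range_comap_of_surjective _ _ p1_surjective]
      intro x hx
      have hx0 : p1 I x = 0 := hx
      have hxx : x * x = 0 := by
        apply pair_ext
        · simp [hx0]
        · rw [map_mul, map_zero]
          have h2 := mem_pair x
          rw [hx0, sub_zero] at h2
          have : p2 I x * p2 I x ∈ I * I := Ideal.mul_mem_mul h2 h2
          rwa [hI] at this
      have : x * x ∈ p.asIdeal := by rw [hxx]; exact p.asIdeal.zero_mem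
      exact (p.isPrime.mem_or_mem this).elim id id
    obtain ⟨q, hq⟩ := hp
    exact ⟨true, q, hq⟩
  · intro x hx
    have h1 : p1 I x = 0 := hx true
    have h2 : p2 I x = 0 := hx false
    apply pair_ext
    · rw [h1, map_zero]
    · rw [h2, map_zero]
  · intro i
    cases i
    · exact e2
    · exact e1

end Groth.Agent.R2.H37.Pair
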