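import Mathlib
import Groth.Agent.R2.H37Infinitesimal

/-!
# Square-zero thickenings: the triple fibre product ring and commutativity of the kernel of
reduction (helper37)

For an ideal `I` of square zero in `C`, `tripleRing I` is the ring of triples `(a, b, c)` of elements
of `C` congruent modulo `I`.  It has three projections and the ring map `τ (a,b,c) = b + c - a`.
`Spec (tripleRing I)` is the push-out of three copies of `Spec C` along `Spec (C/I)`; we only
need that the three projections are jointly epimorphic (`triple_hom_ext`).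

`comm_of_affine`: two points of a group scheme over `Spec C`, trivial over `Spec (C/I)` and landing
(with the unit section) in a common affine chart, commute (Eckmann–Hilton).
-/

set_option autoImplicit false
universe u

open CategoryTheory AlgebraicGeometry

namespace Groth.Agent.R2.H37.SqZero

open Groth.Agent.R2.H37.Infinitesimal

section Ring

variable {C : Type u} [CommRing C] (I : Ideal C)

/-- triples of elements of `C` congruent modulo `I`. -/
def tripleRing : Subring (C × C × C) where
  carrier := {t | t.2.1 - t.1 ∈ I ∧ t.2.2 - t.1 ∈ I}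
  mul_mem' := by
    rintro ⟨a, b, c⟩ ⟨a', b', c'⟩ ⟨h1, h2⟩ ⟨h1', h2'⟩
    refine ⟨?_, ?_⟩
    · have : b * b' - a * a' = b * (b' - a') + (b - a) * a' := by ring
      change b * b' - a * a' ∈ I
      rw [this]
      exact I.add_mem (I.mul_mem_left _ h1') (I.mul_mem_right _ h1)
    · have : c * c' - a * a' = c * (c' - a') + (c - a) * a' := by ring
      change c * c' - a * a' ∈ I
      rw [this]
      exact I.add_mem (I.mul_mem_left _ h2') (I.mul_mem_right _ h2)
  one_mem' := by
    refine ⟨?_, ?_⟩ <;> simp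
  add_mem' := by
    rintro ⟨a, b, c⟩ ⟨a', b', c'⟩ ⟨h1, h2⟩ ⟨h1', h2'⟩
    refine ⟨?_, ?_⟩
    · have : (b + b') - (a + a') = (b - a) + (b' - a') := by ring
      change (b + b') - (a + a') ∈ I
      rw [this]
      exact I.add_mem h1 h1'
    · have : (c + c') - (a + a') = (c - a) + (c' - a') := by ring
      change (c + c') - (a + a') ∈ I
      rw [this]
      exact I.add_mem h2 h2'
  zero_mem' := by
    refine ⟨?_, ?_⟩ <;> simp
  neg_mem' := by
    rintro ⟨a, b, c⟩ ⟨h1, h2⟩
    refine ⟨?_, ?_⟩
    · have : (-b) - (-a) = -(b - a) := by ring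
      change (-b) - (-a) ∈ I
      rw [this]
      exact I.neg_mem h1
    · have : (-c) - (-a) = -(c - a) := by ring
      change (-c) - (-a) ∈ I
      rw [this]
      exact I.neg_mem h2

/-- first projection -/
def p1 : tripleRing I →+* C := (RingHom.fst C (C × C)).comp (tripleRing I).subtype
/-- second projection -/
def p2 : tripleRing I →+* C :=
  ((RingHom.fst C C).comp (RingHom.snd C (C × C))).comp (tripleRing I).subtype
/-- third projection -/
def p3 : tripleRing I →+* C :=
  ((RingHom.snd C C).comp (RingHom.snd C (C × C))).comp (tripleRing I).subtype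

variable {I}

lemma mem2 (t : tripleRing I) : p2 I t - p1 I t ∈ I := t.2.1
lemma mem3 (t : tripleRing I) : p3 I t - p1 I t ∈ I := t.2.2

lemma triple_ext {t t' : tripleRing I} (h1 : p1 I t = p1 I t') (h2 : p2 I t = p2 I t')
    (h3 : p3 I t = p3 I t') : t = t' := by
  apply Subtype.ext
  exact Prod.ext h1 (Prod.ext h2 h3)

/-- the sum map `(a, b, c) ↦ b + c - a`, a ring map since `I` has square zero. -/
def tau (hI : I * I = ⊥) : tripleRing I →+* C where
  toFun t := p2 I t + p3 I t - p1 I t
  map_one' := by simp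
  map_zero' := by simp
  map_add' := by
    intro t t'
    simp only [map_add]
    ring
  map_mul' := by
    intro t t'
    simp only [map_mul]
    have e1 : (p2 I t - p1 I t) * (p3 I t' - p1 I t') = 0 := by
      have : (p2 I t - p1 I t) * (p3 I t' - p1 I t') ∈ I * I :=
        Ideal.mul_mem_mul (mem2 t) (mem3 t')
      rwa [hI] at this
    have e2 : (p3 I t - p1 I t) * (p2 I t' - p1 I t') = 0 := by
      have : (p3 I t - p1 I t) * (p2 I t' - p1 I t') ∈ I * I :=
        Ideal.mul_mem_mul (mem3 t) (mem2 t')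
      rwa [hI] at this
    have key : (p2 I t + p3 I t - p1 I t) * (p2 I t' + p3 I t' - p1 I t') -
        (p2 I t * p2 I t' + p3 I t * p3 I t' - p1 I t * p1 I t') =
        (p2 I t - p1 I t) * (p3 I t' - p1 I t') + (p3 I t - p1 I t) * (p2 I t' - p1 I t') := by
      ring
    rw [e1, e2, add_zero] at key
    exact (sub_eq_zero.mp key).symm

lemma tau_apply (hI : I * I = ⊥) (t : tripleRing I) : tau hI t = p2 I t + p3 I t - p1 I t := rfl

/-- a triple of congruent ring maps gives a ring map to the triple ring. -/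
def mk3 {A : Type u} [CommRing A] (α β δ : A →+* C) (h1 : ∀ a, β a - α a ∈ I)
    (h2 : ∀ a, δ a - α a ∈ I) : A →+* tripleRing I :=
  RingHom.codRestrict (α.prod (β.prod δ)) (tripleRing I) (fun a => ⟨h1 a, h2 a⟩)

section mk3
variable {A : Type u} [CommRing A] (α β δ : A →+* C) (h1 : ∀ a, β a - α a ∈ I)
    (h2 : ∀ a, δ a - α a ∈ I)

lemma p1_mk3 : (p1 I).comp (mk3 α β δ h1 h2) = α := rfl
lemma p2_mk3 : (p2 I).comp (mk3 α β δ h1 h2) = β := rfl
lemma p3_mk3 : (p3 I).comp (mk3 α β δ h1 h2) = δ := rfl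
lemma tau_mk3 (hI : I * I = ⊥) (a : A) : tau hI (mk3 α β δ h1 h2 a) = β a + δ a - α a := rfl

end mk3

/-- the diagonal map -/
def diag3 {R : Type u} [CommRing R] (ψ : R →+* C) : R →+* tripleRing I :=
  mk3 ψ ψ ψ (fun a => by simp) (fun a => by simp)

lemma p1_surjective : Function.Surjective (p1 I) := by
  intro c
  exact ⟨diag3 (RingHom.id C) c, rfl⟩

/-- the three projections are jointly epimorphic on `Spec`. -/
theorem triple_hom_ext (hI : I * I = ⊥) {Z : Scheme.{u}}
    (g h : Spec (CommRingCat.of (tripleRing I)) ⟶ Z)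
    (e1 : Spec.map (CommRingCat.ofHom (p1 I)) ≫ g = Spec.map (CommRingCat.ofHom (p1 I)) ≫ h)
    (e2 : Spec.map (CommRingCat.ofHom (p2 I)) ≫ g = Spec.map (CommRingCat.ofHom (p2 I)) ≫ h)
    (e3 : Spec.map (CommRingCat.ofHom (p3 I)) ≫ g = Spec.map (CommRingCat.ofHom (p3 I)) ≫ h) :
    g = h := by
  refine hom_ext_of_jointly_injective (idx := Fin 3) (R' := fun _ => C)
    (fun i => ![p1 I, p2 I, p3 I] i) ?_ ?_ g h ?_
  · intro p
    have hp : p ∈ Set.range (PrimeSpectrum.comap (p1 I)) := by
      rw [range_comap_of_surjective _ _ p1_surjective]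
      intro x hx
      have hx0 : p1 I x = 0 := hx
      have hxx : x * x = 0 := by
        apply triple_ext
        · simp [hx0]
        · rw [map_mul, map_zero]
          have h2 := mem2 x
          rw [hx0, sub_zero] at h2
          have : p2 I x * p2 I x ∈ I * I := Ideal.mul_mem_mul h2 h2
          rwa [hI] at this
        · rw [map_mul, map_zero]
          have h3 := mem3 x
          rw [hx0, sub_zero] at h3
          have : p3 I x * p3 I x ∈ I * I := Ideal.mul_mem_mul h3 h3
          rwa [hI] at this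
      have : x * x ∈ p.asIdeal := by rw [hxx]; exact p.asIdeal.zero_mem
      exact (p.isPrime.mem_or_mem this).elim id id
    obtain ⟨q, hq⟩ := hp
    exact ⟨0, q, hq⟩
  · intro x hx
    apply triple_ext
    · simpa using hx 0
    · simpa using hx 1
    · simpa using hx 2
  · intro i
    fin_cases i
    · exact e1
    · exact e2
    · exact e3

end Ring

section Core

open MonObj

variable {R : Type u} [CommRing R] (X : Over (Spec (CommRingCat.of R))) [GrpObj X]
  {C : Type u} [CommRing C] (I : Ideal C)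
  (y : Spec (CommRingCat.of C) ⟶ Spec (CommRingCat.of R))

/-- the ring map underlying the structure morphism -/
noncomputable def strHom : R →+* C := (Spec.preimage y).hom

lemma spec_strHom : Spec.map (CommRingCat.ofHom (strHom y)) = y := by
  unfold strHom
  exact Spec.map_preimage y

/-- `Spec` of the triple ring over `Spec R`. -/
noncomputable def tripleOver : Over (Spec (CommRingCat.of R)) :=
  Over.mk (Spec.map (CommRingCat.ofHom (diag3 (I := I) (strHom y))))

/-- a ring map `tripleRing I → C` compatible with the structure maps gives a morphism over `Spec R`. -/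
noncomputable def fromTriple (θ : tripleRing I →+* C)
    (hθ : θ.comp (diag3 (I := I) (strHom y)) = strHom y) : Over.mk y ⟶ tripleOver I y :=
  Over.homMk (Spec.map (CommRingCat.ofHom θ)) (by
    change Spec.map _ ≫ Spec.map _ = y
    rw [← Spec.map_comp, ← CommRingCat.ofHom_comp, hθ, spec_strHom])

lemma fromTriple_left (θ : tripleRing I →+* C)
    (hθ : θ.comp (diag3 (I := I) (strHom y)) = strHom y) :
    (fromTriple I y θ hθ).left = Spec.map (CommRingCat.ofHom θ) := rfl

variable {A : Type u} [CommRing A] (j : Spec (CommRingCat.of A) ⟶ X.left)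

omit [GrpObj X] in
lemma triple_w (hI : I * I = ⊥) (α β δ : A →+* C) (h1 : ∀ a, β a - α a ∈ I) (h2 : ∀ a, δ a - α a ∈ I)
    (hα : (Spec.map (CommRingCat.ofHom α) ≫ j) ≫ X.hom = y)
    (hβ : (Spec.map (CommRingCat.ofHom β) ≫ j) ≫ X.hom = y)
    (hδ : (Spec.map (CommRingCat.ofHom δ) ≫ j) ≫ X.hom = y) :
    (Spec.map (CommRingCat.ofHom (mk3 α β δ h1 h2)) ≫ j) ≫ X.hom =
      Spec.map (CommRingCat.ofHom (diag3 (I := I) (strHom y))) := by
  apply triple_hom_ext hI
  · rw [← Spec.map_comp, ← CommRingCat.ofHom_comp, ← Category.assoc, ← Category.assoc,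
      ← Spec.map_comp, ← CommRingCat.ofHom_comp, p1_mk3, hα]
    exact (spec_strHom y).symm
  · rw [← Spec.map_comp, ← CommRingCat.ofHom_comp, ← Category.assoc, ← Category.assoc,
      ← Spec.map_comp, ← CommRingCat.ofHom_comp, p2_mk3, hβ]
    exact (spec_strHom y).symm
  · rw [← Spec.map_comp, ← CommRingCat.ofHom_comp, ← Category.assoc, ← Category.assoc,
      ← Spec.map_comp, ← CommRingCat.ofHom_comp, p3_mk3, hδ]
    exact (spec_strHom y).symm

/-- the point of `X` over the triple ring with components `α, β, δ` in the chart `j`. -/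
noncomputable def triplePt (hI : I * I = ⊥) (α β δ : A →+* C) (h1 : ∀ a, β a - α a ∈ I) (h2 : ∀ a, δ a - α a ∈ I)
    (hα : (Spec.map (CommRingCat.ofHom α) ≫ j) ≫ X.hom = y)
    (hβ : (Spec.map (CommRingCat.ofHom β) ≫ j) ≫ X.hom = y)
    (hδ : (Spec.map (CommRingCat.ofHom δ) ≫ j) ≫ X.hom = y) :
    tripleOver I y ⟶ X :=
  Over.homMk (Spec.map (CommRingCat.ofHom (mk3 α β δ h1 h2)) ≫ j)
    (triple_w X I y j hI α β δ h1 h2 hα hβ hδ)

lemma triplePt_left (hI : I * I = ⊥) (α β δ : A →+* C) (h1 : ∀ a, β a - α a ∈ I) (h2 : ∀ a, δ a - α a ∈ I)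
    (hα : (Spec.map (CommRingCat.ofHom α) ≫ j) ≫ X.hom = y)
    (hβ : (Spec.map (CommRingCat.ofHom β) ≫ j) ≫ X.hom = y)
    (hδ : (Spec.map (CommRingCat.ofHom δ) ≫ j) ≫ X.hom = y) :
    (triplePt X I y j hI α β δ h1 h2 hα hβ hδ).left =
      Spec.map (CommRingCat.ofHom (mk3 α β δ h1 h2)) ≫ j := rfl

lemma fromTriple_comp_triplePt_left (hI : I * I = ⊥) (θ : tripleRing I →+* C)
    (hθ : θ.comp (diag3 (I := I) (strHom y)) = strHom y)
    (α β δ : A →+* C) (h1 : ∀ a, β a - α a ∈ I) (h2 : ∀ a, δ a - α a ∈ I)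
    (hα : (Spec.map (CommRingCat.ofHom α) ≫ j) ≫ X.hom = y)
    (hβ : (Spec.map (CommRingCat.ofHom β) ≫ j) ≫ X.hom = y)
    (hδ : (Spec.map (CommRingCat.ofHom δ) ≫ j) ≫ X.hom = y) :
    (fromTriple I y θ hθ ≫ triplePt X I y j hI α β δ h1 h2 hα hβ hδ).left =
      Spec.map (CommRingCat.ofHom (θ.comp (mk3 α β δ h1 h2))) ≫ j := by
  rw [Over.comp_left, fromTriple_left, triplePt_left]
  change Spec.map (CommRingCat.ofHom θ) ≫ Spec.map (CommRingCat.ofHom (mk3 α β δ h1 h2)) ≫ j = _
  rw [← Category.assoc, ← Spec.map_comp, ← CommRingCat.ofHom_comp]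

/-- **Commutativity of the kernel of reduction modulo a square-zero ideal**, affine local form. -/
theorem comm_of_affine (hI : I * I = ⊥) (g g' : Over.mk y ⟶ X) [Mono j]
    (ga gb ep : A →+* C)
    (hga : g.left = Spec.map (CommRingCat.ofHom ga) ≫ j)
    (hgb : g'.left = Spec.map (CommRingCat.ofHom gb) ≫ j)
    (hep : (1 : Over.mk y ⟶ X).left = Spec.map (CommRingCat.ofHom ep) ≫ j)
    (hg : Spec.map (CommRingCat.ofHom (Ideal.Quotient.mk I)) ≫ g.left =
      Spec.map (CommRingCat.ofHom (Ideal.Quotient.mk I)) ≫ (1 : Over.mk y ⟶ X).left)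
    (hg' : Spec.map (CommRingCat.ofHom (Ideal.Quotient.mk I)) ≫ g'.left =
      Spec.map (CommRingCat.ofHom (Ideal.Quotient.mk I)) ≫ (1 : Over.mk y ⟶ X).left) :
    g * g' = g' * g := by
  -- congruences
  have cong : ∀ (β : A →+* C),
      Spec.map (CommRingCat.ofHom (Ideal.Quotient.mk I)) ≫ Spec.map (CommRingCat.ofHom β) ≫ j =
      Spec.map (CommRingCat.ofHom (Ideal.Quotient.mk I)) ≫ Spec.map (CommRingCat.ofHom ep) ≫ j →
      ∀ a, β a - ep a ∈ I := by
    intro β h a
    rw [← Category.assoc, ← Category.assoc, cancel_mono, ← Spec.map_comp, ← Spec.map_comp] at h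
    have h2 := Spec.map_injective h
    have h3 := congrArg (fun k => k.hom a) h2
    simp only [CommRingCat.hom_comp, CommRingCat.hom_ofHom, RingHom.comp_apply] at h3
    exact Ideal.Quotient.eq.mp h3
  have c1 : ∀ a, ga a - ep a ∈ I := cong ga (by rw [← hga, ← hep]; exact hg)
  have c2 : ∀ a, gb a - ep a ∈ I := cong gb (by rw [← hgb, ← hep]; exact hg')
  have c0 : ∀ a, ep a - ep a ∈ I := fun a => by simp
  have wep : (Spec.map (CommRingCat.ofHom ep) ≫ j) ≫ X.hom = y := by
    rw [← hep]; exact Over.w (1 : Over.mk y ⟶ X)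
  have wga : (Spec.map (CommRingCat.ofHom ga) ≫ j) ≫ X.hom = y := by
    rw [← hga]; exact Over.w g
  have wgb : (Spec.map (CommRingCat.ofHom gb) ≫ j) ≫ X.hom = y := by
    rw [← hgb]; exact Over.w g'
  have hτ : (tau hI).comp (diag3 (I := I) (strHom y)) = strHom y := by
    ext r
    change strHom y r + strHom y r - strHom y r = strHom y r
    ring
  -- the two points over the triple ring
  have hG1 : fromTriple I y (p1 I) rfl ≫ triplePt X I y j hI ep ga ep c1 c0 wep wga wep = 1 := by
    apply Over.OverMorphism.ext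
    refine (fromTriple_comp_triplePt_left X I y j hI _ _ _ _ _ _ _ _ _ _).trans ?_
    rw [p1_mk3, hep]
  have hG2 : fromTriple I y (p2 I) rfl ≫ triplePt X I y j hI ep ga ep c1 c0 wep wga wep = g := by
    apply Over.OverMorphism.ext
    refine (fromTriple_comp_triplePt_left X I y j hI _ _ _ _ _ _ _ _ _ _).trans ?_
    rw [p2_mk3, hga]
  have hG3 : fromTriple I y (p3 I) rfl ≫ triplePt X I y j hI ep ga ep c1 c0 wep wga wep = 1 := by
    apply Over.OverMorphism.ext
    refine (fromTriple_comp_triplePt_left X I y j hI _ _ _ _ _ _ _ _ _ _).trans ?_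
    rw [p3_mk3, hep]
  have hGτ : fromTriple I y (tau hI) hτ ≫ triplePt X I y j hI ep ga ep c1 c0 wep wga wep = g := by
    apply Over.OverMorphism.ext
    refine (fromTriple_comp_triplePt_left X I y j hI _ _ _ _ _ _ _ _ _ _).trans ?_
    rw [hga]
    congr 3
    ext a
    change ga a + ep a - ep a = ga a
    ring
  have hG'1 : fromTriple I y (p1 I) rfl ≫ triplePt X I y j hI ep ep gb c0 c2 wep wep wgb = 1 := by
    apply Over.OverMorphism.ext
    refine (fromTriple_comp_triplePt_left X I y j hI _ _ _ _ _ _ _ _ _ _).trans ?_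
    rw [p1_mk3, hep]
  have hG'2 : fromTriple I y (p2 I) rfl ≫ triplePt X I y j hI ep ep gb c0 c2 wep wep wgb = 1 := by
    apply Over.OverMorphism.ext
    refine (fromTriple_comp_triplePt_left X I y j hI _ _ _ _ _ _ _ _ _ _).trans ?_
    rw [p2_mk3, hep]
  have hG'3 : fromTriple I y (p3 I) rfl ≫ triplePt X I y j hI ep ep gb c0 c2 wep wep wgb = g' := by
    apply Over.OverMorphism.ext
    refine (fromTriple_comp_triplePt_left X I y j hI _ _ _ _ _ _ _ _ _ _).trans ?_
    rw [p3_mk3, hgb]
  have hG'τ : fromTriple I y (tau hI) hτ ≫ triplePt X I y j hI ep ep gb c0 c2 wep wep wgb = g' := by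
    apply Over.OverMorphism.ext
    refine (fromTriple_comp_triplePt_left X I y j hI _ _ _ _ _ _ _ _ _ _).trans ?_
    rw [hgb]
    congr 3
    ext a
    change ep a + gb a - ep a = gb a
    ring
  have hGG' : triplePt X I y j hI ep ga ep c1 c0 wep wga wep * triplePt X I y j hI ep ep gb c0 c2 wep wep wgb =
      triplePt X I y j hI ep ep gb c0 c2 wep wep wgb * triplePt X I y j hI ep ga ep c1 c0 wep wga wep := by
    apply Over.OverMorphism.ext
    apply triple_hom_ext hI
    · change (fromTriple I y (p1 I) rfl ≫ (_ * _)).left = (fromTriple I y (p1 I) rfl ≫ (_ * _)).left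
      rw [MonObj.comp_mul, MonObj.comp_mul, hG1, hG'1]
    · change (fromTriple I y (p2 I) rfl ≫ (_ * _)).left = (fromTriple I y (p2 I) rfl ≫ (_ * _)).left
      rw [MonObj.comp_mul, MonObj.comp_mul, hG2, hG'2, _root_.mul_one, _root_.one_mul]
    · change (fromTriple I y (p3 I) rfl ≫ (_ * _)).left = (fromTriple I y (p3 I) rfl ≫ (_ * _)).left
      rw [MonObj.comp_mul, MonObj.comp_mul, hG3, hG'3, _root_.one_mul, _root_.mul_one]
  calc g * g' = (fromTriple I y (tau hI) hτ ≫ triplePt X I y j hI ep ga ep c1 c0 wep wga wep) *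
        (fromTriple I y (tau hI) hτ ≫ triplePt X I y j hI ep ep gb c0 c2 wep wep wgb) := by
        rw [hGτ, hG'τ]
    _ = fromTriple I y (tau hI) hτ ≫ (triplePt X I y j hI ep ga ep c1 c0 wep wga wep *
        triplePt X I y j hI ep ep gb c0 c2 wep wep wgb) := (MonObj.comp_mul _ _ _).symm
    _ = fromTriple I y (tau hI) hτ ≫ (triplePt X I y j hI ep ep gb c0 c2 wep wep wgb *
        triplePt X I y j hI ep ga ep c1 c0 wep wga wep) := by rw [hGG']
    _ = (fromTriple I y (tau hI) hτ ≫ triplePt X I y j hI ep ep gb c0 c2 wep wep wgb) *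
        (fromTriple I y (tau hI) hτ ≫ triplePt X I y j hI ep ga ep c1 c0 wep wga wep) :=
        MonObj.comp_mul _ _ _
    _ = g' * g := by rw [hGτ, hG'τ]

end Core

end Groth.Agent.R2.H37.SqZero
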