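import Mathlib
import Groth.Agent.R2.H37Pair
import Groth.Agent.R2.H37SqZero
import Groth.Agent.R2.H37DiagPoints

/-!
# Deviation calculus modulo a square-zero ideal (helper37)

`S` is any scheme, test objects are `Over.mk (f : Spec B ⟶ S)`.  For an `S`-scheme `Z` and a chart
`j : Spec A ⟶ Z.left`, a point `p : Over.mk f ⟶ Z` *is given by* `π : A →+* B` in the chart when
`p.left = Spec π ≫ j` (`IsChartPt`).

Main result `chart_of_act` (the "linearity of deviations"): for any `S`-morphism
`Φ : G ⊗ X ⟶ X` which is the second projection on points with values in rings killed by the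
square-zero ideal `I`, and points `g` of `G`, `x ≡ y (mod I)` of `X` given by `π, π'` in a chart,
with `Φ(g,x)` given by `σ ≡ π`, the point `Φ(g,y)` is given by `σ + π' - π`.
-/

set_option autoImplicit false
universe u

open CategoryTheory AlgebraicGeometry MonoidalCategory CartesianMonoidalCategory

namespace Groth.Agent.R2.H37.Dev

open Groth.Agent.R2.H37 Groth.Agent.R2.H37.Pair Groth.Agent.R2.H37.DiagPoints

variable {S : Scheme.{u}}

section Chart

variable {Z : Over S} {A : Type u} [CommRing A] (j : Spec (CommRingCat.of A) ⟶ Z.left)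

/-- the point `p` is given by the ring map `π` in the chart `j`. -/
def IsChartPt {B : Type u} [CommRing B] {f : Spec (CommRingCat.of B) ⟶ S} (p : Over.mk f ⟶ Z)
    (π : A →+* B) : Prop :=
  p.left = Spec.map (CommRingCat.ofHom π) ≫ j

variable {j}

lemma IsChartPt.comp {B B₂ : Type u} [CommRing B] [CommRing B₂] {f : Spec (CommRingCat.of B) ⟶ S}
    {p : Over.mk f ⟶ Z} {π : A →+* B} (hp : IsChartPt j p π) (φ : B →+* B₂)
    (f₂ : Spec (CommRingCat.of B₂) ⟶ S) (h : Spec.map (CommRingCat.ofHom φ) ≫ f = f₂) :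
    IsChartPt j (specHom f f₂ φ h ≫ p) (φ.comp π) := by
  unfold IsChartPt at hp ⊢
  rw [Over.comp_left, specHom_left, hp, CommRingCat.ofHom_comp, Spec.map_comp, Category.assoc]

lemma IsChartPt.inj [Mono j] {B : Type u} [CommRing B] {f : Spec (CommRingCat.of B) ⟶ S}
    {p : Over.mk f ⟶ Z} {π π' : A →+* B} (hp : IsChartPt j p π) (hp' : IsChartPt j p π') :
    π = π' := by
  unfold IsChartPt at hp hp'
  have h := hp.symm.trans hp'
  rw [cancel_mono] at h
  have h2 := Spec.map_injective h
  have : (CommRingCat.ofHom π).hom = (CommRingCat.ofHom π').hom := by rw [h2]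
  exact this

lemma IsChartPt.ext {B : Type u} [CommRing B] {f : Spec (CommRingCat.of B) ⟶ S}
    {p p' : Over.mk f ⟶ Z} {π : A →+* B} (hp : IsChartPt j p π) (hp' : IsChartPt j p' π) :
    p = p' := by
  apply Over.OverMorphism.ext
  exact hp.trans hp'.symm

lemma IsChartPt.w {B : Type u} [CommRing B] {f : Spec (CommRingCat.of B) ⟶ S}
    {p : Over.mk f ⟶ Z} {π : A →+* B} (hp : IsChartPt j p π) :
    (Spec.map (CommRingCat.ofHom π) ≫ j) ≫ Z.hom = f := by
  unfold IsChartPt at hp
  rw [← hp]
  exact Over.w p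

variable (j) in
lemma exists_isChartPt {B : Type u} [CommRing B] (f : Spec (CommRingCat.of B) ⟶ S) (π : A →+* B)
    (hπ : (Spec.map (CommRingCat.ofHom π) ≫ j) ≫ Z.hom = f) :
    ∃ p : Over.mk f ⟶ Z, IsChartPt j p π :=
  ⟨Over.homMk (Spec.map (CommRingCat.ofHom π) ≫ j) hπ, rfl⟩

/-- congruence of the ring maps of two points which agree modulo `I`. -/
lemma IsChartPt.cong [Mono j] {B : Type u} [CommRing B] {f : Spec (CommRingCat.of B) ⟶ S}
    {p p' : Over.mk f ⟶ Z} {π π' : A →+* B} (hp : IsChartPt j p π) (hp' : IsChartPt j p' π')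
    (I : Ideal B)
    (h : Spec.map (CommRingCat.ofHom (Ideal.Quotient.mk I)) ≫ p.left =
      Spec.map (CommRingCat.ofHom (Ideal.Quotient.mk I)) ≫ p'.left) (a : A) :
    π a - π' a ∈ I := by
  unfold IsChartPt at hp hp'
  rw [hp, hp', ← Category.assoc, ← Category.assoc, cancel_mono, ← Spec.map_comp,
    ← Spec.map_comp] at h
  have h2 := Spec.map_injective h
  have h3 := congrArg (fun k => k.hom a) h2
  simp only [CommRingCat.hom_comp, CommRingCat.hom_ofHom, RingHom.comp_apply] at h3
  exact Ideal.Quotient.eq.mp h3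

end Chart

section Act

variable {G X : Over S} (Φ : G ⊗ X ⟶ X) {A : Type u} [CommRing A]
  (j : Spec (CommRingCat.of A) ⟶ X.left)
  {B : Type u} [CommRing B] (f : Spec (CommRingCat.of B) ⟶ S) (I : Ideal B)

/-- structure map of `Spec (pairRing I)` -/
noncomputable abbrev fD : Spec (CommRingCat.of (pairRing I)) ⟶ S :=
  Spec.map (CommRingCat.ofHom (diagP I)) ≫ f

/-- structure map of `Spec (pairRing I ⧸ nIdeal)` -/
noncomputable abbrev fE (hI : I * I = ⊥) : Spec (CommRingCat.of (pairRing I ⧸ nIdeal hI)) ⟶ S :=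
  Spec.map (CommRingCat.ofHom (qMap hI)) ≫ fD f I

/-- the projection `Spec E ⟶ Spec B` over `S` -/
noncomputable abbrev piE (hI : I * I = ⊥) : Over.mk (fE f I hI) ⟶ Over.mk f :=
  specHom (fD f I) (fE f I hI) (qMap hI) rfl ≫ specHom f (fD f I) (diagP I) rfl

lemma spec_p1_fD : Spec.map (CommRingCat.ofHom (p1 I)) ≫ fD f I = f := by
  unfold fD
  rw [← Category.assoc, ← Spec.map_comp, ← CommRingCat.ofHom_comp, p1_diagP]
  simp

lemma spec_p2_fD : Spec.map (CommRingCat.ofHom (p2 I)) ≫ fD f I = f := by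
  unfold fD
  rw [← Category.assoc, ← Spec.map_comp, ← CommRingCat.ofHom_comp, p2_diagP]
  simp

/-- **Linearity of deviations.**  `Φ : G ⊗ X ⟶ X` any morphism which is the second projection on
points with values in `E = (B/I) ⊕ I`.  If `x, y` are given by `π ≡ π'` in the chart and `Φ(g, x)` by
`σ ≡ π`, then `Φ(g, y)` is given by `σ + π' - π`. -/
theorem chart_of_act (hI : I * I = ⊥)
    (g : Over.mk f ⟶ G) (x y : Over.mk f ⟶ X) (π π' σ : A →+* B)
    (hx : IsChartPt j x π) (hy : IsChartPt j y π') (hσ : IsChartPt j (lift g x ≫ Φ) σ)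
    (h1 : ∀ a, σ a - π a ∈ I) (h2 : ∀ a, π' a - π a ∈ I)
    (htriv : ∀ (z : Over.mk (fE f I hI) ⟶ X) (ζ : A →+* pairRing I ⧸ nIdeal hI),
      IsChartPt j z ζ → lift (piE f I hI ≫ g) z ≫ Φ = z) :
    IsChartPt j (lift g y ≫ Φ) ((SqZero.tau hI).comp (SqZero.mk3 π σ π' h1 h2)) := by
  have hρa : ∀ a, ((SqZero.tau hI).comp (SqZero.mk3 π σ π' h1 h2)) a = σ a + π' a - π a :=
    fun a => rfl
  have hρσ : ∀ a, ((SqZero.tau hI).comp (SqZero.mk3 π σ π' h1 h2)) a - σ a ∈ I := by
    intro a
    rw [hρa]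
    have := h2 a
    have e : σ a + π' a - π a - σ a = π' a - π a := by ring
    rw [e]
    exact this
  -- the point `⟨x, y⟩` over the pair ring
  obtain ⟨zD, hzD⟩ := exists_isChartPt j (fD f I) (mkPair π π' h2) (by
    apply pair_hom_ext' hI
    · rw [spec_p1_fD, ← Category.assoc, ← Category.assoc, ← Spec.map_comp,
        ← CommRingCat.ofHom_comp, p1_mkPair]
      exact hx.w
    · rw [spec_p2_fD, ← Category.assoc, ← Category.assoc, ← Spec.map_comp,
        ← CommRingCat.ofHom_comp, p2_mkPair]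
      exact hy.w)
  -- the point `P = Φ(g_D, ⟨x,y⟩)` over the pair ring
  have hP : (lift (specHom f (fD f I) (diagP I) rfl ≫ g) zD ≫ Φ).left =
      Spec.map (CommRingCat.ofHom (mkPair σ _ hρσ)) ≫ j := by
    apply pair_hom_ext hI
    · -- first components
      have e : Spec.map (CommRingCat.ofHom (p1 I)) ≫
          (lift (specHom f (fD f I) (diagP I) rfl ≫ g) zD ≫ Φ).left =
          (specHom (fD f I) f (p1 I) (spec_p1_fD f I) ≫
            (lift (specHom f (fD f I) (diagP I) rfl ≫ g) zD ≫ Φ)).left := rfl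
      rw [e, ← Category.assoc, comp_lift]
      have e1 : specHom (fD f I) f (p1 I) (spec_p1_fD f I) ≫
          specHom f (fD f I) (diagP I) rfl ≫ g = g := by
        apply Over.OverMorphism.ext
        rw [Over.comp_left, Over.comp_left, specHom_left, specHom_left, ← Category.assoc,
          ← Spec.map_comp, ← CommRingCat.ofHom_comp, p1_diagP]
        simp
      have e2 : specHom (fD f I) f (p1 I) (spec_p1_fD f I) ≫ zD = x := by
        apply IsChartPt.ext (j := j) (π := π) _ hx
        have := hzD.comp (p1 I) f (spec_p1_fD f I)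
        rwa [p1_mkPair] at this
      rw [e1, e2, hσ, ← Category.assoc, ← Spec.map_comp, ← CommRingCat.ofHom_comp, p1_mkPair]
    · -- components over `E`
      have e : Spec.map (CommRingCat.ofHom (qMap hI)) ≫
          (lift (specHom f (fD f I) (diagP I) rfl ≫ g) zD ≫ Φ).left =
          (specHom (fD f I) (fE f I hI) (qMap hI) rfl ≫
            (lift (specHom f (fD f I) (diagP I) rfl ≫ g) zD ≫ Φ)).left := rfl
      rw [e, ← Category.assoc, comp_lift, ← Category.assoc]
      have := hzD.comp (qMap hI) (fE f I hI) rfl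
      rw [htriv (specHom (fD f I) (fE f I hI) (qMap hI) rfl ≫ zD) _ this]
      rw [this, ← Category.assoc, ← Spec.map_comp, ← CommRingCat.ofHom_comp]
      congr 3
      exact (qMap_mkPair_eq hI σ _ π π' hρσ h2 h1 (fun a => by rw [hρa]; ring)).symm
  -- second components
  have e : (lift g y ≫ Φ) = specHom (fD f I) f (p2 I) (spec_p2_fD f I) ≫
      (lift (specHom f (fD f I) (diagP I) rfl ≫ g) zD ≫ Φ) := by
    rw [← Category.assoc, comp_lift]
    have e1 : specHom (fD f I) f (p2 I) (spec_p2_fD f I) ≫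
        specHom f (fD f I) (diagP I) rfl ≫ g = g := by
      apply Over.OverMorphism.ext
      rw [Over.comp_left, Over.comp_left, specHom_left, specHom_left, ← Category.assoc,
        ← Spec.map_comp, ← CommRingCat.ofHom_comp, p2_diagP]
      simp
    have e2 : specHom (fD f I) f (p2 I) (spec_p2_fD f I) ≫ zD = y := by
      apply IsChartPt.ext (j := j) (π := π') _ hy
      have := hzD.comp (p2 I) f (spec_p2_fD f I)
      rwa [p2_mkPair] at this
    rw [e1, e2]
  unfold IsChartPt
  rw [e, Over.comp_left, specHom_left, hP, ← Category.assoc, ← Spec.map_comp,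
    ← CommRingCat.ofHom_comp, p2_mkPair]

end Act

section Top

variable {Z : Over S} {B : Type u} [CommRing B] {f : Spec (CommRingCat.of B) ⟶ S}

/-- two points which agree modulo a nilpotent ideal have the same underlying continuous map;
in particular they land in the same opens. -/
lemma range_subset_of_eq_mod (I : Ideal B) (hI : I ≤ nilradical B) (x k : Over.mk f ⟶ Z)
    (hk : Spec.map (CommRingCat.ofHom (Ideal.Quotient.mk I)) ≫ k.left =
      Spec.map (CommRingCat.ofHom (Ideal.Quotient.mk I)) ≫ x.left)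
    (W : Set Z.left) (hx : Set.range x.left.base ⊆ W) : Set.range k.left.base ⊆ W := by
  rintro _ ⟨p, rfl⟩
  obtain ⟨p₀, rfl⟩ := (PrimeSpectrum.comap_quotientMk_bijective_of_le_nilradical hI).2 p
  have e := congrArg (fun m => m.base p₀) hk
  have e' : k.left.base (PrimeSpectrum.comap (Ideal.Quotient.mk I) p₀) =
      x.left.base (PrimeSpectrum.comap (Ideal.Quotient.mk I) p₀) := e
  rw [e']
  exact hx ⟨_, rfl⟩

lemma le_nilradical_of_sq_zero {I : Ideal B} (hI : I * I = ⊥) : I ≤ nilradical B := by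
  intro x hx
  refine ⟨2, ?_⟩
  have : x * x ∈ I * I := Ideal.mul_mem_mul hx hx
  rw [hI] at this
  rw [pow_two]
  exact this

end Top

section Group

open MonObj

variable {H : Over S} [GrpObj H] {A : Type u} [CommRing A]
  (j : Spec (CommRingCat.of A) ⟶ H.left)
  {B : Type u} [CommRing B] (f : Spec (CommRingCat.of B) ⟶ S) (I : Ideal B)

/-- **Products in the kernel of reduction are sums** (in a chart around the unit section). -/
theorem chart_mul (hI : I * I = ⊥) (k' k : Over.mk f ⟶ H) (ε κ' κ : A →+* B)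
    (hε : IsChartPt j (1 : Over.mk f ⟶ H) ε) (hk' : IsChartPt j k' κ') (hk : IsChartPt j k κ)
    (h1 : ∀ a, κ' a - ε a ∈ I) (h2 : ∀ a, κ a - ε a ∈ I)
    (htriv : piE f I hI ≫ k' = 1) :
    IsChartPt j (k' * k) ((SqZero.tau hI).comp (SqZero.mk3 ε κ' κ h1 h2)) := by
  have := chart_of_act (μ[H]) j f I hI k' 1 k ε κ κ' hε hk
    (by
      have e : lift k' (1 : Over.mk f ⟶ H) ≫ μ[H] = k' := by
        rw [← Hom.mul_def, _root_.mul_one]
      rw [e]; exact hk') h1 h2
    (by
      intro z _ _
      rw [htriv, ← Hom.mul_def, _root_.one_mul])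
  rwa [← Hom.mul_def] at this

/-- the conjugation morphism `(g, h) ↦ g h g⁻¹`. -/
noncomputable def conjMor (H : Over S) [GrpObj H] : H ⊗ H ⟶ H :=
  fst H H * snd H H * (fst H H)⁻¹

lemma lift_conjMor {T : Over S} (g h : T ⟶ H) : lift g h ≫ conjMor H = g * h * g⁻¹ := by
  unfold conjMor
  rw [MonObj.comp_mul, MonObj.comp_mul, GrpObj.comp_inv, lift_fst, lift_snd]

/-- **An element which is central modulo `I` centralises the kernel of reduction.** -/
theorem conj_eq_of_central_mod [Mono j] (hI : I * I = ⊥) (x k : Over.mk f ⟶ H) (ε κ : A →+* B)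
    (hε : IsChartPt j (1 : Over.mk f ⟶ H) ε) (hk : IsChartPt j k κ)
    (h2 : ∀ a, κ a - ε a ∈ I)
    (hcent : ∀ z : Over.mk (fE f I hI) ⟶ H, (piE f I hI ≫ x) * z = z * (piE f I hI ≫ x)) :
    x * k * x⁻¹ = k := by
  have h0 : ∀ a, ε a - ε a ∈ I := fun a => by simp
  have := chart_of_act (conjMor H) j f I hI x 1 k ε κ ε hε hk
    (by
      rw [lift_conjMor, _root_.mul_one, mul_inv_cancel]
      exact hε) h0 h2
    (by
      intro z _ _
      rw [lift_conjMor, hcent z, _root_.mul_assoc, mul_inv_cancel, _root_.mul_one])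
  rw [lift_conjMor] at this
  apply IsChartPt.ext (j := j) this
  have e : (SqZero.tau hI).comp (SqZero.mk3 ε ε κ h0 h2) = κ := by
    ext a
    change ε a + κ a - ε a = κ a
    ring
  rw [e]
  exact hk

end Group

end Groth.Agent.R2.H37.Dev
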