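import Mathlib
import Groth.Agent.R2.H37DiagPoints

/-!
# Universal points of locally diagonalisable groups (helper37)

`exists_universal_DS`: over `Spec B ⟶ S`, the group `D_S(M)` restricted to `B`-algebras is
represented by `B[M]`: there is a universal point over `Spec B[M]`, every point over `Spec B` is a
pull-back of it along a retraction `B[M] → B`, and its pull-back along the diagonal
`B[M] → B[M × M]` is the product of the pull-backs along the two inclusions.

`exists_universal_of_iso`: the same for an `S`-group `G` whose base change along `h : U ⟶ S` is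
isomorphic to `D_U(M)`, for test objects `Spec B ⟶ U ⟶ S`.
-/

set_option autoImplicit false
universe u

open CategoryTheory MonoidalCategory CartesianMonoidalCategory MonObj GrpObj AlgebraicGeometry
open CategoryTheory.Limits
open Groth.Agent.Lib.Helper27.GaGm

namespace Groth.Agent.R2.H37.DiagAt

open Groth.Agent.R2.H37.DiagPoints

variable {S : Scheme.{u}} {M : Type} [AddCommGroup M]

/-- structure map of `Spec B[M]` -/
noncomputable abbrev f1 {B : Type u} [CommRing B] (f : Spec (CommRingCat.of B) ⟶ S) (M : Type)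
    [AddCommGroup M] : Spec (CommRingCat.of (MonoidAlgebra B (Multiplicative M))) ⟶ S :=
  Spec.map (CommRingCat.ofHom (algebraMap B (MonoidAlgebra B (Multiplicative M)))) ≫ f

/-- structure map of `Spec B[M × M]` -/
noncomputable abbrev f2 {B : Type u} [CommRing B] (f : Spec (CommRingCat.of B) ⟶ S) (M : Type)
    [AddCommGroup M] :
    Spec (CommRingCat.of (MonoidAlgebra B (Multiplicative M × Multiplicative M))) ⟶ S :=
  Spec.map (CommRingCat.ofHom
    (algebraMap B (MonoidAlgebra B (Multiplicative M × Multiplicative M)))) ≫ f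

lemma spec_mapDomain_f1 {B : Type u} [CommRing B] (f : Spec (CommRingCat.of B) ⟶ S)
    (φ : Multiplicative M →* Multiplicative M × Multiplicative M) :
    Spec.map (CommRingCat.ofHom (MonoidAlgebra.mapDomainRingHom B φ)) ≫ f1 f M = f2 f M := by
  change Spec.map _ ≫ Spec.map _ ≫ f = Spec.map _ ≫ f
  rw [← Category.assoc, ← Spec.map_comp, ← CommRingCat.ofHom_comp,
    MonoidAlgebra.mapDomainRingHom_comp_algebraMap]

lemma spec_retract_f1 {B : Type u} [CommRing B] (f : Spec (CommRingCat.of B) ⟶ S)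
    (ρ : MonoidAlgebra B (Multiplicative M) →+* B)
    (hρ : ρ.comp (algebraMap B (MonoidAlgebra B (Multiplicative M))) = RingHom.id B) :
    Spec.map (CommRingCat.ofHom ρ) ≫ f1 f M = f := by
  change Spec.map _ ≫ Spec.map _ ≫ f = f
  rw [← Category.assoc, ← Spec.map_comp, ← CommRingCat.ofHom_comp, hρ]
  simp

/-- **Universal point of `D_S(M)` over `B`-algebras.** -/
theorem exists_universal_DS {B : Type u} [CommRing B] (f : Spec (CommRingCat.of B) ⟶ S) :
    ∃ xu : Over.mk (f1 f M) ⟶ Red.DS S M,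
      (specHom (f1 f M) (f2 f M) _
          (spec_mapDomain_f1 f (MonoidHom.prod (MonoidHom.id _) (MonoidHom.id _))) ≫ xu =
        (specHom (f1 f M) (f2 f M) _ (spec_mapDomain_f1 f (MonoidHom.inl _ _)) ≫ xu) *
          (specHom (f1 f M) (f2 f M) _ (spec_mapDomain_f1 f (MonoidHom.inr _ _)) ≫ xu)) ∧
      ∀ x : Over.mk f ⟶ Red.DS S M, ∃ (ρ : MonoidAlgebra B (Multiplicative M) →+* B)
        (hρ : ρ.comp (algebraMap B (MonoidAlgebra B (Multiplicative M))) = RingHom.id B),
        x = specHom (f1 f M) f ρ (spec_retract_f1 f ρ hρ) ≫ xu := by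
  classical
  obtain ⟨xu, hxu⟩ := dsFn_exists (S := S) (X := Over.mk (f1 f M)) (M := M)
    (((Scheme.ΓSpecIso (CommRingCat.of (MonoidAlgebra B (Multiplicative M)))).inv.hom :
      MonoidAlgebra B (Multiplicative M) →+* Γ((Over.mk (f1 f M)).left, ⊤)).toMonoidHom.comp
        (MonoidAlgebra.of B (Multiplicative M)))
  have hxu' : ∀ m, ev (f1 f M) (dsFn xu m) = MonoidAlgebra.single (Multiplicative.ofAdd m) 1 := by
    intro m
    rw [hxu m]
    exact ev_inv (f1 f M) _
  refine ⟨xu, ?_, ?_⟩
  · have hpt : ∀ (φ : Multiplicative M →* Multiplicative M × Multiplicative M) (m : M),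
        ev (f2 f M) (dsFn (specHom (f1 f M) (f2 f M) _ (spec_mapDomain_f1 f φ) ≫ xu) m) =
          MonoidAlgebra.single (φ (Multiplicative.ofAdd m)) 1 := by
      intro φ m
      rw [ev_dsFn_specHom, hxu']
      simp
    apply dsFn_ext
    intro m
    apply ev_injective (f2 f M)
    rw [dsFn_mul, map_mul, hpt, hpt, hpt, MonoidAlgebra.single_mul_single]
    simp
  · intro x
    let χ : Multiplicative M →* B :=
      { toFun := fun g => ev f (dsFn x (Multiplicative.toAdd g))
        map_one' := by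
          change ev f (dsFn x 0) = 1
          rw [dsFn_zero, map_one]
        map_mul' := by
          intro g h
          change ev f (dsFn x (Multiplicative.toAdd g + Multiplicative.toAdd h)) = _
          rw [dsFn_add, map_mul] }
    have hρ : (MonoidAlgebra.lift B B (Multiplicative M) χ).toRingHom.comp
        (algebraMap B (MonoidAlgebra B (Multiplicative M))) = RingHom.id B := by
      ext b
      simp
    refine ⟨(MonoidAlgebra.lift B B (Multiplicative M) χ).toRingHom, hρ, ?_⟩
    apply dsFn_ext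
    intro m
    apply ev_injective f
    rw [ev_dsFn_specHom, hxu']
    simp [χ]

section Iso

variable {U : Scheme.{u}} {G : Over S} [GrpObj G] (h : U ⟶ S)
  (φ : Grp.mk (Red.bc h G) ≅ Grp.mk (Red.DS U M))

/-- transport of a point of `D_U(M)` to a point of `G` over the corresponding `S`-scheme. -/
noncomputable def fromDS {B' : Type u} [CommRing B'] (t : Spec (CommRingCat.of B') ⟶ U)
    (f' : Spec (CommRingCat.of B') ⟶ S) (hf' : t ≫ h = f') (y : Over.mk t ⟶ Red.DS U M) :
    Over.mk f' ⟶ G :=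
  Over.homMk ((adjEquiv h G (Over.mk t) (y ≫ φ.inv.hom.hom)).left) (by
    subst hf'
    exact Over.w (adjEquiv h G (Over.mk t) (y ≫ φ.inv.hom.hom)))

lemma fromDS_eq {B' : Type u} [CommRing B'] (t : Spec (CommRingCat.of B') ⟶ U)
    (y : Over.mk t ⟶ Red.DS U M) :
    fromDS h φ t (t ≫ h) rfl y = adjEquiv h G (Over.mk t) (y ≫ φ.inv.hom.hom) := rfl

lemma fromDS_mul {B' : Type u} [CommRing B'] (t : Spec (CommRingCat.of B') ⟶ U)
    (f' : Spec (CommRingCat.of B') ⟶ S) (hf' : t ≫ h = f') (y y' : Over.mk t ⟶ Red.DS U M) :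
    fromDS h φ t f' hf' (y * y') = fromDS h φ t f' hf' y * fromDS h φ t f' hf' y' := by
  subst hf'
  rw [fromDS_eq, fromDS_eq, fromDS_eq, MonObj.mul_comp, adjEquiv_mul]

lemma fromDS_surjective {B' : Type u} [CommRing B'] (t : Spec (CommRingCat.of B') ⟶ U)
    (f' : Spec (CommRingCat.of B') ⟶ S) (hf' : t ≫ h = f') (g : Over.mk f' ⟶ G) :
    ∃ y : Over.mk t ⟶ Red.DS U M, fromDS h φ t f' hf' y = g := by
  subst hf'
  refine ⟨(adjEquiv h G (Over.mk t)).symm g ≫ φ.hom.hom.hom, ?_⟩
  rw [fromDS_eq, Category.assoc]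
  have e : φ.hom.hom.hom ≫ φ.inv.hom.hom = 𝟙 _ := by
    have := congrArg (fun k => k.hom.hom) φ.hom_inv_id
    exact this
  rw [e, Category.comp_id, Equiv.apply_symm_apply]

lemma fromDS_comp {B' B'' : Type u} [CommRing B'] [CommRing B'']
    (t : Spec (CommRingCat.of B') ⟶ U) (f' : Spec (CommRingCat.of B') ⟶ S) (hf' : t ≫ h = f')
    (t' : Spec (CommRingCat.of B'') ⟶ U) (f'' : Spec (CommRingCat.of B'') ⟶ S)
    (hf'' : t' ≫ h = f'') (θ : B' →+* B'') (e : Spec.map (CommRingCat.ofHom θ) ≫ t = t')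
    (e' : Spec.map (CommRingCat.ofHom θ) ≫ f' = f'') (y : Over.mk t ⟶ Red.DS U M) :
    fromDS h φ t' f'' hf'' (specHom t t' θ e ≫ y) = specHom f' f'' θ e' ≫ fromDS h φ t f' hf' y := by
  subst hf' hf''
  apply Over.OverMorphism.ext
  rw [fromDS_eq, fromDS_eq, Over.comp_left, adjEquiv_left, adjEquiv_left, specHom_left]
  rw [Category.assoc, Over.comp_left, Over.comp_left, specHom_left]
  simp only [Category.assoc]

include φ in
/-- **Universal point of a group locally isomorphic to `D(M)`.** -/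
theorem exists_universal_of_iso {B : Type u} [CommRing B] (t : Spec (CommRingCat.of B) ⟶ U)
    (f : Spec (CommRingCat.of B) ⟶ S) (hf : t ≫ h = f) :
    ∃ gu : Over.mk (f1 f M) ⟶ G,
      (specHom (f1 f M) (f2 f M) _
          (spec_mapDomain_f1 f (MonoidHom.prod (MonoidHom.id _) (MonoidHom.id _))) ≫ gu =
        (specHom (f1 f M) (f2 f M) _ (spec_mapDomain_f1 f (MonoidHom.inl _ _)) ≫ gu) *
          (specHom (f1 f M) (f2 f M) _ (spec_mapDomain_f1 f (MonoidHom.inr _ _)) ≫ gu)) ∧
      ∀ g : Over.mk f ⟶ G, ∃ (ρ : MonoidAlgebra B (Multiplicative M) →+* B)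
        (hρ : ρ.comp (algebraMap B (MonoidAlgebra B (Multiplicative M))) = RingHom.id B),
        g = specHom (f1 f M) f ρ (spec_retract_f1 f ρ hρ) ≫ gu := by
  obtain ⟨xu, hmul, huniv⟩ := exists_universal_DS (M := M) t
  have h1 : f1 t M ≫ h = f1 f M := by
    subst hf
    exact Category.assoc _ _ _
  have h2 : f2 t M ≫ h = f2 f M := by
    subst hf
    exact Category.assoc _ _ _
  refine ⟨fromDS h φ (f1 t M) (f1 f M) h1 xu, ?_, ?_⟩
  · rw [← fromDS_comp h φ (f1 t M) (f1 f M) h1 (f2 t M) (f2 f M) h2 _ (spec_mapDomain_f1 t _),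
      ← fromDS_comp h φ (f1 t M) (f1 f M) h1 (f2 t M) (f2 f M) h2 _ (spec_mapDomain_f1 t _),
      ← fromDS_comp h φ (f1 t M) (f1 f M) h1 (f2 t M) (f2 f M) h2 _ (spec_mapDomain_f1 t _),
      hmul, fromDS_mul]
  · intro g
    obtain ⟨y, rfl⟩ := fromDS_surjective h φ t f hf g
    obtain ⟨ρ, hρ, hy⟩ := huniv y
    refine ⟨ρ, hρ, ?_⟩
    rw [← fromDS_comp h φ (f1 t M) (f1 f M) h1 t f hf ρ (spec_retract_f1 t ρ hρ), ← hy]

end Iso

end Groth.Agent.R2.H37.DiagAt
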