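import Mathlib
import Groth.Agent.R2.H37Dev
import Groth.Agent.R2.H37DiagAt

/-!
# Rigidity of groups of multiplicative type modulo nilpotents: common tools (helper37)

* `nilpotent_induction`: to prove a property of `B` it suffices to prove it for `B`-algebras killed
  by a nilpotent ideal `𝔧`, and to pass from algebras killed by a square-zero ideal to the algebra.
* `eq_of_primitive_chart`: a point over `B[M]` whose chart ring map `η` satisfies
  `Δ η = i₁ η + i₂ η - Δ ξ` (with `ξ` the chart map of a point constant along `M`) equals that point.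
-/

set_option autoImplicit false
universe u

open CategoryTheory AlgebraicGeometry MonoidalCategory CartesianMonoidalCategory

namespace Groth.Agent.R2.H37.Rigid

open Groth.Agent.R2.H37 Groth.Agent.R2.H37.Pair Groth.Agent.R2.H37.DiagPoints
  Groth.Agent.R2.H37.Dev Groth.Agent.R2.H37.DiagAt

/-- **Nilpotent induction.** -/
theorem nilpotent_induction {B : Type u} [CommRing B] (𝔧 : Ideal B) (h𝔧 : IsNilpotent 𝔧)
    (P : ∀ (B' : Type u) [CommRing B'], (B →+* B') → Prop)
    (base : ∀ (B' : Type u) [CommRing B'] (θ : B →+* B'), (∀ b ∈ 𝔧, θ b = 0) → P B' θ)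
    (step : ∀ (B' : Type u) [CommRing B'] (θ : B →+* B') (I : Ideal B'), I * I = ⊥ →
      (∀ (B'' : Type u) [CommRing B''] (θ' : B' →+* B''), (∀ b ∈ I, θ' b = 0) →
        P B'' (θ'.comp θ)) → P B' θ) :
    P B (RingHom.id B) := by
  have key : ∀ k : ℕ, ∀ (B' : Type u) [CommRing B'] (θ : B →+* B'),
      (∀ b ∈ 𝔧 ^ (k + 1), θ b = 0) → P B' θ := by
    intro k
    induction k with
    | zero =>
      intro B' _ θ hθ
      apply base
      intro b hb
      apply hθ
      simpa using hb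
    | succ k ih =>
      intro B' _ θ hθ
      apply step B' θ (Ideal.map θ (𝔧 ^ (k + 1)))
      · rw [← Ideal.map_mul, ← pow_add]
        rw [eq_bot_iff, Ideal.map_le_iff_le_comap]
        intro b hb
        rw [Ideal.mem_comap, Ideal.mem_bot]
        apply hθ
        exact Ideal.pow_le_pow_right (by omega) hb
      · intro B'' _ θ' hθ'
        apply ih
        intro b hb
        rw [RingHom.comp_apply]
        exact hθ' _ (Ideal.mem_map_of_mem θ hb)
  obtain ⟨n, hn⟩ := h𝔧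
  apply key n
  intro b hb
  have : b ∈ 𝔧 ^ n := Ideal.pow_le_pow_right (Nat.le_succ n) hb
  rw [hn] at this
  simpa using this

section Primitive

variable {B : Type u} [CommRing B] {M : Type} [AddCommGroup M] {A : Type u} [CommRing A]

/-- the diagonal `B[M] → B[M × M]` -/
noncomputable abbrev dlt : MonoidAlgebra B (Multiplicative M) →+*
    MonoidAlgebra B (Multiplicative M × Multiplicative M) :=
  MonoidAlgebra.mapDomainRingHom B (MonoidHom.prod (MonoidHom.id _) (MonoidHom.id _))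

/-- the first inclusion `B[M] → B[M × M]` -/
noncomputable abbrev in1 : MonoidAlgebra B (Multiplicative M) →+*
    MonoidAlgebra B (Multiplicative M × Multiplicative M) :=
  MonoidAlgebra.mapDomainRingHom B (MonoidHom.inl _ _)

/-- the second inclusion `B[M] → B[M × M]` -/
noncomputable abbrev in2 : MonoidAlgebra B (Multiplicative M) →+*
    MonoidAlgebra B (Multiplicative M × Multiplicative M) :=
  MonoidAlgebra.mapDomainRingHom B (MonoidHom.inr _ _)

lemma dlt_algebraMap (b : B) :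
    dlt (M := M) (algebraMap B (MonoidAlgebra B (Multiplicative M)) b) =
      algebraMap B (MonoidAlgebra B (Multiplicative M × Multiplicative M)) b := by
  have := congrArg (fun k : B →+* MonoidAlgebra B (Multiplicative M × Multiplicative M) => k b)
    (MonoidAlgebra.mapDomainRingHom_comp_algebraMap (R := B) (A := B)
      (MonoidHom.prod (MonoidHom.id (Multiplicative M)) (MonoidHom.id (Multiplicative M))))
  exact this

lemma in1_algebraMap (b : B) :
    in1 (M := M) (algebraMap B (MonoidAlgebra B (Multiplicative M)) b) =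
      algebraMap B (MonoidAlgebra B (Multiplicative M × Multiplicative M)) b := by
  have := congrArg (fun k : B →+* MonoidAlgebra B (Multiplicative M × Multiplicative M) => k b)
    (MonoidAlgebra.mapDomainRingHom_comp_algebraMap (R := B) (A := B)
      (MonoidHom.inl (Multiplicative M) (Multiplicative M)))
  exact this

lemma in2_algebraMap (b : B) :
    in2 (M := M) (algebraMap B (MonoidAlgebra B (Multiplicative M)) b) =
      algebraMap B (MonoidAlgebra B (Multiplicative M × Multiplicative M)) b := by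
  have := congrArg (fun k : B →+* MonoidAlgebra B (Multiplicative M × Multiplicative M) => k b)
    (MonoidAlgebra.mapDomainRingHom_comp_algebraMap (R := B) (A := B)
      (MonoidHom.inr (Multiplicative M) (Multiplicative M)))
  exact this

/-- ring maps `η, ξ : A → B[M]` with `ξ` constant along `M` and `Δ η = i₁ η + i₂ η - Δ ξ`
are equal. -/
theorem eq_of_primitive (η : A →+* MonoidAlgebra B (Multiplicative M)) (ξ₀ : A →+* B)
    (hΔ : ∀ a, dlt (η a) = in1 (η a) + in2 (η a) -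
      algebraMap B (MonoidAlgebra B (Multiplicative M × Multiplicative M)) (ξ₀ a)) :
    η = (algebraMap B (MonoidAlgebra B (Multiplicative M))).comp ξ₀ := by
  ext1 a
  rw [RingHom.comp_apply]
  have : η a - algebraMap B (MonoidAlgebra B (Multiplicative M)) (ξ₀ a) = 0 := by
    apply primitive_eq_zero
    rw [map_sub, map_sub, map_sub]
    have e1 := dlt_algebraMap (M := M) (ξ₀ a)
    have e2 := in1_algebraMap (M := M) (ξ₀ a)
    have e3 := in2_algebraMap (M := M) (ξ₀ a)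
    unfold dlt at e1
    unfold in1 at e2
    unfold in2 at e3
    rw [e1, e2, e3]
    have := hΔ a
    unfold dlt in1 in2 at this
    rw [this]
    ring
  exact sub_eq_zero.mp this

end Primitive

section Lift

/-- a morphism `Spec B' ⟶ U₀ ⊆ S` whose ring map kills the ideal of the closed immersion `i₀`
factors through `i₀`. -/
theorem exists_lift_closedImmersion {S S₀ : Scheme.{u}} (i₀ : S₀ ⟶ S) [IsClosedImmersion i₀]
    (U₀ : S.affineOpens) {B' : Type u} [CommRing B'] (ψ' : Γ(S, U₀.1) →+* B')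
    (hψ' : ∀ s ∈ i₀.ker.ideal U₀, ψ' s = 0) :
    ∃ p : Spec (CommRingCat.of B') ⟶ S₀,
      p ≫ i₀ = Spec.map (CommRingCat.ofHom ψ') ≫ U₀.2.fromSpec := by
  have hV := U₀.2.preimage i₀
  have hsurj : Function.Surjective (i₀.app U₀.1).hom := i₀.app_surjective U₀.1 U₀.2
  have hker : RingHom.ker (i₀.app U₀.1).hom ≤ RingHom.ker ψ' := by
    intro s hs
    rw [← Scheme.Hom.ker_apply] at hs
    exact hψ' s hs
  let χ := RingHom.liftOfSurjective (i₀.app U₀.1).hom hsurj ⟨ψ', hker⟩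
  refine ⟨Spec.map (CommRingCat.ofHom χ) ≫ hV.fromSpec, ?_⟩
  rw [Category.assoc, ← IsAffineOpen.SpecMap_appLE_fromSpec i₀ U₀.2 hV le_rfl, ← Category.assoc,
    ← Spec.map_comp]
  congr 2
  ext s
  have := RingHom.liftOfSurjective_comp_apply (i₀.app U₀.1).hom hsurj ⟨ψ', hker⟩ s
  rw [← Scheme.Hom.app_eq_appLE]
  exact this

end Lift

section ChartRange

variable {S : Scheme.{u}} {Z : Over S} {A : Type u} [CommRing A]
  (j : Spec (CommRingCat.of A) ⟶ Z.left) [IsOpenImmersion j]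

/-- a point landing in the image of an affine chart is given by a ring map. -/
lemma exists_isChartPt_of_range {B : Type u} [CommRing B] {f : Spec (CommRingCat.of B) ⟶ S}
    (p : Over.mk f ⟶ Z) (hp : Set.range p.left.base ⊆ Set.range j.base) :
    ∃ π : A →+* B, IsChartPt j p π := by
  refine ⟨(Spec.preimage (IsOpenImmersion.lift j p.left hp)).hom, ?_⟩
  unfold IsChartPt
  have e : CommRingCat.ofHom (Spec.preimage (IsOpenImmersion.lift j p.left hp)).hom =
      Spec.preimage (IsOpenImmersion.lift j p.left hp) := rfl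
  rw [e, Spec.map_preimage, IsOpenImmersion.lift_fac]

lemma IsChartPt.range_subset {B : Type u} [CommRing B] {f : Spec (CommRingCat.of B) ⟶ S}
    {p : Over.mk f ⟶ Z} {π : A →+* B} (hp : IsChartPt j p π) :
    Set.range p.left.base ⊆ Set.range j.base := by
  unfold IsChartPt at hp
  rw [hp]
  rintro _ ⟨q, rfl⟩
  exact ⟨_, rfl⟩

end ChartRange

section Core

open MonObj

variable {S U : Scheme.{u}} {G X : Over S} [GrpObj G] (Φ : G ⊗ X ⟶ X)
  {M : Type} [AddCommGroup M] (hU : U ⟶ S) (φ : Grp.mk (Red.bc hU G) ≅ Grp.mk (Red.DS U M))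
  {A : Type u} [CommRing A] (j : Spec (CommRingCat.of A) ⟶ X.left) [IsOpenImmersion j]
  {B' : Type u} [CommRing B']

lemma specHom_comp_specHom {B₁ B₂ B₃ : Type u} [CommRing B₁] [CommRing B₂] [CommRing B₃]
    (f₁ : Spec (CommRingCat.of B₁) ⟶ S) (f₂ : Spec (CommRingCat.of B₂) ⟶ S)
    (f₃ : Spec (CommRingCat.of B₃) ⟶ S) (θ : B₁ →+* B₂) (θ' : B₂ →+* B₃)
    (h : Spec.map (CommRingCat.ofHom θ) ≫ f₁ = f₂) (h' : Spec.map (CommRingCat.ofHom θ') ≫ f₂ = f₃)
    (θ'' : B₁ →+* B₃) (hθ : θ'.comp θ = θ'') (h'' : Spec.map (CommRingCat.ofHom θ'') ≫ f₁ = f₃) :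
    specHom f₂ f₃ θ' h' ≫ specHom f₁ f₂ θ h = specHom f₁ f₃ θ'' h'' := by
  apply Over.OverMorphism.ext
  rw [Over.comp_left, specHom_left, specHom_left, specHom_left, ← Spec.map_comp,
    ← CommRingCat.ofHom_comp, hθ]

lemma specHom_id {B₁ : Type u} [CommRing B₁] (f₁ : Spec (CommRingCat.of B₁) ⟶ S)
    (h : Spec.map (CommRingCat.ofHom (RingHom.id B₁)) ≫ f₁ = f₁) :
    specHom f₁ f₁ (RingHom.id B₁) h = 𝟙 _ := by
  apply Over.OverMorphism.ext
  rw [specHom_left]
  simp

variable (G M) in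
/-- `G` has a universal point over `B'[M]` for the test object `f' : Spec B' ⟶ S`: a point `gu` over
`Spec B'[M]` whose pull-back along the diagonal is the product of the pull-backs along the two
inclusions, and of which every point over `Spec B'` is a pull-back along a retraction. -/
def HasUniv (f' : Spec (CommRingCat.of B') ⟶ S) : Prop :=
  ∃ gu : Over.mk (f1 f' M) ⟶ G,
    (specHom (f1 f' M) (f2 f' M) _
        (spec_mapDomain_f1 f' (MonoidHom.prod (MonoidHom.id _) (MonoidHom.id _))) ≫ gu =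
      (specHom (f1 f' M) (f2 f' M) _ (spec_mapDomain_f1 f' (MonoidHom.inl _ _)) ≫ gu) *
        (specHom (f1 f' M) (f2 f' M) _ (spec_mapDomain_f1 f' (MonoidHom.inr _ _)) ≫ gu)) ∧
    ∀ g : Over.mk f' ⟶ G, ∃ (ρ : MonoidAlgebra B' (Multiplicative M) →+* B')
      (hρ : ρ.comp (algebraMap B' (MonoidAlgebra B' (Multiplicative M))) = RingHom.id B'),
      g = specHom (f1 f' M) f' ρ (spec_retract_f1 f' ρ hρ) ≫ gu

include φ in
lemma hasUniv_of_iso (t' : Spec (CommRingCat.of B') ⟶ U) (f' : Spec (CommRingCat.of B') ⟶ S)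
    (hf' : t' ≫ hU = f') : HasUniv G M f' :=
  exists_universal_of_iso hU φ t' f' hf'

/-- **Infinitesimal step.**  `Φ : G ⊗ X ⟶ X` multiplicative in `G`, with `G` having a universal
point over `B'[M]`.  If `Φ` is the second projection on points with values in `B'`-algebras killed by
the square-zero ideal `I`, then `Φ(g, x) = x` for all points over `B'` (with `x` in an affine
chart). -/
theorem step_trivial_of_univ
    (hΦ : ∀ (T : Over S) (g₁ g₂ : T ⟶ G) (x : T ⟶ X),
      lift (g₁ * g₂) x ≫ Φ = lift g₁ (lift g₂ x ≫ Φ) ≫ Φ)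
    (f' : Spec (CommRingCat.of B') ⟶ S) (huv : HasUniv G M f')
    (I : Ideal B') (hI : I * I = ⊥)
    (hyp : ∀ (B'' : Type u) [CommRing B''] (θ' : B' →+* B''), (∀ b ∈ I, θ' b = 0) →
      ∀ (f'' : Spec (CommRingCat.of B'') ⟶ S), Spec.map (CommRingCat.ofHom θ') ≫ f' = f'' →
      ∀ (g : Over.mk f'' ⟶ G) (x : Over.mk f'' ⟶ X) (ξ'' : A →+* B''), IsChartPt j x ξ'' →
        lift g x ≫ Φ = x)
    (g : Over.mk f' ⟶ G) (x : Over.mk f' ⟶ X) (ξ : A →+* B') (hx : IsChartPt j x ξ) :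
    lift g x ≫ Φ = x := by
  obtain ⟨gu, hmul, huniv⟩ := huv
  let s1 : Over.mk (f1 f' M) ⟶ Over.mk f' :=
    specHom f' (f1 f' M) (algebraMap B' (MonoidAlgebra B' (Multiplicative M))) rfl
  let I1 : Ideal (MonoidAlgebra B' (Multiplicative M)) :=
    Ideal.map (algebraMap B' (MonoidAlgebra B' (Multiplicative M))) I
  have hI1 : I1 * I1 = ⊥ := by rw [← Ideal.map_mul, hI, Ideal.map_bot]
  have hx₁ : IsChartPt j (s1 ≫ x)
      ((algebraMap B' (MonoidAlgebra B' (Multiplicative M))).comp ξ) := hx.comp _ _ rfl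
  -- `y ≡ x₁` modulo `I1`
  have hmod : Spec.map (CommRingCat.ofHom (Ideal.Quotient.mk I1)) ≫ (lift gu (s1 ≫ x) ≫ Φ).left =
      Spec.map (CommRingCat.ofHom (Ideal.Quotient.mk I1)) ≫ (s1 ≫ x).left := by
    have := hyp (MonoidAlgebra B' (Multiplicative M) ⧸ I1)
      ((Ideal.Quotient.mk I1).comp (algebraMap B' (MonoidAlgebra B' (Multiplicative M)))) (by
        intro b hb
        rw [RingHom.comp_apply, Ideal.Quotient.eq_zero_iff_mem]
        exact Ideal.mem_map_of_mem _ hb)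
      (Spec.map (CommRingCat.ofHom (Ideal.Quotient.mk I1)) ≫ f1 f' M) (by
        rw [CommRingCat.ofHom_comp, Spec.map_comp, Category.assoc])
      (specHom (f1 f' M) _ (Ideal.Quotient.mk I1) rfl ≫ gu)
      (specHom (f1 f' M) _ (Ideal.Quotient.mk I1) rfl ≫ (s1 ≫ x)) _ (hx₁.comp _ _ rfl)
    rw [← comp_lift, Category.assoc] at this
    exact congrArg (fun k => k.left) this
  obtain ⟨ζ, hζ⟩ := exists_isChartPt_of_range j (lift gu (s1 ≫ x) ≫ Φ)
    (range_subset_of_eq_mod I1 (le_nilradical_of_sq_zero hI1) (s1 ≫ x) _ hmod _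
      (IsChartPt.range_subset j hx₁))
  have hcong : ∀ a, ζ a - (algebraMap B' (MonoidAlgebra B' (Multiplicative M))) (ξ a) ∈ I1 :=
    IsChartPt.cong hζ hx₁ I1 hmod
  -- over `B'[M × M]`
  let d : Over.mk (f2 f' M) ⟶ Over.mk (f1 f' M) := specHom (f1 f' M) (f2 f' M) _
    (spec_mapDomain_f1 f' (MonoidHom.prod (MonoidHom.id _) (MonoidHom.id _)))
  let a1 : Over.mk (f2 f' M) ⟶ Over.mk (f1 f' M) := specHom (f1 f' M) (f2 f' M) _
    (spec_mapDomain_f1 f' (MonoidHom.inl _ _))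
  let a2 : Over.mk (f2 f' M) ⟶ Over.mk (f1 f' M) := specHom (f1 f' M) (f2 f' M) _
    (spec_mapDomain_f1 f' (MonoidHom.inr _ _))
  let s2 : Over.mk (f2 f' M) ⟶ Over.mk f' :=
    specHom f' (f2 f' M)
      (algebraMap B' (MonoidAlgebra B' (Multiplicative M × Multiplicative M))) rfl
  have hd : d ≫ s1 = s2 := specHom_comp_specHom _ _ _ _ _ _ _ _
    (MonoidAlgebra.mapDomainRingHom_comp_algebraMap _) _
  have ha1 : a1 ≫ s1 = s2 := specHom_comp_specHom _ _ _ _ _ _ _ _
    (MonoidAlgebra.mapDomainRingHom_comp_algebraMap _) _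
  have ha2 : a2 ≫ s1 = s2 := specHom_comp_specHom _ _ _ _ _ _ _ _
    (MonoidAlgebra.mapDomainRingHom_comp_algebraMap _) _
  let I2 : Ideal (MonoidAlgebra B' (Multiplicative M × Multiplicative M)) :=
    Ideal.map (algebraMap B' (MonoidAlgebra B' (Multiplicative M × Multiplicative M))) I
  have hI2 : I2 * I2 = ⊥ := by rw [← Ideal.map_mul, hI, Ideal.map_bot]
  have hx₂ : IsChartPt j (s2 ≫ x)
      ((algebraMap B' (MonoidAlgebra B' (Multiplicative M × Multiplicative M))).comp ξ) :=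
    hx.comp _ _ rfl
  have hyΔ : d ≫ (lift gu (s1 ≫ x) ≫ Φ) =
      lift (a1 ≫ gu) (a2 ≫ (lift gu (s1 ≫ x) ≫ Φ)) ≫ Φ := by
    rw [← Category.assoc, comp_lift, hmul, hΦ, ← Category.assoc a2, comp_lift,
      ← Category.assoc, ← Category.assoc, hd, ha2]
  have hy1 : a1 ≫ (lift gu (s1 ≫ x) ≫ Φ) = lift (a1 ≫ gu) (s2 ≫ x) ≫ Φ := by
    rw [← Category.assoc, comp_lift, ← Category.assoc, ha1]
  have hmapI : ∀ (ψ : MonoidAlgebra B' (Multiplicative M) →+*
      MonoidAlgebra B' (Multiplicative M × Multiplicative M)),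
      ψ.comp (algebraMap B' (MonoidAlgebra B' (Multiplicative M))) =
        algebraMap B' (MonoidAlgebra B' (Multiplicative M × Multiplicative M)) →
      ∀ a, (ψ.comp ζ) a -
        ((algebraMap B' (MonoidAlgebra B' (Multiplicative M × Multiplicative M))).comp ξ) a ∈ I2 := by
    intro ψ hψ a
    have h := Ideal.mem_map_of_mem ψ (hcong a)
    rw [Ideal.map_map, hψ, map_sub] at h
    have e : ψ ((algebraMap B' (MonoidAlgebra B' (Multiplicative M))) (ξ a)) =
        (algebraMap B' (MonoidAlgebra B' (Multiplicative M × Multiplicative M))) (ξ a) := by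
      rw [← hψ]; rfl
    rw [e] at h
    exact h
  have h1 := hmapI (in1 (B := B') (M := M)) (MonoidAlgebra.mapDomainRingHom_comp_algebraMap _)
  have h2 := hmapI (in2 (B := B') (M := M)) (MonoidAlgebra.mapDomainRingHom_comp_algebraMap _)
  have hσ : IsChartPt j (lift (a1 ≫ gu) (s2 ≫ x) ≫ Φ) ((in1 (B := B') (M := M)).comp ζ) := by
    rw [← hy1]
    exact hζ.comp _ _ _
  have hy₂ : IsChartPt j (a2 ≫ (lift gu (s1 ≫ x) ≫ Φ)) ((in2 (B := B') (M := M)).comp ζ) :=
    hζ.comp _ _ _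
  have hΔ : IsChartPt j (d ≫ (lift gu (s1 ≫ x) ≫ Φ)) ((dlt (B := B') (M := M)).comp ζ) :=
    hζ.comp _ _ _
  have key := chart_of_act Φ j (f2 f' M) I2 hI2 (a1 ≫ gu) (s2 ≫ x)
    (a2 ≫ (lift gu (s1 ≫ x) ≫ Φ)) _ _ _ hx₂ hy₂ hσ h1 h2 (by
      intro z ζz hz
      refine hyp _ ((qMap hI2).comp ((diagP I2).comp
        (algebraMap B' (MonoidAlgebra B' (Multiplicative M × Multiplicative M))))) ?_
        (fE (f2 f' M) I2 hI2) ?_ _ z ζz hz
      · intro b hb
        rw [RingHom.comp_apply, RingHom.comp_apply]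
        exact qMap_diagP_of_mem hI2 (Ideal.mem_map_of_mem _ hb)
      · rw [CommRingCat.ofHom_comp, CommRingCat.ofHom_comp, Spec.map_comp, Spec.map_comp,
          Category.assoc, Category.assoc])
  rw [← hyΔ] at key
  have hζeq := IsChartPt.inj hΔ key
  have hζ' : ζ = (algebraMap B' (MonoidAlgebra B' (Multiplicative M))).comp ξ := by
    apply eq_of_primitive
    intro a
    have := congrArg (fun k => k a) hζeq
    exact this
  have hyx : lift gu (s1 ≫ x) ≫ Φ = s1 ≫ x := by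
    apply IsChartPt.ext hζ
    rw [hζ']
    exact hx₁
  obtain ⟨ρ, hρ, hg⟩ := huniv g
  have hr : specHom (f1 f' M) f' ρ (spec_retract_f1 f' ρ hρ) ≫ s1 = 𝟙 _ := by
    rw [specHom_comp_specHom _ _ _ _ _ _ _ (RingHom.id B') hρ (by simp), specHom_id]
  calc lift g x ≫ Φ
      = lift (specHom (f1 f' M) f' ρ (spec_retract_f1 f' ρ hρ) ≫ gu)
          (specHom (f1 f' M) f' ρ (spec_retract_f1 f' ρ hρ) ≫ (s1 ≫ x)) ≫ Φ := by
        rw [← hg, ← Category.assoc, hr, Category.id_comp]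
    _ = specHom (f1 f' M) f' ρ (spec_retract_f1 f' ρ hρ) ≫ (lift gu (s1 ≫ x) ≫ Φ) := by
        rw [← comp_lift, Category.assoc]
    _ = x := by
        rw [hyx, ← Category.assoc, hr, Category.id_comp]

include φ in
/-- the infinitesimal step for `G` isomorphic to `D(M)` over `U`. -/
theorem step_trivial
    (hΦ : ∀ (T : Over S) (g₁ g₂ : T ⟶ G) (x : T ⟶ X),
      lift (g₁ * g₂) x ≫ Φ = lift g₁ (lift g₂ x ≫ Φ) ≫ Φ)
    (t' : Spec (CommRingCat.of B') ⟶ U) (f' : Spec (CommRingCat.of B') ⟶ S) (hf' : t' ≫ hU = f')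
    (I : Ideal B') (hI : I * I = ⊥)
    (hyp : ∀ (B'' : Type u) [CommRing B''] (θ' : B' →+* B''), (∀ b ∈ I, θ' b = 0) →
      ∀ (f'' : Spec (CommRingCat.of B'') ⟶ S), Spec.map (CommRingCat.ofHom θ') ≫ f' = f'' →
      ∀ (g : Over.mk f'' ⟶ G) (x : Over.mk f'' ⟶ X) (ξ'' : A →+* B''), IsChartPt j x ξ'' →
        lift g x ≫ Φ = x)
    (g : Over.mk f' ⟶ G) (x : Over.mk f' ⟶ X) (ξ : A →+* B') (hx : IsChartPt j x ξ) :
    lift g x ≫ Φ = x :=
  step_trivial_of_univ Φ j hΦ f' (hasUniv_of_iso hU φ t' f' hf') I hI hyp g x ξ hx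

end Core

section Affine

open MonObj

variable {S S₀ U : Scheme.{u}} (i₀ : S₀ ⟶ S) [IsClosedImmersion i₀] {G X : Over S} [GrpObj G]
  (Φ : G ⊗ X ⟶ X) {M : Type} [AddCommGroup M] (hU : U ⟶ S)
  (φ : Grp.mk (Red.bc hU G) ≅ Grp.mk (Red.DS U M))
  {A : Type u} [CommRing A] (j : Spec (CommRingCat.of A) ⟶ X.left) [IsOpenImmersion j]

/-- **Affine-local form**: over `Spec B ⟶ U₀`, with `G` having universal points over all
`B`-algebras and the ideal of `i₀` nilpotent on `U₀`, triviality of `Φ` over `S₀`-schemes implies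
triviality over `B`. -/
theorem trivial_affine_of_univ
    (hΦ : ∀ (T : Over S) (g₁ g₂ : T ⟶ G) (x : T ⟶ X),
      lift (g₁ * g₂) x ≫ Φ = lift g₁ (lift g₂ x ≫ Φ) ≫ Φ)
    (h0 : ∀ (Y : Over S) (_ : Y ⟶ Over.mk i₀) (g : Y ⟶ G) (x : Y ⟶ X), lift g x ≫ Φ = x)
    (U₀ : S.affineOpens) (hU₀ : IsNilpotent (i₀.ker.ideal U₀))
    {B : Type u} [CommRing B] (f : Spec (CommRingCat.of B) ⟶ S)
    (huv : ∀ (B' : Type u) [CommRing B'] (θ : B →+* B'),
      HasUniv G M (Spec.map (CommRingCat.ofHom θ) ≫ f))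
    (ψ : Γ(S, U₀.1) →+* B) (hψ : f = Spec.map (CommRingCat.ofHom ψ) ≫ U₀.2.fromSpec)
    (g : Over.mk f ⟶ G) (x : Over.mk f ⟶ X) (ξ : A →+* B) (hx : IsChartPt j x ξ) :
    lift g x ≫ Φ = x := by
  have hnil : IsNilpotent (Ideal.map ψ (i₀.ker.ideal U₀)) := by
    obtain ⟨n, hn⟩ := hU₀
    exact ⟨n, by rw [← Ideal.map_pow, hn, Ideal.zero_eq_bot, Ideal.map_bot]; rfl⟩
  have key := nilpotent_induction (Ideal.map ψ (i₀.ker.ideal U₀)) hnil
    (fun B' _ θ => ∀ (f' : Spec (CommRingCat.of B') ⟶ S),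
      Spec.map (CommRingCat.ofHom θ) ≫ f = f' → ∀ (g : Over.mk f' ⟶ G) (x : Over.mk f' ⟶ X)
        (ξ : A →+* B'), IsChartPt j x ξ → lift g x ≫ Φ = x) ?_ ?_
  · exact key f (by simp) g x ξ hx
  · intro B' _ θ hθ f' hf' g x ξ hx
    have hk : ∀ s ∈ i₀.ker.ideal U₀, (θ.comp ψ) s = 0 :=
      fun s hs => hθ _ (Ideal.mem_map_of_mem ψ hs)
    obtain ⟨p, hp⟩ := exists_lift_closedImmersion i₀ U₀ (θ.comp ψ) hk
    have hp' : p ≫ i₀ = f' := by
      rw [hp, ← hf', hψ, CommRingCat.ofHom_comp, Spec.map_comp, Category.assoc]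
    exact h0 (Over.mk f') (Over.homMk p hp') g x
  · intro B' _ θ I hI ih f' hf' g x ξ hx
    have hu : HasUniv G M f' := hf' ▸ huv B' θ
    exact step_trivial_of_univ Φ j hΦ f' hu I hI
      (fun B'' _ θ' hθ' f'' hf'' g' x' ξ'' hx'' => ih B'' θ' hθ' f''
        (by rw [CommRingCat.ofHom_comp, Spec.map_comp, Category.assoc, hf', hf'']) g' x' ξ'' hx'')
      g x ξ hx

include φ in
/-- **Affine-local form**: over `Spec B ⟶ U ∩ U₀`, with `G|_U ≅ D(M)` and the ideal of `i₀` nilpotent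
on `U₀`, triviality of `Φ` over `S₀`-schemes implies triviality over `B`. -/
theorem trivial_affine
    (hΦ : ∀ (T : Over S) (g₁ g₂ : T ⟶ G) (x : T ⟶ X),
      lift (g₁ * g₂) x ≫ Φ = lift g₁ (lift g₂ x ≫ Φ) ≫ Φ)
    (h0 : ∀ (Y : Over S) (_ : Y ⟶ Over.mk i₀) (g : Y ⟶ G) (x : Y ⟶ X), lift g x ≫ Φ = x)
    (U₀ : S.affineOpens) (hU₀ : IsNilpotent (i₀.ker.ideal U₀))
    {B : Type u} [CommRing B] (t : Spec (CommRingCat.of B) ⟶ U)
    (f : Spec (CommRingCat.of B) ⟶ S) (hf : t ≫ hU = f)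
    (ψ : Γ(S, U₀.1) →+* B) (hψ : f = Spec.map (CommRingCat.ofHom ψ) ≫ U₀.2.fromSpec)
    (g : Over.mk f ⟶ G) (x : Over.mk f ⟶ X) (ξ : A →+* B) (hx : IsChartPt j x ξ) :
    lift g x ≫ Φ = x :=
  trivial_affine_of_univ i₀ Φ j hΦ h0 U₀ hU₀ f
    (fun B' _ θ => hasUniv_of_iso hU φ (Spec.map (CommRingCat.ofHom θ) ≫ t) _
      (by rw [Category.assoc, hf]))
    ψ hψ g x ξ hx

end Affine

end Groth.Agent.R2.H37.Rigid
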