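import Mathlib
import Groth.Agent.R2.H37Rigid

/-!
# Points of the diagonalisable group `D_R(M) = Spec R[M]` over `Spec R` (helper37)

Character functions `dgFn` of points of `Red.diag R M`, and the universal point over `B[M]`
(`hasUniv_diag`), so that the infinitesimal rigidity machinery of `H37Rigid` applies to
`Red.diag R M` directly.
-/

set_option autoImplicit false
universe u

open CategoryTheory MonoidalCategory CartesianMonoidalCategory MonObj GrpObj AlgebraicGeometry
open CategoryTheory.Limits
open Groth.Agent.Lib.Helper27.GaGm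

namespace Groth.Agent.R2.H37.DiagR

open Groth.Agent.R2.H37.DiagPoints Groth.Agent.R2.H37.DiagAt Groth.Agent.R2.H37.Rigid

variable {R : Type u} [CommRing R] {M : Type} [AddCommGroup M]

/-- the underlying morphism to `Spec R[M]` of a point of `D_R(M)` (with a clean target type). -/
noncomputable def dgPt {X : Over (Spec (CommRingCat.of R))} (x : X ⟶ Red.diag R M) :
    X.left ⟶ Spec (CommRingCat.of (MonoidAlgebra R (Multiplicative M))) :=
  x.left

/-- the character functions of a point of `D_R(M)`. -/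
noncomputable def dgFn {X : Over (Spec (CommRingCat.of R))} (x : X ⟶ Red.diag R M) (m : M) :
    Γ(X.left, ⊤) :=
  fn (dgPt x) (MonoidAlgebra.single (Multiplicative.ofAdd m) 1)

theorem dgFn_mul {X : Over (Spec (CommRingCat.of R))} (x y : X ⟶ Red.diag R M) (m : M) :
    dgFn (x * y) m = dgFn x m * dgFn y m := by
  refine fn_mul_left_of_grouplike _ _ _ ?_
  simp

theorem dgFn_comp {X X' : Over (Spec (CommRingCat.of R))} (g : X' ⟶ X) (x : X ⟶ Red.diag R M)
    (m : M) : dgFn (g ≫ x) m = g.left.appTop (dgFn x m) := by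
  have h : dgPt (g ≫ x) = g.left ≫ dgPt x := rfl
  unfold dgFn
  rw [h, fn_comp]

theorem dgFn_add {X : Over (Spec (CommRingCat.of R))} (x : X ⟶ Red.diag R M) (m n : M) :
    dgFn x (m + n) = dgFn x m * dgFn x n := by
  unfold dgFn
  rw [fn_eq, fn_eq, fn_eq, ← map_mul, MonoidAlgebra.single_mul_single, ofAdd_add, _root_.mul_one]

theorem dgFn_zero {X : Over (Spec (CommRingCat.of R))} (x : X ⟶ Red.diag R M) : dgFn x 0 = 1 := by
  unfold dgFn
  rw [fn_eq, ofAdd_zero, ← MonoidAlgebra.one_def, map_one]

lemma fn_left_algebraMap {X : Over (Spec (CommRingCat.of R))} (x : X ⟶ Red.diag R M) (r : R) :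
    fn (dgPt x) (algebraMap R (MonoidAlgebra R (Multiplicative M)) r) = fn X.hom r := by
  rw [← fn_specMap]
  congr 1
  exact Over.w x

theorem dgFn_ext {X : Over (Spec (CommRingCat.of R))} (x y : X ⟶ Red.diag R M)
    (h : ∀ m, dgFn x m = dgFn y m) : x = y := by
  apply Over.OverMorphism.ext
  change dgPt x = dgPt y
  apply fn_ext
  intro a
  have : fnHom (dgPt x) = fnHom (dgPt y) := by
    apply MonoidAlgebra.ringHom_ext'
    · ext r
      change fn (dgPt x) (MonoidAlgebra.single 1 r) = fn (dgPt y) (MonoidAlgebra.single 1 r)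
      have e : (MonoidAlgebra.single 1 r : MonoidAlgebra R (Multiplicative M)) =
          algebraMap R (MonoidAlgebra R (Multiplicative M)) r := by
        simp
      rw [e, fn_left_algebraMap, fn_left_algebraMap]
    · ext m
      exact h (Multiplicative.toAdd m)
  exact congrArg (fun k : _ →+* _ => k a) this

theorem dgFn_exists {X : Over (Spec (CommRingCat.of R))} (χ : Multiplicative M →* Γ(X.left, ⊤)) :
    ∃ x : X ⟶ Red.diag R M, ∀ m, dgFn x m = χ (Multiplicative.ofAdd m) := by
  let _ : Algebra R Γ(X.left, ⊤) := (fnHom X.hom).toAlgebra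
  obtain ⟨y', hy'⟩ := fn_surj
    (MonoidAlgebra.lift R Γ(X.left, ⊤) (Multiplicative M) χ).toRingHom
  have hw : y' ≫ (Red.diag R M).hom = X.hom := by
    apply fn_ext
    intro r
    change fn (y' ≫ Spec.map (CommRingCat.ofHom
      (algebraMap R (MonoidAlgebra R (Multiplicative M))))) r = _
    rw [fn_specMap, hy']
    simp only [AlgHom.toRingHom_eq_coe, RingHom.coe_coe, AlgHom.commutes]
    rfl
  refine ⟨Over.homMk y' hw, fun m => ?_⟩
  unfold dgFn
  change fn y' _ = _
  refine (hy' _).trans ?_
  simp only [AlgHom.toRingHom_eq_coe, RingHom.coe_coe, MonoidAlgebra.lift_single]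
  rw [one_smul]

lemma ev_dgFn_specHom {B₁ B₂ : Type u} [CommRing B₁] [CommRing B₂]
    (f₁ : Spec (CommRingCat.of B₁) ⟶ Spec (CommRingCat.of R))
    (f₂ : Spec (CommRingCat.of B₂) ⟶ Spec (CommRingCat.of R)) (θ : B₁ →+* B₂)
    (h : Spec.map (CommRingCat.ofHom θ) ≫ f₁ = f₂) (x : Over.mk f₁ ⟶ Red.diag R M) (m : M) :
    ev f₂ (dgFn (specHom f₁ f₂ θ h ≫ x) m) = θ (ev f₁ (dgFn x m)) := by
  rw [dgFn_comp]
  exact ev_comp f₁ f₂ θ _ (specHom_left f₁ f₂ θ h) _

/-- **Universal point of `D_R(M)` over `B`-algebras.** -/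
theorem hasUniv_diag {B : Type u} [CommRing B]
    (f : Spec (CommRingCat.of B) ⟶ Spec (CommRingCat.of R)) : HasUniv (Red.diag R M) M f := by
  classical
  obtain ⟨xu, hxu⟩ := dgFn_exists (R := R) (X := Over.mk (f1 f M)) (M := M)
    (((Scheme.ΓSpecIso (CommRingCat.of (MonoidAlgebra B (Multiplicative M)))).inv.hom :
      MonoidAlgebra B (Multiplicative M) →+* Γ((Over.mk (f1 f M)).left, ⊤)).toMonoidHom.comp
        (MonoidAlgebra.of B (Multiplicative M)))
  have hxu' : ∀ m, ev (f1 f M) (dgFn xu m) = MonoidAlgebra.single (Multiplicative.ofAdd m) 1 := by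
    intro m
    rw [hxu m]
    exact ev_inv (f1 f M) _
  refine ⟨xu, ?_, ?_⟩
  · have hpt : ∀ (φ : Multiplicative M →* Multiplicative M × Multiplicative M) (m : M),
        ev (f2 f M) (dgFn (specHom (f1 f M) (f2 f M) _ (spec_mapDomain_f1 f φ) ≫ xu) m) =
          MonoidAlgebra.single (φ (Multiplicative.ofAdd m)) 1 := by
      intro φ m
      rw [ev_dgFn_specHom, hxu']
      simp
    apply dgFn_ext
    intro m
    apply ev_injective (f2 f M)
    rw [dgFn_mul, map_mul, hpt, hpt, hpt, MonoidAlgebra.single_mul_single]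
    simp
  · intro x
    let χ : Multiplicative M →* B :=
      { toFun := fun g => ev f (dgFn x (Multiplicative.toAdd g))
        map_one' := by
          change ev f (dgFn x 0) = 1
          rw [dgFn_zero, map_one]
        map_mul' := by
          intro g h
          change ev f (dgFn x (Multiplicative.toAdd g + Multiplicative.toAdd h)) = _
          rw [dgFn_add, map_mul] }
    have hρ : (MonoidAlgebra.lift B B (Multiplicative M) χ).toRingHom.comp
        (algebraMap B (MonoidAlgebra B (Multiplicative M))) = RingHom.id B := by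
      ext b
      simp
    refine ⟨(MonoidAlgebra.lift B B (Multiplicative M) χ).toRingHom, hρ, ?_⟩
    apply dgFn_ext
    intro m
    apply ev_injective f
    rw [ev_dgFn_specHom, hxu']
    simp [χ]

end Groth.Agent.R2.H37.DiagR
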