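import Groth.Agent.R2.H37Infinitesimal
import Groth.Prelude.Def_LieS

/-!
# Dual-number points of a monoid scheme: additivity in the dual coordinate (helper37)

For a monoid scheme `X` over `S`, `T = Spec B` affine over `S` and a point `v : I_T ⟶ X` restricting
to the unit along the zero section, `b ↦ (ε ↦ bε)^* v` is additive:
`(scale a ≫ v) * (scale b ≫ v) = scale (a + b) ≫ v`  (`scale_mul_scale`).
-/

set_option autoImplicit false
universe u

open CategoryTheory MonObj AlgebraicGeometry LieS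

namespace Groth.Agent.R2.H37.DualNumbers

open Groth.Agent.R2.H37.Infinitesimal

noncomputable section

section Rings

variable {B C : Type u} [CommRing B] [CommRing C]

/-- `B[ε₁, ε₂]/(ε₁, ε₂)²`. -/
abbrev E2 (B : Type u) [CommRing B] : Type u := TrivSqZeroExt B (B × B)

/-- the ring map `B[ε₁,ε₂]/(ε₁,ε₂)² → C`, `ε₁ ↦ c₁`, `ε₂ ↦ c₂`. -/
def dual2Hom (h : B →+* C) (c₁ c₂ : C) (h11 : c₁ * c₁ = 0) (h12 : c₁ * c₂ = 0) (h22 : c₂ * c₂ = 0) :
    E2 B →+* C where
  toFun x := h x.fst + h x.snd.1 * c₁ + h x.snd.2 * c₂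
  map_one' := by simp
  map_mul' x y := by
    simp only [TrivSqZeroExt.fst_mul, TrivSqZeroExt.snd_mul, Prod.fst_add, Prod.snd_add, Prod.smul_fst,
      Prod.smul_snd, MulOpposite.smul_eq_mul_unop, MulOpposite.unop_op, smul_eq_mul, map_mul, map_add]
    have e1 : h x.snd.1 * c₁ * (h y.snd.1 * c₁) = 0 := by
      calc _ = h x.snd.1 * h y.snd.1 * (c₁ * c₁) := by ring
        _ = 0 := by rw [h11, mul_zero]
    have e2 : h x.snd.1 * c₁ * (h y.snd.2 * c₂) = 0 := by
      calc _ = h x.snd.1 * h y.snd.2 * (c₁ * c₂) := by ring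
        _ = 0 := by rw [h12, mul_zero]
    have e3 : h x.snd.2 * c₂ * (h y.snd.1 * c₁) = 0 := by
      calc _ = h x.snd.2 * h y.snd.1 * (c₁ * c₂) := by ring
        _ = 0 := by rw [h12, mul_zero]
    have e4 : h x.snd.2 * c₂ * (h y.snd.2 * c₂) = 0 := by
      calc _ = h x.snd.2 * h y.snd.2 * (c₂ * c₂) := by ring
        _ = 0 := by rw [h22, mul_zero]
    linear_combination (-1 : C) * e1 - e2 - e3 - e4
  map_zero' := by simp
  map_add' x y := by
    simp only [TrivSqZeroExt.fst_add, TrivSqZeroExt.snd_add, Prod.fst_add, Prod.snd_add, map_add]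
    ring

@[simp] theorem dual2Hom_apply (h : B →+* C) (c₁ c₂ : C) (h11 : c₁ * c₁ = 0) (h12 : c₁ * c₂ = 0)
    (h22 : c₂ * c₂ = 0) (x : E2 B) :
    dual2Hom h c₁ c₂ h11 h12 h22 x = h x.fst + h x.snd.1 * c₁ + h x.snd.2 * c₂ := rfl

theorem inr_mul_inr_E2 (x y : B × B) :
    (TrivSqZeroExt.inr x : E2 B) * TrivSqZeroExt.inr y = 0 := TrivSqZeroExt.inr_mul_inr B x y

/-- `ε ↦ ε₁`. -/
def p1 (B : Type u) [CommRing B] : DualNumber B →+* E2 B :=
  dualHom (algebraMap B (E2 B)) (TrivSqZeroExt.inr (1, 0)) (inr_mul_inr_E2 _ _)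

/-- `ε ↦ ε₂`. -/
def p2 (B : Type u) [CommRing B] : DualNumber B →+* E2 B :=
  dualHom (algebraMap B (E2 B)) (TrivSqZeroExt.inr (0, 1)) (inr_mul_inr_E2 _ _)

/-- `ε ↦ ε₁ + ε₂`. -/
def sm (B : Type u) [CommRing B] : DualNumber B →+* E2 B :=
  dualHom (algebraMap B (E2 B)) (TrivSqZeroExt.inr (1, 1)) (inr_mul_inr_E2 _ _)

/-- `ε₁ ↦ a ε`, `ε₂ ↦ b ε`. -/
def tt (a b : B) : E2 B →+* DualNumber B :=
  dual2Hom (algebraMap B (DualNumber B)) (algebraMap B (DualNumber B) a * DualNumber.eps)
    (algebraMap B (DualNumber B) b * DualNumber.eps)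
    (by rw [_root_.mul_mul_mul_comm, eps_sq, mul_zero]) (by rw [_root_.mul_mul_mul_comm, eps_sq, mul_zero])
    (by rw [_root_.mul_mul_mul_comm, eps_sq, mul_zero])

theorem p1_comp_algebraMap : (p1 B).comp (algebraMap B (DualNumber B)) = algebraMap B (E2 B) :=
  dualHom_comp_algebraMap _ _ _

theorem p2_comp_algebraMap : (p2 B).comp (algebraMap B (DualNumber B)) = algebraMap B (E2 B) :=
  dualHom_comp_algebraMap _ _ _

theorem sm_comp_algebraMap : (sm B).comp (algebraMap B (DualNumber B)) = algebraMap B (E2 B) :=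
  dualHom_comp_algebraMap _ _ _

theorem tt_comp_algebraMap (a b : B) :
    (tt a b).comp (algebraMap B (E2 B)) = algebraMap B (DualNumber B) :=
  RingHom.ext fun x => by simp [tt, TrivSqZeroExt.algebraMap_eq_inl']

theorem tt_comp_p1 (a b : B) : (tt a b).comp (p1 B) = scaleHom a :=
  RingHom.ext fun x => by
    ext <;> simp [tt, p1, scaleHom, TrivSqZeroExt.algebraMap_eq_inl']

theorem tt_comp_p2 (a b : B) : (tt a b).comp (p2 B) = scaleHom b :=
  RingHom.ext fun x => by
    ext <;> simp [tt, p2, scaleHom, TrivSqZeroExt.algebraMap_eq_inl']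

theorem tt_comp_sm (a b : B) : (tt a b).comp (sm B) = scaleHom (a + b) :=
  RingHom.ext fun x => by
    ext <;> simp [tt, sm, scaleHom, TrivSqZeroExt.algebraMap_eq_inl', mul_add]

theorem scaleHom_one : scaleHom (1 : B) = RingHom.id (DualNumber B) :=
  RingHom.ext fun x => by
    ext <;> simp [scaleHom, TrivSqZeroExt.algebraMap_eq_inl']

theorem scaleHom_zero :
    scaleHom (0 : B) = (algebraMap B (DualNumber B)).comp (TrivSqZeroExt.fstHom B B B).toRingHom :=
  RingHom.ext fun x => by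
    ext <;> simp [scaleHom, TrivSqZeroExt.algebraMap_eq_inl']

theorem tt_one_zero_comp_p2 :
    (tt (1 : B) 0).comp (p2 B) =
      (algebraMap B (DualNumber B)).comp (TrivSqZeroExt.fstHom B B B).toRingHom := by
  rw [tt_comp_p2, scaleHom_zero]

theorem tt_zero_one_comp_p1 :
    (tt (0 : B) 1).comp (p1 B) =
      (algebraMap B (DualNumber B)).comp (TrivSqZeroExt.fstHom B B B).toRingHom := by
  rw [tt_comp_p1, scaleHom_zero]

theorem tt_jointly_injective (x : E2 B) (h1 : tt (1 : B) 0 x = 0) (h2 : tt (0 : B) 1 x = 0) :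
    x = 0 := by
  have a1 := congrArg TrivSqZeroExt.fst h1
  have a2 := congrArg TrivSqZeroExt.snd h1
  have a3 := congrArg TrivSqZeroExt.snd h2
  simp [tt, TrivSqZeroExt.algebraMap_eq_inl'] at a1 a2 a3
  ext
  · exact a1
  · simpa [a1] using a2
  · simpa [a1] using a3

theorem tt_one_zero_homeo :
    IsHomeomorph (PrimeSpectrum.comap (tt (1 : B) 0)) := by
  apply PrimeSpectrum.isHomeomorph_comap
  · intro x
    refine ⟨1, one_pos, TrivSqZeroExt.inl x.fst + TrivSqZeroExt.inr (x.snd, 0), ?_⟩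
    ext <;> simp [tt, TrivSqZeroExt.algebraMap_eq_inl']
  · intro x hx
    rw [RingHom.mem_ker] at hx
    have a1 := congrArg TrivSqZeroExt.fst hx
    simp [tt, TrivSqZeroExt.algebraMap_eq_inl'] at a1
    rw [mem_nilradical]
    refine ⟨2, ?_⟩
    ext <;> simp [pow_two, a1]

end Rings

section Schemes

variable {S : Scheme.{u}} {B : Type u} [CommRing B] (f : Spec (CommRingCat.of B) ⟶ S)

/-- the affine `S`-scheme `Spec C` with structure map through `h : B →+* C`. -/
abbrev ov {C : Type u} [CommRing C] (h : B →+* C) : Over S :=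
  Over.mk (Spec.map (CommRingCat.ofHom h) ≫ f)

/-- the morphism of `S`-schemes induced by a ring map compatible with the structure maps. -/
def ovHom {C C' : Type u} [CommRing C] [CommRing C'] (h : B →+* C) (h' : B →+* C') (θ : C →+* C')
    (hθ : θ.comp h = h') : ov f h' ⟶ ov f h :=
  Over.homMk (Spec.map (CommRingCat.ofHom θ)) (by
    change Spec.map _ ≫ Spec.map _ ≫ f = Spec.map _ ≫ f
    rw [← Category.assoc, specMap_comp, hθ])

theorem ovHom_comp {C C' C'' : Type u} [CommRing C] [CommRing C'] [CommRing C''] (h : B →+* C)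
    (h' : B →+* C') (h'' : B →+* C'') (θ : C →+* C') (hθ : θ.comp h = h') (θ' : C' →+* C'')
    (hθ' : θ'.comp h' = h'') :
    ovHom f h' h'' θ' hθ' ≫ ovHom f h h' θ hθ =
      ovHom f h h'' (θ'.comp θ) (by rw [RingHom.comp_assoc, hθ, hθ']) := by
  ext
  exact specMap_comp _ _

theorem ovHom_congr {C C' : Type u} [CommRing C] [CommRing C'] (h : B →+* C) (h' : B →+* C')
    {θ θ' : C →+* C'} (hθ : θ.comp h = h') (e : θ = θ') :
    ovHom f h h' θ hθ = ovHom f h h' θ' (e ▸ hθ) := by
  subst e; rfl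

theorem ovHom_id {C : Type u} [CommRing C] (h : B →+* C) :
    ovHom f h h (RingHom.id C) (RingHom.id_comp h) = 𝟙 _ := by
  ext
  change Spec.map (CommRingCat.ofHom (RingHom.id C)) = 𝟙 _
  rw [CommRingCat.ofHom_id]
  exact Spec.map_id _

/-- `I_T` in the `ov` form. -/
abbrev dO : Over S := ov f (algebraMap B (DualNumber B))

/-- `scale` in the `ov` form. -/
abbrev scO (b : B) : dO f ⟶ dO f :=
  ovHom f (algebraMap B (DualNumber B)) (algebraMap B (DualNumber B)) (scaleHom b)
    (scaleHom_comp_algebraMap b)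

/-- `proj ≫ zeroSec` in the `ov` form. -/
abbrev zO : dO f ⟶ dO f :=
  ovHom f (algebraMap B (DualNumber B)) (algebraMap B (DualNumber B))
    ((algebraMap B (DualNumber B)).comp (TrivSqZeroExt.fstHom B B B).toRingHom)
    (by rw [RingHom.comp_assoc, fstHom_comp_algebraMap, RingHom.comp_id])

theorem proj_zeroSec : (proj B f ≫ zeroSec B f : dpt B f ⟶ dpt B f) = zO f := by
  ext
  exact specMap_comp _ _

/-- **Additivity in the dual coordinate** (`ov` form). -/
theorem scO_mul_scO {X : Over S} [MonObj X] (v : dO f ⟶ X) (hv : zO f ≫ v = 1)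
    (a b : B) : (scO f a ≫ v) * (scO f b ≫ v) = scO f (a + b) ≫ v := by
  -- the three maps `I² ⟶ I`
  let P1 : ov f (algebraMap B (E2 B)) ⟶ dO f := ovHom f _ _ (p1 B) p1_comp_algebraMap
  let P2 : ov f (algebraMap B (E2 B)) ⟶ dO f := ovHom f _ _ (p2 B) p2_comp_algebraMap
  let Sm : ov f (algebraMap B (E2 B)) ⟶ dO f := ovHom f _ _ (sm B) sm_comp_algebraMap
  have hzero : ∀ (θ : DualNumber B →+* DualNumber B)
      (hθ : θ.comp (algebraMap B (DualNumber B)) = algebraMap B (DualNumber B)),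
      θ = (algebraMap B (DualNumber B)).comp (TrivSqZeroExt.fstHom B B B).toRingHom →
      (ovHom f (algebraMap B (DualNumber B)) (algebraMap B (DualNumber B)) θ hθ) ≫ v = 1 := by
    intro θ hθ e
    subst e
    exact hv
  have hid : ∀ (θ : DualNumber B →+* DualNumber B)
      (hθ : θ.comp (algebraMap B (DualNumber B)) = algebraMap B (DualNumber B)),
      θ = RingHom.id _ →
      (ovHom f (algebraMap B (DualNumber B)) (algebraMap B (DualNumber B)) θ hθ) ≫ v = v := by
    intro θ hθ e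
    subst e
    rw [ovHom_id]
    exact Category.id_comp v
  have key : (P1 ≫ v) * (P2 ≫ v) = Sm ≫ v := by
    apply Over.OverMorphism.ext
    refine hom_ext_of_jointly_injective (idx := Bool) (R' := fun _ => DualNumber B)
      (fun i => bif i then tt (1 : B) 0 else tt (0 : B) 1) ?_ ?_ _ _ ?_
    · intro p
      obtain ⟨q, hq⟩ := tt_one_zero_homeo.surjective p
      exact ⟨true, q, hq⟩
    · intro x hx
      exact tt_jointly_injective x (hx true) (hx false)
    · intro i
      cases i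
      · -- `ε₁ ↦ 0, ε₂ ↦ ε`
        let J : dO f ⟶ ov f (algebraMap B (E2 B)) := ovHom f _ _ (tt (0 : B) 1) (tt_comp_algebraMap _ _)
        change (J ≫ ((P1 ≫ v) * (P2 ≫ v))).left = (J ≫ Sm ≫ v).left
        congr 1
        rw [MonObj.comp_mul, ← Category.assoc, ← Category.assoc, ← Category.assoc]
        simp only [J, P1, P2, Sm, ovHom_comp]
        rw [hzero _ _ tt_zero_one_comp_p1, hid _ _ (by rw [tt_comp_p2, scaleHom_one]),
          hid _ _ (by rw [tt_comp_sm, zero_add, scaleHom_one]), _root_.one_mul]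
      · let J : dO f ⟶ ov f (algebraMap B (E2 B)) := ovHom f _ _ (tt (1 : B) 0) (tt_comp_algebraMap _ _)
        change (J ≫ ((P1 ≫ v) * (P2 ≫ v))).left = (J ≫ Sm ≫ v).left
        congr 1
        rw [MonObj.comp_mul, ← Category.assoc, ← Category.assoc, ← Category.assoc]
        simp only [J, P1, P2, Sm, ovHom_comp]
        rw [hzero _ _ tt_one_zero_comp_p2, hid _ _ (by rw [tt_comp_p1, scaleHom_one]),
          hid _ _ (by rw [tt_comp_sm, add_zero, scaleHom_one]), _root_.mul_one]
  let T : dO f ⟶ ov f (algebraMap B (E2 B)) := ovHom f _ _ (tt a b) (tt_comp_algebraMap _ _)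
  have h1 := congrArg (fun m => T ≫ m) key
  simp only [MonObj.comp_mul, ← Category.assoc] at h1
  simp only [T, P1, P2, Sm, ovHom_comp] at h1
  rw [ovHom_congr f _ _ _ (tt_comp_p1 a b), ovHom_congr f _ _ _ (tt_comp_p2 a b),
    ovHom_congr f _ _ _ (tt_comp_sm a b)] at h1
  exact h1

/-- **Additivity in the dual coordinate.** For a monoid scheme `X` over `S` and a point `v` of `X`
with values in the dual numbers over `T = Spec B` restricting to the unit along the zero section,
`(scale a ≫ v) * (scale b ≫ v) = scale (a + b) ≫ v`. -/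
theorem scale_mul_scale {X : Over S} [MonObj X] (v : dpt B f ⟶ X) (hv : zeroSec B f ≫ v = 1)
    (a b : B) : (scale B f a ≫ v) * (scale B f b ≫ v) = scale B f (a + b) ≫ v := by
  have hv' : (proj B f ≫ zeroSec B f) ≫ v = 1 :=
    (Category.assoc _ _ _).trans ((congrArg (fun m => proj B f ≫ m) hv).trans (MonObj.comp_one _))
  have hv'' : zO f ≫ (show dO f ⟶ X from v) = 1 := (proj_zeroSec f) ▸ hv'
  exact scO_mul_scO f (show dO f ⟶ X from v) hv'' a b

theorem scale_one {X : Over S} (v : dpt B f ⟶ X) : scale B f 1 ≫ v = v := by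
  have h : (scale B f 1 : dpt B f ⟶ dpt B f) = 𝟙 _ := by
    ext
    change Spec.map (CommRingCat.ofHom (scaleHom (1 : B))) = 𝟙 _
    rw [scaleHom_one, CommRingCat.ofHom_id]
    exact Spec.map_id _
  rw [h, Category.id_comp]

theorem scale_zero {X : Over S} [MonObj X] (v : dpt B f ⟶ X) (hv : zeroSec B f ≫ v = 1) :
    scale B f 0 ≫ v = 1 := by
  have h : (scale B f 0 : dpt B f ⟶ dpt B f) = proj B f ≫ zeroSec B f := by
    ext
    change Spec.map (CommRingCat.ofHom (scaleHom (0 : B))) = Spec.map _ ≫ Spec.map _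
    rw [scaleHom_zero, specMap_comp]
  rw [h, Category.assoc, hv, MonObj.comp_one]

end Schemes

end

end Groth.Agent.R2.H37.DualNumbers
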