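import Mathlib

/-!
# Grouplike elements of a monoid algebra (helper37)

`IsGL z`: `Δ z = z ⊗ z` (in `C[N × N]`) and `ε z = 1`.  The coefficients of a grouplike element are
complete orthogonal idempotents; hence grouplike elements lift uniquely along surjections with nil
kernel (`exists_lift`, `eq_of_map_eq`).
-/

set_option autoImplicit false
universe u

namespace Groth.Agent.R2.H37.GL

open MonoidAlgebra
open scoped Classical

variable {C : Type u} [CommRing C] {N : Type} [CommMonoid N]

/-- the diagonal `C[N] → C[N × N]` -/
noncomputable abbrev dl : MonoidAlgebra C N →+* MonoidAlgebra C (N × N) :=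
  mapDomainRingHom C (MonoidHom.prod (MonoidHom.id N) (MonoidHom.id N))

/-- the first inclusion -/
noncomputable abbrev i1 : MonoidAlgebra C N →+* MonoidAlgebra C (N × N) :=
  mapDomainRingHom C (MonoidHom.inl N N)

/-- the second inclusion -/
noncomputable abbrev i2 : MonoidAlgebra C N →+* MonoidAlgebra C (N × N) :=
  mapDomainRingHom C (MonoidHom.inr N N)

/-- the augmentation `C[N] → C`, `e_n ↦ 1` -/
noncomputable def aug : MonoidAlgebra C N →+* C :=
  (MonoidAlgebra.lift C C N (1 : N →* C)).toRingHom

lemma aug_single (n : N) (c : C) : aug (single n c) = c := by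
  simp [aug]

/-- grouplike elements -/
def IsGL (z : MonoidAlgebra C N) : Prop :=
  dl z = i1 z * i2 z ∧ aug z = 1

lemma coeff_dl (z : MonoidAlgebra C N) (m n : N) :
    (dl z).coeff (m, n) = if m = n then z.coeff m else 0 := by
  classical
  have hδ : Function.Injective (MonoidHom.prod (MonoidHom.id N) (MonoidHom.id N)) := by
    intro x y hxy
    exact congrArg Prod.fst hxy
  change Finsupp.mapDomain (MonoidHom.prod (MonoidHom.id N) (MonoidHom.id N)) z.coeff (m, n) = _
  split_ifs with h
  · subst h
    exact Finsupp.mapDomain_apply hδ z.coeff m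
  · apply Finsupp.mapDomain_of_notMem_range
    rintro ⟨x, hx⟩
    apply h
    have h1 := congrArg Prod.fst hx
    have h2 := congrArg Prod.snd hx
    simp at h1 h2
    rw [← h1, ← h2]

lemma coeff_i1_mul_i2 (x y : MonoidAlgebra C N) (m n : N) :
    (i1 x * i2 y).coeff (m, n) = x.coeff m * y.coeff n := by
  classical
  induction x using MonoidAlgebra.induction_linear with
  | zero => simp
  | add x x' hx hx' =>
    rw [map_add, add_mul, coeff_add, Finsupp.add_apply, hx, hx', coeff_add, Finsupp.add_apply,
      add_mul]
  | single a c =>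
    induction y using MonoidAlgebra.induction_linear with
    | zero => simp
    | add y y' hy hy' =>
      rw [map_add, mul_add, coeff_add, Finsupp.add_apply, hy, hy', coeff_add, Finsupp.add_apply,
        mul_add]
    | single b d =>
      have e1 : i1 (single a c : MonoidAlgebra C N) = single (a, 1) c := by
        change mapDomain _ _ = _
        rw [mapDomain_single]; rfl
      have e2 : i2 (single b d : MonoidAlgebra C N) = single (1, b) d := by
        change mapDomain _ _ = _
        rw [mapDomain_single]; rfl
      rw [e1, e2, single_mul_single, coeff_single, coeff_single, coeff_single]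
      simp only [Prod.mk_mul_mk, mul_one, one_mul, Finsupp.single_apply, Prod.mk.injEq]
      by_cases h1 : a = m <;> by_cases h2 : b = n <;> simp [h1, h2]

lemma IsGL.coeff_mul {z : MonoidAlgebra C N} (hz : IsGL z) (m n : N) :
    z.coeff m * z.coeff n = if m = n then z.coeff m else 0 := by
  rw [← coeff_i1_mul_i2, ← hz.1, coeff_dl]

lemma IsGL.isIdempotentElem {z : MonoidAlgebra C N} (hz : IsGL z) (m : N) :
    IsIdempotentElem (z.coeff m) := by
  have := hz.coeff_mul m m
  rwa [if_pos rfl] at this

lemma aug_eq_sum (z : MonoidAlgebra C N) : aug z = z.coeff.sum (fun _ c => c) := by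
  induction z using MonoidAlgebra.induction_linear with
  | zero => simp
  | add x y hx hy =>
    rw [map_add, hx, hy, coeff_add]
    rw [Finsupp.sum_add_index'] <;> simp
  | single a c =>
    rw [aug_single, coeff_single, Finsupp.sum_single_index]
    rfl

lemma IsGL.one : IsGL (1 : MonoidAlgebra C N) := ⟨by simp, map_one _⟩

lemma IsGL.mul {z z' : MonoidAlgebra C N} (hz : IsGL z) (hz' : IsGL z') : IsGL (z * z') := by
  refine ⟨?_, by rw [map_mul, hz.2, hz'.2, mul_one]⟩
  rw [map_mul, map_mul, map_mul, hz.1, hz'.1]
  ring

lemma aug_mapRingHom {C' : Type u} [CommRing C'] (θ : C →+* C') (z : MonoidAlgebra C N) :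
    aug (mapRingHom N θ z) = θ (aug z) := by
  induction z using MonoidAlgebra.induction_linear with
  | zero => simp
  | add x y hx hy => rw [map_add, map_add, hx, hy, map_add, map_add]
  | single a c => rw [mapRingHom_single, aug_single, aug_single]

lemma IsGL.map {C' : Type u} [CommRing C'] (θ : C →+* C') {z : MonoidAlgebra C N} (hz : IsGL z) :
    IsGL (mapRingHom N θ z) := by
  have h (g : N →* N × N) (x : MonoidAlgebra C N) :
      mapDomainRingHom C' g (mapRingHom N θ x) = mapRingHom (N × N) θ (mapDomainRingHom C g x) := by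
    have := congrArg (fun k : MonoidAlgebra C N →+* MonoidAlgebra C' (N × N) => k x)
      (mapRingHom_comp_mapDomainRingHom θ g)
    exact this.symm
  refine ⟨?_, by rw [aug_mapRingHom, hz.2, map_one]⟩
  unfold dl i1 i2
  rw [h, h, h, ← map_mul]
  exact congrArg _ hz.1

lemma isGL_iff_coeff (z : MonoidAlgebra C N) :
    IsGL z ↔ (∀ m n, z.coeff m * z.coeff n = if m = n then z.coeff m else 0) ∧ aug z = 1 := by
  constructor
  · intro hz
    exact ⟨hz.coeff_mul, hz.2⟩
  · rintro ⟨h1, h2⟩
    refine ⟨?_, h2⟩
    ext ⟨m, n⟩
    rw [coeff_dl, coeff_i1_mul_i2, h1]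

section Lift

variable {C₀ : Type u} [CommRing C₀] (π : C →+* C₀)

/-- grouplike elements lift along surjections with nil kernel. -/
theorem exists_lift (hπ : Function.Surjective π) (hnil : ∀ x ∈ RingHom.ker π, IsNilpotent x)
    {z₀ : MonoidAlgebra C₀ N} (hz₀ : IsGL z₀) :
    ∃ z : MonoidAlgebra C N, IsGL z ∧ mapRingHom N π z = z₀ := by
  classical
  let s := z₀.coeff.support
  let e : s → C₀ := fun m => z₀.coeff m
  have he : CompleteOrthogonalIdempotents e :=
    { idem := fun m => hz₀.isIdempotentElem m
      ortho := fun m n hmn => by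
        change z₀.coeff m * z₀.coeff n = 0
        rw [hz₀.coeff_mul, if_neg (fun h => hmn (Subtype.ext h))]
      complete := by
        rw [← hz₀.2, aug_eq_sum, Finsupp.sum]
        exact (Finset.sum_coe_sort s (fun m => z₀.coeff m)) }
  obtain ⟨e', he', hee'⟩ := he.lift_of_isNilpotent_ker π hnil (fun m => hπ _)
  let c : N → C := fun n => if h : n ∈ s then e' ⟨n, h⟩ else 0
  let z : MonoidAlgebra C N := ofCoeff (Finsupp.onFinset s c (fun n hn => by
    by_contra h
    exact hn (dif_neg h)))
  have hzc : ∀ n, z.coeff n = c n := fun n => rfl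
  refine ⟨z, (isGL_iff_coeff z).mpr ⟨?_, ?_⟩, ?_⟩
  · intro m n
    rw [hzc, hzc]
    by_cases hm : m ∈ s
    · by_cases hn : n ∈ s
      · simp only [c, dif_pos hm, dif_pos hn]
        by_cases hmn : m = n
        · subst hmn
          rw [if_pos rfl]
          exact he'.idem _
        · rw [if_neg hmn]
          exact he'.ortho (fun h => hmn (congrArg Subtype.val h))
      · simp only [c, dif_neg hn, mul_zero]
        split_ifs with hmn
        · subst hmn; exact absurd hm hn
        · rfl
    · simp only [c, dif_neg hm, zero_mul]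
      split_ifs <;> rfl
  · rw [aug_eq_sum, Finsupp.sum_of_support_subset (s := s) _ (Finsupp.support_onFinset_subset) _
      (fun _ _ => rfl)]
    rw [← he'.complete, ← Finset.sum_coe_sort s]
    apply Finset.sum_congr rfl
    intro m _
    rw [hzc]
    simp only [c, dif_pos m.2]
  · ext n
    rw [coeff_mapRingHom, hzc]
    by_cases hn : n ∈ s
    · simp only [c, dif_pos hn]
      exact congrFun hee' ⟨n, hn⟩
    · simp only [c, dif_neg hn, map_zero]
      exact (Finsupp.notMem_support_iff.mp hn).symm

/-- grouplike elements with the same image modulo a nil ideal are equal. -/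
theorem eq_of_map_eq (hnil : ∀ x ∈ RingHom.ker π, IsNilpotent x)
    {z z' : MonoidAlgebra C N} (hz : IsGL z) (hz' : IsGL z')
    (h : mapRingHom N π z = mapRingHom N π z') : z = z' := by
  ext n
  apply eq_of_isNilpotent_sub_of_isIdempotentElem_of_commute (hz.isIdempotentElem n)
    (hz'.isIdempotentElem n) _ (Commute.all _ _)
  apply hnil
  rw [RingHom.mem_ker, map_sub, ← coeff_mapRingHom, ← coeff_mapRingHom, h, sub_self]

end Lift

end Groth.Agent.R2.H37.GL
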