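import Mathlib
import Groth.Agent.R2.H37Rigid
import Groth.Prelude.Def_TwC
import Groth.Prelude.Def_AlgGrp

/-!
# Rigidity of actions of groups of multiplicative type modulo locally nilpotent ideals (helper37)

`trivial_of_trivial_mod`: `i₀ : S₀ ⟶ S` a closed immersion with locally nilpotent ideal, `G` an
`S`-group of multiplicative type (fpqc locally diagonalisable), `Φ : G ⊗ X ⟶ X` any `S`-morphism
multiplicative in `G`.  If `Φ(g, x) = x` for all points over `S₀`-schemes then `Φ(g, x) = x` for all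
points.
-/

set_option autoImplicit false
universe u

open CategoryTheory AlgebraicGeometry MonoidalCategory CartesianMonoidalCategory MonObj
open CategoryTheory.Limits

namespace Groth.Agent.R2.H37.Rigid

open Groth.Agent.R2.H37 Groth.Agent.R2.H37.Pair Groth.Agent.R2.H37.DiagPoints
  Groth.Agent.R2.H37.Dev Groth.Agent.R2.H37.DiagAt Groth.Agent.R2.H37.Infinitesimal

theorem trivial_of_trivial_mod {S S₀ : Scheme.{u}} (i₀ : S₀ ⟶ S) [IsClosedImmersion i₀]
    (hnil : ∀ x : S, ∃ U : S.affineOpens, x ∈ (U : S.Opens) ∧ IsNilpotent (i₀.ker.ideal U))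
    (G X : Over S) [GrpObj G]
    (hG : TwC.Locally S TwC.Topology.fpqc (fun S' f => ∃ (M : Type) (_ : AddCommGroup M),
      Nonempty (Grp.mk (Red.bc f G) ≅ Grp.mk (Red.DS S' M))))
    (Φ : G ⊗ X ⟶ X)
    (hΦ : ∀ (T : Over S) (g₁ g₂ : T ⟶ G) (x : T ⟶ X),
      lift (g₁ * g₂) x ≫ Φ = lift g₁ (lift g₂ x ≫ Φ) ≫ Φ)
    (h0 : ∀ (Y : Over S) (_ : Y ⟶ Over.mk i₀) (g : Y ⟶ G) (x : Y ⟶ X), lift g x ≫ Φ = x) :
    ∀ (Y : Over S) (g : Y ⟶ G) (x : Y ⟶ X), lift g x ≫ Φ = x := by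
  intro Y g x
  obtain ⟨S', fS', hflat, hsurj, -, hloc⟩ := hG
  apply Over.OverMorphism.ext
  have hepi : Epi (pullback.fst Y.hom fS') := by
    have h1 : Flat (pullback.fst Y.hom fS') := inferInstance
    have h2 : Surjective (pullback.fst Y.hom fS') := inferInstance
    exact Flat.epi_of_flat_of_surjective _
  rw [← cancel_epi (pullback.fst Y.hom fS')]
  apply Scheme.hom_ext_of_forall
  intro p
  obtain ⟨U, hpU, M, instM, ⟨φ⟩⟩ := hloc ((pullback.snd Y.hom fS').base p)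
  obtain ⟨U₀, hpU₀, hU₀⟩ := hnil (fS'.base ((pullback.snd Y.hom fS').base p))
  obtain ⟨W, hW, hpW, -⟩ := exists_isAffineOpen_mem_and_subset
    (x := x.left.base ((pullback.fst Y.hom fS').base p)) (U := ⊤) trivial
  let O : (pullback Y.hom fS').Opens := (pullback.snd Y.hom fS') ⁻¹ᵁ U ⊓
    (pullback.snd Y.hom fS' ≫ fS') ⁻¹ᵁ U₀.1 ⊓ (pullback.fst Y.hom fS' ≫ x.left) ⁻¹ᵁ W
  have hpO : p ∈ O := ⟨⟨hpU, hpU₀⟩, hpW⟩
  obtain ⟨V, hV, hpV, hVO⟩ := exists_isAffineOpen_mem_and_subset hpO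
  refine ⟨V, hpV, ?_⟩
  have hι : V.ι = hV.isoSpec.hom ≫ hV.fromSpec := (hV.isoSpec_hom_fromSpec).symm
  rw [hι, Category.assoc, Category.assoc]
  congr 1
  have hmemO : ∀ q, hV.fromSpec.base q ∈ O := by
    intro q
    apply hVO
    have : hV.fromSpec.base q ∈ Set.range hV.fromSpec := ⟨q, rfl⟩
    rw [hV.range_fromSpec] at this
    exact this
  let f : Spec (CommRingCat.of Γ(pullback Y.hom fS', V)) ⟶ S :=
    (hV.fromSpec ≫ pullback.fst Y.hom fS') ≫ Y.hom
  let yB : Over.mk f ⟶ Y := Over.homMk (hV.fromSpec ≫ pullback.fst Y.hom fS') rfl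
  -- the map to `U`
  have hrU : Set.range (hV.fromSpec ≫ pullback.snd Y.hom fS').base ⊆ Set.range U.ι.base := by
    rw [Scheme.Opens.range_ι]
    rintro _ ⟨q, rfl⟩
    exact (hmemO q).1.1
  let t : Spec (CommRingCat.of Γ(pullback Y.hom fS', V)) ⟶ U :=
    IsOpenImmersion.lift U.ι (hV.fromSpec ≫ pullback.snd Y.hom fS') hrU
  have hf : t ≫ (U.ι ≫ fS') = f := by
    rw [← Category.assoc, IsOpenImmersion.lift_fac, Category.assoc, ← pullback.condition,
      ← Category.assoc]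
  -- the ring map from `Γ(S, U₀)`
  have hrU₀ : Set.range f.base ⊆ (U₀.1 : Set S) := by
    rintro _ ⟨q, rfl⟩
    have := (hmemO q).1.2
    have e : f = hV.fromSpec ≫ (pullback.snd Y.hom fS' ≫ fS') := by
      rw [← pullback.condition, ← Category.assoc]
    rw [e]
    exact this
  obtain ⟨ψ, hψ⟩ := exists_factor_affine U₀.1 U₀.2 f hrU₀
  -- the chart
  have hrW : Set.range (yB ≫ x).left.base ⊆ Set.range hW.fromSpec.base := by
    rw [hW.range_fromSpec]
    rintro _ ⟨q, rfl⟩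
    exact (hmemO q).2
  obtain ⟨ξ, hξ⟩ := exists_isChartPt_of_range (A := Γ(X.left, W)) hW.fromSpec (yB ≫ x) hrW
  have main : lift (yB ≫ g) (yB ≫ x) ≫ Φ = yB ≫ x :=
    trivial_affine (B := Γ(pullback Y.hom fS', V)) (A := Γ(X.left, W)) i₀ Φ (U.ι ≫ fS') φ
      hW.fromSpec hΦ h0 U₀ hU₀ t f hf ψ.hom hψ (yB ≫ g) (yB ≫ x) ξ hξ
  rw [← comp_lift, Category.assoc] at main
  exact congrArg (fun k => k.left) main

end Groth.Agent.R2.H37.Rigid
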