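import Mathlib
import Groth.Agent.R2.H37Rigid
import Groth.Prelude.Def_TwC
import Groth.Prelude.Def_AlgGrp

/-!
# Rigidity modulo locally nilpotent ideals for groups with universal points (helper37)

`trivial_of_trivial_mod_of_univ`: the variant of `trivial_of_trivial_mod` where `G` is assumed to have
universal points over `B[M]` for all affine test objects (`HasUniv`), e.g. `G = Red.diag R M`.
-/

set_option autoImplicit false
universe u

open CategoryTheory AlgebraicGeometry MonoidalCategory CartesianMonoidalCategory MonObj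
open CategoryTheory.Limits

namespace Groth.Agent.R2.H37.Rigid

open Groth.Agent.R2.H37 Groth.Agent.R2.H37.Pair Groth.Agent.R2.H37.DiagPoints
  Groth.Agent.R2.H37.Dev Groth.Agent.R2.H37.DiagAt Groth.Agent.R2.H37.Infinitesimal

theorem trivial_of_trivial_mod_of_univ {S S₀ : Scheme.{u}} (i₀ : S₀ ⟶ S) [IsClosedImmersion i₀]
    (hnil : ∀ x : S, ∃ U : S.affineOpens, x ∈ (U : S.Opens) ∧ IsNilpotent (i₀.ker.ideal U))
    (G X : Over S) [GrpObj G] (M : Type) [AddCommGroup M]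
    (huv : ∀ (B : Type u) [CommRing B] (f : Spec (CommRingCat.of B) ⟶ S), HasUniv G M f)
    (Φ : G ⊗ X ⟶ X)
    (hΦ : ∀ (T : Over S) (g₁ g₂ : T ⟶ G) (x : T ⟶ X),
      lift (g₁ * g₂) x ≫ Φ = lift g₁ (lift g₂ x ≫ Φ) ≫ Φ)
    (h0 : ∀ (Y : Over S) (_ : Y ⟶ Over.mk i₀) (g : Y ⟶ G) (x : Y ⟶ X), lift g x ≫ Φ = x) :
    ∀ (Y : Over S) (g : Y ⟶ G) (x : Y ⟶ X), lift g x ≫ Φ = x := by
  intro Y g x
  apply Over.OverMorphism.ext
  apply Scheme.hom_ext_of_forall
  intro p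
  obtain ⟨U₀, hpU₀, hU₀⟩ := hnil (Y.hom.base p)
  obtain ⟨W, hW, hpW, -⟩ := exists_isAffineOpen_mem_and_subset
    (x := x.left.base p) (U := ⊤) trivial
  let O : Y.left.Opens := Y.hom ⁻¹ᵁ U₀.1 ⊓ x.left ⁻¹ᵁ W
  have hpO : p ∈ O := ⟨hpU₀, hpW⟩
  obtain ⟨V, hV, hpV, hVO⟩ := exists_isAffineOpen_mem_and_subset hpO
  refine ⟨V, hpV, ?_⟩
  have hι : V.ι = hV.isoSpec.hom ≫ hV.fromSpec := (hV.isoSpec_hom_fromSpec).symm
  rw [hι, Category.assoc, Category.assoc]
  congr 1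
  have hmemO : ∀ q, hV.fromSpec.base q ∈ O := by
    intro q
    apply hVO
    have : hV.fromSpec.base q ∈ Set.range hV.fromSpec := ⟨q, rfl⟩
    rw [hV.range_fromSpec] at this
    exact this
  let f : Spec (CommRingCat.of Γ(Y.left, V)) ⟶ S := hV.fromSpec ≫ Y.hom
  let yB : Over.mk f ⟶ Y := Over.homMk hV.fromSpec rfl
  have hrU₀ : Set.range f.base ⊆ (U₀.1 : Set S) := by
    rintro _ ⟨q, rfl⟩
    exact (hmemO q).1
  obtain ⟨ψ, hψ⟩ := exists_factor_affine U₀.1 U₀.2 f hrU₀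
  have hrW : Set.range (yB ≫ x).left.base ⊆ Set.range hW.fromSpec.base := by
    rw [hW.range_fromSpec]
    rintro _ ⟨q, rfl⟩
    exact (hmemO q).2
  obtain ⟨ξ, hξ⟩ := exists_isChartPt_of_range (A := Γ(X.left, W)) hW.fromSpec (yB ≫ x) hrW
  have main : lift (yB ≫ g) (yB ≫ x) ≫ Φ = yB ≫ x :=
    trivial_affine_of_univ (B := Γ(Y.left, V)) (A := Γ(X.left, W)) (M := M) i₀ Φ
      hW.fromSpec hΦ h0 U₀ hU₀ f (fun B' _ θ => huv B' _) ψ.hom hψ (yB ≫ g) (yB ≫ x) ξ hξ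
  rw [← comp_lift, Category.assoc] at main
  exact congrArg (fun k => k.left) main

section Pullback

open Groth.Agent.Lib.Helper27.GaGm

lemma one_left' {S : Scheme.{u}} {X : Over S} [GrpObj X] (T : Over S) :
    (1 : T ⟶ X).left = T.hom ≫ (η[X] : 𝟙_ (Over S) ⟶ X).left := by
  rw [Hom.one_def, Over.comp_left]
  rfl

lemma adjEquiv_one' {S S₀ : Scheme.{u}} (i₀ : S₀ ⟶ S) (X : Over S) [GrpObj X] (Y₀ : Over S₀) :
    adjEquiv i₀ X Y₀ 1 = 1 := by
  have := adjEquiv_mul i₀ X Y₀ 1 1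
  rw [_root_.mul_one] at this
  exact left_eq_mul.mp this

/-- a morphism whose base change to `S₀` is the unit kills all points over `S₀`-schemes. -/
lemma comp_eq_one_of_pullback_map_eq_one {S S₀ : Scheme.{u}} (i₀ : S₀ ⟶ S) {G X : Over S}
    [GrpObj G] [GrpObj X] (f : G ⟶ X) (h : (Over.pullback i₀).map f = 1)
    (Y : Over S) (p : Y ⟶ Over.mk i₀) (g : Y ⟶ G) : g ≫ f = 1 := by
  let Y₀ : Over S₀ := Over.mk p.left
  have hw : p.left ≫ i₀ = Y.hom := Over.w p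
  let g₀ : (Over.map i₀).obj Y₀ ⟶ G := Over.homMk g.left (by
    change g.left ≫ G.hom = p.left ≫ i₀
    rw [Over.w g, hw])
  have e1 : adjEquiv i₀ X Y₀ ((adjEquiv i₀ G Y₀).symm g₀ ≫ (Over.pullback i₀).map f) =
      g₀ ≫ f := by
    unfold adjEquiv
    rw [Adjunction.homEquiv_naturality_right_symm]
    simp
  rw [h, MonObj.comp_one, adjEquiv_one'] at e1
  apply Over.OverMorphism.ext
  have e2 := congrArg (fun k => k.left) e1
  rw [Over.comp_left, one_left']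
  rw [one_left', Over.comp_left] at e2
  rw [← hw]
  exact e2.symm

end Pullback

end Groth.Agent.R2.H37.Rigid
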