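import Mathlib
import Groth.Agent.R2.H70StabSpec
import Groth.Agent.R2.H37StabMU

/-!
# PROJ:shstab, package MU: the rows against `PkgCtx` (helper37)

`sNNNNN_of (hctx : PkgCtx)` is the frozen statement `SNNNNN` (S15210, S15213, S15214, S15217, S15218,
S15222).
-/

set_option autoImplicit false
set_option linter.style.haveILetI false
set_option linter.unusedVariables false

universe u

open CategoryTheory CategoryTheory.Limits AlgebraicGeometry Polynomial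

namespace Groth.Agent.R2.H37.StabMURows

open Groth.Agent.R2.H70.StabCtx Groth.Agent.R2.H70.StabSpec Groth.Agent.R2.H37.StabMU

variable (hctx : PkgCtx.{u})

include hctx

theorem s15217_of (k : Type u) [Field k] (X : Scheme.{u})
    [X.Over (Spec (CommRingCat.of k))] [IsProper (X ↘ Spec (CommRingCat.of k))]
    (L : X.Modules) (hL : CohB1.IsAmple L) (d : ℕ) (hd : 1 ≤ d) (E : X.Modules) :
    ShStab.IsSemistable k X L E d ↔ ShStab.IsEllSemistable k X L E d d := by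
  obtain ⟨Γ⟩ := hctx k X L hL
  unfold ShStab.IsSemistable ShStab.IsEllSemistable
  refine and_congr_right (fun hE => and_congr_right (fun h0 => and_congr_right (fun hp => ?_)))
  have hE' : Γ.H.ok E := Γ.ok_eq ▸ hE
  have hp' : Γ.H.IsPure E d := (Γ.isPure_iff E d).2 hp
  have := isSS_iff_isEllSS (H := Γ.H) hE' h0 hp'
  rwa [Γ.ok_eq, Γ.HP_eq] at this

theorem s15218_of (k : Type u) [Field k] (X : Scheme.{u})
    [X.Over (Spec (CommRingCat.of k))] [IsProper (X ↘ Spec (CommRingCat.of k))]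
    (L : X.Modules) (hL : CohB1.IsAmple L) (d : ℕ) (hd : 1 ≤ d) (E : X.Modules) :
    ShStab.IsStable k X L E d ↔ ShStab.IsEllStable k X L E d d := by
  obtain ⟨Γ⟩ := hctx k X L hL
  unfold ShStab.IsStable ShStab.IsEllStable
  refine and_congr_right (fun hE => and_congr_right (fun h0 => and_congr_right (fun hp => ?_)))
  have hE' : Γ.H.ok E := Γ.ok_eq ▸ hE
  have hp' : Γ.H.IsPure E d := (Γ.isPure_iff E d).2 hp
  have := isSt_iff_isEllSt (H := Γ.H) hE' h0 hp'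
  rwa [Γ.ok_eq, Γ.HP_eq] at this

theorem s15222_of (k : Type u) [Field k] (X : Scheme.{u})
    [X.Over (Spec (CommRingCat.of k))] [IsProper (X ↘ Spec (CommRingCat.of k))]
    (L : X.Modules) (hL : CohB1.IsAmple L) (d ℓ : ℕ) (hℓ : 1 ≤ ℓ) (hℓd : ℓ ≤ d) (E : X.Modules)
    (hE : ShStab.IsSemistable k X L E d) : ShStab.IsEllSemistable k X L E d ℓ := by
  obtain ⟨Γ⟩ := hctx k X L hL
  obtain ⟨hc, h0, hp, hss⟩ := hE
  refine ⟨hc, h0, hp, ?_⟩
  have hE' : Γ.H.ok E := Γ.ok_eq ▸ hc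
  have hp' : Γ.H.IsPure E d := (Γ.isPure_iff E d).2 hp
  have hss' : StabCat.IsSS Γ.H.ok Γ.H.HP d E := by rw [Γ.ok_eq, Γ.HP_eq]; exact hss
  have := isEllSS_of_isSS (H := Γ.H) ℓ hE' (hp'.dim_eq Γ.H hE' h0).le hss'
  rwa [Γ.ok_eq, Γ.HP_eq] at this

theorem s15210_of (k : Type u) [Field k] (X : Scheme.{u})
    [X.Over (Spec (CommRingCat.of k))] [IsProper (X ↘ Spec (CommRingCat.of k))]
    (L : X.Modules) (hL : CohB1.IsAmple L) (d : ℕ) (hd : 1 ≤ d)
    (hX : topologicalKrullDim X = (d : WithBot ℕ∞)) (E : X.Modules)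
    (hE : ShStab.IsSemistable k X L E d) : ShStab.IsMuSemistable k X L E d := by
  obtain ⟨Γ⟩ := hctx k X L hL
  obtain ⟨hc, h0, hp, hss⟩ := hE
  have hE' : Γ.H.ok E := Γ.ok_eq ▸ hc
  have hp' : Γ.H.IsPure E d := (Γ.isPure_iff E d).2 hp
  have hss' : StabCat.IsSS Γ.H.ok Γ.H.HP d E := by rw [Γ.ok_eq, Γ.HP_eq]; exact hss
  have hdimE : Γ.H.dim E = (d : WithBot ℕ∞) := hp'.dim_eq Γ.H hE' h0
  have hdim : ∀ F : X.Modules, Γ.H.dim F = topologicalKrullDim (CohB1.support F) :=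
    fun F => congrFun Γ.dim_eq F
  refine ⟨hc, h0, ?_, ?_, ?_⟩
  · rw [← hdim E]
    exact hdimE
  · intro F ι hι hF
    rw [← hdim F]
    have hF' : Γ.H.ok F := Γ.ok_eq ▸ hF
    by_cases hF0 : IsZero F
    · rw [(Γ.H.dim_eq_bot_iff hF').2 hF0]
      simp
    · rw [hp' F ι hι hF' hF0]
      intro h
      have h1 : ((d + 1 : ℕ) : WithBot ℕ∞) = ((d : ℕ) : WithBot ℕ∞) := by
        rw [← h]
        push_cast
        rfl
      have h2 : d + 1 = d := by exact_mod_cast h1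
      omega
  · have := isMuSS_of_isSS (H := Γ.H) hd hE' hdimE.le hss'
    rwa [Γ.ok_eq, Γ.HP_eq] at this

theorem s15213_of (k : Type u) [Field k] (X : Scheme.{u})
    [X.Over (Spec (CommRingCat.of k))] [IsProper (X ↘ Spec (CommRingCat.of k))]
    (L : X.Modules) (hL : CohB1.IsAmple L) (d : ℕ) (E : X.Modules)
    (hE : Coh.IsCoh E) (h0 : ¬ IsZero E)
    (hdim : topologicalKrullDim (CohB1.support E) = (d : WithBot ℕ∞)) :
    ShStab.IsSemistable k X L E d ↔ StabCat.IsSS Coh.IsCoh (ShStab.IsHilbPoly k X L) d E := by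
  obtain ⟨Γ⟩ := hctx k X L hL
  refine ⟨fun h => h.2.2.2, fun h => ⟨hE, h0, ?_, h⟩⟩
  have hE' : Γ.H.ok E := Γ.ok_eq ▸ hE
  have hdim' : Γ.H.dim E = (d : WithBot ℕ∞) := (congrFun Γ.dim_eq E).trans hdim
  have h' : StabCat.IsSS Γ.H.ok Γ.H.HP d E := by rw [Γ.ok_eq, Γ.HP_eq]; exact h
  exact (Γ.isPure_iff E d).1 (isPure_of_isSS hE' hdim' h')

theorem s15214_of (k : Type u) [Field k] (X : Scheme.{u})
    [X.Over (Spec (CommRingCat.of k))] [IsProper (X ↘ Spec (CommRingCat.of k))]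
    (L : X.Modules) (hL : CohB1.IsAmple L) (d : ℕ) (E : X.Modules)
    (hE : Coh.IsCoh E) (h0 : ¬ IsZero E)
    (hdim : topologicalKrullDim (CohB1.support E) = (d : WithBot ℕ∞)) :
    ShStab.IsStable k X L E d ↔ StabCat.IsSt Coh.IsCoh (ShStab.IsHilbPoly k X L) d E := by
  obtain ⟨Γ⟩ := hctx k X L hL
  refine ⟨fun h => h.2.2.2, fun h => ⟨hE, h0, ?_, h⟩⟩
  have hE' : Γ.H.ok E := Γ.ok_eq ▸ hE
  have hdim' : Γ.H.dim E = (d : WithBot ℕ∞) := (congrFun Γ.dim_eq E).trans hdim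
  have h' : StabCat.IsSt Γ.H.ok Γ.H.HP d E := by rw [Γ.ok_eq, Γ.HP_eq]; exact h
  exact (Γ.isPure_iff E d).1 (isPure_of_isSt hE' hdim' h')

end Groth.Agent.R2.H37.StabMURows
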