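import Mathlib
import Groth.Prelude.Def_ShStab

/-!
# PROJ:shstab, sub-project [CTX-POS] (helper37): positivity of the top coefficient — interface

Packages (exact statements) for the field `alpha_pos` of helper70's `PkgCtx`:
* `PosStmt`  : Hilbert polynomials of coherent modules are eventually `≥ 0`, and eventually `> 0` for nonzero ones;
* `StepStmt` : for integral closed subschemes `Z' ⊊ Z` of `X`, `deg P_{O_{Z'}} + 1 ≤ deg P_{O_Z}`;
* `AlphaPosStmt` : the goal, `0 < alpha d P_E` when `dim Supp E = d`.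
Assembly `R2/H37StabPos.lean`: `alphaPos (hpos : PosStmt) (hstep : StepStmt) : AlphaPosStmt`.
-/

set_option autoImplicit false

universe u

open CategoryTheory CategoryTheory.Limits AlgebraicGeometry Polynomial

namespace Groth.Agent.R2.H37.StabPosSpec

/-- the structure sheaf of a closed subscheme, as an `O_X`-module. -/
noncomputable abbrev OZ {Z X : Scheme.{u}} (i : Z ⟶ X) : X.Modules :=
  (Coh.push i).obj (Coh.structureModule Z)

/-- **[POS-NONNEG]** Hilbert polynomials of coherent modules are eventually nonnegative, and eventually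
positive for nonzero modules (Serre vanishing + global generation: `P(m) = h⁰(F(m))` for `m ≫ 0`). -/
def PosStmt : Prop :=
  ∀ (k : Type u) [Field k] (X : Scheme.{u}) [X.Over (Spec (CommRingCat.of k))]
    [IsProper (X ↘ Spec (CommRingCat.of k))] (L : X.Modules), CohB1.IsAmple L →
    ∀ (F : X.Modules), Coh.IsCoh F → ∀ (P : ℚ[X]), ShStab.IsHilbPoly k X L F P →
      StabCat.PolyLE 0 P ∧ (¬ IsZero F → StabCat.PolyLT 0 P)

/-- **[POS-STEP]** for integral closed subschemes `Z' ⊊ Z` of `X`, the degree of the Hilbert polynomial of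
`O_Z` exceeds that of `O_{Z'}` (a nonzero section of `I_{Z'} ⊗ L^n` on `Z`, `n ≫ 0`). -/
def StepStmt : Prop :=
  ∀ (k : Type u) [Field k] (X : Scheme.{u}) [X.Over (Spec (CommRingCat.of k))]
    [IsProper (X ↘ Spec (CommRingCat.of k))] (L : X.Modules), CohB1.IsAmple L →
    ∀ (Z Z' : Scheme.{u}) (i : Z ⟶ X) (i' : Z' ⟶ X) [IsClosedImmersion i] [IsClosedImmersion i']
      [IsIntegral Z] [IsIntegral Z'], Set.range i'.base ⊂ Set.range i.base →
    ∀ (P P' : ℚ[X]), ShStab.IsHilbPoly k X L (OZ i) P → ShStab.IsHilbPoly k X L (OZ i') P' →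
      P'.natDegree + 1 ≤ P.natDegree

/-- **the goal**: the field `alpha_pos` of the geometric Hilbert-polynomial context. -/
def AlphaPosStmt : Prop :=
  ∀ (k : Type u) [Field k] (X : Scheme.{u}) [X.Over (Spec (CommRingCat.of k))]
    [IsProper (X ↘ Spec (CommRingCat.of k))] (L : X.Modules), CohB1.IsAmple L →
    ∀ (E : X.Modules), Coh.IsCoh E → ∀ (d : ℕ),
      topologicalKrullDim (CohB1.support E) = (d : WithBot ℕ∞) →
      ∀ (P : ℚ[X]), ShStab.IsHilbPoly k X L E P → 0 < StabCat.alpha d P

end Groth.Agent.R2.H37.StabPosSpec
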