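import Mathlib
import Groth.Prelude.Def_ClSub2
import Groth.Agent.R2.H62TopLen2

/-!
# `i_* O_Z` for a reduced closed subscheme is `O_X / I(Z)` (helper62, PROJ:snapper)

For a closed immersion `i : Z ⟶ X` with `Z` reduced, the kernel of `i` is the vanishing ideal of its image, and
`i_* O_Z ≅ ClSub.quotMod (vanishingIdeal (range i))`.
-/

set_option autoImplicit false
universe u
open CategoryTheory CategoryTheory.Limits AlgebraicGeometry TopologicalSpace Opposite

namespace Groth.Agent.R2.H62.Snapper

variable {X Z : Scheme.{u}}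

theorem radical_ker (i : Z ⟶ X) [QuasiCompact i] [IsReduced Z] : i.ker.radical = i.ker := by
  ext U : 2
  rw [Scheme.IdealSheafData.radical_ideal, Scheme.Hom.ker_apply]
  have h : (RingHom.ker (i.app U.1).hom).IsRadical := by
    rw [RingHom.ker_eq_comap_bot]
    exact Ideal.IsRadical.comap _ Ideal.isRadical_bot
  exact h.radical

theorem vanishingIdeal_range (i : Z ⟶ X) [IsClosedImmersion i] [IsReduced Z] :
    Scheme.IdealSheafData.vanishingIdeal ⟨Set.range i, i.isClosedEmbedding.isClosed_range⟩ = i.ker := by
  have h1 : i.ker.support = ⟨Set.range i, i.isClosedEmbedding.isClosed_range⟩ := by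
    apply Closeds.ext
    rw [Scheme.Hom.support_ker]
    exact i.isClosedEmbedding.isClosed_range.closure_eq
  rw [← h1, Scheme.IdealSheafData.vanishingIdeal_support, radical_ker]

instance isIso_unitToPush {Y : Scheme.{u}} (f : Z ⟶ Y) [IsIso f] : IsIso (ClSub.unitToPush f) := by
  rw [Scheme.Modules.Hom.isIso_iff_isIso_app]
  intro U
  rw [ConcreteCategory.isIso_iff_bijective]
  exact ConcreteCategory.bijective_of_isIso (f.app U)

/-- `i_* O_Z ≅ O_X / ker i` for a closed immersion `i` -/
noncomputable def pushStructureIso (i : Z ⟶ X) [IsClosedImmersion i] :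
    (Scheme.Modules.pushforward i).obj (Coh.structureModule Z) ≅ ClSub.quotMod i.ker :=
  ((Scheme.Modules.pushforwardCongr i.toImage_imageι.symm).app _) ≪≫
    ((Scheme.Modules.pushforwardComp i.toImage i.imageι).symm.app _) ≪≫
    (Scheme.Modules.pushforward i.imageι).mapIso (asIso (ClSub.unitToPush i.toImage)).symm

theorem nonempty_push_structure_iso_quotMod (i : Z ⟶ X) [IsClosedImmersion i] [IsIntegral Z] :
    Nonempty ((Scheme.Modules.pushforward i).obj (Coh.structureModule Z) ≅
      ClSub.quotMod (Scheme.IdealSheafData.vanishingIdeal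
        (⟨closure ({i (genericPoint Z)} : Set X), isClosed_closure⟩ : Closeds X))) := by
  have h : (⟨closure ({i (genericPoint Z)} : Set X), isClosed_closure⟩ : Closeds X) =
      ⟨Set.range i, i.isClosedEmbedding.isClosed_range⟩ := Closeds.ext (closure_singleton_generic i)
  rw [h, vanishingIdeal_range]
  exact ⟨pushStructureIso i⟩

end Groth.Agent.R2.H62.Snapper
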