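import Mathlib
import Groth.Agent.R2.H62RedIso

/-!
# Snapper's theorem with the contribution of the top-dimensional components (helper62, PROJ:snapper)

For `X` proper over a field, `L_0, …, L_{r-1}` invertible and `M` coherent with `dim Supp M ≤ d`:
* the stalks `M_ξ` at the points `ξ` whose closure has dimension `d` have finite length, and only finitely many are nonzero;
* `n ↦ χ(M ⊗ L^n) - ∑_ξ length(M_ξ) χ(O_{Z_ξ} ⊗ L^n)` is a numerical polynomial all of whose monomials have degree `< d`,
  where `Z_ξ` is the closure of `ξ` with its reduced structure.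
-/

set_option autoImplicit false
universe u
open CategoryTheory CategoryTheory.Limits AlgebraicGeometry TopologicalSpace Opposite

namespace Groth.Agent.R2.H62.Snapper

open Groth.Agent.R2.H12.Dev Groth.Agent.Lib.Helper23.Extend

section defs

variable {X : Scheme.{u}}

/-- the closure of `ξ` has dimension `d` -/
def IsDPt (d : ℕ) (ξ : X) : Prop := topologicalKrullDim ↥(closure ({ξ} : Set X)) = (d : WithBot ℕ∞)

/-- `O_X / I(closure ξ)` -/
noncomputable abbrev Zmod (ξ : X) : X.Modules :=
  ClSub.quotMod (Scheme.IdealSheafData.vanishingIdeal (⟨closure ({ξ} : Set X), isClosed_closure⟩ : Closeds X))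

theorem len_eq_zero_of_smallSupp {M : X.Modules} {d : ℕ} (hs : SmallSupp M d) (ξ : X) (hξ : IsDPt d ξ) :
    len M ξ = 0 := by
  obtain ⟨W, hv, hdim⟩ := hs
  refine len_eq_zero_of_vanOn hv ξ ?_
  by_contra hξW
  have hsub : closure ({ξ} : Set X) ⊆ (W : Set X)ᶜ :=
    W.isOpen.isClosed_compl.closure_subset_iff.2 (Set.singleton_subset_iff.2 hξW)
  have h1 := topologicalKrullDim_mono hsub
  rw [hξ] at h1
  exact absurd (lt_of_le_of_lt h1 hdim) (lt_irrefl _)

end defs

section main

variable (k : Type u) [Field k] {X : Scheme.{u}} [X.Over (Spec (CommRingCat.of k))]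
  [IsProper (X ↘ (Spec (CommRingCat.of k)))]

open Classical in
/-- the contribution of the point `ξ` -/
noncomputable def compTerm (r : ℕ) (L : Fin r → X.Modules) (d : ℕ) (M : X.Modules) (n : Fin r → ℕ) (ξ : X) : ℤ :=
  if IsDPt d ξ then ((len M ξ).toNat : ℤ) * chiF k r L (Zmod ξ) n else 0

/-- the contribution of the `d`-dimensional components -/
noncomputable def compSum (r : ℕ) (L : Fin r → X.Modules) (d : ℕ) (M : X.Modules) (n : Fin r → ℕ) : ℤ :=
  ∑ᶠ ξ : X, compTerm k r L d M n ξ

/-- the set of generic points of `d`-dimensional components of the support -/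
def topPts (d : ℕ) (M : X.Modules) : Set X := {ξ | IsDPt d ξ ∧ len M ξ ≠ 0}

/-- the statement of Snapper's theorem with components -/
def Good (r : ℕ) (L : Fin r → X.Modules) (d : ℕ) (M : X.Modules) : Prop :=
  (∀ ξ, IsDPt d ξ → len M ξ ≠ ⊤) ∧ (topPts d M).Finite ∧
    IsNumPolyLT r d (fun n => chiF k r L M n - compSum k r L d M n)

theorem support_compTerm_subset (r : ℕ) (L : Fin r → X.Modules) (d : ℕ) (M : X.Modules) (n : Fin r → ℕ) :
    Function.support (compTerm k r L d M n) ⊆ topPts d M := by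
  intro ξ hξ
  rw [Function.mem_support] at hξ
  unfold compTerm at hξ
  by_cases h : IsDPt d ξ
  · refine ⟨h, fun h0 => hξ ?_⟩
    rw [if_pos h, h0]
    simp
  · exact absurd (if_neg h) hξ

theorem compTerm_congr (r : ℕ) (L : Fin r → X.Modules) (d : ℕ) {M N : X.Modules}
    (h : ∀ ξ, IsDPt d ξ → len M ξ = len N ξ) (n : Fin r → ℕ) (ξ : X) :
    compTerm k r L d M n ξ = compTerm k r L d N n ξ := by
  unfold compTerm
  by_cases hξ : IsDPt d ξ
  · rw [if_pos hξ, if_pos hξ, h ξ hξ]
  · rw [if_neg hξ, if_neg hξ]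

theorem compSum_eq_zero (r : ℕ) (L : Fin r → X.Modules) (d : ℕ) {M : X.Modules}
    (h : ∀ ξ, IsDPt d ξ → len M ξ = 0) (n : Fin r → ℕ) : compSum k r L d M n = 0 := by
  unfold compSum
  have : ∀ ξ, compTerm k r L d M n ξ = 0 := by
    intro ξ
    unfold compTerm
    by_cases hξ : IsDPt d ξ
    · rw [if_pos hξ, h ξ hξ]; simp
    · rw [if_neg hξ]
  simp only [this, finsum_zero]

theorem good_of_smallSupp (r : ℕ) (L : Fin r → X.Modules) (hL : ∀ j, PicF.IsInvertible (L j)) (d : ℕ)
    (M : X.Modules) (hM : Coh.IsCoh M) (hs : SmallSupp M d) : Good k r L d M := by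
  have h0 : ∀ ξ, IsDPt d ξ → len M ξ = 0 := fun ξ hξ => len_eq_zero_of_smallSupp hs ξ hξ
  refine ⟨fun ξ hξ => by rw [h0 ξ hξ]; simp, ?_, ?_⟩
  · have : topPts d M = ∅ := by
      ext ξ
      simp only [topPts, Set.mem_setOf_eq, Set.mem_empty_iff_false, iff_false, not_and, not_not]
      exact h0 ξ
    rw [this]
    exact Set.finite_empty
  · refine (snapper_lt k r L hL d M hM hs).congr fun n => ?_
    rw [compSum_eq_zero k r L d h0 n, sub_zero]

theorem good_of_isZero (r : ℕ) (L : Fin r → X.Modules) (d : ℕ) {M : X.Modules} (hM : IsZero M) :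
    Good k r L d M := by
  have h0 : ∀ ξ, IsDPt d ξ → len M ξ = 0 := fun ξ _ =>
    len_eq_zero_of_subsingleton M ξ (subsingleton_stalk_of_isZero hM ξ)
  refine ⟨fun ξ hξ => by rw [h0 ξ hξ]; simp, ?_, ?_⟩
  · have : topPts d M = ∅ := by
      ext ξ
      simp only [topPts, Set.mem_setOf_eq, Set.mem_empty_iff_false, iff_false, not_and, not_not]
      exact h0 ξ
    rw [this]
    exact Set.finite_empty
  · refine (isNumPolyLT_zero r d).congr fun n => ?_
    rw [compSum_eq_zero k r L d h0 n, sub_zero, chiF_of_isZero k r L hM n]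

theorem good_iso (r : ℕ) (L : Fin r → X.Modules) (d : ℕ) {M N : X.Modules} (e : M ≅ N)
    (h : Good k r L d M) : Good k r L d N := by
  obtain ⟨h1, h2, h3⟩ := h
  have hl : ∀ ξ, len M ξ = len N ξ := fun ξ => len_iso e ξ
  refine ⟨fun ξ hξ => by rw [← hl]; exact h1 ξ hξ, ?_, ?_⟩
  · have : topPts d N = topPts d M := by
      ext ξ
      simp only [topPts, Set.mem_setOf_eq, hl]
    rw [this]; exact h2
  · refine h3.congr fun n => ?_
    have hc : compSum k r L d M n = compSum k r L d N n := by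
      unfold compSum
      exact finsum_congr fun ξ => compTerm_congr k r L d (fun ξ _ => hl ξ) n ξ
    rw [hc, chiF_iso k r L e n]

theorem good_ses (r : ℕ) (L : Fin r → X.Modules) (hL : ∀ j, PicF.IsInvertible (L j)) (d : ℕ)
    (S : ShortComplex X.Modules) (hS : S.ShortExact)
    (hc1 : Coh.IsCoh S.X₁) (hc2 : Coh.IsCoh S.X₂) (hc3 : Coh.IsCoh S.X₃)
    (hg1 : Good k r L d S.X₁) (hg3 : Good k r L d S.X₃) : Good k r L d S.X₂ := by
  obtain ⟨a1, a2, a3⟩ := hg1
  obtain ⟨b1, b2, b3⟩ := hg3
  have hl : ∀ ξ, len S.X₂ ξ = len S.X₁ ξ + len S.X₃ ξ := fun ξ => len_add S hS ξ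
  refine ⟨fun ξ hξ => ?_, ?_, ?_⟩
  · rw [hl]
    exact WithTop.add_ne_top.2 ⟨a1 ξ hξ, b1 ξ hξ⟩
  · refine (a2.union b2).subset ?_
    rintro ξ ⟨hξ, hne⟩
    by_cases h1 : len S.X₁ ξ = 0
    · right
      refine ⟨hξ, fun h3 => hne ?_⟩
      rw [hl, h1, h3, add_zero]
    · left
      exact ⟨hξ, h1⟩
  · have hterm : ∀ n ξ, compTerm k r L d S.X₂ n ξ =
        compTerm k r L d S.X₁ n ξ + compTerm k r L d S.X₃ n ξ := by
      intro n ξ
      unfold compTerm
      by_cases hξ : IsDPt d ξ
      · rw [if_pos hξ, if_pos hξ, if_pos hξ, hl, ENat.toNat_add (a1 ξ hξ) (b1 ξ hξ)]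
        push_cast
        ring
      · rw [if_neg hξ, if_neg hξ, if_neg hξ, add_zero]
    have hsum : ∀ n, compSum k r L d S.X₂ n = compSum k r L d S.X₁ n + compSum k r L d S.X₃ n := by
      intro n
      unfold compSum
      rw [← finsum_add_distrib (a2.subset (support_compTerm_subset k r L d S.X₁ n))
        (b2.subset (support_compTerm_subset k r L d S.X₃ n))]
      exact finsum_congr fun ξ => hterm n ξ
    refine (a3.add b3).congr fun n => ?_
    rw [hsum n, chiF_add k r L hL S hS hc1 hc2 hc3 n]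
    ring

theorem good_push_ideal (r : ℕ) (L : Fin r → X.Modules) (hL : ∀ j, PicF.IsInvertible (L j)) (d : ℕ)
    {Z : Scheme.{u}} (i : Z ⟶ X) [IsClosedImmersion i] [IsIntegral Z] (I : Z.Modules)
    (ι : I ⟶ Coh.structureModule Z) [Mono ι] (hIq : Coh.IsQCoh I) (hI0 : ¬ IsZero I)
    (hs : SmallSupp ((Scheme.Modules.pushforward i).obj I) (d + 1)) :
    Good k r L d ((Scheme.Modules.pushforward i).obj I) := by
  have hXN : IsNoetherian X := isNoetherian_of_isProper k
  obtain ⟨W, hvI, hdimW⟩ := hs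
  have hiW : i ⁻¹ᵁ W = ⊥ := preimage_eq_bot_of_vanOn i ι hI0 hvI
  have hsub : Set.range i ⊆ (W : Set X)ᶜ := by
    rintro _ ⟨z, rfl⟩ hz
    have hz' : z ∈ i ⁻¹ᵁ W := hz
    rw [hiW] at hz'
    exact hz'
  have hdim : topologicalKrullDim ↥(Set.range i) < ((d + 1 : ℕ) : WithBot ℕ∞) :=
    lt_of_le_of_lt (topologicalKrullDim_mono hsub) hdimW
  have hZN : IsNoetherian Z := isNoetherian_of_isClosedImmersion i
  have hOZ : Coh.IsCoh (Coh.structureModule Z) := isCoh_structureModule' Z
  have hIc : Coh.IsCoh I := Groth.Agent.S0046.result Z _ I ι hOZ hIq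
  have hcI : Coh.IsCoh ((Scheme.Modules.pushforward i).obj I) := Groth.Agent.S0019.result i _ hIc
  have hcO : Coh.IsCoh ((Scheme.Modules.pushforward i).obj (Coh.structureModule Z)) :=
    Groth.Agent.S0019.result i _ hOZ
  set ξ₀ : X := i (genericPoint Z) with hξ₀
  have key : ∀ ξ, IsDPt d ξ → ξ ≠ ξ₀ → len ((Scheme.Modules.pushforward i).obj I) ξ = 0 := by
    intro ξ hξ hne
    by_cases hr : ξ ∈ Set.range i
    · exact absurd (eq_generic_of_dim i d hdim ξ hξ hr) hne
    · exact len_push_eq_zero i I ξ hr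
  by_cases h0 : IsDPt d ξ₀
  · have hlen : len ((Scheme.Modules.pushforward i).obj I) ξ₀ = 1 := len_push_ideal_generic i I ι hI0
    refine ⟨fun ξ hξ => ?_, ?_, ?_⟩
    · by_cases hne : ξ = ξ₀
      · rw [hne, hlen]; simp
      · rw [key ξ hξ hne]; simp
    · refine (Set.finite_singleton ξ₀).subset ?_
      rintro ξ ⟨hξ, hne⟩
      by_contra hne'
      exact hne (key ξ hξ hne')
    · obtain ⟨D', hD', hι⟩ := exists_isoOn_of_ideal ι hI0
      have hsQ := smallSupp_cokernel_push i d hdim ι D' hD' hι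
      have hcQ := isCoh_cokernel hcI hcO ((Scheme.Modules.pushforward i).map ι)
      have hpQ := snapper_lt k r L hL d _ hcQ hsQ
      have hadd := chiF_add k r L hL _
        (shortExact_cokernel ((Scheme.Modules.pushforward i).map ι)) hcI hcO hcQ
      obtain ⟨e⟩ := nonempty_push_structure_iso_quotMod i
      have hsum : ∀ n, compSum k r L d ((Scheme.Modules.pushforward i).obj I) n =
          chiF k r L ((Scheme.Modules.pushforward i).obj (Coh.structureModule Z)) n := by
        intro n
        unfold compSum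
        rw [finsum_eq_single _ ξ₀ (fun ξ hne => ?_)]
        · unfold compTerm
          rw [if_pos h0, hlen, ENat.toNat_one, Nat.cast_one, one_mul]
          exact (chiF_iso k r L e n).symm
        · unfold compTerm
          by_cases hξ : IsDPt d ξ
          · rw [if_pos hξ, key ξ hξ hne]; simp
          · rw [if_neg hξ]
      refine ((isNumPolyLT_zero r d).sub hpQ).congr fun n => ?_
      have h1 := hadd n
      change chiF k r L ((Scheme.Modules.pushforward i).obj (Coh.structureModule Z)) n =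
        chiF k r L ((Scheme.Modules.pushforward i).obj I) n +
          chiF k r L (cokernel ((Scheme.Modules.pushforward i).map ι)) n at h1
      rw [hsum n, h1]
      ring
  · have hdim' : topologicalKrullDim ↥(Set.range i) < (d : WithBot ℕ∞) := by
      refine lt_of_le_of_ne (withBot_le_of_lt_succ hdim) fun heq => h0 ?_
      unfold IsDPt
      rw [hξ₀, closure_singleton_generic i]
      exact heq
    exact good_of_smallSupp k r L hL d _ hcI (smallSupp_push i I d hdim')

/-- **Snapper's theorem with components**. -/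
theorem snapper_comp (r : ℕ) (L : Fin r → X.Modules) (hL : ∀ j, PicF.IsInvertible (L j)) (d : ℕ)
    (M : X.Modules) (hM : Coh.IsCoh M) (hs : SmallSupp M (d + 1)) : Good k r L d M := by
  have hXN : IsNoetherian X := isNoetherian_of_isProper k
  refine devissage_ideal (fun M => SmallSupp M (d + 1) → Good k r L d M) ?_ ?_ ?_ ?_ M hM hs
  · rintro M N ⟨e⟩ hP hs
    exact good_iso k r L d e (hP (hs.of_iso e.symm))
  · intro M hM0 _
    exact good_of_isZero k r L d hM0
  · intro S hS h1 h2 h3 hP1 hP3 hs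
    have := hS.mono_f
    have := hS.epi_g
    exact good_ses k r L hL d S hS h1 h2 h3 (hP1 (hs.of_mono S.f)) (hP3 (hs.of_epi S.g))
  · intro Z i _ _ I ι _ hIq hI0 hs
    exact good_push_ideal k r L hL d i I ι hIq hI0 hs

end main

end Groth.Agent.R2.H62.Snapper
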