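import Mathlib
import Groth.Agent.R2.H62SnapComp
import Groth.Agent.R2.H62AltSum
import Groth.Agent.R2.H62SnapCoeff

/-!
# Consumer lemmas for Snapper's theorem with components (helper62, PROJ:snapper)
-/

set_option autoImplicit false
universe u
open CategoryTheory CategoryTheory.Limits AlgebraicGeometry TopologicalSpace Opposite

namespace Groth.Agent.R2.H62.Snapper

theorem altI_sum_mul {r : ℕ} {ι : Type*} (s : Finset ι) (c : ι → ℤ) (f : ι → (Fin r → ℕ) → ℤ) :
    altI r (fun n => ∑ ξ ∈ s, c ξ * f ξ n) = ∑ ξ ∈ s, c ξ * altI r (f ξ) := by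
  unfold altI
  simp only [Finset.mul_sum]
  rw [Finset.sum_comm]
  refine Finset.sum_congr rfl fun ξ _ => Finset.sum_congr rfl fun I _ => ?_
  ring

theorem coeff_ones_eq_zero_of_degLT {d : ℕ} (R : MvPolynomial (Fin d) ℚ) (hR : DegLT R d) :
    MvPolynomial.coeff (Finsupp.equivFunOnFinite.symm fun _ : Fin d => 1) R = 0 := by
  by_contra hne
  have hmem : (Finsupp.equivFunOnFinite.symm fun _ : Fin d => 1) ∈ R.support :=
    MvPolynomial.mem_support_iff.2 hne
  have hlt := hR _ hmem
  rw [Finsupp.sum_fintype _ _ (fun _ => rfl)] at hlt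
  simp at hlt

section main

variable (k : Type u) [Field k] {X : Scheme.{u}} [X.Over (Spec (CommRingCat.of k))]
  [IsProper (X ↘ (Spec (CommRingCat.of k)))]

theorem compSum_eq_sum (r : ℕ) (L : Fin r → X.Modules) (d : ℕ) (M : X.Modules) (n : Fin r → ℕ)
    (T : Finset X) (hT : topPts d M ⊆ ↑T) :
    compSum k r L d M n = ∑ ξ ∈ T, compTerm k r L d M n ξ := by
  unfold compSum
  exact finsum_eq_sum_of_support_subset _ ((support_compTerm_subset k r L d M n).trans hT)

end main

end Groth.Agent.R2.H62.Snapper
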