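import Mathlib
import Groth.Agent.R2.H62SnapComp2
import Groth.Agent.R2.H62IntNum3
import Groth.Agent.R2.H54AmpleA1
import Groth.Agent.Lib.Helper23PB

/-!
# Euler characteristics of twists on a closed subscheme (helper62, PROJ:snapper)

`chiF_push` : for a closed immersion `j : Z ⟶ X`, `χ(X, j_* G ⊗ L^n) = χ(Z, G ⊗ (j^* L)^n)`.
-/

set_option autoImplicit false
universe u
open CategoryTheory CategoryTheory.Limits AlgebraicGeometry TopologicalSpace Opposite

namespace Groth.Agent.R2.H62.Snapper

section iso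

variable {X Z : Scheme.{u}} (j : Z ⟶ X) [IsClosedImmersion j]

/-- iterated projection formula -/
theorem nonempty_push_tensorPows_iso (G : Z.Modules) : ∀ (r : ℕ) (L : Fin r → X.Modules)
    (_ : ∀ i, PicF.IsInvertible (L i)) (n : Fin r → ℕ),
    Nonempty ((Scheme.Modules.pushforward j).obj
        (Curv2.tensorPows G r (fun i => (Scheme.Modules.pullback j).obj (L i)) n) ≅
      Curv2.tensorPows ((Scheme.Modules.pushforward j).obj G) r L n)
  | 0, _, _, _ => ⟨Iso.refl _⟩
  | r + 1, L, hL, n => by
    obtain ⟨e⟩ := nonempty_push_tensorPows_iso G r (fun i => L i.castSucc) (fun i => hL i.castSucc)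
      (fun i => n i.castSucc)
    obtain ⟨Φ⟩ := Groth.Agent.Lib.Helper23.PB.nonempty_pullback_tensorPow_iso j (L (Fin.last r))
      (hL (Fin.last r)) (n (Fin.last r))
    let A : Z.Modules := Curv2.tensorPows G r (fun i => (Scheme.Modules.pullback j).obj (L i.castSucc))
      (fun i => n i.castSucc)
    let H : X.Modules := CohB1.tensorPow (L (Fin.last r)) (n (Fin.last r))
    have e1 : CohB1.tensorMod A (CohB1.tensorPow ((Scheme.Modules.pullback j).obj (L (Fin.last r)))
        (n (Fin.last r))) ≅ CohB1.tensorMod A ((Scheme.Modules.pullback j).obj H) :=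
      tensorIsoLeft A Φ.symm
    have e2 : (Scheme.Modules.pushforward j).obj (CohB1.tensorMod A ((Scheme.Modules.pullback j).obj H)) ≅
        CohB1.tensorMod ((Scheme.Modules.pushforward j).obj A) H :=
      Groth.Agent.R2.H54.AmpleA1.pushTensorPullIso j A H
    have e3 : CohB1.tensorMod ((Scheme.Modules.pushforward j).obj A) H ≅
        CohB1.tensorMod (Curv2.tensorPows ((Scheme.Modules.pushforward j).obj G) r
          (fun i => L i.castSucc) (fun i => n i.castSucc)) H :=
      tensorIsoRight e H
    exact ⟨(Scheme.Modules.pushforward j).mapIso e1 ≪≫ e2 ≪≫ e3⟩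

end iso

section main

variable (k : Type u) [Field k] {X : Scheme.{u}} [X.Over (Spec (CommRingCat.of k))]
  [IsProper (X ↘ (Spec (CommRingCat.of k)))]

theorem chiF_push {Z : Scheme.{u}} (j : Z ⟶ X) [IsClosedImmersion j] (r : ℕ) (L : Fin r → X.Modules)
    (hL : ∀ i, PicF.IsInvertible (L i)) (G : Z.Modules) (hG : Coh.IsCoh G) (n : Fin r → ℕ) :
    chiF k r L ((Scheme.Modules.pushforward j).obj G) n =
      @Curv2.euler k _ Z ⟨j ≫ (X ↘ (Spec (CommRingCat.of k)))⟩
        (Curv2.tensorPows G r (fun i => (Scheme.Modules.pullback j).obj (L i)) n) := by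
  obtain ⟨e⟩ := nonempty_push_tensorPows_iso j G r L hL n
  have hL' : ∀ i, PicF.IsInvertible ((Scheme.Modules.pullback j).obj (L i)) := fun i =>
    Groth.Agent.Lib.Helper23.PB.isInvertible_pullback j (L i) (hL i)
  have hcoh : Coh.IsCoh (Curv2.tensorPows G r (fun i => (Scheme.Modules.pullback j).obj (L i)) n) := by
    rw [← twF_obj]
    exact isCoh_twF r _ n hL' G hG
  rw [← euler_push k j _ hcoh.1]
  unfold chiF
  rw [twF_obj]
  exact (euler_congr k e).symm

end main

end Groth.Agent.R2.H62.Snapper
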