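import Mathlib
import Groth.Agent.R2.H37StabPosSpec
import Groth.Agent.R2.H54AmpleFinal
import Groth.Agent.R2.H79TwistCalc
import Groth.Agent.S0002
import Groth.Agent.S2325
import Groth.Agent.Lib.Helper23RestrTensor
import Groth.Agent.Lib.Helper23Restr2
import Groth.Agent.Lib.Helper23ModLocal
import Groth.Agent.Lib.Helper23AmpleIso
import Groth.Agent.Lib.Helper23SecTw6
import Groth.Agent.Lib.Helper23GG
import Groth.Agent.Lib.Helper27PnSections
import Groth.Agent.Lib.Helper21UnitHom

/-!
# [POS-NONNEG] for PROJ:shstab (helper74): Hilbert polynomials are eventually nonnegative / positive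

`posStmt : Groth.Agent.R2.H37.StabPosSpec.PosStmt` — for `X` proper over a field `k`, `L` ample and `F` coherent
with Hilbert polynomial `P`: `P(m) ≥ 0` for `m ≫ 0`, and `P(m) > 0` for `m ≫ 0` when `F ≠ 0`.
Route: Serre vanishing (`H54AmpleFinal.ampleVanishing`) gives `χ(F(m)) = h⁰(F(m))` for `m ≫ 0`; global generation
(`S2325`) + `F(m) ≠ 0` (twisting by an invertible module reflects zero objects) gives `H⁰(F(m)) ≠ 0`, which is finite
dimensional by `S0002`.
-/

set_option autoImplicit false
set_option linter.style.haveILetI false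

universe u

open CategoryTheory CategoryTheory.Limits AlgebraicGeometry Polynomial TopologicalSpace Opposite

namespace Groth.Agent.R2.H74.StabPosA

variable {X : Scheme.{u}}

/-- twisting by an invertible module reflects zero objects -/
theorem isZero_of_isZero_twist (F L : X.Modules) (hL : PicF.IsInvertible L) (n : ℕ)
    (h : IsZero (CohB1.tensorMod F (CohB1.tensorPow L n))) : IsZero F := by
  choose U hxU hU using hL
  refine Groth.Agent.Lib.Helper23.ModLocal.isZero_of_isZero_restrict
    (fun x : X => ((U x : X.Opens) : Scheme.{u})) (fun x => (U x).ι)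
    (fun x => ⟨x, ⟨x, hxU x⟩, rfl⟩) (fun x => ?_)
  obtain ⟨e⟩ := hU x
  have hL' : PicF.IsInvertible L := fun y => ⟨U y, hxU y, hU y⟩
  obtain ⟨Θ⟩ := Groth.Agent.Lib.Helper23.RestrTensor.nonempty_restrict_twist_iso F L hL' (U x) n
  have h1 : IsZero ((CohB1.tensorMod F (CohB1.tensorPow L n)).restrict (U x).ι) :=
    (Scheme.Modules.restrictFunctor (U x).ι).map_isZero h
  have e2 : CohB1.tensorMod (F.restrict (U x).ι) (CohB1.tensorPow (L.restrict (U x).ι) n) ≅
      F.restrict (U x).ι :=
    Groth.Agent.Lib.Helper23.AmpleIso.tensorModIso (Iso.refl _)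
      (Groth.Agent.Lib.Helper23.AmpleIso.tensorPowIso e n ≪≫
        Groth.Agent.Lib.Helper23.TensorUnit.tensorPowUnitIso n) ≪≫
      Groth.Agent.Lib.Helper23.TensorUnit.tensorUnitIso _
  exact (h1.of_iso Θ.symm).of_iso e2.symm

theorem isZero_of_epi_of_hom_subsingleton {C : Type*} [Category C] [HasZeroMorphisms C] {A M : C}
    (p : A ⟶ M) (hp : Epi p) (h : ∀ f g : A ⟶ M, f = g) : IsZero M :=
  IsZero.of_epi_eq_zero p (h p 0)

theorem unit_hom_ext_of_subsingleton {D : Type u} [Category.{u} D] {K : GrothendieckTopology D}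
    {R : Sheaf K RingCat.{u}} {T : D} (hT : IsTerminal T) (M : SheafOfModules.{u} R)
    (h : Subsingleton (M.val.obj (op T))) (f g : SheafOfModules.unit R ⟶ M) : f = g :=
  (Groth.Agent.Lib.Helper21.UnitHom.unitHomAddEquiv hT M).injective (Subsingleton.elim _ _)

/-- a nonzero globally generated module has a nonzero global section -/
theorem nontrivial_HH0_of_globallyGenerated (M : X.Modules) (hgg : Curv2.IsGloballyGenerated M)
    (h0 : ¬ IsZero M) : Nontrivial (Coh.HH X M 0) := by
  by_contra hnt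
  rw [not_nontrivial_iff_subsingleton] at hnt
  obtain ⟨ι, p, hp⟩ := hgg
  apply h0
  have hΓ : Subsingleton ((Coh.toAb M).obj.obj (op (⊤ : Opens X))) :=
    (Groth.Agent.Lib.Helper27PnSections.hh0Equiv X M).symm.toEquiv.subsingleton
  have hΓ' : Subsingleton (M.val.obj (op (⊤ : Opens X))) := hΓ
  refine isZero_of_epi_of_hom_subsingleton (A := (SheafOfModules.free ι : X.Modules)) p hp
    (fun f g => ?_)
  refine Groth.Agent.Lib.Helper23.GG.free_hom_ext f g (fun a => ?_)
  exact unit_hom_ext_of_subsingleton (R := X.ringCatSheaf) (T := (⊤ : Opens X)) Limits.isTerminalTop M hΓ' _ _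

/-- if the higher cohomology vanishes, the Euler characteristic is `h⁰` (as in helper62's `H62AsympRR`) -/
theorem euler_eq_finrank_zero (k : Type u) [Field k] {X : Scheme.{u}} [X.Over (Spec (CommRingCat.of k))]
    (M : X.Modules) (h : ∀ p : ℕ, 0 < p → Subsingleton (Coh.HH X M p)) :
    Curv2.euler k X M = (Module.finrank k (Coh.HH X M 0) : ℤ) := by
  unfold Curv2.euler
  rw [finsum_eq_single _ 0 (fun p hp => ?_)]
  · simp
  · have := h p (Nat.pos_of_ne_zero hp)
    rw [Module.finrank_zero_of_subsingleton]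
    simp

/-- **[POS-NONNEG]** -/
theorem posStmt : Groth.Agent.R2.H37.StabPosSpec.PosStmt.{u} := by
  intro k _ X _ _ L hL F hF P hP
  obtain ⟨n₀, hn₀⟩ := Groth.Agent.R2.H54.AmpleFinal.ampleVanishing k X
    (X ↘ Spec (CommRingCat.of k)) L hL F hF
  have heul : ∀ m : ℕ, n₀ ≤ m → P.eval (m : ℚ) =
      (Module.finrank k (Coh.HH X (CohB1.tensorMod F (CohB1.tensorPow L m)) 0) : ℚ) := by
    intro m hm
    rw [← hP m]
    have := euler_eq_finrank_zero k
      (CohB1.tensorMod F (CohB1.tensorPow L m)) (hn₀ m hm)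
    change ((Curv2.euler k X (CohB1.tensorMod F (CohB1.tensorPow L m)) : ℤ) : ℚ) = _
    rw [this]
    push_cast
    rfl
  refine ⟨⟨n₀, fun m hm => ?_⟩, fun h0 => ?_⟩
  · rw [Polynomial.eval_zero, heul m hm]
    exact Nat.cast_nonneg _
  · haveI : CompactSpace X := hL.2.1
    haveI : X.IsSeparated := Groth.Agent.Lib.Helper23.SecTw.isSeparated_of_isAmple L hL
    obtain ⟨n₁, hn₁⟩ := Groth.Agent.S2325.result X L hL F hF
    refine ⟨max n₀ n₁, fun m hm => ?_⟩
    rw [Polynomial.eval_zero, heul m (le_of_max_le_left hm)]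
    have hM0 : ¬ IsZero (CohB1.tensorMod F (CohB1.tensorPow L m)) :=
      fun hz => h0 (isZero_of_isZero_twist F L hL.1 m hz)
    haveI := nontrivial_HH0_of_globallyGenerated _ (hn₁ m (le_of_max_le_right hm)) hM0
    haveI : Module.Finite k (Coh.HH X (CohB1.tensorMod F (CohB1.tensorPow L m)) 0) :=
      Groth.Agent.S0002.result k X _
        (Groth.Agent.R2.H79.TwistCalc.isCoh_tensorMod F _ hF
          (Groth.Agent.Lib.Helper23.SecTw.isInvertible_tensorPow hL.1 m)) 0
    exact_mod_cast (Module.finrank_pos (R := k)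
      (M := Coh.HH X (CohB1.tensorMod F (CohB1.tensorPow L m)) 0))

end Groth.Agent.R2.H74.StabPosA
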