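import Mathlib
import Groth.Agent.R2.H37Chr
import Groth.Agent.R2.H37Grouplike
import Groth.Agent.R2.H37RigidMain

/-!
# Lifting inclusions of subgroups of multiplicative type modulo nilpotents: local theory (helper37)

`evalRing`: the ring map `C[M] → Γ(T)` attached to a point `h` of `H` (locally `D(M)`) over
`T ⟶ Spec C`.  `aPt`: the homomorphism `H → H'` (on points over `Spec C`-schemes) attached to a
multiplicative family `Z : M' → C[M]` of grouplike elements.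
-/

set_option autoImplicit false
universe u

open CategoryTheory MonoidalCategory CartesianMonoidalCategory MonObj GrpObj AlgebraicGeometry
open CategoryTheory.Limits
open Groth.Agent.Lib.Helper27.GaGm

namespace Groth.Agent.R2.H37.SubLift

open Groth.Agent.R2.H37.DiagPoints Groth.Agent.R2.H37.Chr Groth.Agent.R2.H37.GL

section Eval

variable {S U : Scheme.{u}} {H : Over S} [GrpObj H] {M : Type} [AddCommGroup M] (hU : U ⟶ S)
  (φ : Grp.mk (Red.bc hU H) ≅ Grp.mk (Red.DS U M))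
  {C : Type u} [CommRing C] (t : Spec (CommRingCat.of C) ⟶ U)
  (f : Spec (CommRingCat.of C) ⟶ S) (hf : t ≫ hU = f)

include hf in
lemma hτU (T : Over S) (τ : T ⟶ Over.mk f) : (τ.left ≫ t) ≫ hU = T.hom := by
  rw [Category.assoc, hf]
  exact Over.w τ

/-- the underlying morphism `T ⟶ Spec C` with a clean type -/
noncomputable def tauL (T : Over S) (τ : T ⟶ Over.mk f) : T.left ⟶ Spec (CommRingCat.of C) := τ.left

/-- the character of a point of `H` over `T ⟶ Spec C`, as a monoid homomorphism. -/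
noncomputable def chrHom (T : Over S) (τ : T ⟶ Over.mk f) (h : T ⟶ H) :
    Multiplicative M →* Γ(T.left, ⊤) where
  toFun n := chrFn hU φ T (τ.left ≫ t) (hτU hU t f hf T τ) h (Multiplicative.toAdd n)
  map_one' := chrFn_zero hU φ T _ _ h
  map_mul' _ _ := chrFn_add hU φ T _ _ h _ _

lemma chrHom_apply (T : Over S) (τ : T ⟶ Over.mk f) (h : T ⟶ H) (n : Multiplicative M) :
    chrHom hU φ t f hf T τ h n =
      chrFn hU φ T (τ.left ≫ t) (hτU hU t f hf T τ) h (Multiplicative.toAdd n) := rfl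

/-- evaluation at a point: the ring map `C[M] → Γ(T)`. -/
noncomputable def evalRing (T : Over S) (τ : T ⟶ Over.mk f) (h : T ⟶ H) :
    MonoidAlgebra C (Multiplicative M) →+* Γ(T.left, ⊤) :=
  MonoidAlgebra.liftNCRingHom (fnHom (tauL f T τ)) (chrHom hU φ t f hf T τ h)
    (fun _ _ => Commute.all _ _)

lemma evalRing_single (T : Over S) (τ : T ⟶ Over.mk f) (h : T ⟶ H) (n : Multiplicative M) (c : C) :
    evalRing hU φ t f hf T τ h (MonoidAlgebra.single n c) =
      fnHom (tauL f T τ) c * chrHom hU φ t f hf T τ h n := by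
  unfold evalRing
  rw [MonoidAlgebra.liftNCRingHom_single]

lemma chrHom_comp {T T' : Over S} (p : T' ⟶ T) (τ : T ⟶ Over.mk f) (h : T ⟶ H)
    (n : Multiplicative M) :
    chrHom hU φ t f hf T' (p ≫ τ) (p ≫ h) n = p.left.appTop (chrHom hU φ t f hf T τ h n) := by
  rw [chrHom_apply, chrHom_apply]
  exact chrFn_comp hU φ p _ _ _ _ (by rw [Over.comp_left, Category.assoc]) h _

lemma evalRing_comp {T T' : Over S} (p : T' ⟶ T) (τ : T ⟶ Over.mk f) (h : T ⟶ H)
    (z : MonoidAlgebra C (Multiplicative M)) :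
    evalRing hU φ t f hf T' (p ≫ τ) (p ≫ h) z = p.left.appTop (evalRing hU φ t f hf T τ h z) := by
  have : evalRing hU φ t f hf T' (p ≫ τ) (p ≫ h) =
      (p.left.appTop.hom).comp (evalRing hU φ t f hf T τ h) := by
    apply MonoidAlgebra.ringHom_ext
    · intro r
      rw [RingHom.comp_apply, evalRing_single, evalRing_single, map_one, map_one,
        _root_.mul_one, _root_.mul_one]
      have e : tauL f T' (p ≫ τ) = p.left ≫ tauL f T τ := rfl
      rw [e, ← fn_eq, fn_comp]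
      rfl
    · intro m
      rw [RingHom.comp_apply, evalRing_single, evalRing_single, map_one, map_one,
        _root_.one_mul, _root_.one_mul, chrHom_comp]
  rw [this]
  rfl

lemma chrHom_mul (T : Over S) (τ : T ⟶ Over.mk f) (h₁ h₂ : T ⟶ H) (n : Multiplicative M) :
    chrHom hU φ t f hf T τ (h₁ * h₂) n =
      chrHom hU φ t f hf T τ h₁ n * chrHom hU φ t f hf T τ h₂ n := by
  rw [chrHom_apply, chrHom_apply, chrHom_apply]
  exact chrFn_mul hU φ T _ _ h₁ h₂ _

/-- evaluation of a grouplike element is multiplicative in the point. -/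
lemma evalRing_mul (T : Over S) (τ : T ⟶ Over.mk f) (h₁ h₂ : T ⟶ H)
    {z : MonoidAlgebra C (Multiplicative M)} (hz : IsGL z) :
    evalRing hU φ t f hf T τ (h₁ * h₂) z =
      evalRing hU φ t f hf T τ h₁ z * evalRing hU φ t f hf T τ h₂ z := by
  let E : MonoidAlgebra C (Multiplicative M × Multiplicative M) →+* Γ(T.left, ⊤) :=
    MonoidAlgebra.liftNCRingHom (fnHom (tauL f T τ))
      (((chrHom hU φ t f hf T τ h₁).comp (MonoidHom.fst _ _)) *
        ((chrHom hU φ t f hf T τ h₂).comp (MonoidHom.snd _ _)))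
      (fun _ _ => Commute.all _ _)
  have hE : ∀ (a b : Multiplicative M) (c : C), E (MonoidAlgebra.single (a, b) c) =
      fnHom (tauL f T τ) c * (chrHom hU φ t f hf T τ h₁ a * chrHom hU φ t f hf T τ h₂ b) :=
    fun a b c => MonoidAlgebra.liftNCRingHom_single _ _ _ _ _
  have e0 : E.comp dl = evalRing hU φ t f hf T τ (h₁ * h₂) := by
    apply MonoidAlgebra.ringHom_ext
    · intro r
      rw [RingHom.comp_apply, evalRing_single]
      change E (MonoidAlgebra.mapDomain _ _) = _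
      rw [MonoidAlgebra.mapDomain_single]
      change E (MonoidAlgebra.single (1, 1) r) = _
      rw [hE]
      simp only [map_one, _root_.mul_one]
    · intro m
      rw [RingHom.comp_apply, evalRing_single]
      change E (MonoidAlgebra.mapDomain _ _) = _
      rw [MonoidAlgebra.mapDomain_single]
      change E (MonoidAlgebra.single (m, m) 1) = _
      rw [hE, chrHom_mul]
  have e1 : E.comp i1 = evalRing hU φ t f hf T τ h₁ := by
    apply MonoidAlgebra.ringHom_ext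
    · intro r
      rw [RingHom.comp_apply, evalRing_single]
      change E (MonoidAlgebra.mapDomain _ _) = _
      rw [MonoidAlgebra.mapDomain_single]
      change E (MonoidAlgebra.single (1, 1) r) = _
      rw [hE]
      simp only [map_one, _root_.mul_one]
    · intro m
      rw [RingHom.comp_apply, evalRing_single]
      change E (MonoidAlgebra.mapDomain _ _) = _
      rw [MonoidAlgebra.mapDomain_single]
      change E (MonoidAlgebra.single (m, 1) 1) = _
      rw [hE]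
      simp only [map_one, _root_.mul_one]
  have e2 : E.comp i2 = evalRing hU φ t f hf T τ h₂ := by
    apply MonoidAlgebra.ringHom_ext
    · intro r
      rw [RingHom.comp_apply, evalRing_single]
      change E (MonoidAlgebra.mapDomain _ _) = _
      rw [MonoidAlgebra.mapDomain_single]
      change E (MonoidAlgebra.single (1, 1) r) = _
      rw [hE]
      simp only [map_one, _root_.mul_one]
    · intro m
      rw [RingHom.comp_apply, evalRing_single]
      change E (MonoidAlgebra.mapDomain _ _) = _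
      rw [MonoidAlgebra.mapDomain_single]
      change E (MonoidAlgebra.single (1, m) 1) = _
      rw [hE]
      simp only [map_one, _root_.one_mul]
  rw [← e0, ← e1, ← e2, RingHom.comp_apply, RingHom.comp_apply, RingHom.comp_apply, hz.1, map_mul]

end Eval

section APt

variable {S U U' : Scheme.{u}} {H H' : Over S} [GrpObj H] [GrpObj H'] {M M' : Type} [AddCommGroup M]
  [AddCommGroup M'] (hU : U ⟶ S) (φ : Grp.mk (Red.bc hU H) ≅ Grp.mk (Red.DS U M))
  (hU' : U' ⟶ S) (φ' : Grp.mk (Red.bc hU' H') ≅ Grp.mk (Red.DS U' M'))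
  {C : Type u} [CommRing C] (t : Spec (CommRingCat.of C) ⟶ U) (t' : Spec (CommRingCat.of C) ⟶ U')
  (f : Spec (CommRingCat.of C) ⟶ S) (hf : t ≫ hU = f) (hf' : t' ≫ hU' = f)
  (Z : Multiplicative M' →* MonoidAlgebra C (Multiplicative M))

lemma exists_aPt (T : Over S) (τ : T ⟶ Over.mk f) (h : T ⟶ H) :
    ∃ h' : T ⟶ H', ∀ n : Multiplicative M', chrHom hU' φ' t' f hf' T τ h' n =
      evalRing hU φ t f hf T τ h (Z n) := by
  obtain ⟨h', hh'⟩ := chrFn_exists hU' φ' T (τ.left ≫ t') (hτU hU' t' f hf' T τ)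
    ((evalRing hU φ t f hf T τ h : _ →* _).comp Z)
  exact ⟨h', fun n => hh' (Multiplicative.toAdd n)⟩

/-- the image under the homomorphism attached to `Z` of a point `h` of `H`. -/
noncomputable def aPt (T : Over S) (τ : T ⟶ Over.mk f) (h : T ⟶ H) : T ⟶ H' :=
  (exists_aPt hU φ hU' φ' t t' f hf hf' Z T τ h).choose

lemma chrHom_aPt (T : Over S) (τ : T ⟶ Over.mk f) (h : T ⟶ H) (n : Multiplicative M') :
    chrHom hU' φ' t' f hf' T τ (aPt hU φ hU' φ' t t' f hf hf' Z T τ h) n =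
      evalRing hU φ t f hf T τ h (Z n) :=
  (exists_aPt hU φ hU' φ' t t' f hf hf' Z T τ h).choose_spec n

lemma chrHom_ext (T : Over S) (τ : T ⟶ Over.mk f) (h₁ h₂ : T ⟶ H)
    (hh : ∀ n, chrHom hU φ t f hf T τ h₁ n = chrHom hU φ t f hf T τ h₂ n) : h₁ = h₂ :=
  chrFn_ext hU φ T _ (hτU hU t f hf T τ) h₁ h₂ (fun m => hh (Multiplicative.ofAdd m))

lemma aPt_comp {T T' : Over S} (p : T' ⟶ T) (τ : T ⟶ Over.mk f) (h : T ⟶ H) :
    aPt hU φ hU' φ' t t' f hf hf' Z T' (p ≫ τ) (p ≫ h) =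
      p ≫ aPt hU φ hU' φ' t t' f hf hf' Z T τ h := by
  apply chrHom_ext hU' φ' t' f hf' T' (p ≫ τ)
  intro n
  rw [chrHom_aPt, chrHom_comp, chrHom_aPt, evalRing_comp]

lemma aPt_mul (hZ : ∀ n, IsGL (Z n)) (T : Over S) (τ : T ⟶ Over.mk f) (h₁ h₂ : T ⟶ H) :
    aPt hU φ hU' φ' t t' f hf hf' Z T τ (h₁ * h₂) =
      aPt hU φ hU' φ' t t' f hf hf' Z T τ h₁ * aPt hU φ hU' φ' t t' f hf hf' Z T τ h₂ := by
  apply chrHom_ext hU' φ' t' f hf' T τ
  intro n
  rw [chrHom_aPt, chrHom_mul, chrHom_aPt, chrHom_aPt, evalRing_mul _ _ _ _ _ _ _ _ _ (hZ n)]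

end APt

section Rigid

variable {S S₀ : Scheme.{u}} (i₀ : S₀ ⟶ S) [IsClosedImmersion i₀]
  (hnil : ∀ x : S, ∃ U : S.affineOpens, x ∈ (U : S.Opens) ∧ IsNilpotent (i₀.ker.ideal U))
  {G H H' : Over S} [GrpObj G] [GrpObj H] [GrpObj H']
  (hH : TwC.Locally S TwC.Topology.fpqc (fun S' f => ∃ (M : Type) (_ : AddCommGroup M),
      Nonempty (Grp.mk (Red.bc f H) ≅ Grp.mk (Red.DS S' M))))
  (i : H ⟶ G) [IsMonHom i] (i' : H' ⟶ G) [IsMonHom i']
  (hc : ∀ (X : Over S) (g : X ⟶ G) (h : X ⟶ H), g * (h ≫ i) = (h ≫ i) * g)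
  {U U' : Scheme.{u}} {M M' : Type} [AddCommGroup M]
  [AddCommGroup M'] (hU : U ⟶ S) (φ : Grp.mk (Red.bc hU H) ≅ Grp.mk (Red.DS U M))
  (hU' : U' ⟶ S) (φ' : Grp.mk (Red.bc hU' H') ≅ Grp.mk (Red.DS U' M'))
  {C : Type u} [CommRing C] (t : Spec (CommRingCat.of C) ⟶ U) (t' : Spec (CommRingCat.of C) ⟶ U')
  (f : Spec (CommRingCat.of C) ⟶ S) (hf : t ≫ hU = f) (hf' : t' ≫ hU' = f)
  (Z : Multiplicative M' →* MonoidAlgebra C (Multiplicative M)) (hZ : ∀ n, IsGL (Z n))

include hnil hH hc hZ in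
/-- **Rigidity for the homomorphism attached to `Z`**: if `i' ∘ a = i` on points over `S₀`-schemes,
then on all points. -/
theorem aPt_comp_eq
    (h0 : ∀ (Y : Over S) (_ : Y ⟶ Over.mk i₀) (τ : Y ⟶ Over.mk f) (h : Y ⟶ H),
      aPt hU φ hU' φ' t t' f hf hf' Z Y τ h ≫ i' = h ≫ i)
    (T : Over S) (τ : T ⟶ Over.mk f) (h : T ⟶ H) :
    aPt hU φ hU' φ' t t' f hf hf' Z T τ h ≫ i' = h ≫ i := by
  -- the deviation `w(h) = i'(a(h)) i(h)⁻¹`
  let wPt : ∀ (T : Over S) (_ : T ⟶ Over.mk f) (_ : T ⟶ H), (T ⟶ G) := fun T τ h =>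
    (aPt hU φ hU' φ' t t' f hf hf' Z T τ h ≫ i') * (h ≫ i)⁻¹
  have hwcomp : ∀ {T T' : Over S} (p : T' ⟶ T) (τ : T ⟶ Over.mk f) (h : T ⟶ H),
      p ≫ wPt T τ h = wPt T' (p ≫ τ) (p ≫ h) := by
    intro T T' p τ h
    simp only [wPt]
    rw [MonObj.comp_mul, GrpObj.comp_inv, aPt_comp, Category.assoc, Category.assoc]
  have hwmul : ∀ (T : Over S) (τ : T ⟶ Over.mk f) (h₁ h₂ : T ⟶ H),
      wPt T τ (h₁ * h₂) = wPt T τ h₁ * wPt T τ h₂ := by
    intro T τ h₁ h₂
    simp only [wPt]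
    rw [aPt_mul hU φ hU' φ' t t' f hf hf' Z hZ, MonObj.mul_comp, MonObj.mul_comp, _root_.mul_inv_rev]
    have hcen : ∀ g : T ⟶ G, g * (h₁ ≫ i)⁻¹ = (h₁ ≫ i)⁻¹ * g := by
      intro g
      have := hc T g h₁
      calc g * (h₁ ≫ i)⁻¹ = (h₁ ≫ i)⁻¹ * ((h₁ ≫ i) * g) * (h₁ ≫ i)⁻¹ := by group
        _ = (h₁ ≫ i)⁻¹ * (g * (h₁ ≫ i)) * (h₁ ≫ i)⁻¹ := by rw [this]
        _ = (h₁ ≫ i)⁻¹ * g := by group
    calc aPt hU φ hU' φ' t t' f hf hf' Z T τ h₁ ≫ i' * aPt hU φ hU' φ' t t' f hf hf' Z T τ h₂ ≫ i' *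
          ((h₂ ≫ i)⁻¹ * (h₁ ≫ i)⁻¹)
        = aPt hU φ hU' φ' t t' f hf hf' Z T τ h₁ ≫ i' *
          ((aPt hU φ hU' φ' t t' f hf hf' Z T τ h₂ ≫ i' * (h₂ ≫ i)⁻¹) * (h₁ ≫ i)⁻¹) := by group
      _ = aPt hU φ hU' φ' t t' f hf hf' Z T τ h₁ ≫ i' *
          ((h₁ ≫ i)⁻¹ * (aPt hU φ hU' φ' t t' f hf hf' Z T τ h₂ ≫ i' * (h₂ ≫ i)⁻¹)) := by
          rw [hcen]
      _ = _ := by group
  -- the action-like morphism
  let Φ : H ⊗ (G ⊗ Over.mk f) ⟶ G ⊗ Over.mk f :=
    lift (wPt (H ⊗ (G ⊗ Over.mk f)) (snd _ _ ≫ snd _ _) (fst _ _) * (snd _ _ ≫ fst _ _))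
      (snd _ _ ≫ snd _ _)
  have hΦpt : ∀ (T : Over S) (h : T ⟶ H) (x : T ⟶ G ⊗ Over.mk f),
      lift h x ≫ Φ = lift (wPt T (x ≫ snd _ _) h * (x ≫ fst _ _)) (x ≫ snd _ _) := by
    intro T h x
    simp only [Φ]
    rw [comp_lift, MonObj.comp_mul, hwcomp, lift_fst, ← Category.assoc, ← Category.assoc,
      lift_snd]
  have key := Groth.Agent.R2.H37.Rigid.trivial_of_trivial_mod i₀ hnil H (G ⊗ Over.mk f) hH Φ ?_ ?_
  · have := key T h (lift 1 τ)
    rw [hΦpt, lift_fst, lift_snd, _root_.mul_one] at this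
    have h2 := congrArg (fun k => k ≫ fst _ _) this
    simp only [lift_fst] at h2
    exact mul_inv_eq_one.mp h2
  · intro T h₁ h₂ x
    rw [hΦpt, hΦpt, hΦpt, lift_fst, lift_snd, hwmul, _root_.mul_assoc]
  · intro Y p h x
    rw [hΦpt]
    have : wPt Y (x ≫ snd _ _) h = 1 := by
      simp only [wPt]
      rw [h0 Y p, mul_inv_cancel]
    rw [this, _root_.one_mul]
    exact (lift_comp_fst_snd x)

end Rigid

end Groth.Agent.R2.H37.SubLift
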