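import Mathlib
import Groth.Agent.R2.H37SubLift
import Groth.Agent.R2.H37DiagAt

/-!
# Lifting inclusions of subgroups of multiplicative type modulo nilpotents: the local theorem
(helper37)

Universal point of `H` (locally `D(M)`) over `B[M]` for a `C`-algebra `B`, the grouplike elements
`z⁰` attached to a point of `H'` over `B[M]`, and the local lifting theorem `local_lift`.
-/

set_option autoImplicit false
universe u

open CategoryTheory MonoidalCategory CartesianMonoidalCategory MonObj GrpObj AlgebraicGeometry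
open CategoryTheory.Limits
open Groth.Agent.Lib.Helper27.GaGm

namespace Groth.Agent.R2.H37.SubLocal

open Groth.Agent.R2.H37.DiagPoints Groth.Agent.R2.H37.Chr Groth.Agent.R2.H37.GL
  Groth.Agent.R2.H37.SubLift Groth.Agent.R2.H37.DiagAt

section Basic

lemma appTop_eq_fn_ev {S : Scheme.{u}} {B : Type u} [CommRing B]
    (f₁ : Spec (CommRingCat.of B) ⟶ S) {Y : Scheme.{u}} (y : Y ⟶ Spec (CommRingCat.of B))
    (s : Γ((Over.mk f₁).left, ⊤)) : y.appTop s = fn y (ev f₁ s) := by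
  unfold fn ev
  congr 1
  exact (congrArg (fun k => k.hom s) (Scheme.ΓSpecIso (CommRingCat.of B)).hom_inv_id).symm

/-- the ideal of `Spec (R/J) ⟶ Spec R` is nilpotent when `J` is. -/
lemma hnil_spec {R : Type u} [CommRing R] (I : Ideal R) (hI : IsNilpotent I) :
    ∀ x : (Spec (CommRingCat.of R) : Scheme.{u}),
      ∃ U : (Spec (CommRingCat.of R)).affineOpens, x ∈ (U : (Spec (CommRingCat.of R)).Opens) ∧
        IsNilpotent ((Spec.map (CommRingCat.ofHom (Ideal.Quotient.mk I))).ker.ideal U) := by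
  intro x
  refine ⟨⟨⊤, isAffineOpen_top _⟩, trivial, ?_⟩
  rw [Scheme.Hom.ker_apply]
  obtain ⟨n, hn⟩ := hI
  refine ⟨n, ?_⟩
  rw [Ideal.zero_eq_bot, eq_bot_iff]
  have hle : RingHom.ker ((Spec.map (CommRingCat.ofHom (Ideal.Quotient.mk I))).app ⊤).hom ≤
      Ideal.comap (Scheme.ΓSpecIso (CommRingCat.of R)).hom.hom I := by
    intro s hs
    rw [RingHom.mem_ker] at hs
    rw [Ideal.mem_comap]
    have nat := Scheme.ΓSpecIso_naturality (CommRingCat.ofHom (Ideal.Quotient.mk I))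
    have h2 := congrArg (fun k => k.hom s) nat
    simp only [CommRingCat.hom_comp, RingHom.comp_apply, CommRingCat.hom_ofHom] at h2
    have h3 : (Ideal.Quotient.mk I) ((Scheme.ΓSpecIso (CommRingCat.of R)).hom.hom s) = 0 := by
      rw [← h2]
      have : ((Spec.map (CommRingCat.ofHom (Ideal.Quotient.mk I))).appTop).hom s = 0 := hs
      rw [this, map_zero]
    exact Ideal.Quotient.eq_zero_iff_mem.mp h3
  refine (Ideal.pow_right_mono hle n).trans ?_
  refine (Ideal.le_comap_pow _ n).trans ?_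
  rw [hn, Ideal.zero_eq_bot]
  intro s hs
  rw [Ideal.mem_comap, Ideal.mem_bot] at hs
  rw [Ideal.mem_bot]
  have inj : Function.Injective (Scheme.ΓSpecIso (CommRingCat.of R)).hom.hom :=
    (ConcreteCategory.bijective_of_isIso (Scheme.ΓSpecIso (CommRingCat.of R)).hom).1
  exact inj (hs.trans (map_zero _).symm)

end Basic

section Univ

variable {S U : Scheme.{u}} {H : Over S} [GrpObj H] {M : Type} [AddCommGroup M] (hU : U ⟶ S)
  (φ : Grp.mk (Red.bc hU H) ≅ Grp.mk (Red.DS U M))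
  {C : Type u} [CommRing C] (t : Spec (CommRingCat.of C) ⟶ U)
  (f : Spec (CommRingCat.of C) ⟶ S) (hf : t ≫ hU = f)
  {B : Type u} [CommRing B] (θ : C →+* B)

lemma chrHom_comp' {T T' : Over S} (p : T' ⟶ T) (τ : T ⟶ Over.mk f) (τ' : T' ⟶ Over.mk f)
    (hp : p ≫ τ = τ') (h : T ⟶ H) (n : Multiplicative M) :
    chrHom hU φ t f hf T' τ' (p ≫ h) n = p.left.appTop (chrHom hU φ t f hf T τ h n) := by
  subst hp
  exact chrHom_comp hU φ t f hf p τ h n

/-- structure map of `Spec B` -/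
noncomputable abbrev fB : Spec (CommRingCat.of B) ⟶ S := Spec.map (CommRingCat.ofHom θ) ≫ f

/-- `Spec B ⟶ Spec C` over `S` -/
noncomputable def tau0 : Over.mk (fB f θ) ⟶ Over.mk f := specHom f (fB f θ) θ rfl

/-- `Spec B[M] ⟶ Spec C` over `S` -/
noncomputable def tau1 (M : Type) [AddCommGroup M] : Over.mk (f1 (fB f θ) M) ⟶ Over.mk f :=
  specHom f (f1 (fB f θ) M) ((algebraMap B (MonoidAlgebra B (Multiplicative M))).comp θ) (by
    change _ = Spec.map _ ≫ Spec.map _ ≫ f
    rw [CommRingCat.ofHom_comp, Spec.map_comp, Category.assoc])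

/-- `Spec B[M × M] ⟶ Spec C` over `S` -/
noncomputable def tau2 (M : Type) [AddCommGroup M] : Over.mk (f2 (fB f θ) M) ⟶ Over.mk f :=
  specHom f (f2 (fB f θ) M)
    ((algebraMap B (MonoidAlgebra B (Multiplicative M × Multiplicative M))).comp θ) (by
    change _ = Spec.map _ ≫ Spec.map _ ≫ f
    rw [CommRingCat.ofHom_comp, Spec.map_comp, Category.assoc])

/-- `Spec B[M × M] ⟶ Spec B[M]` attached to `δ : M → M × M` -/
noncomputable def sp (δ : Multiplicative M →* Multiplicative M × Multiplicative M) :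
    Over.mk (f2 (fB f θ) M) ⟶ Over.mk (f1 (fB f θ) M) :=
  specHom (f1 (fB f θ) M) (f2 (fB f θ) M) (MonoidAlgebra.mapDomainRingHom B δ)
    (spec_mapDomain_f1 (fB f θ) δ)

lemma sp_tau1 (δ : Multiplicative M →* Multiplicative M × Multiplicative M) :
    sp f θ δ ≫ tau1 f θ M = tau2 f θ M := by
  apply Over.OverMorphism.ext
  change Spec.map _ ≫ Spec.map _ = Spec.map _
  rw [← Spec.map_comp, ← CommRingCat.ofHom_comp, ← RingHom.comp_assoc,
    MonoidAlgebra.mapDomainRingHom_comp_algebraMap]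

lemma aug_comp_algebraMap :
    (aug : MonoidAlgebra B (Multiplicative M) →+* B).comp
      (algebraMap B (MonoidAlgebra B (Multiplicative M))) = RingHom.id B := by
  ext b
  rw [RingHom.comp_apply, MonoidAlgebra.coe_algebraMap]
  simp [aug_single]

/-- the unit section `Spec B ⟶ Spec B[M]` -/
noncomputable def spe (M : Type) [AddCommGroup M] :
    Over.mk (fB f θ) ⟶ Over.mk (f1 (fB f θ) M) :=
  specHom (f1 (fB f θ) M) (fB f θ) (aug : MonoidAlgebra B (Multiplicative M) →+* B)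
    (spec_retract_f1 (fB f θ) (aug : MonoidAlgebra B (Multiplicative M) →+* B)
      (aug_comp_algebraMap (B := B) (M := M)))

lemma spe_tau1 : spe f θ M ≫ tau1 f θ M = tau0 f θ := by
  apply Over.OverMorphism.ext
  change Spec.map _ ≫ Spec.map _ = Spec.map _
  rw [← Spec.map_comp, ← CommRingCat.ofHom_comp, ← RingHom.comp_assoc, aug_comp_algebraMap,
    RingHom.id_comp]

/-- the universal point of `H` over `B[M]`. -/
lemma exists_gu : ∃ gu : Over.mk (f1 (fB f θ) M) ⟶ H, ∀ n : Multiplicative M,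
    ev (f1 (fB f θ) M) (chrHom hU φ t f hf _ (tau1 f θ M) gu n) = MonoidAlgebra.single n 1 := by
  obtain ⟨gu, hgu⟩ := chrFn_exists hU φ (Over.mk (f1 (fB f θ) M)) ((tau1 f θ M).left ≫ t)
    (hτU hU t f hf _ (tau1 f θ M))
    (((Scheme.ΓSpecIso (CommRingCat.of (MonoidAlgebra B (Multiplicative M)))).inv.hom :
      MonoidAlgebra B (Multiplicative M) →+* Γ((Over.mk (f1 (fB f θ) M)).left, ⊤)).toMonoidHom.comp
        (MonoidAlgebra.of B (Multiplicative M)))
  refine ⟨gu, fun n => ?_⟩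
  rw [chrHom_apply, hgu]
  exact ev_inv (f1 (fB f θ) M) _

variable (gu : Over.mk (f1 (fB f θ) M) ⟶ H)
  (hgu : ∀ n : Multiplicative M,
    ev (f1 (fB f θ) M) (chrHom hU φ t f hf _ (tau1 f θ M) gu n) = MonoidAlgebra.single n 1)

include hgu in
lemma ev_chrHom_sp (δ : Multiplicative M →* Multiplicative M × Multiplicative M)
    (n : Multiplicative M) :
    ev (f2 (fB f θ) M) (chrHom hU φ t f hf _ (tau2 f θ M) (sp f θ δ ≫ gu) n) =
      MonoidAlgebra.single (δ n) 1 := by
  rw [chrHom_comp' hU φ t f hf (sp f θ δ) (tau1 f θ M) (tau2 f θ M) (sp_tau1 f θ δ) gu n,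
    ev_comp (f1 (fB f θ) M) (f2 (fB f θ) M) (MonoidAlgebra.mapDomainRingHom B δ) (sp f θ δ)
      (specHom_left _ _ _ _), hgu]
  simp

include hgu in
lemma gu_diag :
    sp f θ (MonoidHom.prod (MonoidHom.id _) (MonoidHom.id _)) ≫ gu =
      (sp f θ (MonoidHom.inl _ _) ≫ gu) * (sp f θ (MonoidHom.inr _ _) ≫ gu) := by
  apply chrHom_ext hU φ t f hf _ (tau2 f θ M)
  intro n
  apply ev_injective (f2 (fB f θ) M)
  rw [chrHom_mul, map_mul, ev_chrHom_sp hU φ t f hf θ gu hgu, ev_chrHom_sp hU φ t f hf θ gu hgu,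
    ev_chrHom_sp hU φ t f hf θ gu hgu, MonoidAlgebra.single_mul_single]
  simp

include hgu in
lemma gu_spe : spe f θ M ≫ gu = 1 := by
  apply chrHom_ext hU φ t f hf _ (tau0 f θ)
  intro n
  apply ev_injective (fB f θ)
  rw [chrHom_comp' hU φ t f hf (spe f θ M) (tau1 f θ M) (tau0 f θ) (spe_tau1 f θ) gu n,
    ev_comp (f1 (fB f θ) M) (fB f θ) (aug : MonoidAlgebra B (Multiplicative M) →+* B) (spe f θ M)
      (specHom_left _ _ _ _), hgu, aug_single, chrHom_apply, chrFn_one, map_one]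

include hgu in
/-- the universal point represents the points of `H` over `B`-schemes. -/
lemma exists_r (Y : Over S) (τ : Y ⟶ Over.mk f) (h : Y ⟶ H) (ρ : B →+* Γ(Y.left, ⊤))
    (hρ : ρ.comp θ = fnHom (tauL f Y τ)) :
    ∃ r : Y ⟶ Over.mk (f1 (fB f θ) M), r ≫ tau1 f θ M = τ ∧ r ≫ gu = h ∧
      ∀ s, r.left.appTop s = MonoidAlgebra.liftNCRingHom ρ (chrHom hU φ t f hf Y τ h)
        (fun _ _ => Commute.all _ _) (ev (f1 (fB f θ) M) s) := by
  obtain ⟨rl, hrl⟩ := fn_surj (MonoidAlgebra.liftNCRingHom ρ (chrHom hU φ t f hf Y τ h)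
        (fun _ _ => Commute.all _ _))
  have key : rl ≫ Spec.map (CommRingCat.ofHom
      ((algebraMap B (MonoidAlgebra B (Multiplicative M))).comp θ)) = tauL f Y τ := by
    apply fn_ext
    intro c
    rw [fn_specMap, hrl, RingHom.comp_apply, MonoidAlgebra.coe_algebraMap]
    simp only [Function.comp_apply, Algebra.algebraMap_self, RingHom.id_apply]
    rw [MonoidAlgebra.liftNCRingHom_single, map_one, _root_.mul_one, fn_eq, ← hρ,
      RingHom.comp_apply]
  have hw : rl ≫ f1 (fB f θ) M = Y.hom := by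
    have e1 : f1 (fB f θ) M = Spec.map (CommRingCat.ofHom
        ((algebraMap B (MonoidAlgebra B (Multiplicative M))).comp θ)) ≫ f := by
      change Spec.map (CommRingCat.ofHom (algebraMap B (MonoidAlgebra B (Multiplicative M)))) ≫
        Spec.map (CommRingCat.ofHom θ) ≫ f = _
      rw [CommRingCat.ofHom_comp θ (algebraMap B (MonoidAlgebra B (Multiplicative M))),
        Spec.map_comp, Category.assoc]
    rw [e1, ← Category.assoc, key]
    exact Over.w τ
  let r : Y ⟶ Over.mk (f1 (fB f θ) M) := Over.homMk rl hw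
  have hrτ : r ≫ tau1 f θ M = τ := by
    apply Over.OverMorphism.ext
    exact key
  have hrs : ∀ s, r.left.appTop s = MonoidAlgebra.liftNCRingHom ρ (chrHom hU φ t f hf Y τ h)
        (fun _ _ => Commute.all _ _) (ev (f1 (fB f θ) M) s) := by
    intro s
    rw [← hrl]
    exact appTop_eq_fn_ev (f1 (fB f θ) M) rl s
  refine ⟨r, hrτ, ?_, hrs⟩
  apply chrHom_ext hU φ t f hf Y τ
  intro n
  rw [chrHom_comp' hU φ t f hf r (tau1 f θ M) τ hrτ gu n, hrs, hgu,
    MonoidAlgebra.liftNCRingHom_single, map_one, _root_.one_mul]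

end Univ

section GL0

variable {S U U' : Scheme.{u}} {G H H' : Over S} [GrpObj G] [GrpObj H] [GrpObj H'] {M M' : Type}
  [AddCommGroup M] [AddCommGroup M'] (hU : U ⟶ S)
  (φ : Grp.mk (Red.bc hU H) ≅ Grp.mk (Red.DS U M))
  (hU' : U' ⟶ S) (φ' : Grp.mk (Red.bc hU' H') ≅ Grp.mk (Red.DS U' M'))
  (i : H ⟶ G) [IsMonHom i] (i' : H' ⟶ G) [IsMonHom i'] [Mono i']
  {C : Type u} [CommRing C] (t : Spec (CommRingCat.of C) ⟶ U) (t' : Spec (CommRingCat.of C) ⟶ U')
  (f : Spec (CommRingCat.of C) ⟶ S) (hf : t ≫ hU = f) (hf' : t' ≫ hU' = f)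
  {B : Type u} [CommRing B] (θ : C →+* B)
  (gu : Over.mk (f1 (fB f θ) M) ⟶ H)
  (hgu : ∀ n : Multiplicative M,
    ev (f1 (fB f θ) M) (chrHom hU φ t f hf _ (tau1 f θ M) gu n) = MonoidAlgebra.single n 1)
  (hu' : Over.mk (f1 (fB f θ) M) ⟶ H') (hhu : hu' ≫ i' = gu ≫ i)

/-- the elements of `B[M]` attached to a point of `H'` over `B[M]`. -/
noncomputable def z0 : Multiplicative M' →* MonoidAlgebra B (Multiplicative M) :=
  ((ev (f1 (fB f θ) M) : _ →+* MonoidAlgebra B (Multiplicative M)) : _ →* _).comp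
    (chrHom hU' φ' t' f hf' _ (tau1 f θ M) hu')

lemma z0_apply (n' : Multiplicative M') :
    z0 hU' φ' t' f hf' θ hu' n' =
      ev (f1 (fB f θ) M) (chrHom hU' φ' t' f hf' _ (tau1 f θ M) hu' n') := rfl

include hgu hhu in
lemma hu_diag :
    sp f θ (MonoidHom.prod (MonoidHom.id _) (MonoidHom.id _)) ≫ hu' =
      (sp f θ (MonoidHom.inl _ _) ≫ hu') * (sp f θ (MonoidHom.inr _ _) ≫ hu') := by
  apply (cancel_mono i').mp
  rw [Category.assoc, hhu, ← Category.assoc, gu_diag hU φ t f hf θ gu hgu, MonObj.mul_comp,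
    MonObj.mul_comp, Category.assoc, Category.assoc, Category.assoc, Category.assoc, hhu]

include hgu hhu in
lemma hu_spe : spe f θ M ≫ hu' = 1 := by
  apply (cancel_mono i').mp
  rw [Category.assoc, hhu, ← Category.assoc, gu_spe hU φ t f hf θ gu hgu, MonObj.one_comp,
    MonObj.one_comp]

lemma ev_chrHom_sp' (δ : Multiplicative M →* Multiplicative M × Multiplicative M)
    (n' : Multiplicative M') :
    ev (f2 (fB f θ) M) (chrHom hU' φ' t' f hf' _ (tau2 f θ M) (sp f θ δ ≫ hu') n') =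
      MonoidAlgebra.mapDomainRingHom B δ (z0 hU' φ' t' f hf' θ hu' n') := by
  rw [chrHom_comp' hU' φ' t' f hf' (sp f θ δ) (tau1 f θ M) (tau2 f θ M) (sp_tau1 f θ δ) hu' n',
    ev_comp (f1 (fB f θ) M) (f2 (fB f θ) M) (MonoidAlgebra.mapDomainRingHom B δ) (sp f θ δ)
      (specHom_left _ _ _ _)]
  rfl

include hgu hhu in
lemma isGL_z0 (n' : Multiplicative M') : IsGL (z0 hU' φ' t' f hf' θ hu' n') := by
  constructor
  · change MonoidAlgebra.mapDomainRingHom B (MonoidHom.prod (MonoidHom.id (Multiplicative M))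
        (MonoidHom.id (Multiplicative M))) _ =
      MonoidAlgebra.mapDomainRingHom B (MonoidHom.inl (Multiplicative M) (Multiplicative M)) _ *
        MonoidAlgebra.mapDomainRingHom B (MonoidHom.inr (Multiplicative M) (Multiplicative M)) _
    rw [← ev_chrHom_sp' hU' φ' t' f hf' θ hu', ← ev_chrHom_sp' hU' φ' t' f hf' θ hu',
      ← ev_chrHom_sp' hU' φ' t' f hf' θ hu', hu_diag hU φ i i' t f hf θ gu hgu hu' hhu,
      chrHom_mul, map_mul]
  · have h1 : ev (fB f θ) (chrHom hU' φ' t' f hf' _ (tau0 f θ) (spe f θ M ≫ hu') n') =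
        aug (z0 hU' φ' t' f hf' θ hu' n') := by
      rw [chrHom_comp' hU' φ' t' f hf' (spe f θ M) (tau1 f θ M) (tau0 f θ) (spe_tau1 f θ) hu' n',
        ev_comp (f1 (fB f θ) M) (fB f θ) (aug : MonoidAlgebra B (Multiplicative M) →+* B)
          (spe f θ M) (specHom_left _ _ _ _)]
      rfl
    rw [← h1, hu_spe hU φ i i' t f hf θ gu hgu hu' hhu, chrHom_apply, chrFn_one, map_one]

include hgu hhu in
/-- if `Z` lifts `z⁰`, the homomorphism attached to `Z` is compatible with the inclusions on all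
points over `B`-schemes. -/
lemma aPt_comp_of_lift (Z : Multiplicative M' →* MonoidAlgebra C (Multiplicative M))
    (hZ0 : ∀ n', MonoidAlgebra.mapRingHom (Multiplicative M) θ (Z n') =
      z0 hU' φ' t' f hf' θ hu' n')
    (Y : Over S) (τ : Y ⟶ Over.mk f) (h : Y ⟶ H) (ρ : B →+* Γ(Y.left, ⊤))
    (hρ : ρ.comp θ = fnHom (tauL f Y τ)) :
    aPt hU φ hU' φ' t t' f hf hf' Z Y τ h ≫ i' = h ≫ i := by
  obtain ⟨r, hrτ, hrh, hrs⟩ := exists_r hU φ t f hf θ gu hgu Y τ h ρ hρ
  have hev : evalRing hU φ t f hf Y τ h =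
      (MonoidAlgebra.liftNCRingHom ρ (chrHom hU φ t f hf Y τ h) (fun _ _ => Commute.all _ _)).comp
        (MonoidAlgebra.mapRingHom (Multiplicative M) θ) := by
    apply MonoidAlgebra.ringHom_ext
    · intro c
      rw [evalRing_single, map_one, _root_.mul_one, RingHom.comp_apply,
        MonoidAlgebra.mapRingHom_single, MonoidAlgebra.liftNCRingHom_single, map_one,
        _root_.mul_one, ← hρ]
      rfl
    · intro n
      rw [evalRing_single, map_one, _root_.one_mul, RingHom.comp_apply,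
        MonoidAlgebra.mapRingHom_single, map_one, MonoidAlgebra.liftNCRingHom_single, map_one,
        _root_.one_mul]
  have e : aPt hU φ hU' φ' t t' f hf hf' Z Y τ h = r ≫ hu' := by
    apply chrHom_ext hU' φ' t' f hf' Y τ
    intro n'
    rw [chrHom_aPt, chrHom_comp' hU' φ' t' f hf' r (tau1 f θ M) τ hrτ hu' n', hrs, ← z0_apply,
      ← hZ0, hev]
    rfl
  rw [e, Category.assoc, hhu, ← Category.assoc, hrh]

end GL0

section Final

variable {R : Type u} [CommRing R] (J : Ideal R) (hJ : IsNilpotent J)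
  {G H H' : Over (Spec (CommRingCat.of R))} [GrpObj G] [GrpObj H] [GrpObj H']
  (hH : TwC.Locally (Spec (CommRingCat.of R)) TwC.Topology.fpqc
    (fun S' f => ∃ (M : Type) (_ : AddCommGroup M),
      Nonempty (Grp.mk (Red.bc f H) ≅ Grp.mk (Red.DS S' M))))
  (i : H ⟶ G) [IsMonHom i] (i' : H' ⟶ G) [IsMonHom i'] [Mono i']
  (hc : ∀ (X : Over (Spec (CommRingCat.of R))) (g : X ⟶ G) (h : X ⟶ H),
    g * (h ≫ i) = (h ≫ i) * g)
  (hP₀ : ∀ (Y : Over (Spec (CommRingCat.of R)))
    (_ : Y ⟶ Over.mk (Spec.map (CommRingCat.ofHom (Ideal.Quotient.mk J)))) (h : Y ⟶ H),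
    ∃ h' : Y ⟶ H', h' ≫ i' = h ≫ i)
  {U U' : Scheme.{u}} {M M' : Type} [AddCommGroup M] [AddCommGroup M']
  (hU : U ⟶ Spec (CommRingCat.of R)) (φ : Grp.mk (Red.bc hU H) ≅ Grp.mk (Red.DS U M))
  (hU' : U' ⟶ Spec (CommRingCat.of R)) (φ' : Grp.mk (Red.bc hU' H') ≅ Grp.mk (Red.DS U' M'))
  {C : Type u} [CommRing C] (t : Spec (CommRingCat.of C) ⟶ U) (t' : Spec (CommRingCat.of C) ⟶ U')
  (f : Spec (CommRingCat.of C) ⟶ Spec (CommRingCat.of R)) (hf : t ≫ hU = f) (hf' : t' ≫ hU' = f)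

include hJ hH hc hP₀ φ φ' hf hf' in
/-- **Local lifting theorem**: over an affine scheme `Spec C` on which both `H` and `H'` become
diagonalisable, every point of `H` is (through the inclusions into `G`) a point of `H'`. -/
theorem local_lift (T : Over (Spec (CommRingCat.of R))) (τ : T ⟶ Over.mk f) (h : T ⟶ H) :
    ∃ h' : T ⟶ H', h' ≫ i' = h ≫ i := by
  obtain ⟨ψ, rfl⟩ : ∃ ψ : R →+* C, f = Spec.map (CommRingCat.ofHom ψ) :=
    ⟨(Spec.preimage f).hom, by simp⟩
  have : IsClosedImmersion (Spec.map (CommRingCat.ofHom (Ideal.Quotient.mk J))) :=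
    IsClosedImmersion.spec_of_surjective _ Ideal.Quotient.mk_surjective
  let JC : Ideal C := Ideal.map ψ J
  let q : C →+* C ⧸ JC := Ideal.Quotient.mk JC
  have hq : Function.Surjective q := Ideal.Quotient.mk_surjective
  have hqnil : ∀ x ∈ RingHom.ker q, IsNilpotent x := by
    intro x hx
    rw [Ideal.mk_ker] at hx
    obtain ⟨k, hk⟩ := hJ
    refine ⟨k, ?_⟩
    have h1 : x ^ k ∈ JC ^ k := Ideal.pow_mem_pow hx k
    have h2 : JC ^ k = ⊥ := by
      change (Ideal.map ψ J) ^ k = ⊥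
      rw [← Ideal.map_pow, hk, Ideal.zero_eq_bot, Ideal.map_bot]
    rw [h2] at h1
    exact h1
  obtain ⟨gu, hgu⟩ := exists_gu hU φ t (Spec.map (CommRingCat.ofHom ψ)) hf q (M := M)
  -- the universal point lives over `S₀`
  have hkill : ∀ a ∈ J, (q.comp ψ) a = 0 := by
    intro a ha
    exact Ideal.Quotient.eq_zero_iff_mem.mpr (Ideal.mem_map_of_mem ψ ha)
  let p₀ : Over.mk (f1 (fB (Spec.map (CommRingCat.ofHom ψ)) q) M) ⟶
      Over.mk (Spec.map (CommRingCat.ofHom (Ideal.Quotient.mk J))) :=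
    Over.homMk (Spec.map (CommRingCat.ofHom
      ((algebraMap (C ⧸ JC) (MonoidAlgebra (C ⧸ JC) (Multiplicative M))).comp
        (Ideal.Quotient.lift J (q.comp ψ) hkill)))) (by
      change Spec.map _ ≫ Spec.map _ =
        Spec.map (CommRingCat.ofHom
          (algebraMap (C ⧸ JC) (MonoidAlgebra (C ⧸ JC) (Multiplicative M)))) ≫
          Spec.map (CommRingCat.ofHom q) ≫ Spec.map (CommRingCat.ofHom ψ)
      rw [← Spec.map_comp, ← Spec.map_comp, ← Spec.map_comp, ← CommRingCat.ofHom_comp,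
        ← CommRingCat.ofHom_comp, ← CommRingCat.ofHom_comp, RingHom.comp_assoc,
        Ideal.Quotient.lift_comp_mk])
  obtain ⟨hu', hhu⟩ := hP₀ _ p₀ gu
  have hz := isGL_z0 hU φ hU' φ' i i' t t' (Spec.map (CommRingCat.ofHom ψ)) hf hf' q gu hgu hu' hhu
  choose Zf hZf using fun n' => GL.exists_lift q hq hqnil (hz n')
  let Z : Multiplicative M' →* MonoidAlgebra C (Multiplicative M) :=
    { toFun := Zf
      map_one' := by
        apply GL.eq_of_map_eq q hqnil (hZf 1).1 IsGL.one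
        rw [(hZf 1).2, map_one, map_one]
      map_mul' := by
        intro a b
        apply GL.eq_of_map_eq q hqnil (hZf (a * b)).1 ((hZf a).1.mul (hZf b).1)
        rw [(hZf (a * b)).2, map_mul, map_mul, (hZf a).2, (hZf b).2] }
  refine ⟨aPt hU φ hU' φ' t t' (Spec.map (CommRingCat.ofHom ψ)) hf hf' Z T τ h, ?_⟩
  refine aPt_comp_eq (Spec.map (CommRingCat.ofHom (Ideal.Quotient.mk J))) (hnil_spec J hJ) hH i i' hc
    hU φ hU' φ' t t' (Spec.map (CommRingCat.ofHom ψ)) hf hf' Z (fun n => (hZf n).1) ?_ T τ h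
  intro Y p τ h
  have hk : ∀ c ∈ JC, fnHom (tauL (Spec.map (CommRingCat.ofHom ψ)) Y τ) c = 0 := by
    have hle : JC ≤ RingHom.ker (fnHom (tauL (Spec.map (CommRingCat.ofHom ψ)) Y τ)) := by
      apply Ideal.map_le_iff_le_comap.mpr
      intro a ha
      rw [Ideal.mem_comap, RingHom.mem_ker, ← fn_eq, ← fn_specMap]
      have e1 : tauL (Spec.map (CommRingCat.ofHom ψ)) Y τ ≫ Spec.map (CommRingCat.ofHom ψ) =
          p.left ≫ Spec.map (CommRingCat.ofHom (Ideal.Quotient.mk J)) :=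
        (Over.w τ).trans (Over.w p).symm
      rw [e1, fn_specMap, Ideal.Quotient.eq_zero_iff_mem.mpr ha, fn_eq, map_zero]
    intro c hc'
    exact hle hc'
  exact aPt_comp_of_lift hU φ hU' φ' i i' t t' (Spec.map (CommRingCat.ofHom ψ)) hf hf' q gu hgu hu'
    hhu Z (fun n' => (hZf n').2) Y τ h
    (Ideal.Quotient.lift JC (fnHom (tauL (Spec.map (CommRingCat.ofHom ψ)) Y τ)) hk)
    (Ideal.Quotient.lift_comp_mk _ _ _)

end Final

end Groth.Agent.R2.H37.SubLocal
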