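import Mathlib
import Groth.Agent.R2.H37SubLocal

/-!
# Lifting inclusions of subgroups of multiplicative type modulo nilpotents: globalisation (helper37)

`exists_hom`: over `S = Spec R` with `J ⊆ R` nilpotent, if `H, H' ⊆ G` are of multiplicative type,
`H` central, and every point of `H` over an `S₀`-scheme is a point of `H'`, then `H ⊆ H'`.
-/

set_option autoImplicit false
universe u

open CategoryTheory MonoidalCategory CartesianMonoidalCategory MonObj GrpObj AlgebraicGeometry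
open CategoryTheory.Limits
open Groth.Agent.Lib.Helper27.GaGm

namespace Groth.Agent.R2.H37.SubGlobal

open Groth.Agent.R2.H37.SubLocal

set_option backward.isDefEq.respectTransparency.types false in
lemma qc_of_compact {X Y : Scheme.{u}} [IsAffine Y] (f : X ⟶ Y) [CompactSpace X] :
    QuasiCompact f := by
  rw [HasAffineProperty.iff_of_isAffine (P := @QuasiCompact)]
  infer_instance

/-- Zariski gluing of factorisations through a monomorphism. -/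
lemma exists_of_local_mono {X Y Z : Scheme.{u}} (m : Y ⟶ Z) [Mono m] (g : X ⟶ Z)
    (hloc : ∀ x : X, ∃ (V : Scheme.{u}) (j : V ⟶ X), IsOpenImmersion j ∧ x ∈ Set.range j.base ∧
      ∃ e : V ⟶ Y, e ≫ m = j ≫ g) :
    ∃ e : X ⟶ Y, e ≫ m = g := by
  have key : ∃ (𝒰 : X.OpenCover) (e : ∀ x, 𝒰.X x ⟶ Y), ∀ x, e x ≫ m = 𝒰.f x ≫ g := by
    choose V j hj hx e he using hloc
    exact ⟨Scheme.Cover.mkOfCovers X V j (fun x => ⟨x, hx x⟩) hj, e, he⟩
  obtain ⟨𝒰, e, he⟩ := key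
  refine ⟨𝒰.glueMorphisms e ?_, ?_⟩
  · intro x y
    apply (cancel_mono m).mp
    rw [Category.assoc, Category.assoc, he, he, ← Category.assoc, ← Category.assoc,
      pullback.condition]
  · apply 𝒰.hom_ext
    intro x
    rw [← Category.assoc, 𝒰.ι_glueMorphisms, he]

lemma adjEquiv_comp_pullback_map {S S₀ : Scheme.{u}} (i₀ : S₀ ⟶ S) {G X : Over S} [GrpObj G]
    [GrpObj X] (f : G ⟶ X) (Y₀ : Over S₀) (y : Y₀ ⟶ Red.bc i₀ G) :
    adjEquiv i₀ X Y₀ (y ≫ (Over.pullback i₀).map f) = adjEquiv i₀ G Y₀ y ≫ f := by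
  unfold adjEquiv
  rw [Adjunction.homEquiv_naturality_right_symm]

/-- points over `S₀`-schemes of two subgroups that coincide over `S₀`. -/
lemma exists_lift_of_pullback_eq {S S₀ : Scheme.{u}} (i₀ : S₀ ⟶ S) {G H H' : Over S} [GrpObj G]
    [GrpObj H] [GrpObj H'] (i : H ⟶ G) (i' : H' ⟶ G) (ψ : Red.bc i₀ H ⟶ Red.bc i₀ H')
    (hψ : ψ ≫ (Over.pullback i₀).map i' = (Over.pullback i₀).map i)
    (Y : Over S) (p : Y ⟶ Over.mk i₀) (h : Y ⟶ H) : ∃ h' : Y ⟶ H', h' ≫ i' = h ≫ i := by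
  let Y₀ : Over S₀ := Over.mk p.left
  have hw : p.left ≫ i₀ = Y.hom := Over.w p
  let h₀ : (Over.map i₀).obj Y₀ ⟶ H := Over.homMk h.left (by
    change h.left ≫ H.hom = p.left ≫ i₀
    rw [Over.w h, hw])
  let x : Y₀ ⟶ Red.bc i₀ H := (adjEquiv i₀ H Y₀).symm h₀
  let h₀' : (Over.map i₀).obj Y₀ ⟶ H' := adjEquiv i₀ H' Y₀ (x ≫ ψ)
  have e1 : h₀' ≫ i' = h₀ ≫ i := by
    calc h₀' ≫ i' = adjEquiv i₀ G Y₀ ((x ≫ ψ) ≫ (Over.pullback i₀).map i') :=
          (adjEquiv_comp_pullback_map i₀ i' Y₀ (x ≫ ψ)).symm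
      _ = adjEquiv i₀ G Y₀ (x ≫ (Over.pullback i₀).map i) := by rw [Category.assoc, hψ]
      _ = adjEquiv i₀ H Y₀ x ≫ i := adjEquiv_comp_pullback_map i₀ i Y₀ x
      _ = h₀ ≫ i := by rw [Equiv.apply_symm_apply]
  refine ⟨Over.homMk h₀'.left (by rw [← hw]; exact Over.w h₀'), ?_⟩
  apply Over.OverMorphism.ext
  exact congrArg (fun k => k.left) e1

/-- **Globalisation**: `H ⊆ H'` as subgroups of `G`. -/
theorem exists_hom {R : Type u} [CommRing R] (J : Ideal R) (hJ : IsNilpotent J)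
    {G H H' : Over (Spec (CommRingCat.of R))} [GrpObj G] [GrpObj H] [GrpObj H']
    (hH : TwC.Locally (Spec (CommRingCat.of R)) TwC.Topology.fpqc
      (fun S' f => ∃ (M : Type) (_ : AddCommGroup M),
        Nonempty (Grp.mk (Red.bc f H) ≅ Grp.mk (Red.DS S' M))))
    (hH' : TwC.Locally (Spec (CommRingCat.of R)) TwC.Topology.fpqc
      (fun S' f => ∃ (M : Type) (_ : AddCommGroup M),
        Nonempty (Grp.mk (Red.bc f H') ≅ Grp.mk (Red.DS S' M))))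
    (i : H ⟶ G) [IsMonHom i] (i' : H' ⟶ G) [IsMonHom i'] [Mono i'.left]
    (hc : ∀ (X : Over (Spec (CommRingCat.of R))) (g : X ⟶ G) (h : X ⟶ H),
      g * (h ≫ i) = (h ≫ i) * g)
    (hP₀ : ∀ (Y : Over (Spec (CommRingCat.of R)))
      (_ : Y ⟶ Over.mk (Spec.map (CommRingCat.ofHom (Ideal.Quotient.mk J)))) (h : Y ⟶ H),
      ∃ h' : Y ⟶ H', h' ≫ i' = h ≫ i) :
    ∃ a : H ⟶ H', a ≫ i' = i := by
  have hmono : Mono i' := Over.mono_of_mono_left i'
  have hH0 := hH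
  obtain ⟨S₁, f₁, hfl₁, hsj₁, hqc₁, hloc₁⟩ := hH
  obtain ⟨S₂, f₂, hfl₂, hsj₂, hqc₂, hloc₂⟩ := hH'
  obtain ⟨W₁, hW₁c, hW₁i⟩ := hqc₁ ⊤ (isAffineOpen_top _)
  obtain ⟨W₂, hW₂c, hW₂i⟩ := hqc₂ ⊤ (isAffineOpen_top _)
  let g₁ : (W₁ : Scheme.{u}) ⟶ Spec (CommRingCat.of R) := W₁.ι ≫ f₁
  let g₂ : (W₂ : Scheme.{u}) ⟶ Spec (CommRingCat.of R) := W₂.ι ≫ f₂
  have hg₁f : Flat g₁ := inferInstance
  have hg₂f : Flat g₂ := inferInstance
  have hg₁s : Surjective g₁ := ⟨fun s => by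
    have hs : s ∈ f₁.base '' (W₁ : Set S₁) := by rw [hW₁i]; trivial
    obtain ⟨w, hw, rfl⟩ := hs
    exact ⟨⟨w, hw⟩, rfl⟩⟩
  have hg₂s : Surjective g₂ := ⟨fun s => by
    have hs : s ∈ f₂.base '' (W₂ : Set S₂) := by rw [hW₂i]; trivial
    obtain ⟨w, hw, rfl⟩ := hs
    exact ⟨⟨w, hw⟩, rfl⟩⟩
  have hW₁cs : CompactSpace (W₁ : Scheme.{u}) := isCompact_iff_compactSpace.mp hW₁c
  have hW₂cs : CompactSpace (W₂ : Scheme.{u}) := isCompact_iff_compactSpace.mp hW₂c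
  have hg₁q : QuasiCompact g₁ := qc_of_compact g₁
  have hg₂q : QuasiCompact g₂ := qc_of_compact g₂
  let pP : pullback g₁ g₂ ⟶ Spec (CommRingCat.of R) := pullback.fst g₁ g₂ ≫ g₁
  have hpf : Flat pP := inferInstance
  have hps : Surjective pP := inferInstance
  have hpq : QuasiCompact pP := inferInstance
  let π : pullback H.hom pP ⟶ H.left := pullback.fst H.hom pP
  have hπ : EffectiveEpi π := inferInstance
  -- local construction
  obtain ⟨e, he⟩ : ∃ e : pullback H.hom pP ⟶ H'.left, e ≫ i'.left = π ≫ i.left := by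
    apply exists_of_local_mono
    intro y
    let p : ↥(pullback g₁ g₂) := (pullback.snd H.hom pP).base y
    obtain ⟨U₁, hs₁, M₁, instM₁, ⟨φ₁⟩⟩ := hloc₁ ((pullback.fst g₁ g₂ ≫ W₁.ι).base p)
    obtain ⟨U₂, hs₂, M₂, instM₂, ⟨φ₂⟩⟩ := hloc₂ ((pullback.snd g₁ g₂ ≫ W₂.ι).base p)
    let O : (pullback g₁ g₂).Opens :=
      (pullback.fst g₁ g₂ ≫ W₁.ι) ⁻¹ᵁ U₁ ⊓ (pullback.snd g₁ g₂ ≫ W₂.ι) ⁻¹ᵁ U₂
    have hpO : p ∈ O := ⟨hs₁, hs₂⟩
    obtain ⟨Rc, k, hk, hpk, hkO⟩ := Scheme.exists_affine_mem_range_and_range_subset hpO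
    have hr₁ : Set.range (k ≫ pullback.fst g₁ g₂ ≫ W₁.ι).base ⊆ Set.range U₁.ι.base := by
      rw [Scheme.Opens.range_ι]
      rintro _ ⟨z, rfl⟩
      exact (hkO ⟨z, rfl⟩).1
    have hr₂ : Set.range (k ≫ pullback.snd g₁ g₂ ≫ W₂.ι).base ⊆ Set.range U₂.ι.base := by
      rw [Scheme.Opens.range_ι]
      rintro _ ⟨z, rfl⟩
      exact (hkO ⟨z, rfl⟩).2
    let t₁ : Spec (CommRingCat.of Rc) ⟶ (U₁ : Scheme.{u}) :=
      IsOpenImmersion.lift U₁.ι (k ≫ pullback.fst g₁ g₂ ≫ W₁.ι) hr₁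
    let t₂ : Spec (CommRingCat.of Rc) ⟶ (U₂ : Scheme.{u}) :=
      IsOpenImmersion.lift U₂.ι (k ≫ pullback.snd g₁ g₂ ≫ W₂.ι) hr₂
    have ht₁ : t₁ ≫ U₁.ι = k ≫ pullback.fst g₁ g₂ ≫ W₁.ι := IsOpenImmersion.lift_fac _ _ _
    have ht₂ : t₂ ≫ U₂.ι = k ≫ pullback.snd g₁ g₂ ≫ W₂.ι := IsOpenImmersion.lift_fac _ _ _
    have hf₁ : t₁ ≫ (U₁.ι ≫ f₁) = k ≫ pP := by
      rw [← Category.assoc, ht₁]
      simp only [pP, g₁, Category.assoc]
    have hf₂ : t₂ ≫ (U₂.ι ≫ f₂) = k ≫ pP := by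
      rw [← Category.assoc, ht₂]
      have := pullback.condition (f := g₁) (g := g₂)
      simp only [pP, Category.assoc]
      rw [this]
    refine ⟨pullback (pullback.snd H.hom pP) k, pullback.fst _ _, inferInstance, ?_, ?_⟩
    · rw [Scheme.Pullback.range_fst]
      exact hpk
    · let T : Over (Spec (CommRingCat.of R)) :=
        Over.mk (pullback.fst (pullback.snd H.hom pP) k ≫ π ≫ H.hom)
      let τ : T ⟶ Over.mk (k ≫ pP) := Over.homMk (pullback.snd (pullback.snd H.hom pP) k) (by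
        change pullback.snd (pullback.snd H.hom pP) k ≫ k ≫ pP =
          pullback.fst (pullback.snd H.hom pP) k ≫ π ≫ H.hom
        rw [← Category.assoc, ← pullback.condition, Category.assoc, ← pullback.condition])
      let h : T ⟶ H := Over.homMk (pullback.fst (pullback.snd H.hom pP) k ≫ π)
        (Category.assoc _ _ _)
      obtain ⟨h', hh'⟩ := local_lift J hJ hH0 i i' hc hP₀ (U₁.ι ≫ f₁) φ₁ (U₂.ι ≫ f₂) φ₂ t₁ t₂
        (k ≫ pP) hf₁ hf₂ T τ h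
      exact ⟨h'.left, congrArg (fun k => k.left) hh'⟩
  -- descent
  have hcompat : ∀ {Z : Scheme.{u}} (a b : Z ⟶ pullback H.hom pP), a ≫ π = b ≫ π →
      a ≫ e = b ≫ e := by
    intro Z a b hab
    apply (cancel_mono i'.left).mp
    rw [Category.assoc, Category.assoc, he, ← Category.assoc, ← Category.assoc, hab]
  let al : H.left ⟶ H'.left := EffectiveEpi.desc π e hcompat
  have hal : π ≫ al = e := EffectiveEpi.fac π e hcompat
  have hal2 : al ≫ i'.left = i.left := by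
    apply (cancel_epi π).mp
    rw [← Category.assoc, hal, he]
  refine ⟨Over.homMk al (by rw [← Over.w i', ← Category.assoc, hal2, Over.w i]), ?_⟩
  apply Over.OverMorphism.ext
  exact hal2

end Groth.Agent.R2.H37.SubGlobal
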