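import Mathlib.CategoryTheory.Abelian.RightDerived
import Mathlib.Algebra.Homology.HomologicalComplex
import Mathlib.CategoryTheory.ObjectProperty.Basic
import Mathlib.Algebra.Homology.QuasiIso
import Mathlib.Algebra.Homology.Augment
import Mathlib.Algebra.Homology.ShortComplex.HomologicalComplex
import Mathlib.CategoryTheory.Abelian.Injective.Resolution

/-!
# helper38: resolutions by an adapted class (for S8626)

Given an acyclic cochain complex `L` (indexed by `ℕ`) in an abelian category and a class `𝒪` of objects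
into which every object embeds, with `𝒪 (L.X 0)`, we construct an acyclic complex `K` with all terms in
`𝒪` and a morphism `φ : L ⟶ K` which is the identity in degree `0`.
-/

set_option autoImplicit false
universe v u
open CategoryTheory CategoryTheory.Limits

namespace Groth.Agent.R2.H38.Adapted

variable {A : Type u} [Category.{v} A] [Abelian A]

section Construction

variable (𝒪 : ObjectProperty A) (h2 : ∀ X : A, ∃ (Y : A) (i : X ⟶ Y), 𝒪 Y ∧ Mono i)
  (L : CochainComplex A ℕ)

/-- a chosen member of `𝒪` containing `X` -/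
noncomputable def emb (X : A) : A := (h2 X).choose

/-- the chosen embedding -/
noncomputable def embι (X : A) : X ⟶ emb 𝒪 h2 X := (h2 X).choose_spec.choose

omit [Abelian A] in
lemma emb_mem (X : A) : 𝒪 (emb 𝒪 h2 X) := (h2 X).choose_spec.choose_spec.1

instance mono_embι (X : A) : Mono (embι 𝒪 h2 X) := (h2 X).choose_spec.choose_spec.2

/-- the data carried along the inductive construction -/
structure Stage (n : ℕ) where
  /-- the term `K^n` -/
  O : A
  hO : 𝒪 O
  /-- the component of the comparison map -/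
  a : L.X n ⟶ O
  /-- the cokernel of the previous differential of `K` -/
  C : A
  /-- the projection to the cokernel -/
  q : O ⟶ C
  /-- the map induced on cokernels -/
  c : L.opcycles n ⟶ C
  comm : a ≫ q = L.pOpcycles n ≫ c

variable {𝒪 L}

/-- the pushout used in the inductive step -/
noncomputable def Stage.Q {n : ℕ} (s : Stage 𝒪 L n) : A :=
  pushout s.c (L.fromOpcycles n (n + 1))

/-- the differential out of a stage -/
noncomputable def Stage.d {n : ℕ} (s : Stage 𝒪 L n) : s.O ⟶ emb 𝒪 h2 s.Q :=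
  s.q ≫ pushout.inl _ _ ≫ embι 𝒪 h2 _

/-- the next component of the comparison map -/
noncomputable def Stage.a' {n : ℕ} (s : Stage 𝒪 L n) : L.X (n + 1) ⟶ emb 𝒪 h2 s.Q :=
  pushout.inr _ _ ≫ embι 𝒪 h2 _

lemma Stage.d_comm {n : ℕ} (s : Stage 𝒪 L n) :
    L.d n (n + 1) ≫ s.a' h2 = s.a ≫ s.d h2 := by
  rw [← L.p_fromOpcycles n (n + 1)]
  simp only [Stage.a', Stage.d, Category.assoc]
  rw [← pushout.condition_assoc, reassoc_of% s.comm]

/-- the inductive step -/
noncomputable def Stage.next {n : ℕ} (s : Stage 𝒪 L n) : Stage 𝒪 L (n + 1) where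
  O := emb 𝒪 h2 s.Q
  hO := emb_mem 𝒪 h2 _
  a := s.a' h2
  C := cokernel (s.d h2)
  q := cokernel.π _
  c := L.descOpcycles (s.a' h2 ≫ cokernel.π (s.d h2)) n (by simp) (by
    rw [reassoc_of% (s.d_comm h2), cokernel.condition, comp_zero])
  comm := by simp

lemma Stage.d_comp_d {n : ℕ} (s : Stage 𝒪 L n) : s.d h2 ≫ (s.next h2).d h2 = 0 := by
  change s.d h2 ≫ cokernel.π (s.d h2) ≫ _ = 0
  rw [cokernel.condition_assoc, zero_comp]

lemma mono_fromOpcycles (hL : L.Acyclic) (n : ℕ) : Mono (L.fromOpcycles n (n + 1)) :=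
  Preadditive.mono_of_isZero_kernel' _ (L.homologyIsKernel n (n + 1) (by simp))
    (hL n).isZero_homology

lemma Stage.mono_inl_embι (hL : L.Acyclic) {n : ℕ} (s : Stage 𝒪 L n) :
    Mono (pushout.inl s.c (L.fromOpcycles n (n + 1)) ≫ embι 𝒪 h2 s.Q) := by
  have h1 : Mono (pushout.inl s.c (L.fromOpcycles n (n + 1))) := by
    have := mono_fromOpcycles hL n
    infer_instance
  have h3 : Mono (embι 𝒪 h2 s.Q) := mono_embι 𝒪 h2 s.Q
  exact @mono_comp _ _ _ _ _ _ h1 _ h3

lemma Stage.exact (hL : L.Acyclic) {n : ℕ} (s : Stage 𝒪 L n) :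
    (ShortComplex.mk (s.d h2) ((s.next h2).d h2) (s.d_comp_d h2)).Exact := by
  have hm := (s.next h2).mono_inl_embι h2 hL
  let S₁ : ShortComplex A := ShortComplex.mk (s.d h2) (cokernel.π (s.d h2)) (cokernel.condition _)
  have h₁ : S₁.Exact := ShortComplex.exact_of_g_is_cokernel _ (cokernelIsCokernel _)
  let φ : S₁ ⟶ ShortComplex.mk (s.d h2) ((s.next h2).d h2) (s.d_comp_d h2) :=
    { τ₁ := 𝟙 _
      τ₂ := 𝟙 _
      τ₃ := pushout.inl _ _ ≫ embι 𝒪 h2 _
      comm₁₂ := by simp [S₁]
      comm₂₃ := by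
        dsimp [S₁]
        rw [Category.id_comp]
        rfl }
  have : Epi φ.τ₁ := by dsimp [φ]; infer_instance
  have : IsIso φ.τ₂ := by dsimp [φ]; infer_instance
  have : Mono φ.τ₃ := hm
  exact (ShortComplex.exact_iff_of_epi_of_isIso_of_mono φ).1 h₁

variable (hO0 : 𝒪 (L.X 0))

/-- the initial stage -/
noncomputable def stage0 : Stage 𝒪 L 0 where
  O := L.X 0
  hO := hO0
  a := 𝟙 _
  C := L.opcycles 0
  q := L.pOpcycles 0
  c := 𝟙 _
  comm := by simp

/-- all stages -/
noncomputable def stage : ∀ n : ℕ, Stage 𝒪 L n :=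
  fun n => Nat.rec (stage0 hO0) (fun _ s => s.next h2) n

lemma stage_succ (n : ℕ) : stage h2 hO0 (n + 1) = (stage h2 hO0 n).next h2 := rfl

/-- the resolution by members of `𝒪` -/
noncomputable def resolution : CochainComplex A ℕ :=
  CochainComplex.of (fun n => (stage h2 hO0 n).O) (fun n => (stage h2 hO0 n).d h2)
    (fun n => (stage h2 hO0 n).d_comp_d h2)

lemma resolution_mem (n : ℕ) : 𝒪 ((resolution h2 hO0).X n) := (stage h2 hO0 n).hO

lemma resolution_d (n : ℕ) :
    (resolution h2 hO0).d n (n + 1) = (stage h2 hO0 n).d h2 := by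
  simp [resolution]

/-- the comparison map -/
noncomputable def toResolution : L ⟶ resolution h2 hO0 where
  f n := (stage h2 hO0 n).a
  comm' i j hij := by
    obtain rfl : i + 1 = j := hij
    rw [resolution_d]
    exact ((stage h2 hO0 i).d_comm h2).symm

lemma toResolution_f_zero : (toResolution h2 hO0).f 0 = 𝟙 (L.X 0) := rfl

lemma resolution_acyclic (hL : L.Acyclic) : (resolution h2 hO0).Acyclic := by
  intro n
  cases n with
  | zero =>
    rw [HomologicalComplex.exactAt_iff' _ 0 0 1 CochainComplex.prev_nat_zero (by simp)]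
    rw [ShortComplex.exact_iff_mono _ ((resolution h2 hO0).shape 0 0 (by simp))]
    change Mono ((resolution h2 hO0).d 0 1)
    rw [resolution_d]
    have h3 := (stage h2 hO0 0).mono_inl_embι h2 hL
    have h1 : Mono (L.pOpcycles 0) := inferInstance
    exact @mono_comp _ _ _ _ _ _ h1 _ h3
  | succ n =>
    rw [HomologicalComplex.exactAt_iff' _ n (n + 1) (n + 2) (by simp) (by simp)]
    have := (stage h2 hO0 n).exact h2 hL
    refine (ShortComplex.exact_iff_of_iso ?_).1 this
    refine ShortComplex.isoMk (Iso.refl _) (Iso.refl _) (Iso.refl _) ?_ ?_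
    · dsimp
      erw [Category.id_comp, Category.comp_id]
      exact resolution_d h2 hO0 n
    · dsimp
      erw [Category.id_comp, Category.comp_id]
      exact resolution_d h2 hO0 (n + 1)

end Construction

section Desc

variable (K : CochainComplex A ℕ) (hK : K.Acyclic) {X : A} (J : InjectiveResolution X)
  (g : K.X 0 ⟶ X)

include hK in
lemma mono_d_zero_one : Mono (K.d 0 1) := by
  have h := hK 0
  rw [HomologicalComplex.exactAt_iff' _ 0 0 1 CochainComplex.prev_nat_zero (by simp),
    ShortComplex.exact_iff_mono _ (K.shape 0 0 (by simp))] at h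
  exact h

include hK in
lemma exact_succ' (n : ℕ) :
    (ShortComplex.mk (K.d n (n + 1)) (K.d (n + 1) (n + 2)) (K.d_comp_d _ _ _)).Exact := by
  have h := hK (n + 1)
  rw [HomologicalComplex.exactAt_iff' _ n (n + 1) (n + 2) (by simp) (by simp)] at h
  exact h

/-- degree zero component -/
noncomputable def descF0 : K.X 1 ⟶ J.cocomplex.X 0 :=
  have := mono_d_zero_one K hK
  Injective.factorThru (g ≫ J.ι.f 0) (K.d 0 1)

lemma d_comp_descF0 : K.d 0 1 ≫ descF0 K hK J g = g ≫ J.ι.f 0 := by
  have := mono_d_zero_one K hK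
  exact Injective.comp_factorThru _ _

/-- degree one component -/
noncomputable def descF1 : K.X 2 ⟶ J.cocomplex.X 1 :=
  (exact_succ' K hK 0).descToInjective (descF0 K hK J g ≫ J.cocomplex.d 0 1) (by
    dsimp
    rw [reassoc_of% (d_comp_descF0 K hK J g)]
    exact (congrArg (fun z => g ≫ z) J.ι_f_zero_comp_complex_d).trans comp_zero)

lemma d_comp_descF1 :
    K.d 1 2 ≫ descF1 K hK J g = descF0 K hK J g ≫ J.cocomplex.d 0 1 :=
  (exact_succ' K hK 0).comp_descToInjective _ _

/-- the morphism from the truncation of an acyclic complex to an injective resolution -/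
noncomputable def descTrunc : CochainComplex.truncate.obj K ⟶ J.cocomplex :=
  CochainComplex.mkHom _ _ (descF0 K hK J g) (descF1 K hK J g) (d_comp_descF1 K hK J g).symm
    (fun n p =>
      ⟨(exact_succ' K hK (n + 1)).descToInjective (p.2.1 ≫ J.cocomplex.d (n + 1) (n + 2)) (by
          have h : p.1 ≫ J.cocomplex.d n (n + 1) = K.d (n + 1) (n + 2) ≫ p.2.1 := p.2.2
          change K.d (n + 1) (n + 2) ≫ p.2.1 ≫ J.cocomplex.d (n + 1) (n + 2) = 0
          exact (Category.assoc _ _ _).symm.trans ((congrArg (fun z => z ≫ J.cocomplex.d (n + 1) (n + 2))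
            h.symm).trans ((Category.assoc _ _ _).trans
              ((congrArg (fun z => p.1 ≫ z) (J.cocomplex.d_comp_d _ _ _)).trans comp_zero)))),
        ((exact_succ' K hK (n + 1)).comp_descToInjective _ _).symm⟩)

lemma d_comp_descTrunc_f_zero :
    K.d 0 1 ≫ (descTrunc K hK J g).f 0 = g ≫ J.ι.f 0 := by
  rw [descTrunc, CochainComplex.mkHom_f_0]
  exact d_comp_descF0 K hK J g

end Desc

section Main

universe v' u'
variable {B : Type u'} [Category.{v'} B] [Abelian B]

/-- the augmented complex of an injective resolution is acyclic -/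
lemma augment_acyclic {X : A} (J : InjectiveResolution X) :
    (CochainComplex.augment J.cocomplex (J.ι.f 0) J.ι_f_zero_comp_complex_d).Acyclic := by
  intro n
  match n with
  | 0 =>
    rw [HomologicalComplex.exactAt_iff' _ 0 0 1 CochainComplex.prev_nat_zero (by simp),
      ShortComplex.exact_iff_mono _
        ((CochainComplex.augment J.cocomplex (J.ι.f 0) J.ι_f_zero_comp_complex_d).shape 0 0
          (by simp))]
    change Mono (J.ι.f 0)
    infer_instance
  | 1 =>
    rw [HomologicalComplex.exactAt_iff' _ 0 1 2 (by simp) (by simp)]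
    exact J.exact₀
  | (n + 2) =>
    rw [HomologicalComplex.exactAt_iff' _ (n + 1) (n + 2) (n + 3) (by simp) (by simp)]
    exact J.exact_succ n

/-- members of an adapted class are acyclic for the right derived functors -/
theorem isZero_rightDerived_of_adapted [EnoughInjectives A] (f : A ⥤ B) [f.Additive]
    (𝒪 : ObjectProperty A)
    (h1 : ∀ K : CochainComplex A ℕ, (∀ i, 𝒪 (K.X i)) → K.Acyclic →
      ((f.mapHomologicalComplex (ComplexShape.up ℕ)).obj K).Acyclic)
    (h2 : ∀ X : A, ∃ (Y : A) (i : X ⟶ Y), 𝒪 Y ∧ Mono i)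
    (X : A) (hX : 𝒪 X) (n : ℕ) :
    IsZero ((f.rightDerived (n + 1)).obj X) := by
  let J : InjectiveResolution X := InjectiveResolution.of X
  let L := CochainComplex.augment J.cocomplex (J.ι.f 0) J.ι_f_zero_comp_complex_d
  have hL : L.Acyclic := augment_acyclic J
  have hO0 : 𝒪 (L.X 0) := hX
  let K := resolution h2 hO0
  have hK : K.Acyclic := resolution_acyclic h2 hO0 hL
  let φ : L ⟶ K := toResolution h2 hO0
  let O := CochainComplex.truncate.obj K
  let a : J.cocomplex ⟶ O :=
    (CochainComplex.truncateAugment J.cocomplex (J.ι.f 0) J.ι_f_zero_comp_complex_d).inv ≫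
      CochainComplex.truncate.map φ
  let g : K.X 0 ⟶ X := 𝟙 X
  let ψ : O ⟶ J.cocomplex := descTrunc K hK J g
  have hψ : K.d 0 1 ≫ ψ.f 0 = J.ι.f 0 :=
    (d_comp_descTrunc_f_zero K hK J g).trans (Category.id_comp _)
  have ha : J.ι.f 0 ≫ a.f 0 = K.d 0 1 := by
    have h1 : a.f 0 = φ.f 1 := by
      dsimp [a]
      erw [Category.id_comp]
      rfl
    have h2' : L.d 0 1 ≫ φ.f 1 = φ.f 0 ≫ K.d 0 1 := (φ.comm 0 1).symm
    have h3 : φ.f 0 = 𝟙 _ := toResolution_f_zero h2 hO0
    rw [h1]
    change L.d 0 1 ≫ φ.f 1 = _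
    rw [h2', h3]
    exact Category.id_comp _
  have comm : J.ι ≫ (a ≫ ψ) = (CochainComplex.single₀ A).map (𝟙 X) ≫ J.ι := by
    rw [CategoryTheory.Functor.map_id, Category.id_comp]
    apply HomologicalComplex.from_single_hom_ext
    rw [HomologicalComplex.comp_f, HomologicalComplex.comp_f, reassoc_of% ha]
    exact hψ
  have H : Homotopy (a ≫ ψ) (𝟙 J.cocomplex) :=
    InjectiveResolution.descHomotopy (𝟙 X) _ _ comm (by simp)
  let F := f.mapHomologicalComplex (ComplexShape.up ℕ)
  have hid : HomologicalComplex.homologyMap (F.map a) (n + 1) ≫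
      HomologicalComplex.homologyMap (F.map ψ) (n + 1) = 𝟙 _ := by
    rw [← HomologicalComplex.homologyMap_comp, ← F.map_comp,
      (f.mapHomotopy H).homologyMap_eq (n + 1)]
    erw [CategoryTheory.Functor.map_id]
    exact HomologicalComplex.homologyMap_id _ _
  have hz : IsZero ((F.obj O).homology (n + 1)) := by
    have hFK := h1 K (resolution_mem h2 hO0) hK (n + 2)
    rw [HomologicalComplex.exactAt_iff' _ (n + 1) (n + 2) (n + 3) (by simp) (by simp)] at hFK
    have : (F.obj O).ExactAt (n + 1) := by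
      rw [HomologicalComplex.exactAt_iff' _ n (n + 1) (n + 2) (by simp) (by simp)]
      exact hFK
    exact this.isZero_homology
  have hz' : IsZero ((F.obj J.cocomplex).homology (n + 1)) := by
    rw [IsZero.iff_id_eq_zero, ← hid, hz.eq_of_tgt (HomologicalComplex.homologyMap (F.map a) (n + 1)) 0,
      zero_comp]
  exact IsZero.of_iso hz' (J.isoRightDerivedObj f (n + 1))

end Main

end Groth.Agent.R2.H38.Adapted
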