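import Mathlib

/-!
# helper38: `FormalCoproduct.cosimplicialObjectFunctor K` is additive and exact for presheaves of
abelian groups
-/

set_option autoImplicit false

open CategoryTheory CategoryTheory.Limits Opposite

namespace Groth.Agent.R2.H38.CosExact

universe u

variable {C : Type u} [SmallCategory C]

/-- evaluation of the extension of a presheaf at a formal coproduct. -/
noncomputable abbrev Φ (X : FormalCoproduct.{u} C) : (Cᵒᵖ ⥤ AddCommGrpCat.{u}) ⥤ AddCommGrpCat.{u} :=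
  FormalCoproduct.evalOp C AddCommGrpCat.{u} ⋙ (evaluation _ _).obj (op X)

/-- the same functor as a product. -/
noncomputable abbrev Ψ (X : FormalCoproduct.{u} C) : (Cᵒᵖ ⥤ AddCommGrpCat.{u}) ⥤ AddCommGrpCat.{u} :=
  (Functor.whiskeringLeft (Discrete X.I) Cᵒᵖ AddCommGrpCat.{u}).obj
    (Discrete.functor (fun i => op (X.obj i))) ⋙ lim

variable (X : FormalCoproduct.{u} C)

/-- the comparison, objectwise. -/
noncomputable def cmpIso (P : Cᵒᵖ ⥤ AddCommGrpCat.{u}) : (Φ X).obj P ≅ (Ψ X).obj P :=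
  HasLimit.isoOfNatIso (Discrete.natIso (fun _ => Iso.refl _))

/-- projections. -/
noncomputable def prΦ (P : Cᵒᵖ ⥤ AddCommGrpCat.{u}) (i : X.I) :
    (Φ X).obj P ⟶ P.obj (op (X.obj i)) :=
  Pi.π (fun i : X.I => P.obj (op (X.obj i))) i

/-- projections. -/
noncomputable def prΨ (P : Cᵒᵖ ⥤ AddCommGrpCat.{u}) (i : X.I) :
    (Ψ X).obj P ⟶ P.obj (op (X.obj i)) :=
  limit.π (Discrete.functor (fun i => op (X.obj i)) ⋙ P) ⟨i⟩

theorem cmpIso_hom_pr (P : Cᵒᵖ ⥤ AddCommGrpCat.{u}) (i : X.I) :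
    (cmpIso X P).hom ≫ prΨ X P i = prΦ X P i :=
  (HasLimit.isoOfNatIso_hom_π _ _).trans (Category.comp_id _)

theorem Φ_map_pr {P Q : Cᵒᵖ ⥤ AddCommGrpCat.{u}} (α : P ⟶ Q) (i : X.I) :
    (Φ X).map α ≫ prΦ X Q i = prΦ X P i ≫ α.app (op (X.obj i)) :=
  Pi.map_π (fun i : X.I => α.app (op (X.obj i))) i

theorem Ψ_map_pr {P Q : Cᵒᵖ ⥤ AddCommGrpCat.{u}} (α : P ⟶ Q) (i : X.I) :
    (Ψ X).map α ≫ prΨ X Q i = prΨ X P i ≫ α.app (op (X.obj i)) :=
  limMap_π _ _

theorem Ψ_ext {P : Cᵒᵖ ⥤ AddCommGrpCat.{u}} {W : AddCommGrpCat.{u}} (f g : W ⟶ (Ψ X).obj P)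
    (h : ∀ i, f ≫ prΨ X P i = g ≫ prΨ X P i) : f = g :=
  limit.hom_ext (fun ⟨i⟩ => h i)

/-- the comparison. -/
noncomputable def ΦΨ : Φ X ≅ Ψ X :=
  NatIso.ofComponents (fun P => cmpIso X P)
    (fun {P Q} α => by
      apply Ψ_ext
      intro i
      rw [Category.assoc, Category.assoc, cmpIso_hom_pr, Ψ_map_pr, ← Category.assoc,
        cmpIso_hom_pr, Φ_map_pr])

instance : PreservesFiniteLimits (Ψ X) := by
  dsimp only [Ψ]
  infer_instance

instance : PreservesFiniteColimits (Ψ X) := by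
  dsimp only [Ψ]
  infer_instance

instance : PreservesFiniteLimits (Φ X) := preservesFiniteLimits_of_natIso (ΦΨ X).symm

instance : PreservesFiniteColimits (Φ X) := preservesFiniteColimits_of_natIso (ΦΨ X).symm

theorem Φ_ext {P : Cᵒᵖ ⥤ AddCommGrpCat.{u}} {W : AddCommGrpCat.{u}} (f g : W ⟶ (Φ X).obj P)
    (h : ∀ i, f ≫ prΦ X P i = g ≫ prΦ X P i) : f = g :=
  Pi.hom_ext _ _ h

instance : (Φ X).Additive where
  map_add {P Q α β} := by
    apply Φ_ext
    intro i
    rw [Φ_map_pr, Preadditive.add_comp, Φ_map_pr, Φ_map_pr, NatTrans.app_add,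
      Preadditive.comp_add]

variable (K : SimplicialObject (FormalCoproduct.{u} C))

/-- the Čech cosimplicial object functor, with values in `SimplexCategory ⥤ Ab`. -/
noncomputable abbrev cosK :
    (Cᵒᵖ ⥤ AddCommGrpCat.{u}) ⥤ (SimplexCategory ⥤ AddCommGrpCat.{u}) :=
  FormalCoproduct.cosimplicialObjectFunctor K

instance : (cosK K).Additive where
  map_add {P Q α β} := by
    ext x : 2
    exact (Φ (K.obj (op x))).map_add

instance : PreservesFiniteLimits (cosK K) :=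
  ⟨fun J _ _ => preservesLimitsOfShape_of_evaluation (cosK K) J (fun x =>
    inferInstanceAs (PreservesLimitsOfShape J (Φ (K.obj (op x)))))⟩

instance : PreservesFiniteColimits (cosK K) :=
  ⟨fun J _ _ => preservesColimitsOfShape_of_evaluation (cosK K) J (fun x =>
    inferInstanceAs (PreservesColimitsOfShape J (Φ (K.obj (op x)))))⟩

end Groth.Agent.R2.H38.CosExact
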