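import Mathlib.AlgebraicTopology.SimplexCategory.Basic

/-!
# helper38: combinatorics of the prism decomposition, for the homotopy between maps of coskeleta
-/

set_option autoImplicit false
open CategoryTheory SimplexCategory Simplicial

namespace Groth.Agent.R2.H38.CoskComb

/-- the rule: all the values of `α` are `> i` -/
def Above {m : ℕ} (i : Fin (m + 1)) {K : SimplexCategory} (α : K ⟶ ⦋m + 1⦌) : Prop :=
  ∀ x : Fin (K.len + 1), (i : ℕ) < (α.toOrderHom x : ℕ)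

theorem δ_val {m : ℕ} (i : Fin (m + 2)) (y : Fin (m + 1)) :
    (((δ i).toOrderHom y : Fin (m + 2)) : ℕ) = if (y : ℕ) < i then (y : ℕ) else y + 1 := by
  change ((i.succAbove y : Fin (m + 2)) : ℕ) = _
  by_cases h : y.castSucc < i
  · rw [Fin.succAbove_of_castSucc_lt _ _ h, if_pos (by simpa [Fin.lt_def] using h)]
    rfl
  · have h' : i ≤ y.castSucc := not_lt.1 h
    rw [Fin.succAbove_of_le_castSucc _ _ h', if_neg (by simpa [Fin.lt_def] using h)]
    rfl

theorem σ_val {m : ℕ} (i : Fin (m + 1)) (y : Fin (m + 2)) :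
    (((σ i).toOrderHom y : Fin (m + 1)) : ℕ) = if (y : ℕ) ≤ i then (y : ℕ) else y - 1 := by
  change ((i.predAbove y : Fin (m + 1)) : ℕ) = _
  by_cases h : i.castSucc < y
  · rw [Fin.predAbove_of_castSucc_lt _ _ h, if_neg (by simpa [Fin.lt_def] using h)]
    rfl
  · have h' : y ≤ i.castSucc := not_lt.1 h
    rw [Fin.predAbove_of_le_castSucc _ _ h', if_pos (by simpa [Fin.le_def] using h')]
    rfl

variable {K : SimplexCategory}

theorem above_comp_δ_zero {m : ℕ} (α : K ⟶ ⦋m⦌) : Above (0 : Fin (m + 1)) (α ≫ δ 0) := by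
  intro x
  change (0 : ℕ) < (((δ 0).toOrderHom (α.toOrderHom x) : Fin (m + 2)) : ℕ)
  rw [δ_val]
  split_ifs with h
  · simp at h
  · omega

theorem not_above_comp_δ_last {m : ℕ} (α : K ⟶ ⦋m⦌) :
    ¬ Above (Fin.last m) (α ≫ δ (Fin.last (m + 1))) := by
  intro h
  have := h 0
  change (m : ℕ) < (((δ (Fin.last (m + 1))).toOrderHom (α.toOrderHom 0) : Fin (m + 2)) : ℕ) at this
  rw [δ_val] at this
  have hy : ((α.toOrderHom 0 : Fin (m + 1)) : ℕ) < m + 1 := (α.toOrderHom 0).isLt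
  simp only [Fin.val_last] at this
  split_ifs at this <;> omega

theorem above_iff_1 {m : ℕ} (α : K ⟶ ⦋m + 1⦌) (i : Fin (m + 2)) (j : Fin (m + 1))
    (hij : i ≤ j.castSucc) : Above j.succ (α ≫ δ i.castSucc) ↔ Above j α := by
  refine forall_congr' fun x => ?_
  change ((j.succ : Fin (m + 2)) : ℕ) <
    (((δ i.castSucc).toOrderHom (α.toOrderHom x) : Fin (m + 3)) : ℕ) ↔ _
  rw [δ_val]
  have h : (i : ℕ) ≤ j := by simpa [Fin.le_def] using hij
  simp only [Fin.val_succ, Fin.val_castSucc]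
  split_ifs <;> omega

theorem above_iff_2 {m : ℕ} (α : K ⟶ ⦋m + 1⦌) (j : Fin (m + 1)) :
    Above j.succ (α ≫ δ j.castSucc.succ) ↔ Above j.castSucc (α ≫ δ j.castSucc.succ) := by
  refine forall_congr' fun x => ?_
  change ((j.succ : Fin (m + 2)) : ℕ) <
    (((δ j.castSucc.succ).toOrderHom (α.toOrderHom x) : Fin (m + 3)) : ℕ) ↔
    ((j.castSucc : Fin (m + 2)) : ℕ) <
    (((δ j.castSucc.succ).toOrderHom (α.toOrderHom x) : Fin (m + 3)) : ℕ)
  rw [δ_val]
  simp only [Fin.val_succ, Fin.val_castSucc]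
  split_ifs <;> omega

theorem above_iff_3 {m : ℕ} (α : K ⟶ ⦋m + 1⦌) (i : Fin (m + 2)) (j : Fin (m + 1))
    (hji : j.castSucc < i) : Above j.castSucc (α ≫ δ i.succ) ↔ Above j α := by
  refine forall_congr' fun x => ?_
  change ((j.castSucc : Fin (m + 2)) : ℕ) <
    (((δ i.succ).toOrderHom (α.toOrderHom x) : Fin (m + 3)) : ℕ) ↔ _
  rw [δ_val]
  have h : (j : ℕ) < i := by simpa [Fin.lt_def] using hji
  simp only [Fin.val_succ, Fin.val_castSucc]
  split_ifs <;> omega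

theorem above_iff_4 {m : ℕ} (α : K ⟶ ⦋m + 2⦌) (i j : Fin (m + 1)) (hij : i ≤ j) :
    Above j (α ≫ σ i.castSucc) ↔ Above j.succ α := by
  refine forall_congr' fun x => ?_
  change ((j : Fin (m + 1)) : ℕ) <
    (((σ i.castSucc).toOrderHom (α.toOrderHom x) : Fin (m + 2)) : ℕ) ↔ _
  rw [σ_val]
  have h : (i : ℕ) ≤ j := Fin.le_def.1 hij
  simp only [Fin.val_succ, Fin.val_castSucc]
  split_ifs <;> omega

theorem above_iff_5 {m : ℕ} (α : K ⟶ ⦋m + 2⦌) (i j : Fin (m + 1)) (hji : j ≤ i) :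
    Above j (α ≫ σ i.succ) ↔ Above j.castSucc α := by
  refine forall_congr' fun x => ?_
  change ((j : Fin (m + 1)) : ℕ) <
    (((σ i.succ).toOrderHom (α.toOrderHom x) : Fin (m + 2)) : ℕ) ↔ _
  rw [σ_val]
  have h : (j : ℕ) ≤ i := Fin.le_def.1 hji
  simp only [Fin.val_succ, Fin.val_castSucc]
  split_ifs <;> omega

end Groth.Agent.R2.H38.CoskComb
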