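import Mathlib.AlgebraicTopology.SimplicialObject.Basic
import Mathlib.AlgebraicTopology.SimplicialObject.Homotopy
import Mathlib.CategoryTheory.Functor.KanExtension.Pointwise
import Groth.Agent.Lib.Helper10FinStrArr
import Groth.Agent.R2.H38CoskComb

/-!
# helper38: simplicial homotopy between maps of `n`-coskeleta that agree below degree `n`
-/

set_option autoImplicit false
set_option linter.unusedSectionVars false
open CategoryTheory CategoryTheory.Limits Opposite SimplexCategory Simplicial
universe v u

namespace Groth.Agent.R2.H38.CoskHtpy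

variable {E : Type u} [Category.{v} E] [HasFiniteLimits E] (n : ℕ)
  [∀ (F : (SimplexCategory.Truncated n)ᵒᵖ ⥤ E),
    (SimplexCategory.Truncated.inclusion n).op.HasRightKanExtension F]

/-- the counit of the coskeleton -/
noncomputable def ε (X : SimplicialObject E) :
    (SimplexCategory.Truncated.inclusion n).op ⋙ (SimplicialObject.cosk n).obj X ⟶
      (SimplicialObject.truncation n).obj X :=
  (SimplicialObject.coskAdj n).counit.app ((SimplicialObject.truncation n).obj X)

instance (X : SimplicialObject E) :
    ((SimplicialObject.cosk n).obj X).IsRightKanExtension (ε n X) := by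
  dsimp only [ε]
  infer_instance

/-- the coskeleton is a pointwise right Kan extension -/
noncomputable def isLimitConeAt (X : SimplicialObject E) (D : SimplexCategoryᵒᵖ) :
    IsLimit ((Functor.RightExtension.mk _ (ε n X)).coneAt D) :=
  haveI := Groth.Agent.Lib.Helper10.FinStrArr.hasPointwiseRightKanExtension n
    ((SimplicialObject.truncation n).obj X)
  Functor.isPointwiseRightKanExtensionOfIsRightKanExtension _ (ε n X) D

/-- projection from the coskeleton -/
noncomputable def pr (X : SimplicialObject E) {K : SimplexCategory.Truncated n}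
    {D : SimplexCategory} (α : K.obj ⟶ D) :
    ((SimplicialObject.cosk n).obj X).obj (op D) ⟶ X.obj (op K.obj) :=
  ((SimplicialObject.cosk n).obj X).map α.op ≫ (ε n X).app (op K)

variable {n}

theorem map_pr (X : SimplicialObject E) {K : SimplexCategory.Truncated n}
    {D D' : SimplexCategory} (α : K.obj ⟶ D) (β : D ⟶ D') :
    ((SimplicialObject.cosk n).obj X).map β.op ≫ pr n X α = pr n X (α ≫ β) := by
  simp only [pr, op_comp, Functor.map_comp, Category.assoc]

theorem pr_map (X : SimplicialObject E) {K K' : SimplexCategory.Truncated n}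
    {D : SimplexCategory} (α : K.obj ⟶ D) (θ : K' ⟶ K) :
    pr n X α ≫ X.map θ.hom.op = pr n X (θ.hom ≫ α) := by
  have h := (ε n X).naturality θ.op
  simp only [pr, op_comp, Functor.map_comp, Category.assoc]
  congr 1
  exact h.symm

theorem cosk_map_pr {X X' : SimplicialObject E} (f : X ⟶ X') {K : SimplexCategory.Truncated n}
    {D : SimplexCategory} (α : K.obj ⟶ D) :
    ((SimplicialObject.cosk n).map f).app (op D) ≫ pr n X' α = pr n X α ≫ f.app (op K.obj) := by
  have h := (SimplicialObject.coskAdj n).counit.naturality ((SimplicialObject.truncation n).map f)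
  have h' := congrArg (fun t => t.app (op K)) h
  simp only [pr, Category.assoc]
  rw [← NatTrans.naturality_assoc]
  congr 1

theorem hom_ext (X : SimplicialObject E) {Z : E} {D : SimplexCategory}
    (u w : Z ⟶ ((SimplicialObject.cosk n).obj X).obj (op D))
    (h : ∀ (K : SimplexCategory.Truncated n) (α : K.obj ⟶ D), u ≫ pr n X α = w ≫ pr n X α) :
    u = w := by
  refine (isLimitConeAt n X (op D)).hom_ext fun g => ?_
  exact h g.right.unop g.hom.unop

/-- lifting a compatible family to the coskeleton -/
noncomputable def lift (X : SimplicialObject E) {Z : E} {D : SimplexCategory}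
    (c : ∀ (K : SimplexCategory.Truncated n) (_ : K.obj ⟶ D), Z ⟶ X.obj (op K.obj))
    (hc : ∀ (K K' : SimplexCategory.Truncated n) (α : K.obj ⟶ D) (θ : K' ⟶ K),
      c K α ≫ X.map θ.hom.op = c K' (θ.hom ≫ α)) :
    Z ⟶ ((SimplicialObject.cosk n).obj X).obj (op D) :=
  (isLimitConeAt n X (op D)).lift
    { pt := Z
      π :=
        { app := fun g => c g.right.unop g.hom.unop
          naturality := fun g₁ g₂ φ => by
            dsimp
            rw [Category.id_comp]
            have h := hc g₁.right.unop g₂.right.unop g₁.hom.unop φ.right.unop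
            have hw : g₂.hom.unop = φ.right.unop.hom ≫ g₁.hom.unop := by
              have := StructuredArrow.w φ
              rw [← this]
              rfl
            rw [hw]
            exact h.symm } }

theorem lift_pr (X : SimplicialObject E) {Z : E} {D : SimplexCategory}
    (c : ∀ (K : SimplexCategory.Truncated n) (_ : K.obj ⟶ D), Z ⟶ X.obj (op K.obj))
    (hc : ∀ (K K' : SimplexCategory.Truncated n) (α : K.obj ⟶ D) (θ : K' ⟶ K),
      c K α ≫ X.map θ.hom.op = c K' (θ.hom ≫ α))
    (K : SimplexCategory.Truncated n) (α : K.obj ⟶ D) :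
    lift X c hc ≫ pr n X α = c K α :=
  (isLimitConeAt n X (op D)).fac _ (StructuredArrow.mk (Y := op K) α.op)

section Homotopy

open Groth.Agent.R2.H38.CoskComb
open Classical in
/-- the selector between the two maps -/
noncomputable def sel {X X' : SimplicialObject E} (f g : X ⟶ X') (b : Prop) : X ⟶ X' :=
  if b then g else f

theorem sel_congr {X X' : SimplicialObject E} (f g : X ⟶ X') {b b' : Prop} (h : b ↔ b') :
    sel f g b = sel f g b' := by
  rw [propext h]

theorem sel_true {X X' : SimplicialObject E} (f g : X ⟶ X') {b : Prop} (h : b) :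
    sel f g b = g := by
  simp [sel, h]

theorem sel_false {X X' : SimplicialObject E} (f g : X ⟶ X') {b : Prop} (h : ¬ b) :
    sel f g b = f := by
  simp [sel, h]

variable {X X' : SimplicialObject E} (f g : X ⟶ X')
  (hfg : ∀ p : ℕ, p < n → f.app (op (SimplexCategory.mk p)) = g.app (op (SimplexCategory.mk p)))

include hfg in
theorem app_eq_of_len_lt (K : SimplexCategory) (hK : K.len < n) :
    f.app (op K) = g.app (op K) := by
  have := hfg K.len hK
  rwa [SimplexCategory.mk_len] at this

include hfg in
/-- the two maps agree after a non-injective operator, or in low degree -/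
theorem map_comp_app_eq {K K' : SimplexCategory.Truncated n} (θ : K' ⟶ K)
    (h : ¬ (Mono θ.hom ∧ K'.obj.len = n)) :
    X.map θ.hom.op ≫ f.app (op K'.obj) = X.map θ.hom.op ≫ g.app (op K'.obj) := by
  by_cases hlen : K'.obj.len < n
  · rw [app_eq_of_len_lt f g hfg _ hlen]
  · have hlen' : K'.obj.len = n := le_antisymm K'.property (not_lt.1 hlen)
    have hmono : ¬ Mono θ.hom := fun hm => h ⟨hm, hlen'⟩
    obtain ⟨K'o, hK'⟩ := K'
    induction K'o using SimplexCategory.rec with | _ k => ?_
    have hk : k = n := hlen'
    subst hk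
    cases k with
    | zero =>
      exfalso
      apply hmono
      rw [SimplexCategory.mono_iff_injective]
      intro a b _
      exact Subsingleton.elim (α := Fin 1) a b
    | succ k =>
      rw [SimplexCategory.mono_iff_injective] at hmono
      obtain ⟨j, θ', hθ'⟩ := SimplexCategory.eq_σ_comp_of_not_injective θ.hom hmono
      have e : f.app (op ⦋k⦌) = g.app (op ⦋k⦌) := hfg k (Nat.lt_succ_self k)
      change X.map θ.hom.op ≫ f.app (op ⦋k + 1⦌) = X.map θ.hom.op ≫ g.app (op ⦋k + 1⦌)
      rw [hθ', op_comp, Functor.map_comp, Category.assoc, Category.assoc,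
        f.naturality, g.naturality, e]

include hfg in
theorem cone_condition {m : ℕ} (i : Fin (m + 1)) (K K' : SimplexCategory.Truncated n)
    (α : K.obj ⟶ ⦋m + 1⦌) (θ : K' ⟶ K) :
    (pr n X (α ≫ σ i) ≫ (sel f g (Above i α)).app (op K.obj)) ≫ X'.map θ.hom.op =
      pr n X ((θ.hom ≫ α) ≫ σ i) ≫ (sel f g (Above i (θ.hom ≫ α))).app (op K'.obj) := by
  by_cases h : Mono θ.hom ∧ K'.obj.len = n
  · obtain ⟨hm, hlen⟩ := h
    have hK : K.obj.len = n :=
      le_antisymm K.property (hlen.symm.le.trans (SimplexCategory.len_le_of_mono θ.hom))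
    obtain ⟨Ko, hKo⟩ := K
    obtain ⟨K'o, hK'o⟩ := K'
    have e : K'o = Ko := by
      ext
      exact hlen.trans hK.symm
    subst e
    have hθ : θ.hom = 𝟙 _ := SimplexCategory.eq_id_of_mono θ.hom
    rw [hθ]
    simp
  · have key := map_comp_app_eq f g hfg θ h
    rw [Category.assoc, ← NatTrans.naturality, ← Category.assoc, pr_map, Category.assoc]
    by_cases hb : (Above i α ↔ Above i (θ.hom ≫ α))
    · rw [sel_congr f g hb]
    · -- the selectors differ: use `key`
      have hswap : ∀ (b b' : Prop), ¬ (b ↔ b') →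
          X.map θ.hom.op ≫ (sel f g b).app (op K'.obj) =
            X.map θ.hom.op ≫ (sel f g b').app (op K'.obj) := by
        intro b b' hbb
        by_cases h1 : b <;> by_cases h2 : b'
        · exact absurd ⟨fun _ => h2, fun _ => h1⟩ hbb
        · rw [sel_true f g h1, sel_false f g h2, key]
        · rw [sel_false f g h1, sel_true f g h2, key]
        · exact absurd ⟨fun h => absurd h h1, fun h => absurd h h2⟩ hbb
      have h3 := hswap _ _ hb
      rw [← pr_map, Category.assoc, Category.assoc, h3]

/-- the homotopy operators -/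
noncomputable def hmap {m : ℕ} (i : Fin (m + 1)) :
    ((SimplicialObject.cosk n).obj X).obj (op ⦋m⦌) ⟶
      ((SimplicialObject.cosk n).obj X').obj (op ⦋m + 1⦌) :=
  lift X' (fun K α => pr n X (α ≫ σ i) ≫ (sel f g (Above i α)).app (op K.obj))
    (fun K K' α θ => cone_condition f g hfg i K K' α θ)

theorem hmap_pr {m : ℕ} (i : Fin (m + 1)) (K : SimplexCategory.Truncated n)
    (α : K.obj ⟶ ⦋m + 1⦌) :
    hmap f g hfg i ≫ pr n X' α = pr n X (α ≫ σ i) ≫ (sel f g (Above i α)).app (op K.obj) :=
  lift_pr X' _ _ K α

theorem hmap_map_pr {m : ℕ} (i : Fin (m + 1)) {D : SimplexCategory} (β : D ⟶ ⦋m + 1⦌)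
    (K : SimplexCategory.Truncated n) (α : K.obj ⟶ D) :
    (hmap f g hfg i ≫ ((SimplicialObject.cosk n).obj X').map β.op) ≫ pr n X' α =
      pr n X ((α ≫ β) ≫ σ i) ≫ (sel f g (Above i (α ≫ β))).app (op K.obj) := by
  rw [Category.assoc, map_pr, hmap_pr]

theorem map_hmap_pr {m : ℕ} (j : Fin (m + 1)) {D : SimplexCategory} (γ : ⦋m⦌ ⟶ D)
    (K : SimplexCategory.Truncated n) (α : K.obj ⟶ ⦋m + 1⦌) :
    (((SimplicialObject.cosk n).obj X).map γ.op ≫ hmap f g hfg j) ≫ pr n X' α =
      pr n X ((α ≫ σ j) ≫ γ) ≫ (sel f g (Above j α)).app (op K.obj) := by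
  rw [Category.assoc, hmap_pr, ← Category.assoc, map_pr]

theorem pr_sel_congr (K : SimplexCategory.Truncated n) {D : SimplexCategory}
    {α₁ α₂ : K.obj ⟶ D} (hα : α₁ = α₂) {b₁ b₂ : Prop} (hb : b₁ ↔ b₂) :
    pr n X α₁ ≫ (sel f g b₁).app (op K.obj) = pr n X α₂ ≫ (sel f g b₂).app (op K.obj) := by
  rw [hα, sel_congr f g hb]

/-- the simplicial homotopy between the maps of coskeleta -/
noncomputable def homotopy :
    SimplicialObject.Homotopy ((SimplicialObject.cosk n).map f) ((SimplicialObject.cosk n).map g) where
  h i := hmap f g hfg i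
  h_zero_comp_δ_zero m := by
    refine hom_ext X' _ _ fun K α => ?_
    rw [SimplicialObject.δ, hmap_map_pr, cosk_map_pr,
      sel_true f g (above_comp_δ_zero α), Category.assoc,
      SimplexCategory.δ_comp_σ_self' (j := (0 : Fin (m + 2))) (i := (0 : Fin (m + 1))) rfl,
      Category.comp_id]
  h_last_comp_δ_last m := by
    refine hom_ext X' _ _ fun K α => ?_
    rw [SimplicialObject.δ, hmap_map_pr, cosk_map_pr,
      sel_false f g (not_above_comp_δ_last α), Category.assoc,
      SimplexCategory.δ_comp_σ_succ' (j := Fin.last (m + 1)) (i := Fin.last m) (by simp),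
      Category.comp_id]
  h_succ_comp_δ_castSucc_of_lt i j hij := by
    refine hom_ext X' _ _ fun K α => ?_
    rw [SimplicialObject.δ, SimplicialObject.δ, hmap_map_pr, map_hmap_pr]
    exact pr_sel_congr f g K
      (by rw [Category.assoc, Category.assoc, SimplexCategory.δ_comp_σ_of_le hij])
      (above_iff_1 α i j hij)
  h_succ_comp_δ_castSucc_succ j := by
    refine hom_ext X' _ _ fun K α => ?_
    rw [SimplicialObject.δ, hmap_map_pr, hmap_map_pr]
    exact pr_sel_congr f g K
      (by rw [Category.assoc, Category.assoc,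
        SimplexCategory.δ_comp_σ_self' (j := j.castSucc.succ) (i := j.succ) (by simp),
        SimplexCategory.δ_comp_σ_succ' (j := j.castSucc.succ) (i := j.castSucc) rfl])
      (above_iff_2 α j)
  h_castSucc_comp_δ_succ_of_lt i j hji := by
    refine hom_ext X' _ _ fun K α => ?_
    rw [SimplicialObject.δ, SimplicialObject.δ, hmap_map_pr, map_hmap_pr]
    exact pr_sel_congr f g K
      (by rw [Category.assoc, Category.assoc, SimplexCategory.δ_comp_σ_of_gt hji])
      (above_iff_3 α i j hji)
  h_comp_σ_castSucc_of_le i j hij := by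
    refine hom_ext X' _ _ fun K α => ?_
    rw [SimplicialObject.σ, SimplicialObject.σ, hmap_map_pr, map_hmap_pr]
    exact pr_sel_congr f g K
      (by rw [Category.assoc, Category.assoc, SimplexCategory.σ_comp_σ hij])
      (above_iff_4 α i j hij)
  h_comp_σ_succ_of_lt i j hji := by
    refine hom_ext X' _ _ fun K α => ?_
    rw [SimplicialObject.σ, SimplicialObject.σ, hmap_map_pr, map_hmap_pr]
    exact pr_sel_congr f g K
      (by rw [Category.assoc, Category.assoc, SimplexCategory.σ_comp_σ hji])
      (above_iff_5 α i j hji)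

end Homotopy

end Groth.Agent.R2.H38.CoskHtpy
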