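import Mathlib.Algebra.Homology.SpectralSequence.Basic
import Mathlib.Algebra.Homology.ShortComplex.HomologicalComplex
import Mathlib.Algebra.Homology.HomologicalComplexAbelian
import Mathlib.CategoryTheory.Subobject.Limits
import Mathlib.Order.Interval.Finset.Defs
import Mathlib.Data.Int.Interval
import Groth.Prelude.Def_SpSeq

/-!
# helper38: a degenerate `E₁` spectral sequence

Given a first page `P1` (a complex of shape `up' (1, 0)` on `ℤ × ℤ`) whose homology is concentrated
in the column `p = 0`, where it is `H q`, there is a cohomological spectral sequence starting on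
page one with first page `P1`, all of whose differentials on the pages `≥ 2` vanish, abutting to `H`
(with the two-step filtration).
-/

set_option autoImplicit false
universe v u
open CategoryTheory CategoryTheory.Limits

namespace Groth.Agent.R2.H38.DegSS

variable {C : Type u} [Category.{v} C] [Abelian C]

/-- the complex shape of the `r`-th page -/
abbrev shp (r : ℤ) : ComplexShape (ℤ × ℤ) := ComplexShape.up' (⟨r, 1 - r⟩ : ℤ × ℤ)

/-- a complex with zero differentials -/
def zeroCx (r : ℤ) (X : ℤ × ℤ → C) : HomologicalComplex C (shp r) where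
  X := X
  d _ _ := 0
  shape _ _ _ := rfl
  d_comp_d' _ _ _ _ _ := zero_comp

/-- the homology of a complex with zero differentials -/
noncomputable def zeroCxHomologyIso (r : ℤ) (X : ℤ × ℤ → C) (pq : ℤ × ℤ) :
    (zeroCx r X).homology pq ≅ X pq :=
  (ShortComplex.HomologyData.ofZeros ((zeroCx r X).sc pq) rfl rfl).left.homologyIso

variable (P1 : HomologicalComplex C (shp 1))

/-- the pages -/
noncomputable def page (r : ℤ) : HomologicalComplex C (shp r) :=
  if h : r = 1 then h ▸ P1 else zeroCx r (fun pq => P1.homology pq)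

lemma page_one : page P1 1 = P1 := by
  simp [page]

lemma page_ne {r : ℤ} (h : r ≠ 1) : page P1 r = zeroCx r (fun pq => P1.homology pq) :=
  dif_neg h

/-- the degenerate spectral sequence -/
noncomputable def ss : CohomologicalSpectralSequence C 1 where
  page r _ := page P1 r
  iso r r' pq hrr' hr :=
    if h : r = 1 then
      eqToIso (by
        subst h
        subst hrr'
        rw [page_one, page_ne P1 (by norm_num)]
        rfl)
    else
      eqToIso (by rw [page_ne P1 h]) ≪≫ zeroCxHomologyIso r _ pq ≪≫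
        eqToIso (by
          rw [page_ne P1 (show r' ≠ 1 by omega)]
          rfl)

lemma ss_page (r : ℤ) (hr : 1 ≤ r) : (ss P1).page r hr = page P1 r := rfl

/-- subquotient `⊤ / ⊥` -/
noncomputable def subquotTopBotIso {X : C} (Z B : Subobject X) (h : B ≤ Z) (hZ : Z = ⊤)
    (hB : B = ⊥) : SpSeq.subquot Z B h ≅ X := by
  subst hZ hB
  have h0 : (⊥ : Subobject X).ofLE ⊤ h = 0 :=
    (IsZero.of_iso (isZero_zero C) Subobject.botCoeIsoZero).eq_of_src _ _
  exact cokernelIsoOfEq h0 ≪≫ cokernelZeroIsoTarget ≪≫ asIso (⊤ : Subobject X).arrow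

lemma isZero_subquot_of_eq {X : C} (Z B : Subobject X) (h : B ≤ Z) (hZB : B = Z) :
    IsZero (SpSeq.subquot Z B h) := by
  subst hZB
  have : IsIso (B.ofLE B h) := by
    rw [Subobject.ofLE_refl]
    infer_instance
  exact isZero_cokernel_of_epi _

/-- the two-step filtration -/
noncomputable def fil (H : ℤ → C) (n : ℤ) (j : ℤ) : Subobject (H n) := if j ≤ 0 then ⊤ else ⊥

lemma fil_anti (H : ℤ → C) (n : ℤ) : Antitone (fil H n) := by
  intro j j' hjj'
  dsimp only [fil]
  split_ifs with h1 h2
  · exact le_rfl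
  · omega
  · exact bot_le
  · exact le_rfl

theorem exists_ss (H : ℤ → C)
    (h0 : ∀ q, Nonempty (P1.homology (0, q) ≅ H q))
    (h1 : ∀ p q, p ≠ 0 → IsZero (P1.homology (p, q)))
    (hz : ∀ p q, (p < 0 ∨ q < 0) → IsZero (P1.X (p, q))) :
    ∃ (E : CohomologicalSpectralSequence C 1) (a : SpSeq.Abutment E H),
      (∀ n, a.IsFinite n) ∧ SpSeq.IsBounded E ∧
        ∀ p q, Nonempty ((E.page 1 le_rfl).X (p, q) ≅ P1.X (p, q)) := by
  have hd : ∀ (r' : ℤ) (h₀ : 1 ≤ r') (_ : 2 ≤ r') (a b : ℤ × ℤ),
      ((ss P1).page r' h₀).d a b = 0 := by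
    intro r' h₀ h2 a b
    rw [ss_page, page_ne P1 (by omega)]
    rfl
  have hX2 : ∀ pq : ℤ × ℤ, ((ss P1).page 2 (by norm_num)).X pq = P1.homology pq := by
    intro pq
    rw [ss_page, page_ne P1 (by norm_num)]
    rfl
  refine ⟨ss P1,
    { fil := fil H
      anti := fil_anti H
      rk := fun _ => 2
      stat := fun pq => ⟨by norm_num, fun r' h₀ h2 => ⟨hd r' h₀ h2 _ _, hd r' h₀ h2 _ _⟩⟩
      β := fun pq => ?_ }, ?_, ?_, ?_⟩
  · -- β
    refine eqToIso (hX2 pq) ≪≫ ?_
    by_cases hp : pq.1 = 0
    · have e1 : P1.homology pq ≅ H (pq.1 + pq.2) :=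
        eqToIso (by
          congr 1
          exact Prod.ext hp rfl) ≪≫ (h0 pq.2).some ≪≫ eqToIso (by rw [hp, zero_add])
      refine e1 ≪≫ (subquotTopBotIso _ _ _ ?_ ?_).symm
      · simp [fil, hp]
      · simp [fil, hp]
    · refine (h1 pq.1 pq.2 hp).iso (isZero_subquot_of_eq _ _ _ ?_)
      dsimp only [fil]
      split_ifs <;> first | rfl | omega
  · intro n
    refine ⟨⟨0, ?_⟩, ⟨1, ?_⟩⟩
    · change fil H n 0 = ⊤
      exact if_pos le_rfl
    · change fil H n 1 = ⊥
      exact if_neg (by norm_num)
  · intro n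
    refine (Set.finite_Icc (0 : ℤ) n).subset ?_
    intro p hp
    by_contra hcon
    apply hp
    change IsZero ((page P1 1).X (p, n - p))
    rw [page_one]
    apply hz
    simp only [Set.mem_Icc, not_and_or, not_le] at hcon
    omega
  · intro p q
    exact ⟨eqToIso (by
      change (page P1 1).X (p, q) = _
      rw [page_one])⟩

end Groth.Agent.R2.H38.DegSS
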