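import Mathlib
import Groth.Agent.Lib.Helper23DerLES

/-!
# helper38: right derived functors of `Z⁰ ∘ M` for a degreewise exact functor `M` to cochain
complexes, with `M` acyclic on injectives: `Rⁿ(Z⁰ ∘ M) X ≅ Hⁿ(M X)`.
-/

set_option autoImplicit false
set_option linter.unusedSectionVars false

open CategoryTheory CategoryTheory.Limits

namespace Groth.Agent.R2.H38.DerCx

universe v v' u u'

section CyclesAdditive

variable {D : Type u'} [Category.{v'} D] [Abelian D] {ι : Type*} (c : ComplexShape ι)

theorem cyclesMap_add {K L : HomologicalComplex D c} (f g : K ⟶ L) (i : ι) :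
    HomologicalComplex.cyclesMap (f + g) i =
      HomologicalComplex.cyclesMap f i + HomologicalComplex.cyclesMap g i := by
  rw [← cancel_mono (L.iCycles i), Preadditive.add_comp]
  simp only [HomologicalComplex.cyclesMap_i, HomologicalComplex.add_f_apply,
    Preadditive.comp_add]

instance cyclesFunctor_additive (i : ι) : (HomologicalComplex.cyclesFunctor D c i).Additive where
  map_add {_ _ f g} := cyclesMap_add c f g i

theorem toCycles_naturality {K L : HomologicalComplex D c} (φ : K ⟶ L) (i j : ι) :
    φ.f i ≫ L.toCycles i j = K.toCycles i j ≫ HomologicalComplex.cyclesMap φ j := by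
  rw [← cancel_mono (L.iCycles j)]
  simp [HomologicalComplex.cyclesMap_i]

theorem iCycles_toCycles (K : HomologicalComplex D c) (i j : ι) :
    K.iCycles i ≫ K.toCycles i j = 0 := by
  rw [← cancel_mono (K.iCycles j), Category.assoc,
    HomologicalComplex.toCycles_i, HomologicalComplex.iCycles_d, zero_comp]

end CyclesAdditive

section ExactVanish

variable {A : Type u} [Category.{v} A] [Abelian A] [HasInjectiveResolutions A]
  {D : Type u'} [Category.{v'} D] [Abelian D]

/-- the higher right derived functors of an exact functor vanish. -/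
theorem isZero_rightDerived_of_exact (F : A ⥤ D) [F.Additive] [PreservesFiniteLimits F]
    [PreservesFiniteColimits F] (n : ℕ) (X : A) : IsZero ((F.rightDerived (n + 1)).obj X) := by
  let I := injectiveResolution X
  refine IsZero.of_iso ?_ (I.isoRightDerivedObj F (n + 1))
  apply HomologicalComplex.ExactAt.isZero_homology
  have h := I.cocomplex_exactAt_succ n
  rw [HomologicalComplex.exactAt_iff] at h ⊢
  exact h.map F

end ExactVanish

section Main

variable {A : Type u} [Category.{v} A] [Abelian A] [HasInjectiveResolutions A]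
  {D : Type u'} [Category.{v'} D] [Abelian D]
  (M : A ⥤ CochainComplex D ℕ) [M.Additive]

/-- the `k`-cocycles of `M`. -/
noncomputable abbrev Z (k : ℕ) : A ⥤ D :=
  M ⋙ HomologicalComplex.cyclesFunctor D (ComplexShape.up ℕ) k

/-- the degree `k` part of `M`. -/
noncomputable abbrev E (k : ℕ) : A ⥤ D :=
  M ⋙ HomologicalComplex.eval D (ComplexShape.up ℕ) k

/-- the inclusion of cocycles. -/
noncomputable def α (k : ℕ) : Z M k ⟶ E M k where
  app X := (M.obj X).iCycles k
  naturality _ _ f := HomologicalComplex.cyclesMap_i (M.map f) k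

/-- the differential, as a map to cocycles. -/
noncomputable def β (k : ℕ) : E M k ⟶ Z M (k + 1) where
  app X := (M.obj X).toCycles k (k + 1)
  naturality _ _ f := toCycles_naturality _ (M.map f) k (k + 1)

omit [HasInjectiveResolutions A] in
theorem w_app (k : ℕ) (X : A) : (α M k).app X ≫ (β M k).app X = 0 :=
  iCycles_toCycles _ (M.obj X) k (k + 1)

omit [HasInjectiveResolutions A] in
theorem w (k : ℕ) : α M k ≫ β M k = 0 := by
  ext X
  exact w_app M k X

/-- on objects where `M` is exact in degree `k + 1`, the sequence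
`0 ⟶ Zᵏ ⟶ Mᵏ ⟶ Zᵏ⁺¹ ⟶ 0` is short exact. -/
theorem shortExact_of_exactAt (k : ℕ) (Q : A) (hQ : (M.obj Q).ExactAt (k + 1)) :
    (ShortComplex.mk ((α M k).app Q) ((β M k).app Q) (w_app M k Q)).ShortExact := by
  have hmono : Mono ((α M k).app Q) := inferInstanceAs (Mono ((M.obj Q).iCycles k))
  have hepi : Epi ((β M k).app Q) :=
    Preadditive.epi_of_isZero_cokernel' _
      ((M.obj Q).homologyIsCokernel k (k + 1) (by simp)) hQ.isZero_homology
  have hex : (ShortComplex.mk ((α M k).app Q) ((β M k).app Q) (w_app M k Q)).Exact := by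
    apply ShortComplex.exact_of_f_is_kernel
    exact isKernelOfComp ((M.obj Q).iCycles (k + 1)) ((M.obj Q).d k (k + 1))
      ((M.obj Q).cyclesIsKernel k (k + 1) (by simp)) (w_app M k Q)
      ((M.obj Q).toCycles_i k (k + 1))
  exact { exact := hex, mono_f := hmono, epi_g := hepi }

section LeftExact

variable [hE : ∀ k, PreservesFiniteLimits (E M k)]

theorem preservesFiniteLimits_Z (k : ℕ) : PreservesFiniteLimits (Z M k) := by
  rw [Functor.preservesFiniteLimits_iff_forall_exact_map_and_mono]
  intro S hS
  have hdeg : ∀ i, (S.map (E M i)).Exact ∧ Mono ((E M i).map S.f) := fun i =>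
    (Functor.preservesFiniteLimits_iff_forall_exact_map_and_mono (E M i)).1 (hE i) S hS
  have hexact : (S.map M).Exact :=
    HomologicalComplex.exact_of_degreewise_exact _ (fun i => (hdeg i).1)
  have hmono : Mono (S.map M).f :=
    HomologicalComplex.mono_of_mono_f _ (fun i => (hdeg i).2)
  refine ⟨HomologicalComplex.cycles_left_exact (S.map M) hexact k, ?_⟩
  exact inferInstanceAs (Mono (HomologicalComplex.cyclesMap (S.map M).f k))

end LeftExact

section Shift

open Groth.Agent.Lib.Helper23DerLES

variable [hE : ∀ k, PreservesFiniteLimits (E M k)] [hE' : ∀ k, PreservesFiniteColimits (E M k)]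
  (hM : ∀ Q : A, Injective Q → ∀ k, (M.obj Q).ExactAt (k + 1))

include hM in
theorem hex (k : ℕ) : ∀ Q : A, Injective Q →
    (ShortComplex.mk ((α M k).app Q) ((β M k).app Q) (by
      rw [← NatTrans.comp_app, w]; rfl)).ShortExact :=
  fun Q hQ => shortExact_of_exactAt M k Q (hM Q hQ k)

include hM in
theorem base (k : ℕ) (X : A) :
    Nonempty (((Z M k).rightDerived 1).obj X ≅ (M.obj X).homology (k + 1)) := by
  have := preservesFiniteLimits_Z M (k + 1)
  have hz : IsZero (((E M k).rightDerived 1).obj X) := isZero_rightDerived_of_exact (E M k) 0 X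
  have hepi : Epi ((γ (α M k) (β M k) (w M k) (hex M hM k)).app X) :=
    epi_γ_app (α M k) (β M k) (w M k) (hex M hM k) X hz
  have hc₂ := (exact_β_γ_app (α M k) (β M k) (w M k) (hex M hM k) X).gIsCokernel
  exact ⟨IsColimit.coconePointUniqueUpToIso hc₂
    ((M.obj X).homologyIsCokernel k (k + 1) (by simp))⟩

include hM in
theorem shift (n : ℕ) : ∀ (k m : ℕ), m = k + n + 1 → ∀ (X : A),
    Nonempty (((Z M k).rightDerived (n + 1)).obj X ≅ (M.obj X).homology m) := by
  induction n with
  | zero =>
    intro k m hm X
    obtain rfl : m = k + 1 := by omega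
    exact base M hM k X
  | succ n ih =>
    intro k m hm X
    obtain ⟨e⟩ := ih (k + 1) m (by omega) X
    have hiso : IsIso (δ (α M k) (β M k) (w M k) (hex M hM k) (n + 1)) :=
      isIso_δ (α M k) (β M k) (w M k) (hex M hM k) (n + 1)
        (fun X => isZero_rightDerived_of_exact (E M k) n X)
        (fun X => isZero_rightDerived_of_exact (E M k) (n + 1) X)
    exact ⟨((asIso (δ (α M k) (β M k) (w M k) (hex M hM k) (n + 1))).app X).symm ≪≫ e⟩

include hM in
/-- `Rⁿ(Z⁰ ∘ M) X ≅ Hⁿ(M X)`. -/
theorem main (X : A) (n : ℕ) :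
    Nonempty (((Z M 0).rightDerived n).obj X ≅ (M.obj X).homology n) := by
  cases n with
  | zero =>
    have := preservesFiniteLimits_Z M 0
    exact ⟨(Functor.rightDerivedZeroIsoSelf (Z M 0)).app X ≪≫
      (CochainComplex.isoHomologyπ₀ (M.obj X))⟩
  | succ n => exact shift M hM n 0 (n + 1) (by omega) X

end Shift

end Main

end Groth.Agent.R2.H38.DerCx
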