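import Mathlib
import Groth.Agent.R2.H38DerCx

/-!
# helper38: the alternating coface complex of cosimplicial objects in an abelian category

* `N D` is additive, degreewise exact;
* injective cosimplicial objects have acyclic coface complex in positive degrees;
* `lim ≅ N ⋙ Z⁰`.
-/

set_option autoImplicit false
set_option linter.unusedSectionVars false

open CategoryTheory CategoryTheory.Limits Simplicial

namespace Groth.Agent.R2.H38.DerCos

universe v' u'

variable {D : Type u'} [Category.{v'} D] [Abelian D]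

variable (D) in
/-- the alternating coface map complex, on `SimplexCategory ⥤ D`. -/
abbrev N : (SimplexCategory ⥤ D) ⥤ CochainComplex D ℕ :=
  AlgebraicTopology.alternatingCofaceMapComplex D

instance : (N D).Additive where
  map_add {F G f g} := by
    ext n
    rfl

/-- `N ⋙ eval k` is evaluation at `⦋k⦌`. -/
def evalIso (k : ℕ) : N D ⋙ HomologicalComplex.eval D (ComplexShape.up ℕ) k ≅
    (evaluation SimplexCategory D).obj ⦋k⦌ :=
  NatIso.ofComponents (fun _ => Iso.refl _) (fun f =>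
    (Category.comp_id (f.app ⦋k⦌)).trans (Category.id_comp (f.app ⦋k⦌)).symm)

instance (k : ℕ) : PreservesFiniteLimits
    (N D ⋙ HomologicalComplex.eval D (ComplexShape.up ℕ) k) :=
  preservesFiniteLimits_of_natIso (evalIso k).symm

instance (k : ℕ) : PreservesFiniteColimits
    (N D ⋙ HomologicalComplex.eval D (ComplexShape.up ℕ) k) :=
  preservesFiniteColimits_of_natIso (evalIso k).symm

/-- a short complex with a contraction is exact. -/
theorem exact_of_contraction (S : ShortComplex D) (s : S.X₂ ⟶ S.X₁) (s' : S.X₃ ⟶ S.X₂)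
    (h : S.g ≫ s' + s ≫ S.f = 𝟙 S.X₂) : S.Exact := by
  rw [S.exact_iff_epi_kernel_lift]
  have hs : (kernel.ι S.g ≫ s) ≫ kernel.lift S.g S.f S.zero = 𝟙 _ := by
    rw [← cancel_mono (kernel.ι S.g), Category.assoc, Category.assoc, kernel.lift_ι,
      Category.id_comp]
    have h2 : kernel.ι S.g ≫ (S.g ≫ s' + s ≫ S.f) = kernel.ι S.g := by
      rw [h, Category.comp_id]
    rw [Preadditive.comp_add, kernel.condition_assoc, zero_comp, zero_add] at h2
    exact h2
  exact epi_of_epi_fac hs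

section G

variable [HasProducts.{0} D] (F : SimplexCategory ⥤ D)

/-- the index type of the products. -/
abbrev Idx (x : SimplexCategory) : Type := Σ m : SimplexCategory, (x ⟶ m)

/-- `G F x = ∏_{x ⟶ m} F m`. -/
noncomputable def GObj (x : SimplexCategory) : D := ∏ᶜ (fun p : Idx x => F.obj p.1)

/-- the projections. -/
noncomputable def pr0 (x m : SimplexCategory) (β : x ⟶ m) : GObj F x ⟶ F.obj m :=
  Pi.π (fun p : Idx x => F.obj p.1) ⟨m, β⟩

theorem G_ext0 {x : SimplexCategory} {W : D} (f g : W ⟶ GObj F x)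
    (h : ∀ (m : SimplexCategory) (β : x ⟶ m), f ≫ pr0 F x m β = g ≫ pr0 F x m β) : f = g :=
  Pi.hom_ext _ _ (fun ⟨m, β⟩ => h m β)

/-- maps to `G F x`. -/
noncomputable def mk0 {x : SimplexCategory} {W : D}
    (f : ∀ (m : SimplexCategory) (_ : x ⟶ m), W ⟶ F.obj m) : W ⟶ GObj F x :=
  Pi.lift (fun p : Idx x => f p.1 p.2)

theorem mk0_pr0 {x : SimplexCategory} {W : D}
    (f : ∀ (m : SimplexCategory) (_ : x ⟶ m), W ⟶ F.obj m) (m : SimplexCategory) (β : x ⟶ m) :
    mk0 F f ≫ pr0 F x m β = f m β :=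
  Pi.lift_π _ _

/-- the cosimplicial object `G F`. -/
noncomputable def G : SimplexCategory ⥤ D where
  obj x := GObj F x
  map {x _} θ := mk0 F (fun m β => pr0 F x m (θ ≫ β))
  map_id x := by
    apply G_ext0; intro m β
    rw [mk0_pr0, Category.id_comp, Category.id_comp]
  map_comp θ θ' := by
    apply G_ext0; intro m β
    rw [Category.assoc, mk0_pr0, mk0_pr0, mk0_pr0, Category.assoc]

/-- the projections. -/
noncomputable def pr (x m : SimplexCategory) (β : x ⟶ m) : (G F).obj x ⟶ F.obj m :=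
  pr0 F x m β

theorem G_ext {x : SimplexCategory} {W : D} (f g : W ⟶ (G F).obj x)
    (h : ∀ (m : SimplexCategory) (β : x ⟶ m), f ≫ pr F x m β = g ≫ pr F x m β) : f = g :=
  G_ext0 F f g h

/-- maps to `G F x`. -/
noncomputable def mk {x : SimplexCategory} {W : D}
    (f : ∀ (m : SimplexCategory) (_ : x ⟶ m), W ⟶ F.obj m) : W ⟶ (G F).obj x :=
  mk0 F f

theorem mk_pr {x : SimplexCategory} {W : D}
    (f : ∀ (m : SimplexCategory) (_ : x ⟶ m), W ⟶ F.obj m) (m : SimplexCategory) (β : x ⟶ m) :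
    mk F f ≫ pr F x m β = f m β :=
  mk0_pr0 F f m β

theorem G_map_pr {x y : SimplexCategory} (θ : x ⟶ y) (m : SimplexCategory) (β : y ⟶ m) :
    (G F).map θ ≫ pr F y m β = pr F x m (θ ≫ β) :=
  mk0_pr0 F (fun m β => pr0 F x m (θ ≫ β)) m β

/-- the unit `F ⟶ G F`. -/
noncomputable def η : F ⟶ G F where
  app x := mk F (fun _ β => F.map β)
  naturality x y θ := by
    apply G_ext; intro m β
    rw [Category.assoc, Category.assoc, mk_pr, G_map_pr, mk_pr, ← F.map_comp]

theorem η_pr (x m : SimplexCategory) (β : x ⟶ m) : (η F).app x ≫ pr F x m β = F.map β :=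
  mk_pr F _ m β

instance : Mono (η F) := by
  have : ∀ x, Mono ((η F).app x) := fun x => by
    have h : (η F).app x ≫ pr F x x (𝟙 x) = 𝟙 _ := by rw [η_pr, F.map_id]
    exact mono_of_mono_fac h
  exact NatTrans.mono_of_mono_app _

section Contraction

open SSet.Augmented.StandardSimplex

theorem shift_δ_zero {n : ℕ} {Δ : SimplexCategory} (f : ⦋n⦌ ⟶ Δ) :
    SimplexCategory.δ 0 ≫ shift f = f := by
  apply SimplexCategory.Hom.ext
  ext j : 2
  dsimp [SimplexCategory.δ]
  change shiftFun (⇑(SimplexCategory.Hom.toOrderHom f)) (Fin.succAbove 0 j) = _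
  rw [Fin.succAbove_zero, shiftFun_succ]

theorem shift_δ_succ {n : ℕ} {Δ : SimplexCategory} (f : ⦋n + 1⦌ ⟶ Δ) (i : Fin (n + 2)) :
    SimplexCategory.δ i.succ ≫ shift f = shift (SimplexCategory.δ i ≫ f) := by
  apply SimplexCategory.Hom.ext
  ext j : 2
  dsimp [SimplexCategory.δ]
  cases j using Fin.cases <;> simp

/-- the contraction of `N (G F)`. -/
noncomputable def sc (k : ℕ) : (G F).obj ⦋k + 1⦌ ⟶ (G F).obj ⦋k⦌ :=
  mk F (fun m α => pr F ⦋k + 1⦌ m (shift α))

theorem sc_pr (k : ℕ) (m : SimplexCategory) (α : ⦋k⦌ ⟶ m) :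
    sc F k ≫ pr F ⦋k⦌ m α = pr F ⦋k + 1⦌ m (shift α) :=
  mk_pr F _ m α

/-- the differential of `N (G F)`. -/
noncomputable def dG (k : ℕ) : (G F).obj ⦋k⦌ ⟶ (G F).obj ⦋k + 1⦌ :=
  ((N D).obj (G F)).d k (k + 1)

theorem dG_eq (k : ℕ) : dG F k =
    ∑ i : Fin (k + 2), (-1 : ℤ) ^ (i : ℕ) • (G F).map (SimplexCategory.δ i) :=
  CochainComplex.of_d (fun n => (G F).obj ⦋n⦌)
    (AlgebraicTopology.AlternatingCofaceMapComplex.objD (G F)) k

theorem dG_pr (k : ℕ) (m : SimplexCategory) (α : ⦋k + 1⦌ ⟶ m) :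
    dG F k ≫ pr F ⦋k + 1⦌ m α =
      ∑ i : Fin (k + 2), (-1 : ℤ) ^ (i : ℕ) • pr F ⦋k⦌ m (SimplexCategory.δ i ≫ α) := by
  rw [dG_eq, Preadditive.sum_comp]
  refine Finset.sum_congr rfl (fun i _ => ?_)
  rw [Preadditive.zsmul_comp, G_map_pr]

theorem contraction (k : ℕ) :
    dG F (k + 1) ≫ sc F (k + 1) + sc F k ≫ dG F k = 𝟙 ((G F).obj ⦋k + 1⦌) := by
  apply G_ext
  intro m α
  rw [Preadditive.add_comp, Category.assoc, Category.assoc, sc_pr, dG_pr, dG_pr,
    Preadditive.comp_sum, Fin.sum_univ_succ, Category.id_comp]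
  simp only [Fin.val_zero, pow_zero, one_smul, shift_δ_zero, shift_δ_succ, Fin.val_succ,
    pow_succ, Preadditive.comp_zsmul, sc_pr]
  simp

theorem exactAt_G (k : ℕ) : ((N D).obj (G F)).ExactAt (k + 1) := by
  rw [HomologicalComplex.exactAt_iff' _ k (k + 1) (k + 2) (by simp) (by simp)]
  exact exact_of_contraction _ (sc F k) (sc F (k + 1)) (contraction F k)

end Contraction

/-- injective cosimplicial objects have acyclic coface complexes in positive degrees. -/
theorem exactAt_of_injective (I : SimplexCategory ⥤ D) [Injective I] (k : ℕ) :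
    ((N D).obj I).ExactAt (k + 1) := by
  rw [HomologicalComplex.exactAt_iff_isZero_homology]
  have hG := (exactAt_G I k).isZero_homology
  let r : G I ⟶ I := Injective.factorThru (𝟙 I) (η I)
  have hr : η I ≫ r = 𝟙 I := Injective.comp_factorThru (𝟙 I) (η I)
  rw [IsZero.iff_id_eq_zero]
  have h1 : HomologicalComplex.homologyMap ((N D).map (η I)) (k + 1) ≫
      HomologicalComplex.homologyMap ((N D).map r) (k + 1) = 𝟙 _ := by
    rw [← HomologicalComplex.homologyMap_comp, ← (N D).map_comp, hr, (N D).map_id,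
      HomologicalComplex.homologyMap_id]
  rw [← h1, hG.eq_of_tgt (HomologicalComplex.homologyMap ((N D).map (η I)) (k + 1)) 0,
    zero_comp]

end G

section Lim

variable (F : SimplexCategory ⥤ D)

/-- the inclusion of `Z⁰(N F)` into `F ⦋0⦌`. -/
noncomputable def ι0 : ((N D).obj F).cycles 0 ⟶ F.obj ⦋0⦌ := ((N D).obj F).iCycles 0

instance : Mono (ι0 F) := inferInstanceAs (Mono (((N D).obj F).iCycles 0))

/-- the first differential. -/
noncomputable def d01 : F.obj ⦋0⦌ ⟶ F.obj ⦋1⦌ := ((N D).obj F).d 0 1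

theorem d01_eq : d01 F =
    F.map (SimplexCategory.δ (0 : Fin 2)) - F.map (SimplexCategory.δ (1 : Fin 2)) := by
  have h : d01 F = ∑ i : Fin 2, (-1 : ℤ) ^ (i : ℕ) • F.map (SimplexCategory.δ i) :=
    CochainComplex.of_d (fun n => F.obj ⦋n⦌)
      (AlgebraicTopology.AlternatingCofaceMapComplex.objD F) 0
  rw [h, Fin.sum_univ_two]
  simp [sub_eq_add_neg]

theorem ι0_d01 : ι0 F ≫ d01 F = 0 := ((N D).obj F).iCycles_d 0 1

theorem ι0_δ : ι0 F ≫ F.map (SimplexCategory.δ (0 : Fin 2)) =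
    ι0 F ≫ F.map (SimplexCategory.δ (1 : Fin 2)) := by
  have h : ι0 F ≫ d01 F = 0 := ι0_d01 F
  rw [d01_eq, Preadditive.comp_sub, sub_eq_zero] at h
  exact h

theorem ι0_vertex_le (x : SimplexCategory) (a b : Fin (x.len + 1)) (h : a ≤ b) :
    ι0 F ≫ F.map (SimplexCategory.const ⦋0⦌ x a) =
      ι0 F ≫ F.map (SimplexCategory.const ⦋0⦌ x b) := by
  let e : ⦋1⦌ ⟶ x := SimplexCategory.mkOfLe (n := x.len) a b h
  have h1 : SimplexCategory.δ (1 : Fin 2) ≫ e = SimplexCategory.const ⦋0⦌ x a :=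
    SimplexCategory.Hom.ext_zero_left _ _ rfl
  have h0 : SimplexCategory.δ (0 : Fin 2) ≫ e = SimplexCategory.const ⦋0⦌ x b :=
    SimplexCategory.Hom.ext_zero_left _ _ rfl
  rw [← h1, ← h0, F.map_comp, F.map_comp, ← Category.assoc, ← Category.assoc, ι0_δ]

theorem ι0_vertex (x : SimplexCategory) (a b : Fin (x.len + 1)) :
    ι0 F ≫ F.map (SimplexCategory.const ⦋0⦌ x a) =
      ι0 F ≫ F.map (SimplexCategory.const ⦋0⦌ x b) := by
  rcases le_total a b with h | h
  · exact ι0_vertex_le F x a b h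
  · exact (ι0_vertex_le F x b a h).symm

/-- the legs of the cone with point `Z⁰(N F)`. -/
noncomputable def coneLeg (x : SimplexCategory) : ((N D).obj F).cycles 0 ⟶ F.obj x :=
  ι0 F ≫ F.map (SimplexCategory.const ⦋0⦌ x 0)

theorem coneLeg_w {x y : SimplexCategory} (θ : x ⟶ y) :
    coneLeg F x ≫ F.map θ = coneLeg F y := by
  dsimp only [coneLeg]
  rw [Category.assoc, ← F.map_comp, SimplexCategory.const_comp]
  exact ι0_vertex F y _ _

theorem coneLeg_zero : coneLeg F ⦋0⦌ = ι0 F := by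
  dsimp only [coneLeg]
  rw [SimplexCategory.const_eq_id, F.map_id, Category.comp_id]

/-- the cone with point `Z⁰(N F)`. -/
noncomputable def cone : Cone F where
  pt := ((N D).obj F).cycles 0
  π :=
    { app := fun x => coneLeg F x
      naturality := fun _ _ θ => (Category.id_comp _).trans (coneLeg_w F θ).symm }

/-- the legs of a cone. -/
def leg (s : Cone F) (x : SimplexCategory) : s.pt ⟶ F.obj x := s.π.app x

theorem leg_w (s : Cone F) {x y : SimplexCategory} (θ : x ⟶ y) :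
    leg F s x ≫ F.map θ = leg F s y := s.w θ

theorem leg_d01 (s : Cone F) : leg F s ⦋0⦌ ≫ d01 F = 0 := by
  rw [d01_eq, Preadditive.comp_sub, sub_eq_zero, leg_w, leg_w]

/-- the lift to `Z⁰(N F)`. -/
noncomputable def coneLift (s : Cone F) : s.pt ⟶ ((N D).obj F).cycles 0 :=
  ((N D).obj F).liftCycles (leg F s ⦋0⦌) 1 (by simp) (leg_d01 F s)

theorem coneLift_ι0 (s : Cone F) : coneLift F s ≫ ι0 F = leg F s ⦋0⦌ :=
  ((N D).obj F).liftCycles_i _ _ _ _

theorem coneLift_coneLeg (s : Cone F) (x : SimplexCategory) :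
    coneLift F s ≫ coneLeg F x = leg F s x := by
  dsimp only [coneLeg]
  rw [← Category.assoc, coneLift_ι0, leg_w]

theorem coneLift_uniq (s : Cone F) (m : s.pt ⟶ ((N D).obj F).cycles 0)
    (hm : m ≫ coneLeg F ⦋0⦌ = leg F s ⦋0⦌) : m = coneLift F s := by
  rw [← cancel_mono (ι0 F), coneLift_ι0, ← coneLeg_zero]
  exact hm

/-- `Z⁰(N F)` is the limit of `F`. -/
noncomputable def isLimit : IsLimit (cone F) where
  lift s := coneLift F s
  fac s x := coneLift_coneLeg F s x
  uniq s m hm := coneLift_uniq F s m (hm ⦋0⦌)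

end Lim

section Final

variable [HasLimitsOfShape SimplexCategory D]

/-- `lim F ≅ Z⁰(N F)`. -/
noncomputable def limIsoApp (F : SimplexCategory ⥤ D) : limit F ≅ ((N D).obj F).cycles 0 :=
  (limit.isLimit F).conePointUniqueUpToIso (isLimit F)

theorem limIsoApp_hom_ι0 (F : SimplexCategory ⥤ D) :
    (limIsoApp F).hom ≫ ι0 F = limit.π F ⦋0⦌ := by
  have h := IsLimit.conePointUniqueUpToIso_hom_comp (limit.isLimit F) (isLimit F) ⦋0⦌
  rw [← coneLeg_zero]
  exact h

theorem limIsoApp_naturality {F F' : SimplexCategory ⥤ D} (f : F ⟶ F') :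
    limMap f ≫ (limIsoApp F').hom =
      (limIsoApp F).hom ≫ HomologicalComplex.cyclesMap ((N D).map f) 0 := by
  rw [← cancel_mono (ι0 F'), Category.assoc, Category.assoc, limIsoApp_hom_ι0, limMap_π]
  have h : HomologicalComplex.cyclesMap ((N D).map f) 0 ≫ ι0 F' = ι0 F ≫ f.app ⦋0⦌ :=
    HomologicalComplex.cyclesMap_i ((N D).map f) 0
  rw [h, ← Category.assoc, limIsoApp_hom_ι0]

/-- `lim ≅ N ⋙ Z⁰`. -/
noncomputable def limIso : (lim : (SimplexCategory ⥤ D) ⥤ D) ≅
    N D ⋙ HomologicalComplex.cyclesFunctor D (ComplexShape.up ℕ) 0 :=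
  NatIso.ofComponents (fun F => limIsoApp F) (fun f => limIsoApp_naturality f)

/-- right derived functors of isomorphic functors. -/
noncomputable def rightDerivedIso {A : Type*} [Category A] [Abelian A] [HasInjectiveResolutions A]
    {T T' : A ⥤ D} [T.Additive] [T'.Additive] (e : T ≅ T') (n : ℕ) :
    T.rightDerived n ≅ T'.rightDerived n where
  hom := NatTrans.rightDerived e.hom n
  inv := NatTrans.rightDerived e.inv n
  hom_inv_id := by
    rw [← NatTrans.rightDerived_comp, e.hom_inv_id, NatTrans.rightDerived_id]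
  inv_hom_id := by
    rw [← NatTrans.rightDerived_comp, e.inv_hom_id, NatTrans.rightDerived_id]

/-- `Rⁿ lim F ≅ Hⁿ(N F)`. -/
theorem rightDerived_lim_iso [HasProducts.{0} D] [HasInjectiveResolutions (SimplexCategory ⥤ D)]
    [(lim : (SimplexCategory ⥤ D) ⥤ D).Additive] (F : SimplexCategory ⥤ D) (n : ℕ) :
    Nonempty (((lim : (SimplexCategory ⥤ D) ⥤ D).rightDerived n).obj F ≅
      ((N D).obj F).homology n) := by
  obtain ⟨e⟩ := DerCx.main (N D) (fun Q _ k => exactAt_of_injective Q k) F n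
  exact ⟨(rightDerivedIso limIso n).app F ≪≫ e⟩

end Final

end Groth.Agent.R2.H38.DerCos
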