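import Mathlib

/-!
# helper38: right derived functors and post-composition with an exact functor
-/

set_option autoImplicit false

open CategoryTheory CategoryTheory.Limits

namespace Groth.Agent.R2.H38.DerPost

universe v₁ v₂ v₃ u₁ u₂ u₃

variable {A : Type u₁} [Category.{v₁} A] [Abelian A] [HasInjectiveResolutions A]
  {B : Type u₂} [Category.{v₂} B] [Abelian B]
  {B' : Type u₃} [Category.{v₃} B'] [Abelian B']

/-- `Rq(F ⋙ E) X ≅ E(RqF X)` for an exact functor `E`. -/
theorem rightDerived_comp_exact (F : A ⥤ B) [F.Additive] (E : B ⥤ B') [E.Additive]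
    [PreservesFiniteLimits E] [PreservesFiniteColimits E] (X : A) (q : ℕ) :
    Nonempty (((F ⋙ E).rightDerived q).obj X ≅ E.obj ((F.rightDerived q).obj X)) := by
  let I := injectiveResolution X
  let K := (F.mapHomologicalComplex (ComplexShape.up ℕ)).obj I.cocomplex
  have e1 := I.isoRightDerivedObj (F ⋙ E) q
  have e2 : (((F ⋙ E).mapHomologicalComplex (ComplexShape.up ℕ)).obj I.cocomplex).homology q ≅
      E.obj (K.homology q) := (K.sc q).mapHomologyIso E
  have e3 := E.mapIso (I.isoRightDerivedObj F q).symm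
  exact ⟨e1 ≪≫ e2 ≪≫ e3⟩

end Groth.Agent.R2.H38.DerPost
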