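import Groth.Prelude.Def_EtCore
import Mathlib.CategoryTheory.Sites.Pullback
import Mathlib.CategoryTheory.Abelian.GrothendieckAxioms.Basic
import Mathlib.Algebra.Category.Grp.AB
import Mathlib.CategoryTheory.Retract
import Groth.Agent.R2.H38ExtRetract

/-!
# helper38: inverse image of abelian etale sheaves is exact; retractions on etale cohomology

* `pull_preservesFiniteLimits f : PreservesFiniteLimits (EtCoh.pull f)` for an arbitrary morphism of schemes
  (left Kan extension along the flat functor `EtCoh.bc f` is exact because filtered colimits are exact in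
  `AddCommGrpCat.{u+1}`, also for index categories with objects in `Type (u+1)`).
* `pullId X : EtCoh.pull (𝟙 X) ≅ 𝟭`.
* `nonempty_retract`: for `t ≫ g = 𝟙 Z`, `H^q(Z, G)` is a retract of `H^q(Y, g^* G)`.
-/

set_option autoImplicit false
universe v₁ v₂ v₃ u₁ u₂ u₃ u
open CategoryTheory CategoryTheory.Limits Opposite AlgebraicGeometry CategoryTheory.Abelian

namespace Groth.Agent.R2.H38.EtPull

section General

variable {C : Type u₁} [Category.{v₁} C] {D : Type u₂} [Category.{v₂} D]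
  (E : Type u₃) [Category.{v₃} E]

set_option backward.defeqAttrib.useBackward true in
set_option backward.isDefEq.respectTransparency false in
/-- The evaluation of `F.lan` at `X` is the colimit over the costructured arrows over `X`
(any universes). -/
noncomputable def lanEvaluationIsoColim' (F : C ⥤ D) (X : D)
    [∀ X : D, HasColimitsOfShape (CostructuredArrow F X) E] :
    F.lan ⋙ (evaluation D E).obj X ≅
      (Functor.whiskeringLeft _ _ E).obj (CostructuredArrow.proj F X) ⋙ colim :=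
  NatIso.ofComponents (fun G =>
    IsColimit.coconePointUniqueUpToIso
    (Functor.isPointwiseLeftKanExtensionLeftKanExtensionUnit F G X)
    (colimit.isColimit _)) (fun {G₁ G₂} φ => by
      apply (Functor.isPointwiseLeftKanExtensionLeftKanExtensionUnit F G₁ X).hom_ext
      intro T
      have h₁ := fun (G : C ⥤ E) => IsColimit.comp_coconePointUniqueUpToIso_hom
        (Functor.isPointwiseLeftKanExtensionLeftKanExtensionUnit F G X) (colimit.isColimit _) T
      have h₂ := congr_app (F.lanUnit.naturality φ) T.left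
      dsimp at h₁ h₂ ⊢
      simp only [Category.assoc] at h₁ ⊢
      simp only [Functor.lan, Functor.lanUnit] at h₂ ⊢
      rw [reassoc_of% h₁, NatTrans.naturality_assoc, ← reassoc_of% h₂, h₁,
        ι_colimMap, Functor.whiskerLeft_app]
      rfl)

theorem lan_preservesFiniteLimits_of_flat' (F : C ⥤ D) [RepresentablyFlat F]
    [HasFiniteLimits E]
    [∀ X : Dᵒᵖ, HasColimitsOfShape (CostructuredArrow F.op X) E]
    [∀ X : Dᵒᵖ, HasExactColimitsOfShape (CostructuredArrow F.op X) E] :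
    PreservesFiniteLimits (F.op.lan : (Cᵒᵖ ⥤ E) ⥤ Dᵒᵖ ⥤ E) := by
  apply preservesFiniteLimits_of_preservesFiniteLimitsOfSize.{0}
  intro J _ _
  apply preservesLimitsOfShape_of_evaluation (F.op.lan : (Cᵒᵖ ⥤ E) ⥤ Dᵒᵖ ⥤ E) J
  intro K
  exact preservesLimitsOfShape_of_natIso (lanEvaluationIsoColim' _ _ _).symm

end General

section Et

variable {X Y Z : Scheme.{u}}

instance hasExactColimits_costructuredArrow_bc (g : X ⟶ Y) (d : (X.Etale)ᵒᵖ) :
    HasExactColimitsOfShape (CostructuredArrow (EtCoh.bc g).op d) AddCommGrpCat.{u + 1} := by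
  have : IsFiltered (CostructuredArrow (EtCoh.bc g).op d) :=
    IsFiltered.of_equivalence (structuredArrowOpEquivalence (EtCoh.bc g) (unop d))
  have := AB5OfSize_of_univLE.{u, u + 1, u + 1, u + 1} AddCommGrpCat.{u + 1}
  exact AB5OfSize.ofShape _

/-- the inverse image of abelian etale sheaves is left exact -/
instance pull_preservesFiniteLimits (g : X ⟶ Y) : PreservesFiniteLimits (EtCoh.pull g) := by
  have h : PreservesFiniteLimits
      ((EtCoh.bc g).op.lan : (_ ⥤ _ ⥤ AddCommGrpCat.{u + 1})) :=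
    lan_preservesFiniteLimits_of_flat' AddCommGrpCat.{u + 1} (EtCoh.bc g)
  exact Functor.sheafPullbackConstruction.preservesFiniteLimits (EtCoh.bc g)
    AddCommGrpCat.{u + 1} Y.smallEtaleTopology X.smallEtaleTopology

end Et

section Gen
variable {C : Type u₁} [Category.{v₁} C] {A A' B : C}

/-- `A ×_B B ≅ A` -/
noncomputable def fstIdIso (h : A ⟶ B) [HasPullback h (𝟙 B)] : pullback h (𝟙 B) ≅ A where
  hom := pullback.fst h (𝟙 B)
  inv := pullback.lift (𝟙 _) h (by simp)
  hom_inv_id := by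
    apply pullback.hom_ext
    · simp [pullback.lift_fst]
    · simp [pullback.lift_snd, pullback.condition]
  inv_hom_id := by simp [pullback.lift_fst]

lemma fstIdIso_hom_comp (h : A ⟶ B) [HasPullback h (𝟙 B)] :
    (fstIdIso h).hom ≫ h = pullback.snd h (𝟙 B) := by
  simp [fstIdIso, pullback.condition]

lemma fstIdIso_nat (h : A ⟶ B) (h' : A' ⟶ B) (g : A ⟶ A') (w : g ≫ h' = h)
    [HasPullback h (𝟙 B)] [HasPullback h' (𝟙 B)] :
    pullback.lift (pullback.fst h (𝟙 B) ≫ g) (pullback.snd h (𝟙 B))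
      (by simp [w, pullback.condition]) ≫ (fstIdIso h').hom = (fstIdIso h).hom ≫ g := by
  simp [fstIdIso, pullback.lift_fst]

end Gen

section Et2

variable {X Y Z : Scheme.{u}}

set_option backward.isDefEq.respectTransparency.types false in
/-- base change along the identity is the identity (on objects) -/
noncomputable def bcIdApp (X : Scheme.{u}) (U : X.Etale) : (EtCoh.bc (𝟙 X)).obj U ≅ U :=
  MorphismProperty.Over.isoMk (fstIdIso (U.hom : U.left ⟶ X)) (fstIdIso_hom_comp _)

set_option backward.isDefEq.respectTransparency.types false in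
/-- base change along the identity is the identity -/
noncomputable def bcId (X : Scheme.{u}) : EtCoh.bc (𝟙 X) ≅ 𝟭 X.Etale :=
  NatIso.ofComponents (fun U => bcIdApp X U)
    (fun {U V} g => by
      apply MorphismProperty.Over.Hom.ext
      exact fstIdIso_nat (U.hom : U.left ⟶ X) (V.hom : V.left ⟶ X) g.left (Over.w g.hom))

/-- `(𝟙 X)_* ≅ 𝟭` -/
noncomputable def pushId (X : Scheme.{u}) : EtCoh.push (𝟙 X) ≅ 𝟭 (EtCoh.Ab X) :=
  Functor.sheafPushforwardContinuousId' (bcId X) AddCommGrpCat.{u + 1} X.smallEtaleTopology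

/-- `(𝟙 X)^{-1} ≅ 𝟭` -/
noncomputable def pullId (X : Scheme.{u}) : EtCoh.pull (𝟙 X) ≅ 𝟭 (EtCoh.Ab X) :=
  Adjunction.leftAdjointUniq (EtCoh.pullPushAdj (𝟙 X))
    ((Adjunction.id (C := EtCoh.Ab X)).ofNatIsoRight (pushId X).symm)

/-- the retraction isomorphism `g^* ⋙ t^* ≅ 𝟭` for `t ≫ g = 𝟙` -/
noncomputable def retrIso (g : Y ⟶ Z) (t : Z ⟶ Y) (h : t ≫ g = 𝟙 Z) :
    EtCoh.pull g ⋙ EtCoh.pull t ≅ 𝟭 (EtCoh.Ab Z) :=
  (EtCore.pullComp t g).symm ≪≫ EtCore.pullCongr h ≪≫ pullId Z

/-- the cohomology group `H^q(Y_et, G)` as an object of `AddCommGrpCat` (a wrapper which keeps the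
`Ext`-groups out of the terms of later definitions) -/
noncomputable def Hq {Y : Scheme.{u}} (G : EtCoh.Ab Y) (q : ℕ) : AddCommGrpCat.{u + 1} :=
  AddCommGrpCat.of (EtCoh.H Y G q)

lemma Hq_eq {Y : Scheme.{u}} (G : EtCoh.Ab Y) (q : ℕ) :
    Hq G q = AddCommGrpCat.of (EtCoh.H Y G q) := rfl

/-- the constant sheaf `ℤ` -/
noncomputable abbrev ZZ (X : Scheme.{u}) : EtCoh.Ab X := EtCoh.const X ℤ

/-- `H^q(Z, G)` is a retract of `H^q(Y, G')` when `G' ≅ g^* G` and `g` has a section. -/
theorem nonempty_retract (g : Y ⟶ Z) (t : Z ⟶ Y) (h : t ≫ g = 𝟙 Z) (G : EtCoh.Ab Z)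
    (G' : EtCoh.Ab Y) (e : (EtCoh.pull g).obj G ≅ G') (q : ℕ) :
    Nonempty (Retract (Hq G q) (Hq G' q)) := by
  let Φ := EtCoh.pull g
  let Ψ := EtCoh.pull t
  let η := retrIso g t h
  let a : Ext.{u + 1} (Φ.obj (ZZ Z)) (Φ.obj G) q →+ Ext.{u + 1} (ZZ Y) G' q :=
    ((Ext.mk₀ (EtCore.pullConst g ℤ).inv).precomp G' (zero_add q)).comp
      ((Ext.mk₀ e.hom).postcomp (Φ.obj (ZZ Z)) (add_zero q))
  let b : Ext.{u + 1} (ZZ Y) G' q →+ Ext.{u + 1} (Φ.obj (ZZ Z)) (Φ.obj G) q :=
    ((Ext.mk₀ (EtCore.pullConst g ℤ).hom).precomp (Φ.obj G) (zero_add q)).comp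
      ((Ext.mk₀ e.inv).postcomp (ZZ Y) (add_zero q))
  have hab : ∀ x, b (a x) = x := by
    intro x
    change (Ext.mk₀ (EtCore.pullConst g ℤ).hom).comp
      (((Ext.mk₀ (EtCore.pullConst g ℤ).inv).comp (x.comp (Ext.mk₀ e.hom) (add_zero q))
        (zero_add q)).comp (Ext.mk₀ e.inv) (add_zero q)) (zero_add q) = x
    rw [Ext.comp_assoc_of_third_deg_zero, Ext.comp_assoc_of_third_deg_zero, Ext.mk₀_comp_mk₀,
      Ext.mk₀_comp_mk₀_assoc]
    simp
  refine ⟨⟨AddCommGrpCat.ofHom (a.comp (Φ.mapExtAddHom (ZZ Z) G q)),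
    AddCommGrpCat.ofHom ((ExtRetract.retr Φ Ψ η (ZZ Z) G q).comp b), ?_⟩⟩
  ext x
  change ExtRetract.retr Φ Ψ η (ZZ Z) G q (b (a (Φ.mapExtAddHom (ZZ Z) G q x))) = x
  rw [hab, ExtRetract.retr_map]

end Et2

end Groth.Agent.R2.H38.EtPull
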