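import Mathlib
import Groth.Agent.S8604

/-!
# helper38: trace of the linear Frobenius on the fixed vectors of a `p`-linear map (for S8618)
-/

set_option autoImplicit false
set_option linter.unusedSectionVars false
universe u
open TensorProduct

namespace Groth.Agent.R2.H38.FrobTrace

section General

variable {K : Type*} [Field K] {U : Type*} [AddCommGroup U] [Module K U] [FiniteDimensional K U]

/-- additivity of the trace over a pair of complementary invariant subspaces -/
theorem trace_eq_add_of_isCompl (T : U →ₗ[K] U) (P N : Submodule K U) (h : IsCompl P N)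
    (hP : ∀ x ∈ P, T x ∈ P) (hN : ∀ x ∈ N, T x ∈ N) :
    LinearMap.trace K U T =
      LinearMap.trace K P (T.restrict hP) + LinearMap.trace K N (T.restrict hN) := by
  let e := Submodule.prodEquivOfIsCompl P N h
  have hT : e.conj ((T.restrict hP).prodMap (T.restrict hN)) = T := by
    apply LinearMap.ext
    intro x
    obtain ⟨⟨a, b⟩, rfl⟩ := e.surjective x
    rw [LinearEquiv.conj_apply_apply, LinearEquiv.symm_apply_apply]
    simp [e, Submodule.coe_prodEquivOfIsCompl']
  calc LinearMap.trace K U T = LinearMap.trace K U (e.conj ((T.restrict hP).prodMap (T.restrict hN))) :=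
        congrArg _ hT.symm
    _ = _ := by rw [LinearMap.trace_conj', LinearMap.trace_prodMap']

/-- the trace of a nilpotent endomorphism vanishes -/
theorem trace_eq_zero_of_isNilpotent (T : U →ₗ[K] U) (hT : IsNilpotent T) :
    LinearMap.trace K U T = 0 :=
  (LinearMap.isNilpotent_trace_of_isNilpotent hT).eq_zero

end General

section BasisCompare

variable {F₀ : Type*} [Field F₀] {K : Type*} [Field K] [Algebra F₀ K]
  {U : Type*} [AddCommGroup U] [Module K U] [Module F₀ U] [IsScalarTower F₀ K U]

/-- the trace of a `K`-linear map on the `K`-span of an `F₀`-form `W`, in terms of the trace on `W` -/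
theorem trace_restrict_span_eq (W : Submodule F₀ U) {n : ℕ} (β : Module.Basis (Fin n) F₀ W)
    (hli : LinearIndependent K (fun i => ((β i : W) : U)))
    (T : U →ₗ[K] U) (G : W →ₗ[F₀] W) (hG : ∀ w : W, ((G w : W) : U) = T w)
    (P : Submodule K U) (hP : P = Submodule.span K (Set.range fun i => ((β i : W) : U)))
    (hTP : ∀ x ∈ P, T x ∈ P) :
    LinearMap.trace K P (T.restrict hTP) = algebraMap F₀ K (LinearMap.trace F₀ W G) := by
  subst hP
  let b : Module.Basis (Fin n) K (Submodule.span K (Set.range fun i => ((β i : W) : U))) :=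
    Module.Basis.span hli
  have hb : ∀ i, ((b i : _) : U) = (β i : W) := fun i => by
    simp [b, Module.Basis.span_apply]
  rw [LinearMap.trace_eq_matrix_trace K b, LinearMap.trace_eq_matrix_trace F₀ β, Matrix.trace,
    Matrix.trace, map_sum]
  refine Finset.sum_congr rfl fun i _ => ?_
  simp only [Matrix.diag_apply, LinearMap.toMatrix_apply]
  have hexp : (T.restrict hTP) (b i) = ∑ j, algebraMap F₀ K (β.repr (G (β i)) j) • b j := by
    apply Subtype.ext
    rw [LinearMap.coe_restrict_apply, hb, ← hG]
    conv_lhs => rw [← β.sum_repr (G (β i))]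
    rw [Submodule.coe_sum, Submodule.coe_sum]
    refine Finset.sum_congr rfl fun j _ => ?_
    rw [Submodule.coe_smul, Submodule.coe_smul, hb, algebraMap_smul]
  rw [hexp, b.repr_sum_self]

end BasisCompare

section Indep

variable {p : ℕ} {F₀ : Type*} [Field F₀] [CharP F₀ p] {K : Type*} [Field K] [Algebra F₀ K]
  {U : Type*} [AddCommGroup U] [Module K U] [Module F₀ U] [IsScalarTower F₀ K U]

/-- `F₀`-independent fixed vectors are `K`-independent, from the integer form of the statement -/
theorem linearIndependent_of_fixed (φK : U →+ U)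
    (hind : ∀ (s : Finset U), (∀ v ∈ s, φK v = v) →
      (∀ c : s → ℤ, (∑ v : s, c v • (v : U)) = 0 → ∀ v : s, (p : ℤ) ∣ c v) →
        LinearIndependent K (fun v : s => (v : U)))
    (W : Submodule F₀ U) (hW : ∀ y, y ∈ W → φK y = y) {ι : Type*} [Finite ι] (w : ι → W)
    (hw : LinearIndependent F₀ w) : LinearIndependent K (fun i => ((w i : W) : U)) := by
  classical
  have := Fintype.ofFinite ι
  have hinj : Function.Injective (fun i => ((w i : W) : U)) :=
    Subtype.val_injective.comp hw.injective
  let s : Finset U := Finset.univ.image (fun i => ((w i : W) : U))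
  have hs : ∀ v ∈ s, φK v = v := by
    intro v hv
    obtain ⟨i, -, rfl⟩ := Finset.mem_image.1 hv
    exact hW _ (w i).2
  have key := hind s hs ?_
  · let e : ι → s := fun i => ⟨(w i : U), Finset.mem_image.2 ⟨i, Finset.mem_univ _, rfl⟩⟩
    have he : Function.Injective e := fun i j h => hinj (congrArg (fun x : s => (x : U)) h)
    exact key.comp e he
  · intro c hc
    -- reindex the sum over `ι`
    let e : ι → s := fun i => ⟨(w i : U), Finset.mem_image.2 ⟨i, Finset.mem_univ _, rfl⟩⟩
    have he : Function.Bijective e := by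
      constructor
      · exact fun i j h => hinj (congrArg (fun x : s => (x : U)) h)
      · rintro ⟨v, hv⟩
        obtain ⟨i, -, rfl⟩ := Finset.mem_image.1 hv
        exact ⟨i, rfl⟩
    have hsum : ∑ i : ι, c (e i) • ((w i : W) : U) = 0 := by
      rw [← hc]
      exact Fintype.sum_bijective e he _ _ (fun i => rfl)
    have hsumW : ∑ i : ι, ((c (e i) : ℤ) : F₀) • w i = 0 := by
      apply Subtype.val_injective
      rw [Submodule.coe_sum, Submodule.coe_zero, ← hsum]
      refine Finset.sum_congr rfl fun i _ => ?_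
      rw [Submodule.coe_smul, Int.cast_smul_eq_zsmul]
    have hzero := Fintype.linearIndependent_iff.1 hw _ hsumW
    intro v
    obtain ⟨i, rfl⟩ := he.2 v
    exact (CharP.intCast_eq_zero_iff F₀ p _).1 (hzero i)

/-- the fixed vectors form a finite-dimensional `F₀`-space -/
theorem finite_of_fixed [FiniteDimensional K U] (φK : U →+ U)
    (hind : ∀ (s : Finset U), (∀ v ∈ s, φK v = v) →
      (∀ c : s → ℤ, (∑ v : s, c v • (v : U)) = 0 → ∀ v : s, (p : ℤ) ∣ c v) →
        LinearIndependent K (fun v : s => (v : U)))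
    (W : Submodule F₀ U) (hW : ∀ y, y ∈ W → φK y = y) : Module.Finite F₀ W := by
  rw [← Module.rank_lt_aleph0_iff]
  refine lt_of_le_of_lt (rank_le (n := Module.finrank K U) fun s hs => ?_) Cardinal.natCast_lt_aleph0
  have := linearIndependent_of_fixed (p := p) φK hind W hW (fun i : s => (i : W)) hs
  simpa using this.fintype_card_le_finrank

end Indep

/-- a finite-dimensional subspace has a finite basis (stated so that instance paths unify) -/
theorem exists_finBasis {F₀ : Type*} [Field F₀] {U : Type*} [AddCommGroup U] [Module F₀ U]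
    (W : Submodule F₀ U) (h : Module.Finite F₀ W) :
    ∃ n : ℕ, Nonempty (Module.Basis (Fin n) F₀ W) :=
  ⟨_, ⟨Module.finBasis F₀ W⟩⟩

/-- characteristic of a subfield -/
theorem charP_subfield {k : Type*} [Field k] (p : ℕ) [CharP k p] (S : Subfield k) : CharP S p :=
  RingHom.charP (algebraMap S k) (algebraMap S k).injective p

section Setting

variable {p : ℕ} [Fact p.Prime] (k : Type u) [Field k] [Fintype k] [CharP k p] (f : ℕ)
  (hq : Fintype.card k = p ^ f)
  (K : Type u) [Field K] [Algebra k K]
  (V : Type u) [AddCommGroup V] [Module k V]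
  (φ : V →ₛₗ[frobenius k p] V) (F : V →ₗ[k] V) (hF : ∀ x, F x = (⇑φ)^[f] x)
  (φK : K ⊗[k] V →+ K ⊗[k] V) (hφK : ∀ (μ : K) (v : V), φK (μ ⊗ₜ[k] v) = (μ ^ p) ⊗ₜ[k] φ v)

include hφK in
/-- `φK` is `p`-semilinear over `K` -/
theorem phiK_smul (c : K) (y : K ⊗[k] V) : φK (c • y) = c ^ p • φK y := by
  induction y using TensorProduct.induction_on with
  | zero => simp
  | tmul μ v => rw [TensorProduct.smul_tmul', hφK, hφK, smul_eq_mul, mul_pow, TensorProduct.smul_tmul',
      smul_eq_mul]
  | add y z hy hz => rw [smul_add, map_add, hy, hz, map_add, smul_add]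

include hF hφK in
/-- `φK` commutes with the base change of `F` -/
theorem phiK_comm (y : K ⊗[k] V) : φK (F.baseChange K y) = F.baseChange K (φK y) := by
  induction y using TensorProduct.induction_on with
  | zero => simp
  | tmul μ v =>
    rw [LinearMap.baseChange_tmul, hφK, hφK, LinearMap.baseChange_tmul, hF, hF,
      ← Function.iterate_succ_apply' φ, Function.iterate_succ_apply φ]
  | add y z hy hz => rw [map_add, map_add, hy, hz, map_add, map_add]

include hφK in
/-- iterates of `φK` on pure tensors -/
theorem phiK_iterate_tmul (m : ℕ) (μ : K) (v : V) :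
    (⇑φK)^[m] (μ ⊗ₜ[k] v) = (μ ^ (p ^ m)) ⊗ₜ[k] ((⇑φ)^[m] v) := by
  induction m generalizing μ v with
  | zero => simp
  | succ m ih =>
    rw [Function.iterate_succ_apply, hφK, ih, ← pow_mul, ← pow_succ',
      ← Function.iterate_succ_apply φ]

include hF in
theorem F_pow_apply (m : ℕ) (v : V) : (F ^ m) v = (⇑φ)^[f * m] v := by
  induction m generalizing v with
  | zero => simp
  | succ m ih =>
    rw [pow_succ, Module.End.mul_apply, ih, hF, ← Function.iterate_add_apply, Nat.mul_succ]

include hq in
theorem pow_card_pow_eq (m : ℕ) (c : k) : c ^ (p ^ (f * m)) = c := by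
  induction m with
  | zero => simp
  | succ m ih =>
    rw [Nat.mul_succ, pow_add, pow_mul, ih, ← hq, FiniteField.pow_card]

end Setting

section Nilpotent

variable {p : ℕ} [Fact p.Prime] (k : Type u) [Field k] [Fintype k] [CharP k p] (f : ℕ)
  (hq : Fintype.card k = p ^ f)
  (K : Type u) [Field K] [Algebra k K] [CharP K p]
  (V : Type u) [AddCommGroup V] [Module k V]
  (φ : V →ₛₗ[frobenius k p] V) (F : V →ₗ[k] V) (hF : ∀ x, F x = (⇑φ)^[f] x)
  (φK : K ⊗[k] V →+ K ⊗[k] V) (hφK : ∀ (μ : K) (v : V), φK (μ ⊗ₜ[k] v) = (μ ^ p) ⊗ₜ[k] φ v)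

include hq in
/-- the `p^(f m)`-power map of `K`, as a `k`-linear map -/
noncomputable def frobLin (m : ℕ) : K →ₗ[k] K where
  toFun x := x ^ (p ^ (f * m))
  map_add' x y := add_pow_char_pow x y p (f * m)
  map_smul' c x := by
    simp only [Algebra.smul_def, mul_pow, ← map_pow, pow_card_pow_eq k f hq m c, RingHom.id_apply]

theorem frobLin_injective (m : ℕ) : Function.Injective (frobLin k f hq K m) :=
  iterateFrobenius_inj K p (f * m)

/-- the semilinear twist on `K ⊗ V` -/
noncomputable def tau (m : ℕ) : K ⊗[k] V →ₗ[k] K ⊗[k] V := (frobLin k f hq K m).rTensor V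

theorem tau_injective (m : ℕ) : Function.Injective (tau k f hq K V m) :=
  Module.Flat.rTensor_preserves_injective_linearMap _ (frobLin_injective k f hq K m)

include hF hφK in
theorem phiK_iterate_eq (m : ℕ) (y : K ⊗[k] V) :
    (⇑φK)^[f * m] y = tau k f hq K V m ((F.baseChange K ^ m) y) := by
  induction y using TensorProduct.induction_on with
  | zero => simp [iterate_map_zero]
  | tmul μ v =>
    rw [phiK_iterate_tmul k K V φ φK hφK, ← LinearMap.baseChange_pow, LinearMap.baseChange_tmul,
      F_pow_apply k f V φ F hF]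
    rfl
  | add y z hy hz => rw [iterate_map_add, hy, hz, map_add, map_add]

include hq hF hφK in
/-- vectors killed by an iterate of `φK` are killed by a power of the base change of `F` -/
theorem exists_pow_eq_zero (y : K ⊗[k] V) (hy : ∃ m : ℕ, (⇑φK)^[m] y = 0) :
    ∃ m : ℕ, (F.baseChange K ^ m) y = 0 := by
  obtain ⟨m, hm⟩ := hy
  have hf : f ≠ 0 := by
    rintro rfl
    have := Fintype.one_lt_card (α := k)
    rw [hq, pow_zero] at this
    omega
  obtain ⟨f', rfl⟩ : ∃ f', f = f' + 1 := ⟨f - 1, by omega⟩
  refine ⟨m, tau_injective k (f' + 1) hq K V m ?_⟩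
  rw [← phiK_iterate_eq k (f' + 1) hq K V φ F hF φK hφK, map_zero,
    show (f' + 1) * m = f' * m + m by ring, Function.iterate_add_apply, hm, iterate_map_zero]

include hq hF hφK in
theorem exists_pow_eq_zero_of_mem_span (y : K ⊗[k] V)
    (hy : y ∈ Submodule.span K {v : K ⊗[k] V | ∃ m : ℕ, (⇑φK)^[m] v = 0}) :
    ∃ m : ℕ, (F.baseChange K ^ m) y = 0 := by
  induction hy using Submodule.span_induction with
  | mem y hy => exact exists_pow_eq_zero k f hq K V φ F hF φK hφK y hy
  | zero => exact ⟨0, by simp⟩
  | add y z _ _ hy hz =>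
    obtain ⟨a, ha⟩ := hy
    obtain ⟨b, hb⟩ := hz
    refine ⟨a + b, ?_⟩
    have h1 : (F.baseChange K ^ (a + b)) y = 0 := by
      rw [add_comm a b, pow_add, Module.End.mul_apply, ha, map_zero]
    have h2 : (F.baseChange K ^ (a + b)) z = 0 := by
      rw [pow_add, Module.End.mul_apply, hb, map_zero]
    rw [map_add, h1, h2, add_zero]
  | smul c y _ hy =>
    obtain ⟨a, ha⟩ := hy
    exact ⟨a, by rw [map_smul, ha, smul_zero]⟩

end Nilpotent

end Groth.Agent.R2.H38.FrobTrace
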