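import Mathlib.Algebra.Homology.ShortComplex.HomologicalComplex
import Mathlib.Algebra.Homology.ShortComplex.Abelian
import Mathlib.Algebra.Homology.ShortComplex.ExactFunctor
import Mathlib.Algebra.Homology.HomologicalComplexAbelian
import Mathlib.Algebra.Homology.ShortComplex.Exact
import Mathlib.CategoryTheory.Abelian.Refinements

/-!
# helper38: the zig-zag complex of a tower of split monomorphisms

Given objects `A n` (`n : ℕ`) and `H` of an abelian category together with split monomorphisms
`H ⟶ A 0` and `A n ⟶ A (n + 1)`, there is a differential `d n : A n ⟶ A (n + 1)` making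
`0 ⟶ H ⟶ A 0 ⟶ A 1 ⟶ ⋯` a (split) exact complex: with `e 0 = 𝟙 - rH ≫ iH`,
`e (n + 1) = 𝟙 - r n ≫ e n ≫ i n` (idempotents) one takes `d n = e n ≫ i n`.
-/

set_option autoImplicit false
universe v u
open CategoryTheory CategoryTheory.Limits

namespace Groth.Agent.R2.H38.ZigZag

variable {C : Type u} [Category.{v} C]

/-- A tower of split monomorphisms `H ⟶ A 0 ⟶ A 1 ⟶ ⋯`. -/
structure Tower (C : Type u) [Category.{v} C] where
  /-- the objects -/
  A : ℕ → C
  /-- the base object -/
  H : C
  /-- the split monomorphisms -/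
  i : ∀ n, A n ⟶ A (n + 1)
  /-- their retractions -/
  r : ∀ n, A (n + 1) ⟶ A n
  ir : ∀ n, i n ≫ r n = 𝟙 (A n)
  /-- the first split monomorphism -/
  iH : H ⟶ A 0
  /-- its retraction -/
  rH : A 0 ⟶ H
  iHrH : iH ≫ rH = 𝟙 H

namespace Tower

section Preadditive

variable [Preadditive C] (T : Tower C)

/-- the idempotents -/
def e : ∀ n, T.A n ⟶ T.A n
  | 0 => 𝟙 _ - T.rH ≫ T.iH
  | n + 1 => 𝟙 _ - T.r n ≫ e n ≫ T.i n

lemma e_zero : T.e 0 = 𝟙 _ - T.rH ≫ T.iH := rfl

lemma e_succ (n : ℕ) : T.e (n + 1) = 𝟙 _ - T.r n ≫ T.e n ≫ T.i n := rfl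

lemma ir_assoc' (n : ℕ) {Z : C} (f : T.A n ⟶ Z) : T.i n ≫ T.r n ≫ f = f := by
  rw [← Category.assoc, T.ir, Category.id_comp]

lemma iHrH_assoc' {Z : C} (f : T.H ⟶ Z) : T.iH ≫ T.rH ≫ f = f := by
  rw [← Category.assoc, T.iHrH, Category.id_comp]

lemma e_idem (n : ℕ) : T.e n ≫ T.e n = T.e n := by
  cases n with
  | zero =>
    rw [e_zero]
    simp only [Preadditive.sub_comp, Preadditive.comp_sub, Category.id_comp, Category.comp_id,
      Category.assoc, iHrH_assoc']
    abel
  | succ n =>
    have ih := e_idem n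
    rw [e_succ]
    simp only [Preadditive.sub_comp, Preadditive.comp_sub, Category.id_comp, Category.comp_id,
      Category.assoc, ir_assoc']
    rw [← Category.assoc (T.e n) (T.e n), ih]
    abel

/-- the zig-zag differential -/
def d (n : ℕ) : T.A n ⟶ T.A (n + 1) := T.e n ≫ T.i n

lemma d_comp_d (n : ℕ) : T.d n ≫ T.d (n + 1) = 0 := by
  have ih := T.e_idem n
  simp only [d, e_succ, Preadditive.sub_comp, Preadditive.comp_sub, Category.id_comp,
    Category.comp_id, Category.assoc, ir_assoc']
  rw [← Category.assoc (T.e n) (T.e n), ih]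
  abel

/-- the contracting homotopy -/
def s (n : ℕ) : T.A (n + 1) ⟶ T.A n := T.r n ≫ T.e n

lemma homotopy (n : ℕ) : T.s n ≫ T.d n + T.d (n + 1) ≫ T.s (n + 1) = 𝟙 (T.A (n + 1)) := by
  have ih := T.e_idem n
  have ih' := T.e_idem (n + 1)
  simp only [s, d, Category.assoc, ir_assoc']
  rw [ih', ← Category.assoc (T.e n) (T.e n), ih, e_succ]
  abel

lemma iH_comp_d : T.iH ≫ T.d 0 = 0 := by
  simp only [d, e_zero, Preadditive.sub_comp, Preadditive.comp_sub, Category.id_comp,
    Category.comp_id, Category.assoc, iHrH_assoc']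
  abel

/-- `iH` is a kernel of `d 0`. -/
def isLimitKernelFork : IsLimit (KernelFork.ofι T.iH T.iH_comp_d) :=
  KernelFork.IsLimit.ofι _ _ (fun {W} x _ => x ≫ T.rH)
    (fun {W} x hx => by
      have h1 : x ≫ T.e 0 = 0 := by
        have := congrArg (fun f => f ≫ T.r 0) hx
        simpa [d, T.ir] using this
      rw [e_zero, Preadditive.comp_sub, Category.comp_id, sub_eq_zero] at h1
      rw [Category.assoc, ← h1])
    (fun {W} x _ m hm => by
      rw [← hm, Category.assoc, T.iHrH, Category.comp_id])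

/-- the zig-zag cochain complex -/
noncomputable def complex : CochainComplex C ℕ := CochainComplex.of T.A T.d T.d_comp_d

@[simp] lemma complex_X (n : ℕ) : T.complex.X n = T.A n := rfl

@[simp] lemma complex_d (n : ℕ) : T.complex.d n (n + 1) = T.d n :=
  CochainComplex.of_d _ _ n

end Preadditive

section Abelian

variable [Abelian C] (T : Tower C)

/-- a short complex with a contracting homotopy is exact -/
lemma exact_of_homotopy (S : ShortComplex C) (s : S.X₂ ⟶ S.X₁) (t : S.X₃ ⟶ S.X₂)
    (h : s ≫ S.f + S.g ≫ t = 𝟙 S.X₂) : S.Exact := by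
  rw [S.exact_iff_exact_up_to_refinements]
  intro W x hx
  refine ⟨W, 𝟙 W, inferInstance, x ≫ s, ?_⟩
  rw [Category.id_comp, Category.assoc]
  calc x = x ≫ 𝟙 _ := (Category.comp_id x).symm
    _ = x ≫ (s ≫ S.f + S.g ≫ t) := by rw [h]
    _ = x ≫ s ≫ S.f := by
      rw [Preadditive.comp_add, ← Category.assoc x S.g, hx, zero_comp, add_zero]

lemma exactAt_succ (n : ℕ) : T.complex.ExactAt (n + 1) := by
  rw [T.complex.exactAt_iff' n (n + 1) (n + 2) (by simp) (by simp)]
  refine exact_of_homotopy _ (T.s n) (T.s (n + 1)) ?_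
  dsimp only [HomologicalComplex.sc', HomologicalComplex.shortComplexFunctor']
  rw [T.complex_d n, T.complex_d (n + 1)]
  exact T.homotopy n

/-- the homology in degree `0` is `H` -/
noncomputable def homologyZeroIso : T.complex.homology 0 ≅ T.H := by
  have hf : (T.complex.sc' 0 0 1).f = 0 := T.complex.shape 0 0 (by simp)
  have hg : (T.complex.sc' 0 0 1).g = T.d 0 := T.complex_d 0
  let c : KernelFork (T.complex.sc' 0 0 1).g :=
    KernelFork.ofι T.iH (by rw [hg]; exact T.iH_comp_d)
  have hc : IsLimit c :=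
    KernelFork.IsLimit.ofι _ _ (fun {W} x hx => T.isLimitKernelFork.lift
        (KernelFork.ofι x (by rw [← hg]; exact hx)))
      (fun {W} x hx => T.isLimitKernelFork.fac
        (KernelFork.ofι x (by rw [← hg]; exact hx)) WalkingParallelPair.zero)
      (fun {W} x hx m hm => Fork.IsLimit.hom_ext T.isLimitKernelFork (by
        rw [Fork.IsLimit.lift_ι]
        exact hm))
  exact (T.complex.homologyIsoSc' 0 0 1 (by simp) (by simp)) ≪≫
    (ShortComplex.LeftHomologyData.ofIsLimitKernelFork _ hf c hc).homologyIso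

end Abelian

end Tower

end Groth.Agent.R2.H38.ZigZag
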