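import Mathlib.Algebra.Homology.Embedding.ExtendHomology
import Mathlib.Algebra.Homology.Embedding.Basic
import Mathlib.CategoryTheory.Limits.Shapes.ZeroObjects
import Groth.Agent.R2.H38ZigZag
import Groth.Agent.R2.H38DegSS

/-!
# helper38: the first page built from rows, and the spectral sequence of a family of split towers
-/

set_option autoImplicit false
universe v u
open CategoryTheory CategoryTheory.Limits

namespace Groth.Agent.R2.H38.Grid

open Groth.Agent.R2.H38.DegSS Groth.Agent.R2.H38.ZigZag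

variable {C : Type u} [Category.{v} C] [Abelian C]

/-- the first page whose `q`-th row is the complex `R q` -/
noncomputable def grid (R : ℤ → CochainComplex C ℤ) : HomologicalComplex C (shp 1) where
  X pq := (R pq.2).X pq.1
  d pq pq' := if h : pq.2 = pq'.2 then (R pq.2).d pq.1 pq'.1 ≫ eqToHom (by rw [h]) else 0
  shape := by
    rintro ⟨p, q⟩ ⟨p', q'⟩ hrel
    by_cases h : q = q'
    · subst h
      rw [dif_pos rfl]
      have : ¬ (ComplexShape.up ℤ).Rel p p' := fun h' => hrel (by
        simp only [ComplexShape.up'_Rel, Prod.mk_add_mk, Prod.mk.injEq]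
        exact ⟨h', by omega⟩)
      rw [(R q).shape _ _ this, zero_comp]
    · exact dif_neg h
  d_comp_d' := by
    rintro ⟨p, q⟩ ⟨p', q'⟩ ⟨p'', q''⟩ h h'
    simp only [ComplexShape.up'_Rel, Prod.mk_add_mk, Prod.mk.injEq] at h h'
    obtain ⟨rfl, hq⟩ := h
    obtain ⟨rfl, hq'⟩ := h'
    obtain rfl : q = q' := by omega
    obtain rfl : q = q'' := by omega
    simp

lemma grid_d (R : ℤ → CochainComplex C ℤ) (p p' q : ℤ) :
    (grid R).d (p, q) (p', q) = (R q).d p p' := by
  simp [grid]

lemma prev_eq (p q : ℤ) : (shp 1).prev (p, q) = (p - 1, q) :=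
  ComplexShape.prev_eq' _ (by
    simp only [ComplexShape.up'_Rel, Prod.mk_add_mk, Prod.mk.injEq]
    omega)

lemma next_eq (p q : ℤ) : (shp 1).next (p, q) = (p + 1, q) :=
  ComplexShape.next_eq' _ (by
    simp only [ComplexShape.up'_Rel, Prod.mk_add_mk, Prod.mk.injEq]
    exact ⟨trivial, by omega⟩)

/-- the homology of the first page is the homology of the rows -/
noncomputable def gridHomologyIso (R : ℤ → CochainComplex C ℤ) (p q : ℤ) :
    (grid R).homology (p, q) ≅ (R q).homology p :=
  (grid R).homologyIsoSc' (p - 1, q) (p, q) (p + 1, q) (prev_eq p q) (next_eq p q) ≪≫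
    ShortComplex.homologyMapIso
      (ShortComplex.isoMk (Iso.refl _) (Iso.refl _) (Iso.refl _)
        ((Category.id_comp _).trans ((grid_d R (p - 1) p q).symm.trans (Category.comp_id _).symm))
        ((Category.id_comp _).trans ((grid_d R p (p + 1) q).symm.trans (Category.comp_id _).symm)) :
        (grid R).sc' (p - 1, q) (p, q) (p + 1, q) ≅ (R q).sc' (p - 1) p (p + 1)) ≪≫
    ((R q).homologyIsoSc' (p - 1) p (p + 1) (by simp) (by simp)).symm

/-- the row attached to a tower -/
noncomputable def row (T : Tower C) : CochainComplex C ℤ :=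
  T.complex.extend ComplexShape.embeddingUpNat

lemma isZero_row_X_of_neg (T : Tower C) (p : ℤ) (hp : p < 0) : IsZero ((row T).X p) :=
  HomologicalComplex.isZero_extend_X _ _ _ (fun n => by
    simp only [ComplexShape.embeddingUpNat_f]
    omega)

/-- the terms of the row -/
noncomputable def rowXIso (T : Tower C) (n : ℕ) : (row T).X n ≅ T.A n :=
  HomologicalComplex.extendXIso _ _ (by simp)

lemma isZero_row_homology_of_ne (T : Tower C) (p : ℤ) (hp : p ≠ 0) :
    IsZero ((row T).homology p) := by
  rw [← HomologicalComplex.exactAt_iff_isZero_homology]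
  by_cases h : p < 0
  · exact HomologicalComplex.extend_exactAt _ _ _ (fun n => by
      simp only [ComplexShape.embeddingUpNat_f]
      omega)
  · obtain ⟨n, rfl⟩ : ∃ n : ℕ, p = ((n + 1 : ℕ) : ℤ) := ⟨(p - 1).toNat, by omega⟩
    exact (HomologicalComplex.extend_exactAt_iff _ _ (j := n + 1) (by simp)).2 (T.exactAt_succ n)

/-- the homology of the row in degree zero -/
noncomputable def rowHomologyZeroIso (T : Tower C) : (row T).homology 0 ≅ T.H :=
  HomologicalComplex.extendHomologyIso _ _ (j := 0) (by simp) ≪≫ T.homologyZeroIso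

theorem exists_ss_of_towers (T : ℤ → Tower C) (hT : ∀ q, q < 0 → ∀ n, IsZero ((T q).A n))
    (H : ℤ → C) (hH : ∀ q, Nonempty ((T q).H ≅ H q)) :
    ∃ (E : CohomologicalSpectralSequence C 1) (a : SpSeq.Abutment E H),
      (∀ n, a.IsFinite n) ∧ SpSeq.IsBounded E ∧
        ∀ p q : ℤ, (∀ n : ℕ, p = n → Nonempty ((E.page 1 le_rfl).X (p, q) ≅ (T q).A n)) ∧
          (p < 0 → IsZero ((E.page 1 le_rfl).X (p, q))) := by
  let R : ℤ → CochainComplex C ℤ := fun q => row (T q)
  obtain ⟨E, a, h1, h2, h3⟩ := exists_ss (grid R) H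
    (fun q => ⟨gridHomologyIso R 0 q ≪≫ rowHomologyZeroIso (T q) ≪≫ (hH q).some⟩)
    (fun p q hp => IsZero.of_iso (isZero_row_homology_of_ne (T q) p hp) (gridHomologyIso R p q))
    (fun p q hpq => by
      change IsZero ((row (T q)).X p)
      by_cases hp : p < 0
      · exact isZero_row_X_of_neg _ _ hp
      · obtain ⟨n, rfl⟩ : ∃ n : ℕ, p = (n : ℤ) := ⟨p.toNat, by omega⟩
        exact IsZero.of_iso (hT q (by omega) n) (rowXIso (T q) n))
  refine ⟨E, a, h1, h2, fun p q => ⟨?_, ?_⟩⟩
  · rintro n rfl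
    exact ⟨(h3 n q).some ≪≫ rowXIso (T q) n⟩
  · intro hp
    exact IsZero.of_iso (isZero_row_X_of_neg (T q) p hp) (h3 p q).some

open ZeroObject in
/-- the trivial tower -/
noncomputable def trivialTower (C : Type u) [Category.{v} C] [Abelian C] : Tower C where
  A _ := (0 : C)
  H := (0 : C)
  i _ := 0
  r _ := 0
  ir _ := (isZero_zero C).eq_of_src _ _
  iH := 0
  rH := 0
  iHrH := (isZero_zero C).eq_of_src _ _

end Groth.Agent.R2.H38.Grid
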