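import Mathlib

/-!
# Sections of `FormalCoproduct.yoneda` and maps into coskeleta (helper38)
-/

set_option autoImplicit false

open CategoryTheory Opposite Limits Simplicial

universe u

namespace Groth.Agent.R2.H38.HypFC

section Sections

variable {C : Type u} [SmallCategory C]

/-- the section of `F(X)` over `U` given by a component `i` and a map `U ⟶ X.obj i` -/
noncomputable def secOf (X : FormalCoproduct.{u} C) (U : C) (i : X.I) (g : U ⟶ X.obj i) :
    (FormalCoproduct.yoneda.obj X).obj (op U) :=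
  (Sigma.ι (fun i => yoneda.obj (X.obj i)) i).app (op U) g

/-- the section of `F(X)` over `U` given by a morphism `incl U ⟶ X` -/
noncomputable def sec (X : FormalCoproduct.{u} C) (U : C)
    (φ : (FormalCoproduct.incl C).obj U ⟶ X) : (FormalCoproduct.yoneda.obj X).obj (op U) :=
  secOf X U (φ.f PUnit.unit) (φ.φ PUnit.unit)

/-- the colimit cofan of sections -/
noncomputable def secCofanIsColimit (X : FormalCoproduct.{u} C) (U : C) :
    IsColimit (Cofan.mk ((FormalCoproduct.yoneda.obj X).obj (op U))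
      (fun i : X.I => ((Sigma.ι (fun i => yoneda.obj (X.obj i)) i).app (op U))) :
        Cofan (fun i : X.I => (yoneda.obj (X.obj i)).obj (op U))) :=
  isColimitCofanMkObjOfIsColimit ((evaluation Cᵒᵖ (Type u)).obj (op U)) _ _
    (coproductIsCoproduct (fun i : X.I => yoneda.obj (X.obj i)))

theorem sec_surjective (X : FormalCoproduct.{u} C) (U : C) :
    Function.Surjective (sec X U) := by
  intro s
  obtain ⟨i, g, h⟩ := Cofan.inj_jointly_surjective_of_isColimit (secCofanIsColimit X U) s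
  exact ⟨FormalCoproduct.Hom.fromIncl i g, h⟩

theorem sec_injective (X : FormalCoproduct.{u} C) (U : C) :
    Function.Injective (sec X U) := by
  intro φ φ' h
  rw [← FormalCoproduct.Hom.fromIncl_asSigma φ, ← FormalCoproduct.Hom.fromIncl_asSigma φ']
  obtain ⟨hij, hg⟩ := (Cofan.inj_apply_eq_iff_of_isColimit (secCofanIsColimit X U)
    (φ.φ PUnit.unit) (φ'.φ PUnit.unit)).1 h
  have h1 : φ.asSigma.fst = φ'.asSigma.fst := hij
  have h2 : HEq φ.asSigma.snd φ'.asSigma.snd := by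
    have : φ'.asSigma.snd = cast _ φ.asSigma.snd := hg
    rw [this]
    exact (cast_heq _ _).symm
  generalize φ.asSigma = a at h1 h2
  generalize φ'.asSigma = a' at h1 h2
  obtain ⟨i, g⟩ := a
  obtain ⟨i', g'⟩ := a'
  obtain rfl : i = i' := h1
  obtain rfl : g = g' := eq_of_heq h2
  rfl

theorem map_sec {X Y : FormalCoproduct.{u} C} (ψ : X ⟶ Y) (U : C)
    (φ : (FormalCoproduct.incl C).obj U ⟶ X) :
    (FormalCoproduct.yoneda.map ψ).app (op U) (sec X U φ) = sec Y U (φ ≫ ψ) := by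
  have h : Sigma.ι (fun i => yoneda.obj (X.obj i)) (φ.f PUnit.unit) ≫ FormalCoproduct.yoneda.map ψ =
      yoneda.map (ψ.φ (φ.f PUnit.unit)) ≫
        Sigma.ι (fun i => yoneda.obj (Y.obj i)) (ψ.f (φ.f PUnit.unit)) :=
    Sigma.ι_desc _ _
  have h' := ConcreteCategory.congr_hom (NatTrans.congr_app h (op U)) (φ.φ PUnit.unit)
  simp only [NatTrans.comp_app, CategoryTheory.comp_apply] at h'
  exact h'

theorem res_sec (X : FormalCoproduct.{u} C) {U V : C} (f : V ⟶ U)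
    (φ : (FormalCoproduct.incl C).obj U ⟶ X) :
    (FormalCoproduct.yoneda.obj X).map f.op (sec X U φ) =
      sec X V ((FormalCoproduct.incl C).map f ≫ φ) :=
  (NatTrans.naturality_apply (Sigma.ι (fun i => yoneda.obj (X.obj i)) (φ.f PUnit.unit)) f.op
    (φ.φ PUnit.unit)).symm

theorem sec_fromIncl (X : FormalCoproduct.{u} C) (U : C) (i : X.I) (g : U ⟶ X.obj i) :
    sec X U (FormalCoproduct.Hom.fromIncl i g) = secOf X U i g := rfl

theorem map_secOf {X Y : FormalCoproduct.{u} C} (ψ : X ⟶ Y) (U : C) (i : X.I) (g : U ⟶ X.obj i) :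
    (FormalCoproduct.yoneda.map ψ).app (op U) (secOf X U i g) =
      secOf Y U (ψ.f i) (g ≫ ψ.φ i) :=
  map_sec ψ U (FormalCoproduct.Hom.fromIncl i g)

theorem res_secOf (X : FormalCoproduct.{u} C) {U V : C} (f : V ⟶ U) (i : X.I) (g : U ⟶ X.obj i) :
    (FormalCoproduct.yoneda.obj X).map f.op (secOf X U i g) = secOf X V i (f ≫ g) :=
  res_sec X f (FormalCoproduct.Hom.fromIncl i g)

/-- a chosen inverse of `sec` -/
noncomputable def unsec (X : FormalCoproduct.{u} C) (U : C)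
    (s : (FormalCoproduct.yoneda.obj X).obj (op U)) : (FormalCoproduct.incl C).obj U ⟶ X :=
  (sec_surjective X U s).choose

theorem sec_unsec (X : FormalCoproduct.{u} C) (U : C)
    (s : (FormalCoproduct.yoneda.obj X).obj (op U)) : sec X U (unsec X U s) = s :=
  (sec_surjective X U s).choose_spec

theorem unsec_sec (X : FormalCoproduct.{u} C) (U : C)
    (φ : (FormalCoproduct.incl C).obj U ⟶ X) : unsec X U (sec X U φ) = φ :=
  sec_injective X U (sec_unsec X U _)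

theorem unsec_res (X : FormalCoproduct.{u} C) {U V : C} (f : V ⟶ U)
    (s : (FormalCoproduct.yoneda.obj X).obj (op U)) :
    unsec X V ((FormalCoproduct.yoneda.obj X).map f.op s) =
      (FormalCoproduct.incl C).map f ≫ unsec X U s := by
  apply sec_injective X V
  rw [sec_unsec, ← res_sec, sec_unsec]

end Sections

section Cosk

universe v₁ u₁ w

variable {E : Type u₁} [Category.{v₁} E] [HasCoproducts.{w} E]

/-- `Δ[M] ⊗ W` -/
noncomputable def tens (W : E) (M : ℕ) : SimplicialObject E where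
  obj Δ := ∐ (fun _ : ULift.{w} (Δ.unop ⟶ ⦋M⦌) => W)
  map {Δ Δ'} θ := Sigma.desc (fun α =>
    Sigma.ι (fun _ : ULift.{w} (Δ'.unop ⟶ ⦋M⦌) => W) ⟨θ.unop ≫ α.down⟩)
  map_id Δ := by
    apply Sigma.hom_ext
    intro α
    simp
  map_comp θ θ' := by
    apply Sigma.hom_ext
    intro α
    simp

/-- the simplex of `Δ[M] ⊗ W` given by `α` -/
noncomputable def yon (W : E) (M : ℕ) {x : SimplexCategory} (α : x ⟶ ⦋M⦌) :
    W ⟶ (tens.{v₁, u₁, w} W M).obj (op x) :=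
  Sigma.ι (fun _ : ULift.{w} (x ⟶ ⦋M⦌) => W) ⟨α⟩

theorem yon_map (W : E) (M : ℕ) {x y : SimplexCategory} (θ : y ⟶ x) (α : x ⟶ ⦋M⦌) :
    yon.{v₁, u₁, w} W M α ≫ (tens.{v₁, u₁, w} W M).map θ.op = yon.{v₁, u₁, w} W M (θ ≫ α) :=
  Sigma.ι_desc _ _

theorem yon_app {W : E} {M : ℕ} {X : SimplicialObject E} (φ : tens.{v₁, u₁, w} W M ⟶ X)
    {x : SimplexCategory} (α : x ⟶ ⦋M⦌) :
    yon.{v₁, u₁, w} W M α ≫ φ.app (op x) =
      yon.{v₁, u₁, w} W M (𝟙 _) ≫ φ.app (op ⦋M⦌) ≫ X.map α.op := by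
  rw [← φ.naturality, ← Category.assoc, yon_map, Category.comp_id]

theorem exists_miss {m N : ℕ} (hx : m ≤ N) (α : ⦋m⦌ ⟶ ⦋N + 1⦌) :
    ∃ i : Fin (N + 2), ∀ k, α.toOrderHom k ≠ i := by
  by_contra h
  push Not at h
  have hs : Function.Surjective α.toOrderHom := fun i => h i
  have := Fintype.card_le_of_surjective _ hs
  simp only [SimplexCategory.len_mk, Fintype.card_fin] at this
  omega

/-- a missed index -/
noncomputable def miss {m N : ℕ} (hx : m ≤ N) (α : ⦋m⦌ ⟶ ⦋N + 1⦌) : Fin (N + 2) :=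
  (exists_miss hx α).choose

theorem miss_spec {m N : ℕ} (hx : m ≤ N) (α : ⦋m⦌ ⟶ ⦋N + 1⦌) :
    ∀ k, α.toOrderHom k ≠ miss hx α :=
  (exists_miss hx α).choose_spec

open SimplexCategory in
/-- a map missing `i < j` factors through `δ i' ≫ δ j'.succ` -/
theorem exists_double_factor {m n : ℕ} (α : ⦋m⦌ ⟶ ⦋n + 2⦌) (i' j' : Fin (n + 2)) (hij : i' ≤ j')
    (hi : ∀ k, α.toOrderHom k ≠ i'.castSucc) (hj : ∀ k, α.toOrderHom k ≠ j'.succ) :
    ∃ a : ⦋m⦌ ⟶ ⦋n⦌, factor_δ α j'.succ = a ≫ δ i' ∧ factor_δ α i'.castSucc = a ≫ δ j' := by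
  have h1 : factor_δ α j'.succ ≫ δ j'.succ = α := factor_δ_spec α j'.succ hj
  have hmiss : ∀ k, (factor_δ α j'.succ).toOrderHom k ≠ i' := by
    intro k hk
    apply hi k
    have : α.toOrderHom k = (δ j'.succ).toOrderHom ((factor_δ α j'.succ).toOrderHom k) := by
      conv_lhs => rw [← h1]
      rfl
    rw [this, hk]
    change (j'.succ).succAbove i' = i'.castSucc
    exact Fin.succAbove_of_castSucc_lt _ _ (by
      rw [Fin.lt_def]
      simp only [Fin.val_castSucc, Fin.val_succ]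
      have := Fin.le_def.mp hij
      omega)
  have h2 : factor_δ (factor_δ α j'.succ) i' ≫ δ i' = factor_δ α j'.succ :=
    factor_δ_spec _ i' hmiss
  refine ⟨factor_δ (factor_δ α j'.succ) i', h2.symm, ?_⟩
  have h3 : factor_δ α i'.castSucc ≫ δ i'.castSucc = α := factor_δ_spec α i'.castSucc hi
  rw [← cancel_mono (δ i'.castSucc), h3, Category.assoc, ← δ_comp_δ hij, ← Category.assoc, h2, h1]

variable (K : SimplicialObject E) {W : E} {n : ℕ} (β : Fin (n + 3) → (W ⟶ K.obj (op ⦋n + 1⦌)))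

omit [HasCoproducts.{w} E] in
open SimplexCategory in
theorem gmap_indep_lt
    (hβ : ∀ i j : Fin (n + 2), i ≤ j → β j.succ ≫ K.δ i = β i.castSucc ≫ K.δ j)
    {m : ℕ} (α : ⦋m⦌ ⟶ ⦋n + 2⦌) (i j : Fin (n + 3)) (hij : i < j)
    (hi : ∀ k, α.toOrderHom k ≠ i) (hj : ∀ k, α.toOrderHom k ≠ j) :
    β i ≫ K.map (factor_δ α i).op = β j ≫ K.map (factor_δ α j).op := by
  have hi_ne : i ≠ Fin.last (n + 2) := by
    intro h
    rw [h] at hij
    exact absurd hij (not_lt.mpr (Fin.le_last j))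
  have hj_ne : j ≠ 0 := by
    intro h
    rw [h] at hij
    exact absurd hij (Fin.not_lt_zero i)
  obtain ⟨i', rfl⟩ : ∃ i' : Fin (n + 2), i'.castSucc = i := ⟨i.castPred hi_ne, Fin.castSucc_castPred i hi_ne⟩
  obtain ⟨j', rfl⟩ : ∃ j' : Fin (n + 2), j'.succ = j := ⟨j.pred hj_ne, Fin.succ_pred j hj_ne⟩
  have hij' : i' ≤ j' := by
    rw [Fin.le_def]
    have := Fin.lt_def.mp hij
    simp only [Fin.val_castSucc, Fin.val_succ] at this
    omega
  obtain ⟨a, h1, h2⟩ := exists_double_factor α i' j' hij' hi hj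
  rw [h1, h2, op_comp, op_comp, K.map_comp, K.map_comp, ← Category.assoc, ← Category.assoc]
  congr 1
  exact (hβ i' j' hij').symm

omit [HasCoproducts.{w} E] in
open SimplexCategory in
theorem gmap_indep
    (hβ : ∀ i j : Fin (n + 2), i ≤ j → β j.succ ≫ K.δ i = β i.castSucc ≫ K.δ j)
    {m : ℕ} (α : ⦋m⦌ ⟶ ⦋n + 2⦌) (i j : Fin (n + 3))
    (hi : ∀ k, α.toOrderHom k ≠ i) (hj : ∀ k, α.toOrderHom k ≠ j) :
    β i ≫ K.map (factor_δ α i).op = β j ≫ K.map (factor_δ α j).op := by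
  rcases lt_trichotomy i j with h | rfl | h
  · exact gmap_indep_lt K β hβ α i j h hi hj
  · rfl
  · exact (gmap_indep_lt K β hβ α j i h hj hi).symm

end Cosk

section CoskGen

universe v₁ u₁ w

variable {E : Type u₁} [Category.{v₁} E] [HasCoproducts.{w} E]

variable (K : SimplicialObject E) {W : E} {N : ℕ} (β : Fin (N + 2) → (W ⟶ K.obj (op ⦋N⦌)))

/-- independence of the choice of a missed index -/
def Indep : Prop :=
  ∀ {m : ℕ} (α : ⦋m⦌ ⟶ ⦋N + 1⦌) (i j : Fin (N + 2)),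
    (∀ k, α.toOrderHom k ≠ i) → (∀ k, α.toOrderHom k ≠ j) →
      β i ≫ K.map (SimplexCategory.factor_δ α i).op = β j ≫ K.map (SimplexCategory.factor_δ α j).op

/-- the component of the truncated map at a simplex `α` of `Δ[N+1]` of dimension `≤ N` -/
noncomputable def gmap {m : ℕ} (hm : m ≤ N) (α : ⦋m⦌ ⟶ ⦋N + 1⦌) : W ⟶ K.obj (op ⦋m⦌) :=
  β (miss hm α) ≫ K.map (SimplexCategory.factor_δ α (miss hm α)).op

omit [HasCoproducts.{w} E] in
open SimplexCategory in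
theorem gmap_eq (hind : Indep K β)
    {m : ℕ} (hm : m ≤ N) (α : ⦋m⦌ ⟶ ⦋N + 1⦌) (i : Fin (N + 2))
    (hi : ∀ k, α.toOrderHom k ≠ i) :
    gmap K β hm α = β i ≫ K.map (factor_δ α i).op :=
  hind α _ i (miss_spec hm α) hi

omit [HasCoproducts.{w} E] in
open SimplexCategory in
theorem gmap_comp (hind : Indep K β)
    {m m' : ℕ} (hm : m ≤ N) (hm' : m' ≤ N) (θ : ⦋m'⦌ ⟶ ⦋m⦌) (α : ⦋m⦌ ⟶ ⦋N + 1⦌) :
    gmap K β hm' (θ ≫ α) = gmap K β hm α ≫ K.map θ.op := by
  have hmiss : ∀ k, (θ ≫ α).toOrderHom k ≠ miss hm α := fun k => miss_spec hm α _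
  rw [gmap_eq K β hind hm' (θ ≫ α) (miss hm α) hmiss]
  have : factor_δ (θ ≫ α) (miss hm α) = θ ≫ factor_δ α (miss hm α) := by
    simp only [factor_δ, Category.assoc]
  rw [this, op_comp, K.map_comp, ← Category.assoc]
  rfl

omit [HasCoproducts.{w} E] in
open SimplexCategory in
theorem gmap_δ (hind : Indep K β) (i : Fin (N + 2)) : gmap K β le_rfl (δ i) = β i := by
  have hmiss : ∀ k, (δ i).toOrderHom k ≠ i := fun k => Fin.succAbove_ne i k
  rw [gmap_eq K β hind le_rfl (δ i) i hmiss]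
  have : factor_δ (δ i) i = 𝟙 _ := by
    rw [← cancel_mono (δ i), factor_δ_spec _ _ hmiss, Category.id_comp]
  rw [this, op_id, K.map_id, Category.comp_id]

/-- the truncated map `sk_N(Δ[N+1] ⊗ W) ⟶ sk_N K` -/
noncomputable def gam (hind : Indep K β) :
    (SimplicialObject.truncation N).obj (tens.{v₁, u₁, w} W (N + 1)) ⟶
      (SimplicialObject.truncation N).obj K where
  app Δ := Sigma.desc (fun α => gmap K β (m := Δ.unop.obj.len) Δ.unop.property α.down)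
  naturality Δ Δ' θ := by
    apply Sigma.hom_ext
    intro α
    have h1 : Sigma.ι (fun _ : ULift.{w} (Δ.unop.obj ⟶ ⦋N + 1⦌) => W) α ≫
        ((SimplicialObject.truncation N).obj (tens.{v₁, u₁, w} W (N + 1))).map θ =
        Sigma.ι (fun _ : ULift.{w} (Δ'.unop.obj ⟶ ⦋N + 1⦌) => W) ⟨θ.unop.hom ≫ α.down⟩ :=
      Sigma.ι_desc _ _
    refine (Category.assoc _ _ _).symm.trans ?_
    refine (h1 =≫ _).trans ?_
    refine (Sigma.ι_desc _ _).trans ?_
    refine Eq.trans ?_ (Category.assoc _ _ _)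
    have h2 : Sigma.ι (fun _ : ULift.{w} (Δ.unop.obj ⟶ ⦋N + 1⦌) => W) α ≫
        Sigma.desc (fun α => gmap K β (m := Δ.unop.obj.len) Δ.unop.property α.down) =
        gmap K β (m := Δ.unop.obj.len) Δ.unop.property α.down := Sigma.ι_desc _ _
    refine Eq.trans ?_ (h2.symm =≫ _)
    exact gmap_comp K β hind (m := Δ.unop.obj.len) (m' := Δ'.unop.obj.len) Δ.unop.property
      Δ'.unop.property θ.unop.hom α.down

theorem yon_gam (hind : Indep K β)
    {m : ℕ} (hm : m ≤ N) (α : ⦋m⦌ ⟶ ⦋N + 1⦌) :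
    yon.{v₁, u₁, w} W (N + 1) α ≫ (gam.{v₁, u₁, w} K β hind).app (op ⟨⦋m⦌, hm⟩) = gmap K β hm α :=
  Sigma.ι_desc _ _

/-- **Maps into the coskeleton from boundaries**, general form. -/
theorem exists_lift_cosk_gen
    [∀ (F : (SimplexCategory.Truncated N)ᵒᵖ ⥤ E),
      (SimplexCategory.Truncated.inclusion N).op.HasRightKanExtension F]
    (hind : Indep K β) :
    ∃ σ : W ⟶ ((SimplicialObject.Truncated.cosk N).obj
        ((SimplicialObject.truncation N).obj K)).obj (op ⦋N + 1⦌),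
      ∀ {W' : E} (p : W' ⟶ W) (τ : W' ⟶ K.obj (op ⦋N + 1⦌)),
        τ ≫ ((SimplicialObject.coskAdj N).unit.app K).app (op ⦋N + 1⦌) = p ≫ σ →
          ∀ i, τ ≫ K.δ i = p ≫ β i := by
  let adj := SimplicialObject.coskAdj (C := E) N
  let skK := (SimplicialObject.truncation N).obj K
  let K' : SimplicialObject E := (SimplicialObject.Truncated.cosk N).obj skK
  let φ : tens.{v₁, u₁, w} W (N + 1) ⟶ K' :=
    adj.homEquiv (tens.{v₁, u₁, w} W (N + 1)) skK (gam.{v₁, u₁, w} K β hind)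
  refine ⟨yon.{v₁, u₁, w} W (N + 1) (𝟙 _) ≫ φ.app (op ⦋N + 1⦌), ?_⟩
  intro W' p τ h i
  let Δ₀ : (SimplexCategory.Truncated N)ᵒᵖ := op ⟨⦋N⦌, le_rfl⟩
  let e₀ : K'.obj (op ⦋N⦌) ⟶ K.obj (op ⦋N⦌) := (adj.counit.app skK).app Δ₀
  let η₁ : K.obj (op ⦋N⦌) ⟶ K'.obj (op ⦋N⦌) := (adj.unit.app K).app (op ⦋N⦌)
  let η₂ : K.obj (op ⦋N + 1⦌) ⟶ K'.obj (op ⦋N + 1⦌) := (adj.unit.app K).app (op ⦋N + 1⦌)
  let g₀ : (tens.{v₁, u₁, w} W (N + 1)).obj (op ⦋N⦌) ⟶ K.obj (op ⦋N⦌) :=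
    (gam.{v₁, u₁, w} K β hind).app Δ₀
  have h' : τ ≫ η₂ = p ≫ yon.{v₁, u₁, w} W (N + 1) (𝟙 _) ≫ φ.app (op ⦋N + 1⦌) := h
  have htri : η₁ ≫ e₀ = 𝟙 (K.obj (op ⦋N⦌)) :=
    congrArg (fun ψ => ψ.app Δ₀) (adj.left_triangle_components K)
  have hφ : φ.app (op ⦋N⦌) ≫ e₀ = g₀ := by
    have h1 : (adj.homEquiv _ _).symm φ = gam.{v₁, u₁, w} K β hind := Equiv.symm_apply_apply _ _
    rw [Adjunction.homEquiv_counit] at h1
    exact congrArg (fun ψ => ψ.app Δ₀) h1
  have hnat : K.δ i ≫ η₁ = η₂ ≫ K'.map (SimplexCategory.δ i).op :=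
    (adj.unit.app K).naturality (SimplexCategory.δ i).op
  have hlast : yon.{v₁, u₁, w} W (N + 1) (SimplexCategory.δ i) ≫ g₀ = β i :=
    (yon_gam K β hind le_rfl (SimplexCategory.δ i)).trans (gmap_δ K β hind i)
  have hyon : yon.{v₁, u₁, w} W (N + 1) (SimplexCategory.δ i) ≫ φ.app (op ⦋N⦌) =
      yon.{v₁, u₁, w} W (N + 1) (𝟙 _) ≫ φ.app (op ⦋N + 1⦌) ≫ K'.map (SimplexCategory.δ i).op :=
    yon_app φ (SimplexCategory.δ i)
  calc τ ≫ K.δ i = τ ≫ K.δ i ≫ η₁ ≫ e₀ := by rw [htri, Category.comp_id]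
    _ = (τ ≫ η₂) ≫ K'.map (SimplexCategory.δ i).op ≫ e₀ := by
        rw [← Category.assoc (K.δ i), hnat, Category.assoc, Category.assoc]
    _ = p ≫ (yon.{v₁, u₁, w} W (N + 1) (𝟙 _) ≫ φ.app (op ⦋N + 1⦌) ≫
        K'.map (SimplexCategory.δ i).op) ≫ e₀ := by
        rw [h']
        simp only [Category.assoc]
    _ = p ≫ (yon.{v₁, u₁, w} W (N + 1) (SimplexCategory.δ i) ≫ φ.app (op ⦋N⦌)) ≫ e₀ := by
        rw [← hyon]
    _ = p ≫ yon.{v₁, u₁, w} W (N + 1) (SimplexCategory.δ i) ≫ g₀ := by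
        rw [Category.assoc, hφ]
    _ = p ≫ β i := by rw [hlast]

/-- **Maps into the coskeleton from compatible boundaries** (level `≥ 1`). -/
theorem exists_lift_cosk {n : ℕ} (β : Fin (n + 3) → (W ⟶ K.obj (op ⦋n + 1⦌)))
    [∀ (F : (SimplexCategory.Truncated (n + 1))ᵒᵖ ⥤ E),
      (SimplexCategory.Truncated.inclusion (n + 1)).op.HasRightKanExtension F]
    (hβ : ∀ i j : Fin (n + 2), i ≤ j → β j.succ ≫ K.δ i = β i.castSucc ≫ K.δ j) :
    ∃ σ : W ⟶ ((SimplicialObject.Truncated.cosk (n + 1)).obj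
        ((SimplicialObject.truncation (n + 1)).obj K)).obj (op ⦋n + 2⦌),
      ∀ {W' : E} (p : W' ⟶ W) (τ : W' ⟶ K.obj (op ⦋n + 2⦌)),
        τ ≫ ((SimplicialObject.coskAdj (n + 1)).unit.app K).app (op ⦋n + 2⦌) = p ≫ σ →
          ∀ i, τ ≫ K.δ i = p ≫ β i :=
  exists_lift_cosk_gen.{v₁, u₁, w} K β (fun α i j hi hj => gmap_indep K β hβ α i j hi hj)

/-- **Maps into the `0`-coskeleton from pairs of vertices.** -/
theorem exists_lift_cosk_zero (β : Fin 2 → (W ⟶ K.obj (op ⦋0⦌)))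
    [∀ (F : (SimplexCategory.Truncated 0)ᵒᵖ ⥤ E),
      (SimplexCategory.Truncated.inclusion 0).op.HasRightKanExtension F] :
    ∃ σ : W ⟶ ((SimplicialObject.Truncated.cosk 0).obj
        ((SimplicialObject.truncation 0).obj K)).obj (op ⦋1⦌),
      ∀ {W' : E} (p : W' ⟶ W) (τ : W' ⟶ K.obj (op ⦋1⦌)),
        τ ≫ ((SimplicialObject.coskAdj 0).unit.app K).app (op ⦋1⦌) = p ≫ σ →
          ∀ i, τ ≫ K.δ i = p ≫ β i := by
  refine exists_lift_cosk_gen.{v₁, u₁, w} (N := 0) K β ?_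
  intro m α i j hi hj
  have hij : i = j := by
    by_contra hne
    have h0 := hi 0
    have h1 := hj 0
    have : ∀ x : Fin 2, x = i ∨ x = j := by
      intro x
      fin_cases x <;> fin_cases i <;> fin_cases j <;> simp_all
    rcases this (α.toOrderHom 0) with h | h
    · exact h0 h
    · exact h1 h
  subst hij
  rfl

end CoskGen

end Groth.Agent.R2.H38.HypFC
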