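import Groth.Agent.R2.H38HypCore
import Groth.Agent.R2.H38HypFC

/-!
# Čech cohomology with respect to a hypercovering via `Hom(ℤ[F(K)]^#, -)` (helper38)
-/

set_option autoImplicit false

open CategoryTheory Opposite Limits Simplicial

universe u

namespace Groth.Agent.R2.H38.HypCech

open Groth.Agent.R2.H38.SAbHtpy

section General

variable {𝒜 : Type*} [Category 𝒜] [Abelian 𝒜] (A : SimplicialObject 𝒜) (G : 𝒜)

/-- the cosimplicial abelian group `Hom(A_•, G)` -/
noncomputable abbrev homCos : CosimplicialObject AddCommGrpCat :=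
  A.rightOp ⋙ preadditiveYoneda.obj G

/-- the cochain complex `Hom(A_•, G)` -/
noncomputable abbrev homCx : CochainComplex AddCommGrpCat ℕ :=
  (AlgebraicTopology.alternatingCofaceMapComplex _).obj (homCos A G)

theorem homCx_d_apply (n : ℕ) (ψ : A.obj (op ⦋n⦌) ⟶ G) :
    (homCx A G).d n (n + 1) ψ =
      ((AlgebraicTopology.alternatingFaceMapComplex 𝒜).obj A).d (n + 1) n ≫ ψ := by
  have h1 : (homCx A G).d n (n + 1) =
      AlgebraicTopology.AlternatingCofaceMapComplex.objD (homCos A G) n := by
    change (CochainComplex.of (fun n => (homCos A G).obj ⦋n⦌)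
      (AlgebraicTopology.AlternatingCofaceMapComplex.objD (homCos A G))
      (AlgebraicTopology.AlternatingCofaceMapComplex.d_squared (homCos A G))).d n (n + 1) = _
    exact CochainComplex.of_d (fun n => (homCos A G).obj ⦋n⦌)
      (AlgebraicTopology.AlternatingCofaceMapComplex.objD (homCos A G)) n
  rw [h1, AlgebraicTopology.alternatingFaceMapComplex_obj_d,
    AlgebraicTopology.AlternatingFaceMapComplex.objD,
    AlgebraicTopology.AlternatingCofaceMapComplex.objD, Preadditive.sum_comp]
  change (∑ i : Fin (n + 2), (-1 : ℤ) ^ (i : ℕ) • (homCos A G).δ i) ψ = _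
  rw [sum_hom_apply]
  refine Finset.sum_congr rfl fun i _ => ?_
  rw [zsmul_hom_apply, Preadditive.zsmul_comp]
  rfl

/-- vanishing of `H^{n+1}(Hom(A_•, G))` for `G` injective when `A_•` is exact in degree `n+1` -/
theorem isZero_homology_homCx [Injective G] (n : ℕ)
    (h : IsZero (((AlgebraicTopology.alternatingFaceMapComplex 𝒜).obj A).homology (n + 1))) :
    IsZero ((homCx A G).homology (n + 1)) := by
  rw [← HomologicalComplex.exactAt_iff_isZero_homology] at h ⊢
  rw [HomologicalComplex.exactAt_iff' _ (n + 2) (n + 1) n (by simp) (by simp)] at h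
  rw [HomologicalComplex.exactAt_iff' _ n (n + 1) (n + 2) (by simp) (by simp),
    ShortComplex.ab_exact_iff]
  intro ψ hψ
  change A.obj (op ⦋n + 1⦌) ⟶ G at ψ
  have hψ' : (homCx A G).d (n + 1) (n + 2) ψ = 0 := hψ
  rw [homCx_d_apply] at hψ'
  refine ⟨h.descToInjective ψ hψ', ?_⟩
  change (homCx A G).d n (n + 1) (h.descToInjective ψ hψ') = ψ
  rw [homCx_d_apply]
  exact h.comp_descToInjective ψ hψ'

/-- `H^0(Hom(A_•, G)) ≅ Hom(T, G)` when `A_1 → A_0 → T → 0` is exact -/
theorem nonempty_homology_zero_homCx {T : 𝒜} (ε : A.obj (op ⦋0⦌) ⟶ T)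
    (w : ((AlgebraicTopology.alternatingFaceMapComplex 𝒜).obj A).d 1 0 ≫ ε = 0)
    (hex : (ShortComplex.mk _ ε w).Exact) [Epi ε] :
    Nonempty ((homCx A G).homology 0 ≅ AddCommGrpCat.of (T ⟶ G)) := by
  let ρ : AddCommGrpCat.of (T ⟶ G) ⟶ (homCx A G).X 0 := (preadditiveYoneda.obj G).map ε.op
  have hρ : ∀ χ : T ⟶ G, ρ χ = ε ≫ χ := fun χ => rfl
  have wρ : ρ ≫ (homCx A G).d 0 1 = 0 := by
    ext χ
    change (homCx A G).d 0 1 (ρ χ) = 0
    rw [homCx_d_apply, hρ, ← Category.assoc, w, zero_comp]
    rfl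
  have hexρ : (ShortComplex.mk ρ ((homCx A G).d 0 1) wρ).Exact := by
    rw [ShortComplex.ab_exact_iff]
    intro ψ hψ
    change A.obj (op ⦋0⦌) ⟶ G at ψ
    have hψ' : (homCx A G).d 0 1 ψ = 0 := hψ
    rw [homCx_d_apply] at hψ'
    exact ⟨hex.desc ψ hψ', hex.g_desc ψ hψ'⟩
  have hmono : Mono ρ := by
    rw [AddCommGrpCat.mono_iff_injective]
    intro χ χ' hχ
    have : ε ≫ χ = ε ≫ χ' := hχ
    exact (cancel_epi ε).1 this
  have h1 := hexρ.fIsKernel
  have h2 := (homCx A G).cyclesIsKernel 0 1 (by simp)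
  exact ⟨(CochainComplex.isoHomologyπ₀ _).symm ≪≫ IsLimit.conePointUniqueUpToIso h2 h1⟩

end General

section Site

open Groth.Agent.R2.H38.HypFC

variable {C : Type u} [SmallCategory C] (J : GrothendieckTopology C)

/-- `X ↦ ℤ[F(X)]` (presheaf level) -/
noncomputable abbrev ZFp : FormalCoproduct.{u} C ⥤ (Cᵒᵖ ⥤ AddCommGrpCat.{u}) :=
  FormalCoproduct.yoneda ⋙ (Functor.whiskeringRight _ _ _).obj AddCommGrpCat.free.{u}

/-- `X ↦ ℤ[F(X)]^#` -/
noncomputable abbrev ZF : FormalCoproduct.{u} C ⥤ Sheaf J AddCommGrpCat.{u} :=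
  ZFp ⋙ presheafToSheaf J AddCommGrpCat.{u}

theorem free_hom_ext {S : Type u} {M : AddCommGrpCat.{u}}
    (a b : AddCommGrpCat.free.{u}.obj S ⟶ M)
    (h : ∀ s : S, a (FreeAbelianGroup.of s) = b (FreeAbelianGroup.of s)) : a = b := by
  ext z
  induction z using FreeAbelianGroup.induction_on with
  | zero => exact (map_zero a.hom).trans (map_zero b.hom).symm
  | of x => exact h x
  | neg x ih =>
    exact (map_neg a.hom _).trans ((congrArg Neg.neg ih).trans (map_neg b.hom _).symm)
  | add x y hx hy =>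
    exact (map_add a.hom _ _).trans ((congrArg₂ (· + ·) hx hy).trans (map_add b.hom _ _).symm)

/-- the universal section of `ℤ[F(X)]^#` over the component `X.obj i` -/
noncomputable def univ (X : FormalCoproduct.{u} C) (i : X.I) :
    ((ZF J).obj X).obj.obj (op (X.obj i)) :=
  (toSheafify J (ZFp.obj X)).app (op (X.obj i))
    (FreeAbelianGroup.of (secOf X (X.obj i) i (𝟙 _)))

theorem univ_map {X Y : FormalCoproduct.{u} C} (f : Y ⟶ X) (i : Y.I) :
    ((ZF J).map f).hom.app (op (Y.obj i)) (univ J Y i) =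
      ((ZF J).obj X).obj.map (f.φ i).op (univ J X (f.f i)) := by
  have h1 := ConcreteCategory.congr_hom
    (NatTrans.congr_app (toSheafify_naturality J (ZFp.map f)) (op (Y.obj i)))
    (FreeAbelianGroup.of (secOf Y (Y.obj i) i (𝟙 _)))
  simp only [NatTrans.comp_app, CategoryTheory.comp_apply] at h1
  have h2 : (ZFp.map f).app (op (Y.obj i)) (FreeAbelianGroup.of (secOf Y (Y.obj i) i (𝟙 _))) =
      FreeAbelianGroup.of (secOf X (Y.obj i) (f.f i) (f.φ i)) := by
    change FreeAbelianGroup.map _ (FreeAbelianGroup.of _) = _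
    rw [FreeAbelianGroup.map_of_apply]
    congr 1
    have := map_secOf f (Y.obj i) i (𝟙 _)
    rw [Category.id_comp] at this
    exact this
  have h3 : (ZFp.obj X).map (f.φ i).op (FreeAbelianGroup.of (secOf X (X.obj (f.f i)) (f.f i) (𝟙 _))) =
      FreeAbelianGroup.of (secOf X (Y.obj i) (f.f i) (f.φ i)) := by
    change FreeAbelianGroup.map _ (FreeAbelianGroup.of _) = _
    rw [FreeAbelianGroup.map_of_apply]
    congr 1
    have := res_secOf X (f.φ i) (f.f i) (𝟙 _)
    rw [Category.comp_id] at this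
    exact this
  have h4 := NatTrans.naturality_apply (toSheafify J (ZFp.obj X)) (f.φ i).op
    (FreeAbelianGroup.of (secOf X (X.obj (f.f i)) (f.f i) (𝟙 _)))
  rw [h3] at h4
  rw [h2] at h1
  exact h1.symm.trans h4

variable (G : Sheaf J AddCommGrpCat.{u})

/-- evaluation of morphisms of sheaves at a section -/
def evSec {Y : Sheaf J AddCommGrpCat.{u}} {U : C} (y : Y.obj.obj (op U)) :
    (Y ⟶ G) →+ G.obj.obj (op U) where
  toFun ψ := ψ.hom.app (op U) y
  map_zero' := rfl
  map_add' _ _ := rfl

/-- the comparison map -/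
noncomputable def Psi (X : FormalCoproduct.{u} C) :
    AddCommGrpCat.of ((ZF J).obj X ⟶ G) ⟶ ∏ᶜ (fun i : X.I => G.obj.obj (op (X.obj i))) :=
  Pi.lift (fun i => AddCommGrpCat.ofHom (evSec J G (univ J X i)))

theorem Psi_π (X : FormalCoproduct.{u} C) (i : X.I) (ψ : (ZF J).obj X ⟶ G) :
    Pi.π (fun i : X.I => G.obj.obj (op (X.obj i))) i (Psi J G X ψ) =
      ψ.hom.app (op (X.obj i)) (univ J X i) := by
  have := ConcreteCategory.congr_hom
    (Pi.lift_π (fun i => AddCommGrpCat.ofHom (evSec J G (univ J X i))) i) ψ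
  rw [CategoryTheory.comp_apply] at this
  exact this

theorem toSheafify_of_secOf (X : FormalCoproduct.{u} C) (U : C) (i : X.I) (g : U ⟶ X.obj i) :
    (toSheafify J (ZFp.obj X)).app (op U) (FreeAbelianGroup.of (secOf X U i g)) =
      ((ZF J).obj X).obj.map g.op (univ J X i) := by
  have h3 : (ZFp.obj X).map g.op (FreeAbelianGroup.of (secOf X (X.obj i) i (𝟙 _))) =
      FreeAbelianGroup.of (secOf X U i g) := by
    change FreeAbelianGroup.map _ (FreeAbelianGroup.of _) = _
    rw [FreeAbelianGroup.map_of_apply]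
    congr 1
    have := res_secOf X g i (𝟙 _)
    rw [Category.comp_id] at this
    exact this
  have h4 := NatTrans.naturality_apply (toSheafify J (ZFp.obj X)) g.op
    (FreeAbelianGroup.of (secOf X (X.obj i) i (𝟙 _)))
  rw [h3] at h4
  exact h4

theorem Psi_injective (X : FormalCoproduct.{u} C) : Function.Injective (Psi J G X) := by
  intro ψ ψ' h
  have hi : ∀ i, ψ.hom.app (op (X.obj i)) (univ J X i) = ψ'.hom.app (op (X.obj i)) (univ J X i) := by
    intro i
    rw [← Psi_π, ← Psi_π, h]
  apply Sheaf.hom_ext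
  apply sheafify_hom_ext J _ _ G.property
  ext U : 2
  induction U using Opposite.rec with
  | op U =>
    apply free_hom_ext
    intro s
    obtain ⟨φ, rfl⟩ := sec_surjective X U s
    change ψ.hom.app (op U) ((toSheafify J (ZFp.obj X)).app (op U)
      (FreeAbelianGroup.of (secOf X U (φ.f PUnit.unit) (φ.φ PUnit.unit)))) =
      ψ'.hom.app (op U) ((toSheafify J (ZFp.obj X)).app (op U)
      (FreeAbelianGroup.of (secOf X U (φ.f PUnit.unit) (φ.φ PUnit.unit))))
    rw [toSheafify_of_secOf, NatTrans.naturality_apply, NatTrans.naturality_apply, hi]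

/-- value of a family on a map `incl U ⟶ X` -/
noncomputable def famVal (X : FormalCoproduct.{u} C)
    (c : ∀ i : X.I, G.obj.obj (op (X.obj i))) {U : C}
    (φ : (FormalCoproduct.incl C).obj U ⟶ X) : G.obj.obj (op U) :=
  G.obj.map (φ.φ PUnit.unit).op (c (φ.f PUnit.unit))

theorem famVal_comp (X : FormalCoproduct.{u} C)
    (c : ∀ i : X.I, G.obj.obj (op (X.obj i))) {U V : C} (f : V ⟶ U)
    (φ : (FormalCoproduct.incl C).obj U ⟶ X) :
    famVal J G X c ((FormalCoproduct.incl C).map f ≫ φ) = G.obj.map f.op (famVal J G X c φ) := by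
  change G.obj.map (f ≫ φ.φ PUnit.unit).op (c (φ.f PUnit.unit)) = _
  rw [op_comp, Functor.map_comp_apply]
  rfl

/-- the presheaf map `ℤ[F(X)] ⟶ G` attached to a family of sections -/
noncomputable def famMap (X : FormalCoproduct.{u} C)
    (c : ∀ i : X.I, G.obj.obj (op (X.obj i))) : ZFp.obj X ⟶ G.obj where
  app U := AddCommGrpCat.ofHom (FreeAbelianGroup.lift
    (fun s : (FormalCoproduct.yoneda.obj X).obj U => famVal J G X c (unsec X U.unop s)))
  naturality U V f := by
    induction U using Opposite.rec with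
    | op U =>
      induction V using Opposite.rec with
      | op V =>
        apply free_hom_ext
        intro s
        change FreeAbelianGroup.lift _ (FreeAbelianGroup.map _ (FreeAbelianGroup.of s)) =
          G.obj.map f (FreeAbelianGroup.lift _ (FreeAbelianGroup.of s))
        rw [FreeAbelianGroup.map_of_apply, FreeAbelianGroup.lift_apply_of,
          FreeAbelianGroup.lift_apply_of]
        have := unsec_res X f.unop s
        change unsec X V ((FormalCoproduct.yoneda.obj X).map f s) = _ at this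
        rw [this, famVal_comp]
        rfl

theorem famMap_of (X : FormalCoproduct.{u} C)
    (c : ∀ i : X.I, G.obj.obj (op (X.obj i))) (U : C)
    (s : (FormalCoproduct.yoneda.obj X).obj (op U)) :
    (famMap J G X c).app (op U) (FreeAbelianGroup.of s) = famVal J G X c (unsec X U s) :=
  FreeAbelianGroup.lift_apply_of _ _

theorem Psi_surjective (X : FormalCoproduct.{u} C) : Function.Surjective (Psi J G X) := by
  intro c
  let c' : ∀ i : X.I, G.obj.obj (op (X.obj i)) :=
    fun i => Pi.π (fun i : X.I => G.obj.obj (op (X.obj i))) i c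
  refine ⟨⟨sheafifyLift J (famMap J G X c') G.property⟩, ?_⟩
  apply (Concrete.productEquiv (fun i : X.I => G.obj.obj (op (X.obj i)))).injective
  funext i
  rw [Concrete.productEquiv_apply_apply, Concrete.productEquiv_apply_apply, Psi_π]
  change (sheafifyLift J (famMap J G X c') G.property).app (op (X.obj i))
    ((toSheafify J (ZFp.obj X)).app (op (X.obj i))
      (FreeAbelianGroup.of (secOf X (X.obj i) i (𝟙 _)))) = c' i
  have h1 := ConcreteCategory.congr_hom (NatTrans.congr_app
    (toSheafify_sheafifyLift J (famMap J G X c') G.property) (op (X.obj i)))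
    (FreeAbelianGroup.of (secOf X (X.obj i) i (𝟙 _)))
  simp only [NatTrans.comp_app, CategoryTheory.comp_apply] at h1
  rw [h1, famMap_of, ← sec_fromIncl, unsec_sec]
  change G.obj.map (𝟙 (X.obj i)).op (c' i) = c' i
  rw [op_id, Functor.map_id_apply]

theorem Psi_nat_apply {X Y : FormalCoproduct.{u} C} (f : Y ⟶ X) (ψ : (ZF J).obj X ⟶ G) (i : Y.I) :
    Pi.π (fun i : Y.I => G.obj.obj (op (Y.obj i))) i (Psi J G Y ((ZF J).map f ≫ ψ)) =
      G.obj.map (f.φ i).op
        (Pi.π (fun i : X.I => G.obj.obj (op (X.obj i))) (f.f i) (Psi J G X ψ)) := by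
  rw [Psi_π, Psi_π]
  change ψ.hom.app (op (Y.obj i)) (((ZF J).map f).hom.app (op (Y.obj i)) (univ J Y i)) = _
  rw [univ_map, NatTrans.naturality_apply]

/-- the comparison as a natural transformation -/
noncomputable def PsiNat : (ZF J).op ⋙ preadditiveYoneda.obj G ⟶
    (FormalCoproduct.evalOp C AddCommGrpCat.{u}).obj G.obj where
  app X := Psi J G X.unop
  naturality X Y f := by
    apply Pi.hom_ext
    intro i
    ext ψ
    change (ZF J).obj X.unop ⟶ G at ψ
    have h1 : ((Psi J G X.unop ≫ ((FormalCoproduct.evalOp C AddCommGrpCat.{u}).obj G.obj).map f) ≫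
        Pi.π (fun i : Y.unop.I => G.obj.obj (op (Y.unop.obj i))) i) =
        Psi J G X.unop ≫ Pi.π (fun i : X.unop.I => G.obj.obj (op (X.unop.obj i))) (f.unop.f i) ≫
          G.obj.map (f.unop.φ i).op := by
      rw [Category.assoc]
      congr 1
      exact Pi.lift_π _ i
    have h2 := ConcreteCategory.congr_hom h1 ψ
    refine Eq.trans ?_ h2.symm
    exact Psi_nat_apply J G f.unop ψ i

instance (X : (FormalCoproduct.{u} C)ᵒᵖ) : IsIso ((PsiNat J G).app X) :=
  (ConcreteCategory.isIso_iff_bijective _).2 ⟨Psi_injective J G X.unop, Psi_surjective J G X.unop⟩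

instance : IsIso (PsiNat J G) := NatIso.isIso_of_isIso_app _

variable (K : SimplicialObject (FormalCoproduct.{u} C))

/-- the Čech cosimplicial group is `Hom(ℤ[F(K_•)]^#, G)` -/
noncomputable def cosIso :
    (FormalCoproduct.cosimplicialObjectFunctor K).obj G.obj ≅ homCos (K ⋙ ZF J) G :=
  Functor.isoWhiskerLeft K.rightOp (asIso (PsiNat J G)).symm

/-- the Čech complex is `Hom(ℤ[F(K_•)]^#, G)` -/
noncomputable def cechIso :
    (FormalCoproduct.cochainComplexFunctor K).obj G.obj ≅ homCx (K ⋙ ZF J) G :=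
  (AlgebraicTopology.alternatingCofaceMapComplex _).mapIso (cosIso J G K)

open Groth.Agent.R2.H38.HypCone Groth.Agent.R2.H38.HypCore in
/-- **Čech cohomology with respect to a simplicial formal coproduct with the local lifting
property**: vanishing for injective sheaves, and `H^0 = Hom(ℤ[B]^#, G)`. -/
theorem cech_of_llp {B : Cᵒᵖ ⥤ Type u}
    (aug : (K ⋙ FormalCoproduct.yoneda) ⟶ (Functor.const _).obj B)
    (h : LLP J (K ⋙ FormalCoproduct.yoneda) aug) :
    (Injective G → ∀ p : ℕ,
      IsZero (((FormalCoproduct.cochainComplexFunctor K).obj G.obj).homology (p + 1))) ∧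
    Nonempty (((FormalCoproduct.cochainComplexFunctor K).obj G.obj).homology 0 ≅
      AddCommGrpCat.of ((presheafToSheaf J AddCommGrpCat.{u}).obj (B ⋙ AddCommGrpCat.free.{u}) ⟶ G)) := by
  obtain ⟨h1, _⟩ := acyclic J aug h
  obtain ⟨w, hex, hepi⟩ := aug_exact_epi J aug h
  refine ⟨fun hG p => ?_, ?_⟩
  · exact IsZero.of_iso (isZero_homology_homCx (K ⋙ ZF J) G p (h1 p))
      ((HomologicalComplex.homologyFunctor _ _ (p + 1)).mapIso (cechIso J G K))
  · obtain ⟨e⟩ := @nonempty_homology_zero_homCx _ _ _ (K ⋙ ZF J) G _ (epsSh J aug) w hex hepi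
    exact ⟨(HomologicalComplex.homologyFunctor _ _ 0).mapIso (cechIso J G K) ≪≫ e⟩

end Site

section GlobalSections

variable {C : Type u} [SmallCategory C] (J : GrothendieckTopology C)
  (G : Sheaf J AddCommGrpCat.{u})

/-- the constant presheaf `ℤ[pt]` -/
noncomputable abbrev ptZ (C : Type u) [SmallCategory C] : Cᵒᵖ ⥤ AddCommGrpCat.{u} :=
  (Functor.const Cᵒᵖ).obj PUnit.{u + 1} ⋙ AddCommGrpCat.free.{u}

/-- evaluation of a presheaf map at the generator -/
noncomputable def evGen (U : Cᵒᵖ) : (ptZ C ⟶ G.obj) →+ G.obj.obj U where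
  toFun κ := κ.app U (FreeAbelianGroup.of PUnit.unit)
  map_zero' := rfl
  map_add' _ _ := rfl

/-- the cone of evaluations -/
noncomputable def evCone : Cone G.obj where
  pt := AddCommGrpCat.of (ptZ C ⟶ G.obj)
  π :=
    { app := fun U => AddCommGrpCat.ofHom (evGen J G U)
      naturality := by
        intro U V f
        ext κ
        change κ.app V (FreeAbelianGroup.of PUnit.unit) =
          G.obj.map f (κ.app U (FreeAbelianGroup.of PUnit.unit))
        rw [← NatTrans.naturality_apply]
        rfl }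

/-- maps from the constant presheaf `ℤ` are global sections -/
noncomputable def toLimit : AddCommGrpCat.of (ptZ C ⟶ G.obj) ⟶ limit G.obj :=
  limit.lift G.obj (evCone J G)

theorem toLimit_π (U : Cᵒᵖ) (κ : ptZ C ⟶ G.obj) :
    limit.π G.obj U (toLimit J G κ) = κ.app U (FreeAbelianGroup.of PUnit.unit) := by
  have := ConcreteCategory.congr_hom (limit.lift_π (evCone J G) U) κ
  rw [CategoryTheory.comp_apply] at this
  exact this

theorem toLimit_bijective : Function.Bijective (toLimit J G) := by
  constructor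
  · intro κ κ' h
    ext U : 2
    apply free_hom_ext
    rintro ⟨⟩
    rw [← toLimit_π, ← toLimit_π, h]
  · intro x
    let κ : ptZ C ⟶ G.obj :=
      { app := fun U => AddCommGrpCat.ofHom (FreeAbelianGroup.lift (fun _ => limit.π G.obj U x))
        naturality := by
          intro U V f
          apply free_hom_ext
          rintro ⟨⟩
          change FreeAbelianGroup.lift _ (FreeAbelianGroup.map _ (FreeAbelianGroup.of PUnit.unit)) =
            G.obj.map f (FreeAbelianGroup.lift _ (FreeAbelianGroup.of PUnit.unit))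
          rw [FreeAbelianGroup.map_of_apply, FreeAbelianGroup.lift_apply_of,
            FreeAbelianGroup.lift_apply_of]
          have := ConcreteCategory.congr_hom (limit.w G.obj f) x
          rw [CategoryTheory.comp_apply] at this
          exact this.symm }
    refine ⟨κ, ?_⟩
    apply Concrete.limit_ext
    intro U
    rw [toLimit_π]
    exact FreeAbelianGroup.lift_apply_of _ _

/-- `Hom(ℤ^#, G) ≅ Γ(G)` -/
theorem nonempty_homConst_iso_limit :
    Nonempty (AddCommGrpCat.of ((presheafToSheaf J AddCommGrpCat.{u}).obj (ptZ C) ⟶ G) ≅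
      limit G.obj) := by
  have : IsIso (toLimit J G) := (ConcreteCategory.isIso_iff_bijective _).2 (toLimit_bijective J G)
  exact ⟨AddEquiv.toAddCommGrpIso
    ((sheafificationAdjunction J AddCommGrpCat.{u}).homAddEquiv (ptZ C) G) ≪≫
      asIso (toLimit J G)⟩

end GlobalSections

end Groth.Agent.R2.H38.HypCech
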