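import Groth.Agent.R2.H38HypKill

/-!
# Čech cochains over hypercoverings: calculus for comparing presheaves (helper38)
-/

set_option autoImplicit false

open CategoryTheory Opposite Limits Simplicial

universe u

namespace Groth.Agent.R2.H38.HypCmp

open Groth.Agent.R2.H38.HypFC Groth.Agent.R2.H38.HypRefine Groth.Agent.R2.H38.HypKill

section EVcalc

variable {D : Type u} [SmallCategory D] {P' Q' : Dᵒᵖ ⥤ AddCommGrpCat.{u}} (θ : P' ⟶ Q')

/-- the induced map on cochains -/
noncomputable abbrev EVmap (A : FormalCoproduct.{u} D) : (EV P').obj (op A) ⟶ (EV Q').obj (op A) :=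
  ((FormalCoproduct.evalOp.{u} D AddCommGrpCat.{u}).map θ).app (op A)

theorem cmp_EVmap (A : FormalCoproduct.{u} D) (s : (EV P').obj (op A)) (i : A.I) :
    cmp Q' A (EVmap θ A s) i = θ.app (op (A.obj i)) (cmp P' A s i) := by
  have h : EVmap θ A ≫ Pi.π (fun i : A.I => Q'.obj (op (A.obj i))) i =
      Pi.π (fun i : A.I => P'.obj (op (A.obj i))) i ≫ θ.app (op (A.obj i)) :=
    Pi.map_π (fun i : A.I => θ.app (op (A.obj i))) i
  exact ConcreteCategory.congr_hom h s

theorem EVmap_natural {A B : FormalCoproduct.{u} D} (ψ : B ⟶ A) (s : (EV P').obj (op A)) :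
    EVmap θ B ((EV P').map ψ.op s) = (EV Q').map ψ.op (EVmap θ A s) :=
  ConcreteCategory.congr_hom
    (((FormalCoproduct.evalOp.{u} D AddCommGrpCat.{u}).map θ).naturality ψ.op) s

variable (P') in
/-- a cochain from its components -/
noncomputable def mkC (A : FormalCoproduct.{u} D) (c : ∀ i : A.I, P'.obj (op (A.obj i))) :
    (EV P').obj (op A) :=
  (Concrete.productEquiv (fun i : A.I => P'.obj (op (A.obj i)))).symm c

theorem cmp_mkC (A : FormalCoproduct.{u} D) (c : ∀ i : A.I, P'.obj (op (A.obj i))) (i : A.I) :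
    cmp P' A (mkC P' A c) i = c i := by
  have h := (Concrete.productEquiv (fun i : A.I => P'.obj (op (A.obj i)))).apply_symm_apply c
  have h2 := congrFun h i
  rw [Concrete.productEquiv_apply_apply] at h2
  exact h2

theorem cmp_add (A : FormalCoproduct.{u} D) (s t : (EV P').obj (op A)) (i : A.I) :
    cmp P' A (s + t) i = cmp P' A s i + cmp P' A t i := map_add _ _ _

theorem cmp_sub (A : FormalCoproduct.{u} D) (s t : (EV P').obj (op A)) (i : A.I) :
    cmp P' A (s - t) i = cmp P' A s i - cmp P' A t i := map_sub _ _ _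

end EVcalc

section Elem

variable {ι : Type*} {c : ComplexShape ι} (A : HomologicalComplex AddCommGrpCat.{u} c)

theorem homologyπ_surjective (n : ι) : Function.Surjective (A.homologyπ n) :=
  (AddCommGrpCat.epi_iff_surjective _).1 inferInstance

theorem iCycles_injective (n : ι) : Function.Injective (A.iCycles n) :=
  (AddCommGrpCat.mono_iff_injective _).1 inferInstance

theorem exists_cycle (n m : ι) (hnm : c.next n = m) (x : A.X n) (hx : A.d n m x = 0) :
    ∃ z : A.cycles n, A.iCycles n z = x := by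
  have h := ShortComplex.exact_of_f_is_kernel
    (ShortComplex.mk (A.iCycles n) (A.d n m) (A.iCycles_d n m)) (A.cyclesIsKernel n m hnm)
  rw [ShortComplex.ab_exact_iff] at h
  exact h x hx

theorem d_iCycles (n m : ι) (z : A.cycles n) : A.d n m (A.iCycles n z) = 0 := by
  have h := ConcreteCategory.congr_hom (A.iCycles_d n m) z
  rw [CategoryTheory.comp_apply] at h
  exact h

theorem exists_of_homologyπ_eq_zero (n m : ι) (hnm : c.prev m = n) (z : A.cycles m)
    (hz : A.homologyπ m z = 0) : ∃ y : A.X n, A.toCycles n m y = z := by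
  have h := ShortComplex.exact_of_g_is_cokernel
    (ShortComplex.mk (A.toCycles n m) (A.homologyπ m) (A.toCycles_comp_homologyπ n m))
    (A.homologyIsCokernel n m hnm)
  rw [ShortComplex.ab_exact_iff] at h
  exact h z hz

theorem homologyπ_toCycles (n m : ι) (y : A.X n) : A.homologyπ m (A.toCycles n m y) = 0 := by
  have h := ConcreteCategory.congr_hom (A.toCycles_comp_homologyπ n m) y
  rw [CategoryTheory.comp_apply] at h
  exact h

theorem iCycles_toCycles (n m : ι) (y : A.X n) : A.iCycles m (A.toCycles n m y) = A.d n m y := by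
  have h := ConcreteCategory.congr_hom (A.toCycles_i n m) y
  rw [CategoryTheory.comp_apply] at h
  exact h

variable {A} {B : HomologicalComplex AddCommGrpCat.{u} c} (φ : A ⟶ B)

theorem iCycles_cyclesMap (n : ι) (z : A.cycles n) :
    B.iCycles n (HomologicalComplex.cyclesMap φ n z) = φ.f n (A.iCycles n z) := by
  have h := ConcreteCategory.congr_hom (HomologicalComplex.cyclesMap_i φ n) z
  rw [CategoryTheory.comp_apply, CategoryTheory.comp_apply] at h
  exact h

theorem homologyMap_homologyπ (n : ι) (z : A.cycles n) :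
    HomologicalComplex.homologyMap φ n (A.homologyπ n z) =
      B.homologyπ n (HomologicalComplex.cyclesMap φ n z) := by
  have h := ConcreteCategory.congr_hom (HomologicalComplex.homologyπ_naturality φ n) z
  rw [CategoryTheory.comp_apply, CategoryTheory.comp_apply] at h
  exact h

theorem hom_comm_apply (n m : ι) (x : A.X n) : B.d n m (φ.f n x) = φ.f m (A.d n m x) := by
  have h := ConcreteCategory.congr_hom (φ.comm n m) x
  rw [CategoryTheory.comp_apply, CategoryTheory.comp_apply] at h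
  exact h

/-- a class dies under `φ` iff the image of a representing cocycle is a coboundary -/
theorem homologyMap_eq_zero_iff (n m : ι) (hnm : c.prev m = n) (z : A.cycles m) :
    HomologicalComplex.homologyMap φ m (A.homologyπ m z) = 0 ↔
      ∃ e : B.X n, B.d n m e = φ.f m (A.iCycles m z) := by
  rw [homologyMap_homologyπ]
  constructor
  · intro h
    obtain ⟨e, he⟩ := exists_of_homologyπ_eq_zero B n m hnm _ h
    refine ⟨e, ?_⟩
    rw [← iCycles_toCycles, he, iCycles_cyclesMap]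
  · rintro ⟨e, he⟩
    have : HomologicalComplex.cyclesMap φ m z = B.toCycles n m e := by
      apply iCycles_injective B m
      rw [iCycles_cyclesMap, iCycles_toCycles, he]
    rw [this, homologyπ_toCycles]

end Elem

section Cx

variable {C : Type u} [SmallCategory C] {X : C}

/-- restriction of a presheaf to `C/X` -/
abbrev PX (G : Cᵒᵖ ⥤ AddCommGrpCat.{u}) : (Over X)ᵒᵖ ⥤ AddCommGrpCat.{u} :=
  (Over.forget X).op ⋙ G

/-- functoriality of the Čech complex in the presheaf -/
noncomputable abbrev push (K : SimplicialObject (FormalCoproduct.{u} (Over X)))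
    {G G' : Cᵒᵖ ⥤ AddCommGrpCat.{u}} (θ : G ⟶ G') : Hyper.cechCx X K G ⟶ Hyper.cechCx X K G' :=
  (FormalCoproduct.cochainComplexFunctor K).map (Functor.whiskerLeft (Over.forget X).op θ)

theorem pull_f {K L : SimplicialObject (FormalCoproduct.{u} (Over X))} (f : L ⟶ K)
    (G : Cᵒᵖ ⥤ AddCommGrpCat.{u}) (q : ℕ) :
    (Hyper.cechMap X f G).f q = (EV (PX G)).map (f.app (op ⦋q⦌)).op := rfl

theorem push_f (K : SimplicialObject (FormalCoproduct.{u} (Over X)))
    {G G' : Cᵒᵖ ⥤ AddCommGrpCat.{u}} (θ : G ⟶ G') (q : ℕ) :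
    (push K θ).f q = EVmap (Functor.whiskerLeft (Over.forget X).op θ) (K.obj (op ⦋q⦌)) := rfl

theorem pull_id_apply (K : SimplicialObject (FormalCoproduct.{u} (Over X)))
    (G : Cᵒᵖ ⥤ AddCommGrpCat.{u}) (q : ℕ) (c : (Hyper.cechCx X K G).X q) :
    (Hyper.cechMap X (𝟙 K) G).f q c = c := by
  rw [pull_f]
  change (EV (PX G)).map (𝟙 (K.obj (op ⦋q⦌))).op c = c
  rw [op_id, Functor.map_id_apply]

theorem pull_comp_apply {K L M : SimplicialObject (FormalCoproduct.{u} (Over X))}
    (f : L ⟶ K) (g : M ⟶ L) (G : Cᵒᵖ ⥤ AddCommGrpCat.{u}) (q : ℕ)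
    (c : (Hyper.cechCx X K G).X q) :
    (Hyper.cechMap X (g ≫ f) G).f q c =
      (Hyper.cechMap X g G).f q ((Hyper.cechMap X f G).f q c) := by
  rw [pull_f, pull_f, pull_f]
  change (EV (PX G)).map (g.app (op ⦋q⦌) ≫ f.app (op ⦋q⦌)).op c = _
  rw [op_comp, Functor.map_comp_apply]
  rfl

theorem push_pull_apply {K L : SimplicialObject (FormalCoproduct.{u} (Over X))}
    (f : L ⟶ K) {G G' : Cᵒᵖ ⥤ AddCommGrpCat.{u}} (θ : G ⟶ G') (q : ℕ)
    (c : (Hyper.cechCx X K G).X q) :
    (push L θ).f q ((Hyper.cechMap X f G).f q c) =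
      (Hyper.cechMap X f G').f q ((push K θ).f q c) := by
  rw [pull_f, pull_f, push_f, push_f]
  exact EVmap_natural _ _ _

/-- `c` becomes a coboundary after pulling back along `f` -/
def Dies {K L : SimplicialObject (FormalCoproduct.{u} (Over X))} (f : L ⟶ K)
    (G : Cᵒᵖ ⥤ AddCommGrpCat.{u}) (q : ℕ) (c : (Hyper.cechCx X K G).X q) : Prop :=
  ∃ e : (Hyper.cechCx X L G).X ((ComplexShape.up ℕ).prev q),
    (Hyper.cechCx X L G).d ((ComplexShape.up ℕ).prev q) q e = (Hyper.cechMap X f G).f q c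

end Cx

section DDsec

variable {C : Type u} [SmallCategory C] (J : GrothendieckTopology C) (X : C)
  [∀ (n : ℕ) (F : (SimplexCategory.Truncated n)ᵒᵖ ⥤ FormalCoproduct.{u} (Over X)),
      (SimplexCategory.Truncated.inclusion n).op.HasRightKanExtension F]

/-- all Čech classes in degree `q` die after refinement -/
def DD (G : Cᵒᵖ ⥤ AddCommGrpCat.{u}) (q : ℕ) : Prop :=
  ∀ (K : SimplicialObject (FormalCoproduct.{u} (Over X))), Hyper.IsHypercovering J X K →
    ∀ ξ : Hyper.cechH X K G q, ∃ (L : SimplicialObject (FormalCoproduct.{u} (Over X))) (f : L ⟶ K),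
      Hyper.IsHypercovering J X L ∧ Hyper.cechHMap X f G q ξ = 0

/-- the same in terms of cocycles -/
def DD' (G : Cᵒᵖ ⥤ AddCommGrpCat.{u}) (q : ℕ) : Prop :=
  ∀ (K : SimplicialObject (FormalCoproduct.{u} (Over X))), Hyper.IsHypercovering J X K →
    ∀ c : (Hyper.cechCx X K G).X q, (Hyper.cechCx X K G).d q (q + 1) c = 0 →
      ∃ (L : SimplicialObject (FormalCoproduct.{u} (Over X))) (f : L ⟶ K),
        Hyper.IsHypercovering J X L ∧ Dies f G q c

theorem dd_iff (G : Cᵒᵖ ⥤ AddCommGrpCat.{u}) (q : ℕ) : DD J X G q ↔ DD' J X G q := by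
  constructor
  · intro h K hK c hc
    obtain ⟨z, rfl⟩ := exists_cycle (Hyper.cechCx X K G) q (q + 1) (by simp) c hc
    obtain ⟨L, f, hL, hf⟩ := h K hK ((Hyper.cechCx X K G).homologyπ q z)
    refine ⟨L, f, hL, ?_⟩
    exact (homologyMap_eq_zero_iff (Hyper.cechMap X f G) _ q rfl z).1 hf
  · intro h K hK ξ
    obtain ⟨z, rfl⟩ := homologyπ_surjective (Hyper.cechCx X K G) q ξ
    obtain ⟨L, f, hL, hf⟩ := h K hK ((Hyper.cechCx X K G).iCycles q z)
      (d_iCycles _ q (q + 1) z)
    refine ⟨L, f, hL, ?_⟩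
    exact (homologyMap_eq_zero_iff (Hyper.cechMap X f G) _ q rfl z).2 hf

end DDsec

section LiftGeneral

variable {D : Type u} [SmallCategory D] (J' : GrothendieckTopology D)
  {P' Q' : Dᵒᵖ ⥤ AddCommGrpCat.{u}} (θ : P' ⟶ Q') (A : FormalCoproduct.{u} D)
  (e : (EV Q').obj (op A))

/-- local lifts of the components of a cochain -/
structure LiftIdx2 : Type u where
  /-- the component -/
  i : A.I
  /-- the source -/
  W : D
  /-- the map -/
  f : W ⟶ A.obj i
  /-- the lift -/
  t : P'.obj (op W)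
  /-- it is a lift -/
  ht : θ.app (op W) t = Q'.map f.op (cmp Q' A e i)

/-- the semi-representable object of local lifts -/
def ZL : FormalCoproduct.{u} D := ⟨LiftIdx2 θ A e, fun x => x.W⟩

/-- its map to `A` -/
def uL : ZL θ A e ⟶ A := ⟨fun x => x.i, fun x => x.f⟩

/-- the tautological cochain -/
noncomputable def tauL : (EV P').obj (op (ZL θ A e)) :=
  mkC P' (ZL θ A e) (fun x : LiftIdx2 θ A e => x.t)

theorem EVmap_tauL : EVmap θ (ZL θ A e) (tauL θ A e) = (EV Q').map (uL θ A e).op e := by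
  apply ev_ext
  intro x
  rw [cmp_EVmap, cmp_map]
  have h : cmp P' (ZL θ A e) (tauL θ A e) x = x.t := cmp_mkC _ _ x
  rw [h]
  exact x.ht

variable {θ A e} in
theorem isSRCovering_uL
    (h : ∀ i : A.I, ∃ S ∈ J' (A.obj i), ∀ ⦃W : D⦄ (f : W ⟶ A.obj i), S f →
      ∃ t : P'.obj (op W), θ.app (op W) t = Q'.map f.op (cmp Q' A e i)) :
    Hyper.IsSRCovering J' (uL θ A e) := by
  intro j
  obtain ⟨S, hS, hS'⟩ := h j
  refine J'.superset_covering ?_ hS
  intro W f hf
  obtain ⟨t, ht⟩ := hS' f hf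
  let x : LiftIdx2 θ A e := ⟨j, W, f, t, ht⟩
  have h := Sieve.ofArrows_mk (fun i : {i : (ZL θ A e).I // (uL θ A e).f i = j} =>
      (ZL θ A e).obj i.1)
    (fun i => (uL θ A e).φ i.1 ≫ eqToHom (congrArg A.obj i.2)) ⟨x, rfl⟩
  have e' : (uL θ A e).φ x ≫ eqToHom (congrArg A.obj (rfl : (uL θ A e).f x = j)) = f := by
    rw [eqToHom_refl, Category.comp_id]
    rfl
  exact e' ▸ h

end LiftGeneral

section Refine

variable {C : Type u} [SmallCategory C] [HasPullbacks C] {J : GrothendieckTopology C} {X : C}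
  [∀ (n : ℕ) (F : (SimplexCategory.Truncated n)ᵒᵖ ⥤ FormalCoproduct.{u} (Over X)),
      (SimplexCategory.Truncated.inclusion n).op.HasRightKanExtension F]

omit [HasPullbacks C] [∀ (n : ℕ) (F : (SimplexCategory.Truncated n)ᵒᵖ ⥤ FormalCoproduct.{u} (Over X)),
      (SimplexCategory.Truncated.inclusion n).op.HasRightKanExtension F] in
/-- transport of a local condition from `C` to `C/X` -/
theorem over_of_local (Y : Over X) (p : ∀ ⦃V : C⦄, (V ⟶ Y.left) → Prop)
    (h : ∃ S ∈ J Y.left, ∀ ⦃V : C⦄ (f : V ⟶ Y.left), S f → p f) :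
    ∃ S ∈ (J.over X) Y, ∀ ⦃W : Over X⦄ (f : W ⟶ Y), S f → p f.left := by
  obtain ⟨S, hS, hS'⟩ := h
  refine ⟨(Sieve.overEquiv Y).symm S, J.overEquiv_symm_mem_over Y S hS, ?_⟩
  intro W f hf
  exact hS' f.left ((Sieve.overEquiv_symm_iff S f).1 hf)

/-- (R1) a cochain whose components vanish locally vanishes after refinement -/
theorem exists_kill_cochain (K : SimplicialObject (FormalCoproduct.{u} (Over X)))
    (hK : Hyper.IsHypercovering J X K) (G : Cᵒᵖ ⥤ AddCommGrpCat.{u}) (q : ℕ)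
    (c : (Hyper.cechCx X K G).X q)
    (hloc : ∀ i : (K.obj (op ⦋q⦌)).I, ∃ S ∈ J ((K.obj (op ⦋q⦌)).obj i).left,
      ∀ ⦃V : C⦄ (f : V ⟶ ((K.obj (op ⦋q⦌)).obj i).left), S f →
        G.map f.op (cmp (PX G) (K.obj (op ⦋q⦌)) c i) = 0) :
    ∃ (L : SimplicialObject (FormalCoproduct.{u} (Over X))) (f : L ⟶ K),
      Hyper.IsHypercovering J X L ∧ (Hyper.cechMap X f G).f q c = 0 := by
  let P' := PX (X := X) G
  let s : (EV P').obj (op (K.obj (op ⦋q⦌))) := c
  obtain ⟨L, f, g, hL, hg⟩ := exists_refinement K hK q (ZK P' _ s) (uK P' _ s)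
    (isSRCovering_uK (J.over X) s (fun i => over_of_local ((K.obj (op ⦋q⦌)).obj i)
      (fun V f => G.map f.op (cmp P' _ s i) = 0) (hloc i)))
  refine ⟨L, f, hL, ?_⟩
  change (EV P').map (f.app (op ⦋q⦌)).op s = 0
  rw [← hg, op_comp, Functor.map_comp, CategoryTheory.comp_apply, ev_uK, map_zero]

/-- (R2) a cochain whose components lift locally along `θ` lifts after refinement -/
theorem exists_lift_cochain (K : SimplicialObject (FormalCoproduct.{u} (Over X)))
    (hK : Hyper.IsHypercovering J X K) {G G' : Cᵒᵖ ⥤ AddCommGrpCat.{u}} (θ : G ⟶ G') (q : ℕ)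
    (e : (Hyper.cechCx X K G').X q)
    (hloc : ∀ i : (K.obj (op ⦋q⦌)).I, ∃ S ∈ J ((K.obj (op ⦋q⦌)).obj i).left,
      ∀ ⦃V : C⦄ (f : V ⟶ ((K.obj (op ⦋q⦌)).obj i).left), S f →
        ∃ t : G.obj (op V), θ.app (op V) t = G'.map f.op (cmp (PX G') (K.obj (op ⦋q⦌)) e i)) :
    ∃ (L : SimplicialObject (FormalCoproduct.{u} (Over X))) (f : L ⟶ K),
      Hyper.IsHypercovering J X L ∧ ∃ e' : (Hyper.cechCx X L G).X q,
        (push L θ).f q e' = (Hyper.cechMap X f G').f q e := by
  let θ' : PX (X := X) G ⟶ PX G' := Functor.whiskerLeft (Over.forget X).op θ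
  let s : (EV (PX (X := X) G')).obj (op (K.obj (op ⦋q⦌))) := e
  obtain ⟨L, f, g, hL, hg⟩ := exists_refinement K hK q (ZL θ' _ s) (uL θ' _ s)
    (isSRCovering_uL (J.over X) (fun i => over_of_local ((K.obj (op ⦋q⦌)).obj i)
      (fun V f => ∃ t : G.obj (op V), θ.app (op V) t = G'.map f.op (cmp (PX G') _ s i)) (hloc i)))
  refine ⟨L, f, hL, (EV (PX G)).map g.op (tauL θ' _ s), ?_⟩
  rw [push_f, pull_f]
  change EVmap θ' _ ((EV (PX G)).map g.op (tauL θ' _ s)) = (EV (PX G')).map (f.app (op ⦋q⦌)).op s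
  rw [EVmap_natural, EVmap_tauL, ← hg, op_comp, Functor.map_comp_apply]

end Refine

section Compare

variable {C : Type u} [SmallCategory C] [HasPullbacks C] {J : GrothendieckTopology C} {X : C}
  [∀ (n : ℕ) (F : (SimplexCategory.Truncated n)ᵒᵖ ⥤ FormalCoproduct.{u} (Over X)),
      (SimplexCategory.Truncated.inclusion n).op.HasRightKanExtension F]

omit [HasPullbacks C] [∀ (n : ℕ) (F : (SimplexCategory.Truncated n)ᵒᵖ ⥤ FormalCoproduct.{u} (Over X)),
      (SimplexCategory.Truncated.inclusion n).op.HasRightKanExtension F] in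
theorem cmp_push (K : SimplicialObject (FormalCoproduct.{u} (Over X)))
    {G G' : Cᵒᵖ ⥤ AddCommGrpCat.{u}} (θ : G ⟶ G') (q : ℕ) (c : (Hyper.cechCx X K G).X q)
    (i : (K.obj (op ⦋q⦌)).I) :
    cmp (PX G') (K.obj (op ⦋q⦌)) ((push K θ).f q c) i =
      θ.app (op ((K.obj (op ⦋q⦌)).obj i).left) (cmp (PX G) (K.obj (op ⦋q⦌)) c i) := by
  rw [push_f]
  exact cmp_EVmap (Functor.whiskerLeft (Over.forget X).op θ) _ c i

/-- local injectivity, elementwise -/
def LI {G G' : Cᵒᵖ ⥤ AddCommGrpCat.{u}} (J : GrothendieckTopology C) (θ : G ⟶ G') : Prop :=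
  ∀ (U : C) (t : G.obj (op U)), θ.app (op U) t = 0 →
    ∃ S ∈ J U, ∀ ⦃V : C⦄ (f : V ⟶ U), S f → G.map f.op t = 0

/-- local surjectivity, elementwise -/
def LS {G G' : Cᵒᵖ ⥤ AddCommGrpCat.{u}} (J : GrothendieckTopology C) (θ : G ⟶ G') : Prop :=
  ∀ (U : C) (t' : G'.obj (op U)),
    ∃ S ∈ J U, ∀ ⦃V : C⦄ (f : V ⟶ U), S f → ∃ t : G.obj (op V), θ.app (op V) t = G'.map f.op t'

variable {G G' : Cᵒᵖ ⥤ AddCommGrpCat.{u}} (θ : G ⟶ G')

/-- (R1) for a locally injective map -/
theorem exists_kill_of_LI (hLI : LI J θ) (K : SimplicialObject (FormalCoproduct.{u} (Over X)))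
    (hK : Hyper.IsHypercovering J X K) (q : ℕ) (c : (Hyper.cechCx X K G).X q)
    (hc : (push K θ).f q c = 0) :
    ∃ (L : SimplicialObject (FormalCoproduct.{u} (Over X))) (f : L ⟶ K),
      Hyper.IsHypercovering J X L ∧ (Hyper.cechMap X f G).f q c = 0 := by
  refine exists_kill_cochain K hK G q c (fun i => hLI _ _ ?_)
  rw [← cmp_push, hc]
  exact cmp_zero _ _ i

/-- (R2) for a locally surjective map -/
theorem exists_lift_of_LS (hLS : LS J θ) (K : SimplicialObject (FormalCoproduct.{u} (Over X)))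
    (hK : Hyper.IsHypercovering J X K) (q : ℕ) (e : (Hyper.cechCx X K G').X q) :
    ∃ (L : SimplicialObject (FormalCoproduct.{u} (Over X))) (f : L ⟶ K),
      Hyper.IsHypercovering J X L ∧ ∃ e' : (Hyper.cechCx X L G).X q,
        (push L θ).f q e' = (Hyper.cechMap X f G').f q e :=
  exists_lift_cochain K hK θ q e (fun _ => hLS _ _)

theorem dd'_of_locBij_mpr (hLI : LI J θ) (hLS : LS J θ) (q : ℕ) (h : DD' J X G' q) :
    DD' J X G q := by
  intro K hK c hc
  let c' := (push K θ).f q c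
  have hc' : (Hyper.cechCx X K G').d q (q + 1) c' = 0 := by
    rw [hom_comm_apply, hc, map_zero]
  obtain ⟨L, f, hL, e, he⟩ := h K hK c' hc'
  obtain ⟨L', f', hL', e', he'⟩ := exists_lift_of_LS θ hLS L hL ((ComplexShape.up ℕ).prev q) e
  let c1 : (Hyper.cechCx X L' G).X q := (Hyper.cechMap X f' G).f q ((Hyper.cechMap X f G).f q c) -
    (Hyper.cechCx X L' G).d ((ComplexShape.up ℕ).prev q) q e'
  have hc1 : (push L' θ).f q c1 = 0 := by
    change (push L' θ).f q (_ - _) = 0
    rw [map_sub, push_pull_apply, push_pull_apply, ← hom_comm_apply, he', hom_comm_apply, he]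
    exact sub_self _
  obtain ⟨L'', f'', hL'', hk⟩ := exists_kill_of_LI θ hLI L' hL' q c1 hc1
  refine ⟨L'', f'' ≫ f' ≫ f, hL'', (Hyper.cechMap X f'' G).f _ e', ?_⟩
  rw [hom_comm_apply, pull_comp_apply, pull_comp_apply]
  have h2 : (Hyper.cechMap X f'' G).f q ((Hyper.cechMap X f' G).f q ((Hyper.cechMap X f G).f q c)) -
      (Hyper.cechMap X f'' G).f q ((Hyper.cechCx X L' G).d ((ComplexShape.up ℕ).prev q) q e') = 0 := by
    rw [← map_sub]
    exact hk
  exact (sub_eq_zero.1 h2).symm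

theorem dd'_of_locBij_mp (hLI : LI J θ) (hLS : LS J θ) (q : ℕ) (h : DD' J X G q) :
    DD' J X G' q := by
  intro K hK c' hc'
  obtain ⟨L, f, hL, c, hc⟩ := exists_lift_of_LS θ hLS K hK q c'
  have h1 : (push L θ).f (q + 1) ((Hyper.cechCx X L G).d q (q + 1) c) = 0 := by
    rw [← hom_comm_apply, hc, hom_comm_apply, hc', map_zero]
  obtain ⟨L', f', hL', hk⟩ := exists_kill_of_LI θ hLI L hL (q + 1) _ h1
  have hcyc : (Hyper.cechCx X L' G).d q (q + 1) ((Hyper.cechMap X f' G).f q c) = 0 := by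
    rw [hom_comm_apply, hk]
  obtain ⟨L'', f'', hL'', e, he⟩ := h L' hL' _ hcyc
  refine ⟨L'', f'' ≫ f' ≫ f, hL'', (push L'' θ).f _ e, ?_⟩
  rw [hom_comm_apply, he, push_pull_apply, push_pull_apply, hc, pull_comp_apply, pull_comp_apply]

end Compare

end Groth.Agent.R2.H38.HypCmp
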