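import Groth.Agent.R2.H38HypCmp

/-!
# Čech cochains of sheaves over hypercoverings: degree zero (helper38)
-/

set_option autoImplicit false

open CategoryTheory Opposite Limits Simplicial

universe u

namespace Groth.Agent.R2.H38.HypCmp

open Groth.Agent.R2.H38.HypFC Groth.Agent.R2.H38.HypRefine Groth.Agent.R2.H38.HypKill
  Groth.Agent.R2.H38.HypConv

section Ev

variable {D : Type u} [SmallCategory D] (P' : Dᵒᵖ ⥤ AddCommGrpCat.{u})

/-- evaluation of a cochain at a point -/
noncomputable def ev {A : FormalCoproduct.{u} D} {V : D}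
    (σ : (FormalCoproduct.incl D).obj V ⟶ A) (c : (EV P').obj (op A)) : P'.obj (op V) :=
  cmp P' ((FormalCoproduct.incl D).obj V) ((EV P').map σ.op c) PUnit.unit

theorem ev_comp {A B : FormalCoproduct.{u} D} {V : D}
    (σ : (FormalCoproduct.incl D).obj V ⟶ B) (ψ : B ⟶ A) (c : (EV P').obj (op A)) :
    ev P' (σ ≫ ψ) c = ev P' σ ((EV P').map ψ.op c) := by
  unfold ev
  rw [op_comp, Functor.map_comp_apply]

theorem ev_res {A : FormalCoproduct.{u} D} {V V' : D} (h : V' ⟶ V)
    (σ : (FormalCoproduct.incl D).obj V ⟶ A) (c : (EV P').obj (op A)) :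
    ev P' ((FormalCoproduct.incl D).map h ≫ σ) c = P'.map h.op (ev P' σ c) := by
  rw [ev_comp]
  exact cmp_map P' ((FormalCoproduct.incl D).map h) _ PUnit.unit

theorem ev_fromIncl {A : FormalCoproduct.{u} D} {V : D} (i : A.I) (a : V ⟶ A.obj i)
    (c : (EV P').obj (op A)) :
    ev P' (FormalCoproduct.Hom.fromIncl i a) c = P'.map a.op (cmp P' A c i) :=
  cmp_map P' (FormalCoproduct.Hom.fromIncl i a) c PUnit.unit

end Ev

section Glob

variable {C : Type u} [SmallCategory C] {X : C} (G : Cᵒᵖ ⥤ AddCommGrpCat.{u})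

/-- the cochain on `A` given by a section over `X` -/
noncomputable def globA (A : FormalCoproduct.{u} (Over X)) (t : G.obj (op X)) :
    (EV (PX G)).obj (op A) :=
  mkC (PX G) A (fun i => G.map (A.obj i).hom.op t)

theorem cmp_globA (A : FormalCoproduct.{u} (Over X)) (t : G.obj (op X)) (i : A.I) :
    cmp (PX G) A (globA G A t) i = G.map (A.obj i).hom.op t := cmp_mkC _ _ i

theorem EV_map_globA {A B : FormalCoproduct.{u} (Over X)} (ψ : B ⟶ A) (t : G.obj (op X)) :
    (EV (PX G)).map ψ.op (globA G A t) = globA G B t := by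
  apply ev_ext
  intro j
  rw [cmp_map, cmp_globA, cmp_globA]
  change G.map (ψ.φ j).left.op (G.map (A.obj (ψ.f j)).hom.op t) = _
  rw [← Functor.map_comp_apply, ← op_comp, Over.w]

variable {G} in
theorem EVmap_globA {G' : Cᵒᵖ ⥤ AddCommGrpCat.{u}} (θ : G ⟶ G')
    (A : FormalCoproduct.{u} (Over X)) (t : G.obj (op X)) :
    EVmap (Functor.whiskerLeft (Over.forget X).op θ) A (globA G A t) =
      globA G' A (θ.app (op X) t) := by
  apply ev_ext
  intro j
  rw [cmp_EVmap, cmp_globA, cmp_globA]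
  exact NatTrans.naturality_apply θ (A.obj j).hom.op t

variable (K : SimplicialObject (FormalCoproduct.{u} (Over X)))

/-- the `0`-cochain given by a section over `X` -/
noncomputable def glob (t : G.obj (op X)) : (Hyper.cechCx X K G).X 0 :=
  globA G (K.obj (op ⦋0⦌)) t

theorem pull_glob {K L : SimplicialObject (FormalCoproduct.{u} (Over X))} (f : L ⟶ K)
    (t : G.obj (op X)) : (Hyper.cechMap X f G).f 0 (glob G K t) = glob G L t := by
  rw [pull_f]
  exact EV_map_globA G _ t

variable {G} in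
theorem push_glob {G' : Cᵒᵖ ⥤ AddCommGrpCat.{u}} (θ : G ⟶ G') (t : G.obj (op X)) :
    (push K θ).f 0 (glob G K t) = glob G' K (θ.app (op X) t) := by
  rw [push_f]
  exact EVmap_globA θ _ t

theorem d01 : (Hyper.cechCx X K G).d 0 1 =
    (EV (PX G)).map (K.δ 0).op - (EV (PX G)).map (K.δ 1).op := by
  have h : (Hyper.cechCx X K G).d 0 1 = AlgebraicTopology.AlternatingCofaceMapComplex.objD
      ((FormalCoproduct.cosimplicialObjectFunctor K).obj (PX G)) 0 :=
    CochainComplex.of_d (fun n => ((FormalCoproduct.cosimplicialObjectFunctor K).obj (PX G)).obj ⦋n⦌)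
      (AlgebraicTopology.AlternatingCofaceMapComplex.objD
        ((FormalCoproduct.cosimplicialObjectFunctor K).obj (PX G))) 0
  rw [h, AlgebraicTopology.AlternatingCofaceMapComplex.objD, Fin.sum_univ_two]
  simp only [Fin.val_zero, pow_zero, one_zsmul, Fin.val_one, pow_one, neg_one_zsmul]
  rw [← sub_eq_add_neg]
  rfl

theorem d01_apply (c : (Hyper.cechCx X K G).X 0) :
    (Hyper.cechCx X K G).d 0 1 c =
      (EV (PX G)).map (K.δ 0).op c - (EV (PX G)).map (K.δ 1).op c := by
  rw [d01]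
  rfl

theorem d_glob (t : G.obj (op X)) : (Hyper.cechCx X K G).d 0 1 (glob G K t) = 0 := by
  rw [d01_apply]
  change (EV (PX G)).map (K.δ 0).op (globA G _ t) - (EV (PX G)).map (K.δ 1).op (globA G _ t) = 0
  rw [EV_map_globA, EV_map_globA]
  exact sub_self _

end Glob

section SheafZero

open Groth.Agent.R2.H38.HypCone Groth.Agent.R2.H38.HypSite

variable {C : Type u} [SmallCategory C] {J : GrothendieckTopology C} {X : C}
  [∀ (n : ℕ) (F : (SimplexCategory.Truncated n)ᵒᵖ ⥤ FormalCoproduct.{u} (Over X)),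
      (SimplexCategory.Truncated.inclusion n).op.HasRightKanExtension F]
  (F : Sheaf J AddCommGrpCat.{u})

omit [∀ (n : ℕ) (F : (SimplexCategory.Truncated n)ᵒᵖ ⥤ FormalCoproduct.{u} (Over X)),
      (SimplexCategory.Truncated.inclusion n).op.HasRightKanExtension F] in
theorem isSheaf_forget : Presieve.IsSheaf J (F.obj ⋙ forget AddCommGrpCat.{u}) := by
  have hP := F.property
  rw [Presheaf.isSheaf_iff_isSheaf_forget J F.obj (forget _), isSheaf_iff_isSheaf_of_type] at hP
  exact hP

omit [∀ (n : ℕ) (F : (SimplexCategory.Truncated n)ᵒᵖ ⥤ FormalCoproduct.{u} (Over X)),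
      (SimplexCategory.Truncated.inclusion n).op.HasRightKanExtension F] in
/-- separatedness -/
theorem sheaf_sep {U : C} (S : Sieve U) (hS : S ∈ J U) (x y : F.obj.obj (op U))
    (h : ∀ ⦃V : C⦄ (f : V ⟶ U), S f → F.obj.map f.op x = F.obj.map f.op y) : x = y :=
  ((isSheaf_forget F) S hS).isSeparatedFor.ext (fun _ _ hf => h _ hf)

omit [∀ (n : ℕ) (F : (SimplexCategory.Truncated n)ᵒᵖ ⥤ FormalCoproduct.{u} (Over X)),
      (SimplexCategory.Truncated.inclusion n).op.HasRightKanExtension F] in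
/-- separatedness, over `X` -/
theorem sheaf_sep_over (W : Over X) (S : Sieve W) (hS : S ∈ (J.over X) W)
    (x y : F.obj.obj (op W.left))
    (h : ∀ ⦃V : Over X⦄ (f : V ⟶ W), S f → F.obj.map f.left.op x = F.obj.map f.left.op y) :
    x = y := by
  refine sheaf_sep F (Sieve.overEquiv W S) ((J.mem_over_iff S).1 hS) x y ?_
  intro V g hg
  rw [Sieve.overEquiv_iff] at hg
  exact h _ hg

theorem glob_injective (K : SimplicialObject (FormalCoproduct.{u} (Over X)))
    (hK : Hyper.IsHypercovering J X K) (t : F.obj.obj (op X)) (h : glob F.obj K t = 0) : t = 0 := by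
  refine sheaf_sep F _ hK.1 t 0 ?_
  intro V g hg
  obtain ⟨i, a, rfl⟩ := (Sieve.mem_ofArrows_iff _ _ _).1 hg
  have h1 : cmp (PX F.obj) (K.obj (op ⦋0⦌)) (glob F.obj K t) i = 0 := by
    rw [h]
    exact cmp_zero _ _ i
  have h2 : F.obj.map ((K.obj (op ⦋0⦌)).obj i).hom.op t = 0 := (cmp_globA F.obj _ t i).symm.trans h1
  rw [op_comp, Functor.map_comp_apply, h2, map_zero, map_zero]

theorem glob_inj (K : SimplicialObject (FormalCoproduct.{u} (Over X)))
    (hK : Hyper.IsHypercovering J X K) (t t' : F.obj.obj (op X))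
    (h : glob F.obj K t = glob F.obj K t') : t = t' := by
  refine sheaf_sep F _ hK.1 t t' ?_
  intro V g hg
  obtain ⟨i, a, rfl⟩ := (Sieve.mem_ofArrows_iff _ _ _).1 hg
  have h1 : cmp (PX F.obj) (K.obj (op ⦋0⦌)) (glob F.obj K t) i =
      cmp (PX F.obj) (K.obj (op ⦋0⦌)) (glob F.obj K t') i := by rw [h]
  have h2 : F.obj.map ((K.obj (op ⦋0⦌)).obj i).hom.op t =
      F.obj.map ((K.obj (op ⦋0⦌)).obj i).hom.op t' :=
    (cmp_globA F.obj _ t i).symm.trans (h1.trans (cmp_globA F.obj _ t' i))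
  rw [op_comp, Functor.map_comp_apply, Functor.map_comp_apply, h2]

theorem exists_glob (K : SimplicialObject (FormalCoproduct.{u} (Over X)))
    (hK : Hyper.IsHypercovering J X K) (c : (Hyper.cechCx X K F.obj).X 0)
    (hc : (Hyper.cechCx X K F.obj).d 0 1 c = 0) :
    ∃ t : F.obj.obj (op X), c = glob F.obj K t := by
  have hKllp : LLP (J.over X) (PK K) (augPt (PK K)) :=
    llp_of_isHypercoveringSite (Groth.Agent.R2.H38.HypOver.isHypercoveringSite_over hK)
  let P' := PX (X := X) F.obj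
  let K0 := K.obj (op ⦋0⦌)
  have hc' : (EV P').map (K.δ 0).op c = (EV P').map (K.δ 1).op c := by
    have := d01_apply F.obj K c
    rw [hc] at this
    exact (sub_eq_zero.1 this.symm)
  let x : ∀ i : K0.I, F.obj.obj (op (K0.obj i).left) := fun i => cmp P' K0 c i
  have hx : Presieve.Arrows.Compatible (F.obj ⋙ forget AddCommGrpCat.{u})
      (fun i : K0.I => (K0.obj i).hom) x := by
    intro i j Z gi gj hij
    change F.obj.map gi.op (x i) = F.obj.map gj.op (x j)
    let W : Over X := Over.mk (gi ≫ (K0.obj i).hom)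
    let a : W ⟶ K0.obj i := Over.homMk gi rfl
    let b : W ⟶ K0.obj j := Over.homMk gj hij.symm
    let α : (FormalCoproduct.incl (Over X)).obj W ⟶ K0 := FormalCoproduct.Hom.fromIncl i a
    let β : (FormalCoproduct.incl (Over X)).obj W ⟶ K0 := FormalCoproduct.Hom.fromIncl j b
    obtain ⟨S, hS, hS'⟩ := liftB_zero hKllp W ![α, β] trivial
    refine sheaf_sep_over F W S hS _ _ ?_
    intro V h hh
    obtain ⟨τ, hτ⟩ := hS' h hh
    have h0 : τ ≫ K.δ 0 = (FormalCoproduct.incl (Over X)).map h ≫ α := hτ 0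
    have h1 : τ ≫ K.δ 1 = (FormalCoproduct.incl (Over X)).map h ≫ β := hτ 1
    have e1 : P'.map h.op (P'.map a.op (x i)) = ev P' (τ ≫ K.δ 0) c := by
      rw [h0, ev_res, ev_fromIncl]
    have e2 : P'.map h.op (P'.map b.op (x j)) = ev P' (τ ≫ K.δ 1) c := by
      rw [h1, ev_res, ev_fromIncl]
    have e3 : ev P' (τ ≫ K.δ 0) c = ev P' (τ ≫ K.δ 1) c := by
      rw [ev_comp, ev_comp, hc']
    exact e1.trans (e3.trans e2.symm)
  have hsh : Presieve.IsSheafFor (F.obj ⋙ forget AddCommGrpCat.{u})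
      (Presieve.ofArrows (fun i : K0.I => (K0.obj i).left) (fun i => (K0.obj i).hom)) := by
    rw [Presieve.isSheafFor_iff_generate]
    exact (isSheaf_forget F) _ hK.1
  obtain ⟨t, ht, _⟩ := ((Presieve.isSheafFor_arrows_iff _ _).1 hsh) x hx
  refine ⟨t, ?_⟩
  apply ev_ext
  intro i
  refine Eq.trans ?_ (cmp_globA F.obj K0 t i).symm
  exact (ht i).symm

end SheafZero

section Triv

open Groth.Agent.R2.H38.HypCone Groth.Agent.R2.H38.HypSite

variable {C : Type u} [SmallCategory C] (J : GrothendieckTopology C) (X : C)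
  [∀ (n : ℕ) (F : (SimplexCategory.Truncated n)ᵒᵖ ⥤ FormalCoproduct.{u} (Over X)),
      (SimplexCategory.Truncated.inclusion n).op.HasRightKanExtension F]

/-- the trivial hypercovering `{X → X}` -/
noncomputable def trivK : SimplicialObject (FormalCoproduct.{u} (Over X)) :=
  (Functor.const _).obj ((FormalCoproduct.incl (Over X)).obj (Over.mk (𝟙 X)))

/-- the constant value is terminal -/
noncomputable def trivTerminal :
    IsTerminal ((FormalCoproduct.incl (Over X)).obj (Over.mk (𝟙 X))) :=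
  FormalCoproduct.isTerminalIncl _ Over.mkIdTerminal

theorem isHypercovering_trivK : Hyper.IsHypercovering J X (trivK X) := by
  refine isHypercovering_of_llp (llp_of_liftB ?_ ?_ ?_)
  · intro U
    exact ⟨⊤, (J.over X).top_mem U, fun V f _ => ⟨(trivTerminal X).from _⟩⟩
  · intro U β _
    exact ⟨⊤, (J.over X).top_mem U, fun V f _ =>
      ⟨(trivTerminal X).from _, fun i => (trivTerminal X).hom_ext _ _⟩⟩
  · intro n U β _
    exact ⟨⊤, (J.over X).top_mem U, fun V f _ =>
      ⟨(trivTerminal X).from _, fun i => (trivTerminal X).hom_ext _ _⟩⟩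

end Triv

section DiesLemmas

variable {C : Type u} [SmallCategory C] {X : C}
  {K L : SimplicialObject (FormalCoproduct.{u} (Over X))} (f : L ⟶ K)
  (G : Cᵒᵖ ⥤ AddCommGrpCat.{u})

theorem dies_succ_iff (p : ℕ) (c : (Hyper.cechCx X K G).X (p + 1)) :
    Dies f G (p + 1) c ↔ ∃ e : (Hyper.cechCx X L G).X p,
      (Hyper.cechCx X L G).d p (p + 1) e = (Hyper.cechMap X f G).f (p + 1) c := by
  unfold Dies
  have h : (ComplexShape.up ℕ).prev (p + 1) = p := by simp
  rw [h]

theorem dies_zero_iff (c : (Hyper.cechCx X K G).X 0) :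
    Dies f G 0 c ↔ (Hyper.cechMap X f G).f 0 c = 0 := by
  unfold Dies
  have hsh : (Hyper.cechCx X L G).d ((ComplexShape.up ℕ).prev 0) 0 = 0 :=
    (Hyper.cechCx X L G).shape _ _ (by simp)
  constructor
  · rintro ⟨e, he⟩
    rw [← he, hsh]
    rfl
  · intro h
    refine ⟨0, ?_⟩
    rw [h, map_zero]

theorem glob_zero : glob G K (0 : G.obj (op X)) = 0 := by
  apply ev_ext
  intro i
  refine (cmp_globA G _ 0 i).trans ?_
  rw [map_zero]
  exact (cmp_zero (PX G) (K.obj (op ⦋0⦌)) i).symm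

theorem d_d_apply (p : ℕ) (c : (Hyper.cechCx X K G).X p) :
    (Hyper.cechCx X K G).d (p + 1) (p + 2) ((Hyper.cechCx X K G).d p (p + 1) c) = 0 := by
  have h := ConcreteCategory.congr_hom ((Hyper.cechCx X K G).d_comp_d p (p + 1) (p + 2)) c
  rw [CategoryTheory.comp_apply] at h
  exact h

end DiesLemmas

section ExactCochains

variable {C : Type u} [SmallCategory C] {X : C}
  (K : SimplicialObject (FormalCoproduct.{u} (Over X)))
  {G G' G'' : Cᵒᵖ ⥤ AddCommGrpCat.{u}} (ι : G ⟶ G') (π : G' ⟶ G'')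

/-- a sectionwise injective map is injective on cochains -/
theorem push_injective (hι : ∀ U : C, Function.Injective (ι.app (op U))) (q : ℕ)
    (a a' : (Hyper.cechCx X K G).X q) (h : (push K ι).f q a = (push K ι).f q a') : a = a' := by
  apply ev_ext (PX G) (K.obj (op ⦋q⦌))
  intro i
  apply hι
  exact ((cmp_push K ι q a i).symm.trans (by rw [h])).trans (cmp_push K ι q a' i)

/-- sectionwise exactness gives exactness on cochains -/
theorem push_exact (hex : ∀ (U : C) (y : G'.obj (op U)), π.app (op U) y = 0 →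
      ∃ x : G.obj (op U), ι.app (op U) x = y) (q : ℕ)
    (b : (Hyper.cechCx X K G').X q) (hb : (push K π).f q b = 0) :
    ∃ a : (Hyper.cechCx X K G).X q, (push K ι).f q a = b := by
  have h : ∀ i : (K.obj (op ⦋q⦌)).I, ∃ x : G.obj (op ((K.obj (op ⦋q⦌)).obj i).left),
      ι.app _ x = cmp (PX G') (K.obj (op ⦋q⦌)) b i := by
    intro i
    refine hex _ _ ?_
    rw [← cmp_push, hb]
    exact cmp_zero _ _ i
  choose x hx using h
  refine ⟨mkC (PX G) (K.obj (op ⦋q⦌)) x, ?_⟩
  apply ev_ext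
  intro i
  rw [cmp_push]
  have : cmp (PX G) (K.obj (op ⦋q⦌)) (mkC (PX G) (K.obj (op ⦋q⦌)) x) i = x i := cmp_mkC _ _ i
  rw [this, hx]

/-- composition -/
theorem push_comp_apply (q : ℕ) (a : (Hyper.cechCx X K G).X q) :
    (push K π).f q ((push K ι).f q a) = (push K (ι ≫ π)).f q a := by
  apply ev_ext
  intro i
  rw [cmp_push, cmp_push, cmp_push]
  rfl

theorem push_zero_apply (q : ℕ) (a : (Hyper.cechCx X K G).X q) :
    (push K (0 : G ⟶ G')).f q a = 0 := by
  apply ev_ext (PX G') (K.obj (op ⦋q⦌))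
  intro i
  refine (cmp_push K (0 : G ⟶ G') q a i).trans ?_
  refine Eq.trans ?_ (cmp_zero (PX G') (K.obj (op ⦋q⦌)) i).symm
  simp
  rfl

end ExactCochains

end Groth.Agent.R2.H38.HypCmp
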