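import Mathlib

/-!
# Exactness of complexes of abelian sheaves from local exactness of presheaf complexes (helper38)
-/

set_option autoImplicit false

open CategoryTheory Opposite Limits

universe u

namespace Groth.Agent.R2.H38.HypExact

variable {C : Type u} [SmallCategory C] (J : GrothendieckTopology C)

/-- A short complex of abelian sheaves is exact as soon as sections killed by `g` are locally in
the image of `f`. -/
theorem exact_of_imageSieve_mem (S : ShortComplex (Sheaf J AddCommGrpCat.{u}))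
    (h : ∀ (U : C) (y : S.X₂.obj.obj (op U)), S.g.hom.app (op U) y = 0 →
      Presheaf.imageSieve S.f.hom y ∈ J U) : S.Exact := by
  rw [S.exact_iff_epi_kernel_lift, ← Sheaf.isLocallySurjective_iff_epi']
  refine ⟨fun {U} k => ?_⟩
  let y : S.X₂.obj.obj (op U) := (kernel.ι S.g).hom.app (op U) k
  have hy : S.g.hom.app (op U) y = 0 := by
    have h1 : kernel.ι S.g ≫ S.g = 0 := kernel.condition S.g
    have h2 := congrArg (fun φ => φ.hom.app (op U)) h1
    exact ConcreteCategory.congr_hom h2 k
  refine J.superset_covering ?_ (h U y hy)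
  intro V f ⟨x, hx⟩
  refine ⟨x, ?_⟩
  let F : Sheaf J AddCommGrpCat.{u} ⥤ AddCommGrpCat.{u} :=
    sheafToPresheaf J AddCommGrpCat.{u} ⋙ (evaluation Cᵒᵖ AddCommGrpCat.{u}).obj (op V)
  have hmono : Mono (F.map (kernel.ι S.g)) := inferInstance
  have hinj : Function.Injective ((kernel.ι S.g).hom.app (op V)) :=
    (AddCommGrpCat.mono_iff_injective _).1 hmono
  apply hinj
  have h1 : kernel.lift S.g S.f S.zero ≫ kernel.ι S.g = S.f := kernel.lift_ι _ _ _
  have h2 : (kernel.ι S.g).hom.app (op V) ((kernel.lift S.g S.f S.zero).hom.app (op V) x) =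
      S.f.hom.app (op V) x :=
    ConcreteCategory.congr_hom (congrArg (fun φ => φ.hom.app (op V)) h1) x
  rw [h2, hx]
  exact (NatTrans.naturality_apply (kernel.ι S.g).hom f.op k).symm

/-- local exactness of a short complex of presheaves implies exactness after sheafification -/
theorem exact_map_presheafToSheaf (L : ShortComplex (Cᵒᵖ ⥤ AddCommGrpCat.{u}))
    (h : ∀ (U : C) (y : L.X₂.obj (op U)), L.g.app (op U) y = 0 →
      Presheaf.imageSieve L.f y ∈ J U) :
    (L.map (presheafToSheaf J AddCommGrpCat.{u})).Exact := by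
  apply exact_of_imageSieve_mem
  intro U y hy
  change (sheafify J L.X₂).obj (op U) at y
  change (sheafifyMap J L.g).app (op U) y = 0 at hy
  change Presheaf.imageSieve (sheafifyMap J L.f) y ∈ J U
  have h1 : Presheaf.imageSieve (toSheafify J L.X₂) y ∈ J U := Presheaf.imageSieve_mem J _ y
  refine J.transitive h1 _ ?_
  rintro V f ⟨z, hz⟩
  have hz0 : (toSheafify J L.X₃).app (op V) (L.g.app (op V) z) =
      (toSheafify J L.X₃).app (op V) 0 := by
    rw [map_zero]
    have nat := ConcreteCategory.congr_hom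
      (congrArg (fun φ => φ.app (op V)) (toSheafify_naturality J L.g)) z
    simp only [NatTrans.comp_app, CategoryTheory.comp_apply] at nat
    rw [nat, hz, NatTrans.naturality_apply, hy, map_zero]
  have h2 := Presheaf.equalizerSieve_mem J (toSheafify J L.X₃) _ _ hz0
  refine J.transitive h2 _ ?_
  intro W g hg
  have hg' : L.X₃.map g.op (L.g.app (op V) z) = L.X₃.map g.op 0 := hg
  have hzW : L.g.app (op W) (L.X₂.map g.op z) = 0 := by
    rw [NatTrans.naturality_apply, hg', map_zero]
  refine J.superset_covering ?_ (h W _ hzW)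
  rintro W' k ⟨x, hx⟩
  refine ⟨(toSheafify J L.X₁).app (op W') x, ?_⟩
  have nat := ConcreteCategory.congr_hom
    (congrArg (fun φ => φ.app (op W')) (toSheafify_naturality J L.f)) x
  simp only [NatTrans.comp_app, CategoryTheory.comp_apply] at nat
  rw [← nat, hx, NatTrans.naturality_apply, NatTrans.naturality_apply, hz]
  simp only [op_comp, Functor.map_comp_apply]

/-- vanishing of homology of a sheafified chain complex from local exactness -/
theorem isZero_homology_succ (L : ChainComplex (Cᵒᵖ ⥤ AddCommGrpCat.{u}) ℕ) (n : ℕ)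
    (h : ∀ (U : C) (y : (L.X (n + 1)).obj (op U)), (L.d (n + 1) n).app (op U) y = 0 →
      Presheaf.imageSieve (L.d (n + 2) (n + 1)) y ∈ J U) :
    IsZero ((((presheafToSheaf J AddCommGrpCat.{u}).mapHomologicalComplex _).obj L).homology
      (n + 1)) := by
  rw [← HomologicalComplex.exactAt_iff_isZero_homology,
    HomologicalComplex.exactAt_iff' _ (n + 2) (n + 1) n (by simp) (by simp)]
  exact exact_map_presheafToSheaf J (L.sc' (n + 2) (n + 1) n) h

/-- `H_0` of a chain complex with an exact augmentation -/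
theorem nonempty_homology_zero_iso {𝒜 : Type*} [Category 𝒜] [Abelian 𝒜] (K : ChainComplex 𝒜 ℕ)
    {T : 𝒜} (π : K.X 0 ⟶ T) (w : K.d 1 0 ≫ π = 0)
    (hex : (ShortComplex.mk (K.d 1 0) π w).Exact) [Epi π] :
    Nonempty (K.homology 0 ≅ T) := by
  have h1 := K.opcyclesIsCokernel 1 0 (by simp)
  have h2 := hex.gIsCokernel
  exact ⟨K.isoHomologyι₀ ≪≫ IsColimit.coconePointUniqueUpToIso h1 h2⟩

/-- the general acyclicity criterion -/
theorem core (L : ChainComplex (Cᵒᵖ ⥤ AddCommGrpCat.{u}) ℕ) (T : Cᵒᵖ ⥤ AddCommGrpCat.{u})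
    (ε : L.X 0 ⟶ T) (hε : L.d 1 0 ≫ ε = 0)
    (h_pos : ∀ (n : ℕ) (U : C) (y : (L.X (n + 1)).obj (op U)),
      (L.d (n + 1) n).app (op U) y = 0 → Presheaf.imageSieve (L.d (n + 2) (n + 1)) y ∈ J U)
    (h_0 : ∀ (U : C) (y : (L.X 0).obj (op U)), ε.app (op U) y = 0 →
      Presheaf.imageSieve (L.d 1 0) y ∈ J U)
    (h_surj : Presheaf.IsLocallySurjective J ε) :
    (∀ n : ℕ, IsZero ((((presheafToSheaf J AddCommGrpCat.{u}).mapHomologicalComplex _).obj
      L).homology (n + 1))) ∧
    Nonempty ((((presheafToSheaf J AddCommGrpCat.{u}).mapHomologicalComplex _).obj L).homology 0 ≅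
      (presheafToSheaf J AddCommGrpCat.{u}).obj T) := by
  refine ⟨fun n => isZero_homology_succ J L n (h_pos n), ?_⟩
  have hepi : Epi ((presheafToSheaf J AddCommGrpCat.{u}).map ε) := by
    rw [← Sheaf.isLocallySurjective_iff_epi',
      Presheaf.isLocallySurjective_presheafToSheaf_map_iff]
    exact h_surj
  have hex := exact_map_presheafToSheaf J (ShortComplex.mk (L.d 1 0) ε hε) h_0
  exact @nonempty_homology_zero_iso _ _ _
    (((presheafToSheaf J AddCommGrpCat.{u}).mapHomologicalComplex _).obj L) _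
    ((presheafToSheaf J AddCommGrpCat.{u}).map ε) _ hex hepi

/-- the augmented part of the criterion: `X_1^# → X_0^# → T^# → 0` is exact -/
theorem aug_exact_epi (L : ChainComplex (Cᵒᵖ ⥤ AddCommGrpCat.{u}) ℕ) (T : Cᵒᵖ ⥤ AddCommGrpCat.{u})
    (ε : L.X 0 ⟶ T) (hε : L.d 1 0 ≫ ε = 0)
    (h_0 : ∀ (U : C) (y : (L.X 0).obj (op U)), ε.app (op U) y = 0 →
      Presheaf.imageSieve (L.d 1 0) y ∈ J U)
    (h_surj : Presheaf.IsLocallySurjective J ε) :
    ∃ w : (((presheafToSheaf J AddCommGrpCat.{u}).mapHomologicalComplex _).obj L).d 1 0 ≫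
        (presheafToSheaf J AddCommGrpCat.{u}).map ε = 0,
      (ShortComplex.mk _ _ w).Exact ∧ Epi ((presheafToSheaf J AddCommGrpCat.{u}).map ε) := by
  have hepi : Epi ((presheafToSheaf J AddCommGrpCat.{u}).map ε) := by
    rw [← Sheaf.isLocallySurjective_iff_epi',
      Presheaf.isLocallySurjective_presheafToSheaf_map_iff]
    exact h_surj
  have hex := exact_map_presheafToSheaf J (ShortComplex.mk (L.d 1 0) ε hε) h_0
  exact ⟨_, hex, hepi⟩

end Groth.Agent.R2.H38.HypExact
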