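import Mathlib

open CategoryTheory Limits AlgebraicTopology AlgebraicTopology.DoldKan Simplicial

universe u

set_option autoImplicit false

namespace Groth.Agent.R2.H38.SAbHtpy

/-- free cover -/
noncomputable abbrev Fr (A : AddCommGrpCat.{u}) : AddCommGrpCat.{u} :=
  AddCommGrpCat.of (FreeAbelianGroup A)

noncomputable def liftFr {A B : AddCommGrpCat.{u}} (φ : A → B) : Fr A ⟶ B :=
  AddCommGrpCat.ofHom (FreeAbelianGroup.lift φ)

@[simp]
theorem liftFr_of {A B : AddCommGrpCat.{u}} (φ : A → B) (a : A) :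
    liftFr φ (FreeAbelianGroup.of a) = φ a := by
  simp [liftFr]

theorem Fr_ext {A B : AddCommGrpCat.{u}} {f g : Fr A ⟶ B}
    (h : ∀ a : A, f (FreeAbelianGroup.of a) = g (FreeAbelianGroup.of a)) : f = g := by
  apply AddCommGrpCat.hom_ext
  apply FreeAbelianGroup.lift_ext
  intro a
  exact h a

noncomputable def πFr (A : AddCommGrpCat.{u}) : Fr A ⟶ A := liftFr id

@[simp]
theorem πFr_of (A : AddCommGrpCat.{u}) (a : A) : πFr A (FreeAbelianGroup.of a) = a :=
  liftFr_of id a

instance (A : AddCommGrpCat.{u}) : Epi (πFr A) := by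
  rw [AddCommGrpCat.epi_iff_surjective]
  intro a
  exact ⟨FreeAbelianGroup.of a, πFr_of A a⟩

/-- the coefficient group -/
abbrev Zu : AddCommGrpCat.{u} := AddCommGrpCat.of (ULift.{u} ℤ)

/-- the morphism `Zu ⟶ A` with `1 ↦ a` -/
noncomputable def elt {A : AddCommGrpCat.{u}} (a : A) : Zu.{u} ⟶ A :=
  AddCommGrpCat.ofHom ((zmultiplesHom A a).comp AddEquiv.ulift.toAddMonoidHom)

@[simp]
theorem elt_one {A : AddCommGrpCat.{u}} (a : A) : elt a (ULift.up 1) = a := by
  change ((zmultiplesHom A a).comp (AddEquiv.ulift.{0, u} (α := ℤ)).toAddMonoidHom) (ULift.up 1) = a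
  simp [AddEquiv.ulift]

theorem Zu_ext {A : AddCommGrpCat.{u}} {f g : Zu.{u} ⟶ A} (h : f (ULift.up 1) = g (ULift.up 1)) :
    f = g := by
  apply AddCommGrpCat.hom_ext
  apply AddMonoidHom.ext
  intro ⟨n⟩
  have : (ULift.up n : ULift.{u} ℤ) = n • ULift.up 1 := by
    ext; simp
  rw [this, map_zsmul, map_zsmul]
  exact congrArg _ h

theorem elt_comp {A B : AddCommGrpCat.{u}} (a : A) (f : A ⟶ B) : elt a ≫ f = elt (f a) := by
  apply Zu_ext
  rw [ConcreteCategory.comp_apply, elt_one, elt_one]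

section Complexes

theorem congr_hom {A B : AddCommGrpCat.{u}} {f g : A ⟶ B} (h : f = g) (a : A) : f a = g a := by
  rw [h]

theorem zero_hom_apply {A B : AddCommGrpCat.{u}} (a : A) : (0 : A ⟶ B) a = 0 := rfl

theorem add_hom_apply {A B : AddCommGrpCat.{u}} (f g : A ⟶ B) (a : A) : (f + g) a = f a + g a := rfl

/-- evaluation at an element as an additive map -/
def evalAt {A B : AddCommGrpCat.{u}} (a : A) : (A ⟶ B) →+ B where
  toFun f := f a
  map_zero' := rfl
  map_add' _ _ := rfl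

theorem sum_hom_apply {A B : AddCommGrpCat.{u}} {ι : Type*} (s : Finset ι) (f : ι → (A ⟶ B)) (a : A) :
    (∑ i ∈ s, f i) a = ∑ i ∈ s, f i a :=
  map_sum (evalAt a) f s

theorem zsmul_hom_apply {A B : AddCommGrpCat.{u}} (m : ℤ) (f : A ⟶ B) (a : A) :
    (m • f) a = m • f a :=
  map_zsmul (evalAt a) m f

theorem sub_hom_apply {A B : AddCommGrpCat.{u}} (f g : A ⟶ B) (a : A) : (f - g) a = f a - g a :=
  map_sub (evalAt a) f g

theorem elt_eq_zero {A : AddCommGrpCat.{u}} {a : A} (h : a = 0) : elt a = 0 := by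
  apply Zu_ext
  rw [elt_one, h, zero_hom_apply]

variable {K L : ChainComplex AddCommGrpCat.{u} ℕ} (φ : K ⟶ L)

/-- cycle condition -/
def IsCyc (K : ChainComplex AddCommGrpCat.{u} ℕ) (n : ℕ) (x : K.X n) : Prop :=
  K.d n ((ComplexShape.down ℕ).next n) x = 0

theorem isCyc_map {n : ℕ} {x : K.X n} (hx : IsCyc K n x) : IsCyc L n (φ.f n x) := by
  unfold IsCyc at hx ⊢
  rw [← ConcreteCategory.comp_apply, φ.comm, ConcreteCategory.comp_apply, hx, map_zero]

theorem mono_homologyMap_iff (n : ℕ) :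
    Mono (HomologicalComplex.homologyMap φ n) ↔
      ∀ x : K.X n, IsCyc K n x → ∀ y : L.X (n + 1), φ.f n x = L.d (n + 1) n y →
        ∃ x' : K.X (n + 1), x = K.d (n + 1) n x' := by
  rw [HomologicalComplex.mono_homologyMap_iff_up_to_refinements φ (n + 1) n
    ((ComplexShape.down ℕ).next n) (by simp) rfl]
  constructor
  · intro h x hx y hy
    obtain ⟨A', π, hπ, x₁, hx₁⟩ := h (elt x) (by rw [elt_comp]; exact elt_eq_zero hx)
      (elt y) (by rw [elt_comp, elt_comp, hy])
    rw [AddCommGrpCat.epi_iff_surjective] at hπ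
    obtain ⟨a, ha⟩ := hπ (ULift.up 1)
    refine ⟨x₁ a, ?_⟩
    have := congr_hom hx₁ a
    rw [ConcreteCategory.comp_apply, ConcreteCategory.comp_apply, ha, elt_one] at this
    exact this
  · intro h A x₂ hx₂ y₁ hy₁
    have hc : ∀ a : A, ∃ x' : K.X (n + 1), x₂ a = K.d (n + 1) n x' := by
      intro a
      refine h (x₂ a) ?_ (y₁ a) ?_
      · have := congr_hom hx₂ a
        rw [ConcreteCategory.comp_apply, zero_hom_apply] at this
        exact this
      · have := congr_hom hy₁ a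
        rw [ConcreteCategory.comp_apply, ConcreteCategory.comp_apply] at this
        exact this
    choose c hc using hc
    refine ⟨Fr A, πFr A, inferInstance, liftFr c, ?_⟩
    apply Fr_ext
    intro a
    rw [ConcreteCategory.comp_apply, ConcreteCategory.comp_apply, πFr_of, liftFr_of, hc a]

theorem epi_homologyMap_iff (n : ℕ) :
    Epi (HomologicalComplex.homologyMap φ n) ↔
      ∀ y : L.X n, IsCyc L n y →
        ∃ x : K.X n, IsCyc K n x ∧ ∃ w : L.X (n + 1), y = φ.f n x + L.d (n + 1) n w := by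
  rw [HomologicalComplex.epi_homologyMap_iff_up_to_refinements φ (n + 1) n
    ((ComplexShape.down ℕ).next n) (by simp) rfl]
  constructor
  · intro h y hy
    obtain ⟨A', π, hπ, x₂, hx₂, y₁, hy₁⟩ := h (elt y) (by rw [elt_comp]; exact elt_eq_zero hy)
    rw [AddCommGrpCat.epi_iff_surjective] at hπ
    obtain ⟨a, ha⟩ := hπ (ULift.up 1)
    refine ⟨x₂ a, ?_, y₁ a, ?_⟩
    · have := congr_hom hx₂ a
      rw [ConcreteCategory.comp_apply, zero_hom_apply] at this
      exact this
    · have := congr_hom hy₁ a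
      rw [ConcreteCategory.comp_apply, ha, elt_one, add_hom_apply, ConcreteCategory.comp_apply,
        ConcreteCategory.comp_apply] at this
      exact this
  · intro h A y₂ hy₂
    have hc : ∀ a : A, ∃ x : K.X n, IsCyc K n x ∧ ∃ w : L.X (n + 1),
        y₂ a = φ.f n x + L.d (n + 1) n w := by
      intro a
      refine h (y₂ a) ?_
      have := congr_hom hy₂ a
      rw [ConcreteCategory.comp_apply, zero_hom_apply] at this
      exact this
    choose c hc w hw using hc
    refine ⟨Fr A, πFr A, inferInstance, liftFr c, ?_, liftFr w, ?_⟩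
    · apply Fr_ext
      intro a
      rw [ConcreteCategory.comp_apply, liftFr_of, zero_hom_apply]
      exact hc a
    · apply Fr_ext
      intro a
      rw [ConcreteCategory.comp_apply, πFr_of, add_hom_apply, ConcreteCategory.comp_apply,
        ConcreteCategory.comp_apply, liftFr_of, liftFr_of]
      exact hw a

end Complexes


section Main

variable (X Y : SimplicialObject AddCommGrpCat.{u}) (f : X ⟶ Y)

/-- the underlying simplicial set -/
abbrev US : SSet.{u} := X ⋙ forget AddCommGrpCat.{u}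

/-- the free chain complex on the underlying simplicial set -/
noncomputable abbrev FC : ChainComplex AddCommGrpCat.{u} ℕ := (US X).chainComplex Zu.{u}

/-- the map induced on free chain complexes -/
noncomputable abbrev FCmap : FC X ⟶ FC Y :=
  SSet.chainComplexMap (Functor.whiskerRight f (forget AddCommGrpCat.{u})) Zu.{u}

variable {X Y}

/-- basis elements -/
noncomputable def bas {n : ℕ} (x : X _⦋n⦌) : (FC X).X n :=
  (US X).ιChainComplex (R := Zu.{u}) (n := n) x (ULift.up 1)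

theorem ι_eq_elt_bas {n : ℕ} (x : X _⦋n⦌) :
    (US X).ιChainComplex (R := Zu.{u}) (n := n) x = elt (bas x) := by
  apply Zu_ext
  rw [elt_one]
  rfl

theorem FCmap_bas {n : ℕ} (x : X _⦋n⦌) : (FCmap X Y f).f n (bas x) = bas (f.app _ x) := by
  have := congr_hom (SSet.ι_chainComplexMap_f (X := US X) (Y := US Y)
    (Functor.whiskerRight f (forget AddCommGrpCat.{u})) Zu.{u} (n := n) x) (ULift.up 1)
  rw [ConcreteCategory.comp_apply] at this
  exact this

theorem d_bas {n : ℕ} (x : X _⦋n + 1⦌) :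
    (FC X).d (n + 1) n (bas x) = ∑ i : Fin (n + 2), (-1 : ℤ) ^ (i : ℕ) • bas (X.δ i x) := by
  have := congr_hom ((US X).ιChainComplex_d Zu.{u} (n := n) x) (ULift.up 1)
  rw [ConcreteCategory.comp_apply] at this
  refine this.trans ?_
  rw [sum_hom_apply]
  refine Finset.sum_congr rfl fun i _ => ?_
  rw [zsmul_hom_apply]
  rfl

theorem K_d (X : SimplicialObject AddCommGrpCat.{u}) (n : ℕ) :
    ((alternatingFaceMapComplex AddCommGrpCat.{u}).obj X).d (n + 1) n =
      ∑ i : Fin (n + 2), (-1 : ℤ) ^ (i : ℕ) • X.δ i := by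
  rw [alternatingFaceMapComplex_obj_d]
  rfl

theorem K_d_apply (X : SimplicialObject AddCommGrpCat.{u}) (n : ℕ) (x : X _⦋n + 1⦌) :
    ((alternatingFaceMapComplex AddCommGrpCat.{u}).obj X).d (n + 1) n x =
      ∑ i : Fin (n + 2), (-1 : ℤ) ^ (i : ℕ) • X.δ i x := by
  rw [K_d, sum_hom_apply]
  refine Finset.sum_congr rfl fun i _ => ?_
  rw [zsmul_hom_apply]

/-- the counit `ℤ[X_n] ⟶ X_n` -/
noncomputable def epsF (X : SimplicialObject AddCommGrpCat.{u}) (n : ℕ) : (FC X).X n ⟶ X _⦋n⦌ :=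
  Cofan.IsColimit.desc ((US X).isColimitChainComplexXCofan Zu.{u} n)
    (fun x : (US X) _⦋n⦌ => (elt (show ↑(X _⦋n⦌) from x) : Zu.{u} ⟶ X _⦋n⦌))

theorem ι_epsF {n : ℕ} (x : X _⦋n⦌) :
    (US X).ιChainComplex (R := Zu.{u}) (n := n) x ≫ epsF X n = elt x :=
  Cofan.IsColimit.fac ((US X).isColimitChainComplexXCofan Zu.{u} n) _ x

theorem epsF_bas {n : ℕ} (x : X _⦋n⦌) : epsF X n (bas x) = x := by
  have := congr_hom (ι_epsF x) (ULift.up 1)
  rw [ConcreteCategory.comp_apply, elt_one] at this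
  exact this

/-- the counit as a chain map -/
noncomputable def eps (X : SimplicialObject AddCommGrpCat.{u}) :
    FC X ⟶ (alternatingFaceMapComplex AddCommGrpCat.{u}).obj X where
  f n := epsF X n
  comm' i j hij := by
    obtain rfl : j + 1 = i := hij
    apply SSet.chainComplex_hom_ext
    intro x
    rw [ι_eq_elt_bas, elt_comp, elt_comp]
    apply Zu_ext
    rw [elt_one, elt_one, ConcreteCategory.comp_apply, ConcreteCategory.comp_apply, epsF_bas, d_bas,
      map_sum]
    rw [K_d_apply]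
    refine Finset.sum_congr rfl fun i _ => ?_
    rw [map_zsmul, epsF_bas]

theorem eps_naturality :
    FCmap X Y f ≫ eps Y = eps X ≫ (alternatingFaceMapComplex AddCommGrpCat.{u}).map f := by
  ext n : 1
  apply SSet.chainComplex_hom_ext
  intro x
  rw [ι_eq_elt_bas, elt_comp, elt_comp]
  apply Zu_ext
  rw [elt_one, elt_one, HomologicalComplex.comp_f, HomologicalComplex.comp_f,
    ConcreteCategory.comp_apply, ConcreteCategory.comp_apply, FCmap_bas]
  change epsF Y n _ = _
  rw [epsF_bas]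
  change _ = (f.app _) (epsF X n (bas x))
  rw [epsF_bas]

/-- the Hurewicz chain `[x] - [0]` -/
noncomputable def hur {n : ℕ} (x : X _⦋n⦌) : (FC X).X n := bas x - bas (0 : X _⦋n⦌)

theorem epsF_hur {n : ℕ} (x : X _⦋n⦌) : epsF X n (hur x) = x := by
  rw [hur, map_sub, epsF_bas, epsF_bas, sub_zero]

theorem FCmap_hur {n : ℕ} (x : X _⦋n⦌) : (FCmap X Y f).f n (hur x) = hur (f.app _ x) := by
  rw [hur, map_sub, FCmap_bas, FCmap_bas, map_zero]
  rfl

theorem hur_zero {n : ℕ} : hur (0 : X _⦋n⦌) = 0 := sub_self _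

theorem d_hur {n : ℕ} (w : X _⦋n + 1⦌) (hw : ∀ j : Fin (n + 1), X.δ j.succ w = 0) :
    (FC X).d (n + 1) n (hur w) = hur (X.δ 0 w) := by
  have h1 : (FC X).d (n + 1) n (bas w) =
      bas (X.δ 0 w) + ∑ j : Fin (n + 1), (-1 : ℤ) ^ ((j.succ : Fin (n + 2)) : ℕ) • bas (0 : X _⦋n⦌) := by
    rw [d_bas, Fin.sum_univ_succ]
    simp only [hw, Fin.val_zero, pow_zero, one_smul]
  have h2 : (FC X).d (n + 1) n (bas (0 : X _⦋n + 1⦌)) =
      bas (0 : X _⦋n⦌) + ∑ j : Fin (n + 1), (-1 : ℤ) ^ ((j.succ : Fin (n + 2)) : ℕ) • bas (0 : X _⦋n⦌) := by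
    rw [d_bas, Fin.sum_univ_succ]
    simp only [map_zero, Fin.val_zero, pow_zero, one_smul]
  rw [hur, map_sub, h1, h2, hur]
  abel

theorem isCyc_zero (K : ChainComplex AddCommGrpCat.{u} ℕ) (x : K.X 0) : IsCyc K 0 x := by
  unfold IsCyc
  rw [K.shape 0 _ (by simp), zero_hom_apply]

theorem isCyc_succ_iff (K : ChainComplex AddCommGrpCat.{u} ℕ) (n : ℕ) (x : K.X (n + 1)) :
    IsCyc K (n + 1) x ↔ K.d (n + 1) n x = 0 := by
  unfold IsCyc
  rw [ChainComplex.next_nat_succ]

/-- the differential of the alternating face map complex -/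
noncomputable abbrev dK (X : SimplicialObject AddCommGrpCat.{u}) (n : ℕ) : X _⦋n + 1⦌ ⟶ X _⦋n⦌ :=
  ((alternatingFaceMapComplex AddCommGrpCat.{u}).obj X).d (n + 1) n

/-- the projection `P^∞` -/
noncomputable abbrev Pf (X : SimplicialObject AddCommGrpCat.{u}) (n : ℕ) : X _⦋n⦌ ⟶ X _⦋n⦌ :=
  (PInfty : AlternatingFaceMapComplex.obj X ⟶ AlternatingFaceMapComplex.obj X).f n

/-- the alternating face map complex -/
noncomputable abbrev KX (X : SimplicialObject AddCommGrpCat.{u}) : ChainComplex AddCommGrpCat.{u} ℕ :=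
  (alternatingFaceMapComplex AddCommGrpCat.{u}).obj X

theorem d_eq_δ_zero {m : ℕ} (x : X _⦋m + 1⦌) (hx : ∀ j : Fin (m + 1), X.δ j.succ x = 0) :
    dK X m x = X.δ 0 x := by
  rw [dK, K_d_apply, Fin.sum_univ_succ]
  simp [hx]

theorem δ_succ_PInfty {m : ℕ} (z : X _⦋m + 1⦌) (j : Fin (m + 1)) :
    X.δ j.succ (Pf X (m + 1) z) = 0 := by
  have v := HigherFacesVanish.of_P (X := X) (m + 1) m
  have := congr_hom (v j (by omega)) z
  rw [ConcreteCategory.comp_apply, zero_hom_apply, ← PInfty_f] at this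
  exact this

theorem PInfty_cyc {n : ℕ} (z : X _⦋n⦌) (hz : IsCyc (KX X) n z) :
    ∃ v : X _⦋n + 1⦌, Pf X n z = z + dK X n v := by
  have hc := (homotopyPInftyToId X).comm n
  rw [Homotopy.prevD_chainComplex] at hc
  have h1 : (dNext n (homotopyPInftyToId X).hom) z = 0 := by
    change ((homotopyPInftyToId X).hom ((ComplexShape.down ℕ).next n) n)
      ((((alternatingFaceMapComplex AddCommGrpCat.{u}).obj X).d n ((ComplexShape.down ℕ).next n)) z) = 0
    rw [hz, map_zero]
  have := congr_hom hc z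
  rw [add_hom_apply, add_hom_apply, h1, zero_add, ConcreteCategory.comp_apply] at this
  refine ⟨((homotopyPInftyToId X).hom n (n + 1)) z, ?_⟩
  rw [Pf, this, add_comm]
  rfl

/-- normalised cycles have Hurewicz chains which are cycles -/
theorem isCyc_hur {n : ℕ} (x : X _⦋n⦌) (hx : IsCyc (KX X) n (Pf X n x)) :
    IsCyc (FC X) n (hur (Pf X n x)) := by
  cases n with
  | zero => exact isCyc_zero _ _
  | succ m =>
    rw [isCyc_succ_iff] at hx ⊢
    rw [d_hur _ (δ_succ_PInfty x), ← d_eq_δ_zero _ (δ_succ_PInfty x)]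
    rw [show dK X m (Pf X (m + 1) x) = 0 from hx, hur_zero]

theorem PInfty_PInfty {n : ℕ} (x : X _⦋n⦌) : Pf X n (Pf X n x) = Pf X n x := by
  rw [← ConcreteCategory.comp_apply, Pf, PInfty_f_idem]

theorem PInfty_map {n : ℕ} (x : X _⦋n⦌) : Pf Y n (f.app _ x) = f.app _ (Pf X n x) := by
  rw [← ConcreteCategory.comp_apply, ← ConcreteCategory.comp_apply, Pf, Pf, PInfty_f_naturality]

theorem PInfty_d {n : ℕ} (u : X _⦋n + 1⦌) : Pf X n (dK X n u) = dK X n (Pf X (n + 1) u) := by
  rw [← ConcreteCategory.comp_apply, ← ConcreteCategory.comp_apply]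
  exact congr_hom ((PInfty : AlternatingFaceMapComplex.obj X ⟶
    AlternatingFaceMapComplex.obj X).comm (n + 1) n).symm u

theorem map_d {n : ℕ} (u : X _⦋n + 1⦌) : f.app _ (dK X n u) = dK Y n (f.app _ u) := by
  rw [← ConcreteCategory.comp_apply, ← ConcreteCategory.comp_apply]
  exact congr_hom (((alternatingFaceMapComplex AddCommGrpCat.{u}).map f).comm (n + 1) n).symm u

theorem eps_d {n : ℕ} (v : (FC X).X (n + 1)) :
    epsF X n ((FC X).d (n + 1) n v) = dK X n (epsF X (n + 1) v) := by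
  rw [← ConcreteCategory.comp_apply, ← ConcreteCategory.comp_apply]
  exact congr_hom ((eps X).comm (n + 1) n).symm v

theorem eps_map {n : ℕ} (c : (FC X).X n) :
    epsF Y n ((FCmap X Y f).f n c) = f.app _ (epsF X n c) := by
  have := congr_hom (HomologicalComplex.congr_hom (eps_naturality f) n) c
  rw [HomologicalComplex.comp_f, HomologicalComplex.comp_f, ConcreteCategory.comp_apply,
    ConcreteCategory.comp_apply] at this
  exact this

theorem isCyc_Pf {n : ℕ} (z : X _⦋n⦌) (hz : IsCyc (KX X) n z) : IsCyc (KX X) n (Pf X n z) :=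
  isCyc_map (PInfty : AlternatingFaceMapComplex.obj X ⟶ AlternatingFaceMapComplex.obj X) hz

theorem mono_of (n : ℕ) (h : Mono (HomologicalComplex.homologyMap (FCmap X Y f) n)) :
    Mono (HomologicalComplex.homologyMap ((alternatingFaceMapComplex AddCommGrpCat.{u}).map f) n) := by
  rw [mono_homologyMap_iff] at h ⊢
  intro (z : X _⦋n⦌) hz (y : Y _⦋n + 1⦌) hy
  change f.app _ z = dK Y n y at hy
  change ∃ x' : X _⦋n + 1⦌, z = dK X n x'
  obtain ⟨v, hv⟩ := PInfty_cyc z hz
  have hxc := isCyc_Pf z hz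
  -- `f x = ∂ u`
  have hu : f.app _ (Pf X n z) = dK Y n (y + f.app _ v) := by
    rw [hv, map_add, map_add, hy, map_d]
  -- `w = P u`
  have hw := δ_succ_PInfty (y + f.app _ v)
  have hw0 : Y.δ 0 (Pf Y (n + 1) (y + f.app _ v)) = f.app _ (Pf X n z) := by
    rw [← d_eq_δ_zero _ hw, ← PInfty_d, ← hu, PInfty_map, PInfty_PInfty]
  obtain ⟨v', hv'⟩ := h (hur (Pf X n z)) (isCyc_hur z hxc)
    (hur (Pf Y (n + 1) (y + f.app _ v))) (by rw [FCmap_hur, d_hur _ hw, hw0])
  refine ⟨epsF X (n + 1) v' - v, ?_⟩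
  have h1 := congrArg (epsF X n) hv'
  rw [epsF_hur, eps_d, hv] at h1
  rw [map_sub, ← h1]
  abel

theorem epi_of (n : ℕ) (h : Epi (HomologicalComplex.homologyMap (FCmap X Y f) n)) :
    Epi (HomologicalComplex.homologyMap ((alternatingFaceMapComplex AddCommGrpCat.{u}).map f) n) := by
  rw [epi_homologyMap_iff] at h ⊢
  intro (y : Y _⦋n⦌) hy
  obtain ⟨v, hv⟩ := PInfty_cyc y hy
  have hyc := isCyc_Pf y hy
  obtain ⟨c, hc, w, hw⟩ := h (hur (Pf Y n y)) (isCyc_hur y hyc)
  refine ⟨epsF X n c, isCyc_map (eps X) hc, epsF Y (n + 1) w - v, ?_⟩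
  have h1 := congrArg (epsF Y n) hw
  rw [epsF_hur, map_add, eps_d, eps_map, hv] at h1
  change y = f.app _ (epsF X n c) + dK Y n (epsF Y (n + 1) w - v)
  rw [map_sub]
  rw [← sub_eq_iff_eq_add] at h1
  rw [← h1]
  abel

theorem isIso_FC (g : US Y ⟶ US X)
    (hX : Nonempty (SSet.Homotopy (Functor.whiskerRight f (forget AddCommGrpCat.{u}) ≫ g) (𝟙 _)) ∨
      Nonempty (SSet.Homotopy (𝟙 _) (Functor.whiskerRight f (forget AddCommGrpCat.{u}) ≫ g)))
    (hY : Nonempty (SSet.Homotopy (g ≫ Functor.whiskerRight f (forget AddCommGrpCat.{u})) (𝟙 _)) ∨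
      Nonempty (SSet.Homotopy (𝟙 _) (g ≫ Functor.whiskerRight f (forget AddCommGrpCat.{u}))))
    (n : ℕ) : IsIso (HomologicalComplex.homologyMap (FCmap X Y f) n) := by
  have h1 : SSet.homologyMap (X := US X) (Y := US Y)
      (Functor.whiskerRight f (forget AddCommGrpCat.{u})) Zu.{u} n ≫
      SSet.homologyMap g Zu.{u} n = 𝟙 _ := by
    rw [← SSet.homologyMap_comp, ← SSet.homologyMap_id]
    rcases hX with ⟨⟨H⟩⟩ | ⟨⟨H⟩⟩
    · exact H.congr_homologyMap Zu.{u} n
    · exact (H.congr_homologyMap Zu.{u} n).symm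
  have h2 : SSet.homologyMap g Zu.{u} n ≫ SSet.homologyMap (X := US X) (Y := US Y)
      (Functor.whiskerRight f (forget AddCommGrpCat.{u})) Zu.{u} n = 𝟙 _ := by
    rw [← SSet.homologyMap_comp, ← SSet.homologyMap_id]
    rcases hY with ⟨⟨H⟩⟩ | ⟨⟨H⟩⟩
    · exact H.congr_homologyMap Zu.{u} n
    · exact (H.congr_homologyMap Zu.{u} n).symm
  exact ⟨⟨SSet.homologyMap g Zu.{u} n, h1, h2⟩⟩

theorem quasiIso_of_homotopyEquiv (g : US Y ⟶ US X)
    (hX : Nonempty (SSet.Homotopy (Functor.whiskerRight f (forget AddCommGrpCat.{u}) ≫ g) (𝟙 _)) ∨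
      Nonempty (SSet.Homotopy (𝟙 _) (Functor.whiskerRight f (forget AddCommGrpCat.{u}) ≫ g)))
    (hY : Nonempty (SSet.Homotopy (g ≫ Functor.whiskerRight f (forget AddCommGrpCat.{u})) (𝟙 _)) ∨
      Nonempty (SSet.Homotopy (𝟙 _) (g ≫ Functor.whiskerRight f (forget AddCommGrpCat.{u})))) :
    QuasiIso ((alternatingFaceMapComplex AddCommGrpCat.{u}).map f) := by
  rw [quasiIso_iff]
  intro n
  rw [quasiIsoAt_iff_isIso_homologyMap]
  have := isIso_FC f g hX hY n
  have := mono_of f n inferInstance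
  have := epi_of f n inferInstance
  exact isIso_of_mono_of_epi _

end Main

end Groth.Agent.R2.H38.SAbHtpy
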