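import Groth.Agent.R2.H38HypCone
import Groth.Agent.R2.H38HypExact
import Groth.Agent.R2.H38SAbHtpy

/-!
# Acyclicity of `ℤ[P]^#` for a simplicial presheaf with the local lifting property (helper38)
-/

set_option autoImplicit false

open CategoryTheory Opposite Limits Simplicial

universe u

namespace Groth.Agent.R2.H38.HypCore

open Groth.Agent.R2.H38.HypCone Groth.Agent.R2.H38.HypExact Groth.Agent.R2.H38.SAbHtpy

variable {C : Type u} [SmallCategory C] (J : GrothendieckTopology C)
  (P : SimplicialObject (Cᵒᵖ ⥤ Type u)) {B : Cᵒᵖ ⥤ Type u}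
  (aug : P ⟶ (Functor.const _).obj B)

/-- the free abelian simplicial presheaf -/
noncomputable abbrev freeS : SimplicialObject (Cᵒᵖ ⥤ AddCommGrpCat.{u}) :=
  P ⋙ (Functor.whiskeringRight _ _ _).obj AddCommGrpCat.free.{u}

/-- its chain complex -/
noncomputable abbrev freeCx : ChainComplex (Cᵒᵖ ⥤ AddCommGrpCat.{u}) ℕ :=
  (AlgebraicTopology.alternatingFaceMapComplex _).obj (freeS P)

theorem d_app_of (n : ℕ) (U : C) (x : Q P U (n + 1)) :
    ((freeCx P).d (n + 1) n).app (op U) (FreeAbelianGroup.of x) =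
      ∑ i : Fin (n + 2), (-1 : ℤ) ^ (i : ℕ) • FreeAbelianGroup.of (dd P n i x) := by
  simp only [AlgebraicTopology.alternatingFaceMapComplex_obj_d,
    AlgebraicTopology.AlternatingFaceMapComplex.objD, NatTrans.app_sum, NatTrans.app_zsmul]
  change (∑ i : Fin (n + 2), (-1 : ℤ) ^ (i : ℕ) • ((freeS P).δ i).app (op U))
    (FreeAbelianGroup.of x) = _
  rw [sum_hom_apply]
  refine Finset.sum_congr rfl fun i _ => ?_
  rw [zsmul_hom_apply]
  rfl

theorem d_app_apply (n : ℕ) (U : C) (y : FreeAbelianGroup (Q P U (n + 1))) :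
    ((freeCx P).d (n + 1) n).app (op U) y = bdry P U n y := by
  induction y using FreeAbelianGroup.induction_on with
  | zero => rw [map_zero]; exact map_zero _
  | of x => rw [bdry_of]; exact d_app_of P n U x
  | neg x ih => rw [map_neg, ← ih]; exact map_neg _ _
  | add x y hx hy => rw [map_add, ← hx, ← hy]; exact map_add _ _ _

/-- the augmentation -/
noncomputable abbrev eps : (freeCx P).X 0 ⟶ B ⋙ AddCommGrpCat.free.{u} :=
  Functor.whiskerRight (aug.app (op ⦋0⦌)) AddCommGrpCat.free.{u}

variable {P}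

theorem eps_app_apply (U : C) (y : FreeAbelianGroup (Q P U 0)) :
    (eps P aug).app (op U) y = FreeAbelianGroup.map (ag aug 0) y := rfl

theorem d_eps : (freeCx P).d 1 0 ≫ eps P aug = 0 := by
  ext U : 2
  induction U using Opposite.rec with
  | op U =>
    apply AddCommGrpCat.hom_ext
    apply FreeAbelianGroup.lift_ext
    intro x
    change (eps P aug).app (op U) (((freeCx P).d 1 0).app (op U) (FreeAbelianGroup.of x)) = 0
    rw [d_app_apply, bdry_of, eps_app_apply, Fin.sum_univ_two]
    simp only [Fin.val_zero, pow_zero, one_smul, Fin.val_one, pow_one, neg_smul, map_add, map_neg,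
      FreeAbelianGroup.map_of_apply, ag_dd]
    abel

variable (P) in
/-- the chain complex of sheaves `ℤ[P]^#` -/
noncomputable abbrev sheafCx : ChainComplex (Sheaf J AddCommGrpCat.{u}) ℕ :=
  (AlgebraicTopology.alternatingFaceMapComplex _).obj
    (freeS P ⋙ presheafToSheaf J AddCommGrpCat.{u})

/-- **Acyclicity**: for a simplicial presheaf with the local lifting property over `B`, the complex
of sheaves `ℤ[P]^#` is a resolution of `ℤ[B]^#`. -/
theorem acyclic (h : LLP J P aug) :
    (∀ n : ℕ, IsZero ((sheafCx J P).homology (n + 1))) ∧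
    Nonempty ((sheafCx J P).homology 0 ≅
      (presheafToSheaf J AddCommGrpCat.{u}).obj (B ⋙ AddCommGrpCat.free.{u})) := by
  have e : ((presheafToSheaf J AddCommGrpCat.{u}).mapHomologicalComplex _).obj (freeCx P) =
      sheafCx J P :=
    Functor.congr_obj
      (AlgebraicTopology.map_alternatingFaceMapComplex (presheafToSheaf J AddCommGrpCat.{u}))
      (freeS P)
  rw [← e]
  refine core J (freeCx P) _ (eps P aug) (d_eps aug) ?_ ?_ ?_
  · intro n U y hy
    change FreeAbelianGroup (Q P U (n + 1)) at y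
    rw [d_app_apply] at hy
    obtain ⟨S, hS, hS'⟩ := local_exact_succ h n U y hy
    refine J.superset_covering ?_ hS
    intro V f hf
    obtain ⟨w, hw⟩ := hS' f hf
    exact ⟨w, (d_app_apply P (n + 1) V w).trans hw⟩
  · intro U y hy
    change FreeAbelianGroup (Q P U 0) at y
    rw [eps_app_apply] at hy
    obtain ⟨S, hS, hS'⟩ := local_exact_zero h U y hy
    refine J.superset_covering ?_ hS
    intro V f hf
    obtain ⟨w, hw⟩ := hS' f hf
    exact ⟨w, (d_app_apply P 0 V w).trans hw⟩
  · refine ⟨fun {U} ζ => ?_⟩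
    change FreeAbelianGroup (B.obj (op U)) at ζ
    obtain ⟨S, hS, hS'⟩ := local_surj h U ζ
    refine J.superset_covering ?_ hS
    intro V f hf
    obtain ⟨w, hw⟩ := hS' f hf
    exact ⟨w, hw⟩

/-- the augmentation `ℤ[P_0]^# ⟶ ℤ[B]^#` -/
noncomputable abbrev epsSh : (sheafCx J P).X 0 ⟶
    (presheafToSheaf J AddCommGrpCat.{u}).obj (B ⋙ AddCommGrpCat.free.{u}) :=
  (presheafToSheaf J AddCommGrpCat.{u}).map (eps P aug)

/-- `ℤ[P_1]^# → ℤ[P_0]^# → ℤ[B]^# → 0` is exact -/
theorem aug_exact_epi (h : LLP J P aug) :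
    ∃ w : (sheafCx J P).d 1 0 ≫ epsSh J aug = 0,
      (ShortComplex.mk _ _ w).Exact ∧ Epi (epsSh J aug) := by
  have key := HypExact.aug_exact_epi J (freeCx P) _ (eps P aug) (d_eps aug) (by
    intro U y hy
    change FreeAbelianGroup (Q P U 0) at y
    rw [eps_app_apply] at hy
    obtain ⟨S, hS, hS'⟩ := local_exact_zero h U y hy
    refine J.superset_covering ?_ hS
    intro V f hf
    obtain ⟨w, hw⟩ := hS' f hf
    exact ⟨w, (d_app_apply P 0 V w).trans hw⟩) (by
    refine ⟨fun {U} ζ => ?_⟩
    change FreeAbelianGroup (B.obj (op U)) at ζ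
    obtain ⟨S, hS, hS'⟩ := local_surj h U ζ
    refine J.superset_covering ?_ hS
    intro V f hf
    obtain ⟨w, hw⟩ := hS' f hf
    exact ⟨w, hw⟩)
  have hd : (((presheafToSheaf J AddCommGrpCat.{u}).mapHomologicalComplex _).obj (freeCx P)).d 1 0 =
      (sheafCx J P).d 1 0 := by
    simp only [Functor.mapHomologicalComplex_obj_d,
      AlgebraicTopology.alternatingFaceMapComplex_obj_d,
      AlgebraicTopology.AlternatingFaceMapComplex.objD, Functor.map_sum, Functor.map_zsmul]
    rfl
  obtain ⟨w, hex, hepi⟩ := key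
  refine ⟨?_, ?_, hepi⟩
  · rw [← hd]
    exact w
  · have : ShortComplex.mk ((sheafCx J P).d 1 0) (epsSh J aug) (by rw [← hd]; exact w) =
        ShortComplex.mk _ _ w := by
      congr 1
      exact hd.symm
    rw [this]
    exact hex

end Groth.Agent.R2.H38.HypCore
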