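import Groth.Prelude.Def_Hyper
import Groth.Agent.R2.H38HypCore
import Groth.Agent.R2.H38HypFC

/-!
# Verdier hypercoverings of the final object have the local lifting property (helper38)
-/

set_option autoImplicit false

open CategoryTheory Opposite Limits Simplicial

universe u

namespace Groth.Agent.R2.H38.HypSite

open Groth.Agent.R2.H38.HypCone Groth.Agent.R2.H38.HypFC

variable {C : Type u} [SmallCategory C] (J : GrothendieckTopology C)
  (K : SimplicialObject (FormalCoproduct.{u} C))

/-- the simplicial presheaf `F(K)` -/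
noncomputable abbrev PK : SimplicialObject (Cᵒᵖ ⥤ Type u) := K ⋙ FormalCoproduct.yoneda

variable (C) in
/-- the one-point presheaf -/
abbrev ptB : Cᵒᵖ ⥤ Type u := (Functor.const _).obj PUnit.{u + 1}

/-- the trivial augmentation -/
def augPt (P : SimplicialObject (Cᵒᵖ ⥤ Type u)) : P ⟶ (Functor.const _).obj (ptB C) where
  app _ := { app := fun _ => TypeCat.ofHom (fun _ => PUnit.unit) }

variable {J K}

theorem llp_of_isHypercoveringSite
    [∀ (n : ℕ) (F : (SimplexCategory.Truncated n)ᵒᵖ ⥤ FormalCoproduct.{u} C),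
      (SimplexCategory.Truncated.inclusion n).op.HasRightKanExtension F]
    (hK : Hyper.IsHypercoveringSite J K) : LLP J (PK K) (augPt (PK K)) := by
  obtain ⟨hK0, hK1, hKn⟩ := hK
  refine ⟨?_, ?_, ?_⟩
  · intro U β
    let s : (⊤_ (Cᵒᵖ ⥤ Type u)).obj (op U) := (terminal.from (yoneda.obj U)).app (op U) (𝟙 U)
    refine ⟨_, Presheaf.imageSieve_mem J
      (terminal.from (FormalCoproduct.yoneda.obj (K.obj (op ⦋0⦌)))) s, ?_⟩
    rintro V f ⟨t, _⟩
    exact ⟨t, rfl⟩
  · intro U x y _
    let F₀ := FormalCoproduct.yoneda.obj (K.obj (op ⦋0⦌))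
    let x' : yoneda.obj U ⟶ F₀ := yonedaEquiv.symm x
    let y' : yoneda.obj U ⟶ F₀ := yonedaEquiv.symm y
    let s : (F₀ ⨯ F₀).obj (op U) := (prod.lift y' x').app (op U) (𝟙 U)
    have hs1 : (prod.fst : F₀ ⨯ F₀ ⟶ F₀).app (op U) s = y := by
      have h := ConcreteCategory.congr_hom
        (NatTrans.congr_app (prod.lift_fst y' x') (op U)) (𝟙 U)
      simp only [NatTrans.comp_app, CategoryTheory.comp_apply] at h
      rw [h]
      exact yonedaEquiv.apply_symm_apply y
    have hs2 : (prod.snd : F₀ ⨯ F₀ ⟶ F₀).app (op U) s = x := by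
      have h := ConcreteCategory.congr_hom
        (NatTrans.congr_app (prod.lift_snd y' x') (op U)) (𝟙 U)
      simp only [NatTrans.comp_app, CategoryTheory.comp_apply] at h
      rw [h]
      exact yonedaEquiv.apply_symm_apply x
    refine ⟨_, Presheaf.imageSieve_mem J
      (prod.lift (FormalCoproduct.yoneda.map (K.δ (1 : Fin 2)))
        (FormalCoproduct.yoneda.map (K.δ (0 : Fin 2)))) s, ?_⟩
    rintro V f ⟨t, ht⟩
    refine ⟨t, ?_, ?_⟩
    · have h := congrArg ((prod.snd : F₀ ⨯ F₀ ⟶ F₀).app (op V)) ht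
      have h1 := ConcreteCategory.congr_hom (NatTrans.congr_app (prod.lift_snd
        (FormalCoproduct.yoneda.map (K.δ (1 : Fin 2)))
        (FormalCoproduct.yoneda.map (K.δ (0 : Fin 2)))) (op V)) t
      simp only [NatTrans.comp_app, CategoryTheory.comp_apply] at h1
      rw [h1, NatTrans.naturality_apply, hs2] at h
      exact h
    · have h := congrArg ((prod.fst : F₀ ⨯ F₀ ⟶ F₀).app (op V)) ht
      have h1 := ConcreteCategory.congr_hom (NatTrans.congr_app (prod.lift_fst
        (FormalCoproduct.yoneda.map (K.δ (1 : Fin 2)))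
        (FormalCoproduct.yoneda.map (K.δ (0 : Fin 2)))) (op V)) t
      simp only [NatTrans.comp_app, CategoryTheory.comp_apply] at h1
      rw [h1, NatTrans.naturality_apply, hs1] at h
      exact h
  · intro n U b hb
    have hsurj : ∀ i, ∃ β : (FormalCoproduct.incl C).obj U ⟶ K.obj (op ⦋n + 1⦌),
        sec _ U β = b i := fun i => sec_surjective _ U (b i)
    choose β hβs using hsurj
    have hβ : ∀ i j : Fin (n + 2), i ≤ j → β j.succ ≫ K.δ i = β i.castSucc ≫ K.δ j := by
      intro i j hij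
      apply sec_injective _ U
      rw [← map_sec, ← map_sec, hβs, hβs]
      exact hb i j hij
    obtain ⟨σ, hσ⟩ := exists_lift_cosk.{u, u + 1, u} K β hβ
    have hls := hKn (n + 1) (by omega)
    refine ⟨_, Presheaf.imageSieve_mem J (FormalCoproduct.yoneda.map
      (((SimplicialObject.coskAdj (n + 1)).unit.app K).app (op ⦋n + 1 + 1⦌))) (sec _ U σ), ?_⟩
    rintro V f ⟨t, ht⟩
    obtain ⟨τ, rfl⟩ := sec_surjective (K.obj (op ⦋n + 2⦌)) V t
    let K'' := ((SimplicialObject.Truncated.cosk (n + 1)).obj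
      ((SimplicialObject.truncation (n + 1)).obj K)).obj (op ⦋n + 2⦌)
    let η : K.obj (op ⦋n + 2⦌) ⟶ K'' :=
      ((SimplicialObject.coskAdj (n + 1)).unit.app K).app (op ⦋n + 2⦌)
    have ht' : sec K'' V (τ ≫ η) = sec K'' V ((FormalCoproduct.incl C).map f ≫ σ) :=
      ((map_sec η V τ).symm.trans ht).trans (res_sec K'' f σ)
    have hτ := sec_injective _ _ ht'
    refine ⟨sec _ V τ, fun i => ?_⟩
    rw [← hβs i]
    change (FormalCoproduct.yoneda.map (K.δ i)).app (op V) (sec _ V τ) =
      (FormalCoproduct.yoneda.obj _).map f.op (sec _ U (β i))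
    rw [map_sec, res_sec, hσ _ τ hτ i]

end Groth.Agent.R2.H38.HypSite
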