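import Groth.Prelude.Def_Hyper
import Groth.Agent.R2.H38HypSite
import Groth.Agent.R2.H38HypCech

/-!
# Hypercoverings of an object `X` as Verdier hypercoverings of the localized site `C/X` (helper38)
-/

set_option autoImplicit false

open CategoryTheory Opposite Limits Simplicial

universe u

namespace Groth.Agent.R2.H38.HypOver

open Groth.Agent.R2.H38.HypFC

section SR

variable {D : Type u} [SmallCategory D] (J' : GrothendieckTopology D)

theorem secOf_eqToHom (L : FormalCoproduct.{u} D) (V : D) {j j' : L.I} (e : j' = j)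
    (x : V ⟶ L.obj j') :
    secOf L V j (x ≫ eqToHom (congrArg L.obj e)) = secOf L V j' x := by
  subst e
  simp

/-- a covering morphism of formal coproducts induces a locally surjective map of presheaves -/
theorem isLocallySurjective_of_isSRCovering {K' L' : FormalCoproduct.{u} D} (f : K' ⟶ L')
    (hf : Hyper.IsSRCovering J' f) :
    Presheaf.IsLocallySurjective J' (FormalCoproduct.yoneda.map f) := by
  refine ⟨fun {U} s => ?_⟩
  obtain ⟨φ, rfl⟩ := sec_surjective L' U s
  refine J'.superset_covering ?_ (J'.pullback_stable (φ.φ PUnit.unit) (hf (φ.f PUnit.unit)))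
  intro V h hh
  obtain ⟨i, a, hia⟩ := (Sieve.mem_ofArrows_iff _ _ _).1 hh
  refine ⟨secOf K' V i.1 a, ?_⟩
  rw [map_secOf, res_sec]
  change _ = secOf L' V (φ.f PUnit.unit) (h ≫ φ.φ PUnit.unit)
  refine Eq.trans (secOf_eqToHom L' V i.2 (a ≫ f.φ i.1)).symm ?_
  exact congrArg (secOf L' V (φ.f PUnit.unit)) ((Category.assoc _ _ _).trans hia.symm)

/-- sections of the terminal presheaf -/
theorem terminal_sections_subsingleton (W : D) (a b : (⊤_ (Dᵒᵖ ⥤ Type u)).obj (op W)) : a = b := by
  have h : yonedaEquiv.symm a = yonedaEquiv.symm b := terminal.hom_ext _ _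
  exact yonedaEquiv.symm.injective h

/-- sections of a binary product of presheaves are determined by their components -/
theorem prod_sections_ext {A B : Dᵒᵖ ⥤ Type u} {V : D} (a b : (A ⨯ B).obj (op V))
    (h1 : (prod.fst : A ⨯ B ⟶ A).app (op V) a = (prod.fst : A ⨯ B ⟶ A).app (op V) b)
    (h2 : (prod.snd : A ⨯ B ⟶ B).app (op V) a = (prod.snd : A ⨯ B ⟶ B).app (op V) b) : a = b := by
  apply yonedaEquiv.symm.injective
  apply Limits.prod.hom_ext
  · apply yonedaEquiv.injective
    rw [yonedaEquiv_comp, yonedaEquiv_comp, Equiv.apply_symm_apply, Equiv.apply_symm_apply]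
    exact h1
  · apply yonedaEquiv.injective
    rw [yonedaEquiv_comp, yonedaEquiv_comp, Equiv.apply_symm_apply, Equiv.apply_symm_apply]
    exact h2

end SR

section Over

variable {C : Type u} [SmallCategory C] (J : GrothendieckTopology C) (X : C)
  (K : SimplicialObject (FormalCoproduct.{u} (Over X)))
  [∀ (n : ℕ) (F : (SimplexCategory.Truncated n)ᵒᵖ ⥤ FormalCoproduct.{u} (Over X)),
    (SimplexCategory.Truncated.inclusion n).op.HasRightKanExtension F]

variable {J X K}

/-- a hypercovering of `X` is a Verdier hypercovering of the final object of `C/X` -/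
theorem isHypercoveringSite_over (hK : Hyper.IsHypercovering J X K) :
    Hyper.IsHypercoveringSite (J.over X) K := by
  obtain ⟨hK0, hKn⟩ := hK
  refine ⟨?_, ?_, fun n _ => isLocallySurjective_of_isSRCovering _ _ (hKn n)⟩
  · refine ⟨fun {Y} s => ?_⟩
    rw [GrothendieckTopology.mem_over_iff]
    refine J.superset_covering ?_ (J.pullback_stable Y.hom hK0)
    intro V h hh
    obtain ⟨i, a, hia⟩ := (Sieve.mem_ofArrows_iff _ _ _).1 hh
    rw [Sieve.overEquiv_iff]
    exact ⟨secOf (K.obj (op ⦋0⦌)) (Over.mk (h ≫ Y.hom)) i (Over.homMk a hia.symm),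
      terminal_sections_subsingleton _ _ _⟩
  · have hls := isLocallySurjective_of_isSRCovering (J.over X) _ (hKn 0)
    refine ⟨fun {U} s => ?_⟩
    let F₀ := FormalCoproduct.yoneda.obj (K.obj (op ⦋0⦌))
    let s₁ : F₀.obj (op U) := (prod.fst : F₀ ⨯ F₀ ⟶ F₀).app (op U) s
    let s₀ : F₀.obj (op U) := (prod.snd : F₀ ⨯ F₀ ⟶ F₀).app (op U) s
    let β : Fin 2 → ((FormalCoproduct.incl (Over X)).obj U ⟶ K.obj (op ⦋0⦌)) :=
      ![unsec _ U s₀, unsec _ U s₁]
    obtain ⟨σ, hσ⟩ := exists_lift_cosk_zero.{u, u + 1, u} K β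
    refine (J.over X).superset_covering ?_ (Presheaf.imageSieve_mem (J.over X)
      (FormalCoproduct.yoneda.map (((SimplicialObject.coskAdj 0).unit.app K).app (op ⦋0 + 1⦌)))
      (sec _ U σ))
    rintro V f ⟨t, ht⟩
    obtain ⟨τ, rfl⟩ := sec_surjective (K.obj (op ⦋1⦌)) V t
    let K'' := ((SimplicialObject.Truncated.cosk 0).obj
      ((SimplicialObject.truncation 0).obj K)).obj (op ⦋1⦌)
    let η : K.obj (op ⦋1⦌) ⟶ K'' := ((SimplicialObject.coskAdj 0).unit.app K).app (op ⦋1⦌)
    have ht' : sec K'' V (τ ≫ η) = sec K'' V ((FormalCoproduct.incl (Over X)).map f ≫ σ) :=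
      ((map_sec η V τ).symm.trans ht).trans (res_sec K'' f σ)
    have hτ := hσ _ τ (sec_injective _ _ ht')
    refine ⟨sec _ V τ, ?_⟩
    apply prod_sections_ext
    · have h1 := ConcreteCategory.congr_hom (NatTrans.congr_app (prod.lift_fst
        (FormalCoproduct.yoneda.map (K.δ (1 : Fin 2)))
        (FormalCoproduct.yoneda.map (K.δ (0 : Fin 2)))) (op V)) (sec _ V τ)
      simp only [NatTrans.comp_app, CategoryTheory.comp_apply] at h1
      rw [h1, NatTrans.naturality_apply, map_sec, hτ 1, ← res_sec]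
      congr 1
      exact sec_unsec _ U s₁
    · have h1 := ConcreteCategory.congr_hom (NatTrans.congr_app (prod.lift_snd
        (FormalCoproduct.yoneda.map (K.δ (1 : Fin 2)))
        (FormalCoproduct.yoneda.map (K.δ (0 : Fin 2)))) (op V)) (sec _ V τ)
      simp only [NatTrans.comp_app, CategoryTheory.comp_apply] at h1
      rw [h1, NatTrans.naturality_apply, map_sec, hτ 0, ← res_sec]
      congr 1
      exact sec_unsec _ U s₀

end Over

end Groth.Agent.R2.H38.HypOver
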