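import Groth.Prelude.Def_Hyper
import Groth.Agent.R2.H38HypOver

/-!
# Hypercoverings of an object `X`, read on `C` with augmentation to `h_X` (helper38)
-/

set_option autoImplicit false

open CategoryTheory Opposite Limits Simplicial

universe u

namespace Groth.Agent.R2.H38.HypOverC

open Groth.Agent.R2.H38.HypFC Groth.Agent.R2.H38.HypCone

section fcMap

variable {D C : Type u} [SmallCategory D] [SmallCategory C] (Φ : D ⥤ C)

/-- functoriality of formal coproducts -/
@[simps]
def fcMap : FormalCoproduct.{u} D ⥤ FormalCoproduct.{u} C where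
  obj Y := ⟨Y.I, fun i => Φ.obj (Y.obj i)⟩
  map f := ⟨f.f, fun i => Φ.map (f.φ i)⟩
  map_id Y := by
    apply FormalCoproduct.hom_ext (by rfl)
    intro i
    simp
  map_comp f g := by
    apply FormalCoproduct.hom_ext (by rfl)
    intro i
    simp

end fcMap

section Dict

variable {C : Type u} [SmallCategory C] (X : C)

/-- push a formal coproduct of objects over `X` down to `C` -/
abbrev dn : FormalCoproduct.{u} (Over X) ⥤ FormalCoproduct.{u} C := fcMap (Over.forget X)

/-- the augmentation `F(dn Y) ⟶ h_X` -/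
noncomputable def augY (Y : FormalCoproduct.{u} (Over X)) :
    FormalCoproduct.yoneda.obj ((dn X).obj Y) ⟶ yoneda.obj X :=
  Sigma.desc (fun i => yoneda.map (Y.obj i).hom)

theorem augY_secOf (Y : FormalCoproduct.{u} (Over X)) (U : C) (i : Y.I) (g : U ⟶ (Y.obj i).left) :
    (augY X Y).app (op U) (secOf ((dn X).obj Y) U i g) = g ≫ (Y.obj i).hom := by
  have h : Sigma.ι (fun i => yoneda.obj (((dn X).obj Y).obj i)) i ≫ augY X Y =
      yoneda.map (Y.obj i).hom := Sigma.ι_desc _ _
  exact ConcreteCategory.congr_hom (NatTrans.congr_app h (op U)) g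

theorem augY_sec (Y : FormalCoproduct.{u} (Over X)) (U : C)
    (φ : (FormalCoproduct.incl C).obj U ⟶ (dn X).obj Y) :
    (augY X Y).app (op U) (sec ((dn X).obj Y) U φ) =
      φ.φ PUnit.unit ≫ (Y.obj (φ.f PUnit.unit)).hom :=
  augY_secOf X Y U _ _

theorem augY_naturality {Y Y' : FormalCoproduct.{u} (Over X)} (f : Y ⟶ Y') :
    FormalCoproduct.yoneda.map ((dn X).map f) ≫ augY X Y' = augY X Y := by
  apply Sigma.hom_ext
  intro i
  have h1 : Sigma.ι (fun i => yoneda.obj (((dn X).obj Y).obj i)) i ≫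
      FormalCoproduct.yoneda.map ((dn X).map f) =
      yoneda.map (f.φ i).left ≫ Sigma.ι (fun i => yoneda.obj (((dn X).obj Y').obj i)) (f.f i) :=
    Sigma.ι_desc _ _
  have h2 : Sigma.ι (fun i => yoneda.obj (((dn X).obj Y').obj i)) (f.f i) ≫ augY X Y' =
      yoneda.map (Y'.obj (f.f i)).hom := Sigma.ι_desc _ _
  have h3 : Sigma.ι (fun i => yoneda.obj (((dn X).obj Y).obj i)) i ≫ augY X Y =
      yoneda.map (Y.obj i).hom := Sigma.ι_desc _ _
  have h4 : yoneda.map (f.φ i).left ≫ yoneda.map (Y'.obj (f.f i)).hom =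
      yoneda.map (Y.obj i).hom := by
    rw [← Functor.map_comp, Over.w]
  exact (Category.assoc _ _ _).symm.trans ((h1 =≫ _).trans ((Category.assoc _ _ _).trans
    ((_ ≫= h2).trans (h4.trans h3.symm))))

variable {X}

/-- lowering sections from `C/X` to `C` -/
noncomputable def low (Y : FormalCoproduct.{u} (Over X)) {U : C} (u : U ⟶ X)
    (s : (FormalCoproduct.yoneda.obj Y).obj (op (Over.mk u))) :
    (FormalCoproduct.yoneda.obj ((dn X).obj Y)).obj (op U) :=
  sec ((dn X).obj Y) U ((dn X).map (unsec Y (Over.mk u) s))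

theorem low_sec (Y : FormalCoproduct.{u} (Over X)) {U : C} (u : U ⟶ X)
    (φ : (FormalCoproduct.incl (Over X)).obj (Over.mk u) ⟶ Y) :
    low Y u (sec Y (Over.mk u) φ) = sec ((dn X).obj Y) U ((dn X).map φ) := by
  rw [low, unsec_sec]

theorem aug_low (Y : FormalCoproduct.{u} (Over X)) {U : C} (u : U ⟶ X)
    (s : (FormalCoproduct.yoneda.obj Y).obj (op (Over.mk u))) :
    (augY X Y).app (op U) (low Y u s) = u := by
  rw [low, augY_sec]
  exact Over.w ((unsec Y (Over.mk u) s).φ PUnit.unit)

theorem unsec_map {D : Type u} [SmallCategory D] {Y Y' : FormalCoproduct.{u} D} (f : Y ⟶ Y')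
    (U : D) (s : (FormalCoproduct.yoneda.obj Y).obj (op U)) :
    unsec Y' U ((FormalCoproduct.yoneda.map f).app (op U) s) = unsec Y U s ≫ f := by
  apply sec_injective Y' U
  rw [sec_unsec, ← map_sec, sec_unsec]

theorem low_map {Y Y' : FormalCoproduct.{u} (Over X)} (f : Y ⟶ Y') {U : C} (u : U ⟶ X)
    (s : (FormalCoproduct.yoneda.obj Y).obj (op (Over.mk u))) :
    (FormalCoproduct.yoneda.map ((dn X).map f)).app (op U) (low Y u s) =
      low Y' u ((FormalCoproduct.yoneda.map f).app (op (Over.mk u)) s) := by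
  rw [low, low, map_sec, unsec_map, Functor.map_comp]
  rfl

theorem low_res (Y : FormalCoproduct.{u} (Over X)) {U V : C} (u : U ⟶ X) (h : V ⟶ U)
    (s : (FormalCoproduct.yoneda.obj Y).obj (op (Over.mk u))) :
    (FormalCoproduct.yoneda.obj ((dn X).obj Y)).map h.op (low Y u s) =
      low Y (h ≫ u) ((FormalCoproduct.yoneda.obj Y).map
        (Over.homMk h : Over.mk (h ≫ u) ⟶ Over.mk u).op s) := by
  rw [low, low, res_sec, unsec_res, Functor.map_comp]
  rfl

theorem low_surjective (Y : FormalCoproduct.{u} (Over X)) {U : C} (u : U ⟶ X)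
    (s' : (FormalCoproduct.yoneda.obj ((dn X).obj Y)).obj (op U))
    (hs' : (augY X Y).app (op U) s' = u) :
    ∃ s : (FormalCoproduct.yoneda.obj Y).obj (op (Over.mk u)), low Y u s = s' := by
  obtain ⟨φ', rfl⟩ := sec_surjective _ U s'
  rw [augY_sec] at hs'
  let φ : (FormalCoproduct.incl (Over X)).obj (Over.mk u) ⟶ Y :=
    FormalCoproduct.Hom.fromIncl (φ'.f PUnit.unit)
      (Over.homMk (φ'.φ PUnit.unit) hs' : Over.mk u ⟶ Y.obj (φ'.f PUnit.unit))
  refine ⟨sec Y (Over.mk u) φ, ?_⟩
  rw [low_sec]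
  congr 1

theorem low_injective (Y : FormalCoproduct.{u} (Over X)) {U : C} (u : U ⟶ X) :
    Function.Injective (low Y u) := by
  intro s s' h
  have h1 := sec_injective _ _ h
  have h2 : unsec Y (Over.mk u) s = unsec Y (Over.mk u) s' := by
    rw [← FormalCoproduct.Hom.fromIncl_asSigma (unsec Y (Over.mk u) s),
      ← FormalCoproduct.Hom.fromIncl_asSigma (unsec Y (Over.mk u) s')]
    have hf : (unsec Y (Over.mk u) s).asSigma.fst = (unsec Y (Over.mk u) s').asSigma.fst :=
      congrArg (fun ψ => ψ.f PUnit.unit) h1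
    have hφ : HEq (unsec Y (Over.mk u) s).asSigma.snd.left
        (unsec Y (Over.mk u) s').asSigma.snd.left := by
      have : HEq (((dn X).map (unsec Y (Over.mk u) s)).φ PUnit.unit)
          (((dn X).map (unsec Y (Over.mk u) s')).φ PUnit.unit) := by
        rw [h1]
      exact this
    generalize (unsec Y (Over.mk u) s).asSigma = a at hf hφ
    generalize (unsec Y (Over.mk u) s').asSigma = a' at hf hφ
    obtain ⟨i, g⟩ := a
    obtain ⟨i', g'⟩ := a'
    obtain rfl : i = i' := hf
    have hg : g = g' := Over.OverMorphism.ext (eq_of_heq hφ)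
    rw [hg]
  rw [← sec_unsec Y _ s, ← sec_unsec Y _ s', h2]

end Dict

section Transfer

variable {C : Type u} [SmallCategory C] (J : GrothendieckTopology C) {X : C}
  (K : SimplicialObject (FormalCoproduct.{u} (Over X)))

/-- `K` pushed down to `C` -/
abbrev Kdn : SimplicialObject (FormalCoproduct.{u} C) := K ⋙ dn X

/-- the augmentation of `F(Kdn K)` to `h_X` -/
noncomputable def augX :
    (Kdn K ⋙ FormalCoproduct.yoneda) ⟶ (Functor.const _).obj (yoneda.obj X) where
  app n := augY X (K.obj n)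
  naturality n m θ := by
    exact (augY_naturality X (K.map θ)).trans (Category.comp_id _).symm

variable {J K}

/-- transfer of the local lifting property from `C/X` to `C` (with base `h_X`) -/
theorem llp_dn (h : LLP (J.over X) (K ⋙ FormalCoproduct.yoneda)
      (Groth.Agent.R2.H38.HypSite.augPt (K ⋙ FormalCoproduct.yoneda))) :
    LLP J (Kdn K ⋙ FormalCoproduct.yoneda) (augX K) := by
  refine ⟨?_, ?_, ?_⟩
  · intro U β
    change U ⟶ X at β
    obtain ⟨S, hS, hS'⟩ := h.h0 (Over.mk β) PUnit.unit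
    refine ⟨Sieve.overEquiv _ S, (J.mem_over_iff S).1 hS, ?_⟩
    intro V f hf
    rw [Sieve.overEquiv_iff] at hf
    obtain ⟨x, _⟩ := hS' _ hf
    exact ⟨low (K.obj (op ⦋0⦌)) (f ≫ β) x, aug_low _ _ _⟩
  · intro U x' y' hxy
    obtain ⟨u, hu⟩ : ∃ u, ag (augX K) 0 x' = u := ⟨_, rfl⟩
    obtain ⟨x, hx⟩ := low_surjective (K.obj (op ⦋0⦌)) u x' hu
    obtain ⟨y, hy⟩ := low_surjective (K.obj (op ⦋0⦌)) u y' (hxy.symm.trans hu)
    subst hx hy
    obtain ⟨S, hS, hS'⟩ := h.h1 (Over.mk u) x y rfl
    refine ⟨Sieve.overEquiv _ S, (J.mem_over_iff S).1 hS, ?_⟩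
    intro V f hf
    rw [Sieve.overEquiv_iff] at hf
    obtain ⟨t, ht0, ht1⟩ := hS' _ hf
    refine ⟨low (K.obj (op ⦋1⦌)) (f ≫ u) t, ?_, ?_⟩
    · exact (low_map (K.δ 0) _ t).trans ((congrArg (low _ _) ht0).trans (low_res _ _ f x).symm)
    · exact (low_map (K.δ 1) _ t).trans ((congrArg (low _ _) ht1).trans (low_res _ _ f y).symm)
  · intro n U b' hb'
    obtain ⟨u, hu0⟩ : ∃ u, ag (augX K) (n + 1) (b' 0) = u := ⟨_, rfl⟩
    have hu : ∀ k, ag (augX K) (n + 1) (b' k) = u := by
      intro k
      induction k using Fin.cases with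
      | zero => exact hu0
      | succ j =>
        have := congrArg (ag (augX K) n) (hb' 0 j (Fin.zero_le j))
        rw [ag_dd, ag_dd] at this
        exact this.trans hu0
    have hsurj : ∀ k, ∃ s, low (K.obj (op ⦋n + 1⦌)) u s = b' k :=
      fun k => low_surjective _ _ (b' k) (hu k)
    choose b hb using hsurj
    obtain rfl : b' = fun k => low (K.obj (op ⦋n + 1⦌)) u (b k) := funext fun k => (hb k).symm
    have hcompat : ∀ i j : Fin (n + 2), i ≤ j →
        dd (K ⋙ FormalCoproduct.yoneda) n i (b j.succ) =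
          dd (K ⋙ FormalCoproduct.yoneda) n j (b i.castSucc) := by
      intro i j hij
      apply low_injective (K.obj (op ⦋n⦌)) u
      refine (low_map (K.δ i) _ (b j.succ)).symm.trans ?_
      refine Eq.trans ?_ (low_map (K.δ j) _ (b i.castSucc))
      exact hb' i j hij
    obtain ⟨S, hS, hS'⟩ := h.hn n (Over.mk u) b hcompat
    refine ⟨Sieve.overEquiv _ S, (J.mem_over_iff S).1 hS, ?_⟩
    intro V f hf
    rw [Sieve.overEquiv_iff] at hf
    obtain ⟨t, ht⟩ := hS' _ hf
    refine ⟨low (K.obj (op ⦋n + 2⦌)) (f ≫ u) t, fun i => ?_⟩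
    exact (low_map (K.δ i) _ t).trans ((congrArg (low _ _) (ht i)).trans (low_res _ _ f (b i)).symm)

/-- the Čech complex over `X` is the Čech complex of the pushed-down simplicial object -/
noncomputable def cechDnIso (P : Cᵒᵖ ⥤ AddCommGrpCat.{u}) :
    (FormalCoproduct.cochainComplexFunctor K).obj ((Over.forget X).op ⋙ P) ≅
      (FormalCoproduct.cochainComplexFunctor (Kdn K)).obj P :=
  (AlgebraicTopology.alternatingCofaceMapComplex _).mapIso
    (NatIso.ofComponents (fun n => Iso.refl _) (by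
      intro n m θ
      refine (Category.comp_id _).trans ?_
      refine Eq.trans ?_ (Category.id_comp _).symm
      rfl))

/-- **Čech cohomology of an injective sheaf with respect to a hypercovering of `X` vanishes.** -/
theorem isZero_cech_of_llp_over (I : Sheaf J AddCommGrpCat.{u}) [Injective I]
    (h : LLP (J.over X) (K ⋙ FormalCoproduct.yoneda)
      (Groth.Agent.R2.H38.HypSite.augPt (K ⋙ FormalCoproduct.yoneda))) (p : ℕ) :
    IsZero (((FormalCoproduct.cochainComplexFunctor K).obj
      ((Over.forget X).op ⋙ I.obj)).homology (p + 1)) := by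
  obtain ⟨h1, _⟩ := Groth.Agent.R2.H38.HypCech.cech_of_llp J I (Kdn K) (augX K) (llp_dn h)
  exact IsZero.of_iso (h1 inferInstance p)
    ((HomologicalComplex.homologyFunctor _ _ (p + 1)).mapIso (cechDnIso I.obj))

end Transfer

end Groth.Agent.R2.H38.HypOverC
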