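import Groth.Agent.R2.H38HypCmp2
import Groth.Agent.R2.H38HypOverC

/-!
# Dimension shifting for Čech cohomology over hypercoverings (helper38)
-/

set_option autoImplicit false

open CategoryTheory Opposite Limits Simplicial

universe u

namespace Groth.Agent.R2.H38.HypCmp

open Groth.Agent.R2.H38.HypFC Groth.Agent.R2.H38.HypRefine Groth.Agent.R2.H38.HypKill
  Groth.Agent.R2.H38.HypConv

section Sections

variable {C : Type u} [SmallCategory C] {J : GrothendieckTopology C}
  (S : ShortComplex (Sheaf J AddCommGrpCat.{u})) (hS : S.ShortExact)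

include hS

theorem sec_inj (U : C) : Function.Injective (S.f.hom.app (op U)) := by
  have : Mono S.f := hS.mono_f
  have : Mono S.f.hom := (sheafToPresheaf _ _).map_mono S.f
  have : Mono (S.f.hom.app (op U)) := inferInstance
  exact (AddCommGrpCat.mono_iff_injective _).1 inferInstance

theorem sec_exact (U : C) (y : S.X₂.obj.obj (op U)) (hy : S.g.hom.app (op U) y = 0) :
    ∃ x : S.X₁.obj.obj (op U), S.f.hom.app (op U) x = y := by
  have h := hS.exact.map_of_mono_of_preservesKernel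
    (sheafToPresheaf J AddCommGrpCat.{u} ⋙ (evaluation _ _).obj (op U)) hS.mono_f inferInstance
  exact (ShortComplex.ab_exact_iff _).1 h y hy

theorem ls_g : LS J S.g.hom := by
  intro U t'
  have : Epi S.g := hS.epi_g
  have hloc : Sheaf.IsLocallySurjective S.g :=
    (Sheaf.isLocallySurjective_iff_epi' AddCommGrpCat.{u} S.g).2 inferInstance
  exact ⟨_, hloc.imageSieve_mem t', fun V f hf => hf⟩

omit hS in
theorem fg_zero : S.f.hom ≫ S.g.hom = 0 := by
  have h := S.zero
  have h2 := congrArg (fun φ => φ.hom) h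
  exact h2

end Sections

section AC

variable {C : Type u} [SmallCategory C] (J : GrothendieckTopology C) (X : C)
  [∀ (n : ℕ) (F : (SimplexCategory.Truncated n)ᵒᵖ ⥤ FormalCoproduct.{u} (Over X)),
      (SimplexCategory.Truncated.inclusion n).op.HasRightKanExtension F]

/-- Čech-acyclicity in positive degrees over all hypercoverings of `X`, cochain form -/
def AC (I : Cᵒᵖ ⥤ AddCommGrpCat.{u}) : Prop :=
  ∀ (K : SimplicialObject (FormalCoproduct.{u} (Over X))), Hyper.IsHypercovering J X K →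
    ∀ (p : ℕ) (b : (Hyper.cechCx X K I).X (p + 1)), (Hyper.cechCx X K I).d (p + 1) (p + 2) b = 0 →
      ∃ e : (Hyper.cechCx X K I).X p, (Hyper.cechCx X K I).d p (p + 1) e = b

variable {J X} in
theorem ac_of_injective (I : Sheaf J AddCommGrpCat.{u}) [Injective I] : AC J X I.obj := by
  intro K hK p b hb
  have hS := Groth.Agent.R2.H38.HypOver.isHypercoveringSite_over hK
  have hllp := Groth.Agent.R2.H38.HypSite.llp_of_isHypercoveringSite hS
  have hz : IsZero ((Hyper.cechCx X K I.obj).homology (p + 1)) :=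
    Groth.Agent.R2.H38.HypOverC.isZero_cech_of_llp_over I hllp p
  obtain ⟨z, rfl⟩ := exists_cycle (Hyper.cechCx X K I.obj) (p + 1) (p + 2) (by simp) b hb
  have hπ : (Hyper.cechCx X K I.obj).homologyπ (p + 1) z = 0 := by
    have := hz.eq_of_tgt ((Hyper.cechCx X K I.obj).homologyπ (p + 1)) 0
    rw [this]
    rfl
  obtain ⟨e, he⟩ := exists_of_homologyπ_eq_zero (Hyper.cechCx X K I.obj) p (p + 1) (by simp) z hπ
  refine ⟨e, ?_⟩
  rw [← iCycles_toCycles, he]

end AC

section Shift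

variable {C : Type u} [SmallCategory C] [HasPullbacks C] {J : GrothendieckTopology C} {X : C}
  [∀ (n : ℕ) (F : (SimplexCategory.Truncated n)ᵒᵖ ⥤ FormalCoproduct.{u} (Over X)),
      (SimplexCategory.Truncated.inclusion n).op.HasRightKanExtension F]
  (S : ShortComplex (Sheaf J AddCommGrpCat.{u})) (hS : S.ShortExact) (hAC : AC J X S.X₂.obj)

include hS hAC

theorem shift_succ_mp (p : ℕ) (h : DD' J X S.X₃.obj (p + 1)) : DD' J X S.X₁.obj (p + 2) := by
  intro K hK c hc
  have hιc : (Hyper.cechCx X K S.X₂.obj).d (p + 2) (p + 3) ((push K S.f.hom).f (p + 2) c) = 0 := by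
    rw [hom_comm_apply, hc, map_zero]
  obtain ⟨b, hb⟩ := hAC K hK (p + 1) _ hιc
  have hπb : (Hyper.cechCx X K S.X₃.obj).d (p + 1) (p + 2) ((push K S.g.hom).f (p + 1) b) = 0 := by
    rw [hom_comm_apply, hb, push_comp_apply, fg_zero, push_zero_apply]
  obtain ⟨L, f, hL, hd⟩ := h K hK _ hπb
  rw [dies_succ_iff] at hd
  obtain ⟨e, he⟩ := hd
  obtain ⟨L', f', hL', e', he'⟩ := exists_lift_of_LS S.g.hom (ls_g S hS) L hL p e
  have hb1 : (push L' S.g.hom).f (p + 1) ((Hyper.cechMap X f' S.X₂.obj).f (p + 1)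
      ((Hyper.cechMap X f S.X₂.obj).f (p + 1) b) -
        (Hyper.cechCx X L' S.X₂.obj).d p (p + 1) e') = 0 := by
    rw [map_sub, push_pull_apply, push_pull_apply, ← hom_comm_apply, he', hom_comm_apply, he]
    exact sub_self _
  obtain ⟨a, ha⟩ := push_exact L' S.f.hom S.g.hom (sec_exact S hS) (p + 1) _ hb1
  refine ⟨L', f' ≫ f, hL', (dies_succ_iff _ _ (p + 1) c).2 ⟨a, ?_⟩⟩
  apply push_injective L' S.f.hom (sec_inj S hS) (p + 2)
  rw [← hom_comm_apply, ha, map_sub, d_d_apply, sub_zero, hom_comm_apply, hom_comm_apply, hb,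
    ← push_pull_apply, ← push_pull_apply, pull_comp_apply]

theorem shift_succ_mpr (p : ℕ) (h : DD' J X S.X₁.obj (p + 2)) : DD' J X S.X₃.obj (p + 1) := by
  intro K hK c hc
  obtain ⟨L, f, hL, b, hb⟩ := exists_lift_of_LS S.g.hom (ls_g S hS) K hK (p + 1) c
  have hdb : (push L S.g.hom).f (p + 2) ((Hyper.cechCx X L S.X₂.obj).d (p + 1) (p + 2) b) = 0 := by
    rw [← hom_comm_apply, hb, hom_comm_apply, hc, map_zero]
  obtain ⟨a, ha⟩ := push_exact L S.f.hom S.g.hom (sec_exact S hS) (p + 2) _ hdb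
  have hda : (Hyper.cechCx X L S.X₁.obj).d (p + 2) (p + 3) a = 0 := by
    apply push_injective L S.f.hom (sec_inj S hS) (p + 3)
    rw [← hom_comm_apply, ha, d_d_apply, map_zero]
  obtain ⟨L', f', hL', hd⟩ := h L hL a hda
  rw [dies_succ_iff] at hd
  obtain ⟨a', ha'⟩ := hd
  have hb' : (Hyper.cechCx X L' S.X₂.obj).d (p + 1) (p + 2)
      ((Hyper.cechMap X f' S.X₂.obj).f (p + 1) b - (push L' S.f.hom).f (p + 1) a') = 0 := by
    rw [map_sub, hom_comm_apply, hom_comm_apply, ha', ← ha, push_pull_apply]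
    exact sub_self _
  obtain ⟨e, he⟩ := hAC L' hL' p _ hb'
  refine ⟨L', f' ≫ f, hL', (dies_succ_iff _ _ p c).2 ⟨(push L' S.g.hom).f p e, ?_⟩⟩
  rw [hom_comm_apply, he, map_sub, push_comp_apply, fg_zero, push_zero_apply, sub_zero,
    push_pull_apply, hb, pull_comp_apply]

omit [HasPullbacks C] in
theorem shift_one_mpr (h : Function.Surjective (S.g.hom.app (op X))) : DD' J X S.X₁.obj 1 := by
  intro K hK c hc
  have hιc : (Hyper.cechCx X K S.X₂.obj).d 1 2 ((push K S.f.hom).f 1 c) = 0 := by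
    rw [hom_comm_apply, hc, map_zero]
  obtain ⟨b, hb⟩ := hAC K hK 0 _ hιc
  have hπb : (Hyper.cechCx X K S.X₃.obj).d 0 1 ((push K S.g.hom).f 0 b) = 0 := by
    rw [hom_comm_apply, hb, push_comp_apply, fg_zero, push_zero_apply]
  obtain ⟨t, ht⟩ := exists_glob S.X₃ K hK _ hπb
  obtain ⟨s, rfl⟩ := h t
  have hb1 : (push K S.g.hom).f 0 (b - glob S.X₂.obj K s) = 0 := by
    rw [map_sub, ht, push_glob]
    exact sub_self _
  obtain ⟨a, ha⟩ := push_exact K S.f.hom S.g.hom (sec_exact S hS) 0 _ hb1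
  refine ⟨K, 𝟙 K, hK, (dies_succ_iff _ _ 0 c).2 ⟨a, ?_⟩⟩
  apply push_injective K S.f.hom (sec_inj S hS) 1
  rw [← hom_comm_apply, ha, map_sub, d_glob, sub_zero, hb, pull_id_apply]

omit hAC in
theorem shift_one_mp (h : DD' J X S.X₁.obj 1) : Function.Surjective (S.g.hom.app (op X)) := by
  intro t
  have hK := isHypercovering_trivK J X
  obtain ⟨L, f, hL, b, hb⟩ := exists_lift_of_LS S.g.hom (ls_g S hS) (trivK X) hK 0
    (glob S.X₃.obj (trivK X) t)
  rw [pull_glob] at hb
  have hdb : (push L S.g.hom).f 1 ((Hyper.cechCx X L S.X₂.obj).d 0 1 b) = 0 := by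
    rw [← hom_comm_apply, hb, d_glob]
  obtain ⟨a, ha⟩ := push_exact L S.f.hom S.g.hom (sec_exact S hS) 1 _ hdb
  have hda : (Hyper.cechCx X L S.X₁.obj).d 1 2 a = 0 := by
    apply push_injective L S.f.hom (sec_inj S hS) 2
    rw [← hom_comm_apply, ha, d_d_apply, map_zero]
  obtain ⟨L', f', hL', hd⟩ := h L hL a hda
  rw [dies_succ_iff] at hd
  obtain ⟨a', ha'⟩ := hd
  have hb' : (Hyper.cechCx X L' S.X₂.obj).d 0 1
      ((Hyper.cechMap X f' S.X₂.obj).f 0 b - (push L' S.f.hom).f 0 a') = 0 := by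
    rw [map_sub, hom_comm_apply, hom_comm_apply, ha', ← ha, push_pull_apply]
    exact sub_self _
  obtain ⟨s, hs⟩ := exists_glob S.X₂ L' hL' _ hb'
  refine ⟨s, ?_⟩
  apply glob_inj S.X₃ L' hL'
  rw [← push_glob, ← hs, map_sub, push_comp_apply, fg_zero, push_zero_apply, sub_zero,
    push_pull_apply, hb, pull_glob]

end Shift

section Zero

variable {C : Type u} [SmallCategory C] {J : GrothendieckTopology C} {X : C}
  [∀ (n : ℕ) (F : (SimplexCategory.Truncated n)ᵒᵖ ⥤ FormalCoproduct.{u} (Over X)),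
      (SimplexCategory.Truncated.inclusion n).op.HasRightKanExtension F]

theorem dd'_zero_iff (F : Sheaf J AddCommGrpCat.{u}) :
    DD' J X F.obj 0 ↔ ∀ t : F.obj.obj (op X), t = 0 := by
  constructor
  · intro h t
    have hK := isHypercovering_trivK J X
    obtain ⟨L, f, hL, hd⟩ := h (trivK X) hK (glob F.obj (trivK X) t) (d_glob _ _ t)
    rw [dies_zero_iff, pull_glob] at hd
    exact glob_injective F L hL t hd
  · intro h K hK c hc
    obtain ⟨t, rfl⟩ := exists_glob F K hK c hc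
    refine ⟨K, 𝟙 K, hK, (dies_zero_iff _ _ _).2 ?_⟩
    rw [pull_id_apply, h t, glob_zero]

end Zero

end Groth.Agent.R2.H38.HypCmp
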