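import Groth.Agent.R2.H38HypOverC

/-!
# Dimension shifting for `Hom(A_•, -)` of an acyclic simplicial object (helper38)

If `A_•` is a simplicial object of an abelian category with enough injectives whose alternating
face map complex is a resolution of `T`, and `P` is a class of objects stable under
`F ↦ I(F)/F` such that `Hom(A_n, I(F)) → Hom(A_n, I(F)/F)` and `Hom(T, I(F)) → Hom(T, I(F)/F)`
are surjective for `F` in `P`, then `H^{p+1}(Hom(A_•, F)) = 0` for `F` in `P`.
-/

set_option autoImplicit false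

open CategoryTheory Opposite Limits Simplicial

universe u

namespace Groth.Agent.R2.H38.HypShift

open Groth.Agent.R2.H38.HypCech

section General

variable {𝒜 : Type*} [Category 𝒜] [Abelian 𝒜] [EnoughInjectives 𝒜] (A : SimplicialObject 𝒜)

/-- elementwise form of `H^{p+1}(Hom(A_•, F)) = 0` -/
def E (p : ℕ) (F : 𝒜) : Prop :=
  ∀ ψ : A.obj (op ⦋p + 1⦌) ⟶ F,
    ((AlgebraicTopology.alternatingFaceMapComplex 𝒜).obj A).d (p + 2) (p + 1) ≫ ψ = 0 →
    ∃ φ : A.obj (op ⦋p⦌) ⟶ F,
      ((AlgebraicTopology.alternatingFaceMapComplex 𝒜).obj A).d (p + 1) p ≫ φ = ψ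

omit [EnoughInjectives 𝒜] in
theorem isZero_of_E (p : ℕ) (F : 𝒜) (h : E A p F) : IsZero ((homCx A F).homology (p + 1)) := by
  rw [← HomologicalComplex.exactAt_iff_isZero_homology]
  rw [HomologicalComplex.exactAt_iff' _ p (p + 1) (p + 2) (by simp) (by simp),
    ShortComplex.ab_exact_iff]
  intro ψ hψ
  change A.obj (op ⦋p + 1⦌) ⟶ F at ψ
  have hψ' : (homCx A F).d (p + 1) (p + 2) ψ = 0 := hψ
  rw [homCx_d_apply] at hψ'
  obtain ⟨φ, hφ⟩ := h ψ hψ'
  refine ⟨φ, ?_⟩
  change (homCx A F).d p (p + 1) φ = ψ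
  rw [homCx_d_apply]
  exact hφ

variable {A}

theorem shift_E (P : 𝒜 → Prop)
    (hA : ∀ n : ℕ,
      IsZero (((AlgebraicTopology.alternatingFaceMapComplex 𝒜).obj A).homology (n + 1)))
    {T : 𝒜} (ε : A.obj (op ⦋0⦌) ⟶ T)
    (w : ((AlgebraicTopology.alternatingFaceMapComplex 𝒜).obj A).d 1 0 ≫ ε = 0)
    (hex : (ShortComplex.mk _ ε w).Exact) [Epi ε]
    (ha : ∀ F, P F → P (cokernel (Injective.ι F)))
    (hb : ∀ F, P F → ∀ (n : ℕ) (θ : A.obj (op ⦋n⦌) ⟶ cokernel (Injective.ι F)),
      ∃ θ' : A.obj (op ⦋n⦌) ⟶ Injective.under F, θ' ≫ cokernel.π (Injective.ι F) = θ)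
    (hc : ∀ F, P F → ∀ (χ : T ⟶ cokernel (Injective.ι F)),
      ∃ χ' : T ⟶ Injective.under F, χ' ≫ cokernel.π (Injective.ι F) = χ) :
    ∀ (p : ℕ) (F : 𝒜), P F → E A p F := by
  intro p
  induction p with
  | zero =>
    intro F hF ψ hψ
    -- lift `ψ ≫ ι` along the exact complex
    have h1 := hA 0
    rw [← HomologicalComplex.exactAt_iff_isZero_homology,
      HomologicalComplex.exactAt_iff' _ (0 + 2) (0 + 1) 0 (by simp) (by simp)] at h1
    have hψι : ((AlgebraicTopology.alternatingFaceMapComplex 𝒜).obj A).d (0 + 2) (0 + 1) ≫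
        (ψ ≫ Injective.ι F) = 0 := by
      rw [← Category.assoc, hψ, zero_comp]
    let φ' : A.obj (op ⦋0⦌) ⟶ Injective.under F := h1.descToInjective (ψ ≫ Injective.ι F) hψι
    have hφ' : ((AlgebraicTopology.alternatingFaceMapComplex 𝒜).obj A).d (0 + 1) 0 ≫ φ' =
        ψ ≫ Injective.ι F := h1.comp_descToInjective (ψ ≫ Injective.ι F) hψι
    -- `φ' ≫ π` kills `d`, so factors through `T`
    have h2 : ((AlgebraicTopology.alternatingFaceMapComplex 𝒜).obj A).d 1 0 ≫
        (φ' ≫ cokernel.π (Injective.ι F)) = 0 := by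
      rw [← Category.assoc]
      refine (congrArg (· ≫ cokernel.π (Injective.ι F)) hφ').trans ?_
      rw [Category.assoc, cokernel.condition, comp_zero]
    obtain ⟨χ', hχ'⟩ := hc F hF (hex.desc (φ' ≫ cokernel.π (Injective.ι F)) h2)
    have hχ'' : ε ≫ χ' ≫ cokernel.π (Injective.ι F) = φ' ≫ cokernel.π (Injective.ι F) := by
      rw [hχ']
      exact hex.g_desc (φ' ≫ cokernel.π (Injective.ι F)) h2
    have h3 : (φ' - ε ≫ χ') ≫ cokernel.π (Injective.ι F) = 0 := by
      rw [Preadditive.sub_comp, Category.assoc, hχ'', sub_self]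
    have hS := ShortComplex.cokernelSequence_exact (Injective.ι F)
    have : Mono (ShortComplex.cokernelSequence (Injective.ι F)).f := by
      change Mono (Injective.ι F)
      infer_instance
    refine ⟨hS.lift (φ' - ε ≫ χ') h3, ?_⟩
    have h4 : hS.lift (φ' - ε ≫ χ') h3 ≫ Injective.ι F = φ' - ε ≫ χ' := hS.lift_f _ h3
    have h5 : ((AlgebraicTopology.alternatingFaceMapComplex 𝒜).obj A).d (0 + 1) 0 ≫ ε ≫ χ' = 0 := by
      rw [← Category.assoc]
      refine (congrArg (· ≫ χ') w).trans zero_comp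
    have h6 : (((AlgebraicTopology.alternatingFaceMapComplex 𝒜).obj A).d (0 + 1) 0 ≫
        hS.lift (φ' - ε ≫ χ') h3) ≫ Injective.ι F = ψ ≫ Injective.ι F := by
      refine (Category.assoc _ _ _).trans ?_
      refine (congrArg (((AlgebraicTopology.alternatingFaceMapComplex 𝒜).obj A).d (0 + 1) 0 ≫ ·)
        h4).trans ?_
      refine (Preadditive.comp_sub _ _ _).trans ?_
      rw [h5, sub_zero]
      exact hφ'
    exact (cancel_mono (Injective.ι F)).1 h6
  | succ p ih =>
    intro F hF ψ hψ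
    have h1 := hA (p + 1)
    rw [← HomologicalComplex.exactAt_iff_isZero_homology,
      HomologicalComplex.exactAt_iff' _ (p + 1 + 2) (p + 1 + 1) (p + 1) (by simp) (by simp)] at h1
    have hψι : ((AlgebraicTopology.alternatingFaceMapComplex 𝒜).obj A).d (p + 1 + 2) (p + 1 + 1) ≫
        (ψ ≫ Injective.ι F) = 0 := by
      rw [← Category.assoc, hψ, zero_comp]
    let φ' : A.obj (op ⦋p + 1⦌) ⟶ Injective.under F :=
      h1.descToInjective (ψ ≫ Injective.ι F) hψι
    have hφ' : ((AlgebraicTopology.alternatingFaceMapComplex 𝒜).obj A).d (p + 1 + 1) (p + 1) ≫ φ' =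
        ψ ≫ Injective.ι F := h1.comp_descToInjective (ψ ≫ Injective.ι F) hψι
    have h2 : ((AlgebraicTopology.alternatingFaceMapComplex 𝒜).obj A).d (p + 2) (p + 1) ≫
        (φ' ≫ cokernel.π (Injective.ι F)) = 0 := by
      rw [← Category.assoc]
      refine (congrArg (· ≫ cokernel.π (Injective.ι F)) hφ').trans ?_
      rw [Category.assoc, cokernel.condition, comp_zero]
    obtain ⟨θ, hθ⟩ := ih _ (ha F hF) (φ' ≫ cokernel.π (Injective.ι F)) h2
    obtain ⟨θ', hθ'⟩ := hb F hF p θ
    let dθ : A.obj (op ⦋p + 1⦌) ⟶ Injective.under F :=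
      ((AlgebraicTopology.alternatingFaceMapComplex 𝒜).obj A).d (p + 1) p ≫ θ'
    have hdθ : dθ ≫ cokernel.π (Injective.ι F) = φ' ≫ cokernel.π (Injective.ι F) := by
      refine (Category.assoc _ _ _).trans ?_
      rw [hθ']
      exact hθ
    have h3 : (φ' - dθ) ≫ cokernel.π (Injective.ι F) = 0 := by
      rw [Preadditive.sub_comp, hdθ, sub_self]
    have hS := ShortComplex.cokernelSequence_exact (Injective.ι F)
    have : Mono (ShortComplex.cokernelSequence (Injective.ι F)).f := by
      change Mono (Injective.ι F)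
      infer_instance
    refine ⟨hS.lift _ h3, ?_⟩
    have h4 : hS.lift _ h3 ≫ Injective.ι F = φ' - dθ := hS.lift_f _ h3
    have h5 : ((AlgebraicTopology.alternatingFaceMapComplex 𝒜).obj A).d (p + 1 + 1) (p + 1) ≫
        dθ = 0 := by
      refine (Category.assoc _ _ _).symm.trans ?_
      rw [HomologicalComplex.d_comp_d, zero_comp]
    have h6 : (((AlgebraicTopology.alternatingFaceMapComplex 𝒜).obj A).d (p + 1 + 1) (p + 1) ≫
        hS.lift _ h3) ≫ Injective.ι F = ψ ≫ Injective.ι F := by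
      refine (Category.assoc _ _ _).trans ?_
      refine (congrArg
        (((AlgebraicTopology.alternatingFaceMapComplex 𝒜).obj A).d (p + 1 + 1) (p + 1) ≫ ·)
        h4).trans ?_
      refine (Preadditive.comp_sub _ _ _).trans ?_
      rw [h5, sub_zero]
      exact hφ'
    exact (cancel_mono (Injective.ι F)).1 h6

end General

section Site

open Groth.Agent.R2.H38.HypFC CategoryTheory.Abelian

variable {C : Type u} [SmallCategory C] (J : GrothendieckTopology C)

instance : IsGrothendieckAbelian.{u} (Sheaf J AddCommGrpCat.{u}) :=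
  Sheaf.isGrothendieckAbelian_of_essentiallySmall _ _

/-- `ℤ[h_U]^#` -/
noncomputable abbrev ZU (U : C) : Sheaf J AddCommGrpCat.{u} :=
  (presheafToSheaf J AddCommGrpCat.{u}).obj (yoneda.obj U ⋙ AddCommGrpCat.free.{u})

/-- the presheaf map `ℤ[h_U] ⟶ G` attached to a section over `U` -/
noncomputable def secMapP (G : Cᵒᵖ ⥤ AddCommGrpCat.{u}) {U : C} (s : G.obj (op U)) :
    (yoneda.obj U ⋙ AddCommGrpCat.free.{u}) ⟶ G where
  app V := AddCommGrpCat.ofHom (FreeAbelianGroup.lift (fun f : V.unop ⟶ U => G.map f.op s))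
  naturality V W g := by
    apply free_hom_ext
    intro f
    change FreeAbelianGroup.lift _ (FreeAbelianGroup.map _ (FreeAbelianGroup.of f)) =
      G.map g (FreeAbelianGroup.lift _ (FreeAbelianGroup.of f))
    rw [FreeAbelianGroup.map_of_apply, FreeAbelianGroup.lift_apply_of,
      FreeAbelianGroup.lift_apply_of]
    change G.map (g.unop ≫ f).op s = G.map g (G.map f.op s)
    rw [op_comp, Functor.map_comp_apply]
    rfl

/-- the map of sheaves `ℤ[h_U]^# ⟶ G` attached to a section over `U` -/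
noncomputable def secMap (G : Sheaf J AddCommGrpCat.{u}) {U : C} (s : G.obj.obj (op U)) :
    ZU J U ⟶ G :=
  ⟨sheafifyLift J (secMapP G.obj s) G.property⟩

/-- the universal section of `ℤ[h_U]^#` -/
noncomputable def uZ (U : C) : (ZU J U).obj.obj (op U) :=
  (toSheafify J (yoneda.obj U ⋙ AddCommGrpCat.free.{u})).app (op U) (FreeAbelianGroup.of (𝟙 U))

theorem secMap_uZ (G : Sheaf J AddCommGrpCat.{u}) {U : C} (s : G.obj.obj (op U)) :
    (secMap J G s).hom.app (op U) (uZ J U) = s := by
  have h1 := ConcreteCategory.congr_hom (NatTrans.congr_app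
    (toSheafify_sheafifyLift J (secMapP G.obj s) G.property) (op U))
    (FreeAbelianGroup.of (𝟙 U))
  simp only [NatTrans.comp_app, CategoryTheory.comp_apply] at h1
  refine h1.trans ?_
  change FreeAbelianGroup.lift _ (FreeAbelianGroup.of (𝟙 U)) = s
  rw [FreeAbelianGroup.lift_apply_of]
  change G.obj.map (𝟙 U).op s = s
  rw [op_id, Functor.map_id_apply]

/-- lifting maps out of `ℤ[h_U]^#` along the epimorphism of a short exact sequence when
`Ext^1(ℤ[h_U]^#, X₁) = 0` -/
theorem exists_lift_ZU (S : ShortComplex (Sheaf J AddCommGrpCat.{u})) (hS : S.ShortExact) (U : C)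
    (h : Subsingleton (Ext (ZU J U) S.X₁ 1)) (χ : ZU J U ⟶ S.X₃) :
    ∃ χ' : ZU J U ⟶ S.X₂, χ' ≫ S.g = χ := by
  obtain ⟨x₂, hx₂⟩ := Ext.covariant_sequence_exact₃ (ZU J U) hS (Ext.mk₀ χ)
    (rfl : 0 + 1 = 1) (Subsingleton.elim _ _)
  obtain ⟨τ, rfl⟩ := (Ext.mk₀_bijective _ _).2 x₂
  rw [Ext.mk₀_comp_mk₀] at hx₂
  exact ⟨τ, (Ext.mk₀_bijective _ _).1 hx₂⟩

/-- sections lift along the epimorphism of a short exact sequence when `H^1(U, X₁) = 0` -/
theorem sections_surjective (S : ShortComplex (Sheaf J AddCommGrpCat.{u})) (hS : S.ShortExact)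
    (U : C) (h : Subsingleton (Ext (ZU J U) S.X₁ 1)) :
    Function.Surjective (S.g.hom.app (op U)) := by
  intro s
  obtain ⟨τ, hτ⟩ := exists_lift_ZU J S hS U h (secMap J S.X₃ s)
  refine ⟨τ.hom.app (op U) (uZ J U), ?_⟩
  have := secMap_uZ J S.X₃ s
  rw [← hτ] at this
  exact this

/-- lifting maps out of `ℤ[F(Y)]^#` along a morphism which is surjective on sections over the
components of `Y` -/
theorem exists_lift_ZF {G G' : Sheaf J AddCommGrpCat.{u}} (π : G ⟶ G')
    (Y : FormalCoproduct.{u} C)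
    (hπ : ∀ i : Y.I, Function.Surjective (π.hom.app (op (Y.obj i))))
    (θ : (ZF J).obj Y ⟶ G') : ∃ θ' : (ZF J).obj Y ⟶ G, θ' ≫ π = θ := by
  have hc : ∀ i : Y.I, ∃ c : G.obj.obj (op (Y.obj i)), π.hom.app (op (Y.obj i)) c =
      Pi.π (fun i : Y.I => G'.obj.obj (op (Y.obj i))) i (Psi J G' Y θ) := fun i => hπ i _
  choose c' hc' using hc
  obtain ⟨θ', hθ'⟩ := Psi_surjective J G Y
    ((Concrete.productEquiv (fun i : Y.I => G.obj.obj (op (Y.obj i)))).symm c')
  refine ⟨θ', ?_⟩
  apply Psi_injective J G' Y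
  apply (Concrete.productEquiv (fun i : Y.I => G'.obj.obj (op (Y.obj i)))).injective
  funext i
  rw [Concrete.productEquiv_apply_apply, Concrete.productEquiv_apply_apply, Psi_π, ← hc' i]
  have h1 : θ'.hom.app (op (Y.obj i)) (univ J Y i) = c' i := by
    rw [← Psi_π, hθ', ← Concrete.productEquiv_apply_apply, Equiv.apply_symm_apply]
  rw [← h1]
  rfl

/-- the class of sheaves all of whose higher cohomology groups over objects vanish -/
def Acyc (F : Sheaf J AddCommGrpCat.{u}) : Prop :=
  ∀ (U : C) (q : ℕ), Subsingleton (Ext (ZU J U) F (q + 1))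

/-- the short exact sequence `0 → F → I(F) → I(F)/F → 0` -/
theorem shortExact_cokernelSequence (F : Sheaf J AddCommGrpCat.{u}) :
    (ShortComplex.cokernelSequence (Injective.ι F)).ShortExact where
  exact := ShortComplex.cokernelSequence_exact _
  mono_f := by
    change Mono (Injective.ι F)
    infer_instance
  epi_g := by
    change Epi (cokernel.π (Injective.ι F))
    infer_instance

theorem acyc_cokernel (F : Sheaf J AddCommGrpCat.{u}) (hF : Acyc J F) :
    Acyc J (cokernel (Injective.ι F)) := by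
  intro U q
  refine subsingleton_of_forall_eq 0 fun x₃ => ?_
  have hS := shortExact_cokernelSequence J F
  have h1 : Subsingleton (Ext (ZU J U) (ShortComplex.cokernelSequence (Injective.ι F)).X₁
      (q + 1 + 1)) := hF U (q + 1)
  obtain ⟨x₂, hx₂⟩ := Ext.covariant_sequence_exact₃ (ZU J U) hS x₃
    (rfl : q + 1 + 1 = q + 1 + 1) (h1.elim _ _)
  have hI : Injective (ShortComplex.cokernelSequence (Injective.ι F)).X₂ := by
    change Injective (Injective.under F)
    infer_instance
  have h0 : x₂ = 0 := Ext.eq_zero_of_injective x₂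
  rw [← hx₂, h0, Ext.zero_comp]
  rfl

open Groth.Agent.R2.H38.HypCone Groth.Agent.R2.H38.HypCore Groth.Agent.R2.H38.HypOverC in
/-- **Čech cohomology with respect to a hypercovering of `X` of a sheaf all of whose higher
cohomology groups over objects vanish is zero in positive degrees.** -/
theorem isZero_cech_of_acyc {X : C} (K : SimplicialObject (FormalCoproduct.{u} (Over X)))
    (h : LLP (J.over X) (K ⋙ FormalCoproduct.yoneda)
      (Groth.Agent.R2.H38.HypSite.augPt (K ⋙ FormalCoproduct.yoneda)))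
    (F : Sheaf J AddCommGrpCat.{u}) (hF : Acyc J F) (p : ℕ) :
    IsZero (((FormalCoproduct.cochainComplexFunctor K).obj
      ((Over.forget X).op ⋙ F.obj)).homology (p + 1)) := by
  have hl := llp_dn h
  obtain ⟨h1, _⟩ := acyclic J (augX K) hl
  obtain ⟨w, hex, hepi⟩ := aug_exact_epi J (augX K) hl
  have hE : E (Kdn K ⋙ ZF J) p F := by
    refine @shift_E _ _ _ _ (Kdn K ⋙ ZF J) (Acyc J) h1 _ (epsSh J (augX K)) w hex hepi
      (acyc_cokernel J) ?_ ?_ p F hF
    · intro F hF n θ
      refine exists_lift_ZF J (cokernel.π (Injective.ι F)) ((Kdn K).obj (op ⦋n⦌)) ?_ θ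
      intro i
      exact sections_surjective J _ (shortExact_cokernelSequence J F) _ (hF _ 0)
    · intro F hF χ
      exact exists_lift_ZU J _ (shortExact_cokernelSequence J F) X (hF X 0) χ
  exact IsZero.of_iso (isZero_of_E _ p F hE)
    ((HomologicalComplex.homologyFunctor _ _ (p + 1)).mapIso
      (cechDnIso F.obj ≪≫ cechIso J F (Kdn K)))

end Site

end Groth.Agent.R2.H38.HypShift
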