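import Groth.Agent.R2.H38HypCmp3
import Groth.Agent.R2.H38HypShift

/-!
# Sheaf cohomology vanishes iff Čech classes over hypercoverings die after refinement (helper38)
-/

set_option autoImplicit false

open CategoryTheory Opposite Limits Simplicial

universe u

namespace Groth.Agent.R2.H38.HypCmp

open Groth.Agent.R2.H38.HypFC Groth.Agent.R2.H38.HypRefine Groth.Agent.R2.H38.HypKill
  Groth.Agent.R2.H38.HypConv Groth.Agent.R2.H38.HypShift Groth.Agent.R2.H38.HypCech
  CategoryTheory.Abelian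

section Coh

variable {C : Type u} [SmallCategory C] (J : GrothendieckTopology C)

/-- maps out of `ℤ[h_U]^#` are determined by the image of the universal section -/
theorem ZU_hom_ext {U : C} {G : Sheaf J AddCommGrpCat.{u}} (χ χ' : ZU J U ⟶ G)
    (h : χ.hom.app (op U) (uZ J U) = χ'.hom.app (op U) (uZ J U)) : χ = χ' := by
  apply Sheaf.hom_ext
  apply sheafify_hom_ext J _ _ G.property
  ext V : 2
  apply free_hom_ext
  intro f
  have key : ∀ ψ : ZU J U ⟶ G,
      ((toSheafify J (yoneda.obj U ⋙ AddCommGrpCat.free.{u})) ≫ ψ.hom).app V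
        (FreeAbelianGroup.of f) = G.obj.map f.op (ψ.hom.app (op U) (uZ J U)) := by
    intro ψ
    have h1 : (FreeAbelianGroup.of f : (yoneda.obj U ⋙ AddCommGrpCat.free.{u}).obj V) =
        (yoneda.obj U ⋙ AddCommGrpCat.free.{u}).map f.op (FreeAbelianGroup.of (𝟙 U)) := by
      change _ = FreeAbelianGroup.map _ (FreeAbelianGroup.of (𝟙 U))
      rw [FreeAbelianGroup.map_of_apply]
      change _ = FreeAbelianGroup.of (f ≫ 𝟙 U)
      rw [Category.comp_id]
    rw [h1, NatTrans.naturality_apply]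
    rfl
  exact (key χ).trans ((congrArg _ h).trans (key χ').symm)

theorem secMap_eval {U : C} {G : Sheaf J AddCommGrpCat.{u}} (χ : ZU J U ⟶ G) :
    secMap J G (χ.hom.app (op U) (uZ J U)) = χ :=
  ZU_hom_ext J _ _ (secMap_uZ J G _)

/-- `H^0(U, F) = 0` iff `F(U) = 0` -/
theorem ext_zero_iff (F : Sheaf J AddCommGrpCat.{u}) (U : C) :
    Subsingleton (Ext (ZU J U) F 0) ↔ ∀ t : F.obj.obj (op U), t = 0 := by
  constructor
  · intro h t
    have h1 : Ext.mk₀ (secMap J F t) = Ext.mk₀ (secMap J F 0) := Subsingleton.elim _ _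
    have h2 : secMap J F t = secMap J F 0 := (Ext.mk₀_bijective _ _).1 h1
    rw [← secMap_uZ J F t, h2, secMap_uZ]
  · intro h
    refine ⟨fun x y => ?_⟩
    obtain ⟨χ, rfl⟩ := (Ext.mk₀_bijective _ _).2 x
    obtain ⟨χ', rfl⟩ := (Ext.mk₀_bijective _ _).2 y
    congr 1
    exact ZU_hom_ext J _ _ ((h _).trans (h _).symm)

variable (S : ShortComplex (Sheaf J AddCommGrpCat.{u})) (hS : S.ShortExact) [Injective S.X₂]

include hS

/-- `H^1(U, X₁) = 0` iff `X₂(U) → X₃(U)` is surjective -/
theorem ext_one_iff (U : C) :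
    Subsingleton (Ext (ZU J U) S.X₁ 1) ↔ Function.Surjective (S.g.hom.app (op U)) := by
  constructor
  · intro h
    exact sections_surjective J S hS U h
  · intro h
    refine subsingleton_of_forall_eq 0 fun x₁ => ?_
    obtain ⟨x₃, hx₃⟩ := Ext.covariant_sequence_exact₁ (ZU J U) hS x₁
      (Ext.eq_zero_of_injective _) (rfl : 0 + 1 = 1)
    obtain ⟨χ, rfl⟩ := (Ext.mk₀_bijective _ _).2 x₃
    obtain ⟨s, hs⟩ := h (χ.hom.app (op U) (uZ J U))
    have hχ : χ = secMap J S.X₂ s ≫ S.g := by
      apply ZU_hom_ext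
      rw [← hs]
      change _ = S.g.hom.app (op U) ((secMap J S.X₂ s).hom.app (op U) (uZ J U))
      rw [secMap_uZ]
    rw [← hx₃, hχ, ← Ext.mk₀_comp_mk₀, Ext.comp_assoc_of_second_deg_zero, hS.comp_extClass,
      Ext.comp_zero]

/-- dimension shifting -/
theorem ext_shift_iff (U : C) (q : ℕ) :
    Subsingleton (Ext (ZU J U) S.X₁ (q + 2)) ↔ Subsingleton (Ext (ZU J U) S.X₃ (q + 1)) := by
  constructor
  · intro h
    refine subsingleton_of_forall_eq 0 fun x₃ => ?_
    obtain ⟨x₂, hx₂⟩ := Ext.covariant_sequence_exact₃ (ZU J U) hS x₃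
      (rfl : q + 1 + 1 = q + 2) (Subsingleton.elim _ _)
    rw [← hx₂, Ext.eq_zero_of_injective x₂, Ext.zero_comp]
  · intro h
    refine subsingleton_of_forall_eq 0 fun x₁ => ?_
    obtain ⟨x₃, hx₃⟩ := Ext.covariant_sequence_exact₁ (ZU J U) hS x₁
      (Ext.eq_zero_of_injective _) (rfl : q + 1 + 1 = q + 2)
    rw [← hx₃, Subsingleton.elim x₃ 0, Ext.zero_comp]

end Coh

section MainThm

variable {C : Type u} [SmallCategory C] [HasPullbacks C] (J : GrothendieckTopology C) (X : C)
  [∀ (n : ℕ) (F : (SimplexCategory.Truncated n)ᵒᵖ ⥤ FormalCoproduct.{u} (Over X)),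
      (SimplexCategory.Truncated.inclusion n).op.HasRightKanExtension F]

/-- **`H^q(X, F) = 0` iff every Čech `q`-cocycle of `F` over a hypercovering of `X` becomes a
coboundary after refining the hypercovering.** -/
theorem ext_iff_dd' (q : ℕ) : ∀ F : Sheaf J AddCommGrpCat.{u},
    Subsingleton (Ext (ZU J X) F q) ↔ DD' J X F.obj q := by
  induction q with
  | zero =>
    intro F
    exact (ext_zero_iff J F X).trans (dd'_zero_iff F).symm
  | succ q ih =>
    intro F
    let S := ShortComplex.cokernelSequence (Injective.ι F)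
    have hS : S.ShortExact := shortExact_cokernelSequence J F
    have : Injective S.X₂ := inferInstanceAs (Injective (Injective.under F))
    have hAC : AC J X S.X₂.obj := ac_of_injective S.X₂
    cases q with
    | zero =>
      refine (ext_one_iff J S hS X).trans ?_
      exact ⟨shift_one_mpr S hS hAC, shift_one_mp S hS⟩
    | succ p =>
      refine (ext_shift_iff J S hS X p).trans ((ih S.X₃).trans ?_)
      exact ⟨shift_succ_mp S hS hAC p, shift_succ_mpr S hS hAC p⟩

theorem coh_iff_dd (F : Sheaf J AddCommGrpCat.{u}) (q : ℕ) :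
    Subsingleton (CohSite.HU F q X) ↔ DD J X F.obj q :=
  (ext_iff_dd' J X q F).trans (dd_iff J X F.obj q).symm

theorem coh_sheafify_iff_dd (G : Cᵒᵖ ⥤ AddCommGrpCat.{u}) (q : ℕ) :
    Subsingleton (CohSite.HU ((presheafToSheaf J AddCommGrpCat.{u}).obj G) q X) ↔ DD J X G q := by
  have hLI : LI J (toSheafify J G) := fun U t ht =>
    ⟨_, Presheaf.equalizerSieve_mem J (toSheafify J G) t 0 (ht.trans (map_zero _).symm),
      fun V f hf => (show G.map f.op t = G.map f.op 0 from hf).trans (map_zero _)⟩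
  have hLS : LS J (toSheafify J G) := fun U t' =>
    ⟨_, Presheaf.imageSieve_mem J (toSheafify J G) t', fun V f hf => hf⟩
  refine (ext_iff_dd' J X q _).trans (Iff.trans ?_ (dd_iff J X G q).symm)
  exact ⟨dd'_of_locBij_mpr (toSheafify J G) hLI hLS q, dd'_of_locBij_mp (toSheafify J G) hLI hLS q⟩

end MainThm

end Groth.Agent.R2.H38.HypCmp
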