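import Mathlib

/-!
# Hypercoverings: the cone construction (helper38)

For a simplicial presheaf of sets `P` on a site, augmented towards a presheaf `B`, with the
*local lifting property* (`LLP`), any finite face-closed set of simplices over `U` admits, locally on
`U`, a "cone".  Consequently the free abelian chain complex `ℤ[P]` is locally exact in positive
degrees and `ℤ[P_1] → ℤ[P_0] → ℤ[B] → 0` is locally exact.  Everything here is elementwise.
-/

set_option autoImplicit false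

open CategoryTheory Opposite Simplicial

universe u

namespace Groth.Agent.R2.H38.HypCone

variable {C : Type u} [SmallCategory C] (J : GrothendieckTopology C)
  (P : SimplicialObject (Cᵒᵖ ⥤ Type u)) {B : Cᵒᵖ ⥤ Type u}
  (aug : P ⟶ (Functor.const _).obj B)

/-- `n`-simplices over `U` -/
abbrev Q (U : C) (n : ℕ) : Type u := (P.obj (op ⦋n⦌)).obj (op U)

/-- faces -/
abbrev dd {U : C} (n : ℕ) (i : Fin (n + 2)) : Q P U (n + 1) → Q P U n := (P.δ i).app (op U)

/-- restriction -/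
abbrev rs {U V : C} (f : V ⟶ U) (n : ℕ) : Q P U n → Q P V n := (P.obj (op ⦋n⦌)).map f.op

/-- a default element one dimension up -/
abbrev s0 {U : C} (n : ℕ) : Q P U n → Q P U (n + 1) := (P.σ (0 : Fin (n + 1))).app (op U)

variable {P}

/-- augmentation -/
abbrev ag {U : C} (n : ℕ) : Q P U n → B.obj (op U) := (aug.app (op ⦋n⦌)).app (op U)

theorem rs_dd {U V : C} (f : V ⟶ U) (n : ℕ) (i : Fin (n + 2)) (x : Q P U (n + 1)) :
    rs P f n (dd P n i x) = dd P n i (rs P f (n + 1) x) :=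
  (NatTrans.naturality_apply (P.δ i) f.op x).symm

theorem rs_rs {U V W : C} (f : V ⟶ U) (g : W ⟶ V) (n : ℕ) (x : Q P U n) :
    rs P g n (rs P f n x) = rs P (g ≫ f) n x := by
  exact (Functor.map_comp_apply (P.obj (op ⦋n⦌)) f.op g.op x).symm

theorem rs_id {U : C} (n : ℕ) (x : Q P U n) : rs P (𝟙 U) n x = x := by
  exact Functor.map_id_apply (P.obj (op ⦋n⦌)) (op U) x

theorem dd_dd {U : C} (n : ℕ) {i j : Fin (n + 2)} (h : i ≤ j) (x : Q P U (n + 2)) :
    dd P n i (dd P (n + 1) j.succ x) = dd P n j (dd P (n + 1) i.castSucc x) := by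
  have e : (P.δ j.succ ≫ P.δ i).app (op U) = (P.δ i.castSucc ≫ P.δ j).app (op U) :=
    congrArg (fun φ => φ.app (op U)) (P.δ_comp_δ h)
  have := ConcreteCategory.congr_hom e x
  simpa only [NatTrans.comp_app, CategoryTheory.comp_apply] using this

theorem ag_dd {U : C} (n : ℕ) (i : Fin (n + 2)) (x : Q P U (n + 1)) :
    ag aug n (dd P n i x) = ag aug (n + 1) x := by
  have e : (P.map (SimplexCategory.δ i).op ≫ aug.app (op ⦋n⦌)).app (op U) =
      (aug.app (op ⦋n + 1⦌) ≫ ((Functor.const _).obj B).map (SimplexCategory.δ i).op).app (op U) :=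
    congrArg (fun φ => φ.app (op U)) (aug.naturality (SimplexCategory.δ i).op)
  exact ConcreteCategory.congr_hom e x

theorem ag_rs {U V : C} (f : V ⟶ U) (n : ℕ) (x : Q P U n) :
    ag aug n (rs P f n x) = B.map f.op (ag aug n x) :=
  NatTrans.naturality_apply (aug.app (op ⦋n⦌)) f.op x

variable (P)

/-- the local lifting property -/
structure LLP : Prop where
  h0 : ∀ (U : C) (β : B.obj (op U)), ∃ S ∈ J U, ∀ ⦃V : C⦄ (f : V ⟶ U), S f →
    ∃ x : Q P V 0, ag aug 0 x = B.map f.op β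
  h1 : ∀ (U : C) (x y : Q P U 0), ag aug 0 x = ag aug 0 y →
    ∃ S ∈ J U, ∀ ⦃V : C⦄ (f : V ⟶ U), S f →
    ∃ t : Q P V 1, dd P 0 0 t = rs P f 0 x ∧ dd P 0 1 t = rs P f 0 y
  hn : ∀ (n : ℕ) (U : C) (b : Fin (n + 3) → Q P U (n + 1)),
    (∀ i j : Fin (n + 2), i ≤ j → dd P n i (b j.succ) = dd P n j (b i.castSucc)) →
    ∃ S ∈ J U, ∀ ⦃V : C⦄ (f : V ⟶ U), S f →
      ∃ t : Q P V (n + 2), ∀ i, dd P (n + 1) i t = rs P f (n + 1) (b i)

variable {P}

/-- face-closed sets of simplices -/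
def FaceClosed {U : C} (T : Set (Σ k, Q P U k)) : Prop :=
  ∀ (k : ℕ) (x : Q P U (k + 1)), (⟨k + 1, x⟩ : Σ k, Q P U k) ∈ T → ∀ i : Fin (k + 2),
    (⟨k, dd P k i x⟩ : Σ k, Q P U k) ∈ T

/-- cone data up to level `m` -/
def IsCone {U V : C} (f : V ⟶ U) (v₀ : Q P U 0 → Q P U 0) (T : Set (Σ k, Q P U k)) (m : ℕ)
    (c : ∀ k, Q P U k → Q P V (k + 1)) : Prop :=
  (∀ x : Q P U 0, (⟨0, x⟩ : Σ k, Q P U k) ∈ T →
    dd P 0 0 (c 0 x) = rs P f 0 x ∧ dd P 0 1 (c 0 x) = rs P f 0 (v₀ x)) ∧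
  (∀ k, k < m → ∀ x : Q P U (k + 1), (⟨k + 1, x⟩ : Σ k, Q P U k) ∈ T →
    dd P (k + 1) 0 (c (k + 1) x) = rs P f (k + 1) x ∧
      ∀ i : Fin (k + 2), dd P (k + 1) i.succ (c (k + 1) x) = c k (dd P k i x))

theorem IsCone.restrict {U V W : C} {f : V ⟶ U} {v₀ : Q P U 0 → Q P U 0}
    {T : Set (Σ k, Q P U k)} {m : ℕ}
    {c : ∀ k, Q P U k → Q P V (k + 1)} (hc : IsCone f v₀ T m c) (g : W ⟶ V) :
    IsCone (g ≫ f) v₀ T m (fun k x => rs P g (k + 1) (c k x)) := by
  refine ⟨fun x hx => ?_, fun k hk x hx => ?_⟩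
  · obtain ⟨h1, h2⟩ := hc.1 x hx
    refine ⟨?_, ?_⟩
    · rw [← rs_dd, h1, rs_rs]
    · rw [← rs_dd, h2, rs_rs]
  · obtain ⟨h1, h2⟩ := hc.2 k hk x hx
    refine ⟨?_, fun i => ?_⟩
    · rw [← rs_dd, h1, rs_rs]
    · rw [← rs_dd, h2 i]

theorem IsCone.congr {U V : C} {f : V ⟶ U} {v₀ : Q P U 0 → Q P U 0}
    {T : Set (Σ k, Q P U k)} {m : ℕ}
    {c c' : ∀ k, Q P U k → Q P V (k + 1)} (hc : IsCone f v₀ T m c)
    (h : ∀ k, k ≤ m → c' k = c k) : IsCone f v₀ T m c' := by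
  refine ⟨fun x hx => ?_, fun k hk x hx => ?_⟩
  · rw [h 0 (Nat.zero_le _)]
    exact hc.1 x hx
  · rw [h (k + 1) hk, h k (Nat.le_of_lt hk)]
    exact hc.2 k hk x hx

theorem IsCone.d0 {U V : C} {f : V ⟶ U} {v₀ : Q P U 0 → Q P U 0}
    {T : Set (Σ k, Q P U k)} {m : ℕ}
    {c : ∀ k, Q P U k → Q P V (k + 1)} (hc : IsCone f v₀ T m c) (k : ℕ) (hk : k ≤ m)
    (x : Q P U k) (hx : (⟨k, x⟩ : Σ k, Q P U k) ∈ T) :
    dd P k 0 (c k x) = rs P f k x := by
  cases k with
  | zero => exact (hc.1 x hx).1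
  | succ k => exact (hc.2 k hk x hx).1

/-- replace one level of a family of maps -/
def setLevel {U V : C} (m : ℕ) (c : ∀ k, Q P U k → Q P V (k + 1))
    (c' : Q P U m → Q P V (m + 1)) : ∀ k, Q P U k → Q P V (k + 1) :=
  fun k => if h : k = m then by subst h; exact c' else c k

theorem setLevel_self {U V : C} (m : ℕ) (c : ∀ k, Q P U k → Q P V (k + 1))
    (c' : Q P U m → Q P V (m + 1)) : setLevel m c c' m = c' := by
  simp [setLevel]

theorem setLevel_ne {U V : C} (m : ℕ) (c : ∀ k, Q P U k → Q P V (k + 1))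
    (c' : Q P U m → Q P V (m + 1)) (k : ℕ) (hk : k ≠ m) : setLevel m c c' k = c k := by
  simp [setLevel, hk]

/-- finite intersections of covering sieves -/
theorem exists_sieve_of_finite {α : Type*} {X : C} (s : Set α) (hs : s.Finite) (R : α → Sieve X)
    (h : ∀ a ∈ s, R a ∈ J X) :
    ∃ S ∈ J X, ∀ a ∈ s, ∀ ⦃V : C⦄ (f : V ⟶ X), S f → R a f := by
  induction s, hs using Set.Finite.induction_on with
  | empty => exact ⟨⊤, J.top_mem X, fun a ha => ha.elim⟩
  | @insert a s ha hs ih =>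
    obtain ⟨S, hS, hS'⟩ := ih (fun a ha => h a (Set.mem_insert_of_mem _ ha))
    refine ⟨R a ⊓ S, J.intersection_covering (h _ (Set.mem_insert _ _)) hS, ?_⟩
    rintro b (rfl | hb) V f ⟨h1, h2⟩
    · exact h1
    · exact hS' b hb f h2

theorem finite_level {U : C} {T : Set (Σ k, Q P U k)} (hT : T.Finite) (k : ℕ) :
    ((Sigma.mk k : Q P U k → Σ k, Q P U k) ⁻¹' T).Finite :=
  hT.preimage (sigma_mk_injective.injOn)

variable {J aug}

/-- the boundary to be filled when extending a cone -/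
def coneBdry {U V : C} (f : V ⟶ U) (m : ℕ) (cm : Q P U m → Q P V (m + 1)) (x : Q P U (m + 1)) :
    Fin (m + 3) → Q P V (m + 1) :=
  Fin.cases (rs P f (m + 1) x) (fun i => cm (dd P m i x))

theorem coneBdry_zero {U V : C} (f : V ⟶ U) (m : ℕ) (cm : Q P U m → Q P V (m + 1))
    (x : Q P U (m + 1)) : coneBdry f m cm x 0 = rs P f (m + 1) x := rfl

theorem coneBdry_succ {U V : C} (f : V ⟶ U) (m : ℕ) (cm : Q P U m → Q P V (m + 1))
    (x : Q P U (m + 1)) (i : Fin (m + 2)) : coneBdry f m cm x i.succ = cm (dd P m i x) := rfl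

/-- compatibility of the boundary used to extend a cone by one level -/
theorem cone_boundary_compat {U V : C} {f : V ⟶ U} {v₀ : Q P U 0 → Q P U 0}
    (hv' : ∀ x y, ag aug 0 x = ag aug 0 y → v₀ x = v₀ y)
    {T : Set (Σ k, Q P U k)} (hTc : FaceClosed T) {m : ℕ}
    {c : ∀ k, Q P U k → Q P V (k + 1)} (hc : IsCone f v₀ T m c)
    (x : Q P U (m + 1)) (hx : (⟨m + 1, x⟩ : Σ k, Q P U k) ∈ T)
    (i j : Fin (m + 2)) (hij : i ≤ j) :
    dd P m i (coneBdry f m (c m) x j.succ) =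
      dd P m j (coneBdry f m (c m) x i.castSucc) := by
  induction i using Fin.cases with
  | zero =>
    rw [coneBdry_succ, Fin.castSucc_zero, coneBdry_zero, ← rs_dd]
    exact hc.d0 m le_rfl _ (hTc m x hx j)
  | succ i' =>
    induction j using Fin.cases with
    | zero => exact absurd hij (by simp)
    | succ j' =>
      have hij' : i' ≤ j' := Fin.succ_le_succ_iff.mp hij
      rw [coneBdry_succ, ← Fin.succ_castSucc, coneBdry_succ]
      cases m with
      | zero =>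
        have h1 := (hc.1 _ (hTc 0 x hx j'.succ)).2
        have h2 := (hc.1 _ (hTc 0 x hx i'.castSucc)).2
        have hi0 : i' = 0 := Fin.ext (by have := i'.isLt; simp only [Fin.val_zero]; omega)
        have hj0 : j' = 0 := Fin.ext (by have := j'.isLt; simp only [Fin.val_zero]; omega)
        subst hi0 hj0
        have e : v₀ (dd P 0 (Fin.succ 0) x) = v₀ (dd P 0 (Fin.castSucc 0) x) :=
          hv' _ _ (by rw [ag_dd, ag_dd])
        have h1' : dd P 0 (Fin.succ 0) (c 0 (dd P 0 (Fin.succ 0) x)) =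
            rs P f 0 (v₀ (dd P 0 (Fin.succ 0) x)) := h1
        have h2' : dd P 0 (Fin.succ 0) (c 0 (dd P 0 (Fin.castSucc 0) x)) =
            rs P f 0 (v₀ (dd P 0 (Fin.castSucc 0) x)) := h2
        rw [h1', h2', e]
      | succ m' =>
        have h1 := (hc.2 m' (Nat.lt_succ_self _) _ (hTc (m' + 1) x hx j'.succ)).2 i'
        have h2 := (hc.2 m' (Nat.lt_succ_self _) _ (hTc (m' + 1) x hx i'.castSucc)).2 j'
        rw [h1, h2, dd_dd m' hij']

theorem exists_cone (h : LLP J P aug) {U : C} (T : Set (Σ k, Q P U k)) (hT : T.Finite)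
    (hTc : FaceClosed T) (v₀ : Q P U 0 → Q P U 0) (hv : ∀ x, ag aug 0 (v₀ x) = ag aug 0 x)
    (hv' : ∀ x y, ag aug 0 x = ag aug 0 y → v₀ x = v₀ y) (m : ℕ) :
    ∃ S ∈ J U, ∀ ⦃V : C⦄ (f : V ⟶ U), S f →
      ∃ c : ∀ k, Q P U k → Q P V (k + 1), IsCone f v₀ T m c := by
  classical
  induction m with
  | zero =>
    have key : ∀ x : Q P U 0, ∃ S ∈ J U, ∀ ⦃V : C⦄ (f : V ⟶ U), S f →
        ∃ t : Q P V 1, dd P 0 0 t = rs P f 0 x ∧ dd P 0 1 t = rs P f 0 (v₀ x) :=
      fun x => h.h1 U x (v₀ x) (hv x).symm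
    choose R hR hR' using key
    obtain ⟨S, hS, hS'⟩ := exists_sieve_of_finite J _ (finite_level hT 0) R (fun a _ => hR a)
    refine ⟨S, hS, fun V f hf => ?_⟩
    refine ⟨setLevel 0 (fun k x => s0 P k (rs P f k x))
      (fun x => if hx : (⟨0, x⟩ : Σ k, Q P U k) ∈ T then (hR' x f (hS' x hx f hf)).choose
        else s0 P 0 (rs P f 0 x)), ?_, ?_⟩
    · intro x hx
      rw [setLevel_self]
      simp only [dif_pos hx]
      exact (hR' x f (hS' x hx f hf)).choose_spec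
    · intro k hk
      exact absurd hk (Nat.not_lt_zero _)
  | succ m ih =>
    obtain ⟨S, hS, hc⟩ := ih
    choose c hc using hc
    let α := {x : Q P U (m + 1) // (⟨m + 1, x⟩ : Σ k, Q P U k) ∈ T}
    have : Finite α := (finite_level hT (m + 1)).to_subtype
    have key : ∀ ⦃V : C⦄ (f : V ⟶ U) (hf : S f) (x : α), ∃ R ∈ J V, ∀ ⦃W : C⦄ (g : W ⟶ V), R g →
        ∃ t : Q P W (m + 2), ∀ i, dd P (m + 1) i t = rs P g (m + 1)
          (coneBdry f m (c f hf m) x.1 i) :=
      fun V f hf x => h.hn m V _ (cone_boundary_compat hv' hTc (hc f hf) x.1 x.2)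
    choose R hR hR' using key
    have key2 : ∀ ⦃V : C⦄ (f : V ⟶ U) (hf : S f), ∃ S' ∈ J V, ∀ a ∈ (Set.univ : Set α),
        ∀ ⦃W : C⦄ (g : W ⟶ V), S' g → R f hf a g :=
      fun V f hf => exists_sieve_of_finite J _ Set.finite_univ (R f hf) (fun a _ => hR f hf a)
    choose S₂ hS₂ hS₂' using key2
    refine ⟨Sieve.bind S (fun V f hf => S₂ f hf), J.bind_covering hS (fun V f hf => hS₂ f hf), ?_⟩
    rintro W _ ⟨V, g, f, hf, hg, rfl⟩
    refine ⟨setLevel (m + 1) (fun k x => rs P g (k + 1) (c f hf k x))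
      (fun x => if hx : (⟨m + 1, x⟩ : Σ k, Q P U k) ∈ T then
        (hR' f hf ⟨x, hx⟩ g (hS₂' f hf ⟨x, hx⟩ (Set.mem_univ _) g hg)).choose
        else s0 P (m + 1) (rs P (g ≫ f) (m + 1) x)), ?_, ?_⟩
    · intro x hx
      rw [setLevel_ne _ _ _ 0 (Nat.succ_ne_zero m).symm]
      exact ((hc f hf).restrict g).1 x hx
    · intro k hk x hx
      rcases Nat.lt_succ_iff_lt_or_eq.mp hk with hk' | rfl
      · rw [setLevel_ne _ _ _ (k + 1) (by omega), setLevel_ne _ _ _ k (by omega)]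
        exact ((hc f hf).restrict g).2 k hk' x hx
      · rw [setLevel_self, setLevel_ne _ _ _ k (by omega)]
        simp only [dif_pos hx]
        have hspec := (hR' f hf ⟨x, hx⟩ g (hS₂' f hf ⟨x, hx⟩ (Set.mem_univ _) g hg)).choose_spec
        refine ⟨?_, fun i => ?_⟩
        · have := hspec 0
          rw [coneBdry_zero, rs_rs] at this
          exact this
        · have := hspec i.succ
          rw [coneBdry_succ] at this
          exact this

/-! ### chains -/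

variable (P)

/-- the alternating-sum boundary on free abelian groups of simplices -/
noncomputable def bdry (U : C) (n : ℕ) :
    FreeAbelianGroup (Q P U (n + 1)) →+ FreeAbelianGroup (Q P U n) :=
  FreeAbelianGroup.lift
    (fun x => ∑ i : Fin (n + 2), (-1 : ℤ) ^ (i : ℕ) • FreeAbelianGroup.of (dd P n i x))

theorem bdry_of (U : C) (n : ℕ) (x : Q P U (n + 1)) :
    bdry P U n (FreeAbelianGroup.of x) =
      ∑ i : Fin (n + 2), (-1 : ℤ) ^ (i : ℕ) • FreeAbelianGroup.of (dd P n i x) :=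
  FreeAbelianGroup.lift_apply_of _ _

variable {P}

theorem bdry_cone_succ {U V : C} {f : V ⟶ U} {v₀ : Q P U 0 → Q P U 0}
    {T : Set (Σ k, Q P U k)} {n : ℕ} {c : ∀ k, Q P U k → Q P V (k + 1)}
    (hc : IsCone f v₀ T (n + 1) c) (z : FreeAbelianGroup (Q P U (n + 1)))
    (hz : z ∈ AddSubgroup.closure (FreeAbelianGroup.of ''
      ((Sigma.mk (n + 1) : Q P U (n + 1) → Σ k, Q P U k) ⁻¹' T))) :
    bdry P V (n + 1) (FreeAbelianGroup.map (c (n + 1)) z) =
      FreeAbelianGroup.map (rs P f (n + 1)) z - FreeAbelianGroup.map (c n) (bdry P U n z) := by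
  have key := AddMonoidHom.eqOn_closure
    (f := (bdry P V (n + 1)).comp (FreeAbelianGroup.map (c (n + 1))))
    (g := FreeAbelianGroup.map (rs P f (n + 1)) - (FreeAbelianGroup.map (c n)).comp (bdry P U n))
    (s := FreeAbelianGroup.of '' ((Sigma.mk (n + 1) : Q P U (n + 1) → Σ k, Q P U k) ⁻¹' T)) ?_ hz
  · simpa using key
  · rintro _ ⟨x, hx, rfl⟩
    obtain ⟨h1, h2⟩ := hc.2 n (Nat.lt_succ_self _) x hx
    simp only [AddMonoidHom.coe_comp, Function.comp_apply, FreeAbelianGroup.map_of_apply,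
      bdry_of, AddMonoidHom.sub_apply, map_sum, map_zsmul]
    rw [Fin.sum_univ_succ]
    simp only [Fin.val_zero, pow_zero, one_smul, Fin.val_succ, h1, h2, pow_succ, mul_neg, mul_one,
      neg_smul, Finset.sum_neg_distrib]
    abel

theorem bdry_cone_zero {U V : C} {f : V ⟶ U} {v₀ : Q P U 0 → Q P U 0}
    {T : Set (Σ k, Q P U k)} {m : ℕ} {c : ∀ k, Q P U k → Q P V (k + 1)}
    (hc : IsCone f v₀ T m c) (z : FreeAbelianGroup (Q P U 0))
    (hz : z ∈ AddSubgroup.closure (FreeAbelianGroup.of ''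
      ((Sigma.mk 0 : Q P U 0 → Σ k, Q P U k) ⁻¹' T))) :
    bdry P V 0 (FreeAbelianGroup.map (c 0) z) =
      FreeAbelianGroup.map (rs P f 0) z - FreeAbelianGroup.map (fun x => rs P f 0 (v₀ x)) z := by
  have key := AddMonoidHom.eqOn_closure
    (f := (bdry P V 0).comp (FreeAbelianGroup.map (c 0)))
    (g := FreeAbelianGroup.map (rs P f 0) - FreeAbelianGroup.map (fun x => rs P f 0 (v₀ x)))
    (s := FreeAbelianGroup.of '' ((Sigma.mk 0 : Q P U 0 → Σ k, Q P U k) ⁻¹' T)) ?_ hz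
  · simpa using key
  · rintro _ ⟨x, hx, rfl⟩
    obtain ⟨h1, h2⟩ := hc.1 x hx
    simp only [AddMonoidHom.coe_comp, Function.comp_apply, FreeAbelianGroup.map_of_apply,
      bdry_of, AddMonoidHom.sub_apply]
    rw [Fin.sum_univ_two]
    simp only [Fin.val_zero, pow_zero, one_smul, Fin.val_one, pow_one, neg_smul, h1, h2]
    abel

/-- every element of a free abelian group lies in the span of finitely many generators -/
theorem exists_finite_closure {α : Type*} (z : FreeAbelianGroup α) :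
    ∃ F : Set α, F.Finite ∧ z ∈ AddSubgroup.closure (FreeAbelianGroup.of '' F) := by
  induction z using FreeAbelianGroup.induction_on with
  | zero => exact ⟨∅, Set.finite_empty, zero_mem _⟩
  | of x => exact ⟨{x}, Set.finite_singleton x, AddSubgroup.subset_closure ⟨x, rfl, rfl⟩⟩
  | neg x ih =>
    obtain ⟨F, hF, h⟩ := ih
    exact ⟨F, hF, neg_mem h⟩
  | add x y ihx ihy =>
    obtain ⟨F, hF, h⟩ := ihx
    obtain ⟨G, hG, h'⟩ := ihy
    refine ⟨F ∪ G, hF.union hG, add_mem ?_ ?_⟩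
    · exact AddSubgroup.closure_mono (Set.image_mono Set.subset_union_left) h
    · exact AddSubgroup.closure_mono (Set.image_mono Set.subset_union_right) h'

/-- face-closed hull of a finite set of simplices -/
theorem exists_faceClosed {U : C} (k : ℕ) (F : Set (Q P U k)) (hF : F.Finite) :
    ∃ T : Set (Σ k, Q P U k), T.Finite ∧ FaceClosed T ∧
      ∀ x ∈ F, (⟨k, x⟩ : Σ k, Q P U k) ∈ T := by
  induction k with
  | zero =>
    refine ⟨Sigma.mk 0 '' F, hF.image _, ?_, fun x hx => ⟨x, hx, rfl⟩⟩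
    rintro j x ⟨y, _, hy⟩ i
    have := congrArg Sigma.fst hy
    simp at this
  | succ k ih =>
    obtain ⟨T', hT', hTc', hF'⟩ := ih (⋃ i : Fin (k + 2), dd P k i '' F)
      (Set.finite_iUnion fun i => hF.image _)
    refine ⟨T' ∪ Sigma.mk (k + 1) '' F, hT'.union (hF.image _), ?_,
      fun x hx => Or.inr ⟨x, hx, rfl⟩⟩
    rintro j x (hx | ⟨y, hy, hxy⟩) i
    · exact Or.inl (hTc' j x hx i)
    · have hj : k + 1 = j + 1 := congrArg Sigma.fst hxy
      have hj' : k = j := Nat.succ.inj hj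
      subst hj'
      have hxy' : y = x := eq_of_heq (Sigma.mk.inj hxy).2
      subst hxy'
      exact Or.inl (hF' _ (Set.mem_iUnion.mpr ⟨i, ⟨y, hy, rfl⟩⟩))

variable (aug)

/-- a canonical vertex in each nonempty fibre of the augmentation -/
noncomputable def vtxB {U : C} (β : B.obj (op U)) (h : ∃ v : Q P U 0, ag aug 0 v = β) : Q P U 0 :=
  h.choose

theorem ag_vtxB {U : C} (β : B.obj (op U)) (h : ∃ v : Q P U 0, ag aug 0 v = β) :
    ag aug 0 (vtxB aug β h) = β := h.choose_spec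

theorem vtxB_congr {U : C} {β β' : B.obj (op U)} (e : β = β')
    (h : ∃ v : Q P U 0, ag aug 0 v = β) (h' : ∃ v : Q P U 0, ag aug 0 v = β') :
    vtxB aug β h = vtxB aug β' h' := by
  subst e
  rfl

/-- the canonical vertex in the fibre of `x` -/
noncomputable def vtx {U : C} (x : Q P U 0) : Q P U 0 := vtxB aug (ag aug 0 x) ⟨x, rfl⟩

theorem ag_vtx {U : C} (x : Q P U 0) : ag aug 0 (vtx aug x) = ag aug 0 x := ag_vtxB aug _ _

theorem vtx_congr {U : C} (x y : Q P U 0) (h : ag aug 0 x = ag aug 0 y) :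
    vtx aug x = vtx aug y := vtxB_congr aug h _ _

variable {aug}

/-- local exactness in positive degrees -/
theorem local_exact_succ (h : LLP J P aug) (n : ℕ) (U : C)
    (z : FreeAbelianGroup (Q P U (n + 1))) (hz : bdry P U n z = 0) :
    ∃ S ∈ J U, ∀ ⦃V : C⦄ (f : V ⟶ U), S f →
      ∃ w : FreeAbelianGroup (Q P V (n + 2)),
        bdry P V (n + 1) w = FreeAbelianGroup.map (rs P f (n + 1)) z := by
  obtain ⟨F, hF, hzF⟩ := exists_finite_closure z
  obtain ⟨T, hT, hTc, hFT⟩ := exists_faceClosed (n + 1) F hF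
  obtain ⟨S, hS, hc⟩ := exists_cone h T hT hTc (vtx aug) (ag_vtx aug) (vtx_congr aug) (n + 1)
  refine ⟨S, hS, fun V f hf => ?_⟩
  obtain ⟨c, hc⟩ := hc f hf
  refine ⟨FreeAbelianGroup.map (c (n + 1)) z, ?_⟩
  have hz' : z ∈ AddSubgroup.closure (FreeAbelianGroup.of ''
      ((Sigma.mk (n + 1) : Q P U (n + 1) → Σ k, Q P U k) ⁻¹' T)) :=
    AddSubgroup.closure_mono (Set.image_mono fun x hx => hFT x hx) hzF
  rw [bdry_cone_succ hc z hz', hz, map_zero, sub_zero]

theorem eq_zero_of_isEmpty {α : Type*} [IsEmpty α] (z : FreeAbelianGroup α) : z = 0 := by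
  induction z using FreeAbelianGroup.induction_on with
  | zero => rfl
  | of x => exact isEmptyElim x
  | neg x _ => exact isEmptyElim x
  | add x y hx hy => rw [hx, hy, add_zero]

/-- local exactness in degree zero -/
theorem local_exact_zero (h : LLP J P aug) (U : C)
    (z : FreeAbelianGroup (Q P U 0)) (hz : FreeAbelianGroup.map (ag aug 0) z = 0) :
    ∃ S ∈ J U, ∀ ⦃V : C⦄ (f : V ⟶ U), S f →
      ∃ w : FreeAbelianGroup (Q P V 1),
        bdry P V 0 w = FreeAbelianGroup.map (rs P f 0) z := by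
  classical
  rcases isEmpty_or_nonempty (Q P U 0) with hE | ⟨⟨x₀⟩⟩
  · refine ⟨⊤, J.top_mem U, fun V f _ => ⟨0, ?_⟩⟩
    rw [eq_zero_of_isEmpty z, map_zero, map_zero]
  obtain ⟨F, hF, hzF⟩ := exists_finite_closure z
  obtain ⟨T, hT, hTc, hFT⟩ := exists_faceClosed 0 F hF
  obtain ⟨S, hS, hc⟩ := exists_cone h T hT hTc (vtx aug) (ag_vtx aug) (vtx_congr aug) 0
  refine ⟨S, hS, fun V f hf => ?_⟩
  obtain ⟨c, hc⟩ := hc f hf
  refine ⟨FreeAbelianGroup.map (c 0) z, ?_⟩
  have hz' : z ∈ AddSubgroup.closure (FreeAbelianGroup.of ''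
      ((Sigma.mk 0 : Q P U 0 → Σ k, Q P U k) ⁻¹' T)) :=
    AddSubgroup.closure_mono (Set.image_mono fun x hx => hFT x hx) hzF
  rw [bdry_cone_zero hc z hz']
  let φ : B.obj (op U) → Q P V 0 := fun β =>
    if hβ : ∃ v : Q P U 0, ag aug 0 v = β then rs P f 0 (vtxB aug β hβ) else rs P f 0 x₀
  have hφ : (fun x => rs P f 0 (vtx aug x)) = φ ∘ (ag aug 0) := by
    funext x
    have hx : ∃ v : Q P U 0, ag aug 0 v = ag aug 0 x := ⟨x, rfl⟩
    simp only [φ, Function.comp_apply, dif_pos hx]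
    rfl
  rw [hφ, FreeAbelianGroup.map_comp_apply, hz, map_zero, sub_zero]

/-- local surjectivity of the augmentation on chains -/
theorem local_surj (h : LLP J P aug) (U : C) (ζ : FreeAbelianGroup (B.obj (op U))) :
    ∃ S ∈ J U, ∀ ⦃V : C⦄ (f : V ⟶ U), S f →
      ∃ w : FreeAbelianGroup (Q P V 0),
        FreeAbelianGroup.map (ag aug 0) w = FreeAbelianGroup.map (B.map f.op) ζ := by
  induction ζ using FreeAbelianGroup.induction_on with
  | zero => exact ⟨⊤, J.top_mem U, fun V f _ => ⟨0, by rw [map_zero, map_zero]⟩⟩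
  | of β =>
    obtain ⟨S, hS, hS'⟩ := h.h0 U β
    refine ⟨S, hS, fun V f hf => ?_⟩
    obtain ⟨x, hx⟩ := hS' f hf
    exact ⟨FreeAbelianGroup.of x, by
      rw [FreeAbelianGroup.map_of_apply, FreeAbelianGroup.map_of_apply, hx]⟩
  | neg β ih =>
    obtain ⟨S, hS, hS'⟩ := ih
    refine ⟨S, hS, fun V f hf => ?_⟩
    obtain ⟨w, hw⟩ := hS' f hf
    exact ⟨-w, by rw [map_neg, map_neg, hw]⟩
  | add x y ihx ihy =>
    obtain ⟨S, hS, hS'⟩ := ihx
    obtain ⟨S₂, hS₂, hS₂'⟩ := ihy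
    refine ⟨S ⊓ S₂, J.intersection_covering hS hS₂, fun V f hf => ?_⟩
    obtain ⟨w, hw⟩ := hS' f hf.1
    obtain ⟨w₂, hw₂⟩ := hS₂' f hf.2
    exact ⟨w + w₂, by rw [map_add, map_add, hw, hw₂]⟩

end Groth.Agent.R2.H38.HypCone
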