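import Groth.Agent.R2.H38HypOverC

/-!
# From the local lifting property back to hypercoverings (helper38)

* `cosk_hom_ext`: maps into `(cosk_N sk_N K)_{N+1}` are determined by their boundaries;
* `isHypercoveringSite_of_llp`, `isHypercovering_of_llp`: a simplicial formal coproduct whose
  simplicial presheaf has the local lifting property is a hypercovering.
-/

set_option autoImplicit false

open CategoryTheory Opposite Limits Simplicial

universe u

namespace Groth.Agent.R2.H38.HypConv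

open Groth.Agent.R2.H38.HypFC

section CoskUnique

universe v₁ u₁ w

variable {E : Type u₁} [Category.{v₁} E] [HasCoproducts.{w} E]

/-- the simplicial map `Δ[M] ⊗ W ⟶ X` attached to a simplex `σ : W ⟶ X_M` -/
noncomputable def ofSimplex (X : SimplicialObject E) {W : E} {M : ℕ} (σ : W ⟶ X.obj (op ⦋M⦌)) :
    tens.{v₁, u₁, w} W M ⟶ X where
  app Δ := Sigma.desc (fun α => σ ≫ X.map α.down.op)
  naturality Δ Δ' θ := by
    apply Sigma.hom_ext
    intro α
    have h1 : Sigma.ι (fun _ : ULift.{w} (Δ.unop ⟶ ⦋M⦌) => W) α ≫ (tens.{v₁, u₁, w} W M).map θ =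
        Sigma.ι (fun _ : ULift.{w} (Δ'.unop ⟶ ⦋M⦌) => W) ⟨θ.unop ≫ α.down⟩ :=
      Sigma.ι_desc _ _
    refine (Category.assoc _ _ _).symm.trans ?_
    refine (h1 =≫ _).trans ?_
    refine (Sigma.ι_desc _ _).trans ?_
    refine Eq.trans ?_ (Category.assoc _ _ _)
    have h2 : Sigma.ι (fun _ : ULift.{w} (Δ.unop ⟶ ⦋M⦌) => W) α ≫
        Sigma.desc (fun α : ULift.{w} (Δ.unop ⟶ ⦋M⦌) => σ ≫ X.map α.down.op) =
        σ ≫ X.map α.down.op := Sigma.ι_desc _ _
    refine Eq.trans ?_ (h2.symm =≫ _)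
    change σ ≫ X.map (θ.unop ≫ α.down).op = (σ ≫ X.map α.down.op) ≫ X.map θ
    rw [op_comp, X.map_comp, Category.assoc]
    rfl

theorem yon_ofSimplex (X : SimplicialObject E) {W : E} {M : ℕ} (σ : W ⟶ X.obj (op ⦋M⦌))
    {x : SimplexCategory} (α : x ⟶ ⦋M⦌) :
    yon.{v₁, u₁, w} W M α ≫ (ofSimplex.{v₁, u₁, w} X σ).app (op x) = σ ≫ X.map α.op :=
  Sigma.ι_desc _ _

theorem yon_ofSimplex_id (X : SimplicialObject E) {W : E} {M : ℕ} (σ : W ⟶ X.obj (op ⦋M⦌)) :
    yon.{v₁, u₁, w} W M (𝟙 _) ≫ (ofSimplex.{v₁, u₁, w} X σ).app (op ⦋M⦌) = σ := by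
  rw [yon_ofSimplex, op_id, X.map_id, Category.comp_id]

variable (K : SimplicialObject E) {W : E} {N : ℕ}
  [∀ (F : (SimplexCategory.Truncated N)ᵒᵖ ⥤ E),
      (SimplexCategory.Truncated.inclusion N).op.HasRightKanExtension F]

/-- **Maps into the coskeleton are determined by their boundaries.** -/
theorem cosk_hom_ext
    (σ σ' : W ⟶ ((SimplicialObject.Truncated.cosk N).obj
        ((SimplicialObject.truncation N).obj K)).obj (op ⦋N + 1⦌))
    (h : ∀ i : Fin (N + 2),
      σ ≫ ((SimplicialObject.Truncated.cosk N).obj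
        ((SimplicialObject.truncation N).obj K)).map (SimplexCategory.δ i).op ≫
        ((SimplicialObject.coskAdj N).counit.app ((SimplicialObject.truncation N).obj K)).app
          (op ⟨⦋N⦌, le_rfl⟩) =
      σ' ≫ ((SimplicialObject.Truncated.cosk N).obj
        ((SimplicialObject.truncation N).obj K)).map (SimplexCategory.δ i).op ≫
        ((SimplicialObject.coskAdj N).counit.app ((SimplicialObject.truncation N).obj K)).app
          (op ⟨⦋N⦌, le_rfl⟩)) :
    σ = σ' := by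
  let adj := SimplicialObject.coskAdj (C := E) N
  let skK := (SimplicialObject.truncation N).obj K
  let K' : SimplicialObject E := (SimplicialObject.Truncated.cosk N).obj skK
  let e := adj.counit.app skK
  have key : ofSimplex.{v₁, u₁, w} K' σ = ofSimplex.{v₁, u₁, w} K' σ' := by
    apply (adj.homEquiv _ _).symm.injective
    rw [Adjunction.homEquiv_counit, Adjunction.homEquiv_counit]
    ext Δ : 2
    induction Δ using Opposite.rec with
    | op Δ =>
      apply Sigma.hom_ext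
      intro α
      have hm : Δ.obj.len ≤ N := Δ.property
      let i : Fin (N + 2) := miss (m := Δ.obj.len) hm α.down
      let β : Δ.obj ⟶ ⦋N⦌ := SimplexCategory.factor_δ (n := N) α.down i
      have hβ : β ≫ SimplexCategory.δ i = α.down :=
        SimplexCategory.factor_δ_spec α.down i (miss_spec (m := Δ.obj.len) hm α.down)
      let β' : Δ ⟶ (⟨⦋N⦌, le_rfl⟩ : SimplexCategory.Truncated N) := ObjectProperty.homMk β
      have hform : ∀ τ : W ⟶ K'.obj (op ⦋N + 1⦌),
          Sigma.ι (fun _ : ULift.{w} (Δ.obj ⟶ ⦋N + 1⦌) => W) α ≫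
            ((SimplicialObject.truncation N).map (ofSimplex.{v₁, u₁, w} K' τ) ≫ e).app (op Δ) =
          (τ ≫ K'.map (SimplexCategory.δ i).op ≫ e.app (op ⟨⦋N⦌, le_rfl⟩)) ≫ K.map β.op := by
        intro τ
        have h1 : Sigma.ι (fun _ : ULift.{w} (Δ.obj ⟶ ⦋N + 1⦌) => W) α ≫
            (ofSimplex.{v₁, u₁, w} K' τ).app (op Δ.obj) = τ ≫ K'.map α.down.op :=
          Sigma.ι_desc _ _
        have h2 : K'.map α.down.op = K'.map (SimplexCategory.δ i).op ≫ K'.map β.op := by
          rw [← K'.map_comp, ← op_comp, hβ]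
        have h3 : K'.map β.op ≫ e.app (op Δ) = e.app (op ⟨⦋N⦌, le_rfl⟩) ≫ K.map β.op :=
          e.naturality β'.op
        change Sigma.ι (fun _ : ULift.{w} (Δ.obj ⟶ ⦋N + 1⦌) => W) α ≫
            ((ofSimplex.{v₁, u₁, w} K' τ).app (op Δ.obj) ≫ e.app (op Δ)) = _
        rw [← Category.assoc, h1, h2]
        simp only [Category.assoc]
        rw [h3]
        rfl
      exact (hform σ).trans ((congrArg (· ≫ K.map β.op) (h i)).trans (hform σ').symm)
  rw [← yon_ofSimplex_id.{v₁, u₁, w} K' σ, ← yon_ofSimplex_id.{v₁, u₁, w} K' σ', key]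

end CoskUnique

section Conv

open Groth.Agent.R2.H38.HypCone Groth.Agent.R2.H38.HypSite

variable {D : Type u} [SmallCategory D] (J : GrothendieckTopology D)

theorem secOf_eq_iff (X : FormalCoproduct.{u} D) (U : D) (i i' : X.I) (g : U ⟶ X.obj i)
    (g' : U ⟶ X.obj i') :
    secOf X U i g = secOf X U i' g' ↔ ∃ h : i = i', g ≫ eqToHom (congrArg X.obj h) = g' := by
  constructor
  · intro h
    have h1 : FormalCoproduct.Hom.fromIncl i g = FormalCoproduct.Hom.fromIncl i' g' :=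
      sec_injective X U h
    obtain ⟨h₁, h₂⟩ := (FormalCoproduct.hom_ext_iff _ _).1 h1
    have hi : i = i' := congrFun h₁ PUnit.unit
    subst hi
    refine ⟨rfl, ?_⟩
    have h3 : g ≫ eqToHom (rfl : X.obj i = X.obj i) = g' := h₂ PUnit.unit
    exact h3
  · rintro ⟨rfl, h⟩
    rw [← h]
    simp

theorem fromIncl_comp {X Y : FormalCoproduct.{u} D} {U : D} (i : X.I) (g : U ⟶ X.obj i)
    (ψ : X ⟶ Y) :
    FormalCoproduct.Hom.fromIncl i g ≫ ψ = FormalCoproduct.Hom.fromIncl (ψ.f i) (g ≫ ψ.φ i) :=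
  rfl

theorem incl_map_fromIncl {X : FormalCoproduct.{u} D} {U V : D} (f : V ⟶ U) (i : X.I)
    (g : U ⟶ X.obj i) :
    (FormalCoproduct.incl D).map f ≫ FormalCoproduct.Hom.fromIncl i g =
      FormalCoproduct.Hom.fromIncl i (f ≫ g) :=
  rfl

/-- a morphism of formal coproducts through which every component of the target locally lifts is
a covering -/
theorem isSRCovering_of_locally_lifts {K' L' : FormalCoproduct.{u} D} (η : K' ⟶ L')
    (h : ∀ j : L'.I, ∃ S ∈ J (L'.obj j), ∀ ⦃V : D⦄ (f : V ⟶ L'.obj j), S f →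
      ∃ τ : (FormalCoproduct.incl D).obj V ⟶ K', τ ≫ η = FormalCoproduct.Hom.fromIncl j f) :
    Hyper.IsSRCovering J η := by
  intro j
  obtain ⟨S, hS, hS'⟩ := h j
  refine J.superset_covering ?_ hS
  intro V f hf
  obtain ⟨τ, hτ⟩ := hS' f hf
  rw [← FormalCoproduct.Hom.fromIncl_asSigma τ, fromIncl_comp] at hτ
  obtain ⟨h₁, h₂⟩ := (FormalCoproduct.hom_ext_iff _ _).1 hτ
  have hi : η.f τ.asSigma.fst = j := congrFun h₁ PUnit.unit
  have h3 := h₂ PUnit.unit
  have h4 : (τ.asSigma.snd ≫ η.φ τ.asSigma.fst) ≫ eqToHom (congrArg L'.obj hi) = f := h3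
  rw [← h4, Category.assoc]
  refine Sieve.downward_closed _ ?_ _
  exact Sieve.ofArrows_mk _ _ (⟨τ.asSigma.fst, hi⟩ : {i : K'.I // η.f i = j})

variable (K : SimplicialObject (FormalCoproduct.{u} D))

/-- the local lifting of boundaries, in terms of morphisms of formal coproducts -/
def LiftB (N : ℕ) (Good : ∀ {U : D}, (Fin (N + 2) → ((FormalCoproduct.incl D).obj U ⟶
    K.obj (op ⦋N⦌))) → Prop) : Prop :=
  ∀ (U : D) (β : Fin (N + 2) → ((FormalCoproduct.incl D).obj U ⟶ K.obj (op ⦋N⦌))), Good β →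
    ∃ S ∈ J U, ∀ ⦃V : D⦄ (f : V ⟶ U), S f →
      ∃ τ : (FormalCoproduct.incl D).obj V ⟶ K.obj (op ⦋N + 1⦌),
        ∀ i, τ ≫ K.δ i = (FormalCoproduct.incl D).map f ≫ β i

variable {J K}

/-- local lifting of boundaries gives local lifting through the unit `K_{N+1} ⟶ (cosk_N K)_{N+1}` -/
theorem unit_locally_lifts {N : ℕ}
    [∀ (F : (SimplexCategory.Truncated N)ᵒᵖ ⥤ FormalCoproduct.{u} D),
      (SimplexCategory.Truncated.inclusion N).op.HasRightKanExtension F]
    (Good : ∀ {U : D}, (Fin (N + 2) → ((FormalCoproduct.incl D).obj U ⟶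
      K.obj (op ⦋N⦌))) → Prop)
    (hL : LiftB J K N Good)
    (hG : ∀ {U : D} (σ : (FormalCoproduct.incl D).obj U ⟶
        ((SimplicialObject.Truncated.cosk N).obj ((SimplicialObject.truncation N).obj K)).obj
          (op ⦋N + 1⦌)),
      Good (fun i => σ ≫ ((SimplicialObject.Truncated.cosk N).obj
        ((SimplicialObject.truncation N).obj K)).map (SimplexCategory.δ i).op ≫
        ((SimplicialObject.coskAdj N).counit.app ((SimplicialObject.truncation N).obj K)).app
          (op ⟨⦋N⦌, le_rfl⟩)))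
    {U : D} (σ : (FormalCoproduct.incl D).obj U ⟶
        ((SimplicialObject.Truncated.cosk N).obj ((SimplicialObject.truncation N).obj K)).obj
          (op ⦋N + 1⦌)) :
    ∃ S ∈ J U, ∀ ⦃V : D⦄ (f : V ⟶ U), S f →
      ∃ τ : (FormalCoproduct.incl D).obj V ⟶ K.obj (op ⦋N + 1⦌),
        τ ≫ ((SimplicialObject.coskAdj N).unit.app K).app (op ⦋N + 1⦌) =
          (FormalCoproduct.incl D).map f ≫ σ := by
  let adj := SimplicialObject.coskAdj (C := FormalCoproduct.{u} D) N
  let skK := (SimplicialObject.truncation N).obj K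
  let K' : SimplicialObject (FormalCoproduct.{u} D) := (SimplicialObject.Truncated.cosk N).obj skK
  let Δ₀ : (SimplexCategory.Truncated N)ᵒᵖ := op ⟨⦋N⦌, le_rfl⟩
  let e₀ : K'.obj (op ⦋N⦌) ⟶ K.obj (op ⦋N⦌) := (adj.counit.app skK).app Δ₀
  let η₁ : K.obj (op ⦋N⦌) ⟶ K'.obj (op ⦋N⦌) := (adj.unit.app K).app (op ⦋N⦌)
  let η₂ : K.obj (op ⦋N + 1⦌) ⟶ K'.obj (op ⦋N + 1⦌) := (adj.unit.app K).app (op ⦋N + 1⦌)
  have htri : η₁ ≫ e₀ = 𝟙 (K.obj (op ⦋N⦌)) :=
    congrArg (fun ψ => ψ.app Δ₀) (adj.left_triangle_components K)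
  obtain ⟨S, hS, hS'⟩ := hL U _ (hG σ)
  refine ⟨S, hS, fun V f hf => ?_⟩
  obtain ⟨τ, hτ⟩ := hS' f hf
  refine ⟨τ, ?_⟩
  apply cosk_hom_ext.{u, u + 1, u} K
  intro i
  have hnat : K.δ i ≫ η₁ = η₂ ≫ K'.map (SimplexCategory.δ i).op :=
    (adj.unit.app K).naturality (SimplexCategory.δ i).op
  change (τ ≫ η₂) ≫ K'.map (SimplexCategory.δ i).op ≫ e₀ =
    ((FormalCoproduct.incl D).map f ≫ σ) ≫ K'.map (SimplexCategory.δ i).op ≫ e₀
  calc (τ ≫ η₂) ≫ K'.map (SimplexCategory.δ i).op ≫ e₀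
      = τ ≫ (η₂ ≫ K'.map (SimplexCategory.δ i).op) ≫ e₀ := by simp only [Category.assoc]
    _ = τ ≫ (K.δ i ≫ η₁) ≫ e₀ := by rw [hnat]
    _ = τ ≫ K.δ i := by rw [Category.assoc, htri, Category.comp_id]
    _ = (FormalCoproduct.incl D).map f ≫ σ ≫ K'.map (SimplexCategory.δ i).op ≫ e₀ := hτ i
    _ = ((FormalCoproduct.incl D).map f ≫ σ) ≫ K'.map (SimplexCategory.δ i).op ≫ e₀ := by
        simp only [Category.assoc]

variable (K) in
/-- compatibility of boundaries -/
def Compat (n : ℕ) {U : D}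
    (β : Fin (n + 3) → ((FormalCoproduct.incl D).obj U ⟶ K.obj (op ⦋n + 1⦌))) : Prop :=
  ∀ i j : Fin (n + 2), i ≤ j → β j.succ ≫ K.δ i = β i.castSucc ≫ K.δ j

theorem liftB_zero (h : LLP J (PK K) (augPt (PK K))) : LiftB J K 0 (fun _ => True) := by
  intro U β _
  obtain ⟨S, hS, hS'⟩ := h.h1 U (sec _ U (β 0)) (sec _ U (β 1)) rfl
  refine ⟨S, hS, fun V f hf => ?_⟩
  obtain ⟨t, ht0, ht1⟩ := hS' f hf
  refine ⟨unsec _ V t, fun i => ?_⟩
  apply sec_injective _ V
  rw [← map_sec, sec_unsec, ← res_sec]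
  fin_cases i
  · exact ht0
  · exact ht1

theorem liftB_succ (h : LLP J (PK K) (augPt (PK K))) (n : ℕ) :
    LiftB J K (n + 1) (Compat K n) := by
  intro U β hβ
  have hb : ∀ i j : Fin (n + 2), i ≤ j →
      dd (PK K) n i (sec _ U (β j.succ)) = dd (PK K) n j (sec _ U (β i.castSucc)) := by
    intro i j hij
    change (FormalCoproduct.yoneda.map (K.δ i)).app (op U) (sec _ U (β j.succ)) =
      (FormalCoproduct.yoneda.map (K.δ j)).app (op U) (sec _ U (β i.castSucc))
    rw [map_sec, map_sec, hβ i j hij]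
  obtain ⟨S, hS, hS'⟩ := h.hn n U (fun i => sec _ U (β i)) hb
  refine ⟨S, hS, fun V f hf => ?_⟩
  obtain ⟨t, ht⟩ := hS' f hf
  refine ⟨unsec _ V t, fun i => ?_⟩
  apply sec_injective _ V
  rw [← map_sec, sec_unsec, ← res_sec]
  exact ht i

theorem good_succ (n : ℕ)
    [∀ (F : (SimplexCategory.Truncated (n + 1))ᵒᵖ ⥤ FormalCoproduct.{u} D),
      (SimplexCategory.Truncated.inclusion (n + 1)).op.HasRightKanExtension F]
    {U : D} (σ : (FormalCoproduct.incl D).obj U ⟶
        ((SimplicialObject.Truncated.cosk (n + 1)).obj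
          ((SimplicialObject.truncation (n + 1)).obj K)).obj (op ⦋n + 1 + 1⦌)) :
    Compat K n (fun i => σ ≫ ((SimplicialObject.Truncated.cosk (n + 1)).obj
        ((SimplicialObject.truncation (n + 1)).obj K)).map (SimplexCategory.δ i).op ≫
        ((SimplicialObject.coskAdj (n + 1)).counit.app
          ((SimplicialObject.truncation (n + 1)).obj K)).app (op ⟨⦋n + 1⦌, le_rfl⟩)) := by
  let adj := SimplicialObject.coskAdj (C := FormalCoproduct.{u} D) (n + 1)
  let skK := (SimplicialObject.truncation (n + 1)).obj K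
  let K' : SimplicialObject (FormalCoproduct.{u} D) :=
    (SimplicialObject.Truncated.cosk (n + 1)).obj skK
  let e := adj.counit.app skK
  intro i j hij
  let e₁ : K'.obj (op ⦋n + 1⦌) ⟶ K.obj (op ⦋n + 1⦌) := e.app (op ⟨⦋n + 1⦌, le_rfl⟩)
  let e₀ : K'.obj (op ⦋n⦌) ⟶ K.obj (op ⦋n⦌) := e.app (op ⟨⦋n⦌, Nat.le_succ n⟩)
  have hnat : ∀ k : Fin (n + 2), e₁ ≫ K.δ k = K'.map (SimplexCategory.δ k).op ≫ e₀ := by
    intro k
    let δ' : (⟨⦋n⦌, Nat.le_succ n⟩ : SimplexCategory.Truncated (n + 1)) ⟶ ⟨⦋n + 1⦌, le_rfl⟩ :=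
      ObjectProperty.homMk (SimplexCategory.δ k)
    exact (e.naturality δ'.op).symm
  have hdd : K'.map (SimplexCategory.δ j.succ).op ≫ K'.map (SimplexCategory.δ i).op =
      K'.map (SimplexCategory.δ i.castSucc).op ≫ K'.map (SimplexCategory.δ j).op :=
    K'.δ_comp_δ hij
  change (σ ≫ K'.map (SimplexCategory.δ j.succ).op ≫ e₁) ≫ K.δ i =
    (σ ≫ K'.map (SimplexCategory.δ i.castSucc).op ≫ e₁) ≫ K.δ j
  calc (σ ≫ K'.map (SimplexCategory.δ j.succ).op ≫ e₁) ≫ K.δ i
      = σ ≫ K'.map (SimplexCategory.δ j.succ).op ≫ (e₁ ≫ K.δ i) := by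
        simp only [Category.assoc]
    _ = σ ≫ K'.map (SimplexCategory.δ j.succ).op ≫ K'.map (SimplexCategory.δ i).op ≫ e₀ := by
        rw [hnat]
    _ = σ ≫ (K'.map (SimplexCategory.δ j.succ).op ≫ K'.map (SimplexCategory.δ i).op) ≫ e₀ := by
        simp only [Category.assoc]
    _ = σ ≫ (K'.map (SimplexCategory.δ i.castSucc).op ≫ K'.map (SimplexCategory.δ j).op) ≫ e₀ := by
        rw [hdd]
    _ = σ ≫ K'.map (SimplexCategory.δ i.castSucc).op ≫ (e₁ ≫ K.δ j) := by
        rw [hnat]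
        simp only [Category.assoc]
    _ = (σ ≫ K'.map (SimplexCategory.δ i.castSucc).op ≫ e₁) ≫ K.δ j := by
        simp only [Category.assoc]

/-- the local lifting property from local lifting of boundaries -/
theorem llp_of_liftB
    (h0 : ∀ U : D, ∃ S ∈ J U, ∀ ⦃V : D⦄ (f : V ⟶ U), S f →
      Nonempty ((FormalCoproduct.incl D).obj V ⟶ K.obj (op ⦋0⦌)))
    (hz : LiftB J K 0 (fun _ => True)) (hs : ∀ n, LiftB J K (n + 1) (Compat K n)) :
    LLP J (PK K) (augPt (PK K)) := by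
  refine ⟨?_, ?_, ?_⟩
  · intro U β
    obtain ⟨S, hS, hS'⟩ := h0 U
    refine ⟨S, hS, fun V f hf => ?_⟩
    obtain ⟨τ⟩ := hS' f hf
    exact ⟨sec _ V τ, rfl⟩
  · intro U x y _
    obtain ⟨S, hS, hS'⟩ := hz U ![unsec _ U x, unsec _ U y] trivial
    refine ⟨S, hS, fun V f hf => ?_⟩
    obtain ⟨τ, hτ⟩ := hS' f hf
    refine ⟨sec _ V τ, ?_, ?_⟩
    · change (FormalCoproduct.yoneda.map (K.δ 0)).app (op V) (sec _ V τ) = _
      rw [map_sec, hτ 0, ← res_sec]
      change _ = (FormalCoproduct.yoneda.obj _).map f.op x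
      congr 1
      exact sec_unsec _ U x
    · change (FormalCoproduct.yoneda.map (K.δ 1)).app (op V) (sec _ V τ) = _
      rw [map_sec, hτ 1, ← res_sec]
      change _ = (FormalCoproduct.yoneda.obj _).map f.op y
      congr 1
      exact sec_unsec _ U y
  · intro n U b hb
    have hβ : Compat K n (fun i => unsec _ U (b i)) := by
      intro i j hij
      apply sec_injective _ U
      rw [← map_sec, ← map_sec, sec_unsec, sec_unsec]
      exact hb i j hij
    obtain ⟨S, hS, hS'⟩ := hs n U (fun i => unsec _ U (b i)) hβ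
    refine ⟨S, hS, fun V f hf => ?_⟩
    obtain ⟨τ, hτ⟩ := hS' f hf
    refine ⟨sec _ V τ, fun i => ?_⟩
    change (FormalCoproduct.yoneda.map (K.δ i)).app (op V) (sec _ V τ) = _
    rw [map_sec, hτ i, ← res_sec, sec_unsec]
    rfl

open Groth.Agent.R2.H38.HypOver in
/-- **A simplicial formal coproduct with the local lifting property is a Verdier hypercovering.** -/
theorem isHypercoveringSite_of_llp
    [∀ (n : ℕ) (F : (SimplexCategory.Truncated n)ᵒᵖ ⥤ FormalCoproduct.{u} D),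
      (SimplexCategory.Truncated.inclusion n).op.HasRightKanExtension F]
    (h : LLP J (PK K) (augPt (PK K))) : Hyper.IsHypercoveringSite J K := by
  refine ⟨?_, ?_, ?_⟩
  · refine ⟨fun {U} s => ?_⟩
    obtain ⟨S, hS, hS'⟩ := h.h0 U PUnit.unit
    refine J.superset_covering ?_ hS
    intro V f hf
    obtain ⟨x, _⟩ := hS' f hf
    exact ⟨x, terminal_sections_subsingleton _ _ _⟩
  · refine ⟨fun {U} s => ?_⟩
    let F₀ := FormalCoproduct.yoneda.obj (K.obj (op ⦋0⦌))
    obtain ⟨S, hS, hS'⟩ := h.h1 U ((prod.snd : F₀ ⨯ F₀ ⟶ F₀).app (op U) s)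
      ((prod.fst : F₀ ⨯ F₀ ⟶ F₀).app (op U) s) rfl
    refine J.superset_covering ?_ hS
    intro V f hf
    obtain ⟨t, ht0, ht1⟩ := hS' f hf
    refine ⟨t, ?_⟩
    apply prod_sections_ext
    · have h1 := ConcreteCategory.congr_hom (NatTrans.congr_app (prod.lift_fst
        (FormalCoproduct.yoneda.map (K.δ (1 : Fin 2)))
        (FormalCoproduct.yoneda.map (K.δ (0 : Fin 2)))) (op V)) t
      simp only [NatTrans.comp_app, CategoryTheory.comp_apply] at h1
      rw [h1, NatTrans.naturality_apply]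
      exact ht1
    · have h1 := ConcreteCategory.congr_hom (NatTrans.congr_app (prod.lift_snd
        (FormalCoproduct.yoneda.map (K.δ (1 : Fin 2)))
        (FormalCoproduct.yoneda.map (K.δ (0 : Fin 2)))) (op V)) t
      simp only [NatTrans.comp_app, CategoryTheory.comp_apply] at h1
      rw [h1, NatTrans.naturality_apply]
      exact ht0
  · intro n hn
    obtain ⟨m, rfl⟩ : ∃ m, n = m + 1 := ⟨n - 1, by omega⟩
    refine ⟨fun {U} s => ?_⟩
    obtain ⟨σ, rfl⟩ := sec_surjective _ U s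
    obtain ⟨S, hS, hS'⟩ := unit_locally_lifts (Compat K m) (liftB_succ h m)
      (fun σ => good_succ m σ) σ
    refine J.superset_covering ?_ hS
    intro V f hf
    obtain ⟨τ, hτ⟩ := hS' f hf
    refine ⟨sec _ V τ, ?_⟩
    rw [map_sec, hτ, res_sec]

end Conv

section ConvOver

open Groth.Agent.R2.H38.HypCone Groth.Agent.R2.H38.HypSite

variable {C : Type u} [SmallCategory C] {J : GrothendieckTopology C} {X : C}
  {K : SimplicialObject (FormalCoproduct.{u} (Over X))}

/-- **A simplicial formal coproduct over `X` with the local lifting property (in `C/X`) is a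
hypercovering of `X`.** -/
theorem isHypercovering_of_llp
    [∀ (n : ℕ) (F : (SimplexCategory.Truncated n)ᵒᵖ ⥤ FormalCoproduct.{u} (Over X)),
      (SimplexCategory.Truncated.inclusion n).op.HasRightKanExtension F]
    (h : LLP (J.over X) (PK K) (augPt (PK K))) : Hyper.IsHypercovering J X K := by
  refine ⟨?_, fun n => ?_⟩
  · obtain ⟨S, hS, hS'⟩ := h.h0 (Over.mk (𝟙 X)) PUnit.unit
    refine J.superset_covering ?_ ((J.mem_over_iff S).1 hS)
    intro V g hg
    rw [Sieve.overEquiv_iff] at hg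
    obtain ⟨x, _⟩ := hS' _ hg
    obtain ⟨φ, -⟩ := sec_surjective _ _ x
    have hw := Over.w (φ.φ PUnit.unit)
    have hg' : g = (φ.φ PUnit.unit).left ≫ ((K.obj (op ⦋0⦌)).obj (φ.f PUnit.unit)).hom := by
      rw [hw]
      change g = g ≫ 𝟙 X
      rw [Category.comp_id]
    rw [hg']
    exact Sieve.downward_closed _ (Sieve.ofArrows_mk _ _ (φ.f PUnit.unit)) _
  · cases n with
    | zero =>
      refine isSRCovering_of_locally_lifts (J.over X) _ (fun j => ?_)
      obtain ⟨S, hS, hS'⟩ := unit_locally_lifts (J := J.over X) (K := K) (N := 0)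
        (fun _ => True) (liftB_zero h) (fun _ => trivial) (FormalCoproduct.Hom.fromIncl j (𝟙 _))
      refine ⟨S, hS, fun V f hf => ?_⟩
      obtain ⟨τ, hτ⟩ := hS' f hf
      refine ⟨τ, hτ.trans ?_⟩
      rw [incl_map_fromIncl, Category.comp_id]
    | succ m =>
      refine isSRCovering_of_locally_lifts (J.over X) _ (fun j => ?_)
      obtain ⟨S, hS, hS'⟩ := unit_locally_lifts (J := J.over X) (K := K) (N := m + 1)
        (Compat K m) (liftB_succ h m) (fun σ => good_succ m σ)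
        (FormalCoproduct.Hom.fromIncl j (𝟙 _))
      refine ⟨S, hS, fun V f hf => ?_⟩
      obtain ⟨τ, hτ⟩ := hS' f hf
      refine ⟨τ, hτ.trans ?_⟩
      rw [incl_map_fromIncl, Category.comp_id]

end ConvOver

end Groth.Agent.R2.H38.HypConv
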