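import Groth.Agent.R2.H38HypConv

/-!
# An explicit hypercovering with all members in a given class of objects (helper38)

`FlagK B` : the simplicial formal coproduct whose `n`-simplices are the functors
`S : (Sg n)ᵒᵖ ⥤ D` ("systems") with values in the class `B`, where `Sg n` is the preorder of
maps `ℕ → Fin (n+1)` ordered by inclusion of ranges (so: nonempty subsets of `[n]`), the component
being `S(top)`.  If every object is covered by objects of `B`, this has the local lifting property.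
-/

set_option autoImplicit false

open CategoryTheory Opposite Limits

universe u

namespace Groth.Agent.R2.H38.HypFlag

/-- "singular simplices" of `[n]`: maps `ℕ → Fin (n+1)`, preordered by inclusion of ranges -/
structure Sg (n : ℕ) where
  /-- the underlying map -/
  f : ℕ → Fin (n + 1)

namespace Sg

variable {n m : ℕ}

theorem ext' {a b : Sg n} (h : a.f = b.f) : a = b := by
  cases a
  cases b
  congr

instance : Preorder (Sg n) where
  le a b := Set.range a.f ⊆ Set.range b.f
  le_refl _ := subset_rfl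
  le_trans _ _ _ h1 h2 := h1.trans h2

theorem le_def (a b : Sg n) : a ≤ b ↔ Set.range a.f ⊆ Set.range b.f := Iff.rfl

/-- push forward along a map of vertices -/
def push (θ : Fin (m + 1) → Fin (n + 1)) (a : Sg m) : Sg n := ⟨θ ∘ a.f⟩

theorem push_mono (θ : Fin (m + 1) → Fin (n + 1)) : Monotone (push θ) := by
  intro a b h
  rintro _ ⟨k, rfl⟩
  obtain ⟨l, hl⟩ := h ⟨k, rfl⟩
  exact ⟨l, congrArg θ hl⟩

/-- the full simplex -/
def top (n : ℕ) : Sg n := ⟨fun k => Fin.ofNat (n + 1) k⟩

theorem le_top (a : Sg n) : a ≤ top n := by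
  rintro _ ⟨k, rfl⟩
  exact ⟨(a.f k).val, by simp [top]⟩

end Sg

section Thin

variable {D : Type u} [Category.{u} D] {P : Type} [Preorder P]

theorem map_thin_id (S : Pᵒᵖ ⥤ D) {a : P} (h : a ≤ a) : S.map (homOfLE h).op = 𝟙 _ :=
  S.map_id _

theorem map_thin_comp (S : Pᵒᵖ ⥤ D) {a b c : P} (h1 : a ≤ b) (h2 : b ≤ c) (h3 : a ≤ c) :
    S.map (homOfLE h2).op ≫ S.map (homOfLE h1).op = S.map (homOfLE h3).op := by
  rw [← S.map_comp]
  rfl

end Thin

section Flag

variable {D : Type u} [SmallCategory D] (B : Set D)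

/-- restriction of a system along a map of vertices -/
abbrev restr {n m : ℕ} (θ : Fin (m + 1) → Fin (n + 1)) (S : (Sg n)ᵒᵖ ⥤ D) : (Sg m)ᵒᵖ ⥤ D :=
  (Sg.push_mono θ).functor.op ⋙ S

/-- systems with values in `B` -/
abbrev Sys (n : ℕ) : Type u := {S : (Sg n)ᵒᵖ ⥤ D // ∀ a, S.obj a ∈ B}

/-- the flag simplicial formal coproduct -/
noncomputable def FlagK : SimplicialObject (FormalCoproduct.{u} D) where
  obj Δ := ⟨Sys B Δ.unop.len, fun S => S.1.obj (op (Sg.top _))⟩
  map {Δ Δ'} θ :=
    ⟨fun S => ⟨restr θ.unop.toOrderHom S.1, fun _ => S.2 _⟩,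
      fun S => S.1.map (homOfLE (Sg.le_top (Sg.push θ.unop.toOrderHom (Sg.top _)))).op⟩
  map_id Δ := by
    refine FormalCoproduct.hom_ext rfl ?_
    intro S
    change S.1.map (homOfLE (le_refl (Sg.top _))).op ≫ eqToHom rfl = 𝟙 _
    rw [eqToHom_refl, Category.comp_id]
    exact map_thin_id S.1 _
  map_comp θ θ' := by
    refine FormalCoproduct.hom_ext rfl ?_
    intro S
    change S.1.map (homOfLE (Sg.le_top (Sg.push (θ ≫ θ').unop.toOrderHom (Sg.top _)))).op ≫
        eqToHom rfl =
      S.1.map (homOfLE (Sg.le_top (Sg.push θ.unop.toOrderHom (Sg.top _)))).op ≫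
        S.1.map (homOfLE (Sg.push_mono θ.unop.toOrderHom
          (Sg.le_top (Sg.push θ'.unop.toOrderHom (Sg.top _))))).op
    rw [eqToHom_refl, Category.comp_id]
    exact (map_thin_comp S.1 _ _ _).symm

end Flag

section Comb

open SimplexCategory Simplicial

/-- the `i`-th coface as a map of vertices -/
def dl {N : ℕ} (i : Fin (N + 2)) : Fin (N + 1) → Fin (N + 2) :=
  fun x => (δ i).toOrderHom x

/-- a retraction of the `i`-th coface -/
def pa {N : ℕ} (i : Fin (N + 2)) : Fin (N + 2) → Fin (N + 1) :=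
  fun x => (σ (Fin.predAbove 0 i)).toOrderHom x

theorem dl_ne {N : ℕ} (i : Fin (N + 2)) (y : Fin (N + 1)) : dl i y ≠ i :=
  Fin.succAbove_ne i y

theorem dl_injective {N : ℕ} (i : Fin (N + 2)) : Function.Injective (dl i) :=
  Fin.succAbove_right_injective

theorem dl_pa {N : ℕ} (i : Fin (N + 2)) (x : Fin (N + 2)) (hx : x ≠ i) : dl i (pa i x) = x := by
  have h := factor_δ_spec (SimplexCategory.const ⦋0⦌ ⦋N + 1⦌ x) i (fun _ => hx)
  have h2 := congrArg (fun f => f.toOrderHom 0) h
  exact h2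

theorem pa_dl {N : ℕ} (i : Fin (N + 2)) (y : Fin (N + 1)) : pa i (dl i y) = y :=
  dl_injective i (dl_pa i _ (dl_ne i y))

/-- a vertex different from `i < j` lies in the image of the double coface -/
theorem double_pa {n : ℕ} (i j : Fin (n + 2)) (hij : i ≤ j) (x : Fin (n + 3))
    (hi : x ≠ i.castSucc) (hj : x ≠ j.succ) :
    pa j.succ x = dl i (pa i (pa j.succ x)) ∧ pa i.castSucc x = dl j (pa i (pa j.succ x)) := by
  obtain ⟨a, h1, h2⟩ := Groth.Agent.R2.H38.HypFC.exists_double_factor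
    (SimplexCategory.const ⦋0⦌ ⦋n + 2⦌ x) i j hij (fun _ => hi) (fun _ => hj)
  have e1 : pa j.succ x = dl i (a.toOrderHom 0) := congrArg (fun f => f.toOrderHom 0) h1
  have e2 : pa i.castSucc x = dl j (a.toOrderHom 0) := congrArg (fun f => f.toOrderHom 0) h2
  have e3 : pa i (pa j.succ x) = a.toOrderHom 0 := by rw [e1, pa_dl]
  rw [e3]
  exact ⟨e1, e2⟩

end Comb

section Descent

variable {D : Type u} [Category.{u} D]

theorem map_thin_eqToHom {P : Type} [Preorder P] (S : Pᵒᵖ ⥤ D) {a b : P} (h : a ≤ b)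
    (e : a = b) : S.map (homOfLE h).op = eqToHom (by rw [e]) := by
  subst e
  exact (map_thin_id S h).trans (eqToHom_refl _ rfl).symm

theorem map_thin_congr {P : Type} [Preorder P] (S : Pᵒᵖ ⥤ D) {a b a' b' : P} (h : a ≤ b)
    (h' : a' ≤ b') (ea : a = a') (eb : b = b') :
    S.map (homOfLE h).op =
      eqToHom (by rw [eb]) ≫ S.map (homOfLE h').op ≫ eqToHom (by rw [ea]) := by
  subst ea eb
  simp

theorem eqToHom_sandwich {A A1 A2 B B1 B2 B3 : D} (m : A ⟶ B) (p : A2 = A1) (q : A1 = A)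
    (r : B = B1) (s : B1 = B2) (t : B2 = B3) (p' : A2 = A) (s' : B = B3) :
    eqToHom p ≫ ((eqToHom q ≫ m ≫ eqToHom r) ≫ eqToHom s) ≫ eqToHom t =
      eqToHom p' ≫ m ≫ eqToHom s' := by
  subst p q r s t
  simp

theorem eqToHom_sandwich2 {W W' U X X' X'' : D} (w : W ⟶ U) (gi : U ⟶ X) (a : W = W')
    (b : W' = W) (c : X = X') (d : X' = X'') (e : X'' = X) :
    eqToHom a ≫ (eqToHom b ≫ (w ≫ gi ≫ eqToHom c) ≫ eqToHom d) ≫ eqToHom e = w ≫ gi := by
  subst a c d
  simp

/-- **Descent of a functor along a surjective map of preorders with strict fibres.** -/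
theorem descent {Qt Q : Type} [Preorder Qt] [Preorder Q] (e : Qt → Q)
    (he : Function.Surjective e) (hle : ∀ x y, x ≤ y ↔ e x ≤ e y) (Ft : Qtᵒᵖ ⥤ D)
    (hF : ∀ x y (h : e x = e y), ∃ h' : Ft.obj (op y) = Ft.obj (op x),
      Ft.map (homOfLE ((hle x y).2 (le_of_eq h))).op = eqToHom h') :
    ∃ F : Qᵒᵖ ⥤ D,
      (show Monotone e from fun x y h => (hle x y).1 h).functor.op ⋙ F = Ft := by
  let s : Q → Qt := Function.surjInv he
  have hs : ∀ q, e (s q) = q := Function.surjInv_eq he
  have smono : Monotone s := fun x y h => (hle _ _).2 (by rw [hs, hs]; exact h)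
  refine ⟨smono.functor.op ⋙ Ft, ?_⟩
  have hobj : ∀ x : Qt, Ft.obj (op (s (e x))) = Ft.obj (op x) :=
    fun x => (hF x (s (e x)) (hs (e x)).symm).choose
  refine CategoryTheory.Functor.ext (fun X => hobj X.unop) ?_
  intro X Y f
  have hxy : Y.unop ≤ X.unop := leOfHom f.unop
  have h1 : s (e Y.unop) ≤ Y.unop := (hle _ _).2 (le_of_eq (hs _))
  have h2 : X.unop ≤ s (e X.unop) := (hle _ _).2 (le_of_eq (hs _).symm)
  have h3 : s (e Y.unop) ≤ s (e X.unop) := h1.trans (hxy.trans h2)
  have e1 : Ft.map (homOfLE h1).op = eqToHom (hobj Y.unop).symm := by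
    obtain ⟨h', hh'⟩ := hF (s (e Y.unop)) Y.unop (hs _)
    exact hh'
  have e2 : Ft.map (homOfLE h2).op = eqToHom (hobj X.unop) := by
    obtain ⟨h', hh'⟩ := hF X.unop (s (e X.unop)) (hs _).symm
    exact hh'
  have e3 : Ft.map (homOfLE h3).op =
      Ft.map (homOfLE h2).op ≫ Ft.map (homOfLE hxy).op ≫ Ft.map (homOfLE h1).op := by
    rw [map_thin_comp Ft h1 hxy (h1.trans hxy), map_thin_comp Ft (h1.trans hxy) h2 h3]
  have e4 : f = (homOfLE hxy).op := rfl
  change Ft.map (homOfLE h3).op = _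
  rw [e3, e1, e2, e4]
  rfl

end Descent

section Glue

variable {D : Type u} [Category.{u} D] {N : ℕ}

/-- `α` misses the vertex `i` -/
def Miss (α : Sg (N + 1)) (i : Fin (N + 2)) : Prop := ∀ k, α.f k ≠ i

theorem Miss.mono {α β : Sg (N + 1)} (h : α ≤ β) {i : Fin (N + 2)} (hβ : Miss β i) :
    Miss α i := by
  intro k hk
  obtain ⟨l, hl⟩ := h ⟨k, rfl⟩
  exact hβ l (hl.trans hk)

variable (S : Fin (N + 2) → ((Sg N)ᵒᵖ ⥤ D)) {U : D}
  (g : ∀ i, U ⟶ (S i).obj (op (Sg.top N)))

/-- compatibility of the `i`-th and `j`-th boundary systems -/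
structure CompatPair (i j : Fin (N + 2)) : Prop where
  co : ∀ (α : Sg (N + 1)) (_ : Miss α i) (_ : Miss α j),
    (S i).obj (op (Sg.push (pa i) α)) = (S j).obj (op (Sg.push (pa j) α))
  cm : ∀ (α β : Sg (N + 1)) (h : α ≤ β) (hi : Miss β i) (hj : Miss β j),
    (S i).map (homOfLE (Sg.push_mono (pa i) h)).op =
      eqToHom (co β hi hj) ≫ (S j).map (homOfLE (Sg.push_mono (pa j) h)).op ≫
        eqToHom (co α (hi.mono h) (hj.mono h)).symm
  cg : ∀ (α : Sg (N + 1)) (hi : Miss α i) (hj : Miss α j),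
    g i ≫ (S i).map (homOfLE (Sg.le_top (Sg.push (pa i) α))).op ≫ eqToHom (co α hi hj) =
      g j ≫ (S j).map (homOfLE (Sg.le_top (Sg.push (pa j) α))).op

/-- the covering preorder of `Sg (N+1)`: proper faces with a chosen missed vertex, and tops -/
inductive Qtil (N : ℕ) : Type
  | face (i : Fin (N + 2)) (α : Sg (N + 1)) (h : Miss α i)
  | full (t : Sg (N + 1)) (h : Function.Surjective t.f)

/-- the covering map -/
def Qtil.e (x : Qtil N) : Sg (N + 1) :=
  match x with
  | .face _ α _ => α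
  | .full t _ => t

instance : Preorder (Qtil N) := Preorder.lift Qtil.e

theorem Qtil.le_iff (x y : Qtil N) : x ≤ y ↔ x.e ≤ y.e := Iff.rfl

theorem Qtil.e_surjective : Function.Surjective (Qtil.e (N := N)) := by
  intro a
  by_cases h : Function.Surjective a.f
  · exact ⟨.full a h, rfl⟩
  · rw [Function.Surjective] at h
    push Not at h
    obtain ⟨i, hi⟩ := h
    exact ⟨.face i a hi, rfl⟩

theorem not_full_le_face {t : Sg (N + 1)} (ht : Function.Surjective t.f) {i : Fin (N + 2)}
    {α : Sg (N + 1)} (hα : Miss α i) (h : t ≤ α) : False := by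
  obtain ⟨k, hk⟩ := ht i
  obtain ⟨l, hl⟩ := h ⟨k, rfl⟩
  exact hα l (hl.trans hk)

/-- objects of the glued system on the cover -/
def Fobj (W : D) (x : Qtil N) : D :=
  match x with
  | .face i α _ => (S i).obj (op (Sg.push (pa i) α))
  | .full _ _ => W

variable {S g}

/-- maps of the glued system on the cover -/
noncomputable def Fmap (hC : ∀ i j, CompatPair S g i j) {W : D} (w : W ⟶ U)
    (x y : Qtil N) (h : x.e ≤ y.e) : Fobj S W y ⟶ Fobj S W x :=
  match x, y, h with
  | .face i α hα, .face j _ hβ, h =>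
      (S j).map (homOfLE (Sg.push_mono (pa j) h)).op ≫
        eqToHom ((hC j i).co α (hβ.mono h) hα)
  | .face i α _, .full _ _, _ => w ≫ g i ≫ (S i).map (homOfLE (Sg.le_top (Sg.push (pa i) α))).op
  | .full _ ht, .face _ _ hα, h => (not_full_le_face ht hα h).elim
  | .full _ _, .full _ _, _ => 𝟙 W

theorem Fmap_comp (hC : ∀ i j, CompatPair S g i j) {W : D} (w : W ⟶ U)
    (X Y Z : Qtil N) (hYX : Y.e ≤ X.e) (hZY : Z.e ≤ Y.e) :
    Fmap hC w Z X (hZY.trans hYX) = Fmap hC w Y X hYX ≫ Fmap hC w Z Y hZY := by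
  cases X with
  | face k γ hγ =>
    cases Y with
    | face j β hβ =>
      cases Z with
      | face i α hα =>
        have hZY' : α ≤ β := hZY
        have hYX' : β ≤ γ := hYX
        have cm := (hC k j).cm α β hZY' (hγ.mono hYX') hβ
        have key : eqToHom ((hC k j).co β (hγ.mono hYX') hβ) ≫
            (S j).map (homOfLE (Sg.push_mono (pa j) hZY')).op =
            (S k).map (homOfLE (Sg.push_mono (pa k) hZY')).op ≫
              eqToHom ((hC k j).co α ((hγ.mono hYX').mono hZY') (hβ.mono hZY')) := by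
          rw [cm]
          simp
        change (S k).map (homOfLE (Sg.push_mono (pa k) (hZY'.trans hYX'))).op ≫ eqToHom _ =
          ((S k).map (homOfLE (Sg.push_mono (pa k) hYX')).op ≫ eqToHom _) ≫
            ((S j).map (homOfLE (Sg.push_mono (pa j) hZY')).op ≫ eqToHom _)
        calc (S k).map (homOfLE (Sg.push_mono (pa k) (hZY'.trans hYX'))).op ≫ eqToHom _
            = ((S k).map (homOfLE (Sg.push_mono (pa k) hYX')).op ≫
                (S k).map (homOfLE (Sg.push_mono (pa k) hZY')).op) ≫ eqToHom _ := by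
              rw [map_thin_comp]
          _ = (S k).map (homOfLE (Sg.push_mono (pa k) hYX')).op ≫
                ((S k).map (homOfLE (Sg.push_mono (pa k) hZY')).op ≫
                  eqToHom ((hC k j).co α ((hγ.mono hYX').mono hZY') (hβ.mono hZY'))) ≫
                  eqToHom ((hC j i).co α (hβ.mono hZY') hα) := by
              simp only [Category.assoc, eqToHom_trans]
          _ = (S k).map (homOfLE (Sg.push_mono (pa k) hYX')).op ≫
                (eqToHom ((hC k j).co β (hγ.mono hYX') hβ) ≫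
                  (S j).map (homOfLE (Sg.push_mono (pa j) hZY')).op) ≫
                  eqToHom ((hC j i).co α (hβ.mono hZY') hα) := by
              rw [key]
          _ = _ := by
              simp only [Category.assoc]
              rfl
      | full t ht => exact (not_full_le_face ht hβ hZY).elim
    | full t ht => exact (not_full_le_face ht hγ hYX).elim
  | full t ht =>
    cases Y with
    | face j β hβ =>
      cases Z with
      | face i α hα =>
        have hZY' : α ≤ β := hZY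
        have cg := (hC j i).cg α (hβ.mono hZY') hα
        change w ≫ g i ≫ (S i).map (homOfLE (Sg.le_top (Sg.push (pa i) α))).op =
          (w ≫ g j ≫ (S j).map (homOfLE (Sg.le_top (Sg.push (pa j) β))).op) ≫
            ((S j).map (homOfLE (Sg.push_mono (pa j) hZY')).op ≫ eqToHom _)
        rw [← cg]
        simp only [Category.assoc]
        rw [← Category.assoc ((S j).map _), map_thin_comp]
      | full t' ht' => exact (not_full_le_face ht' hβ hZY).elim
    | full t' ht' =>
      cases Z with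
      | face i α hα =>
        change _ = 𝟙 W ≫ _
        rw [Category.id_comp]
        rfl
      | full t'' ht'' =>
        change 𝟙 W = 𝟙 W ≫ 𝟙 W
        rw [Category.id_comp]

/-- the glued system on the cover -/
noncomputable def Ftil (hC : ∀ i j, CompatPair S g i j) {W : D} (w : W ⟶ U) :
    (Qtil N)ᵒᵖ ⥤ D where
  obj x := Fobj S W x.unop
  map {x y} f := Fmap hC w y.unop x.unop (leOfHom f.unop)
  map_id x := by
    induction x using Opposite.rec with
    | op x =>
      cases x with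
      | face i α hα =>
        change (S i).map (homOfLE (Sg.push_mono (pa i) (le_refl α))).op ≫ eqToHom _ = 𝟙 _
        rw [map_thin_id, Category.id_comp, eqToHom_refl]
      | full t ht => rfl
  map_comp {x y z} f f' := Fmap_comp hC w x.unop y.unop z.unop (leOfHom f.unop) (leOfHom f'.unop)

theorem Ftil_fibre (hC : ∀ i j, CompatPair S g i j) {W : D} (w : W ⟶ U)
    (x y : Qtil N) (h : x.e = y.e) :
    ∃ h' : (Ftil hC w).obj (op y) = (Ftil hC w).obj (op x),
      (Ftil hC w).map (homOfLE ((Qtil.le_iff x y).2 (le_of_eq h))).op = eqToHom h' := by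
  cases x with
  | face i α hα =>
    cases y with
    | face j β hβ =>
      have h' : α = β := h
      subst h'
      refine ⟨(hC j i).co α hβ hα, ?_⟩
      change (S j).map (homOfLE (Sg.push_mono (pa j) (le_refl α))).op ≫ eqToHom _ = eqToHom _
      rw [map_thin_id, Category.id_comp]
    | full t ht =>
      have h' : α = t := h
      subst h'
      exact (not_full_le_face ht hα le_rfl).elim
  | full t ht =>
    cases y with
    | face j β hβ =>
      have h' : t = β := h
      subst h'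
      exact (not_full_le_face ht hβ le_rfl).elim
    | full t' ht' => exact ⟨rfl, rfl⟩

theorem push_pa_dl (i : Fin (N + 2)) (a : Sg N) : Sg.push (pa i) (Sg.push (dl i) a) = a := by
  apply Sg.ext'
  funext k
  exact pa_dl i (a.f k)

theorem miss_push_dl (i : Fin (N + 2)) (a : Sg N) : Miss (Sg.push (dl i) a) i :=
  fun k => dl_ne i (a.f k)

theorem top_surjective (n : ℕ) : Function.Surjective (Sg.top n).f := by
  intro x
  exact ⟨x.val, by simp [Sg.top]⟩

/-- **Gluing**: compatible boundary systems together with a new top `W ⟶ U` glue to a system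
on `[N+1]`. -/
theorem glue (hC : ∀ i j, CompatPair S g i j) {W : D} (w : W ⟶ U) :
    ∃ (T : (Sg (N + 1))ᵒᵖ ⥤ D) (hT : ∀ i, restr (dl i) T = S i)
      (hW : T.obj (op (Sg.top (N + 1))) = W),
      (∀ a, (∃ i b, T.obj a = (S i).obj b) ∨ T.obj a = W) ∧
      ∀ i, eqToHom hW.symm ≫ T.map (homOfLE (Sg.le_top (Sg.push (dl i) (Sg.top N)))).op ≫
        eqToHom (Functor.congr_obj (hT i) (op (Sg.top N))) = w ≫ g i := by
  obtain ⟨T, hdesc⟩ := descent Qtil.e Qtil.e_surjective Qtil.le_iff (Ftil hC w)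
    (Ftil_fibre hC w)
  have hface : ∀ (i : Fin (N + 2)) (α : Sg (N + 1)) (_ : Miss α i),
      T.obj (op α) = (S i).obj (op (Sg.push (pa i) α)) :=
    fun i α hα => Functor.congr_obj hdesc (op (Qtil.face i α hα))
  have hfull : ∀ (t : Sg (N + 1)) (_ : Function.Surjective t.f), T.obj (op t) = W :=
    fun t ht => Functor.congr_obj hdesc (op (Qtil.full t ht))
  have hobj : ∀ (i : Fin (N + 2)) (a : Sg N), T.obj (op (Sg.push (dl i) a)) = (S i).obj (op a) := by
    intro i a
    rw [hface i _ (miss_push_dl i a), push_pa_dl]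
  have hT : ∀ i, restr (dl i) T = S i := by
    intro i
    refine CategoryTheory.Functor.ext (fun a => hobj i a.unop) ?_
    intro a b f
    have hab : b.unop ≤ a.unop := leOfHom f.unop
    have h1 := Functor.congr_hom hdesc
      (homOfLE (show Qtil.face i _ (miss_push_dl i b.unop) ≤ Qtil.face i _ (miss_push_dl i a.unop)
        from Sg.push_mono (dl i) hab)).op
    have h2 : (restr (dl i) T).map f =
        ((show Monotone (Qtil.e (N := N)) from fun x y h => (Qtil.le_iff x y).1 h).functor.op ⋙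
          T).map (homOfLE (show Qtil.face i _ (miss_push_dl i b.unop) ≤
            Qtil.face i _ (miss_push_dl i a.unop) from Sg.push_mono (dl i) hab)).op := rfl
    have h3 : (Ftil hC w).map (homOfLE (show Qtil.face i _ (miss_push_dl i b.unop) ≤
        Qtil.face i _ (miss_push_dl i a.unop) from Sg.push_mono (dl i) hab)).op =
        (S i).map (homOfLE (Sg.push_mono (pa i) (Sg.push_mono (dl i) hab))).op ≫ eqToHom
          ((hC i i).co _ (miss_push_dl i b.unop) (miss_push_dl i b.unop)) := rfl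
    have h4 := map_thin_congr (S i) (Sg.push_mono (pa i) (Sg.push_mono (dl i) hab)) hab
      (push_pa_dl i b.unop) (push_pa_dl i a.unop)
    have h5 : f = (homOfLE hab).op := rfl
    rw [h2, h1, h3, h4, h5]
    exact eqToHom_sandwich (D := D) _ _ _ _ _ _ _ _
  have hW : T.obj (op (Sg.top (N + 1))) = W := hfull _ (top_surjective _)
  refine ⟨T, hT, hW, ?_, ?_⟩
  · intro a
    induction a using Opposite.rec with
    | op a =>
      obtain ⟨x, rfl⟩ := Qtil.e_surjective a
      cases x with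
      | face i α hα => exact Or.inl ⟨i, _, hface i α hα⟩
      | full t ht => exact Or.inr (hfull t ht)
  · intro i
    have h1 := Functor.congr_hom hdesc
      (homOfLE (show Qtil.face i _ (miss_push_dl i (Sg.top N)) ≤
        Qtil.full (Sg.top (N + 1)) (top_surjective _) from Sg.le_top _)).op
    have h2 : T.map (homOfLE (Sg.le_top (Sg.push (dl i) (Sg.top N)))).op =
        ((show Monotone (Qtil.e (N := N)) from fun x y h => (Qtil.le_iff x y).1 h).functor.op ⋙
          T).map (homOfLE (show Qtil.face i _ (miss_push_dl i (Sg.top N)) ≤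
            Qtil.full (Sg.top (N + 1)) (top_surjective _) from Sg.le_top _)).op := rfl
    have h3 : (Ftil hC w).map (homOfLE (show Qtil.face i _ (miss_push_dl i (Sg.top N)) ≤
        Qtil.full (Sg.top (N + 1)) (top_surjective _) from Sg.le_top _)).op =
        w ≫ g i ≫ (S i).map (homOfLE (Sg.le_top (Sg.push (pa i) (Sg.push (dl i) (Sg.top N))))).op :=
      rfl
    have h4 := map_thin_eqToHom (S i) (Sg.le_top (Sg.push (pa i) (Sg.push (dl i) (Sg.top N))))
      (push_pa_dl i (Sg.top N))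
    rw [h2, h1, h3, h4]
    exact eqToHom_sandwich2 (D := D) _ _ _ _ _ _ _

theorem CompatPair.diag (i : Fin (N + 2)) : CompatPair S g i i where
  co _ _ _ := rfl
  cm α β h hi hj := by simp
  cg α hi hj := by simp

theorem CompatPair.symm {i j : Fin (N + 2)} (h : CompatPair S g i j) : CompatPair S g j i where
  co α hj hi := (h.co α hi hj).symm
  cm α β hαβ hj hi := by
    rw [h.cm α β hαβ hi hj]
    simp
  cg α hj hi := by
    have h1 := h.cg α hi hj
    refine (Category.assoc _ _ _).symm.trans ?_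
    rw [← h1]
    simp

end Glue

section Pair

variable {D : Type u} [Category.{u} D] {n : ℕ}

theorem aux_cm (A B : (Sg (n + 1))ᵒᵖ ⥤ D) (i j : Fin (n + 2))
    (E : restr (dl i) A = restr (dl j) B) (a a' b b' : Sg (n + 1)) (c c' : Sg n) (hc : c ≤ c')
    (ha : a = Sg.push (dl i) c) (ha' : a' = Sg.push (dl i) c')
    (hb : b = Sg.push (dl j) c) (hb' : b' = Sg.push (dl j) c')
    (haa : a ≤ a') (hbb : b ≤ b') (p : A.obj (op a') = B.obj (op b'))
    (q : B.obj (op b) = A.obj (op a)) :
    A.map (homOfLE haa).op = eqToHom p ≫ B.map (homOfLE hbb).op ≫ eqToHom q := by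
  subst ha ha' hb hb'
  exact Functor.congr_hom E (homOfLE hc).op

theorem aux_cg (A B : (Sg (n + 1))ᵒᵖ ⥤ D) (i j : Fin (n + 2))
    (E : restr (dl i) A = restr (dl j) B) {U : D}
    (gA : U ⟶ A.obj (op (Sg.top (n + 1)))) (gB : U ⟶ B.obj (op (Sg.top (n + 1))))
    (Eg : (gA ≫ A.map (homOfLE (Sg.le_top (Sg.push (dl i) (Sg.top n)))).op) ≫
      eqToHom (Functor.congr_obj E (op (Sg.top n))) =
      gB ≫ B.map (homOfLE (Sg.le_top (Sg.push (dl j) (Sg.top n)))).op)
    (a b : Sg (n + 1)) (c : Sg n) (ha : a = Sg.push (dl i) c) (hb : b = Sg.push (dl j) c)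
    (p : A.obj (op a) = B.obj (op b)) :
    gA ≫ A.map (homOfLE (Sg.le_top a)).op ≫ eqToHom p = gB ≫ B.map (homOfLE (Sg.le_top b)).op := by
  subst ha hb
  let XA : A.obj (op (Sg.top (n + 1))) ⟶ A.obj (op (Sg.push (dl i) (Sg.top n))) :=
    A.map (homOfLE (Sg.le_top (Sg.push (dl i) (Sg.top n)))).op
  let RA : A.obj (op (Sg.push (dl i) (Sg.top n))) ⟶ A.obj (op (Sg.push (dl i) c)) :=
    A.map (homOfLE (Sg.push_mono (dl i) (Sg.le_top c))).op
  let XB : B.obj (op (Sg.top (n + 1))) ⟶ B.obj (op (Sg.push (dl j) (Sg.top n))) :=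
    B.map (homOfLE (Sg.le_top (Sg.push (dl j) (Sg.top n)))).op
  let RB : B.obj (op (Sg.push (dl j) (Sg.top n))) ⟶ B.obj (op (Sg.push (dl j) c)) :=
    B.map (homOfLE (Sg.push_mono (dl j) (Sg.le_top c))).op
  have e1 : A.obj (op (Sg.push (dl i) (Sg.top n))) = B.obj (op (Sg.push (dl j) (Sg.top n))) :=
    Functor.congr_obj E (op (Sg.top n))
  have h1 : RA = eqToHom e1 ≫ RB ≫ eqToHom p.symm :=
    Functor.congr_hom E (homOfLE (Sg.le_top c)).op
  have h2 : A.map (homOfLE (Sg.le_top (Sg.push (dl i) c))).op = XA ≫ RA :=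
    (map_thin_comp A (Sg.push_mono (dl i) (Sg.le_top c)) _ _).symm
  have h3 : B.map (homOfLE (Sg.le_top (Sg.push (dl j) c))).op = XB ≫ RB :=
    (map_thin_comp B (Sg.push_mono (dl j) (Sg.le_top c)) _ _).symm
  have Eg' : (gA ≫ XA) ≫ eqToHom e1 = gB ≫ XB := Eg
  calc gA ≫ A.map (homOfLE (Sg.le_top (Sg.push (dl i) c))).op ≫ eqToHom p
      = gA ≫ (XA ≫ eqToHom e1 ≫ RB ≫ eqToHom p.symm) ≫ eqToHom p := by rw [h2, h1]
    _ = ((gA ≫ XA) ≫ eqToHom e1) ≫ RB := by simp
    _ = (gB ≫ XB) ≫ RB := by rw [Eg']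
    _ = gB ≫ B.map (homOfLE (Sg.le_top (Sg.push (dl j) c))).op := by
        rw [h3, Category.assoc]

theorem push_pa_succ (i j : Fin (n + 2)) (hij : i ≤ j) (α : Sg (n + 1 + 1))
    (hi : Miss α i.castSucc) (hj : Miss α j.succ) :
    Sg.push (pa j.succ) α = Sg.push (dl i) (Sg.push (pa i) (Sg.push (pa j.succ) α)) ∧
    Sg.push (pa i.castSucc) α = Sg.push (dl j) (Sg.push (pa i) (Sg.push (pa j.succ) α)) := by
  constructor
  · apply Sg.ext'
    funext k
    exact (double_pa i j hij (α.f k) (hi k) (hj k)).1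
  · apply Sg.ext'
    funext k
    exact (double_pa i j hij (α.f k) (hi k) (hj k)).2

theorem compatPair_of_eq (S : Fin (n + 1 + 2) → ((Sg (n + 1))ᵒᵖ ⥤ D)) {U : D}
    (g : ∀ i, U ⟶ (S i).obj (op (Sg.top (n + 1)))) (i j : Fin (n + 2)) (hij : i ≤ j)
    (E : restr (dl i) (S j.succ) = restr (dl j) (S i.castSucc))
    (Eg : (g j.succ ≫ (S j.succ).map (homOfLE (Sg.le_top (Sg.push (dl i) (Sg.top n)))).op) ≫
      eqToHom (Functor.congr_obj E (op (Sg.top n))) =
      g i.castSucc ≫ (S i.castSucc).map (homOfLE (Sg.le_top (Sg.push (dl j) (Sg.top n)))).op) :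
    CompatPair S g j.succ i.castSucc where
  co α hjs hic :=
    (congrArg (fun a => (S j.succ).obj (op a)) (push_pa_succ i j hij α hic hjs).1).trans
      ((Functor.congr_obj E (op _)).trans
        (congrArg (fun b => (S i.castSucc).obj (op b)) (push_pa_succ i j hij α hic hjs).2).symm)
  cm α β h hjs hic :=
    aux_cm (S j.succ) (S i.castSucc) i j E _ _ _ _
      (Sg.push (pa i) (Sg.push (pa j.succ) α)) (Sg.push (pa i) (Sg.push (pa j.succ) β))
      (Sg.push_mono (pa i) (Sg.push_mono (pa j.succ) h))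
      (push_pa_succ i j hij α (hic.mono h) (hjs.mono h)).1 (push_pa_succ i j hij β hic hjs).1
      (push_pa_succ i j hij α (hic.mono h) (hjs.mono h)).2 (push_pa_succ i j hij β hic hjs).2
      _ _ _ _
  cg α hjs hic :=
    aux_cg (S j.succ) (S i.castSucc) i j E (g j.succ) (g i.castSucc) Eg _ _
      (Sg.push (pa i) (Sg.push (pa j.succ) α))
      (push_pa_succ i j hij α hic hjs).1 (push_pa_succ i j hij α hic hjs).2 _

/-- all pairs are compatible as soon as the simplicial ones are -/
theorem compatPair_all (S : Fin (n + 1 + 2) → ((Sg (n + 1))ᵒᵖ ⥤ D)) {U : D}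
    (g : ∀ i, U ⟶ (S i).obj (op (Sg.top (n + 1))))
    (h : ∀ i j : Fin (n + 2), i ≤ j → CompatPair S g j.succ i.castSucc) (a b : Fin (n + 1 + 2)) :
    CompatPair S g a b := by
  have key : ∀ a b : Fin (n + 1 + 2), a < b → CompatPair S g a b := by
    intro a b hab
    have ha : a ≠ Fin.last (n + 2) := by
      intro h'
      rw [h'] at hab
      exact absurd hab (not_lt.mpr (Fin.le_last b))
    have hb : b ≠ 0 := by
      intro h'
      rw [h'] at hab
      exact absurd hab (Fin.not_lt_zero a)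
    obtain ⟨i, rfl⟩ : ∃ i : Fin (n + 2), i.castSucc = a :=
      ⟨a.castPred ha, Fin.castSucc_castPred a ha⟩
    obtain ⟨j, rfl⟩ : ∃ j : Fin (n + 2), j.succ = b := ⟨b.pred hb, Fin.succ_pred b hb⟩
    have hij : i ≤ j := by
      rw [Fin.le_def]
      have := Fin.lt_def.mp hab
      simp only [Fin.val_castSucc, Fin.val_succ] at this
      omega
    exact (h i j hij).symm
  rcases lt_trichotomy a b with hab | rfl | hab
  · exact key a b hab
  · exact CompatPair.diag a
  · exact (key b a hab).symm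

theorem compatPair_zero (S : Fin (0 + 2) → ((Sg 0)ᵒᵖ ⥤ D)) {U : D}
    (g : ∀ i, U ⟶ (S i).obj (op (Sg.top 0))) (a b : Fin (0 + 2)) : CompatPair S g a b := by
  by_cases hab : a = b
  · subst hab
    exact CompatPair.diag a
  · have key : ∀ α : Sg (0 + 1), Miss α a → Miss α b → False := by
      intro α ha hb
      have h2 : ∀ x : Fin 2, x = a ∨ x = b := by
        intro x
        fin_cases x <;> fin_cases a <;> fin_cases b <;> simp_all
      rcases h2 (α.f 0) with h | h
      · exact ha 0 h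
      · exact hb 0 h
    exact ⟨fun α ha hb => (key α ha hb).elim, fun α β h ha hb => (key β ha hb).elim,
      fun α ha hb => (key α ha hb).elim⟩

end Pair

section Main

open Groth.Agent.R2.H38.HypConv Groth.Agent.R2.H38.HypFC Simplicial

variable {D : Type u} [SmallCategory D] (J : GrothendieckTopology D) (B : Set D)

/-- every object is covered by members of `B` -/
def Covers : Prop :=
  ∀ U : D, ∃ (ι : Type u) (Y : ι → D) (f : ∀ i, Y i ⟶ U), Sieve.ofArrows Y f ∈ J U ∧ ∀ i, Y i ∈ B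

theorem fromIncl_ext {X : FormalCoproduct.{u} D} {V : D}
    (τ τ' : (FormalCoproduct.incl D).obj V ⟶ X) (h₁ : τ.f PUnit.unit = τ'.f PUnit.unit)
    (h₂ : τ.φ PUnit.unit ≫ eqToHom (congrArg X.obj h₁) = τ'.φ PUnit.unit) : τ = τ' := by
  refine FormalCoproduct.hom_ext (funext fun _ => h₁) ?_
  intro x
  exact h₂

/-- the boundary systems of a family of simplices -/
abbrev sysOf {N : ℕ} {U : D}
    (β : Fin (N + 2) → ((FormalCoproduct.incl D).obj U ⟶ (FlagK B).obj (op ⦋N⦌)))
    (i : Fin (N + 2)) : (Sg N)ᵒᵖ ⥤ D :=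
  ((β i).f PUnit.unit).1

/-- the maps to the tops of the boundary systems -/
abbrev mapOf {N : ℕ} {U : D}
    (β : Fin (N + 2) → ((FormalCoproduct.incl D).obj U ⟶ (FlagK B).obj (op ⦋N⦌)))
    (i : Fin (N + 2)) : U ⟶ (sysOf B β i).obj (op (Sg.top N)) :=
  (β i).φ PUnit.unit

variable {J B}

theorem flag_lift (hcov : Covers J B) {N : ℕ} {U : D}
    (β : Fin (N + 2) → ((FormalCoproduct.incl D).obj U ⟶ (FlagK B).obj (op ⦋N⦌)))
    (hC : ∀ i j, CompatPair (sysOf B β) (mapOf B β) i j) :
    ∃ S ∈ J U, ∀ ⦃V : D⦄ (f : V ⟶ U), S f →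
      ∃ τ : (FormalCoproduct.incl D).obj V ⟶ (FlagK B).obj (op ⦋N + 1⦌),
        ∀ i, τ ≫ (FlagK B).δ i = (FormalCoproduct.incl D).map f ≫ β i := by
  obtain ⟨ι, Y, f, hcovU, hY⟩ := hcov U
  refine ⟨Sieve.ofArrows Y f, hcovU, ?_⟩
  intro V h hh
  obtain ⟨k, a, rfl⟩ := (Sieve.mem_ofArrows_iff _ _ _).1 hh
  obtain ⟨T, hT, hW, hmem, hface⟩ := glue hC (f k)
  have memB : ∀ x, T.obj x ∈ B := by
    intro x
    rcases hmem x with ⟨i, b, hib⟩ | hx
    · rw [hib]
      exact ((β i).f PUnit.unit).2 b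
    · rw [hx]
      exact hY k
  let Tsys : Sys B (N + 1) := ⟨T, memB⟩
  let τ : (FormalCoproduct.incl D).obj V ⟶ (FlagK B).obj (op ⦋N + 1⦌) :=
    FormalCoproduct.Hom.fromIncl Tsys (a ≫ eqToHom hW.symm)
  refine ⟨τ, fun i => ?_⟩
  have h₁ : (τ ≫ (FlagK B).δ i).f PUnit.unit =
      ((FormalCoproduct.incl D).map (a ≫ f k) ≫ β i).f PUnit.unit :=
    Subtype.ext (hT i)
  refine fromIncl_ext _ _ h₁ ?_
  change ((a ≫ eqToHom hW.symm) ≫
      T.map (homOfLE (Sg.le_top (Sg.push (dl i) (Sg.top N)))).op) ≫ eqToHom _ =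
    (a ≫ f k) ≫ mapOf B β i
  have h2 := hface i
  calc ((a ≫ eqToHom hW.symm) ≫
        T.map (homOfLE (Sg.le_top (Sg.push (dl i) (Sg.top N)))).op) ≫ eqToHom _
      = a ≫ (eqToHom hW.symm ≫ T.map (homOfLE (Sg.le_top (Sg.push (dl i) (Sg.top N)))).op ≫
          eqToHom (Functor.congr_obj (hT i) (op (Sg.top N)))) := by
        simp only [Category.assoc]
    _ = a ≫ f k ≫ mapOf B β i := by rw [h2]
    _ = (a ≫ f k) ≫ mapOf B β i := (Category.assoc _ _ _).symm

theorem compat_decode {n : ℕ} {U : D}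
    (β : Fin (n + 1 + 2) → ((FormalCoproduct.incl D).obj U ⟶ (FlagK B).obj (op ⦋n + 1⦌)))
    (hβ : Compat (FlagK B) n β) (i j : Fin (n + 2)) (hij : i ≤ j) :
    CompatPair (sysOf B β) (mapOf B β) j.succ i.castSucc := by
  have h := hβ i j hij
  obtain ⟨h₁, h₂⟩ := (FormalCoproduct.hom_ext_iff _ _).1 h
  have E : restr (dl i) (sysOf B β j.succ) = restr (dl j) (sysOf B β i.castSucc) :=
    congrArg Subtype.val (congrFun h₁ PUnit.unit)
  exact compatPair_of_eq (sysOf B β) (mapOf B β) i j hij E (h₂ PUnit.unit)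

theorem flag_liftB_zero (hcov : Covers J B) : LiftB J (FlagK B) 0 (fun _ => True) := by
  intro U β _
  exact flag_lift hcov β (compatPair_zero (sysOf B β) (mapOf B β))

theorem flag_liftB_succ (hcov : Covers J B) (n : ℕ) :
    LiftB J (FlagK B) (n + 1) (Compat (FlagK B) n) := by
  intro U β hβ
  exact flag_lift hcov β (compatPair_all (sysOf B β) (mapOf B β) (compat_decode β hβ))

theorem flag_h0 (hcov : Covers J B) (U : D) :
    ∃ S ∈ J U, ∀ ⦃V : D⦄ (f : V ⟶ U), S f →
      Nonempty ((FormalCoproduct.incl D).obj V ⟶ (FlagK B).obj (op ⦋0⦌)) := by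
  obtain ⟨ι, Y, f, hcovU, hY⟩ := hcov U
  refine ⟨Sieve.ofArrows Y f, hcovU, ?_⟩
  intro V h hh
  obtain ⟨k, a, rfl⟩ := (Sieve.mem_ofArrows_iff _ _ _).1 hh
  let Ssys : Sys B 0 := ⟨(Functor.const _).obj (Y k), fun _ => hY k⟩
  exact ⟨FormalCoproduct.Hom.fromIncl Ssys a⟩

open Groth.Agent.R2.H38.HypCone Groth.Agent.R2.H38.HypSite in
/-- **The flag simplicial formal coproduct of a covering class has the local lifting property.** -/
theorem flag_llp (hcov : Covers J B) : LLP J (PK (FlagK B)) (augPt (PK (FlagK B))) :=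
  llp_of_liftB (flag_h0 hcov) (flag_liftB_zero hcov) (flag_liftB_succ hcov)

theorem flag_mem (n : ℕ) (i : ((FlagK B).obj (op ⦋n⦌)).I) : ((FlagK B).obj (op ⦋n⦌)).obj i ∈ B :=
  i.2 _

end Main

section OverX

open Simplicial

variable {C : Type u} [SmallCategory C] (J : GrothendieckTopology C) (B : Set C) (X : C)

/-- objects over `X` whose source lies in `B` -/
def overClass : Set (Over X) := {Y | Y.left ∈ B}

variable {J B}

theorem covers_over
    (h1 : ∀ U : C, ∃ (ι : Type u) (V : ι → C) (f : ∀ i, V i ⟶ U),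
      Sieve.ofArrows V f ∈ J U ∧ ∀ i, V i ∈ B) :
    Covers (J.over X) (overClass B X) := by
  intro U
  obtain ⟨ι, V, f, hcov, hV⟩ := h1 U.left
  refine ⟨ι, fun i => Over.mk (f i ≫ U.hom), fun i => Over.homMk (f i), ?_, fun i => hV i⟩
  rw [J.mem_over_iff]
  refine J.superset_covering ?_ hcov
  intro W g hg
  obtain ⟨i, a, rfl⟩ := (Sieve.mem_ofArrows_iff _ _ _).1 hg
  refine Sieve.downward_closed _ ?_ a
  rw [Sieve.overEquiv_iff]
  exact Sieve.ofArrows_mk _ _ i

/-- **Existence of hypercoverings of `X` with all members in a covering class.** -/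
theorem exists_hypercovering_in_class
    [∀ (n : ℕ) (F : (SimplexCategory.Truncated n)ᵒᵖ ⥤ FormalCoproduct.{u} (Over X)),
      (SimplexCategory.Truncated.inclusion n).op.HasRightKanExtension F]
    (h1 : ∀ U : C, ∃ (ι : Type u) (V : ι → C) (f : ∀ i, V i ⟶ U),
      Sieve.ofArrows V f ∈ J U ∧ ∀ i, V i ∈ B) :
    ∃ K : SimplicialObject (FormalCoproduct.{u} (Over X)), Hyper.IsHypercovering J X K ∧
      ∀ (n : ℕ) (i : (K.obj (op ⦋n⦌)).I), ((K.obj (op ⦋n⦌)).obj i).left ∈ B :=
  ⟨FlagK (overClass B X),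
    Groth.Agent.R2.H38.HypConv.isHypercovering_of_llp (flag_llp (covers_over X h1)),
    fun n i => flag_mem n i⟩

end OverX

end Groth.Agent.R2.H38.HypFlag
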