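import Groth.Agent.R2.H38HypPull

/-!
# Refining a hypercovering in one degree (helper38)

For a simplicial object `K` of a category with finite products and an object `T`, the simplicial object
`HH n T = Hom(Δ[n], T)` (right adjoint of evaluation at `n`), the canonical `K ⟶ HH n K_n`, and for a
covering `u : Z ⟶ K_n` of formal coproducts the fibre product `K ×_{HH n K_n} HH n Z`, which is a
hypercovering when `K` is.
-/

set_option autoImplicit false

open CategoryTheory Opposite Limits Simplicial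

universe u

namespace Groth.Agent.R2.H38.HypRefine

open Groth.Agent.R2.H38.HypFC Groth.Agent.R2.H38.HypConv Groth.Agent.R2.H38.HypPull

section General

universe v₁ u₁

variable {E : Type u₁} [Category.{v₁} E] [HasFiniteProducts E]

/-- `Hom(Δ[n], T)` -/
noncomputable def HH (n : ℕ) (T : E) : SimplicialObject E where
  obj m := ∏ᶜ fun _ : (⦋n⦌ ⟶ m.unop) => T
  map {m m'} θ := Pi.lift fun g : (⦋n⦌ ⟶ m'.unop) =>
    Pi.π (fun _ : (⦋n⦌ ⟶ m.unop) => T) (g ≫ θ.unop)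
  map_id m := by
    apply Pi.hom_ext
    intro g
    simp
  map_comp θ θ' := by
    apply Pi.hom_ext
    intro g
    simp

/-- the component at `g` -/
noncomputable def pr (n : ℕ) (T : E) {m : SimplexCategoryᵒᵖ} (g : ⦋n⦌ ⟶ m.unop) :
    (HH n T).obj m ⟶ T :=
  Pi.π (fun _ : (⦋n⦌ ⟶ m.unop) => T) g

theorem HH_map_pr (n : ℕ) (T : E) {m m' : SimplexCategoryᵒᵖ} (θ : m ⟶ m') (g : ⦋n⦌ ⟶ m'.unop) :
    (HH n T).map θ ≫ pr n T g = pr n T (g ≫ θ.unop) :=
  Pi.lift_π _ _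

theorem HH_hom_ext (n : ℕ) (T : E) {m : SimplexCategoryᵒᵖ} {W : E}
    (a b : W ⟶ (HH n T).obj m) (h : ∀ g : ⦋n⦌ ⟶ m.unop, a ≫ pr n T g = b ≫ pr n T g) : a = b :=
  Pi.hom_ext _ _ h

/-- a point from its components -/
noncomputable def mkH (n : ℕ) (T : E) {m : SimplexCategoryᵒᵖ} {W : E}
    (c : (⦋n⦌ ⟶ m.unop) → (W ⟶ T)) : W ⟶ (HH n T).obj m :=
  Pi.lift c

theorem mkH_pr (n : ℕ) (T : E) {m : SimplexCategoryᵒᵖ} {W : E} (c : (⦋n⦌ ⟶ m.unop) → (W ⟶ T))
    (g : ⦋n⦌ ⟶ m.unop) : mkH n T c ≫ pr n T g = c g :=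
  Pi.lift_π _ _

/-- functoriality in `T` -/
noncomputable def HHmap (n : ℕ) {T T' : E} (u : T ⟶ T') : HH n T ⟶ HH n T' where
  app m := mkH n T' (fun g => pr n T g ≫ u)
  naturality m m' θ := by
    apply HH_hom_ext
    intro g
    rw [Category.assoc, Category.assoc, mkH_pr, HH_map_pr, mkH_pr, ← Category.assoc, HH_map_pr]

theorem HHmap_pr (n : ℕ) {T T' : E} (u : T ⟶ T') {m : SimplexCategoryᵒᵖ} (g : ⦋n⦌ ⟶ m.unop) :
    (HHmap n u).app m ≫ pr n T' g = pr n T g ≫ u :=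
  mkH_pr _ _ _ _

/-- the unit `K ⟶ Hom(Δ[n], K_n)` -/
noncomputable def toHH (n : ℕ) (K : SimplicialObject E) : K ⟶ HH n (K.obj (op ⦋n⦌)) where
  app m := mkH n _ (fun g => K.map g.op)
  naturality m m' θ := by
    apply HH_hom_ext
    intro g
    rw [Category.assoc, Category.assoc, mkH_pr, HH_map_pr, mkH_pr, ← K.map_comp]
    rfl

theorem toHH_pr (n : ℕ) (K : SimplicialObject E) {m : SimplexCategoryᵒᵖ} (g : ⦋n⦌ ⟶ m.unop) :
    (toHH n K).app m ≫ pr n _ g = K.map g.op :=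
  mkH_pr _ _ _ _

/-- compatibility of a point of `K_m` and a point of `Hom(Δ[n], Z)_m`, componentwise -/
theorem comp_eq_of_components (n : ℕ) (K : SimplicialObject E) {Z : E} (u : Z ⟶ K.obj (op ⦋n⦌))
    {m : SimplexCategoryᵒᵖ} {W : E} (κ : W ⟶ K.obj m) (ζ : W ⟶ (HH n Z).obj m)
    (h : ∀ α : ⦋n⦌ ⟶ m.unop, κ ≫ K.map α.op = (ζ ≫ pr n Z α) ≫ u) :
    κ ≫ (toHH n K).app m = ζ ≫ (HHmap n u).app m := by
  apply HH_hom_ext
  intro α
  calc (κ ≫ (toHH n K).app m) ≫ pr n _ α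
      = κ ≫ ((toHH n K).app m ≫ pr n _ α) := Category.assoc _ _ _
    _ = κ ≫ K.map α.op := by rw [toHH_pr]
    _ = (ζ ≫ pr n Z α) ≫ u := h α
    _ = ζ ≫ (pr n Z α ≫ u) := Category.assoc _ _ _
    _ = ζ ≫ ((HHmap n u).app m ≫ pr n _ α) := by rw [HHmap_pr]
    _ = (ζ ≫ (HHmap n u).app m) ≫ pr n _ α := (Category.assoc _ _ _).symm

omit [HasFiniteProducts E] in
theorem indep_precomp {M : SimplicialObject E} {W W' : E} {N : ℕ}
    {β : Fin (N + 2) → (W ⟶ M.obj (op ⦋N⦌))} (h : Indep M β) (g : W' ⟶ W) :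
    Indep M (fun i => g ≫ β i) := by
  intro m α i j hi hj
  rw [Category.assoc, Category.assoc, h α i j hi hj]

open SimplexCategory in
/-- **Filling a boundary in `Hom(Δ[n], T)`**, with prescribed values at the surjective simplices. -/
theorem exists_fill (n : ℕ) (T : E) {W : E} {N : ℕ}
    (ζ' : Fin (N + 2) → (W ⟶ (HH n T).obj (op ⦋N⦌)))
    (hind : Indep (HH n T) ζ') (c : (⦋n⦌ ⟶ ⦋N + 1⦌) → (W ⟶ T)) :
    ∃ ζ : W ⟶ (HH n T).obj (op ⦋N + 1⦌),
      (∀ i, ζ ≫ (HH n T).δ i = ζ' i) ∧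
      ∀ α : ⦋n⦌ ⟶ ⦋N + 1⦌, (¬ ∃ i : Fin (N + 2), ∀ k, α.toOrderHom k ≠ i) →
        ζ ≫ pr n T (m := op ⦋N + 1⦌) α = c α := by
  classical
  let cc : (⦋n⦌ ⟶ ⦋N + 1⦌) → (W ⟶ T) := fun α =>
    if h : ∃ i : Fin (N + 2), ∀ k, α.toOrderHom k ≠ i then
      ζ' h.choose ≫ pr n T (m := op ⦋N⦌) (factor_δ α h.choose)
    else c α
  refine ⟨mkH n T (m := op ⦋N + 1⦌) cc, fun i => ?_, fun α hα => ?_⟩
  · apply HH_hom_ext
    intro g
    have hmiss : ∀ k, (g ≫ δ i).toOrderHom k ≠ i := fun k => Fin.succAbove_ne i _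
    have hex : ∃ j : Fin (N + 2), ∀ k, (g ≫ δ i).toOrderHom k ≠ j := ⟨i, hmiss⟩
    have hcc : cc (g ≫ δ i) = ζ' hex.choose ≫ pr n T (m := op ⦋N⦌) (factor_δ (g ≫ δ i) hex.choose) :=
      dif_pos hex
    have h1 := hind (g ≫ δ i) hex.choose i hex.choose_spec hmiss
    have h2 := congrArg (fun t => t ≫ pr n T (m := op ⦋n⦌) (𝟙 ⦋n⦌)) h1
    simp only [Category.assoc, HH_map_pr] at h2
    have hfac : factor_δ (g ≫ δ i) i = g := by
      rw [← cancel_mono (δ i), factor_δ_spec _ _ hmiss]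
    have h3 : mkH n T (m := op ⦋N + 1⦌) cc ≫ (HH n T).map (δ i).op ≫ pr n T (m := op ⦋N⦌) g =
        cc (g ≫ δ i) := by
      rw [HH_map_pr]
      exact mkH_pr n T cc _
    refine (Category.assoc _ _ _).trans (h3.trans (hcc.trans ?_))
    refine Eq.trans ?_ (h2.trans ?_)
    · rw [Category.id_comp]
      rfl
    · rw [Category.id_comp, hfac]
      rfl
  · exact (mkH_pr n T cc α).trans (dif_neg hα)

end General

section Site

variable {D : Type u} [SmallCategory D] {J' : GrothendieckTopology D}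

/-- finite intersections of covering sieves -/
theorem finite_inter_mem {ι : Type*} [Finite ι] {U : D} (S : ι → Sieve U)
    (h : ∀ i, S i ∈ J' U) :
    ∃ R ∈ J' U, ∀ ⦃V : D⦄ (f : V ⟶ U), R f → ∀ i, S i f := by
  classical
  have := Fintype.ofFinite ι
  have key : ∀ s : Finset ι, ∃ R ∈ J' U, ∀ ⦃V : D⦄ (f : V ⟶ U), R f → ∀ i ∈ s, S i f := by
    intro s
    induction s using Finset.induction_on with
    | empty => exact ⟨⊤, J'.top_mem U, fun V f _ i hi => absurd hi (Finset.notMem_empty i)⟩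
    | insert a s ha ih =>
      obtain ⟨R, hR, hR'⟩ := ih
      refine ⟨S a ⊓ R, J'.intersection_covering (h a) hR, fun V f hf i hi => ?_⟩
      rcases Finset.mem_insert.1 hi with rfl | hi
      · exact hf.1
      · exact hR' f hf.2 i hi
  obtain ⟨R, hR, hR'⟩ := key Finset.univ
  exact ⟨R, hR, fun V f hf i => hR' f hf i (Finset.mem_univ i)⟩

variable [HasFiniteProducts (FormalCoproduct.{u} D)] [HasPullbacks (FormalCoproduct.{u} D)]
  {K P : SimplicialObject (FormalCoproduct.{u} D)} {n : ℕ} {Z : FormalCoproduct.{u} D}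
  (u' : Z ⟶ K.obj (op ⦋n⦌)) (p1 : P ⟶ K) (p2 : P ⟶ HH n Z)

omit [HasFiniteProducts (FormalCoproduct.{u} D)] [HasPullbacks (FormalCoproduct.{u} D)] in
/-- local lifts through `u'` of all the `n`-dimensional faces of a simplex of `K` -/
theorem locally_lift_faces (hu : Hyper.IsSRCovering J' u') {V : D} {m : SimplexCategory}
    (κ : (FormalCoproduct.incl D).obj V ⟶ K.obj (op m)) :
    ∃ R ∈ J' V, ∀ ⦃V' : D⦄ (h : V' ⟶ V), R h → ∀ α : ⦋n⦌ ⟶ m,
      ∃ μ : (FormalCoproduct.incl D).obj V' ⟶ Z,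
        μ ≫ u' = (FormalCoproduct.incl D).map h ≫ κ ≫ K.map α.op := by
  have hl := fun α : ⦋n⦌ ⟶ m => locally_lifts_of_isSRCovering J' u' hu (κ ≫ K.map α.op)
  choose S hS hS' using hl
  obtain ⟨R, hR, hR'⟩ := finite_inter_mem (J' := J') S hS
  exact ⟨R, hR, fun V' h hh α => hS' α h (hR' h hh α)⟩

/-- points of `P_0` exist locally -/
theorem exists_point_refine (hP : IsPullback p1 p2 (toHH n K) (HHmap n u'))
    (hu : Hyper.IsSRCovering J' u')
    (h0 : ∀ U : D, ∃ S ∈ J' U, ∀ ⦃V : D⦄ (f : V ⟶ U), S f →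
      Nonempty ((FormalCoproduct.incl D).obj V ⟶ K.obj (op ⦋0⦌))) (U : D) :
    ∃ S ∈ J' U, ∀ ⦃V : D⦄ (f : V ⟶ U), S f →
      Nonempty ((FormalCoproduct.incl D).obj V ⟶ P.obj (op ⦋0⦌)) := by
  have hP0 : IsPullback (p1.app (op ⦋0⦌)) (p2.app (op ⦋0⦌)) ((toHH n K).app (op ⦋0⦌))
      ((HHmap n u').app (op ⦋0⦌)) := hP.map ((evaluation _ _).obj (op ⦋0⦌))
  obtain ⟨S, hS, hS'⟩ := h0 U
  let R : Sieve U :=
    { arrows := fun V _ => Nonempty ((FormalCoproduct.incl D).obj V ⟶ P.obj (op ⦋0⦌))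
      downward_closed := by
        rintro V V' f ⟨τ⟩ g
        exact ⟨(FormalCoproduct.incl D).map g ≫ τ⟩ }
  refine ⟨R, ?_, fun V f hf => hf⟩
  refine J'.transitive hS R ?_
  intro V f hf
  obtain ⟨κ⟩ := hS' f hf
  obtain ⟨R', hR', hR''⟩ := locally_lift_faces (J' := J') u' hu κ
  refine J'.superset_covering ?_ hR'
  intro V' h hh
  choose μ hμ using hR'' h hh
  have hcomp : ((FormalCoproduct.incl D).map h ≫ κ) ≫ (toHH n K).app (op ⦋0⦌) =
      mkH n Z (m := op ⦋0⦌) μ ≫ (HHmap n u').app (op ⦋0⦌) := by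
    apply comp_eq_of_components
    intro α
    rw [mkH_pr, hμ α, Category.assoc]
  exact ⟨hP0.lift _ _ hcomp⟩

open SimplexCategory in
/-- **local lifting of boundaries for `P = K ×_{Hom(Δ[n],K_n)} Hom(Δ[n],Z)`** -/
theorem liftB_refine (hP : IsPullback p1 p2 (toHH n K) (HHmap n u'))
    (hu : Hyper.IsSRCovering J' u') (N : ℕ)
    (Good : ∀ {U : D}, (Fin (N + 2) → ((FormalCoproduct.incl D).obj U ⟶
      P.obj (op ⦋N⦌))) → Prop)
    (hK' : ∀ {U : D} (β : Fin (N + 2) → ((FormalCoproduct.incl D).obj U ⟶ P.obj (op ⦋N⦌))),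
      Good β → ∃ S ∈ J' U, ∀ ⦃V : D⦄ (f : V ⟶ U), S f →
        ∃ κ : (FormalCoproduct.incl D).obj V ⟶ K.obj (op ⦋N + 1⦌),
          ∀ i, κ ≫ K.δ i = (FormalCoproduct.incl D).map f ≫ β i ≫ p1.app (op ⦋N⦌))
    (hM' : ∀ {U : D} (β : Fin (N + 2) → ((FormalCoproduct.incl D).obj U ⟶ P.obj (op ⦋N⦌))),
      Good β → Indep (HH n Z) (fun i => β i ≫ p2.app (op ⦋N⦌))) :
    LiftB J' P N Good := by
  intro U β hβ
  have hPN : IsPullback (p1.app (op ⦋N⦌)) (p2.app (op ⦋N⦌)) ((toHH n K).app (op ⦋N⦌))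
      ((HHmap n u').app (op ⦋N⦌)) := hP.map ((evaluation _ _).obj (op ⦋N⦌))
  have hPN1 : IsPullback (p1.app (op ⦋N + 1⦌)) (p2.app (op ⦋N + 1⦌))
      ((toHH n K).app (op ⦋N + 1⦌)) ((HHmap n u').app (op ⦋N + 1⦌)) :=
    hP.map ((evaluation _ _).obj (op ⦋N + 1⦌))
  obtain ⟨S, hS, hS'⟩ := hK' β hβ
  let R : Sieve U :=
    { arrows := fun V f => ∃ τ : (FormalCoproduct.incl D).obj V ⟶ P.obj (op ⦋N + 1⦌),
        ∀ i, τ ≫ P.δ i = (FormalCoproduct.incl D).map f ≫ β i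
      downward_closed := by
        rintro V V' f ⟨τ, hτ⟩ g
        refine ⟨(FormalCoproduct.incl D).map g ≫ τ, fun i => ?_⟩
        rw [Category.assoc, hτ i, Functor.map_comp, Category.assoc] }
  refine ⟨R, ?_, fun V f hf => hf⟩
  refine J'.transitive hS R ?_
  intro V f hf
  obtain ⟨κ, hκ⟩ := hS' f hf
  obtain ⟨R', hR', hR''⟩ := locally_lift_faces (J' := J') u' hu κ
  refine J'.superset_covering ?_ hR'
  intro V' h hh
  choose μ hμ using hR'' h hh
  let ζ' : Fin (N + 2) → ((FormalCoproduct.incl D).obj V' ⟶ (HH n Z).obj (op ⦋N⦌)) :=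
    fun i => (FormalCoproduct.incl D).map (h ≫ f) ≫ β i ≫ p2.app (op ⦋N⦌)
  obtain ⟨ζ, hζ1, hζ2⟩ := exists_fill n Z ζ'
    (indep_precomp (hM' β hβ) ((FormalCoproduct.incl D).map (h ≫ f))) μ
  have hcomp : ((FormalCoproduct.incl D).map h ≫ κ) ≫ (toHH n K).app (op ⦋N + 1⦌) =
      ζ ≫ (HHmap n u').app (op ⦋N + 1⦌) := by
    apply comp_eq_of_components
    intro α
    by_cases hα : ∃ i : Fin (N + 2), ∀ k, α.toOrderHom k ≠ i
    · obtain ⟨i, hi⟩ := hα
      have hfac : factor_δ α i ≫ δ i = α := factor_δ_spec α i hi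
      let g : ⦋n⦌ ⟶ ⦋N⦌ := factor_δ α i
      have e1 : ζ ≫ pr n Z (m := op ⦋N + 1⦌) α = ζ' i ≫ pr n Z (m := op ⦋N⦌) g := by
        rw [← hζ1 i, Category.assoc]
        change _ = ζ ≫ (HH n Z).map (δ i).op ≫ pr n Z (m := op ⦋N⦌) g
        rw [HH_map_pr]
        congr 2
        exact hfac.symm
      have e2 : p2.app (op ⦋N⦌) ≫ pr n Z (m := op ⦋N⦌) g ≫ u' =
          p1.app (op ⦋N⦌) ≫ K.map g.op := by
        rw [← HHmap_pr, ← Category.assoc, ← hPN.w, Category.assoc, toHH_pr]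
      have e3 : K.map α.op = K.δ i ≫ K.map g.op := by
        change _ = K.map (δ i).op ≫ K.map g.op
        rw [← K.map_comp, ← op_comp, hfac]
      calc ((FormalCoproduct.incl D).map h ≫ κ) ≫ K.map α.op
          = (FormalCoproduct.incl D).map h ≫ (κ ≫ K.δ i) ≫ K.map g.op := by
            rw [e3]
            simp only [Category.assoc]
        _ = (FormalCoproduct.incl D).map (h ≫ f) ≫ β i ≫ p1.app (op ⦋N⦌) ≫ K.map g.op := by
            rw [hκ i, Functor.map_comp]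
            simp only [Category.assoc]
        _ = (FormalCoproduct.incl D).map (h ≫ f) ≫ β i ≫ p2.app (op ⦋N⦌) ≫
              pr n Z (m := op ⦋N⦌) g ≫ u' := by rw [e2]
        _ = (ζ' i ≫ pr n Z (m := op ⦋N⦌) g) ≫ u' := by
            simp only [ζ', Category.assoc]
        _ = (ζ ≫ pr n Z (m := op ⦋N + 1⦌) α) ≫ u' := by rw [← e1]
    · rw [hζ2 α hα, hμ α, Category.assoc]
  refine ⟨hPN1.lift _ _ hcomp, fun i => ?_⟩
  apply hPN.hom_ext
  · have hnat : P.δ i ≫ p1.app (op ⦋N⦌) = p1.app (op ⦋N + 1⦌) ≫ K.δ i :=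
      p1.naturality (δ i).op
    rw [Category.assoc, hnat, ← Category.assoc, hPN1.lift_fst, Category.assoc, hκ i,
      Functor.map_comp]
    simp only [Category.assoc]
  · have hnat : P.δ i ≫ p2.app (op ⦋N⦌) = p2.app (op ⦋N + 1⦌) ≫ (HH n Z).δ i :=
      p2.naturality (δ i).op
    rw [Category.assoc, hnat, ← Category.assoc, hPN1.lift_snd, hζ1 i]
    simp only [ζ', Category.assoc]

end Site

section Final

open Groth.Agent.R2.H38.HypCone Groth.Agent.R2.H38.HypSite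

variable {C : Type u} [SmallCategory C] [HasPullbacks C] {J : GrothendieckTopology C} {X : C}
  [∀ (n : ℕ) (F : (SimplexCategory.Truncated n)ᵒᵖ ⥤ FormalCoproduct.{u} (Over X)),
      (SimplexCategory.Truncated.inclusion n).op.HasRightKanExtension F]
  [HasFiniteProducts (FormalCoproduct.{u} (Over X))]
  {K P : SimplicialObject (FormalCoproduct.{u} (Over X))} {n : ℕ}
  {Z : FormalCoproduct.{u} (Over X)}
  (u' : Z ⟶ K.obj (op ⦋n⦌)) (p1 : P ⟶ K) (p2 : P ⟶ HH n Z)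

/-- **The refinement `K ×_{Hom(Δ[n],K_n)} Hom(Δ[n],Z)` of a hypercovering `K` along a covering
`Z ⟶ K_n` is a hypercovering.** -/
theorem isHypercovering_refine (hP : IsPullback p1 p2 (toHH n K) (HHmap n u'))
    (hK : Hyper.IsHypercovering J X K) (hu : Hyper.IsSRCovering (J.over X) u') :
    Hyper.IsHypercovering J X P := by
  have hKllp : LLP (J.over X) (PK K) (augPt (PK K)) :=
    llp_of_isHypercoveringSite (Groth.Agent.R2.H38.HypOver.isHypercoveringSite_over hK)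
  refine isHypercovering_of_llp (llp_of_liftB ?_ ?_ ?_)
  · refine exists_point_refine u' p1 p2 hP hu ?_
    intro U
    obtain ⟨S, hS, hS'⟩ := hKllp.h0 U PUnit.unit
    refine ⟨S, hS, fun V f hf => ?_⟩
    obtain ⟨x, _⟩ := hS' f hf
    exact ⟨unsec _ V x⟩
  · refine liftB_refine u' p1 p2 hP hu 0 (fun _ => True) ?_ ?_
    · intro U β _
      exact liftB_zero hKllp U (fun i => β i ≫ p1.app (op ⦋0⦌)) trivial
    · intro U β _
      exact indep_zero (HH n Z) _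
  · intro N
    refine liftB_refine u' p1 p2 hP hu (N + 1) (Compat P N) ?_ ?_
    · intro U β hβ
      exact liftB_succ hKllp N U (fun i => β i ≫ p1.app (op ⦋N + 1⦌)) (compat_comp p1 β hβ)
    · intro U β hβ
      exact indep_succ (HH n Z) (fun i => β i ≫ p2.app (op ⦋N + 1⦌))
        (fun i j hij => compat_comp p2 β hβ i j hij)

omit [∀ (n : ℕ) (F : (SimplexCategory.Truncated n)ᵒᵖ ⥤ FormalCoproduct.{u} (Over X)),
      (SimplexCategory.Truncated.inclusion n).op.HasRightKanExtension F] in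
/-- the factorization `P_n ⟶ Z` -/
theorem refine_factor (hP : IsPullback p1 p2 (toHH n K) (HHmap n u')) :
    (p2.app (op ⦋n⦌) ≫ pr n Z (m := op ⦋n⦌) (𝟙 ⦋n⦌)) ≫ u' = p1.app (op ⦋n⦌) := by
  have hPn : IsPullback (p1.app (op ⦋n⦌)) (p2.app (op ⦋n⦌)) ((toHH n K).app (op ⦋n⦌))
      ((HHmap n u').app (op ⦋n⦌)) := hP.map ((evaluation _ _).obj (op ⦋n⦌))
  calc (p2.app (op ⦋n⦌) ≫ pr n Z (m := op ⦋n⦌) (𝟙 ⦋n⦌)) ≫ u'
      = p2.app (op ⦋n⦌) ≫ (pr n Z (m := op ⦋n⦌) (𝟙 ⦋n⦌) ≫ u') := Category.assoc _ _ _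
    _ = p2.app (op ⦋n⦌) ≫ ((HHmap n u').app (op ⦋n⦌) ≫ pr n _ (m := op ⦋n⦌) (𝟙 ⦋n⦌)) := by
        rw [HHmap_pr]
    _ = (p2.app (op ⦋n⦌) ≫ (HHmap n u').app (op ⦋n⦌)) ≫ pr n _ (m := op ⦋n⦌) (𝟙 ⦋n⦌) :=
        (Category.assoc _ _ _).symm
    _ = (p1.app (op ⦋n⦌) ≫ (toHH n K).app (op ⦋n⦌)) ≫ pr n _ (m := op ⦋n⦌) (𝟙 ⦋n⦌) := by
        rw [hPn.w]
    _ = p1.app (op ⦋n⦌) ≫ ((toHH n K).app (op ⦋n⦌) ≫ pr n _ (m := op ⦋n⦌) (𝟙 ⦋n⦌)) :=
        Category.assoc _ _ _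
    _ = p1.app (op ⦋n⦌) ≫ K.map (𝟙 ⦋n⦌).op := by rw [toHH_pr]
    _ = p1.app (op ⦋n⦌) := by
        rw [op_id, K.map_id, Category.comp_id]

omit [HasFiniteProducts (FormalCoproduct.{u} (Over X))] in
/-- **Refinement of a hypercovering through a covering of `K_n`.** -/
theorem exists_refinement (K : SimplicialObject (FormalCoproduct.{u} (Over X)))
    (hK : Hyper.IsHypercovering J X K) (n : ℕ)
    (Z : FormalCoproduct.{u} (Over X)) (u' : Z ⟶ K.obj (op ⦋n⦌))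
    (hu : Hyper.IsSRCovering (J.over X) u') :
    ∃ (L : SimplicialObject (FormalCoproduct.{u} (Over X))) (f : L ⟶ K)
      (g : L.obj (op ⦋n⦌) ⟶ Z),
      Hyper.IsHypercovering J X L ∧ g ≫ u' = f.app (op ⦋n⦌) := by
  have : HasBinaryProducts (FormalCoproduct.{u} (Over X)) :=
    hasBinaryProducts_of_hasTerminal_and_pullbacks _
  have : HasFiniteProducts (FormalCoproduct.{u} (Over X)) :=
    hasFiniteProducts_of_has_binary_and_terminal
  have hP := IsPullback.of_hasPullback (toHH n K) (HHmap n u')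
  exact ⟨pullback (toHH n K) (HHmap n u'), pullback.fst _ _,
    (pullback.snd (toHH n K) (HHmap n u')).app (op ⦋n⦌) ≫ pr n Z (m := op ⦋n⦌) (𝟙 ⦋n⦌),
    isHypercovering_refine u' _ _ hP hK hu, refine_factor u' _ _ hP⟩

end Final

section LocSurj

variable {D : Type u} [SmallCategory D] (J' : GrothendieckTopology D)
  (A : FormalCoproduct.{u} D) (P : Dᵒᵖ ⥤ Type u) (v : P ⟶ FormalCoproduct.yoneda.obj A)

/-- local lifts of the tautological sections of `F(A)` through `v` -/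
structure LiftIdx : Type u where
  /-- the component -/
  i : A.I
  /-- the source -/
  W : D
  /-- the map -/
  f : W ⟶ A.obj i
  /-- the lift -/
  p : P.obj (op W)
  /-- it is a lift -/
  hp : v.app (op W) p = secOf A W i f

/-- the semi-representable object of local lifts -/
def ZZ : FormalCoproduct.{u} D := ⟨LiftIdx A P v, fun x => x.W⟩

/-- its map to `A` -/
def uZ : ZZ A P v ⟶ A := ⟨fun x => x.i, fun x => x.f⟩

variable {A P v} in
theorem isSRCovering_uZ (hv : Presheaf.IsLocallySurjective J' v) :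
    Hyper.IsSRCovering J' (uZ A P v) := by
  intro j
  refine J'.superset_covering ?_ (Presheaf.imageSieve_mem J' v (secOf A (A.obj j) j (𝟙 _)))
  intro W f hf
  obtain ⟨p, hp⟩ := hf
  have hp' : v.app (op W) p = secOf A W j f := by
    refine hp.trans ?_
    rw [res_secOf, Category.comp_id]
  let x : LiftIdx A P v := ⟨j, W, f, p, hp'⟩
  have h := Sieve.ofArrows_mk (fun i : {i : (ZZ A P v).I // (uZ A P v).f i = j} => (ZZ A P v).obj i.1)
    (fun i => (uZ A P v).φ i.1 ≫ eqToHom (congrArg A.obj i.2)) ⟨x, rfl⟩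
  have e : (uZ A P v).φ x ≫ eqToHom (congrArg A.obj (rfl : (uZ A P v).f x = j)) = f := by
    rw [eqToHom_refl, Category.comp_id]
    rfl
  exact e ▸ h

/-- the map `F(Z) ⟶ P` -/
noncomputable def gZ : FormalCoproduct.yoneda.obj (ZZ A P v) ⟶ P :=
  Sigma.desc (fun x : LiftIdx A P v => yonedaEquiv.symm x.p)

theorem gZ_secOf (U : D) (x : LiftIdx A P v) (g : U ⟶ x.W) :
    (gZ A P v).app (op U) (secOf (ZZ A P v) U x g) = P.map g.op x.p := by
  have h : Sigma.ι (fun x : LiftIdx A P v => yoneda.obj x.W) x ≫ gZ A P v =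
      yonedaEquiv.symm x.p := Sigma.ι_desc _ _
  have h2 := ConcreteCategory.congr_hom (NatTrans.congr_app h (op U)) g
  rw [NatTrans.comp_app, CategoryTheory.comp_apply] at h2
  refine h2.trans ?_
  exact yonedaEquiv_symm_app_apply x.p (op U) g

theorem gZ_uZ : gZ A P v ≫ v = FormalCoproduct.yoneda.map (uZ A P v) := by
  ext U s
  obtain ⟨U⟩ := U
  obtain ⟨φ, rfl⟩ := sec_surjective (ZZ A P v) U s
  let x : LiftIdx A P v := φ.f PUnit.unit
  let g : U ⟶ x.W := φ.φ PUnit.unit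
  change v.app (op U) ((gZ A P v).app (op U) (secOf (ZZ A P v) U x g)) =
    (FormalCoproduct.yoneda.map (uZ A P v)).app (op U) (secOf (ZZ A P v) U x g)
  rw [gZ_secOf, map_secOf, NatTrans.naturality_apply, x.hp, res_secOf]
  rfl

end LocSurj

section Final2

variable {C : Type u} [SmallCategory C] [HasPullbacks C] {J : GrothendieckTopology C} {X : C}
  [∀ (n : ℕ) (F : (SimplexCategory.Truncated n)ᵒᵖ ⥤ FormalCoproduct.{u} (Over X)),
      (SimplexCategory.Truncated.inclusion n).op.HasRightKanExtension F]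

/-- **Refinement of a hypercovering through a locally surjective map to `F(K_n)`.** -/
theorem exists_refinement_of_locallySurjective
    (K : SimplicialObject (FormalCoproduct.{u} (Over X)))
    (hK : Hyper.IsHypercovering J X K) (n : ℕ)
    (P : (Over X)ᵒᵖ ⥤ Type u) (v : P ⟶ FormalCoproduct.yoneda.obj (K.obj (op ⦋n⦌)))
    (hv : Presheaf.IsLocallySurjective (J.over X) v) :
    ∃ (L : SimplicialObject (FormalCoproduct.{u} (Over X))) (f : L ⟶ K)
      (g : FormalCoproduct.yoneda.obj (L.obj (op ⦋n⦌)) ⟶ P),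
      Hyper.IsHypercovering J X L ∧ g ≫ v = FormalCoproduct.yoneda.map (f.app (op ⦋n⦌)) := by
  obtain ⟨L, f, g', hL, hg'⟩ := exists_refinement K hK n (ZZ _ P v) (uZ _ P v)
    (isSRCovering_uZ (J.over X) hv)
  refine ⟨L, f, FormalCoproduct.yoneda.map g' ≫ gZ _ P v, hL, ?_⟩
  rw [Category.assoc, gZ_uZ, ← Functor.map_comp, hg']

end Final2

end Groth.Agent.R2.H38.HypRefine
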