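import Groth.Prelude.Def_Hyper2
import Groth.Agent.R2.H38HypRefine

/-!
# Killing Čech classes of presheaves with zero sheafification by refining (helper38)
-/

set_option autoImplicit false

open CategoryTheory Opposite Limits Simplicial

universe u

namespace Groth.Agent.R2.H38.HypKill

open Groth.Agent.R2.H38.HypFC Groth.Agent.R2.H38.HypRefine

section General

variable {D : Type u} [SmallCategory D] (J' : GrothendieckTopology D)
  (P' : Dᵒᵖ ⥤ AddCommGrpCat.{u})

/-- evaluation of a presheaf on formal coproducts -/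
noncomputable abbrev EV : (FormalCoproduct.{u} D)ᵒᵖ ⥤ AddCommGrpCat.{u} :=
  (FormalCoproduct.evalOp.{u} D AddCommGrpCat.{u}).obj P'

variable (A : FormalCoproduct.{u} D)

/-- the component of a cochain -/
noncomputable def cmp (s : (EV P').obj (op A)) (i : A.I) : P'.obj (op (A.obj i)) :=
  Pi.π (fun i : A.I => P'.obj (op (A.obj i))) i s

theorem ev_ext (s t : (EV P').obj (op A)) (h : ∀ i, cmp P' A s i = cmp P' A t i) : s = t := by
  apply (Concrete.productEquiv (fun i : A.I => P'.obj (op (A.obj i)))).injective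
  funext i
  rw [Concrete.productEquiv_apply_apply, Concrete.productEquiv_apply_apply]
  exact h i

theorem cmp_zero (i : A.I) : cmp P' A 0 i = 0 := map_zero _

variable {A} in
theorem cmp_map {B : FormalCoproduct.{u} D} (ψ : B ⟶ A) (s : (EV P').obj (op A)) (j : B.I) :
    cmp P' B ((EV P').map ψ.op s) j = P'.map (ψ.φ j).op (cmp P' A s (ψ.f j)) := by
  have h : (EV P').map ψ.op ≫ Pi.π (fun i : B.I => P'.obj (op (B.obj i))) j =
      Pi.π (fun i : A.I => P'.obj (op (A.obj i))) (ψ.f j) ≫ P'.map (ψ.φ j).op := Pi.lift_π _ _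
  exact ConcreteCategory.congr_hom h s

/-- pieces on which a cochain vanishes -/
structure KillIdx (s : (EV P').obj (op A)) : Type u where
  /-- the component -/
  i : A.I
  /-- the source -/
  W : D
  /-- the map -/
  f : W ⟶ A.obj i
  /-- vanishing -/
  hf : P'.map f.op (cmp P' A s i) = 0

/-- the semi-representable object of pieces on which `s` vanishes -/
def ZK (s : (EV P').obj (op A)) : FormalCoproduct.{u} D := ⟨KillIdx P' A s, fun x => x.W⟩

/-- its map to `A` -/
def uK (s : (EV P').obj (op A)) : ZK P' A s ⟶ A := ⟨fun x => x.i, fun x => x.f⟩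

theorem ev_uK (s : (EV P').obj (op A)) : (EV P').map (uK P' A s).op s = 0 := by
  apply ev_ext
  intro x
  rw [cmp_map, cmp_zero]
  exact x.hf

variable {P' A} in
theorem isSRCovering_uK (s : (EV P').obj (op A))
    (h : ∀ i : A.I, ∃ S ∈ J' (A.obj i), ∀ ⦃W : D⦄ (f : W ⟶ A.obj i), S f →
      P'.map f.op (cmp P' A s i) = 0) :
    Hyper.IsSRCovering J' (uK P' A s) := by
  intro j
  obtain ⟨S, hS, hS'⟩ := h j
  refine J'.superset_covering ?_ hS
  intro W f hf
  let x : KillIdx P' A s := ⟨j, W, f, hS' f hf⟩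
  have h := Sieve.ofArrows_mk (fun i : {i : (ZK P' A s).I // (uK P' A s).f i = j} =>
      (ZK P' A s).obj i.1)
    (fun i => (uK P' A s).φ i.1 ≫ eqToHom (congrArg A.obj i.2)) ⟨x, rfl⟩
  have e : (uK P' A s).φ x ≫ eqToHom (congrArg A.obj (rfl : (uK P' A s).f x = j)) = f := by
    rw [eqToHom_refl, Category.comp_id]
    rfl
  exact e ▸ h

end General

section LocallyZero

variable {C : Type u} [SmallCategory C] (J : GrothendieckTopology C)

/-- sections of a presheaf with zero sheafification vanish locally -/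
theorem locally_zero (N : Cᵒᵖ ⥤ AddCommGrpCat.{u})
    (hN : IsZero ((presheafToSheaf J AddCommGrpCat.{u}).obj N)) {U : C} (t : N.obj (op U)) :
    ∃ S ∈ J U, ∀ ⦃V : C⦄ (f : V ⟶ U), S f → N.map f.op t = 0 := by
  have hz : (toSheafify J N).app (op U) t = (toSheafify J N).app (op U) 0 := by
    have h1 : (𝟙 ((presheafToSheaf J AddCommGrpCat.{u}).obj N)) = 0 := hN.eq_of_src _ _
    have h2 : ∀ y : ((presheafToSheaf J AddCommGrpCat.{u}).obj N).obj.obj (op U), y = 0 := by
      intro y
      have h3 := ConcreteCategory.congr_hom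
        (congrArg (fun φ : (presheafToSheaf J AddCommGrpCat.{u}).obj N ⟶
          (presheafToSheaf J AddCommGrpCat.{u}).obj N => φ.hom.app (op U)) h1) y
      exact h3
    exact (h2 _).trans (h2 _).symm
  refine ⟨_, Presheaf.equalizerSieve_mem J (toSheafify J N) _ _ hz, ?_⟩
  intro V f hf
  have hf' : N.map f.op t = N.map f.op 0 := hf
  rw [hf', map_zero]

variable {J} in
/-- the same over `X` -/
theorem locally_zero_over (X : C) (N : Cᵒᵖ ⥤ AddCommGrpCat.{u})
    (hN : IsZero ((presheafToSheaf J AddCommGrpCat.{u}).obj N)) (Y : Over X)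
    (t : ((Over.forget X).op ⋙ N).obj (op Y)) :
    ∃ S ∈ (J.over X) Y, ∀ ⦃W : Over X⦄ (f : W ⟶ Y), S f →
      ((Over.forget X).op ⋙ N).map f.op t = 0 := by
  obtain ⟨S, hS, hS'⟩ := locally_zero J N hN (U := Y.left) t
  refine ⟨(Sieve.overEquiv Y).symm S, J.overEquiv_symm_mem_over Y S hS, ?_⟩
  intro W f hf
  exact hS' f.left ((Sieve.overEquiv_symm_iff S f).1 hf)

end LocallyZero

section Main

variable {C : Type u} [SmallCategory C] {X : C}

/-- a class whose representing cocycle pulls back to the zero cochain dies -/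
theorem cechHMap_eq_zero_of_cochain {K L : SimplicialObject (FormalCoproduct.{u} (Over X))}
    (f : L ⟶ K) (N : Cᵒᵖ ⥤ AddCommGrpCat.{u}) (p : ℕ) (z : (Hyper.cechCx X K N).cycles p)
    (h : (EV ((Over.forget X).op ⋙ N)).map (f.app (op ⦋p⦌)).op
      ((Hyper.cechCx X K N).iCycles p z) = 0) :
    Hyper.cechHMap X f N p ((Hyper.cechCx X K N).homologyπ p z) = 0 := by
  have nat := ConcreteCategory.congr_hom
    (HomologicalComplex.homologyπ_naturality (Hyper.cechMap X f N) p) z
  rw [CategoryTheory.comp_apply, CategoryTheory.comp_apply] at nat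
  have hz : HomologicalComplex.cyclesMap (Hyper.cechMap X f N) p z = 0 := by
    have hinj : Function.Injective ((Hyper.cechCx X L N).iCycles p) :=
      (AddCommGrpCat.mono_iff_injective _).1 inferInstance
    apply hinj
    have h2 := ConcreteCategory.congr_hom
      (HomologicalComplex.cyclesMap_i (Hyper.cechMap X f N) p) z
    rw [CategoryTheory.comp_apply, CategoryTheory.comp_apply] at h2
    rw [h2, map_zero]
    exact h
  change (HomologicalComplex.homologyMap (Hyper.cechMap X f N) p)
    ((Hyper.cechCx X K N).homologyπ p z) = 0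
  rw [nat, hz, map_zero]

variable [HasPullbacks C] {J : GrothendieckTopology C}
  [∀ (n : ℕ) (F : (SimplexCategory.Truncated n)ᵒᵖ ⥤ FormalCoproduct.{u} (Over X)),
      (SimplexCategory.Truncated.inclusion n).op.HasRightKanExtension F]

/-- **Čech classes of a presheaf with zero sheafification die after refining the hypercovering.** -/
theorem exists_kill (K : SimplicialObject (FormalCoproduct.{u} (Over X)))
    (hK : Hyper.IsHypercovering J X K)
    (N : Cᵒᵖ ⥤ AddCommGrpCat.{u}) (hN : IsZero ((presheafToSheaf J AddCommGrpCat.{u}).obj N))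
    (p : ℕ) (ξ : Hyper.cechH X K N p) :
    ∃ (L : SimplicialObject (FormalCoproduct.{u} (Over X))) (f : L ⟶ K),
      Hyper.IsHypercovering J X L ∧ Hyper.cechHMap X f N p ξ = 0 := by
  have hsurj : Function.Surjective ((Hyper.cechCx X K N).homologyπ p) :=
    (AddCommGrpCat.epi_iff_surjective _).1 inferInstance
  obtain ⟨z, rfl⟩ := hsurj ξ
  let P' := (Over.forget X).op ⋙ N
  let s : (EV P').obj (op (K.obj (op ⦋p⦌))) := (Hyper.cechCx X K N).iCycles p z
  obtain ⟨L, f, g, hL, hg⟩ := exists_refinement K hK p (ZK P' _ s) (uK P' _ s)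
    (isSRCovering_uK (J.over X) s
      (fun i => locally_zero_over X N hN ((K.obj (op ⦋p⦌)).obj i) (cmp P' _ s i)))
  refine ⟨L, f, hL, cechHMap_eq_zero_of_cochain f N p z ?_⟩
  change (EV P').map (f.app (op ⦋p⦌)).op s = 0
  rw [← hg, op_comp, Functor.map_comp, CategoryTheory.comp_apply, ev_uK, map_zero]

end Main

end Groth.Agent.R2.H38.HypKill
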