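import Groth.Agent.R2.H38HypFlag

/-!
# Fibre products of hypercoverings (helper38)
-/

set_option autoImplicit false

open CategoryTheory Opposite Limits Simplicial

universe u

namespace Groth.Agent.R2.H38.HypPull

open Groth.Agent.R2.H38.HypFC Groth.Agent.R2.H38.HypConv

section CoskBoundary

universe v₁ u₁ w

variable {E : Type u₁} [Category.{v₁} E] [HasCoproducts.{w} E]
variable (K : SimplicialObject E) {W : E} {N : ℕ} (β : Fin (N + 2) → (W ⟶ K.obj (op ⦋N⦌)))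

/-- **Maps into the coskeleton with prescribed boundaries.** -/
theorem exists_cosk_boundary_gen
    [∀ (F : (SimplexCategory.Truncated N)ᵒᵖ ⥤ E),
      (SimplexCategory.Truncated.inclusion N).op.HasRightKanExtension F]
    (hind : Indep K β) :
    ∃ σ : W ⟶ ((SimplicialObject.Truncated.cosk N).obj
        ((SimplicialObject.truncation N).obj K)).obj (op ⦋N + 1⦌),
      ∀ i : Fin (N + 2), σ ≫ ((SimplicialObject.Truncated.cosk N).obj
        ((SimplicialObject.truncation N).obj K)).map (SimplexCategory.δ i).op ≫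
        ((SimplicialObject.coskAdj N).counit.app ((SimplicialObject.truncation N).obj K)).app
          (op ⟨⦋N⦌, le_rfl⟩) = β i := by
  let adj := SimplicialObject.coskAdj (C := E) N
  let skK := (SimplicialObject.truncation N).obj K
  let K' : SimplicialObject E := (SimplicialObject.Truncated.cosk N).obj skK
  let φ : tens.{v₁, u₁, w} W (N + 1) ⟶ K' :=
    adj.homEquiv (tens.{v₁, u₁, w} W (N + 1)) skK (gam.{v₁, u₁, w} K β hind)
  refine ⟨yon.{v₁, u₁, w} W (N + 1) (𝟙 _) ≫ φ.app (op ⦋N + 1⦌), ?_⟩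
  intro i
  let Δ₀ : (SimplexCategory.Truncated N)ᵒᵖ := op ⟨⦋N⦌, le_rfl⟩
  let e₀ : K'.obj (op ⦋N⦌) ⟶ K.obj (op ⦋N⦌) := (adj.counit.app skK).app Δ₀
  let g₀ : (tens.{v₁, u₁, w} W (N + 1)).obj (op ⦋N⦌) ⟶ K.obj (op ⦋N⦌) :=
    (gam.{v₁, u₁, w} K β hind).app Δ₀
  have hφ : φ.app (op ⦋N⦌) ≫ e₀ = g₀ := by
    have h1 : (adj.homEquiv _ _).symm φ = gam.{v₁, u₁, w} K β hind := Equiv.symm_apply_apply _ _
    rw [Adjunction.homEquiv_counit] at h1
    exact congrArg (fun ψ => ψ.app Δ₀) h1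
  have hlast : yon.{v₁, u₁, w} W (N + 1) (SimplexCategory.δ i) ≫ g₀ = β i :=
    (yon_gam K β hind le_rfl (SimplexCategory.δ i)).trans (gmap_δ K β hind i)
  have hyon : yon.{v₁, u₁, w} W (N + 1) (SimplexCategory.δ i) ≫ φ.app (op ⦋N⦌) =
      yon.{v₁, u₁, w} W (N + 1) (𝟙 _) ≫ φ.app (op ⦋N + 1⦌) ≫ K'.map (SimplexCategory.δ i).op :=
    yon_app φ (SimplexCategory.δ i)
  change (yon.{v₁, u₁, w} W (N + 1) (𝟙 _) ≫ φ.app (op ⦋N + 1⦌)) ≫
    K'.map (SimplexCategory.δ i).op ≫ e₀ = β i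
  calc (yon.{v₁, u₁, w} W (N + 1) (𝟙 _) ≫ φ.app (op ⦋N + 1⦌)) ≫
        K'.map (SimplexCategory.δ i).op ≫ e₀
      = (yon.{v₁, u₁, w} W (N + 1) (𝟙 _) ≫ φ.app (op ⦋N + 1⦌) ≫
          K'.map (SimplexCategory.δ i).op) ≫ e₀ := by simp only [Category.assoc]
    _ = (yon.{v₁, u₁, w} W (N + 1) (SimplexCategory.δ i) ≫ φ.app (op ⦋N⦌)) ≫ e₀ := by rw [hyon]
    _ = yon.{v₁, u₁, w} W (N + 1) (SimplexCategory.δ i) ≫ g₀ := by rw [Category.assoc, hφ]
    _ = β i := hlast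

omit [HasCoproducts.{w} E] in
theorem indep_zero (β : Fin 2 → (W ⟶ K.obj (op ⦋0⦌))) : Indep (N := 0) K β := by
  intro m α i j hi hj
  have hij : i = j := by
    by_contra hne
    have h0 := hi 0
    have h1 := hj 0
    have : ∀ x : Fin 2, x = i ∨ x = j := by
      intro x
      fin_cases x <;> fin_cases i <;> fin_cases j <;> simp_all
    rcases this (α.toOrderHom 0) with h | h
    · exact h0 h
    · exact h1 h
  subst hij
  rfl

omit [HasCoproducts.{w} E] in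
theorem indep_succ {n : ℕ} (β : Fin (n + 3) → (W ⟶ K.obj (op ⦋n + 1⦌)))
    (hβ : ∀ i j : Fin (n + 2), i ≤ j → β j.succ ≫ K.δ i = β i.castSucc ≫ K.δ j) :
    Indep (N := n + 1) K β :=
  fun α i j hi hj => gmap_indep K β hβ α i j hi hj

omit [HasCoproducts.{w} E] in
/-- the boundary of the unit -/
theorem unit_face
    [∀ (F : (SimplexCategory.Truncated N)ᵒᵖ ⥤ E),
      (SimplexCategory.Truncated.inclusion N).op.HasRightKanExtension F] (i : Fin (N + 2)) :
    ((SimplicialObject.coskAdj N).unit.app K).app (op ⦋N + 1⦌) ≫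
      ((SimplicialObject.Truncated.cosk N).obj
        ((SimplicialObject.truncation N).obj K)).map (SimplexCategory.δ i).op ≫
      ((SimplicialObject.coskAdj N).counit.app ((SimplicialObject.truncation N).obj K)).app
        (op ⟨⦋N⦌, le_rfl⟩) = K.δ i := by
  let adj := SimplicialObject.coskAdj (C := E) N
  let skK := (SimplicialObject.truncation N).obj K
  let K' : SimplicialObject E := (SimplicialObject.Truncated.cosk N).obj skK
  let Δ₀ : (SimplexCategory.Truncated N)ᵒᵖ := op ⟨⦋N⦌, le_rfl⟩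
  let e₀ : K'.obj (op ⦋N⦌) ⟶ K.obj (op ⦋N⦌) := (adj.counit.app skK).app Δ₀
  let η₁ : K.obj (op ⦋N⦌) ⟶ K'.obj (op ⦋N⦌) := (adj.unit.app K).app (op ⦋N⦌)
  let η₂ : K.obj (op ⦋N + 1⦌) ⟶ K'.obj (op ⦋N + 1⦌) := (adj.unit.app K).app (op ⦋N + 1⦌)
  have htri : η₁ ≫ e₀ = 𝟙 (K.obj (op ⦋N⦌)) :=
    congrArg (fun ψ => ψ.app Δ₀) (adj.left_triangle_components K)
  have hnat : K.δ i ≫ η₁ = η₂ ≫ K'.map (SimplexCategory.δ i).op :=
    (adj.unit.app K).naturality (SimplexCategory.δ i).op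
  change η₂ ≫ K'.map (SimplexCategory.δ i).op ≫ e₀ = K.δ i
  calc η₂ ≫ K'.map (SimplexCategory.δ i).op ≫ e₀
      = (η₂ ≫ K'.map (SimplexCategory.δ i).op) ≫ e₀ := (Category.assoc _ _ _).symm
    _ = (K.δ i ≫ η₁) ≫ e₀ := by rw [hnat]
    _ = K.δ i := by rw [Category.assoc, htri, Category.comp_id]

omit [HasCoproducts.{w} E] in
/-- the boundary of the coskeleton of a map -/
theorem coskMap_face {K L : SimplicialObject E} (b : K ⟶ L)
    [∀ (F : (SimplexCategory.Truncated N)ᵒᵖ ⥤ E),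
      (SimplexCategory.Truncated.inclusion N).op.HasRightKanExtension F] (i : Fin (N + 2)) :
    ((SimplicialObject.truncation N ⋙ SimplicialObject.Truncated.cosk N).map b).app
        (op ⦋N + 1⦌) ≫
      ((SimplicialObject.Truncated.cosk N).obj
        ((SimplicialObject.truncation N).obj L)).map (SimplexCategory.δ i).op ≫
      ((SimplicialObject.coskAdj N).counit.app ((SimplicialObject.truncation N).obj L)).app
        (op ⟨⦋N⦌, le_rfl⟩) =
    ((SimplicialObject.Truncated.cosk N).obj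
        ((SimplicialObject.truncation N).obj K)).map (SimplexCategory.δ i).op ≫
      ((SimplicialObject.coskAdj N).counit.app ((SimplicialObject.truncation N).obj K)).app
        (op ⟨⦋N⦌, le_rfl⟩) ≫ b.app (op ⦋N⦌) := by
  let adj := SimplicialObject.coskAdj (C := E) N
  let skK := (SimplicialObject.truncation N).obj K
  let skL := (SimplicialObject.truncation N).obj L
  let K' : SimplicialObject E := (SimplicialObject.Truncated.cosk N).obj skK
  let L' : SimplicialObject E := (SimplicialObject.Truncated.cosk N).obj skL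
  let cb : K' ⟶ L' := (SimplicialObject.truncation N ⋙ SimplicialObject.Truncated.cosk N).map b
  let Δ₀ : (SimplexCategory.Truncated N)ᵒᵖ := op ⟨⦋N⦌, le_rfl⟩
  let eK : K'.obj (op ⦋N⦌) ⟶ K.obj (op ⦋N⦌) := (adj.counit.app skK).app Δ₀
  let eL : L'.obj (op ⦋N⦌) ⟶ L.obj (op ⦋N⦌) := (adj.counit.app skL).app Δ₀
  have h1 : cb.app (op ⦋N + 1⦌) ≫ L'.map (SimplexCategory.δ i).op =
      K'.map (SimplexCategory.δ i).op ≫ cb.app (op ⦋N⦌) :=
    (cb.naturality (SimplexCategory.δ i).op).symm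
  have h2 : cb.app (op ⦋N⦌) ≫ eL = eK ≫ b.app (op ⦋N⦌) :=
    congrArg (fun ψ => ψ.app Δ₀) (adj.counit.naturality ((SimplicialObject.truncation N).map b))
  change cb.app (op ⦋N + 1⦌) ≫ L'.map (SimplexCategory.δ i).op ≫ eL =
    K'.map (SimplexCategory.δ i).op ≫ eK ≫ b.app (op ⦋N⦌)
  calc cb.app (op ⦋N + 1⦌) ≫ L'.map (SimplexCategory.δ i).op ≫ eL
      = (cb.app (op ⦋N + 1⦌) ≫ L'.map (SimplexCategory.δ i).op) ≫ eL :=
        (Category.assoc _ _ _).symm
    _ = (K'.map (SimplexCategory.δ i).op ≫ cb.app (op ⦋N⦌)) ≫ eL := by rw [h1]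
    _ = K'.map (SimplexCategory.δ i).op ≫ eK ≫ b.app (op ⦋N⦌) := by
        rw [Category.assoc, h2]

end CoskBoundary

section Lifts

variable {D : Type u} [SmallCategory D] (J' : GrothendieckTopology D)

/-- sections locally lift along a covering morphism of formal coproducts -/
theorem locally_lifts_of_isSRCovering {K' L' : FormalCoproduct.{u} D} (f : K' ⟶ L')
    (hf : Hyper.IsSRCovering J' f) {U : D} (σ : (FormalCoproduct.incl D).obj U ⟶ L') :
    ∃ S ∈ J' U, ∀ ⦃V : D⦄ (h : V ⟶ U), S h →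
      ∃ τ : (FormalCoproduct.incl D).obj V ⟶ K', τ ≫ f = (FormalCoproduct.incl D).map h ≫ σ := by
  refine ⟨_, J'.pullback_stable (σ.φ PUnit.unit) (hf (σ.f PUnit.unit)), ?_⟩
  intro V h hh
  obtain ⟨i, a, hia⟩ := (Sieve.mem_ofArrows_iff _ _ _).1 hh
  refine ⟨FormalCoproduct.Hom.fromIncl i.1 a, ?_⟩
  refine Groth.Agent.R2.H38.HypFlag.fromIncl_ext _ _ i.2 ?_
  exact (Category.assoc _ _ _).trans hia.symm

end Lifts

section Pull

variable {D : Type u} [SmallCategory D] [HasPullbacks D] {J' : GrothendieckTopology D}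
  {K L M P : SimplicialObject (FormalCoproduct.{u} D)} (a : K ⟶ L) (b : M ⟶ L)
  (p1 : P ⟶ K) (p2 : P ⟶ M)

/-- local lifting of boundaries for a fibre product `P = K ×_L M` -/
theorem liftB_pullback (hP : IsPullback p1 p2 a b) (N : ℕ)
    [∀ (F : (SimplexCategory.Truncated N)ᵒᵖ ⥤ FormalCoproduct.{u} D),
      (SimplexCategory.Truncated.inclusion N).op.HasRightKanExtension F]
    (hγ : ∀ (Q : FormalCoproduct.{u} D) (q1 : Q ⟶ L.obj (op ⦋N + 1⦌))
      (q2 : Q ⟶ ((SimplicialObject.truncation N ⋙ SimplicialObject.Truncated.cosk N).obj M).obj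
        (op ⦋N + 1⦌))
      (γ : M.obj (op ⦋N + 1⦌) ⟶ Q),
      IsPullback q1 q2 (((SimplicialObject.coskAdj N).unit.app L).app (op ⦋N + 1⦌))
        (((SimplicialObject.truncation N ⋙ SimplicialObject.Truncated.cosk N).map b).app
          (op ⦋N + 1⦌)) →
      γ ≫ q1 = b.app (op ⦋N + 1⦌) →
      γ ≫ q2 = ((SimplicialObject.coskAdj N).unit.app M).app (op ⦋N + 1⦌) →
      Hyper.IsSRCovering J' γ)
    (Good : ∀ {U : D}, (Fin (N + 2) → ((FormalCoproduct.incl D).obj U ⟶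
      P.obj (op ⦋N⦌))) → Prop)
    (hK' : ∀ {U : D} (β : Fin (N + 2) → ((FormalCoproduct.incl D).obj U ⟶ P.obj (op ⦋N⦌))),
      Good β → ∃ S ∈ J' U, ∀ ⦃V : D⦄ (f : V ⟶ U), S f →
        ∃ κ : (FormalCoproduct.incl D).obj V ⟶ K.obj (op ⦋N + 1⦌),
          ∀ i, κ ≫ K.δ i = (FormalCoproduct.incl D).map f ≫ β i ≫ p1.app (op ⦋N⦌))
    (hM' : ∀ {U : D} (β : Fin (N + 2) → ((FormalCoproduct.incl D).obj U ⟶ P.obj (op ⦋N⦌))),
      Good β → Indep M (fun i => β i ≫ p2.app (op ⦋N⦌))) :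
    LiftB J' P N Good := by
  intro U β hβ
  obtain ⟨σM, hσM⟩ := exists_cosk_boundary_gen.{u, u + 1, u} M
    (fun i => β i ≫ p2.app (op ⦋N⦌)) (hM' β hβ)
  obtain ⟨S₁, hS₁, hS₁'⟩ := hK' β hβ
  let R : Sieve U :=
    { arrows := fun V f => ∃ τ : (FormalCoproduct.incl D).obj V ⟶ P.obj (op ⦋N + 1⦌),
        ∀ i, τ ≫ P.δ i = (FormalCoproduct.incl D).map f ≫ β i
      downward_closed := by
        rintro V V' f ⟨τ, hτ⟩ g
        refine ⟨(FormalCoproduct.incl D).map g ≫ τ, fun i => ?_⟩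
        rw [Category.assoc, hτ i, Functor.map_comp, Category.assoc] }
  refine ⟨R, ?_, fun V f hf => hf⟩
  refine J'.transitive hS₁ R ?_
  intro V f hf
  obtain ⟨κ, hκ⟩ := hS₁' f hf
  -- the pullback squares levelwise
  have hP0 : IsPullback (p1.app (op ⦋N⦌)) (p2.app (op ⦋N⦌)) (a.app (op ⦋N⦌)) (b.app (op ⦋N⦌)) :=
    hP.map ((evaluation _ _).obj (op ⦋N⦌))
  have hP1 : IsPullback (p1.app (op ⦋N + 1⦌)) (p2.app (op ⦋N + 1⦌)) (a.app (op ⦋N + 1⦌))
      (b.app (op ⦋N + 1⦌)) :=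
    hP.map ((evaluation _ _).obj (op ⦋N + 1⦌))
  let E' := FormalCoproduct.{u} D
  let K'L : SimplicialObject E' :=
    (SimplicialObject.Truncated.cosk N).obj ((SimplicialObject.truncation N).obj L)
  let K'M : SimplicialObject E' :=
    (SimplicialObject.Truncated.cosk N).obj ((SimplicialObject.truncation N).obj M)
  let uL : L.obj (op ⦋N + 1⦌) ⟶ K'L.obj (op ⦋N + 1⦌) :=
    ((SimplicialObject.coskAdj N).unit.app L).app (op ⦋N + 1⦌)
  let uM : M.obj (op ⦋N + 1⦌) ⟶ K'M.obj (op ⦋N + 1⦌) :=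
    ((SimplicialObject.coskAdj N).unit.app M).app (op ⦋N + 1⦌)
  let cb : K'M.obj (op ⦋N + 1⦌) ⟶ K'L.obj (op ⦋N + 1⦌) :=
    ((SimplicialObject.truncation N ⋙ SimplicialObject.Truncated.cosk N).map b).app (op ⦋N + 1⦌)
  let dL : Fin (N + 2) → (K'L.obj (op ⦋N + 1⦌) ⟶ L.obj (op ⦋N⦌)) := fun i =>
    K'L.map (SimplexCategory.δ i).op ≫
      ((SimplicialObject.coskAdj N).counit.app ((SimplicialObject.truncation N).obj L)).app
        (op ⟨⦋N⦌, le_rfl⟩)
  let dM : Fin (N + 2) → (K'M.obj (op ⦋N + 1⦌) ⟶ M.obj (op ⦋N⦌)) := fun i =>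
    K'M.map (SimplexCategory.δ i).op ≫
      ((SimplicialObject.coskAdj N).counit.app ((SimplicialObject.truncation N).obj M)).app
        (op ⟨⦋N⦌, le_rfl⟩)
  have h1L : ∀ i, uL ≫ dL i = L.δ i := fun i => unit_face L i
  have h1M : ∀ i, uM ≫ dM i = M.δ i := fun i => unit_face M i
  have h2 : ∀ i, cb ≫ dL i = dM i ≫ b.app (op ⦋N⦌) := fun i =>
    (coskMap_face b i).trans (Category.assoc _ _ _).symm
  have hσM' : ∀ i, σM ≫ dM i = β i ≫ p2.app (op ⦋N⦌) := hσM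
  have hext : ∀ {W : E'} (σ σ' : W ⟶ K'L.obj (op ⦋N + 1⦌)),
      (∀ i, σ ≫ dL i = σ' ≫ dL i) → σ = σ' :=
    fun σ σ' h => cosk_hom_ext.{u, u + 1, u} L σ σ' h
  have h3 : ∀ i, a.app (op ⦋N + 1⦌) ≫ L.δ i = K.δ i ≫ a.app (op ⦋N⦌) := fun i =>
    (a.naturality (SimplexCategory.δ i).op).symm
  have h4 : p1.app (op ⦋N⦌) ≫ a.app (op ⦋N⦌) = p2.app (op ⦋N⦌) ≫ b.app (op ⦋N⦌) := hP0.w
  have hcomp : (κ ≫ a.app (op ⦋N + 1⦌)) ≫ uL = ((FormalCoproduct.incl D).map f ≫ σM) ≫ cb := by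
    apply hext
    intro i
    calc ((κ ≫ a.app (op ⦋N + 1⦌)) ≫ uL) ≫ dL i
        = (κ ≫ a.app (op ⦋N + 1⦌)) ≫ (uL ≫ dL i) := Category.assoc _ _ _
      _ = (κ ≫ a.app (op ⦋N + 1⦌)) ≫ L.δ i := by rw [h1L]
      _ = (κ ≫ K.δ i) ≫ a.app (op ⦋N⦌) := by rw [Category.assoc, h3, Category.assoc]
      _ = (FormalCoproduct.incl D).map f ≫ β i ≫ p2.app (op ⦋N⦌) ≫ b.app (op ⦋N⦌) := by
          rw [hκ i]
          simp only [Category.assoc]
          rw [h4]
      _ = ((FormalCoproduct.incl D).map f ≫ σM) ≫ (dM i ≫ b.app (op ⦋N⦌)) := by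
          rw [Category.assoc, ← Category.assoc σM, hσM' i, Category.assoc]
      _ = ((FormalCoproduct.incl D).map f ≫ σM) ≫ (cb ≫ dL i) := by rw [h2]
      _ = (((FormalCoproduct.incl D).map f ≫ σM) ≫ cb) ≫ dL i := (Category.assoc _ _ _).symm
  -- the map to the fibre product `Q` and the covering `γ`
  let ρ : (FormalCoproduct.incl D).obj V ⟶ pullback uL cb :=
    pullback.lift (κ ≫ a.app (op ⦋N + 1⦌)) ((FormalCoproduct.incl D).map f ≫ σM) hcomp
  have hbu : b.app (op ⦋N + 1⦌) ≫ uL = uM ≫ cb :=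
    congrArg (fun ψ => ψ.app (op ⦋N + 1⦌)) ((SimplicialObject.coskAdj N).unit.naturality b)
  let γ : M.obj (op ⦋N + 1⦌) ⟶ pullback uL cb := pullback.lift (b.app (op ⦋N + 1⦌)) uM hbu
  have hγcov : Hyper.IsSRCovering J' γ :=
    hγ (pullback uL cb) (pullback.fst uL cb) (pullback.snd uL cb) γ
      (IsPullback.of_hasPullback uL cb) (pullback.lift_fst _ _ _) (pullback.lift_snd _ _ _)
  obtain ⟨S₂, hS₂, hS₂'⟩ := locally_lifts_of_isSRCovering J' γ hγcov ρ
  refine J'.superset_covering ?_ hS₂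
  intro V' h hh
  obtain ⟨μ, hμ⟩ := hS₂' h hh
  have hμ1 : μ ≫ b.app (op ⦋N + 1⦌) =
      ((FormalCoproduct.incl D).map h ≫ κ) ≫ a.app (op ⦋N + 1⦌) := by
    calc μ ≫ b.app (op ⦋N + 1⦌) = μ ≫ γ ≫ pullback.fst uL cb := by rw [pullback.lift_fst]
      _ = ((FormalCoproduct.incl D).map h ≫ ρ) ≫ pullback.fst uL cb := by
          rw [← Category.assoc, hμ]
      _ = ((FormalCoproduct.incl D).map h ≫ κ) ≫ a.app (op ⦋N + 1⦌) := by
          rw [Category.assoc, pullback.lift_fst, Category.assoc]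
  have hμ2 : μ ≫ uM = (FormalCoproduct.incl D).map h ≫ (FormalCoproduct.incl D).map f ≫ σM := by
    calc μ ≫ uM = μ ≫ γ ≫ pullback.snd uL cb := by rw [pullback.lift_snd]
      _ = ((FormalCoproduct.incl D).map h ≫ ρ) ≫ pullback.snd uL cb := by
          rw [← Category.assoc, hμ]
      _ = (FormalCoproduct.incl D).map h ≫ (FormalCoproduct.incl D).map f ≫ σM := by
          rw [Category.assoc, pullback.lift_snd]
  let τ : (FormalCoproduct.incl D).obj V' ⟶ P.obj (op ⦋N + 1⦌) :=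
    hP1.lift ((FormalCoproduct.incl D).map h ≫ κ) μ hμ1.symm
  have hτ1 : τ ≫ p1.app (op ⦋N + 1⦌) = (FormalCoproduct.incl D).map h ≫ κ := hP1.lift_fst _ _ _
  have hτ2 : τ ≫ p2.app (op ⦋N + 1⦌) = μ := hP1.lift_snd _ _ _
  refine ⟨τ, fun i => ?_⟩
  have hp1 : P.δ i ≫ p1.app (op ⦋N⦌) = p1.app (op ⦋N + 1⦌) ≫ K.δ i :=
    p1.naturality (SimplexCategory.δ i).op
  have hp2 : P.δ i ≫ p2.app (op ⦋N⦌) = p2.app (op ⦋N + 1⦌) ≫ M.δ i :=
    p2.naturality (SimplexCategory.δ i).op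
  apply hP0.hom_ext
  · calc (τ ≫ P.δ i) ≫ p1.app (op ⦋N⦌) = (τ ≫ p1.app (op ⦋N + 1⦌)) ≫ K.δ i := by
          rw [Category.assoc, hp1, Category.assoc]
      _ = (FormalCoproduct.incl D).map h ≫ κ ≫ K.δ i := by rw [hτ1, Category.assoc]
      _ = ((FormalCoproduct.incl D).map (h ≫ f) ≫ β i) ≫ p1.app (op ⦋N⦌) := by
          rw [hκ i, Functor.map_comp]
          simp only [Category.assoc]
  · calc (τ ≫ P.δ i) ≫ p2.app (op ⦋N⦌) = (τ ≫ p2.app (op ⦋N + 1⦌)) ≫ M.δ i := by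
          rw [Category.assoc, hp2, Category.assoc]
      _ = μ ≫ (uM ≫ dM i) := by rw [hτ2, h1M]
      _ = (μ ≫ uM) ≫ dM i := (Category.assoc _ _ _).symm
      _ = (FormalCoproduct.incl D).map h ≫ (FormalCoproduct.incl D).map f ≫ σM ≫ dM i := by
          rw [hμ2]
          simp only [Category.assoc]
      _ = ((FormalCoproduct.incl D).map (h ≫ f) ≫ β i) ≫ p2.app (op ⦋N⦌) := by
          rw [hσM' i, Functor.map_comp]
          simp only [Category.assoc]

omit [HasPullbacks D] in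
theorem compat_comp {n : ℕ} {A A' : SimplicialObject (FormalCoproduct.{u} D)} (p : A ⟶ A')
    {U : D} (β : Fin (n + 3) → ((FormalCoproduct.incl D).obj U ⟶ A.obj (op ⦋n + 1⦌)))
    (hβ : Compat A n β) : Compat A' n (fun i => β i ≫ p.app (op ⦋n + 1⦌)) := by
  intro i j hij
  have hp : ∀ k : Fin (n + 2), p.app (op ⦋n + 1⦌) ≫ A'.δ k = A.δ k ≫ p.app (op ⦋n⦌) :=
    fun k => (p.naturality (SimplexCategory.δ k).op).symm
  change (β j.succ ≫ p.app (op ⦋n + 1⦌)) ≫ A'.δ i = (β i.castSucc ≫ p.app (op ⦋n + 1⦌)) ≫ A'.δ j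
  rw [Category.assoc, hp, ← Category.assoc, hβ i j hij, Category.assoc, ← hp, Category.assoc]

end Pull

section Final

open Groth.Agent.R2.H38.HypCone Groth.Agent.R2.H38.HypSite

variable {C : Type u} [SmallCategory C] [HasPullbacks C] {J : GrothendieckTopology C} {X : C}
  [∀ (n : ℕ) (F : (SimplexCategory.Truncated n)ᵒᵖ ⥤ FormalCoproduct.{u} (Over X)),
      (SimplexCategory.Truncated.inclusion n).op.HasRightKanExtension F]
  {K L M P : SimplicialObject (FormalCoproduct.{u} (Over X))} (a : K ⟶ L) (b : M ⟶ L)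
  (p1 : P ⟶ K) (p2 : P ⟶ M)

/-- **A fibre product `K ×_L M` of a hypercovering `K` along a "relative hypercovering" `M → L`
is a hypercovering.** -/
theorem isHypercovering_pullback (hP : IsPullback p1 p2 a b)
    (hK : Hyper.IsHypercovering J X K)
    (h0 : Hyper.IsSRCovering (J.over X) (b.app (op ⦋0⦌)))
    (hγ : ∀ (n : ℕ) (Q : FormalCoproduct.{u} (Over X))
      (q1 : Q ⟶ L.obj (op ⦋n + 1⦌))
      (q2 : Q ⟶ ((SimplicialObject.truncation n ⋙ SimplicialObject.Truncated.cosk n).obj M).obj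
        (op ⦋n + 1⦌))
      (γ : M.obj (op ⦋n + 1⦌) ⟶ Q),
      IsPullback q1 q2 (((SimplicialObject.coskAdj n).unit.app L).app (op ⦋n + 1⦌))
        (((SimplicialObject.truncation n ⋙ SimplicialObject.Truncated.cosk n).map b).app
          (op ⦋n + 1⦌)) →
      γ ≫ q1 = b.app (op ⦋n + 1⦌) →
      γ ≫ q2 = ((SimplicialObject.coskAdj n).unit.app M).app (op ⦋n + 1⦌) →
      Hyper.IsSRCovering (J.over X) γ) :
    Hyper.IsHypercovering J X P := by
  have hKllp : LLP (J.over X) (PK K) (augPt (PK K)) :=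
    llp_of_isHypercoveringSite (Groth.Agent.R2.H38.HypOver.isHypercoveringSite_over hK)
  have hP0 : IsPullback (p1.app (op ⦋0⦌)) (p2.app (op ⦋0⦌)) (a.app (op ⦋0⦌)) (b.app (op ⦋0⦌)) :=
    hP.map ((evaluation _ _).obj (op ⦋0⦌))
  refine isHypercovering_of_llp (llp_of_liftB ?_ ?_ ?_)
  · intro U
    obtain ⟨S₁, hS₁, hS₁'⟩ := hKllp.h0 U PUnit.unit
    let R : Sieve U :=
      { arrows := fun V _ => Nonempty ((FormalCoproduct.incl (Over X)).obj V ⟶ P.obj (op ⦋0⦌))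
        downward_closed := by
          rintro V V' f ⟨τ⟩ g
          exact ⟨(FormalCoproduct.incl (Over X)).map g ≫ τ⟩ }
    refine ⟨R, ?_, fun V f hf => hf⟩
    refine (J.over X).transitive hS₁ R ?_
    intro V f hf
    obtain ⟨x, _⟩ := hS₁' f hf
    let κ := unsec _ V x
    obtain ⟨S₂, hS₂, hS₂'⟩ := locally_lifts_of_isSRCovering (J.over X) _ h0
      (κ ≫ a.app (op ⦋0⦌))
    refine (J.over X).superset_covering ?_ hS₂
    intro V' h hh
    obtain ⟨μ, hμ⟩ := hS₂' h hh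
    exact ⟨hP0.lift ((FormalCoproduct.incl (Over X)).map h ≫ κ) μ
      ((Category.assoc _ _ _).trans hμ.symm)⟩
  · refine liftB_pullback a b p1 p2 hP 0 (hγ 0) (fun _ => True) ?_ ?_
    · intro U β _
      exact liftB_zero hKllp U (fun i => β i ≫ p1.app (op ⦋0⦌)) trivial
    · intro U β _
      exact indep_zero M _
  · intro n
    refine liftB_pullback a b p1 p2 hP (n + 1) (hγ (n + 1)) (Compat P n) ?_ ?_
    · intro U β hβ
      exact liftB_succ hKllp n U (fun i => β i ≫ p1.app (op ⦋n + 1⦌)) (compat_comp p1 β hβ)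
    · intro U β hβ
      exact indep_succ M (fun i => β i ≫ p2.app (op ⦋n + 1⦌))
        (fun i j hij => compat_comp p2 β hβ i j hij)

end Final

end Groth.Agent.R2.H38.HypPull
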