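import Groth.Agent.R2.H38HypCech
import Groth.Agent.R2.H38HypSite
import Groth.Agent.R2.H38DerCos
import Groth.Agent.R2.H38CosExact

/-!
# helper38: `Hom(T, -) ≅ Z⁰ Hom(A_•, -)` naturally, for a simplicial object `A` with an exact
augmentation `A₁ → A₀ → T → 0`.
-/

set_option autoImplicit false
set_option linter.unusedSectionVars false

open CategoryTheory Opposite Limits Simplicial

namespace Groth.Agent.R2.H38.HypSS

open Groth.Agent.R2.H38.HypCech Groth.Agent.R2.H38.DerCos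

section General

universe v₁ u₁

variable {𝒜 : Type u₁} [Category.{v₁} 𝒜] [Abelian 𝒜] (A : SimplicialObject 𝒜)

/-- `G ↦ Hom(A_•, G)` as a functor to cosimplicial abelian groups. -/
noncomputable abbrev HomCos : 𝒜 ⥤ (SimplexCategory ⥤ AddCommGrpCat.{v₁}) :=
  preadditiveYoneda ⋙ (Functor.whiskeringLeft _ _ _).obj A.rightOp

example (G : 𝒜) : (HomCos A).obj G = homCos A G := rfl

variable {T : 𝒜} (ε : A.obj (op ⦋0⦌) ⟶ T)

/-- precomposition with the augmentation. -/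
noncomputable def ρ (G : 𝒜) : AddCommGrpCat.of (T ⟶ G) ⟶ (homCx A G).X 0 :=
  (preadditiveYoneda.obj G).map ε.op

theorem ρ_apply (G : 𝒜) (χ : T ⟶ G) : ρ A ε G χ = ε ≫ χ := rfl

variable (w : ((AlgebraicTopology.alternatingFaceMapComplex 𝒜).obj A).d 1 0 ≫ ε = 0)

include w in
theorem ρ_d (G : 𝒜) : ρ A ε G ≫ (homCx A G).d 0 1 = 0 := by
  ext χ
  change (homCx A G).d 0 1 (ρ A ε G χ) = 0
  rw [homCx_d_apply, ρ_apply, ← Category.assoc, w, zero_comp]
  rfl

variable (hex : (ShortComplex.mk _ ε w).Exact) [Epi ε]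

include hex in
theorem ρ_exact (G : 𝒜) :
    (ShortComplex.mk (ρ A ε G) ((homCx A G).d 0 1) (ρ_d A ε w G)).Exact := by
  rw [ShortComplex.ab_exact_iff]
  intro ψ hψ
  change A.obj (op ⦋0⦌) ⟶ G at ψ
  have hψ' : (homCx A G).d 0 1 ψ = 0 := hψ
  rw [homCx_d_apply] at hψ'
  exact ⟨hex.desc ψ hψ', hex.g_desc ψ hψ'⟩

theorem ρ_mono (G : 𝒜) : Mono (ρ A ε G) := by
  rw [AddCommGrpCat.mono_iff_injective]
  intro χ χ' hχ
  have : ε ≫ χ = ε ≫ χ' := hχ
  exact (cancel_epi ε).1 this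

/-- `Hom(T, G)` is the kernel of `Hom(A₀, G) → Hom(A₁, G)`. -/
noncomputable def ρIsKernel (G : 𝒜) :
    IsLimit (KernelFork.ofι (ρ A ε G) (ρ_d A ε w G)) :=
  have := ρ_mono A ε G
  (ρ_exact A ε w hex G).fIsKernel

/-- `Hom(T, G) ≅ Z⁰ Hom(A_•, G)`. -/
noncomputable def z0Iso (G : 𝒜) : AddCommGrpCat.of (T ⟶ G) ≅ (homCx A G).cycles 0 :=
  IsLimit.conePointUniqueUpToIso (ρIsKernel A ε w hex G)
    ((homCx A G).cyclesIsKernel 0 1 (by simp))

theorem z0Iso_hom_i (G : 𝒜) :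
    (z0Iso A ε w hex G).hom ≫ (homCx A G).iCycles 0 = ρ A ε G :=
  IsLimit.conePointUniqueUpToIso_hom_comp (ρIsKernel A ε w hex G)
    ((homCx A G).cyclesIsKernel 0 1 (by simp)) WalkingParallelPair.zero

/-- `G ↦ Z⁰ Hom(A_•, G)`. -/
noncomputable abbrev Z0Hom : 𝒜 ⥤ AddCommGrpCat.{v₁} :=
  HomCos A ⋙ DerCx.Z (N AddCommGrpCat.{v₁}) 0

/-- the inclusion of cocycles, typed via the functors. -/
noncomputable def iZ (G : 𝒜) : (Z0Hom A).obj G ⟶ ((HomCos A).obj G).obj ⦋0⦌ :=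
  (homCx A G).iCycles 0

instance (G : 𝒜) : Mono (iZ A G) := inferInstanceAs (Mono ((homCx A G).iCycles 0))

/-- `ρ`, typed via the functors. -/
noncomputable def ρ' (G : 𝒜) :
    (preadditiveCoyoneda.obj (op T)).obj G ⟶ ((HomCos A).obj G).obj ⦋0⦌ :=
  ρ A ε G

/-- `z0Iso`, typed via the functors. -/
noncomputable def z0Iso' (G : 𝒜) :
    (preadditiveCoyoneda.obj (op T)).obj G ≅ (Z0Hom A).obj G :=
  z0Iso A ε w hex G

theorem z0Iso'_hom_i (G : 𝒜) : (z0Iso' A ε w hex G).hom ≫ iZ A G = ρ' A ε G :=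
  z0Iso_hom_i A ε w hex G

theorem Z0Hom_map_i {G G' : 𝒜} (g : G ⟶ G') :
    (Z0Hom A).map g ≫ iZ A G' = iZ A G ≫ ((HomCos A).map g).app ⦋0⦌ :=
  HomologicalComplex.cyclesMap_i ((N AddCommGrpCat.{v₁}).map ((HomCos A).map g)) 0

theorem ρ'_naturality {G G' : 𝒜} (g : G ⟶ G') :
    (preadditiveCoyoneda.obj (op T)).map g ≫ ρ' A ε G' =
      ρ' A ε G ≫ ((HomCos A).map g).app ⦋0⦌ := by
  ext χ
  exact (Category.assoc ε χ g).symm

theorem z0Iso'_naturality {G G' : 𝒜} (g : G ⟶ G') :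
    (preadditiveCoyoneda.obj (op T)).map g ≫ (z0Iso' A ε w hex G').hom =
      (z0Iso' A ε w hex G).hom ≫ (Z0Hom A).map g := by
  rw [← cancel_mono (iZ A G'), Category.assoc, Category.assoc, z0Iso'_hom_i, Z0Hom_map_i,
    ← Category.assoc, z0Iso'_hom_i]
  exact ρ'_naturality A ε g

/-- `Hom(T, -) ≅ Z⁰ Hom(A_•, -)`. -/
noncomputable def homZ0Iso : preadditiveCoyoneda.obj (op T) ≅ Z0Hom A :=
  NatIso.ofComponents (fun G => z0Iso' A ε w hex G) (fun g => z0Iso'_naturality A ε w hex g)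

end General

section Site

universe u

variable {C : Type u} [SmallCategory C] (J : GrothendieckTopology C)
  (K : SimplicialObject (FormalCoproduct.{u} C))

/-- the Čech cosimplicial group functor on sheaves. -/
noncomputable abbrev TT : Sheaf J AddCommGrpCat.{u} ⥤ (SimplexCategory ⥤ AddCommGrpCat.{u}) :=
  sheafToPresheaf J AddCommGrpCat.{u} ⋙ CosExact.cosK K

/-- `Z⁰` of the coface complex. -/
noncomputable abbrev SS : (SimplexCategory ⥤ AddCommGrpCat.{u}) ⥤ AddCommGrpCat.{u} :=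
  DerCx.Z (N AddCommGrpCat.{u}) 0

theorem Psi_natural_right {G G' : Sheaf J AddCommGrpCat.{u}} (g : G ⟶ G')
    (X : FormalCoproduct.{u} C) :
    (preadditiveYoneda.map g).app (op ((ZF J).obj X)) ≫ Psi J G' X =
      Psi J G X ≫ ((FormalCoproduct.evalOp C AddCommGrpCat.{u}).map g.hom).app (op X) := by
  apply Pi.hom_ext
  intro i
  ext ψ
  change (ZF J).obj X ⟶ G at ψ
  have h1 : (Psi J G X ≫ ((FormalCoproduct.evalOp C AddCommGrpCat.{u}).map g.hom).app (op X)) ≫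
      Pi.π (fun i : X.I => G'.obj.obj (op (X.obj i))) i =
      Psi J G X ≫ Pi.π (fun i : X.I => G.obj.obj (op (X.obj i))) i ≫
        g.hom.app (op (X.obj i)) := by
    rw [Category.assoc]
    congr 1
    exact Pi.map_π (fun i : X.I => g.hom.app (op (X.obj i))) i
  have h2 := ConcreteCategory.congr_hom h1 ψ
  refine Eq.trans ?_ h2.symm
  have hL : (((preadditiveYoneda.map g).app (op ((ZF J).obj X)) ≫ Psi J G' X) ≫
      Pi.π (fun i : X.I => G'.obj.obj (op (X.obj i))) i) ψ =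
      Pi.π (fun i : X.I => G'.obj.obj (op (X.obj i))) i (Psi J G' X (ψ ≫ g)) := rfl
  have hR : (Psi J G X ≫ Pi.π (fun i : X.I => G.obj.obj (op (X.obj i))) i ≫
      g.hom.app (op (X.obj i))) ψ =
      g.hom.app (op (X.obj i)) (Pi.π (fun i : X.I => G.obj.obj (op (X.obj i))) i
        (Psi J G X ψ)) := rfl
  refine hL.trans (Eq.trans ?_ hR.symm)
  rw [Psi_π, Psi_π]
  rfl

/-- `Hom(ℤ[F(K_•)]^#, -) ≅` Čech cosimplicial group, naturally. -/
noncomputable def cosIsoNat : HomCos (K ⋙ ZF J) ≅ TT J K :=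
  NatIso.ofComponents (fun G => (cosIso J G K).symm) (fun {G G'} g => by
    ext x : 2
    exact Psi_natural_right J g (K.obj (op x)))

open Groth.Agent.R2.H38.HypSite Groth.Agent.R2.H38.HypCore in
/-- for a hypercovering of the final object, `Hom(ℤ[pt]^#, -) ≅ Z⁰ ∘ Čech`, naturally. -/
theorem nonempty_globIso
    [∀ (n : ℕ) (F : (SimplexCategory.Truncated n)ᵒᵖ ⥤ FormalCoproduct.{u} C),
      (SimplexCategory.Truncated.inclusion n).op.HasRightKanExtension F]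
    (hK : Hyper.IsHypercoveringSite J K) :
    Nonempty (preadditiveCoyoneda.obj
      (op ((presheafToSheaf J AddCommGrpCat.{u}).obj (ptZ C))) ≅ TT J K ⋙ SS) := by
  have h := llp_of_isHypercoveringSite hK
  obtain ⟨w, hex, hepi⟩ := aug_exact_epi J (augPt (PK K)) h
  exact ⟨@homZ0Iso _ _ _ (K ⋙ ZF J) _ (epsSh J (augPt (PK K))) w hex hepi ≪≫
    Functor.isoWhiskerRight (cosIsoNat J K) SS⟩

end Site

end Groth.Agent.R2.H38.HypSS
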