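import Groth.Agent.R2.H38HypSS
import Groth.Agent.R2.H38DerPost
import Groth.Agent.Lib.Helper21GSS
import Groth.Agent.Lib.Helper21SieveSS
import Groth.Agent.Lib.Helper23ExtRD

/-!
# helper38: the Čech-to-cohomology spectral sequence of a hypercovering of the final object
-/

set_option autoImplicit false
set_option linter.unusedSectionVars false

open CategoryTheory Opposite Limits Simplicial Abelian

namespace Groth.Agent.R2.H38.HypSS2

open Groth.Agent.R2.H38.HypCech Groth.Agent.R2.H38.DerCos Groth.Agent.R2.H38.HypSS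
  Groth.Agent.R2.H38.CosExact Groth.Agent.Lib.Helper21.SieveCoh Groth.Agent.Lib.Helper21.SieveSS

universe u

noncomputable instance hasSeparatorCos : HasSeparator (SimplexCategory ⥤ AddCommGrpCat.{u}) :=
  HasSeparator.of_equivalence
    ((opOpEquivalence SimplexCategory).congrLeft (E := AddCommGrpCat.{u}))

instance isGrothendieckAbelianCos :
    IsGrothendieckAbelian.{u} (SimplexCategory ⥤ AddCommGrpCat.{u}) where
  locallySmall := inferInstance
  hasFilteredColimitsOfSize := inferInstance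
  ab5OfSize := ⟨fun _ _ _ => inferInstance⟩
  hasSeparator := inferInstance

variable {C : Type u} [SmallCategory C] (J : GrothendieckTopology C)
  (K : SimplicialObject (FormalCoproduct.{u} C))

/-- `ℤ[pt]^# ≅ ℤ` (constant sheaf). -/
noncomputable def constIso : (presheafToSheaf J AddCommGrpCat.{u}).obj (ptZ C) ≅
    (constantSheaf J AddCommGrpCat.{u}).obj (AddCommGrpCat.of (ULift.{u} ℤ)) :=
  (presheafToSheaf J AddCommGrpCat.{u}).mapIso
    (Functor.constComp _ _ _ ≪≫ (Functor.const Cᵒᵖ).mapIso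
      (AddEquiv.toAddCommGrpIso ((FreeAbelianGroup.uniqueEquiv PUnit.{u + 1}).trans
        AddEquiv.ulift.symm)))

instance : PreservesFiniteLimits (SS.{u}) :=
  DerCx.preservesFiniteLimits_Z (N AddCommGrpCat.{u}) 0

instance : (sheafToPresheaf (⊥ : GrothendieckTopology C) AddCommGrpCat.{u}).IsEquivalence :=
  inferInstanceAs (sheafBotEquivalence (C := C) AddCommGrpCat.{u}).functor.IsEquivalence

/-- the Čech functor on presheaves-as-`⊥`-sheaves. -/
noncomputable abbrev E' : PAb C ⥤ (SimplexCategory ⥤ AddCommGrpCat.{u}) :=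
  sheafToPresheaf (⊥ : GrothendieckTopology C) AddCommGrpCat.{u} ⋙ cosK K

/-- `ι_J ≅ ι ⋙ ι_⊥`. -/
noncomputable def σ : sheafToPresheaf J AddCommGrpCat.{u} ≅
    ι J ⋙ sheafToPresheaf (⊥ : GrothendieckTopology C) AddCommGrpCat.{u} :=
  NatIso.ofComponents (fun G => (Functor.leftUnitor G.obj).symm) (fun {G G'} g => by
    ext U : 2
    exact (Category.comp_id (g.hom.app U)).trans (Category.id_comp (g.hom.app U)).symm)

/-- `TT ≅ ι ⋙ E'`. -/
noncomputable def τ : TT J K ≅ ι J ⋙ E' K :=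
  Functor.isoWhiskerRight (σ J) (cosK K)

theorem hE2 (F : Sheaf J AddCommGrpCat.{u}) (p q : ℕ) :
    Nonempty ((SS.rightDerived p).obj (((TT J K).rightDerived q).obj F) ≅
      (Hyper.cechCxSite K (Sheaf.cohomologyPresheaf F q)).homology p) := by
  obtain ⟨e2⟩ := DerPost.rightDerived_comp_exact (ι J) (E' K) F q
  let e1 := (rightDerivedIso (τ J K) q).app F
  let e3 := (E' K).mapIso (RpushIdIso J F q)
  let eXY : ((TT J K).rightDerived q).obj F ≅ (cosK K).obj (F.cohomologyPresheaf q) :=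
    e1 ≪≫ e2 ≪≫ e3
  obtain ⟨e4⟩ := DerCx.main (N AddCommGrpCat.{u}) (fun Q _ k => exactAt_of_injective Q k)
    ((cosK K).obj (F.cohomologyPresheaf q)) p
  exact ⟨(SS.rightDerived p).mapIso eXY ≪≫ e4⟩

section

variable [∀ (n : ℕ) (F : (SimplexCategory.Truncated n)ᵒᵖ ⥤ FormalCoproduct.{u} C),
      (SimplexCategory.Truncated.inclusion n).op.HasRightKanExtension F]
  (hK : Hyper.IsHypercoveringSite J K)

include hK in
theorem hH (F : Sheaf J AddCommGrpCat.{u}) (n : ℕ) :
    Nonempty (((TT J K ⋙ SS).rightDerived n).obj F ≅ AddCommGrpCat.of (Sheaf.H F n)) := by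
  obtain ⟨θ⟩ := nonempty_globIso J K hK
  obtain ⟨e⟩ := Groth.Agent.Lib.Helper23ExtRD.rightDerived_coyoneda_iso
    ((presheafToSheaf J AddCommGrpCat.{u}).obj (ptZ C)) F n
  exact ⟨(rightDerivedIso θ n).symm.app F ≪≫ e ≪≫ extIsoLeft (constIso J) F n⟩

include hK in
theorem hT (Q : Sheaf J AddCommGrpCat.{u}) (hQ : Injective Q) (q : ℕ) (hq : 0 < q) :
    IsZero ((SS.rightDerived q).obj ((TT J K).obj Q)) := by
  obtain ⟨e⟩ := DerCx.main (N AddCommGrpCat.{u}) (fun Q _ k => exactAt_of_injective Q k)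
    ((TT J K).obj Q) q
  refine IsZero.of_iso ?_ e
  obtain ⟨p, rfl⟩ : ∃ p, q = p + 1 := ⟨q - 1, by omega⟩
  exact (cech_of_llp J Q K _ (HypSite.llp_of_isHypercoveringSite hK)).1 hQ p

include hK in
/-- **The Čech-to-cohomology spectral sequence of a hypercovering of the final object.** -/
theorem spectralSequence (F : Sheaf J AddCommGrpCat.{u}) :
    ∃ (E : E₂CohomologicalSpectralSequence AddCommGrpCat.{u})
      (a : SpSeq.Abutment E (fun n : ℤ => if 0 ≤ n then AddCommGrpCat.of (Sheaf.H F n.toNat)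
        else AddCommGrpCat.of PUnit.{u + 1})),
      (∀ n, a.IsFinite n) ∧ SpSeq.IsBounded E ∧
      ∀ p q : ℤ, Nonempty ((E.page 2 le_rfl).X (p, q) ≅
        (if 0 ≤ p ∧ 0 ≤ q then
          (Hyper.cechCxSite K (Sheaf.cohomologyPresheaf F q.toNat)).homology p.toNat
         else AddCommGrpCat.of PUnit.{u + 1})) := by
  refine Groth.Agent.Lib.Helper21.GSS.gss_general (TT J K) SS
    (fun Q hQ q hq => hT J K hK Q hQ q hq) F _ ?_ ?_
    (fun p q : ℤ => if 0 ≤ p ∧ 0 ≤ q then
      (Hyper.cechCxSite K (Sheaf.cohomologyPresheaf F q.toNat)).homology p.toNat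
      else AddCommGrpCat.of PUnit.{u + 1}) ?_ ?_
  · intro n
    rw [if_pos (Int.natCast_nonneg n), Int.toNat_natCast]
    exact hH J K hK F n
  · intro n hn
    rw [if_neg (by omega)]
    exact AddCommGrpCat.isZero_of_subsingleton _
  · intro p q
    rw [if_pos ⟨Int.natCast_nonneg p, Int.natCast_nonneg q⟩, Int.toNat_natCast,
      Int.toNat_natCast]
    exact hE2 J K F p q
  · intro p q hpq
    rw [if_neg hpq]
    exact AddCommGrpCat.isZero_of_subsingleton _

end

end Groth.Agent.R2.H38.HypSS2
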