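import Mathlib

/-!
# Local quasi-isomorphisms of presheaf complexes become quasi-isomorphisms of sheaves (helper38)

For a morphism `φ : P ⟶ Q` of chain complexes of presheaves of abelian groups on a small site,
if `φ` is "locally injective and locally surjective on homology" (stated with cycles and
boundaries of sections), then the sheafified morphism induces an isomorphism on homology sheaves.
-/

set_option autoImplicit false

open CategoryTheory Opposite Limits

universe u

namespace Groth.Agent.R2.H38.LocQI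

variable {C : Type u} [SmallCategory C] (J : GrothendieckTopology C)

section Sections

/-- sectionwise exactness of an exact short complex of presheaves -/
theorem exact_app (S : ShortComplex (Cᵒᵖ ⥤ AddCommGrpCat.{u})) (hS : S.Exact) (U : Cᵒᵖ)
    (x₂ : S.X₂.obj U) (h : S.g.app U x₂ = 0) : ∃ x₁ : S.X₁.obj U, S.f.app U x₁ = x₂ := by
  have h1 : (S.map ((evaluation Cᵒᵖ AddCommGrpCat.{u}).obj U)).Exact := hS.map _
  rw [ShortComplex.ab_exact_iff] at h1
  exact h1 x₂ h

theorem injective_app_of_mono {F G : Cᵒᵖ ⥤ AddCommGrpCat.{u}} (f : F ⟶ G) [Mono f] (U : Cᵒᵖ) :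
    Function.Injective (f.app U) := by
  have : Mono (f.app U) := inferInstance
  exact (AddCommGrpCat.mono_iff_injective _).1 this

theorem surjective_app_of_epi {F G : Cᵒᵖ ⥤ AddCommGrpCat.{u}} (f : F ⟶ G) [Epi f] (U : Cᵒᵖ) :
    Function.Surjective (f.app U) := by
  have : Epi (f.app U) := inferInstance
  exact (AddCommGrpCat.epi_iff_surjective _).1 this

theorem comp_app_apply {F G H : Cᵒᵖ ⥤ AddCommGrpCat.{u}} (f : F ⟶ G) (g : G ⟶ H) (U : Cᵒᵖ)
    (x : F.obj U) : (f ≫ g).app U x = g.app U (f.app U x) := rfl

theorem eq_app_apply {F G : Cᵒᵖ ⥤ AddCommGrpCat.{u}} {f g : F ⟶ G} (h : f = g) (U : Cᵒᵖ)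
    (x : F.obj U) : f.app U x = g.app U x := by rw [h]

theorem zero_app_apply {F G : Cᵒᵖ ⥤ AddCommGrpCat.{u}} (U : Cᵒᵖ) (x : F.obj U) :
    (0 : F ⟶ G).app U x = 0 := rfl

end Sections

variable {P Q : ChainComplex (Cᵒᵖ ⥤ AddCommGrpCat.{u}) ℕ} (φ : P ⟶ Q)

/-- every cycle (section killed by the differential) lifts to the cycle presheaf -/
theorem exists_cycle (K : ChainComplex (Cᵒᵖ ⥤ AddCommGrpCat.{u}) ℕ) (i : ℕ) (U : Cᵒᵖ)
    (x : (K.X i).obj U) (hx : (K.d i ((ComplexShape.down ℕ).next i)).app U x = 0) :
    ∃ z : (K.cycles i).obj U, (K.iCycles i).app U z = x := by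
  have hex : (ShortComplex.mk (K.iCycles i) (K.d i ((ComplexShape.down ℕ).next i))
      (K.iCycles_d i _)).Exact :=
    ShortComplex.exact_of_f_is_kernel _ (K.cyclesIsKernel i _ rfl)
  exact exact_app _ hex U x hx

/-- a cycle class is zero iff the cycle is a boundary -/
theorem exists_boundary (K : ChainComplex (Cᵒᵖ ⥤ AddCommGrpCat.{u}) ℕ) (i : ℕ) (U : Cᵒᵖ)
    (z : (K.cycles i).obj U) (hz : (K.homologyπ i).app U z = 0) :
    ∃ w : (K.X (i + 1)).obj U, (K.toCycles (i + 1) i).app U w = z := by
  have hex : (ShortComplex.mk (K.toCycles (i + 1) i) (K.homologyπ i)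
      (K.toCycles_comp_homologyπ (i + 1) i)).Exact :=
    ShortComplex.exact_of_g_is_cokernel _ (K.homologyIsCokernel (i + 1) i (by simp))
  exact exact_app _ hex U z hz

/-- **Local criterion for quasi-isomorphisms after sheafification.** -/
theorem isIso_homologyMap_sheafify (i : ℕ)
    (hinj : ∀ (U : C) (x : (P.X i).obj (op U)),
      (P.d i ((ComplexShape.down ℕ).next i)).app (op U) x = 0 →
      ∀ w : (Q.X (i + 1)).obj (op U), (φ.f i).app (op U) x = (Q.d (i + 1) i).app (op U) w →
      ∃ S ∈ J U, ∀ ⦃V : C⦄ (g : V ⟶ U), S g →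
        ∃ v : (P.X (i + 1)).obj (op V), (P.X i).map g.op x = (P.d (i + 1) i).app (op V) v)
    (hsurj : ∀ (U : C) (y : (Q.X i).obj (op U)),
      (Q.d i ((ComplexShape.down ℕ).next i)).app (op U) y = 0 →
      ∃ S ∈ J U, ∀ ⦃V : C⦄ (g : V ⟶ U), S g →
        ∃ x : (P.X i).obj (op V), (P.d i ((ComplexShape.down ℕ).next i)).app (op V) x = 0 ∧
          ∃ w : (Q.X (i + 1)).obj (op V),
            (Q.X i).map g.op y = (φ.f i).app (op V) x + (Q.d (i + 1) i).app (op V) w) :
    IsIso (HomologicalComplex.homologyMap
      (((presheafToSheaf J AddCommGrpCat.{u}).mapHomologicalComplex _).map φ) i) := by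
  let F := presheafToSheaf J AddCommGrpCat.{u}
  let ψ := HomologicalComplex.homologyMap φ i
  -- local injectivity
  have hLI : Presheaf.IsLocallyInjective J ψ := by
    refine ⟨fun {U} a b hab => ?_⟩
    induction U using Opposite.rec with
    | op U =>
    obtain ⟨z, hz⟩ := surjective_app_of_epi (P.homologyπ i) (op U) (a - b)
    have hx : (P.d i ((ComplexShape.down ℕ).next i)).app (op U) ((P.iCycles i).app (op U) z) = 0 := by
      rw [← comp_app_apply, eq_app_apply (P.iCycles_d i _), zero_app_apply]
    have h0 : (Q.homologyπ i).app (op U) ((HomologicalComplex.cyclesMap φ i).app (op U) z) = 0 := by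
      rw [← comp_app_apply, ← eq_app_apply (HomologicalComplex.homologyπ_naturality φ i),
        comp_app_apply, hz, map_sub, sub_eq_zero]
      exact hab
    obtain ⟨w, hw⟩ := exists_boundary Q i (op U) _ h0
    have hφx : (φ.f i).app (op U) ((P.iCycles i).app (op U) z) = (Q.d (i + 1) i).app (op U) w := by
      rw [← comp_app_apply, ← eq_app_apply (HomologicalComplex.cyclesMap_i φ i), comp_app_apply,
        ← hw, ← comp_app_apply, eq_app_apply (Q.toCycles_i (i + 1) i)]
    obtain ⟨S, hS, hS'⟩ := hinj U _ hx w hφx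
    refine J.superset_covering ?_ hS
    intro V g hg
    obtain ⟨v, hv⟩ := hS' g hg
    have hzV : (P.cycles i).map g.op z = (P.toCycles (i + 1) i).app (op V) v := by
      apply injective_app_of_mono (P.iCycles i) (op V)
      rw [← comp_app_apply (P.toCycles (i + 1) i), eq_app_apply (P.toCycles_i (i + 1) i), ← hv]
      exact NatTrans.naturality_apply (P.iCycles i) g.op z
    have h1 : (P.homology i).map g.op (a - b) = 0 := by
      rw [← hz, ← NatTrans.naturality_apply (P.homologyπ i) g.op z, hzV, ← comp_app_apply,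
        eq_app_apply (P.toCycles_comp_homologyπ (i + 1) i), zero_app_apply]
    rw [map_sub, sub_eq_zero] at h1
    exact h1
  -- local surjectivity
  have hLS : Presheaf.IsLocallySurjective J ψ := by
    refine ⟨fun {U} b => ?_⟩
    obtain ⟨z', hz'⟩ := surjective_app_of_epi (Q.homologyπ i) (op U) b
    have hy : (Q.d i ((ComplexShape.down ℕ).next i)).app (op U) ((Q.iCycles i).app (op U) z') = 0 := by
      rw [← comp_app_apply, eq_app_apply (Q.iCycles_d i _), zero_app_apply]
    obtain ⟨S, hS, hS'⟩ := hsurj U _ hy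
    refine J.superset_covering ?_ hS
    intro V g hg
    obtain ⟨x, hx, w, hw⟩ := hS' g hg
    obtain ⟨z, hz⟩ := exists_cycle P i (op V) x hx
    refine ⟨(P.homologyπ i).app (op V) z, ?_⟩
    have hzV : (Q.cycles i).map g.op z' =
        (HomologicalComplex.cyclesMap φ i).app (op V) z + (Q.toCycles (i + 1) i).app (op V) w := by
      apply injective_app_of_mono (Q.iCycles i) (op V)
      rw [map_add, ← comp_app_apply (Q.toCycles (i + 1) i),
        eq_app_apply (Q.toCycles_i (i + 1) i), ← comp_app_apply,
        eq_app_apply (HomologicalComplex.cyclesMap_i φ i), comp_app_apply, hz, ← hw]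
      exact NatTrans.naturality_apply (Q.iCycles i) g.op z'
    change ψ.app (op V) ((P.homologyπ i).app (op V) z) = (Q.homology i).map g.op b
    rw [← comp_app_apply, eq_app_apply (HomologicalComplex.homologyπ_naturality φ i),
      comp_app_apply, ← hz', ← NatTrans.naturality_apply (Q.homologyπ i) g.op z', hzV, map_add,
      ← comp_app_apply (Q.toCycles (i + 1) i),
      eq_app_apply (Q.toCycles_comp_homologyπ (i + 1) i), zero_app_apply, add_zero]
  have hW : IsIso (F.map ψ) := (J.W_iff ψ).1 (J.W_of_isLocallyBijective ψ)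
  -- transfer along the comparison isomorphism
  let φs := (HomologicalComplex.shortComplexFunctor _ (ComplexShape.down ℕ) i).map φ
  have nat := ShortComplex.mapHomologyIso_hom_naturality φs F
  have hiso : IsIso (ShortComplex.homologyMap (F.mapShortComplex.map φs)) := by
    have h1 : IsIso (F.map (ShortComplex.homologyMap φs)) := hW
    have h2 : IsIso (ShortComplex.homologyMap (F.mapShortComplex.map φs) ≫
        (((HomologicalComplex.shortComplexFunctor _ (ComplexShape.down ℕ) i).obj Q).mapHomologyIso
          F).hom) := by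
      have h3 : IsIso ((((HomologicalComplex.shortComplexFunctor _ (ComplexShape.down ℕ) i).obj
          P).mapHomologyIso F).hom ≫ F.map (ShortComplex.homologyMap φs)) := inferInstance
      exact Eq.mpr (congrArg (fun f => IsIso f) nat) h3
    exact IsIso.of_isIso_comp_right _
      (((HomologicalComplex.shortComplexFunctor _ (ComplexShape.down ℕ) i).obj Q).mapHomologyIso
        F).hom
  exact hiso

end Groth.Agent.R2.H38.LocQI
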