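import Groth.Agent.R2.H38HypCone

/-!
# Relative hypercoverings: local sections (helper38)

For a morphism `f : L ⟶ K` of simplicial presheaves of sets on a site with the *relative local
lifting property* (`RLLP`: `f` is locally a trivial Kan fibration), every finite face-closed set of
simplices of `K` over `U` admits, locally on `U`, a face-compatible section into `L`.
Everything here is elementwise.
-/

set_option autoImplicit false

open CategoryTheory Opposite Simplicial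

universe u

namespace Groth.Agent.R2.H38.RelHyp

open Groth.Agent.R2.H38.HypCone

variable {C : Type u} [SmallCategory C] (J : GrothendieckTopology C)
  {L K : SimplicialObject (Cᵒᵖ ⥤ Type u)} (f : L ⟶ K)

/-- the map on `n`-simplices over `U` -/
abbrev ff {U : C} (n : ℕ) : Q L U n → Q K U n := (f.app (op ⦋n⦌)).app (op U)

theorem ff_dd {U : C} (n : ℕ) (i : Fin (n + 2)) (x : Q L U (n + 1)) :
    ff f n (dd L n i x) = dd K n i (ff f (n + 1) x) := by
  have e : (L.map (SimplexCategory.δ i).op ≫ f.app (op ⦋n⦌)).app (op U) =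
      (f.app (op ⦋n + 1⦌) ≫ K.map (SimplexCategory.δ i).op).app (op U) :=
    congrArg (fun φ => φ.app (op U)) (f.naturality (SimplexCategory.δ i).op)
  exact ConcreteCategory.congr_hom e x

theorem ff_rs {U V : C} (g : V ⟶ U) (n : ℕ) (x : Q L U n) :
    ff f n (rs L g n x) = rs K g n (ff f n x) :=
  NatTrans.naturality_apply (f.app (op ⦋n⦌)) g.op x

/-- the relative local lifting property: `f` is locally a trivial Kan fibration -/
structure RLLP : Prop where
  h0 : ∀ (U : C) (y : Q K U 0), ∃ S ∈ J U, ∀ ⦃V : C⦄ (g : V ⟶ U), S g →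
    ∃ x : Q L V 0, ff f 0 x = rs K g 0 y
  h1 : ∀ (U : C) (y : Q K U 1) (b : Fin 2 → Q L U 0), (∀ i, ff f 0 (b i) = dd K 0 i y) →
    ∃ S ∈ J U, ∀ ⦃V : C⦄ (g : V ⟶ U), S g →
      ∃ x : Q L V 1, (∀ i, dd L 0 i x = rs L g 0 (b i)) ∧ ff f 1 x = rs K g 1 y
  hn : ∀ (n : ℕ) (U : C) (y : Q K U (n + 2)) (b : Fin (n + 3) → Q L U (n + 1)),
    (∀ i j : Fin (n + 2), i ≤ j → dd L n i (b j.succ) = dd L n j (b i.castSucc)) →
    (∀ i, ff f (n + 1) (b i) = dd K (n + 1) i y) →
    ∃ S ∈ J U, ∀ ⦃V : C⦄ (g : V ⟶ U), S g →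
      ∃ x : Q L V (n + 2), (∀ i, dd L (n + 1) i x = rs L g (n + 1) (b i)) ∧
        ff f (n + 2) x = rs K g (n + 2) y

variable {J f}

/-- sections up to level `m` over a set `T` of simplices of `K` -/
def IsSect {U V : C} (g : V ⟶ U) (T : Set (Σ k, Q K U k)) (m : ℕ)
    (σ : ∀ k, k ≤ m → ∀ y : Q K U k, (⟨k, y⟩ : Σ k, Q K U k) ∈ T → Q L V k) : Prop :=
  (∀ (k : ℕ) (hk : k ≤ m) (y : Q K U k) (hy : (⟨k, y⟩ : Σ k, Q K U k) ∈ T),
    ff f k (σ k hk y hy) = rs K g k y) ∧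
  (∀ (k : ℕ) (hk : k + 1 ≤ m) (y : Q K U (k + 1)) (hy : (⟨k + 1, y⟩ : Σ k, Q K U k) ∈ T)
    (i : Fin (k + 2)) (hy' : (⟨k, dd K k i y⟩ : Σ k, Q K U k) ∈ T),
    dd L k i (σ (k + 1) hk y hy) = σ k (Nat.le_of_succ_le hk) (dd K k i y) hy')

theorem IsSect.restrict {U V W : C} {g : V ⟶ U} {T : Set (Σ k, Q K U k)} {m : ℕ}
    {σ : ∀ k, k ≤ m → ∀ y : Q K U k, (⟨k, y⟩ : Σ k, Q K U k) ∈ T → Q L V k}
    (hσ : IsSect (f := f) g T m σ) (g' : W ⟶ V) :
    IsSect (f := f) (g' ≫ g) T m (fun k hk y hy => rs L g' k (σ k hk y hy)) := by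
  refine ⟨fun k hk y hy => ?_, fun k hk y hy i hy' => ?_⟩
  · rw [ff_rs, hσ.1 k hk y hy, rs_rs]
  · rw [← rs_dd, hσ.2 k hk y hy i hy']

theorem sect_congr {U V : C} {T : Set (Σ k, Q K U k)} {m : ℕ}
    (σ : ∀ k, k ≤ m → ∀ y : Q K U k, (⟨k, y⟩ : Σ k, Q K U k) ∈ T → Q L V k)
    (k : ℕ) (hk : k ≤ m) {y y' : Q K U k} (e : y = y')
    (hy : (⟨k, y⟩ : Σ k, Q K U k) ∈ T) (hy' : (⟨k, y'⟩ : Σ k, Q K U k) ∈ T) :
    σ k hk y hy = σ k hk y' hy' := by
  subst e
  rfl

/-- filling one more simplex over a section -/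
theorem fill (h : RLLP J f) {U V : C} {g : V ⟶ U} {T : Set (Σ k, Q K U k)} (hTc : FaceClosed T)
    {m : ℕ} {σ : ∀ k, k ≤ m → ∀ y : Q K U k, (⟨k, y⟩ : Σ k, Q K U k) ∈ T → Q L V k}
    (hσ : IsSect (f := f) g T m σ) (y : Q K U (m + 1))
    (hy : (⟨m + 1, y⟩ : Σ k, Q K U k) ∈ T) :
    ∃ R ∈ J V, ∀ ⦃W : C⦄ (g' : W ⟶ V), R g' →
      ∃ x : Q L W (m + 1),
        (∀ i, dd L m i x = rs L g' m (σ m le_rfl (dd K m i y) (hTc m y hy i))) ∧
          ff f (m + 1) x = rs K (g' ≫ g) (m + 1) y := by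
  have hfb : ∀ i, ff f m (σ m le_rfl (dd K m i y) (hTc m y hy i)) =
      dd K m i (rs K g (m + 1) y) := by
    intro i
    rw [hσ.1 m le_rfl _ _, rs_dd]
  cases m with
  | zero =>
    obtain ⟨R, hR, hR'⟩ := h.h1 V (rs K g 1 y)
      (fun i => σ 0 le_rfl (dd K 0 i y) (hTc 0 y hy i)) hfb
    refine ⟨R, hR, fun W g' hg' => ?_⟩
    obtain ⟨x, hx1, hx2⟩ := hR' g' hg'
    exact ⟨x, hx1, by rw [hx2, rs_rs]⟩
  | succ m' =>
    have hcompat : ∀ i j : Fin (m' + 2), i ≤ j →
        dd L m' i (σ (m' + 1) le_rfl (dd K (m' + 1) j.succ y) (hTc (m' + 1) y hy j.succ)) =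
          dd L m' j (σ (m' + 1) le_rfl (dd K (m' + 1) i.castSucc y)
            (hTc (m' + 1) y hy i.castSucc)) := by
      intro i j hij
      have h1 := hσ.2 m' le_rfl (dd K (m' + 1) j.succ y) (hTc (m' + 1) y hy j.succ) i
        (hTc m' _ (hTc (m' + 1) y hy j.succ) i)
      have h2 := hσ.2 m' le_rfl (dd K (m' + 1) i.castSucc y) (hTc (m' + 1) y hy i.castSucc) j
        (hTc m' _ (hTc (m' + 1) y hy i.castSucc) j)
      rw [h1, h2]
      exact sect_congr σ m' _ (dd_dd m' hij y) _ _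
    obtain ⟨R, hR, hR'⟩ := h.hn m' V (rs K g (m' + 2) y)
      (fun i => σ (m' + 1) le_rfl (dd K (m' + 1) i y) (hTc (m' + 1) y hy i)) hcompat hfb
    refine ⟨R, hR, fun W g' hg' => ?_⟩
    obtain ⟨x, hx1, hx2⟩ := hR' g' hg'
    exact ⟨x, hx1, by rw [hx2, rs_rs]⟩

/-- **Local sections over finite face-closed sets of simplices.** -/
theorem exists_sect (h : RLLP J f) {U : C} (T : Set (Σ k, Q K U k)) (hT : T.Finite)
    (hTc : FaceClosed T) (m : ℕ) :
    ∃ S ∈ J U, ∀ ⦃V : C⦄ (g : V ⟶ U), S g →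
      ∃ σ : ∀ k, k ≤ m → ∀ y : Q K U k, (⟨k, y⟩ : Σ k, Q K U k) ∈ T → Q L V k,
        IsSect (f := f) g T m σ := by
  classical
  induction m with
  | zero =>
    choose R hR hR' using h.h0 U
    obtain ⟨S, hS, hS'⟩ := exists_sieve_of_finite J _ (finite_level hT 0) R (fun a _ => hR a)
    refine ⟨S, hS, fun V g hg => ?_⟩
    refine ⟨fun k hk y hy => ?_, ?_, ?_⟩
    · have hk0 : k = 0 := Nat.le_zero.mp hk
      subst hk0
      exact (hR' y g (hS' y hy g hg)).choose
    · intro k hk y hy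
      have hk0 : k = 0 := Nat.le_zero.mp hk
      subst hk0
      exact (hR' y g (hS' y hy g hg)).choose_spec
    · intro k hk
      exact absurd hk (by omega)
  | succ m ih =>
    obtain ⟨S, hS, hc⟩ := ih
    choose σ hσ using hc
    let α := {y : Q K U (m + 1) // (⟨m + 1, y⟩ : Σ k, Q K U k) ∈ T}
    have : Finite α := (finite_level hT (m + 1)).to_subtype
    have key : ∀ ⦃V : C⦄ (g : V ⟶ U) (hg : S g) (y : α), ∃ R ∈ J V,
        ∀ ⦃W : C⦄ (g' : W ⟶ V), R g' →
          ∃ x : Q L W (m + 1),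
            (∀ i, dd L m i x =
              rs L g' m (σ g hg m le_rfl (dd K m i y.1) (hTc m y.1 y.2 i))) ∧
              ff f (m + 1) x = rs K (g' ≫ g) (m + 1) y.1 :=
      fun V g hg y => fill h hTc (hσ g hg) y.1 y.2
    choose R hR hR' using key
    have key2 : ∀ ⦃V : C⦄ (g : V ⟶ U) (hg : S g), ∃ S' ∈ J V, ∀ a ∈ (Set.univ : Set α),
        ∀ ⦃W : C⦄ (g' : W ⟶ V), S' g' → R g hg a g' :=
      fun V g hg => exists_sieve_of_finite J _ Set.finite_univ (R g hg) (fun a _ => hR g hg a)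
    choose S₂ hS₂ hS₂' using key2
    refine ⟨Sieve.bind S (fun V g hg => S₂ g hg), J.bind_covering hS (fun V g hg => hS₂ g hg), ?_⟩
    rintro W _ ⟨V, g', g, hg, hg', rfl⟩
    let σ' : ∀ k, k ≤ m + 1 → ∀ y : Q K U k, (⟨k, y⟩ : Σ k, Q K U k) ∈ T → Q L W k :=
      fun k hk y hy =>
        if hkm : k ≤ m then rs L g' k (σ g hg k hkm y hy)
        else by
          have e : k = m + 1 := by omega
          subst e
          exact (hR' g hg ⟨y, hy⟩ g' (hS₂' g hg ⟨y, hy⟩ (Set.mem_univ _) g' hg')).choose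
    have hσ'_le : ∀ (k : ℕ) (hkm : k ≤ m) (hk : k ≤ m + 1) (y : Q K U k)
        (hy : (⟨k, y⟩ : Σ k, Q K U k) ∈ T), σ' k hk y hy = rs L g' k (σ g hg k hkm y hy) := by
      intro k hkm hk y hy
      simp only [σ', dif_pos hkm]
    have hσ'_top : ∀ (y : Q K U (m + 1)) (hy : (⟨m + 1, y⟩ : Σ k, Q K U k) ∈ T),
        σ' (m + 1) le_rfl y hy =
          (hR' g hg ⟨y, hy⟩ g' (hS₂' g hg ⟨y, hy⟩ (Set.mem_univ _) g' hg')).choose := by
      intro y hy
      have : ¬ (m + 1 ≤ m) := by omega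
      simp only [σ', dif_neg this]
    refine ⟨σ', ?_, ?_⟩
    · intro k hk y hy
      rcases Nat.lt_succ_iff_lt_or_eq.mp (Nat.lt_succ_of_le hk) with hk' | rfl
      · rw [hσ'_le k (Nat.lt_succ_iff.mp hk') hk y hy]
        exact ((hσ g hg).restrict g').1 k (Nat.lt_succ_iff.mp hk') y hy
      · rw [hσ'_top y hy]
        exact (hR' g hg ⟨y, hy⟩ g' (hS₂' g hg ⟨y, hy⟩ (Set.mem_univ _) g' hg')).choose_spec.2
    · intro k hk y hy i hy'
      rcases Nat.lt_succ_iff_lt_or_eq.mp (Nat.lt_succ_of_le hk) with hk' | hk'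
      · have hk'' : k + 1 ≤ m := Nat.lt_succ_iff.mp hk'
        rw [hσ'_le (k + 1) hk'' hk y hy, hσ'_le k (Nat.le_of_succ_le hk'') _ _ hy']
        exact ((hσ g hg).restrict g').2 k hk'' y hy i hy'
      · have e : k = m := Nat.succ.inj hk'
        subst e
        rw [hσ'_top y hy, hσ'_le k le_rfl _ _ hy']
        exact (hR' g hg ⟨y, hy⟩ g' (hS₂' g hg ⟨y, hy⟩ (Set.mem_univ _) g' hg')).choose_spec.1 i

/-! ### the fibre square -/

variable (f)

theorem f_map_apply {Δ Δ' : SimplexCategoryᵒᵖ} (θ : Δ ⟶ Δ') (U : Cᵒᵖ) (a : (L.obj Δ).obj U) :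
    (f.app Δ').app U ((L.map θ).app U a) = (K.map θ).app U ((f.app Δ).app U a) := by
  have e : (L.map θ ≫ f.app Δ').app U = (f.app Δ ≫ K.map θ).app U :=
    congrArg (fun φ => φ.app U) (f.naturality θ)
  exact ConcreteCategory.congr_hom e a

theorem map_id_app_apply (P : SimplicialObject (Cᵒᵖ ⥤ Type u)) (Δ : SimplexCategoryᵒᵖ) (U : Cᵒᵖ)
    (a : (P.obj Δ).obj U) : (P.map (𝟙 Δ)).app U a = a := by
  have e : (P.map (𝟙 Δ)).app U = (𝟙 (P.obj Δ) : P.obj Δ ⟶ P.obj Δ).app U :=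
    congrArg (fun φ => φ.app U) (P.map_id Δ)
  exact ConcreteCategory.congr_hom e a

theorem map_comp_app_apply (P : SimplicialObject (Cᵒᵖ ⥤ Type u)) {Δ Δ' Δ'' : SimplexCategoryᵒᵖ}
    (θ : Δ ⟶ Δ') (θ' : Δ' ⟶ Δ'') (U : Cᵒᵖ) (a : (P.obj Δ).obj U) :
    (P.map (θ ≫ θ')).app U a = (P.map θ').app U ((P.map θ).app U a) := by
  have e : (P.map (θ ≫ θ')).app U = (P.map θ ≫ P.map θ').app U :=
    congrArg (fun φ => φ.app U) (P.map_comp θ θ')
  exact ConcreteCategory.congr_hom e a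

/-- the presheaf of pairs with the same image -/
def fibObj (Δ : SimplexCategoryᵒᵖ) : Cᵒᵖ ⥤ Type u where
  obj U := {p : (L.obj Δ).obj U × (L.obj Δ).obj U // (f.app Δ).app U p.1 = (f.app Δ).app U p.2}
  map {U V} g := ↾fun p => ⟨((L.obj Δ).map g p.1.1, (L.obj Δ).map g p.1.2), by
    change (f.app Δ).app V ((L.obj Δ).map g p.1.1) = (f.app Δ).app V ((L.obj Δ).map g p.1.2)
    rw [NatTrans.naturality_apply, NatTrans.naturality_apply, p.2]⟩
  map_id U := by
    apply ConcreteCategory.hom_ext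
    intro p
    apply Subtype.ext
    apply Prod.ext
    · exact Functor.map_id_apply _ _ _
    · exact Functor.map_id_apply _ _ _
  map_comp g g' := by
    apply ConcreteCategory.hom_ext
    intro p
    apply Subtype.ext
    apply Prod.ext
    · exact Functor.map_comp_apply _ _ _ _
    · exact Functor.map_comp_apply _ _ _ _

/-- the fibre square `L ×_K L` -/
def fibSq : SimplicialObject (Cᵒᵖ ⥤ Type u) where
  obj Δ := fibObj f Δ
  map {Δ Δ'} θ :=
    { app := fun U => ↾fun p => ⟨((L.map θ).app U p.1.1, (L.map θ).app U p.1.2), by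
        change (f.app Δ').app U ((L.map θ).app U p.1.1) = (f.app Δ').app U ((L.map θ).app U p.1.2)
        rw [f_map_apply, f_map_apply, p.2]⟩
      naturality := fun U V g => by
        apply ConcreteCategory.hom_ext
        intro p
        apply Subtype.ext
        apply Prod.ext
        · exact NatTrans.naturality_apply (L.map θ) g p.1.1
        · exact NatTrans.naturality_apply (L.map θ) g p.1.2 }
  map_id Δ := by
    ext U p
    apply Subtype.ext
    apply Prod.ext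
    · exact map_id_app_apply L Δ U p.1.1
    · exact map_id_app_apply L Δ U p.1.2
  map_comp θ θ' := by
    ext U p
    apply Subtype.ext
    apply Prod.ext
    · exact map_comp_app_apply L θ θ' U p.1.1
    · exact map_comp_app_apply L θ θ' U p.1.2

/-- first projection -/
def fst : fibSq f ⟶ L where
  app _ := { app := fun _ => ↾fun p => p.1.1
             naturality := fun _ _ _ => rfl }
  naturality _ _ _ := rfl

/-- second projection -/
def snd : fibSq f ⟶ L where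
  app _ := { app := fun _ => ↾fun p => p.1.2
             naturality := fun _ _ _ => rfl }
  naturality _ _ _ := rfl

theorem fst_comp : fst f ≫ f = snd f ≫ f := by
  ext Δ U p
  exact p.2


variable {f}

/-- an element of the fibre square -/
def mkPair {U : C} {k : ℕ} (a b : Q L U k) (e : ff f k a = ff f k b) : Q (fibSq f) U k :=
  ⟨(a, b), e⟩

theorem ff_fst_mkPair {U : C} {k : ℕ} (a b : Q L U k) (e : ff f k a = ff f k b) :
    ff (fst f) k (mkPair a b e) = a := rfl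

theorem ff_snd_mkPair {U : C} {k : ℕ} (a b : Q L U k) (e : ff f k a = ff f k b) :
    ff (snd f) k (mkPair a b e) = b := rfl

theorem mkPair_congr {U : C} {k : ℕ} {a a' b b' : Q L U k} (ha : a = a') (hb : b = b')
    (e : ff f k a = ff f k b) (e' : ff f k a' = ff f k b') : mkPair a b e = mkPair a' b' e' := by
  subst ha hb
  rfl

theorem dd_mkPair {U : C} {k : ℕ} (i : Fin (k + 2)) (a b : Q L U (k + 1))
    (e : ff f (k + 1) a = ff f (k + 1) b) :
    dd (fibSq f) k i (mkPair a b e) =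
      mkPair (dd L k i a) (dd L k i b) (by rw [ff_dd, ff_dd, e]) := rfl

/-! ### chains -/

section Partial

open Classical in
/-- the additive map induced by a partially defined map on generators -/
noncomputable def pmap {α X : Type*} (D : α → Prop) (θ : ∀ a, D a → X) :
    FreeAbelianGroup α →+ FreeAbelianGroup X :=
  FreeAbelianGroup.lift (fun a => if h : D a then FreeAbelianGroup.of (θ a h) else 0)

theorem pmap_of {α X : Type*} (D : α → Prop) (θ : ∀ a, D a → X) (a : α) (h : D a) :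
    pmap D θ (FreeAbelianGroup.of a) = FreeAbelianGroup.of (θ a h) := by
  unfold pmap
  rw [FreeAbelianGroup.lift_apply_of, dif_pos h]

theorem pmap_of_not {α X : Type*} (D : α → Prop) (θ : ∀ a, D a → X) (a : α) (h : ¬ D a) :
    pmap D θ (FreeAbelianGroup.of a) = 0 := by
  unfold pmap
  rw [FreeAbelianGroup.lift_apply_of, dif_neg h]

theorem eq_of_closure {α G : Type*} [AddCommGroup G] (D : α → Prop)
    (φ ψ : FreeAbelianGroup α →+ G)
    (h : ∀ a, D a → φ (FreeAbelianGroup.of a) = ψ (FreeAbelianGroup.of a))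
    (z : FreeAbelianGroup α)
    (hz : z ∈ AddSubgroup.closure (FreeAbelianGroup.of '' {a | D a})) : φ z = ψ z :=
  AddMonoidHom.eqOn_closure (f := φ) (g := ψ) (by rintro _ ⟨a, ha, rfl⟩; exact h a ha) hz

theorem map_pmap {α X Y : Type*} (D : α → Prop) (θ : ∀ a, D a → X) (ψ : X → Y)
    (z : FreeAbelianGroup α) :
    FreeAbelianGroup.map ψ (pmap D θ z) = pmap D (fun a h => ψ (θ a h)) z := by
  classical
  have : (FreeAbelianGroup.map ψ).comp (pmap D θ) = pmap D (fun a h => ψ (θ a h)) := by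
    apply FreeAbelianGroup.lift_ext
    intro a
    by_cases h : D a
    · rw [AddMonoidHom.comp_apply, pmap_of D θ a h, pmap_of D _ a h,
        FreeAbelianGroup.map_of_apply]
    · rw [AddMonoidHom.comp_apply, pmap_of_not D θ a h, pmap_of_not D _ a h, map_zero]
  exact DFunLike.congr_fun this z

theorem pmap_map {α β X : Type*} (D : β → Prop) (θ : ∀ b, D b → X) (ψ : α → β)
    (z : FreeAbelianGroup α) :
    pmap D θ (FreeAbelianGroup.map ψ z) = pmap (fun a => D (ψ a)) (fun a h => θ (ψ a) h) z := by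
  classical
  have : (pmap D θ).comp (FreeAbelianGroup.map ψ) =
      pmap (fun a => D (ψ a)) (fun a h => θ (ψ a) h) := by
    apply FreeAbelianGroup.lift_ext
    intro a
    by_cases h : D (ψ a)
    · rw [AddMonoidHom.comp_apply, FreeAbelianGroup.map_of_apply, pmap_of D θ _ h,
        pmap_of (fun a => D (ψ a)) _ a h]
    · rw [AddMonoidHom.comp_apply, FreeAbelianGroup.map_of_apply, pmap_of_not D θ _ h,
        pmap_of_not (fun a => D (ψ a)) _ a h]
  exact DFunLike.congr_fun this z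

theorem pmap_eq_map {α X : Type*} (D : α → Prop) (θ : ∀ a, D a → X) (ψ : α → X)
    (h : ∀ a (ha : D a), θ a ha = ψ a) (z : FreeAbelianGroup α)
    (hz : z ∈ AddSubgroup.closure (FreeAbelianGroup.of '' {a | D a})) :
    pmap D θ z = FreeAbelianGroup.map ψ z := by
  refine eq_of_closure D (pmap D θ) (FreeAbelianGroup.map ψ) ?_ z hz
  intro a ha
  rw [pmap_of D θ a ha, FreeAbelianGroup.map_of_apply, h a ha]

variable {A B : SimplicialObject (Cᵒᵖ ⥤ Type u)} {U V : C}

theorem bdry_pmap {k : ℕ} (D' : Q A U (k + 1) → Prop) (D : Q A U k → Prop)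
    (θ' : ∀ a, D' a → Q B V (k + 1)) (θ : ∀ a, D a → Q B V k)
    (hface : ∀ a, D' a → ∀ i, D (dd A k i a))
    (hcomm : ∀ a (h : D' a) i, dd B k i (θ' a h) = θ (dd A k i a) (hface a h i))
    (z : FreeAbelianGroup (Q A U (k + 1)))
    (hz : z ∈ AddSubgroup.closure (FreeAbelianGroup.of '' {a | D' a})) :
    bdry B V k (pmap D' θ' z) = pmap D θ (bdry A U k z) := by
  refine eq_of_closure D' ((bdry B V k).comp (pmap D' θ')) ((pmap D θ).comp (bdry A U k)) ?_ z hz
  intro a ha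
  rw [AddMonoidHom.comp_apply, AddMonoidHom.comp_apply, pmap_of D' θ' a ha, bdry_of, bdry_of,
    map_sum]
  refine Finset.sum_congr rfl fun i _ => ?_
  rw [map_zsmul, pmap_of D θ _ (hface a ha i), hcomm a ha i]

/-- the cycle condition -/
def IsCyc (P : SimplicialObject (Cᵒᵖ ⥤ Type u)) (U : C) (k : ℕ)
    (z : FreeAbelianGroup (Q P U k)) : Prop :=
  match k, z with
  | 0, _ => True
  | (k + 1), z => bdry P U k z = 0

theorem isCyc_pmap (D : ∀ k, Q A U k → Prop) (θ : ∀ k a, D k a → Q B V k)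
    (hface : ∀ k a, D (k + 1) a → ∀ i, D k (dd A k i a))
    (hcomm : ∀ k a (h : D (k + 1) a) i,
      dd B k i (θ (k + 1) a h) = θ k (dd A k i a) (hface k a h i))
    (k : ℕ) (z : FreeAbelianGroup (Q A U k)) (hzc : IsCyc A U k z)
    (hz : z ∈ AddSubgroup.closure (FreeAbelianGroup.of '' {a | D k a})) :
    IsCyc B V k (pmap (D k) (θ k) z) := by
  cases k with
  | zero => trivial
  | succ k =>
    change bdry B V k _ = 0
    rw [bdry_pmap (D (k + 1)) (D k) (θ (k + 1)) (θ k) (hface k) (hcomm k) z hz]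
    have : bdry A U k z = 0 := hzc
    rw [this, map_zero]

end Partial

theorem faceClosed_union {P : SimplicialObject (Cᵒᵖ ⥤ Type u)} {U : C}
    {T T' : Set (Σ k, Q P U k)} (h : FaceClosed T) (h' : FaceClosed T') : FaceClosed (T ∪ T') := by
  rintro k x (hx | hx) i
  · exact Or.inl (h k x hx i)
  · exact Or.inr (h' k x hx i)


theorem closure_level_mono {P : SimplicialObject (Cᵒᵖ ⥤ Type u)} {U : C} {k : ℕ}
    {F : Set (Q P U k)} {D : Q P U k → Prop} (h : ∀ a ∈ F, D a)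
    {z : FreeAbelianGroup (Q P U k)}
    (hz : z ∈ AddSubgroup.closure (FreeAbelianGroup.of '' F)) :
    z ∈ AddSubgroup.closure (FreeAbelianGroup.of '' {a | D a}) :=
  AddSubgroup.closure_mono (Set.image_mono fun a ha => h a ha) hz

/-- **Local surjectivity on cycles**: cycles of `ℤ[K]` lift locally to cycles of `ℤ[L]`. -/
theorem local_surj (h : RLLP J f) (k : ℕ) (U : C) (z : FreeAbelianGroup (Q K U k))
    (hz : IsCyc K U k z) :
    ∃ S ∈ J U, ∀ ⦃V : C⦄ (g : V ⟶ U), S g →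
      ∃ x : FreeAbelianGroup (Q L V k), IsCyc L V k x ∧
        FreeAbelianGroup.map (ff f k) x = FreeAbelianGroup.map (rs K g k) z := by
  obtain ⟨F, hF, hzF⟩ := exists_finite_closure z
  obtain ⟨T, hT, hTc, hFT⟩ := exists_faceClosed k F hF
  obtain ⟨S, hS, hσ⟩ := exists_sect h T hT hTc k
  refine ⟨S, hS, fun V g hg => ?_⟩
  obtain ⟨σ, hσ⟩ := hσ g hg
  let D : ∀ j, Q K U j → Prop := fun j y => j ≤ k ∧ (⟨j, y⟩ : Σ k, Q K U k) ∈ T
  let θ : ∀ j (y : Q K U j), D j y → Q L V j := fun j y hy => σ j hy.1 y hy.2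
  have hz' : z ∈ AddSubgroup.closure (FreeAbelianGroup.of '' {a | D k a}) :=
    closure_level_mono (fun a ha => ⟨le_rfl, hFT a ha⟩) hzF
  refine ⟨pmap (D k) (θ k) z, ?_, ?_⟩
  · refine isCyc_pmap D θ (fun j a ha i => ⟨Nat.le_of_succ_le ha.1, hTc j a ha.2 i⟩) ?_ k z hz hz'
    intro j a ha i
    exact hσ.2 j ha.1 a ha.2 i (hTc j a ha.2 i)
  · rw [map_pmap]
    exact pmap_eq_map (D k) _ (rs K g k) (fun a ha => hσ.1 k ha.1 a ha.2) z hz'

/-- **Local injectivity on homology**, given the homotopy between the two projections of the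
fibre square. -/
theorem local_inj (h : RLLP J f) (k : ℕ) (U : C) (x : FreeAbelianGroup (Q L U k))
    (hx : IsCyc L U k x) (w : FreeAbelianGroup (Q K U (k + 1)))
    (hw : FreeAbelianGroup.map (ff f k) x = bdry K U k w)
    (hH : ∀ (V : C) (c : FreeAbelianGroup (Q (fibSq f) V k)), IsCyc (fibSq f) V k c →
      ∃ v : FreeAbelianGroup (Q L V (k + 1)),
        FreeAbelianGroup.map (ff (fst f) k) c - FreeAbelianGroup.map (ff (snd f) k) c =
          bdry L V k v) :
    ∃ S ∈ J U, ∀ ⦃V : C⦄ (g : V ⟶ U), S g →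
      ∃ v : FreeAbelianGroup (Q L V (k + 1)),
        FreeAbelianGroup.map (rs L g k) x = bdry L V k v := by
  obtain ⟨F₁, hF₁, hxF⟩ := exists_finite_closure x
  obtain ⟨F₂, hF₂, hwF⟩ := exists_finite_closure w
  obtain ⟨T₁, hT₁, hTc₁, hFT₁⟩ := exists_faceClosed k (ff f k '' F₁) (hF₁.image _)
  obtain ⟨T₂, hT₂, hTc₂, hFT₂⟩ := exists_faceClosed (k + 1) F₂ hF₂
  have hTc := faceClosed_union hTc₁ hTc₂
  obtain ⟨S, hS, hσ⟩ := exists_sect h (T₁ ∪ T₂) (hT₁.union hT₂) hTc (k + 1)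
  refine ⟨S, hS, fun V g hg => ?_⟩
  obtain ⟨σ, hσ⟩ := hσ g hg
  -- the section on chains of `K`
  let DK : ∀ j, Q K U j → Prop := fun j y => j ≤ k + 1 ∧ (⟨j, y⟩ : Σ k, Q K U k) ∈ T₁ ∪ T₂
  let θK : ∀ j (y : Q K U j), DK j y → Q L V j := fun j y hy => σ j hy.1 y hy.2
  have hfaceK : ∀ j a, DK (j + 1) a → ∀ i, DK j (dd K j i a) :=
    fun j a ha i => ⟨Nat.le_of_succ_le ha.1, hTc j a ha.2 i⟩
  have hcommK : ∀ j a (ha : DK (j + 1) a) i,
      dd L j i (θK (j + 1) a ha) = θK j (dd K j i a) (hfaceK j a ha i) :=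
    fun j a ha i => hσ.2 j ha.1 a ha.2 i (hTc j a ha.2 i)
  -- the map to the fibre square
  let DL : ∀ j, Q L U j → Prop := fun j t => DK j (ff f j t)
  let τ : ∀ j (t : Q L U j), DL j t → Q (fibSq f) V j := fun j t ht =>
    mkPair (rs L g j t) (θK j (ff f j t) ht) (by
      rw [ff_rs]
      exact (hσ.1 j ht.1 _ ht.2).symm)
  have hfaceL : ∀ j a, DL (j + 1) a → ∀ i, DL j (dd L j i a) := by
    intro j a ha i
    have := hfaceK j _ ha i
    rw [← ff_dd] at this
    exact this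
  have hcommL : ∀ j a (ha : DL (j + 1) a) i,
      dd (fibSq f) j i (τ (j + 1) a ha) = τ j (dd L j i a) (hfaceL j a ha i) := by
    intro j a ha i
    rw [dd_mkPair]
    refine mkPair_congr (rs_dd g j i a).symm ?_ _ _
    rw [hcommK j _ ha i]
    exact sect_congr σ j _ (ff_dd f j i a).symm _ _
  have hx' : x ∈ AddSubgroup.closure (FreeAbelianGroup.of '' {a | DL k a}) :=
    closure_level_mono (fun a ha => ⟨Nat.le_succ k, Or.inl (hFT₁ _ ⟨a, ha, rfl⟩)⟩) hxF
  have hw' : w ∈ AddSubgroup.closure (FreeAbelianGroup.of '' {a | DK (k + 1) a}) :=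
    closure_level_mono (fun a ha => ⟨le_rfl, Or.inr (hFT₂ a ha)⟩) hwF
  let c := pmap (DL k) (τ k) x
  have hc : IsCyc (fibSq f) V k c := isCyc_pmap DL τ hfaceL hcommL k x hx hx'
  obtain ⟨v, hv⟩ := hH V c hc
  have h1 : FreeAbelianGroup.map (ff (fst f) k) c = FreeAbelianGroup.map (rs L g k) x := by
    rw [map_pmap]
    exact pmap_eq_map (DL k) _ (rs L g k) (fun a ha => rfl) x hx'
  have h2 : FreeAbelianGroup.map (ff (snd f) k) c =
      bdry L V k (pmap (DK (k + 1)) (θK (k + 1)) w) := by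
    rw [map_pmap, bdry_pmap (DK (k + 1)) (DK k) (θK (k + 1)) (θK k) (hfaceK k) (hcommK k) w hw',
      ← hw, pmap_map]
    rfl
  refine ⟨v + pmap (DK (k + 1)) (θK (k + 1)) w, ?_⟩
  rw [map_add, ← hv, ← h2, h1]
  abel


end Groth.Agent.R2.H38.RelHyp
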