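import Groth.Agent.R2.H38RelHyp
import Groth.Agent.R2.H38HypCore
import Groth.Agent.R2.H38CoskHtpy
import Groth.Agent.R2.H38LocQI
import Groth.Agent.R2.H38HypConv

/-!
# Relative hypercoverings: homotopy of the projections of the fibre square, and the
quasi-isomorphism theorem (helper38)
-/

set_option autoImplicit false
set_option linter.unusedSectionVars false

open CategoryTheory Opposite Simplicial Limits

universe u

namespace Groth.Agent.R2.H38.RelHyp

open Groth.Agent.R2.H38.HypCone Groth.Agent.R2.H38.HypCore Groth.Agent.R2.H38.SAbHtpy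

variable {C : Type u} [SmallCategory C] (J : GrothendieckTopology C)
  {L K : SimplicialObject (Cᵒᵖ ⥤ Type u)} (f : L ⟶ K)

section Htpy

variable {M : SimplicialObject (Cᵒᵖ ⥤ Type u)} (p₁ p₂ : M ⟶ L)

/-- the free functor on presheaves -/
noncomputable abbrev GG : (Cᵒᵖ ⥤ Type u) ⥤ (Cᵒᵖ ⥤ AddCommGrpCat.{u}) :=
  (Functor.whiskeringRight _ _ _).obj AddCommGrpCat.free.{u}

/-- the induced map of free chain complexes -/
noncomputable abbrev freeMap (p : M ⟶ L) : freeCx M ⟶ freeCx L :=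
  (AlgebraicTopology.alternatingFaceMapComplex _).map (Functor.whiskerRight p GG)

theorem freeMap_f_app_apply (p : M ⟶ L) (k : ℕ) (V : C) (c : FreeAbelianGroup (Q M V k)) :
    ((freeMap p).f k).app (op V) c = FreeAbelianGroup.map (ff p k) c := rfl

omit [SmallCategory C] in
theorem add_app_apply {D : Type*} [Category D] {F G : D ⥤ AddCommGrpCat.{u}} (a b : F ⟶ G) (V : D)
    (x : F.obj V) : (a + b).app V x = a.app V x + b.app V x := rfl

theorem htpy_apply_zero {P R : ChainComplex (Cᵒᵖ ⥤ AddCommGrpCat.{u}) ℕ} {φ₁ φ₂ : P ⟶ R}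
    (hh : _root_.Homotopy φ₁ φ₂) (V : Cᵒᵖ) (c : (P.X 0).obj V) :
    (φ₁.f 0).app V c - (φ₂.f 0).app V c = (R.d 1 0).app V ((hh.hom 0 1).app V c) := by
  have e := hh.comm 0
  rw [prevD_eq (j' := 1) (w := by simp), dNext_eq_zero _ _ (by simp), zero_add] at e
  have e' := LocQI.eq_app_apply e V c
  rw [e', add_app_apply, LocQI.comp_app_apply, add_sub_cancel_right]

theorem htpy_apply_succ {P R : ChainComplex (Cᵒᵖ ⥤ AddCommGrpCat.{u}) ℕ} {φ₁ φ₂ : P ⟶ R}
    (hh : _root_.Homotopy φ₁ φ₂) (j : ℕ) (V : Cᵒᵖ) (c : (P.X (j + 1)).obj V)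
    (hc : (P.d (j + 1) j).app V c = 0) :
    (φ₁.f (j + 1)).app V c - (φ₂.f (j + 1)).app V c =
      (R.d (j + 2) (j + 1)).app V ((hh.hom (j + 1) (j + 2)).app V c) := by
  have e := hh.comm (j + 1)
  rw [dNext_eq (i' := j) (w := by simp), prevD_eq (j' := j + 2) (w := by simp)] at e
  have e' := LocQI.eq_app_apply e V c
  rw [e', add_app_apply, add_app_apply, LocQI.comp_app_apply, LocQI.comp_app_apply, hc, map_zero,
    zero_add, add_sub_cancel_right]

theorem htpy_app (H : SimplicialObject.Homotopy p₁ p₂) (k : ℕ) (V : C)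
    (c : FreeAbelianGroup (Q M V k)) (hc : IsCyc M V k c) :
    ∃ v : FreeAbelianGroup (Q L V (k + 1)),
      FreeAbelianGroup.map (ff p₁ k) c - FreeAbelianGroup.map (ff p₂ k) c = bdry L V k v := by
  have hh : _root_.Homotopy (freeMap p₁) (freeMap p₂) := (H.whiskerRight GG).toChainHomotopy
  refine ⟨(hh.hom k (k + 1)).app (op V) c, ?_⟩
  cases k with
  | zero =>
    exact (htpy_apply_zero hh (op V) c).trans (d_app_apply L 0 V _)
  | succ j =>
    have hc' : bdry M V j c = 0 := hc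
    exact (htpy_apply_succ hh j (op V) c ((d_app_apply M j V c).trans hc')).trans
      (d_app_apply L (j + 1) V _)

end Htpy

section Cosk

variable (n : ℕ)
  [∀ (F : (SimplexCategory.Truncated n)ᵒᵖ ⥤ (Cᵒᵖ ⥤ Type u)),
    (SimplexCategory.Truncated.inclusion n).op.HasRightKanExtension F]

theorem bijective_ff_of_isIso (i : ℕ) (hi : IsIso (f.app (op ⦋i⦌))) (U : C) :
    Function.Bijective (ff f i (U := U)) := by
  have : IsIso ((f.app (op ⦋i⦌)).app (op U)) := inferInstance
  exact (isIso_iff_bijective _).1 this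

variable {n} in
theorem fst_eq_snd_below (h1 : ∀ i : ℕ, i < n → IsIso (f.app (op (SimplexCategory.mk i))))
    (p : ℕ) (hp : p < n) :
    (fst f).app (op (SimplexCategory.mk p)) = (snd f).app (op (SimplexCategory.mk p)) := by
  ext U q
  induction U using Opposite.rec with
  | op U =>
    exact (bijective_ff_of_isIso f p (h1 p hp) U).1 q.2

theorem nonempty_fibHomotopy (h1 : ∀ i : ℕ, i < n → IsIso (f.app (op (SimplexCategory.mk i))))
    (h3 : IsIso ((SimplicialObject.coskAdj n).unit.app L)) :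
    Nonempty (SimplicialObject.Homotopy (fst f) (snd f)) := by
  have H0 := CoskHtpy.homotopy (n := n) (fst f) (snd f) (fst_eq_snd_below f h1)
  have H1 := (H0.precomp ((SimplicialObject.coskAdj n).unit.app (fibSq f))).postcomp
    (inv ((SimplicialObject.coskAdj n).unit.app L))
  have e : ∀ p : fibSq f ⟶ L,
      ((SimplicialObject.coskAdj n).unit.app (fibSq f) ≫ (SimplicialObject.cosk n).map p) ≫
        inv ((SimplicialObject.coskAdj n).unit.app L) = p := by
    intro p
    have := (SimplicialObject.coskAdj n).unit.naturality p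
    rw [IsIso.comp_inv_eq]
    exact this.symm
  rw [e, e] at H1
  exact ⟨H1⟩

end Cosk

section Fill

open Groth.Agent.R2.H38.HypFC Groth.Agent.R2.H38.HypConv

variable (X : SimplicialObject (Cᵒᵖ ⥤ Type u)) (N : ℕ)
  [∀ (F : (SimplexCategory.Truncated N)ᵒᵖ ⥤ (Cᵒᵖ ⥤ Type u)),
    (SimplexCategory.Truncated.inclusion N).op.HasRightKanExtension F]

theorem yonedaEquiv_comp_δ {U : C} {k : ℕ} (τ : yoneda.obj U ⟶ X.obj (op ⦋k + 1⦌)) (i : Fin (k + 2)) :
    yonedaEquiv (τ ≫ X.δ i) = dd X k i (yonedaEquiv τ) :=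
  yonedaEquiv_comp τ (X.δ i)

/-- in an `N`-coskeletal simplicial presheaf, `(N+1)`-simplices are determined by their faces -/
theorem face_ext (hX : IsIso ((SimplicialObject.coskAdj N).unit.app X)) {U : C}
    (x x' : Q X U (N + 1)) (h : ∀ i, dd X N i x = dd X N i x') : x = x' := by
  let adj := SimplicialObject.coskAdj (C := Cᵒᵖ ⥤ Type u) N
  let skX := (SimplicialObject.truncation N).obj X
  let X' : SimplicialObject (Cᵒᵖ ⥤ Type u) := (SimplicialObject.Truncated.cosk N).obj skX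
  let Δ₀ : (SimplexCategory.Truncated N)ᵒᵖ := op ⟨⦋N⦌, le_rfl⟩
  let e₀ : X'.obj (op ⦋N⦌) ⟶ X.obj (op ⦋N⦌) := (adj.counit.app skX).app Δ₀
  let η₁ : X.obj (op ⦋N⦌) ⟶ X'.obj (op ⦋N⦌) := (adj.unit.app X).app (op ⦋N⦌)
  let η₂ : X.obj (op ⦋N + 1⦌) ⟶ X'.obj (op ⦋N + 1⦌) := (adj.unit.app X).app (op ⦋N + 1⦌)
  have htri : η₁ ≫ e₀ = 𝟙 (X.obj (op ⦋N⦌)) :=
    congrArg (fun ψ => ψ.app Δ₀) (adj.left_triangle_components X)
  let τ : yoneda.obj U ⟶ X.obj (op ⦋N + 1⦌) := yonedaEquiv.symm x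
  let τ' : yoneda.obj U ⟶ X.obj (op ⦋N + 1⦌) := yonedaEquiv.symm x'
  have hττ' : ∀ i, τ ≫ X.δ i = τ' ≫ X.δ i := by
    intro i
    apply yonedaEquiv.injective
    rw [yonedaEquiv_comp_δ, yonedaEquiv_comp_δ]
    simp only [τ, τ', Equiv.apply_symm_apply]
    exact h i
  have key : τ ≫ η₂ = τ' ≫ η₂ := by
    apply cosk_hom_ext.{u, u + 1, u} X
    intro i
    have hnat : X.δ i ≫ η₁ = η₂ ≫ X'.map (SimplexCategory.δ i).op :=
      (adj.unit.app X).naturality (SimplexCategory.δ i).op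
    have hform : ∀ ρ : yoneda.obj U ⟶ X.obj (op ⦋N + 1⦌),
        (ρ ≫ η₂) ≫ X'.map (SimplexCategory.δ i).op ≫ e₀ = ρ ≫ X.δ i := by
      intro ρ
      calc (ρ ≫ η₂) ≫ X'.map (SimplexCategory.δ i).op ≫ e₀
          = ρ ≫ (η₂ ≫ X'.map (SimplexCategory.δ i).op) ≫ e₀ := by simp only [Category.assoc]
        _ = ρ ≫ (X.δ i ≫ η₁) ≫ e₀ := by rw [hnat]
        _ = ρ ≫ X.δ i := by rw [Category.assoc, htri, Category.comp_id]
    exact (hform τ).trans ((hττ' i).trans (hform τ').symm)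
  have hη : IsIso η₂ := inferInstance
  have : τ = τ' := (cancel_mono η₂).1 key
  have := congrArg yonedaEquiv this
  simpa only [τ, τ', Equiv.apply_symm_apply] using this

/-- in an `(n+1)`-coskeletal simplicial presheaf, compatible boundaries of `(n+2)`-simplices can
be filled -/
theorem face_fill (n' : ℕ)
    [∀ (F : (SimplexCategory.Truncated (n' + 1))ᵒᵖ ⥤ (Cᵒᵖ ⥤ Type u)),
      (SimplexCategory.Truncated.inclusion (n' + 1)).op.HasRightKanExtension F]
    (hX : IsIso ((SimplicialObject.coskAdj (n' + 1)).unit.app X)) {U : C}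
    (b : Fin (n' + 3) → Q X U (n' + 1))
    (hb : ∀ i j : Fin (n' + 2), i ≤ j → dd X n' i (b j.succ) = dd X n' j (b i.castSucc)) :
    ∃ x : Q X U (n' + 2), ∀ i, dd X (n' + 1) i x = b i := by
  let β : Fin (n' + 3) → (yoneda.obj U ⟶ X.obj (op ⦋n' + 1⦌)) := fun i => yonedaEquiv.symm (b i)
  have hβ : ∀ i j : Fin (n' + 2), i ≤ j → β j.succ ≫ X.δ i = β i.castSucc ≫ X.δ j := by
    intro i j hij
    apply yonedaEquiv.injective
    rw [yonedaEquiv_comp_δ, yonedaEquiv_comp_δ]
    simp only [β, Equiv.apply_symm_apply]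
    exact hb i j hij
  obtain ⟨σ, hσ⟩ := exists_lift_cosk.{u, u + 1, u} X β hβ
  let τ : yoneda.obj U ⟶ X.obj (op ⦋n' + 2⦌) :=
    σ ≫ (inv ((SimplicialObject.coskAdj (n' + 1)).unit.app X)).app (op ⦋n' + 2⦌)
  have hτ : τ ≫ ((SimplicialObject.coskAdj (n' + 1)).unit.app X).app (op ⦋n' + 2⦌) = 𝟙 _ ≫ σ := by
    simp only [τ, Category.assoc, Category.id_comp]
    rw [← NatTrans.comp_app, IsIso.inv_hom_id, NatTrans.id_app]
    exact Category.comp_id _
  refine ⟨yonedaEquiv τ, fun i => ?_⟩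
  rw [← yonedaEquiv_comp_δ, hσ (𝟙 _) τ hτ i, Category.id_comp]
  simp only [β, Equiv.apply_symm_apply]

/-- in a `0`-coskeletal simplicial presheaf, any pair of vertices is joined by an edge -/
theorem face_fill_zero
    [∀ (F : (SimplexCategory.Truncated 0)ᵒᵖ ⥤ (Cᵒᵖ ⥤ Type u)),
      (SimplexCategory.Truncated.inclusion 0).op.HasRightKanExtension F]
    (hX : IsIso ((SimplicialObject.coskAdj 0).unit.app X)) {U : C}
    (b : Fin 2 → Q X U 0) :
    ∃ x : Q X U 1, ∀ i, dd X 0 i x = b i := by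
  let β : Fin 2 → (yoneda.obj U ⟶ X.obj (op ⦋0⦌)) := fun i => yonedaEquiv.symm (b i)
  obtain ⟨σ, hσ⟩ := exists_lift_cosk_zero.{u, u + 1, u} X β
  let τ : yoneda.obj U ⟶ X.obj (op ⦋1⦌) :=
    σ ≫ (inv ((SimplicialObject.coskAdj 0).unit.app X)).app (op ⦋1⦌)
  have hτ : τ ≫ ((SimplicialObject.coskAdj 0).unit.app X).app (op ⦋1⦌) = 𝟙 _ ≫ σ := by
    simp only [τ, Category.assoc, Category.id_comp]
    rw [← NatTrans.comp_app, IsIso.inv_hom_id, NatTrans.id_app]
    exact Category.comp_id _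
  refine ⟨yonedaEquiv τ, fun i => ?_⟩
  rw [← yonedaEquiv_comp_δ, hσ (𝟙 _) τ hτ i, Category.id_comp]
  simp only [β, Equiv.apply_symm_apply]

end Fill

section RLLPofCosk

theorem hasRKE (N : ℕ) (F : (SimplexCategory.Truncated N)ᵒᵖ ⥤ (Cᵒᵖ ⥤ Type u)) :
    (SimplexCategory.Truncated.inclusion N).op.HasRightKanExtension F := by
  have := Groth.Agent.Lib.Helper10.FinStrArr.hasPointwiseRightKanExtension N F
  infer_instance

attribute [local instance] hasRKE

/-- coskeletality in higher levels -/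
theorem isIso_unit_of_le (X : SimplicialObject (Cᵒᵖ ⥤ Type u)) (n N : ℕ) (h : n ≤ N)
    [∀ (F : (SimplexCategory.Truncated n)ᵒᵖ ⥤ (Cᵒᵖ ⥤ Type u)),
      (SimplexCategory.Truncated.inclusion n).op.HasRightKanExtension F]
    [∀ (F : (SimplexCategory.Truncated N)ᵒᵖ ⥤ (Cᵒᵖ ⥤ Type u)),
      (SimplexCategory.Truncated.inclusion N).op.HasRightKanExtension F]
    (hX : IsIso ((SimplicialObject.coskAdj n).unit.app X)) :
    IsIso ((SimplicialObject.coskAdj N).unit.app X) := by
  have : X.IsCoskeletal n := (SimplicialObject.isCoskeletal_iff_isIso X n).2 hX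
  have : X.IsCoskeletal N := Groth.Agent.Lib.Helper10.FinStrArr.isCoskeletal_of_le N X h
  exact (SimplicialObject.isCoskeletal_iff_isIso X N).1 inferInstance

variable {J f}

theorem lift_global {U : C} {k : ℕ} {y : Q K U (k + 1)} {b : Fin (k + 2) → Q L U k}
    (x : Q L U (k + 1)) (hx1 : ∀ i, dd L k i x = b i) (hx2 : ff f (k + 1) x = y) :
    ∃ S ∈ J U, ∀ ⦃V : C⦄ (g : V ⟶ U), S g →
      ∃ x' : Q L V (k + 1), (∀ i, dd L k i x' = rs L g k (b i)) ∧
        ff f (k + 1) x' = rs K g (k + 1) y :=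
  ⟨⊤, J.top_mem U, fun V g _ => ⟨rs L g (k + 1) x, fun i => by rw [← rs_dd, hx1],
    by rw [ff_rs, hx2]⟩⟩

theorem lift_A {U : C} {k : ℕ} (hk1 : IsIso (f.app (op ⦋k + 1⦌))) (hk : IsIso (f.app (op ⦋k⦌)))
    (y : Q K U (k + 1)) (b : Fin (k + 2) → Q L U k) (hf : ∀ i, ff f k (b i) = dd K k i y) :
    ∃ S ∈ J U, ∀ ⦃V : C⦄ (g : V ⟶ U), S g →
      ∃ x' : Q L V (k + 1), (∀ i, dd L k i x' = rs L g k (b i)) ∧
        ff f (k + 1) x' = rs K g (k + 1) y := by
  obtain ⟨x, hx⟩ := (bijective_ff_of_isIso f (k + 1) hk1 U).2 y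
  refine lift_global x (fun i => ?_) hx
  apply (bijective_ff_of_isIso f k hk U).1
  rw [ff_dd, hx, hf]

theorem lift_B {U : C} {k : ℕ}
    (h2 : Presheaf.IsLocallySurjective J (f.app (op ⦋k + 1⦌))) (hk : IsIso (f.app (op ⦋k⦌)))
    (y : Q K U (k + 1)) (b : Fin (k + 2) → Q L U k) (hf : ∀ i, ff f k (b i) = dd K k i y) :
    ∃ S ∈ J U, ∀ ⦃V : C⦄ (g : V ⟶ U), S g →
      ∃ x' : Q L V (k + 1), (∀ i, dd L k i x' = rs L g k (b i)) ∧
        ff f (k + 1) x' = rs K g (k + 1) y := by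
  refine ⟨_, Presheaf.imageSieve_mem J (f.app (op ⦋k + 1⦌)) y, ?_⟩
  rintro V g ⟨x, hx⟩
  have hx' : ff f (k + 1) x = rs K g (k + 1) y := hx
  refine ⟨x, fun i => ?_, hx'⟩
  apply (bijective_ff_of_isIso f k hk V).1
  rw [ff_dd, hx', ← rs_dd, ← hf, ff_rs]

theorem lift_C_zero {U : C}
    (hL : IsIso ((SimplicialObject.coskAdj 0).unit.app L))
    (hK : IsIso ((SimplicialObject.coskAdj 0).unit.app K))
    (y : Q K U 1) (b : Fin 2 → Q L U 0) (hf : ∀ i, ff f 0 (b i) = dd K 0 i y) :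
    ∃ S ∈ J U, ∀ ⦃V : C⦄ (g : V ⟶ U), S g →
      ∃ x' : Q L V 1, (∀ i, dd L 0 i x' = rs L g 0 (b i)) ∧ ff f 1 x' = rs K g 1 y := by
  obtain ⟨x, hx⟩ := face_fill_zero L hL b
  refine lift_global x hx ?_
  apply face_ext K 0 hK
  intro i
  rw [← ff_dd, hx, hf]

theorem lift_C_succ {U : C} (m : ℕ)
    (hL : IsIso ((SimplicialObject.coskAdj (m + 1)).unit.app L))
    (hK : IsIso ((SimplicialObject.coskAdj (m + 1)).unit.app K))
    (y : Q K U (m + 2)) (b : Fin (m + 3) → Q L U (m + 1))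
    (hb : ∀ i j : Fin (m + 2), i ≤ j → dd L m i (b j.succ) = dd L m j (b i.castSucc))
    (hf : ∀ i, ff f (m + 1) (b i) = dd K (m + 1) i y) :
    ∃ S ∈ J U, ∀ ⦃V : C⦄ (g : V ⟶ U), S g →
      ∃ x' : Q L V (m + 2), (∀ i, dd L (m + 1) i x' = rs L g (m + 1) (b i)) ∧
        ff f (m + 2) x' = rs K g (m + 2) y := by
  obtain ⟨x, hx⟩ := face_fill L m hL b hb
  refine lift_global x hx ?_
  apply face_ext K (m + 1) hK
  intro i
  rw [← ff_dd, hx, hf]

variable (J f) in
/-- **The relative local lifting property** of a morphism of `n`-coskeletal simplicial presheaves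
which is an isomorphism below degree `n` and locally surjective in degree `n`. -/
theorem rllp_of_cosk (n : ℕ)
    [∀ (F : (SimplexCategory.Truncated n)ᵒᵖ ⥤ (Cᵒᵖ ⥤ Type u)),
      (SimplexCategory.Truncated.inclusion n).op.HasRightKanExtension F]
    (h1 : ∀ i : ℕ, i < n → IsIso (f.app (op (SimplexCategory.mk i))))
    (h2 : Presheaf.IsLocallySurjective J (f.app (op (SimplexCategory.mk n))))
    (h3 : IsIso ((SimplicialObject.coskAdj n).unit.app L))
    (h4 : IsIso ((SimplicialObject.coskAdj n).unit.app K)) : RLLP J f := by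
  refine ⟨?_, ?_, ?_⟩
  · intro U y
    cases n with
    | zero =>
      refine ⟨_, Presheaf.imageSieve_mem J (f.app (op ⦋0⦌)) y, ?_⟩
      rintro V g ⟨x, hx⟩
      exact ⟨x, hx⟩
    | succ n =>
      obtain ⟨x, hx⟩ := (bijective_ff_of_isIso f 0 (h1 0 (Nat.succ_pos n)) U).2 y
      exact ⟨⊤, J.top_mem U, fun V g _ => ⟨rs L g 0 x, by rw [ff_rs, hx]⟩⟩
  · intro U y b hf
    rcases n with _ | _ | n
    · exact lift_C_zero h3 h4 y b hf
    · exact lift_B h2 (h1 0 (by omega)) y b hf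
    · exact lift_A (h1 1 (by omega)) (h1 0 (by omega)) y b hf
  · intro m U y b hb hf
    rcases lt_trichotomy n (m + 2) with hlt | heq | hgt
    · exact lift_C_succ m (isIso_unit_of_le L n (m + 1) (by omega) h3)
        (isIso_unit_of_le K n (m + 1) (by omega) h4) y b hb hf
    · subst heq
      exact lift_B h2 (h1 (m + 1) (by omega)) y b hf
    · exact lift_A (h1 (m + 2) hgt) (h1 (m + 1) (by omega)) y b hf

end RLLPofCosk

section Main

attribute [local instance] hasRKE

theorem next_succ (j : ℕ) : (ComplexShape.down ℕ).next (j + 1) = j := by simp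

theorem isCyc_of_d {P : SimplicialObject (Cᵒᵖ ⥤ Type u)} (i : ℕ) (U : C)
    (x : FreeAbelianGroup (Q P U i))
    (hx : ((freeCx P).d i ((ComplexShape.down ℕ).next i)).app (op U) x = 0) : IsCyc P U i x := by
  cases i with
  | zero => trivial
  | succ j =>
    change bdry P U j x = 0
    rw [← d_app_apply]
    rw [next_succ] at hx
    exact hx

theorem d_of_isCyc {P : SimplicialObject (Cᵒᵖ ⥤ Type u)} (i : ℕ) (U : C)
    (x : FreeAbelianGroup (Q P U i)) (hx : IsCyc P U i x) :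
    ((freeCx P).d i ((ComplexShape.down ℕ).next i)).app (op U) x = 0 := by
  cases i with
  | zero =>
    have : (freeCx P).d 0 ((ComplexShape.down ℕ).next 0) = 0 := by
      apply HomologicalComplex.shape
      simp
    rw [this]
    rfl
  | succ j =>
    have hx' : bdry P U j x = 0 := hx
    rw [next_succ, d_app_apply]
    exact hx'

/-- **Quasi-isomorphism theorem for relative hypercoverings** (presheaf-complex form). -/
theorem isIso_homologyMap_of_cosk (n : ℕ)
    [∀ (F : (SimplexCategory.Truncated n)ᵒᵖ ⥤ (Cᵒᵖ ⥤ Type u)),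
      (SimplexCategory.Truncated.inclusion n).op.HasRightKanExtension F]
    (h1 : ∀ i : ℕ, i < n → IsIso (f.app (op (SimplexCategory.mk i))))
    (h2 : Presheaf.IsLocallySurjective J (f.app (op (SimplexCategory.mk n))))
    (h3 : IsIso ((SimplicialObject.coskAdj n).unit.app L))
    (h4 : IsIso ((SimplicialObject.coskAdj n).unit.app K)) (i : ℕ) :
    IsIso (HomologicalComplex.homologyMap
      (((presheafToSheaf J AddCommGrpCat.{u}).mapHomologicalComplex _).map (freeMap f)) i) := by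
  have hR := rllp_of_cosk J f n h1 h2 h3 h4
  obtain ⟨H⟩ := nonempty_fibHomotopy f n h1 h3
  refine LocQI.isIso_homologyMap_sheafify J (freeMap f) i ?_ ?_
  · intro U x hx w hw
    change FreeAbelianGroup (Q L U i) at x
    change FreeAbelianGroup (Q K U (i + 1)) at w
    have hxc : IsCyc L U i x := isCyc_of_d i U x hx
    have hw' : FreeAbelianGroup.map (ff f i) x = bdry K U i w := by
      rw [← d_app_apply, ← freeMap_f_app_apply]
      exact hw
    obtain ⟨S, hS, hS'⟩ := local_inj hR i U x hxc w hw'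
      (fun V c hc => htpy_app (fst f) (snd f) H i V c hc)
    refine ⟨S, hS, fun V g hg => ?_⟩
    obtain ⟨v, hv⟩ := hS' g hg
    exact ⟨v, hv.trans (d_app_apply L i V v).symm⟩
  · intro U y hy
    change FreeAbelianGroup (Q K U i) at y
    have hyc : IsCyc K U i y := isCyc_of_d i U y hy
    obtain ⟨S, hS, hS'⟩ := local_surj hR i U y hyc
    refine ⟨S, hS, fun V g hg => ?_⟩
    obtain ⟨x, hxc, hx⟩ := hS' g hg
    refine ⟨x, d_of_isCyc i V x hxc, 0, ?_⟩
    rw [map_zero, add_zero, freeMap_f_app_apply, hx]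
    rfl

theorem isIso_homologyMap_of_eq_conj {V : Type*} [Category V] [Abelian V] {ι : Type*}
    {c : ComplexShape ι} {A B A' B' : HomologicalComplex V c} (φ : A ⟶ B) (ψ : A' ⟶ B')
    (hA : A' = A) (hB : B = B') (h : ψ = eqToHom hA ≫ φ ≫ eqToHom hB) (i : ι)
    (hφ : IsIso (HomologicalComplex.homologyMap φ i)) :
    IsIso (HomologicalComplex.homologyMap ψ i) := by
  subst hA hB
  simp only [eqToHom_refl, Category.id_comp, Category.comp_id] at h
  subst h
  exact hφ

/-- **Quasi-isomorphism theorem for relative hypercoverings** (sheaf-complex form). -/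
theorem isIso_homologyMap_sheafCx (n : ℕ)
    [∀ (F : (SimplexCategory.Truncated n)ᵒᵖ ⥤ (Cᵒᵖ ⥤ Type u)),
      (SimplexCategory.Truncated.inclusion n).op.HasRightKanExtension F]
    (h1 : ∀ i : ℕ, i < n → IsIso (f.app (op (SimplexCategory.mk i))))
    (h2 : Presheaf.IsLocallySurjective J (f.app (op (SimplexCategory.mk n))))
    (h3 : IsIso ((SimplicialObject.coskAdj n).unit.app L))
    (h4 : IsIso ((SimplicialObject.coskAdj n).unit.app K)) (i : ℕ) :
    IsIso (HomologicalComplex.homologyMap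
      ((AlgebraicTopology.alternatingFaceMapComplex (Sheaf J AddCommGrpCat.{u})).map
        (Functor.whiskerRight f (GG ⋙ presheafToSheaf J AddCommGrpCat.{u}))) i) := by
  have key := isIso_homologyMap_of_cosk J f n h1 h2 h3 h4 i
  let F := presheafToSheaf J AddCommGrpCat.{u}
  have h := Functor.congr_hom (AlgebraicTopology.map_alternatingFaceMapComplex F).symm
    (Functor.whiskerRight f GG)
  have h' : (AlgebraicTopology.alternatingFaceMapComplex (Sheaf J AddCommGrpCat.{u})).map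
      (Functor.whiskerRight f (GG ⋙ presheafToSheaf J AddCommGrpCat.{u})) =
      eqToHom (Functor.congr_obj (AlgebraicTopology.map_alternatingFaceMapComplex F)
          (L ⋙ GG)).symm ≫
        ((F.mapHomologicalComplex _).map (freeMap f)) ≫
        eqToHom (Functor.congr_obj (AlgebraicTopology.map_alternatingFaceMapComplex F)
          (K ⋙ GG)) := h
  exact isIso_homologyMap_of_eq_conj _ _ _ _ h' i key

end Main

end Groth.Agent.R2.H38.RelHyp
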