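import Groth.Agent.R2.H38RelHyp2

/-!
# Relative hypercoverings of simplicial sheaves of sets (helper38)
-/

set_option autoImplicit false
set_option linter.unusedSectionVars false

open CategoryTheory Opposite Simplicial Limits

universe u

namespace Groth.Agent.R2.H38.RelHyp

open Groth.Agent.R2.H38.HypCone Groth.Agent.R2.H38.HypCore

variable {C : Type u} [SmallCategory C] (J : GrothendieckTopology C)

section LocSurj

variable {L K : SimplicialObject (Cᵒᵖ ⥤ Type u)} {f : L ⟶ K}

variable {J} in
/-- a morphism with the relative local lifting property is locally surjective in every degree -/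
theorem isLocallySurjective_of_rllp (h : RLLP J f) (p : ℕ) :
    Presheaf.IsLocallySurjective J (f.app (op ⦋p⦌)) := by
  refine ⟨fun {U} y => ?_⟩
  change Q K U p at y
  obtain ⟨T, hT, hTc, hFT⟩ := exists_faceClosed p {y} (Set.finite_singleton y)
  obtain ⟨S, hS, hσ⟩ := exists_sect h T hT hTc p
  refine J.superset_covering ?_ hS
  intro V g hg
  obtain ⟨σ, hσ⟩ := hσ g hg
  exact ⟨σ p le_rfl y (hFT y rfl), hσ.1 p le_rfl y (hFT y rfl)⟩

end LocSurj

section Transfer

/-- the underlying simplicial presheaf of an `n`-coskeletal simplicial sheaf of sets is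
`n`-coskeletal -/
theorem isIso_unit_comp_sheafToPresheaf (K : SimplicialObject (Sheaf J (Type u))) (n : ℕ)
    [∀ (F : (SimplexCategory.Truncated n)ᵒᵖ ⥤ Sheaf J (Type u)),
      (SimplexCategory.Truncated.inclusion n).op.HasRightKanExtension F]
    [∀ (F : (SimplexCategory.Truncated n)ᵒᵖ ⥤ (Cᵒᵖ ⥤ Type u)),
      (SimplexCategory.Truncated.inclusion n).op.HasRightKanExtension F]
    (hK : IsIso ((SimplicialObject.coskAdj n).unit.app K)) :
    IsIso ((SimplicialObject.coskAdj n).unit.app (K ⋙ sheafToPresheaf J (Type u))) := by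
  have hc : K.IsCoskeletal n := (SimplicialObject.isCoskeletal_iff_isIso K n).2 hK
  have hp := Groth.Agent.Lib.Helper10.FinStrArr.hasPointwiseRightKanExtension n
    ((SimplexCategory.Truncated.inclusion n).op ⋙ K)
  have hpres : (sheafToPresheaf J (Type u)).PreservesRightKanExtension
      ((SimplexCategory.Truncated.inclusion n).op ⋙ K) (SimplexCategory.Truncated.inclusion n).op :=
    inferInstance
  have h1 := hpres.preserves K (𝟙 _)
  rw [← SimplicialObject.isCoskeletal_iff_isIso, SimplicialObject.isCoskeletal_iff]
  have e : (Functor.associator (SimplexCategory.Truncated.inclusion n).op K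
      (sheafToPresheaf J (Type u))).inv ≫ Functor.whiskerRight (𝟙 _) (sheafToPresheaf J (Type u)) =
      𝟙 ((SimplexCategory.Truncated.inclusion n).op ⋙ K ⋙ sheafToPresheaf J (Type u)) := by
    ext x
    simp
  rw [e] at h1
  exact h1

end Transfer

section Sheaves

attribute [local instance] hasRKE

/-- **Special morphisms of simplicial sheaves of sets** are degreewise epimorphisms and induce
quasi-isomorphisms of the free abelian chain complexes. -/
theorem special_morphism
    [∀ (n : ℕ) (F : (SimplexCategory.Truncated n)ᵒᵖ ⥤ Sheaf J (Type u)),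
      (SimplexCategory.Truncated.inclusion n).op.HasRightKanExtension F]
    {K L : SimplicialObject (Sheaf J (Type u))} (v : K ⟶ L) (n : ℕ)
    (h1 : ∀ p : ℕ, p < n → IsIso (v.app (op (SimplexCategory.mk p))))
    (h2 : Epi (v.app (op (SimplexCategory.mk n))))
    (h3 : IsIso ((SimplicialObject.coskAdj n).unit.app K) ∧
      IsIso ((SimplicialObject.coskAdj n).unit.app L)) :
    (∀ p : ℕ, Epi (v.app (op (SimplexCategory.mk p)))) ∧
    QuasiIso ((AlgebraicTopology.alternatingFaceMapComplex _).map
      (Functor.whiskerRight v (Sheaf.composeAndSheafify J AddCommGrpCat.free.{u}))) := by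
  let ι := sheafToPresheaf J (Type u)
  let v' : K ⋙ ι ⟶ L ⋙ ι := Functor.whiskerRight v ι
  have h1' : ∀ p : ℕ, p < n → IsIso (v'.app (op (SimplexCategory.mk p))) := by
    intro p hp
    have := h1 p hp
    change IsIso (ι.map (v.app (op (SimplexCategory.mk p))))
    infer_instance
  have h2' : Presheaf.IsLocallySurjective J (v'.app (op (SimplexCategory.mk n))) :=
    (Sheaf.isLocallySurjective_iff_epi (v.app (op (SimplexCategory.mk n)))).2 h2
  have hK := isIso_unit_comp_sheafToPresheaf J K n h3.1
  have hL := isIso_unit_comp_sheafToPresheaf J L n h3.2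
  have hR := rllp_of_cosk J v' n h1' h2' hK hL
  refine ⟨fun p => ?_, ?_⟩
  · have := isLocallySurjective_of_rllp hR p
    exact (Sheaf.isLocallySurjective_iff_epi (v.app (op (SimplexCategory.mk p)))).1 this
  · rw [quasiIso_iff]
    intro i
    rw [quasiIsoAt_iff_isIso_homologyMap]
    exact isIso_homologyMap_sheafCx J v' n h1' h2' hK hL i

end Sheaves

end Groth.Agent.R2.H38.RelHyp
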