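import Groth.Prelude.Def_RedSub
import Mathlib.LinearAlgebra.RootSystem.Base

/-!
# helper38: reflected bases and parabolic subsets of roots (for S8517)
-/

set_option autoImplicit false
set_option linter.unusedSectionVars false
open Function Set

namespace Groth.Agent.R2.H38.RootPos

variable {idx M N : Type} [Finite idx] [AddCommGroup M] [AddCommGroup N]
  (P : RootPairing idx ℤ M N)

/-- the base obtained by reflecting in the root `α` -/
noncomputable def reflectBase (b : P.Base) (α : idx) : P.Base where
  support := b.support.map (P.reflectionPerm α).toEmbedding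
  linearIndepOn_root := by
    have h := b.linearIndepOn_root
    have h' : LinearIndepOn ℤ ((P.reflection α) ∘ P.root) (b.support : Set idx) :=
      h.map' (P.reflection α).toLinearMap (LinearMap.ker_eq_bot.2 (P.reflection α).injective)
    have h'' : LinearIndepOn ℤ (P.root ∘ (P.reflectionPerm α)) (b.support : Set idx) := by
      convert h' using 1
      ext j
      simp
    simpa using LinearIndepOn.image_of_comp _ _ h''
  linearIndepOn_coroot := by
    have h := b.linearIndepOn_coroot
    have h' : LinearIndepOn ℤ ((P.coreflection α) ∘ P.coroot) (b.support : Set idx) :=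
      h.map' (P.coreflection α).toLinearMap (LinearMap.ker_eq_bot.2 (P.coreflection α).injective)
    have h'' : LinearIndepOn ℤ (P.coroot ∘ (P.reflectionPerm α)) (b.support : Set idx) := by
      convert h' using 1
      ext j
      simp
    simpa using LinearIndepOn.image_of_comp _ _ h''
  root_mem_or_neg_mem i := by
    have key : ∀ x : M, x ∈ AddSubmonoid.closure (P.root '' (b.support : Set idx)) →
        P.reflection α x ∈ AddSubmonoid.closure
          (P.root '' ((b.support.map (P.reflectionPerm α).toEmbedding : Finset idx) : Set idx)) := by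
      intro x hx
      induction hx using AddSubmonoid.closure_induction with
      | mem y hy =>
        obtain ⟨j, hj, rfl⟩ := hy
        refine AddSubmonoid.subset_closure ⟨P.reflectionPerm α j, ?_, by simp⟩
        simpa using hj
      | zero => simp
      | add y z _ _ hy hz => rw [map_add]; exact add_mem hy hz
    have hi : P.root i = P.reflection α (P.root (P.reflectionPerm α i)) := by simp
    rcases b.root_mem_or_neg_mem (P.reflectionPerm α i) with h | h
    · left
      rw [hi]
      exact key _ h
    · right
      rw [hi, ← map_neg]
      exact key _ h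
  coroot_mem_or_neg_mem i := by
    have key : ∀ x : N, x ∈ AddSubmonoid.closure (P.coroot '' (b.support : Set idx)) →
        P.coreflection α x ∈ AddSubmonoid.closure
          (P.coroot '' ((b.support.map (P.reflectionPerm α).toEmbedding : Finset idx) : Set idx)) := by
      intro x hx
      induction hx using AddSubmonoid.closure_induction with
      | mem y hy =>
        obtain ⟨j, hj, rfl⟩ := hy
        refine AddSubmonoid.subset_closure ⟨P.reflectionPerm α j, ?_, by simp⟩
        simpa using hj
      | zero => simp
      | add y z _ _ hy hz => rw [map_add]; exact add_mem hy hz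
    have hi : P.coroot i = P.coreflection α (P.coroot (P.reflectionPerm α i)) := by simp
    rcases b.coroot_mem_or_neg_mem (P.reflectionPerm α i) with h | h
    · left
      rw [hi]
      exact key _ h
    · right
      rw [hi, ← map_neg]
      exact key _ h

/-- reflecting maps the positive cone of `b` into that of the reflected base -/
theorem reflection_mem_closure (b : P.Base) (α : idx) (x : M)
    (hx : x ∈ AddSubmonoid.closure (P.root '' (b.support : Set idx))) :
    P.reflection α x ∈ AddSubmonoid.closure
      (P.root '' ((reflectBase P b α).support : Set idx)) := by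
  induction hx using AddSubmonoid.closure_induction with
  | mem y hy =>
    obtain ⟨j, hj, rfl⟩ := hy
    refine AddSubmonoid.subset_closure ⟨P.reflectionPerm α j, ?_, by simp⟩
    simpa [reflectBase] using hj
  | zero => simp
  | add y z _ _ hy hz => rw [map_add]; exact add_mem hy hz

/-- positive roots of the reflected base -/
theorem mem_posRoots_reflectBase (b : P.Base) (α i : idx)
    (hi : P.reflectionPerm α i ∈ RedSub.posRoots P b) :
    i ∈ RedSub.posRoots P (reflectBase P b α) := by
  change P.root i ∈ AddSubmonoid.closure (P.root '' ((reflectBase P b α).support : Set idx))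
  have h := reflection_mem_closure P b α _ hi
  simpa using h

variable {P}

/-- elements of the positive cone are natural combinations of the simple roots -/
theorem exists_nat_coeff (b : P.Base) (m : M)
    (hm : m ∈ AddSubmonoid.closure (P.root '' (b.support : Set idx))) :
    ∃ f : idx → ℕ, f.support ⊆ b.support ∧ m = ∑ j ∈ b.support, f j • P.root j := by
  classical
  refine AddSubmonoid.closure_induction ?_ ⟨0, by simp⟩ ?_ hm
  · rintro - ⟨j, hj, rfl⟩
    exact ⟨Pi.single j 1, by simpa using hj, by aesop (add simp Pi.single_apply)⟩
  · intro _ _ _ _ ⟨f, hf, hf'⟩ ⟨g, hg, hg'⟩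
    refine ⟨f + g, ?_, by simp [hf', hg', add_smul, Finset.sum_add_distrib]⟩
    exact (support_add f g).trans <| union_subset_iff.mpr ⟨hf, hg⟩

theorem mem_posRoots_iff_isPos (b : P.Base) (i : idx) :
    i ∈ RedSub.posRoots P b ↔ b.IsPos i := by
  constructor
  · intro hi
    obtain ⟨f, -, hf⟩ := exists_nat_coeff b _ hi
    have hf' : P.root i = ∑ j ∈ b.support, ((f j : ℤ)) • P.root j := by
      rw [hf]
      simp
    rw [RootPairing.Base.isPos_iff', RootPairing.Base.height_eq_sum hf']
    exact Finset.sum_nonneg fun j _ => Int.natCast_nonneg _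
  · intro hi
    rcases b.root_mem_or_neg_mem i with h | h
    · exact h
    · exfalso
      obtain ⟨f, -, hf⟩ := exists_nat_coeff b _ h
      have hf' : P.root i = ∑ j ∈ b.support, (-(f j : ℤ)) • P.root j := by
        rw [← neg_neg (P.root i), hf]
        simp
      rw [RootPairing.Base.isPos_iff, RootPairing.Base.height_eq_sum hf'] at hi
      have : ∑ j ∈ b.support, (-(f j : ℤ)) ≤ 0 :=
        Finset.sum_nonpos fun j _ => neg_nonpos.2 (Int.natCast_nonneg _)
      omega

/-- a closed set of roots containing the simple roots contains the positive roots -/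
theorem posRoots_subset_of_closed (b : P.Base) (Q : Set idx)
    (hQ : ∀ a c d : idx, a ∈ Q → c ∈ Q → P.root a + P.root c = P.root d → d ∈ Q)
    (hs : ∀ a ∈ b.support, a ∈ Q) : RedSub.posRoots P b ⊆ Q := by
  intro i hi
  rw [mem_posRoots_iff_isPos] at hi
  exact hi.induction_on_add (p := fun j => j ∈ Q) hs
    (fun i j k hk hi hj => hQ i j k hi (hs j hj) hk.symm)

theorem isAddTorsionFree_left (P : RootPairing idx ℤ M N) : IsAddTorsionFree M := by
  have : Module.IsReflexive ℤ M := .of_isPerfPair P.toLinearMap
  exact .of_isTorsionFree ℤ M

theorem isAddTorsionFree_right (P : RootPairing idx ℤ M N) : IsAddTorsionFree N := by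
  have : Module.IsReflexive ℤ N := .of_isPerfPair P.flip.toLinearMap
  exact .of_isTorsionFree ℤ N

/-- a simple reflection permutes the positive roots other than the simple root itself -/
theorem reflectionPerm_mem_posRoots (b : P.Base) {α i : idx} (hα : α ∈ b.support)
    (hi : i ∈ RedSub.posRoots P b) (hiα : i ≠ α) :
    P.reflectionPerm α i ∈ RedSub.posRoots P b := by
  classical
  have := isAddTorsionFree_left P
  have := isAddTorsionFree_right P
  obtain ⟨f, hf₀, hf⟩ := exists_nat_coeff b _ hi
  set c : ℤ := P.pairing i α with hc
  let g : idx → ℤ := fun j => (f j : ℤ) - c * (Pi.single α (1 : ℤ) : idx → ℤ) j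
  have hgsum : ∑ j ∈ b.support, g j • P.root j = P.root (P.reflectionPerm α i) := by
    rw [RootPairing.root_reflectionPerm, RootPairing.reflection_apply_root, hf]
    simp only [g, sub_smul, Finset.sum_sub_distrib, mul_smul]
    congr 1
    · simp
    · rw [← Finset.smul_sum]
      congr 1
      rw [Finset.sum_eq_single_of_mem α hα]
      · simp
      · intro j _ hj
        simp [hj]
  have hg₀ : g.support ⊆ b.support := by
    intro j hj
    by_contra hjs
    apply hj
    have h1 : f j = 0 := by
      by_contra h
      exact hjs (hf₀ h)
    have h2 : j ≠ α := fun h => hjs (h ▸ hα)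
    simp [g, h1, Pi.single_apply, h2]
  rcases b.pos_or_neg_of_sum_smul_root_mem g (hgsum ▸ Set.mem_range_self _) hg₀ with hg | hg
  · rw [mem_posRoots_iff_isPos, RootPairing.Base.isPos_iff',
      RootPairing.Base.height_eq_sum hgsum.symm]
    exact Finset.sum_nonneg fun j _ => hg.le j
  · exfalso
    have hfz : ∀ j, j ≠ α → f j = 0 := by
      intro j hj
      have h1 : g j ≤ 0 := hg.le j
      have h2 : g j = (f j : ℤ) := by simp [g, Pi.single_apply, hj]
      have h3 : (0 : ℤ) ≤ f j := Int.natCast_nonneg _
      omega
    have hroot : P.root i = ((f α : ℕ) : ℤ) • P.root α := by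
      rw [hf, Finset.sum_eq_single_of_mem α hα]
      · simp
      · intro j _ hj
        simp [hfz j hj]
    have h1 := b.eq_one_or_neg_one_of_mem_support_of_smul_mem α hα ((f α : ℕ) : ℤ)
      (hroot ▸ Set.mem_range_self i)
    have h2 : (0 : ℤ) ≤ (f α : ℕ) := Int.natCast_nonneg _
    rcases h1 with h1 | h1
    · rw [h1, one_smul] at hroot
      exact hiα (P.root.injective hroot)
    · omega

/-- a positive root is not the negative of a positive root -/
theorem neg_not_mem_posRoots (b : P.Base) {i : idx} (hi : i ∈ RedSub.posRoots P b) :
    P.reflectionPerm i i ∉ RedSub.posRoots P b := by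
  intro h
  rw [mem_posRoots_iff_isPos] at hi h
  have := (RootPairing.Base.IsPos.neg_iff_not b i).1 h
  exact this hi

/-- for a base, every root or its negative is positive -/
theorem mem_posRoots_or_neg (b : P.Base) (i : idx) :
    i ∈ RedSub.posRoots P b ∨ P.reflectionPerm i i ∈ RedSub.posRoots P b := by
  rcases b.root_mem_or_neg_mem i with h | h
  · exact Or.inl h
  · right
    change P.root (P.reflectionPerm i i) ∈
      AddSubmonoid.closure (P.root '' (b.support : Set idx))
    simpa using h

/-- **Parabolic subsets contain a system of positive roots**: a closed set `Q` of roots such that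
every root or its negative lies in `Q` contains the positive roots of some base (given that a base
exists). -/
theorem exists_base_posRoots_subset (Q : Set idx)
    (hQ : ∀ a c d : idx, a ∈ Q → c ∈ Q → P.root a + P.root c = P.root d → d ∈ Q)
    (hQ' : ∀ a : idx, a ∈ Q ∨ P.reflectionPerm a a ∈ Q) (b₀ : P.Base) :
    ∃ b : P.Base, RedSub.posRoots P b ⊆ Q := by
  classical
  suffices H : ∀ (k : ℕ) (b : P.Base),
      Nat.card idx - (RedSub.posRoots P b ∩ Q).ncard = k → ∃ b' : P.Base, RedSub.posRoots P b' ⊆ Q from
    H _ b₀ rfl
  intro k
  induction k using Nat.strong_induction_on with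
  | _ k ih =>
    intro b hk
    by_cases hs : ∀ a ∈ b.support, a ∈ Q
    · exact ⟨b, posRoots_subset_of_closed b Q hQ hs⟩
    · push Not at hs
      obtain ⟨α, hα, hαQ⟩ := hs
      have hnegQ : P.reflectionPerm α α ∈ Q := (hQ' α).resolve_left hαQ
      have hαpos : α ∈ RedSub.posRoots P b := AddSubmonoid.subset_closure ⟨α, hα, rfl⟩
      let b' := reflectBase P b α
      have hsub : insert (P.reflectionPerm α α) (RedSub.posRoots P b ∩ Q) ⊆
          RedSub.posRoots P b' ∩ Q := by
        intro i hi
        rcases hi with rfl | ⟨hi1, hi2⟩
        · refine ⟨mem_posRoots_reflectBase P b α _ ?_, hnegQ⟩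
          simpa using hαpos
        · have hiα : i ≠ α := fun h => hαQ (h ▸ hi2)
          refine ⟨mem_posRoots_reflectBase P b α _ (reflectionPerm_mem_posRoots b hα hi1 hiα), hi2⟩
      have hnot : P.reflectionPerm α α ∉ RedSub.posRoots P b ∩ Q :=
        fun h => neg_not_mem_posRoots b hαpos h.1
      have hfin : (RedSub.posRoots P b' ∩ Q).Finite := Set.toFinite _
      have hcard : (RedSub.posRoots P b ∩ Q).ncard + 1 ≤ (RedSub.posRoots P b' ∩ Q).ncard := by
        rw [← Set.ncard_insert_of_notMem hnot (Set.toFinite _)]
        exact Set.ncard_le_ncard hsub hfin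
      have hle : (RedSub.posRoots P b' ∩ Q).ncard ≤ Nat.card idx := by
        have := Set.ncard_le_ncard (Set.subset_univ (RedSub.posRoots P b' ∩ Q)) (Set.toFinite _)
        rwa [Set.ncard_univ] at this
      exact ih (Nat.card idx - (RedSub.posRoots P b' ∩ Q).ncard) (by omega) b' rfl

end Groth.Agent.R2.H38.RootPos
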