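import Groth.Prelude.Def_SGA4b
import Groth.Agent.R2.H38EtPull
import Mathlib.CategoryTheory.Sites.LeftExact
import Mathlib.CategoryTheory.Adhesive.Basic
import Mathlib.CategoryTheory.Limits.FilteredColimitCommutesFiniteLimit

/-!
# helper38: inverse image of etale sheaves of sets is left exact; naturality of `secPull`
-/

set_option autoImplicit false
universe u
open CategoryTheory CategoryTheory.Limits Opposite AlgebraicGeometry

namespace Groth.Agent.R2.H38.ShPull

variable {X Y : Scheme.{u}}

instance hasExactColimits_costructuredArrow_bc (g : X ⟶ Y) (d : (X.Etale)ᵒᵖ) :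
    HasExactColimitsOfShape (CostructuredArrow (EtCoh.bc g).op d) (Type (u + 1)) := by
  have : IsFiltered (CostructuredArrow (EtCoh.bc g).op d) :=
    IsFiltered.of_equivalence (structuredArrowOpEquivalence (EtCoh.bc g) (unop d))
  exact ⟨inferInstance⟩

/-- the inverse image of etale sheaves of sets is left exact -/
instance pullSh_preservesFiniteLimits (g : X ⟶ Y) : PreservesFiniteLimits (EtDesc.pullSh g) := by
  have h : PreservesFiniteLimits
      ((EtCoh.bc g).op.lan : (_ ⥤ _ ⥤ Type (u + 1))) :=
    EtPull.lan_preservesFiniteLimits_of_flat' (Type (u + 1)) (EtCoh.bc g)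
  exact Functor.sheafPullbackConstruction.preservesFiniteLimits (EtCoh.bc g)
    (Type (u + 1)) Y.smallEtaleTopology X.smallEtaleTopology

/-- naturality of the pullback of global sections -/
theorem secPull_naturality (h : Y ⟶ X) {F G : EtDesc.Sh X} (φ : F ⟶ G)
    (s : EtDesc.sect F (EtCoh.top X)) :
    EtDesc.secPull h G (φ.hom.app (op (EtCoh.top X)) s) =
      ((EtDesc.pullSh h).map φ).hom.app (op (EtCoh.top Y)) (EtDesc.secPull h F s) := by
  dsimp only [EtDesc.secPull]
  have h1 := congrArg (fun ψ => ψ.hom.app (op (EtCoh.top X)) s)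
    ((EtDesc.adjSh h).unit.naturality φ)
  have h2 := NatTrans.naturality_apply ((EtDesc.pullSh h).map φ).hom
    (EtCore.bcTopIso h).inv.op
    (((EtDesc.adjSh h).unit.app F).hom.app (op (EtCoh.top X)) s)
  simp only [Functor.id_map, Functor.comp_map] at h1
  exact (congrArg _ h1).trans h2.symm

/-- sections of a mono of sheaves of sets are injective -/
theorem injective_app_of_mono {F G : EtDesc.Sh X} (u : F ⟶ G) [Mono u] (U : X.Etale) :
    Function.Injective (u.hom.app (op U)) := by
  have : Mono u.hom := (sheafToPresheaf _ _).map_mono u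
  have : Mono (u.hom.app (op U)) := inferInstance
  exact (mono_iff_injective _).1 this

end Groth.Agent.R2.H38.ShPull
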