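import Groth.Prelude.Def_EtBCD
import Groth.Agent.R2.H38ShPull

/-!
# helper38: factorisation of `secPull` along a commutative square through the base change map
-/

set_option autoImplicit false
universe u
open CategoryTheory CategoryTheory.Limits Opposite AlgebraicGeometry
namespace Groth.Agent.R2.H38.SecPullBC
variable {X Y Xb Yb : Scheme.{u}}

/-- two images of a section under maps induced by morphisms into a terminal object agree -/
theorem map_eq_map_of_isTerminal {Z : Scheme.{u}} (G : EtDesc.Sh Z) {A B : Z.Etale}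
    (hA : IsTerminal A) (m m' : B ⟶ A) (x : G.obj.obj (op A)) :
    G.obj.map m.op x = G.obj.map m'.op x := by
  rw [hA.hom_ext m m']

/-- the adjunction identity for the base change map -/
theorem unit_comp_push_baseChange0Sh (h : Y ⟶ X) (p : Xb ⟶ X) (hb : Yb ⟶ Xb) (pY : Yb ⟶ Y)
    (w : hb ≫ p = pY ≫ h) (Fb : EtDesc.Sh Xb) :
    (EtDesc.adjSh h).unit.app ((EtDesc.pushSh p).obj Fb) ≫
        (EtDesc.pushSh h).map (EtBC.baseChange0Sh p h pY hb w Fb) =
      (EtDesc.pushSh p).map ((EtDesc.adjSh hb).unit.app Fb) ≫ (EtDesc.pushCompSh p hb).hom.app _ ≫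
        (EtBC.pushCongrSh w).hom.app _ ≫ (EtDesc.pushCompSh h pY).inv.app _ := by
  have e := Equiv.apply_symm_apply ((EtDesc.adjSh h).homEquiv ((EtDesc.pushSh p).obj Fb)
    ((EtDesc.pushSh pY).obj ((EtDesc.pullSh hb).obj Fb)))
    ((EtDesc.pushSh p).map ((EtDesc.adjSh hb).unit.app Fb) ≫ (EtDesc.pushCompSh p hb).hom.app _ ≫
        (EtBC.pushCongrSh w).hom.app _ ≫ (EtDesc.pushCompSh h pY).inv.app _)
  rw [Adjunction.homEquiv_unit] at e
  exact e


theorem map_chain_of_isTerminal {Z : Scheme.{u}} (G : EtDesc.Sh Z) {A B C1 C2 C3 C4 C5 : Z.Etale}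
    (hA : IsTerminal A) (m0 : B ⟶ A) (m1 : B ⟶ C1) (m2 : C1 ⟶ C2) (m3 : C2 ⟶ C3) (m4 : C3 ⟶ C4)
    (m5 : C4 ⟶ C5) (m6 : C5 ⟶ A) (x : G.obj.obj (op A)) :
    G.obj.map m0.op x = G.obj.map m1.op (G.obj.map m2.op (G.obj.map m3.op (G.obj.map m4.op
      (G.obj.map m5.op (G.obj.map m6.op x))))) := by
  rw [hA.hom_ext m0 (m1 ≫ m2 ≫ m3 ≫ m4 ≫ m5 ≫ m6)]
  simp only [op_comp, Functor.map_comp, ConcreteCategory.comp_apply]

theorem secPull_factor (h : Y ⟶ X) (p : Xb ⟶ X) (hb : Yb ⟶ Xb) (pY : Yb ⟶ Y)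
    (w : hb ≫ p = pY ≫ h) (Fb : EtDesc.Sh Xb) (s : EtDesc.sect Fb (EtCoh.top Xb)) :
    EtDesc.secPull hb Fb s =
      ((EtDesc.pullSh hb).obj Fb).obj.map (EtCore.bcTopIso pY).inv.op
        ((EtBC.baseChange0Sh p h pY hb w Fb).hom.app (op (EtCoh.top Y))
          (EtDesc.secPull h ((EtDesc.pushSh p).obj Fb)
            (Fb.obj.map (EtCore.bcTopIso p).hom.op s))) := by
  set t : EtDesc.sect ((EtDesc.pushSh p).obj Fb) (EtCoh.top X) := Fb.obj.map (EtCore.bcTopIso p).hom.op s with ht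
  -- step 1: naturality of the base change map
  have h1 : (EtBC.baseChange0Sh p h pY hb w Fb).hom.app (op (EtCoh.top Y))
      (EtDesc.secPull h ((EtDesc.pushSh p).obj Fb) t) =
      ((EtDesc.pushSh pY).obj ((EtDesc.pullSh hb).obj Fb)).obj.map (EtCore.bcTopIso h).inv.op
        ((EtBC.baseChange0Sh p h pY hb w Fb).hom.app (op ((EtCoh.bc h).obj (EtCoh.top X)))
          (((EtDesc.adjSh h).unit.app ((EtDesc.pushSh p).obj Fb)).hom.app (op (EtCoh.top X)) t)) :=
    NatTrans.naturality_apply (EtBC.baseChange0Sh p h pY hb w Fb).hom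
      (EtCore.bcTopIso h).inv.op (((EtDesc.adjSh h).unit.app ((EtDesc.pushSh p).obj Fb)).hom.app (op (EtCoh.top X)) t)
  -- step 2: the adjunction identity
  have h2 := congrArg (fun ψ => ψ.hom.app (op (EtCoh.top X)) t)
    (unit_comp_push_baseChange0Sh h p hb pY w Fb)
  -- step 3: naturality of the unit of hb
  have h3 : ((EtDesc.adjSh hb).unit.app Fb).hom.app (op ((EtCoh.bc p).obj (EtCoh.top X))) t =
      ((EtDesc.pullSh hb).obj Fb).obj.map ((EtCoh.bc hb).map (EtCore.bcTopIso p).hom).op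
        (((EtDesc.adjSh hb).unit.app Fb).hom.app (op (EtCoh.top Xb)) s) :=
    NatTrans.naturality_apply ((EtDesc.adjSh hb).unit.app Fb).hom
      (EtCore.bcTopIso p).hom.op s
  rw [h1]
  simp only [] at h2
  simp only [ObjectProperty.FullSubcategory.comp_hom, NatTrans.comp_app, ConcreteCategory.comp_apply, EtDesc.pushCompSh, EtBC.pushCongrSh,
    Functor.sheafPushforwardContinuousComp'_hom_app_hom_app,
    Functor.sheafPushforwardContinuousComp'_inv_app_hom_app,
    Functor.sheafPushforwardContinuousIso_hom,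
    Functor.sheafPushforwardContinuousNatTrans_app_hom] at h2
  simp only [Functor.whiskerRight_app, NatTrans.op_app, ObjectProperty.ι_obj] at h2
  have h2' : (EtBC.baseChange0Sh p h pY hb w Fb).hom.app (op ((EtCoh.bc h).obj (EtCoh.top X)))
      (((EtDesc.adjSh h).unit.app ((EtDesc.pushSh p).obj Fb)).hom.app (op (EtCoh.top X)) t) = _ := h2
  rw [h2']
  have h3' : (((EtDesc.pushSh p).map ((EtDesc.adjSh hb).unit.app Fb)).hom.app (op (EtCoh.top X))) t
      = _ := h3
  rw [h3']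
  change ((EtDesc.pullSh hb).obj Fb).obj.map (EtCore.bcTopIso hb).inv.op
    (((EtDesc.adjSh hb).unit.app Fb).hom.app (op (EtCoh.top Xb)) s) =
    ((EtDesc.pullSh hb).obj Fb).obj.map (EtCore.bcTopIso pY).inv.op (((EtDesc.pullSh hb).obj Fb).obj.map ((EtCoh.bc pY).map (EtCore.bcTopIso h).inv).op _)
  exact map_chain_of_isTerminal ((EtDesc.pullSh hb).obj Fb) (EtCore.bcTopIsTerminal hb) _ _ _ _ _ _ _ _
end Groth.Agent.R2.H38.SecPullBC
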