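import Mathlib
import Groth.Prelude.Def_Adeq
import Groth.Agent.Lib.Helper13AdeqD

/-!
# The base change map `B' ⊗_B F(B) → F(B')` of a module-valued functor (helper39)

* `bc_one_tmul`: `F.bc f (1 ⊗ x) = F(f)(x)`.
* `locAway A B b : B ⟶ B_b` the localisation as a morphism of `A`-algebras; it is flat.
* `exists_pow_smul_eq_zero_of_map_eq_zero`: if `B' ⊗_B G(B) → G(B')` is an isomorphism for `B' = B_b`,
  then an element of `G(B)` dying in `G(B_b)` is killed by a power of `b`.
* `smul_comm_of_additive_units`: Stacks, Lemma 06V4 (additive transformations commuting with units are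
  linear when the target satisfies flat base change).
-/

set_option autoImplicit false
universe u v
open CategoryTheory Limits Opposite TensorProduct

namespace Groth.Agent.R2.H39.AdeqBC

open Adeq Groth.Agent.Helper13Adeq

section general

theorem tmul_eq_zero_of_localization {R : Type u} {S : Type u} {M : Type v} [CommRing R] [CommRing S]
    [Algebra R S] [AddCommGroup M] [Module R M] (b : R) [IsLocalization.Away b S]
    (inst : Module R S) (hinst : ∀ (r : R) (s : S), inst.smul r s = algebraMap R S r * s) (z : M)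
    (h : @TensorProduct.tmul R _ S M _ _ inst _ 1 z = 0) : ∃ n : ℕ, b ^ n • z = 0 := by
  have e : inst = Algebra.toModule := Module.ext' _ _ (fun r s => by
    rw [Algebra.smul_def]; exact hinst r s)
  subst e
  have h1 : IsLocalizedModule (Submonoid.powers b) (TensorProduct.mk R S M 1) :=
    (isLocalizedModule_iff_isBaseChange (Submonoid.powers b) S _).mpr
      (TensorProduct.isBaseChange R M S)
  obtain ⟨⟨c, n, rfl⟩, hc⟩ := (IsLocalizedModule.eq_zero_iff (Submonoid.powers b)
    (TensorProduct.mk R S M 1)).1 h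
  exact ⟨n, hc⟩

end general

variable {A : Type u} [CommRing A]

theorem mapEl_sub' (F : MVF A) {B B' : Alg A} (f : B ⟶ B') (x y : F.obj (pt B)) :
    mapEl F f (x - y) = mapEl F f x - mapEl F f y :=
  map_sub (F.map (ptHom f)).hom x y

theorem bc_one_tmul (F : MVF A) {B B' : Alg A} (f : B ⟶ B') (x : F.obj (pt B)) :
    F.bc f (@TensorProduct.tmul B _ B' (F.obj (pt B)) _ _
      (Module.compHom B' f.hom.toRingHom) _ (1 : B') x) = F.map (ptHom f) x := by
  have h := Equiv.apply_symm_apply ((ModuleCat.extendRestrictScalarsAdj.{u + 1, u, u}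
    f.hom.toRingHom).homEquiv (F.obj (pt B)) (F.obj (pt B'))) (F.map (ptHom f))
  exact congrArg (fun ψ => ψ x) h

theorem bijective_bc_of_isIso (F : MVF A) {B B' : Alg A} (f : B ⟶ B') [IsIso (F.bc f)] :
    Function.Bijective (F.bc f) :=
  ConcreteCategory.bijective_of_isIso (F.bc f)

variable (A) in
/-- the localisation `B → B_b` as a morphism of `A`-algebras -/
noncomputable def locAway (B : Alg A) (b : B) : B ⟶ algOf A (Localization.Away b) :=
  CommAlgCat.ofHom (IsScalarTower.toAlgHom A B (Localization.Away b))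

theorem locAway_flat (B : Alg A) (b : B) : (locAway A B b).hom.toRingHom.Flat := by
  change (algebraMap B (Localization.Away b)).Flat
  rw [RingHom.flat_algebraMap_iff]
  exact IsLocalization.flat (Localization.Away b) (Submonoid.powers b)

theorem exists_pow_smul_eq_zero_of_map_eq_zero (G : MVF A) (B : Alg A) (b : B)
    (hG : IsIso (G.bc (locAway A B b))) (z : G.obj (pt B))
    (hz : mapEl G (locAway A B b) z = 0) : ∃ n : ℕ, b ^ n • z = 0 := by
  have h1 := bc_one_tmul G (locAway A B b) z
  have h2 : G.bc (locAway A B b) (@TensorProduct.tmul B _ (Localization.Away b) (G.obj (pt B)) _ _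
      (Module.compHom (Localization.Away b) (locAway A B b).hom.toRingHom) _
      (1 : Localization.Away b) z) = G.bc (locAway A B b) 0 := by
    rw [h1, map_zero]
    exact hz
  have h3 := (bijective_bc_of_isIso G (locAway A B b)).1 h2
  exact tmul_eq_zero_of_localization (S := Localization.Away b) b
    (Module.compHom (Localization.Away b) (locAway A B b).hom.toRingHom) (fun r s => rfl) z h3

/-- Stacks 06V4 -/
theorem smul_comm_of_additive_units (F G : MVF A)
    (φ : ∀ B : Alg A, F.obj (pt B) → G.obj (pt B))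
    (hnat : ∀ ⦃B B' : Alg A⦄ (f : B ⟶ B') (x : F.obj (pt B)),
      φ B' (F.map (ptHom f) x) = G.map (ptHom f) (φ B x))
    (hadd : ∀ (B : Alg A) (x y : F.obj (pt B)), φ B (x + y) = φ B x + φ B y)
    (hunit : ∀ (B : Alg A) (v : (B : Type u)ˣ) (x : F.obj (pt B)),
      φ B ((v : B) • x) = (v : B) • φ B x)
    (hG : ∀ ⦃B B' : Alg A⦄ (f : B ⟶ B'), f.hom.toRingHom.Flat → IsIso (G.bc f))
    (B : Alg A) (b : B) (x : F.obj (pt B)) : φ B (b • x) = b • φ B x := by
  have hsub : ∀ (B : Alg A) (y y' : F.obj (pt B)), φ B (y - y') = φ B y - φ B y' := by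
    intro B y y'
    have := hadd B (y - y') y'
    rw [sub_add_cancel] at this
    rw [this, add_sub_cancel_right]
  have hnat' : ∀ {B B' : Alg A} (f : B ⟶ B') (x : F.obj (pt B)),
      φ B' (mapEl F f x) = mapEl G f (φ B x) := fun f x => hnat f x
  -- the defect
  set z : G.obj (pt B) := φ B (b • x) - b • φ B x with hz
  -- the defect dies whenever `b` or `1 + b` becomes a unit
  have key : ∀ {B' : Alg A} (f : B ⟶ B'), (IsUnit (f.hom b) ∨ IsUnit (1 + f.hom b)) →
      mapEl G f z = 0 := by
    intro B' f hf
    have e1 : mapEl G f z = φ B' (f.hom b • mapEl F f x) - f.hom b • φ B' (mapEl F f x) := by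
      rw [hz, mapEl_sub', mapEl_smul, ← hnat' f (b • x), ← hnat' f x, mapEl_smul]
    rw [e1, sub_eq_zero]
    rcases hf with hf | hf
    · obtain ⟨v, hv⟩ := hf
      rw [← hv]
      exact hunit B' v _
    · obtain ⟨v, hv⟩ := hf
      have e2 : f.hom b • mapEl F f x = (v : B') • mapEl F f x - mapEl F f x := by
        rw [hv, add_smul, one_smul, add_sub_cancel_left]
      rw [e2, hsub, hunit, hv, add_smul, one_smul, add_sub_cancel_left]
  -- localise at `b` and at `1 + b`
  obtain ⟨n, hn⟩ := exists_pow_smul_eq_zero_of_map_eq_zero G B b (hG _ (locAway_flat B b)) z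
    (key (locAway A B b) (Or.inl (IsLocalization.Away.algebraMap_isUnit b)))
  obtain ⟨m, hm⟩ := exists_pow_smul_eq_zero_of_map_eq_zero G B (1 + b)
    (hG _ (locAway_flat B (1 + b))) z
    (key (locAway A B (1 + b)) (Or.inr (by
      have := IsLocalization.Away.algebraMap_isUnit (S := Localization.Away (1 + b)) (1 + b)
      rwa [map_add, map_one] at this)))
  have hcop : IsCoprime (b ^ n) ((1 + b) ^ m) := by
    apply IsCoprime.pow
    exact ⟨-1, 1, by ring⟩
  obtain ⟨s, t, hst⟩ := hcop
  have hz0 : z = 0 := by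
    have : z = (s * b ^ n + t * (1 + b) ^ m) • z := by rw [hst, one_smul]
    rw [this, add_smul, mul_smul, mul_smul, hn, hm, smul_zero, smul_zero, add_zero]
  exact sub_eq_zero.1 hz0

end Groth.Agent.R2.H39.AdeqBC
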