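import Mathlib
import Groth.Prelude.Def_Adeq
import Groth.Agent.Lib.Helper13AdeqD
import Groth.Agent.R2.H39AdeqBC

/-!
# Flat base change for adequate functors (helper39)

`isIso_bc_of_adequate_flat`: for an adequate functor `F` and a flat map `B → B'` of `A`-algebras the
canonical map `B' ⊗_B F(B) → F(B')` is an isomorphism (Stacks, Lemma 06UW).
-/

set_option autoImplicit false
universe u v
open CategoryTheory Limits Opposite TensorProduct

namespace Groth.Agent.R2.H39.AdeqFlat

open Adeq Groth.Agent.Helper13Adeq Groth.Agent.R2.H39.AdeqBC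

section chase

variable {R S : Type*} [CommRing R] [CommRing S] [Algebra R S] [Module.Flat R S]
  {X Y Z : Type*} [AddCommGroup X] [AddCommGroup Y] [AddCommGroup Z] [Module R X] [Module R Y]
  [Module R Z] {X' Y' Z' : Type*} [AddCommGroup X'] [AddCommGroup Y'] [AddCommGroup Z']

/-- the diagram chase behind flat base change of kernels -/
theorem bijective_of_flat_diagram (i : X →ₗ[R] Y) (φ : Y →ₗ[R] Z)
    (hi : Function.Injective i) (hex : Function.Exact i φ)
    (i' : X' → Y') (φ' : Y' → Z') (hi' : Function.Injective i')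
    (hex' : ∀ y, φ' y = φ' (i' 0) → ∃ x, i' x = y)
    (hz' : ∀ x, φ' (i' x) = φ' (i' 0))
    (a : S ⊗[R] X → X') (b : S ⊗[R] Y → Y') (c : S ⊗[R] Z → Z')
    (ha0 : a 0 = 0) (hi0 : i' 0 = b 0)
    (hb : Function.Bijective b) (hc : Function.Injective c)
    (h1 : ∀ t, i' (a t) = b (i.lTensor S t)) (h2 : ∀ t, φ' (b t) = c (φ.lTensor S t)) :
    Function.Bijective a := by
  have hiS : Function.Injective (i.lTensor S) :=
    Module.Flat.lTensor_preserves_injective_linearMap i hi
  have hexS : Function.Exact (i.lTensor S) (φ.lTensor S) := Module.Flat.lTensor_exact S hex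
  constructor
  · intro t t' h
    apply hiS
    apply hb.1
    rw [← h1, ← h1, h]
  · intro y
    obtain ⟨w, hw⟩ := hb.2 (i' y)
    have h3 : φ.lTensor S w = 0 := by
      apply hc
      rw [← h2, hw, hz', hi0, h2, map_zero]
    obtain ⟨t, ht⟩ := (hexS w).1 h3
    refine ⟨t, hi' ?_⟩
    rw [h1, ht, hw]

theorem eq_of_tmul {Y'' : Type*} [AddCommGroup Y''] (p q : S ⊗[R] X →+ Y'')
    (h : ∀ (s : S) (x : X), p (s ⊗ₜ[R] x) = q (s ⊗ₜ[R] x)) (t : S ⊗[R] X) : p t = q t := by
  induction t using TensorProduct.induction_on with
  | zero => rw [map_zero, map_zero]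
  | add x y hx hy => rw [map_add, map_add, hx, hy]
  | tmul s x => exact h s x

end chase

variable {A : Type u} [CommRing A]

theorem bc_tmul (F : MVF A) {B B' : Alg A} (f : B ⟶ B') (s : B') (x : F.obj (pt B)) :
    F.bc f (@TensorProduct.tmul B _ B' (F.obj (pt B)) _ _
      (Module.compHom B' f.hom.toRingHom) _ s x) = s • mapEl F f x := by
  have h := (F.bc f).hom.map_smul s (@TensorProduct.tmul B _ B' (F.obj (pt B)) _ _
      (Module.compHom B' f.hom.toRingHom) _ (1 : B') x)
  have e := ModuleCat.ExtendScalars.smul_tmul f.hom.toRingHom s (1 : B') x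
  rw [mul_one] at e
  refine (congrArg (F.bc f) e.symm).trans (h.trans ?_)
  exact congrArg (s • ·) (bc_one_tmul F f x)

/-- the base change map of `underline M` is the cancellation isomorphism -/
theorem underline_bc_bijective (M : ModuleCat.{u + 1} A) {B B' : Alg A} (f : B ⟶ B') :
    Function.Bijective (((underline A).obj M).bc f) := by
  letI : Algebra B B' := f.hom.toRingHom.toAlgebra
  haveI : IsScalarTower A B B' := IsScalarTower.of_algebraMap_eq (fun a => (f.hom.commutes a).symm)
  have key : ∀ t : B' ⊗[B] (B ⊗[A] M), ((underline A).obj M).bc f t =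
      TensorProduct.AlgebraTensorModule.cancelBaseChange A B B' B' M t := by
    intro t
    induction t using TensorProduct.induction_on with
    | zero => rw [map_zero]; exact map_zero (((underline A).obj M).bc f).hom
    | add x y hx hy =>
      rw [map_add, ← hx, ← hy]; exact map_add (((underline A).obj M).bc f).hom x y
    | tmul s y =>
      refine (bc_tmul ((underline A).obj M) f s y).trans ?_
      change s • (f.hom.toLinearMap.rTensor M) y = _
      induction y using TensorProduct.induction_on with
      | zero =>
        rw [TensorProduct.tmul_zero, map_zero, map_zero, smul_zero]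
      | add y y' hy hy' =>
        rw [TensorProduct.tmul_add, map_add, map_add, smul_add, hy, hy']
      | tmul b m =>
        rw [TensorProduct.AlgebraTensorModule.cancelBaseChange_tmul, LinearMap.rTensor_tmul]
        change s • ((f.hom b) ⊗ₜ[A] m) = (f.hom b * s) ⊗ₜ[A] m
        rw [TensorProduct.smul_tmul', smul_eq_mul, mul_comm]
  constructor
  · intro t t' h
    have h' : TensorProduct.AlgebraTensorModule.cancelBaseChange A B B' B' M t =
        TensorProduct.AlgebraTensorModule.cancelBaseChange A B B' B' M t' :=
      ((key t).symm.trans h).trans (key t')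
    exact (TensorProduct.AlgebraTensorModule.cancelBaseChange A B B' B' M).injective h'
  · intro y
    obtain ⟨t, ht⟩ := (TensorProduct.AlgebraTensorModule.cancelBaseChange A B B' B' M).surjective y
    exact ⟨t, (key t).trans ht⟩

/-- Stacks, Lemma 06UW -/
theorem isIso_bc_of_adequate_flat (F : MVF A) (hF : adequate A F) {B B' : Alg A} (f : B ⟶ B')
    (hf : f.hom.toRingHom.Flat) : IsIso (F.bc f) := by
  obtain ⟨M, N, φ, i, hi, hex⟩ := (adequate_iff F).1 hF
  rw [ConcreteCategory.isIso_iff_bijective]
  letI : Algebra B B' := f.hom.toRingHom.toAlgebra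
  haveI : Module.Flat B B' := hf
  refine bijective_of_flat_diagram (R := B) (S := B') (i.app (pt B)).hom
    (((underline A).map φ).app (pt B)).hom (hi B) (hex B)
    (i.app (pt B')) (((underline A).map φ).app (pt B')) (hi B') ?_ ?_
    (F.bc f) (((underline A).obj M).bc f) (((underline A).obj N).bc f)
    (map_zero (F.bc f).hom) ?_ (underline_bc_bijective M f) (underline_bc_bijective N f).1 ?_ ?_
  · intro y hy
    rw [map_zero, map_zero] at hy
    exact (hex B' y).1 hy
  · intro x
    rw [map_zero, map_zero]
    exact (hex B' _).2 ⟨x, rfl⟩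
  · rw [map_zero]
    exact (map_zero (((underline A).obj M).bc f).hom).symm
  · intro t
    refine eq_of_tmul (R := B) (S := B')
      ((i.app (pt B')).hom.toAddMonoidHom.comp (F.bc f).hom.toAddMonoidHom)
      ((((underline A).obj M).bc f).hom.toAddMonoidHom.comp
        ((i.app (pt B)).hom.lTensor B').toAddMonoidHom) ?_ t
    intro s x
    change i.app (pt B') (F.bc f (s ⊗ₜ[B] x)) =
      ((underline A).obj M).bc f (((i.app (pt B)).hom.lTensor B') (s ⊗ₜ[B] x))
    rw [LinearMap.lTensor_tmul]
    refine (congrArg _ (bc_tmul F f s x)).trans ?_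
    refine Eq.trans ?_ (bc_tmul ((underline A).obj M) f s _).symm
    rw [app_smul, app_mapEl]
  · intro t
    refine eq_of_tmul (R := B) (S := B')
      ((((underline A).map φ).app (pt B')).hom.toAddMonoidHom.comp
        (((underline A).obj M).bc f).hom.toAddMonoidHom)
      ((((underline A).obj N).bc f).hom.toAddMonoidHom.comp
        ((((underline A).map φ).app (pt B)).hom.lTensor B').toAddMonoidHom) ?_ t
    intro s x
    change ((underline A).map φ).app (pt B') (((underline A).obj M).bc f (s ⊗ₜ[B] x)) =
      ((underline A).obj N).bc f (((((underline A).map φ).app (pt B)).hom.lTensor B') (s ⊗ₜ[B] x))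
    rw [LinearMap.lTensor_tmul]
    refine (congrArg _ (bc_tmul ((underline A).obj M) f s x)).trans ?_
    refine Eq.trans ?_ (bc_tmul ((underline A).obj N) f s _).symm
    rw [app_smul, app_mapEl]

end Groth.Agent.R2.H39.AdeqFlat
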