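import Mathlib
import Groth.Prelude.Def_W4stkadequateTF
import Groth.Agent.Lib.Helper13AdeqD
import Groth.Agent.Lib.Helper23PshModGroth

/-!
# Tangent functors of module-valued functors (helper39)

Basic functoriality of `AdeqTF.tangent`, `AdeqTF.tangentMap` and the exactness of
`0 → TF(B, N) → TG(B, N) → TH(B, N) → 0` for a short exact sequence `0 → F → G → H → 0`.
-/

set_option autoImplicit false
universe u
open CategoryTheory Limits Opposite

namespace Groth.Agent.R2.H39.AdeqTF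

open Adeq Groth.Agent.Helper13Adeq

variable {A : Type u} [CommRing A] (B : Adeq.Alg A)

theorem inl_fst (N : ModuleCat.{u} B) : AdeqTF.inl B N ≫ AdeqTF.fst B N = 𝟙 B := by
  apply CommAlgCat.hom_ext
  refine AlgHom.ext fun x => ?_
  rfl

theorem inl_map {N N' : ModuleCat.{u} B} (g : N ⟶ N') :
    AdeqTF.inl B N ≫ AdeqTF.map B g = AdeqTF.inl B N' := by
  apply CommAlgCat.hom_ext
  refine AlgHom.ext fun x => ?_
  show TrivSqZeroExt.map g.hom (TrivSqZeroExt.inl x) = TrivSqZeroExt.inl x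
  exact TrivSqZeroExt.map_inl g.hom x

theorem extMap_id (N : ModuleCat.{u} B) : AdeqTF.map B (𝟙 N) = 𝟙 (AdeqTF.ext B N) := by
  apply CommAlgCat.hom_ext
  refine AlgHom.ext fun x => ?_
  show TrivSqZeroExt.map (LinearMap.id) x = x
  rw [TrivSqZeroExt.map_id]
  rfl

theorem extMap_comp {N N' N'' : ModuleCat.{u} B} (g : N ⟶ N') (h : N' ⟶ N'') :
    AdeqTF.map B (g ≫ h) = AdeqTF.map B g ≫ AdeqTF.map B h := by
  apply CommAlgCat.hom_ext
  refine AlgHom.ext fun x => ?_
  show TrivSqZeroExt.map (h.hom ∘ₗ g.hom) x = TrivSqZeroExt.map h.hom (TrivSqZeroExt.map g.hom x)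
  rw [TrivSqZeroExt.map_comp_map]
  rfl

theorem extMap_zero (N N' : ModuleCat.{u} B) :
    AdeqTF.map B (0 : N ⟶ N') = AdeqTF.fst B N ≫ AdeqTF.inl B N' := by
  apply CommAlgCat.hom_ext
  refine AlgHom.ext fun x => ?_
  show TrivSqZeroExt.map (0 : N →ₗ[B] N') x = TrivSqZeroExt.inl (TrivSqZeroExt.fst x)
  ext
  · simp
  · simp

variable {B}

theorem mem_tangent {N : ModuleCat.{u} B} (F : MVF A) (x : F.obj (pt (AdeqTF.ext B N))) :
    x ∈ AdeqTF.tangent B N F ↔ mapEl F (AdeqTF.fst B N) x = 0 := Iff.rfl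

theorem tmap_coe {N N' : ModuleCat.{u} B} (F : MVF A) (g : N ⟶ N')
    (x : AdeqTF.tangent B N F) :
    ((AdeqTF.tangentMap B F g x : AdeqTF.tangent B N' F) : F.obj (pt (AdeqTF.ext B N'))) =
      mapEl F (AdeqTF.map B g) x.1 := rfl

theorem tmap_id {N : ModuleCat.{u} B} (F : MVF A) (x : AdeqTF.tangent B N F) :
    AdeqTF.tangentMap B F (𝟙 N) x = x := by
  apply Subtype.ext
  rw [tmap_coe, extMap_id, mapEl_id]

theorem tmap_comp {N N' N'' : ModuleCat.{u} B} (F : MVF A) (g : N ⟶ N') (h : N' ⟶ N'')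
    (x : AdeqTF.tangent B N F) :
    AdeqTF.tangentMap B F (g ≫ h) x = AdeqTF.tangentMap B F h (AdeqTF.tangentMap B F g x) := by
  apply Subtype.ext
  rw [tmap_coe, tmap_coe, tmap_coe, extMap_comp, mapEl_comp]

theorem tmap_zero {N N' : ModuleCat.{u} B} (F : MVF A) (x : AdeqTF.tangent B N F) :
    AdeqTF.tangentMap B F (0 : N ⟶ N') x = 0 := by
  apply Subtype.ext
  rw [tmap_coe, extMap_zero, mapEl_comp, (mem_tangent F x.1).1 x.2, mapEl_zero]
  rfl

theorem tmap_of_eq_zero {N N' : ModuleCat.{u} B} (F : MVF A) {g : N ⟶ N'} (hg : g = 0)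
    (x : AdeqTF.tangent B N F) : AdeqTF.tangentMap B F g x = 0 := by
  subst hg
  exact tmap_zero F x

/-- the projection of `F(B[N])` onto the tangent module -/
noncomputable def proj {N : ModuleCat.{u} B} (F : MVF A) (x : F.obj (pt (AdeqTF.ext B N))) :
    AdeqTF.tangent B N F :=
  ⟨x - mapEl F (AdeqTF.inl B N) (mapEl F (AdeqTF.fst B N) x), by
    rw [mem_tangent]
    have h1 : mapEl F (AdeqTF.fst B N) (x - mapEl F (AdeqTF.inl B N) (mapEl F (AdeqTF.fst B N) x)) =
        mapEl F (AdeqTF.fst B N) x -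
          mapEl F (AdeqTF.fst B N) (mapEl F (AdeqTF.inl B N) (mapEl F (AdeqTF.fst B N) x)) :=
      map_sub (F.map (ptHom (AdeqTF.fst B N))).hom _ _
    rw [h1, ← mapEl_comp, inl_fst, mapEl_id, sub_self]⟩

theorem proj_coe {N : ModuleCat.{u} B} (F : MVF A) (x : F.obj (pt (AdeqTF.ext B N))) :
    ((proj F x : AdeqTF.tangent B N F) : F.obj (pt (AdeqTF.ext B N))) =
      x - mapEl F (AdeqTF.inl B N) (mapEl F (AdeqTF.fst B N) x) := rfl

theorem proj_of_mem {N : ModuleCat.{u} B} (F : MVF A) (x : AdeqTF.tangent B N F) :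
    proj F x.1 = x := by
  apply Subtype.ext
  rw [proj_coe, (mem_tangent F x.1).1 x.2, mapEl_zero, sub_zero]

theorem mapEl_sub (F : MVF A) {B B' : Alg A} (f : B ⟶ B') (x y : F.obj (pt B)) :
    mapEl F f (x - y) = mapEl F f x - mapEl F f y :=
  map_sub (F.map (ptHom f)).hom x y

theorem mapEl_neg (F : MVF A) {B B' : Alg A} (f : B ⟶ B') (x : F.obj (pt B)) :
    mapEl F f (-x) = -mapEl F f x :=
  map_neg (F.map (ptHom f)).hom x

/-- a morphism of module-valued functors restricted to the tangent modules -/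
noncomputable def tanHom {F G : MVF A} (φ : F ⟶ G) (N : ModuleCat.{u} B) :
    AdeqTF.tangent B N F →+ AdeqTF.tangent B N G :=
  ((φ.app (pt (AdeqTF.ext B N))).hom.toAddMonoidHom.comp
      (AdeqTF.tangent B N F).subtype).codRestrict (AdeqTF.tangent B N G) (fun x => by
    rw [mem_tangent]
    change mapEl G (AdeqTF.fst B N) (φ.app (pt (AdeqTF.ext B N)) x.1) = 0
    rw [← app_mapEl, (mem_tangent F x.1).1 x.2]
    exact map_zero (φ.app (pt B)).hom)

theorem tanHom_coe {F G : MVF A} (φ : F ⟶ G) (N : ModuleCat.{u} B) (x : AdeqTF.tangent B N F) :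
    ((tanHom φ N x : AdeqTF.tangent B N G) : G.obj (pt (AdeqTF.ext B N))) =
      φ.app (pt (AdeqTF.ext B N)) x.1 := rfl

theorem tanHom_tmap {F G : MVF A} (φ : F ⟶ G) {N N' : ModuleCat.{u} B} (g : N ⟶ N')
    (x : AdeqTF.tangent B N F) :
    tanHom φ N' (AdeqTF.tangentMap B F g x) = AdeqTF.tangentMap B G g (tanHom φ N x) := by
  apply Subtype.ext
  rw [tanHom_coe, tmap_coe, tmap_coe, tanHom_coe, app_mapEl]

theorem tanHom_proj {F G : MVF A} (φ : F ⟶ G) (N : ModuleCat.{u} B)
    (x : F.obj (pt (AdeqTF.ext B N))) :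
    tanHom φ N (proj F x) = proj G (φ.app (pt (AdeqTF.ext B N)) x) := by
  apply Subtype.ext
  rw [tanHom_coe, proj_coe, proj_coe]
  have h1 : φ.app (pt (AdeqTF.ext B N))
      (x - mapEl F (AdeqTF.inl B N) (mapEl F (AdeqTF.fst B N) x)) =
      φ.app (pt (AdeqTF.ext B N)) x -
        φ.app (pt (AdeqTF.ext B N)) (mapEl F (AdeqTF.inl B N) (mapEl F (AdeqTF.fst B N) x)) :=
    map_sub (φ.app (pt (AdeqTF.ext B N))).hom _ _
  rw [h1, app_mapEl, app_mapEl]

section exact

variable (C : ShortComplex (MVF A)) (hC : C.ShortExact)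

include hC

theorem f_app_injective (X : Alg A) : Function.Injective (C.f.app (pt X)) := by
  have := hC.mono_f
  exact PresheafOfModules.injective_of_mono C.f (pt X)

theorem g_app_surjective (X : Alg A) : Function.Surjective (C.g.app (pt X)) := by
  have := hC.epi_g
  exact PresheafOfModules.surjective_of_epi C.g (pt X)

theorem fg_app_exact (X : Alg A) : Function.Exact (C.f.app (pt X)) (C.g.app (pt X)) :=
  PshMod.exact_app C hC.exact (pt X)

theorem tanHom_f_injective (N : ModuleCat.{u} B) : Function.Injective (tanHom C.f N) := by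
  intro x y h
  apply Subtype.ext
  apply f_app_injective C hC
  have := congrArg Subtype.val h
  rwa [tanHom_coe, tanHom_coe] at this

theorem tanHom_g_surjective (N : ModuleCat.{u} B) : Function.Surjective (tanHom C.g N) := by
  intro z
  obtain ⟨x, hx⟩ := g_app_surjective C hC (AdeqTF.ext B N) z.1
  refine ⟨proj C.X₂ x, ?_⟩
  rw [tanHom_proj, hx, proj_of_mem]

theorem tanHom_g_f (N : ModuleCat.{u} B) (w : AdeqTF.tangent B N C.X₁) :
    tanHom C.g N (tanHom C.f N w) = 0 := by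
  apply Subtype.ext
  rw [tanHom_coe, tanHom_coe]
  exact (fg_app_exact C hC (AdeqTF.ext B N) _).2 ⟨w.1, rfl⟩

theorem exists_of_tanHom_g_eq_zero (N : ModuleCat.{u} B) (y : AdeqTF.tangent B N C.X₂)
    (hy : tanHom C.g N y = 0) : ∃ w : AdeqTF.tangent B N C.X₁, tanHom C.f N w = y := by
  have h1 : C.g.app (pt (AdeqTF.ext B N)) y.1 = 0 := by
    have := congrArg Subtype.val hy
    rwa [tanHom_coe] at this
  obtain ⟨w, hw⟩ := (fg_app_exact C hC (AdeqTF.ext B N) y.1).1 h1
  have hw' : w ∈ AdeqTF.tangent B N C.X₁ := by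
    rw [mem_tangent]
    apply f_app_injective C hC
    rw [app_mapEl, hw, (mem_tangent C.X₂ y.1).1 y.2]
    exact (map_zero (C.f.app (pt B)).hom).symm
  exact ⟨⟨w, hw'⟩, Subtype.ext hw⟩

end exact

end Groth.Agent.R2.H39.AdeqTF

namespace Groth.Agent.R2.H39.AdeqTF

open Adeq Groth.Agent.Helper13Adeq Groth.Agent.Lib.Helper23PshModGroth

variable {A : Type u} [CommRing A] {B : Adeq.Alg A}

theorem tmap_proj {N N' : ModuleCat.{u} B} (F : MVF A) (g : N ⟶ N')
    (x : F.obj (pt (AdeqTF.ext B N))) :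
    AdeqTF.tangentMap B F g (proj F x) = proj F (mapEl F (AdeqTF.map B g) x) := by
  apply Subtype.ext
  rw [tmap_coe, proj_coe, proj_coe, mapEl_sub, ← mapEl_comp F (AdeqTF.inl B N), inl_map,
    ← mapEl_comp F (AdeqTF.map B g) (AdeqTF.fst B N'), AdeqTF.map_fst]

/-- an epimorphism of algebras gives an injection between the free functors, hence elements of an
injective functor lift along it -/
theorem exists_lift_of_injective (I : MVF A) [Injective I] {C C₂ : Alg A} (p : C ⟶ C₂)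
    (hp : Function.Surjective p.hom) (y : I.obj (pt C₂)) :
    ∃ x : I.obj (pt C), mapEl I p x = y := by
  let R := ringOf A
  let X₀ : (Alg A)ᵒᵖ := op C
  let X₂ : (Alg A)ᵒᵖ := op C₂
  have hepi : Epi p := ConcreteCategory.epi_of_surjective p hp
  have hmono : Mono p.op := inferInstance
  let m : (F R X₀).obj (op X₂) := (Finsupp.single ⟨p.op⟩ 1 : Idx X₀ (op X₂) →₀ R.obj (op X₂))
  let j : F R X₂ ⟶ F R X₀ := toM R (F R X₀) X₂ m
  have hj : ∀ (Y : (Alg A)ᵒᵖᵒᵖ) (w : Idx X₂ Y →₀ R.obj Y),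
      j.app Y w = Finsupp.mapDomain (fun h : Idx X₂ Y => (⟨h.down ≫ p.op⟩ : Idx X₀ Y)) w := by
    intro Y w
    change ev R (F R X₀) X₂ m Y w = _
    induction w using Finsupp.induction_linear with
    | zero => exact (map_zero _).trans Finsupp.mapDomain_zero.symm
    | add a b ha hb => exact (map_add _ a b).trans ((congrArg₂ (· + ·) ha hb).trans
        Finsupp.mapDomain_add.symm)
    | single h r =>
      rw [ev_single, Finsupp.mapDomain_single]
      change r • tr R X₀ h.down.op (Finsupp.single ⟨p.op⟩ 1) = _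
      rw [tr_single, Finsupp.smul_single]
      simp
  have : Mono j := by
    apply PresheafOfModules.mono_of_injective
    intro Y w w' h
    have e1 := hj Y w
    have e2 := hj Y w'
    refine Finsupp.mapDomain_injective ?_ ((e1.symm.trans h).trans e2)
    intro h₁ h₂ e
    have e' : h₁.down ≫ p.op = h₂.down ≫ p.op := congrArg ULift.down e
    exact ULift.ext _ _ ((cancel_mono p.op).1 e')
  let ψ : F R X₀ ⟶ I := Injective.factorThru (toM R I X₂ y) j
  have hψ : j ≫ ψ = toM R I X₂ y := Injective.comp_factorThru _ _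
  refine ⟨ψ.app (op X₀) (gen R X₀), ?_⟩
  have h1 : mapEl I p (ψ.app (op X₀) (gen R X₀)) =
      ψ.app (op X₂) (mapEl (F R X₀) p (gen R X₀)) := (app_mapEl ψ p (gen R X₀)).symm
  have h2 : mapEl (F R X₀) p (gen R X₀) = m := by
    change tr R X₀ (ptHom p) (Finsupp.single ⟨𝟙 X₀⟩ 1) = _
    rw [tr_single]
    simp only [m, map_one]
    congr 2
  have h3 : j.app (op X₂) (gen R X₂) = m := toM_app R (F R X₀) X₂ m
  rw [h1, h2, ← h3]
  change (j ≫ ψ).app (op X₂) (gen R X₂) = y
  rw [hψ]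
  exact toM_app R I X₂ y

theorem tangentMap_surjective_of_injective (I : MVF A) [Injective I] {N N' : ModuleCat.{u} B}
    (g : N ⟶ N') (hg : Function.Surjective g.hom) :
    Function.Surjective (AdeqTF.tangentMap B I g) := by
  intro z
  have hp : Function.Surjective (AdeqTF.map B g).hom := by
    intro w
    obtain ⟨n, hn⟩ := hg (TrivSqZeroExt.snd w)
    refine ⟨TrivSqZeroExt.inl (TrivSqZeroExt.fst w) + TrivSqZeroExt.inr n, ?_⟩
    change TrivSqZeroExt.map g.hom _ = w
    ext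
    · simp
    · simp [hn]
  obtain ⟨x, hx⟩ := exists_lift_of_injective I (AdeqTF.map B g) hp z.1
  refine ⟨proj I x, ?_⟩
  rw [tmap_proj, hx, proj_of_mem]

end Groth.Agent.R2.H39.AdeqTF
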