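import Groth.Agent.R2.H39ArrRes
import Mathlib

/-!
# helper39: abstract assembly for the Adams–Riemann–Roch formula of an elementary projection
-/

set_option autoImplicit false
set_option linter.unusedSectionVars false
open Polynomial Finset

namespace Groth.Agent.R2.H39.ArrAsm

open Groth.Agent.R2.H39.ArrRes

section Units

variable {B : Type*} [CommRing B]

theorem pow_mul_pow_inv (z s : B) (h : s * z = 1) (t : ℕ) : z ^ t * s ^ t = 1 := by
  rw [← mul_pow, mul_comm, h, one_pow]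

theorem pow_inv_rel (z s : B) (h : s * z = 1) (a b c d : ℕ) (habcd : a + d = c + b) :
    z ^ a * s ^ b = z ^ c * s ^ d := by
  calc z ^ a * s ^ b = z ^ a * s ^ b * (z ^ d * s ^ d) := by rw [pow_mul_pow_inv z s h, mul_one]
    _ = z ^ (a + d) * s ^ (b + d) := by rw [pow_add, pow_add]; ring
    _ = z ^ (c + b) * s ^ (b + d) := by rw [habcd]
    _ = z ^ c * (z ^ b * s ^ b) * s ^ d := by rw [pow_add, pow_add]; ring
    _ = z ^ c * s ^ d := by rw [pow_mul_pow_inv z s h, mul_one]

end Units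

section AA

variable {K E A B : Type*} [CommRing K] [CommRing E] [CommRing A] [CommRing B]
  [Algebra K E] [Algebra A B]

theorem aeval_map_hom (ιA : K →+* A) (ιB : E →+* B)
    (hcomp : ∀ k, algebraMap A B (ιA k) = ιB (algebraMap K E k)) (y : E) (q : K[X]) :
    aeval (ιB y) (q.map ιA) = ιB (aeval y q) := by
  rw [aeval_def, eval₂_map, aeval_def, hom_eval₂]
  congr 1
  ext k
  exact hcomp k

/-- The core identity: `f'(j w s^{ij}) = δ_{i0}`. -/
theorem core (ιA : K →+* A) (ιB : E →+* B)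
    (hcomp : ∀ k, algebraMap A B (ιA k) = ιB (algebraMap K E k)) [Nontrivial A]
    (n : ℕ) (ℓ s : E) (hs : s * ℓ = 1) (p PK QK : K[X]) (j : ℕ)
    (hp : p.Monic) (hpn : p.natDegree = n + 1) (hP : PK.Monic) (hPn : PK.natDegree = n + 1)
    (hPQ : PK.comp (X ^ j) = p * QK) (hroot : aeval ℓ p = 0)
    (c : ℕ → E →ₗ[K] K) (hc : ∀ i k, i ≤ n → k ≤ n → c i (ℓ ^ k) = if i = k then 1 else 0)
    (f : E →ₗ[K] K) (hfs : ∀ i, i ≤ n → f (s ^ i) = if i = 0 then 1 else 0)
    (c' : ℕ → B →ₗ[A] A) (hc' : ∀ i y, c' i (ιB y) = ιA (c i y))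
    (f' : B →ₗ[A] A) (hf' : ∀ y, f' (ιB y) = ιA (f y))
    (hspan' : ∀ b : B, b = ∑ i ∈ range (n + 1), c' i b • (ιB ℓ) ^ i)
    (N : ℕ) (hN : (ℓ - 1) ^ N = 0) (hj : IsUnit (j : A)) (hj1 : 1 ≤ j)
    (θ : E) (hθ : θ * ℓ ^ ((j - 1) * (n + 1)) = aeval ℓ QK)
    (w : B) (hw : w * ιB θ = 1) :
    ∀ i, i ≤ n → f' ((j : B) * w * (ιB s) ^ (i * j)) = if i = 0 then 1 else 0 := by
  set z : B := ιB ℓ with hz
  set sB : B := ιB s with hsB
  have hsz : sB * z = 1 := by rw [hsB, hz, ← map_mul, hs, map_one]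
  -- hypotheses of the residue transformation law
  have hpA : (p.map ιA).Monic := hp.map ιA
  have hpAn : (p.map ιA).natDegree = n + 1 := by rw [hp.natDegree_map, hpn]
  have hPA : (PK.map ιA).Monic := hP.map ιA
  have hPAn : (PK.map ιA).natDegree = n + 1 := by rw [hP.natDegree_map, hPn]
  have hPQA : (PK.map ιA).comp (X ^ j) = p.map ιA * QK.map ιA := by
    rw [← Polynomial.map_mul, ← hPQ, Polynomial.map_comp, Polynomial.map_pow, map_X]
  have hrootA : aeval z (p.map ιA) = 0 := by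
    rw [hz, aeval_map_hom ιA ιB hcomp, hroot, map_zero]
  have hcz : ∀ i k, i ≤ n → k ≤ n → c' i (z ^ k) = if i = k then 1 else 0 := by
    intro i k hi hk
    rw [hz, ← map_pow, hc', hc i k hi hk]
    split_ifs <;> simp
  have hgen : ∀ b : B, ∃ q : A[X], aeval z q = b := by
    intro b
    refine ⟨∑ i ∈ range (n + 1), C (c' i b) * X ^ i, ?_⟩
    rw [map_sum]
    conv_rhs => rw [hspan' b]
    refine sum_congr rfl fun i _ => ?_
    rw [map_mul, aeval_C, map_pow, aeval_X, Algebra.smul_def]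
  have hNz : (z - 1) ^ N = 0 := by
    rw [hz, ← map_one ιB, ← map_sub, ← map_pow, hN, map_zero]
  obtain ⟨g, hg⟩ := exists_aeval_pow_eq z N hNz j hj hgen
  set w' : B := w * sB ^ ((j - 1) * (n + 1)) with hw'
  have hww : aeval z (QK.map ιA) * w' = 1 := by
    rw [hz, aeval_map_hom ιA ιB hcomp, ← hθ, map_mul, map_pow, hw']
    calc ιB θ * ιB ℓ ^ ((j - 1) * (n + 1)) * (w * sB ^ ((j - 1) * (n + 1)))
        = (w * ιB θ) * (z ^ ((j - 1) * (n + 1)) * sB ^ ((j - 1) * (n + 1))) := by rw [hz]; ring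
      _ = 1 := by rw [hw, pow_mul_pow_inv z sB hsz, mul_one]
  have RT := residue_transform n z (p.map ιA) (PK.map ιA) (QK.map ιA) g j hpA hpAn hPA hPAn hPQA
    hrootA hg c' hcz hspan' w' hww
  -- f' = c' n (z^n ·)
  have hτ : ∀ b : B, f' (sB ^ n * b) = c' n b := by
    intro b
    conv_lhs => rw [hspan' b, mul_sum, map_sum]
    have : ∀ i ∈ range (n + 1), f' (sB ^ n * (c' i b • z ^ i)) = c' i b * (if i = n then 1 else 0) := by
      intro i hi
      rw [mem_range] at hi
      rw [mul_smul_comm, map_smul, smul_eq_mul]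
      congr 1
      have e1 : sB ^ n * z ^ i = sB ^ (n - i) := by
        have := pow_inv_rel z sB hsz i n 0 (n - i) (by omega)
        rw [pow_zero, one_mul] at this
        rw [mul_comm, this]
      rw [e1, hsB, ← map_pow, hf', hfs _ (by omega)]
      by_cases h : i = n
      · rw [if_pos (by omega), if_pos h, map_one]
      · rw [if_neg (by omega), if_neg h, map_zero]
    rw [sum_congr rfl this]
    simp
  have hf'' : ∀ b : B, f' b = c' n (z ^ n * b) := by
    intro b
    rw [← hτ, ← mul_assoc, mul_comm (sB ^ n), pow_mul_pow_inv z sB hsz, one_mul]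
  intro i hi
  rw [hf'']
  have := RT (n - i) (by omega)
  have e1 : z ^ n * ((j : B) * w * sB ^ (i * j)) =
      (z ^ j) ^ (n - i) * ((j : B) * z ^ (j - 1) * w') := by
    rw [hw', ← pow_mul]
    have := pow_inv_rel z sB hsz n (i * j) (j * (n - i) + (j - 1)) ((j - 1) * (n + 1)) (by
      obtain ⟨j', rfl⟩ : ∃ j', j = j' + 1 := ⟨j - 1, by omega⟩
      obtain ⟨d, rfl⟩ : ∃ d, n = i + d := ⟨n - i, by omega⟩
      simp only [Nat.add_sub_cancel, Nat.add_sub_cancel_left]
      ring)
    calc z ^ n * ((j : B) * w * sB ^ (i * j)) = (j : B) * w * (z ^ n * sB ^ (i * j)) := by ring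
      _ = (j : B) * w * (z ^ (j * (n - i) + (j - 1)) * sB ^ ((j - 1) * (n + 1))) := by rw [this]
      _ = _ := by rw [pow_add]; ring
  rw [e1, this]
  by_cases h : i = 0
  · rw [if_pos h, if_pos (by omega)]
  · rw [if_neg h, if_neg (by omega)]

/-- The full identity, by semilinearity. -/
theorem full (ιA : K →+* A) (ιB : E →+* B)
    (hcomp : ∀ k, algebraMap A B (ιA k) = ιB (algebraMap K E k))
    (n : ℕ) (ℓ s : E) (hs : s * ℓ = 1) (j : ℕ)
    (c : ℕ → E →ₗ[K] K) (hspan : ∀ y : E, y = ∑ i ∈ range (n + 1), c i y • ℓ ^ i)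
    (f : E →ₗ[K] K) (hfs : ∀ i, i ≤ n → f (s ^ i) = if i = 0 then 1 else 0)
    (f' : B →ₗ[A] A) (w : B)
    (hcore : ∀ i, i ≤ n → f' ((j : B) * w * (ιB s) ^ (i * j)) = if i = 0 then 1 else 0)
    (ψK : K →+ K) (ψE : E →+* E)
    (hψof : ∀ k, ψE (algebraMap K E k) = algebraMap K E (ψK k)) (hψs : ψE s = s ^ j) (x : E) :
    ιA (ψK (f x)) = f' ((j : B) * w * ιB (ψE x)) := by
  set a : ℕ → K := fun i => c i (ℓ ^ n * x) with ha
  have hx : x = ∑ i ∈ range (n + 1), a i • s ^ (n - i) := by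
    have h1 := hspan (ℓ ^ n * x)
    have h2 : x = s ^ n * (ℓ ^ n * x) := by
      rw [← mul_assoc, mul_comm (s ^ n), pow_mul_pow_inv ℓ s hs, one_mul]
    have h3 : s ^ n * (ℓ ^ n * x) = ∑ i ∈ range (n + 1), a i • s ^ (n - i) := by
      rw [congrArg (fun t => s ^ n * t) h1, mul_sum]
      refine sum_congr rfl fun i hi => ?_
      rw [mem_range] at hi
      rw [mul_smul_comm]
      congr 1
      have := pow_inv_rel ℓ s hs i n 0 (n - i) (by omega)
      rw [pow_zero, one_mul] at this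
      rw [mul_comm, this]
    exact h2.trans h3
  have hfx : f x = a n := by
    conv_lhs => rw [hx, map_sum]
    have : ∀ i ∈ range (n + 1), f (a i • s ^ (n - i)) = a i * (if i = n then 1 else 0) := by
      intro i hi
      rw [mem_range] at hi
      rw [map_smul, smul_eq_mul, hfs _ (by omega)]
      congr 1
      by_cases h : i = n
      · rw [if_pos (by omega), if_pos h]
      · rw [if_neg (by omega), if_neg h]
    rw [sum_congr rfl this]
    simp
  have hψx : ψE x = ∑ i ∈ range (n + 1), algebraMap K E (ψK (a i)) * (s ^ j) ^ (n - i) := by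
    conv_lhs => rw [hx, map_sum]
    refine sum_congr rfl fun i _ => ?_
    rw [Algebra.smul_def, map_mul, hψof, map_pow, hψs]
  rw [hfx, hψx, map_sum, mul_sum, map_sum]
  have : ∀ i ∈ range (n + 1),
      f' ((j : B) * w * ιB (algebraMap K E (ψK (a i)) * (s ^ j) ^ (n - i))) =
        ιA (ψK (a i)) * (if i = n then 1 else 0) := by
    intro i hi
    rw [mem_range] at hi
    have e1 : (j : B) * w * ιB (algebraMap K E (ψK (a i)) * (s ^ j) ^ (n - i)) =
        ιA (ψK (a i)) • ((j : B) * w * (ιB s) ^ ((n - i) * j)) := by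
      rw [Algebra.smul_def, hcomp, map_mul, map_pow, map_pow, ← pow_mul, mul_comm j (n - i)]
      ring
    rw [e1, map_smul, smul_eq_mul, hcore _ (by omega)]
    congr 1
    by_cases h : i = n
    · rw [if_pos (by omega), if_pos h]
    · rw [if_neg (by omega), if_neg h]
  rw [sum_congr rfl this]
  simp

/-- `θ = j^m + nilpotent` becomes a unit once `j` is inverted. -/
theorem exists_inv (ιB : E →+* B) (j m N : ℕ) (hj : IsUnit (j : A)) (θ : E)
    (hθ : (θ - (j : E) ^ m) ^ N = 0) : ∃ w : B, w * ιB θ = 1 := by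
  have h1 : IsNilpotent (ιB (θ - (j : E) ^ m)) := ⟨N, by rw [← map_pow, hθ, map_zero]⟩
  have h2 : IsUnit ((j : B) ^ m) := by
    have : (j : B) = algebraMap A B (j : A) := by rw [map_natCast]
    rw [this]
    exact (hj.map (algebraMap A B)).pow m
  have h3 := h1.isUnit_add_right_of_commute h2 (Commute.all _ _)
  have h4 : ιB (θ - (j : E) ^ m) + (j : B) ^ m = ιB θ := by
    rw [map_sub, map_pow, map_natCast]; ring
  rw [h4] at h3
  obtain ⟨w, hw⟩ := h3.exists_left_inv
  exact ⟨w, hw⟩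

end AA

end Groth.Agent.R2.H39.ArrAsm
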