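import Mathlib

/-!
# helper39: `R ⊗[ℤ] E` as an algebra over `R ⊗[ℤ] K`, base change of `K`-linear functionals
-/

set_option autoImplicit false
set_option linter.unusedSectionVars false
open Finset
open scoped TensorProduct

namespace Groth.Agent.R2.H39.ArrBC

section BC

variable (R : Type*) [CommRing R] {K E : Type*} [CommRing K] [CommRing E] [Algebra K E]

/-- the ring map `R ⊗ K → R ⊗ E`. -/
noncomputable def tMap : R ⊗[ℤ] K →+* R ⊗[ℤ] E :=
  (Algebra.TensorProduct.map (AlgHom.id ℤ R) ((Algebra.ofId K E).restrictScalars ℤ)).toRingHom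

/-- `R ⊗[ℤ] E` as an algebra over `R ⊗[ℤ] K`. -/
@[reducible] noncomputable def tAlg : Algebra (R ⊗[ℤ] K) (R ⊗[ℤ] E) := (tMap R (K := K) (E := E)).toAlgebra

attribute [local instance] tAlg

theorem algebraMap_tmul (r : R) (k : K) :
    algebraMap (R ⊗[ℤ] K) (R ⊗[ℤ] E) (r ⊗ₜ[ℤ] k) = r ⊗ₜ[ℤ] (algebraMap K E k) := by
  change tMap R (r ⊗ₜ[ℤ] k) = _
  simp [tMap]

theorem tmul_smul_tmul (r r' : R) (k : K) (y : E) :
    (r ⊗ₜ[ℤ] k : R ⊗[ℤ] K) • (r' ⊗ₜ[ℤ] y : R ⊗[ℤ] E) = (r * r') ⊗ₜ[ℤ] (k • y) := by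
  rw [Algebra.smul_def, algebraMap_tmul, Algebra.TensorProduct.tmul_mul_tmul, Algebra.smul_def]

/-- base change of a `K`-linear functional. -/
noncomputable def tLin (φ : E →ₗ[K] K) : R ⊗[ℤ] E →ₗ[R ⊗[ℤ] K] R ⊗[ℤ] K where
  toFun := LinearMap.lTensor R φ.toAddMonoidHom.toIntLinearMap
  map_add' := map_add _
  map_smul' a b := by
    simp only [RingHom.id_apply]
    induction a using TensorProduct.induction_on with
    | zero =>
      rw [zero_smul (R ⊗[ℤ] K) b, map_zero]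
      exact (zero_mul _).symm
    | add a a' ha ha' => rw [add_smul, map_add, ha, ha', add_smul]
    | tmul r k =>
      induction b using TensorProduct.induction_on with
      | zero => rw [smul_zero (r ⊗ₜ[ℤ] k : R ⊗[ℤ] K), map_zero, smul_zero]
      | add b b' hb hb' => rw [smul_add, map_add, hb, hb', map_add, smul_add]
      | tmul r' y =>
        rw [tmul_smul_tmul, LinearMap.lTensor_tmul, LinearMap.lTensor_tmul, smul_eq_mul,
          Algebra.TensorProduct.tmul_mul_tmul]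
        simp

theorem tLin_apply (φ : E →ₗ[K] K) (b : R ⊗[ℤ] E) :
    tLin R φ b = LinearMap.lTensor R φ.toAddMonoidHom.toIntLinearMap b := rfl

@[simp] theorem tLin_tmul (φ : E →ₗ[K] K) (r : R) (y : E) :
    tLin R φ (r ⊗ₜ[ℤ] y) = r ⊗ₜ[ℤ] φ y := by
  rw [tLin_apply, LinearMap.lTensor_tmul]; rfl

theorem one_tmul_pow (y : E) (n : ℕ) : ((1 : R) ⊗ₜ[ℤ] y) ^ n = (1 : R) ⊗ₜ[ℤ] (y ^ n) := by
  rw [Algebra.TensorProduct.tmul_pow, one_pow]

/-- coordinates base-change. -/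
theorem span_tensor (n : ℕ) (ℓ : E) (c : ℕ → E →ₗ[K] K)
    (hspan : ∀ y : E, y = ∑ i ∈ range (n + 1), c i y • ℓ ^ i) (b : R ⊗[ℤ] E) :
    b = ∑ i ∈ range (n + 1), tLin R (c i) b • ((1 : R) ⊗ₜ[ℤ] ℓ) ^ i := by
  induction b using TensorProduct.induction_on with
  | zero =>
    symm
    refine sum_eq_zero fun i _ => ?_
    rw [map_zero]
    exact zero_smul (R ⊗[ℤ] K) (((1 : R) ⊗ₜ[ℤ] ℓ) ^ i)
  | add b b' hb hb' =>
    have : ∀ i ∈ range (n + 1), tLin R (c i) (b + b') • ((1 : R) ⊗ₜ[ℤ] ℓ) ^ i =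
        tLin R (c i) b • ((1 : R) ⊗ₜ[ℤ] ℓ) ^ i + tLin R (c i) b' • ((1 : R) ⊗ₜ[ℤ] ℓ) ^ i := by
      intro i _
      rw [map_add]
      exact add_smul (tLin R (c i) b) (tLin R (c i) b') (((1 : R) ⊗ₜ[ℤ] ℓ) ^ i)
    rw [sum_congr rfl this, sum_add_distrib, ← hb, ← hb']
  | tmul r y =>
    conv_lhs => rw [hspan y, TensorProduct.tmul_sum]
    refine sum_congr rfl fun i _ => ?_
    rw [tLin_tmul, one_tmul_pow, tmul_smul_tmul, mul_one]

end BC

end Groth.Agent.R2.H39.ArrBC
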