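import Mathlib

/-!
# helper39: divided differences and the residue transformation law for `A[T]/(p)`

Pure commutative algebra used for the Adams–Riemann–Roch formula of an elementary projection (S3804).
-/

set_option autoImplicit false
open Polynomial Finset
open scoped TensorProduct

namespace Groth.Agent.R2.H39.ArrRes

section DD

variable {A : Type*} [CommRing A] {D : Type*} [CommRing D] [Algebra A D]

/-- `h_m(x,z) = Σ_{i<m} x^i z^{m-1-i} = (x^m - z^m)/(x - z)`. -/
def hsum (m : ℕ) (x z : D) : D := ∑ i ∈ range m, x ^ i * z ^ (m - 1 - i)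

theorem hsum_mul (m : ℕ) (x z : D) : hsum m x z * (x - z) = x ^ m - z ^ m :=
  (Commute.all x z).geom_sum₂_mul m

/-- the divided difference `(p(x) - p(z))/(x - z)`. -/
def dd (p : A[X]) (x z : D) : D := ∑ m ∈ range (p.natDegree + 1), p.coeff m • hsum m x z

theorem dd_mul (p : A[X]) (x z : D) : dd p x z * (x - z) = aeval x p - aeval z p := by
  rw [dd, sum_mul, aeval_eq_sum_range, aeval_eq_sum_range, ← sum_sub_distrib]
  refine sum_congr rfl fun m _ => ?_
  rw [smul_mul_assoc, hsum_mul, smul_sub]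

theorem map_hsum {D' : Type*} [CommRing D'] [Algebra A D'] (φ : D →ₐ[A] D') (m : ℕ) (x z : D) :
    φ (hsum m x z) = hsum m (φ x) (φ z) := by
  simp [hsum, map_sum]

theorem map_dd {D' : Type*} [CommRing D'] [Algebra A D'] (φ : D →ₐ[A] D') (p : A[X]) (x z : D) :
    φ (dd p x z) = dd p (φ x) (φ z) := by
  simp [dd, map_sum, map_hsum]

end DD

section Univ

variable {A : Type*} [CommRing A]

/-- The universal identity, in `A[Z][X]`. -/
theorem univ_identity (p P Q : A[X]) (j : ℕ) (h : P.comp (X ^ j) = p * Q) :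
    dd P ((X : A[X][X]) ^ j) ((C X : A[X][X]) ^ j) * hsum j (X : A[X][X]) (C X) =
      dd p (X : A[X][X]) (C X) * aeval (X : A[X][X]) Q + aeval (C X : A[X][X]) p * dd Q (X : A[X][X]) (C X) := by
  have hreg : IsRightRegular ((X : A[X][X]) - C X) := (monic_X_sub_C (X : A[X])).isRegular.right
  apply hreg
  simp only
  have e1 : ∀ y : A[X][X], aeval (y ^ j) P = aeval y p * aeval y Q := by
    intro y
    rw [← map_mul, ← h, aeval_comp, map_pow, aeval_X]
  calc dd P ((X : A[X][X]) ^ j) ((C X : A[X][X]) ^ j) * hsum j (X : A[X][X]) (C X) * (X - C X)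
      = dd P ((X : A[X][X]) ^ j) ((C X : A[X][X]) ^ j) * (X ^ j - (C X) ^ j) := by
        rw [mul_assoc, hsum_mul]
    _ = aeval ((X : A[X][X]) ^ j) P - aeval ((C X : A[X][X]) ^ j) P := dd_mul _ _ _
    _ = (dd p (X : A[X][X]) (C X) * (X - C X)) * aeval (X : A[X][X]) Q +
          aeval (C X : A[X][X]) p * (dd Q (X : A[X][X]) (C X) * (X - C X)) := by
        rw [dd_mul, dd_mul, e1, e1]; ring
    _ = _ := by ring

/-- The universal identity in any commutative `A`-algebra. -/
theorem dd_comp_identity {D : Type*} [CommRing D] [Algebra A D] (p P Q : A[X]) (j : ℕ)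
    (h : P.comp (X ^ j) = p * Q) (x z : D) :
    dd P (x ^ j) (z ^ j) * hsum j x z = dd p x z * aeval x Q + aeval z p * dd Q x z := by
  have hX : (aevalAeval z x) (X : A[X][X]) = x := aevalAeval_Y z x
  have hZ : (aevalAeval z x) (C X : A[X][X]) = z := aevalAeval_X z x
  have := congrArg (aevalAeval z x) (univ_identity p P Q j h)
  rw [map_mul, map_add, map_mul, map_mul, map_dd, map_dd, map_dd, map_hsum, map_pow, map_pow,
    ← aeval_algHom_apply, ← aeval_algHom_apply, hX, hZ] at this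
  exact this

end Univ

section Diag

variable {A : Type*} [CommRing A] {D : Type*} [CommRing D] [Algebra A D]

theorem mul_aeval_eq_of_mul_sub_eq_zero {y x z : D} (h : y * (x - z) = 0) (F : A[X]) :
    y * aeval x F = y * aeval z F := by
  have h1 := dd_mul F x z
  have h2 : y * (aeval x F - aeval z F) = 0 := by
    rw [← h1, mul_comm (dd F x z), ← mul_assoc, h, zero_mul]
  linear_combination h2

theorem mul_pow_eq_of_mul_sub_eq_zero {y x z : D} (h : y * (x - z) = 0) (i : ℕ) :
    y * x ^ i = y * z ^ i := by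
  have h1 := hsum_mul i x z
  have h2 : y * (x ^ i - z ^ i) = 0 := by
    rw [← h1, mul_comm (hsum i x z), ← mul_assoc, h, zero_mul]
  linear_combination h2

theorem mul_hsum_eq_of_mul_sub_eq_zero {y x z : D} (h : y * (x - z) = 0) (m : ℕ) :
    y * hsum m x z = y * ((m : D) * z ^ (m - 1)) := by
  rw [hsum, mul_sum]
  have : ∀ i ∈ range m, y * (x ^ i * z ^ (m - 1 - i)) = y * z ^ (m - 1) := by
    intro i hi
    rw [mem_range] at hi
    rw [← mul_assoc, mul_pow_eq_of_mul_sub_eq_zero h, mul_assoc, ← pow_add]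
    congr 2; omega
  rw [sum_congr rfl this, sum_const, card_range, nsmul_eq_mul]
  ring

/-- The key identity on the "diagonal". -/
theorem key_diag (p P Q g : A[X]) (j : ℕ) (h : P.comp (X ^ j) = p * Q) (x z : D)
    (hpx : aeval x p = 0) (hpz : aeval z p = 0) (hgx : aeval (x ^ j) g = x)
    (hgz : aeval (z ^ j) g = z) :
    dd P (x ^ j) (z ^ j) * ((j : D) * z ^ (j - 1)) = dd p x z * aeval z Q := by
  have e1 : ∀ y : D, aeval (y ^ j) P = aeval y p * aeval y Q := by
    intro y
    rw [← map_mul, ← h, aeval_comp, map_pow, aeval_X]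
  have ha : dd p x z * (x - z) = 0 := by rw [dd_mul, hpx, hpz, sub_zero]
  have hb : dd P (x ^ j) (z ^ j) * (x - z) = 0 := by
    have h1 : x - z = dd g (x ^ j) (z ^ j) * (x ^ j - z ^ j) := by
      rw [dd_mul, hgx, hgz]
    have h2 : dd P (x ^ j) (z ^ j) * (x ^ j - z ^ j) = 0 := by
      rw [dd_mul, e1, e1, hpx, hpz, zero_mul, zero_mul, sub_zero]
    rw [h1, mul_comm (dd g _ _), ← mul_assoc, h2, zero_mul]
  have h3 := dd_comp_identity p P Q j h x z
  rw [hpz, zero_mul, add_zero, mul_hsum_eq_of_mul_sub_eq_zero hb,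
    mul_aeval_eq_of_mul_sub_eq_zero ha] at h3
  exact h3

end Diag

section Tensor

variable {A : Type*} [CommRing A] {B : Type*} [CommRing B] [Algebra A B]

/-- `b ⊗ b' ↦ τ(b) • b'`. -/
noncomputable def mu (τ : B →ₗ[A] A) : B ⊗[A] B →ₗ[A] B :=
  (TensorProduct.lid A B).toLinearMap ∘ₗ LinearMap.rTensor B τ

@[simp] theorem mu_tmul (τ : B →ₗ[A] A) (b b' : B) : mu τ (b ⊗ₜ[A] b') = τ b • b' := by
  simp [mu]

theorem hsum_tmul (m : ℕ) (a b : B) :
    hsum m ((1 : B) ⊗ₜ[A] a) (b ⊗ₜ[A] (1 : B)) = ∑ i ∈ range m, (b ^ (m - 1 - i)) ⊗ₜ[A] (a ^ i) := by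
  rw [hsum]
  refine sum_congr rfl fun i _ => ?_
  rw [Algebra.TensorProduct.tmul_pow, Algebra.TensorProduct.tmul_pow,
    Algebra.TensorProduct.tmul_mul_tmul, one_pow, one_pow, one_mul, mul_one]

theorem mu_dd (τ : B →ₗ[A] A) (p : A[X]) (a b c : B) :
    mu τ (dd p ((1 : B) ⊗ₜ[A] a) (b ⊗ₜ[A] (1 : B)) * (c ⊗ₜ[A] (1 : B))) =
      ∑ m ∈ range (p.natDegree + 1),
        p.coeff m • ∑ i ∈ range m, τ (b ^ (m - 1 - i) * c) • a ^ i := by
  rw [dd, sum_mul, map_sum]
  refine sum_congr rfl fun m _ => ?_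
  rw [smul_mul_assoc, map_smul, hsum_tmul, sum_mul, map_sum]
  congr 1
  refine sum_congr rfl fun i _ => ?_
  rw [Algebra.TensorProduct.tmul_mul_tmul, mul_one, mu_tmul]

theorem aeval_tmul_one (b : B) (F : A[X]) :
    aeval (b ⊗ₜ[A] (1 : B)) F = (aeval b F) ⊗ₜ[A] (1 : B) := by
  have := aeval_algHom_apply (Algebra.TensorProduct.includeLeft : B →ₐ[A] B ⊗[A] B) b F
  simpa using this

theorem aeval_one_tmul (b : B) (F : A[X]) :
    aeval ((1 : B) ⊗ₜ[A] b) F = (1 : B) ⊗ₜ[A] (aeval b F) := by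
  have := aeval_algHom_apply (Algebra.TensorProduct.includeRight : B →ₐ[A] B ⊗[A] B) b F
  simpa using this

end Tensor

section Main

variable {A : Type*} [CommRing A] {B : Type*} [CommRing B] [Algebra A B]

/-- If `ℓ ∈ A[ℓ^j]`, `B` is free on `1, ℓ, …, ℓ^n` and `ℓ^j` is a root of a monic polynomial of degree
`n + 1`, then `1, ℓ^j, …, ℓ^{jn}` are linearly independent. -/
theorem powers_indep (n : ℕ) (ℓ : B) (P g : A[X]) (j : ℕ)
    (hP : P.Monic) (hPn : P.natDegree = n + 1) (hPℓ : aeval (ℓ ^ j) P = 0)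
    (hg : aeval (ℓ ^ j) g = ℓ)
    (c : ℕ → B →ₗ[A] A)
    (hc : ∀ i k, i ≤ n → k ≤ n → c i (ℓ ^ k) = if i = k then 1 else 0)
    (hspan : ∀ b : B, b = ∑ i ∈ range (n + 1), c i b • ℓ ^ i)
    (a : ℕ → A) (ha : ∑ k ∈ range (n + 1), a k • ℓ ^ (j * k) = 0) :
    ∀ k, k ≤ n → a k = 0 := by
  classical
  let Ψ : (Fin (n + 1) → A) →ₗ[A] B := Fintype.linearCombination A (fun k : Fin (n + 1) => ℓ ^ (j * (k : ℕ)))
  let Γ : B →ₗ[A] (Fin (n + 1) → A) := LinearMap.pi (fun i : Fin (n + 1) => c (i : ℕ))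
  have hΨ : ∀ v, Ψ v = ∑ k : Fin (n + 1), v k • ℓ ^ (j * (k : ℕ)) := fun v => by
    simp [Ψ, Fintype.linearCombination_apply]
  have hΓinj : Function.Injective Γ := by
    rw [injective_iff_map_eq_zero]
    intro b hb
    rw [hspan b]
    refine sum_eq_zero fun i hi => ?_
    rw [mem_range] at hi
    have := congrFun hb ⟨i, hi⟩
    simp only [Γ, LinearMap.pi_apply, Pi.zero_apply] at this
    rw [this, zero_smul]
  have hΓsurj : Function.Surjective Γ := by
    intro v
    refine ⟨∑ k : Fin (n + 1), v k • ℓ ^ (k : ℕ), ?_⟩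
    funext i
    simp only [Γ, LinearMap.pi_apply, map_sum, map_smul, smul_eq_mul]
    rw [Finset.sum_eq_single i]
    · rw [hc _ _ (Nat.lt_succ_iff.1 i.2) (Nat.lt_succ_iff.1 i.2), if_pos rfl, mul_one]
    · intro k _ hk
      rw [hc _ _ (Nat.lt_succ_iff.1 i.2) (Nat.lt_succ_iff.1 k.2), if_neg, mul_zero]
      intro h
      exact hk (Fin.ext h.symm)
    · intro h; exact absurd (Finset.mem_univ i) h
  have hΨsurj : Function.Surjective Ψ := by
    intro b
    -- b is a polynomial in ℓ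
    set q₀ : A[X] := ∑ i ∈ range (n + 1), C (c i b) * X ^ i with hq₀
    have hb0 : aeval ℓ q₀ = b := by
      rw [hq₀, map_sum]
      conv_rhs => rw [hspan b]
      refine sum_congr rfl fun i _ => ?_
      rw [map_mul, aeval_C, map_pow, aeval_X, Algebra.smul_def]
    set q : A[X] := (q₀.comp g) %ₘ P with hq
    have hb1 : aeval (ℓ ^ j) q = b := by
      rw [hq, aeval_modByMonic_eq_self_of_root hPℓ, aeval_comp, hg, hb0]
    have hP1 : P ≠ 1 := by
      intro h
      rw [h, natDegree_one] at hPn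
      omega
    have hdeg : q.natDegree < n + 1 := by
      have := natDegree_modByMonic_lt (q₀.comp g) hP hP1
      rwa [hPn] at this
    refine ⟨fun k => q.coeff (k : ℕ), ?_⟩
    rw [hΨ, ← hb1, aeval_eq_sum_range' hdeg, Finset.sum_range]
    refine sum_congr rfl fun k _ => ?_
    rw [pow_mul]
  have hinj : Function.Injective (Γ ∘ₗ Ψ) :=
    OrzechProperty.injective_of_surjective_endomorphism _ (hΓsurj.comp hΨsurj)
  have hΨinj : Function.Injective Ψ := by
    intro v w hvw
    apply hinj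
    simp only [LinearMap.comp_apply, hvw]
  intro k hk
  have h0 : Ψ (fun k => a (k : ℕ)) = Ψ 0 := by
    rw [hΨ, map_zero, ← ha, Finset.sum_range]
  have := congrFun (hΨinj h0) ⟨k, Nat.lt_succ_iff.2 hk⟩
  simpa using this

/-- **Residue transformation law.** -/
theorem residue_transform (n : ℕ) (ℓ : B) (p P Q g : A[X]) (j : ℕ)
    (hp : p.Monic) (hpn : p.natDegree = n + 1) (hP : P.Monic) (hPn : P.natDegree = n + 1)
    (h : P.comp (X ^ j) = p * Q) (hpℓ : aeval ℓ p = 0) (hg : aeval (ℓ ^ j) g = ℓ)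
    (c : ℕ → B →ₗ[A] A)
    (hc : ∀ i k, i ≤ n → k ≤ n → c i (ℓ ^ k) = if i = k then 1 else 0)
    (hspan : ∀ b : B, b = ∑ i ∈ range (n + 1), c i b • ℓ ^ i)
    (w' : B) (hw : aeval ℓ Q * w' = 1) :
    ∀ k, k ≤ n → c n ((ℓ ^ j) ^ k * ((j : B) * ℓ ^ (j - 1) * w')) = if k = n then 1 else 0 := by
  classical
  have hPℓ : aeval (ℓ ^ j) P = 0 := by
    have : aeval (ℓ ^ j) P = aeval ℓ p * aeval ℓ Q := by
      rw [← map_mul, ← h, aeval_comp, map_pow, aeval_X]
    rw [this, hpℓ, zero_mul]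
  set x : B ⊗[A] B := (1 : B) ⊗ₜ[A] ℓ with hx
  set z : B ⊗[A] B := ℓ ⊗ₜ[A] (1 : B) with hz
  have hxj : x ^ j = (1 : B) ⊗ₜ[A] (ℓ ^ j) := by rw [hx, Algebra.TensorProduct.tmul_pow, one_pow]
  have hzj : z ^ j = (ℓ ^ j) ⊗ₜ[A] (1 : B) := by rw [hz, Algebra.TensorProduct.tmul_pow, one_pow]
  have key := key_diag p P Q g j h x z (by rw [hx, aeval_one_tmul, hpℓ, TensorProduct.tmul_zero])
    (by rw [hz, aeval_tmul_one, hpℓ, TensorProduct.zero_tmul])
    (by rw [hxj, aeval_one_tmul, hg]) (by rw [hzj, aeval_tmul_one, hg])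
  -- multiply by w' ⊗ 1 and apply μ_τ
  set τ := c n with hτ
  set cc : B := (j : B) * ℓ ^ (j - 1) * w' with hcc
  have key2 : dd P (x ^ j) (z ^ j) * (cc ⊗ₜ[A] (1 : B)) = dd p x z * ((1 : B) ⊗ₜ[A] (1 : B)) := by
    have e1 : ((j : B ⊗[A] B) * z ^ (j - 1)) * (w' ⊗ₜ[A] (1 : B)) = cc ⊗ₜ[A] (1 : B) := by
      have : (j : B ⊗[A] B) = ((j : B)) ⊗ₜ[A] (1 : B) := by
        rw [← Algebra.TensorProduct.includeLeft_apply (R := A) (S := A), map_natCast]
      rw [this, hz, Algebra.TensorProduct.tmul_pow, one_pow, Algebra.TensorProduct.tmul_mul_tmul,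
        Algebra.TensorProduct.tmul_mul_tmul, one_mul, one_mul]
    have e2 : aeval z Q * (w' ⊗ₜ[A] (1 : B)) = (1 : B) ⊗ₜ[A] (1 : B) := by
      rw [hz, aeval_tmul_one, Algebra.TensorProduct.tmul_mul_tmul, hw, one_mul]
    rw [← e1, ← mul_assoc, key, mul_assoc, e2]
  have key3 := congrArg (mu τ) key2
  rw [hxj, hzj, mu_dd, hx, hz, mu_dd, hPn, hpn] at key3
  -- the right-hand side is 1
  have hR : ∑ m ∈ range (n + 1 + 1), p.coeff m • ∑ i ∈ range m, τ (ℓ ^ (m - 1 - i) * 1) • ℓ ^ i = 1 := by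
    rw [sum_range_succ, sum_eq_zero, zero_add]
    · have : p.coeff (n + 1) = 1 := by rw [← hpn]; exact hp.coeff_natDegree
      rw [this, one_smul, sum_range_succ', sum_eq_zero, zero_add]
      · rw [mul_one, hτ, hc _ _ le_rfl (by omega), if_pos (by omega), one_smul, pow_zero]
      · intro i hi
        rw [mem_range] at hi
        rw [mul_one, hτ, hc _ _ le_rfl (by omega), if_neg (by omega), zero_smul]
    · intro m hm
      rw [mem_range] at hm
      rw [sum_eq_zero, smul_zero]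
      intro i hi
      rw [mem_range] at hi
      rw [mul_one, hτ, hc _ _ le_rfl (by omega), if_neg (by omega), zero_smul]
  rw [hR] at key3
  -- reorganise the left-hand side
  set t : ℕ → A := fun k => τ ((ℓ ^ j) ^ k * cc) with ht
  have hL : ∑ m ∈ range (n + 1 + 1), P.coeff m • ∑ i ∈ range m, τ ((ℓ ^ j) ^ (m - 1 - i) * cc) • (ℓ ^ j) ^ i =
      ∑ i ∈ range (n + 1), (∑ k ∈ range (n + 1 - i), P.coeff (i + k + 1) * t k) • ℓ ^ (j * i) := by
    simp only [smul_sum, sum_smul]
    rw [Finset.sum_sigma', Finset.sum_sigma']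
    refine Finset.sum_bij' (fun x _ => ⟨x.2, x.1 - 1 - x.2⟩) (fun x _ => ⟨x.1 + x.2 + 1, x.1⟩) ?_ ?_ ?_ ?_ ?_
    · rintro ⟨m, i⟩ hmi
      simp only [mem_sigma, mem_range] at hmi ⊢
      omega
    · rintro ⟨i, k⟩ hik
      simp only [mem_sigma, mem_range] at hik ⊢
      omega
    · rintro ⟨m, i⟩ hmi
      simp only [mem_sigma, mem_range] at hmi
      simp only [Sigma.mk.injEq, heq_eq_eq, and_true]
      omega
    · rintro ⟨i, k⟩ hik
      simp only [mem_sigma, mem_range] at hik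
      simp only [Sigma.mk.injEq, heq_eq_eq, true_and]
      omega
    · rintro ⟨m, i⟩ hmi
      simp only [mem_sigma, mem_range] at hmi
      simp only [ht]
      have e1 : i + (m - 1 - i) + 1 = m := by omega
      rw [e1, smul_smul, pow_mul]
  rw [hL] at key3
  -- independence
  have hind := powers_indep n ℓ P g j hP hPn hPℓ hg c hc hspan
    (fun i => (∑ k ∈ range (n + 1 - i), P.coeff (i + k + 1) * t k) - if i = 0 then 1 else 0) (by
      simp only [sub_smul, sum_sub_distrib]
      rw [key3, sum_eq_single 0]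
      · simp
      · intro i _ hi; rw [if_neg hi, zero_smul]
      · intro h0; exact absurd (mem_range.2 (Nat.succ_pos n)) h0)
  have hC : ∀ i, i ≤ n → ∑ k ∈ range (n + 1 - i), P.coeff (i + k + 1) * t k = if i = 0 then 1 else 0 :=
    fun i hi => sub_eq_zero.1 (hind i hi)
  -- triangular induction
  have hPtop : P.coeff (n + 1) = 1 := by rw [← hPn]; exact hP.coeff_natDegree
  intro k
  induction k using Nat.strong_induction_on with
  | _ k ih =>
    intro hk
    have h1 := hC (n - k) (by omega)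
    have e1 : n + 1 - (n - k) = k + 1 := by omega
    rw [e1, sum_range_succ, sum_eq_zero, zero_add] at h1
    · have e2 : n - k + k + 1 = n + 1 := by omega
      rw [e2, hPtop, one_mul] at h1
      change t k = _
      rw [h1]
      by_cases hkn : k = n
      · rw [if_pos hkn, if_pos (by omega)]
      · rw [if_neg hkn, if_neg (by omega)]
    · intro k' hk'
      rw [mem_range] at hk'
      have := ih k' hk' (by omega)
      change t k' = _ at this
      rw [this, if_neg (by omega), mul_zero]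

end Main

section Nil

variable {A : Type*} [CommRing A] {B : Type*} [CommRing B] [Algebra A B]

theorem exists_one_add_mul_pow (ν t : B) (k : ℕ) : ∃ t' : B, (1 + ν * t) ^ k = 1 + ν * t' := by
  induction k with
  | zero => exact ⟨0, by simp⟩
  | succ k ih =>
    obtain ⟨t', ht'⟩ := ih
    exact ⟨t' + t + ν * t' * t, by rw [pow_succ, ht']; ring⟩

/-- If `z - 1` is nilpotent, `j` is invertible in `A` and `B = A[z]`, then `z ∈ A[z^j]`. -/
theorem exists_aeval_pow_eq (z : B) (N : ℕ) (hN : (z - 1) ^ N = 0) (j : ℕ) (hj : IsUnit (j : A))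
    (hgen : ∀ b : B, ∃ q : A[X], aeval z q = b) :
    ∃ g : A[X], aeval (z ^ j) g = z := by
  obtain ⟨ji, hji⟩ := hj.exists_right_inv
  set ν : B := z - 1 with hν
  set Csub : Subalgebra A B := Algebra.adjoin A {z ^ j} with hC
  have hzj : z ^ j ∈ Csub := Algebra.subset_adjoin (Set.mem_singleton _)
  -- μ = (z^j - 1)/j
  set μ : B := ji • (z ^ j - 1) with hμ
  have hμC : μ ∈ Csub := Csub.smul_mem (Csub.sub_mem hzj Csub.one_mem) _
  obtain ⟨t, ht⟩ : ∃ t : B, μ = ν * (1 + ν * t) := by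
    refine ⟨ji • ∑ i ∈ range j, hsum i z 1, ?_⟩
    have h1 : z ^ j - 1 = ν * ∑ i ∈ range j, z ^ i := by
      rw [hν, mul_comm]; exact (geom_sum_mul z j).symm
    have h2 : ∑ i ∈ range j, z ^ i = (j : B) + ν * ∑ i ∈ range j, hsum i z 1 := by
      have : ∀ i ∈ range j, z ^ i = 1 + ν * hsum i z 1 := by
        intro i _
        have := hsum_mul i z 1
        rw [one_pow] at this
        rw [hν, mul_comm, this]; ring
      rw [sum_congr rfl this, sum_add_distrib, mul_sum]
      simp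
    have h3 : ji • (j : B) = 1 := by
      rw [Algebra.smul_def, ← map_natCast (algebraMap A B), ← map_mul, mul_comm, hji, map_one]
    rw [hμ, h1, h2, ← mul_smul_comm, smul_add, h3, mul_smul_comm]
  have hgen' : ∀ b : B, ∃ (a₀ : A) (b' : B), b = a₀ • 1 + ν * b' := by
    intro b
    obtain ⟨q, rfl⟩ := hgen b
    set q' := q.comp (X + 1) with hq'
    have e1 : aeval z q = aeval ν q' := by
      rw [hq', aeval_comp, map_add, aeval_X, map_one, hν, sub_add_cancel]
    refine ⟨q'.coeff 0, aeval ν q'.divX, ?_⟩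
    rw [e1]
    conv_lhs => rw [← divX_mul_X_add q']
    rw [map_add, map_mul, aeval_X, aeval_C, Algebra.algebraMap_eq_smul_one, mul_comm, add_comm]
  have main : ∀ d k : ℕ, N ≤ k + d → ∀ b : B, ν ^ k * b ∈ Csub := by
    intro d
    induction d with
    | zero =>
      intro k hk b
      rw [add_zero] at hk
      rw [pow_eq_zero_of_le hk hN, zero_mul]
      exact Csub.zero_mem
    | succ d ih =>
      intro k hk b
      obtain ⟨a₀, b', rfl⟩ := hgen' b
      obtain ⟨t', ht'⟩ := exists_one_add_mul_pow ν t k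
      have h1 : ν ^ k = μ ^ k - ν ^ (k + 1) * t' := by
        rw [ht, mul_pow, ht', pow_succ]; ring
      have h2 : ν ^ k * (a₀ • 1 + ν * b') = a₀ • μ ^ k + ν ^ (k + 1) * (b' - a₀ • t') := by
        rw [mul_add, mul_smul_comm, mul_one, pow_succ]
        nth_rewrite 1 [h1]
        rw [smul_sub, mul_sub, mul_smul_comm, pow_succ]
        ring
      rw [h2]
      exact Csub.add_mem (Csub.smul_mem (Csub.pow_mem hμC k) _) (ih (k + 1) (by omega) _)
  have hz : z ∈ Csub := by
    have h1 : ν ∈ Csub := by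
      have := main N 1 (by omega) 1
      rwa [pow_one, mul_one] at this
    have : z = ν + 1 := by rw [hν]; ring
    rw [this]
    exact Csub.add_mem h1 Csub.one_mem
  rw [hC, Algebra.adjoin_singleton_eq_range_aeval] at hz
  exact hz

end Nil

end Groth.Agent.R2.H39.ArrRes
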