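import Groth.Agent.Lib.Helper4LambdaBott
import Groth.Agent.Lib.Helper4LambdaExt
import Groth.Agent.R2.H39ArrRes
import Mathlib

/-!
# helper39: λ-ring input for the Adams–Riemann–Roch formula of an elementary projection (S3804)
-/

set_option autoImplicit false
set_option linter.unusedSectionVars false
universe u
open LambdaRing Finset
open Groth.Agent.Lib.Helper4

namespace Groth.Agent.R2.H39.ArrLam

section LineMul

variable {K : Type u} [CommRing K] [LambdaOps K]

theorem lamSeries_mul_line_of_mem_lineSpan (P : PosStructure K) {ℓ : K} (hℓ : P.IsLine ℓ) {y : K}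
    (hy : y ∈ lineSpan P) :
    lamSeries (y * ℓ) = PowerSeries.rescale ℓ (lamSeries y) := by
  induction hy using AddSubgroup.closure_induction with
  | mem u hu =>
    rw [lamSeries_of_isLine P u hu, lamSeries_of_isLine P _ (isLine_mul P hu hℓ)]
    have hC : PowerSeries.rescale ℓ (PowerSeries.C u) = PowerSeries.C u := by
      ext n
      rw [PowerSeries.coeff_rescale, PowerSeries.coeff_C]
      split_ifs with h
      · subst h; simp
      · simp
    rw [map_add, map_one, map_mul (PowerSeries.rescale ℓ), PowerSeries.rescale_X, hC, map_mul]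
    ring
  | zero => rw [zero_mul, lamSeries_zero, map_one]
  | add x y _ _ hx hy => rw [add_mul, lamSeries_add, lamSeries_add, map_mul, hx, hy]
  | neg x _ hx =>
    have h1 : lamSeries (-x * ℓ) * lamSeries (x * ℓ) = 1 := by
      rw [neg_mul]; exact lamSeries_neg_mul _
    have h2 : PowerSeries.rescale ℓ (lamSeries (-x)) * lamSeries (x * ℓ) = 1 := by
      rw [hx, ← map_mul, lamSeries_neg_mul, map_one]
    exact (isUnit_lamSeries (x * ℓ)).mul_left_injective (h1.trans h2.symm)

theorem lam_mul_line {P : PosStructure K} (hK : HasSplitting K P) {ℓ : K} (hℓ : P.IsLine ℓ)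
    (y : K) (k : ℕ) : LambdaOps.lam k (y * ℓ) = LambdaOps.lam k y * ℓ ^ k := by
  obtain ⟨L, f, hf, -, hxs⟩ := exists_extension_lineSpan hK [y]
  apply hf.injective
  have hy := hxs y (by simp)
  have h1 := lamSeries_mul_line_of_mem_lineSpan L.posStr (isExtension_isLine hf hℓ) hy
  have h2 := congrArg (PowerSeries.coeff k) h1
  rw [coeff_lamSeries, PowerSeries.coeff_rescale, coeff_lamSeries] at h2
  rw [hf.isLambdaHom, map_mul, h2, map_mul, map_pow, hf.isLambdaHom, mul_comm]

theorem lam_mul_inv_line {P : PosStructure K} (hK : HasSplitting K P) {ℓ s : K} (hℓ : P.IsLine ℓ)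
    (hs : s * ℓ = 1) (y : K) (k : ℕ) : LambdaOps.lam k (y * s) = LambdaOps.lam k y * s ^ k := by
  have h1 := lam_mul_line hK hℓ (y * s) k
  rw [mul_assoc, hs, mul_one] at h1
  rw [h1, mul_assoc, ← mul_pow, mul_comm ℓ, hs, one_pow, mul_one]

end LineMul

section Bott

variable {K : Type u} [CommRing K] [LambdaOps K]

theorem bott_eq (P : PosStructure K) (j : ℕ) (y : K) (m : ℕ) (hm : (P.aug y).toNat = m) :
    KRR.bott P j y =
      MvPolynomial.aeval (fun i : Fin m => LambdaOps.lam (i.1 + 1) y) (KRR.bottPoly j m) := by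
  subst hm
  rfl

theorem map_bott {K' : Type u} [CommRing K'] [LambdaOps K'] {P : PosStructure K}
    {P' : PosStructure K'} {f : K →+* K'} (hf : IsExtension P P' f) (j : ℕ) (y : K) :
    f (KRR.bott P j y) = KRR.bott P' j (f y) := by
  have hm : (P'.aug (f y)).toNat = (P.aug y).toNat := by rw [hf.aug_comp]
  rw [bott_eq P' j (f y) _ hm, KRR.bott]
  have h1 := MvPolynomial.comp_aeval_apply (R := ℤ)
    (f := fun i : Fin (P.aug y).toNat => LambdaOps.lam (i.1 + 1) y) (φ := f.toIntAlgHom)
    (KRR.bottPoly j (P.aug y).toNat)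
  simp only [RingHom.toIntAlgHom_apply] at h1
  rw [h1]
  congr 2
  funext i
  exact hf.isLambdaHom _ _

theorem aug_inv_line (P : PosStructure K) {ℓ s : K} (hℓ : P.IsLine ℓ) (hs : s * ℓ = 1) :
    P.aug s = 1 := by
  have := congrArg P.aug hs
  rw [map_mul, hℓ.2, mul_one, map_one] at this
  exact this

/-- Bott's class of `(Σ u_i) s` with `s` the inverse of a line element. -/
theorem bott_sum_lines_mul_inv {P : PosStructure K} (hK : HasSplitting K P) {m : ℕ}
    (u : Fin m → K) (hu : ∀ k, P.IsLine (u k)) {ℓ s : K} (hℓ : P.IsLine ℓ) (hs : s * ℓ = 1)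
    (j : ℕ) :
    KRR.bott P j ((∑ k, u k) * s) = ∏ k, ∑ l ∈ range j, (u k * s) ^ l := by
  classical
  have haug : (P.aug ((∑ k, u k) * s)).toNat = m := by
    rw [map_mul, aug_inv_line P hℓ hs, mul_one, map_sum]
    simp [fun k => (hu k).2]
  rw [bott_eq P j _ m haug]
  have e2 : (fun i : Fin m => LambdaOps.lam (i.1 + 1) ((∑ k, u k) * s)) =
      fun i : Fin m => MvPolynomial.aeval (fun k => u k * s)
        (MvPolynomial.esymm (Fin m) ℤ (i.1 + 1)) := by
    funext i
    rw [lam_mul_inv_line hK hℓ hs, lam_sum_lines P u hu, aeval_esymm_eq, sum_mul]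
    refine sum_congr rfl fun t ht => ?_
    rw [mem_powersetCard] at ht
    rw [prod_mul_distrib, prod_const, ht.2]
  rw [e2, ← MvPolynomial.comp_aeval_apply (φ := MvPolynomial.aeval fun k => u k * s),
    aeval_esymm_bottPoly, KRR.bottSym, map_prod]
  refine prod_congr rfl fun k _ => ?_
  rw [map_sum]
  refine sum_congr rfl fun l _ => ?_
  rw [map_pow, MvPolynomial.aeval_X]

end Bott

section Poly

open Polynomial Groth.Agent.R2.H39.ArrRes

variable {K : Type u} [CommRing K] [LambdaOps K]

/-- `Σ_{i ≤ m} (-1)^i λ^i(y) T^{m-i}` (the polynomial `p_y` with an explicit degree). -/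
noncomputable def cpoly (m : ℕ) (y : K) : K[X] := revPoly (extCoeff y) m

theorem extCoeff_zero (y : K) : extCoeff y 0 = 1 := by simp [extCoeff, LambdaOps.lam_zero]

theorem cpoly_monic (m : ℕ) (y : K) : (cpoly m y).Monic := revPoly_monic _ _ (extCoeff_zero y)

theorem natDegree_cpoly [Nontrivial K] (m : ℕ) (y : K) : (cpoly m y).natDegree = m :=
  natDegree_revPoly _ _ (extCoeff_zero y)

theorem extPoly_eq_cpoly (P : PosStructure K) (e : K) :
    KRR.extPoly P e = cpoly (P.aug e).toNat e := rfl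

theorem map_cpoly {K' : Type u} [CommRing K'] [LambdaOps K'] (f : K →+* K') (hf : IsLambdaHom f)
    (m : ℕ) (y : K) : (cpoly m y).map f = cpoly m (f y) := by
  rw [cpoly, cpoly, revPoly, revPoly, Polynomial.map_sum]
  refine sum_congr rfl fun k _ => ?_
  rw [Polynomial.map_mul, Polynomial.map_pow, map_X, map_C, extCoeff, extCoeff, map_mul, map_pow,
    map_neg, map_one, hf]

theorem cpoly_sum_lines (P : PosStructure K) {m : ℕ} (u : Fin m → K) (hu : ∀ k, P.IsLine (u k)) :
    cpoly m (∑ k, u k) = ∏ k, (X - C (u k)) := by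
  classical
  have h1 : ∏ k, (X - C (u k)) = (((univ : Finset (Fin m)).val.map u).map fun t => X - C t).prod := by
    rw [Multiset.map_map]; rfl
  rw [h1, Multiset.prod_X_sub_X_eq_sum_esymm, Multiset.card_map, Finset.card_val, card_univ,
    Fintype.card_fin, cpoly, revPoly]
  refine sum_congr rfl fun k _ => ?_
  rw [extCoeff, lam_sum_lines P u hu, Finset.esymm_map_val, map_mul, map_pow, map_neg, map_one,
    mul_assoc]

theorem prod_comp_identity {m : ℕ} (u : Fin m → K) (j : ℕ) :
    (∏ k, (X - C (u k ^ j))).comp (X ^ j) =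
      (∏ k, (X - C (u k))) * ∏ k, hsum j (X : K[X]) (C (u k)) := by
  rw [Polynomial.prod_comp, ← prod_mul_distrib]
  refine prod_congr rfl fun k _ => ?_
  rw [sub_comp, X_comp, C_comp, mul_comm, hsum_mul, map_pow]

end Poly

section E1

open Polynomial Groth.Agent.R2.H39.ArrRes

variable {K : Type u} [CommRing K] [LambdaOps K]

theorem hsum_line_inv {L : Type*} [CommRing L] (uk ℓ' s' : L) (hs : s' * ℓ' = 1) (j : ℕ) :
    (∑ l ∈ range j, (uk * s') ^ l) * ℓ' ^ (j - 1) = hsum j ℓ' uk := by
  rw [hsum, sum_mul, ← sum_range_reflect]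
  refine sum_congr rfl fun i hi => ?_
  rw [mem_range] at hi
  have e1 : j - 1 = (j - 1 - i) + i := by omega
  have e2 : (uk * s') ^ (j - 1 - i) * ℓ' ^ (j - 1) = uk ^ (j - 1 - i) * (s' * ℓ') ^ (j - 1 - i) * ℓ' ^ i := by
    nth_rewrite 2 [e1]
    rw [mul_pow, mul_pow, pow_add]; ring
  rw [e2, hs, one_pow, mul_one, mul_comm]

theorem main_E1 {P : PosStructure K} (hK : HasSplitting K P) (y : K) (hy : y ∈ P.pos) (m : ℕ)
    (hm : (P.aug y).toNat = m) {ℓ s : K} (hℓ : P.IsLine ℓ) (hs : s * ℓ = 1) (j : ℕ) :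
    ((cpoly m (adams P j y)).comp (X ^ j)) %ₘ (cpoly m y) = 0 ∧
    KRR.bott P j (y * s) * ℓ ^ ((j - 1) * m) =
      eval ℓ (((cpoly m (adams P j y)).comp (X ^ j)) /ₘ (cpoly m y)) ∧
    P.aug (KRR.bott P j (y * s)) = (j : ℤ) ^ m := by
  classical
  obtain ⟨L, f, hf, hL, ms, hms, hmssum⟩ := exists_extension_multiset hK y hy
  obtain ⟨n, u, hu, husum, hn⟩ := exists_fin_of_multiset L.posStr ms hms
  have hnm : n = m := by
    rw [hn, ← hm, ← hf.aug_comp, ← hmssum, aug_multiset_sum_lines _ ms hms, Int.toNat_natCast]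
  subst hnm
  have hfy : f y = ∑ k, u k := by rw [husum, hmssum]
  have hfψ : f (adams P j y) = ∑ k, u k ^ j := by
    rw [isExtension_map_adams hf, hfy, adams_sum]
    exact sum_congr rfl fun k _ => adams_of_isLine _ _ (hu k) j
  have h_p : (cpoly n y).map f = ∏ k, (X - C (u k)) := by
    rw [map_cpoly f hf.isLambdaHom, hfy, cpoly_sum_lines L.posStr u hu]
  have h_P : (cpoly n (adams P j y)).map f = ∏ k, (X - C (u k ^ j)) := by
    rw [map_cpoly f hf.isLambdaHom, hfψ,
      cpoly_sum_lines L.posStr (fun k => u k ^ j) (fun k => isLine_pow _ (hu k) j)]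
  have hpmonic : (∏ k, (X - C (u k)) : L.carrier[X]).Monic :=
    monic_prod_of_monic _ _ fun k _ => monic_X_sub_C _
  have hmapcomp : ((cpoly n (adams P j y)).comp (X ^ j)).map f =
      (∏ k, (X - C (u k))) * ∏ k, hsum j (X : L.carrier[X]) (C (u k)) := by
    rw [Polynomial.map_comp, h_P, Polynomial.map_pow, map_X, prod_comp_identity]
  have hℓ' := isExtension_isLine hf hℓ
  have hs' : f s * f ℓ = 1 := by rw [← map_mul, hs, map_one]
  have hbott : f (KRR.bott P j (y * s)) = ∏ k, ∑ l ∈ range j, (u k * f s) ^ l := by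
    rw [map_bott hf, map_mul, hfy, bott_sum_lines_mul_inv hL u hu hℓ' hs']
  refine ⟨?_, ?_, ?_⟩
  · apply Polynomial.map_injective f hf.injective
    rw [Polynomial.map_modByMonic _ (cpoly_monic n y), hmapcomp, h_p, Polynomial.map_zero,
      modByMonic_eq_zero_iff_dvd hpmonic]
    exact dvd_mul_right _ _
  · apply hf.injective
    rw [map_mul, map_pow, hbott, ← eval_map_apply, Polynomial.map_divByMonic _ (cpoly_monic n y),
      hmapcomp, h_p, mul_divByMonic_cancel_left _ hpmonic, eval_prod]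
    have e1 : f ℓ ^ ((j - 1) * n) = ∏ _k : Fin n, f ℓ ^ (j - 1) := by
      rw [prod_const, card_univ, Fintype.card_fin, pow_mul]
    rw [e1, ← prod_mul_distrib]
    refine prod_congr rfl fun k _ => ?_
    rw [hsum_line_inv _ _ _ hs', hsum, hsum, eval_finsetSum]
    refine sum_congr rfl fun i _ => ?_
    rw [eval_mul, eval_pow, eval_pow, eval_X, eval_C]
  · rw [← hf.aug_comp, hbott, map_prod]
    have : ∀ k ∈ (univ : Finset (Fin n)), L.posStr.aug (∑ l ∈ range j, (u k * f s) ^ l) = (j : ℤ) := by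
      intro k _
      rw [map_sum]
      have : ∀ l ∈ range j, L.posStr.aug ((u k * f s) ^ l) = 1 := by
        intro l _
        rw [map_pow, map_mul, (hu k).2, aug_inv_line _ hℓ' hs', mul_one, one_pow]
      rw [sum_congr rfl this]
      simp
    rw [prod_congr rfl this, prod_const, card_univ, Fintype.card_fin]

end E1

section Descent

open Polynomial Groth.Agent.R2.H39.ArrRes

variable {K E : Type u} [CommRing K] [LambdaOps K] [CommRing E] [LambdaOps E]

theorem descent {P : PosStructure K} {PE : PosStructure E} {f : K →+* E}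
    (hf : IsExtension P PE f) (hE : HasSplitting E PE) (e : K) (he : e ∈ P.pos) (m : ℕ)
    (hm : (P.aug e).toNat = m) {ℓ s : E} (hℓ : PE.IsLine ℓ) (hs : s * ℓ = 1) (j : ℕ) :
    (cpoly m (adams P j e)).comp (X ^ j) =
        cpoly m e * (((cpoly m (adams P j e)).comp (X ^ j)) /ₘ cpoly m e) ∧
    KRR.bott PE j (f e * s) * ℓ ^ ((j - 1) * m) =
        eval₂ f ℓ (((cpoly m (adams P j e)).comp (X ^ j)) /ₘ cpoly m e) ∧
    PE.aug (KRR.bott PE j (f e * s)) = (j : ℤ) ^ m := by
  have hmE : (PE.aug (f e)).toNat = m := by rw [hf.aug_comp, hm]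
  obtain ⟨h1, h2, h3⟩ := main_E1 hE (f e) (hf.pos_subset e he) m hmE hℓ hs j
  have e1 : (cpoly m e).map f = cpoly m (f e) := map_cpoly f hf.isLambdaHom m e
  have e2 : (cpoly m (adams P j e)).map f = cpoly m (adams PE j (f e)) := by
    rw [map_cpoly f hf.isLambdaHom, isExtension_map_adams hf]
  have e3 : ((cpoly m (adams P j e)).comp (X ^ j)).map f =
      (cpoly m (adams PE j (f e))).comp (X ^ j) := by
    rw [Polynomial.map_comp, e2, Polynomial.map_pow, map_X]
  refine ⟨?_, ?_, h3⟩
  · have h0 : ((cpoly m (adams P j e)).comp (X ^ j)) %ₘ cpoly m e = 0 := by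
      apply Polynomial.map_injective f hf.injective
      rw [Polynomial.map_modByMonic _ (cpoly_monic m e), e3, e1, h1, Polynomial.map_zero]
    have := modByMonic_add_div ((cpoly m (adams P j e)).comp (X ^ j)) (cpoly m e)
    rw [h0, zero_add] at this
    exact this.symm
  · rw [h2, ← eval_map, Polynomial.map_divByMonic _ (cpoly_monic m e), e3, e1]

theorem pow_eq_zero_of_aug_eq_zero (PE : PosStructure E) (N : ℕ)
    (hN : gammaFiltration PE N = ⊥) (x : E) (hx : PE.aug x = 0) : x ^ N = 0 := by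
  have h1 := pow_mem_gammaFiltration PE (mem_gammaFiltration_one PE x hx) N
  rw [one_mul, hN] at h1
  exact (AddSubgroup.mem_bot).1 h1

end Descent

end Groth.Agent.R2.H39.ArrLam
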