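import Groth.Agent.R2.H39ArrLam
import Groth.Agent.R2.H39ArrBC
import Groth.Agent.R2.H39ArrAsm
import Mathlib

/-!
# helper39: Adams–Riemann–Roch for an elementary projection, over any ring `R` in which `j` is a unit
-/

set_option autoImplicit false
set_option linter.unusedSectionVars false
universe v
open LambdaRing Polynomial Finset
open scoped TensorProduct
open Groth.Agent.Lib.Helper4 Groth.Agent.R2.H39.ArrLam Groth.Agent.R2.H39.ArrBC
  Groth.Agent.R2.H39.ArrAsm

namespace Groth.Agent.R2.H39.ArrMain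

section Coords

variable {K : Type*} [CommRing K]

theorem adjoinRoot_coords (p : K[X]) (hp : p.Monic) (n : ℕ) (hn : p.natDegree = n + 1) :
    ∃ c : ℕ → AdjoinRoot p →ₗ[K] K,
      (∀ i k, i ≤ n → k ≤ n → c i (AdjoinRoot.root p ^ k) = if i = k then 1 else 0) ∧
      ∀ y : AdjoinRoot p, y = ∑ i ∈ range (n + 1), c i y • AdjoinRoot.root p ^ i := by
  classical
  rcases subsingleton_or_nontrivial K with hsub | hnt
  · exfalso
    have : p.natDegree = 0 := by rw [Subsingleton.elim p 0, natDegree_zero]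
    omega
  have hp1 : p ≠ 1 := by
    intro h; rw [h, natDegree_one] at hn; omega
  refine ⟨fun i => (Polynomial.lcoeff K i) ∘ₗ (AdjoinRoot.modByMonicHom hp), ?_, ?_⟩
  · intro i k _ hk
    simp only [LinearMap.comp_apply, Polynomial.lcoeff_apply]
    rw [← AdjoinRoot.mk_X, ← map_pow, AdjoinRoot.modByMonicHom_mk,
      (Polynomial.modByMonic_eq_self_iff hp).2 (by
        rw [degree_X_pow, degree_eq_natDegree hp.ne_zero, hn]
        exact_mod_cast Nat.lt_succ_of_le hk), coeff_X_pow]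
  · intro y
    obtain ⟨g₀, rfl⟩ := AdjoinRoot.mk_surjective y
    set g := g₀ %ₘ p with hg
    have hgz : AdjoinRoot.mk p g = AdjoinRoot.mk p g₀ := by
      have := AdjoinRoot.mk_leftInverse hp (AdjoinRoot.mk p g₀)
      rwa [AdjoinRoot.modByMonicHom_mk] at this
    have hgdeg : g.natDegree < n + 1 := by
      have := Polynomial.natDegree_modByMonic_lt g₀ hp hp1
      rwa [hn] at this
    simp only [LinearMap.comp_apply, Polynomial.lcoeff_apply, AdjoinRoot.modByMonicHom_mk]
    rw [← hgz]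
    conv_lhs => rw [g.as_sum_range' (n + 1) hgdeg, map_sum]
    refine sum_congr rfl fun i _ => ?_
    rw [← C_mul_X_pow_eq_monomial, map_mul, map_pow, AdjoinRoot.mk_C, AdjoinRoot.mk_X,
      Algebra.smul_def, AdjoinRoot.algebraMap_eq]

end Coords

section Abstract

variable {R : Type*} [CommRing R] {K E : Type v} [CommRing K] [LambdaOps K] [CommRing E]
  [LambdaOps E] [Algebra K E]

attribute [local instance] tAlg

theorem arr_abstract (P : PosStructure K) (PE : PosStructure E)
    (hext : IsExtension P PE (algebraMap K E)) (hsplit : HasSplitting E PE) (e : K)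
    (he : e ∈ P.pos) (r : ℕ) (hr : P.aug e = r + 1) (ℓ linv : E) (hline : PE.IsLine ℓ)
    (hlinv : linv * ℓ = 1) (hroot : aeval ℓ (KRR.extPoly P e) = 0)
    (c : ℕ → E →ₗ[K] K) (hc : ∀ i k, i ≤ r → k ≤ r → c i (ℓ ^ k) = if i = k then 1 else 0)
    (hspan : ∀ y : E, y = ∑ i ∈ range (r + 1), c i y • ℓ ^ i)
    (N : ℕ) (hN : gammaFiltration PE N = ⊥) (f : E →ₗ[K] K)
    (hf : ∀ i : ℕ, i ≤ r → f (ℓ ^ i) = KRR.sigma i e) (j : ℕ) (hj1 : 1 ≤ j)
    (hjR : IsUnit (j : R)) :
    (∃ w : R ⊗[ℤ] E, w * ((1 : R) ⊗ₜ[ℤ] KRR.bott PE j (algebraMap K E e * linv)) = 1) ∧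
    ∀ w : R ⊗[ℤ] E, w * ((1 : R) ⊗ₜ[ℤ] KRR.bott PE j (algebraMap K E e * linv)) = 1 →
      ∀ x : E, (1 : R) ⊗ₜ[ℤ] adams P j (f x) =
        LinearMap.lTensor R f.toAddMonoidHom.toIntLinearMap
          ((j : R ⊗[ℤ] E) * w * ((1 : R) ⊗ₜ[ℤ] adams PE j x)) := by
  classical
  have hm : (P.aug e).toNat = r + 1 := by rw [hr]; rfl
  have hKnt : Nontrivial K := ⟨⟨0, 1, fun h => by
    have := congrArg P.aug h
    rw [map_zero, map_one] at this
    exact zero_ne_one this⟩⟩
  set θ : E := KRR.bott PE j (algebraMap K E e * linv) with hθdef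
  obtain ⟨hPQ, hθ, haugθ⟩ := descent hext hsplit e he (r + 1) hm hline hlinv j
  rw [← hθdef] at hθ haugθ
  set p : K[X] := cpoly (r + 1) e with hp
  set PK : K[X] := cpoly (r + 1) (adams P j e) with hPK
  set QK : K[X] := (PK.comp (X ^ j)) /ₘ p with hQK
  have hpext : KRR.extPoly P e = p := by rw [extPoly_eq_cpoly, hm]
  -- ring maps
  set ιA : K →+* R ⊗[ℤ] K := (Algebra.TensorProduct.includeRight : K →ₐ[ℤ] R ⊗[ℤ] K).toRingHom with hιA
  set ιB : E →+* R ⊗[ℤ] E := (Algebra.TensorProduct.includeRight : E →ₐ[ℤ] R ⊗[ℤ] E).toRingHom with hιB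
  have hιA_apply : ∀ k : K, ιA k = (1 : R) ⊗ₜ[ℤ] k := fun k => rfl
  have hιB_apply : ∀ y : E, ιB y = (1 : R) ⊗ₜ[ℤ] y := fun y => rfl
  have hcomp : ∀ k, algebraMap (R ⊗[ℤ] K) (R ⊗[ℤ] E) (ιA k) = ιB (algebraMap K E k) := by
    intro k
    rw [hιA_apply, hιB_apply, algebraMap_tmul]
  have hjA : IsUnit (j : R ⊗[ℤ] K) := by
    have : (j : R ⊗[ℤ] K) = (Algebra.TensorProduct.includeLeft : R →ₐ[ℤ] R ⊗[ℤ] K) (j : R) := by
      rw [map_natCast]
    rw [this]
    exact hjR.map _
  -- nilpotence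
  have hN1 : (ℓ - 1) ^ N = 0 := pow_eq_zero_of_aug_eq_zero PE N hN _ (by
    rw [map_sub, hline.2, map_one, sub_self])
  have hN2 : (θ - (j : E) ^ (r + 1)) ^ N = 0 := pow_eq_zero_of_aug_eq_zero PE N hN _ (by
    rw [map_sub, haugθ, map_pow, map_natCast]; simp)
  refine ⟨?_, ?_⟩
  · obtain ⟨w, hw⟩ := exists_inv (A := R ⊗[ℤ] K) ιB j (r + 1) N hjA θ hN2
    exact ⟨w, hw⟩
  intro w hw x
  rcases subsingleton_or_nontrivial (R ⊗[ℤ] K) with hsub | hnt
  · exact Subsingleton.elim _ _
  -- the functional on inverse powers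
  have hrel : ∑ i ∈ range (r + 1 + 1),
      algebraMap K E ((-1 : K) ^ i * LambdaOps.lam i e) * ℓ ^ (r + 1 - i) = 0 := by
    have := hroot
    rw [aeval_def, eval₂_extPoly, hm] at this
    exact this
  have hfall : ∀ i, f (ℓ ^ i) = KRR.sigma i e :=
    functional_pow_eq (r + 1) (fun i => (-1 : K) ^ i * LambdaOps.lam i e)
      (fun i => KRR.sigma i e) ℓ f (by simp [LambdaOps.lam_zero]) hrel
      (fun i hi => by rw [lam_eq_zero_of_pos P e he i (by omega), mul_zero])
      (sigma_conv e) (fun i hi => hf i (by omega)) (by omega)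
  have hunit : IsUnit ((-1 : K) ^ (r + 1) * LambdaOps.lam (r + 1) e) := by
    have h1 : IsUnit (LambdaOps.lam (r + 1) e) := by
      have := P.isUnit_lam e he
      rwa [hm] at this
    exact ((isUnit_one.neg).pow _).mul h1
  have hfs : ∀ i, i ≤ r → f (linv ^ i) = if i = 0 then 1 else 0 := by
    intro i hi
    by_cases h0 : i = 0
    · subst h0
      rw [if_pos rfl, pow_zero]
      have := hf 0 (Nat.zero_le r)
      rwa [pow_zero, sigma_zero] at this
    · rw [if_neg h0]
      exact functional_inv_pow_eq_zero (r + 1) (fun i => (-1 : K) ^ i * LambdaOps.lam i e)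
        (fun i => KRR.sigma i e) ℓ linv f hlinv hrel (sigma_conv e) hfall hunit i (by omega) (by omega)
  -- core
  have hcore := core ιA ιB hcomp r ℓ linv hlinv p PK QK j (cpoly_monic _ _) (natDegree_cpoly _ _)
    (cpoly_monic _ _) (natDegree_cpoly _ _) hPQ (by rw [← hpext]; exact hroot) c hc f hfs
    (fun i => tLin R (c i)) (fun i y => by rw [hιB_apply, tLin_tmul, hιA_apply])
    (tLin R f) (fun y => by rw [hιB_apply, tLin_tmul, hιA_apply])
    (fun b => by rw [hιB_apply]; exact span_tensor R r ℓ c hspan b)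
    N hN1 hjA hj1 θ (by rw [hθ]; rfl) w (by rw [hιB_apply]; exact hw)
  have hfull := full ιA ιB hcomp r ℓ linv hlinv j c hspan f hfs (tLin R f) w hcore
    (adamsAddHom P j) (adamsRingHom hsplit j)
    (fun k => by
      rw [adamsRingHom_apply, adamsAddHom_apply]
      exact (isExtension_map_adams hext j k).symm)
    (by
      rw [adamsRingHom_apply]
      have h1 : adams PE j linv * adams PE j ℓ = 1 := by
        rw [← adams_mul hsplit, hlinv, adams_one]
      rw [adams_of_isLine PE ℓ hline] at h1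
      calc adams PE j linv = adams PE j linv * (ℓ ^ j * linv ^ j) := by
            rw [pow_mul_pow_inv ℓ linv hlinv, mul_one]
        _ = (adams PE j linv * ℓ ^ j) * linv ^ j := by ring
        _ = linv ^ j := by rw [h1, one_mul]) x
  rw [adamsAddHom_apply, adamsRingHom_apply, hιA_apply, hιB_apply] at hfull
  exact hfull

end Abstract

end Groth.Agent.R2.H39.ArrMain
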