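/-
Helper library (helper39): a proper birational morphism `f : X ⟶ Y` of integral schemes, `Y` locally
Noetherian, with `O_Y → f_* O_X` bijective, is an isomorphism away from codimension two.

Ingredients: Krull–Akizuki quasi-finiteness over codimension-one points (helper4's
`Helper4GenFiniteKA`), Zariski's main theorem (Mathlib: proper + locally quasi-finite is finite), and
`O_Y → f_* O_X` bijective turning a finite morphism into an isomorphism.
-/
import Mathlib
import Groth.Agent.Lib.Helper4GenFiniteKA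
import Groth.Agent.Lib.Helper4BirCodimTwo

set_option autoImplicit false
set_option linter.style.haveILetI false
universe u

open AlgebraicGeometry CategoryTheory

namespace Groth.Agent.R2.H39.BirCodimTwo

/-- Zariski's main theorem, pointwise form: a proper morphism which is quasi-finite at every point
of the fibre over `y` is finite over a neighbourhood of `y`. -/
theorem exists_isFinite_morphismRestrict_of_quasiFiniteAt {X Y : Scheme.{u}} (f : X ⟶ Y)
    [IsProper f] (y : Y) (hx : ∀ x, f x = y → f.QuasiFiniteAt x) :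
    ∃ V : Y.Opens, y ∈ V ∧ IsFinite (f ∣_ V) := by
  let V : Y.Opens := ⟨_, (f.isClosedMap _ f.quasiFiniteLocus.isOpen.isClosed_compl).isOpen_compl⟩
  refine ⟨V, ?_, ?_⟩
  · suffices ∀ x, f x = y → f.QuasiFiniteAt x by simpa [V, not_imp_not]
    exact hx
  · suffices LocallyQuasiFinite (f ∣_ V) from .of_isProper_of_locallyQuasiFinite _
    rw [← Scheme.Hom.quasiFiniteLocus_eq_top_iff]
    ext x
    have : f.QuasiFiniteAt ((f ⁻¹ᵁ V).ι x) := by by_contra H; exact x.2 ⟨_, H, by simp⟩
    rw [← Scheme.Hom.quasiFiniteAt_comp_iff_of_isOpenImmersion, ← morphismRestrict_ι,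
      Scheme.Hom.quasiFiniteAt_comp_iff] at this
    simpa

theorem le_one_of_not_two_le (d : WithBot ℕ∞) (h : ¬ 2 ≤ d) : d ≤ 1 := by
  induction d using WithBot.recBotCoe with
  | bot => exact bot_le
  | coe a =>
    have h2 : ¬ (2 : ℕ∞) ≤ a := by
      intro h'
      apply h
      exact WithBot.coe_le_coe.mpr h'
    have h3 : a < 2 := not_le.mp h2
    have h4 : a ≤ 1 := by
      induction a with
      | top => exact absurd h3 (by simp)
      | coe n =>
        have : n < 2 := by exact_mod_cast h3
        have : n ≤ 1 := by omega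
        exact_mod_cast this
    exact_mod_cast h4

/-- A finite morphism with `O_Y(W) → O_X(f⁻¹W)` bijective for all `W` is an isomorphism over every
affine open of the target over which it is affine. -/
theorem isIso_morphismRestrict_image_of_app_bijective {X Y : Scheme.{u}} (f : X ⟶ Y)
    (V₀ : Y.Opens) [IsAffineHom (f ∣_ V₀)] (W' : V₀.toScheme.Opens) (hW' : IsAffineOpen W')
    (hO : Function.Bijective (f.app (V₀.ι ''ᵁ W'))) :
    IsIso (f ∣_ (V₀.ι ''ᵁ W')) := by
  have h1 : IsIso ((f ∣_ V₀) ∣_ W') := by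
    rw [isIso_morphismRestrict_iff_isIso_app (f ∣_ V₀) hW', morphismRestrict_app]
    have h2 : IsIso (f.app (V₀.ι ''ᵁ W')) := (ConcreteCategory.isIso_iff_bijective _).mpr hO
    have h3 : IsIso (X.presheaf.map (eqToHom (image_morphismRestrict_preimage f V₀ W')).op) :=
      inferInstance
    exact @IsIso.comp_isIso _ _ _ _ _ _ _ h2 h3
  exact ((MorphismProperty.isomorphisms Scheme).arrow_mk_iso_iff
    (morphismRestrictRestrict f V₀ W')).mp h1

/-- **Codimension-two theorem** for a proper birational morphism with `O_Y → f_* O_X` bijective. -/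
theorem exists_open_isIso_codim_two {X Y : Scheme.{u}} [IsIntegral X] [IsIntegral Y]
    [IsLocallyNoetherian Y] (f : X ⟶ Y) [IsProper f]
    (hbir : ∃ U : Y.Opens, (U : Set Y).Nonempty ∧ IsIso (f ∣_ U))
    (hO : ∀ U : Y.Opens, Function.Bijective (f.app U)) :
    ∃ V : Y.Opens, IsIso (f ∣_ V) ∧
      ∀ y : Y, y ∉ (V : Set Y) → 2 ≤ ringKrullDim (Y.presheaf.stalk y) := by
  obtain ⟨U, hUne, hU⟩ := hbir
  let S : Set Y.Opens := {V' | IsIso (f ∣_ V')}
  refine ⟨sSup S, Groth.Agent.Lib.Helper4.BirLocalIso.isIso_morphismRestrict_sSup f S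
    (fun _ h => h), ?_⟩
  intro y hy
  by_contra hdim
  apply hy
  have hdim1 : ringKrullDim (Y.presheaf.stalk y) ≤ 1 := le_one_of_not_two_le _ hdim
  have hmem : ∀ V' : Y.Opens, IsIso (f ∣_ V') → V' ≤ sSup S := fun V' h => le_sSup h
  -- the generic point lies over `U`
  have hηU : genericPoint X ∈ f ⁻¹ᵁ U := by
    obtain ⟨w, hw⟩ := hUne
    have hsurj : Function.Surjective (f ∣_ U) :=
      (ConcreteCategory.bijective_of_isIso (f ∣_ U).base).2
    obtain ⟨z, -⟩ := hsurj ⟨w, hw⟩
    exact ((genericPoint_spec X).mem_open_set_iff (f ⁻¹ᵁ U).isOpen).mpr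
      ⟨z.1, Set.mem_univ _, z.2⟩
  by_cases hyη : f (genericPoint X) = y
  · exact hmem U hU (hyη ▸ hηU)
  -- quasi-finiteness at the generic point
  have hiso : IsIso (f.stalkMap (genericPoint X)) :=
    Groth.Agent.Lib.Helper4.BirLocalIso.isIso_stalkMap_genericPoint_of_isIso_morphismRestrict
      f U hUne hU
  have hbij : Function.Bijective (f.stalkMap (genericPoint X)) :=
    ConcreteCategory.bijective_of_isIso _
  have hqfη : f.QuasiFiniteAt (genericPoint X) :=
    RingHom.QuasiFinite.of_finite (RingHom.Finite.of_surjective _ hbij.2)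
  -- quasi-finiteness along the fibre over `y`
  have hqf : ∀ x, f x = y → f.QuasiFiniteAt x := by
    intro x hx
    subst hx
    apply Groth.Agent.Lib.Helper4.GenFiniteKA.quasiFiniteAt_of_forall_fiber_specializes_eq
    intro z z' hz hz' hzz'
    have hηz : genericPoint X ⤳ z := (genericPoint_spec X).specializes (Set.mem_univ _)
    have key : ∀ (z' : X), f z' = f x → f z = f z' → z ⤳ z' → z = z' := by
      intro z' hz' hzz hsp
      haveI : IsNoetherianRing (Y.presheaf.stalk (f z')) := inferInstance
      exact Groth.Agent.Lib.Helper4.GenFiniteKA.eq_of_specializes_of_quasiFiniteAt_generization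
        f (genericPoint X) z z' hηz hsp hzz (by rw [hz']; exact hyη) (by rw [hz']; exact hdim1)
        hqfη
    exact key z' hz' (hz.trans hz'.symm) hzz'
  obtain ⟨V₀, hyV₀, hfin⟩ := exists_isFinite_morphismRestrict_of_quasiFiniteAt f y hqf
  -- an affine neighbourhood inside `V₀`
  obtain ⟨_, ⟨W', hW', rfl⟩, hyW', -⟩ :=
    V₀.toScheme.isBasis_affineOpens.exists_subset_of_mem_open
      (Set.mem_univ (⟨y, hyV₀⟩ : V₀.toScheme)) isOpen_univ
  have hW : IsIso (f ∣_ (V₀.ι ''ᵁ W')) :=
    isIso_morphismRestrict_image_of_app_bijective f V₀ W' hW' (hO _)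
  exact hmem _ hW ⟨⟨y, hyV₀⟩, hyW', rfl⟩

end Groth.Agent.R2.H39.BirCodimTwo
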