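import Mathlib
import Groth.Prelude.Def_Curves
import Groth.Agent.Lib.LeadCSA
import Groth.Agent.Lib.LeadCSASplits

/-!
# Triviality of Brauer groups of finite separable extensions of `F` versus splitting after
base change, for a separable algebraic extension `F/K`
-/

set_option autoImplicit false
set_option linter.style.haveILetI false
set_option linter.unusedSectionVars false

namespace Groth.Agent.R2.H39.BrSepAlg

open scoped TensorProduct IntermediateField
open Groth.Agent.Lib.LeadCSA

universe u

section Split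

/-- If every central division algebra over `F'` is trivial, every central simple algebra over `F'`
is a matrix algebra. -/
theorem exists_algEquiv_matrix_of_forall_division {F' : Type u} [Field F'] {C : Type u} [Ring C]
    [Algebra F' C] [Algebra.IsCentral F' C] [IsSimpleRing C] [FiniteDimensional F' C]
    (h : ∀ (D : Type u) [DivisionRing D] [Algebra F' D] [Algebra.IsCentral F' D]
      [FiniteDimensional F' D], Module.finrank F' D = 1) :
    ∃ n : ℕ, n ≠ 0 ∧ Nonempty (C ≃ₐ[F'] Matrix (Fin n) (Fin n) F') := by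
  have : IsArtinianRing C := IsArtinianRing.of_finite F' C
  obtain ⟨n, hn, D, _, _, _, ⟨φ⟩⟩ := IsSimpleRing.exists_algEquiv_matrix_divisionRing_finite F' C
  have : Algebra.IsCentral F' (Matrix (Fin n) (Fin n) D) := Algebra.IsCentral.of_algEquiv F' _ _ φ
  have : Algebra.IsCentral F' D := isCentral_of_matrix (n := n)
  have h1 : Module.finrank F' D = 1 := h D
  have hinj : Function.Injective (Algebra.ofId F' D) := (algebraMap F' D).injective
  have hbij : Function.Bijective (Algebra.ofId F' D) := by
    refine ⟨hinj, ?_⟩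
    have h2 : Module.finrank F' F' = Module.finrank F' D := by rw [h1, Module.finrank_self]
    exact (LinearMap.injective_iff_surjective_of_finrank_eq_finrank
      (f := (Algebra.ofId F' D).toLinearMap) h2).mp hinj
  let g : F' ≃ₐ[F'] D := AlgEquiv.ofBijective (Algebra.ofId F' D) hbij
  exact ⟨n, hn.ne, ⟨φ.trans (g.symm.mapMatrix (m := Fin n))⟩⟩

end Split

section Forward

variable (K F : Type u) [Field K] [Field F] [Algebra K F]

theorem forward
    (ha : ∀ (F' : Type u) [Field F'] [Algebra F F'] [FiniteDimensional F F']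
        [Algebra.IsSeparable F F']
        (D : Type u) [DivisionRing D] [Algebra F' D] [Algebra.IsCentral F' D]
        [FiniteDimensional F' D], Module.finrank F' D = 1)
    (E : Type u) [Field E] [Algebra K E] [FiniteDimensional K E] [Algebra.IsSeparable K E]
    (D : Type u) [DivisionRing D] [Algebra E D] [Algebra.IsCentral E D] [FiniteDimensional E D]
    (M : Type u) [Field M] [Algebra K M] [Algebra E M] [Algebra F M] [IsScalarTower K E M]
    [IsScalarTower K F M] :
    ∃ n : ℕ, Nonempty ((M ⊗[E] D) ≃ₐ[M] Matrix (Fin n) (Fin n) M) := by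
  obtain ⟨α, hα⟩ := Field.exists_primitive_element K E
  have hαs : IsSeparable K α := Algebra.IsSeparable.isSeparable K α
  have hαi : IsIntegral K α := hαs.isIntegral
  set α' : M := algebraMap E M α with hα'
  have hα's : IsSeparable K α' := by
    unfold IsSeparable
    rw [hα', minpoly.algebraMap_eq (algebraMap E M).injective]
    exact hαs
  have hα'F : IsSeparable F α' := IsSeparable.tower_top F hα's
  have hα'i : IsIntegral F α' := hα'F.isIntegral
  let F' : IntermediateField F M := F⟮α'⟯
  haveI : FiniteDimensional F F' := IntermediateField.adjoin.finiteDimensional hα'i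
  haveI : Algebra.IsSeparable F F' :=
    (IntermediateField.isSeparable_adjoin_simple_iff_isSeparable F M).2 hα'F
  have hmem : ∀ e : E, algebraMap E M e ∈ F' := by
    intro e
    have h1 : e ∈ K⟮α⟯ := by rw [hα]; trivial
    have h2 : e ∈ (K⟮α⟯).toSubalgebra := h1
    rw [IntermediateField.adjoin_simple_toSubalgebra_of_isAlgebraic hαi.isAlgebraic,
      Algebra.adjoin_singleton_eq_range_aeval] at h2
    obtain ⟨p, rfl⟩ := h2
    have h3 : algebraMap E M (Polynomial.aeval α p) =
        Polynomial.aeval α' (p.map (algebraMap K F)) := by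
      rw [Polynomial.aeval_map_algebraMap, Polynomial.aeval_algebraMap_apply]
    show algebraMap E M (Polynomial.aeval α p) ∈ F'
    rw [h3]
    have h4 : Polynomial.aeval α' (p.map (algebraMap K F)) ∈ Algebra.adjoin F {α'} :=
      Polynomial.aeval_mem_adjoin_singleton F α'
    exact IntermediateField.algebra_adjoin_le_adjoin F _ h4
  let iE : E →+* F' := (algebraMap E M).codRestrict F' hmem
  letI : Algebra E F' := iE.toAlgebra
  haveI : IsScalarTower E F' M := IsScalarTower.of_algebraMap_eq (fun x => rfl)
  haveI : IsSimpleRing (F' ⊗[E] D) := isSimpleRing_baseChange F'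
  haveI : Algebra.IsCentral F' (F' ⊗[E] D) := isCentral_baseChange F'
  obtain ⟨n, hn, ⟨e⟩⟩ := exists_algEquiv_matrix_of_forall_division (F' := F') (C := F' ⊗[E] D)
    (fun D' _ _ _ _ => ha F' D')
  have hs : Curves.Splits E D F' := ⟨n, hn, ⟨e⟩⟩
  obtain ⟨m, hm, hdim, ⟨ρ⟩⟩ := exists_algHom_of_splits F' hs
  let ρ' : D →ₐ[E] Matrix (Fin m) (Fin m) M :=
    ((IsScalarTower.toAlgHom E F' M).mapMatrix).comp ρ
  obtain ⟨r, _, hr⟩ := splits_of_algHom M hm hdim ρ'
  exact ⟨r, hr⟩

end Forward

section Form

variable {K F' : Type u} [Field K] [Field F'] [Algebra K F'] {D' : Type u} [DivisionRing D']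
  [Algebra F' D'] {ι : Type} [Fintype ι] [DecidableEq ι] (b : Module.Basis ι F' D')
  (E₀ : IntermediateField K F')

omit [DecidableEq ι] in
theorem mul_eq_sum (x y : D') :
    x * y = ∑ i, ∑ j, (b.repr x i * b.repr y j) • (b i * b j) := by
  conv_lhs => rw [← b.sum_repr x, ← b.sum_repr y]
  rw [Finset.sum_mul_sum]
  refine Finset.sum_congr rfl fun i _ => Finset.sum_congr rfl fun j _ => ?_
  rw [smul_mul_smul_comm]

omit [DecidableEq ι] in
theorem repr_mul (x y : D') (l : ι) :
    b.repr (x * y) l = ∑ i, ∑ j, (b.repr x i * b.repr y j) * b.repr (b i * b j) l := by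
  conv_lhs => rw [mul_eq_sum b x y]
  rw [map_sum, Finsupp.finsetSum_apply]
  refine Finset.sum_congr rfl fun i _ => ?_
  rw [map_sum, Finsupp.finsetSum_apply]
  refine Finset.sum_congr rfl fun j _ => ?_
  rw [map_smul, Finsupp.smul_apply, smul_eq_mul]

theorem algebraMap_eq_smul_one (e : E₀) : algebraMap E₀ D' e = (e : F') • (1 : D') := by
  rw [IsScalarTower.algebraMap_apply E₀ F' D' e, Algebra.algebraMap_eq_smul_one]
  rfl

variable (hc : ∀ i j l, b.repr (b i * b j) l ∈ E₀) (hu : ∀ l, b.repr 1 l ∈ E₀)

/-- The `E₀`-form of `D'` spanned by a basis with structure constants in `E₀`. -/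
noncomputable def form : Subalgebra E₀ D' where
  carrier := {x | ∀ l, b.repr x l ∈ E₀}
  mul_mem' := fun {x y} hx hy l => by
    rw [repr_mul]
    exact sum_mem fun i _ => sum_mem fun j _ => mul_mem (mul_mem (hx i) (hy j)) (hc i j l)
  add_mem' := fun {x y} hx hy l => by
    rw [map_add, Finsupp.add_apply]
    exact add_mem (hx l) (hy l)
  algebraMap_mem' := fun e l => by
    rw [algebraMap_eq_smul_one, map_smul, Finsupp.smul_apply, smul_eq_mul]
    exact mul_mem e.2 (hu l)

theorem mem_form (x : D') : x ∈ form b E₀ hc hu ↔ ∀ l, b.repr x l ∈ E₀ := Iff.rfl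

theorem basis_mem_form (i : ι) : b i ∈ form b E₀ hc hu := by
  intro l
  rw [b.repr_self, Finsupp.single_apply]
  split_ifs
  · exact one_mem _
  · exact zero_mem _

/-- Coordinates of the form. -/
noncomputable def coordMap : form b E₀ hc hu →ₗ[E₀] (ι → E₀) where
  toFun x l := ⟨b.repr (x : D') l, x.2 l⟩
  map_add' x y := by
    funext l
    apply Subtype.ext
    show b.repr ((x : D') + (y : D')) l = b.repr (x : D') l + b.repr (y : D') l
    rw [map_add, Finsupp.add_apply]
  map_smul' e x := by
    funext l
    apply Subtype.ext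
    show b.repr ((e : F') • (x : D')) l = (e : F') * b.repr (x : D') l
    rw [map_smul, Finsupp.smul_apply, smul_eq_mul]

theorem coordMap_injective : Function.Injective (coordMap b E₀ hc hu) := by
  rw [injective_iff_map_eq_zero]
  intro x hx
  apply Subtype.ext
  apply b.repr.injective
  ext l
  have h := congrArg Subtype.val (congrFun hx l)
  show b.repr (x : D') l = b.repr (0 : D') l
  rw [map_zero]
  exact h

theorem finite_form : Module.Finite E₀ (form b E₀ hc hu) :=
  Module.Finite.of_injective (coordMap b E₀ hc hu) (coordMap_injective b E₀ hc hu)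

theorem isCentral_form [Algebra.IsCentral F' D'] : Algebra.IsCentral E₀ (form b E₀ hc hu) := by
  constructor
  intro z hz
  rw [Subalgebra.mem_center_iff] at hz
  have hzb : ∀ i, (z : D') * b i = b i * (z : D') := fun i => by
    have h := hz ⟨b i, basis_mem_form b E₀ hc hu i⟩
    have h2 := congrArg Subtype.val h
    simpa using h2.symm
  have hzc : (z : D') ∈ Subalgebra.center F' D' := by
    rw [Subalgebra.mem_center_iff]
    intro y
    rw [← b.sum_repr y, Finset.sum_mul, Finset.mul_sum]
    refine Finset.sum_congr rfl fun i _ => ?_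
    rw [smul_mul_assoc, mul_smul_comm, hzb]
  obtain ⟨f, hf⟩ := (Algebra.IsCentral.mem_center_iff (K := F')).mp hzc
  have hf' : (z : D') = f • (1 : D') := by rw [hf, Algebra.algebraMap_eq_smul_one]
  obtain ⟨l₀, hl₀⟩ : ∃ l, b.repr (1 : D') l ≠ 0 := by
    by_contra hne
    push Not at hne
    have : b.repr (1 : D') = 0 := by
      ext l
      simpa using hne l
    have h1 : (1 : D') = 0 := b.repr.injective (by rw [this, map_zero])
    exact one_ne_zero h1
  have hfE : f ∈ E₀ := by
    have h1 : b.repr (z : D') l₀ = f * b.repr (1 : D') l₀ := by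
      rw [hf', map_smul, Finsupp.smul_apply, smul_eq_mul]
    have h2 : f = b.repr (z : D') l₀ / b.repr (1 : D') l₀ := by
      rw [h1, mul_div_assoc, div_self hl₀, mul_one]
    rw [h2]
    exact div_mem (z.2 l₀) (hu l₀)
  rw [Algebra.mem_bot]
  refine ⟨⟨f, hfE⟩, ?_⟩
  apply Subtype.ext
  show algebraMap E₀ D' ⟨f, hfE⟩ = (z : D')
  rw [algebraMap_eq_smul_one, hf']

/-- The comparison map `F' ⊗ form → D'`. -/
noncomputable def mu : F' ⊗[E₀] (form b E₀ hc hu) →ₐ[F'] D' :=
  Algebra.TensorProduct.lift (Algebra.ofId F' D') (form b E₀ hc hu).val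
    (fun x y => by
      rw [Algebra.ofId_apply]
      exact Algebra.commute_algebraMap_left x _)

theorem mu_surjective : Function.Surjective (mu b E₀ hc hu) := by
  rw [← AlgHom.coe_toLinearMap, ← LinearMap.range_eq_top, eq_top_iff, ← b.span_eq,
    Submodule.span_le]
  rintro _ ⟨i, rfl⟩
  refine ⟨(1 : F') ⊗ₜ[E₀] (⟨b i, basis_mem_form b E₀ hc hu i⟩ : form b E₀ hc hu), ?_⟩
  show mu b E₀ hc hu ((1 : F') ⊗ₜ[E₀] (⟨b i, basis_mem_form b E₀ hc hu i⟩ : form b E₀ hc hu)) = b i
  unfold mu
  rw [Algebra.TensorProduct.lift_tmul, map_one, one_mul]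
  rfl

end Form

section Backward

variable (K F : Type u) [Field K] [Field F] [Algebra K F] [Algebra.IsSeparable K F]

theorem backward
    (hb : ∀ (E : Type u) [Field E] [Algebra K E] [FiniteDimensional K E] [Algebra.IsSeparable K E]
        (D : Type u) [DivisionRing D] [Algebra E D] [Algebra.IsCentral E D] [FiniteDimensional E D]
        (M : Type u) [Field M] [Algebra K M] [Algebra E M] [Algebra F M] [IsScalarTower K E M]
        [IsScalarTower K F M],
        ∃ n : ℕ, Nonempty ((M ⊗[E] D) ≃ₐ[M] Matrix (Fin n) (Fin n) M))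
    (F' : Type u) [Field F'] [Algebra F F'] [FiniteDimensional F F'] [Algebra.IsSeparable F F']
    (D' : Type u) [DivisionRing D'] [Algebra F' D'] [Algebra.IsCentral F' D']
    [FiniteDimensional F' D'] :
    Module.finrank F' D' = 1 := by
  classical
  letI : Algebra K F' := ((algebraMap F F').comp (algebraMap K F)).toAlgebra
  haveI : IsScalarTower K F F' := IsScalarTower.of_algebraMap_eq (fun _ => rfl)
  haveI : Algebra.IsSeparable K F' := Algebra.IsSeparable.trans K F F'
  let b : Module.Basis (Fin (Module.finrank F' D')) F' D' := Module.finBasis F' D'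
  let S : Set F' :=
    (Set.range fun p : Fin (Module.finrank F' D') × Fin (Module.finrank F' D') ×
      Fin (Module.finrank F' D') => b.repr (b p.1 * b p.2.1) p.2.2) ∪
    (Set.range fun l : Fin (Module.finrank F' D') => b.repr (1 : D') l)
  have hSfin : S.Finite := (Set.finite_range _).union (Set.finite_range _)
  haveI : Finite S := hSfin.to_subtype
  let E₀ : IntermediateField K F' := IntermediateField.adjoin K S
  haveI : FiniteDimensional K E₀ :=
    IntermediateField.finiteDimensional_adjoin (fun x _ => Algebra.IsIntegral.isIntegral x)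
  have hc : ∀ i j l, b.repr (b i * b j) l ∈ E₀ := fun i j l =>
    IntermediateField.subset_adjoin K S (Or.inl ⟨(i, j, l), rfl⟩)
  have hu : ∀ l, b.repr (1 : D') l ∈ E₀ := fun l =>
    IntermediateField.subset_adjoin K S (Or.inr ⟨l, rfl⟩)
  haveI hfin : Module.Finite E₀ (form b E₀ hc hu) := finite_form b E₀ hc hu
  haveI hcen : Algebra.IsCentral E₀ (form b E₀ hc hu) := isCentral_form b E₀ hc hu
  letI : DivisionRing (form b E₀ hc hu) := divisionRingOfFiniteDimensional E₀ (form b E₀ hc hu)
  obtain ⟨n, ⟨e⟩⟩ := hb E₀ (form b E₀ hc hu) F'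
  have hsurj := mu_surjective b E₀ hc hu
  have hn : n ≠ 0 := by
    rintro rfl
    have hsub : Subsingleton (F' ⊗[E₀] (form b E₀ hc hu)) := e.toEquiv.subsingleton
    have h1 : mu b E₀ hc hu 1 = mu b E₀ hc hu 0 := congrArg _ (Subsingleton.elim _ _)
    rw [map_one, map_zero] at h1
    exact one_ne_zero h1
  haveI : NeZero n := ⟨hn⟩
  haveI : IsSimpleRing (F' ⊗[E₀] (form b E₀ hc hu)) :=
    IsSimpleRing.of_ringEquiv e.symm.toRingEquiv inferInstance
  have hinj : Function.Injective (mu b E₀ hc hu) := RingHom.injective (mu b E₀ hc hu).toRingHom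
  let ψ : D' ≃ₐ[F'] Matrix (Fin n) (Fin n) F' :=
    (AlgEquiv.ofBijective (mu b E₀ hc hu) ⟨hinj, hsurj⟩).symm.trans e
  have hdim : Module.finrank F' D' = n ^ 2 := by
    rw [ψ.toLinearEquiv.finrank_eq, Module.finrank_matrix]
    simp [pow_two]
  have hs : Curves.Splits F' D' F' := ⟨n, hn, ⟨(Algebra.TensorProduct.lid F' D').trans ψ⟩⟩
  have hdvd := dvd_finrank_of_splits hdim F' hs
  rw [Module.finrank_self, Nat.dvd_one] at hdvd
  rw [hdim, hdvd, one_pow]

end Backward

end Groth.Agent.R2.H39.BrSepAlg
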