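import Groth.Agent.R2.H39ChernChar
import Mathlib

/-!
# helper39: the Chern character `ℚ ⊗ K → ℚ ⊗ Gr K` is bijective when the γ-filtration is finite
-/

set_option autoImplicit false
set_option linter.unusedSectionVars false
universe v
open LambdaRing KGr MvPolynomial
open scoped TensorProduct
open Groth.Agent.Lib.Helper4 Groth.Agent.Lib.Helper4.LUniv
open Groth.Agent.R2.H39.Rees Groth.Agent.R2.H39.LamWt Groth.Agent.R2.H39.ChernChar
  Groth.Agent.R2.H39.SplitBridge Groth.Agent.R2.H39.LamGFil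

namespace Groth.Agent.R2.H39.ChernBij

noncomputable section

variable {K : Type v} [CommRing K] [LambdaOps K] (P : PosStructure K)

/-! ### torsion criterion -/

theorem one_tmul_eq_zero_iff {M : Type*} [AddCommGroup M] (m : M) :
    (1 : ℚ) ⊗ₜ[ℤ] m = 0 ↔ ∃ N : ℕ, 1 ≤ N ∧ N • m = 0 := by
  have h := IsLocalizedModule.eq_zero_iff (nonZeroDivisors ℤ) (TensorProduct.mk ℤ ℚ M 1) (m := m)
  constructor
  · intro h0
    obtain ⟨s, hs⟩ := h.mp h0
    refine ⟨(s : ℤ).natAbs, ?_, ?_⟩
    · have : (s : ℤ) ≠ 0 := nonZeroDivisors.coe_ne_zero s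
      omega
    · rw [Submonoid.smul_def] at hs
      rcases Int.natAbs_eq (s : ℤ) with h1 | h1
      · rw [h1, natCast_zsmul] at hs; exact hs
      · rw [h1, neg_smul, natCast_zsmul, neg_eq_zero] at hs; exact hs
  · rintro ⟨N, hN, h0⟩
    apply h.mpr
    refine ⟨⟨(N : ℤ), ?_⟩, ?_⟩
    · rw [mem_nonZeroDivisors_iff_ne_zero]; omega
    · rw [Submonoid.smul_def]
      change (N : ℤ) • m = 0
      rw [natCast_zsmul]; exact h0

/-! ### augmentation vanishes on `F^1` -/

theorem aug_gamma_succ (hK : HasSplitting K P) (r : ℕ) {x : K} (hx : P.aug x = 0) :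
    P.aug (gamma (r + 1) x) = 0 := by
  have h := map_gamma (P.aug) (fun n a => (isAugLambdaAlg P hK).map_lam n a) (r + 1) x
  rw [h, hx]
  exact gamma_succ_zero r

theorem aug_eq_zero_of_mem (hK : HasSplitting K P) {n : ℕ} (hn : 1 ≤ n) {y : K}
    (hy : y ∈ gammaFiltration P n) : P.aug y = 0 := by
  rw [gammaFiltration_of_ne_zero P (by omega)] at hy
  induction hy using AddSubgroup.closure_induction with
  | mem y hy =>
    obtain ⟨l, hl, hln, rfl⟩ := hy
    have key : ∀ l : List (ℕ × K), (∀ p ∈ l, P.aug p.2 = 0) → 1 ≤ (l.map Prod.fst).sum →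
        P.aug (l.map fun p => gamma p.1 p.2).prod = 0 := by
      intro l
      induction l with
      | nil => intro _ h; simp at h
      | cons p l ih =>
        intro hl h
        simp only [List.map_cons, List.prod_cons, List.sum_cons, map_mul] at h ⊢
        rcases Nat.eq_zero_or_pos p.1 with h0 | h0
        · rw [ih (fun q hq => hl q (List.mem_cons_of_mem _ hq)) (by omega), mul_zero]
        · obtain ⟨r, hr⟩ : ∃ r, p.1 = r + 1 := ⟨p.1 - 1, by omega⟩
          rw [hr, aug_gamma_succ P hK r (hl p (by simp)), zero_mul]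
    exact key l hl (by omega)
  | zero => exact map_zero _
  | add y z _ _ hy hz => rw [map_add, hy, hz, add_zero]
  | neg y _ hy => rw [map_neg, hy, neg_zero]

/-! ### the Chern character on `F^(m+1)` -/

theorem chK_of_mem (hK : HasSplitting K P) (d : ℕ) (hd : gammaFiltration P (d + 1) = ⊥) (m : ℕ)
    (hm : m < d) {y : K} (hy : y ∈ gammaFiltration P (m + 1)) :
    chK P d y = grK P ((m + 1 : ℕ) : ℤ) y +
      ∑ k ∈ Finset.range d, if m < k then (1 / ((k + 1).factorial : ℚ)) •
        grK P ((k + 1 : ℕ) : ℤ) (zeta (k + 1) y) else 0 := by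
  have hay : P.aug y = 0 := aug_eq_zero_of_mem P hK (by omega) hy
  rw [chK_eq P d hd, hay, Int.cast_zero, Int.cast_zero, map_zero, zero_add, sub_zero]
  have hterm : ∀ k ∈ Finset.range d, (1 / ((k + 1).factorial : ℚ)) •
        grK P ((k + 1 : ℕ) : ℤ) (zeta (k + 1) y) =
      (if m < k then (1 / ((k + 1).factorial : ℚ)) •
        grK P ((k + 1 : ℕ) : ℤ) (zeta (k + 1) y) else 0) +
      (if k = m then grK P ((m + 1 : ℕ) : ℤ) y else 0) := by
    intro k _
    rcases lt_trichotomy k m with h | h | h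
    · rw [if_neg (by omega), if_neg (by omega), add_zero]
      have h1 := zeta_mem P hK m hy k
      rw [grK_eq_zero P (k + 1) (gammaFiltration_anti P (by omega) h1), smul_zero]
    · subst h
      rw [if_neg (lt_irrefl _), if_pos rfl, zero_add]
      have h1 := zeta_mem P hK k hy k
      rw [max_self] at h1
      rw [grK_congr P (k + 1) h1 (zeta_lead P hK k hy), grK_natCast_mul P (k + 1) _ hy, smul_smul]
      have : (1 / ((k + 1).factorial : ℚ)) * ((k + 1).factorial : ℚ) = 1 := by
        have : ((k + 1).factorial : ℚ) ≠ 0 := by positivity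
        field_simp
      rw [this, one_smul]
    · rw [if_pos h, if_neg (by omega), add_zero]
  rw [Finset.sum_congr rfl hterm, Finset.sum_add_distrib, Finset.sum_ite_eq' (Finset.range d) m,
    if_pos (Finset.mem_range.mpr hm), add_comm]

/-! ### the map `Φ` -/

/-- the Chern character as an additive map -/
def chHom (d : ℕ) (hd : gammaFiltration P (d + 1) = ⊥) : K →+ Gr P where
  toFun := chK P d
  map_zero' := by
    have := chK_add P d hd 0 0
    rw [add_zero] at this
    exact left_eq_add.mp this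
  map_add' := chK_add P d hd

/-- the ℚ-linear extension of the Chern character -/
def Phi (d : ℕ) (hd : gammaFiltration P (d + 1) = ⊥) : ℚ ⊗[ℤ] K →ₗ[ℚ] Gr P :=
  LinearMap.liftBaseChange ℚ (chHom P d hd).toIntLinearMap

theorem Phi_tmul (d : ℕ) (hd : gammaFiltration P (d + 1) = ⊥) (q : ℚ) (x : K) :
    Phi P d hd (q ⊗ₜ[ℤ] x) = q • chK P d x := rfl

theorem Phi_one_tmul (d : ℕ) (hd : gammaFiltration P (d + 1) = ⊥) (x : K) :
    Phi P d hd ((1 : ℚ) ⊗ₜ[ℤ] x) = chK P d x := by rw [Phi_tmul, one_smul]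

/-! ### surjectivity -/

theorem grK_zero_intCast (c : ℤ) : grK P ((0 : ℕ) : ℤ) ((c : K)) = algebraMap ℚ (Gr P) (c : ℚ) := by
  rw [grK_of_mem P 0 (by rw [gammaFiltration_zero]; trivial)]
  have h1 : (⟨(c : K), by rw [gammaFiltration_zero]; trivial⟩ : gammaFiltration P 0) =
      c • ⟨1, one_mem_zero P⟩ := by
    apply Subtype.ext
    rw [AddSubgroup.coe_zsmul]
    simp
  rw [h1, map_zsmul, cls_zero_one, TensorProduct.tmul_smul, TensorProduct.smul_tmul',
    Algebra.TensorProduct.algebraMap_apply]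
  congr 1
  simp

theorem chK_one (d : ℕ) (hd : gammaFiltration P (d + 1) = ⊥) : chK P d (1 : K) = 1 := by
  rw [chK_eq P d hd, map_one, Int.cast_one, Int.cast_one, sub_self, map_one]
  have : ∀ k ∈ Finset.range d, (1 / ((k + 1).factorial : ℚ)) •
      grK P ((k + 1 : ℕ) : ℤ) (zeta (k + 1) (0 : K)) = 0 := by
    intro k _
    rw [zeta_zero_right, grK_zero, smul_zero]
  rw [Finset.sum_congr rfl this, Finset.sum_const_zero, add_zero]

theorem grK_mem_range (hK : HasSplitting K P) (d : ℕ) (hd : gammaFiltration P (d + 1) = ⊥) :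
    ∀ (j n : ℕ), d + 1 ≤ n + j → ∀ y ∈ gammaFiltration P n,
      grK P (n : ℤ) y ∈ LinearMap.range (Phi P d hd) := by
  have hbig : ∀ n, d + 1 ≤ n → ∀ y ∈ gammaFiltration P n,
      grK P (n : ℤ) y ∈ LinearMap.range (Phi P d hd) := by
    intro n hn y hy
    have : y = 0 := by
      have := gammaFiltration_anti P hn hy
      rwa [hd, AddSubgroup.mem_bot] at this
    rw [this, grK_zero]
    exact Submodule.zero_mem _
  have hch : ∀ x : K, chK P d x ∈ LinearMap.range (Phi P d hd) :=
    fun x => ⟨_, Phi_one_tmul P d hd x⟩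
  intro j
  induction j with
  | zero => intro n hn; exact hbig n (by omega)
  | succ j ih =>
    intro n hn y hy
    by_cases hnd : d + 1 ≤ n
    · exact hbig n hnd y hy
    rcases Nat.eq_zero_or_pos n with h0 | h0
    · subst h0
      have h1 : y - ((P.aug y : ℤ) : K) ∈ gammaFiltration P (0 + 1) :=
        mem_gammaFiltration_one P _ (aug_sub_aug P y)
      rw [grK_congr P 0 hy h1, grK_zero_intCast, Algebra.algebraMap_eq_smul_one]
      apply Submodule.smul_mem
      rw [← chK_one P d hd]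
      exact hch 1
    · obtain ⟨m, rfl⟩ : ∃ m, n = m + 1 := ⟨n - 1, by omega⟩
      have hm : m < d := by omega
      have h1 := chK_of_mem P hK d hd m hm hy
      have h2 : grK P ((m + 1 : ℕ) : ℤ) y = chK P d y -
          ∑ k ∈ Finset.range d, if m < k then (1 / ((k + 1).factorial : ℚ)) •
            grK P ((k + 1 : ℕ) : ℤ) (zeta (k + 1) y) else 0 := by
        rw [h1]; abel
      rw [h2]
      apply Submodule.sub_mem _ (hch y)
      apply Submodule.sum_mem
      intro k _
      split_ifs with hk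
      · apply Submodule.smul_mem
        apply ih (k + 1) (by omega)
        exact gammaFiltration_anti P (by omega) (zeta_mem P hK m hy k)
      · exact Submodule.zero_mem _

theorem Phi_surjective (hK : HasSplitting K P) (d : ℕ) (hd : gammaFiltration P (d + 1) = ⊥) :
    Function.Surjective (Phi P d hd) := by
  rw [← LinearMap.range_eq_top, eq_top_iff]
  rintro t -
  induction t using TensorProduct.induction_on with
  | zero => exact Submodule.zero_mem _
  | add a b ha hb => exact Submodule.add_mem _ ha hb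
  | tmul q g =>
    have hq : q ⊗ₜ[ℤ] g = q • ((1 : ℚ) ⊗ₜ[ℤ] g) := by
      rw [TensorProduct.smul_tmul', smul_eq_mul, mul_one]
    rw [hq]
    apply Submodule.smul_mem
    clear hq
    have hg : g ∈ AddSubgroup.closure {g : GrZ P | ∃ (n : ℕ) (x : gammaFiltration P n), g = cls P n x} := by
      rw [closure_cls]; trivial
    induction hg using AddSubgroup.closure_induction with
    | mem g hg =>
      obtain ⟨n, x, rfl⟩ := hg
      have := grK_mem_range P hK d hd (d + 1) n (by omega) x.1 x.2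
      rwa [grK_of_mem P n x.2] at this
    | zero => rw [TensorProduct.tmul_zero]; exact Submodule.zero_mem _
    | add a b _ _ ha hb => rw [TensorProduct.tmul_add]; exact Submodule.add_mem _ ha hb
    | neg a _ ha => rw [TensorProduct.tmul_neg]; exact Submodule.neg_mem _ ha

/-! ### injectivity -/

/-- the rational projection to degree `n` -/
def projQ (n : ℕ) : Gr P →ₗ[ℚ] ℚ ⊗[ℤ] (K ⧸ gammaFiltration P (n + 1)) :=
  LinearMap.baseChange ℚ (proj P n)

theorem projQ_grK (n m : ℕ) {y : K} (hy : y ∈ gammaFiltration P m) :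
    projQ P n (grK P (m : ℤ) y) =
      if m = n then (1 : ℚ) ⊗ₜ[ℤ] (QuotientAddGroup.mk y : K ⧸ gammaFiltration P (n + 1)) else 0 := by
  rw [grK_of_mem P m hy, projQ, LinearMap.baseChange_tmul, proj_cls]
  split_ifs with h
  · rfl
  · rw [TensorProduct.tmul_zero]

theorem projQ_algebraMap_zero (q : ℚ) :
    projQ P 0 (algebraMap ℚ (Gr P) q) =
      q ⊗ₜ[ℤ] (QuotientAddGroup.mk (1 : K) : K ⧸ gammaFiltration P (0 + 1)) := by
  rw [Algebra.TensorProduct.algebraMap_apply, projQ, LinearMap.baseChange_tmul, ← cls_zero_one P,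
    proj_cls, if_pos rfl]
  rfl

theorem exists_mul_mem_of_tmul_eq_zero (n : ℕ) {y : K}
    (h : (1 : ℚ) ⊗ₜ[ℤ] (QuotientAddGroup.mk y : K ⧸ gammaFiltration P n) = 0) :
    ∃ N : ℕ, 1 ≤ N ∧ (N : K) * y ∈ gammaFiltration P n := by
  obtain ⟨N, hN, h0⟩ := (one_tmul_eq_zero_iff _).mp h
  refine ⟨N, hN, ?_⟩
  rw [← QuotientAddGroup.mk_nsmul, QuotientAddGroup.eq_zero_iff, nsmul_eq_mul] at h0
  exact h0

theorem aug_eq_zero_of_chK (hK : HasSplitting K P) (d : ℕ) (hd : gammaFiltration P (d + 1) = ⊥) {x : K}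
    (hx : chK P d x = 0) : P.aug x = 0 := by
  have h1 := congrArg (projQ P 0) hx
  rw [chK_eq P d hd, map_add, map_sum, map_zero, projQ_algebraMap_zero] at h1
  have h2 : ∀ k ∈ Finset.range d, projQ P 0 ((1 / ((k + 1).factorial : ℚ)) •
      grK P ((k + 1 : ℕ) : ℤ) (zeta (k + 1) (x - (P.aug x : K)))) = 0 := by
    intro k _
    rw [map_smul, projQ_grK P 0 (k + 1) (zeta_mem_of_aug P (aug_sub_aug P x) _), if_neg (by omega),
      smul_zero]
  rw [Finset.sum_congr rfl h2, Finset.sum_const_zero, add_zero] at h1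
  have h3 : ((P.aug x : ℤ) : ℚ) ⊗ₜ[ℤ] (QuotientAddGroup.mk (1 : K) : K ⧸ gammaFiltration P (0 + 1)) =
      (1 : ℚ) ⊗ₜ[ℤ] (QuotientAddGroup.mk ((P.aug x : ℤ) : K) : K ⧸ gammaFiltration P (0 + 1)) := by
    have : (QuotientAddGroup.mk ((P.aug x : ℤ) : K) : K ⧸ gammaFiltration P (0 + 1)) =
        (P.aug x) • (QuotientAddGroup.mk (1 : K) : K ⧸ gammaFiltration P (0 + 1)) := by
      rw [← QuotientAddGroup.mk_zsmul]; simp
    rw [this, TensorProduct.tmul_smul, TensorProduct.smul_tmul']
    simp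
  rw [h3] at h1
  obtain ⟨N, hN, hmem⟩ := exists_mul_mem_of_tmul_eq_zero P (0 + 1) h1
  have h4 := aug_eq_zero_of_mem P hK le_rfl hmem
  rw [map_mul, map_natCast, map_intCast] at h4
  have : (N : ℤ) ≠ 0 := by omega
  rcases mul_eq_zero.mp h4 with h | h
  · exact absurd h this
  · simpa using h

theorem exists_mul_eq_zero_of_chK (hK : HasSplitting K P) (d : ℕ) (hd : gammaFiltration P (d + 1) = ⊥)
    {x : K} (hx : chK P d x = 0) : ∃ N : ℕ, 1 ≤ N ∧ (N : K) * x = 0 := by
  have hstep : ∀ n, n ≤ d → ∃ N : ℕ, 1 ≤ N ∧ (N : K) * x ∈ gammaFiltration P (n + 1) := by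
    intro n
    induction n with
    | zero =>
      intro _
      exact ⟨1, le_rfl, by
        rw [Nat.cast_one, one_mul]
        exact mem_gammaFiltration_one P x (aug_eq_zero_of_chK P hK d hd hx)⟩
    | succ m ih =>
      intro hm
      obtain ⟨N, hN, hy⟩ := ih (by omega)
      have hchy : chK P d ((N : K) * x) = 0 := by
        have : (N : K) * x = N • x := (nsmul_eq_mul N x).symm
        rw [this]
        have := map_nsmul (chHom P d hd) N x
        change chK P d (N • x) = N • chK P d x at this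
        rw [this, hx, smul_zero]
      have h1 := congrArg (projQ P (m + 1)) hchy
      rw [chK_of_mem P hK d hd m (by omega) hy, map_add, map_sum, map_zero,
        projQ_grK P (m + 1) (m + 1) hy, if_pos rfl] at h1
      have h2 : ∀ k ∈ Finset.range d, projQ P (m + 1) (if m < k then (1 / ((k + 1).factorial : ℚ)) •
          grK P ((k + 1 : ℕ) : ℤ) (zeta (k + 1) ((N : K) * x)) else 0) = 0 := by
        intro k _
        split_ifs with hk
        · rw [map_smul, projQ_grK P (m + 1) (k + 1)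
            (gammaFiltration_anti P (by omega) (zeta_mem P hK m hy k)), if_neg (by omega), smul_zero]
        · exact map_zero _
      rw [Finset.sum_congr rfl h2, Finset.sum_const_zero, add_zero] at h1
      obtain ⟨N', hN', hmem⟩ := exists_mul_mem_of_tmul_eq_zero P (m + 1 + 1) h1
      refine ⟨N' * N, Nat.mul_pos hN' hN, ?_⟩
      rw [Nat.cast_mul, mul_assoc]
      exact hmem
  obtain ⟨N, hN, hy⟩ := hstep d le_rfl
  refine ⟨N, hN, ?_⟩
  rwa [hd, AddSubgroup.mem_bot] at hy

theorem Phi_injective (hK : HasSplitting K P) (d : ℕ) (hd : gammaFiltration P (d + 1) = ⊥) :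
    Function.Injective (Phi P d hd) := by
  rw [injective_iff_map_eq_zero]
  intro ξ hξ
  obtain ⟨⟨x, s⟩, hxs⟩ := IsLocalizedModule.surj (nonZeroDivisors ℤ) (TensorProduct.mk ℤ ℚ K 1) ξ
  change s • ξ = (1 : ℚ) ⊗ₜ[ℤ] x at hxs
  have hs : s • ξ = ((s : ℤ) : ℚ) • ξ := by
    rw [Submonoid.smul_def, Int.cast_smul_eq_zsmul]
  have h1 : chK P d x = 0 := by
    rw [← Phi_one_tmul P d hd, ← hxs, hs, map_smul, hξ, smul_zero]
  obtain ⟨N, hN, hNx⟩ := exists_mul_eq_zero_of_chK P hK d hd h1
  have h2 : (1 : ℚ) ⊗ₜ[ℤ] x = 0 := by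
    apply (one_tmul_eq_zero_iff x).mpr
    exact ⟨N, hN, by rw [nsmul_eq_mul]; exact hNx⟩
  rw [h2, hs] at hxs
  have hs0 : ((s : ℤ) : ℚ) ≠ 0 := by
    have : (s : ℤ) ≠ 0 := nonZeroDivisors.coe_ne_zero s
    exact_mod_cast this
  exact (smul_eq_zero.mp hxs).resolve_left hs0

end

end Groth.Agent.R2.H39.ChernBij
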