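import Groth.Prelude.Def_LambdaSp
import Groth.Agent.Lib.Helper4Lambda
import Mathlib

/-!
# helper39: multiplicative filtrations on a (pre-)λ-ring, "good" power series and "good" elements

A series is *good* for a decreasing multiplicative filtration `F` by ideals when its `i`-th coefficient
lies in `F i`; an element `z` is *good* when `γ_t(z)` is, i.e. `γ^i z ∈ F i` for all `i`.
-/

set_option autoImplicit false
open PowerSeries LambdaRing Finset
open Groth.Agent.Lib.Helper4

namespace Groth.Agent.R2.H39.LamFil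

variable {R : Type*} [CommRing R]

/-- a decreasing multiplicative filtration by ideals, starting with the whole ring -/
structure MulFil (F : ℕ → Ideal R) : Prop where
  zero : F 0 = ⊤
  anti : ∀ {m n : ℕ}, m ≤ n → F n ≤ F m
  mul : ∀ {i j : ℕ} {a b : R}, a ∈ F i → b ∈ F j → a * b ∈ F (i + j)

variable {F : ℕ → Ideal R}

theorem MulFil.mem_zero (hF : MulFil F) (a : R) : a ∈ F 0 := by rw [hF.zero]; trivial

theorem MulFil.pow_mem (hF : MulFil F) {i : ℕ} {a : R} (ha : a ∈ F i) (c : ℕ) :
    a ^ c ∈ F (c * i) := by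
  induction c with
  | zero => rw [Nat.zero_mul]; exact hF.mem_zero _
  | succ c ih =>
    rw [pow_succ, Nat.succ_mul]
    exact hF.mul ih ha

theorem MulFil.prod_pow_mem (hF : MulFil F) {σ : Type*} (w : σ → ℕ) (e : σ → R)
    (he : ∀ s, e s ∈ F (w s)) (s : Finset σ) (d : σ → ℕ) :
    ∏ i ∈ s, e i ^ d i ∈ F (∑ i ∈ s, d i * w i) := by
  classical
  induction s using Finset.induction_on with
  | empty => simpa using hF.mem_zero 1
  | insert a s ha ih =>
    rw [Finset.prod_insert ha, Finset.sum_insert ha]
    exact hF.mul (hF.pow_mem (he a) _) ih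

/-- evaluating a polynomial all of whose monomials have weight `≥ n` at elements `e s ∈ F (w s)`
lands in `F n` -/
theorem MulFil.aeval_mem (hF : MulFil F) {σ S : Type*} [CommRing S] [Algebra S R]
    (w : σ → ℕ) (e : σ → R) (he : ∀ s, e s ∈ F (w s)) (n : ℕ) (P : MvPolynomial σ S)
    (hP : ∀ m ∈ P.support, n ≤ Finsupp.weight w m) : MvPolynomial.aeval e P ∈ F n := by
  rw [MvPolynomial.aeval_def, MvPolynomial.eval₂_eq]
  apply Ideal.sum_mem
  intro d hd
  apply Ideal.mul_mem_left
  have h1 := hF.prod_pow_mem w e he d.support d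
  have h2 : ∑ i ∈ d.support, d i * w i = Finsupp.weight w d := by
    rw [Finsupp.weight_apply, Finsupp.sum]
    rfl
  rw [h2] at h1
  exact hF.anti (hP d hd) h1

/-- series whose `i`-th coefficient lies in `F i` -/
def Good (F : ℕ → Ideal R) (f : R⟦X⟧) : Prop := ∀ i, coeff i f ∈ F i

theorem good_one (hF : MulFil F) : Good F (1 : R⟦X⟧) := by
  intro i
  rw [coeff_one]
  split_ifs with h
  · subst h; exact hF.mem_zero 1
  · exact Ideal.zero_mem _

theorem good_mul (hF : MulFil F) {f g : R⟦X⟧} (hf : Good F f) (hg : Good F g) : Good F (f * g) := by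
  intro i
  rw [coeff_mul]
  apply Ideal.sum_mem
  rintro ⟨p, q⟩ hpq
  have hpq' : p + q = i := by simpa using hpq
  rw [← hpq']
  exact hF.mul (hf p) (hg q)

theorem good_add {f g : R⟦X⟧} (hf : Good F f) (hg : Good F g) : Good F (f + g) := by
  intro i
  rw [map_add]
  exact Ideal.add_mem _ (hf i) (hg i)

theorem good_C_mul {f : R⟦X⟧} (hf : Good F f) (a : R) : Good F (C a * f) := by
  intro i
  rw [coeff_C_mul]
  exact Ideal.mul_mem_left _ _ (hf i)

theorem good_pow (hF : MulFil F) {f : R⟦X⟧} (hf : Good F f) (c : ℕ) : Good F (f ^ c) := by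
  induction c with
  | zero => rw [pow_zero]; exact good_one hF
  | succ c ih => rw [pow_succ]; exact good_mul hF ih hf

theorem good_prod (hF : MulFil F) {ι : Type*} (s : Finset ι) (f : ι → R⟦X⟧)
    (hf : ∀ i ∈ s, Good F (f i)) : Good F (∏ i ∈ s, f i) := by
  classical
  induction s using Finset.induction_on with
  | empty => rw [Finset.prod_empty]; exact good_one hF
  | insert a s ha ih =>
    rw [Finset.prod_insert ha]
    exact good_mul hF (hf a (Finset.mem_insert_self _ _))
      (ih fun i hi => hf i (Finset.mem_insert_of_mem hi))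

theorem good_inv (hF : MulFil F) {f g : R⟦X⟧} (hf : Good F f) (hf0 : coeff 0 f = 1)
    (h : g * f = 1) : Good F g := by
  intro i
  induction i using Nat.strong_induction_on with
  | _ i ih =>
    have hc := congrArg (coeff i) h
    rw [coeff_mul, Finset.Nat.sum_antidiagonal_eq_sum_range_succ_mk, Finset.sum_range_succ,
      Nat.sub_self, hf0, mul_one] at hc
    have : coeff i g = coeff i (1 : R⟦X⟧) - ∑ p ∈ range i, coeff p g * coeff (i - p) f := by
      rw [← hc]; ring
    rw [this]
    apply Ideal.sub_mem
    · exact good_one hF i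
    · apply Ideal.sum_mem
      intro p hp
      rw [Finset.mem_range] at hp
      have := hF.mul (ih p hp) (hf (i - p))
      rwa [Nat.add_sub_cancel' hp.le] at this

/-- `1 + a t` is good when `a ∈ F 1` -/
theorem good_one_add_C_mul_X (hF : MulFil F) {a : R} (ha : a ∈ F 1) :
    Good F (1 + C a * X : R⟦X⟧) := by
  intro i
  rw [map_add, coeff_one, coeff_C_mul, coeff_X]
  rcases i with _ | _ | i
  · exact hF.mem_zero _
  · simpa using ha
  · simp

section Lam

variable [LambdaOps R]

/-- `z` is good when `γ^i z ∈ F i` for all `i` -/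
def GoodElt (F : ℕ → Ideal R) (z : R) : Prop := ∀ i, gamma i z ∈ F i

theorem goodElt_iff {z : R} : GoodElt F z ↔ Good F (gammaSeries z) := by
  unfold GoodElt Good
  simp only [coeff_gammaSeries]

theorem goodElt_zero (hF : MulFil F) : GoodElt F (0 : R) := by
  rw [goodElt_iff, gammaSeries_zero]; exact good_one hF

theorem goodElt_add (hF : MulFil F) {x y : R} (hx : GoodElt F x) (hy : GoodElt F y) :
    GoodElt F (x + y) := by
  rw [goodElt_iff] at *
  rw [gammaSeries_add]; exact good_mul hF hx hy

theorem goodElt_neg (hF : MulFil F) {x : R} (hx : GoodElt F x) : GoodElt F (-x) := by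
  rw [goodElt_iff] at *
  refine good_inv hF hx ?_ (gammaSeries_neg_mul x)
  rw [coeff_zero_eq_constantCoeff_apply, constantCoeff_gammaSeries]

theorem goodElt_sub (hF : MulFil F) {x y : R} (hx : GoodElt F x) (hy : GoodElt F y) :
    GoodElt F (x - y) := by
  rw [sub_eq_add_neg]; exact goodElt_add hF hx (goodElt_neg hF hy)

theorem goodElt_sum (hF : MulFil F) {ι : Type*} (s : Finset ι) (f : ι → R)
    (hf : ∀ i ∈ s, GoodElt F (f i)) : GoodElt F (∑ i ∈ s, f i) := by
  classical
  induction s using Finset.induction_on with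
  | empty => rw [Finset.sum_empty]; exact goodElt_zero hF
  | insert a s ha ih =>
    rw [Finset.sum_insert ha]
    exact goodElt_add hF (hf a (Finset.mem_insert_self _ _))
      (ih fun i hi => hf i (Finset.mem_insert_of_mem hi))

theorem GoodElt.mem_one {z : R} (hz : GoodElt F z) : z ∈ F 1 := by
  have := hz 1
  rwa [show gamma 1 z = z by simp [gamma, Finset.sum_range_succ, LambdaOps.lam_one]] at this

end Lam

end Groth.Agent.R2.H39.LamFil
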