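import Groth.Prelude.Def_LambdaSp
import Groth.Agent.Lib.Helper4Lambda
import Groth.Agent.Lib.Helper4LambdaUniv2
import Groth.Agent.Lib.Helper4LambdaUniv3
import Mathlib

/-!
# helper39: universal polynomials for the γ-operations

`γ^n(xy)`, `γ^k(γ^i x)` and `γ^n(a z)` (mixed: λ-operations of `a`, γ-operations of `z`) as integer
polynomials in the γ-operations of the arguments, valid in every special λ-ring.
-/

set_option autoImplicit false
universe u
open MvPolynomial Finset LambdaRing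
open Groth.Agent.Lib.Helper4 Groth.Agent.Lib.Helper4.LUniv Groth.Agent.Lib.Helper4.MulPoly
  Groth.Agent.Lib.Helper4.SymPoly

namespace Groth.Agent.R2.H39.LamGP

section Basic

variable {K : Type u} [CommRing K] [LambdaOps K]

theorem gamma_zero (x : K) : gamma 0 x = 1 := by rw [gamma, if_pos rfl]

/-- `γ^{k+1} = Σ_{j ≤ k} C(k,j) λ^{j+1}` -/
theorem gamma_succ (k : ℕ) (x : K) :
    gamma (k + 1) x = ∑ j ∈ range (k + 1), (Nat.choose k j : K) * LambdaOps.lam (j + 1) x := by
  rw [gamma, if_neg (Nat.succ_ne_zero k), Finset.sum_range_succ']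
  simp only [if_pos, mul_zero, add_zero, Nat.add_sub_cancel, Nat.succ_ne_zero, if_false]

theorem gamma_one (x : K) : gamma 1 x = x := by
  rw [gamma_succ]; simp [LambdaOps.lam_one]

/-- the polynomial expressing `λ^{k+1}` through `γ^1, …, γ^{k+1}` -/
noncomputable def lPoly : ℕ → MvPolynomial ℕ ℤ
  | k => X k - ∑ j : Fin k, ((Nat.choose k j : ℤ) : MvPolynomial ℕ ℤ) * lPoly j
decreasing_by exact j.2

theorem lPoly_eq (k : ℕ) :
    lPoly k = X k - ∑ j ∈ range k, ((Nat.choose k j : ℤ) : MvPolynomial ℕ ℤ) * lPoly j := by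
  rw [lPoly, Finset.sum_range]

/-- evaluation at the γ-operations of `x` -/
noncomputable def evg1 (x : K) : MvPolynomial ℕ ℤ →ₐ[ℤ] K :=
  aeval (fun i => gamma (i + 1) x)

/-- evaluation at the γ-operations of `x` and `y` -/
noncomputable def evg2 (x y : K) : MvPolynomial (ℕ ⊕ ℕ) ℤ →ₐ[ℤ] K :=
  aeval (Sum.elim (fun i => gamma (i + 1) x) (fun i => gamma (i + 1) y))

/-- evaluation at the λ-operations of `a` and the γ-operations of `z` -/
noncomputable def evmix (a z : K) : MvPolynomial (ℕ ⊕ ℕ) ℤ →ₐ[ℤ] K :=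
  aeval (Sum.elim (fun i => LambdaOps.lam (i + 1) a) (fun i => gamma (i + 1) z))

theorem evg1_lPoly (k : ℕ) (x : K) : evg1 x (lPoly k) = LambdaOps.lam (k + 1) x := by
  induction k using Nat.strong_induction_on with
  | _ k ih =>
    rw [lPoly_eq, map_sub, map_sum]
    have h1 : ∑ j ∈ range k, evg1 x (((Nat.choose k j : ℤ) : MvPolynomial ℕ ℤ) * lPoly j) =
        ∑ j ∈ range k, (Nat.choose k j : K) * LambdaOps.lam (j + 1) x := by
      apply Finset.sum_congr rfl
      intro j hj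
      rw [Finset.mem_range] at hj
      rw [map_mul, ih j hj, map_intCast, Int.cast_natCast]
    rw [h1]
    have h2 : evg1 x (X k) = gamma (k + 1) x := by rw [evg1, aeval_X]
    rw [h2, gamma_succ, Finset.sum_range_succ, Nat.choose_self, Nat.cast_one, one_mul]
    ring

/-- change of variables from λ-variables to γ-variables -/
noncomputable def l2g : MvPolynomial ℕ ℤ →ₐ[ℤ] MvPolynomial ℕ ℤ := aeval lPoly

theorem evg1_l2g (x : K) (P : MvPolynomial ℕ ℤ) : evg1 x (l2g P) = ev1 x P := by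
  rw [l2g, ← AlgHom.comp_apply, comp_aeval, ev1]
  congr 2
  funext i
  exact evg1_lPoly i x

/-- change of variables, two families -/
noncomputable def l2g2 : MvPolynomial (ℕ ⊕ ℕ) ℤ →ₐ[ℤ] MvPolynomial (ℕ ⊕ ℕ) ℤ :=
  aeval (Sum.elim (fun k => rename Sum.inl (lPoly k)) (fun k => rename Sum.inr (lPoly k)))

/-- change of variables, second family only -/
noncomputable def l2gR : MvPolynomial (ℕ ⊕ ℕ) ℤ →ₐ[ℤ] MvPolynomial (ℕ ⊕ ℕ) ℤ :=
  aeval (Sum.elim (fun k => X (Sum.inl k)) (fun k => rename Sum.inr (lPoly k)))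

theorem evg2_rename_inl (x y : K) (F : MvPolynomial ℕ ℤ) :
    evg2 x y (rename Sum.inl F) = evg1 x F := by
  rw [evg2, evg1, aeval_rename]; rfl

theorem evg2_rename_inr (x y : K) (F : MvPolynomial ℕ ℤ) :
    evg2 x y (rename Sum.inr F) = evg1 y F := by
  rw [evg2, evg1, aeval_rename]; rfl

theorem evmix_rename_inr (a z : K) (F : MvPolynomial ℕ ℤ) :
    evmix a z (rename Sum.inr F) = evg1 z F := by
  rw [evmix, evg1, aeval_rename]; rfl

theorem evg2_l2g2 (x y : K) (P : MvPolynomial (ℕ ⊕ ℕ) ℤ) : evg2 x y (l2g2 P) = ev2 x y P := by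
  rw [l2g2, ← AlgHom.comp_apply, comp_aeval, ev2]
  congr 2
  funext i
  rcases i with k | k
  · simp only [Sum.elim_inl]; rw [evg2_rename_inl, evg1_lPoly]
  · simp only [Sum.elim_inr]; rw [evg2_rename_inr, evg1_lPoly]

theorem evmix_l2gR (a z : K) (P : MvPolynomial (ℕ ⊕ ℕ) ℤ) : evmix a z (l2gR P) = ev2 a z P := by
  rw [l2gR, ← AlgHom.comp_apply, comp_aeval, ev2]
  congr 2
  funext i
  rcases i with k | k
  · simp only [Sum.elim_inl]; rw [evmix, aeval_X]; rfl
  · simp only [Sum.elim_inr]; rw [evmix_rename_inr, evg1_lPoly]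

end Basic

/-- the existence of the universal polynomials `P_n` -/
theorem hPex : ∀ n : ℕ, ∃ P : MvPolynomial (Fin n ⊕ Fin n) ℤ, IsMulPoly n P := exists_isMulPoly

/-- the existence of the universal polynomials `Q_{i,j}` -/
theorem hQex : ∀ i j : ℕ, ∃ Q : MvPolynomial (Fin (i * j)) ℤ, IsCompPoly i j Q := exists_isCompPoly

/-- the universal polynomial for `γ^n(xy)` in the γ-operations of `x` and `y` -/
noncomputable def Pg : ℕ → MvPolynomial (ℕ ⊕ ℕ) ℤ
  | 0 => 1
  | n + 1 => ∑ j ∈ range (n + 1), ((Nat.choose n j : ℤ) : MvPolynomial (ℕ ⊕ ℕ) ℤ) *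
      l2g2 (Pt hPex (j + 1))

/-- the universal polynomial for `γ^n(a z)` in the λ-operations of `a` and the γ-operations of `z` -/
noncomputable def Pmix : ℕ → MvPolynomial (ℕ ⊕ ℕ) ℤ
  | 0 => 1
  | n + 1 => ∑ j ∈ range (n + 1), ((Nat.choose n j : ℤ) : MvPolynomial (ℕ ⊕ ℕ) ℤ) *
      l2gR (Pt hPex (j + 1))

section Special

variable {K : Type u} [CommRing K] [LambdaOps K]

theorem gamma_mul_eq_evg2 (hK : IsSpecial K) (n : ℕ) (x y : K) :
    gamma n (x * y) = evg2 x y (Pg n) := by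
  rcases n with _ | n
  · rw [gamma_zero, Pg, map_one]
  · rw [gamma_succ, Pg, map_sum]
    apply Finset.sum_congr rfl
    intro j _
    rw [map_mul, evg2_l2g2, ← lam_mul_eq_ev2 hK hPex, map_intCast, Int.cast_natCast]

theorem gamma_mul_eq_evmix (hK : IsSpecial K) (n : ℕ) (a z : K) :
    gamma n (a * z) = evmix a z (Pmix n) := by
  rcases n with _ | n
  · rw [gamma_zero, Pmix, map_one]
  · rw [gamma_succ, Pmix, map_sum]
    apply Finset.sum_congr rfl
    intro j _
    rw [map_mul, evmix_l2gR, ← lam_mul_eq_ev2 hK hPex, map_intCast, Int.cast_natCast]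

/-- the polynomial expressing `λ^{m+1}(x + c)` in the `λ^l x` -/
noncomputable def shiftPoly (c m : ℕ) : MvPolynomial ℕ ℤ :=
  ∑ l ∈ range (m + 2), ((Nat.choose c (m + 1 - l) : ℤ) : MvPolynomial ℕ ℤ) *
    (if l = 0 then 1 else X (l - 1))

theorem ev1_shiftPoly (hK : IsSpecial K) (c m : ℕ) (x : K) :
    ev1 x (shiftPoly c m) = LambdaOps.lam (m + 1) (x + (c : K)) := by
  rw [LambdaOps.lam_add, shiftPoly, map_sum]
  apply Finset.sum_congr rfl
  intro l _
  have h1 : LambdaOps.lam (m + 1 - l) ((c : ℕ) : K) = (Nat.choose c (m + 1 - l) : K) := by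
    rw [← coeff_lamSeries, lamSeries_natCast hK.lam_one_eq_zero, coeff_one_add_X_pow]
  rw [h1, map_mul, map_intCast, Int.cast_natCast, mul_comm]
  congr 1
  split_ifs with hl
  · subst hl; rw [map_one, LambdaOps.lam_zero]
  · rw [ev1, aeval_X]
    congr 1
    omega

/-- substitution `x ↦ x + c` in λ-variables -/
noncomputable def shift (c : ℕ) : MvPolynomial ℕ ℤ →ₐ[ℤ] MvPolynomial ℕ ℤ := aeval (shiftPoly c)

theorem ev1_shift (hK : IsSpecial K) (c : ℕ) (x : K) (P : MvPolynomial ℕ ℤ) :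
    ev1 x (shift c P) = ev1 (x + (c : K)) P := by
  rw [shift, ← AlgHom.comp_apply, comp_aeval]
  conv_rhs => rw [ev1]
  congr 2
  funext m
  exact ev1_shiftPoly hK c m x

/-- the universal polynomial for `γ^{k+1}(γ^{i+1} x)` in the γ-operations of `x` -/
noncomputable def Qg (i k : ℕ) : MvPolynomial ℕ ℤ :=
  ∑ j ∈ range (k + 1), ((Nat.choose k j : ℤ) : MvPolynomial ℕ ℤ) *
    l2g (shift i (Qt hQex (i + 1) (j + 1)))

theorem gamma_gamma_eq_evg1 (hK : IsSpecial K) (i k : ℕ) (x : K) :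
    gamma (k + 1) (gamma (i + 1) x) = evg1 x (Qg i k) := by
  rw [gamma_succ, Qg, map_sum]
  apply Finset.sum_congr rfl
  intro j _
  rw [map_mul, evg1_l2g, ev1_shift hK, ← lam_lam_eq_ev1 hK hQex, map_intCast, Int.cast_natCast,
    gamma_eq_lam_add hK.lam_one_eq_zero]

end Special

end Groth.Agent.R2.H39.LamGP
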