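import Groth.Prelude.Def_LambdaSp
import Groth.Agent.Lib.Helper4Lambda
import Groth.Agent.Lib.Helper4LambdaNewton
import Groth.Agent.Lib.Helper4LambdaUniv3
import Groth.Agent.Lib.Helper4SymWeight
import Groth.Agent.R2.H39LamFil
import Groth.Agent.R2.H39LamGammaPoly
import Mathlib

/-!
# helper39: the rational polynomial model of a free special λ-ring

`MvPolynomial σ ℚ` with Adams operations `ψ^k(X_i) = (1 + X_i)^k - 1`, so that the `1 + X_i` are line
elements and `γ_t(X_i) = 1 + X_i t`.  The filtration by degree is a multiplicative filtration, and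
`γ^k` of a sum of variables is an elementary symmetric polynomial.
-/

set_option autoImplicit false
open MvPolynomial Finset LambdaRing
open Groth.Agent.Lib.Helper4 Groth.Agent.Lib.Helper4.Newton Groth.Agent.Lib.Helper4.LUniv
open Groth.Agent.R2.H39.LamFil Groth.Agent.R2.H39.LamGP

namespace Groth.Agent.R2.H39.LamModel

variable (σ : Type) 

/-- Adams operations on the model -/
noncomputable def psi (k : ℕ) : MvPolynomial σ ℚ →ₐ[ℚ] MvPolynomial σ ℚ :=
  aeval (fun i => (1 + X i) ^ k - 1)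

theorem psi_X (k : ℕ) (i : σ) : psi σ k (X i) = (1 + X i) ^ k - 1 := by
  rw [psi, aeval_X]

theorem psi_one_add_X (k : ℕ) (i : σ) : psi σ k (1 + X i) = (1 + X i) ^ k := by
  rw [map_add, map_one, psi_X]; ring

theorem psi_one_eq : psi σ 1 = AlgHom.id ℚ (MvPolynomial σ ℚ) := by
  apply MvPolynomial.algHom_ext
  intro i
  rw [psi_X]; simp

theorem psi_psi (k l : ℕ) (f : MvPolynomial σ ℚ) : psi σ k (psi σ l f) = psi σ (k * l) f := by
  have : (psi σ k).comp (psi σ l) = psi σ (k * l) := by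
    apply MvPolynomial.algHom_ext
    intro i
    rw [AlgHom.comp_apply, psi_X, psi_X, map_sub, map_pow, map_one, psi_one_add_X, ← pow_mul]
  rw [← this]; rfl

/-- Adams operations as additive maps -/
noncomputable def psiAdd (k : ℕ) : MvPolynomial σ ℚ →+ MvPolynomial σ ℚ :=
  ((psi σ k : MvPolynomial σ ℚ →+* MvPolynomial σ ℚ) : MvPolynomial σ ℚ →+ MvPolynomial σ ℚ)

theorem psiAdd_apply (k : ℕ) (f : MvPolynomial σ ℚ) : psiAdd σ k f = psi σ k f := rfl

theorem psiAdd_one : psiAdd σ 1 = AddMonoidHom.id (MvPolynomial σ ℚ) := by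
  refine AddMonoidHom.ext fun f => ?_
  rw [psiAdd_apply, psi_one_eq]; rfl

/-- the λ-structure of the model -/
noncomputable scoped instance modelOps : LambdaOps (MvPolynomial σ ℚ) :=
  opsOf (psiAdd σ) (psiAdd_one σ)

theorem adamsOp_model (k : ℕ) (f : MvPolynomial σ ℚ) : adamsOp (k + 1) f = psi σ (k + 1) f :=
  adamsOp_opsOf (psiAdd σ) (psiAdd_one σ) k f

theorem isSpecial_model : IsSpecial (MvPolynomial σ ℚ) := by
  apply isSpecial_of_adamsOp
  · intro k hk
    obtain ⟨k, rfl⟩ := Nat.exists_eq_succ_of_ne_zero (by omega : k ≠ 0)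
    rw [adamsOp_model, map_one]
  · intro k hk x y
    obtain ⟨k, rfl⟩ := Nat.exists_eq_succ_of_ne_zero (by omega : k ≠ 0)
    rw [adamsOp_model, adamsOp_model, adamsOp_model, map_mul]
  · intro k k' hk hk' x
    obtain ⟨k, rfl⟩ := Nat.exists_eq_succ_of_ne_zero (by omega : k ≠ 0)
    obtain ⟨k', rfl⟩ := Nat.exists_eq_succ_of_ne_zero (by omega : k' ≠ 0)
    obtain ⟨c, hc⟩ : ∃ c, (k + 1) * (k' + 1) = c + 1 := ⟨(k + 1) * (k' + 1) - 1, by
      have : 0 < (k + 1) * (k' + 1) := Nat.mul_pos (Nat.succ_pos _) (Nat.succ_pos _)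
      omega⟩
    rw [hc, adamsOp_model, adamsOp_model, adamsOp_model, ← hc, psi_psi]

theorem lam_one_model : ∀ k : ℕ, 2 ≤ k → LambdaOps.lam k (1 : MvPolynomial σ ℚ) = 0 :=
  (isSpecial_model σ).lam_one_eq_zero

/-- `u` behaves like a line element: `ψ^k u = u^k` -/
def IsLineM (u : MvPolynomial σ ℚ) : Prop := ∀ k : ℕ, psi σ (k + 1) u = u ^ (k + 1)

variable {σ}

theorem isLineM_one : IsLineM σ 1 := fun k => by rw [map_one, one_pow]

theorem isLineM_one_add_X (i : σ) : IsLineM σ (1 + X i) := fun k => psi_one_add_X σ (k + 1) i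

theorem IsLineM.mul {u v : MvPolynomial σ ℚ} (hu : IsLineM σ u) (hv : IsLineM σ v) :
    IsLineM σ (u * v) := fun k => by rw [map_mul, hu k, hv k, mul_pow]

theorem IsLineM.prod {ι : Type*} (s : Finset ι) (u : ι → MvPolynomial σ ℚ)
    (hu : ∀ i ∈ s, IsLineM σ (u i)) : IsLineM σ (∏ i ∈ s, u i) := by
  classical
  induction s using Finset.induction_on with
  | empty => rw [Finset.prod_empty]; exact isLineM_one
  | insert a s ha ih =>
    rw [Finset.prod_insert ha]
    exact (hu a (Finset.mem_insert_self _ _)).mul (ih fun i hi => hu i (Finset.mem_insert_of_mem hi))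

theorem lamSeries_of_isLineM {u : MvPolynomial σ ℚ} (hu : IsLineM σ u) :
    lamSeries u = 1 + PowerSeries.C u * PowerSeries.X := by
  have hl : lamSeries u = sol (cOf (psiAdd σ) u) := rfl
  rw [hl]
  symm
  apply sol_unique
  · refine PowerSeries.ext fun n => ?_
    have hR : PowerSeries.mk (cOf (psiAdd σ) u) * (1 + PowerSeries.C u * PowerSeries.X) =
        PowerSeries.mk (cOf (psiAdd σ) u) +
          (PowerSeries.mk (cOf (psiAdd σ) u) * PowerSeries.C u) * PowerSeries.X := by ring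
    rw [PowerSeries.coeff_derivative, hR]
    rcases n with _ | n
    · have hL : PowerSeries.coeff (0 + 1) (1 + PowerSeries.C u * PowerSeries.X :
          PowerSeries (MvPolynomial σ ℚ)) = u := by
        rw [map_add, PowerSeries.coeff_succ_mul_X, PowerSeries.coeff_C, PowerSeries.coeff_one]
        simp
      rw [hL, map_add, PowerSeries.coeff_zero_mul_X, add_zero, PowerSeries.coeff_mk, cOf,
        psiAdd_apply, hu 0]
      simp
    · have hL : PowerSeries.coeff (n + 1 + 1) (1 + PowerSeries.C u * PowerSeries.X :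
          PowerSeries (MvPolynomial σ ℚ)) = 0 := by
        rw [map_add, PowerSeries.coeff_succ_mul_X, PowerSeries.coeff_C, PowerSeries.coeff_one]
        simp
      rw [hL, map_add, PowerSeries.coeff_succ_mul_X, PowerSeries.coeff_mul_C, PowerSeries.coeff_mk,
        PowerSeries.coeff_mk, cOf, cOf, psiAdd_apply, psiAdd_apply, hu (n + 1), hu n]
      ring
  · simp

theorem lam_eq_zero_of_isLineM {u : MvPolynomial σ ℚ} (hu : IsLineM σ u) (j : ℕ) (hj : 2 ≤ j) :
    LambdaOps.lam j u = 0 := by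
  rw [← coeff_lamSeries, lamSeries_of_isLineM hu]
  obtain ⟨m, rfl⟩ : ∃ m, j = m + 2 := ⟨j - 2, by omega⟩
  rw [map_add, PowerSeries.coeff_succ_mul_X, PowerSeries.coeff_C, PowerSeries.coeff_one]
  simp

theorem gammaSeries_sub_one_of_isLineM {u : MvPolynomial σ ℚ} (hu : IsLineM σ u) :
    gammaSeries (u - 1) = 1 + PowerSeries.C (u - 1) * PowerSeries.X :=
  gammaSeries_sub_one (lam_one_model σ) u (lam_eq_zero_of_isLineM hu)

theorem gammaSeries_X (i : σ) :
    gammaSeries (X i : MvPolynomial σ ℚ) = 1 + PowerSeries.C (X i) * PowerSeries.X := by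
  have := gammaSeries_sub_one_of_isLineM (isLineM_one_add_X i)
  rwa [add_sub_cancel_left] at this

theorem gamma_sum_X [DecidableEq σ] {ι : Type*} [DecidableEq ι] (s : Finset ι) (f : ι → σ) (k : ℕ) :
    gamma k (∑ i ∈ s, (X (f i) : MvPolynomial σ ℚ)) =
      ∑ t ∈ s.powersetCard k, ∏ i ∈ t, X (f i) := by
  rw [← coeff_gammaSeries, gammaSeries_sum]
  simp_rw [gammaSeries_X]
  exact coeff_prod_one_add_C_mul_X s (fun i => (X (f i) : MvPolynomial σ ℚ)) k

/-! ### the degree filtration -/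

variable (σ)

/-- polynomials all of whose monomials have degree `≥ n` -/
def Dfil (n : ℕ) : Ideal (MvPolynomial σ ℚ) where
  carrier := {f | HighDeg n f}
  add_mem' := fun ha hb => HighDeg.add ha hb
  zero_mem' := highDeg_of_zero n
  smul_mem' := fun c f hf => by
    have := HighDeg.mul (highDeg_zero' c) hf
    rwa [Nat.zero_add] at this

variable {σ}

theorem mem_Dfil {n : ℕ} {f : MvPolynomial σ ℚ} : f ∈ Dfil σ n ↔ HighDeg n f := Iff.rfl

theorem mulFil_Dfil : MulFil (Dfil σ) where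
  zero := by
    rw [Ideal.eq_top_iff_one, mem_Dfil]
    exact highDeg_zero' _
  anti := fun h f hf => HighDeg.mono hf h
  mul := fun ha hb => HighDeg.mul ha hb

theorem X_mem_Dfil (i : σ) : (X i : MvPolynomial σ ℚ) ∈ Dfil σ 1 := highDeg_X i

theorem goodElt_X (i : σ) : GoodElt (Dfil σ) (X i : MvPolynomial σ ℚ) := by
  rw [goodElt_iff, gammaSeries_X]
  exact good_one_add_C_mul_X mulFil_Dfil (X_mem_Dfil i)

/-- `X_i X_j = ((1+X_i)(1+X_j) - 1) - X_i - X_j` is a good element -/
theorem goodElt_X_mul_X (i j : σ) : GoodElt (Dfil σ) (X i * X j : MvPolynomial σ ℚ) := by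
  have h1 : GoodElt (Dfil σ) ((1 + X i) * (1 + X j) - 1 : MvPolynomial σ ℚ) := by
    rw [goodElt_iff, gammaSeries_sub_one_of_isLineM ((isLineM_one_add_X i).mul (isLineM_one_add_X j))]
    apply good_one_add_C_mul_X mulFil_Dfil
    have : ((1 + X i) * (1 + X j) - 1 : MvPolynomial σ ℚ) = X i + X j + X i * X j := by ring
    rw [this]
    refine Ideal.add_mem _ (Ideal.add_mem _ (X_mem_Dfil i) (X_mem_Dfil j)) ?_
    exact Ideal.mul_mem_left _ _ (X_mem_Dfil j)
  have h2 : (X i * X j : MvPolynomial σ ℚ) = ((1 + X i) * (1 + X j) - 1) - X i - X j := by ring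
  rw [h2]
  exact goodElt_sub mulFil_Dfil (goodElt_sub mulFil_Dfil h1 (goodElt_X i)) (goodElt_X j)

/-- `HighDeg` is insensitive to the base change `ℤ → ℚ` -/
theorem highDeg_map_iff {τ : Type*} (n : ℕ) (p : MvPolynomial τ ℤ) :
    HighDeg n (MvPolynomial.map (Int.castRingHom ℚ) p) ↔ HighDeg n p := by
  unfold HighDeg
  rw [MvPolynomial.support_map_of_injective _ (RingHom.injective_int (Int.castRingHom ℚ))]

end Groth.Agent.R2.H39.LamModel
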