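import Groth.Prelude.Def_LambdaSp
import Groth.Agent.Lib.Helper4LambdaNewton
import Groth.Agent.Lib.Helper4SymWeight
import Groth.Agent.R2.H39LamFil
import Groth.Agent.R2.H39LamGammaPoly
import Groth.Agent.R2.H39LamModel
import Mathlib

/-!
# helper39: leading terms of the λ- and γ-operations in the polynomial model

For `f` of degree `≥ m` (`m ≥ 1`) in the model `MvPolynomial σ ℚ`: `ψ^j f ≡ j^m f`,
`λ^k f ≡ (-1)^(k-1) k^(m-1) f` and `γ^m f ≡ (-1)^(m-1) (m-1)! f` modulo degree `≥ m+1`, and all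
`λ^k f`, `γ^k f` (`k ≥ 1`) have degree `≥ m`.
-/

set_option autoImplicit false
open MvPolynomial Finset LambdaRing
open Groth.Agent.Lib.Helper4 Groth.Agent.Lib.Helper4.Newton
open Groth.Agent.R2.H39.LamFil Groth.Agent.R2.H39.LamGP Groth.Agent.R2.H39.LamModel

namespace Groth.Agent.R2.H39.LamAdams

variable {σ : Type}

/-- `f` has degree `≥ m` and `ψ^j f ≡ j^m f` modulo degree `≥ m+1` -/
def PsiLead (j m : ℕ) (f : MvPolynomial σ ℚ) : Prop :=
  f ∈ Dfil σ m ∧ psi σ j f - (j : MvPolynomial σ ℚ) ^ m * f ∈ Dfil σ (m + 1)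

theorem PsiLead.psi_mem {j m : ℕ} {f : MvPolynomial σ ℚ} (h : PsiLead j m f) :
    psi σ j f ∈ Dfil σ m := by
  have h1 : psi σ j f = (psi σ j f - (j : MvPolynomial σ ℚ) ^ m * f) + (j : MvPolynomial σ ℚ) ^ m * f := by
    ring
  rw [h1]
  exact Ideal.add_mem _ (mulFil_Dfil.anti (Nat.le_succ m) h.2) (Ideal.mul_mem_left _ _ h.1)

theorem psiLead_zero (j m : ℕ) : PsiLead j m (0 : MvPolynomial σ ℚ) := by
  refine ⟨Ideal.zero_mem _, ?_⟩
  rw [map_zero, mul_zero, sub_zero]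
  exact Ideal.zero_mem _

theorem psiLead_C (j : ℕ) (c : ℚ) : PsiLead j 0 (C c : MvPolynomial σ ℚ) := by
  refine ⟨mulFil_Dfil.mem_zero _, ?_⟩
  have : psi σ j (C c) = C c := by
    rw [← MvPolynomial.algebraMap_eq, AlgHom.commutes]
  rw [this, pow_zero, one_mul, sub_self]
  exact Ideal.zero_mem _

theorem psiLead_X (j : ℕ) (i : σ) : PsiLead j 1 (X i : MvPolynomial σ ℚ) := by
  refine ⟨X_mem_Dfil i, ?_⟩
  obtain ⟨h, hh⟩ := exists_one_add_pow_eq (X i : MvPolynomial σ ℚ) j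
  rw [psi_X, hh, pow_one]
  have : (1 + (j : MvPolynomial σ ℚ) * X i + X i ^ 2 * h - 1 - (j : MvPolynomial σ ℚ) * X i) =
      h * (X i * X i) := by ring
  rw [this]
  exact Ideal.mul_mem_left _ _ (mulFil_Dfil.mul (X_mem_Dfil i) (X_mem_Dfil i))

theorem PsiLead.add {j m : ℕ} {a b : MvPolynomial σ ℚ} (ha : PsiLead j m a) (hb : PsiLead j m b) :
    PsiLead j m (a + b) := by
  refine ⟨Ideal.add_mem _ ha.1 hb.1, ?_⟩
  have : psi σ j (a + b) - (j : MvPolynomial σ ℚ) ^ m * (a + b) =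
      (psi σ j a - (j : MvPolynomial σ ℚ) ^ m * a) + (psi σ j b - (j : MvPolynomial σ ℚ) ^ m * b) := by
    rw [map_add]; ring
  rw [this]
  exact Ideal.add_mem _ ha.2 hb.2

theorem PsiLead.mul {j p q : ℕ} {a b : MvPolynomial σ ℚ} (ha : PsiLead j p a) (hb : PsiLead j q b) :
    PsiLead j (p + q) (a * b) := by
  refine ⟨mulFil_Dfil.mul ha.1 hb.1, ?_⟩
  have : psi σ j (a * b) - (j : MvPolynomial σ ℚ) ^ (p + q) * (a * b) =
      (psi σ j a - (j : MvPolynomial σ ℚ) ^ p * a) * psi σ j b +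
        (j : MvPolynomial σ ℚ) ^ p * (a * (psi σ j b - (j : MvPolynomial σ ℚ) ^ q * b)) := by
    rw [map_mul, pow_add]; ring
  rw [this]
  apply Ideal.add_mem
  · have := mulFil_Dfil.mul ha.2 hb.psi_mem
    rwa [show p + 1 + q = p + q + 1 by ring] at this
  · apply Ideal.mul_mem_left
    have := mulFil_Dfil.mul ha.1 hb.2
    rwa [show p + (q + 1) = p + q + 1 by ring] at this

theorem PsiLead.mono {j p m : ℕ} {f : MvPolynomial σ ℚ} (h : PsiLead j p f) (hm : m ≤ p) :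
    PsiLead j m f := by
  rcases Nat.eq_or_lt_of_le hm with rfl | hlt
  · exact h
  · refine ⟨mulFil_Dfil.anti hm h.1, ?_⟩
    apply Ideal.sub_mem
    · exact mulFil_Dfil.anti hlt h.psi_mem
    · exact Ideal.mul_mem_left _ _ (mulFil_Dfil.anti hlt h.1)

theorem PsiLead.pow {j p : ℕ} {a : MvPolynomial σ ℚ} (ha : PsiLead j p a) (c : ℕ) :
    PsiLead j (c * p) (a ^ c) := by
  induction c with
  | zero =>
    rw [Nat.zero_mul, pow_zero]
    have := psiLead_C (σ := σ) j 1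
    rwa [map_one] at this
  | succ c ih =>
    rw [pow_succ, Nat.succ_mul]
    exact ih.mul ha

theorem psiLead_prod (j : ℕ) (s : Finset σ) (d : σ → ℕ) :
    PsiLead j (∑ i ∈ s, d i) (∏ i ∈ s, (X i : MvPolynomial σ ℚ) ^ d i) := by
  classical
  induction s using Finset.induction_on with
  | empty =>
    rw [Finset.sum_empty, Finset.prod_empty]
    have := psiLead_C (σ := σ) j 1
    rwa [map_one] at this
  | insert a s ha ih =>
    rw [Finset.sum_insert ha, Finset.prod_insert ha]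
    have := (psiLead_X j a).pow (d a)
    rw [Nat.mul_one] at this
    exact this.mul ih

theorem psiLead_monomial (j : ℕ) (d : σ →₀ ℕ) (c : ℚ) :
    PsiLead j d.degree (monomial d c : MvPolynomial σ ℚ) := by
  rw [monomial_eq, Finsupp.degree_apply, Finsupp.prod]
  have := (psiLead_C (σ := σ) j c).mul (psiLead_prod j d.support d)
  rwa [Nat.zero_add] at this

theorem psiLead_of_mem (j : ℕ) {m : ℕ} {f : MvPolynomial σ ℚ} (hf : f ∈ Dfil σ m) :
    PsiLead j m f := by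
  classical
  rw [as_sum f]
  have : ∀ s : Finset (σ →₀ ℕ), s ⊆ f.support →
      PsiLead j m (∑ v ∈ s, monomial v (coeff v f)) := by
    intro s
    induction s using Finset.induction_on with
    | empty => intro _; rw [Finset.sum_empty]; exact psiLead_zero j m
    | insert a s ha ih =>
      intro hs
      rw [Finset.sum_insert ha]
      refine PsiLead.add ?_ (ih fun x hx => hs (Finset.mem_insert_of_mem hx))
      exact (psiLead_monomial j a _).mono (hf a (hs (Finset.mem_insert_self _ _)))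
  exact this _ (Finset.Subset.refl _)

/-- `ψ^j f ∈ D^m` and `ψ^j f - j^m f ∈ D^(m+1)` for `f ∈ D^m` -/
theorem adamsOp_lead (j : ℕ) {m : ℕ} {f : MvPolynomial σ ℚ} (hf : f ∈ Dfil σ m) :
    adamsOp (j + 1) f ∈ Dfil σ m ∧
      adamsOp (j + 1) f - ((j + 1 : ℕ) : MvPolynomial σ ℚ) ^ m * f ∈ Dfil σ (m + 1) := by
  rw [adamsOp_model]
  exact ⟨(psiLead_of_mem (j + 1) hf).psi_mem, (psiLead_of_mem (j + 1) hf).2⟩

/-- `λ^(k+1) f ∈ D^m` and `λ^(k+1) f ≡ (-1)^k (k+1)^(m-1) f` modulo `D^(m+1)`, for `f ∈ D^m`, `m ≥ 1` -/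
theorem lam_lead (k : ℕ) {m : ℕ} {f : MvPolynomial σ ℚ} (hf : f ∈ Dfil σ (m + 1)) :
    LambdaOps.lam (k + 1) f ∈ Dfil σ (m + 1) ∧
      LambdaOps.lam (k + 1) f - ((-1 : MvPolynomial σ ℚ) ^ k * ((k + 1 : ℕ) : MvPolynomial σ ℚ) ^ m) * f
        ∈ Dfil σ (m + 2) := by
  induction k using Nat.strong_induction_on with
  | _ n ih =>
    have hN := newton f n
    rw [Finset.sum_range_succ, Nat.sub_self, LambdaOps.lam_zero, mul_one] at hN
    set T := LambdaOps.lam (n + 1) f * ((n : MvPolynomial σ ℚ) + 1) with hT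
    have hrest : ∑ k ∈ range n, ((-1 : MvPolynomial σ ℚ) ^ k * adamsOp (k + 1) f) *
        LambdaOps.lam (n - k) f ∈ Dfil σ (m + 2) := by
      apply Ideal.sum_mem
      intro k hk
      rw [Finset.mem_range] at hk
      obtain ⟨c, hc⟩ : ∃ c, n - k = c + 1 := ⟨n - k - 1, by omega⟩
      rw [hc]
      have h1 := (ih c (by omega)).1
      have h2 := (adamsOp_lead k hf).1
      have h3 := mulFil_Dfil.mul (Ideal.mul_mem_left _ ((-1 : MvPolynomial σ ℚ) ^ k) h2) h1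
      exact mulFil_Dfil.anti (by omega) h3
    have hlast := adamsOp_lead n hf
    have hTmem : T ∈ Dfil σ (m + 1) := by
      rw [hN]
      exact Ideal.add_mem _ (mulFil_Dfil.anti (by omega) hrest) (Ideal.mul_mem_left _ _ hlast.1)
    have hTlead : T - (-1 : MvPolynomial σ ℚ) ^ n * (((n + 1 : ℕ) : MvPolynomial σ ℚ) ^ (m + 1) * f)
        ∈ Dfil σ (m + 2) := by
      rw [hN]
      have : ∑ k ∈ range n, ((-1 : MvPolynomial σ ℚ) ^ k * adamsOp (k + 1) f) *
          LambdaOps.lam (n - k) f + (-1) ^ n * adamsOp (n + 1) f -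
          (-1 : MvPolynomial σ ℚ) ^ n * (((n + 1 : ℕ) : MvPolynomial σ ℚ) ^ (m + 1) * f) =
          ∑ k ∈ range n, ((-1 : MvPolynomial σ ℚ) ^ k * adamsOp (k + 1) f) *
          LambdaOps.lam (n - k) f + (-1) ^ n * (adamsOp (n + 1) f -
          ((n + 1 : ℕ) : MvPolynomial σ ℚ) ^ (m + 1) * f) := by ring
      rw [this]
      exact Ideal.add_mem _ hrest (Ideal.mul_mem_left _ _ hlast.2)
    have hinv : (C ((n + 1 : ℚ)⁻¹) : MvPolynomial σ ℚ) * ((n : MvPolynomial σ ℚ) + 1) = 1 := by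
      have h1 : ((n : MvPolynomial σ ℚ) + 1) = C ((n : ℚ) + 1) := by simp
      rw [h1, ← C_mul, inv_mul_cancel₀ (by positivity), C_1]
    have hlam : LambdaOps.lam (n + 1) f = C ((n + 1 : ℚ)⁻¹) * T := by
      rw [hT, mul_comm (LambdaOps.lam (n + 1) f), ← mul_assoc, hinv, one_mul]
    refine ⟨by rw [hlam]; exact Ideal.mul_mem_left _ _ hTmem, ?_⟩
    have : LambdaOps.lam (n + 1) f -
        ((-1 : MvPolynomial σ ℚ) ^ n * ((n + 1 : ℕ) : MvPolynomial σ ℚ) ^ m) * f =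
        C ((n + 1 : ℚ)⁻¹) * (T - (-1 : MvPolynomial σ ℚ) ^ n *
          (((n + 1 : ℕ) : MvPolynomial σ ℚ) ^ (m + 1) * f)) := by
      rw [hlam, mul_sub]
      congr 1
      have h2 : ((n + 1 : ℕ) : MvPolynomial σ ℚ) = (n : MvPolynomial σ ℚ) + 1 := by push_cast; rfl
      rw [h2, pow_succ]
      calc (-1 : MvPolynomial σ ℚ) ^ n * ((n : MvPolynomial σ ℚ) + 1) ^ m * f
          = (C ((n + 1 : ℚ)⁻¹) * ((n : MvPolynomial σ ℚ) + 1)) *
              ((-1 : MvPolynomial σ ℚ) ^ n * ((n : MvPolynomial σ ℚ) + 1) ^ m * f) := by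
            rw [hinv, one_mul]
        _ = _ := by ring
    rw [this]
    exact Ideal.mul_mem_left _ _ hTlead

/-- the integer `Σ_j C(n,j) (-1)^j (j+1)^m` -/
def Scoef (n m : ℕ) : ℤ := ∑ j ∈ range (n + 1), (Nat.choose n j : ℤ) * ((-1) ^ j * ((j : ℤ) + 1) ^ m)

/-- `γ^(n+1) f ∈ D^(m+1)` and `γ^(n+1) f ≡ Scoef n m · f` modulo `D^(m+2)` for `f ∈ D^(m+1)` -/
theorem gamma_lead (n : ℕ) {m : ℕ} {f : MvPolynomial σ ℚ} (hf : f ∈ Dfil σ (m + 1)) :
    gamma (n + 1) f ∈ Dfil σ (m + 1) ∧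
      gamma (n + 1) f - ((Scoef n m : ℤ) : MvPolynomial σ ℚ) * f ∈ Dfil σ (m + 2) := by
  rw [gamma_succ]
  constructor
  · apply Ideal.sum_mem
    intro j _
    exact Ideal.mul_mem_left _ _ (lam_lead j hf).1
  · have : ∑ j ∈ range (n + 1), (Nat.choose n j : MvPolynomial σ ℚ) * LambdaOps.lam (j + 1) f -
        ((Scoef n m : ℤ) : MvPolynomial σ ℚ) * f =
        ∑ j ∈ range (n + 1), (Nat.choose n j : MvPolynomial σ ℚ) * (LambdaOps.lam (j + 1) f -
          ((-1 : MvPolynomial σ ℚ) ^ j * ((j + 1 : ℕ) : MvPolynomial σ ℚ) ^ m) * f) := by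
      rw [Scoef]
      push_cast
      rw [Finset.sum_mul, ← Finset.sum_sub_distrib]
      apply Finset.sum_congr rfl
      intro j _
      ring
    rw [this]
    apply Ideal.sum_mem
    intro j _
    exact Ideal.mul_mem_left _ _ (lam_lead j hf).2

/-- `Σ_j C(n,j) (-1)^j (j+1)^n = (-1)^n n!` -/
theorem Scoef_self (n : ℕ) : Scoef n n = (-1) ^ n * (n.factorial : ℤ) := by
  have h1 := fwdDiff_iter_eq_sum_shift (1 : ℤ) (fun r : ℤ => r ^ n) n 1
  rw [fwdDiff_iter_eq_factorial] at h1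
  simp only [Pi.natCast_apply, smul_eq_mul, nsmul_eq_mul, mul_one] at h1
  rw [Scoef]
  have h2 : (-1 : ℤ) ^ n * (n.factorial : ℤ) =
      ∑ k ∈ range (n + 1), (-1 : ℤ) ^ n * ((-1) ^ (n - k) * (n.choose k : ℤ) * (1 + (k : ℤ)) ^ n) := by
    rw [← Finset.mul_sum, ← h1]
  rw [h2]
  apply Finset.sum_congr rfl
  intro k hk
  rw [Finset.mem_range] at hk
  have h3 : (-1 : ℤ) ^ n * (-1) ^ (n - k) = (-1) ^ k := by
    rw [← pow_add]
    have : n + (n - k) = k + 2 * (n - k) := by omega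
    rw [this, pow_add, pow_mul, neg_one_sq, one_pow, mul_one]
  calc (n.choose k : ℤ) * ((-1) ^ k * ((k : ℤ) + 1) ^ n)
      = ((-1 : ℤ) ^ n * (-1) ^ (n - k)) * (n.choose k : ℤ) * (1 + (k : ℤ)) ^ n := by
        rw [h3]; ring
    _ = _ := by ring

/-- the leading coefficient `(-1)^(m-1) (m-1)!` -/
def cc (m : ℕ) : ℤ := (-1) ^ (m - 1) * ((m - 1).factorial : ℤ)

/-- `γ^(n+1) f ≡ (-1)^n n! f` modulo `D^(n+2)` for `f ∈ D^(n+1)` -/
theorem gamma_lead_top (n : ℕ) {f : MvPolynomial σ ℚ} (hf : f ∈ Dfil σ (n + 1)) :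
    gamma (n + 1) f - ((cc (n + 1) : ℤ) : MvPolynomial σ ℚ) * f ∈ Dfil σ (n + 2) := by
  have := (gamma_lead n hf).2
  rwa [Scoef_self] at this

end Groth.Agent.R2.H39.LamAdams
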