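import Groth.Prelude.Def_LambdaSp
import Groth.Agent.Lib.Helper4LambdaUniv3
import Groth.Agent.Lib.Helper4SymWeight
import Groth.Agent.R2.H39LamFil
import Groth.Agent.R2.H39LamGammaPoly
import Groth.Agent.R2.H39LamModel
import Mathlib

/-!
# helper39: weights of the universal γ-polynomials

Transfer of degree information from the polynomial models to weights of universal polynomials, and the
resulting closure properties of good elements: products and γ-operations of good elements are good.
-/

set_option autoImplicit false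
universe u
open MvPolynomial Finset LambdaRing
open Groth.Agent.Lib.Helper4 Groth.Agent.Lib.Helper4.LUniv Groth.Agent.Lib.Helper4.MulPoly
open Groth.Agent.R2.H39.LamFil Groth.Agent.R2.H39.LamGP Groth.Agent.R2.H39.LamModel

namespace Groth.Agent.R2.H39.LamWt

section General

variable {σ τ M R S : Type*} [CommRing R] [CommRing S] [Algebra R S] [AddCommMonoid M]

/-- `aeval` (with change of coefficients) of a weighted homogeneous polynomial at weighted homogeneous
polynomials of the right weights is weighted homogeneous. -/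
theorem isWeightedHomogeneous_aeval' (w : σ → M) (v : τ → M) (E : σ → MvPolynomial τ S)
    (hE : ∀ k, IsWeightedHomogeneous v (E k) (w k)) {P : MvPolynomial σ R} {m : M}
    (hP : IsWeightedHomogeneous w P m) : IsWeightedHomogeneous v (aeval E P) m := by
  induction hP using IsWeightedHomogeneous.induction_on with
  | zero => rw [map_zero]; exact isWeightedHomogeneous_zero _ _ _
  | add p q hp hq ihp ihq => rw [map_add]; exact ihp.add ihq
  | monomial d r hr =>
    rw [aeval_monomial]
    have h1 : IsWeightedHomogeneous v (∏ k ∈ d.support, E k ^ d k) (∑ k ∈ d.support, d k • w k) :=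
      IsWeightedHomogeneous.prod _ _ _ fun k _ => (hE k).pow (d k)
    have h2 : ∑ k ∈ d.support, d k • w k = m := by
      rw [← hr, Finsupp.weight_apply, Finsupp.sum]
    rw [h2] at h1
    have h3 : d.prod (fun k n => E k ^ n) = ∏ k ∈ d.support, E k ^ d k := rfl
    rw [h3, MvPolynomial.algebraMap_apply]
    exact h1.C_mul _

/-- weighted homogeneous components commute with `aeval` at weighted homogeneous polynomials -/
theorem weightedHomogeneousComponent_aeval [DecidableEq M] (w : σ → M) (v : τ → M)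
    (E : σ → MvPolynomial τ S) (hE : ∀ k, IsWeightedHomogeneous v (E k) (w k))
    (P : MvPolynomial σ R) (m : M) :
    weightedHomogeneousComponent v m (aeval E P) = aeval E (weightedHomogeneousComponent w m P) := by
  classical
  have hsum := sum_weightedHomogeneousComponent w P
  rw [finsum_eq_sum _ (weightedHomogeneousComponent_finsupp P)] at hsum
  set s := (weightedHomogeneousComponent_finsupp (w := w) P).toFinset with hs
  have h1 : aeval E P = ∑ n ∈ s, aeval E (weightedHomogeneousComponent w n P) := by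
    conv_lhs => rw [← hsum]
    rw [map_sum]
  have h3 : ∀ n, weightedHomogeneousComponent v m (aeval E (weightedHomogeneousComponent w n P)) =
      if m = n then aeval E (weightedHomogeneousComponent w n P) else 0 := fun n =>
    weightedHomogeneousComponent_of_mem (isWeightedHomogeneous_aeval' w v E hE
      (weightedHomogeneousComponent_isWeightedHomogeneous n P))
  rw [h1, map_sum]
  simp_rw [h3]
  rw [Finset.sum_ite_eq]
  split_ifs with hms
  · rfl
  · have : weightedHomogeneousComponent w m P = 0 := by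
      by_contra hne
      apply hms
      rw [hs]
      exact (Set.Finite.mem_toFinset _).mpr hne
    rw [this, map_zero]

/-- the components of low degree of a polynomial with only high degree terms vanish -/
theorem weightedHomogeneousComponent_one_eq_zero_of_highDeg {n m : ℕ} {f : MvPolynomial τ S}
    (hf : HighDeg n f) (hm : m < n) :
    weightedHomogeneousComponent (1 : τ → ℕ) m f = 0 := by
  apply weightedHomogeneousComponent_eq_zero'
  intro d hd h
  have := hf d hd
  rw [Finsupp.degree_eq_weight_one] at this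
  change n ≤ Finsupp.weight (1 : τ → ℕ) d at this
  omega

end General

/-- the weights: the variable `k` stands for `γ^{k+1}` -/
def w1 : ℕ → ℕ := fun k => k + 1

/-- the weights, two families -/
def w2 : ℕ ⊕ ℕ → ℕ := Sum.elim (fun k => k + 1) (fun k => k + 1)

theorem PsiInf_gen_isHomogeneous (N k : ℕ) :
    IsWeightedHomogeneous (1 : Fin N → ℕ) (esymm (Fin N) ℤ (k + 1)) (w1 k) :=
  Groth.Agent.Lib.Helper4.SymPoly.esymm_isHomogeneous (Fin N) ℤ (k + 1)

theorem PhiInf_gen_isHomogeneous (N : ℕ) (i : ℕ ⊕ ℕ) :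
    IsWeightedHomogeneous (1 : Fin N ⊕ Fin N → ℕ)
      (Sum.elim (fun i : ℕ => rename Sum.inl (esymm (Fin N) ℤ (i + 1)))
        (fun i : ℕ => rename Sum.inr (esymm (Fin N) ℤ (i + 1))) i) (w2 i) := by
  rcases i with k | k
  · exact (Groth.Agent.Lib.Helper4.SymPoly.esymm_isHomogeneous (Fin N) ℤ (k + 1)).rename_isHomogeneous
  · exact (Groth.Agent.Lib.Helper4.SymPoly.esymm_isHomogeneous (Fin N) ℤ (k + 1)).rename_isHomogeneous

/-- **weight transfer**, one family -/
theorem wt_ge_of_psiInf (Q : MvPolynomial ℕ ℤ) (n N₀ : ℕ)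
    (h : ∀ N, N₀ ≤ N → HighDeg n (PsiInf N Q)) :
    ∀ m ∈ Q.support, n ≤ Finsupp.weight w1 m := by
  classical
  intro m₀ hm₀
  by_contra hlt
  rw [not_le] at hlt
  set w₀ := Finsupp.weight w1 m₀ with hw₀
  set Q₀ := weightedHomogeneousComponent w1 w₀ Q with hQ₀
  have h0 : Q₀ = 0 := by
    apply VP1 _ _ N₀
    intro N hN
    rw [map_zero, hQ₀, PsiInf, ← weightedHomogeneousComponent_aeval w1 (1 : Fin N → ℕ) _
      (PsiInf_gen_isHomogeneous N)]
    exact weightedHomogeneousComponent_one_eq_zero_of_highDeg (h N hN) hlt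
  have h1 : coeff m₀ Q₀ = coeff m₀ Q := by
    rw [hQ₀, coeff_weightedHomogeneousComponent, if_pos hw₀.symm]
  rw [h0, coeff_zero] at h1
  exact (mem_support_iff.mp hm₀) h1.symm

/-- **weight transfer**, two families -/
theorem wt_ge_of_phiInf (P : MvPolynomial (ℕ ⊕ ℕ) ℤ) (n N₀ : ℕ)
    (h : ∀ N, N₀ ≤ N → HighDeg n (PhiInf N P)) :
    ∀ m ∈ P.support, n ≤ Finsupp.weight w2 m := by
  classical
  intro m₀ hm₀
  by_contra hlt
  rw [not_le] at hlt
  set w₀ := Finsupp.weight w2 m₀ with hw₀
  set P₀ := weightedHomogeneousComponent w2 w₀ P with hP₀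
  have h0 : P₀ = 0 := by
    apply VP2 _ _ N₀
    intro N hN
    rw [map_zero, hP₀, PhiInf, ← weightedHomogeneousComponent_aeval w2 (1 : Fin N ⊕ Fin N → ℕ) _
      (PhiInf_gen_isHomogeneous N)]
    exact weightedHomogeneousComponent_one_eq_zero_of_highDeg (h N hN) hlt
  have h1 : coeff m₀ P₀ = coeff m₀ P := by
    rw [hP₀, coeff_weightedHomogeneousComponent, if_pos hw₀.symm]
  rw [h0, coeff_zero] at h1
  exact (mem_support_iff.mp hm₀) h1.symm

/-- **weight transfer**, one family, homogeneous version -/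
theorem isWeightedHomogeneous_of_psiInf (Q : MvPolynomial ℕ ℤ) (n N₀ : ℕ)
    (h : ∀ N, N₀ ≤ N → (PsiInf N Q).IsHomogeneous n) : IsWeightedHomogeneous w1 Q n := by
  classical
  intro d hd
  by_contra hne
  set m := Finsupp.weight w1 d with hm
  set Q₀ := weightedHomogeneousComponent w1 m Q with hQ₀
  have h0 : Q₀ = 0 := by
    apply VP1 _ _ N₀
    intro N hN
    rw [map_zero, hQ₀, PsiInf, ← weightedHomogeneousComponent_aeval w1 (1 : Fin N → ℕ) _
      (PsiInf_gen_isHomogeneous N)]
    have := weightedHomogeneousComponent_of_mem (m := m)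
      ((mem_weightedHomogeneousSubmodule ℤ (1 : Fin N → ℕ) n _).mpr (h N hN))
    rw [PsiInf] at this
    rw [this, if_neg hne]
  have h1 : coeff d Q₀ = coeff d Q := by
    rw [hQ₀, coeff_weightedHomogeneousComponent, if_pos hm.symm]
  rw [h0, coeff_zero] at h1
  exact hd h1.symm

/-! ### the models -/

/-- the generic element of the one-family model -/
noncomputable def z₀ (N : ℕ) : MvPolynomial (Fin N) ℚ := ∑ i : Fin N, X i

/-- the generic elements of the two-family model -/
noncomputable def u₀ (N : ℕ) : MvPolynomial (Fin N ⊕ Fin N) ℚ := ∑ i : Fin N, X (Sum.inl i)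

noncomputable def v₀ (N : ℕ) : MvPolynomial (Fin N ⊕ Fin N) ℚ := ∑ i : Fin N, X (Sum.inr i)

theorem gamma_z₀ (N k : ℕ) : gamma k (z₀ N) = MvPolynomial.map (Int.castRingHom ℚ) (esymm (Fin N) ℤ k) := by
  rw [z₀, gamma_sum_X univ (fun i => i) k]
  simp only [esymm, map_sum, map_prod, map_X]

theorem gamma_u₀ (N k : ℕ) : gamma k (u₀ N) =
    MvPolynomial.map (Int.castRingHom ℚ) (rename Sum.inl (esymm (Fin N) ℤ k)) := by
  rw [u₀, gamma_sum_X univ Sum.inl k]
  simp only [esymm, map_sum, map_prod, map_X, rename_X]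

theorem gamma_v₀ (N k : ℕ) : gamma k (v₀ N) =
    MvPolynomial.map (Int.castRingHom ℚ) (rename Sum.inr (esymm (Fin N) ℤ k)) := by
  rw [v₀, gamma_sum_X univ Sum.inr k]
  simp only [esymm, map_sum, map_prod, map_X, rename_X]

theorem map_PsiInf (N : ℕ) (Q : MvPolynomial ℕ ℤ) :
    MvPolynomial.map (Int.castRingHom ℚ) (PsiInf N Q) = evg1 (z₀ N) Q := by
  have : (MvPolynomial.map (Int.castRingHom ℚ)).comp
      (PsiInf N : MvPolynomial ℕ ℤ →+* MvPolynomial (Fin N) ℤ) =
      (evg1 (z₀ N) : MvPolynomial ℕ ℤ →+* MvPolynomial (Fin N) ℚ) := by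
    apply MvPolynomial.ringHom_ext
    · intro r; simp
    · intro k
      simp only [RingHom.comp_apply, RingHom.coe_coe]
      rw [PsiInf, aeval_X, evg1, aeval_X, gamma_z₀]
  exact congrArg (fun f => f Q) this

theorem map_PhiInf (N : ℕ) (P : MvPolynomial (ℕ ⊕ ℕ) ℤ) :
    MvPolynomial.map (Int.castRingHom ℚ) (PhiInf N P) = evg2 (u₀ N) (v₀ N) P := by
  have : (MvPolynomial.map (Int.castRingHom ℚ)).comp
      (PhiInf N : MvPolynomial (ℕ ⊕ ℕ) ℤ →+* MvPolynomial (Fin N ⊕ Fin N) ℤ) =
      (evg2 (u₀ N) (v₀ N) : MvPolynomial (ℕ ⊕ ℕ) ℤ →+* MvPolynomial (Fin N ⊕ Fin N) ℚ) := by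
    apply MvPolynomial.ringHom_ext
    · intro r; simp
    · intro k
      simp only [RingHom.comp_apply, RingHom.coe_coe]
      rw [PhiInf, aeval_X, evg2, aeval_X]
      rcases k with k | k
      · simp only [Sum.elim_inl]; rw [gamma_u₀]
      · simp only [Sum.elim_inr]; rw [gamma_v₀]
  exact congrArg (fun f => f P) this

theorem goodElt_u₀_mul_v₀ (N : ℕ) : GoodElt (Dfil (Fin N ⊕ Fin N)) (u₀ N * v₀ N) := by
  rw [u₀, v₀, Finset.sum_mul_sum]
  apply goodElt_sum mulFil_Dfil
  intro i _
  apply goodElt_sum mulFil_Dfil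
  intro j _
  exact goodElt_X_mul_X _ _

/-- **(W1)**: every monomial of the universal polynomial for `γ^n(xy)` has weight `≥ n` -/
theorem Pg_wt (n : ℕ) : ∀ m ∈ (Pg n).support, n ≤ Finsupp.weight w2 m := by
  apply wt_ge_of_phiInf _ _ 0
  intro N _
  rw [← highDeg_map_iff, map_PhiInf, ← gamma_mul_eq_evg2 (isSpecial_model _), ← mem_Dfil]
  exact goodElt_u₀_mul_v₀ N n

section Abstract

variable {R : Type u} [CommRing R] [LambdaOps R] {F : ℕ → Ideal R}

/-- products of good elements are good -/
theorem goodElt_mul (hR : IsSpecial R) (hF : MulFil F) {x y : R} (hx : GoodElt F x)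
    (hy : GoodElt F y) : GoodElt F (x * y) := by
  intro n
  rw [gamma_mul_eq_evg2 hR, evg2]
  apply hF.aeval_mem w2 _ _ n _ (Pg_wt n)
  intro s
  rcases s with k | k
  · exact hx (k + 1)
  · exact hy (k + 1)

theorem goodElt_pow (hR : IsSpecial R) (hF : MulFil F) {x : R} (hx : GoodElt F x) (c : ℕ) :
    GoodElt F (x ^ (c + 1)) := by
  induction c with
  | zero => rwa [zero_add, pow_one]
  | succ c ih => rw [pow_succ]; exact goodElt_mul hR hF ih hx

theorem goodElt_prod (hR : IsSpecial R) (hF : MulFil F) {ι : Type*} (s : Finset ι)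
    (hs : s.Nonempty) (f : ι → R) (hf : ∀ i ∈ s, GoodElt F (f i)) : GoodElt F (∏ i ∈ s, f i) := by
  classical
  induction hs using Finset.Nonempty.cons_induction with
  | singleton a => rw [Finset.prod_singleton]; exact hf a (Finset.mem_singleton_self a)
  | cons a s ha hs ih =>
    rw [Finset.prod_cons]
    exact goodElt_mul hR hF (hf a (Finset.mem_cons_self a s))
      (ih fun i hi => hf i (Finset.mem_cons.mpr (Or.inr hi)))

end Abstract

theorem goodElt_gamma_z₀ (N i : ℕ) : GoodElt (Dfil (Fin N)) (gamma (i + 1) (z₀ N)) := by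
  rw [z₀, gamma_sum_X univ (fun i => i) (i + 1)]
  apply goodElt_sum mulFil_Dfil
  intro t ht
  rw [Finset.mem_powersetCard] at ht
  apply goodElt_prod (isSpecial_model _) mulFil_Dfil
  · rw [← Finset.card_pos, ht.2]; exact Nat.succ_pos _
  · intro j _
    exact goodElt_X _

/-- **(W2)**: every monomial of the universal polynomial for `γ^{k+1}(γ^{i+1} x)` has weight `≥ k+1` -/
theorem Qg_wt (i k : ℕ) : ∀ m ∈ (Qg i k).support, k + 1 ≤ Finsupp.weight w1 m := by
  apply wt_ge_of_psiInf _ _ 0
  intro N _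
  rw [← highDeg_map_iff, map_PsiInf, ← gamma_gamma_eq_evg1 (isSpecial_model _), ← mem_Dfil]
  exact goodElt_gamma_z₀ N i (k + 1)

section Abstract2

variable {R : Type u} [CommRing R] [LambdaOps R] {F : ℕ → Ideal R}

/-- `γ^{i+1}` of a good element is good -/
theorem goodElt_gamma (hR : IsSpecial R) (hF : MulFil F) {x : R} (hx : GoodElt F x) (i : ℕ) :
    GoodElt F (gamma (i + 1) x) := by
  intro n
  rcases n with _ | k
  · exact hF.mem_zero _
  · rw [gamma_gamma_eq_evg1 hR, evg1]
    exact hF.aeval_mem w1 _ (fun s => hx (s + 1)) (k + 1) _ (Qg_wt i k)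

end Abstract2

end Groth.Agent.R2.H39.LamWt
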