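import Groth.Prelude.Def_LambdaSp
import Groth.Agent.Lib.Helper4LambdaUniv3
import Groth.Agent.Lib.Helper4SymWeight
import Groth.Agent.R2.H39LamFil
import Groth.Agent.R2.H39LamGammaPoly
import Groth.Agent.R2.H39LamModel
import Groth.Agent.R2.H39LamWeight
import Mathlib

/-!
# helper39: multiples by elements of a binomial ring

For a binomial ring `K` and a special `K`-λ-algebra `A`, `γ^n(k z)` is a `K`-linear combination of
monomials of weight exactly `n` in the `γ^j z`.  Hence multiples of good elements are good.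
-/

set_option autoImplicit false
universe u v
open MvPolynomial Finset LambdaRing
open Groth.Agent.Lib.Helper4 Groth.Agent.Lib.Helper4.LUniv
open Groth.Agent.R2.H39.LamFil Groth.Agent.R2.H39.LamGP Groth.Agent.R2.H39.LamModel
  Groth.Agent.R2.H39.LamWt

namespace Groth.Agent.R2.H39.LamBinom

attribute [local instance] BinomialRing.toIsAddTorsionFree

section BE

variable (K : Type u) [CommRing K] [BinomialRing K]

/-- substitute the binomial coefficients `C(k, j+1)` for the first family of variables -/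
noncomputable def phi (k : K) : MvPolynomial (ℕ ⊕ ℕ) ℤ →ₐ[ℤ] MvPolynomial ℕ K :=
  aeval (Sum.elim (fun j => C (Ring.choose k (j + 1))) (fun j => X j))

/-- evaluate a polynomial in one variable `T` over `ℤ[Y]` at `T = k` -/
noncomputable def evQ (k : K) : Polynomial (MvPolynomial ℕ ℤ) →+* MvPolynomial ℕ K :=
  Polynomial.eval₂RingHom (MvPolynomial.map (Int.castRingHom K)) (C k)

/-- `M · φ_k(D)` is the value at `k` of the polynomial `Q` -/
def Rel (k : K) (M : ℕ) (Q : Polynomial (MvPolynomial ℕ ℤ)) (D : MvPolynomial (ℕ ⊕ ℕ) ℤ) : Prop :=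
  (M : MvPolynomial ℕ K) * phi K k D = evQ K k Q

variable {K}

theorem rel_C (k : K) (c : ℤ) : Rel K k 1 (Polynomial.C (C c)) (C c) := by
  unfold Rel
  rw [Nat.cast_one, one_mul, evQ, Polynomial.coe_eval₂RingHom, Polynomial.eval₂_C, map_C, phi,
    aeval_C, MvPolynomial.algebraMap_apply]
  simp

theorem rel_add (k : K) {M₁ M₂ : ℕ} {Q₁ Q₂ : Polynomial (MvPolynomial ℕ ℤ)}
    {D₁ D₂ : MvPolynomial (ℕ ⊕ ℕ) ℤ} (h₁ : Rel K k M₁ Q₁ D₁) (h₂ : Rel K k M₂ Q₂ D₂) :
    Rel K k (M₁ * M₂) ((M₂ : Polynomial (MvPolynomial ℕ ℤ)) * Q₁ +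
      (M₁ : Polynomial (MvPolynomial ℕ ℤ)) * Q₂) (D₁ + D₂) := by
  unfold Rel at *
  rw [map_add, map_add, map_mul, map_mul, map_natCast, map_natCast, ← h₁, ← h₂]
  push_cast
  ring

omit [BinomialRing K] in
theorem evQ_map_C (k : K) (p : Polynomial ℤ) :
    evQ K k (p.map (C : ℤ →+* MvPolynomial ℕ ℤ)) = C (Polynomial.aeval k p) := by
  rw [evQ, Polynomial.coe_eval₂RingHom, Polynomial.eval₂_map, Polynomial.aeval_def,
    Polynomial.hom_eval₂]
  congr 1
  ext r
  simp

theorem rel_mul_inl (k : K) {M : ℕ} {Q : Polynomial (MvPolynomial ℕ ℤ)}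
    {D : MvPolynomial (ℕ ⊕ ℕ) ℤ} (h : Rel K k M Q D) (j : ℕ) :
    Rel K k (M * (j + 1).factorial)
      (Q * (descPochhammer ℤ (j + 1)).map (C : ℤ →+* MvPolynomial ℕ ℤ)) (D * X (Sum.inl j)) := by
  unfold Rel at *
  rw [map_mul, map_mul, evQ_map_C, ← h, Polynomial.aeval_eq_smeval,
    Ring.descPochhammer_eq_factorial_smul_choose, phi, aeval_X, Sum.elim_inl, nsmul_eq_mul,
    map_mul, map_natCast]
  push_cast
  ring

theorem rel_mul_inr (k : K) {M : ℕ} {Q : Polynomial (MvPolynomial ℕ ℤ)}
    {D : MvPolynomial (ℕ ⊕ ℕ) ℤ} (h : Rel K k M Q D) (j : ℕ) :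
    Rel K k M (Q * Polynomial.C (X j)) (D * X (Sum.inr j)) := by
  unfold Rel at *
  rw [map_mul, map_mul, ← h, evQ, Polynomial.coe_eval₂RingHom, Polynomial.eval₂_C, map_X, phi,
    aeval_X, Sum.elim_inr]
  ring

variable (K)

theorem exists_rel (D : MvPolynomial (ℕ ⊕ ℕ) ℤ) :
    ∃ (M : ℕ) (Q : Polynomial (MvPolynomial ℕ ℤ)), 0 < M ∧ (∀ k : ℤ, Rel ℤ k M Q D) ∧
      (∀ k : K, Rel K k M Q D) := by
  induction D using MvPolynomial.induction_on with
  | C c => exact ⟨1, Polynomial.C (C c), one_pos, fun k => rel_C k c, fun k => rel_C k c⟩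
  | add p q hp hq =>
    obtain ⟨M₁, Q₁, h1, a1, b1⟩ := hp
    obtain ⟨M₂, Q₂, h2, a2, b2⟩ := hq
    exact ⟨M₁ * M₂, _, Nat.mul_pos h1 h2, fun k => rel_add k (a1 k) (a2 k),
      fun k => rel_add k (b1 k) (b2 k)⟩
  | mul_X p i hp =>
    obtain ⟨M, Q, h, a, b⟩ := hp
    rcases i with j | j
    · exact ⟨M * (j + 1).factorial, _, Nat.mul_pos h (Nat.factorial_pos _),
        fun k => rel_mul_inl k (a k) j, fun k => rel_mul_inl k (b k) j⟩
    · exact ⟨M, _, h, fun k => rel_mul_inr k (a k) j, fun k => rel_mul_inr k (b k) j⟩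

/-- **interpolation**: a polynomial identity in the binomial coefficients of `k` which holds for all
natural numbers `k` holds for all elements of all binomial rings -/
theorem phi_eq_zero_of_nat (D : MvPolynomial (ℕ ⊕ ℕ) ℤ) (h : ∀ k : ℕ, phi ℤ (k : ℤ) D = 0) (k : K) :
    phi K k D = 0 := by
  obtain ⟨M, Q, hM, hZ, hK⟩ := exists_rel K D
  have hQ : Q = 0 := by
    apply Polynomial.eq_zero_of_infinite_isRoot
    apply Set.infinite_of_injective_forall_mem (f := fun k : ℕ => (C (k : ℤ) : MvPolynomial ℕ ℤ))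
    · intro a b hab
      have := C_injective ℕ ℤ hab
      exact_mod_cast this
    · intro k
      have h1 := hZ (k : ℤ)
      unfold Rel at h1
      rw [h k, mul_zero, evQ, Polynomial.coe_eval₂RingHom] at h1
      have h2 : MvPolynomial.map (Int.castRingHom ℤ) = RingHom.id (MvPolynomial ℕ ℤ) := by
        have : Int.castRingHom ℤ = RingHom.id ℤ := Subsingleton.elim _ _
        rw [this]
        exact RingHom.ext fun p => MvPolynomial.map_id p
      rw [h2, Polynomial.eval₂_id] at h1
      exact h1.symm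
  have h1 := hK k
  unfold Rel at h1
  rw [hQ, map_zero] at h1
  ext d
  have h2 := congrArg (coeff d) h1
  have h3 : ((M : ℕ) : MvPolynomial ℕ K) = C (M : K) := by simp
  rw [h3, coeff_C_mul, coeff_zero, ← nsmul_eq_mul] at h2
  rw [coeff_zero]
  apply nsmul_right_injective hM.ne'
  simpa using h2

end BE

/-! ### the model computation for natural numbers -/

section ModelNat

/-- series whose `i`-th coefficient is homogeneous of degree `i` -/
def HGood {τ : Type*} (f : PowerSeries (MvPolynomial τ ℚ)) : Prop :=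
  ∀ i, (PowerSeries.coeff i f).IsHomogeneous i

theorem hgood_one {τ : Type*} : HGood (1 : PowerSeries (MvPolynomial τ ℚ)) := by
  intro i
  rw [PowerSeries.coeff_one]
  split_ifs with h
  · subst h; exact isHomogeneous_one _ _
  · exact isHomogeneous_zero _ _ _

theorem hgood_mul {τ : Type*} {f g : PowerSeries (MvPolynomial τ ℚ)} (hf : HGood f) (hg : HGood g) :
    HGood (f * g) := by
  intro i
  rw [PowerSeries.coeff_mul]
  apply IsHomogeneous.sum
  rintro ⟨p, q⟩ hpq
  have hpq' : p + q = i := by simpa using hpq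
  rw [← hpq']
  exact (hf p).mul (hg q)

theorem hgood_pow {τ : Type*} {f : PowerSeries (MvPolynomial τ ℚ)} (hf : HGood f) (c : ℕ) :
    HGood (f ^ c) := by
  induction c with
  | zero => rw [pow_zero]; exact hgood_one
  | succ c ih => rw [pow_succ]; exact hgood_mul ih hf

theorem hgood_prod {τ ι : Type*} (s : Finset ι) (f : ι → PowerSeries (MvPolynomial τ ℚ))
    (hf : ∀ i ∈ s, HGood (f i)) : HGood (∏ i ∈ s, f i) := by
  classical
  induction s using Finset.induction_on with
  | empty => rw [Finset.prod_empty]; exact hgood_one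
  | insert a s ha ih =>
    rw [Finset.prod_insert ha]
    exact hgood_mul (hf a (Finset.mem_insert_self _ _))
      (ih fun i hi => hf i (Finset.mem_insert_of_mem hi))

theorem hgood_lin {τ : Type*} (i : τ) :
    HGood (1 + PowerSeries.C (X i) * PowerSeries.X : PowerSeries (MvPolynomial τ ℚ)) := by
  intro n
  rw [map_add, PowerSeries.coeff_one, PowerSeries.coeff_C_mul, PowerSeries.coeff_X]
  rcases n with _ | _ | n
  · simpa using isHomogeneous_one τ ℚ
  · simpa using isHomogeneous_X ℚ i
  · simpa using isHomogeneous_zero τ ℚ (n + 1 + 1)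

theorem gammaSeries_natCast_mul {R : Type*} [CommRing R] [LambdaOps R] (k : ℕ) (z : R) :
    gammaSeries ((k : R) * z) = gammaSeries z ^ k := by
  induction k with
  | zero => simp
  | succ k ih => rw [Nat.cast_succ, add_mul, one_mul, gammaSeries_add, ih, pow_succ]

theorem hgood_gammaSeries_z₀ (N : ℕ) : HGood (gammaSeries (z₀ N)) := by
  rw [z₀, gammaSeries_sum]
  apply hgood_prod
  intro i _
  rw [gammaSeries_X]
  exact hgood_lin i

theorem lam_natCast_model {τ : Type} (k j : ℕ) :
    LambdaOps.lam j ((k : ℕ) : MvPolynomial τ ℚ) = (Nat.choose k j : MvPolynomial τ ℚ) := by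
  rw [← coeff_lamSeries, lamSeries_natCast (lam_one_model τ), coeff_one_add_X_pow]

theorem evg1_phi_nat (N k : ℕ) (P : MvPolynomial (ℕ ⊕ ℕ) ℤ) :
    evg1 (z₀ N) (phi ℤ (k : ℤ) P) = evmix ((k : ℕ) : MvPolynomial (Fin N) ℚ) (z₀ N) P := by
  have : ((evg1 (z₀ N) : MvPolynomial ℕ ℤ →+* MvPolynomial (Fin N) ℚ)).comp
      (phi ℤ (k : ℤ) : MvPolynomial (ℕ ⊕ ℕ) ℤ →+* MvPolynomial ℕ ℤ) =
      (evmix ((k : ℕ) : MvPolynomial (Fin N) ℚ) (z₀ N) :
        MvPolynomial (ℕ ⊕ ℕ) ℤ →+* MvPolynomial (Fin N) ℚ) := by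
    apply MvPolynomial.ringHom_ext
    · intro r; simp
    · intro i
      simp only [RingHom.comp_apply, RingHom.coe_coe]
      rw [phi, aeval_X, evmix, aeval_X]
      rcases i with j | j
      · simp only [Sum.elim_inl]
        rw [lam_natCast_model, Ring.choose_natCast, evg1, aeval_C]
        simp
      · simp only [Sum.elim_inr]
        rw [evg1, aeval_X]
  exact congrArg (fun f => f P) this

theorem isHomogeneous_of_map {τ : Type*} {p : MvPolynomial τ ℤ} {n : ℕ}
    (h : (MvPolynomial.map (Int.castRingHom ℚ) p).IsHomogeneous n) : p.IsHomogeneous n := by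
  intro d hd
  apply h
  rw [coeff_map]
  intro h0
  apply hd
  exact RingHom.injective_int (Int.castRingHom ℚ) (by rw [h0, map_zero])

theorem psiInf_phi_Pmix_isHomogeneous (k n N : ℕ) :
    (PsiInf N (phi ℤ (k : ℤ) (Pmix n))).IsHomogeneous n := by
  apply isHomogeneous_of_map
  rw [map_PsiInf, evg1_phi_nat, ← gamma_mul_eq_evmix (isSpecial_model _), ← coeff_gammaSeries,
    gammaSeries_natCast_mul]
  exact hgood_pow (hgood_gammaSeries_z₀ N) k n

theorem phi_nat_Pmix_isWeightedHomogeneous (k n : ℕ) :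
    IsWeightedHomogeneous w1 (phi ℤ (k : ℤ) (Pmix n)) n :=
  isWeightedHomogeneous_of_psiInf _ n 0 fun N _ => psiInf_phi_Pmix_isHomogeneous k n N

end ModelNat

section Hom

variable (K : Type u) [CommRing K] [BinomialRing K]

/-- weights for the mixed polynomials: the first family has weight `0` -/
def wmix : ℕ ⊕ ℕ → ℕ := Sum.elim (fun _ => 0) (fun j => j + 1)

theorem phi_gen_isWeightedHomogeneous (k : K) (i : ℕ ⊕ ℕ) :
    IsWeightedHomogeneous w1
      (Sum.elim (fun j => (C (Ring.choose k (j + 1)) : MvPolynomial ℕ K)) (fun j => X j) i)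
      (wmix i) := by
  rcases i with j | j
  · exact isWeightedHomogeneous_C _ _
  · exact isWeightedHomogeneous_X _ _ _

/-- `φ_k(Pmix n)` is isobaric of weight `n`, for every element `k` of a binomial ring -/
theorem phi_Pmix_isWeightedHomogeneous (k : K) (n : ℕ) :
    IsWeightedHomogeneous w1 (phi K k (Pmix n)) n := by
  classical
  intro d hd
  by_contra hne
  set m := Finsupp.weight w1 d with hm
  have h0 : phi K k (weightedHomogeneousComponent wmix m (Pmix n)) = 0 := by
    apply phi_eq_zero_of_nat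
    intro k'
    rw [phi, ← weightedHomogeneousComponent_aeval wmix w1 _ (phi_gen_isWeightedHomogeneous ℤ _)]
    have := weightedHomogeneousComponent_of_mem (m := m)
      ((mem_weightedHomogeneousSubmodule ℤ w1 n _).mpr (phi_nat_Pmix_isWeightedHomogeneous k' n))
    rw [phi] at this
    rw [this, if_neg hne]
  rw [phi, ← weightedHomogeneousComponent_aeval wmix w1 _ (phi_gen_isWeightedHomogeneous K k)] at h0
  have h1 := congrArg (coeff d) h0
  rw [coeff_weightedHomogeneousComponent, if_pos hm.symm, coeff_zero] at h1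
  exact hd h1

end Hom

section Smul

variable {K : Type u} [CommRing K] [LambdaOps K] [BinomialRing K]
  {A : Type v} [CommRing A] [LambdaOps A] [Algebra K A] {F : ℕ → Ideal A}

theorem evmix_algebraMap (hKb : IsBinomial K) (hKA : IsLambdaAlg K A) (k : K) (z : A)
    (P : MvPolynomial (ℕ ⊕ ℕ) ℤ) :
    evmix (algebraMap K A k) z P =
      aeval (R := K) (fun j => gamma (j + 1) z) (phi K k P) := by
  have : (evmix (algebraMap K A k) z : MvPolynomial (ℕ ⊕ ℕ) ℤ →+* A) =
      ((aeval (R := K) (fun j => gamma (j + 1) z) : MvPolynomial ℕ K →ₐ[K] A) :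
        MvPolynomial ℕ K →+* A).comp (phi K k : MvPolynomial (ℕ ⊕ ℕ) ℤ →+* MvPolynomial ℕ K) := by
    apply MvPolynomial.ringHom_ext
    · intro r; simp
    · intro i
      simp only [RingHom.comp_apply, RingHom.coe_coe]
      rw [phi, aeval_X, evmix, aeval_X]
      rcases i with j | j
      · simp only [Sum.elim_inl]
        rw [aeval_C, ← hKA, hKb]
      · simp only [Sum.elim_inr]
        rw [aeval_X]
  exact congrArg (fun f => f P) this

/-- multiples of a good element by elements of the binomial base ring are good -/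
theorem goodElt_algebraMap_mul (hKb : IsBinomial K) (hKA : IsLambdaAlg K A) (hA : IsSpecial A)
    (hF : MulFil F) (k : K) {z : A} (hz : GoodElt F z) : GoodElt F (algebraMap K A k * z) := by
  intro n
  rw [gamma_mul_eq_evmix hA, evmix_algebraMap hKb hKA]
  apply hF.aeval_mem w1 _ (fun s => hz (s + 1)) n
  intro m hm
  exact le_of_eq ((phi_Pmix_isWeightedHomogeneous K k n) (mem_support_iff.mp hm)).symm

end Smul

end Groth.Agent.R2.H39.LamBinom
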