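import Groth.Prelude.Def_LambdaSp
import Groth.Agent.Lib.Helper4Lambda
import Groth.Agent.R2.H39LamFil
import Groth.Agent.R2.H39LamGammaPoly
import Mathlib

/-!
# helper39: the γ-filtration as a multiplicative filtration
-/

set_option autoImplicit false
universe u v
open LambdaRing Finset
open Groth.Agent.Lib.Helper4
open Groth.Agent.R2.H39.LamFil Groth.Agent.R2.H39.LamGP

namespace Groth.Agent.R2.H39.LamGFil

section Hom

variable {A : Type u} {B : Type v} [CommRing A] [CommRing B] [LambdaOps A] [LambdaOps B]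

/-- a ring homomorphism commuting with the `λ^n` commutes with the `γ^n` -/
theorem map_gamma (f : A →+* B) (hf : ∀ (n : ℕ) (a : A), f (LambdaOps.lam n a) = LambdaOps.lam n (f a))
    (p : ℕ) (a : A) : f (gamma p a) = gamma p (f a) := by
  rcases p with _ | p
  · rw [gamma_zero, gamma_zero, map_one]
  · rw [gamma_succ, gamma_succ, map_sum]
    apply Finset.sum_congr rfl
    intro j _
    rw [map_mul, map_natCast, hf]

theorem gamma_succ_zero (p : ℕ) : gamma (p + 1) (0 : A) = 0 := by
  rw [← coeff_gammaSeries, gammaSeries_zero, PowerSeries.coeff_one, if_neg (Nat.succ_ne_zero p)]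

end Hom

variable {K : Type u} {A : Type v} [CommRing K] [CommRing A] [LambdaOps A] (ε : A →+* K)

theorem gamma_mem_gammaFil {z : A} (hz : ε z = 0) (p : ℕ) : gamma p z ∈ gammaFil ε p :=
  Ideal.subset_span ⟨[(p, z)], by simpa using hz, by simp, by simp⟩

theorem mulFil_gammaFil : MulFil (gammaFil ε) where
  zero := by
    rw [Ideal.eq_top_iff_one]
    exact Ideal.subset_span ⟨[], by simp, by simp, by simp⟩
  anti := by
    intro m n h
    apply Ideal.span_mono
    rintro y ⟨l, hl, hn, rfl⟩
    exact ⟨l, hl, h.trans hn, rfl⟩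
  mul := by
    intro i j a b ha hb
    have h1 : a * b ∈ gammaFil ε i * gammaFil ε j := Ideal.mul_mem_mul ha hb
    refine (?_ : gammaFil ε i * gammaFil ε j ≤ gammaFil ε (i + j)) h1
    unfold gammaFil
    rw [Ideal.span_mul_span']
    apply Ideal.span_le.mpr
    rintro y ⟨a, ⟨l₁, h₁, hn₁, rfl⟩, b, ⟨l₂, h₂, hn₂, rfl⟩, rfl⟩
    apply Ideal.subset_span
    refine ⟨l₁ ++ l₂, ?_, ?_, ?_⟩
    · intro p hp
      rcases List.mem_append.mp hp with h | h
      · exact h₁ p h
      · exact h₂ p h
    · rw [List.map_append, List.sum_append]; omega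
    · rw [List.map_append, List.prod_append]

/-- if every element of augmentation zero is good for `F`, the γ-filtration is contained in `F` -/
theorem gammaFil_le_of_goodElt {F : ℕ → Ideal A} (hF : MulFil F)
    (h : ∀ z : A, ε z = 0 → GoodElt F z) (k : ℕ) : gammaFil ε k ≤ F k := by
  apply Ideal.span_le.mpr
  rintro y ⟨l, hl, hn, rfl⟩
  suffices hs : (l.map fun p => gamma p.1 p.2).prod ∈ F (l.map Prod.fst).sum from hF.anti hn hs
  clear hn
  induction l with
  | nil => simpa using hF.mem_zero 1
  | cons p l ih =>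
    simp only [List.map_cons, List.prod_cons, List.sum_cons]
    exact hF.mul (h p.2 (hl p (by simp)) p.1) (ih fun q hq => hl q (List.mem_cons_of_mem _ hq))

end Groth.Agent.R2.H39.LamGFil
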