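import Groth.Prelude.Def_LambdaSp
import Groth.Agent.Lib.Helper4LambdaUniv3
import Groth.Agent.Lib.Helper4SymWeight
import Groth.Agent.R2.H39LamFil
import Groth.Agent.R2.H39LamGammaPoly
import Groth.Agent.R2.H39LamModel
import Groth.Agent.R2.H39LamWeight
import Groth.Agent.R2.H39LamBinom
import Groth.Agent.R2.H39LamAdams
import Mathlib

/-!
# helper39: finer weight information on the universal γ-polynomials

* every monomial of the polynomial for `γ^(n+1)(xy)` involves variables of both families;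
* every monomial of the polynomial for `γ^(k+1)(γ^(i+1) x)` has weight `≥ max (i+1) (k+1)`;
* the polynomial for `γ^(i+1)(γ^(i+1) x)` is `(-1)^i i! · X_i` up to monomials of weight `≥ i+2`.
-/

set_option autoImplicit false
universe u
open MvPolynomial Finset LambdaRing
open Groth.Agent.Lib.Helper4 Groth.Agent.Lib.Helper4.LUniv Groth.Agent.Lib.Helper4.MulPoly
open Groth.Agent.R2.H39.LamFil Groth.Agent.R2.H39.LamGP Groth.Agent.R2.H39.LamModel
  Groth.Agent.R2.H39.LamWt Groth.Agent.R2.H39.LamBinom Groth.Agent.R2.H39.LamAdams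

namespace Groth.Agent.R2.H39.LamLead

/-- **weight transfer**, two families, arbitrary weights -/
theorem wt_ge_of_phiInf_gen (w : ℕ ⊕ ℕ → ℕ) (v : ∀ N : ℕ, Fin N ⊕ Fin N → ℕ)
    (hE : ∀ (N : ℕ) (i : ℕ ⊕ ℕ), IsWeightedHomogeneous (v N)
      (Sum.elim (fun i : ℕ => rename Sum.inl (esymm (Fin N) ℤ (i + 1)))
        (fun i : ℕ => rename Sum.inr (esymm (Fin N) ℤ (i + 1))) i) (w i))
    (P : MvPolynomial (ℕ ⊕ ℕ) ℤ) (n N₀ : ℕ)
    (h : ∀ N, N₀ ≤ N → ∀ d ∈ (PhiInf N P).support, n ≤ Finsupp.weight (v N) d) :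
    ∀ m ∈ P.support, n ≤ Finsupp.weight w m := by
  classical
  intro m₀ hm₀
  by_contra hlt
  rw [not_le] at hlt
  set w₀ := Finsupp.weight w m₀ with hw₀
  set P₀ := weightedHomogeneousComponent w w₀ P with hP₀
  have h0 : P₀ = 0 := by
    apply VP2 _ _ N₀
    intro N hN
    rw [map_zero, hP₀, PhiInf, ← weightedHomogeneousComponent_aeval w (v N) _ (hE N)]
    apply weightedHomogeneousComponent_eq_zero'
    intro d hd hd'
    have := h N hN d hd
    omega
  have h1 : coeff m₀ P₀ = coeff m₀ P := by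
    rw [hP₀, coeff_weightedHomogeneousComponent, if_pos hw₀.symm]
  rw [h0, coeff_zero] at h1
  exact (mem_support_iff.mp hm₀) h1.symm

/-! ### both families occur in every monomial of `Pg (n+1)` -/

section Both

variable {σ : Type}

/-- modulo an ideal containing `X b`, `γ_t(X_a X_b)` is trivial -/
theorem map_gammaSeries_X_mul_X (J : Ideal (MvPolynomial σ ℚ)) (a b : σ)
    (hb : (X b : MvPolynomial σ ℚ) ∈ J) :
    PowerSeries.map (Ideal.Quotient.mk J) (gammaSeries (X a * X b : MvPolynomial σ ℚ)) = 1 := by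
  have h1 : gammaSeries (X a * X b : MvPolynomial σ ℚ) * (gammaSeries (X a) * gammaSeries (X b)) =
      1 + PowerSeries.C ((1 + X a) * (1 + X b) - 1) * PowerSeries.X := by
    rw [← gammaSeries_add, ← gammaSeries_add,
      ← gammaSeries_sub_one_of_isLineM ((isLineM_one_add_X a).mul (isLineM_one_add_X b))]
    congr 1
    ring
  have hqb : Ideal.Quotient.mk J (X b) = 0 := Ideal.Quotient.eq_zero_iff_mem.mpr hb
  have h2 : PowerSeries.map (Ideal.Quotient.mk J) (gammaSeries (X a * X b : MvPolynomial σ ℚ)) *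
      (PowerSeries.map (Ideal.Quotient.mk J) (gammaSeries (X a : MvPolynomial σ ℚ)) *
        PowerSeries.map (Ideal.Quotient.mk J) (gammaSeries (X b : MvPolynomial σ ℚ))) =
      PowerSeries.map (Ideal.Quotient.mk J)
        (1 + PowerSeries.C ((1 + X a) * (1 + X b) - 1 : MvPolynomial σ ℚ) * PowerSeries.X) := by
    rw [← map_mul, ← map_mul, h1]
  have h3 : PowerSeries.map (Ideal.Quotient.mk J) (gammaSeries (X b : MvPolynomial σ ℚ)) = 1 := by
    rw [gammaSeries_X, map_add, map_one, map_mul, PowerSeries.map_C, PowerSeries.map_X, hqb,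
      map_zero, zero_mul, add_zero]
  have h4 : PowerSeries.map (Ideal.Quotient.mk J)
      (1 + PowerSeries.C ((1 + X a) * (1 + X b) - 1 : MvPolynomial σ ℚ) * PowerSeries.X) =
      PowerSeries.map (Ideal.Quotient.mk J) (gammaSeries (X a : MvPolynomial σ ℚ)) := by
    rw [gammaSeries_X, map_add, map_add, map_one, map_mul, map_mul, PowerSeries.map_C,
      PowerSeries.map_C, PowerSeries.map_X]
    congr 3
    rw [map_sub, map_mul, map_add, map_add, map_one, hqb, add_zero, mul_one, add_sub_cancel_left]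
  rw [h3, mul_one, h4] at h2
  have hu : IsUnit (PowerSeries.map (Ideal.Quotient.mk J) (gammaSeries (X a : MvPolynomial σ ℚ))) :=
    (isUnit_gammaSeries (X a : MvPolynomial σ ℚ)).map (PowerSeries.map (Ideal.Quotient.mk J))
  apply hu.mul_left_injective
  beta_reduce
  rw [one_mul]
  exact h2

end Both

theorem gamma_u₀_mul_v₀_mem_inr (N n : ℕ) :
    gamma (n + 1) (u₀ N * v₀ N) ∈
      Ideal.span ((X : Fin N ⊕ Fin N → MvPolynomial (Fin N ⊕ Fin N) ℚ) '' Set.range Sum.inr) := by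
  set J := Ideal.span ((X : Fin N ⊕ Fin N → MvPolynomial (Fin N ⊕ Fin N) ℚ) '' Set.range Sum.inr)
    with hJ
  have h1 : PowerSeries.map (Ideal.Quotient.mk J) (gammaSeries (u₀ N * v₀ N)) = 1 := by
    rw [u₀, v₀, Finset.sum_mul_sum, gammaSeries_sum, map_prod]
    apply Finset.prod_eq_one
    intro i _
    rw [gammaSeries_sum, map_prod]
    apply Finset.prod_eq_one
    intro j _
    apply map_gammaSeries_X_mul_X
    exact Ideal.subset_span ⟨Sum.inr j, ⟨j, rfl⟩, rfl⟩
  have h2 := congrArg (PowerSeries.coeff (n + 1)) h1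
  rw [PowerSeries.coeff_map, coeff_gammaSeries, PowerSeries.coeff_one,
    if_neg (Nat.succ_ne_zero n)] at h2
  exact Ideal.Quotient.eq_zero_iff_mem.mp h2

theorem gamma_u₀_mul_v₀_mem_inl (N n : ℕ) :
    gamma (n + 1) (u₀ N * v₀ N) ∈
      Ideal.span ((X : Fin N ⊕ Fin N → MvPolynomial (Fin N ⊕ Fin N) ℚ) '' Set.range Sum.inl) := by
  set J := Ideal.span ((X : Fin N ⊕ Fin N → MvPolynomial (Fin N ⊕ Fin N) ℚ) '' Set.range Sum.inl)
    with hJ
  have h1 : PowerSeries.map (Ideal.Quotient.mk J) (gammaSeries (u₀ N * v₀ N)) = 1 := by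
    rw [mul_comm, u₀, v₀, Finset.sum_mul_sum, gammaSeries_sum, map_prod]
    apply Finset.prod_eq_one
    intro i _
    rw [gammaSeries_sum, map_prod]
    apply Finset.prod_eq_one
    intro j _
    apply map_gammaSeries_X_mul_X
    exact Ideal.subset_span ⟨Sum.inl j, ⟨j, rfl⟩, rfl⟩
  have h2 := congrArg (PowerSeries.coeff (n + 1)) h1
  rw [PowerSeries.coeff_map, coeff_gammaSeries, PowerSeries.coeff_one,
    if_neg (Nat.succ_ne_zero n)] at h2
  exact Ideal.Quotient.eq_zero_iff_mem.mp h2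

/-- weights for the mixed polynomials: the second family has weight `0` -/
def wmixL : ℕ ⊕ ℕ → ℕ := Sum.elim (fun j => j + 1) (fun _ => 0)

theorem isWeightedHomogeneous_zero_weight {τ : Type*} (p : MvPolynomial τ ℤ) :
    IsWeightedHomogeneous (0 : τ → ℕ) p 0 := by
  intro d _
  simp [Finsupp.weight_apply]

theorem rename_isWeightedHomogeneous {τ τ' : Type*} (f : τ → τ') (v : τ' → ℕ) (w' : τ → ℕ)
    (hw : ∀ i, v (f i) = w' i) {p : MvPolynomial τ ℤ} {m : ℕ}
    (hp : IsWeightedHomogeneous w' p m) : IsWeightedHomogeneous v (rename f p) m := by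
  have h1 : rename f p = aeval (fun i => (X (f i) : MvPolynomial τ' ℤ)) p := by
    rw [rename_eq_aeval]; rfl
  rw [h1]
  exact isWeightedHomogeneous_aeval' w' v _
    (fun i => by rw [← hw i]; exact isWeightedHomogeneous_X ℤ v (f i)) hp

theorem hE_inr (N : ℕ) (i : ℕ ⊕ ℕ) : IsWeightedHomogeneous
    (Sum.elim (fun _ => 0) (fun _ => 1) : Fin N ⊕ Fin N → ℕ)
    (Sum.elim (fun i : ℕ => rename Sum.inl (esymm (Fin N) ℤ (i + 1)))
      (fun i : ℕ => rename Sum.inr (esymm (Fin N) ℤ (i + 1))) i) (wmix i) := by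
  rcases i with k | k
  · exact rename_isWeightedHomogeneous Sum.inl _ (0 : Fin N → ℕ) (fun _ => rfl)
      (isWeightedHomogeneous_zero_weight _)
  · exact rename_isWeightedHomogeneous Sum.inr _ (1 : Fin N → ℕ) (fun _ => rfl)
      (Groth.Agent.Lib.Helper4.SymPoly.esymm_isHomogeneous (Fin N) ℤ (k + 1))

theorem hE_inl (N : ℕ) (i : ℕ ⊕ ℕ) : IsWeightedHomogeneous
    (Sum.elim (fun _ => 1) (fun _ => 0) : Fin N ⊕ Fin N → ℕ)
    (Sum.elim (fun i : ℕ => rename Sum.inl (esymm (Fin N) ℤ (i + 1)))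
      (fun i : ℕ => rename Sum.inr (esymm (Fin N) ℤ (i + 1))) i) (wmixL i) := by
  rcases i with k | k
  · exact rename_isWeightedHomogeneous Sum.inl _ (1 : Fin N → ℕ) (fun _ => rfl)
      (Groth.Agent.Lib.Helper4.SymPoly.esymm_isHomogeneous (Fin N) ℤ (k + 1))
  · exact rename_isWeightedHomogeneous Sum.inr _ (0 : Fin N → ℕ) (fun _ => rfl)
      (isWeightedHomogeneous_zero_weight _)

/-- every monomial of `Pg (n+1)` involves a variable of the second family -/
theorem Pg_exists_inr (n : ℕ) : ∀ m ∈ (Pg (n + 1)).support, ∃ j, m (Sum.inr j) ≠ 0 := by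
  have key : ∀ m ∈ (Pg (n + 1)).support, 1 ≤ Finsupp.weight wmix m := by
    apply wt_ge_of_phiInf_gen wmix (fun N => Sum.elim (fun _ => 0) (fun _ => 1)) hE_inr _ _ 0
    intro N _ d hd
    have h1 := gamma_u₀_mul_v₀_mem_inr N n
    rw [gamma_mul_eq_evg2 (isSpecial_model _), ← map_PhiInf, mem_ideal_span_X_image] at h1
    rw [← MvPolynomial.support_map_of_injective _ (RingHom.injective_int (Int.castRingHom ℚ))] at hd
    obtain ⟨s, ⟨j, rfl⟩, hs⟩ := h1 d hd
    exact Finsupp.le_weight_of_ne_zero' (w := (Sum.elim (fun _ => 0) (fun _ => 1) :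
      Fin N ⊕ Fin N → ℕ)) hs
  intro m hm
  by_contra hne0
  have hne : ∀ j, m (Sum.inr j) = 0 := fun j => by
    by_contra h; exact hne0 ⟨j, h⟩
  have h0 : Finsupp.weight wmix m = 0 := by
    rw [Finsupp.weight_apply, Finsupp.sum]
    apply Finset.sum_eq_zero
    intro s _
    rcases s with k | k
    · simp [wmix]
    · simp [hne k]
  have := key m hm
  omega

/-- every monomial of `Pg (n+1)` involves a variable of the first family -/
theorem Pg_exists_inl (n : ℕ) : ∀ m ∈ (Pg (n + 1)).support, ∃ j, m (Sum.inl j) ≠ 0 := by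
  have key : ∀ m ∈ (Pg (n + 1)).support, 1 ≤ Finsupp.weight wmixL m := by
    apply wt_ge_of_phiInf_gen wmixL (fun N => Sum.elim (fun _ => 1) (fun _ => 0)) hE_inl _ _ 0
    intro N _ d hd
    have h1 := gamma_u₀_mul_v₀_mem_inl N n
    rw [gamma_mul_eq_evg2 (isSpecial_model _), ← map_PhiInf, mem_ideal_span_X_image] at h1
    rw [← MvPolynomial.support_map_of_injective _ (RingHom.injective_int (Int.castRingHom ℚ))] at hd
    obtain ⟨s, ⟨j, rfl⟩, hs⟩ := h1 d hd
    exact Finsupp.le_weight_of_ne_zero' (w := (Sum.elim (fun _ => 1) (fun _ => 0) :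
      Fin N ⊕ Fin N → ℕ)) hs
  intro m hm
  by_contra hne0
  have hne : ∀ j, m (Sum.inl j) = 0 := fun j => by
    by_contra h; exact hne0 ⟨j, h⟩
  have h0 : Finsupp.weight wmixL m = 0 := by
    rw [Finsupp.weight_apply, Finsupp.sum]
    apply Finset.sum_eq_zero
    intro s _
    rcases s with k | k
    · simp [hne k]
    · simp [wmixL]
  have := key m hm
  omega

/-! ### the composition polynomials -/

theorem goodElt_z₀ (N : ℕ) : GoodElt (Dfil (Fin N)) (z₀ N) := by
  rw [z₀]
  exact goodElt_sum mulFil_Dfil _ _ fun i _ => goodElt_X i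

/-- every monomial of `Qg i k` has weight `≥ i + 1` -/
theorem Qg_wt' (i k : ℕ) : ∀ m ∈ (Qg i k).support, i + 1 ≤ Finsupp.weight w1 m := by
  apply wt_ge_of_psiInf _ _ 0
  intro N _
  rw [← highDeg_map_iff, map_PsiInf, ← gamma_gamma_eq_evg1 (isSpecial_model _), ← mem_Dfil]
  exact (gamma_lead k (goodElt_z₀ N (i + 1))).1

/-- every monomial of `Qg i k` has weight `≥ max (i+1) (k+1)` -/
theorem Qg_wt_max (i k : ℕ) : ∀ m ∈ (Qg i k).support, max (i + 1) (k + 1) ≤ Finsupp.weight w1 m :=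
  fun m hm => max_le (Qg_wt' i k m hm) (Qg_wt i k m hm)

/-- `Qg i i = (-1)^i i! X_i` up to monomials of weight `≥ i + 2` -/
theorem Qg_lead (i : ℕ) :
    ∀ m ∈ (Qg i i - C (cc (i + 1)) * X i).support, i + 2 ≤ Finsupp.weight w1 m := by
  apply wt_ge_of_psiInf _ _ 0
  intro N _
  rw [← highDeg_map_iff, map_PsiInf, map_sub, map_mul, ← gamma_gamma_eq_evg1 (isSpecial_model _),
    ← mem_Dfil]
  have h1 : evg1 (z₀ N) (X i) = gamma (i + 1) (z₀ N) := by rw [evg1, aeval_X]
  have h2 : evg1 (z₀ N) (C (cc (i + 1))) = ((cc (i + 1) : ℤ) : MvPolynomial (Fin N) ℚ) := by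
    rw [evg1, aeval_C]; simp
  rw [h1, h2]
  exact gamma_lead_top i (goodElt_z₀ N (i + 1))

end Groth.Agent.R2.H39.LamLead
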