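import Groth.Prelude.Def_LambdaSp
import Groth.Agent.R2.H39LamFil
import Groth.Agent.R2.H39LamGammaPoly
import Groth.Agent.R2.H39LamModel
import Groth.Agent.R2.H39LamWeight
import Groth.Agent.R2.H39LamBinom
import Groth.Agent.R2.H39LamAdams
import Groth.Agent.R2.H39LamLead
import Groth.Agent.R2.H39LamGFil
import Mathlib

/-!
# helper39: elements with controlled γ-operations in a filtered special λ-ring (abstract part)

For a multiplicative filtration `F` of a special λ-ring and `a ≥ 1`, `Zmem F a u` says that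
`γ^i u ∈ F (max a i)` for all `i ≥ 1`, and `Zlead F a u` that `γ^a u ≡ (-1)^(a-1) (a-1)! u` modulo
`F (a+1)`.
-/

set_option autoImplicit false
universe u v
open MvPolynomial Finset LambdaRing
open Groth.Agent.Lib.Helper4
open Groth.Agent.R2.H39.LamFil Groth.Agent.R2.H39.LamGP Groth.Agent.R2.H39.LamModel
  Groth.Agent.R2.H39.LamWt Groth.Agent.R2.H39.LamBinom Groth.Agent.R2.H39.LamAdams
  Groth.Agent.R2.H39.LamLead Groth.Agent.R2.H39.LamGFil

namespace Groth.Agent.R2.H39.LamChern

/-! ### combinatorics of exponent vectors -/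

section Comb

variable {σ : Type*}

theorem weight_mono (w w' : σ → ℕ) (h : ∀ s, w s ≤ w' s) (d : σ →₀ ℕ) :
    Finsupp.weight w d ≤ Finsupp.weight w' d := by
  rw [Finsupp.weight_apply, Finsupp.weight_apply, Finsupp.sum, Finsupp.sum]
  apply Finset.sum_le_sum
  intro s _
  simp only [smul_eq_mul]
  exact Nat.mul_le_mul_left _ (h s)

theorem exists_add_single [DecidableEq σ] (d : σ →₀ ℕ) (j : σ) (hj : d j ≠ 0) :
    ∃ d' : σ →₀ ℕ, d = d' + Finsupp.single j 1 := by
  refine ⟨d - Finsupp.single j 1, ?_⟩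
  rw [tsub_add_cancel_of_le]
  intro s
  by_cases hs : s = j
  · subst hs
    simp only [Finsupp.single_eq_same]
    exact Nat.one_le_iff_ne_zero.mpr hj
  · rw [Finsupp.single_apply, if_neg (Ne.symm hs)]
    exact Nat.zero_le _

theorem weight_add_single (w : σ → ℕ) (d' : σ →₀ ℕ) (j : σ) :
    Finsupp.weight w (d' + Finsupp.single j 1) = Finsupp.weight w d' + w j := by
  rw [map_add, Finsupp.weight_single, smul_eq_mul, one_mul]

theorem le_weight_of_ne_zero {w : σ → ℕ} {c : ℕ} (hw : ∀ s, c ≤ w s) {d : σ →₀ ℕ} (hd : d ≠ 0) :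
    c ≤ Finsupp.weight w d := by
  obtain ⟨s, hs⟩ : ∃ s, d s ≠ 0 := by
    by_contra h
    apply hd
    ext s
    by_contra hs
    exact h ⟨s, hs⟩
  exact (hw s).trans (Finsupp.le_weight_of_ne_zero' (w := w) hs)

end Comb

/-- weights for products: the variable `k` of the first family has weight `max a (k+1)` -/
def wab (a b : ℕ) : ℕ ⊕ ℕ → ℕ := Sum.elim (fun i => max a (i + 1)) (fun j => max b (j + 1))

/-- weights `max m (j+1)` -/
def wm (m : ℕ) : ℕ → ℕ := fun j => max m (j + 1)

/-- the distinguished exponent vector `X_a Y_b` -/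
noncomputable def d₀ (a b : ℕ) : ℕ ⊕ ℕ →₀ ℕ :=
  Finsupp.single (Sum.inl a) 1 + Finsupp.single (Sum.inr b) 1

theorem weight_wab_ge (a b n : ℕ) (d : ℕ ⊕ ℕ →₀ ℕ) (hd : d ∈ (Pg (n + 1)).support) :
    max (a + b) (n + 1) ≤ Finsupp.weight (wab a b) d := by
  classical
  apply max_le
  · obtain ⟨i₀, hi₀⟩ := Pg_exists_inl n d hd
    obtain ⟨j₀, hj₀⟩ := Pg_exists_inr n d hd
    obtain ⟨d₁, h₁⟩ := exists_add_single d (Sum.inl i₀) hi₀
    have hj₁ : d₁ (Sum.inr j₀) ≠ 0 := by
      have := congrArg (fun f => f (Sum.inr j₀)) h₁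
      simp only [Finsupp.add_apply] at this
      rw [Finsupp.single_apply, if_neg (by simp), add_zero] at this
      rwa [this] at hj₀
    obtain ⟨d₂, h₂⟩ := exists_add_single d₁ (Sum.inr j₀) hj₁
    rw [h₁, h₂, weight_add_single, weight_add_single]
    have e1 : a ≤ wab a b (Sum.inl i₀) := le_max_left _ _
    have e2 : b ≤ wab a b (Sum.inr j₀) := le_max_left _ _
    omega
  · refine (Pg_wt (n + 1) d hd).trans (weight_mono _ _ ?_ d)
    intro s
    rcases s with k | k
    · exact le_max_right _ _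
    · exact le_max_right _ _

theorem weight_wab_gt (a b : ℕ) (d : ℕ ⊕ ℕ →₀ ℕ) (hd : d ∈ (Pg (a + b + 2)).support)
    (hne : d ≠ d₀ a b) : a + b + 3 ≤ Finsupp.weight (wab (a + 1) (b + 1)) d := by
  classical
  obtain ⟨i₀, hi₀⟩ := Pg_exists_inl (a + b + 1) d hd
  obtain ⟨j₀, hj₀⟩ := Pg_exists_inr (a + b + 1) d hd
  obtain ⟨d₁, h₁⟩ := exists_add_single d (Sum.inl i₀) hi₀
  have hj₁ : d₁ (Sum.inr j₀) ≠ 0 := by
    have := congrArg (fun f => f (Sum.inr j₀)) h₁
    simp only [Finsupp.add_apply] at this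
    rw [Finsupp.single_apply, if_neg (by simp), add_zero] at this
    rwa [this] at hj₀
  obtain ⟨d₂, h₂⟩ := exists_add_single d₁ (Sum.inr j₀) hj₁
  have hw2 := Pg_wt (a + b + 2) d hd
  rw [h₁, h₂, weight_add_single, weight_add_single] at hw2 ⊢
  have e1 : wab (a + 1) (b + 1) (Sum.inl i₀) = max (a + 1) (i₀ + 1) := rfl
  have e2 : wab (a + 1) (b + 1) (Sum.inr j₀) = max (b + 1) (j₀ + 1) := rfl
  have f1 : w2 (Sum.inl i₀) = i₀ + 1 := rfl
  have f2 : w2 (Sum.inr j₀) = j₀ + 1 := rfl
  rw [e1, e2]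
  rw [f1, f2] at hw2
  by_cases hd₂ : d₂ = 0
  · subst hd₂
    have hij : ¬ (i₀ = a ∧ j₀ = b) := by
      rintro ⟨rfl, rfl⟩
      apply hne
      rw [h₁, h₂, d₀, zero_add, add_comm]
    simp only [map_zero, zero_add] at hw2 ⊢
    rcases le_total (a + 1) (i₀ + 1) with h1 | h1 <;> rcases le_total (b + 1) (j₀ + 1) with h2 | h2
    · rw [max_eq_right h1, max_eq_right h2]; omega
    · rw [max_eq_right h1, max_eq_left h2]; omega
    · rw [max_eq_left h1, max_eq_right h2]; omega
    · rw [max_eq_left h1, max_eq_left h2]; omega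
  · have h3 : 1 ≤ Finsupp.weight (wab (a + 1) (b + 1)) d₂ := by
      apply le_weight_of_ne_zero _ hd₂
      intro s
      rcases s with k | k
      · exact (Nat.succ_le_succ (Nat.zero_le a)).trans (le_max_left _ _)
      · exact (Nat.succ_le_succ (Nat.zero_le b)).trans (le_max_left _ _)
    have h4 : a + 1 ≤ max (a + 1) (i₀ + 1) := le_max_left _ _
    have h5 : b + 1 ≤ max (b + 1) (j₀ + 1) := le_max_left _ _
    omega

theorem weight_wm_ge (m n : ℕ) (d : ℕ →₀ ℕ) (hd : Finsupp.weight w1 d = n + 1) :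
    max m (n + 1) ≤ Finsupp.weight (wm m) d := by
  apply max_le
  · apply le_weight_of_ne_zero (fun s => le_max_left _ _)
    rintro rfl
    simp at hd
  · rw [← hd]
    exact weight_mono _ _ (fun s => le_max_right _ _) d

theorem weight_wm_gt (m : ℕ) (d : ℕ →₀ ℕ) (hd : Finsupp.weight w1 d = m + 1)
    (hne : d ≠ Finsupp.single m 1) : m + 2 ≤ Finsupp.weight (wm (m + 1)) d := by
  classical
  have hd0 : d ≠ 0 := by
    rintro rfl
    simp at hd
  obtain ⟨j₀, hj₀⟩ : ∃ s, d s ≠ 0 := by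
    by_contra h
    apply hd0
    ext s
    by_contra hs
    exact h ⟨s, hs⟩
  obtain ⟨d₁, h₁⟩ := exists_add_single d j₀ hj₀
  rw [h₁, weight_add_single] at hd ⊢
  by_cases hd₁ : d₁ = 0
  · subst hd₁
    exfalso
    apply hne
    simp only [map_zero, zero_add] at hd
    have : j₀ = m := by
      have : w1 j₀ = j₀ + 1 := rfl
      omega
    rw [h₁, zero_add, this]
  · have h3 : m + 1 ≤ Finsupp.weight (wm (m + 1)) d₁ :=
      le_weight_of_ne_zero (fun s => le_max_left _ _) hd₁
    have h4 : m + 1 ≤ wm (m + 1) j₀ := le_max_left _ _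
    omega

/-! ### the predicates -/

section Abstract

variable {R : Type u} [CommRing R] [LambdaOps R] {F : ℕ → Ideal R}

/-- `γ^(i+1) u ∈ F (max a (i+1))` for all `i` -/
def Zmem (F : ℕ → Ideal R) (a : ℕ) (u : R) : Prop := ∀ i, gamma (i + 1) u ∈ F (max a (i + 1))

/-- `γ^a u ≡ (-1)^(a-1) (a-1)! u` modulo `F (a+1)` -/
def Zlead (F : ℕ → Ideal R) (a : ℕ) (u : R) : Prop :=
  gamma a u - ((cc a : ℤ) : R) * u ∈ F (a + 1)

structure Z (F : ℕ → Ideal R) (a : ℕ) (u : R) : Prop where
  mem : Zmem F a u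
  lead : Zlead F a u

theorem Zmem.self_mem {a : ℕ} {u : R} (h : Zmem F (a + 1) u) : u ∈ F (a + 1) := by
  have := h 0
  rwa [zero_add, gamma_one, max_eq_left (Nat.succ_le_succ (Nat.zero_le a))] at this

theorem Zmem.gamma_mem {a : ℕ} {u : R} (h : Zmem F (a + 1) u) : gamma (a + 1) u ∈ F (a + 1) := by
  have := h a
  rwa [max_self] at this

theorem Zmem.gamma_mem_left (hF : MulFil F) {a : ℕ} {u : R} (h : Zmem F a u) (i : ℕ) :
    gamma (i + 1) u ∈ F a :=
  hF.anti (le_max_left _ _) (h i)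

theorem Z_zero (a : ℕ) : Z F (a + 1) (0 : R) := by
  refine ⟨fun i => ?_, ?_⟩
  · rw [gamma_succ_zero]; exact Ideal.zero_mem _
  · unfold Zlead
    rw [gamma_succ_zero, mul_zero, sub_zero]; exact Ideal.zero_mem _

theorem Z_mono (hF : MulFil F) {w m : ℕ} {z : R} (hz : Z F w z) (hm : 1 ≤ m) (hmw : m ≤ w) :
    Z F m z := by
  obtain ⟨m', rfl⟩ : ∃ m', m = m' + 1 := ⟨m - 1, by omega⟩
  refine ⟨fun i => hF.anti (max_le_max hmw le_rfl) (hz.mem i), ?_⟩
  rcases Nat.eq_or_lt_of_le hmw with rfl | hlt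
  · exact hz.lead
  · unfold Zlead
    obtain ⟨w', rfl⟩ : ∃ w', w = w' + 1 := ⟨w - 1, by omega⟩
    apply Ideal.sub_mem
    · exact hF.anti (by omega) (hz.mem.gamma_mem_left hF m')
    · exact Ideal.mul_mem_left _ _ (hF.anti (by omega) hz.mem.self_mem)

theorem Z_add (hF : MulFil F) {a : ℕ} {u v : R} (hu : Z F (a + 1) u) (hv : Z F (a + 1) v) :
    Z F (a + 1) (u + v) := by
  have hterm : ∀ n j : ℕ, j ≤ n + 1 →
      gamma j u * gamma (n + 1 - j) v ∈ F (max (a + 1) (n + 1)) := by
    intro n j hj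
    rcases Nat.eq_zero_or_pos j with rfl | hjpos
    · rw [gamma_zero, one_mul, Nat.sub_zero]; exact hv.mem n
    · rcases Nat.eq_or_lt_of_le hj with rfl | hlt
      · rw [Nat.sub_self, gamma_zero, mul_one]; exact hu.mem n
      · obtain ⟨j', rfl⟩ : ∃ j', j = j' + 1 := ⟨j - 1, by omega⟩
        obtain ⟨l, hl⟩ : ∃ l, n + 1 - (j' + 1) = l + 1 := ⟨n - j' - 1, by omega⟩
        rw [hl]
        refine hF.anti ?_ (hF.mul (hu.mem j') (hv.mem l))
        rcases le_total (a + 1) (n + 1) with h1 | h1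
        · rw [max_eq_right h1]
          have e1 : j' + 1 ≤ max (a + 1) (j' + 1) := le_max_right _ _
          have e2 : l + 1 ≤ max (a + 1) (l + 1) := le_max_right _ _
          omega
        · rw [max_eq_left h1]
          have e1 : a + 1 ≤ max (a + 1) (j' + 1) := le_max_left _ _
          omega
  refine ⟨fun i => ?_, ?_⟩
  · rw [gamma_add]
    apply Ideal.sum_mem
    intro j hj
    rw [Finset.mem_range] at hj
    exact hterm i j (by omega)
  · unfold Zlead
    rw [gamma_add, Finset.sum_range_succ, Finset.sum_range_succ', Nat.sub_self, gamma_zero,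
      gamma_zero, one_mul, mul_one, Nat.sub_zero]
    have hcross : ∑ k ∈ range a, gamma (k + 1) u * gamma (a + 1 - (k + 1)) v ∈ F (a + 2) := by
      apply Ideal.sum_mem
      intro k hk
      rw [Finset.mem_range] at hk
      obtain ⟨l, hl⟩ : ∃ l, a + 1 - (k + 1) = l + 1 := ⟨a - k - 1, by omega⟩
      rw [hl]
      refine hF.anti ?_ (hF.mul (hu.mem.gamma_mem_left hF k) (hv.mem.gamma_mem_left hF l))
      omega
    have : ∑ k ∈ range a, gamma (k + 1) u * gamma (a + 1 - (k + 1)) v + gamma (a + 1) v +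
        gamma (a + 1) u - ((cc (a + 1) : ℤ) : R) * (u + v) =
        ∑ k ∈ range a, gamma (k + 1) u * gamma (a + 1 - (k + 1)) v +
        (gamma (a + 1) u - ((cc (a + 1) : ℤ) : R) * u) +
        (gamma (a + 1) v - ((cc (a + 1) : ℤ) : R) * v) := by ring
    rw [this]
    exact Ideal.add_mem _ (Ideal.add_mem _ hcross hu.lead) hv.lead

/-- **(M0)**: products -/
theorem Zmem_mul (hR : IsSpecial R) (hF : MulFil F) (a b : ℕ) {u v : R}
    (hu : Zmem F (a + 1) u) (hv : Zmem F (b + 1) v) : Zmem F (a + b + 2) (u * v) := by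
  intro i
  rw [gamma_mul_eq_evg2 hR, evg2]
  apply hF.aeval_mem (wab (a + 1) (b + 1)) _ _ _ _
    (fun d hd => by
      have := weight_wab_ge (a + 1) (b + 1) i d hd
      rwa [show a + 1 + (b + 1) = a + b + 2 by ring] at this)
  intro s
  rcases s with k | k
  · exact hu k
  · exact hv k

/-- the coefficient of `X_a Y_b` in the polynomial for `γ^(a+b+2)(xy)` -/
noncomputable def kap (a b : ℕ) : ℤ := coeff (d₀ a b) (Pg (a + b + 2))

theorem gamma_mul_lead (hR : IsSpecial R) (hF : MulFil F) (a b : ℕ) {u v : R}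
    (hu : Zmem F (a + 1) u) (hv : Zmem F (b + 1) v) :
    gamma (a + b + 2) (u * v) - ((kap a b : ℤ) : R) * (gamma (a + 1) u * gamma (b + 1) v) ∈
      F (a + b + 3) := by
  classical
  set P' := Pg (a + b + 2) - monomial (d₀ a b) (kap a b) with hP'
  have h1 : Pg (a + b + 2) = monomial (d₀ a b) (kap a b) + P' := by rw [hP']; ring
  have h2 : evg2 u v (monomial (d₀ a b) (kap a b)) =
      ((kap a b : ℤ) : R) * (gamma (a + 1) u * gamma (b + 1) v) := by
    rw [evg2, aeval_monomial, d₀, Finsupp.prod_add_index' (by simp) (by intros; rw [pow_add]),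
      Finsupp.prod_single_index (by simp), Finsupp.prod_single_index (by simp)]
    simp
  rw [gamma_mul_eq_evg2 hR, h1, map_add, h2, add_sub_cancel_left, evg2]
  apply hF.aeval_mem (wab (a + 1) (b + 1)) _ _ _ _
  · intro d hd
    have hcoeff : coeff d P' = coeff d (Pg (a + b + 2)) - if d₀ a b = d then kap a b else 0 := by
      rw [hP', coeff_sub, coeff_monomial]
    have hdne : d ≠ d₀ a b := by
      rintro rfl
      rw [mem_support_iff, hcoeff, if_pos rfl, kap, sub_self] at hd
      exact hd rfl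
    have hd' : d ∈ (Pg (a + b + 2)).support := by
      rw [mem_support_iff] at hd ⊢
      rw [hcoeff, if_neg (Ne.symm hdne), sub_zero] at hd
      exact hd
    exact weight_wab_gt a b d hd' hdne
  · intro s
    rcases s with k | k
    · exact hu k
    · exact hv k

/-- **(Γ)**: `γ^(i+1)` of a good element -/
theorem Z_gamma (hR : IsSpecial R) (hF : MulFil F) {x : R} (hx : GoodElt F x) (i : ℕ) :
    Z F (i + 1) (gamma (i + 1) x) := by
  refine ⟨fun k => ?_, ?_⟩
  · rw [gamma_gamma_eq_evg1 hR, evg1]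
    exact hF.aeval_mem w1 _ (fun s => hx (s + 1)) _ _ (Qg_wt_max i k)
  · unfold Zlead
    have : gamma (i + 1) (gamma (i + 1) x) - ((cc (i + 1) : ℤ) : R) * gamma (i + 1) x =
        evg1 x (Qg i i - C (cc (i + 1)) * X i) := by
      rw [map_sub, map_mul, ← gamma_gamma_eq_evg1 hR, evg1, aeval_C, aeval_X]
      simp
    rw [this, evg1]
    exact hF.aeval_mem w1 _ (fun s => hx (s + 1)) _ _ (Qg_lead i)

/-- evaluation of an isobaric polynomial of weight `n+1` at the `γ^j z` -/
theorem aeval_iso_mem {S : Type*} [CommRing S] [Algebra S R] (hF : MulFil F) (m n : ℕ) {z : R}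
    (hz : Zmem F m z) (Q : MvPolynomial ℕ S) (hQ : IsWeightedHomogeneous w1 Q (n + 1)) :
    aeval (fun j => gamma (j + 1) z) Q ∈ F (max m (n + 1)) := by
  apply hF.aeval_mem (wm m) _ (fun s => hz s)
  intro d hd
  exact weight_wm_ge m n d (hQ (mem_support_iff.mp hd))

/-- evaluation of an isobaric polynomial of weight `m+1`: only the linear term matters modulo
`F (m+2)` -/
theorem aeval_iso_lead {S : Type*} [CommRing S] [Algebra S R] (hF : MulFil F) (m : ℕ) {z : R}
    (hz : Zmem F (m + 1) z) (Q : MvPolynomial ℕ S) (hQ : IsWeightedHomogeneous w1 Q (m + 1)) :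
    aeval (fun j => gamma (j + 1) z) Q -
      algebraMap S R (coeff (Finsupp.single m 1) Q) * gamma (m + 1) z ∈ F (m + 2) := by
  classical
  set ℓ := coeff (Finsupp.single m 1) Q with hℓ
  set Q' := Q - monomial (Finsupp.single m 1) ℓ with hQ'
  have h1 : Q = monomial (Finsupp.single m 1) ℓ + Q' := by rw [hQ']; ring
  have h2 : aeval (fun j => gamma (j + 1) z) (monomial (Finsupp.single m 1) ℓ) =
      algebraMap S R ℓ * gamma (m + 1) z := by
    rw [aeval_monomial, Finsupp.prod_single_index (by simp), pow_one]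
  have h3 : aeval (fun j => gamma (j + 1) z) Q - algebraMap S R ℓ * gamma (m + 1) z =
      aeval (fun j => gamma (j + 1) z) Q' := by
    conv_lhs => rw [h1, map_add, h2]
    ring
  rw [h3]
  apply hF.aeval_mem (wm (m + 1)) _ (fun s => hz s)
  intro d hd
  have hcoeff : coeff d Q' = coeff d Q - if Finsupp.single m 1 = d then ℓ else 0 := by
    rw [hQ', coeff_sub, coeff_monomial]
  have hdne : d ≠ Finsupp.single m 1 := by
    rintro rfl
    rw [mem_support_iff, hcoeff, if_pos rfl, hℓ, sub_self] at hd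
    exact hd rfl
  have hd' : coeff d Q ≠ 0 := by
    rw [mem_support_iff, hcoeff, if_neg (Ne.symm hdne), sub_zero] at hd
    exact hd
  exact weight_wm_gt m d (hQ hd') hdne

end Abstract

end Groth.Agent.R2.H39.LamChern
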