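import Groth.Prelude.Def_LambdaSp
import Groth.Agent.R2.H39LamFil
import Groth.Agent.R2.H39LamGammaPoly
import Groth.Agent.R2.H39LamModel
import Groth.Agent.R2.H39LamWeight
import Groth.Agent.R2.H39LamBinom
import Groth.Agent.R2.H39LamAdams
import Groth.Agent.R2.H39LamLead
import Groth.Agent.R2.H39LamGFil
import Groth.Agent.R2.H39LamChern
import Mathlib

/-!
# helper39: `γ^m z ≡ (-1)^(m-1) (m-1)! z` modulo `Fil^(m+1)` for `z ∈ Fil^m`
-/

set_option autoImplicit false
universe u v
open MvPolynomial Finset LambdaRing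
open Groth.Agent.Lib.Helper4 Groth.Agent.Lib.Helper4.LUniv
open Groth.Agent.R2.H39.LamFil Groth.Agent.R2.H39.LamGP Groth.Agent.R2.H39.LamModel
  Groth.Agent.R2.H39.LamWt Groth.Agent.R2.H39.LamBinom Groth.Agent.R2.H39.LamAdams
  Groth.Agent.R2.H39.LamLead Groth.Agent.R2.H39.LamGFil Groth.Agent.R2.H39.LamChern

namespace Groth.Agent.R2.H39.LamChern

/-! ### computations in the one-variable model -/

section Model

/-- the variable of the one-variable model -/
noncomputable abbrev x₁ : MvPolynomial Unit ℚ := X ()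

theorem x_pow_mem (n : ℕ) : x₁ ^ n ∈ Dfil Unit n := by
  have := mulFil_Dfil.pow_mem (X_mem_Dfil ()) n
  rwa [mul_one] at this

theorem mem_Dfil_max {σ : Type} {f : MvPolynomial σ ℚ} {p q : ℕ} (hp : f ∈ Dfil σ p)
    (hq : f ∈ Dfil σ q) : f ∈ Dfil σ (max p q) := fun μ hμ => max_le (hp μ hμ) (hq μ hμ)

theorem Zmem_model {σ : Type} {f : MvPolynomial σ ℚ} (a : ℕ) (hf : f ∈ Dfil σ (a + 1))
    (hg : GoodElt (Dfil σ) f) : Zmem (Dfil σ) (a + 1) f :=
  fun i => mem_Dfil_max (gamma_lead i hf).1 (hg (i + 1))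

theorem goodElt_x_pow (a : ℕ) : GoodElt (Dfil Unit) (x₁ ^ (a + 1)) :=
  goodElt_pow (isSpecial_model Unit) mulFil_Dfil (goodElt_X ()) a

theorem Zmem_x_pow (a : ℕ) : Zmem (Dfil Unit) (a + 1) (x₁ ^ (a + 1)) :=
  Zmem_model a (x_pow_mem (a + 1)) (goodElt_x_pow a)

theorem intCast_mul_pow_mem (q : ℤ) (n : ℕ)
    (h : ((q : ℤ) : MvPolynomial Unit ℚ) * x₁ ^ n ∈ Dfil Unit (n + 1)) : q = 0 := by
  by_contra hq
  have h1 : ((q : ℤ) : MvPolynomial Unit ℚ) * x₁ ^ n = monomial (Finsupp.single () n) (q : ℚ) := by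
    rw [← C_mul_X_pow_eq_monomial]
    simp
  rw [h1] at h
  have hq' : (q : ℚ) ≠ 0 := by exact_mod_cast hq
  have h2 := h (Finsupp.single () n) (by rw [support_monomial, if_neg hq']; exact Finset.mem_singleton_self _)
  simp at h2

theorem kap_mul_cc (a b : ℕ) : kap a b * cc (a + 1) * cc (b + 1) = cc (a + b + 2) := by
  have hu := Zmem_x_pow a
  have hv := Zmem_x_pow b
  have h1 := gamma_mul_lead (isSpecial_model Unit) mulFil_Dfil a b hu hv
  have huv : x₁ ^ (a + 1) * x₁ ^ (b + 1) = x₁ ^ (a + b + 2) := by rw [← pow_add]; congr 1; ring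
  have h2 := gamma_lead_top (σ := Unit) (a + b + 1) (x_pow_mem (a + b + 1 + 1))
  have h3 := gamma_lead_top (σ := Unit) a (x_pow_mem (a + 1))
  have h4 := gamma_lead_top (σ := Unit) b (x_pow_mem (b + 1))
  rw [huv] at h1
  have key : (((cc (a + b + 2) - kap a b * cc (a + 1) * cc (b + 1) : ℤ)) : MvPolynomial Unit ℚ) *
      x₁ ^ (a + b + 2) ∈ Dfil Unit (a + b + 2 + 1) := by
    have e : (((cc (a + b + 2) - kap a b * cc (a + 1) * cc (b + 1) : ℤ)) : MvPolynomial Unit ℚ) *
        x₁ ^ (a + b + 2) =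
        -(gamma (a + b + 1 + 1) (x₁ ^ (a + b + 1 + 1)) -
            ((cc (a + b + 1 + 1) : ℤ) : MvPolynomial Unit ℚ) * x₁ ^ (a + b + 1 + 1)) +
        (gamma (a + b + 2) (x₁ ^ (a + b + 2)) - ((kap a b : ℤ) : MvPolynomial Unit ℚ) *
            (gamma (a + 1) (x₁ ^ (a + 1)) * gamma (b + 1) (x₁ ^ (b + 1)))) +
        ((kap a b : ℤ) : MvPolynomial Unit ℚ) *
          ((gamma (a + 1) (x₁ ^ (a + 1)) - ((cc (a + 1) : ℤ) : MvPolynomial Unit ℚ) * x₁ ^ (a + 1)) *
              gamma (b + 1) (x₁ ^ (b + 1)) +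
            ((cc (a + 1) : ℤ) : MvPolynomial Unit ℚ) * (x₁ ^ (a + 1) *
              (gamma (b + 1) (x₁ ^ (b + 1)) - ((cc (b + 1) : ℤ) : MvPolynomial Unit ℚ) * x₁ ^ (b + 1)))) := by
      have e1 : x₁ ^ (a + b + 2) = x₁ ^ (a + 1) * x₁ ^ (b + 1) := huv.symm
      have e2 : a + b + 1 + 1 = a + b + 2 := by ring
      rw [e2]
      push_cast
      rw [e1]
      ring
    rw [e]
    apply Ideal.add_mem
    · apply Ideal.add_mem
      · exact neg_mem h2
      · exact h1
    · apply Ideal.mul_mem_left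
      apply Ideal.add_mem
      · have := mulFil_Dfil.mul h3 hv.gamma_mem
        rwa [show a + 2 + (b + 1) = a + b + 2 + 1 by ring] at this
      · apply Ideal.mul_mem_left
        have := mulFil_Dfil.mul (x_pow_mem (a + 1)) h4
        rwa [show a + 1 + (b + 2) = a + b + 2 + 1 by ring] at this
  have := intCast_mul_pow_mem _ _ key
  omega

theorem evg1_phi_nat' {τ : Type} (f : MvPolynomial τ ℚ) (k : ℕ) (P : MvPolynomial (ℕ ⊕ ℕ) ℤ) :
    evg1 f (phi ℤ (k : ℤ) P) = evmix ((k : ℕ) : MvPolynomial τ ℚ) f P := by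
  have : ((evg1 f : MvPolynomial ℕ ℤ →+* MvPolynomial τ ℚ)).comp
      (phi ℤ (k : ℤ) : MvPolynomial (ℕ ⊕ ℕ) ℤ →+* MvPolynomial ℕ ℤ) =
      (evmix ((k : ℕ) : MvPolynomial τ ℚ) f :
        MvPolynomial (ℕ ⊕ ℕ) ℤ →+* MvPolynomial τ ℚ) := by
    apply MvPolynomial.ringHom_ext
    · intro r; simp
    · intro i
      simp only [RingHom.comp_apply, RingHom.coe_coe]
      rw [phi, aeval_X, evmix, aeval_X]
      rcases i with j | j
      · simp only [Sum.elim_inl]
        rw [lam_natCast_model, Ring.choose_natCast, evg1, aeval_C]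
        simp
      · simp only [Sum.elim_inr]
        rw [evg1, aeval_X]
  exact congrArg (fun f => f P) this

theorem cc_ne_zero (m : ℕ) : cc m ≠ 0 := by
  unfold cc
  apply mul_ne_zero
  · exact pow_ne_zero _ (by norm_num)
  · exact_mod_cast Nat.factorial_ne_zero _

/-- for natural `k`, the linear coefficient of `φ_k(Pmix (m+1))` is `k` -/
theorem coeff_phi_nat_Pmix (k m : ℕ) :
    coeff (Finsupp.single m 1) (phi ℤ (k : ℤ) (Pmix (m + 1))) = (k : ℤ) := by
  set ℓ := coeff (Finsupp.single m 1) (phi ℤ (k : ℤ) (Pmix (m + 1))) with hℓ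
  set f : MvPolynomial Unit ℚ := x₁ ^ (m + 1) with hf
  have hfm := Zmem_x_pow m
  have h1 := aeval_iso_lead (S := ℤ) mulFil_Dfil m hfm (phi ℤ (k : ℤ) (Pmix (m + 1)))
    (phi_nat_Pmix_isWeightedHomogeneous k (m + 1))
  have h1' : aeval (fun j => gamma (j + 1) f) (phi ℤ (k : ℤ) (Pmix (m + 1))) =
      gamma (m + 1) (((k : ℕ) : MvPolynomial Unit ℚ) * f) := by
    have := evg1_phi_nat' f k (Pmix (m + 1))
    rw [← gamma_mul_eq_evmix (isSpecial_model Unit)] at this
    exact this
  rw [← hf, h1', ← hℓ] at h1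
  have hkf : ((k : ℕ) : MvPolynomial Unit ℚ) * f ∈ Dfil Unit (m + 1) :=
    Ideal.mul_mem_left _ _ (x_pow_mem (m + 1))
  have h2 := gamma_lead_top (σ := Unit) m hkf
  have h3 := gamma_lead_top (σ := Unit) m (x_pow_mem (m + 1))
  rw [← hf] at h3
  have key : (((cc (m + 1) * ((k : ℤ) - ℓ) : ℤ)) : MvPolynomial Unit ℚ) * x₁ ^ (m + 1) ∈
      Dfil Unit (m + 1 + 1) := by
    have e : (((cc (m + 1) * ((k : ℤ) - ℓ) : ℤ)) : MvPolynomial Unit ℚ) * x₁ ^ (m + 1) =
        -(gamma (m + 1) (((k : ℕ) : MvPolynomial Unit ℚ) * f) -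
            ((cc (m + 1) : ℤ) : MvPolynomial Unit ℚ) * (((k : ℕ) : MvPolynomial Unit ℚ) * f)) +
        (gamma (m + 1) (((k : ℕ) : MvPolynomial Unit ℚ) * f) -
            (algebraMap ℤ (MvPolynomial Unit ℚ)) ℓ * gamma (m + 1) f) +
        (algebraMap ℤ (MvPolynomial Unit ℚ)) ℓ *
          (gamma (m + 1) f - ((cc (m + 1) : ℤ) : MvPolynomial Unit ℚ) * f) := by
      rw [← hf]
      simp only [eq_intCast]
      push_cast
      ring
    rw [e]
    exact Ideal.add_mem _ (Ideal.add_mem _ (neg_mem h2) h1) (Ideal.mul_mem_left _ _ h3)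
  have h4 := intCast_mul_pow_mem _ _ key
  have h5 := (mul_eq_zero.mp h4).resolve_left (cc_ne_zero (m + 1))
  omega

end Model

/-! ### the linear coefficient for an arbitrary binomial ring -/

section Lin

variable (K : Type u) [CommRing K] [BinomialRing K]

/-- weights: degree in the second family -/
def wdeg : ℕ ⊕ ℕ → ℕ := Sum.elim (fun _ => 0) (fun _ => 1)

theorem phi_gen_deg (k : K) (i : ℕ ⊕ ℕ) :
    IsWeightedHomogeneous (1 : ℕ → ℕ)
      (Sum.elim (fun j => (C (Ring.choose k (j + 1)) : MvPolynomial ℕ K)) (fun j => X j) i)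
      (wdeg i) := by
  rcases i with j | j
  · exact isWeightedHomogeneous_C _ _
  · exact isWeightedHomogeneous_X _ _ _

theorem comp_one_phi (k : K) (m : ℕ) :
    weightedHomogeneousComponent (1 : ℕ → ℕ) 1 (phi K k (Pmix (m + 1))) =
      monomial (Finsupp.single m 1) (coeff (Finsupp.single m 1) (phi K k (Pmix (m + 1)))) := by
  classical
  ext d
  rw [coeff_weightedHomogeneousComponent, coeff_monomial]
  by_cases hd : Finsupp.single m 1 = d
  · subst hd
    rw [if_pos rfl, if_pos]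
    rw [Finsupp.weight_single]; simp
  · rw [if_neg hd]
    split_ifs with h1
    · by_contra hne
      apply hd
      have hw := phi_Pmix_isWeightedHomogeneous K k (m + 1) hne
      have hd0 : d ≠ 0 := by
        rintro rfl
        simp at h1
      obtain ⟨j₀, hj₀⟩ : ∃ s, d s ≠ 0 := by
        by_contra h
        apply hd0
        ext s
        by_contra hs
        exact h ⟨s, hs⟩
      obtain ⟨d₁, h₁⟩ := exists_add_single d j₀ hj₀
      rw [h₁, weight_add_single] at h1 hw
      have hd₁ : d₁ = 0 := by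
        by_contra hd₁
        have := le_weight_of_ne_zero (w := (1 : ℕ → ℕ)) (c := 1) (fun _ => le_rfl) hd₁
        simp only [Pi.one_apply] at h1
        omega
      subst hd₁
      simp only [map_zero, zero_add] at hw
      have : j₀ = m := by
        have : w1 j₀ = j₀ + 1 := rfl
        omega
      rw [h₁, zero_add, this]
    · rfl

/-- the polynomial whose vanishing under `φ_k` says that the linear coefficient is `k` -/
noncomputable def Dlin (m : ℕ) : MvPolynomial (ℕ ⊕ ℕ) ℤ :=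
  weightedHomogeneousComponent wdeg 1 (Pmix (m + 1)) - X (Sum.inl 0) * X (Sum.inr m)

theorem phi_Dlin (k : K) (m : ℕ) :
    phi K k (Dlin m) = monomial (Finsupp.single m 1)
      (coeff (Finsupp.single m 1) (phi K k (Pmix (m + 1))) - k) := by
  classical
  have e : monomial (Finsupp.single m 1)
      (coeff (Finsupp.single m 1) (phi K k (Pmix (m + 1))) - k) =
      monomial (Finsupp.single m 1) (coeff (Finsupp.single m 1) (phi K k (Pmix (m + 1)))) -
        monomial (Finsupp.single m 1) k := map_sub _ _ _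
  rw [Dlin, map_sub, e, ← comp_one_phi]
  congr 1
  · rw [phi, ← weightedHomogeneousComponent_aeval wdeg (1 : ℕ → ℕ) _ (phi_gen_deg K k)]
  · rw [map_mul, phi, aeval_X, aeval_X, Sum.elim_inl, Sum.elim_inr, Ring.choose_one_right,
      C_mul_X_eq_monomial]

/-- the coefficient of `X_m` in `φ_k(Pmix (m+1))` is `k` -/
theorem coeff_phi_Pmix (k : K) (m : ℕ) :
    coeff (Finsupp.single m 1) (phi K k (Pmix (m + 1))) = k := by
  have h0 : phi K k (Dlin m) = 0 := by
    apply phi_eq_zero_of_nat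
    intro k'
    rw [phi_Dlin ℤ, coeff_phi_nat_Pmix, sub_self, monomial_zero]
  rw [phi_Dlin, monomial_eq_zero] at h0
  exact sub_eq_zero.mp h0

end Lin

/-! ### products and scalar multiples -/

section Abstract

variable {R : Type u} [CommRing R] [LambdaOps R] {F : ℕ → Ideal R}

/-- **(M)** -/
theorem Z_mul (hR : IsSpecial R) (hF : MulFil F) (a b : ℕ) {u v : R}
    (hu : Z F (a + 1) u) (hv : Z F (b + 1) v) : Z F (a + b + 2) (u * v) := by
  refine ⟨Zmem_mul hR hF a b hu.mem hv.mem, ?_⟩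
  unfold Zlead
  have h1 := gamma_mul_lead hR hF a b hu.mem hv.mem
  have e : ((cc (a + b + 2) : ℤ) : R) =
      ((kap a b : ℤ) : R) * ((cc (a + 1) : ℤ) : R) * ((cc (b + 1) : ℤ) : R) := by
    rw [← kap_mul_cc a b]; push_cast; ring
  have e2 : gamma (a + b + 2) (u * v) - ((cc (a + b + 2) : ℤ) : R) * (u * v) =
      (gamma (a + b + 2) (u * v) - ((kap a b : ℤ) : R) * (gamma (a + 1) u * gamma (b + 1) v)) +
      ((kap a b : ℤ) : R) * ((gamma (a + 1) u - ((cc (a + 1) : ℤ) : R) * u) * gamma (b + 1) v +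
        ((cc (a + 1) : ℤ) : R) * (u * (gamma (b + 1) v - ((cc (b + 1) : ℤ) : R) * v))) := by
    rw [e]; ring
  rw [e2]
  apply Ideal.add_mem _ h1
  apply Ideal.mul_mem_left
  apply Ideal.add_mem
  · have := hF.mul hu.lead hv.mem.gamma_mem
    rwa [show a + 1 + 1 + (b + 1) = a + b + 2 + 1 by ring] at this
  · apply Ideal.mul_mem_left
    have := hF.mul hu.mem.self_mem hv.lead
    rwa [show a + 1 + (b + 1 + 1) = a + b + 2 + 1 by ring] at this

end Abstract

section Smul

variable {K : Type u} [CommRing K] [LambdaOps K] [BinomialRing K]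
  {A : Type v} [CommRing A] [LambdaOps A] [Algebra K A] {F : ℕ → Ideal A}

theorem Z_smul (hKb : IsBinomial K) (hKA : IsLambdaAlg K A) (hA : IsSpecial A) (hF : MulFil F)
    (m : ℕ) (k : K) {z : A} (hz : Z F (m + 1) z) : Z F (m + 1) (algebraMap K A k * z) := by
  refine ⟨fun i => ?_, ?_⟩
  · rw [gamma_mul_eq_evmix hA, evmix_algebraMap hKb hKA]
    exact aeval_iso_mem hF (m + 1) i hz.mem _ (phi_Pmix_isWeightedHomogeneous K k (i + 1))
  · unfold Zlead
    have h1 := aeval_iso_lead (S := K) hF m hz.mem (phi K k (Pmix (m + 1)))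
      (phi_Pmix_isWeightedHomogeneous K k (m + 1))
    rw [coeff_phi_Pmix, ← evmix_algebraMap hKb hKA, ← gamma_mul_eq_evmix hA] at h1
    have e : gamma (m + 1) (algebraMap K A k * z) - ((cc (m + 1) : ℤ) : A) * (algebraMap K A k * z) =
        (gamma (m + 1) (algebraMap K A k * z) - algebraMap K A k * gamma (m + 1) z) +
        algebraMap K A k * (gamma (m + 1) z - ((cc (m + 1) : ℤ) : A) * z) := by ring
    rw [e]
    exact Ideal.add_mem _ h1 (Ideal.mul_mem_left _ _ hz.lead)

end Smul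

/-! ### the γ-filtration -/

section Final

variable (K : Type u) [CommRing K] [LambdaOps K] [BinomialRing K]
  (A : Type v) [CommRing A] [LambdaOps A] [Algebra K A]

omit [LambdaOps K] [BinomialRing K] [Algebra K A] in
theorem Z_list_prod (hA : IsSpecial A) (ε : A →+* K) (l : List (ℕ × A)) (hl : ∀ p ∈ l, ε p.2 = 0) :
    ((l.map Prod.fst).sum = 0 → (l.map fun p => gamma p.1 p.2).prod = 1) ∧
      (∀ w, (l.map Prod.fst).sum = w + 1 →
        Z (gammaFil ε) (w + 1) (l.map fun p => gamma p.1 p.2).prod) := by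
  have hF := mulFil_gammaFil ε
  induction l with
  | nil => exact ⟨fun _ => by simp, fun w hw => by simp at hw⟩
  | cons p l ih =>
    obtain ⟨ih1, ih2⟩ := ih fun q hq => hl q (List.mem_cons_of_mem _ hq)
    have hp : ε p.2 = 0 := hl p (by simp)
    have hgood : GoodElt (gammaFil ε) p.2 := fun i => gamma_mem_gammaFil ε hp i
    simp only [List.map_cons, List.prod_cons, List.sum_cons]
    constructor
    · intro h
      have h1 : p.1 = 0 := by omega
      have h2 : (l.map Prod.fst).sum = 0 := by omega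
      rw [h1, gamma_zero, one_mul, ih1 h2]
    · intro w hw
      rcases Nat.eq_zero_or_pos p.1 with h1 | h1
      · rw [h1, gamma_zero, one_mul]
        exact ih2 w (by omega)
      · obtain ⟨i, hi⟩ : ∃ i, p.1 = i + 1 := ⟨p.1 - 1, by omega⟩
        have hg := Z_gamma hA hF hgood i
        rw [hi]
        rcases Nat.eq_zero_or_pos (l.map Prod.fst).sum with h2 | h2
        · rw [ih1 h2, mul_one]
          have : w = i := by omega
          rw [this]; exact hg
        · obtain ⟨j, hj⟩ : ∃ j, (l.map Prod.fst).sum = j + 1 := ⟨(l.map Prod.fst).sum - 1, by omega⟩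
          have := Z_mul hA hF i j hg (ih2 j hj)
          have hw' : w + 1 = i + j + 2 := by omega
          rw [hw']; exact this

/-- for `z ∈ Fil^(m+1)`: all `γ^i z` (`i ≥ 1`) lie in `Fil^(max (m+1) i)` and
`γ^(m+1) z ≡ (-1)^m m! z` modulo `Fil^(m+2)` -/
theorem Z_of_mem_gammaFil (hKb : IsBinomial K) (hA : IsSpecial A) (ε : A →ₐ[K] K)
    (hε : IsAugLambdaAlg K A ε) (m : ℕ) (z : A) (hz : z ∈ gammaFil (ε : A →+* K) (m + 1)) :
    Z (gammaFil (ε : A →+* K)) (m + 1) z := by
  have hF := mulFil_gammaFil (ε : A →+* K)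
  change z ∈ Ideal.span _ at hz
  induction hz using Submodule.span_induction with
  | mem y hy =>
    obtain ⟨l, hl, hn, rfl⟩ := hy
    obtain ⟨w, hw⟩ : ∃ w, (l.map Prod.fst).sum = w + 1 := ⟨(l.map Prod.fst).sum - 1, by omega⟩
    exact Z_mono hF ((Z_list_prod K A hA (ε : A →+* K) l hl).2 w hw) (by omega) (by omega)
  | zero => exact Z_zero m
  | add x y _ _ hx hy => exact Z_add hF hx hy
  | smul a x _ hx =>
    have hsplit : a • x = algebraMap K A (ε a) * x + (a - algebraMap K A (ε a)) * x := by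
      rw [smul_eq_mul]; ring
    rw [hsplit]
    apply Z_add hF
    · exact Z_smul hKb hε.isLambdaAlg hA hF m (ε a) hx
    · have ha' : (ε : A →+* K) (a - algebraMap K A (ε a)) = 0 := by
        change ε (a - algebraMap K A (ε a)) = 0
        rw [map_sub, AlgHom.commutes]
        simp
      have hgood : GoodElt (gammaFil (ε : A →+* K)) (a - algebraMap K A (ε a)) :=
        fun i => gamma_mem_gammaFil _ ha' i
      have h1 := Z_gamma hA hF hgood 0
      rw [zero_add, gamma_one] at h1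
      have h2 := Z_mul hA hF 0 m h1 hx
      exact Z_mono hF h2 (by omega) (by omega)

end Final

end Groth.Agent.R2.H39.LamChern
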