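import Groth.Agent.R2.H39SplitSpecial
import Groth.Agent.R2.H39LamChern2
import Groth.Agent.Lib.Helper4LambdaSigma
import Groth.Agent.Lib.Helper4LambdaFil
import Groth.Agent.Lib.Helper4LambdaInv
import Mathlib

/-!
# helper39: bridge between `LambdaRing.gammaFiltration P` and `LambdaRing.gammaFil ε`

For a λ-ring `K` with positive structure `P` having the splitting property, `K` is an augmented λ-algebra over
`ℤ` (binomial λ-structure) through `P.aug`, and the additive subgroups `gammaFiltration P n` are the ideals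
`gammaFil P.aug n`.  Consequences: the behaviour of the γ-operations on the γ-filtration
(`γ^i(F^m) ⊆ F^(max m i)`, `γ^m z ≡ (-1)^(m-1)(m-1)! z` mod `F^(m+1)` for `z ∈ F^m`).
-/

set_option autoImplicit false
universe u
open Finset LambdaRing
open Groth.Agent.Lib.Helper4
open Groth.Agent.R2.H39.LamFil Groth.Agent.R2.H39.LamGFil Groth.Agent.R2.H39.LamChern
  Groth.Agent.R2.H39.LamAdams Groth.Agent.R2.H39.SplitSpecial

namespace Groth.Agent.R2.H39.SplitBridge

/-- the binomial λ-structure on `ℤ` -/
@[reducible] def intOps : LambdaOps ℤ := binomialLambdaOps ℤ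

attribute [scoped instance] intOps

theorem isBinomial_int : IsBinomial ℤ := fun _ _ => rfl

theorem lam_one_int (k : ℕ) (hk : 2 ≤ k) : LambdaOps.lam k (1 : ℤ) = 0 := by
  change Ring.choose (1 : ℤ) k = 0
  have := Ring.choose_natCast (R := ℤ) 1 k
  rw [Nat.cast_one] at this
  rw [this, Nat.choose_eq_zero_of_lt (by omega)]
  rfl

variable {K : Type u} [CommRing K] [LambdaOps K] (P : PosStructure K)

/-- the augmentation as a `ℤ`-algebra homomorphism -/
def augAlg : K →ₐ[ℤ] ℤ := P.aug.toIntAlgHom

@[simp] theorem augAlg_apply (x : K) : augAlg P x = P.aug x := rfl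

include P in
theorem lamSeries_intCast (m : ℤ) :
    lamSeries ((m : K)) = PowerSeries.map (Int.castRingHom K) (lamSeries m) := by
  have h1K := lam_one_eq_zero P
  have hone : lamSeries ((1 : ℤ) : K) = PowerSeries.map (Int.castRingHom K) (lamSeries (1 : ℤ)) := by
    rw [Int.cast_one, lamSeries_one h1K, lamSeries_one lam_one_int]
    simp
  induction m using Int.induction_on with
  | zero => simp
  | succ n ih =>
    rw [Int.cast_add, lamSeries_add, lamSeries_add, map_mul, ih, hone]
  | pred n ih =>
    have hu : IsUnit (lamSeries ((1 : ℤ) : K)) := isUnit_lamSeries _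
    apply hu.mul_right_cancel
    rw [← lamSeries_add, ← Int.cast_add, sub_add_cancel, ih]
    conv_rhs => rw [hone, ← map_mul, ← lamSeries_add, sub_add_cancel]

theorem map_aug_lamSeries_all (hK : HasSplitting K P) (a : K) :
    PowerSeries.map P.aug (lamSeries a) = lamSeries (P.aug a) := by
  have hpos : ∀ e ∈ P.pos, PowerSeries.map P.aug (lamSeries e) = lamSeries (P.aug e) := by
    intro e he
    rw [map_aug_lamSeries hK e he]
    have h0 : 0 < P.aug e := P.aug_pos e he
    have h2 : P.aug e = (((P.aug e).toNat : ℕ) : ℤ) := (Int.toNat_of_nonneg h0.le).symm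
    conv_rhs => rw [h2, lamSeries_natCast lam_one_int]
  obtain ⟨e, f, he, hf, rfl⟩ := P.exists_sub a
  have hu : IsUnit (lamSeries (P.aug f)) := isUnit_lamSeries _
  apply hu.mul_right_cancel
  rw [← hpos f hf, ← map_mul, lamSeries_sub_mul, hpos e he, hpos f hf, ← lamSeries_add, map_sub,
    sub_add_cancel]

theorem isAugLambdaAlg (hK : HasSplitting K P) : IsAugLambdaAlg ℤ K (augAlg P) where
  isLambdaAlg n m := by
    have := congrArg (PowerSeries.coeff n) (lamSeries_intCast P m)
    rw [coeff_lamSeries, PowerSeries.coeff_map, coeff_lamSeries] at this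
    exact this.symm
  map_lam n a := by
    have := congrArg (PowerSeries.coeff n) (map_aug_lamSeries_all P hK a)
    rw [PowerSeries.coeff_map, coeff_lamSeries, coeff_lamSeries] at this
    exact this

theorem mem_gammaFil_iff (n : ℕ) (x : K) :
    x ∈ gammaFil ((augAlg P : K →ₐ[ℤ] ℤ) : K →+* ℤ) n ↔ x ∈ gammaFiltration P n := by
  by_cases hn : n = 0
  · subst hn
    rw [gammaFiltration_zero]
    refine ⟨fun _ => trivial, fun _ => ?_⟩
    rw [(mulFil_gammaFil _).zero]; trivial
  rw [gammaFiltration_of_ne_zero P hn]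
  constructor
  · intro hx
    change x ∈ Ideal.span _ at hx
    induction hx using Submodule.span_induction with
    | mem y hy => exact AddSubgroup.subset_closure hy
    | zero => exact AddSubgroup.zero_mem _
    | add y z _ _ hy hz => exact AddSubgroup.add_mem _ hy hz
    | smul a y _ hy =>
      have := mul_mem_gammaFiltration_left P n a y (by rw [gammaFiltration_of_ne_zero P hn]; exact hy)
      rw [gammaFiltration_of_ne_zero P hn] at this
      exact this
  · intro hx
    induction hx using AddSubgroup.closure_induction with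
    | mem y hy => exact Ideal.subset_span hy
    | zero => exact Ideal.zero_mem _
    | add y z _ _ hy hz => exact Ideal.add_mem _ hy hz
    | neg y _ hy => exact Submodule.neg_mem _ hy

/-- for `z ∈ F^(m+1)` and `i ≥ 1`: `γ^i z ∈ F^(max (m+1) i)` -/
theorem gamma_mem_of_mem (hK : HasSplitting K P) (m i : ℕ) {z : K}
    (hz : z ∈ gammaFiltration P (m + 1)) :
    gamma (i + 1) z ∈ gammaFiltration P (max (m + 1) (i + 1)) := by
  rw [← mem_gammaFil_iff] at hz ⊢
  exact (Z_of_mem_gammaFil ℤ K isBinomial_int (isSpecial_of_hasSplitting hK) (augAlg P)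
    (isAugLambdaAlg P hK) m z hz).mem i

/-- for `z ∈ F^(m+1)`: `γ^(m+1) z ≡ (-1)^m m! z` modulo `F^(m+2)` -/
theorem gamma_lead_of_mem (hK : HasSplitting K P) (m : ℕ) {z : K}
    (hz : z ∈ gammaFiltration P (m + 1)) :
    gamma (m + 1) z - ((cc (m + 1) : ℤ) : K) * z ∈ gammaFiltration P (m + 1 + 1) := by
  rw [← mem_gammaFil_iff] at hz ⊢
  exact (Z_of_mem_gammaFil ℤ K isBinomial_int (isSpecial_of_hasSplitting hK) (augAlg P)
    (isAugLambdaAlg P hK) m z hz).lead

end Groth.Agent.R2.H39.SplitBridge
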