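import Groth.Agent.R2.H39Rees
import Groth.Agent.R2.H39SplitBridge
import Groth.Agent.Lib.Helper4LambdaUniv
import Groth.Agent.Lib.Helper4LambdaAdamsFil
import Mathlib

/-!
# helper39: the Chern character with values in `KGr.Gr P`

* evaluation of isobaric polynomials at classes `cls (w i) (g i)`;
* the operations `zeta k a = ν_k(γ^1 a, …, γ^k a)` (Newton polynomials of the γ-operations), additive in `a`;
* `chPoly d = d + Σ_{1 ≤ k ≤ d} ν_k / k!`;
* `chK P d x = ε(x) + Σ_{1 ≤ k ≤ d} (1/k!) [zeta k (x - ε x)]_k`.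
-/

set_option autoImplicit false
set_option linter.unusedSectionVars false
universe v
open LambdaRing KGr MvPolynomial
open Groth.Agent.Lib.Helper4 Groth.Agent.Lib.Helper4.LUniv
open Groth.Agent.R2.H39.Rees Groth.Agent.R2.H39.LamWt

namespace Groth.Agent.R2.H39.ChernChar

noncomputable section

variable {K : Type v} [CommRing K] [LambdaOps K] (P : PosStructure K)

local notation "CL" => LaurentPolynomial.C
local notation "TL" => LaurentPolynomial.T

/-! ### isobaric polynomials in Laurent monomials -/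

theorem prod_laurent (w : ℕ → ℕ) (g : ℕ → K) (v : ℕ →₀ ℕ) (s : Finset ℕ) :
    ∏ i ∈ s, (CL (g i) * TL (-(w i : ℤ)) : LaurentPolynomial K) ^ v i =
      CL (∏ i ∈ s, g i ^ v i) * TL (-((∑ i ∈ s, v i * w i : ℕ) : ℤ)) := by
  classical
  induction s using Finset.induction_on with
  | empty => simp
  | insert a s ha ih =>
    rw [Finset.prod_insert ha, Finset.prod_insert ha, Finset.sum_insert ha, ih, mul_pow, ← map_pow,
      LaurentPolynomial.T_pow, map_mul, Nat.cast_add, neg_add, LaurentPolynomial.T_add, Nat.cast_mul, mul_neg]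
    ring

theorem aeval_laurent_monomial (w : ℕ → ℕ) (g : ℕ → K) (v : ℕ →₀ ℕ) (c : ℤ) :
    aeval (fun i => (CL (g i) * TL (-(w i : ℤ)) : LaurentPolynomial K)) (monomial v c) =
      CL (aeval g (monomial v c)) * TL (-((Finsupp.weight w v : ℕ) : ℤ)) := by
  rw [aeval_monomial, aeval_monomial, Finsupp.prod, Finsupp.prod, prod_laurent, map_mul,
    Finsupp.weight_apply, Finsupp.sum]
  have : algebraMap ℤ (LaurentPolynomial K) c = CL (algebraMap ℤ K c) := by
    simp
  rw [this]
  simp only [smul_eq_mul]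
  ring

theorem aeval_laurent (w : ℕ → ℕ) (g : ℕ → K) (Q : MvPolynomial ℕ ℤ) (k : ℕ)
    (hQ : IsWeightedHomogeneous w Q k) :
    aeval (fun i => (CL (g i) * TL (-(w i : ℤ)) : LaurentPolynomial K)) Q =
      CL (aeval g Q) * TL (-(k : ℤ)) := by
  conv_lhs => rw [Q.as_sum]
  conv_rhs => rw [Q.as_sum]
  rw [map_sum, map_sum, map_sum, Finset.sum_mul]
  apply Finset.sum_congr rfl
  intro v hv
  rw [aeval_laurent_monomial, hQ (mem_support_iff.mp hv)]

/-- evaluation of an isobaric polynomial at classes -/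
theorem aeval_cls (w : ℕ → ℕ) (g : ∀ i, gammaFiltration P (w i)) (Q : MvPolynomial ℕ ℤ) (k : ℕ)
    (hQ : IsWeightedHomogeneous w Q k) :
    ∃ h : aeval (fun i => ((g i : gammaFiltration P (w i)) : K)) Q ∈ gammaFiltration P k,
      aeval (fun i => cls P (w i) (g i)) Q = cls P k ⟨_, h⟩ := by
  set R : rees P := aeval (fun i => reesElt P (w i) (g i)) Q with hR
  have hval : (R : LaurentPolynomial K) =
      CL (aeval (fun i => ((g i : gammaFiltration P (w i)) : K)) Q) * TL (-(k : ℤ)) := by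
    rw [← aeval_laurent w _ Q k hQ, hR]
    exact comp_aeval_apply _ (rees P).subtype.toIntAlgHom Q
  have hmem : aeval (fun i => ((g i : gammaFiltration P (w i)) : K)) Q ∈ gammaFiltration P k := by
    have := (mem_rees_iff P).mp R.2 (-(k : ℤ))
    rw [hval, coeff_C_mul_T, if_pos rfl, neg_neg, Int.toNat_natCast] at this
    exact this
  refine ⟨hmem, ?_⟩
  have h1 : aeval (fun i => cls P (w i) (g i)) Q = Ideal.Quotient.mk (Ideal.span {tGen P}) R := by
    rw [hR]
    exact (comp_aeval_apply _ (Ideal.Quotient.mk (Ideal.span {tGen P})).toIntAlgHom Q).symm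
  rw [h1, cls_apply]
  congr 1
  exact Subtype.ext hval

/-! ### Newton polynomials of the γ-operations -/

theorem nu_isWeightedHomogeneous (k : ℕ) : IsWeightedHomogeneous w1 (nu k) k := by
  induction k using Nat.strong_induction_on with
  | _ k ih =>
    rcases k with _ | n
    · rw [nu]; exact isWeightedHomogeneous_zero ℤ w1 0
    · rw [nu_succ]
      have hC : ∀ c : ℤ, IsWeightedHomogeneous w1 (C c : MvPolynomial ℕ ℤ) 0 :=
        fun c => isWeightedHomogeneous_C w1 c
      have h1 : IsWeightedHomogeneous w1 ((-1 : MvPolynomial ℕ ℤ) ^ n) 0 := by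
        have : ((-1 : MvPolynomial ℕ ℤ) ^ n) = C ((-1) ^ n) := by simp
        rw [this]; exact hC _
      have h2 : IsWeightedHomogeneous w1 (X n * ((n : MvPolynomial ℕ ℤ) + 1)) (n + 1) := by
        have : ((n : MvPolynomial ℕ ℤ) + 1) = C ((n : ℤ) + 1) := by simp
        rw [this]
        have := (isWeightedHomogeneous_X ℤ w1 n).mul (hC ((n : ℤ) + 1))
        rwa [add_zero] at this
      have h3 : IsWeightedHomogeneous w1
          (∑ k ∈ Finset.range n, ((-1 : MvPolynomial ℕ ℤ) ^ k * nu (k + 1)) * X (n - 1 - k)) (n + 1) := by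
        apply IsWeightedHomogeneous.sum
        intro k hk
        rw [Finset.mem_range] at hk
        have hk1 : IsWeightedHomogeneous w1 ((-1 : MvPolynomial ℕ ℤ) ^ k) 0 := by
          have : ((-1 : MvPolynomial ℕ ℤ) ^ k) = C ((-1) ^ k) := by simp
          rw [this]; exact hC _
        have := (hk1.mul (ih (k + 1) (by omega))).mul (isWeightedHomogeneous_X ℤ w1 (n - 1 - k))
        have e : 0 + (k + 1) + w1 (n - 1 - k) = n + 1 := by
          change 0 + (k + 1) + (n - 1 - k + 1) = n + 1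
          omega
        rwa [e] at this
      have := h1.mul (h2.sub h3)
      rwa [zero_add] at this

/-- the γ-operations as a (pre-)λ-structure -/
@[reducible] def gammaOps : LambdaOps K where
  lam := gamma
  lam_zero := gamma_zero'
  lam_one := gamma_one
  lam_add := gamma_add

/-- `ν_k(γ^1 a, …, γ^k a)` -/
def zeta (k : ℕ) (a : K) : K := aeval (fun i => gamma (i + 1) a) (nu k)

theorem zeta_zero_left (a : K) : zeta 0 a = 0 := by rw [zeta, nu, map_zero]

theorem zeta_add (k : ℕ) (a b : K) : zeta k (a + b) = zeta k a + zeta k b := by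
  rcases k with _ | k
  · simp [zeta_zero_left]
  · have h := @adamsOp_eq_aeval_nu K _ gammaOps
    have h2 := @adamsOp_add K _ gammaOps (k + 1) a b
    rw [h, h, h] at h2
    exact h2

theorem zeta_zero_right (k : ℕ) : zeta k (0 : K) = 0 := by
  have := zeta_add k (0 : K) 0
  rw [add_zero] at this
  exact left_eq_add.mp this

/-- `zeta k` as an additive map -/
def zetaHom (k : ℕ) : K →+ K where
  toFun := zeta k
  map_zero' := zeta_zero_right k
  map_add' := zeta_add k

theorem zeta_succ (n : ℕ) (a : K) : zeta (n + 1) a =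
    (-1) ^ n * (gamma (n + 1) a * ((n : K) + 1) -
      ∑ k ∈ Finset.range n, ((-1) ^ k * zeta (k + 1) a) * gamma (n - 1 - k + 1) a) := by
  rw [zeta, aeval_nu_succ]
  rfl


/-! ### `zeta` on the γ-filtration -/

open Groth.Agent.R2.H39.SplitBridge Groth.Agent.R2.H39.LamAdams in
theorem zeta_mem (hK : HasSplitting K P) (m : ℕ) {y : K} (hy : y ∈ gammaFiltration P (m + 1)) (j : ℕ) :
    zeta (j + 1) y ∈ gammaFiltration P (max (m + 1) (j + 1)) := by
  induction j using Nat.strong_induction_on with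
  | _ j ih =>
    rw [zeta_succ]
    apply mul_mem_gammaFiltration_left
    apply AddSubgroup.sub_mem
    · rw [mul_comm]
      apply mul_mem_gammaFiltration_left
      exact gamma_mem_of_mem P hK m j hy
    · apply AddSubgroup.sum_mem
      intro k hk
      rw [Finset.mem_range] at hk
      rw [mul_assoc]
      apply mul_mem_gammaFiltration_left
      have h1 := ih k hk
      have h2 := gamma_mem_of_mem P hK m (j - 1 - k) hy
      have h3 := mul_mem_gammaFiltration P _ _ _ _ h1 h2
      refine gammaFiltration_anti P ?_ h3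
      omega

open Groth.Agent.R2.H39.SplitBridge Groth.Agent.R2.H39.LamAdams in
theorem zeta_lead (hK : HasSplitting K P) (m : ℕ) {y : K} (hy : y ∈ gammaFiltration P (m + 1)) :
    zeta (m + 1) y - ((m + 1).factorial : K) * y ∈ gammaFiltration P (m + 1 + 1) := by
  have hr := gamma_lead_of_mem P hK m hy
  set r := gamma (m + 1) y - ((cc (m + 1) : ℤ) : K) * y with hrdef
  have hS : ∑ k ∈ Finset.range m, ((-1 : K) ^ k * zeta (k + 1) y) * gamma (m - 1 - k + 1) y ∈
      gammaFiltration P (m + 1 + 1) := by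
    apply AddSubgroup.sum_mem
    intro k hk
    rw [Finset.mem_range] at hk
    rw [mul_assoc]
    apply mul_mem_gammaFiltration_left
    have h1 := zeta_mem P hK m hy k
    have h2 := gamma_mem_of_mem P hK m (m - 1 - k) hy
    have h3 := mul_mem_gammaFiltration P _ _ _ _ h1 h2
    refine gammaFiltration_anti P ?_ h3
    omega
  have hcc : ((cc (m + 1) : ℤ) : K) = (-1) ^ m * (m.factorial : K) := by
    rw [cc]; push_cast; simp
  have e : zeta (m + 1) y - ((m + 1).factorial : K) * y =
      (-1) ^ m * (r * ((m : K) + 1) -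
        ∑ k ∈ Finset.range m, ((-1 : K) ^ k * zeta (k + 1) y) * gamma (m - 1 - k + 1) y) := by
    have hg : gamma (m + 1) y = r + ((cc (m + 1) : ℤ) : K) * y := by rw [hrdef]; ring
    rw [zeta_succ, hg, hcc, Nat.factorial_succ]
    push_cast
    have h2 : ((-1 : K) ^ m) * ((-1 : K) ^ m) = 1 := by
      rw [← pow_add, ← two_mul, pow_mul, neg_one_sq, one_pow]
    linear_combination ((m.factorial : K) * y * ((m : K) + 1)) * h2
  rw [e]
  apply mul_mem_gammaFiltration_left
  apply AddSubgroup.sub_mem _ _ hS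
  rw [mul_comm]
  exact mul_mem_gammaFiltration_left P _ _ _ hr

/-! ### the polynomial `chPoly` -/

/-- `ν_k` in the first `d` variables, with rational coefficients -/
def nuD (d k : ℕ) : MvPolynomial (Fin d) ℚ :=
  aeval (fun i : ℕ => if h : i < d then (X ⟨i, h⟩ : MvPolynomial (Fin d) ℚ) else 0) (nu k)

theorem psumQ_eq_aeval_nu (σ : Type*) [Fintype σ] (k : ℕ) :
    psum σ ℚ (k + 1) = aeval (fun i => esymm σ ℚ (i + 1)) (nu (k + 1)) := by
  have h := NR_map (MvPolynomial.map (Int.castRingHom ℚ) : MvPolynomial σ ℤ →+* MvPolynomial σ ℚ)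
    (NR_esymm_psum σ)
  have h1 : (fun n => (MvPolynomial.map (Int.castRingHom ℚ)) (esymm σ ℤ n)) = fun n => esymm σ ℚ n := by
    funext n; exact map_esymm σ ℤ n (Int.castRingHom ℚ)
  have h2 : (fun n => (MvPolynomial.map (Int.castRingHom ℚ)) (psum σ ℤ n)) = fun n => psum σ ℚ n := by
    funext n; simp [psum]
  rw [h1, h2] at h
  exact nu_spec (fun j => esymm σ ℚ j) (fun k => psum σ ℚ k) (esymm_zero σ ℚ) h k

theorem aeval_nuD {A : Type*} [CommRing A] [Algebra ℚ A] (d k : ℕ) (c : Fin d → A) :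
    aeval c (nuD d k) = aeval (fun i : ℕ => if h : i < d then c ⟨i, h⟩ else 0) (nu k) := by
  rw [nuD]
  have := comp_aeval_apply (fun i : ℕ => if h : i < d then (X ⟨i, h⟩ : MvPolynomial (Fin d) ℚ) else 0)
    ((aeval c : MvPolynomial (Fin d) ℚ →ₐ[ℚ] A).toRingHom.toIntAlgHom) (nu k)
  refine this.trans ?_
  refine congrArg (fun v => aeval v (nu k)) (funext fun i => ?_)
  by_cases h : i < d
  · rw [dif_pos h, dif_pos h]
    exact aeval_X c _
  · rw [dif_neg h, dif_neg h]
    exact map_zero _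

theorem chPoly_eq (d : ℕ) :
    chPoly d = C (d : ℚ) + ∑ k ∈ Finset.range d, C (1 / ((k + 1).factorial : ℚ)) * nuD d (k + 1) := by
  apply (esymmAlgEquiv (Fin d) ℚ (Fintype.card_fin d)).injective
  rw [chPoly, AlgEquiv.apply_symm_apply]
  apply Subtype.ext
  rw [esymmAlgEquiv_apply, esymmAlgHom_apply]
  change ∑ i : Fin d, Polynomial.aeval (X i) (expTrunc d) = _
  rw [map_add, map_sum, aeval_C]
  have h1 : ∀ k ∈ Finset.range d, aeval (fun i : Fin d => esymm (Fin d) ℚ (i + 1))
      (C (1 / ((k + 1).factorial : ℚ)) * nuD d (k + 1)) =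
      C (1 / ((k + 1).factorial : ℚ)) * psum (Fin d) ℚ (k + 1) := by
    intro k hk
    rw [Finset.mem_range] at hk
    rw [map_mul, aeval_C, aeval_nuD, psumQ_eq_aeval_nu]
    congr 1
    apply aeval_nu_congr
    intro i hi
    rw [dif_pos (by omega)]
  rw [Finset.sum_congr rfl h1]
  have h2 : ∀ i : Fin d, Polynomial.aeval (X i : MvPolynomial (Fin d) ℚ) (expTrunc d) =
      ∑ k ∈ Finset.range (d + 1), C (1 / (k.factorial : ℚ)) * (X i) ^ k := by
    intro i
    rw [expTrunc, map_sum]
    apply Finset.sum_congr rfl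
    intro k _
    rw [map_mul, Polynomial.aeval_C, map_pow, Polynomial.aeval_X]
    rfl
  rw [Finset.sum_congr (s₁ := (Finset.univ : Finset (Fin d))) rfl (fun i _ => h2 i), Finset.sum_comm,
    Finset.sum_range_succ']
  rw [add_comm]
  congr 1
  · simp
  · apply Finset.sum_congr rfl
    intro k _
    rw [← Finset.mul_sum, psum]

/-! ### `grK` on the filtration -/

theorem grK_of_mem (n : ℕ) {y : K} (hy : y ∈ gammaFiltration P n) :
    grK P (n : ℤ) y = (1 : ℚ) ⊗ₜ[ℤ] cls P n ⟨y, hy⟩ := by
  have h : ∃ N : ℕ, 1 ≤ N ∧ CL ((N : K) * y) * TL (-(n : ℤ)) ∈ rees P := by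
    refine ⟨1, le_rfl, ?_⟩
    rw [Nat.cast_one, one_mul]
    exact (reesElt P n ⟨y, hy⟩).2
  rw [grK, dif_pos h]
  obtain ⟨h1, h2⟩ := h.choose_spec
  set N := h.choose with hN
  have hNy : (N : K) * y ∈ gammaFiltration P n := by
    have := (mem_rees_iff P).mp h2 (-(n : ℤ))
    rwa [coeff_C_mul_T, if_pos rfl, neg_neg, Int.toNat_natCast] at this
  have e1 : (Ideal.Quotient.mk (Ideal.span {tGen P})
      ⟨CL ((N : K) * y) * TL (-(n : ℤ)), h2⟩ : GrZ P) = ((N : ℤ)) • cls P n ⟨y, hy⟩ := by
    rw [natCast_zsmul, ← map_nsmul]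
    rw [cls_apply]
    congr 1
    apply Subtype.ext
    change CL ((N : K) * y) * TL (-(n : ℤ)) = CL ((N • (⟨y, hy⟩ : gammaFiltration P n) : gammaFiltration P n) : K) * TL (-(n : ℤ))
    rw [AddSubgroup.coe_nsmul, nsmul_eq_mul]
  rw [e1, TensorProduct.tmul_smul, TensorProduct.smul_tmul']
  congr 1
  have : (N : ℚ) ≠ 0 := by
    have : 0 < N := h1
    positivity
  rw [zsmul_eq_mul]
  push_cast
  rw [← hN]
  field_simp

theorem grK_add (n : ℕ) {y z : K} (hy : y ∈ gammaFiltration P n) (hz : z ∈ gammaFiltration P n) :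
    grK P (n : ℤ) (y + z) = grK P (n : ℤ) y + grK P (n : ℤ) z := by
  rw [grK_of_mem P n hy, grK_of_mem P n hz, grK_of_mem P n (AddSubgroup.add_mem _ hy hz),
    ← TensorProduct.tmul_add, ← map_add]
  rfl

theorem grK_eq_zero (n : ℕ) {y : K} (hy : y ∈ gammaFiltration P (n + 1)) : grK P (n : ℤ) y = 0 := by
  rw [grK_of_mem P n (gammaFiltration_anti P (Nat.le_succ n) hy),
    (cls_eq_zero_iff P n _).mpr hy, TensorProduct.tmul_zero]

theorem grK_zero (n : ℕ) : grK P (n : ℤ) (0 : K) = 0 :=
  grK_eq_zero P n (AddSubgroup.zero_mem _)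

theorem grK_congr (n : ℕ) {y z : K} (hy : y ∈ gammaFiltration P n) (hyz : y - z ∈ gammaFiltration P (n + 1)) :
    grK P (n : ℤ) y = grK P (n : ℤ) z := by
  have hz : z ∈ gammaFiltration P n := by
    have := AddSubgroup.sub_mem _ hy (gammaFiltration_anti P (Nat.le_succ n) hyz)
    rwa [sub_sub_cancel] at this
  have h1 : y = z + (y - z) := by ring
  conv_lhs => rw [h1]
  rw [grK_add P n hz (gammaFiltration_anti P (Nat.le_succ n) hyz), grK_eq_zero P n hyz, add_zero]

theorem grK_natCast_mul (n : ℕ) (N : ℕ) {y : K} (hy : y ∈ gammaFiltration P n) :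
    grK P (n : ℤ) ((N : K) * y) = (N : ℚ) • grK P (n : ℤ) y := by
  induction N with
  | zero => simp [grK_zero]
  | succ N ih =>
    rw [Nat.cast_succ, add_mul, one_mul, grK_add P n (mul_mem_gammaFiltration_left P n _ _ hy) hy, ih,
      Nat.cast_succ, add_smul, one_smul]


/-! ### the Chern character -/

/-- the γ-operations of an element of augmentation zero, as elements of the filtration -/
def gammaElt {a : K} (ha : P.aug a = 0) (i : ℕ) : gammaFiltration P (w1 i) :=
  ⟨gamma (i + 1) a, gamma_mem_gammaFiltration P (i + 1) a ha⟩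

theorem zeta_mem_of_aug {a : K} (ha : P.aug a = 0) (k : ℕ) : zeta k a ∈ gammaFiltration P k :=
  (aeval_cls P w1 (gammaElt P ha) (nu k) k (nu_isWeightedHomogeneous k)).choose

theorem aeval_cls_gamma {a : K} (ha : P.aug a = 0) (k : ℕ) :
    aeval (fun i => cls P (w1 i) (gammaElt P ha i)) (nu k) = cls P k ⟨zeta k a, zeta_mem_of_aug P ha k⟩ :=
  (aeval_cls P w1 (gammaElt P ha) (nu k) k (nu_isWeightedHomogeneous k)).choose_spec

theorem chern_eq {a x : K} (hax : a = x - (P.aug x : K)) (ha : P.aug a = 0) (i : ℕ) :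
    chern P (i + 1) x = (1 : ℚ) ⊗ₜ[ℤ] cls P (w1 i) (gammaElt P ha i) := by
  rw [chern, ← hax]
  exact grK_of_mem P (i + 1) _

theorem chK_eq (d : ℕ) (hd : gammaFiltration P (d + 1) = ⊥) (x : K) :
    chK P d x = algebraMap ℚ (Gr P) (P.aug x : ℚ) +
      ∑ k ∈ Finset.range d, (1 / ((k + 1).factorial : ℚ)) •
        grK P ((k + 1 : ℕ) : ℤ) (zeta (k + 1) (x - (P.aug x : K))) := by
  set a := x - (P.aug x : K) with hax
  have ha : P.aug a = 0 := aug_sub_aug P x
  have hc : (fun i : ℕ => if h : i < d then chern P ((⟨i, h⟩ : Fin d).1 + 1) x else 0) =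
      fun i : ℕ => (Algebra.TensorProduct.includeRight (R := ℤ) (A := ℚ) (B := GrZ P)).toRingHom.toIntAlgHom
        (cls P (w1 i) (gammaElt P ha i)) := by
    funext i
    by_cases h : i < d
    · rw [dif_pos h]
      exact chern_eq P hax ha i
    · rw [dif_neg h]
      have h0 : gamma (i + 1) a = 0 := by
        have := gammaFiltration_anti P (by omega : d + 1 ≤ i + 1) (gamma_mem_gammaFiltration P (i + 1) a ha)
        rwa [hd, AddSubgroup.mem_bot] at this
      have : gammaElt P ha i = 0 := Subtype.ext h0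
      rw [this, map_zero, map_zero]
  have hk : ∀ k, aeval (fun i : Fin d => chern P (i.1 + 1) x) (nuD d (k + 1)) =
      grK P ((k + 1 : ℕ) : ℤ) (zeta (k + 1) a) := by
    intro k
    refine (aeval_nuD (A := Gr P) d (k + 1) (fun i : Fin d => chern P (i.1 + 1) x)).trans ?_
    rw [hc, ← comp_aeval_apply]
    erw [aeval_cls_gamma P ha (k + 1)]
    rw [grK_of_mem P (k + 1) (zeta_mem_of_aug P ha (k + 1))]
    rfl
  have h1 : aeval (fun i : Fin d => chern P (i.1 + 1) x) (chPoly d) =
      algebraMap ℚ (Gr P) (d : ℚ) + ∑ k ∈ Finset.range d, (1 / ((k + 1).factorial : ℚ)) •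
        grK P ((k + 1 : ℕ) : ℤ) (zeta (k + 1) a) := by
    rw [chPoly_eq, map_add, aeval_C, map_sum]
    congr 1
    apply Finset.sum_congr rfl
    intro k _
    rw [map_mul, aeval_C, hk, ← Algebra.smul_def]
  rw [chK, h1, ← add_assoc, ← RingHom.map_add, sub_add_cancel]

/-- additivity of the Chern character -/
theorem chK_add (d : ℕ) (hd : gammaFiltration P (d + 1) = ⊥) (x y : K) :
    chK P d (x + y) = chK P d x + chK P d y := by
  rw [chK_eq P d hd, chK_eq P d hd, chK_eq P d hd]
  have e : x + y - (P.aug (x + y) : K) = (x - (P.aug x : K)) + (y - (P.aug y : K)) := by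
    rw [map_add]; push_cast; ring
  have h1 : ∀ k ∈ Finset.range d, (1 / ((k + 1).factorial : ℚ)) •
        grK P ((k + 1 : ℕ) : ℤ) (zeta (k + 1) (x + y - (P.aug (x + y) : K))) =
      (1 / ((k + 1).factorial : ℚ)) • grK P ((k + 1 : ℕ) : ℤ) (zeta (k + 1) (x - (P.aug x : K))) +
      (1 / ((k + 1).factorial : ℚ)) • grK P ((k + 1 : ℕ) : ℤ) (zeta (k + 1) (y - (P.aug y : K))) := by
    intro k _
    rw [e, zeta_add, grK_add P (k + 1) (zeta_mem_of_aug P (aug_sub_aug P x) _)
      (zeta_mem_of_aug P (aug_sub_aug P y) _), smul_add]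
  rw [Finset.sum_congr rfl h1, Finset.sum_add_distrib, RingHom.map_add P.aug, Int.cast_add,
    RingHom.map_add (algebraMap ℚ (Gr P))]
  abel

end

end Groth.Agent.R2.H39.ChernChar
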