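import Groth.Agent.R2.H39ChernChar
import Groth.Agent.R2.H39LamWeight
import Mathlib

/-!
# helper39: `ζ_n(ab) ≡ Σ_{p+q=n, p,q ≥ 1} C(n,p) ζ_p(a) ζ_q(b)` modulo `F^(n+1)`

(`ζ_n = ν_n(γ^1, …, γ^n)`, the Newton polynomials of the γ-operations), by the universal polynomial method:
the difference is a universal polynomial in the `γ^i a`, `γ^j b` all of whose monomials have weight `≥ n + 1`.
-/

set_option autoImplicit false
set_option linter.unusedSectionVars false
universe u v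
open LambdaRing MvPolynomial Finset
open Groth.Agent.Lib.Helper4 Groth.Agent.Lib.Helper4.LUniv
open Groth.Agent.R2.H39.LamFil Groth.Agent.R2.H39.LamGP Groth.Agent.R2.H39.LamModel
  Groth.Agent.R2.H39.LamWt Groth.Agent.R2.H39.ChernChar

namespace Groth.Agent.R2.H39.ChernMul

noncomputable section

/-! ### `ζ` of a "line minus one" -/

section Line

variable {R : Type u} [CommRing R] [LambdaOps R]

theorem zeta_eq_evg1 (k : ℕ) (a : R) : zeta k a = evg1 a (nu k) := rfl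

theorem zeta_of_gamma_eq_zero {w : R} (hw : ∀ k, gamma (k + 2) w = 0) (n : ℕ) :
    zeta (n + 1) w = w ^ (n + 1) := by
  induction n with
  | zero =>
    rw [zeta_succ]
    simp [Groth.Agent.Lib.Helper4.gamma_one]
  | succ n ih =>
    rw [zeta_succ, hw n, zero_mul, Finset.sum_range_succ]
    have h0 : ∑ k ∈ Finset.range n, ((-1 : R) ^ k * zeta (k + 1) w) * gamma (n + 1 - 1 - k + 1) w = 0 := by
      apply Finset.sum_eq_zero
      intro k hk
      rw [Finset.mem_range] at hk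
      obtain ⟨j, hj⟩ : ∃ j, n + 1 - 1 - k + 1 = j + 2 := ⟨n - k - 1, by omega⟩
      rw [hj, hw j, mul_zero]
    rw [h0, zero_add, ih]
    have h1 : n + 1 - 1 - n + 1 = 1 := by omega
    rw [h1, Groth.Agent.Lib.Helper4.gamma_one]
    have h2 : ((-1 : R) ^ n) * ((-1 : R) ^ n) = 1 := by
      rw [← pow_add, ← two_mul, pow_mul, neg_one_sq, one_pow]
    rw [pow_succ (-1 : R) n, pow_succ w (n + 1)]
    linear_combination (w ^ (n + 1) * w) * h2

theorem zeta_sub (k : ℕ) (a b : R) : zeta k (a - b) = zeta k a - zeta k b := by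
  have := zeta_add k (a - b) b
  rw [sub_add_cancel] at this
  rw [this]; ring

theorem zeta_sum {ι : Type*} (k : ℕ) (s : Finset ι) (f : ι → R) :
    zeta k (∑ i ∈ s, f i) = ∑ i ∈ s, zeta k (f i) :=
  map_sum (zetaHom k) f s

end Line

/-! ### the universal polynomials -/

/-- the universal polynomial for `ζ_n(xy)` -/
def Zn (n : ℕ) : MvPolynomial (ℕ ⊕ ℕ) ℤ := aeval (fun i => Pg (i + 1)) (nu n)

/-- the universal polynomial for `ζ_(n+1)(xy) - Σ_{t < n} C(n+1,t+1) ζ_(t+1)(x) ζ_(n-t)(y)` -/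
def Dn (n : ℕ) : MvPolynomial (ℕ ⊕ ℕ) ℤ :=
  Zn (n + 1) - ∑ t ∈ Finset.range n, ((Nat.choose (n + 1) (t + 1) : ℤ) : MvPolynomial (ℕ ⊕ ℕ) ℤ) *
    (rename Sum.inl (nu (t + 1)) * rename Sum.inr (nu (n - t)))

section Eval

variable {R : Type u} [CommRing R] [LambdaOps R]

theorem evg2_Zn (hR : IsSpecial R) (n : ℕ) (a b : R) : evg2 a b (Zn n) = zeta n (a * b) := by
  rw [Zn, zeta]
  have := comp_aeval_apply (fun i => Pg (i + 1)) (evg2 a b) (nu n)
  rw [this]
  refine congrArg (fun v => aeval v (nu n)) (funext fun i => ?_)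
  exact (gamma_mul_eq_evg2 hR (i + 1) a b).symm

theorem evg2_Dn (hR : IsSpecial R) (n : ℕ) (a b : R) :
    evg2 a b (Dn n) = zeta (n + 1) (a * b) -
      ∑ t ∈ Finset.range n, ((Nat.choose (n + 1) (t + 1) : ℕ) : R) * (zeta (t + 1) a * zeta (n - t) b) := by
  rw [Dn, map_sub, evg2_Zn hR, map_sum]
  congr 1
  apply Finset.sum_congr rfl
  intro t _
  rw [map_mul, map_mul, evg2_rename_inl, evg2_rename_inr, map_intCast, Int.cast_natCast]
  rfl

end Eval

/-! ### the model computation -/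

section Model

variable (N : ℕ)

local notation "M" => MvPolynomial (Fin N ⊕ Fin N) ℚ

theorem gamma_X_sub (i : Fin N ⊕ Fin N) (k : ℕ) : gamma (k + 2) (X i : M) = 0 := by
  rw [← coeff_gammaSeries, gammaSeries_X, map_add, PowerSeries.coeff_succ_mul_X, PowerSeries.coeff_C,
    PowerSeries.coeff_one]
  simp

theorem gamma_line_sub_one {u : M} (hu : IsLineM (Fin N ⊕ Fin N) u) (k : ℕ) : gamma (k + 2) (u - 1) = 0 := by
  rw [← coeff_gammaSeries, gammaSeries_sub_one_of_isLineM hu, map_add, PowerSeries.coeff_succ_mul_X,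
    PowerSeries.coeff_C, PowerSeries.coeff_one]
  simp

theorem zeta_X_mul_X (i j : Fin N) (n : ℕ) :
    zeta (n + 1) ((X (Sum.inl i) * X (Sum.inr j) : M)) =
      (X (Sum.inl i) + X (Sum.inr j) + X (Sum.inl i) * X (Sum.inr j)) ^ (n + 1) -
        X (Sum.inl i) ^ (n + 1) - X (Sum.inr j) ^ (n + 1) := by
  have h2 : (X (Sum.inl i) * X (Sum.inr j) : M) =
      ((1 + X (Sum.inl i)) * (1 + X (Sum.inr j)) - 1) - X (Sum.inl i) - X (Sum.inr j) := by ring
  rw [h2, zeta_sub, zeta_sub,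
    zeta_of_gamma_eq_zero (gamma_line_sub_one N ((isLineM_one_add_X _).mul (isLineM_one_add_X _))),
    zeta_of_gamma_eq_zero (gamma_X_sub N _), zeta_of_gamma_eq_zero (gamma_X_sub N _)]
  congr 2
  ring

theorem zeta_u₀ (n : ℕ) : zeta (n + 1) (u₀ N) = ∑ i : Fin N, (X (Sum.inl i) : M) ^ (n + 1) := by
  rw [u₀, zeta_sum]
  apply Finset.sum_congr rfl
  intro i _
  exact zeta_of_gamma_eq_zero (gamma_X_sub N _) n

theorem zeta_v₀ (n : ℕ) : zeta (n + 1) (v₀ N) = ∑ i : Fin N, (X (Sum.inr i) : M) ^ (n + 1) := by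
  rw [v₀, zeta_sum]
  apply Finset.sum_congr rfl
  intro i _
  exact zeta_of_gamma_eq_zero (gamma_X_sub N _) n

theorem add_pow_split {S : Type*} [CommRing S] (A B : S) (n : ℕ) :
    (A + B) ^ (n + 1) = A ^ (n + 1) + B ^ (n + 1) +
      ∑ t ∈ Finset.range n, ((Nat.choose (n + 1) (t + 1) : ℕ) : S) * (A ^ (t + 1) * B ^ (n - t)) := by
  rw [add_pow, Finset.sum_range_succ, Finset.sum_range_succ']
  simp only [pow_zero, Nat.sub_zero, Nat.choose_zero_right, Nat.cast_one, mul_one, one_mul,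
    Nat.sub_self, Nat.choose_self]
  have : ∀ t ∈ Finset.range n, A ^ (t + 1) * B ^ (n + 1 - (t + 1)) * ((n + 1).choose (t + 1) : S) =
      ((Nat.choose (n + 1) (t + 1) : ℕ) : S) * (A ^ (t + 1) * B ^ (n - t)) := by
    intro t _
    rw [show n + 1 - (t + 1) = n - t by omega]
    ring
  rw [Finset.sum_congr rfl this]
  ring

theorem evg2_Dn_model (n : ℕ) :
    evg2 (u₀ N) (v₀ N) (Dn n) ∈ Dfil (Fin N ⊕ Fin N) (n + 2) := by
  rw [evg2_Dn (isSpecial_model _)]
  have h1 : zeta (n + 1) (u₀ N * v₀ N) = ∑ i : Fin N, ∑ j : Fin N,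
      ((X (Sum.inl i) + X (Sum.inr j) + X (Sum.inl i) * X (Sum.inr j) : M) ^ (n + 1) -
        X (Sum.inl i) ^ (n + 1) - X (Sum.inr j) ^ (n + 1)) := by
    rw [u₀, v₀, Finset.sum_mul_sum, zeta_sum]
    apply Finset.sum_congr rfl
    intro i _
    rw [zeta_sum]
    apply Finset.sum_congr rfl
    intro j _
    exact zeta_X_mul_X N i j n
  have h2 : ∑ t ∈ Finset.range n, ((Nat.choose (n + 1) (t + 1) : ℕ) : M) *
      (zeta (t + 1) (u₀ N) * zeta (n - t) (v₀ N)) = ∑ i : Fin N, ∑ j : Fin N,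
      ∑ t ∈ Finset.range n, ((Nat.choose (n + 1) (t + 1) : ℕ) : M) *
        ((X (Sum.inl i) : M) ^ (t + 1) * (X (Sum.inr j) : M) ^ (n - t)) := by
    have hR : ∑ i : Fin N, ∑ j : Fin N,
        ∑ t ∈ Finset.range n, ((Nat.choose (n + 1) (t + 1) : ℕ) : M) *
          ((X (Sum.inl i) : M) ^ (t + 1) * (X (Sum.inr j) : M) ^ (n - t)) =
        ∑ t ∈ Finset.range n, ∑ i : Fin N, ∑ j : Fin N, ((Nat.choose (n + 1) (t + 1) : ℕ) : M) *
          ((X (Sum.inl i) : M) ^ (t + 1) * (X (Sum.inr j) : M) ^ (n - t)) := by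
      rw [Finset.sum_congr rfl (fun i _ => Finset.sum_comm)]
      exact Finset.sum_comm
    rw [hR]
    apply Finset.sum_congr rfl
    intro t ht
    rw [Finset.mem_range] at ht
    obtain ⟨q, hq⟩ : ∃ q, n - t = q + 1 := ⟨n - t - 1, by omega⟩
    rw [hq, zeta_u₀, zeta_v₀, Finset.sum_mul_sum, Finset.mul_sum]
    apply Finset.sum_congr rfl
    intro i _
    rw [Finset.mul_sum]
  rw [h1, h2, ← Finset.sum_sub_distrib]
  apply Ideal.sum_mem
  intro i _
  rw [← Finset.sum_sub_distrib]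
  apply Ideal.sum_mem
  intro j _
  set A : M := X (Sum.inl i)
  set B : M := X (Sum.inr j)
  have h3 : (A + B + A * B) ^ (n + 1) - A ^ (n + 1) - B ^ (n + 1) -
      ∑ t ∈ Finset.range n, ((Nat.choose (n + 1) (t + 1) : ℕ) : M) * (A ^ (t + 1) * B ^ (n - t)) =
      (A + B + A * B) ^ (n + 1) - (A + B) ^ (n + 1) := by
    rw [add_pow_split A B n]; ring
  rw [h3, ← geom_sum₂_mul]
  have hF := mulFil_Dfil (σ := Fin N ⊕ Fin N)
  have hA : A ∈ Dfil (Fin N ⊕ Fin N) 1 := X_mem_Dfil _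
  have hB : B ∈ Dfil (Fin N ⊕ Fin N) 1 := X_mem_Dfil _
  have hAB : A * B ∈ Dfil (Fin N ⊕ Fin N) 2 := hF.mul hA hB
  have hsum : ∑ k ∈ Finset.range (n + 1), (A + B + A * B) ^ k * (A + B) ^ (n + 1 - 1 - k) ∈
      Dfil (Fin N ⊕ Fin N) n := by
    apply Ideal.sum_mem
    intro k hk
    rw [Finset.mem_range] at hk
    have h4 : (A + B + A * B) ∈ Dfil (Fin N ⊕ Fin N) 1 :=
      Ideal.add_mem _ (Ideal.add_mem _ hA hB) (hF.anti (by omega) hAB)
    have h5 := hF.mul (hF.pow_mem h4 k) (hF.pow_mem (Ideal.add_mem _ hA hB) (n + 1 - 1 - k))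
    exact hF.anti (by simp; omega) h5
  have h6 : (A + B + A * B) - (A + B) = A * B := by ring
  rw [h6]
  have := hF.mul hsum hAB
  exact this

end Model

/-- all monomials of `Dn n` have weight at least `n + 2` -/
theorem Dn_wt (n : ℕ) : ∀ m ∈ (Dn n).support, n + 2 ≤ Finsupp.weight w2 m := by
  apply wt_ge_of_phiInf _ _ 0
  intro N _
  rw [← highDeg_map_iff, map_PhiInf, ← mem_Dfil]
  exact evg2_Dn_model N n

/-! ### consequence for filtered special λ-rings -/

section Abstract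

variable {R : Type u} [CommRing R] [LambdaOps R] {F : ℕ → Ideal R}

theorem zeta_mul_mem (hR : IsSpecial R) (hF : MulFil F) {a b : R} (ha : GoodElt F a) (hb : GoodElt F b)
    (n : ℕ) :
    zeta (n + 1) (a * b) -
      ∑ t ∈ Finset.range n, ((Nat.choose (n + 1) (t + 1) : ℕ) : R) * (zeta (t + 1) a * zeta (n - t) b) ∈
      F (n + 2) := by
  rw [← evg2_Dn hR, evg2]
  apply hF.aeval_mem w2 _ _ (n + 2) _ (Dn_wt n)
  intro s
  rcases s with k | k
  · exact ha (k + 1)
  · exact hb (k + 1)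

end Abstract

end

end Groth.Agent.R2.H39.ChernMul
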