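import Groth.Agent.R2.H39ChernMul
import Groth.Agent.R2.H39ChernBij
import Mathlib

/-!
# helper39: the Chern character is multiplicative
-/

set_option autoImplicit false
set_option linter.unusedSectionVars false
universe v
open LambdaRing KGr MvPolynomial
open scoped TensorProduct
open Groth.Agent.Lib.Helper4 Groth.Agent.Lib.Helper4.LUniv
open Groth.Agent.R2.H39.Rees Groth.Agent.R2.H39.LamWt Groth.Agent.R2.H39.ChernChar
  Groth.Agent.R2.H39.SplitBridge Groth.Agent.R2.H39.LamGFil Groth.Agent.R2.H39.LamFil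
  Groth.Agent.R2.H39.ChernBij Groth.Agent.R2.H39.ChernMul Groth.Agent.R2.H39.SplitSpecial

namespace Groth.Agent.R2.H39.ChernMul2

noncomputable section

variable {K : Type v} [CommRing K] [LambdaOps K] (P : PosStructure K)

/-! ### more on `grK` -/

theorem grK_mul (p q : ℕ) {a b : K} (ha : a ∈ gammaFiltration P p) (hb : b ∈ gammaFiltration P q) :
    grK P (p : ℤ) a * grK P (q : ℤ) b = grK P ((p + q : ℕ) : ℤ) (a * b) := by
  rw [grK_of_mem P p ha, grK_of_mem P q hb,
    grK_of_mem P (p + q) (mul_mem_gammaFiltration P p q a b ha hb),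
    Algebra.TensorProduct.tmul_mul_tmul, one_mul, cls_mul]

theorem grK_neg (n : ℕ) {y : K} (hy : y ∈ gammaFiltration P n) :
    grK P (n : ℤ) (-y) = -grK P (n : ℤ) y := by
  have h := grK_add P n hy (AddSubgroup.neg_mem _ hy)
  rw [add_neg_cancel, grK_zero] at h
  exact (neg_eq_of_add_eq_zero_right h.symm).symm

theorem grK_intCast_mul (n : ℕ) (c : ℤ) {y : K} (hy : y ∈ gammaFiltration P n) :
    grK P (n : ℤ) ((c : K) * y) = (c : ℚ) • grK P (n : ℤ) y := by
  rcases Int.eq_nat_or_neg c with ⟨N, rfl | rfl⟩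
  · simpa using grK_natCast_mul P n N hy
  · have : ((-(N : ℤ) : ℤ) : K) * y = -((N : K) * y) := by push_cast; ring
    rw [this, grK_neg P n (mul_mem_gammaFiltration_left P n _ _ hy), grK_natCast_mul P n N hy]
    push_cast
    rw [neg_smul]

theorem grK_sum (n : ℕ) {ι : Type*} (s : Finset ι) (f : ι → K)
    (hf : ∀ i ∈ s, f i ∈ gammaFiltration P n) :
    grK P (n : ℤ) (∑ i ∈ s, f i) = ∑ i ∈ s, grK P (n : ℤ) (f i) := by
  classical
  induction s using Finset.induction_on with
  | empty => simp [grK_zero]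
  | insert a s ha ih =>
    rw [Finset.sum_insert ha, Finset.sum_insert ha,
      grK_add P n (hf a (Finset.mem_insert_self a s))
        (AddSubgroup.sum_mem _ fun i hi => hf i (Finset.mem_insert_of_mem hi)),
      ih fun i hi => hf i (Finset.mem_insert_of_mem hi)]

theorem smul_eq_algebraMap_mul (q : ℚ) (g : Gr P) : q • g = algebraMap ℚ (Gr P) q * g :=
  Algebra.smul_def q g

theorem key_identity (c qx qy : ℚ) (S Gx Gy : Gr P) :
    c • S + c • (qx • Gy) + c • (qy • Gx) =
      c • S + algebraMap ℚ (Gr P) qx * (c • Gy) + (c • Gx) * algebraMap ℚ (Gr P) qy := by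
  rw [smul_comm c qx Gy, smul_comm c qy Gx, smul_eq_algebraMap_mul P qx, smul_eq_algebraMap_mul P qy,
    mul_comm (algebraMap ℚ (Gr P) qy)]

/-! ### the components of the Chern character -/

/-- the degree `k` component of the Chern character -/
def T (k : ℕ) (x : K) : Gr P :=
  if k = 0 then algebraMap ℚ (Gr P) (P.aug x : ℚ)
  else (1 / (k.factorial : ℚ)) • grK P (k : ℤ) (zeta k (x - (P.aug x : K)))

theorem T_zero (x : K) : T P 0 x = algebraMap ℚ (Gr P) (P.aug x : ℚ) := if_pos rfl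

theorem T_succ (k : ℕ) (x : K) : T P (k + 1) x =
    (1 / ((k + 1).factorial : ℚ)) • grK P ((k + 1 : ℕ) : ℤ) (zeta (k + 1) (x - (P.aug x : K))) :=
  if_neg (Nat.succ_ne_zero k)

theorem chK_eq_sum_T (d : ℕ) (hd : gammaFiltration P (d + 1) = ⊥) (x : K) :
    chK P d x = ∑ k ∈ Finset.range (d + 1), T P k x := by
  rw [chK_eq P d hd, Finset.sum_range_succ', T_zero, add_comm]
  simp only [T_succ]

theorem T_eq_zero (d : ℕ) (hd : gammaFiltration P (d + 1) = ⊥) {k : ℕ} (hk : d < k) (x : K) :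
    T P k x = 0 := by
  obtain ⟨k', rfl⟩ : ∃ k', k = k' + 1 := ⟨k - 1, by omega⟩
  rw [T_succ]
  have h0 : zeta (k' + 1) (x - (P.aug x : K)) = 0 := by
    have := gammaFiltration_anti P (by omega : d + 1 ≤ k' + 1)
      (zeta_mem_of_aug P (aug_sub_aug P x) (k' + 1))
    rwa [hd, AddSubgroup.mem_bot] at this
  rw [h0, grK_zero, smul_zero]

theorem T_mul_eq_zero (d : ℕ) (hd : gammaFiltration P (d + 1) = ⊥) {p q : ℕ} (hpq : d < p + q)
    (x y : K) : T P p x * T P q y = 0 := by
  by_cases hp : d < p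
  · rw [T_eq_zero P d hd hp, zero_mul]
  by_cases hq : d < q
  · rw [T_eq_zero P d hd hq, mul_zero]
  obtain ⟨p', rfl⟩ : ∃ p', p = p' + 1 := ⟨p - 1, by omega⟩
  obtain ⟨q', rfl⟩ : ∃ q', q = q' + 1 := ⟨q - 1, by omega⟩
  rw [T_succ, T_succ, smul_mul_smul_comm,
    grK_mul P (p' + 1) (q' + 1) (zeta_mem_of_aug P (aug_sub_aug P x) _)
      (zeta_mem_of_aug P (aug_sub_aug P y) _)]
  have h0 : zeta (p' + 1) (x - (P.aug x : K)) * zeta (q' + 1) (y - (P.aug y : K)) = 0 := by
    have := gammaFiltration_anti P (by omega : d + 1 ≤ p' + 1 + (q' + 1))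
      (mul_mem_gammaFiltration P _ _ _ _ (zeta_mem_of_aug P (aug_sub_aug P x) (p' + 1))
        (zeta_mem_of_aug P (aug_sub_aug P y) (q' + 1)))
    rwa [hd, AddSubgroup.mem_bot] at this
  rw [h0, grK_zero, smul_zero]

theorem zeta_intCast_mul (k : ℕ) (c : ℤ) (z : K) : zeta k ((c : K) * z) = (c : K) * zeta k z := by
  have h := map_zsmul (zetaHom k) c z
  simp only [zsmul_eq_mul] at h
  exact h

/-- the key congruence in terms of `gammaFiltration` -/
theorem zeta_mul_mem_fil (hK : HasSplitting K P) {a b : K} (ha : P.aug a = 0) (hb : P.aug b = 0) (n : ℕ) :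
    zeta (n + 1) (a * b) -
      ∑ t ∈ Finset.range n, ((Nat.choose (n + 1) (t + 1) : ℕ) : K) * (zeta (t + 1) a * zeta (n - t) b) ∈
      gammaFiltration P (n + 1 + 1) := by
  rw [← mem_gammaFil_iff]
  exact zeta_mul_mem (isSpecial_of_hasSplitting hK)
    (mulFil_gammaFil ((augAlg P : K →ₐ[ℤ] ℤ) : K →+* ℤ))
    (fun i => gamma_mem_gammaFil _ ha i) (fun i => gamma_mem_gammaFil _ hb i) n

/-- the product formula for the components -/
theorem T_mul (hK : HasSplitting K P) (n : ℕ) (x y : K) :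
    T P n (x * y) = ∑ p ∈ Finset.range (n + 1), T P p x * T P (n - p) y := by
  rcases n with _ | n
  · simp only [zero_add, Finset.range_one, Finset.sum_singleton, Nat.sub_zero, T_zero]
    rw [RingHom.map_mul P.aug, Int.cast_mul, RingHom.map_mul (algebraMap ℚ (Gr P))]
  set x' := x - (P.aug x : K) with hx'
  set y' := y - (P.aug y : K) with hy'
  have hax : P.aug x' = 0 := aug_sub_aug P x
  have hay : P.aug y' = 0 := aug_sub_aug P y
  have hsplit : x * y - (P.aug (x * y) : K) =
      x' * y' + ((P.aug x : ℤ) : K) * y' + ((P.aug y : ℤ) : K) * x' := by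
    rw [hx', hy', map_mul]; push_cast; ring
  have hzx : ∀ k, zeta k x' ∈ gammaFiltration P k := zeta_mem_of_aug P hax
  have hzy : ∀ k, zeta k y' ∈ gammaFiltration P k := zeta_mem_of_aug P hay
  have hxy : P.aug (x' * y') = 0 := by rw [map_mul, hax, zero_mul]
  have hzxy : ∀ k, zeta k (x' * y') ∈ gammaFiltration P k := zeta_mem_of_aug P hxy
  -- the main term
  have hmain : grK P ((n + 1 : ℕ) : ℤ) (zeta (n + 1) (x' * y')) =
      ∑ t ∈ Finset.range n, ((Nat.choose (n + 1) (t + 1) : ℕ) : ℚ) •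
        (grK P ((t + 1 : ℕ) : ℤ) (zeta (t + 1) x') * grK P ((n - t : ℕ) : ℤ) (zeta (n - t) y')) := by
    have hmem : ∀ t ∈ Finset.range n, ((Nat.choose (n + 1) (t + 1) : ℕ) : K) *
        (zeta (t + 1) x' * zeta (n - t) y') ∈ gammaFiltration P (n + 1) := by
      intro t ht
      rw [Finset.mem_range] at ht
      apply mul_mem_gammaFiltration_left
      have := mul_mem_gammaFiltration P _ _ _ _ (hzx (t + 1)) (hzy (n - t))
      rwa [show t + 1 + (n - t) = n + 1 by omega] at this
    rw [grK_congr P (n + 1) (hzxy (n + 1)) (zeta_mul_mem_fil P hK hax hay n), grK_sum P (n + 1) _ _ hmem]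
    apply Finset.sum_congr rfl
    intro t ht
    rw [Finset.mem_range] at ht
    have h1 := mul_mem_gammaFiltration P _ _ _ _ (hzx (t + 1)) (hzy (n - t))
    have e : t + 1 + (n - t) = n + 1 := by omega
    rw [grK_mul P (t + 1) (n - t) (hzx (t + 1)) (hzy (n - t)), e]
    rw [e] at h1
    exact grK_natCast_mul P (n + 1) _ h1
  -- assemble
  rw [T_succ, hsplit, zeta_add, zeta_add, zeta_intCast_mul, zeta_intCast_mul,
    grK_add P (n + 1) (AddSubgroup.add_mem _ (hzxy _) (mul_mem_gammaFiltration_left P _ _ _ (hzy _)))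
      (mul_mem_gammaFiltration_left P _ _ _ (hzx _)),
    grK_add P (n + 1) (hzxy _) (mul_mem_gammaFiltration_left P _ _ _ (hzy _)),
    grK_intCast_mul P (n + 1) _ (hzy _), grK_intCast_mul P (n + 1) _ (hzx _), hmain]
  rw [Finset.sum_range_succ, Finset.sum_range_succ']
  simp only [Nat.sub_zero, Nat.sub_self, T_zero]
  rw [T_succ, T_succ, ← hx', ← hy']
  have hmid : ∀ t ∈ Finset.range n, T P (t + 1) x * T P (n + 1 - (t + 1)) y =
      (1 / ((n + 1).factorial : ℚ)) • (((Nat.choose (n + 1) (t + 1) : ℕ) : ℚ) •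
        (grK P ((t + 1 : ℕ) : ℤ) (zeta (t + 1) x') * grK P ((n - t : ℕ) : ℤ) (zeta (n - t) y'))) := by
    intro t ht
    rw [Finset.mem_range] at ht
    obtain ⟨q, hq⟩ : ∃ q, n - t = q + 1 := ⟨n - t - 1, by omega⟩
    have e1 : n + 1 - (t + 1) = q + 1 := by omega
    rw [e1, hq, T_succ, T_succ, ← hx', ← hy', smul_mul_smul_comm, smul_smul]
    congr 1
    have hle : t + 1 ≤ n + 1 := by omega
    rw [Nat.cast_choose ℚ hle, show n + 1 - (t + 1) = q + 1 by omega]
    have h1 : ((n + 1).factorial : ℚ) ≠ 0 := by positivity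
    have h2 : ((t + 1).factorial : ℚ) ≠ 0 := by positivity
    have h3 : ((q + 1).factorial : ℚ) ≠ 0 := by positivity
    field_simp
  rw [Finset.sum_congr rfl hmid, ← Finset.smul_sum, smul_add, smul_add]
  exact key_identity P _ _ _ _ _ _

/-- **multiplicativity of the Chern character** -/
theorem chK_mul (hK : HasSplitting K P) (d : ℕ) (hd : gammaFiltration P (d + 1) = ⊥) (x y : K) :
    chK P d (x * y) = chK P d x * chK P d y := by
  rw [chK_eq_sum_T P d hd, chK_eq_sum_T P d hd, chK_eq_sum_T P d hd]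
  rw [Finset.sum_congr rfl (fun n _ => T_mul P hK n x y),
    Finset.sum_range_diag_flip (d + 1) (fun p q => T P p x * T P q y), Finset.sum_mul_sum]
  apply Finset.sum_congr rfl
  intro p hp
  rw [Finset.mem_range] at hp
  apply Finset.sum_subset
  · intro q hq
    rw [Finset.mem_range] at hq ⊢
    omega
  · intro q hq hq'
    rw [Finset.mem_range] at hq hq'
    exact T_mul_eq_zero P d hd (by omega) x y

end

end Groth.Agent.R2.H39.ChernMul2
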