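import Mathlib
import Groth.Agent.R2.H34CurveIso
import Groth.Agent.Lib.Helper4BirLocalIso2
import Groth.Agent.S2266

/-!
# Uniqueness of contractions via the graph trick (helper39)

* `range_subsingleton_of_isAffine`: a morphism from an integral scheme, universally closed over a
  field, to an affine scheme is constant.
* `range_subsingleton_pullback`: the same for a morphism to a fibre product over an affine base whose two
  components are constant.
* `isFinite_imageι_comp`: global form of Stacks 0AH8.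
* `exists_factor`: the graph trick: `f₁ : X ⟶ Y₁` proper, an isomorphism over a nonempty open `V` of
  the normal integral `Y₁`, and the graph morphism `X ⟶ Y₁ ×_S Y₂` has finite image on `f₁⁻¹(Vᶜ)`;
  then `f₂` factors through `f₁`.
-/

set_option autoImplicit false
set_option linter.style.haveILetI false
universe u

open CategoryTheory CategoryTheory.Limits AlgebraicGeometry TopologicalSpace

namespace Groth.Agent.R2.H39.Contraction

/-- A morphism from an integral scheme, universally closed over a field, to an affine scheme is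
constant. -/
theorem range_subsingleton_of_isAffine {K : Type u} [Field K] {C Q : Scheme.{u}} [IsIntegral C]
    (s : C ⟶ Spec (CommRingCat.of K)) [UniversallyClosed s] [IsAffine Q] (b : C ⟶ Q) :
    (Set.range b).Subsingleton := by
  rintro _ ⟨x, rfl⟩ _ ⟨y, rfl⟩
  have hF : IsField Γ(C, ⊤) := isField_of_universallyClosed K s
  letI := hF.toField
  have h1 : C.toSpecΓ x = C.toSpecΓ y := Subsingleton.elim (α := PrimeSpectrum Γ(C, ⊤)) _ _
  have h2 : (b ≫ Q.toSpecΓ) x = (b ≫ Q.toSpecΓ) y := by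
    rw [Scheme.toSpecΓ_naturality, Scheme.Hom.comp_apply, Scheme.Hom.comp_apply, h1]
  rw [Scheme.Hom.comp_apply, Scheme.Hom.comp_apply] at h2
  exact Q.toSpecΓ.homeomorph.injective h2

theorem exists_affineOpen_mem (Y : Scheme.{u}) (y : Y) :
    ∃ U : Y.Opens, IsAffineOpen U ∧ y ∈ U := by
  obtain ⟨_, ⟨U, hU, rfl⟩, hy, -⟩ :=
    Y.isBasis_affineOpens.exists_subset_of_mem_open (Set.mem_univ y) isOpen_univ
  exact ⟨U, hU, hy⟩

/-- A morphism from an integral scheme, universally closed over a field, to a fibre product over an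
affine base, whose two components are constant, is constant. -/
theorem range_subsingleton_pullback {K : Type u} [Field K] {C S Y₁ Y₂ : Scheme.{u}} [IsIntegral C]
    [IsAffine S] (s : C ⟶ Spec (CommRingCat.of K)) [UniversallyClosed s]
    (π₁ : Y₁ ⟶ S) (π₂ : Y₂ ⟶ S) (a : C ⟶ pullback π₁ π₂) (y₁ : Y₁) (y₂ : Y₂)
    (h₁ : Set.range (a ≫ pullback.fst π₁ π₂) ⊆ {y₁})
    (h₂ : Set.range (a ≫ pullback.snd π₁ π₂) ⊆ {y₂}) :
    (Set.range a).Subsingleton := by
  obtain ⟨U₁, hU₁, hy₁⟩ := exists_affineOpen_mem Y₁ y₁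
  obtain ⟨U₂, hU₂, hy₂⟩ := exists_affineOpen_mem Y₂ y₂
  haveI : IsAffine U₁.toScheme := hU₁
  haveI : IsAffine U₂.toScheme := hU₂
  have hr₁ : Set.range (a ≫ pullback.fst π₁ π₂) ⊆ Set.range U₁.ι := by
    rw [Scheme.Opens.range_ι]
    exact h₁.trans (Set.singleton_subset_iff.2 hy₁)
  have hr₂ : Set.range (a ≫ pullback.snd π₁ π₂) ⊆ Set.range U₂.ι := by
    rw [Scheme.Opens.range_ι]
    exact h₂.trans (Set.singleton_subset_iff.2 hy₂)
  let a₁ : C ⟶ U₁.toScheme := IsOpenImmersion.lift U₁.ι (a ≫ pullback.fst π₁ π₂) hr₁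
  let a₂ : C ⟶ U₂.toScheme := IsOpenImmersion.lift U₂.ι (a ≫ pullback.snd π₁ π₂) hr₂
  have ha₁ : a₁ ≫ U₁.ι = a ≫ pullback.fst π₁ π₂ := IsOpenImmersion.lift_fac _ _ _
  have ha₂ : a₂ ≫ U₂.ι = a ≫ pullback.snd π₁ π₂ := IsOpenImmersion.lift_fac _ _ _
  let b : C ⟶ pullback (U₁.ι ≫ π₁) (U₂.ι ≫ π₂) := pullback.lift a₁ a₂ (by
    rw [reassoc_of% ha₁, reassoc_of% ha₂, pullback.condition])
  let m : pullback (U₁.ι ≫ π₁) (U₂.ι ≫ π₂) ⟶ pullback π₁ π₂ :=
    pullback.map (U₁.ι ≫ π₁) (U₂.ι ≫ π₂) π₁ π₂ U₁.ι U₂.ι (𝟙 S) (by simp) (by simp)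
  have hm1 : m ≫ pullback.fst π₁ π₂ = pullback.fst _ _ ≫ U₁.ι := pullback.lift_fst _ _ _
  have hm2 : m ≫ pullback.snd π₁ π₂ = pullback.snd _ _ ≫ U₂.ι := pullback.lift_snd _ _ _
  have hb1 : b ≫ pullback.fst _ _ = a₁ := pullback.lift_fst _ _ _
  have hb2 : b ≫ pullback.snd _ _ = a₂ := pullback.lift_snd _ _ _
  have hbm : b ≫ m = a := by
    apply pullback.hom_ext
    · rw [Category.assoc, hm1, reassoc_of% hb1, ha₁]
    · rw [Category.assoc, hm2, reassoc_of% hb2, ha₂]
  have hb := range_subsingleton_of_isAffine s b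
  rw [← hbm]
  rintro _ ⟨x, rfl⟩ _ ⟨y, rfl⟩
  rw [Scheme.Hom.comp_apply, Scheme.Hom.comp_apply, hb ⟨x, rfl⟩ ⟨y, rfl⟩]

/-- Global form of Stacks 0AH8 (Mathlib
`exists_finite_imageι_comp_morphismRestrict_of_finite_image_preimage`). -/
theorem isFinite_imageι_comp {X Y S : Scheme.{u}} (f : X ⟶ Y) (g : Y ⟶ S)
    (H : ∀ s : S, (f '' ((f ≫ g) ⁻¹' {s})).Finite)
    [IsProper (f ≫ g)] [IsSeparated g] [LocallyOfFiniteType g] :
    IsFinite (f.imageι ≫ g) := by
  have : IsProper f := .of_comp f g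
  have : IsProper (f.imageι ≫ g) := by
    suffices UniversallyClosed (f.imageι ≫ g) from ⟨⟩
    have : UniversallyClosed (f.toImage ≫ f.imageι ≫ g) := by
      rw [Scheme.Hom.toImage_imageι_assoc]; infer_instance
    refine .of_comp_surjective f.toImage _
  have : LocallyQuasiFinite (f.imageι ≫ g) := by
    refine .of_finite_preimage_singleton _ fun s => ?_
    refine .of_finite_image (f := f.imageι) ((H s).subset ?_)
      f.imageι.isClosedEmbedding.injective.injOn
    rintro _ ⟨x, hx, rfl⟩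
    obtain ⟨x, rfl⟩ := f.toImage.surjective x
    refine ⟨x, ?_, by simp [← Scheme.Hom.comp_apply]⟩
    simpa [← Scheme.Hom.comp_apply, -Scheme.Hom.comp_base] using hx
  exact .of_isProper_of_locallyQuasiFinite _

/-- the stalk of an integral scheme at (a point equal to) the generic point is a field. -/
theorem isField_stalk_of_eq_genericPoint {Z : Scheme.{u}} [IsIntegral Z] (z : Z)
    (hz : z = genericPoint Z) : IsField (Z.presheaf.stalk z) := by
  subst hz
  exact Field.toIsField Z.functionField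

/-- ring-level: `a ≫ b` iso, middle ring a field, last ring nontrivial ⇒ `a` iso. -/
theorem isIso_of_comp_isIso_of_isField {A B C : CommRingCat.{u}} (a : A ⟶ B) (b : B ⟶ C)
    (hB : IsField B) [Nontrivial C] (h : IsIso (a ≫ b)) : IsIso a := by
  letI := hB.toField
  have hbij := (ConcreteCategory.isIso_iff_bijective (a ≫ b)).1 h
  have hb : Function.Bijective b.hom := by
    refine ⟨b.hom.injective, fun c => ?_⟩
    obtain ⟨x, hx⟩ := hbij.2 c
    exact ⟨a.hom x, hx⟩
  haveI : IsIso b := (ConcreteCategory.isIso_iff_bijective b).2 hb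
  have : a = (a ≫ b) ≫ inv b := by simp
  rw [this]
  infer_instance

/-- **The graph trick.** -/
theorem exists_factor {S X Y₁ Y₂ : Scheme.{u}} [IsIntegral X] [IsIntegral Y₁]
    (hN : Pi1.IsNormalScheme Y₁) (πX : X ⟶ S) (π₁ : Y₁ ⟶ S) (π₂ : Y₂ ⟶ S) [IsProper πX]
    [IsSeparated π₁] [IsSeparated π₂] [LocallyOfFiniteType π₂]
    (f₁ : X ⟶ Y₁) (f₂ : X ⟶ Y₂) (w₁ : f₁ ≫ π₁ = πX) (w₂ : f₂ ≫ π₂ = πX)
    (E : Set X) (hE : ((pullback.lift f₁ f₂ (w₁.trans w₂.symm) : X ⟶ pullback π₁ π₂) '' E).Finite)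
    (V : Y₁.Opens) (hVne : (V : Set Y₁).Nonempty) (hV : IsIso (f₁ ∣_ V))
    (hEV : f₁ ⁻¹' ((V : Set Y₁)ᶜ) ⊆ E) :
    ∃ g : Y₁ ⟶ Y₂, f₁ ≫ g = f₂ ∧ g ≫ π₂ = π₁ := by
  set h' : X ⟶ pullback π₁ π₂ := pullback.lift f₁ f₂ (w₁.trans w₂.symm) with hh'
  have hfst : h' ≫ pullback.fst π₁ π₂ = f₁ := pullback.lift_fst _ _ _
  have hsnd : h' ≫ pullback.snd π₁ π₂ = f₂ := pullback.lift_snd _ _ _
  haveI : IsProper (f₁ ≫ π₁) := w₁ ▸ inferInstance
  haveI hf₁p : IsProper f₁ := IsProper.of_comp f₁ π₁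
  haveI : IsProper (h' ≫ pullback.fst π₁ π₂) := hfst ▸ hf₁p
  haveI : IsProper h' := IsProper.of_comp h' (pullback.fst π₁ π₂)
  -- injectivity of `f₁` over `V`
  have hinj : ∀ x x' : X, f₁ x ∈ V → f₁ x = f₁ x' → x = x' := by
    intro x x' hx hxx'
    have hx' : f₁ x' ∈ V := hxx' ▸ hx
    have hbij : Function.Injective (f₁ ∣_ V) :=
      (ConcreteCategory.bijective_of_isIso (f₁ ∣_ V).base).1
    have h3 : (⟨x, hx⟩ : (f₁ ⁻¹ᵁ V : X.Opens)) = ⟨x', hx'⟩ := by
      apply hbij
      apply Subtype.ext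
      rw [morphismRestrict_base_coe, morphismRestrict_base_coe]
      exact hxx'
    exact congrArg Subtype.val h3
  -- finite fibres
  have hfib : ∀ y : Y₁, (h' '' ((h' ≫ pullback.fst π₁ π₂) ⁻¹' {y})).Finite := by
    intro y
    rw [hfst]
    by_cases hy : y ∈ V
    · refine Set.Subsingleton.finite ?_
      refine Set.Subsingleton.image ?_ _
      intro x hx x' hx'
      have e1 : f₁ x = y := hx
      have e2 : f₁ x' = y := hx'
      exact hinj x x' (e1 ▸ hy) (e1.trans e2.symm)
    · refine hE.subset (Set.image_mono ?_)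
      intro x hx
      apply hEV
      have e1 : f₁ x = y := hx
      show f₁ x ∉ V
      rw [e1]; exact hy
  haveI hfin : IsFinite (h'.imageι ≫ pullback.fst π₁ π₂) := isFinite_imageι_comp h' _ hfib
  set q₁ : h'.image ⟶ Y₁ := h'.imageι ≫ pullback.fst π₁ π₂ with hq₁
  haveI : IsIntegral h'.image := by
    obtain ⟨hred, hirr⟩ := Groth.Agent.S2266.result h'
    haveI := hirr inferInstance inferInstance
    exact isIntegral_of_irreducibleSpace_of_isReduced _
  have htq : h'.toImage ≫ q₁ = f₁ := by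
    rw [hq₁, Scheme.Hom.toImage_imageι_assoc, hfst]
  -- generic points
  have hξZ : h'.toImage (genericPoint X) = genericPoint h'.image :=
    Groth.Agent.Lib.Helper4.NormCurve.apply_genericPoint_of_isDominant h'.toImage
  have hstalk₁ : IsIso (f₁.stalkMap (genericPoint X)) :=
    Groth.Agent.Lib.Helper4.BirLocalIso.isIso_stalkMap_genericPoint_of_isIso_morphismRestrict
      f₁ V hVne hV
  have hξY : f₁ (genericPoint X) = genericPoint Y₁ := by
    obtain ⟨v, hv⟩ := hVne
    have hηV : genericPoint Y₁ ∈ V :=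
      ((genericPoint_spec Y₁).specializes (Set.mem_univ v)).mem_open V.2 hv
    obtain ⟨z, hz⟩ := (ConcreteCategory.bijective_of_isIso (f₁ ∣_ V).base).2 ⟨genericPoint Y₁, hηV⟩
    have hz' : f₁ z.1 = genericPoint Y₁ := by
      have := congrArg Subtype.val hz
      rwa [morphismRestrict_base_coe] at this
    have h1 : genericPoint X ⤳ z.1 := (genericPoint_spec X).specializes (Set.mem_univ _)
    have h2 : f₁ (genericPoint X) ⤳ genericPoint Y₁ := hz' ▸ h1.map f₁.continuous
    have h3 : genericPoint Y₁ ⤳ f₁ (genericPoint X) :=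
      (genericPoint_spec Y₁).specializes (Set.mem_univ _)
    exact (h2.antisymm h3).eq
  have hdom : q₁ (genericPoint h'.image) = genericPoint Y₁ := by
    rw [← hξZ, ← Scheme.Hom.comp_apply, htq, hξY]
  have hdeg' : IsIso (q₁.stalkMap (h'.toImage (genericPoint X))) := by
    have h1 : IsIso ((h'.toImage ≫ q₁).stalkMap (genericPoint X)) := by
      rw [Scheme.Hom.stalkMap_congr_hom _ _ htq]
      infer_instance
    rw [Scheme.Hom.stalkMap_comp] at h1
    exact isIso_of_comp_isIso_of_isField _ _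
      (isField_stalk_of_eq_genericPoint _ hξZ) h1
  have hdeg : IsIso (q₁.stalkMap (genericPoint h'.image)) := hξZ ▸ hdeg'
  haveI : IsIso q₁ :=
    Groth.Agent.R2.H34.CurveIso.isIso_of_integral_birational hN q₁ hdom hdeg
  refine ⟨inv q₁ ≫ h'.imageι ≫ pullback.snd π₁ π₂, ?_, ?_⟩
  · rw [← htq, Category.assoc, IsIso.hom_inv_id_assoc, Scheme.Hom.toImage_imageι_assoc, hsnd]
  · rw [Category.assoc, Category.assoc, ← pullback.condition, IsIso.inv_comp_eq, hq₁,
      Category.assoc]

/-- a morphism to an irreducible scheme which is an isomorphism over a nonempty open is dominant. -/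
theorem isDominant_of_isIso_morphismRestrict {X Y : Scheme.{u}} [IrreducibleSpace Y] (f : X ⟶ Y)
    (V : Y.Opens) (hVne : (V : Set Y).Nonempty) (hV : IsIso (f ∣_ V)) : IsDominant f := by
  refine ⟨(V.2.dense hVne).mono ?_⟩
  intro v hv
  obtain ⟨z, hz⟩ := (ConcreteCategory.bijective_of_isIso (f ∣_ V).base).2 ⟨v, hv⟩
  refine ⟨z.1, ?_⟩
  have := congrArg Subtype.val hz
  rwa [morphismRestrict_base_coe] at this

/-- in an irreducible space of Krull dimension two, a finite set of closed points is not everything. -/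
theorem exists_notMem_of_dim_two {Y : Type*} [TopologicalSpace Y] [IrreducibleSpace Y]
    [QuasiSober Y] (hdim : topologicalKrullDim Y = 2) (F : Set Y)
    (hcl : ∀ y ∈ F, IsClosed ({y} : Set Y)) : ∃ y, y ∉ F := by
  by_contra hcon
  push Not at hcon
  have hη : IsClosed ({genericPoint Y} : Set Y) := hcl _ (hcon _)
  have huniv : (Set.univ : Set Y) = {genericPoint Y} := by
    rw [← (genericPoint_spec Y).def, hη.closure_eq]
  haveI : Subsingleton Y := by
    refine ⟨fun a b => ?_⟩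
    have ha : a ∈ ({genericPoint Y} : Set Y) := huniv ▸ Set.mem_univ a
    have hb : b ∈ ({genericPoint Y} : Set Y) := huniv ▸ Set.mem_univ b
    exact ha.trans hb.symm
  have h0 := topologicalKrullDim_zero_of_discreteTopology Y
  rw [hdim] at h0
  exact absurd h0 (by decide)

end Groth.Agent.R2.H39.Contraction
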