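import Mathlib
import Groth.Prelude.Def_ArSurf
import Groth.Agent.R2.H39Contraction
import Groth.Agent.S9705

/-!
# Uniqueness of the contraction of vertical divisors on a normal fibered surface (helper39)

`IsContr R X Γ Y f`: the hypotheses of S7909 on a contraction `f : X ⟶ Y` of the vertical prime
divisors `Γ i`.  `IsContr.exists_factor`, `IsContr.hom_ext`.
-/

set_option autoImplicit false
set_option linter.style.haveILetI false
universe u

open CategoryTheory CategoryTheory.Limits AlgebraicGeometry TopologicalSpace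

namespace Groth.Agent.R2.H39.Contraction

variable (R : Type u) [CommRing R] [IsDomain R] [IsDiscreteValuationRing R]

omit [IsDomain R] [IsDiscreteValuationRing R] in
theorem isProper_of_isProjectiveOver {X : Over (Spec (CommRingCat.of R))}
    (h : Neron.IsProjectiveOver R X) : IsProper X.hom := by
  obtain ⟨n, i, hi, hif⟩ := h
  have := Groth.Agent.S9705.isProper_toBase n (Spec (CommRingCat.of R))
  rw [← hif]
  infer_instance

/-- the exceptional set -/
def excSet {X : Over (Spec (CommRingCat.of R))} {r : ℕ} (Γ : Fin r → ArSurf.VertComp R X) :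
    Set X.left := ⋃ i, Set.range (Γ i).ι.base

/-- The hypotheses of S7909 on a contraction. -/
def IsContr {X : Over (Spec (CommRingCat.of R))} {r : ℕ} (Γ : Fin r → ArSurf.VertComp R X)
    (Y : Over (Spec (CommRingCat.of R))) (f : X ⟶ Y) : Prop :=
  IsIntegral Y.left ∧ (∀ q : Y.left, IsIntegrallyClosed (Y.left.presheaf.stalk q)) ∧
    topologicalKrullDim Y.left = 2 ∧ Flat Y.hom ∧ Neron.IsProjectiveOver R Y ∧
    (∀ i, ∃ y : Y.left, Set.range (((Γ i).ι ≫ f.left).base : (Γ i).curve.left → Y.left) = {y}) ∧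
    f.left.base ⁻¹' (f.left.base '' ⋃ i, Set.range (Γ i).ι.base) = ⋃ i, Set.range (Γ i).ι.base ∧
    (∀ V : Y.left.Opens, (V : Set Y.left) ∩ f.left.base '' (⋃ i, Set.range (Γ i).ι.base) = ∅ →
      IsIso (f.left ∣_ V))

variable {R}
variable {X : Over (Spec (CommRingCat.of R))} {r : ℕ} {Γ : Fin r → ArSurf.VertComp R X}

/-- a vertical prime divisor is universally closed over the residue field. -/
theorem universallyClosed_curve_hom (hX : IsProper X.hom) (C : ArSurf.VertComp R X) :
    UniversallyClosed C.curve.hom := by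
  haveI := hX
  haveI : IsProper (C.curve.hom ≫ Spec.map (CommRingCat.ofHom (IsLocalRing.residue R))) := by
    rw [← C.w]; infer_instance
  haveI : IsProper C.curve.hom :=
    IsProper.of_comp C.curve.hom (Spec.map (CommRingCat.ofHom (IsLocalRing.residue R)))
  infer_instance

/-- the complement of the image of the exceptional set, as a nonempty open over which `f` is an
isomorphism. -/
theorem IsContr.exists_open [IsIntegral X.left] (hX : IsProper X.hom)
    {Y : Over (Spec (CommRingCat.of R))} {f : X ⟶ Y} (h : IsContr R Γ Y f) :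
    ∃ V : Y.left.Opens, (V : Set Y.left).Nonempty ∧ IsIso (f.left ∣_ V) ∧
      f.left ⁻¹' ((V : Set Y.left)ᶜ) ⊆ excSet R Γ := by
  obtain ⟨hint, hnor, hdim, hfl, hproj, hpt, hpre, hiso⟩ := h
  haveI := hint
  haveI := hX
  haveI hYp : IsProper Y.hom := isProper_of_isProjectiveOver R hproj
  haveI : IsProper (f.left ≫ Y.hom) := by rw [Over.w f]; infer_instance
  haveI : IsProper f.left := IsProper.of_comp f.left Y.hom
  have hEcl : IsClosed (excSet R Γ) :=
    isClosed_iUnion_of_finite fun i => (Γ i).ι.isClosedEmbedding.isClosed_range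
  have hFcl : IsClosed (f.left '' excSet R Γ) := f.left.isClosedMap _ hEcl
  let V : Y.left.Opens := ⟨(f.left '' excSet R Γ)ᶜ, hFcl.isOpen_compl⟩
  have hVc : ((V : Set Y.left))ᶜ = f.left '' excSet R Γ := compl_compl _
  refine ⟨V, ?_, ?_, ?_⟩
  · -- nonempty
    have hcl : ∀ y ∈ f.left '' excSet R Γ, IsClosed ({y} : Set Y.left) := by
      rintro _ ⟨x, hx, rfl⟩
      obtain ⟨i, hi⟩ := Set.mem_iUnion.1 hx
      obtain ⟨y, hy⟩ := hpt i
      have hxy : f.left x ∈ ({y} : Set Y.left) := by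
        rw [← hy]
        obtain ⟨c, rfl⟩ := hi
        exact ⟨c, rfl⟩
      rw [Set.mem_singleton_iff.1 hxy, ← hy]
      have : Set.range (((Γ i).ι ≫ f.left).base : (Γ i).curve.left → Y.left) =
          f.left '' Set.range (Γ i).ι.base := by
        rw [← Set.range_comp]; rfl
      rw [this]
      exact f.left.isClosedMap _ (Γ i).ι.isClosedEmbedding.isClosed_range
    obtain ⟨y, hy⟩ := exists_notMem_of_dim_two hdim _ hcl
    exact ⟨y, hy⟩
  · apply hiso
    rw [Set.eq_empty_iff_forall_notMem]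
    rintro y ⟨hy1, hy2⟩
    exact hy1 hy2
  · rw [hVc]
    exact hpre.le

/-- the graph morphism has finite image on the exceptional set. -/
theorem finite_image_excSet [IsIntegral X.left] (hX : IsProper X.hom)
    {Y₁ Y₂ : Over (Spec (CommRingCat.of R))} (f₁ : X ⟶ Y₁) (f₂ : X ⟶ Y₂)
    (h₁ : ∀ i, ∃ y : Y₁.left,
      Set.range (((Γ i).ι ≫ f₁.left).base : (Γ i).curve.left → Y₁.left) = {y})
    (h₂ : ∀ i, ∃ y : Y₂.left,
      Set.range (((Γ i).ι ≫ f₂.left).base : (Γ i).curve.left → Y₂.left) = {y}) :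
    ((pullback.lift f₁.left f₂.left ((Over.w f₁).trans (Over.w f₂).symm) :
      X.left ⟶ pullback Y₁.hom Y₂.hom) '' excSet R Γ).Finite := by
  set h' : X.left ⟶ pullback Y₁.hom Y₂.hom :=
    pullback.lift f₁.left f₂.left ((Over.w f₁).trans (Over.w f₂).symm)
  have hfst : h' ≫ pullback.fst Y₁.hom Y₂.hom = f₁.left := pullback.lift_fst _ _ _
  have hsnd : h' ≫ pullback.snd Y₁.hom Y₂.hom = f₂.left := pullback.lift_snd _ _ _
  rw [excSet, Set.image_iUnion]
  refine Set.finite_iUnion fun i => Set.Subsingleton.finite ?_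
  have hrange : h' '' Set.range (Γ i).ι.base = Set.range ((Γ i).ι ≫ h') := by
    rw [← Set.range_comp]; rfl
  rw [hrange]
  obtain ⟨y₁, hy₁⟩ := h₁ i
  obtain ⟨y₂, hy₂⟩ := h₂ i
  haveI := universallyClosed_curve_hom hX (Γ i)
  refine range_subsingleton_pullback (Γ i).curve.hom Y₁.hom Y₂.hom ((Γ i).ι ≫ h') y₁ y₂ ?_ ?_
  · rw [Category.assoc, hfst]
    exact hy₁.le
  · rw [Category.assoc, hsnd]
    exact hy₂.le

theorem IsContr.exists_factor [IsIntegral X.left] (hX : IsProper X.hom)
    {Y₁ Y₂ : Over (Spec (CommRingCat.of R))} {f₁ : X ⟶ Y₁} {f₂ : X ⟶ Y₂}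
    (h₁ : IsContr R Γ Y₁ f₁) (h₂ : IsContr R Γ Y₂ f₂) : ∃ g : Y₁ ⟶ Y₂, f₁ ≫ g = f₂ := by
  obtain ⟨V, hVne, hViso, hVE⟩ := h₁.exists_open hX
  have hfin := finite_image_excSet hX f₁ f₂ h₁.2.2.2.2.2.1 h₂.2.2.2.2.2.1
  haveI := h₁.1
  haveI := hX
  haveI : IsProper Y₁.hom := isProper_of_isProjectiveOver R h₁.2.2.2.2.1
  haveI : IsProper Y₂.hom := isProper_of_isProjectiveOver R h₂.2.2.2.2.1
  have hN : Pi1.IsNormalScheme Y₁.left := fun q => ⟨inferInstance, h₁.2.1 q⟩
  obtain ⟨g, hg1, hg2⟩ := Groth.Agent.R2.H39.Contraction.exists_factor hN X.hom Y₁.hom Y₂.hom f₁.left f₂.left (Over.w f₁)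
    (Over.w f₂) (excSet R Γ) hfin V hVne hViso hVE
  exact ⟨Over.homMk g hg2, Over.OverMorphism.ext hg1⟩

theorem IsContr.hom_ext [IsIntegral X.left] (hX : IsProper X.hom)
    {Y₁ Y₂ : Over (Spec (CommRingCat.of R))} {f₁ : X ⟶ Y₁}
    (h₁ : IsContr R Γ Y₁ f₁) (hY₂ : IsSeparated Y₂.hom) (g g' : Y₁ ⟶ Y₂)
    (h : f₁ ≫ g = f₁ ≫ g') : g = g' := by
  obtain ⟨V, hVne, hViso, -⟩ := h₁.exists_open hX
  haveI := h₁.1
  haveI : IsDominant f₁.left := isDominant_of_isIso_morphismRestrict f₁.left V hVne hViso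
  apply Over.OverMorphism.ext
  refine ext_of_isDominant_of_isSeparated Y₂.hom ?_ f₁.left ?_
  · rw [Over.w g, Over.w g']
  · have := congrArg CommaMorphism.left h
    simpa using this

end Groth.Agent.R2.H39.Contraction
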