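import Mathlib

/-!
# Exterior powers of `M × R` and top exterior powers of stably free modules

* `equiv k : ⋀^(k+1) (M × R) ≃ₗ ⋀^(k+1) M × ⋀^k M`.
* `main`: if `Q × R^r ≃ R^(m+r)` then `⋀^m Q ≃ R` and `⋀^j Q = 0` for `j > m`.
-/

set_option autoImplicit false
universe u v

namespace Groth.Agent.R2.H39.ExtPowProd

open exteriorPower

variable {R : Type u} [CommRing R] {M : Type v} [AddCommGroup M] [Module R M] (k : ℕ)

/-- `⋀^(k+1)(M × R) → ⋀^(k+1) M`, induced by the first projection. -/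
noncomputable def p1 : ⋀[R]^(k+1) (M × R) →ₗ[R] ⋀[R]^(k+1) M :=
  exteriorPower.map (k+1) (LinearMap.fst R M R)

/-- auxiliary map: linear in the first slot, alternating in the others. -/
noncomputable def coLin : M × R →ₗ[R] (M × R) [⋀^Fin k]→ₗ[R] ⋀[R]^k M where
  toFun x := x.2 • ((ιMulti R k).compLinearMap (LinearMap.fst R M R))
  map_add' x y := by simp [add_smul]
  map_smul' c x := by simp [mul_smul]

/-- `⋀^(k+1)(M × R) → ⋀^k M`: contraction with the second projection. -/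
noncomputable def p2 : ⋀[R]^(k+1) (M × R) →ₗ[R] ⋀[R]^k M :=
  alternatingMapLinearEquiv (AlternatingMap.alternatizeUncurryFin (coLin (R := R) (M := M) k))

/-- `⋀^(k+1) M → ⋀^(k+1)(M × R)`, induced by the inclusion. -/
noncomputable def q1 : ⋀[R]^(k+1) M →ₗ[R] ⋀[R]^(k+1) (M × R) :=
  exteriorPower.map (k+1) (LinearMap.inl R M R)

/-- `⋀^k M → ⋀^(k+1)(M × R)`: `x ↦ e ∧ x`. -/
noncomputable def q2 : ⋀[R]^k M →ₗ[R] ⋀[R]^(k+1) (M × R) :=
  alternatingMapLinearEquiv
    (((ιMulti R (k+1)).curryLeft ((0, 1) : M × R)).compLinearMap (LinearMap.inl R M R))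

lemma p1_ιMulti (v : Fin (k+1) → M × R) :
    p1 k (ιMulti R (k+1) v) = ιMulti R (k+1) (fun i => (v i).1) := by
  simp [p1, exteriorPower.map_apply_ιMulti, Function.comp_def]

lemma p2_ιMulti (v : Fin (k+1) → M × R) :
    p2 k (ιMulti R (k+1) v) =
      ∑ i : Fin (k+1), (-1 : ℤ) ^ (i : ℕ) • ((v i).2 • ιMulti R k (fun j => (i.removeNth v j).1)) := by
  simp [p2, coLin, AlternatingMap.alternatizeUncurryFin_apply]

lemma q1_ιMulti (m : Fin (k+1) → M) :
    q1 (R := R) k (ιMulti R (k+1) m) = ιMulti R (k+1) (fun i => ((m i, 0) : M × R)) := by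
  simp [q1, exteriorPower.map_apply_ιMulti, Function.comp_def]

lemma q2_ιMulti (m : Fin k → M) :
    q2 (R := R) k (ιMulti R k m) =
      ιMulti R (k+1) (Matrix.vecCons ((0, 1) : M × R) (fun i => ((m i, 0) : M × R))) := by
  simp [q2]

lemma p1_q1 : (p1 (R := R) (M := M) k) ∘ₗ (q1 k) = LinearMap.id := by
  apply exteriorPower.linearMap_ext
  ext m
  simp [q1_ιMulti, p1_ιMulti]

lemma p1_q2 : (p1 (R := R) (M := M) k) ∘ₗ (q2 k) = 0 := by
  apply exteriorPower.linearMap_ext
  ext m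
  simp only [LinearMap.compAlternatingMap_apply, LinearMap.coe_comp, Function.comp_apply,
    q2_ιMulti, p1_ιMulti, LinearMap.zero_apply]
  rw [(ιMulti R (k+1)).map_coord_zero (0 : Fin (k+1)) (by simp)]

lemma p2_q1 : (p2 (R := R) (M := M) k) ∘ₗ (q1 k) = 0 := by
  apply exteriorPower.linearMap_ext
  ext m
  simp [q1_ιMulti, p2_ιMulti, Fin.removeNth]

lemma p2_q2 : (p2 (R := R) (M := M) k) ∘ₗ (q2 k) = LinearMap.id := by
  apply exteriorPower.linearMap_ext
  ext m
  simp only [LinearMap.compAlternatingMap_apply, LinearMap.coe_comp, Function.comp_apply,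
    q2_ιMulti, p2_ιMulti, LinearMap.id_coe, id_eq]
  rw [Fin.sum_univ_succ]
  simp [Fin.removeNth]

/-- the spanning set `M × 0 ∪ {e}` of `M × R`. -/
def spanSet : Set (M × R) := Set.range (LinearMap.inl R M R) ∪ {((0, 1) : M × R)}

lemma span_spanSet : Submodule.span R (spanSet (R := R) (M := M)) = ⊤ := by
  rw [eq_top_iff]
  rintro ⟨m, b⟩ -
  have h : ((m, b) : M × R) = LinearMap.inl R M R m + b • ((0, 1) : M × R) := by
    simp
  rw [h]
  apply Submodule.add_mem
  · exact Submodule.subset_span (Or.inl ⟨m, rfl⟩)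
  · exact Submodule.smul_mem _ _ (Submodule.subset_span (Or.inr rfl))

lemma ιMulti_mem_range (v : Fin (k+1) → M × R) (hv : Set.range v ⊆ spanSet (R := R) (M := M)) :
    ιMulti R (k+1) v ∈ LinearMap.range ((q1 (R := R) (M := M) k).coprod (q2 k)) := by
  have hs : ∀ i, (v i).2 = 0 ∨ v i = (0, 1) := by
    intro i
    rcases hv ⟨i, rfl⟩ with ⟨m, hm⟩ | h
    · left; rw [← hm]; simp
    · right; exact h
  by_cases hA : ∀ i, (v i).2 = 0
  · refine ⟨(ιMulti R (k+1) (fun i => (v i).1), 0), ?_⟩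
    simp only [LinearMap.coprod_apply, map_zero, add_zero, q1_ιMulti]
    congr 1
    ext i
    · rfl
    · exact (hA i).symm
  · push Not at hA
    obtain ⟨i, hi⟩ := hA
    have hvi : v i = (0, 1) := (hs i).resolve_left hi
    have hv' : v = i.insertNth ((0, 1) : M × R) (i.removeNth v) := by
      rw [← hvi, Fin.insertNth_self_removeNth]
    by_cases hB : ∀ j, (i.removeNth v j).2 = 0
    · refine ⟨(0, (-1 : ℤ) ^ (i : ℕ) • ιMulti R k (fun j => (i.removeNth v j).1)), ?_⟩
      simp only [LinearMap.coprod_apply, map_zero, zero_add, map_zsmul, q2_ιMulti]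
      conv_rhs => rw [hv', AlternatingMap.map_insertNth]
      congr 3
      ext j
      · rfl
      · exact (hB j).symm
    · push Not at hB
      obtain ⟨j, hj⟩ := hB
      have hvj : v (i.succAbove j) = (0, 1) := (hs (i.succAbove j)).resolve_left hj
      rw [(ιMulti R (k+1)).map_eq_zero_of_eq v (hvj.trans hvi.symm) (Fin.succAbove_ne i j)]
      exact Submodule.zero_mem _

lemma q_surjective : Function.Surjective ((q1 (R := R) (M := M) k).coprod (q2 k)) := by
  rw [← LinearMap.range_eq_top, eq_top_iff, ← ιMulti_span_of_span R (k+1) (M × R) span_spanSet,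
    Submodule.span_le]
  rintro _ ⟨v, hv, rfl⟩
  exact ιMulti_mem_range k v hv

lemma p_comp_q : ((p1 (R := R) (M := M) k).prod (p2 k)) ∘ₗ ((q1 k).coprod (q2 k)) = LinearMap.id := by
  apply LinearMap.ext
  rintro ⟨x, y⟩
  have h1 := LinearMap.congr_fun (p1_q1 (R := R) (M := M) k) x
  have h2 := LinearMap.congr_fun (p1_q2 (R := R) (M := M) k) y
  have h3 := LinearMap.congr_fun (p2_q1 (R := R) (M := M) k) x
  have h4 := LinearMap.congr_fun (p2_q2 (R := R) (M := M) k) y
  simp only [LinearMap.comp_apply, LinearMap.id_apply, LinearMap.zero_apply] at h1 h2 h3 h4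
  simp [h1, h2, h3, h4]

/-- `⋀^(k+1) M × ⋀^k M ≃ ⋀^(k+1)(M × R)`. -/
noncomputable def equiv : (⋀[R]^(k+1) M × ⋀[R]^k M) ≃ₗ[R] ⋀[R]^(k+1) (M × R) :=
  LinearEquiv.ofBijective ((q1 k).coprod (q2 k))
    ⟨Function.LeftInverse.injective (g := (p1 k).prod (p2 k))
      (fun x => LinearMap.congr_fun (p_comp_q (R := R) (M := M) k) x), q_surjective k⟩


section Main

/-- free case. -/
theorem main_free (R : Type u) [CommRing R] (Q : Type v) [AddCommGroup Q] [Module R Q] (m : ℕ)
    (e : Q ≃ₗ[R] (Fin m → R)) :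
    Nonempty (⋀[R]^m Q ≃ₗ[R] R) ∧ ∀ j, m < j → Subsingleton (⋀[R]^j Q) := by
  rcases subsingleton_or_nontrivial R with hR | hR
  · have hQ : ∀ j, Subsingleton (⋀[R]^j Q) := fun j => Module.subsingleton R _
    have := hQ m
    exact ⟨⟨LinearEquiv.ofSubsingleton _ _⟩, fun j _ => hQ j⟩
  · let b : Module.Basis (Fin m) R Q := Module.Basis.ofEquivFun e
    have : Module.Free R Q := Module.Free.of_basis b
    have : Module.Finite R Q := Module.Finite.of_basis b
    have hfr : Module.finrank R Q = m := by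
      rw [Module.finrank_eq_card_basis b, Fintype.card_fin]
    refine ⟨?_, ?_⟩
    · have h1 : Module.finrank R (⋀[R]^m Q) = 1 := by
        rw [exteriorPower.finrank_eq, hfr, Nat.choose_self]
      obtain ⟨f⟩ := Module.nonempty_linearEquiv_of_finrank_eq_one h1
      exact ⟨f.symm⟩
    · intro j hj
      have h0 : Module.finrank R (⋀[R]^j Q) = 0 := by
        rw [exteriorPower.finrank_eq, hfr, Nat.choose_eq_zero_of_lt hj]
      exact (Module.finrank_eq_zero_iff_of_free R _).mp h0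

/-- If `Q × R^r ≃ R^(m+r)` then `⋀^m Q ≃ R` and `⋀^j Q = 0` for `j > m`. -/
theorem main (R : Type u) [CommRing R] : ∀ (r : ℕ) (Q : Type u) [AddCommGroup Q] [Module R Q]
    (m : ℕ), ((Q × (Fin r → R)) ≃ₗ[R] (Fin (m + r) → R)) →
    Nonempty (⋀[R]^m Q ≃ₗ[R] R) ∧ ∀ j, m < j → Subsingleton (⋀[R]^j Q) := by
  intro r
  induction r with
  | zero =>
    intro Q _ _ m e
    exact main_free R Q m ((LinearEquiv.prodUnique (R := R) (M := Q) (M₂ := Fin 0 → R)).symm.trans e)
  | succ r ih =>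
    intro Q _ _ m e
    have hmr : m + (r + 1) = (m + 1) + r := by omega
    let e' : ((Q × R) × (Fin r → R)) ≃ₗ[R] (Fin ((m + 1) + r) → R) :=
      (LinearEquiv.prodAssoc R Q R (Fin r → R)).trans
        (((LinearEquiv.refl R Q).prodCongr (Fin.consLinearEquiv R (fun _ : Fin (r+1) => R))).trans
          (e.trans (LinearEquiv.funCongrLeft R R (finCongr hmr.symm))))
    obtain ⟨⟨f⟩, hf⟩ := ih (Q × R) (m + 1) e'
    have hsub : ∀ j, m < j → Subsingleton (⋀[R]^j Q) := by
      intro j hj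
      have h1 : Subsingleton (⋀[R]^(j+1) (Q × R)) := hf (j + 1) (by omega)
      have h2 : Subsingleton (⋀[R]^(j+1) Q × ⋀[R]^j Q) := (equiv (R := R) (M := Q) j).toEquiv.subsingleton
      refine ⟨fun a b => ?_⟩
      have := Subsingleton.elim ((0 : ⋀[R]^(j+1) Q), a) ((0 : ⋀[R]^(j+1) Q), b)
      exact (Prod.ext_iff.mp this).2
    refine ⟨?_, hsub⟩
    have h1 : Subsingleton (⋀[R]^(m+1) Q) := hsub (m + 1) (by omega)
    have : Unique (⋀[R]^(m+1) Q) := Unique.mk' _
    exact ⟨(LinearEquiv.uniqueProd (R := R) (M := ⋀[R]^m Q) (M₂ := ⋀[R]^(m+1) Q)).symm.trans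
      ((equiv (R := R) (M := Q) m).trans f)⟩

end Main

end Groth.Agent.R2.H39.ExtPowProd
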