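import Mathlib
import Groth.Agent.S5802
import Groth.Agent.R2.H39ExtPowProd

/-!
# `(⋀^r I/I²)^∨ ⊗ (B ⊗ ⋀^n Ω_P) ≃ ⋀^(n-r) Ω_B` for a smooth complete intersection `B = P/I`
-/

set_option autoImplicit false
universe u

namespace Groth.Agent.R2.H39.DetCot

open TensorProduct

section CotBasis

variable {P : Type u} [CommRing P] {r : ℕ} (F : Fin r → P)

/-- the classes of the generators in `I/I²`. -/
noncomputable def cls (I : Ideal P) (hI : I = Ideal.span (Set.range F)) (i : Fin r) : I.Cotangent :=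
  I.toCotangent ⟨F i, hI ▸ Ideal.subset_span ⟨i, rfl⟩⟩

lemma sum_smul_cls (I : Ideal P) (hI : I = Ideal.span (Set.range F)) (a : Fin r → P) :
    ∑ i, (Ideal.Quotient.mk I (a i)) • cls F I hI i =
      I.toCotangent ⟨∑ i, a i * F i, I.sum_mem fun i _ =>
        I.mul_mem_left _ (hI ▸ Ideal.subset_span ⟨i, rfl⟩)⟩ := by
  have h : ∀ i, (Ideal.Quotient.mk I (a i)) • cls F I hI i = a i • cls F I hI i := by
    intro i
    rw [← Ideal.Quotient.algebraMap_eq, algebraMap_smul]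
  simp_rw [h, cls, ← map_smul, ← map_sum]
  congr 1
  ext
  simp

lemma linearIndependent_cls (I : Ideal P) (hI : I = Ideal.span (Set.range F))
    (hq : CAlgX.IsQuasiRegular F) : LinearIndependent (P ⧸ I) (cls F I hI) := by
  rw [Fintype.linearIndependent_iff]
  intro g hg i
  have hsurj : ∀ j, ∃ a : P, Ideal.Quotient.mk I a = g j := fun j => Ideal.Quotient.mk_surjective _
  choose a ha using hsurj
  simp_rw [← ha] at hg
  rw [sum_smul_cls, Ideal.toCotangent_eq_zero] at hg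
  -- the linear polynomial
  let L : MvPolynomial (Fin r) P := ∑ j, MvPolynomial.C (a j) * MvPolynomial.X j
  have hL : L.IsHomogeneous 1 := by
    apply MvPolynomial.IsHomogeneous.sum
    intro j _
    exact (MvPolynomial.isHomogeneous_X P j).C_mul (a j)
  have hev : MvPolynomial.eval F L = ∑ j, a j * F j := by
    simp [L]
  have hmem : MvPolynomial.eval F L ∈ Ideal.span (Set.range F) ^ (1 + 1) := by
    rw [hev, ← hI]
    exact hg
  have hc := hq 1 L hL hmem (Finsupp.single i 1)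
  have hcoef : L.coeff (Finsupp.single i 1) = a i := by
    classical
    simp only [L, MvPolynomial.coeff_sum, MvPolynomial.coeff_C_mul, MvPolynomial.coeff_X]
    rw [Finset.sum_eq_single i]
    · simp
    · intro j _ hji
      have : ¬ (Finsupp.single j 1 = Finsupp.single i 1) := by
        intro h
        exact hji (Finsupp.single_left_injective one_ne_zero h)
      simp [this]
    · intro h; exact absurd (Finset.mem_univ i) h
  rw [hcoef, ← hI] at hc
  rw [← ha i]
  exact Ideal.Quotient.eq_zero_iff_mem.mpr hc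

lemma span_cls (I : Ideal P) (hI : I = Ideal.span (Set.range F)) :
    ⊤ ≤ Submodule.span (P ⧸ I) (Set.range (cls F I hI)) := by
  rintro x -
  obtain ⟨⟨y, hy⟩, rfl⟩ := I.toCotangent_surjective x
  have hy' : y ∈ Ideal.span (Set.range F) := hI ▸ hy
  obtain ⟨a, rfl⟩ := (Ideal.mem_span_range_iff_exists_fun).mp hy'
  have := sum_smul_cls F I hI a
  rw [show I.toCotangent ⟨∑ i, a i * F i, hy⟩ = ∑ i, (Ideal.Quotient.mk I (a i)) • cls F I hI i from
    this.symm]
  exact Submodule.sum_mem _ fun i _ => Submodule.smul_mem _ _ (Submodule.subset_span ⟨i, rfl⟩)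

/-- basis of `I/I²` for a quasi-regular sequence. -/
noncomputable def cotBasis (I : Ideal P) (hI : I = Ideal.span (Set.range F))
    (hq : CAlgX.IsQuasiRegular F) : Module.Basis (Fin r) (P ⧸ I) I.Cotangent :=
  Module.Basis.mk (linearIndependent_cls F I hI hq) (span_cls F I hI)

end CotBasis

section Split

variable (A : Type u) [CommRing A] (P : Type u) [CommRing P] [Algebra A P]
  [Algebra.FormallySmooth A P] (I : Ideal P) [Algebra.FormallySmooth A (P ⧸ I)]

/-- the conormal sequence of a formally smooth quotient splits. -/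
theorem nonempty_split :
    Nonempty (((P ⧸ I) ⊗[P] Ω[P⁄A]) ≃ₗ[P ⧸ I] (I.Cotangent × Ω[(P ⧸ I)⁄A])) := by
  have hsurj : Function.Surjective (algebraMap P (P ⧸ I)) := Ideal.Quotient.mk_surjective
  obtain ⟨l, hl⟩ := (Algebra.FormallySmooth.iff_split_injection (R := A) (P := P) (A := P ⧸ I)
    hsurj).mp inferInstance
  have hex := KaehlerDifferential.exact_kerCotangentToTensor_mapBaseChange A P (P ⧸ I) hsurj
  have hsj := KaehlerDifferential.mapBaseChange_surjective A P (P ⧸ I) hsurj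
  have hex' : Function.Exact (KaehlerDifferential.kerCotangentToTensor A P (P ⧸ I))
      ((KaehlerDifferential.mapBaseChange A P (P ⧸ I)).restrictScalars P) := hex
  have hsj' : Function.Surjective ((KaehlerDifferential.mapBaseChange A P (P ⧸ I)).restrictScalars P) :=
    hsj
  obtain ⟨e, -, -⟩ := Function.Exact.splitInjectiveEquiv hex' hsj' ⟨l, hl⟩
  have hK : RingHom.ker (algebraMap P (P ⧸ I)) = I := by
    rw [Ideal.Quotient.algebraMap_eq, Ideal.mk_ker]
  let e2 : (RingHom.ker (algebraMap P (P ⧸ I))).Cotangent ≃ₗ[P] I.Cotangent :=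
    Ideal.Cotangent.equivOfEq _ _ hK
  let e3 : ((P ⧸ I) ⊗[P] Ω[P⁄A]) ≃ₗ[P] (I.Cotangent × Ω[(P ⧸ I)⁄A]) :=
    e.trans (e2.prodCongr (LinearEquiv.refl P _))
  exact ⟨LinearEquiv.extendScalarsOfSurjective hsurj e3⟩

end Split

section Final

open Groth.Agent.R2.H39

theorem main (A : Type u) [CommRing A]
    (n r : ℕ) (hrn : r ≤ n) (F : Fin r → MvPolynomial (Fin n) A)
    (hreg : RingTheory.Sequence.IsWeaklyRegular (MvPolynomial (Fin n) A) (List.ofFn F))
    (I : Ideal (MvPolynomial (Fin n) A)) (hI : I = Ideal.span (Set.range F))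
    [Algebra.FormallySmooth A (MvPolynomial (Fin n) A ⧸ I)] :
    Nonempty ((Module.Dual (MvPolynomial (Fin n) A ⧸ I) (⋀[MvPolynomial (Fin n) A ⧸ I]^r I.Cotangent)) ⊗[MvPolynomial (Fin n) A ⧸ I]
        ((MvPolynomial (Fin n) A ⧸ I) ⊗[MvPolynomial (Fin n) A] (⋀[MvPolynomial (Fin n) A]^n (Ω[MvPolynomial (Fin n) A⁄A])))
      ≃ₗ[MvPolynomial (Fin n) A ⧸ I] (⋀[MvPolynomial (Fin n) A ⧸ I]^(n - r) (Ω[(MvPolynomial (Fin n) A ⧸ I)⁄A]))) := by
  have hq : CAlgX.IsQuasiRegular F := Groth.Agent.S5802.result _ r F hreg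
  let bN := cotBasis F I hI hq
  -- `⋀^r (I/I²) ≃ B`
  obtain ⟨⟨eN⟩, -⟩ := ExtPowProd.main_free (MvPolynomial (Fin n) A ⧸ I) I.Cotangent r bN.equivFun
  -- `⋀^n Ω_P ≃ P`
  obtain ⟨⟨eP⟩, -⟩ := ExtPowProd.main_free (MvPolynomial (Fin n) A) (Ω[MvPolynomial (Fin n) A⁄A]) n
    (KaehlerDifferential.mvPolynomialBasis A (Fin n)).equivFun
  -- the splitting
  obtain ⟨eS⟩ := nonempty_split A (MvPolynomial (Fin n) A) I
  -- `Ω_B × B^r ≃ B^((n-r)+r)`
  have hnr : n = (n - r) + r := by omega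
  let bT := Algebra.TensorProduct.basis (MvPolynomial (Fin n) A ⧸ I)
    (KaehlerDifferential.mvPolynomialBasis A (Fin n))
  let eQ : (Ω[(MvPolynomial (Fin n) A ⧸ I)⁄A] × (Fin r → (MvPolynomial (Fin n) A ⧸ I)))
      ≃ₗ[MvPolynomial (Fin n) A ⧸ I] (Fin ((n - r) + r) → (MvPolynomial (Fin n) A ⧸ I)) :=
    ((LinearEquiv.refl _ _).prodCongr bN.equivFun.symm).trans
      ((LinearEquiv.prodComm _ _ _).trans
        (eS.symm.trans (bT.equivFun.trans (LinearEquiv.funCongrLeft _ _ (finCongr hnr.symm)))))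
  obtain ⟨⟨eΩ⟩, -⟩ := ExtPowProd.main (MvPolynomial (Fin n) A ⧸ I) r
    (Ω[(MvPolynomial (Fin n) A ⧸ I)⁄A]) (n - r) eQ
  -- assemble
  let e1 : Module.Dual (MvPolynomial (Fin n) A ⧸ I) (⋀[MvPolynomial (Fin n) A ⧸ I]^r I.Cotangent)
      ≃ₗ[MvPolynomial (Fin n) A ⧸ I] (MvPolynomial (Fin n) A ⧸ I) :=
    eN.symm.dualMap.trans (LinearMap.ringLmapEquivSelf _ _ _)
  let e2 : ((MvPolynomial (Fin n) A ⧸ I) ⊗[MvPolynomial (Fin n) A]
      (⋀[MvPolynomial (Fin n) A]^n (Ω[MvPolynomial (Fin n) A⁄A])))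
      ≃ₗ[MvPolynomial (Fin n) A ⧸ I] (MvPolynomial (Fin n) A ⧸ I) :=
    (TensorProduct.AlgebraTensorModule.congr (LinearEquiv.refl _ _) eP).trans
      (TensorProduct.AlgebraTensorModule.rid _ _ _)
  exact ⟨(TensorProduct.congr e1 e2).trans ((TensorProduct.lid _ _).trans eΩ.symm)⟩

end Final

end Groth.Agent.R2.H39.DetCot
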