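import Groth.Agent.R2.H39SplitBridge
import Groth.Agent.Lib.Helper4LambdaInv
import Groth.Agent.Lib.Helper4LambdaAdamsFil
import Mathlib

/-!
# helper39: the γ-filtration of an extension generated by one line element

Abstract version of the computation of the γ-filtration of an elementary extension `K_e = K[ℓ]`:
if `Ke` is generated over `ι : K → Ke` by a line-like element `ℓ` whose `(r+1)`-st power of `y = ℓ - 1`
satisfies `y^(r+1) = Σ_{t=1}^{r+1} ι(c_t) y^(r+1-t)` with `c_t ∈ F^t K`, then
`F^k Ke = Σ_{i ≤ r} ι(F^(k-i) K) y^i`.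
-/

set_option autoImplicit false
set_option linter.unusedSectionVars false
universe v
open Finset LambdaRing
open Groth.Agent.Lib.Helper4
open Groth.Agent.R2.H39.LamFil Groth.Agent.R2.H39.LamGFil Groth.Agent.R2.H39.LamWt
  Groth.Agent.R2.H39.SplitSpecial Groth.Agent.R2.H39.SplitBridge

namespace Groth.Agent.R2.H39.ElemExt

section Push

variable {K Ke : Type v} [CommRing K] [LambdaOps K] [CommRing Ke] [LambdaOps Ke]

theorem map_mem_gammaFiltration {P : PosStructure K} {Pe : PosStructure Ke} {ι : K →+* Ke}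
    (hι : IsLambdaHom ι) (haug : ∀ x, Pe.aug (ι x) = P.aug x) (m : ℕ) {x : K}
    (hx : x ∈ gammaFiltration P m) : ι x ∈ gammaFiltration Pe m := by
  by_cases hm : m = 0
  · subst hm; rw [gammaFiltration_zero]; trivial
  rw [gammaFiltration_of_ne_zero P hm] at hx
  rw [gammaFiltration_of_ne_zero Pe hm]
  induction hx using AddSubgroup.closure_induction with
  | mem x hx =>
    obtain ⟨l, hl, hln, rfl⟩ := hx
    apply AddSubgroup.subset_closure
    refine ⟨l.map fun p => (p.1, ι p.2), ?_, ?_, ?_⟩
    · intro p hp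
      obtain ⟨p', hp', rfl⟩ := List.mem_map.1 hp
      simp only
      rw [haug]; exact hl p' hp'
    · simpa [List.map_map, Function.comp_def] using hln
    · rw [map_list_prod, List.map_map, List.map_map]
      congr 1
      apply List.map_congr_left
      intro p _
      simp only [Function.comp_apply]
      rw [Groth.Agent.Lib.Helper4.map_gamma hι]
  | zero => rw [map_zero]; exact AddSubgroup.zero_mem _
  | add x y _ _ hx hy => rw [map_add]; exact AddSubgroup.add_mem _ hx hy
  | neg x _ hx => rw [map_neg]; exact AddSubgroup.neg_mem _ hx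

end Push

section Main

variable {K Ke : Type v} [CommRing K] [LambdaOps K] [CommRing Ke] [LambdaOps Ke]
  (P : PosStructure K) (Pe : PosStructure Ke) (ι : K →+* Ke) (y : Ke) (r : ℕ)

/-- generators of the candidate filtration -/
def gens (k : ℕ) : Set Ke := {z | ∃ i ≤ r, ∃ a ∈ gammaFiltration P (k - i), z = ι a * y ^ i}

/-- the candidate filtration `Σ_{i ≤ r} ι(F^(k-i) K) y^i` -/
def A (k : ℕ) : AddSubgroup Ke := AddSubgroup.closure (gens P ι y r k)

theorem A_eq_iSup (k : ℕ) :
    A P ι y r k = ⨆ i ∈ Finset.range (r + 1), AddSubgroup.map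
        ((AddMonoidHom.mulRight (y ^ i)).comp ι.toAddMonoidHom) (gammaFiltration P (k - i)) := by
  apply le_antisymm
  · apply (AddSubgroup.closure_le _).mpr
    rintro z ⟨i, hi, a, ha, rfl⟩
    have : AddSubgroup.map ((AddMonoidHom.mulRight (y ^ i)).comp ι.toAddMonoidHom)
        (gammaFiltration P (k - i)) ≤ ⨆ i ∈ Finset.range (r + 1), AddSubgroup.map
        ((AddMonoidHom.mulRight (y ^ i)).comp ι.toAddMonoidHom) (gammaFiltration P (k - i)) :=
      le_iSup₂_of_le i (Finset.mem_range.mpr (by omega)) le_rfl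
    apply this
    exact ⟨a, ha, rfl⟩
  · apply iSup₂_le
    intro i hi
    rw [Finset.mem_range] at hi
    rintro z ⟨a, ha, rfl⟩
    apply AddSubgroup.subset_closure
    exact ⟨i, by omega, a, ha, rfl⟩

theorem A_anti {k k' : ℕ} (h : k ≤ k') : A P ι y r k' ≤ A P ι y r k := by
  apply AddSubgroup.closure_mono
  rintro z ⟨i, hi, a, ha, rfl⟩
  exact ⟨i, hi, a, gammaFiltration_anti P (by omega) ha, rfl⟩

/-- (L1) -/
theorem ι_mul_mem {j k : ℕ} {c : K} (hc : c ∈ gammaFiltration P j) {x : Ke} (hx : x ∈ A P ι y r k) :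
    ι c * x ∈ A P ι y r (k + j) := by
  induction hx using AddSubgroup.closure_induction with
  | mem x hx =>
    obtain ⟨i, hi, a, ha, rfl⟩ := hx
    apply AddSubgroup.subset_closure
    refine ⟨i, hi, c * a, ?_, ?_⟩
    · exact gammaFiltration_anti P (by omega) (mul_mem_gammaFiltration P _ _ _ _ hc ha)
    · rw [map_mul, mul_assoc]
  | zero => rw [mul_zero]; exact AddSubgroup.zero_mem _
  | add x z _ _ hx hz => rw [mul_add]; exact AddSubgroup.add_mem _ hx hz
  | neg x _ hx => rw [mul_neg]; exact AddSubgroup.neg_mem _ hx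

variable (c : ℕ → K) (hc : ∀ t, c t ∈ gammaFiltration P t)
  (hrel : y ^ (r + 1) = ∑ t ∈ Finset.range (r + 1), ι (c (t + 1)) * y ^ (r - t))

include hc hrel in
/-- (L2) -/
theorem y_mul_mem {k : ℕ} {x : Ke} (hx : x ∈ A P ι y r k) : y * x ∈ A P ι y r (k + 1) := by
  induction hx using AddSubgroup.closure_induction with
  | mem x hx =>
    obtain ⟨i, hi, a, ha, rfl⟩ := hx
    rcases Nat.lt_or_ge i r with hlt | hge
    · apply AddSubgroup.subset_closure
      refine ⟨i + 1, by omega, a, ?_, ?_⟩
      · rwa [show k + 1 - (i + 1) = k - i by omega]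
      · rw [pow_succ]; ring
    · have hir : i = r := by omega
      subst hir
      have e : y * (ι a * y ^ i) = ∑ t ∈ Finset.range (i + 1), ι (a * c (t + 1)) * y ^ (i - t) := by
        have : y * (ι a * y ^ i) = ι a * y ^ (i + 1) := by rw [pow_succ]; ring
        rw [this, hrel, Finset.mul_sum]
        apply Finset.sum_congr rfl
        intro t _
        rw [map_mul, mul_assoc]
      rw [e]
      apply AddSubgroup.sum_mem
      intro t ht
      rw [Finset.mem_range] at ht
      apply AddSubgroup.subset_closure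
      refine ⟨i - t, by omega, a * c (t + 1), ?_, rfl⟩
      exact gammaFiltration_anti P (by omega) (mul_mem_gammaFiltration P _ _ _ _ ha (hc (t + 1)))
  | zero => rw [mul_zero]; exact AddSubgroup.zero_mem _
  | add x z _ _ hx hz => rw [mul_add]; exact AddSubgroup.add_mem _ hx hz
  | neg x _ hx => rw [mul_neg]; exact AddSubgroup.neg_mem _ hx

include hc hrel in
theorem y_pow_mul_mem {k : ℕ} {x : Ke} (hx : x ∈ A P ι y r k) (n : ℕ) :
    y ^ n * x ∈ A P ι y r (k + n) := by
  induction n with
  | zero => rwa [pow_zero, one_mul, add_zero]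
  | succ n ih =>
    rw [pow_succ', mul_assoc, ← add_assoc]
    exact y_mul_mem P ι y r c hc hrel ih

theorem one_mem_A : (1 : Ke) ∈ A P ι y r 0 := by
  apply AddSubgroup.subset_closure
  refine ⟨0, Nat.zero_le _, 1, ?_, by simp⟩
  rw [gammaFiltration_zero]; trivial

include hc hrel in
/-- (L5) -/
theorem mul_mem_A {a b : ℕ} {x z : Ke} (hx : x ∈ A P ι y r a) (hz : z ∈ A P ι y r b) :
    x * z ∈ A P ι y r (a + b) := by
  induction hx using AddSubgroup.closure_induction with
  | mem x hx =>
    obtain ⟨i, hi, a', ha', rfl⟩ := hx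
    have h1 := y_pow_mul_mem P ι y r c hc hrel hz i
    have h2 := ι_mul_mem P ι y r ha' h1
    rw [mul_assoc]
    exact A_anti P ι y r (by omega) h2
  | zero => rw [zero_mul]; exact AddSubgroup.zero_mem _
  | add x w _ _ hx hw => rw [add_mul]; exact AddSubgroup.add_mem _ hx hw
  | neg x _ hx => rw [neg_mul]; exact AddSubgroup.neg_mem _ hx

variable (hgen : ∀ z : Ke, z ∈ AddSubgroup.closure {w : Ke | ∃ (a : K) (n : ℕ), w = ι a * (y + 1) ^ n})

include hc hrel hgen in
/-- (L4) -/
theorem A_zero : A P ι y r 0 = ⊤ := by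
  rw [eq_top_iff]
  rintro z -
  have hz := hgen z
  induction hz using AddSubgroup.closure_induction with
  | mem w hw =>
    obtain ⟨a, n, rfl⟩ := hw
    have h1 : ∀ n : ℕ, (y + 1) ^ n ∈ A P ι y r 0 := by
      intro n
      induction n with
      | zero => rw [pow_zero]; exact one_mem_A P ι y r
      | succ n ih =>
        rw [pow_succ', add_mul, one_mul]
        exact AddSubgroup.add_mem _ (A_anti P ι y r (Nat.zero_le 1) (y_mul_mem P ι y r c hc hrel ih)) ih
    have := ι_mul_mem P ι y r (j := 0) (c := a) (by rw [gammaFiltration_zero]; trivial) (h1 n)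
    exact this
  | zero => exact AddSubgroup.zero_mem _
  | add x w _ _ hx hw => exact AddSubgroup.add_mem _ hx hw
  | neg x _ hx => exact AddSubgroup.neg_mem _ hx

include hc hrel hgen in
/-- the candidate filtration, as ideals -/
def G (k : ℕ) : Ideal Ke where
  carrier := A P ι y r k
  add_mem' := AddSubgroup.add_mem _
  zero_mem' := AddSubgroup.zero_mem _
  smul_mem' a x hx := by
    have ha : a ∈ A P ι y r 0 := by rw [A_zero P ι y r c hc hrel hgen]; trivial
    have := mul_mem_A P ι y r c hc hrel ha hx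
    rwa [zero_add] at this

theorem mem_G {k : ℕ} {x : Ke} : x ∈ G P ι y r c hc hrel hgen k ↔ x ∈ A P ι y r k := Iff.rfl

theorem mulFil_G : MulFil (G P ι y r c hc hrel hgen) where
  zero := by
    rw [eq_top_iff]
    rintro z -
    rw [mem_G, A_zero P ι y r c hc hrel hgen]; trivial
  anti h := fun x hx => A_anti P ι y r h hx
  mul ha hb := mul_mem_A P ι y r c hc hrel ha hb

variable (hK : HasSplitting K P) (hKe : HasSplitting Ke Pe) (hext : IsExtension P Pe ι)
  (hroot : ∀ j : ℕ, 2 ≤ j → LambdaOps.lam j (y + 1) = 0) (hy : Pe.aug y = 0)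

include hext in
theorem goodElt_ι {a : K} (ha : P.aug a = 0) : GoodElt (G P ι y r c hc hrel hgen) (ι a) := by
  intro j
  rw [← Groth.Agent.Lib.Helper4.map_gamma hext.isLambdaHom, mem_G]
  apply AddSubgroup.subset_closure
  exact ⟨0, Nat.zero_le _, gamma j a, gamma_mem_gammaFiltration P j a ha, by simp⟩

include Pe hroot in
theorem goodElt_y : GoodElt (G P ι y r c hc hrel hgen) y := by
  have hs := gammaSeries_sub_one (lam_one_eq_zero Pe) (y + 1) hroot
  rw [add_sub_cancel_right] at hs
  intro j
  have : gamma j y = PowerSeries.coeff j (gammaSeries y) := by simp [gammaSeries]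
  rw [this, hs, mem_G]
  rcases j with _ | _ | j
  · simp only [map_add, PowerSeries.coeff_one, PowerSeries.coeff_zero_eq_constantCoeff]
    simpa using one_mem_A P ι y r
  · have h1 : PowerSeries.coeff (0 + 1) (1 + PowerSeries.C y * PowerSeries.X : PowerSeries Ke) = y := by
      rw [map_add, PowerSeries.coeff_succ_mul_X, PowerSeries.coeff_C, PowerSeries.coeff_one]
      simp
    rw [h1]
    have := y_mul_mem P ι y r c hc hrel (one_mem_A P ι y r)
    rwa [mul_one, zero_add] at this
  · have h1 : PowerSeries.coeff (j + 1 + 1) (1 + PowerSeries.C y * PowerSeries.X : PowerSeries Ke) = 0 := by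
      rw [map_add, PowerSeries.coeff_succ_mul_X, PowerSeries.coeff_C, PowerSeries.coeff_one]
      simp
    rw [h1]
    exact AddSubgroup.zero_mem _

include hKe hext hroot hy in
/-- (L6) every element of augmentation zero is good -/
theorem goodElt_of_aug (z : Ke) : GoodElt (G P ι y r c hc hrel hgen) (z - ((Pe.aug z : ℤ) : Ke)) := by
  have hF := mulFil_G P ι y r c hc hrel hgen
  have hS : IsSpecial Ke := isSpecial_of_hasSplitting hKe
  have hgy := goodElt_y P Pe ι y r c hc hrel hgen hroot
  have hzsmul : ∀ (n : ℤ) {w : Ke}, GoodElt (G P ι y r c hc hrel hgen) w →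
      GoodElt (G P ι y r c hc hrel hgen) ((n : Ke) * w) := by
    intro n w hw
    induction n using Int.induction_on with
    | zero => simp only [Int.cast_zero, zero_mul]; exact goodElt_zero hF
    | succ n ih =>
      have : ((n + 1 : ℤ) : Ke) * w = (n : Ke) * w + w := by push_cast; ring
      rw [this]; exact goodElt_add hF (by simpa using ih) hw
    | pred n ih =>
      have : ((-(n : ℤ) - 1 : ℤ) : Ke) * w = ((-(n : ℤ) : ℤ) : Ke) * w - w := by push_cast; ring
      rw [this]; exact goodElt_sub hF ih hw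
  have hz := (A_zero P ι y r c hc hrel hgen) ▸ (AddSubgroup.mem_top z)
  induction hz using AddSubgroup.closure_induction with
  | mem w hw =>
    obtain ⟨i, hi, a, ha, rfl⟩ := hw
    rcases Nat.eq_zero_or_pos i with h0 | h0
    · subst h0
      rw [pow_zero, mul_one, hext.aug_comp]
      have : ι a - ((P.aug a : ℤ) : Ke) = ι (a - ((P.aug a : ℤ) : K)) := by
        rw [map_sub, map_intCast]
      rw [this]
      exact goodElt_ι P Pe ι y r c hc hrel hgen hext (aug_sub_aug P a)
    · obtain ⟨i', rfl⟩ : ∃ i', i = i' + 1 := ⟨i - 1, by omega⟩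
      have haug : Pe.aug (ι a * y ^ (i' + 1)) = 0 := by
        rw [map_mul, map_pow, hy, zero_pow (by omega), mul_zero]
      rw [haug, Int.cast_zero, sub_zero]
      have hyp := goodElt_pow hS hF hgy i'
      have hsplit : ι a * y ^ (i' + 1) =
          ι (a - ((P.aug a : ℤ) : K)) * y ^ (i' + 1) + ((P.aug a : ℤ) : Ke) * y ^ (i' + 1) := by
        rw [map_sub, map_intCast]; ring
      rw [hsplit]
      apply goodElt_add hF
      · exact goodElt_mul hS hF (goodElt_ι P Pe ι y r c hc hrel hgen hext (aug_sub_aug P a)) hyp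
      · exact hzsmul _ hyp
  | zero => simp only [map_zero, Int.cast_zero, sub_zero]; exact goodElt_zero hF
  | add x w _ _ hx hw =>
    have : x + w - ((Pe.aug (x + w) : ℤ) : Ke) =
        (x - ((Pe.aug x : ℤ) : Ke)) + (w - ((Pe.aug w : ℤ) : Ke)) := by
      rw [map_add]; push_cast; ring
    rw [this]; exact goodElt_add hF hx hw
  | neg x _ hx =>
    have : -x - ((Pe.aug (-x) : ℤ) : Ke) = -(x - ((Pe.aug x : ℤ) : Ke)) := by
      rw [map_neg]; push_cast; ring
    rw [this]; exact goodElt_neg hF hx

include c hc hrel hgen hKe hext hroot hy in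
/-- **the γ-filtration of the extension** -/
theorem gammaFiltration_eq (k : ℕ) : gammaFiltration Pe k = A P ι y r k := by
  apply le_antisymm
  · intro x hx
    rw [← mem_gammaFil_iff] at hx
    have hF := mulFil_G P ι y r c hc hrel hgen
    have := gammaFil_le_of_goodElt ((augAlg Pe : Ke →ₐ[ℤ] ℤ) : Ke →+* ℤ) hF (fun z hz => by
      have h := goodElt_of_aug P Pe ι y r c hc hrel hgen hKe hext hroot hy z
      have hz' : Pe.aug z = 0 := hz
      rwa [hz', Int.cast_zero, sub_zero] at h) k hx
    exact this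
  · apply (AddSubgroup.closure_le _).mpr
    rintro z ⟨i, hi, a, ha, rfl⟩
    have h1 : ι a ∈ gammaFiltration Pe (k - i) :=
      map_mem_gammaFiltration hext.isLambdaHom hext.aug_comp _ ha
    have h2 : y ^ i ∈ gammaFiltration Pe (1 * i) :=
      pow_mem_gammaFiltration Pe (mem_gammaFiltration_one Pe y hy) i
    exact gammaFiltration_anti Pe (by omega) (mul_mem_gammaFiltration Pe _ _ _ _ h1 h2)

end Main

end Groth.Agent.R2.H39.ElemExt
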