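import Mathlib

/-!
# Annihilator of an exterior power and fibre dimension (helper94)

For a finite module `M` over a commutative ring `R`, a prime `p` with residue field `κ(p)` and a
natural `n`:  `Ann (⋀ⁿ M) ≤ p ↔ n ≤ dim_{κ(p)} (κ(p) ⊗ M)`
(`annihilator_exteriorPower_le_iff`).
-/
set_option autoImplicit false

open TensorProduct

namespace Groth.Agent.R2.H94.ExtPowAnn

variable {R : Type*} [CommRing R] {M : Type*} [AddCommGroup M] [Module R M]

/-- A wedge of `n` vectors all lying in the span of `d < n` vectors vanishes. -/
theorem ιMulti_eq_zero_of_mem_span {d n : ℕ} (hdn : d < n) (m : Fin d → M) (y : Fin n → M)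
    (hy : ∀ i, y i ∈ Submodule.span R (Set.range m)) :
    ExteriorAlgebra.ιMulti R n y = 0 := by
  classical
  choose c hc using fun i => (Submodule.mem_span_range_iff_exists_fun R).1 (hy i)
  have hy' : y = fun i => ∑ j, c i j • m j := funext fun i => (hc i).symm
  rw [hy']
  show (ExteriorAlgebra.ιMulti R n).toMultilinearMap (fun i => ∑ j, c i j • m j) = 0
  rw [(ExteriorAlgebra.ιMulti R n).toMultilinearMap.map_sum (fun i j => c i j • m j)]
  refine Finset.sum_eq_zero fun r _ => ?_
  rw [MultilinearMap.map_smul_univ]
  have hr : ¬ Function.Injective (fun i => m (r i)) := by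
    intro hinj
    have hrinj : Function.Injective r := fun a b hab => hinj (by simp [hab])
    have := Fintype.card_le_of_injective r hrinj
    simp at this
    omega
  have h0 : (ExteriorAlgebra.ιMulti R n).toMultilinearMap (fun i => m (r i)) = 0 :=
    (ExteriorAlgebra.ιMulti R n).map_eq_zero_of_not_injective _ hr
  rw [h0, smul_zero]

/-- If `s • M` is contained in the span of `d < n` vectors then `s ^ n` kills `⋀ⁿ M`. -/
theorem pow_mem_annihilator_exteriorPower {d n : ℕ} (hdn : d < n) (m : Fin d → M) (s : R)
    (hs : ∀ x : M, s • x ∈ Submodule.span R (Set.range m)) :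
    s ^ n ∈ (⋀[R]^n M).annihilator := by
  rw [← exteriorPower.ιMulti_span_fixedDegree, Submodule.mem_annihilator_span]
  rintro ⟨_, x, rfl⟩
  show s ^ n • ExteriorAlgebra.ιMulti R n x = 0
  have h1 : s ^ n • ExteriorAlgebra.ιMulti R n x =
      ExteriorAlgebra.ιMulti R n (fun i => s • x i) := by
    have := (ExteriorAlgebra.ιMulti R n).toMultilinearMap.map_smul_univ (fun _ => s) x
    simp only [Finset.prod_const, Finset.card_univ, Fintype.card_fin] at this
    exact this.symm
  rw [h1]
  exact ιMulti_eq_zero_of_mem_span hdn m _ fun i => hs (x i)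

section field

variable {K : Type*} [Field K] [Algebra R K]

/-- restriction of scalars of an alternating map -/
def altRestrict {N P : Type*} [AddCommGroup N] [Module K N] [Module R N] [IsScalarTower R K N]
    [AddCommGroup P] [Module K P] [Module R P] [IsScalarTower R K P] {ι : Type*}
    (f : N [⋀^ι]→ₗ[K] P) : N [⋀^ι]→ₗ[R] P :=
  { f.toMultilinearMap.restrictScalars R with
    map_eq_zero_of_eq' := f.map_eq_zero_of_eq' }

/-- the fibre `K ⊗ M` is spanned over `K` by the pure tensors `1 ⊗ m` -/
theorem span_one_tmul_eq_top :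
    Submodule.span K (Set.range fun x : M => (1 : K) ⊗ₜ[R] x) = ⊤ := by
  rw [eq_top_iff]
  rintro t -
  induction t using TensorProduct.induction_on with
  | zero => exact Submodule.zero_mem _
  | tmul k x =>
    have : k ⊗ₜ[R] x = k • ((1 : K) ⊗ₜ[R] x) := by rw [TensorProduct.smul_tmul', smul_eq_mul, mul_one]
    rw [this]
    exact Submodule.smul_mem _ _ (Submodule.subset_span ⟨x, rfl⟩)
  | add a b ha hb => exact Submodule.add_mem _ ha hb

/-- If the fibre `K ⊗ M` has dimension at least `n`, there is an `R`-linear functional on `⋀ⁿ M`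
with values in `K` taking the value `1` on some pure wedge. -/
theorem exists_functional_of_le_finrank [Module.Finite R M] {n : ℕ}
    (hn : n ≤ Module.finrank K (K ⊗[R] M)) :
    ∃ (Φ : ⋀[R]^n M →ₗ[R] K) (x : Fin n → M), Φ (exteriorPower.ιMulti R n x) = 1 := by
  classical
  set s : Set (K ⊗[R] M) := Set.range fun x : M => (1 : K) ⊗ₜ[R] x with hsdef
  have hs : Submodule.span K s = ⊤ := span_one_tmul_eq_top
  obtain ⟨f, hfs, -, hfli⟩ := Submodule.exists_fun_fin_finrank_span_eq K s
  have hrk : Module.finrank K (Submodule.span K s) = Module.finrank K (K ⊗[R] M) := by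
    rw [hs, finrank_top]
  have hn' : n ≤ Module.finrank K (Submodule.span K s) := by rw [hrk]; exact hn
  -- the first `n` vectors
  set g : Fin n → K ⊗[R] M := fun i => f (Fin.castLE hn' i) with hg
  have hgli : LinearIndependent K g := hfli.comp _ (Fin.castLE_injective hn')
  choose x hx using fun i => hfs (Fin.castLE hn' i)
  have hgx : ∀ i, g i = (1 : K) ⊗ₜ[R] x i := fun i => (hx i).symm
  -- a left inverse of the linear combination map
  obtain ⟨F, hF⟩ := LinearMap.exists_leftInverse_of_injective
    (Finsupp.linearCombination K g) (LinearMap.ker_eq_bot.2 hgli)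
  have hFg : ∀ i, F (g i) = Finsupp.single i 1 := by
    intro i
    have := LinearMap.congr_fun hF (Finsupp.single i 1)
    simpa using this
  -- the `R`-linear map `M → Kⁿ`
  let G : M →ₗ[R] (Fin n → K) :=
    ((Finsupp.linearEquivFunOnFinite K K (Fin n)).toLinearMap ∘ₗ F).restrictScalars R ∘ₗ
      (TensorProduct.mk R K M 1)
  have hG : ∀ i, G (x i) = Pi.single i 1 := by
    intro i
    show (Finsupp.linearEquivFunOnFinite K K (Fin n)) (F ((1 : K) ⊗ₜ[R] x i)) = _
    rw [← hgx, hFg]
    simp
  let alt : M [⋀^Fin n]→ₗ[R] K :=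
    (altRestrict (R := R) (Matrix.detRowAlternating (n := Fin n) (R := K))).compLinearMap G
  refine ⟨exteriorPower.alternatingMapLinearEquiv alt, x, ?_⟩
  rw [exteriorPower.alternatingMapLinearEquiv_apply_ιMulti]
  show Matrix.det (fun i => G (x i)) = 1
  have : (fun i => G (x i)) = (1 : Matrix (Fin n) (Fin n) K) := by
    ext i j
    rw [hG i, Matrix.one_apply, Pi.single_apply]
    simp [eq_comm]
  rw [this, Matrix.det_one]

end field

/-- **Annihilator of an exterior power vs. fibre dimension.** -/
theorem annihilator_exteriorPower_le_iff [Module.Finite R M] (p : Ideal R) [p.IsPrime] (n : ℕ) :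
    (⋀[R]^n M).annihilator ≤ p ↔
      n ≤ Module.finrank p.ResidueField (p.ResidueField ⊗[R] M) := by
  classical
  constructor
  · intro hle
    by_contra hlt
    rw [not_le] at hlt
    -- generators of the fibre
    set K := p.ResidueField with hK
    set s : Set (K ⊗[R] M) := Set.range fun x : M => (1 : K) ⊗ₜ[R] x with hsdef
    have hs : Submodule.span K s = ⊤ := span_one_tmul_eq_top
    obtain ⟨f, hfs, hfspan, -⟩ := Submodule.exists_fun_fin_finrank_span_eq K s
    have hrk : Module.finrank K (Submodule.span K s) = Module.finrank K (K ⊗[R] M) := by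
      rw [hs, finrank_top]
    choose m hm using hfs
    -- the quotient by the span of the `m i`
    set N : Submodule R M := Submodule.span R (Set.range m) with hN
    have hsub : Subsingleton (K ⊗[R] (M ⧸ N)) := by
      have hsurj : Function.Surjective (LinearMap.baseChange K N.mkQ) :=
        LinearMap.lTensor_surjective K N.mkQ_surjective
      have hker : LinearMap.ker (LinearMap.baseChange K N.mkQ) = ⊤ := by
        rw [eq_top_iff, ← hs, ← hfspan, Submodule.span_le]
        rintro _ ⟨i, rfl⟩
        rw [SetLike.mem_coe, LinearMap.mem_ker, ← hm i, LinearMap.baseChange_tmul]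
        have : N.mkQ (m i) = 0 := by
          rw [Submodule.mkQ_apply, Submodule.Quotient.mk_eq_zero]
          exact Submodule.subset_span ⟨i, rfl⟩
        rw [this, tmul_zero]
      refine ⟨fun a b => ?_⟩
      obtain ⟨a', rfl⟩ := hsurj a
      obtain ⟨b', rfl⟩ := hsurj b
      have ha : a' ∈ LinearMap.ker (LinearMap.baseChange K N.mkQ) := hker ▸ Submodule.mem_top
      have hb : b' ∈ LinearMap.ker (LinearMap.baseChange K N.mkQ) := hker ▸ Submodule.mem_top
      rw [LinearMap.mem_ker.1 ha, LinearMap.mem_ker.1 hb]
    have hnot : (⟨p, inferInstance⟩ : PrimeSpectrum R) ∉ Module.support R (M ⧸ N) := by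
      rw [Module.mem_support_iff_nontrivial_residueField_tensorProduct,
        not_nontrivial_iff_subsingleton]
      exact hsub
    rw [Module.mem_support_iff_of_finite, SetLike.not_le_iff_exists] at hnot
    obtain ⟨t, htann, htp⟩ := hnot
    have htM : ∀ x : M, t • x ∈ N := by
      intro x
      have := Module.mem_annihilator.1 htann (N.mkQ x)
      rwa [← map_smul, Submodule.mkQ_apply, Submodule.Quotient.mk_eq_zero] at this
    have hlt' : Module.finrank K (Submodule.span K s) < n := by rw [hrk]; exact hlt
    have hmem := pow_mem_annihilator_exteriorPower hlt' m t htM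
    exact htp (Ideal.IsPrime.mem_of_pow_mem inferInstance n (hle hmem))
  · intro hn a ha
    obtain ⟨Φ, x, hΦ⟩ := exists_functional_of_le_finrank (R := R) (M := M)
      (K := p.ResidueField) hn
    have h0 : a • exteriorPower.ιMulti R n x = 0 := by
      apply Subtype.ext
      have := (Submodule.mem_annihilator.1 ha) (exteriorPower.ιMulti R n x : ExteriorAlgebra R M)
        (exteriorPower.ιMulti R n x).2
      simpa using this
    have h1 : a • (1 : p.ResidueField) = 0 := by
      rw [← hΦ, ← map_smul, h0, map_zero]
    rw [Algebra.smul_def, mul_one] at h1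
    exact Ideal.algebraMap_residueField_eq_zero.1 h1

end Groth.Agent.R2.H94.ExtPowAnn
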