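import Mathlib
import Groth.Agent.R2.H94ExtPowAnn
import Groth.Agent.Lib.Helper15ExtBC
import Groth.Agent.R2.H39ExtPowProd

/-!
# Exterior powers of finite projective modules: projectivity, fibre ranks, vanishing above the
rank, endomorphisms of rank-one projectives, and `⋀^(m+p)(Q × R^p) ≃ ⋀^m Q` (helper39)
-/

set_option autoImplicit false
set_option linter.unusedSectionVars false
universe u

open exteriorPower TensorProduct

namespace Groth.Agent.R2.H39.ExtPowRank

section Proj

variable {R : Type*} [CommRing R] {Q : Type*} [AddCommGroup Q] [Module R Q]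

/-- exterior powers of projective modules are projective. -/
theorem extPow_projective [Module.Projective R Q] (j : ℕ) : Module.Projective R (⋀[R]^j Q) := by
  obtain ⟨s, hs⟩ := Module.projective_def'.mp (inferInstance : Module.Projective R Q)
  refine Module.Projective.of_split (exteriorPower.map j s)
    (exteriorPower.map j (Finsupp.linearCombination R id)) ?_
  rw [← exteriorPower.map_comp, hs, exteriorPower.map_id]

/-- exterior powers along a linear equivalence. -/
noncomputable def extCongr {N : Type*} [AddCommGroup N] [Module R N] (e : Q ≃ₗ[R] N) (j : ℕ) :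
    ⋀[R]^j Q ≃ₗ[R] ⋀[R]^j N :=
  LinearEquiv.ofLinearMap (exteriorPower.map j e.toLinearMap) (exteriorPower.map j e.symm.toLinearMap)
    (by rw [← exteriorPower.map_comp]; simp [exteriorPower.map_id])
    (by rw [← exteriorPower.map_comp]; simp [exteriorPower.map_id])

end Proj

section Fibre

variable (B : Type u) [CommRing B] (Q : Type u) [AddCommGroup Q] [Module B Q]

/-- fibre dimension of an exterior power. -/
theorem finrank_fibre_extPow [Module.Finite B Q] (κ : Type u) [Field κ] [Algebra B κ] (j : ℕ) :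
    Module.finrank κ (κ ⊗[B] ↥(⋀[B]^j Q)) = Nat.choose (Module.finrank κ (κ ⊗[B] Q)) j := by
  rw [(Groth.Agent.Lib.Helper15ExtBC.bcEquiv B κ Q j).finrank_eq, exteriorPower.finrank_eq]

/-- exterior powers above the fibre rank vanish. -/
theorem extPow_subsingleton_of_rank_lt [Module.Finite B Q] (j : ℕ)
    (h : ∀ q : PrimeSpectrum B, Module.finrank q.asIdeal.ResidueField
      (q.asIdeal.ResidueField ⊗[B] Q) < j) : Subsingleton (⋀[B]^j Q) := by
  have hI : (⋀[B]^j Q).annihilator = ⊤ := by
    by_contra hne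
    obtain ⟨q, hq, hle⟩ := Ideal.exists_le_maximal _ hne
    have hp : q.IsPrime := hq.isPrime
    have := (Groth.Agent.R2.H94.ExtPowAnn.annihilator_exteriorPower_le_iff (M := Q) q j).mp hle
    exact absurd this (not_le.mpr (h ⟨q, hp⟩))
  refine ⟨fun x y => ?_⟩
  have h1 : (1 : B) ∈ (⋀[B]^j Q).annihilator := by rw [hI]; exact Submodule.mem_top
  have hx : ∀ z : ⋀[B]^j Q, z = 0 := by
    intro z
    have := (Submodule.mem_annihilator.mp h1) z.1 z.2
    rw [one_smul] at this
    exact Subtype.ext this
  rw [hx x, hx y]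

end Fibre

section RankOne

variable (B : Type u) [CommRing B] (L : Type u) [AddCommGroup L] [Module B L]

/-- in a module with `⋀² L = 0`, `φ(x) y = φ(y) x`. -/
theorem dual_swap (h2 : Subsingleton (⋀[B]^2 L)) (φ : Module.Dual B L) (x y : L) :
    φ x • y = φ y • x := by
  have hmem : ExteriorAlgebra.ι B x * ExteriorAlgebra.ι B y ∈ ⋀[B]^2 L := by
    show _ ∈ LinearMap.range (ExteriorAlgebra.ι B : L →ₗ[B] ExteriorAlgebra B L) ^ 2
    rw [pow_two]
    exact Submodule.mul_mem_mul ⟨x, rfl⟩ ⟨y, rfl⟩
  have h0 : ExteriorAlgebra.ι B x * ExteriorAlgebra.ι B y = 0 := by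
    have := Subsingleton.elim (⟨_, hmem⟩ : ⋀[B]^2 L) 0
    exact congrArg Subtype.val this
  have h1 := CliffordAlgebra.contractLeft_ι_mul (Q := (0 : QuadraticForm B L)) (d := φ) x
    (ExteriorAlgebra.ι B y)
  have h3 : CliffordAlgebra.contractLeft (Q := (0 : QuadraticForm B L)) φ
      (ExteriorAlgebra.ι B x * ExteriorAlgebra.ι B y) = 0 := by
    rw [h0, map_zero]
  have h4 : CliffordAlgebra.contractLeft (Q := (0 : QuadraticForm B L)) φ
      (ExteriorAlgebra.ι B y) = algebraMap B _ (φ y) :=
    CliffordAlgebra.contractLeft_ι (Q := (0 : QuadraticForm B L)) φ y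
  have h5 : φ x • ExteriorAlgebra.ι B y - φ y • ExteriorAlgebra.ι B x = 0 := by
    have h6 : (ExteriorAlgebra.ι B x : ExteriorAlgebra B L) * algebraMap B _ (φ y) =
        φ y • ExteriorAlgebra.ι B x := by
      rw [← Algebra.commutes, Algebra.smul_def]
    rw [← h6, ← h4]
    rw [← h3]
    exact h1.symm
  have h7 : ExteriorAlgebra.ι B (φ x • y - φ y • x) = 0 := by
    rw [map_sub, map_smul, map_smul]
    exact h5
  have h8 := (ExteriorAlgebra.ι_eq_zero_iff (R := B) _).mp h7
  exact sub_eq_zero.mp h8

variable [Module.Finite B L] [Module.Projective B L]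
  (h1 : ∀ q : PrimeSpectrum B, Module.finrank q.asIdeal.ResidueField
      (q.asIdeal.ResidueField ⊗[B] L) = 1)

include h1 in
/-- an element killing a rank-one module lies in every prime. -/
theorem mem_prime_of_smul_eq_zero (r : B) (hr : ∀ y : L, r • y = 0) (q : PrimeSpectrum B) :
    r ∈ q.asIdeal := by
  by_contra hrq
  have hu : IsUnit (algebraMap B q.asIdeal.ResidueField r) := by
    rw [isUnit_iff_ne_zero]
    intro h0
    exact hrq ((Ideal.algebraMap_residueField_eq_zero).mp h0)
  have hsub : Subsingleton (q.asIdeal.ResidueField ⊗[B] L) := by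
    have hz : ∀ z : q.asIdeal.ResidueField ⊗[B] L, z = 0 := by
      intro z
      have h2 : (algebraMap B q.asIdeal.ResidueField r) • z = 0 := by
        induction z using TensorProduct.induction_on with
        | zero => simp
        | tmul c y =>
          rw [algebraMap_smul, ← TensorProduct.tmul_smul, hr y, TensorProduct.tmul_zero]
        | add a b ha hb => rw [smul_add, ha, hb, add_zero]
      have h3 : z = ((hu.unit⁻¹ : q.asIdeal.ResidueFieldˣ) : q.asIdeal.ResidueField) •
          ((algebraMap B q.asIdeal.ResidueField r) • z) := by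
        rw [smul_smul, IsUnit.val_inv_mul, one_smul]
      rw [h3, h2, smul_zero]
    exact ⟨fun a b => by rw [hz a, hz b]⟩
  have := h1 q
  rw [Module.finrank_zero_of_subsingleton] at this
  exact zero_ne_one this

include h1 in
/-- endomorphisms of a rank-one finite projective module are scalars. -/
theorem existsUnique_smul (F : L →ₗ[B] L) : ∃! b : B, ∀ y, F y = b • y := by
  classical
  obtain ⟨n, f, g, -, -, hfg⟩ := Module.Finite.exists_comp_eq_id_of_projective B L
  let x : Fin n → L := fun i => f (fun j => if i = j then 1 else 0)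
  let φ : Fin n → Module.Dual B L := fun i => (LinearMap.proj i) ∘ₗ g
  have hy : ∀ y : L, y = ∑ i, φ i y • x i := by
    intro y
    have h := LinearMap.congr_fun hfg y
    simp only [LinearMap.comp_apply, LinearMap.id_apply] at h
    conv_lhs => rw [← h, LinearMap.pi_apply_eq_sum_univ f (g y)]
    rfl
  have h2 : Subsingleton (⋀[B]^2 L) := by
    apply extPow_subsingleton_of_rank_lt B L 2
    intro q
    rw [h1 q]
    norm_num
  have key : ∀ (G : L →ₗ[B] L) (y : L), G y = (∑ i, φ i (G (x i))) • y := by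
    intro G y
    conv_lhs => rw [hy y, map_sum]
    rw [Finset.sum_smul]
    refine Finset.sum_congr rfl fun i _ => ?_
    rw [map_smul]
    exact (dual_swap B L h2 (φ i) (G (x i)) y).symm
  set b₀ : B := ∑ i, φ i (x i) with hb₀
  have hb₀y : ∀ y : L, y = b₀ • y := fun y => by simpa using key LinearMap.id y
  have hnil : IsNilpotent (1 - b₀) := by
    rw [← mem_nilradical, nilradical_eq_sInf, Ideal.mem_sInf]
    intro q hq
    have hq' : q.IsPrime := hq
    refine mem_prime_of_smul_eq_zero B L h1 (1 - b₀) (fun y => ?_) ⟨q, hq'⟩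
    rw [sub_smul, one_smul, ← hb₀y y, sub_self]
  have hunit : IsUnit b₀ := by
    have := hnil.isUnit_one_sub
    rwa [sub_sub_cancel] at this
  refine ⟨∑ i, φ i (F (x i)), key F, ?_⟩
  intro b hb
  have hc : ∀ y : L, (b - ∑ i, φ i (F (x i))) • y = 0 := by
    intro y
    rw [sub_smul, ← hb y, ← key F y, sub_self]
  set c := b - ∑ i, φ i (F (x i)) with hcdef
  have hcb : c * b₀ = 0 := by
    rw [hb₀, Finset.mul_sum]
    refine Finset.sum_eq_zero fun i _ => ?_
    rw [← smul_eq_mul, ← map_smul, hc (x i), map_zero]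
  have hc0 : c = 0 := by
    obtain ⟨u, hu⟩ := hunit
    have := congrArg (fun t => t * (↑u⁻¹ : B)) hcb
    simp only [zero_mul] at this
    rw [← hu, mul_assoc, Units.mul_inv, mul_one] at this
    exact this
  exact sub_eq_zero.mp hc0

end RankOne

section ProdFree

open Groth.Agent.R2.H39

/-- If `⋀^j Q = 0` for `j > m` then `⋀^(m+p)(Q × R^p) ≃ ⋀^m Q` and the higher ones vanish. -/
theorem wedge_prod_free (B : Type u) [CommRing B] : ∀ (p : ℕ) (Q : Type u) [AddCommGroup Q]
    [Module B Q] (m : ℕ), (∀ j, m < j → Subsingleton (⋀[B]^j Q)) →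
    Nonempty (⋀[B]^(m + p) (Q × (Fin p → B)) ≃ₗ[B] ⋀[B]^m Q) ∧
      ∀ j, m + p < j → Subsingleton (⋀[B]^j (Q × (Fin p → B))) := by
  intro p
  induction p with
  | zero =>
    intro Q _ _ m hQ
    let e : (Q × (Fin 0 → B)) ≃ₗ[B] Q := LinearEquiv.prodUnique
    refine ⟨⟨extCongr e (m + 0)⟩, fun j hj => ?_⟩
    have := hQ j (by omega)
    exact (extCongr e j).toEquiv.subsingleton
  | succ p ih =>
    intro Q _ _ m hQ
    obtain ⟨⟨f⟩, hf⟩ := ih Q m hQ
    -- `Q × B^(p+1) ≃ (Q × B^p) × B`
    let e : (Q × (Fin (p + 1) → B)) ≃ₗ[B] ((Q × (Fin p → B)) × B) :=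
      ((LinearEquiv.refl B Q).prodCongr
        ((Fin.consLinearEquiv B (fun _ : Fin (p + 1) => B)).symm.trans
          (LinearEquiv.prodComm B B (Fin p → B)))).trans
        (LinearEquiv.prodAssoc B Q (Fin p → B) B).symm
    have hvan : ∀ j, m + p < j → Subsingleton (⋀[B]^(j + 1) ((Q × (Fin p → B)) × B)) := by
      intro j hj
      have h1 : Subsingleton (⋀[B]^(j + 1) (Q × (Fin p → B))) := hf (j + 1) (by omega)
      have h2 : Subsingleton (⋀[B]^j (Q × (Fin p → B))) := hf j hj
      exact (ExtPowProd.equiv (R := B) (M := Q × (Fin p → B)) j).symm.toEquiv.subsingleton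
    refine ⟨?_, fun j hj => ?_⟩
    · have h1 : Subsingleton (⋀[B]^(m + p + 1) (Q × (Fin p → B))) := hf (m + p + 1) (by omega)
      have : Unique (⋀[B]^(m + p + 1) (Q × (Fin p → B))) := Unique.mk' _
      exact ⟨(extCongr e (m + (p + 1))).trans
        ((ExtPowProd.equiv (R := B) (M := Q × (Fin p → B)) (m + p)).symm.trans
          (LinearEquiv.uniqueProd.trans f))⟩
    · obtain ⟨j', rfl⟩ : ∃ j', j = j' + 1 := ⟨j - 1, by omega⟩
      have := hvan j' (by omega)
      exact (extCongr e (j' + 1)).toEquiv.subsingleton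

end ProdFree

end Groth.Agent.R2.H39.ExtPowRank
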