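import Mathlib

/-!
# helper39: normality descends along a fibration `f_* O_X = O_Y` (S19513)

`X` locally Noetherian with normal local rings, `f : X ⟶ Y` with `f.app V` bijective for all opens
`V`.  Then the local rings of `Y` are normal domains.  The proof is a direct sheaf-gluing argument:
zero loci of germs of a section are clopen in its domain of definition, their indicator functions
are idempotents which become trivial in the local rings of `Y`, and stalkwise division glues.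
-/

set_option autoImplicit false
set_option linter.style.haveILetI false
universe u

open CategoryTheory AlgebraicGeometry TopologicalSpace Opposite

namespace Groth.Agent.R2.H39.FibNormal

section Ring

variable {A B : Type*} [CommRing A] [CommRing B]

/-- Ring homs commute with `eval ∘ scaleRoots` for monic polynomials. -/
theorem map_eval_scaleRoots [Nontrivial B] (g : A →+* B) (P : Polynomial A) (hP : P.Monic)
    (σ τ : A) :
    g ((P.scaleRoots τ).eval σ) = ((P.map g).scaleRoots (g τ)).eval (g σ) := by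
  rw [← Polynomial.map_scaleRoots P τ g (by rw [hP.leadingCoeff, map_one]; exact one_ne_zero),
    Polynomial.eval_map, Polynomial.eval₂_hom]

/-- In an integrally closed domain, a root of `scaleRoots P b` with `P` monic, `b ≠ 0`, is divisible
by `b`. -/
theorem dvd_of_eval_scaleRoots_eq_zero [IsDomain A] [IsIntegrallyClosed A] (P : Polynomial A)
    (hP : P.Monic) (a b : A) (hb : b ≠ 0) (h : (P.scaleRoots b).eval a = 0) :
    ∃ d : A, a = d * b := by
  let K := FractionRing A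
  have hbK : algebraMap A K b ≠ 0 := by
    rw [Ne, map_eq_zero_iff _ (IsFractionRing.injective A K)]; exact hb
  have h1 : Polynomial.eval₂ (algebraMap A K) (algebraMap A K b * (algebraMap A K a / algebraMap A K b))
      (P.scaleRoots b) = algebraMap A K b ^ P.natDegree *
        Polynomial.eval₂ (algebraMap A K) (algebraMap A K a / algebraMap A K b) P :=
    Polynomial.scaleRoots_eval₂_mul (algebraMap A K) _ b
  rw [mul_div_cancel₀ _ hbK, Polynomial.eval₂_hom, h, map_zero] at h1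
  have h2 : Polynomial.eval₂ (algebraMap A K) (algebraMap A K a / algebraMap A K b) P = 0 :=
    (mul_eq_zero.mp h1.symm).resolve_left (pow_ne_zero _ hbK)
  have hint : IsIntegral A (algebraMap A K a / algebraMap A K b) := ⟨P, hP, h2⟩
  obtain ⟨d, hd⟩ := IsIntegrallyClosed.algebraMap_eq_of_integral hint
  refine ⟨d, IsFractionRing.injective A K ?_⟩
  rw [map_mul, hd, div_mul_cancel₀ _ hbK]

end Ring

section Sheaf

variable {X : Scheme.{u}}

theorem exists_res_eq_zero {U : X.Opens} (c : Γ(X, U)) (x : X) (hx : x ∈ U)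
    (h : X.presheaf.germ U x hx c = 0) :
    ∃ (U' : X.Opens) (hU' : U' ≤ U), x ∈ U' ∧ X.presheaf.map (homOfLE hU').op c = 0 := by
  have h' : X.presheaf.germ U x hx c = X.presheaf.germ U x hx 0 := by rw [h, map_zero]
  obtain ⟨W, hxW, iU, iV, e⟩ := X.presheaf.germ_eq x hx hx c 0 h'
  refine ⟨W, iU.le, hxW, ?_⟩
  rw [show homOfLE iU.le = iU from rfl, e, map_zero]

/-- The set of points of `U` at which the germ of `c` vanishes. -/
def zeroLocus {U : X.Opens} (c : Γ(X, U)) : Set X :=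
  {x | ∃ hx : x ∈ U, X.presheaf.germ U x hx c = 0}

theorem isOpen_zeroLocus {U : X.Opens} (c : Γ(X, U)) : IsOpen (zeroLocus c) := by
  rw [isOpen_iff_forall_mem_open]
  rintro x ⟨hx, h⟩
  obtain ⟨U', hU', hxU', e⟩ := exists_res_eq_zero c x hx h
  refine ⟨U', ?_, U'.2, hxU'⟩
  intro z hz
  refine ⟨hU' hz, ?_⟩
  rw [← X.presheaf.germ_res_apply (homOfLE hU') z hz c, e, map_zero]

theorem exists_isIntegral_nhd (x : X) [X.IsGermInjectiveAt x] [IsDomain (X.presheaf.stalk x)] :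
    ∃ V : X.Opens, x ∈ V ∧ IsIntegral V.toScheme := by
  obtain ⟨V₀, hxV₀, hV₀aff, hinj⟩ := X.exists_germ_injective x
  haveI : IsDomain Γ(X, V₀) := Function.Injective.isDomain (X.presheaf.germ V₀ x hxV₀).hom hinj
  haveI : IsAffine V₀.toScheme := hV₀aff
  haveI : Nonempty V₀.toScheme := ⟨⟨x, hxV₀⟩⟩
  haveI : IsDomain Γ(V₀.toScheme, ⊤) := Function.Injective.isDomain (V₀.topIso).hom.hom
    (ConcreteCategory.bijective_of_isIso (V₀.topIso).hom).1
  exact ⟨V₀, hxV₀, isIntegral_of_isAffine_of_isDomain _⟩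

theorem germ_eq_zero_of_isIntegral_nhd (V : X.Opens) [IsIntegral V.toScheme] {U : X.Opens}
    (c : Γ(X, U)) (z x : X) (hzU : z ∈ U) (hzV : z ∈ V) (hxU : x ∈ U) (hxV : x ∈ V)
    (h : X.presheaf.germ U z hzU c = 0) : X.presheaf.germ U x hxU c = 0 := by
  set c' := V.ι.app U c with hc'
  have key : ∀ (w : V.toScheme) (hwU : V.ι w ∈ U),
      V.toScheme.presheaf.germ (V.ι ⁻¹ᵁ U) w hwU c' =
        V.ι.stalkMap w (X.presheaf.germ U (V.ι w) hwU c) := fun w hwU =>
    (Scheme.Hom.germ_stalkMap_apply V.ι U w hwU c).symm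
  let z' : V.toScheme := ⟨z, hzV⟩
  let x' : V.toScheme := ⟨x, hxV⟩
  have hc0 : c' = 0 := by
    apply germ_injective_of_isIntegral (X := V.toScheme) z' (U := V.ι ⁻¹ᵁ U) hzU
    have := key z' hzU
    rw [this]
    have h0 : X.presheaf.germ U (V.ι z') hzU c = 0 := h
    rw [h0]
    exact (map_zero (V.ι.stalkMap z').hom).trans (map_zero _).symm
  have h2 := key x' hxU
  rw [hc0] at h2
  have hinj : Function.Injective (V.ι.stalkMap x') :=
    (ConcreteCategory.bijective_of_isIso (V.ι.stalkMap x')).1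
  have h3 : V.ι.stalkMap x' (X.presheaf.germ U (V.ι x') hxU c) = V.ι.stalkMap x' 0 := by
    rw [← h2]
    exact (map_zero _).trans (map_zero (V.ι.stalkMap x').hom).symm
  exact hinj h3

theorem mem_zeroLocus_of_mem_closure [IsLocallyNoetherian X]
    (hX : ∀ x : X, IsDomain (X.presheaf.stalk x)) {U : X.Opens} (c : Γ(X, U)) (x : X)
    (hxU : x ∈ U) (hx : x ∈ closure (zeroLocus c)) : x ∈ zeroLocus c := by
  haveI := hX x
  obtain ⟨V, hxV, hV⟩ := exists_isIntegral_nhd x
  obtain ⟨z, ⟨hzV, hzU⟩, hz⟩ := mem_closure_iff.mp hx (V ⊓ U : X.Opens) (V ⊓ U).2 ⟨hxV, hxU⟩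
  obtain ⟨hzU', hz0⟩ := hz
  exact ⟨hxU, germ_eq_zero_of_isIntegral_nhd V c z x hzU' hzV hxU hxV hz0⟩

/-- Gluing sections along a cover with germ-wise compatibility. -/
theorem exists_glue (W : X.Opens) {ι : Type*} (U : ι → X.Opens) (hU : ∀ i, U i ≤ W)
    (hcov : ∀ x ∈ W, ∃ i, x ∈ U i) (s : ∀ i, Γ(X, U i))
    (hs : ∀ (i j : ι) (z : X) (hi : z ∈ U i) (hj : z ∈ U j),
      X.presheaf.germ (U i) z hi (s i) = X.presheaf.germ (U j) z hj (s j)) :
    ∃ t : Γ(X, W), ∀ i, X.presheaf.map (homOfLE (hU i)).op t = s i := by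
  have hcover : W ≤ iSup U := by
    intro x hx
    obtain ⟨i, hi⟩ := hcov x hx
    exact Opens.mem_iSup.mpr ⟨i, hi⟩
  have hcompat : TopCat.Presheaf.IsCompatible X.sheaf.1 U s := by
    intro i j
    apply TopCat.Presheaf.section_ext X.sheaf
    intro z hz
    erw [TopCat.Presheaf.germ_res_apply, TopCat.Presheaf.germ_res_apply]
    exact hs i j z hz.1 hz.2
  obtain ⟨t, ht, -⟩ := X.sheaf.existsUnique_gluing' U W (fun i => homOfLE (hU i)) hcover s hcompat
  exact ⟨t, ht⟩

/-- The indicator idempotent of the (clopen) zero locus of the germs of a section. -/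
theorem exists_indicator [IsLocallyNoetherian X] (hX : ∀ x : X, IsDomain (X.presheaf.stalk x))
    {U : X.Opens} (c : Γ(X, U)) :
    ∃ e : Γ(X, U), ∀ (x : X) (hx : x ∈ U),
      (X.presheaf.germ U x hx c = 0 → X.presheaf.germ U x hx e = 1) ∧
      (X.presheaf.germ U x hx c ≠ 0 → X.presheaf.germ U x hx e = 0) := by
  classical
  let Z : X.Opens := ⟨zeroLocus c, isOpen_zeroLocus c⟩
  let Z' : X.Opens := U ⊓ ⟨(closure (zeroLocus c))ᶜ, isClosed_closure.isOpen_compl⟩
  let Uf : Bool → X.Opens := fun b => if b then Z else Z'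
  have hUf : ∀ b, Uf b ≤ U := by
    rintro (_ | _)
    · exact inf_le_left
    · rintro x ⟨hx, -⟩; exact hx
  let s : ∀ b, Γ(X, Uf b) := fun b => if b then 1 else 0
  have hmemZ' : ∀ x (hx : x ∈ U), X.presheaf.germ U x hx c ≠ 0 → x ∈ Z' := by
    intro x hx h
    refine ⟨hx, fun hcl => h ?_⟩
    obtain ⟨_, h0⟩ := mem_zeroLocus_of_mem_closure hX c x hx hcl
    exact h0
  obtain ⟨e, he⟩ := exists_glue U Uf hUf (fun x hx => by
      by_cases h : X.presheaf.germ U x hx c = 0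
      · exact ⟨true, ⟨hx, h⟩⟩
      · exact ⟨false, hmemZ' x hx h⟩) s (by
    rintro (_ | _) (_ | _) z hi hj
    · rfl
    · exact absurd (subset_closure hj) hi.2
    · exact absurd (subset_closure hi) hj.2
    · rfl)
  refine ⟨e, fun x hx => ⟨fun h => ?_, fun h => ?_⟩⟩
  · have hxZ : x ∈ Uf true := ⟨hx, h⟩
    rw [← X.presheaf.germ_res_apply (homOfLE (hUf true)) x hxZ e, he true]
    exact map_one _
  · have hxZ : x ∈ Uf false := hmemZ' x hx h
    rw [← X.presheaf.germ_res_apply (homOfLE (hUf false)) x hxZ e, he false]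
    exact map_zero _

/-- Stalkwise division by a section with nowhere vanishing germs glues. -/
theorem exists_div (hX : ∀ x : X, IsDomain (X.presheaf.stalk x)) {U : X.Opens} (a b : Γ(X, U))
    (hb : ∀ (x : X) (hx : x ∈ U), X.presheaf.germ U x hx b ≠ 0)
    (h : ∀ (x : X) (hx : x ∈ U), ∃ d : X.presheaf.stalk x,
      X.presheaf.germ U x hx a = d * X.presheaf.germ U x hx b) :
    ∃ d : Γ(X, U), a = d * b := by
  have hloc : ∀ x : U, ∃ (W : X.Opens) (hW : W ≤ U) (_ : x.1 ∈ W) (s : Γ(X, W)),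
      X.presheaf.map (homOfLE hW).op a = s * X.presheaf.map (homOfLE hW).op b := by
    rintro ⟨x, hx⟩
    obtain ⟨d, hd⟩ := h x hx
    obtain ⟨W₀, hxW₀, s₀, hs₀⟩ := X.presheaf.exists_germ_eq d
    have hxW₁ : x ∈ U ⊓ W₀ := ⟨hx, hxW₀⟩
    have e1 : X.presheaf.germ (U ⊓ W₀) x hxW₁ (X.presheaf.map (homOfLE inf_le_left).op a) =
        X.presheaf.germ (U ⊓ W₀) x hxW₁ (X.presheaf.map (homOfLE inf_le_right).op s₀ *
          X.presheaf.map (homOfLE inf_le_left).op b) := by
      rw [map_mul, X.presheaf.germ_res_apply, X.presheaf.germ_res_apply,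
        X.presheaf.germ_res_apply, hs₀]
      exact hd
    obtain ⟨W, hxW, iU, iV, e⟩ := X.presheaf.germ_eq x hxW₁ hxW₁ _ _ e1
    refine ⟨W, iU.le.trans inf_le_left, hxW,
      X.presheaf.map (homOfLE (iU.le.trans inf_le_right)).op s₀, ?_⟩
    have e2 : X.presheaf.map iU.op (X.presheaf.map (homOfLE inf_le_left).op a) =
        X.presheaf.map (homOfLE (iU.le.trans inf_le_left)).op a := by
      rw [← ConcreteCategory.comp_apply, ← X.presheaf.map_comp]; rfl
    rw [← e2, e, Subsingleton.elim iV iU, map_mul, ← ConcreteCategory.comp_apply,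
      ← ConcreteCategory.comp_apply, ← X.presheaf.map_comp, ← X.presheaf.map_comp]
    rfl
  choose W hW hxW s hs using hloc
  have hgerm : ∀ (i : U) (z : X) (hz : z ∈ W i),
      X.presheaf.germ U z (hW i hz) a =
        X.presheaf.germ (W i) z hz (s i) * X.presheaf.germ U z (hW i hz) b := by
    intro i z hz
    have := congrArg (X.presheaf.germ (W i) z hz) (hs i)
    rwa [map_mul, X.presheaf.germ_res_apply, X.presheaf.germ_res_apply] at this
  obtain ⟨d, hd⟩ := exists_glue U W hW (fun x hx => ⟨⟨x, hx⟩, hxW ⟨x, hx⟩⟩) s (by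
    intro i j z hi hj
    haveI := hX z
    have h1 := hgerm i z hi
    have h2 := hgerm j z hj
    exact mul_right_cancel₀ (hb z (hW i hi)) (h1.symm.trans h2))
  refine ⟨d, ?_⟩
  apply TopCat.Presheaf.section_ext X.sheaf
  intro x hx
  have h1 := hgerm ⟨x, hx⟩ x (hxW ⟨x, hx⟩)
  have h2 : X.presheaf.germ (W ⟨x, hx⟩) x (hxW ⟨x, hx⟩) (s ⟨x, hx⟩) =
      X.presheaf.germ U x hx d := by
    rw [← hd ⟨x, hx⟩, X.presheaf.germ_res_apply]
  rw [h2] at h1
  exact h1.trans (map_mul _ _ _).symm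

end Sheaf

section Main

variable {X Y : Scheme.{u}} (f : X ⟶ Y)

theorem app_res {V V' : Y.Opens} (h : V' ≤ V) (σ : Γ(Y, V)) :
    f.app V' (Y.presheaf.map (homOfLE h).op σ) =
      X.presheaf.map (homOfLE (f.preimage_mono h)).op (f.app V σ) := by
  have := congr($(f.naturality (homOfLE h).op) σ)
  exact this

theorem germ_app_res {V V' : Y.Opens} (h : V' ≤ V) (σ : Γ(Y, V)) (x : X) (hx : x ∈ f ⁻¹ᵁ V') :
    X.presheaf.germ (f ⁻¹ᵁ V') x hx (f.app V' (Y.presheaf.map (homOfLE h).op σ)) =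
      X.presheaf.germ (f ⁻¹ᵁ V) x (f.preimage_mono h hx) (f.app V σ) := by
  rw [app_res, X.presheaf.germ_res_apply]

variable (hfib : ∀ V : Y.Opens, IsIso (f.app V))
include hfib

theorem germ_eq_zero_of_forall {V V' : Y.Opens} (h : V' ≤ V) (τ : Γ(Y, V)) (y : Y) (hy : y ∈ V')
    (h0 : ∀ (x : X) (hx : x ∈ f ⁻¹ᵁ V'),
      X.presheaf.germ (f ⁻¹ᵁ V) x (f.preimage_mono h hx) (f.app V τ) = 0) :
    Y.presheaf.germ V y (h hy) τ = 0 := by
  have h1 : f.app V' (Y.presheaf.map (homOfLE h).op τ) = 0 := by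
    apply TopCat.Presheaf.section_ext X.sheaf
    intro x hx
    erw [germ_app_res f h τ x hx, h0 x hx]
    exact (map_zero _).symm
  haveI := hfib V'
  have hinj : Function.Injective (f.app V') := (ConcreteCategory.bijective_of_isIso (f.app V')).1
  have h2 : Y.presheaf.map (homOfLE h).op τ = 0 := hinj (h1.trans (map_zero _).symm)
  rw [← Y.presheaf.germ_res_apply (homOfLE h) y hy τ, h2, map_zero]

omit hfib in
theorem exists_forall_germ_app_eq_zero {V : Y.Opens} (ρ : Γ(Y, V)) (y : Y) (hy : y ∈ V)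
    (h : Y.presheaf.germ V y hy ρ = 0) :
    ∃ (V' : Y.Opens) (hV' : V' ≤ V), y ∈ V' ∧ ∀ (x : X) (hx : x ∈ f ⁻¹ᵁ V'),
      X.presheaf.germ (f ⁻¹ᵁ V) x (f.preimage_mono hV' hx) (f.app V ρ) = 0 := by
  obtain ⟨V', hV', hyV', e⟩ := exists_res_eq_zero ρ y hy h
  refine ⟨V', hV', hyV', fun x hx => ?_⟩
  rw [← germ_app_res f hV' ρ x hx, e, map_zero, map_zero]

theorem germ_eq_zero_or [IsLocallyNoetherian X] (hX : ∀ x : X, IsDomain (X.presheaf.stalk x))
    {V : Y.Opens} (τ : Γ(Y, V)) (y : Y) (hy : y ∈ V) :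
    Y.presheaf.germ V y hy τ = 0 ∨ ∃ (V' : Y.Opens) (h : V' ≤ V), y ∈ V' ∧
      ∀ (x : X) (hx : x ∈ f ⁻¹ᵁ V'),
        X.presheaf.germ (f ⁻¹ᵁ V) x (f.preimage_mono h hx) (f.app V τ) ≠ 0 := by
  obtain ⟨e, he⟩ := exists_indicator hX (f.app V τ)
  haveI := hfib V
  have hbij := ConcreteCategory.bijective_of_isIso (f.app V)
  obtain ⟨ε, hε⟩ := hbij.2 e
  have hee : e * e = e := by
    apply TopCat.Presheaf.section_ext X.sheaf
    intro x hx
    by_cases h : X.presheaf.germ (f ⁻¹ᵁ V) x hx (f.app V τ) = 0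
    · erw [map_mul, (he x hx).1 h, mul_one]
    · erw [map_mul, (he x hx).2 h, mul_zero]
      rfl
  have hεε : ε * ε = ε := hbij.1 (by rw [map_mul, hε, hee])
  set r := Y.presheaf.germ V y hy ε with hr
  have hrr : r * r = r := by rw [hr, ← map_mul, hεε]
  have hgerm_e : ∀ (V' : Y.Opens) (hV' : V' ≤ V) (x : X) (hx : x ∈ f ⁻¹ᵁ V') (c : Γ(Y, V'))
      (_ : Y.presheaf.map (homOfLE hV').op ε = c),
      X.presheaf.germ (f ⁻¹ᵁ V) x (f.preimage_mono hV' hx) e =
        X.presheaf.germ (f ⁻¹ᵁ V') x hx (f.app V' c) := by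
    intro V' hV' x hx c hc
    rw [← hc, germ_app_res f hV' ε x hx, hε]
  rcases IsLocalRing.isUnit_or_isUnit_one_sub_self r with hu | hu
  · -- r = 1
    have hr1 : r = 1 := (IsUnit.mul_eq_left hu).mp hrr
    left
    have h1 : Y.presheaf.germ V y hy ε = Y.presheaf.germ V y hy 1 := by
      rw [← hr, hr1, map_one]
    obtain ⟨V', hyV', iU, iV, e1⟩ := Y.presheaf.germ_eq y hy hy ε 1 h1
    rw [map_one] at e1
    refine germ_eq_zero_of_forall f hfib iU.le τ y hyV' (fun x hx => ?_)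
    by_contra hne
    have h2 := (he x (f.preimage_mono iU.le hx)).2 hne
    rw [hgerm_e V' iU.le x hx 1 e1, map_one, map_one] at h2
    exact one_ne_zero h2
  · -- r = 0
    have hr0 : r = 0 := by
      have : (1 - r) * r = 0 := by rw [sub_mul, one_mul, hrr, sub_self]
      exact (IsUnit.mul_right_eq_zero hu).mp this
    right
    have h1 : Y.presheaf.germ V y hy ε = Y.presheaf.germ V y hy 0 := by
      rw [← hr, hr0, map_zero]
    obtain ⟨V', hyV', iU, iV, e1⟩ := Y.presheaf.germ_eq y hy hy ε 0 h1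
    rw [map_zero] at e1
    refine ⟨V', iU.le, hyV', fun x hx h0 => ?_⟩
    have h2 := (he x (f.preimage_mono iU.le hx)).1 h0
    rw [hgerm_e V' iU.le x hx 0 e1, map_zero, map_zero] at h2
    exact zero_ne_one h2

theorem germ_mul_eq_zero [IsLocallyNoetherian X] (hX : ∀ x : X, IsDomain (X.presheaf.stalk x))
    {V : Y.Opens} (σ τ : Γ(Y, V)) (y : Y) (hy : y ∈ V)
    (h : Y.presheaf.germ V y hy (σ * τ) = 0) :
    Y.presheaf.germ V y hy σ = 0 ∨ Y.presheaf.germ V y hy τ = 0 := by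
  rcases germ_eq_zero_or f hfib hX τ y hy with h0 | ⟨V', hV', hyV', hne⟩
  · exact Or.inr h0
  · left
    obtain ⟨V'', hV'', hyV'', hz⟩ := exists_forall_germ_app_eq_zero f (σ * τ) y hy h
    have h3 : V' ⊓ V'' ≤ V := inf_le_left.trans hV'
    refine germ_eq_zero_of_forall f hfib h3 σ y ⟨hyV', hyV''⟩ (fun x hx => ?_)
    haveI := hX x
    have h1 := hz x hx.2
    rw [map_mul, map_mul] at h1
    exact (mul_eq_zero.mp h1).resolve_right (hne x hx.1)

theorem isDomain_stalk [IsLocallyNoetherian X] (hX : ∀ x : X, IsDomain (X.presheaf.stalk x))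
    (y : Y) : IsDomain (Y.presheaf.stalk y) := by
  haveI : NoZeroDivisors (Y.presheaf.stalk y) := by
    refine ⟨fun {s t} hst => ?_⟩
    obtain ⟨V₁, hy₁, σ₁, rfl⟩ := Y.presheaf.exists_germ_eq s
    obtain ⟨V₂, hy₂, τ₂, rfl⟩ := Y.presheaf.exists_germ_eq t
    have hy : y ∈ V₁ ⊓ V₂ := ⟨hy₁, hy₂⟩
    rw [← Y.presheaf.germ_res_apply (homOfLE inf_le_left) y hy σ₁,
      ← Y.presheaf.germ_res_apply (homOfLE inf_le_right) y hy τ₂] at hst ⊢
    rw [← map_mul] at hst
    exact germ_mul_eq_zero f hfib hX _ _ y hy hst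
  exact NoZeroDivisors.to_isDomain _

theorem exists_germ_eq_mul [IsLocallyNoetherian X]
    (hX : ∀ x : X, IsDomain (X.presheaf.stalk x) ∧ IsIntegrallyClosed (X.presheaf.stalk x))
    {V : Y.Opens} (σ τ : Γ(Y, V)) (P : Polynomial Γ(Y, V)) (hP : P.Monic) (y : Y) (hy : y ∈ V)
    (hτ : Y.presheaf.germ V y hy τ ≠ 0)
    (hrel : Y.presheaf.germ V y hy ((P.scaleRoots τ).eval σ) = 0) :
    ∃ r : Y.presheaf.stalk y, Y.presheaf.germ V y hy σ = r * Y.presheaf.germ V y hy τ := by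
  rcases germ_eq_zero_or f hfib (fun x => (hX x).1) τ y hy with h0 | ⟨V', hV', hyV', hne⟩
  · exact absurd h0 hτ
  obtain ⟨V'', hV'', hyV'', hz⟩ := exists_forall_germ_app_eq_zero f _ y hy hrel
  set V₃ : Y.Opens := V' ⊓ V'' with hV₃
  have h3 : V₃ ≤ V := inf_le_left.trans hV'
  have hy3 : y ∈ V₃ := ⟨hyV', hyV''⟩
  set σ₃ := Y.presheaf.map (homOfLE h3).op σ with hσ₃
  set τ₃ := Y.presheaf.map (homOfLE h3).op τ with hτ₃
  -- stalkwise divisibility on `f⁻¹ V₃`
  have hdiv : ∀ (x : X) (hx : x ∈ f ⁻¹ᵁ V₃), ∃ d : X.presheaf.stalk x,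
      X.presheaf.germ (f ⁻¹ᵁ V₃) x hx (f.app V₃ σ₃) =
        d * X.presheaf.germ (f ⁻¹ᵁ V₃) x hx (f.app V₃ τ₃) := by
    intro x hx
    haveI := (hX x).1
    haveI := (hX x).2
    rw [germ_app_res f h3 σ x hx, germ_app_res f h3 τ x hx]
    let g : Γ(Y, V) →+* X.presheaf.stalk x :=
      (X.presheaf.germ (f ⁻¹ᵁ V) x (f.preimage_mono h3 hx)).hom.comp (f.app V).hom
    have hg0 : g ((P.scaleRoots τ).eval σ) = 0 := hz x hx.2
    rw [map_eval_scaleRoots g P hP] at hg0
    exact dvd_of_eval_scaleRoots_eq_zero (P.map g) (hP.map g) (g σ) (g τ) (hne x hx.1) hg0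
  obtain ⟨d, hd⟩ := exists_div (fun x => (hX x).1) (f.app V₃ σ₃) (f.app V₃ τ₃)
    (fun x hx => by rw [germ_app_res f h3 τ x hx]; exact hne x hx.1) hdiv
  haveI := hfib V₃
  have hbij := ConcreteCategory.bijective_of_isIso (f.app V₃)
  obtain ⟨δ, hδ⟩ := hbij.2 d
  have hσδ : σ₃ = δ * τ₃ := hbij.1 (by rw [map_mul, hδ]; exact hd)
  refine ⟨Y.presheaf.germ V₃ y hy3 δ, ?_⟩
  rw [← Y.presheaf.germ_res_apply (homOfLE h3) y hy3 σ,
    ← Y.presheaf.germ_res_apply (homOfLE h3) y hy3 τ, ← map_mul]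
  exact congrArg _ hσδ

omit hfib in
theorem exists_common_open (y : Y) (F : Finset (Y.presheaf.stalk y)) :
    ∃ (V : Y.Opens) (hy : y ∈ V), ∀ r ∈ F, r ∈ Set.range (Y.presheaf.germ V y hy) := by
  classical
  induction F using Finset.induction_on with
  | empty => exact ⟨⊤, trivial, fun r hr => absurd hr (Finset.notMem_empty r)⟩
  | insert r F _ ih =>
    obtain ⟨V₁, hy₁, h₁⟩ := ih
    obtain ⟨V₂, hy₂, ρ, hρ⟩ := Y.presheaf.exists_germ_eq r
    refine ⟨V₁ ⊓ V₂, ⟨hy₁, hy₂⟩, fun r' hr' => ?_⟩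
    rcases Finset.mem_insert.mp hr' with rfl | hr'
    · exact ⟨Y.presheaf.map (homOfLE inf_le_right).op ρ, by
        rw [Y.presheaf.germ_res_apply]; exact hρ⟩
    · obtain ⟨ρ', hρ'⟩ := h₁ r' hr'
      exact ⟨Y.presheaf.map (homOfLE inf_le_left).op ρ', by
        rw [Y.presheaf.germ_res_apply]; exact hρ'⟩

theorem isIntegrallyClosed_stalk [IsLocallyNoetherian X]
    (hX : ∀ x : X, IsDomain (X.presheaf.stalk x) ∧ IsIntegrallyClosed (X.presheaf.stalk x))
    (y : Y) : IsDomain (Y.presheaf.stalk y) ∧ IsIntegrallyClosed (Y.presheaf.stalk y) := by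
  classical
  haveI hdom := isDomain_stalk f hfib (fun x => (hX x).1) y
  refine ⟨hdom, ?_⟩
  set R := Y.presheaf.stalk y
  rw [isIntegrallyClosed_iff (FractionRing R)]
  rintro x ⟨p, hp, hpx⟩
  obtain ⟨s, t, ht, rfl⟩ := IsFractionRing.div_surjective R x
  have hinj := IsFractionRing.injective R (FractionRing R)
  have h1 := Polynomial.scaleRoots_eval₂_eq_zero_of_eval₂_div_eq_zero hinj hpx ht
  rw [Polynomial.eval₂_hom] at h1
  have h2 : (p.scaleRoots t).eval s = 0 := hinj (h1.trans (map_zero _).symm)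
  have ht0 : t ≠ 0 := nonZeroDivisors.ne_zero ht
  obtain ⟨V, hy, hV⟩ := exists_common_open y (insert s (insert t p.coeffs))
  obtain ⟨σ, hσ⟩ := hV s (Finset.mem_insert_self _ _)
  obtain ⟨τ, hτ⟩ := hV t (Finset.mem_insert_of_mem (Finset.mem_insert_self _ _))
  have hlift : p ∈ Polynomial.lifts (Y.presheaf.germ V y hy).hom := by
    rw [Polynomial.lifts_iff_coeff_lifts]
    intro n
    by_cases hn : p.coeff n = 0
    · exact ⟨0, by rw [hn]; exact map_zero _⟩
    · exact hV _ (Finset.mem_insert_of_mem (Finset.mem_insert_of_mem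
        (Polynomial.coeff_mem_coeffs hn)))
  obtain ⟨P, hPp, -, hP⟩ := Polynomial.lifts_and_natDegree_eq_and_monic hlift hp
  have hrel : Y.presheaf.germ V y hy ((P.scaleRoots τ).eval σ) = 0 := by
    have := map_eval_scaleRoots (Y.presheaf.germ V y hy).hom P hP σ τ
    rw [hPp] at this
    refine this.trans ?_
    rw [show (Y.presheaf.germ V y hy).hom τ = t from hτ,
      show (Y.presheaf.germ V y hy).hom σ = s from hσ]
    exact h2
  obtain ⟨r, hr⟩ := exists_germ_eq_mul f hfib hX σ τ P hP y hy (by rw [hτ]; exact ht0) hrel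
  refine ⟨r, ?_⟩
  rw [hσ, hτ] at hr
  rw [hr, map_mul, mul_div_assoc, div_self, mul_one]
  rw [Ne, map_eq_zero_iff _ hinj]
  exact ht0

end Main

end Groth.Agent.R2.H39.FibNormal
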