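import Mathlib
import Groth.Agent.R2.H39FibNormal

/-!
# helper39: fibrations `f_* O_X = O_Y` are stable under flat base change (S19514, S19515)

For a cartesian square with `g : Y' ⟶ Y` flat and `f : X ⟶ Y` qcqs with all `f.app V` bijective, all
`f'.app V'` are bijective (Mathlib flat base change of sections + isomorphism on a basis).  Also:
integrality descends along such `f`.
-/

set_option autoImplicit false
set_option linter.style.haveILetI false
universe u

open CategoryTheory CategoryTheory.Limits AlgebraicGeometry TopologicalSpace Opposite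

namespace Groth.Agent.R2.H39.FibBC

variable {X Y X' Y' : Scheme.{u}} {f : X ⟶ Y} {g : Y' ⟶ Y} {g' : X' ⟶ X} {f' : X' ⟶ Y'}

theorem isIso_app_of_isAffineOpen (H : IsPullback g' f' f g) [Flat g] [QuasiCompact f]
    [QuasiSeparated f] (hfib : ∀ V : Y.Opens, IsIso (f.app V)) {V : Y.Opens} (hV : IsAffineOpen V)
    {V' : Y'.Opens} (hV' : IsAffineOpen V') (hVV' : V' ≤ g ⁻¹ᵁ V) : IsIso (f'.app V') := by
  have hUY : f' ⁻¹ᵁ V' = g' ⁻¹ᵁ (f ⁻¹ᵁ V) ⊓ f' ⁻¹ᵁ V' := by
    refine le_antisymm (le_inf ?_ le_rfl) inf_le_right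
    intro x hx
    have h1 : f' x ∈ g ⁻¹ᵁ V := hVV' hx
    have h2 : g (f' x) = f (g' x) := by
      rw [← Scheme.Hom.comp_apply, ← Scheme.Hom.comp_apply, H.w]
    show f (g' x) ∈ V
    rw [← h2]
    exact h1
  have hiso := isIso_pushoutSection_of_isQuasiSeparated_of_flat_right H hVV'
    (le_refl (f ⁻¹ᵁ V)) hUY hV hV' (f.isCompact_preimage hV.isCompact)
    (f.isQuasiSeparated_preimage hV.isQuasiSeparated)
  have hpo := (isIso_pushoutSection_iff H hVV' (le_refl (f ⁻¹ᵁ V)) hUY).mp hiso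
  haveI : IsIso (f.appLE V (f ⁻¹ᵁ V) (le_refl _)) := by
    rw [← Scheme.Hom.app_eq_appLE]
    exact hfib V
  have h3 := hpo.isIso_inr_of_isIso
  rwa [← Scheme.Hom.app_eq_appLE] at h3

theorem isIso_app_of_isPullback (H : IsPullback g' f' f g) [Flat g] [QuasiCompact f]
    [QuasiSeparated f] (hfib : ∀ V : Y.Opens, IsIso (f.app V)) (V' : Y'.Opens) :
    IsIso (f'.app V') := by
  let ι := {V' : Y'.Opens // IsAffineOpen V' ∧ ∃ V : Y.Opens, IsAffineOpen V ∧ V' ≤ g ⁻¹ᵁ V}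
  let B : ι → Opens Y' := Subtype.val
  have hB : Opens.IsBasis (Set.range B) := by
    rw [Opens.isBasis_iff_nbhd]
    intro U' y' hy'
    obtain ⟨_, ⟨V, hV, rfl⟩, hyV, -⟩ :=
      Y.isBasis_affineOpens.exists_subset_of_mem_open (Set.mem_univ (g y')) isOpen_univ
    obtain ⟨_, ⟨W', hW', rfl⟩, hyW', hW'U⟩ :=
      Y'.isBasis_affineOpens.exists_subset_of_mem_open
        (show y' ∈ ((U' ⊓ g ⁻¹ᵁ V : Y'.Opens) : Set Y') from ⟨hy', hyV⟩) (U' ⊓ g ⁻¹ᵁ V).2
    refine ⟨W', ⟨⟨W', hW', V, hV, fun z hz => (hW'U hz).2⟩, rfl⟩, hyW', fun z hz => (hW'U hz).1⟩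
  let φ : Y'.sheaf ⟶ (TopCat.Sheaf.pushforward CommRingCat f'.base).obj X'.sheaf := ⟨f'.c⟩
  haveI : IsIso φ := TopCat.Sheaf.isIso_iff_isIso_basis (B := B) hB (fun i =>
    isIso_app_of_isAffineOpen H hfib i.2.2.choose_spec.1 i.2.1 i.2.2.choose_spec.2)
  have h2 : IsIso ((TopCat.Sheaf.forget _ _).map φ) := inferInstance
  exact NatIso.isIso_app_of_isIso ((TopCat.Sheaf.forget _ _).map φ) (op V')

/-- Integrality descends along `f` with `f_* O_X = O_Y`. -/
theorem isIntegral_of_forall_isIso_app (f : X ⟶ Y) (hfib : ∀ V : Y.Opens, IsIso (f.app V))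
    [IsIntegral X] : IsIntegral Y := by
  haveI : Nonempty Y := ⟨f (Classical.arbitrary X)⟩
  refine ⟨inferInstance, fun U hU => ?_⟩
  haveI := hfib U
  let e : Γ(Y, U) ≃+* Γ(X, f ⁻¹ᵁ U) := (asIso (f.app U)).commRingCatIsoToRingEquiv
  by_cases hne : Nonempty (f ⁻¹ᵁ U : X.Opens)
  · haveI := hne
    exact e.toMulEquiv.isDomain _
  · exfalso
    obtain ⟨⟨y, hy⟩⟩ := hU
    have hbot : f ⁻¹ᵁ U = ⊥ := by
      ext x
      simp only [Opens.coe_bot, Set.mem_empty_iff_false, iff_false]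
      exact fun hx => hne ⟨⟨x, hx⟩⟩
    haveI : Subsingleton Γ(X, f ⁻¹ᵁ U) := by rw [hbot]; infer_instance
    haveI : Subsingleton Γ(Y, U) := e.injective.subsingleton
    haveI : Nontrivial Γ(Y, U) := (Y.presheaf.germ U y hy).hom.domain_nontrivial
    exact not_subsingleton Γ(Y, U) inferInstance

end Groth.Agent.R2.H39.FibBC
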