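import Mathlib
import Groth.Agent.S5802
import Groth.Agent.Lib.Helper8Rees
import Groth.Agent.Lib.Helper15ExtBC
import Groth.Agent.R2.H39DetCot
import Groth.Agent.R2.H39ExtPowRank

/-!
# The fundamental local isomorphism `Ext^p_A(Ω^{n-p}_{A/J}, Ω^n_A) ≃ A/J` (helper39)
-/

set_option autoImplicit false
set_option linter.unusedSectionVars false
universe u

open exteriorPower TensorProduct CategoryTheory

namespace Groth.Agent.R2.H39.FundLocal

open Groth.Agent.R2.H39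

section EndEquiv

variable (A : Type u) [CommRing A] (J : Ideal A) (L : Type u) [AddCommGroup L] [Module (A ⧸ J) L]
  [Module A L] [IsScalarTower A (A ⧸ J) L] [Module.Finite (A ⧸ J) L] [Module.Projective (A ⧸ J) L]
  (h1 : ∀ q : PrimeSpectrum (A ⧸ J), Module.finrank q.asIdeal.ResidueField
      (q.asIdeal.ResidueField ⊗[A ⧸ J] L) = 1)

/-- `b ↦ b • id`. -/
noncomputable def smulEnd : (A ⧸ J) →ₗ[A] (L →ₗ[A] L) where
  toFun b := (LinearMap.lsmul (A ⧸ J) L b).restrictScalars A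
  map_add' b c := by ext y; simp
  map_smul' a b := by ext y; simp

include h1 in
theorem smulEnd_bijective : Function.Bijective (smulEnd A J L) := by
  have hsurj : Function.Surjective (algebraMap A (A ⧸ J)) := Ideal.Quotient.mk_surjective
  constructor
  · intro b c hbc
    have hb : ∀ y : L, b • y = c • y := fun y => LinearMap.congr_fun hbc y
    obtain ⟨b₀, -, huniq⟩ := ExtPowRank.existsUnique_smul (A ⧸ J) L h1
      (LinearMap.lsmul (A ⧸ J) L b)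
    rw [huniq b (fun y => rfl), huniq c (fun y => hb y)]
  · intro G
    obtain ⟨b, hb, -⟩ := ExtPowRank.existsUnique_smul (A ⧸ J) L h1
      (LinearMap.extendScalarsOfSurjective hsurj G)
    refine ⟨b, ?_⟩
    ext y
    exact (hb y).symm

/-- `End_A(L) ≃ A/J` for a rank-one finite projective `A/J`-module. -/
noncomputable def endEquiv : (L →ₗ[A] L) ≃ₗ[A] (A ⧸ J) :=
  (LinearEquiv.ofBijective (smulEnd A J L) (smulEnd_bijective A J L h1)).symm

end EndEquiv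

section Rank

variable (k : Type u) [Field k] (A : Type u) [CommRing A] [Algebra k A] [Algebra.FiniteType k A]
  [Algebra.Smooth k A] (n : ℕ) (hn : ∀ q : PrimeSpectrum A, Module.rankAtStalk (Ω[A⁄k]) q = n)
  (J : Ideal A) [Algebra.Smooth k (A ⧸ J)] (p : ℕ)
  (eE : ((A ⧸ J) ⊗[A] Ω[A⁄k]) ≃ₗ[A ⧸ J] (Ω[(A ⧸ J)⁄k] × (Fin p → A ⧸ J)))

include hn eE in
theorem rank_omega_quot (q : PrimeSpectrum (A ⧸ J)) :
    Module.finrank q.asIdeal.ResidueField (q.asIdeal.ResidueField ⊗[A ⧸ J] Ω[(A ⧸ J)⁄k]) + p = n := by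
  have : Nontrivial (A ⧸ J) := q.nontrivial
  have h1 : Module.rankAtStalk ((A ⧸ J) ⊗[A] Ω[A⁄k]) q = n := by
    rw [Module.rankAtStalk_baseChange, hn]
  have h2 : Module.rankAtStalk ((A ⧸ J) ⊗[A] Ω[A⁄k]) q =
      Module.rankAtStalk (Ω[(A ⧸ J)⁄k]) q + p := by
    rw [Module.rankAtStalk_eq_of_equiv eE, Module.rankAtStalk_prod,
      Module.rankAtStalk_eq_finrank_of_free (M := Fin p → A ⧸ J), Module.finrank_fin_fun]
    rfl
  have h3 := Ideal.finrank_fiber_eq_rankAtStalk (M := Ω[(A ⧸ J)⁄k]) q.asIdeal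
  have h4 : Module.finrank q.asIdeal.ResidueField
      (q.asIdeal.ResidueField ⊗[A ⧸ J] Ω[(A ⧸ J)⁄k]) = Module.rankAtStalk (Ω[(A ⧸ J)⁄k]) q := h3
  omega

end Rank

section Main

variable (k : Type u) [Field k] (A : Type u) [CommRing A] [Algebra k A] [Algebra.FiniteType k A]
  [Algebra.Smooth k A]

/-- the chain of isomorphisms `A/J ⊗ ⋀^(m+p) Ω_A ≃ ⋀^m Ω_{A/J}` and the rank-one statement. -/
theorem exists_chain (m : ℕ) (xs : List A)
    (hn : ∀ q : PrimeSpectrum A, Module.rankAtStalk (Ω[A⁄k]) q = m + xs.length)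
    (hreg : RingTheory.Sequence.IsWeaklyRegular A xs)
    [Algebra.Smooth k (A ⧸ Ideal.ofList xs)] :
    Nonempty (((A ⧸ Ideal.ofList xs) ⊗[A] ↥(⋀[A]^(m + xs.length) (Ω[A⁄k]))) ≃ₗ[A ⧸ Ideal.ofList xs]
        ↥(⋀[A ⧸ Ideal.ofList xs]^m (Ω[(A ⧸ Ideal.ofList xs)⁄k]))) ∧
      ∀ q : PrimeSpectrum (A ⧸ Ideal.ofList xs), Module.finrank q.asIdeal.ResidueField
        (q.asIdeal.ResidueField ⊗[A ⧸ Ideal.ofList xs]
          ↥(⋀[A ⧸ Ideal.ofList xs]^m (Ω[(A ⧸ Ideal.ofList xs)⁄k]))) = 1 := by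
  set J := Ideal.ofList xs with hJ
  set p := xs.length with hp
  let F : Fin p → A := xs.get
  have hI : J = Ideal.span (Set.range F) := by
    rw [hJ, Ideal.ofList, Set.range_list_get]
  have hreg' : RingTheory.Sequence.IsWeaklyRegular A (List.ofFn F) := by
    rw [List.ofFn_get]; exact hreg
  have hq : CAlgX.IsQuasiRegular F := Groth.Agent.S5802.result A p F hreg'
  let bN := DetCot.cotBasis F J hI hq
  obtain ⟨eS⟩ := DetCot.nonempty_split k A J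
  let eE : ((A ⧸ J) ⊗[A] Ω[A⁄k]) ≃ₗ[A ⧸ J] (Ω[(A ⧸ J)⁄k] × (Fin p → A ⧸ J)) :=
    eS.trans ((LinearEquiv.prodComm _ _ _).trans
      ((LinearEquiv.refl _ _).prodCongr bN.equivFun))
  have hrk := rank_omega_quot k A (m + p) hn J p eE
  have hrk' : ∀ q : PrimeSpectrum (A ⧸ J), Module.finrank q.asIdeal.ResidueField
      (q.asIdeal.ResidueField ⊗[A ⧸ J] Ω[(A ⧸ J)⁄k]) = m := fun q => by
    have := hrk q; omega
  have hvan : ∀ j, m < j → Subsingleton (⋀[A ⧸ J]^j (Ω[(A ⧸ J)⁄k])) := by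
    intro j hj
    apply ExtPowRank.extPow_subsingleton_of_rank_lt
    intro q
    rw [hrk' q]; exact hj
  obtain ⟨⟨eW⟩, -⟩ := ExtPowRank.wedge_prod_free (A ⧸ J) p (Ω[(A ⧸ J)⁄k]) m hvan
  refine ⟨⟨(Groth.Agent.Lib.Helper15ExtBC.bcEquiv A (A ⧸ J) (Ω[A⁄k]) (m + p)).trans
    ((ExtPowRank.extCongr eE (m + p)).trans eW)⟩, fun q => ?_⟩
  rw [ExtPowRank.finrank_fibre_extPow, hrk' q, Nat.choose_self]

theorem main (n : ℕ) (hn : ∀ q : PrimeSpectrum A, Module.rankAtStalk (Ω[A⁄k]) q = n)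
    (xs : List A) (hreg : RingTheory.Sequence.IsWeaklyRegular A xs) (J : Ideal A)
    (hJ : Ideal.ofList xs = J) [Algebra.Smooth k (A ⧸ J)] (p : ℕ) (hp : xs.length = p)
    (hpn : p ≤ n) :
    Nonempty (Abelian.Ext (ModuleCat.of A ↥((⋀[A ⧸ J]^(n - p) (Ω[(A ⧸ J)⁄k])).restrictScalars A))
      (ModuleCat.of A ↥(⋀[A]^n (Ω[A⁄k]))) p ≃ₗ[A] (A ⧸ J)) := by
  subst hJ
  subst hp
  obtain ⟨m, rfl⟩ : ∃ m, n = m + xs.length := ⟨n - xs.length, by omega⟩
  generalize hg : m + xs.length - xs.length = m'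
  obtain rfl : m = m' := by omega
  clear hg
  obtain ⟨⟨eM⟩, hone⟩ := exists_chain k A m xs hn hreg
  -- abbreviations
  have hprojB : Module.Projective (A ⧸ Ideal.ofList xs)
      ↥(⋀[A ⧸ Ideal.ofList xs]^m (Ω[(A ⧸ Ideal.ofList xs)⁄k])) := ExtPowRank.extPow_projective m
  have hprojA : Module.Projective A ↥(⋀[A]^(m + xs.length) (Ω[A⁄k])) :=
    ExtPowRank.extPow_projective _
  -- Rees
  have hann : ∀ r ∈ xs, r ∈ Module.annihilator A
      (ModuleCat.of A ↥((⋀[A ⧸ Ideal.ofList xs]^m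
        (Ω[(A ⧸ Ideal.ofList xs)⁄k])).restrictScalars A)) := by
    intro r hr
    rw [Module.mem_annihilator]
    intro y
    have hrJ : Ideal.Quotient.mk (Ideal.ofList xs) r = 0 :=
      Ideal.Quotient.eq_zero_iff_mem.mpr (Ideal.subset_span hr)
    apply Subtype.ext
    show r • (y.1 : ExteriorAlgebra (A ⧸ Ideal.ofList xs) (Ω[(A ⧸ Ideal.ofList xs)⁄k])) = 0
    rw [← algebraMap_smul (A ⧸ Ideal.ofList xs) r, Ideal.Quotient.algebraMap_eq, hrJ, zero_smul]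
  have hregM : RingTheory.Sequence.IsWeaklyRegular
      (ModuleCat.of A ↥(⋀[A]^(m + xs.length) (Ω[A⁄k]))) xs := by
    have h1 := RingTheory.Sequence.IsWeaklyRegular.isWeaklyRegular_lTensor
      (M₂ := ↥(⋀[A]^(m + xs.length) (Ω[A⁄k]))) hreg
    exact ((TensorProduct.rid A ↥(⋀[A]^(m + xs.length) (Ω[A⁄k]))).isWeaklyRegular_congr xs).mp h1
  obtain ⟨-, ⟨eR⟩⟩ := Groth.Agent.Lib.Helper8.Rees.rees
    (ModuleCat.of A ↥((⋀[A ⧸ Ideal.ofList xs]^m
      (Ω[(A ⧸ Ideal.ofList xs)⁄k])).restrictScalars A)) xs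
    (ModuleCat.of A ↥(⋀[A]^(m + xs.length) (Ω[A⁄k]))) hann hregM
  let eN : ↥((⋀[A ⧸ Ideal.ofList xs]^m (Ω[(A ⧸ Ideal.ofList xs)⁄k])).restrictScalars A) ≃ₗ[A]
      ↥(⋀[A ⧸ Ideal.ofList xs]^m (Ω[(A ⧸ Ideal.ofList xs)⁄k])) :=
    (Submodule.restrictScalarsEquiv A (A ⧸ Ideal.ofList xs) _ _).restrictScalars A
  let eT : (↥(⋀[A]^(m + xs.length) (Ω[A⁄k])) ⧸ (Ideal.ofList xs • ⊤ :
      Submodule A ↥(⋀[A]^(m + xs.length) (Ω[A⁄k])))) ≃ₗ[A]
      ↥(⋀[A ⧸ Ideal.ofList xs]^m (Ω[(A ⧸ Ideal.ofList xs)⁄k])) :=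
    (TensorProduct.quotTensorEquivQuotSMul _ (Ideal.ofList xs)).symm.trans (eM.restrictScalars A)
  exact ⟨eR.trans ((LinearEquiv.arrowCongr eN eT).trans
    (endEquiv A (Ideal.ofList xs) _ hone))⟩

end Main

end Groth.Agent.R2.H39.FundLocal
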