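import Mathlib

/-!
# helper39: kernel bound for connected "Laplacian-like" symmetric matrices over a field

`finrank_ker_add_le`: for a symmetric matrix `A` over a field killing a vector `m` with nonzero entries,
whose graph (edges `S`) is connected, `dim ker A + n ≤ |S| + 2` (cycle-space argument).
-/

set_option autoImplicit false

namespace Groth.Agent.R2.H39.GraphLap

open Finset Matrix

variable {n : ℕ} {F : Type*} [Field F]

section
variable (A : Matrix (Fin n) (Fin n) F) (hsymm : ∀ i j, A i j = A j i)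
  (S : Finset (Fin n × Fin n)) (hS1 : ∀ p ∈ S, p.1 < p.2 ∧ A p.1 p.2 ≠ 0)
  (hS2 : ∀ i j, i < j → A i j ≠ 0 → (i, j) ∈ S)
  (hconn : ∀ I : Finset (Fin n), I.Nonempty → I ≠ univ → ∃ i ∈ I, ∃ j ∉ I, A i j ≠ 0)

include hsymm hS2 hconn in
theorem const_of_edges (y : Fin n → F) (hy : ∀ p ∈ S, y p.1 = y p.2) (i0 : Fin n) :
    ∀ i, y i = y i0 := by
  classical
  set I : Finset (Fin n) := univ.filter (fun i => y i = y i0) with hI
  have hne : I.Nonempty := ⟨i0, by simp [hI]⟩
  have hIu : I = univ := by
    by_contra hcon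
    obtain ⟨i, hi, j, hj, hij⟩ := hconn I hne hcon
    have hyi : y i = y i0 := by simpa [hI] using hi
    have hyj : y j ≠ y i0 := by simpa [hI] using hj
    rcases lt_trichotomy i j with h | h | h
    · have := hy (i, j) (hS2 i j h hij)
      exact hyj (this ▸ hyi)
    · subst h; exact hyj hyi
    · have hji : A j i ≠ 0 := by rwa [hsymm j i]
      have := hy (j, i) (hS2 j i h hji)
      exact hyj (this.trans hyi)
  intro i
  have : i ∈ I := hIu ▸ mem_univ i
  simpa [hI] using this

/-- the incidence matrix -/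
def inc : Matrix (Fin n) S F := fun i p =>
  (if i = p.1.1 then (1 : F) else 0) - (if i = p.1.2 then 1 else 0)

theorem inc_transpose_mulVec (y : Fin n → F) (p : S) :
    ((inc (F := F) S)ᵀ *ᵥ y) p = y p.1.1 - y p.1.2 := by
  simp [Matrix.mulVec, dotProduct, inc, sub_mul, Finset.sum_sub_distrib]

include hsymm hS2 hconn in
theorem finrank_ker_inc_transpose_le (hn : 0 < n) :
    Module.finrank F (LinearMap.ker (inc (F := F) S)ᵀ.mulVecLin) ≤ 1 := by
  classical
  have hle : LinearMap.ker (inc (F := F) S)ᵀ.mulVecLin ≤ Submodule.span F {fun _ : Fin n => (1 : F)} := by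
    intro y hy
    rw [LinearMap.mem_ker, Matrix.mulVecLin_apply] at hy
    have hy' : ∀ p ∈ S, y p.1 = y p.2 := by
      intro p hp
      have := congrFun hy ⟨p, hp⟩
      rw [inc_transpose_mulVec] at this
      exact sub_eq_zero.mp this
    have hc := const_of_edges A hsymm S hS2 hconn y hy' ⟨0, hn⟩
    rw [Submodule.mem_span_singleton]
    refine ⟨y ⟨0, hn⟩, ?_⟩
    ext i
    simp [hc i]
  calc Module.finrank F (LinearMap.ker (inc (F := F) S)ᵀ.mulVecLin)
      ≤ Module.finrank F (Submodule.span F {fun _ : Fin n => (1 : F)}) :=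
        Submodule.finrank_mono hle
    _ ≤ 1 := by
        have := finrank_span_le_card (R := F) ({fun _ : Fin n => (1 : F)} : Set (Fin n → F))
        simpa using this

include hsymm hS2 hconn in
theorem finrank_ker_inc_add_le (hn : 0 < n) :
    Module.finrank F (LinearMap.ker (inc (F := F) S).mulVecLin) + n ≤ S.card + 1 := by
  classical
  have h1 := LinearMap.finrank_range_add_finrank_ker (inc (F := F) S)ᵀ.mulVecLin
  have h2 := LinearMap.finrank_range_add_finrank_ker (inc (F := F) S).mulVecLin
  have h3 := Matrix.rank_transpose (inc (F := F) S)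
  have h4 := finrank_ker_inc_transpose_le A hsymm S hS2 hconn hn
  simp only [Module.finrank_fintype_fun_eq_card, Fintype.card_fin, Fintype.card_coe] at h1 h2
  unfold Matrix.rank at h3
  omega

/-- the "flow" map -/
def flow (m : Fin n → F) : (Fin n → F) →ₗ[F] (S → F) where
  toFun x p := A p.1.1 p.1.2 * (x p.1.1 * m p.1.2 - x p.1.2 * m p.1.1)
  map_add' x y := by ext p; simp; ring
  map_smul' c x := by ext p; simp; ring

omit [Field F] in
theorem sum_fst {G : Type*} [AddCommMonoid G] (g : Fin n → Fin n → G) (i : Fin n) :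
    ∑ q ∈ S, (if i = q.1 then g q.1 q.2 else 0) = ∑ j, (if (i, j) ∈ S then g i j else 0) := by
  classical
  rw [← Finset.sum_filter, ← Finset.sum_filter]
  refine Finset.sum_nbij' (fun q => q.2) (fun j => (i, j)) ?_ ?_ ?_ ?_ ?_
  · rintro ⟨a, b⟩ hq
    simp only [mem_filter] at hq
    obtain ⟨hq1, rfl⟩ := hq
    simpa using hq1
  · intro j hj
    simpa using hj
  · rintro ⟨a, b⟩ hq
    simp only [mem_filter] at hq
    obtain ⟨_, rfl⟩ := hq
    rfl
  · intro j _; rfl
  · rintro ⟨a, b⟩ hq
    simp only [mem_filter] at hq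
    obtain ⟨_, rfl⟩ := hq
    rfl

omit [Field F] in
theorem sum_snd {G : Type*} [AddCommMonoid G] (g : Fin n → Fin n → G) (i : Fin n) :
    ∑ q ∈ S, (if i = q.2 then g q.1 q.2 else 0) = ∑ j, (if (j, i) ∈ S then g j i else 0) := by
  classical
  rw [← Finset.sum_filter, ← Finset.sum_filter]
  refine Finset.sum_nbij' (fun q => q.1) (fun j => (j, i)) ?_ ?_ ?_ ?_ ?_
  · rintro ⟨a, b⟩ hq
    simp only [mem_filter] at hq
    obtain ⟨hq1, rfl⟩ := hq
    simpa using hq1
  · intro j hj
    simpa using hj
  · rintro ⟨a, b⟩ hq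
    simp only [mem_filter] at hq
    obtain ⟨_, rfl⟩ := hq
    rfl
  · intro j _; rfl
  · rintro ⟨a, b⟩ hq
    simp only [mem_filter] at hq
    obtain ⟨_, rfl⟩ := hq
    rfl

include hsymm hS1 hS2 in
theorem inc_mulVec_flow (m : Fin n → F) (hAm : A *ᵥ m = 0) (x : Fin n → F) (hx : A *ᵥ x = 0) :
    (inc (F := F) S) *ᵥ (flow A S m x) = 0 := by
  classical
  ext i
  set t : Fin n → Fin n → F := fun a b => A a b * (x a * m b - x b * m a) with ht
  have htanti : ∀ a b, t b a = - t a b := by
    intro a b; simp only [ht]; rw [hsymm b a]; ring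
  have hsum : ((inc (F := F) S) *ᵥ (flow A S m x)) i =
      ∑ q ∈ S, ((if i = q.1 then (1 : F) else 0) - (if i = q.2 then 1 else 0)) * t q.1 q.2 := by
    rw [← Finset.sum_coe_sort S]
    rfl
  rw [hsum]
  simp only [sub_mul, ite_mul, one_mul, zero_mul, Finset.sum_sub_distrib]
  rw [sum_fst S t i, sum_snd S t i, ← Finset.sum_sub_distrib]
  have hterm : ∀ j, ((if (i, j) ∈ S then t i j else 0) - (if (j, i) ∈ S then t j i else 0)) = t i j := by
    intro j
    by_cases h1 : (i, j) ∈ S
    · have hlt := (hS1 _ h1).1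
      have h2 : (j, i) ∉ S := fun h => absurd (hS1 _ h).1 (not_lt.mpr (le_of_lt hlt))
      simp [h1, h2]
    · by_cases h2 : (j, i) ∈ S
      · simp [h1, h2, htanti i j]
      · simp only [h1, h2, if_false, sub_zero]
        rcases lt_trichotomy i j with h | h | h
        · have : A i j = 0 := by
            by_contra hne; exact h1 (hS2 i j h hne)
          simp [ht, this]
        · subst h; simp [ht]
        · have : A j i = 0 := by
            by_contra hne; exact h2 (hS2 j i h hne)
          have : A i j = 0 := by rw [hsymm i j]; exact this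
          simp [ht, this]
  rw [Finset.sum_congr rfl (fun j _ => hterm j)]
  have h1 : (A *ᵥ m) i = 0 := by rw [hAm]; rfl
  have h2 : (A *ᵥ x) i = 0 := by rw [hx]; rfl
  simp only [Matrix.mulVec, dotProduct] at h1 h2
  calc ∑ j, t i j = x i * ∑ j, A i j * m j - m i * ∑ j, A i j * x j := by
        rw [Finset.mul_sum, Finset.mul_sum, ← Finset.sum_sub_distrib]
        refine Finset.sum_congr rfl fun j _ => ?_
        simp only [ht]; ring
    _ = 0 := by rw [h1, h2]; simp

include hsymm hS1 hS2 hconn in
theorem mem_span_of_flow_eq_zero (m : Fin n → F) (hm : ∀ i, m i ≠ 0) (hn : 0 < n)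
    (x : Fin n → F) (hx : flow A S m x = 0) : x ∈ Submodule.span F {m} := by
  classical
  set y : Fin n → F := fun i => x i / m i with hy
  have hy' : ∀ p ∈ S, y p.1 = y p.2 := by
    intro p hp
    have h1 := congrFun hx ⟨p, hp⟩
    simp only [flow, LinearMap.coe_mk, AddHom.coe_mk, Pi.zero_apply] at h1
    have h2 := (mul_eq_zero.mp h1).resolve_left (hS1 p hp).2
    simp only [hy]
    rw [div_eq_div_iff (hm _) (hm _)]
    exact sub_eq_zero.mp h2
  have hc := const_of_edges A hsymm S hS2 hconn y hy' ⟨0, hn⟩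
  rw [Submodule.mem_span_singleton]
  refine ⟨y ⟨0, hn⟩, ?_⟩
  ext i
  have := hc i
  rw [Pi.smul_apply, smul_eq_mul, ← this]
  simp only [hy]
  rw [div_mul_cancel₀ _ (hm i)]

include hsymm hS1 hS2 hconn in
theorem finrank_ker_add_le (m : Fin n → F) (hm : ∀ i, m i ≠ 0) (hAm : A *ᵥ m = 0) (hn : 0 < n) :
    Module.finrank F (LinearMap.ker A.mulVecLin) + n ≤ S.card + 2 := by
  classical
  set K := LinearMap.ker A.mulVecLin with hK
  set g : K →ₗ[F] (S → F) := (flow A S m).domRestrict K with hg
  have hrn := LinearMap.finrank_range_add_finrank_ker g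
  have hrange : LinearMap.range g ≤ LinearMap.ker (inc (F := F) S).mulVecLin := by
    rintro _ ⟨x, rfl⟩
    rw [LinearMap.mem_ker, Matrix.mulVecLin_apply]
    have hx : A *ᵥ (x : Fin n → F) = 0 := by
      have := (LinearMap.mem_ker (f := A.mulVecLin)).mp x.2
      rwa [Matrix.mulVecLin_apply] at this
    exact inc_mulVec_flow A hsymm S hS1 hS2 m hAm x hx
  have h1 : Module.finrank F (LinearMap.range g) ≤
      Module.finrank F (LinearMap.ker (inc (F := F) S).mulVecLin) := Submodule.finrank_mono hrange
  have h2 : Module.finrank F (LinearMap.ker g) ≤ 1 := by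
    let φ : LinearMap.ker g →ₗ[F] Submodule.span F {m} :=
      LinearMap.codRestrict _ (K.subtype ∘ₗ (LinearMap.ker g).subtype) (by
        intro x
        have hx : g x.1 = 0 := x.2
        exact mem_span_of_flow_eq_zero A hsymm S hS1 hS2 hconn m hm hn _ hx)
    have hφ : Function.Injective φ := by
      intro a b hab
      have := congrArg Subtype.val hab
      exact Subtype.ext (Subtype.ext this)
    calc Module.finrank F (LinearMap.ker g) ≤ Module.finrank F (Submodule.span F {m}) :=
          LinearMap.finrank_le_finrank_of_injective hφ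
      _ ≤ 1 := by
          have := finrank_span_le_card (R := F) ({m} : Set (Fin n → F))
          simpa using this
  have h3 := finrank_ker_inc_add_le A hsymm S hS2 hconn hn
  omega

end

end Groth.Agent.R2.H39.GraphLap
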