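import Mathlib

/-!
# Lovász' cancellation by counting homomorphisms, for finite modules

Two finite modules over a ring which receive the same number of homomorphisms from every finite
module are isomorphic.  Consequently `M^n ≃ M'^n` (`n ≠ 0`) implies `M ≃ M'` for finite modules.
-/

set_option autoImplicit false
set_option linter.style.haveILetI false

namespace Groth.Agent.R2.H39.Lovasz

universe u v

variable {R : Type u} [Ring R]

section Count

variable (X : Type v) [AddCommGroup X] [Module R X]
variable (M : Type v) [AddCommGroup M] [Module R M]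

/-- Number of injective homomorphisms. -/
noncomputable def injCard : ℕ := Nat.card {f : X →ₗ[R] M // Function.Injective f}

/-- Homomorphisms with prescribed kernel correspond to injective homomorphisms from the quotient. -/
noncomputable def kerEquiv (Y : Submodule R X) :
    {f : X →ₗ[R] M // LinearMap.ker f = Y} ≃ {g : (X ⧸ Y) →ₗ[R] M // Function.Injective g} where
  toFun f := ⟨Y.liftQ f.1 (le_of_eq f.2.symm), by
    rw [← LinearMap.ker_eq_bot, Submodule.ker_liftQ, f.2, Submodule.mkQ_map_self]⟩
  invFun g := ⟨g.1.comp Y.mkQ, by
    rw [LinearMap.ker_comp, LinearMap.ker_eq_bot.2 g.2, Submodule.comap_bot, Submodule.ker_mkQ]⟩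
  left_inv f := by
    apply Subtype.ext
    exact Submodule.liftQ_mkQ Y f.1 _
  right_inv g := by
    apply Subtype.ext
    apply Submodule.linearMap_qext
    exact Submodule.liftQ_mkQ Y _ _

variable [Finite X] [Finite M]

theorem card_hom_eq_sum : letI := Fintype.ofFinite (Submodule R X)
    Nat.card (X →ₗ[R] M) = ∑ Y : Submodule R X, injCard (R := R) (X ⧸ Y) M := by
  classical
  letI := Fintype.ofFinite (Submodule R X)
  haveI : Finite (X →ₗ[R] M) := Finite.of_injective (fun f => (f : X → M)) DFunLike.coe_injective
  rw [← Nat.card_congr (Equiv.sigmaFiberEquiv (fun f : X →ₗ[R] M => LinearMap.ker f)),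
    Nat.card_sigma]
  refine Finset.sum_congr rfl fun Y _ => ?_
  exact Nat.card_congr (kerEquiv X M Y)

end Count

section Main

variable {M M' : Type v} [AddCommGroup M] [Module R M] [Finite M]
  [AddCommGroup M'] [Module R M'] [Finite M']

theorem injCard_eq (h : ∀ (X : Type v) [AddCommGroup X] [Module R X] [Finite X],
      Nat.card (X →ₗ[R] M) = Nat.card (X →ₗ[R] M')) :
    ∀ (n : ℕ) (X : Type v) [AddCommGroup X] [Module R X] [Finite X], Nat.card X = n →
      injCard (R := R) X M = injCard (R := R) X M' := by
  classical
  intro n
  induction n using Nat.strong_induction_on with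
  | _ n ih =>
    intro X _ _ _ hX
    letI := Fintype.ofFinite (Submodule R X)
    have h1 := card_hom_eq_sum (R := R) X M
    have h2 := card_hom_eq_sum (R := R) X M'
    have hsplit : ∀ (T : Type v) [AddCommGroup T] [Module R T] [Finite T],
        (∑ Y : Submodule R X, injCard (R := R) (X ⧸ Y) T) =
          injCard (R := R) X T + ∑ Y ∈ (Finset.univ : Finset (Submodule R X)).erase ⊥,
            injCard (R := R) (X ⧸ Y) T := by
      intro T _ _ _
      rw [← Finset.add_sum_erase _ _ (Finset.mem_univ (⊥ : Submodule R X))]
      congr 1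
      unfold injCard
      let e : (X ⧸ (⊥ : Submodule R X)) ≃ₗ[R] X := Submodule.quotEquivOfEqBot ⊥ rfl
      refine Nat.card_congr
        { toFun := fun g => ⟨g.1.comp e.symm.toLinearMap, g.2.comp e.symm.injective⟩
          invFun := fun g => ⟨g.1.comp e.toLinearMap, g.2.comp e.injective⟩
          left_inv := fun g => by
            apply Subtype.ext
            ext x
            simp
          right_inv := fun g => by
            apply Subtype.ext
            ext x
            simp }
    have hrest : (∑ Y ∈ (Finset.univ : Finset (Submodule R X)).erase ⊥,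
        injCard (R := R) (X ⧸ Y) M) =
        ∑ Y ∈ (Finset.univ : Finset (Submodule R X)).erase ⊥, injCard (R := R) (X ⧸ Y) M' := by
      refine Finset.sum_congr rfl fun Y hY => ?_
      have hYne : Y ≠ ⊥ := (Finset.mem_erase.1 hY).1
      have hlt : Nat.card (X ⧸ Y) < n := by
        have hc := Submodule.card_eq_card_quotient_mul_card Y
        rw [hX] at hc
        have hY2 : 2 ≤ Nat.card Y := by
          haveI : Nontrivial Y := (Submodule.nontrivial_iff_ne_bot).2 hYne
          exact Finite.one_lt_card
        haveI : Finite (X ⧸ Y) := Finite.of_surjective Y.mkQ (Submodule.mkQ_surjective Y)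
        have hq : 0 < Nat.card (X ⧸ Y) := Nat.card_pos
        nlinarith
      haveI : Finite (X ⧸ Y) := Finite.of_surjective Y.mkQ (Submodule.mkQ_surjective Y)
      exact ih _ hlt (X ⧸ Y) rfl
    rw [hsplit M] at h1
    rw [hsplit M'] at h2
    have := h X
    rw [h1, h2, hrest] at this
    exact Nat.add_right_cancel this

/-- **Lovász**: finite modules with the same hom-counts are isomorphic. -/
theorem nonempty_linearEquiv_of_card_hom_eq
    (h : ∀ (X : Type v) [AddCommGroup X] [Module R X] [Finite X],
      Nat.card (X →ₗ[R] M) = Nat.card (X →ₗ[R] M')) : Nonempty (M ≃ₗ[R] M') := by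
  classical
  have hinj := injCard_eq h
  have h1 : 0 < injCard (R := R) M M := by
    unfold injCard
    haveI : Finite (M →ₗ[R] M) := Finite.of_injective (fun f => (f : M → M)) DFunLike.coe_injective
    haveI : Nonempty {f : M →ₗ[R] M // Function.Injective f} :=
      ⟨⟨LinearMap.id, Function.injective_id⟩⟩
    exact Nat.card_pos
  have h2 : 0 < injCard (R := R) M' M' := by
    unfold injCard
    haveI : Finite (M' →ₗ[R] M') :=
      Finite.of_injective (fun f => (f : M' → M')) DFunLike.coe_injective
    haveI : Nonempty {f : M' →ₗ[R] M' // Function.Injective f} :=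
      ⟨⟨LinearMap.id, Function.injective_id⟩⟩
    exact Nat.card_pos
  rw [hinj _ M rfl] at h1
  rw [← hinj _ M' rfl] at h2
  obtain ⟨⟨f, hf⟩⟩ : Nonempty {f : M →ₗ[R] M' // Function.Injective f} := by
    by_contra hne
    rw [not_nonempty_iff] at hne
    unfold injCard at h1
    rw [Nat.card_of_isEmpty] at h1
    exact lt_irrefl _ h1
  obtain ⟨⟨g, hg⟩⟩ : Nonempty {g : M' →ₗ[R] M // Function.Injective g} := by
    by_contra hne
    rw [not_nonempty_iff] at hne
    unfold injCard at h2
    rw [Nat.card_of_isEmpty] at h2
    exact lt_irrefl _ h2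
  have hle1 : Nat.card M ≤ Nat.card M' := Nat.card_le_card_of_injective f hf
  have hle2 : Nat.card M' ≤ Nat.card M := Nat.card_le_card_of_injective g hg
  have hbij : Function.Bijective f :=
    (Nat.bijective_iff_injective_and_card f).2 ⟨hf, le_antisymm hle1 hle2⟩
  exact ⟨LinearEquiv.ofBijective f hbij⟩

/-- Cancellation of exponents for finite modules. -/
theorem nonempty_linearEquiv_of_pi {n : ℕ} (hn : n ≠ 0)
    (e : (Fin n → M) ≃ₗ[R] (Fin n → M')) : Nonempty (M ≃ₗ[R] M') := by
  classical
  apply nonempty_linearEquiv_of_card_hom_eq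
  intro X _ _ _
  have key : ∀ (T : Type v) [AddCommGroup T] [Module R T],
      Nat.card (X →ₗ[R] (Fin n → T)) = Nat.card (X →ₗ[R] T) ^ n := by
    intro T _ _
    have e1 : (X →ₗ[R] (Fin n → T)) ≃ (Fin n → (X →ₗ[R] T)) :=
      { toFun := fun f i => (LinearMap.proj i).comp f
        invFun := fun g => LinearMap.pi g
        left_inv := fun f => by
          ext x i
          simp
        right_inv := fun g => by
          ext i x
          simp }
    rw [Nat.card_congr e1, Nat.card_fun, Nat.card_fin]
  have e2 : (X →ₗ[R] (Fin n → M)) ≃ (X →ₗ[R] (Fin n → M')) :=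
    { toFun := fun f => e.toLinearMap.comp f
      invFun := fun f => e.symm.toLinearMap.comp f
      left_inv := fun f => by
        ext x i
        simp
      right_inv := fun f => by
        ext x i
        simp }
  have h3 := Nat.card_congr e2
  rw [key M, key M'] at h3
  exact Nat.pow_left_injective hn h3

end Main

end Groth.Agent.R2.H39.Lovasz
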