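import Mathlib
import Groth.Prelude.Def_GSzCSA
import Groth.Prelude.Def_GSzH1
import Groth.Agent.Lib.Helper23GalDescent
import Groth.Agent.R2.H39Lovasz
import Groth.Agent.R2.H39ZarDense

/-!
# Hilbert 90 for the units of `K ⊗[k] A`

For a finite Galois extension `K/k` with group `G` and a finite-dimensional `k`-algebra `A`,
every 1-cocycle of `G` in `(K ⊗[k] A)ˣ` is a coboundary.  Proof: twist the semilinear action of `G`
on `B = K ⊗ A` by the cocycle; Galois descent shows the fixed points `N` span `B` and `N^n ≃ B`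
as left `A`-modules.  For infinite `k` a Zariski-density argument gives a unit in `N`; for
finite `k`, Lovász cancellation gives `N ≃ A` as `A`-modules, whose generator is a unit.
-/

set_option autoImplicit false
set_option linter.style.haveILetI false

universe u v w

namespace Groth.Agent.R2.H39.H90

open scoped TensorProduct
open Groth.Agent.Lib.Helper23

section LinAlg

variable {k K B : Type*} [Field k] [Field K] [Algebra k K] [Ring B] [Algebra K B]
  [Module.Finite K B]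

theorem isUnit_of_det_mulLeft_ne_zero (x : B)
    (h : LinearMap.det (LinearMap.mulLeft K x) ≠ 0) : IsUnit x := by
  have hu : IsUnit (LinearMap.mulLeft K x) :=
    (LinearMap.isUnit_iff_isUnit_det _).2 (isUnit_iff_ne_zero.2 h)
  have hb : Function.Bijective (LinearMap.mulLeft K x) := (Module.End.isUnit_iff _).1 hu
  obtain ⟨y, hy⟩ := hb.2 1
  have hy' : x * y = 1 := hy
  have hyx : y * x = 1 := by
    apply hb.1
    show x * (y * x) = x * 1
    rw [← mul_assoc, hy', one_mul, mul_one]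
  exact ⟨⟨x, y, hy', hyx⟩, rfl⟩

theorem exists_isUnit_combination [Infinite k] {n : ℕ} (w : Fin n → B) (c : Fin n → K)
    (hc : IsUnit (∑ j, c j • w j)) :
    ∃ y : Fin n → k, IsUnit (∑ j, algebraMap k K (y j) • w j) := by
  classical
  let d := Module.finrank K B
  let bb : Module.Basis (Fin d) K B := Module.finBasis K B
  let φ : B →ₐ[K] Matrix (Fin d) (Fin d) K := Algebra.leftMulMatrix bb
  let E : Fin n → Matrix (Fin d) (Fin d) K := fun j => φ (w j)
  let P : MvPolynomial (Fin n) K := Matrix.det (ZarDense.gen E id)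
  have hP : ∀ x : Fin n → K, MvPolynomial.eval x P = Matrix.det (φ (∑ j, x j • w j)) := by
    intro x
    show MvPolynomial.eval x (Matrix.det (ZarDense.gen E id)) = _
    rw [RingHom.map_det, ZarDense.eval_gen, map_sum]
    congr 1
    refine Finset.sum_congr rfl fun j _ => ?_
    rw [map_smul]
    rfl
  have hdet : ∀ z : B, Matrix.det (φ z) = LinearMap.det (LinearMap.mulLeft K z) := by
    intro z
    rw [← LinearMap.det_toMatrix bb]
    rfl
  have hP0 : P ≠ 0 := by
    intro h0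
    have h1 := hP c
    rw [h0, map_zero] at h1
    have h2 : IsUnit (φ (∑ j, c j • w j)) := hc.map φ
    rw [Matrix.isUnit_iff_isUnit_det, ← h1] at h2
    exact not_isUnit_zero h2
  by_contra hne
  push Not at hne
  apply hP0
  apply MvPolynomial.funext_set (fun _ => Set.range (algebraMap k K))
    (fun _ => Set.infinite_range_of_injective (algebraMap k K).injective)
  intro x hx
  rw [map_zero, hP, hdet]
  by_contra h
  have hx' : ∀ j, ∃ r : k, algebraMap k K r = x j := fun j => hx j (Set.mem_univ j)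
  choose y hy using hx'
  apply hne y
  have h3 := isUnit_of_det_mulLeft_ne_zero _ h
  simpa only [hy] using h3

end LinAlg

section Main

variable {k : Type u} [Field k] {K : Type v} [Field K] [Algebra k K]
  {A : Type w} [Ring A] [Algebra k A]

attribute [local instance] CSAGal.tensorAction GpH1.unitsAction

theorem smul_one_tmul (σ : K ≃ₐ[k] K) (a' : A) :
    σ • ((1 : K) ⊗ₜ[k] a') = (1 : K) ⊗ₜ[k] a' := by
  rw [TensorProduct.smul_tmul', AlgEquiv.smul_def, map_one]

theorem smul_smul_eq (σ : K ≃ₐ[k] K) (x : K) (m : K ⊗[k] A) :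
    σ • (x • m) = σ x • (σ • m) := by
  induction m using TensorProduct.induction_on with
  | zero => rw [smul_zero, smul_zero, smul_zero]
  | tmul y a' =>
    rw [TensorProduct.smul_tmul', TensorProduct.smul_tmul', TensorProduct.smul_tmul',
      TensorProduct.smul_tmul', smul_eq_mul, smul_eq_mul, AlgEquiv.smul_def, AlgEquiv.smul_def,
      map_mul]
  | add y z hy hz => rw [smul_add, smul_add, hy, hz, smul_add, smul_add]

theorem coe_smul_units (σ : K ≃ₐ[k] K) (u : (K ⊗[k] A)ˣ) :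
    ((σ • u : (K ⊗[k] A)ˣ) : K ⊗[k] A) = σ • (u : K ⊗[k] A) := rfl

theorem coe_inv_smul_units (σ : K ≃ₐ[k] K) (u : (K ⊗[k] A)ˣ) :
    (((σ • u)⁻¹ : (K ⊗[k] A)ˣ) : K ⊗[k] A) = σ • ((u⁻¹ : (K ⊗[k] A)ˣ) : K ⊗[k] A) := rfl

/-- The action on `K ⊗ A` twisted by a cocycle. -/
noncomputable def tw (a : (K ≃ₐ[k] K) → (K ⊗[k] A)ˣ) (σ : K ≃ₐ[k] K) (m : K ⊗[k] A) : K ⊗[k] A :=
  (σ • m) * (((a σ)⁻¹ : (K ⊗[k] A)ˣ) : K ⊗[k] A)

theorem tw_eq_iff (a : (K ≃ₐ[k] K) → (K ⊗[k] A)ˣ) (σ : K ≃ₐ[k] K) (m : K ⊗[k] A) :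
    tw a σ m = m ↔ σ • m = m * (a σ : K ⊗[k] A) := by
  unfold tw
  exact Units.mul_inv_eq_iff_eq_mul (a σ)

theorem isSemilinearAction_tw (a : (K ≃ₐ[k] K) → (K ⊗[k] A)ˣ) (ha : GpH1.IsOneCocycle a) :
    IsSemilinearAction (tw a) := by
  have h1 : a 1 = 1 := by
    have h := ha 1 1
    rw [one_smul, mul_one] at h
    exact mul_eq_left.mp h.symm
  refine ⟨fun σ x y => ?_, fun σ c x => ?_, fun σ τ x => ?_, fun x => ?_⟩
  · unfold tw
    rw [smul_add, add_mul]
  · unfold tw
    rw [smul_smul_eq, smul_mul_assoc]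
  · unfold tw
    rw [ha σ τ, mul_inv_rev, Units.val_mul, coe_inv_smul_units, smul_mul', mul_smul, mul_assoc]
  · unfold tw
    rw [h1, one_smul, inv_one, Units.val_one, mul_one]

section Fixed

variable [FiniteDimensional k K] [IsGalois k K]

/-- The `k`-subspace of twisted fixed points `σ • m = m * a σ`. -/
noncomputable def fixk (a : (K ≃ₐ[k] K) → (K ⊗[k] A)ˣ) : Submodule k (K ⊗[k] A) where
  carrier := {m | ∀ σ : K ≃ₐ[k] K, σ • m = m * (a σ : K ⊗[k] A)}
  zero_mem' := fun σ => by rw [smul_zero, zero_mul]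
  add_mem' := fun {x y} hx hy σ => by rw [smul_add, hx σ, hy σ, add_mul]
  smul_mem' := fun r m hm σ => by
    rw [← algebraMap_smul K r m, smul_smul_eq, AlgEquiv.commutes, hm σ, smul_mul_assoc]

omit [FiniteDimensional k K] [IsGalois k K] in
theorem mem_fixk (a : (K ≃ₐ[k] K) → (K ⊗[k] A)ˣ) (m : K ⊗[k] A) :
    m ∈ fixk a ↔ ∀ σ : K ≃ₐ[k] K, σ • m = m * (a σ : K ⊗[k] A) := Iff.rfl

theorem exists_sum_basis_smul_eq (a : (K ≃ₐ[k] K) → (K ⊗[k] A)ˣ) (ha : GpH1.IsOneCocycle a)
    (x : K ⊗[k] A) :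
    ∃ f : Fin (Module.finrank k K) → fixk a,
      ∑ j, Module.finBasis k K j • ((f j : fixk a) : K ⊗[k] A) = x := by
  classical
  have hρ := isSemilinearAction_tw a ha
  have hW : ∀ x : K ⊗[k] A, x ∈ LinearMap.range (fixk a).subtype ↔ ∀ σ, tw a σ x = x := by
    intro x
    rw [Submodule.range_subtype]
    simp only [tw_eq_iff]
    rfl
  obtain ⟨z, hz⟩ :=
    (hρ.bijective_liftBaseChange (fixk a).subtype Subtype.val_injective hW).2 x
  let b := Module.finBasis k K
  obtain ⟨f, rfl⟩ : ∃ f : Fin (Module.finrank k K) →₀ fixk a,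
      z = (TensorProduct.equivFinsuppOfBasisLeft b).symm f :=
    ⟨TensorProduct.equivFinsuppOfBasisLeft b z, (LinearEquiv.symm_apply_apply _ z).symm⟩
  rw [TensorProduct.equivFinsuppOfBasisLeft_symm_apply, map_finsuppSum] at hz
  simp only [LinearMap.liftBaseChange_tmul] at hz
  rw [Finsupp.sum_fintype _ _ (fun i => by simp)] at hz
  exact ⟨fun j => f j, hz⟩

theorem exists_unit_of_infinite [Infinite k] [FiniteDimensional k A]
    (a : (K ≃ₐ[k] K) → (K ⊗[k] A)ˣ) (ha : GpH1.IsOneCocycle a) :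
    ∃ c : (K ⊗[k] A)ˣ, ∀ σ : K ≃ₐ[k] K, σ • (c : K ⊗[k] A) = c * (a σ : K ⊗[k] A) := by
  classical
  obtain ⟨f, hf⟩ := exists_sum_basis_smul_eq a ha (1 : K ⊗[k] A)
  obtain ⟨y, hy⟩ := exists_isUnit_combination (k := k) (fun j => ((f j : fixk a) : K ⊗[k] A))
    (Module.finBasis k K) (by rw [hf]; exact isUnit_one)
  have hmem : ∑ j, algebraMap k K (y j) • ((f j : fixk a) : K ⊗[k] A) ∈ fixk a := by
    refine Submodule.sum_mem _ fun j _ => ?_
    rw [algebraMap_smul]
    exact Submodule.smul_mem _ _ (f j).2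
  obtain ⟨c, hc⟩ := hy
  exact ⟨c, fun σ => by rw [hc]; exact hmem σ⟩

end Fixed

section FiniteCase

variable [FiniteDimensional k K] [IsGalois k K]

/-- Left `A`-module structure on `K ⊗ A` through the right factor. -/
@[reducible] noncomputable def modAB : Module A (K ⊗[k] A) :=
  Module.compHom (K ⊗[k] A) (Algebra.TensorProduct.includeRight : A →ₐ[k] K ⊗[k] A).toRingHom

attribute [local instance] modAB

omit [FiniteDimensional k K] [IsGalois k K] in
theorem modAB_smul (a' : A) (m : K ⊗[k] A) : a' • m = ((1 : K) ⊗ₜ[k] a') * m := rfl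

/-- The `A`-submodule of twisted fixed points. -/
noncomputable def fixA (a : (K ≃ₐ[k] K) → (K ⊗[k] A)ˣ) : Submodule A (K ⊗[k] A) where
  carrier := {m | ∀ σ : K ≃ₐ[k] K, σ • m = m * (a σ : K ⊗[k] A)}
  zero_mem' := fun σ => by rw [smul_zero, zero_mul]
  add_mem' := fun {x y} hx hy σ => by rw [smul_add, hx σ, hy σ, add_mul]
  smul_mem' := fun a' m hm σ => by
    rw [modAB_smul, smul_mul', smul_one_tmul, hm σ, mul_assoc]

/-- `(f_j) ↦ ∑ λ_j f_j`. -/
noncomputable def piMap (a : (K ≃ₐ[k] K) → (K ⊗[k] A)ˣ) :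
    (Fin (Module.finrank k K) → fixA a) →ₗ[A] (K ⊗[k] A) where
  toFun f := ∑ j, Module.finBasis k K j • ((f j : fixA a) : K ⊗[k] A)
  map_add' f g := by
    simp only [Pi.add_apply, Submodule.coe_add, smul_add, Finset.sum_add_distrib]
  map_smul' a' f := by
    simp only [Pi.smul_apply, Submodule.coe_smul, RingHom.id_apply, Finset.smul_sum]
    refine Finset.sum_congr rfl fun j _ => ?_
    rw [modAB_smul, modAB_smul, mul_smul_comm]

theorem piMap_bijective (a : (K ≃ₐ[k] K) → (K ⊗[k] A)ˣ) (ha : GpH1.IsOneCocycle a) :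
    Function.Bijective (piMap a) := by
  classical
  constructor
  · rw [injective_iff_map_eq_zero]
    intro f hf
    have hρ := isSemilinearAction_tw a ha
    have h0 := hρ.eq_zero_of_sum_basis_smul (Module.finBasis k K)
      (fun j => ((f j : fixA a) : K ⊗[k] A)) (fun j σ => (tw_eq_iff a σ _).2 ((f j).2 σ)) hf
    funext j
    exact Subtype.ext (h0 j)
  · intro x
    obtain ⟨f, hf⟩ := exists_sum_basis_smul_eq a ha x
    exact ⟨fun j => ⟨f j, (f j).2⟩, hf⟩

theorem exists_unit_of_finite [Finite k] [FiniteDimensional k A]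
    (a : (K ≃ₐ[k] K) → (K ⊗[k] A)ˣ) (ha : GpH1.IsOneCocycle a) :
    ∃ c : (K ⊗[k] A)ˣ, ∀ σ : K ≃ₐ[k] K, σ • (c : K ⊗[k] A) = c * (a σ : K ⊗[k] A) := by
  classical
  haveI : Finite K := Module.finite_of_finite k
  haveI : Finite (K ⊗[k] A) := Module.finite_of_finite K
  have hn : Module.finrank k K ≠ 0 := (Module.finrank_pos).ne'
  let a1 : (K ≃ₐ[k] K) → (K ⊗[k] A)ˣ := fun _ => 1
  let e1 := LinearEquiv.ofBijective (piMap a) (piMap_bijective a ha)
  let e0 := LinearEquiv.ofBijective (piMap a1) (piMap_bijective a1 GpH1.isOneCocycle_one)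
  obtain ⟨θ⟩ := Lovasz.nonempty_linearEquiv_of_pi hn (e0.trans e1.symm)
  have h1mem : (1 : K ⊗[k] A) ∈ fixA a1 := fun σ => by
    rw [smul_one, Units.val_one, mul_one]
  obtain ⟨m, hm⟩ : ∃ m : K ⊗[k] A, m = (θ ⟨1, h1mem⟩ : K ⊗[k] A) := ⟨_, rfl⟩
  have hgen : ∀ y ∈ fixA a, ∃ b : K ⊗[k] A, y = b * m := by
    intro y hy
    obtain ⟨z, hz⟩ := θ.surjective ⟨y, hy⟩
    obtain ⟨a', ha'⟩ := exists_one_tmul_eq_of_fixed (z : K ⊗[k] A)
      (fun σ => by rw [z.2 σ, Units.val_one, mul_one])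
    refine ⟨1 ⊗ₜ a', ?_⟩
    have hz' : z = a' • (⟨1, h1mem⟩ : fixA a1) := by
      apply Subtype.ext
      rw [Submodule.coe_smul, modAB_smul, mul_one, ha']
    rw [hz', map_smul] at hz
    have h2 := congrArg Subtype.val hz
    rw [Submodule.coe_smul, modAB_smul, ← hm] at h2
    exact h2.symm
  have hspan : (1 : K ⊗[k] A) ∈ LinearMap.range (LinearMap.mulRight K m) := by
    have hρ := isSemilinearAction_tw a ha
    refine Submodule.span_le.2 ?_ (hρ.mem_span_fixed 1)
    intro y hy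
    obtain ⟨b, hb⟩ := hgen y (fun σ => (tw_eq_iff a σ y).1 (hy σ))
    exact ⟨b, hb.symm⟩
  obtain ⟨b, hb⟩ := hspan
  have hbm : b * m = 1 := hb
  have hsurj : Function.Surjective (fun x : K ⊗[k] A => x * m) := fun x =>
    ⟨x * b, by show x * b * m = x; rw [mul_assoc, hbm, mul_one]⟩
  have hinj := Finite.injective_iff_surjective.2 hsurj
  have hmb : m * b = 1 := by
    apply hinj
    show m * b * m = 1 * m
    rw [mul_assoc, hbm, mul_one, one_mul]
  refine ⟨⟨m, b, hmb, hbm⟩, fun σ => ?_⟩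
  show σ • m = m * _
  rw [hm]
  exact (θ ⟨1, h1mem⟩).2 σ

end FiniteCase

section Result

variable [FiniteDimensional k K] [IsGalois k K] [FiniteDimensional k A]

/-- Hilbert 90 for `(K ⊗ A)ˣ`. -/
theorem h1_trivial : GpH1.H1.IsTrivial (K ≃ₐ[k] K) (K ⊗[k] A)ˣ := by
  intro x
  obtain ⟨a, rfl⟩ := GpH1.OneCocycle.cl_surjective x
  have hc : ∃ c : (K ⊗[k] A)ˣ, ∀ σ : K ≃ₐ[k] K,
      σ • (c : K ⊗[k] A) = c * (a σ : K ⊗[k] A) := by
    rcases finite_or_infinite k with h | h
    · exact exists_unit_of_finite a a.2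
    · exact exists_unit_of_infinite a a.2
  obtain ⟨c, hc⟩ := hc
  show a.cl = (GpH1.OneCocycle.trivial).cl
  rw [GpH1.OneCocycle.cl_eq_cl_iff]
  refine ⟨c, fun σ => ?_⟩
  have h2 : σ • c = c * a σ := Units.ext (hc σ)
  show a σ = c⁻¹ * 1 * σ • c
  rw [h2, mul_one, inv_mul_cancel_left]

end Result

end Main

end Groth.Agent.R2.H39.H90
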