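import Mathlib

/-!
# Relative lengths of subquotients and the symmetry `ℓ(K_i / K_i ∩ t^m M) = ℓ(K_m / K_m ∩ t^i M)`

For an endomorphism `φ` of a module, `K i = ker φ^i`, `T j = range φ^j`, we show
`rl (T m) (K i) = ∑_{i' < i} ∑_{j < m} γ (i' + j)` with
`γ k = rl (T (k+1)) (K 1 ⊓ T k)`; this is symmetric in `(i, m)`.
-/

set_option autoImplicit false
set_option linter.style.haveILetI false

namespace Groth.Agent.R2.H39.Herbrand

open Submodule

variable {R : Type*} [CommRing R] {M : Type*} [AddCommGroup M] [Module R M]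
  {M' : Type*} [AddCommGroup M'] [Module R M']

/-- the length of `B / (A ∩ B)` -/
noncomputable def rl (A B : Submodule R M) : ℕ∞ :=
  Module.length R (↥B ⧸ A.submoduleOf B)

theorem mem_submoduleOf' {A B : Submodule R M} (x : B) : x ∈ A.submoduleOf B ↔ (x : M) ∈ A :=
  Iff.rfl

theorem rl_congr {A A' B : Submodule R M} (h : A ⊓ B = A' ⊓ B) : rl A B = rl A' B := by
  have hS : A.submoduleOf B = A'.submoduleOf B := by
    ext ⟨x, hx⟩
    rw [mem_submoduleOf', mem_submoduleOf']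
    have := SetLike.ext_iff.mp h x
    simp only [mem_inf, hx, and_true] at this
    exact this
  unfold rl
  rw [hS]

theorem rl_of_le {A B : Submodule R M} (h : B ≤ A) : rl A B = 0 := by
  unfold rl
  have : A.submoduleOf B = ⊤ := submoduleOf_eq_top.mpr h
  rw [this]
  exact Module.length_eq_zero

theorem rl_eq_of_surjective {A B : Submodule R M} {Q : Type*} [AddCommGroup Q] [Module R Q]
    (g : ↥B →ₗ[R] Q) (hg : Function.Surjective g) (hker : LinearMap.ker g = A.submoduleOf B) :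
    rl A B = Module.length R Q := by
  unfold rl
  rw [← hker]
  exact (g.quotKerEquivOfSurjective hg).length_eq

theorem rl_chain {A B C : Submodule R M} (hAB : A ≤ B) (hBC : B ≤ C) :
    rl A C = rl A B + rl B C := by
  unfold rl
  let f : (↥B ⧸ A.submoduleOf B) →ₗ[R] (↥C ⧸ A.submoduleOf C) :=
    Submodule.mapQ (A.submoduleOf B) (A.submoduleOf C) (Submodule.inclusion hBC)
      (fun x hx => hx)
  let g : (↥C ⧸ A.submoduleOf C) →ₗ[R] (↥C ⧸ B.submoduleOf C) :=
    Submodule.mapQ (A.submoduleOf C) (B.submoduleOf C) LinearMap.id (fun x hx => hAB hx)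
  refine Module.length_eq_add_of_exact f g ?_ ?_ ?_
  · rw [injective_iff_map_eq_zero]
    intro x hx
    obtain ⟨b, rfl⟩ := Submodule.mkQ_surjective _ x
    simp only [f, Submodule.mkQ_apply, Submodule.mapQ_apply, Submodule.Quotient.mk_eq_zero] at hx ⊢
    exact hx
  · intro y
    obtain ⟨c, rfl⟩ := Submodule.mkQ_surjective _ y
    exact ⟨Submodule.mkQ _ c, by simp [g]⟩
  · intro x
    obtain ⟨c, rfl⟩ := Submodule.mkQ_surjective _ x
    constructor
    · intro hx
      simp only [g, Submodule.mkQ_apply, Submodule.mapQ_apply, Submodule.Quotient.mk_eq_zero,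
        LinearMap.id_coe, id_eq] at hx
      refine ⟨Submodule.mkQ _ ⟨(c : M), hx⟩, ?_⟩
      simp only [f, Submodule.mkQ_apply, Submodule.mapQ_apply]
      rfl
    · rintro ⟨y, hy⟩
      obtain ⟨b, rfl⟩ := Submodule.mkQ_surjective _ y
      rw [← hy]
      simp only [f, g, Submodule.mkQ_apply, Submodule.mapQ_apply, Submodule.Quotient.mk_eq_zero,
        LinearMap.id_coe, id_eq]
      exact b.2

theorem rl_sup (A B : Submodule R M) : rl A (A ⊔ B) = rl A B := by
  symm
  let g : ↥B →ₗ[R] (↥(A ⊔ B) ⧸ A.submoduleOf (A ⊔ B)) :=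
    (Submodule.mkQ _).comp (Submodule.inclusion le_sup_right)
  refine rl_eq_of_surjective g ?_ ?_
  · intro y
    obtain ⟨⟨c, hc⟩, rfl⟩ := Submodule.mkQ_surjective _ y
    obtain ⟨a, ha, b, hb, rfl⟩ := Submodule.mem_sup.mp hc
    refine ⟨⟨b, hb⟩, ?_⟩
    simp only [g, LinearMap.comp_apply, Submodule.mkQ_apply]
    rw [Submodule.Quotient.eq, mem_submoduleOf']
    simp only [Submodule.coe_sub, Submodule.coe_inclusion]
    rw [sub_add_cancel_right]
    exact A.neg_mem ha
  · ext ⟨b, hb⟩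
    simp only [g, LinearMap.mem_ker, LinearMap.comp_apply, Submodule.mkQ_apply,
      Submodule.Quotient.mk_eq_zero]
    rfl

theorem rl_map (f : M →ₗ[R] M') {A B : Submodule R M} {A' B' : Submodule R M'}
    (hB : B.map f = B') (hA : A ⊓ B = A'.comap f ⊓ B) : rl A B = rl A' B' := by
  have hfB : ∀ x : B, f x ∈ B' := fun x => hB ▸ Submodule.mem_map_of_mem x.2
  let g : ↥B →ₗ[R] (↥B' ⧸ A'.submoduleOf B') :=
    (Submodule.mkQ _).comp ((f.comp B.subtype).codRestrict B' hfB)
  refine rl_eq_of_surjective g ?_ ?_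
  · intro y
    obtain ⟨⟨c, hc⟩, rfl⟩ := Submodule.mkQ_surjective _ y
    rw [← hB] at hc
    obtain ⟨b, hb, rfl⟩ := Submodule.mem_map.mp hc
    exact ⟨⟨b, hb⟩, rfl⟩
  · ext ⟨b, hb⟩
    simp only [g, LinearMap.mem_ker, LinearMap.comp_apply, Submodule.mkQ_apply,
      Submodule.Quotient.mk_eq_zero]
    rw [mem_submoduleOf', mem_submoduleOf']
    have := SetLike.ext_iff.mp hA b
    simp only [mem_inf, hb, and_true, mem_comap] at this
    exact this.symm

section Endo

variable (φ : M →ₗ[R] M)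

/-- `K i = ker φ^i` -/
abbrev K (i : ℕ) : Submodule R M := LinearMap.ker (φ ^ i)
/-- `T j = range φ^j` -/
abbrev T (j : ℕ) : Submodule R M := LinearMap.range (φ ^ j)

theorem K_mono {i j : ℕ} (h : i ≤ j) : K φ i ≤ K φ j := by
  intro x hx
  rw [LinearMap.mem_ker] at hx ⊢
  obtain ⟨d, rfl⟩ := Nat.exists_eq_add_of_le h
  rw [add_comm, pow_add, Module.End.mul_apply, hx, map_zero]

theorem T_anti {i j : ℕ} (h : i ≤ j) : T φ j ≤ T φ i := by
  rintro x ⟨y, rfl⟩
  obtain ⟨d, rfl⟩ := Nat.exists_eq_add_of_le h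
  exact ⟨(φ ^ d) y, by rw [pow_add, Module.End.mul_apply]⟩

/-- `γ k = ℓ((K_1 ∩ T_k) / (K_1 ∩ T_{k+1}))` -/
noncomputable def γ (k : ℕ) : ℕ∞ := rl (T φ (k + 1)) (K φ 1 ⊓ T φ k)

theorem beta_step (i m : ℕ) :
    rl (K φ i ⊔ (K φ (i + 1) ⊓ T φ m)) (K φ (i + 1)) = rl (T φ (i + m)) (K φ 1 ⊓ T φ i) := by
  refine rl_map (φ ^ i) ?_ ?_
  · ext x
    simp only [mem_map, mem_inf, LinearMap.mem_ker, LinearMap.mem_range, pow_one]
    constructor
    · rintro ⟨y, hy, rfl⟩
      refine ⟨?_, y, rfl⟩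
      rw [← Module.End.mul_apply, ← pow_succ']
      exact hy
    · rintro ⟨hx, y, rfl⟩
      refine ⟨y, ?_, rfl⟩
      rw [pow_succ', Module.End.mul_apply]
      exact hx
  · have hle : K φ i ⊔ (K φ (i + 1) ⊓ T φ m) ≤ K φ (i + 1) :=
      sup_le (K_mono φ (Nat.le_succ i)) inf_le_left
    rw [inf_eq_left.mpr hle]
    ext y
    simp only [mem_inf, mem_comap, LinearMap.mem_range, LinearMap.mem_ker]
    constructor
    · intro hy
      refine ⟨?_, hle hy⟩
      obtain ⟨a, ha, b, hb, rfl⟩ := Submodule.mem_sup.mp hy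
      obtain ⟨-, z, rfl⟩ := hb
      refine ⟨z, ?_⟩
      rw [map_add, LinearMap.mem_ker.mp ha, zero_add, pow_add, Module.End.mul_apply]
    · rintro ⟨⟨z, hz⟩, hy⟩
      rw [pow_add, Module.End.mul_apply] at hz
      have h1 : y - (φ ^ m) z ∈ K φ i := by
        rw [LinearMap.mem_ker, map_sub, hz, sub_self]
      have h2 : (φ ^ m) z ∈ K φ (i + 1) := by
        have : (φ ^ m) z = y - (y - (φ ^ m) z) := by abel
        rw [this]
        exact (K φ (i + 1)).sub_mem hy (K_mono φ (Nat.le_succ i) h1)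
      have : y = (y - (φ ^ m) z) + (φ ^ m) z := by abel
      rw [this]
      exact Submodule.add_mem_sup h1 ⟨h2, z, rfl⟩

theorem alpha_succ (i m : ℕ) :
    rl (T φ m) (K φ (i + 1)) = rl (T φ m) (K φ i) + rl (T φ (i + m)) (K φ 1 ⊓ T φ i) := by
  have hK : K φ i ≤ K φ (i + 1) := K_mono φ (Nat.le_succ i)
  have e1 : rl (T φ m) (K φ (i + 1)) = rl (K φ (i + 1) ⊓ T φ m) (K φ (i + 1)) :=
    rl_congr (by rw [inf_comm (K φ (i + 1)), inf_assoc, inf_idem])
  have hAB : K φ (i + 1) ⊓ T φ m ≤ K φ i ⊔ (K φ (i + 1) ⊓ T φ m) := le_sup_right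
  have hBC : K φ i ⊔ (K φ (i + 1) ⊓ T φ m) ≤ K φ (i + 1) := sup_le hK inf_le_left
  rw [e1, rl_chain hAB hBC, beta_step]
  congr 1
  rw [sup_comm, rl_sup]
  refine rl_congr ?_
  rw [inf_comm (K φ (i + 1)), inf_assoc, inf_eq_right.mpr hK]

theorem beta_eq (i m : ℕ) :
    rl (T φ (i + m)) (K φ 1 ⊓ T φ i) = ∑ j ∈ Finset.range m, γ φ (i + j) := by
  induction m with
  | zero =>
    rw [Finset.range_zero, Finset.sum_empty]
    exact rl_of_le inf_le_right
  | succ m ih =>
    rw [Finset.sum_range_succ, ← ih]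
    have hT1 : T φ (i + m + 1) ≤ T φ (i + m) := T_anti φ (Nat.le_succ _)
    have hT2 : T φ (i + m) ≤ T φ i := T_anti φ (Nat.le_add_right _ _)
    have hAB : K φ 1 ⊓ T φ (i + m + 1) ≤ K φ 1 ⊓ T φ (i + m) := inf_le_inf_left _ hT1
    have hBC : K φ 1 ⊓ T φ (i + m) ≤ K φ 1 ⊓ T φ i := inf_le_inf_left _ hT2
    have e1 : rl (T φ (i + (m + 1))) (K φ 1 ⊓ T φ i)
        = rl (K φ 1 ⊓ T φ (i + m + 1)) (K φ 1 ⊓ T φ i) := by
      refine rl_congr ?_
      rw [← add_assoc]
      apply le_antisymm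
      · exact le_inf (le_inf (inf_le_right.trans inf_le_left) inf_le_left) inf_le_right
      · exact le_inf (inf_le_left.trans inf_le_right) inf_le_right
    rw [e1, rl_chain hAB hBC, add_comm]
    congr 1
    · refine rl_congr ?_
      apply le_antisymm
      · exact le_inf (inf_le_left.trans inf_le_right) inf_le_right
      · exact le_inf (le_inf (inf_le_right.trans inf_le_left) inf_le_left) inf_le_right
    · unfold γ
      refine rl_congr ?_
      apply le_antisymm
      · exact le_inf (inf_le_left.trans inf_le_right) inf_le_right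
      · exact le_inf (le_inf (inf_le_right.trans inf_le_left) inf_le_left) inf_le_right

theorem alpha_eq (i m : ℕ) :
    rl (T φ m) (K φ i) = ∑ i' ∈ Finset.range i, ∑ j ∈ Finset.range m, γ φ (i' + j) := by
  induction i with
  | zero =>
    rw [Finset.range_zero, Finset.sum_empty]
    refine rl_of_le ?_
    intro x hx
    rw [LinearMap.mem_ker, pow_zero, Module.End.one_apply] at hx
    rw [hx]
    exact Submodule.zero_mem _
  | succ i ih =>
    rw [Finset.sum_range_succ, ← ih, alpha_succ, beta_eq]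

theorem alpha_symm (i m : ℕ) : rl (T φ m) (K φ i) = rl (T φ i) (K φ m) := by
  rw [alpha_eq, alpha_eq, Finset.sum_comm]
  refine Finset.sum_congr rfl (fun a _ => Finset.sum_congr rfl (fun b _ => ?_))
  rw [add_comm]

theorem gamma_le (n k : ℕ) (hk : k < n) : γ φ k ≤ rl (T φ n) (K φ 1) := by
  rw [alpha_eq, Finset.sum_range_one]
  simp only [zero_add]
  exact Finset.single_le_sum (f := fun j => γ φ j) (fun _ _ => zero_le) (Finset.mem_range.mpr hk)

theorem alpha_lt_top (n i m : ℕ) (h : i + m ≤ n + 1) (hfin : rl (T φ n) (K φ 1) < ⊤) :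
    rl (T φ m) (K φ i) < ⊤ := by
  rw [alpha_eq]
  refine WithTop.sum_lt_top.mpr (fun a ha => WithTop.sum_lt_top.mpr (fun b hb => ?_))
  rw [Finset.mem_range] at ha hb
  exact lt_of_le_of_lt (gamma_le φ n (a + b) (by omega)) hfin

end Endo

end Groth.Agent.R2.H39.Herbrand
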