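import Groth.Agent.Lib.Helper4Lambda
import Mathlib

/-!
# helper39: the natural (pre-)λ-structure on `K[T]/(p)` for a monic polynomial `p`

For a λ-ring `K` (frozen `LambdaRing.LambdaOps`) and a monic `p ∈ K[T]`, the ring
`AdjoinRoot p = ⊕_{s < deg p} K ℓ^s` carries the λ-structure
`λ_t(Σ_s a_s ℓ^s) = Π_s Σ_k ι(λ^k a_s) ℓ^{sk} t^k` (as if `ℓ` were a line element).
-/

set_option autoImplicit false
set_option linter.unusedSectionVars false
universe u
open Polynomial LambdaRing Finset
open Groth.Agent.Lib.Helper4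

namespace Groth.Agent.R2.H39.LamAdjoin

variable {K : Type u} [CommRing K] [LambdaOps K] (p : K[X])

/-- `Σ_k ι(λ^k a) ℓ^{sk} t^k`. -/
noncomputable def Lser (s : ℕ) (a : K) : PowerSeries (AdjoinRoot p) :=
  PowerSeries.rescale (AdjoinRoot.root p ^ s) (PowerSeries.map (AdjoinRoot.of p) (lamSeries a))

theorem coeff_Lser (s : ℕ) (a : K) (k : ℕ) :
    PowerSeries.coeff k (Lser p s a) =
      AdjoinRoot.of p (LambdaOps.lam k a) * AdjoinRoot.root p ^ (s * k) := by
  rw [Lser, PowerSeries.coeff_rescale, PowerSeries.coeff_map, coeff_lamSeries, ← pow_mul, mul_comm]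

theorem Lser_add (s : ℕ) (a b : K) : Lser p s (a + b) = Lser p s a * Lser p s b := by
  rw [Lser, lamSeries_add, map_mul, map_mul]; rfl

theorem Lser_zero (s : ℕ) : Lser p s 0 = 1 := by
  rw [Lser, lamSeries_zero, map_one, map_one]

theorem constantCoeff_Lser (s : ℕ) (a : K) : PowerSeries.constantCoeff (Lser p s a) = 1 := by
  rw [← PowerSeries.coeff_zero_eq_constantCoeff_apply, coeff_Lser, LambdaOps.lam_zero, map_one,
    mul_zero, pow_zero, mul_one]

theorem coeff_one_Lser (s : ℕ) (a : K) :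
    PowerSeries.coeff 1 (Lser p s a) = AdjoinRoot.of p a * AdjoinRoot.root p ^ s := by
  rw [coeff_Lser, LambdaOps.lam_one, mul_one]

variable [hp : Fact p.Monic]

/-- coordinates in the power basis -/
noncomputable def crd (x : AdjoinRoot p) (s : Fin (AdjoinRoot.powerBasis' hp.out).dim) : K :=
  (AdjoinRoot.powerBasis' hp.out).basis.repr x s

omit [LambdaOps K] in
theorem crd_add (x y : AdjoinRoot p) (s) : crd p (x + y) s = crd p x s + crd p y s := by
  simp [crd]

omit [LambdaOps K] in
theorem sum_crd (x : AdjoinRoot p) :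
    ∑ s, AdjoinRoot.of p (crd p x s) * AdjoinRoot.root p ^ (s : ℕ) = x := by
  conv_rhs => rw [← (AdjoinRoot.powerBasis' hp.out).basis.sum_repr x]
  refine sum_congr rfl fun s _ => ?_
  rw [PowerBasis.coe_basis, AdjoinRoot.powerBasis'_gen, Algebra.smul_def,
    AdjoinRoot.algebraMap_eq]
  rfl

omit [LambdaOps K] in
theorem crd_of_mul_pow (a : K) (s : ℕ) (hs : s < (AdjoinRoot.powerBasis' hp.out).dim)
    (s' : Fin (AdjoinRoot.powerBasis' hp.out).dim) :
    crd p (AdjoinRoot.of p a * AdjoinRoot.root p ^ s) s' = if s' = ⟨s, hs⟩ then a else 0 := by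
  have h : AdjoinRoot.of p a * AdjoinRoot.root p ^ s =
      a • (AdjoinRoot.powerBasis' hp.out).basis ⟨s, hs⟩ := by
    rw [PowerBasis.coe_basis, AdjoinRoot.powerBasis'_gen, Algebra.smul_def,
      AdjoinRoot.algebraMap_eq]
  rw [crd, h, map_smul, Module.Basis.repr_self, Finsupp.smul_single, smul_eq_mul, mul_one,
    Finsupp.single_apply]
  simp only [eq_comm]

/-- The series `λ_t` on `AdjoinRoot p`. -/
noncomputable def Lam (x : AdjoinRoot p) : PowerSeries (AdjoinRoot p) :=
  ∏ s : Fin (AdjoinRoot.powerBasis' hp.out).dim, Lser p (s : ℕ) (crd p x s)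

theorem Lam_add (x y : AdjoinRoot p) : Lam p (x + y) = Lam p x * Lam p y := by
  rw [Lam, Lam, Lam, ← prod_mul_distrib]
  refine prod_congr rfl fun s _ => ?_
  rw [crd_add, Lser_add]

theorem constantCoeff_Lam (x : AdjoinRoot p) : PowerSeries.constantCoeff (Lam p x) = 1 := by
  rw [Lam, map_prod]
  exact prod_eq_one fun s _ => constantCoeff_Lser p _ _

theorem coeff_one_prod {A : Type*} [CommRing A] {ι : Type*} (t : Finset ι)
    (F : ι → PowerSeries A) (hF : ∀ i ∈ t, PowerSeries.constantCoeff (F i) = 1) :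
    PowerSeries.coeff 1 (∏ i ∈ t, F i) = ∑ i ∈ t, PowerSeries.coeff 1 (F i) := by
  classical
  induction t using Finset.induction_on with
  | empty => simp
  | insert i t hi ih =>
    rw [prod_insert hi, sum_insert hi, PowerSeries.coeff_mul,
      Finset.Nat.antidiagonal_succ, ← ih (fun j hj => hF j (mem_insert_of_mem hj))]
    have h1 : PowerSeries.constantCoeff (F i) = 1 := hF i (mem_insert_self _ _)
    have h2 : PowerSeries.constantCoeff (∏ j ∈ t, F j) = 1 := by
      rw [map_prod]
      exact prod_eq_one fun j hj => hF j (mem_insert_of_mem hj)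
    simp [h1, h2, add_comm]

theorem coeff_one_Lam (x : AdjoinRoot p) : PowerSeries.coeff 1 (Lam p x) = x := by
  rw [Lam, coeff_one_prod _ _ (fun s _ => constantCoeff_Lser p _ _)]
  conv_rhs => rw [← sum_crd p x]
  exact sum_congr rfl fun s _ => coeff_one_Lser p _ _

/-- The λ-structure on `AdjoinRoot p` for monic `p`. -/
noncomputable instance instLam : LambdaOps (AdjoinRoot p) where
  lam k x := PowerSeries.coeff k (Lam p x)
  lam_zero x := by
    rw [PowerSeries.coeff_zero_eq_constantCoeff_apply, constantCoeff_Lam]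
  lam_one x := coeff_one_Lam p x
  lam_add k x y := by
    rw [Lam_add, PowerSeries.coeff_mul, Finset.Nat.sum_antidiagonal_eq_sum_range_succ_mk]

theorem lamSeries_eq (x : AdjoinRoot p) : lamSeries x = Lam p x := by
  ext k
  rw [coeff_lamSeries]
  rfl

theorem Lam_of_mul_pow (a : K) (s : ℕ) (hs : s < p.natDegree) :
    Lam p (AdjoinRoot.of p a * AdjoinRoot.root p ^ s) = Lser p s a := by
  classical
  have hs' : s < (AdjoinRoot.powerBasis' hp.out).dim := by
    rw [AdjoinRoot.powerBasis'_dim]; exact hs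
  rw [Lam, prod_eq_single (⟨s, hs'⟩ : Fin (AdjoinRoot.powerBasis' hp.out).dim)]
  · rw [crd_of_mul_pow p a s hs', if_pos rfl]
  · intro s' _ hne
    rw [crd_of_mul_pow p a s hs', if_neg hne, Lser_zero]
  · intro h; exact absurd (mem_univ _) h

theorem lam_of_mul_pow (a : K) (s : ℕ) (hs : s < p.natDegree) (k : ℕ) :
    LambdaOps.lam k (AdjoinRoot.of p a * AdjoinRoot.root p ^ s) =
      AdjoinRoot.of p (LambdaOps.lam k a) * AdjoinRoot.root p ^ (s * k) := by
  rw [← coeff_lamSeries, lamSeries_eq, Lam_of_mul_pow p a s hs, coeff_Lser]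

/-- **Key lemma**: a ring hom out of `AdjoinRoot p` is a λ-hom as soon as it is compatible with
`λ` on the monomials `ι(a) ℓ^s`, `s < deg p`. -/
theorem isLambdaHom_of_monomials {R' : Type u} [CommRing R'] [LambdaOps R']
    (φ : AdjoinRoot p →+* R')
    (h : ∀ s < p.natDegree, ∀ (a : K) (k : ℕ),
      LambdaOps.lam k (φ (AdjoinRoot.of p a * AdjoinRoot.root p ^ s)) =
        φ (AdjoinRoot.of p (LambdaOps.lam k a) * AdjoinRoot.root p ^ (s * k))) :
    IsLambdaHom φ := by
  intro k x
  have hx : lamSeries (φ x) = PowerSeries.map φ (Lam p x) := by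
    conv_lhs => rw [← sum_crd p x, map_sum, lamSeries_sum]
    rw [Lam, map_prod (PowerSeries.map φ)]
    refine prod_congr rfl fun s _ => ?_
    ext k
    have hs : (s : ℕ) < p.natDegree :=
      lt_of_lt_of_eq s.2 (AdjoinRoot.powerBasis'_dim hp.out)
    rw [coeff_lamSeries, h s hs, PowerSeries.coeff_map, coeff_Lser]
  rw [← coeff_lamSeries (K := R'), hx, PowerSeries.coeff_map]
  rfl

end Groth.Agent.R2.H39.LamAdjoin
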