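import Groth.Agent.R2.H39LamUnivB
import Groth.Agent.R2.H39ArrLam
import Groth.Agent.Lib.Helper4LambdaAdamsFil
import Mathlib

/-!
# helper39: `λ`-operations on monomials of the elementary extension `K_e = K[T]/(p_e)`

Via the splitting principle and the transfer from the universal situation (`H39LamUnivB`):
`λ^k(ι(a) ℓ^i) = ι(λ^k a) ℓ^{ik}` and `λ^N(ι(a) ℓ^i (ι e - ℓ)^j) = 0` for `N > ε(a) (m-1)^j`.
-/

set_option autoImplicit false
set_option linter.unusedSectionVars false
universe u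
open Polynomial LambdaRing Finset
open Groth.Agent.Lib.Helper4
open Groth.Agent.R2.H39.LamAdjoin Groth.Agent.R2.H39.LamUniv Groth.Agent.R2.H39.ArrLam

namespace Groth.Agent.R2.H39.LamElemExt

section MapInj

variable {R S : Type*} [CommRing R] [CommRing S] [Nontrivial R] [Nontrivial S]

theorem adjoinRoot_map_injective (f : R →+* S) (hf : Function.Injective f) (p : R[X]) (q : S[X])
    (hp : p.Monic) (hq : q.Monic) (h : q ∣ p.map f) (hdeg : q.natDegree = p.natDegree) :
    Function.Injective (AdjoinRoot.map f p q h) := by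
  rw [injective_iff_map_eq_zero]
  intro Y hY
  obtain ⟨g, rfl, hg⟩ := exists_rep_degree_lt p hp Y
  rw [map_mk, AdjoinRoot.mk_eq_zero] at hY
  have hdeg' : (g.map f).degree < q.degree := by
    refine lt_of_le_of_lt degree_map_le ?_
    rw [degree_eq_natDegree hq.ne_zero, hdeg, ← degree_eq_natDegree hp.ne_zero]
    exact hg
  have h0 : g.map f = 0 := by
    by_contra hne
    exact hq.not_dvd_of_degree_lt hne hdeg' hY
  have : g = 0 := Polynomial.map_injective _ hf (by rw [h0, Polynomial.map_zero])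
  rw [this, map_zero]

end MapInj

theorem nontrivial_of_pos {K : Type u} [CommRing K] [LambdaOps K] (P : PosStructure K) :
    Nontrivial K := P.aug.domain_nontrivial

section Ke

variable {K : Type u} [CommRing K] [LambdaOps K] (P : PosStructure K) (e : K)

theorem extPoly_monic : (KRR.extPoly P e).Monic := by
  rw [extPoly_eq_cpoly]; exact cpoly_monic _ _

instance factKe : Fact (KRR.extPoly P e).Monic := ⟨extPoly_monic P e⟩

theorem natDegree_extPoly : (KRR.extPoly P e).natDegree = (P.aug e).toNat := by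
  have := nontrivial_of_pos P
  rw [extPoly_eq_cpoly]; exact natDegree_cpoly _ _

/-- the splitting data for two positive elements -/
theorem exists_split_two (hK : HasSplitting K P) (he : e ∈ P.pos) (a : K) (ha : a ∈ P.pos) :
    ∃ (L : PosLambdaRing.{u}) (f : K →+* L.carrier), IsExtension P L.posStr f ∧
      ∃ (ue : Fin (P.aug e).toNat → L.carrier) (n : ℕ) (ua : Fin n → L.carrier),
        (∀ k, L.posStr.IsLine (ue k)) ∧ (∀ r, L.posStr.IsLine (ua r)) ∧
        ∑ k, ue k = f e ∧ ∑ r, ua r = f a ∧ (n : ℤ) = P.aug a := by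
  obtain ⟨L₁, f₁, hf₁, hL₁, s₁, hs₁, hsum₁⟩ := exists_extension_multiset hK e he
  obtain ⟨L₂, f₂, hf₂, -, s₂, hs₂, hsum₂⟩ :=
    exists_extension_multiset hL₁ (f₁ a) (hf₁.pos_subset a ha)
  have hf := isExtension_comp hf₁ hf₂
  have hs₁' : ∀ u ∈ s₁.map f₂, L₂.posStr.IsLine u := by
    intro u hu
    obtain ⟨v, hv, rfl⟩ := Multiset.mem_map.1 hu
    exact isExtension_isLine hf₂ (hs₁ v hv)
  obtain ⟨m', ue, hue, huesum, hm'⟩ := exists_fin_of_multiset L₂.posStr _ hs₁'
  obtain ⟨n, ua, hua, huasum, hn⟩ := exists_fin_of_multiset L₂.posStr _ hs₂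
  have hsum₁' : (s₁.map f₂).sum = (f₂.comp f₁) e := by
    rw [RingHom.comp_apply, ← hsum₁, map_multiset_sum]
  have hm : (P.aug e).toNat = m' := by
    rw [hm', ← hf.aug_comp, ← hsum₁', aug_multiset_sum_lines _ _ hs₁', Int.toNat_natCast]
  subst hm
  refine ⟨L₂, f₂.comp f₁, hf, ue, n, ua, hue, hua, ?_, ?_, ?_⟩
  · rw [huesum, hsum₁']
  · rw [huasum, hsum₂]; rfl
  · rw [hn, ← hf.aug_comp, RingHom.comp_apply, ← hsum₂, aug_multiset_sum_lines _ _ hs₂]

variable {P e}

theorem map_extPoly_eq_pL {L : Type u} [CommRing L] [LambdaOps L] {PL : PosStructure L}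
    {f : K →+* L} (hf : IsExtension P PL f) (ue : Fin (P.aug e).toNat → L)
    (hue : ∀ k, PL.IsLine (ue k)) (hsum : ∑ k, ue k = f e) :
    (KRR.extPoly P e).map f = pL ue := by
  rw [extPoly_eq_cpoly, map_cpoly f hf.isLambdaHom, ← hsum, cpoly_sum_lines PL ue hue, pL]

/-- `K_e → L_e` -/
noncomputable def jK {L : Type u} [CommRing L] [LambdaOps L] {PL : PosStructure L}
    {f : K →+* L} (hf : IsExtension P PL f) (ue : Fin (P.aug e).toNat → L)
    (hue : ∀ k, PL.IsLine (ue k)) (hsum : ∑ k, ue k = f e) :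
    AdjoinRoot (KRR.extPoly P e) →+* AdjoinRoot (pL ue) :=
  AdjoinRoot.map f (KRR.extPoly P e) (pL ue) (by rw [map_extPoly_eq_pL hf ue hue hsum])

section jK

variable {L : Type u} [CommRing L] [LambdaOps L] {PL : PosStructure L}
    {f : K →+* L} (hf : IsExtension P PL f) (ue : Fin (P.aug e).toNat → L)
    (hue : ∀ k, PL.IsLine (ue k)) (hsum : ∑ k, ue k = f e)

theorem jK_of (a : K) : jK hf ue hue hsum (AdjoinRoot.of _ a) = AdjoinRoot.of _ (f a) :=
  AdjoinRoot.map_of _ _ _ _ _

theorem jK_root : jK hf ue hue hsum (AdjoinRoot.root _) = AdjoinRoot.root _ :=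
  AdjoinRoot.map_root _ _ _ _

theorem jK_injective : Function.Injective (jK hf ue hue hsum) := by
  have := nontrivial_of_pos P
  have := nontrivial_of_pos PL
  exact adjoinRoot_map_injective f hf.injective _ _ (extPoly_monic P e) (factL ue).out _
    (by rw [natDegree_pL, natDegree_extPoly])

theorem jK_isLambdaHom : IsLambdaHom (jK hf ue hue hsum) := by
  have := nontrivial_of_pos PL
  apply isLambdaHom_of_monomials
  intro s hs a k
  rw [natDegree_extPoly] at hs
  rw [map_mul, map_pow, jK_of, jK_root, map_mul, map_pow, jK_of, jK_root,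
    lam_of_mul_pow (pL ue) _ s (by rw [natDegree_pL]; exact hs), hf.isLambdaHom]

end jK

variable (hK : HasSplitting K P) (he : e ∈ P.pos)

include hK he in
/-- `λ^k(ι(a) ℓ^i) = ι(λ^k a) ℓ^{ik}` in `K_e`, for positive `a`. -/
theorem lam_of_mul_root_pow_Ke (a : K) (ha : a ∈ P.pos) (i k : ℕ) :
    LambdaOps.lam k (AdjoinRoot.of (KRR.extPoly P e) a * AdjoinRoot.root (KRR.extPoly P e) ^ i) =
      AdjoinRoot.of (KRR.extPoly P e) (LambdaOps.lam k a) *
        AdjoinRoot.root (KRR.extPoly P e) ^ (i * k) := by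
  obtain ⟨L, f, hf, ue, n, ua, hue, hua, hsume, hsuma, -⟩ := exists_split_two P e hK he a ha
  apply jK_injective hf ue hue hsume
  rw [jK_isLambdaHom hf ue hue hsume, map_mul, map_pow, jK_of, jK_root, map_mul, map_pow, jK_of,
    jK_root, ← hsuma, ← ev_AU ue ua, lam_of_mul_root_pow ue ua L.posStr hue hua, ev_AU, hsuma,
    hf.isLambdaHom]

include hK he in
/-- `λ^N(ι(a) ℓ^i (ι e - ℓ)^j) = 0` for `N > ε(a) (m - 1)^j`. -/
theorem lam_monomial_eq_zero_Ke (a : K) (ha : a ∈ P.pos) (i j N : ℕ)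
    (hN : (P.aug a).toNat * ((P.aug e).toNat - 1) ^ j < N) :
    LambdaOps.lam N (AdjoinRoot.of (KRR.extPoly P e) a * AdjoinRoot.root (KRR.extPoly P e) ^ i *
      (AdjoinRoot.of (KRR.extPoly P e) e - AdjoinRoot.root (KRR.extPoly P e)) ^ j) = 0 := by
  obtain ⟨L, f, hf, ue, n, ua, hue, hua, hsume, hsuma, hn⟩ := exists_split_two P e hK he a ha
  apply jK_injective hf ue hue hsume
  have hn' : (P.aug a).toNat = n := by rw [← hn, Int.toNat_natCast]
  rw [jK_isLambdaHom hf ue hue hsume, map_zero]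
  simp only [map_mul, map_pow, map_sub, jK_of, jK_root]
  rw [← hsuma, ← hsume]
  exact lam_monomial_eq_zero ue ua L.posStr hue hua i j N (by rw [← hn']; exact hN)

end Ke

end Groth.Agent.R2.H39.LamElemExt
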