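import Groth.Agent.R2.H39LamElemExtA
import Mathlib

/-!
# helper39: the positive structure of the elementary extension `K_e = K[T]/(p_e)`
-/

set_option autoImplicit false
set_option linter.unusedSectionVars false
universe u
open Polynomial LambdaRing Finset
open Groth.Agent.Lib.Helper4
open Groth.Agent.R2.H39.LamAdjoin Groth.Agent.R2.H39.LamUniv Groth.Agent.R2.H39.ArrLam

namespace Groth.Agent.R2.H39.LamElemExt

section Top

variable {A : Type*} [CommRing A]

/-- degrees and top coefficients of a product of two "polynomial" power series -/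
theorem coeff_mul_of_bounds {F G : PowerSeries A} {a b : ℕ}
    (hF : ∀ N, a < N → PowerSeries.coeff N F = 0) (hG : ∀ N, b < N → PowerSeries.coeff N G = 0) :
    (∀ N, a + b < N → PowerSeries.coeff N (F * G) = 0) ∧
      PowerSeries.coeff (a + b) (F * G) = PowerSeries.coeff a F * PowerSeries.coeff b G := by
  constructor
  · intro N hN
    rw [PowerSeries.coeff_mul]
    refine sum_eq_zero fun q hq => ?_
    rw [Finset.HasAntidiagonal.mem_antidiagonal] at hq
    by_cases h1 : a < q.1
    · rw [hF _ h1, zero_mul]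
    · rw [hG q.2 (by omega), mul_zero]
  · rw [PowerSeries.coeff_mul, sum_eq_single (a, b)]
    · intro q hq hne
      rw [Finset.HasAntidiagonal.mem_antidiagonal] at hq
      by_cases h1 : a < q.1
      · rw [hF _ h1, zero_mul]
      · by_cases h2 : b < q.2
        · rw [hG _ h2, mul_zero]
        · exfalso
          apply hne
          ext <;> simp <;> omega
    · intro h
      exact absurd (Finset.HasAntidiagonal.mem_antidiagonal.2 (rfl : (a, b).1 + (a, b).2 = a + b)) h

end Top

section KeSec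

variable {K : Type u} [CommRing K] [LambdaOps K] (P : PosStructure K) (e : K)

local notation "Ke" => AdjoinRoot (KRR.extPoly P e)

theorem one_mem_pos : (1 : K) ∈ P.pos := by
  have := P.natCast_mem 1 one_pos
  rwa [Nat.cast_one] at this

theorem eval₂_aug_extPoly (hK : HasSplitting K P) (he : e ∈ P.pos) :
    eval₂ P.aug 1 (KRR.extPoly P e) = 0 := by
  have hm : (P.aug e).toNat ≠ 0 := by
    have := P.aug_pos e he
    omega
  rw [KRR.extPoly, eval₂_finsetSum, ← Int.alternating_sum_range_choose_of_ne hm]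
  refine sum_congr rfl fun i _ => ?_
  rw [eval₂_mul, eval₂_C, eval₂_pow, eval₂_X, one_pow, mul_one, map_mul, map_pow, map_neg, map_one,
    aug_lam_eq_choose hK e he]

/-- the augmentation of `K_e` -/
noncomputable def augE (hK : HasSplitting K P) (he : e ∈ P.pos) : Ke →+* ℤ :=
  AdjoinRoot.lift P.aug 1 (eval₂_aug_extPoly P e hK he)

theorem toNat_pos (he : e ∈ P.pos) : 0 < (P.aug e).toNat := by
  have := P.aug_pos e he
  omega

variable (hK : HasSplitting K P) (he : e ∈ P.pos)

theorem augE_of (x : K) : augE P e hK he (AdjoinRoot.of _ x) = P.aug x := AdjoinRoot.lift_of _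

theorem augE_root : augE P e hK he (AdjoinRoot.root _) = 1 := AdjoinRoot.lift_root _

/-- the multiplicative set of monomials `ι(a) ℓ^i (ι e - ℓ)^j` -/
noncomputable def Mono : Submonoid Ke where
  carrier := {y | ∃ a ∈ P.pos, ∃ i j : ℕ,
    y = AdjoinRoot.of _ a * AdjoinRoot.root _ ^ i * (AdjoinRoot.of _ e - AdjoinRoot.root _) ^ j}
  one_mem' := ⟨1, one_mem_pos P, 0, 0, by simp⟩
  mul_mem' := by
    rintro _ _ ⟨a, ha, i, j, rfl⟩ ⟨a', ha', i', j', rfl⟩
    exact ⟨a * a', P.mul_mem _ _ ha ha', i + i', j + j', by rw [map_mul, pow_add, pow_add]; ring⟩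

theorem mem_Mono (a : K) (ha : a ∈ P.pos) (i j : ℕ) :
    AdjoinRoot.of _ a * AdjoinRoot.root _ ^ i * (AdjoinRoot.of _ e - AdjoinRoot.root _) ^ j ∈
      Mono P e := ⟨a, ha, i, j, rfl⟩

/-- the semiring of sums of monomials -/
noncomputable def SS : AddSubmonoid Ke := AddSubmonoid.closure (Mono P e : Set Ke)

theorem mono_mem_SS (a : K) (ha : a ∈ P.pos) (i j : ℕ) :
    AdjoinRoot.of _ a * AdjoinRoot.root _ ^ i * (AdjoinRoot.of _ e - AdjoinRoot.root _) ^ j ∈
      SS P e := AddSubmonoid.subset_closure (mem_Mono P e a ha i j)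

theorem mul_mem_SS {x y : Ke} (hx : x ∈ SS P e) (hy : y ∈ SS P e) : x * y ∈ SS P e :=
  MulMemClass.mul_mem_add_closure hx hy

/-- vanishing of `λ^N` above the augmentation -/
def Van (y : Ke) : Prop :=
  0 ≤ augE P e hK he y ∧ ∀ N, (augE P e hK he y).toNat < N → LambdaOps.lam N y = 0

theorem van_zero : Van P e hK he 0 := by
  refine ⟨by rw [map_zero], fun N hN => ?_⟩
  rw [← coeff_lamSeries, lamSeries_zero, PowerSeries.coeff_one, if_neg (by omega)]

theorem van_add {x y : Ke} (hx : Van P e hK he x) (hy : Van P e hK he y) :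
    Van P e hK he (x + y) := by
  refine ⟨by rw [map_add]; exact add_nonneg hx.1 hy.1, fun N hN => ?_⟩
  have h := (coeff_mul_of_bounds (F := lamSeries x) (G := lamSeries y)
    (fun N hN => by rw [coeff_lamSeries]; exact hx.2 N hN)
    (fun N hN => by rw [coeff_lamSeries]; exact hy.2 N hN)).1 N (by
      rw [map_add, Int.toNat_add hx.1 hy.1] at hN; exact hN)
  rwa [← lamSeries_add, coeff_lamSeries] at h

theorem augE_mono (a : K) (i j : ℕ) :
    augE P e hK he (AdjoinRoot.of _ a * AdjoinRoot.root _ ^ i *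
      (AdjoinRoot.of _ e - AdjoinRoot.root _) ^ j) = P.aug a * (P.aug e - 1) ^ j := by
  rw [map_mul, map_mul, map_pow, map_pow, map_sub, augE_of, augE_root, augE_of, one_pow, mul_one]

theorem van_mono (a : K) (ha : a ∈ P.pos) (i j : ℕ) :
    Van P e hK he (AdjoinRoot.of _ a * AdjoinRoot.root _ ^ i *
      (AdjoinRoot.of _ e - AdjoinRoot.root _) ^ j) := by
  have h1 := P.aug_pos a ha
  have h2 := P.aug_pos e he
  have h3 : (0 : ℤ) ≤ (P.aug e - 1) ^ j := pow_nonneg (by omega) j
  rw [Van, augE_mono]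
  refine ⟨mul_nonneg h1.le h3, fun N hN => ?_⟩
  apply lam_monomial_eq_zero_Ke hK he a ha i j N
  have e1 : ((P.aug a).toNat * ((P.aug e).toNat - 1) ^ j : ℕ) =
      (P.aug a * (P.aug e - 1) ^ j).toNat := by
    apply Int.ofNat_inj.1
    rw [Int.toNat_of_nonneg (mul_nonneg h1.le h3)]
    push_cast
    rw [Int.toNat_of_nonneg h1.le, Nat.cast_sub (toNat_pos P e he), Int.toNat_of_nonneg h2.le]
    simp
  rw [e1]
  exact hN

theorem van_of_mem_SS {y : Ke} (hy : y ∈ SS P e) : Van P e hK he y := by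
  induction hy using AddSubmonoid.closure_induction with
  | mem y hy =>
    obtain ⟨a, ha, i, j, rfl⟩ := hy
    exact van_mono P e hK he a ha i j
  | zero => exact van_zero P e hK he
  | add x y _ _ hx hy => exact van_add P e hK he hx hy

include he in
theorem pow_mem_pos (c : ℕ) (a : K) (ha : a ∈ P.pos) : a * e ^ c ∈ P.pos := by
  induction c with
  | zero => rwa [pow_zero, mul_one]
  | succ c ih => rw [pow_succ, ← mul_assoc]; exact P.mul_mem _ _ ih he

include he in
theorem isUnit_root : IsUnit (AdjoinRoot.root (KRR.extPoly P e)) := by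
  have h : eval₂ (AdjoinRoot.of (KRR.extPoly P e)) (AdjoinRoot.root (KRR.extPoly P e))
      (∑ i ∈ Finset.range ((P.aug e).toNat + 1),
        C ((-1 : K) ^ i * LambdaOps.lam i e) * X ^ ((P.aug e).toNat - i)) = 0 :=
    AdjoinRoot.eval₂_root (KRR.extPoly P e)
  rw [eval₂_finsetSum, Finset.sum_range_succ] at h
  have h1 : ∀ i ∈ range (P.aug e).toNat,
      eval₂ (AdjoinRoot.of (KRR.extPoly P e)) (AdjoinRoot.root (KRR.extPoly P e))
        (C ((-1 : K) ^ i * LambdaOps.lam i e) * X ^ ((P.aug e).toNat - i)) =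
      AdjoinRoot.root (KRR.extPoly P e) *
        (AdjoinRoot.of (KRR.extPoly P e) ((-1 : K) ^ i * LambdaOps.lam i e) *
          AdjoinRoot.root (KRR.extPoly P e) ^ ((P.aug e).toNat - i - 1)) := by
    intro i hi
    rw [mem_range] at hi
    rw [eval₂_mul, eval₂_C, eval₂_pow, eval₂_X,
      show (P.aug e).toNat - i = ((P.aug e).toNat - i - 1) + 1 by omega, pow_succ]
    simp only [Nat.add_sub_cancel]
    ring
  rw [sum_congr rfl h1, ← mul_sum, eval₂_mul, eval₂_C, Nat.sub_self, pow_zero, eval₂_one,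
    mul_one] at h
  have h2 : AdjoinRoot.root (KRR.extPoly P e) *
      ∑ i ∈ range (P.aug e).toNat,
        (AdjoinRoot.of (KRR.extPoly P e) ((-1 : K) ^ i * LambdaOps.lam i e) *
          AdjoinRoot.root (KRR.extPoly P e) ^ ((P.aug e).toNat - i - 1)) =
      -AdjoinRoot.of (KRR.extPoly P e)
        ((-1 : K) ^ (P.aug e).toNat * LambdaOps.lam (P.aug e).toNat e) :=
    eq_neg_of_add_eq_zero_left h
  have h3 : IsUnit (-AdjoinRoot.of (KRR.extPoly P e)
      ((-1 : K) ^ (P.aug e).toNat * LambdaOps.lam (P.aug e).toNat e)) := by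
    apply IsUnit.neg
    apply IsUnit.map
    exact ((isUnit_one.neg).pow _).mul (P.isUnit_lam e he)
  rw [← h2] at h3
  exact isUnit_of_mul_isUnit_left h3

include hK he in
theorem isUnit_top_pure (b : K) (hb : b ∈ P.pos) (i : ℕ) :
    IsUnit (LambdaOps.lam (P.aug b).toNat
      (AdjoinRoot.of (KRR.extPoly P e) b * AdjoinRoot.root (KRR.extPoly P e) ^ i)) := by
  rw [lam_of_mul_root_pow_Ke hK he b hb]
  exact ((P.isUnit_lam b hb).map _).mul ((isUnit_root P e he).pow _)

/-- multiplicativity of top coefficients -/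
theorem top_add {x y : Ke} (hx : Van P e hK he x) (hy : Van P e hK he y) :
    LambdaOps.lam (augE P e hK he (x + y)).toNat (x + y) =
      LambdaOps.lam (augE P e hK he x).toNat x * LambdaOps.lam (augE P e hK he y).toNat y := by
  have h := (coeff_mul_of_bounds (F := lamSeries x) (G := lamSeries y)
    (fun N hN => by rw [coeff_lamSeries]; exact hx.2 N hN)
    (fun N hN => by rw [coeff_lamSeries]; exact hy.2 N hN)).2
  rw [← lamSeries_add, coeff_lamSeries, coeff_lamSeries, coeff_lamSeries] at h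
  rw [map_add, Int.toNat_add hx.1 hy.1]
  exact h

theorem isUnit_top_mono (a : K) (ha : a ∈ P.pos) (i j : ℕ) :
    IsUnit (LambdaOps.lam (augE P e hK he (AdjoinRoot.of _ a * AdjoinRoot.root _ ^ i *
      (AdjoinRoot.of _ e - AdjoinRoot.root _) ^ j)).toNat
      (AdjoinRoot.of (KRR.extPoly P e) a * AdjoinRoot.root (KRR.extPoly P e) ^ i *
        (AdjoinRoot.of (KRR.extPoly P e) e - AdjoinRoot.root (KRR.extPoly P e)) ^ j)) := by
  set μ : Ke := AdjoinRoot.of (KRR.extPoly P e) a * AdjoinRoot.root (KRR.extPoly P e) ^ i *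
        (AdjoinRoot.of (KRR.extPoly P e) e - AdjoinRoot.root (KRR.extPoly P e)) ^ j with hμ
  set μ' : Ke := ∑ c ∈ range j, AdjoinRoot.of (KRR.extPoly P e) (a * e ^ c) *
      AdjoinRoot.root (KRR.extPoly P e) ^ (i + 1) *
        (AdjoinRoot.of (KRR.extPoly P e) e - AdjoinRoot.root (KRR.extPoly P e)) ^ (j - 1 - c)
    with hμ'
  have hμ'S : μ' ∈ SS P e :=
    AddSubmonoid.sum_mem _ fun c _ => mono_mem_SS P e _ (pow_mem_pos P e he c a ha) _ _
  have hsum : μ + μ' = AdjoinRoot.of (KRR.extPoly P e) (a * e ^ j) *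
      AdjoinRoot.root (KRR.extPoly P e) ^ i := by
    have hg := geom_sum₂_mul (AdjoinRoot.of (KRR.extPoly P e) e)
      (AdjoinRoot.of (KRR.extPoly P e) e - AdjoinRoot.root (KRR.extPoly P e)) j
    rw [sub_sub_cancel] at hg
    have e1 : μ' = AdjoinRoot.of (KRR.extPoly P e) a * AdjoinRoot.root (KRR.extPoly P e) ^ i *
        ((∑ c ∈ range j, AdjoinRoot.of (KRR.extPoly P e) e ^ c *
          (AdjoinRoot.of (KRR.extPoly P e) e - AdjoinRoot.root (KRR.extPoly P e)) ^ (j - 1 - c)) *
          AdjoinRoot.root (KRR.extPoly P e)) := by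
      rw [hμ', sum_mul, mul_sum]
      refine sum_congr rfl fun c _ => ?_
      rw [map_mul, map_pow, pow_succ]
      ring
    rw [e1, hg, hμ, map_mul, map_pow]
    ring
  have hVμ : Van P e hK he μ := van_mono P e hK he a ha i j
  have hVμ' : Van P e hK he μ' := van_of_mem_SS P e hK he hμ'S
  have htop := top_add P e hK he hVμ hVμ'
  have hz : IsUnit (LambdaOps.lam (augE P e hK he (μ + μ')).toNat (μ + μ')) := by
    rw [hsum, map_mul, map_pow, augE_of, augE_root, one_pow, mul_one]
    exact isUnit_top_pure P e hK he _ (pow_mem_pos P e he j a ha) i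
  rw [htop] at hz
  exact isUnit_of_mul_isUnit_left hz

/-- vanishing above the augmentation and invertibility of the top `λ` -/
def Good (y : Ke) : Prop :=
  Van P e hK he y ∧ IsUnit (LambdaOps.lam (augE P e hK he y).toNat y)

theorem good_of_mem_SS {y : Ke} (hy : y ∈ SS P e) : Good P e hK he y := by
  induction hy using AddSubmonoid.closure_induction with
  | mem y hy =>
    obtain ⟨a, ha, i, j, rfl⟩ := hy
    exact ⟨van_mono P e hK he a ha i j, isUnit_top_mono P e hK he a ha i j⟩
  | zero =>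
    refine ⟨van_zero P e hK he, ?_⟩
    rw [map_zero, Int.toNat_zero, LambdaOps.lam_zero]
    exact isUnit_one
  | add x y _ _ hx hy =>
    refine ⟨van_add P e hK he hx.1 hy.1, ?_⟩
    rw [top_add P e hK he hx.1 hy.1]
    exact hx.2.mul hy.2

theorem pure_mem_SS (a : K) (ha : a ∈ P.pos) (i : ℕ) :
    AdjoinRoot.of (KRR.extPoly P e) a * AdjoinRoot.root (KRR.extPoly P e) ^ i ∈ SS P e := by
  have := mono_mem_SS P e a ha i 0
  rwa [pow_zero, mul_one] at this

theorem of_mem_SS (a : K) (ha : a ∈ P.pos) : AdjoinRoot.of (KRR.extPoly P e) a ∈ SS P e := by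
  have := pure_mem_SS P e a ha 0
  rwa [pow_zero, mul_one] at this

include he in
theorem of_injective : Function.Injective (AdjoinRoot.of (KRR.extPoly P e)) := by
  have := nontrivial_of_pos P
  rw [injective_iff_map_eq_zero]
  intro x hx
  rw [← AdjoinRoot.mk_C, AdjoinRoot.mk_eq_zero] at hx
  by_contra hne
  have hC : (C x : K[X]) ≠ 0 := by rwa [Ne, C_eq_zero]
  refine (extPoly_monic P e).not_dvd_of_degree_lt hC ?_ hx
  rw [degree_C hne, degree_eq_natDegree (extPoly_monic P e).ne_zero, natDegree_extPoly]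
  exact_mod_cast toNat_pos P e he

/-- the positive structure of `K_e` -/
noncomputable def PeStruct : PosStructure Ke where
  aug := augE P e hK he
  aug_surjective := fun z => ⟨(z : Ke), map_intCast _ z⟩
  pos := {y | y ∈ SS P e ∧ 0 < augE P e hK he y}
  add_mem := fun x y hx hy =>
    ⟨(SS P e).add_mem hx.1 hy.1, by rw [map_add]; exact add_pos hx.2 hy.2⟩
  mul_mem := fun x y hx hy =>
    ⟨mul_mem_SS P e hx.1 hy.1, by rw [map_mul]; exact mul_pos hx.2 hy.2⟩
  natCast_mem := fun n hn => by
    refine ⟨?_, by rw [map_natCast]; exact_mod_cast hn⟩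
    have := of_mem_SS P e (n : K) (P.natCast_mem n hn)
    rwa [map_natCast] at this
  exists_sub := by
    intro x
    choose e₁ f₁ he₁ hf₁ hx using P.exists_sub
    have hne : (Finset.univ : Finset (Fin (AdjoinRoot.powerBasis' (factKe P e).out).dim)).Nonempty := by
      rw [Finset.univ_nonempty_iff, ← Fin.pos_iff_nonempty, AdjoinRoot.powerBasis'_dim,
        natDegree_extPoly]
      exact toNat_pos P e he
    refine ⟨∑ s, AdjoinRoot.of _ (e₁ (crd (KRR.extPoly P e) x s)) * AdjoinRoot.root _ ^ (s : ℕ),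
      ∑ s, AdjoinRoot.of _ (f₁ (crd (KRR.extPoly P e) x s)) * AdjoinRoot.root _ ^ (s : ℕ),
      ⟨AddSubmonoid.sum_mem _ fun s _ => pure_mem_SS P e _ (he₁ _) _, ?_⟩,
      ⟨AddSubmonoid.sum_mem _ fun s _ => pure_mem_SS P e _ (hf₁ _) _, ?_⟩, ?_⟩
    · rw [map_sum]
      refine Finset.sum_pos (fun s _ => ?_) hne
      rw [map_mul, map_pow, augE_of, augE_root, one_pow, mul_one]
      exact P.aug_pos _ (he₁ _)
    · rw [map_sum]
      refine Finset.sum_pos (fun s _ => ?_) hne
      rw [map_mul, map_pow, augE_of, augE_root, one_pow, mul_one]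
      exact P.aug_pos _ (hf₁ _)
    · rw [← sum_sub_distrib]
      conv_lhs => rw [← sum_crd (KRR.extPoly P e) x]
      refine sum_congr rfl fun s _ => ?_
      rw [← sub_mul, ← map_sub, ← hx]
  aug_pos := fun y hy => hy.2
  lam_eq_zero := fun y hy i hi =>
    (good_of_mem_SS P e hK he hy.1).1.2 i (by
      have := hy.2
      omega)
  isUnit_lam := fun y hy => (good_of_mem_SS P e hK he hy.1).2

include hK he in
/-- **Existence of the elementary extension** `K_e = K[T]/(p_e)` as a λ-ring with positive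
structure. -/
theorem exists_lambdaOps_elementaryExtension :
    ∃ (inst : LambdaOps (AdjoinRoot (KRR.extPoly P e)))
      (Pe : @PosStructure _ _ inst),
      (∀ (i : ℕ) (x : K), @LambdaOps.lam _ _ inst i (AdjoinRoot.of (KRR.extPoly P e) x) =
        AdjoinRoot.of (KRR.extPoly P e) (LambdaOps.lam i x)) ∧
      (∀ i : ℕ, 2 ≤ i → @LambdaOps.lam _ _ inst i (AdjoinRoot.root (KRR.extPoly P e)) = 0) ∧
      @IsExtension K _ _ _ _ inst P Pe (AdjoinRoot.of (KRR.extPoly P e)) ∧
      @PosStructure.IsLine _ _ inst Pe (AdjoinRoot.root (KRR.extPoly P e)) ∧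
      (2 ≤ P.aug e → AdjoinRoot.of (KRR.extPoly P e) e - AdjoinRoot.root (KRR.extPoly P e) ∈
        (@PosStructure.pos _ _ inst Pe)) := by
  have hdeg : 0 < (KRR.extPoly P e).natDegree := by
    rw [natDegree_extPoly]; exact toNat_pos P e he
  have h1 : ∀ (i : ℕ) (x : K), LambdaOps.lam i (AdjoinRoot.of (KRR.extPoly P e) x) =
      AdjoinRoot.of (KRR.extPoly P e) (LambdaOps.lam i x) := by
    intro i x
    have := lam_of_mul_pow (KRR.extPoly P e) x 0 hdeg i
    rwa [pow_zero, mul_one, zero_mul, pow_zero, mul_one] at this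
  have hroot_mem : AdjoinRoot.root (KRR.extPoly P e) ∈ SS P e := by
    have := pure_mem_SS P e 1 (one_mem_pos P) 1
    rwa [map_one, one_mul, pow_one] at this
  refine ⟨instLam (KRR.extPoly P e), PeStruct P e hK he, h1, ?_, ?_, ?_, ?_⟩
  · intro i hi
    have := lam_of_mul_root_pow_Ke hK he 1 (one_mem_pos P) 1 i
    rwa [map_one, one_mul, pow_one, lam_one_eq_zero P i hi, map_zero, zero_mul] at this
  · exact
      { isLambdaHom := fun i x => (h1 i x).symm
        injective := of_injective P e he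
        aug_comp := fun x => augE_of P e hK he x
        pos_subset := fun a ha => ⟨of_mem_SS P e a ha, by
          show 0 < augE P e hK he _
          rw [augE_of]; exact P.aug_pos a ha⟩ }
  · refine ⟨⟨hroot_mem, ?_⟩, augE_root P e hK he⟩
    show 0 < augE P e hK he _
    rw [augE_root]; exact one_pos
  · intro h2
    refine ⟨?_, ?_⟩
    · have := mono_mem_SS P e 1 (one_mem_pos P) 0 1
      rwa [map_one, one_mul, pow_zero, one_mul, pow_one] at this
    · show 0 < augE P e hK he _
      rw [map_sub, augE_of, augE_root]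
      omega

end KeSec

end Groth.Agent.R2.H39.LamElemExt
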