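import Groth.Prelude.Def_LambdaSp
import Groth.Agent.R2.H39LamFil
import Groth.Agent.R2.H39LamGammaPoly
import Groth.Agent.R2.H39LamWeight
import Groth.Agent.R2.H39LamBinom
import Groth.Agent.R2.H39LamGFil
import Mathlib

/-!
# helper39: the γ-filtration of a λ-algebra generated over a λ-ring `A` by the γ-operations of one
element
-/

set_option autoImplicit false
universe u v w
open LambdaRing Finset
open Groth.Agent.R2.H39.LamFil Groth.Agent.R2.H39.LamGP Groth.Agent.R2.H39.LamWt
  Groth.Agent.R2.H39.LamBinom Groth.Agent.R2.H39.LamGFil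

namespace Groth.Agent.R2.H39.LamFree

/-- a λ-algebra map compatible with the augmentations maps the γ-filtration into the γ-filtration -/
theorem algebraMap_mem_gammaFil
    {K : Type u} [CommRing K]
    {A : Type v} [CommRing A] [LambdaOps A]
    {B : Type w} [CommRing B] [LambdaOps B] [Algebra A B]
    (hAB : IsLambdaAlg A B) (εA : A →+* K) (εB : B →+* K)
    (hεAB : ∀ a : A, εB (algebraMap A B a) = εA a) (n : ℕ) {a : A} (ha : a ∈ gammaFil εA n) :
    algebraMap A B a ∈ gammaFil εB n := by
  have : gammaFil εA n ≤ (gammaFil εB n).comap (algebraMap A B) := by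
    apply Ideal.span_le.mpr
    rintro y ⟨l, hl, hn, rfl⟩
    change algebraMap A B _ ∈ gammaFil εB n
    apply Ideal.subset_span
    refine ⟨l.map (fun p => (p.1, algebraMap A B p.2)), ?_, ?_, ?_⟩
    · intro p hp
      obtain ⟨q, hq, rfl⟩ := List.mem_map.mp hp
      change εB (algebraMap A B q.2) = 0
      rw [hεAB, hl q hq]
    · rw [List.map_map]
      exact hn
    · rw [map_list_prod, List.map_map, List.map_map]
      congr 1
      apply List.map_congr_left
      intro p _
      exact map_gamma (algebraMap A B) (fun n a => hAB n a) p.1 p.2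
  exact this ha

theorem gammaFil_eq_span_free
    (K : Type u) [CommRing K] [LambdaOps K] [BinomialRing K] (hKb : IsBinomial K)
    (A : Type v) [CommRing A] [LambdaOps A] [Algebra K A]
    (εA : A →ₐ[K] K)
    (B : Type w) [CommRing B] [LambdaOps B] [Algebra K B] [Algebra A B] [IsScalarTower K A B]
    (hB : IsSpecial B) (hAB : IsLambdaAlg A B)
    (εB : B →ₐ[K] K) (hεB : IsAugLambdaAlg K B εB) (hεAB : ∀ a : A, εB (algebraMap A B a) = εA a)
    (x : B) (hx : εB x = 0)
    (hgen : Algebra.adjoin A (Set.range fun j : ℕ => gamma (j + 1) x) = ⊤)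
    (k : ℕ) :
    gammaFil (εB : B →+* K) k =
      Ideal.span {b : B | ∃ (e : ℕ →₀ ℕ) (a : A),
        a ∈ gammaFil (εA : A →+* K) (k - e.sum fun j n => (j + 1) * n) ∧
        b = algebraMap A B a * e.prod fun j n => gamma (j + 1) x ^ n} := by
  classical
  set g : ℕ → B := fun j => gamma (j + 1) x with hg
  set FA : ℕ → Ideal A := gammaFil (εA : A →+* K) with hFA
  have hFAmul : MulFil FA := mulFil_gammaFil _
  set wt : (ℕ →₀ ℕ) → ℕ := fun e => e.sum fun j n => (j + 1) * n with hwt
  set mon : (ℕ →₀ ℕ) → B := fun e => e.prod fun j n => g j ^ n with hmon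
  have hwt_add : ∀ e₁ e₂, wt (e₁ + e₂) = wt e₁ + wt e₂ := by
    intro e₁ e₂
    simp only [hwt]
    rw [Finsupp.sum_add_index']
    · intro j; simp
    · intro j m n; ring
  have hmon_add : ∀ e₁ e₂, mon (e₁ + e₂) = mon e₁ * mon e₂ := by
    intro e₁ e₂
    simp only [hmon]
    rw [Finsupp.prod_add_index']
    · intro j; simp
    · intro j m n; rw [pow_add]
  set W : ℕ → Ideal B := fun k => Ideal.span {b : B | ∃ (e : ℕ →₀ ℕ) (a : A),
    a ∈ FA (k - wt e) ∧ b = algebraMap A B a * mon e} with hW
  have hWmul : MulFil W := by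
    refine ⟨?_, ?_, ?_⟩
    · rw [Ideal.eq_top_iff_one]
      refine Ideal.subset_span ⟨0, 1, hFAmul.anti (Nat.zero_le _) (hFAmul.mem_zero 1), ?_⟩
      simp [hmon]
    · intro m n' h
      apply Ideal.span_mono
      rintro y ⟨e, a, ha, rfl⟩
      exact ⟨e, a, hFAmul.anti (Nat.sub_le_sub_right h _) ha, rfl⟩
    · intro i j a b ha hb
      have h1 : a * b ∈ W i * W j := Ideal.mul_mem_mul ha hb
      refine (?_ : W i * W j ≤ W (i + j)) h1
      simp only [hW]
      rw [Ideal.span_mul_span']
      apply Ideal.span_le.mpr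
      rintro y ⟨_, ⟨e₁, a₁, h₁, rfl⟩, _, ⟨e₂, a₂, h₂, rfl⟩, rfl⟩
      apply Ideal.subset_span
      refine ⟨e₁ + e₂, a₁ * a₂, ?_, ?_⟩
      · rw [hwt_add]
        exact hFAmul.anti (by omega) (hFAmul.mul h₁ h₂)
      · rw [hmon_add, map_mul]; ring
  have hxW : GoodElt W x := by
    intro p
    rcases p with _ | j
    · exact hWmul.mem_zero _
    · apply Ideal.subset_span
      have hw : wt (Finsupp.single j 1) = j + 1 := by simp [hwt]
      refine ⟨Finsupp.single j 1, 1, ?_, ?_⟩
      · rw [hw, Nat.sub_self]; exact hFAmul.mem_zero 1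
      · simp [hmon, hg]
  have hgW : ∀ j, GoodElt W (g j) := fun j => goodElt_gamma hB hWmul hxW j
  have hεg : ∀ j, εB (g j) = 0 := by
    intro j
    have := map_gamma (εB : B →+* K) hεB.map_lam (j + 1) x
    rw [RingHom.coe_coe] at this
    rw [hg, this, hx, gamma_succ_zero]
  -- elements of `ker εA` are good in `B`
  have hAgood : ∀ a : A, εA a = 0 → GoodElt W (algebraMap A B a) := by
    intro a ha p
    rw [← map_gamma (algebraMap A B) (fun n a => hAB n a) p a]
    apply Ideal.subset_span
    refine ⟨0, gamma p a, ?_, ?_⟩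
    · have : wt 0 = 0 := by simp [hwt]
      rw [this, Nat.sub_zero]
      exact gamma_mem_gammaFil _ ha p
    · simp [hmon]
  -- monomials of positive weight with arbitrary coefficients are good and of augmentation zero
  have hterm : ∀ (a : A) (d : ℕ →₀ ℕ), d ≠ 0 →
      GoodElt W (algebraMap A B a * ∏ j ∈ d.support, g j ^ d j) ∧
        εB (algebraMap A B a * ∏ j ∈ d.support, g j ^ d j) = 0 := by
    intro a d hd0
    have hM : GoodElt W (∏ j ∈ d.support, g j ^ d j) := by
      apply goodElt_prod hB hWmul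
      · exact Finsupp.support_nonempty_iff.mpr hd0
      · intro j hj
        obtain ⟨c, hc'⟩ := Nat.exists_eq_succ_of_ne_zero (Finsupp.mem_support_iff.mp hj)
        rw [hc']
        exact goodElt_pow hB hWmul (hgW j) c
    constructor
    · have hsplit : a = algebraMap K A (εA a) + (a - algebraMap K A (εA a)) := by ring
      rw [hsplit, map_add, add_mul, ← IsScalarTower.algebraMap_apply]
      apply goodElt_add hWmul
      · exact goodElt_algebraMap_mul hKb hεB.isLambdaAlg hB hWmul _ hM
      · apply goodElt_mul hB hWmul _ hM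
        apply hAgood
        rw [map_sub, AlgHom.commutes]
        simp
    · rw [map_mul, map_prod]
      obtain ⟨j, hj⟩ := Finsupp.support_nonempty_iff.mpr hd0
      rw [Finset.prod_eq_zero hj, mul_zero]
      rw [map_pow, hεg, zero_pow (Finsupp.mem_support_iff.mp hj)]
  have hker : ∀ z : B, (εB : B →+* K) z = 0 → GoodElt W z := by
    intro z hz
    have hmem : z ∈ (⊤ : Subalgebra A B) := trivial
    rw [← hgen, Algebra.adjoin_range_eq_range_aeval] at hmem
    obtain ⟨P, rfl⟩ := hmem
    have hz' : εB (MvPolynomial.aeval g P) = 0 := hz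
    change GoodElt W (MvPolynomial.aeval g P)
    rw [MvPolynomial.aeval_def, MvPolynomial.eval₂_eq] at hz' ⊢
    by_cases h0 : (0 : ℕ →₀ ℕ) ∈ P.support
    · rw [← Finset.add_sum_erase _ _ h0] at hz' ⊢
      have hrest : ∀ d ∈ P.support.erase 0, d ≠ 0 := fun d hd => (Finset.mem_erase.mp hd).1
      have h2 : εB (∑ d ∈ P.support.erase 0,
          algebraMap A B (MvPolynomial.coeff d P) * ∏ j ∈ d.support, g j ^ d j) = 0 := by
        rw [map_sum]
        exact Finset.sum_eq_zero fun d hd => (hterm _ d (hrest d hd)).2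
      rw [map_add, h2, add_zero] at hz'
      apply goodElt_add hWmul
      · simp only [Finsupp.support_zero, Finset.prod_empty, mul_one] at hz' ⊢
        apply hAgood
        rw [← hεAB]; exact hz'
      · exact goodElt_sum hWmul _ _ fun d hd => (hterm _ d (hrest d hd)).1
    · apply goodElt_sum hWmul
      intro d hd
      exact (hterm _ d (fun h => h0 (h ▸ hd))).1
  have hFB : MulFil (gammaFil (εB : B →+* K)) := mulFil_gammaFil _
  apply le_antisymm
  · exact gammaFil_le_of_goodElt _ hWmul hker k
  · apply Ideal.span_le.mpr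
    rintro y ⟨e, a, ha, rfl⟩
    have hx' : (εB : B →+* K) x = 0 := hx
    have h1 : algebraMap A B a ∈ gammaFil (εB : B →+* K) (k - wt e) :=
      algebraMap_mem_gammaFil hAB (εA : A →+* K) (εB : B →+* K) hεAB _ ha
    have h2 : mon e ∈ gammaFil (εB : B →+* K) (wt e) := by
      have := hFB.prod_pow_mem (fun j : ℕ => j + 1) g (fun j => gamma_mem_gammaFil _ hx' _)
        e.support e
      refine hFB.anti (le_of_eq ?_) this
      simp only [hwt, Finsupp.sum]
      apply Finset.sum_congr rfl
      intro j _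
      ring
    exact hFB.anti (by omega) (hFB.mul h1 h2)

end Groth.Agent.R2.H39.LamFree
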