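import Groth.Prelude.Def_LambdaSp
import Groth.Agent.R2.H39LamGammaPoly
import Mathlib

/-!
# helper39: truncation of two-family polynomials and division by the last variable

`trunc d` kills the variables `inr k`, `k ≥ d`, of a polynomial in two families of variables
(standing for the γ-operations of two elements `x`, `u`); it does not change the value at a pair
`(x, u)` with `γ^{k+1} u = 0` for all `k ≥ d`.  If `trunc e P = 0` then `trunc (e+1) P` is divisible
by the variable `inr e`, and the quotient `Dv e P` is given by an explicit coefficient formula.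
-/

set_option autoImplicit false
universe u
open MvPolynomial Finset LambdaRing
open Groth.Agent.R2.H39.LamGP

namespace Groth.Agent.R2.H39.LamRank

/-- the monomial `m` involves no variable `inr k` with `k ≥ d` -/
def Low (d : ℕ) (m : ℕ ⊕ ℕ →₀ ℕ) : Prop := ∀ k, d ≤ k → m (Sum.inr k) = 0

/-- the images of the variables under the truncation -/
noncomputable def tgen (d : ℕ) : ℕ ⊕ ℕ → MvPolynomial (ℕ ⊕ ℕ) ℤ :=
  Sum.elim (fun k => X (Sum.inl k)) (fun k => if k < d then X (Sum.inr k) else 0)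

/-- kill the variables `inr k`, `k ≥ d` -/
noncomputable def trunc (d : ℕ) : MvPolynomial (ℕ ⊕ ℕ) ℤ →ₐ[ℤ] MvPolynomial (ℕ ⊕ ℕ) ℤ :=
  aeval (tgen d)

theorem trunc_monomial_of_low {d : ℕ} {m : ℕ ⊕ ℕ →₀ ℕ} (h : Low d m) (c : ℤ) :
    trunc d (monomial m c) = monomial m c := by
  rw [trunc, aeval_monomial, monomial_eq]
  congr 1
  apply Finsupp.prod_congr
  intro i hi
  rcases i with k | k
  · rfl
  · have hk : k < d := by
      by_contra hlt
      exact (Finsupp.mem_support_iff.mp hi) (h k (not_lt.mp hlt))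
    simp only [tgen, Sum.elim_inr, if_pos hk]

theorem trunc_monomial_of_not_low {d : ℕ} {m : ℕ ⊕ ℕ →₀ ℕ} (h : ¬ Low d m) (c : ℤ) :
    trunc d (monomial m c) = 0 := by
  unfold Low at h
  push Not at h
  obtain ⟨k, hk, hm⟩ := h
  rw [trunc, aeval_monomial]
  apply mul_eq_zero_of_right
  rw [Finsupp.prod]
  apply Finset.prod_eq_zero (Finsupp.mem_support_iff.mpr hm)
  simp only [tgen, Sum.elim_inr, if_neg (not_lt.mpr hk)]
  exact zero_pow hm

theorem coeff_trunc_of_low {d : ℕ} {m : ℕ ⊕ ℕ →₀ ℕ} (h : Low d m) (P : MvPolynomial (ℕ ⊕ ℕ) ℤ) :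
    coeff m (trunc d P) = coeff m P := by
  classical
  induction P using MvPolynomial.induction_on' with
  | monomial m' c =>
    by_cases h' : Low d m'
    · rw [trunc_monomial_of_low h']
    · rw [trunc_monomial_of_not_low h', coeff_zero, coeff_monomial, if_neg]
      rintro rfl
      exact h' h
  | add p q hp hq => rw [map_add, coeff_add, hp, hq, coeff_add]

theorem coeff_trunc_of_not_low {d : ℕ} {m : ℕ ⊕ ℕ →₀ ℕ} (h : ¬ Low d m)
    (P : MvPolynomial (ℕ ⊕ ℕ) ℤ) : coeff m (trunc d P) = 0 := by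
  classical
  induction P using MvPolynomial.induction_on' with
  | monomial m' c =>
    by_cases h' : Low d m'
    · rw [trunc_monomial_of_low h', coeff_monomial, if_neg]
      rintro rfl
      exact h h'
    · rw [trunc_monomial_of_not_low h', coeff_zero]
  | add p q hp hq => rw [map_add, coeff_add, hp, hq, add_zero]

theorem low_of_mem_support_trunc {d : ℕ} {P : MvPolynomial (ℕ ⊕ ℕ) ℤ} {m : ℕ ⊕ ℕ →₀ ℕ}
    (hm : m ∈ (trunc d P).support) : Low d m := by
  by_contra h
  exact (mem_support_iff.mp hm) (coeff_trunc_of_not_low h P)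

theorem mem_support_of_mem_support_trunc {d : ℕ} {P : MvPolynomial (ℕ ⊕ ℕ) ℤ} {m : ℕ ⊕ ℕ →₀ ℕ}
    (hm : m ∈ (trunc d P).support) : m ∈ P.support := by
  have h := low_of_mem_support_trunc hm
  rw [mem_support_iff] at hm ⊢
  rwa [coeff_trunc_of_low h] at hm

section Eval

variable {K : Type u} [CommRing K] [LambdaOps K]

theorem evg2_trunc (d : ℕ) (x u : K) (hu : ∀ k, d ≤ k → gamma (k + 1) u = 0)
    (P : MvPolynomial (ℕ ⊕ ℕ) ℤ) : evg2 x u (trunc d P) = evg2 x u P := by
  rw [trunc, ← AlgHom.comp_apply, comp_aeval]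
  conv_rhs => rw [evg2]
  congr 2
  funext i
  rcases i with k | k
  · simp only [tgen, Sum.elim_inl, evg2, aeval_X]
  · by_cases hk : k < d
    · simp only [tgen, Sum.elim_inr, if_pos hk, evg2, aeval_X]
    · simp only [tgen, Sum.elim_inr, if_neg hk, map_zero]
      exact (hu k (not_lt.mp hk)).symm

end Eval

/-- the quotient of `trunc (e+1) P` by the variable `inr e` -/
noncomputable def Dv (e : ℕ) (P : MvPolynomial (ℕ ⊕ ℕ) ℤ) : MvPolynomial (ℕ ⊕ ℕ) ℤ :=
  (trunc (e + 1) P).divMonomial (Finsupp.single (Sum.inr e) 1)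

theorem coeff_Dv (e : ℕ) (P : MvPolynomial (ℕ ⊕ ℕ) ℤ) (m : ℕ ⊕ ℕ →₀ ℕ) :
    coeff m (Dv e P) = coeff (Finsupp.single (Sum.inr e) 1 + m) (trunc (e + 1) P) :=
  coeff_divMonomial _ _ _

theorem low_succ_iff {e : ℕ} {m : ℕ ⊕ ℕ →₀ ℕ} (hm : m (Sum.inr e) = 0) :
    Low (e + 1) m ↔ Low e m := by
  constructor
  · intro h k hk
    rcases Nat.eq_or_lt_of_le hk with rfl | hlt
    · exact hm
    · exact h k hlt
  · intro h k hk
    exact h k (by omega)

/-- **division**: if `trunc e P = 0` then `trunc (e+1) P = X_{inr e} · Dv e P` -/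
theorem trunc_succ_eq_mul {e : ℕ} {P : MvPolynomial (ℕ ⊕ ℕ) ℤ} (h : trunc e P = 0) :
    trunc (e + 1) P = X (Sum.inr e) * Dv e P := by
  have hmod : (trunc (e + 1) P).modMonomial (Finsupp.single (Sum.inr e) 1) = 0 := by
    ext m
    rw [coeff_zero]
    by_cases hle : Finsupp.single (Sum.inr e) 1 ≤ m
    · exact coeff_modMonomial_of_le _ hle
    · rw [coeff_modMonomial_of_not_le _ hle]
      have hm : m (Sum.inr e) = 0 := by
        by_contra hne
        apply hle
        rw [Finsupp.single_le_iff]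
        exact Nat.one_le_iff_ne_zero.mpr hne
      by_cases hl : Low (e + 1) m
      · rw [coeff_trunc_of_low hl, ← coeff_trunc_of_low ((low_succ_iff hm).mp hl), h, coeff_zero]
      · exact coeff_trunc_of_not_low hl P
  have := divMonomial_add_modMonomial_single (trunc (e + 1) P) (Sum.inr e)
  rw [hmod, add_zero] at this
  exact this.symm

theorem mem_support_of_mem_support_Dv {e : ℕ} {P : MvPolynomial (ℕ ⊕ ℕ) ℤ} {m : ℕ ⊕ ℕ →₀ ℕ}
    (hm : m ∈ (Dv e P).support) : Finsupp.single (Sum.inr e) 1 + m ∈ P.support := by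
  apply mem_support_of_mem_support_trunc (d := e + 1)
  rw [mem_support_iff] at hm ⊢
  rwa [coeff_Dv] at hm

/-- weights of the quotient -/
theorem Dv_weight {e p : ℕ} (w : ℕ ⊕ ℕ → ℕ) {P : MvPolynomial (ℕ ⊕ ℕ) ℤ}
    (hP : ∀ m ∈ P.support, p ≤ Finsupp.weight w m) :
    ∀ m ∈ (Dv e P).support, p - w (Sum.inr e) ≤ Finsupp.weight w m := by
  intro m hm
  have h1 := hP _ (mem_support_of_mem_support_Dv hm)
  rw [map_add, Finsupp.weight_single, smul_eq_mul, one_mul] at h1
  omega

/-- the quotient keeps the property that every monomial involves a variable of the first family -/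
theorem Dv_exists_inl {e : ℕ} {P : MvPolynomial (ℕ ⊕ ℕ) ℤ}
    (hP : ∀ m ∈ P.support, ∃ j, m (Sum.inl j) ≠ 0) :
    ∀ m ∈ (Dv e P).support, ∃ j, m (Sum.inl j) ≠ 0 := by
  intro m hm
  obtain ⟨j, hj⟩ := hP _ (mem_support_of_mem_support_Dv hm)
  refine ⟨j, ?_⟩
  rwa [Finsupp.add_apply, Finsupp.single_apply, if_neg (by simp), zero_add] at hj

section Eval2

variable {K : Type u} [CommRing K] [LambdaOps K]

/-- **evaluation**: for `u` with `γ^{k+1} u = 0` (`k ≥ e+1`), the value of `P` is `γ^{e+1} u` times the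
value of the quotient -/
theorem evg2_eq_mul_Dv {e : ℕ} {P : MvPolynomial (ℕ ⊕ ℕ) ℤ} (h : trunc e P = 0) (x u : K)
    (hu : ∀ k, e + 1 ≤ k → gamma (k + 1) u = 0) :
    evg2 x u P = gamma (e + 1) u * evg2 x u (Dv e P) := by
  rw [← evg2_trunc (e + 1) x u hu, trunc_succ_eq_mul h, map_mul]
  congr 1
  rw [evg2, aeval_X, Sum.elim_inr]

end Eval2

end Groth.Agent.R2.H39.LamRank
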