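import Groth.Prelude.Def_LambdaSp
import Groth.Agent.Lib.Helper4MulPoly
import Groth.Agent.Lib.Helper4LambdaUniv
import Groth.Agent.R2.H39LamGammaPoly
import Groth.Agent.R2.H39LamModel
import Groth.Agent.R2.H39LamWeight
import Groth.Agent.R2.H39LamRankA
import Mathlib

/-!
# helper39: the two-family model with families of different sizes

The elementary symmetric functions of `N` variables and of `e` variables are algebraically
independent (`Phi2_injective`); hence a polynomial in two families of variables which involves only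
the first `e` variables of the second family and vanishes at the generic pairs `(x, u)` of all the
polynomial models (`u` a sum of `e` variables) is zero.
-/

set_option autoImplicit false
universe u
open MvPolynomial Finset LambdaRing
open Groth.Agent.Lib.Helper4 Groth.Agent.Lib.Helper4.LUniv Groth.Agent.Lib.Helper4.MulPoly
open Groth.Agent.R2.H39.LamFil Groth.Agent.R2.H39.LamGP Groth.Agent.R2.H39.LamModel
  Groth.Agent.R2.H39.LamWt

namespace Groth.Agent.R2.H39.LamRank

section Inj

variable (n N e E : ℕ)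

/-- `X_k ↦ e_{k+1}(T_1..T_N)`, `Y_k ↦ e_{k+1}(U_1..U_E)` -/
noncomputable def Phi2 : MvPolynomial (Fin n ⊕ Fin e) ℤ →ₐ[ℤ] MvPolynomial (Fin N ⊕ Fin E) ℤ :=
  aeval (Sum.elim (fun k : Fin n => rename Sum.inl (esymm (Fin N) ℤ ((k : ℕ) + 1)))
      (fun k : Fin e => rename Sum.inr (esymm (Fin E) ℤ ((k : ℕ) + 1))))

noncomputable abbrev SS2 (a b : ℕ) := sumAlgEquiv ℤ (Fin a) (Fin b)

theorem SS2_rename_inl (a b : ℕ) (p : MvPolynomial (Fin a) ℤ) :
    SS2 a b (rename Sum.inl p) = map (C : ℤ →+* MvPolynomial (Fin b) ℤ) p := by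
  induction p using MvPolynomial.induction_on with
  | C c => simp [SS2]
  | add p q hp hq => simp only [map_add, hp, hq]
  | mul_X p i hp => simp only [map_mul, hp, rename_X, map_X, SS2, sumAlgEquiv_X_inl]

theorem SS2_rename_inr (a b : ℕ) (p : MvPolynomial (Fin b) ℤ) :
    SS2 a b (rename Sum.inr p) = C p := by
  induction p using MvPolynomial.induction_on with
  | C c => simp [SS2]
  | add p q hp hq => simp only [map_add, hp, hq]
  | mul_X p i hp => simp only [map_mul, hp, rename_X, SS2, sumAlgEquiv_X_inr]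

theorem SS2_Phi2 (P : MvPolynomial (Fin n ⊕ Fin e) ℤ) :
    SS2 N E (Phi2 n N e E P) = EE n N (MvPolynomial (Fin E) ℤ)
      (map (EE e E ℤ : MvPolynomial (Fin e) ℤ →+* MvPolynomial (Fin E) ℤ) (SS2 n e P)) := by
  induction P using MvPolynomial.induction_on with
  | C a => simp [SS2, EE, Phi2]
  | add p q hp hq => simp only [map_add, hp, hq]
  | mul_X p i hp =>
    simp only [map_mul, hp]
    congr 1
    rcases i with k | k
    · simp only [Phi2, aeval_X, Sum.elim_inl, SS2_rename_inl, map_esymm, SS2, sumAlgEquiv_X_inl,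
        map_X, EE]
    · simp only [Phi2, aeval_X, Sum.elim_inr, SS2_rename_inr, SS2, sumAlgEquiv_X_inr, map_C, EE,
        aeval_C, algebraMap_eq, RingHom.coe_coe]

theorem Phi2_injective (hn : n ≤ N) (he : e ≤ E) : Function.Injective (Phi2 n N e E) := by
  intro P Q hPQ
  have h1 := congrArg (SS2 N E) hPQ
  rw [SS2_Phi2, SS2_Phi2] at h1
  have h2 := EE_injective n N (MvPolynomial (Fin E) ℤ) hn h1
  have h3 := map_injective _ (EE_injective e E ℤ he) h2
  exact (SS2 n e).injective h3

end Inj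

/-- the universal model: `N` variables for the first family, `e` variables for the second -/
noncomputable def PhiT (N e : ℕ) : MvPolynomial (ℕ ⊕ ℕ) ℤ →ₐ[ℤ] MvPolynomial (Fin N ⊕ Fin e) ℤ :=
  aeval (Sum.elim (fun i : ℕ => rename Sum.inl (esymm (Fin N) ℤ (i + 1)))
      (fun i : ℕ => rename Sum.inr (esymm (Fin e) ℤ (i + 1))))

theorem PhiT_rename (n N e : ℕ) (P : MvPolynomial (Fin n ⊕ Fin e) ℤ) :
    PhiT N e (rename (Sum.map Fin.val Fin.val) P) = Phi2 n N e e P := by
  rw [PhiT, Phi2, aeval_rename]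
  congr 2
  funext i
  rcases i with k | k <;> rfl

/-- **verification principle**, second family truncated at `e` -/
theorem VPT (e : ℕ) (P : MvPolynomial (ℕ ⊕ ℕ) ℤ) (hP : ∀ m ∈ P.support, Low e m) (N₀ : ℕ)
    (h : ∀ N, N₀ ≤ N → PhiT N e P = 0) : P = 0 := by
  classical
  set n := P.vars.sup (Sum.elim id id) + 1 with hn
  have hvars : (P.vars : Set (ℕ ⊕ ℕ)) ⊆
      Set.range (Sum.map Fin.val Fin.val : Fin n ⊕ Fin e → ℕ ⊕ ℕ) := by
    intro i hi
    have hle : Sum.elim id id i ≤ P.vars.sup (Sum.elim id id) :=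
      Finset.le_sup (f := Sum.elim id id) hi
    rcases i with a | a
    · exact ⟨Sum.inl ⟨a, by simp only [Sum.elim_inl, id_eq] at hle; omega⟩, rfl⟩
    · have ha : a < e := by
        by_contra hlt
        rw [Finset.mem_coe, mem_vars_iff_mem_support] at hi
        obtain ⟨m, hm, hma⟩ := hi
        exact (Finsupp.mem_support_iff.mp hma) (hP m hm a (not_lt.mp hlt))
      exact ⟨Sum.inr ⟨a, ha⟩, rfl⟩
  obtain ⟨P₀, hP₀⟩ := exists_rename_eq_of_vars_subset_range P _
    (Function.Injective.sumMap Fin.val_injective Fin.val_injective) hvars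
  have h1 := h (max n N₀) (le_max_right _ _)
  rw [← hP₀, PhiT_rename] at h1
  have h3 : P₀ = 0 := Phi2_injective n _ e e (le_max_left _ _) le_rfl (by rw [h1, map_zero])
  rw [← hP₀, h3, map_zero]

/-! ### the models -/

/-- the generic element of the first family -/
noncomputable def xm (N e : ℕ) : MvPolynomial (Fin N ⊕ Fin e) ℚ := ∑ i : Fin N, X (Sum.inl i)

/-- the generic element of rank `e` -/
noncomputable def um (N e : ℕ) : MvPolynomial (Fin N ⊕ Fin e) ℚ := ∑ i : Fin e, X (Sum.inr i)

theorem gamma_xm (N e k : ℕ) : gamma k (xm N e) =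
    MvPolynomial.map (Int.castRingHom ℚ) (rename Sum.inl (esymm (Fin N) ℤ k)) := by
  rw [xm, gamma_sum_X univ Sum.inl k]
  simp only [esymm, map_sum, map_prod, map_X, rename_X]

theorem gamma_um (N e k : ℕ) : gamma k (um N e) =
    MvPolynomial.map (Int.castRingHom ℚ) (rename Sum.inr (esymm (Fin e) ℤ k)) := by
  rw [um, gamma_sum_X univ Sum.inr k]
  simp only [esymm, map_sum, map_prod, map_X, rename_X]

theorem gamma_um_eq_zero (N e k : ℕ) (hk : e ≤ k) : gamma (k + 1) (um N e) = 0 := by
  rw [gamma_um, esymm]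
  have : powersetCard (k + 1) (univ : Finset (Fin e)) = ∅ := by
    rw [Finset.powersetCard_eq_empty, Finset.card_univ, Fintype.card_fin]
    omega
  rw [this, Finset.sum_empty, map_zero, map_zero]

theorem map_PhiT (N e : ℕ) (P : MvPolynomial (ℕ ⊕ ℕ) ℤ) :
    MvPolynomial.map (Int.castRingHom ℚ) (PhiT N e P) = evg2 (xm N e) (um N e) P := by
  have : (MvPolynomial.map (Int.castRingHom ℚ)).comp
      (PhiT N e : MvPolynomial (ℕ ⊕ ℕ) ℤ →+* MvPolynomial (Fin N ⊕ Fin e) ℤ) =
      (evg2 (xm N e) (um N e) : MvPolynomial (ℕ ⊕ ℕ) ℤ →+* MvPolynomial (Fin N ⊕ Fin e) ℚ) := by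
    apply MvPolynomial.ringHom_ext
    · intro r; simp
    · intro k
      simp only [RingHom.comp_apply, RingHom.coe_coe]
      rw [PhiT, aeval_X, evg2, aeval_X]
      rcases k with k | k
      · simp only [Sum.elim_inl]; rw [gamma_xm]
      · simp only [Sum.elim_inr]; rw [gamma_um]
  exact congrArg (fun f => f P) this

/-- **criterion**: a polynomial which vanishes at the generic pairs `(x, u)`, `u` of rank `e`, has zero
truncation at `e` -/
theorem trunc_eq_zero_of_model (e : ℕ) (P : MvPolynomial (ℕ ⊕ ℕ) ℤ) (N₀ : ℕ)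
    (h : ∀ N, N₀ ≤ N → evg2 (xm N e) (um N e) P = 0) : trunc e P = 0 := by
  apply VPT e _ (fun m hm => low_of_mem_support_trunc hm) N₀
  intro N hN
  apply MvPolynomial.map_injective (Int.castRingHom ℚ) Int.cast_injective
  rw [map_PhiT, map_zero, evg2_trunc e _ _ (fun k hk => gamma_um_eq_zero N e k hk), h N hN]

theorem goodElt_xm (N e : ℕ) : GoodElt (Dfil (Fin N ⊕ Fin e)) (xm N e) := by
  rw [xm]
  exact goodElt_sum mulFil_Dfil _ _ fun i _ => goodElt_X _

theorem goodElt_um (N e : ℕ) : GoodElt (Dfil (Fin N ⊕ Fin e)) (um N e) := by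
  rw [um]
  exact goodElt_sum mulFil_Dfil _ _ fun i _ => goodElt_X _

end Groth.Agent.R2.H39.LamRank
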