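import Groth.Prelude.Def_LambdaSp
import Groth.Agent.Lib.Helper4Lambda
import Groth.Agent.R2.H39LamGammaPoly
import Groth.Agent.R2.H39LamModel
import Groth.Agent.R2.H39LamWeight
import Groth.Agent.R2.H39LamGFil
import Groth.Agent.R2.H39LamLead
import Groth.Agent.R2.H39LamRankA
import Groth.Agent.R2.H39LamRankB
import Mathlib

/-!
# helper39: elements of finite rank

For `u` with `γ^{k+1} u = 0` for all `k ≥ e+1` ("`u` of rank `≤ e+1`"), `g = γ^{e+1} u` divides
`γ^{p+1}(x g)` for every `x`, the quotient being the value at `(x, u)` of a universal polynomial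
`Ug e (p+1)` all of whose monomials have weight `≥ p + 1 - (e + 1)`; similarly for `γ^{k+1}(g)` and
`Hg e k`.
-/

set_option autoImplicit false
universe u
open MvPolynomial Finset LambdaRing
open Groth.Agent.Lib.Helper4
open Groth.Agent.R2.H39.LamFil Groth.Agent.R2.H39.LamGP Groth.Agent.R2.H39.LamModel
  Groth.Agent.R2.H39.LamWt Groth.Agent.R2.H39.LamGFil Groth.Agent.R2.H39.LamLead
  Groth.Agent.R2.H39.LamAdams

namespace Groth.Agent.R2.H39.LamRank

/-- the universal polynomial for `γ^p(x · γ^{e+1} u)` in the γ-operations of `x` and `u` -/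
noncomputable def Tg (e p : ℕ) : MvPolynomial (ℕ ⊕ ℕ) ℤ :=
  aeval (Sum.elim (fun k => X (Sum.inl k)) (fun k => rename Sum.inr (Qg e k))) (Pg p)

section Special

variable {K : Type u} [CommRing K] [LambdaOps K]

theorem evg2_Tg (hK : IsSpecial K) (e p : ℕ) (x u : K) :
    evg2 x u (Tg e p) = gamma p (x * gamma (e + 1) u) := by
  rw [gamma_mul_eq_evg2 hK, Tg, ← AlgHom.comp_apply, comp_aeval]
  conv_rhs => rw [evg2]
  congr 2
  funext i
  rcases i with k | k
  · simp only [Sum.elim_inl, evg2, aeval_X]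
  · simp only [Sum.elim_inr]
    rw [evg2_rename_inr, gamma_gamma_eq_evg1 hK]

end Special

theorem trunc_Tg (e p : ℕ) : trunc e (Tg e (p + 1)) = 0 := by
  apply trunc_eq_zero_of_model e _ 0
  intro N _
  rw [evg2_Tg (isSpecial_model _), gamma_um_eq_zero N e e le_rfl, mul_zero, gamma_succ_zero]

/-- the quotient of `Tg e p` by the variable `inr e` -/
noncomputable def Ug (e p : ℕ) : MvPolynomial (ℕ ⊕ ℕ) ℤ := Dv e (Tg e p)

theorem goodElt_u₀ (N : ℕ) : GoodElt (Dfil (Fin N ⊕ Fin N)) (u₀ N) := by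
  rw [u₀]
  exact goodElt_sum mulFil_Dfil _ _ fun i _ => goodElt_X _

theorem goodElt_v₀ (N : ℕ) : GoodElt (Dfil (Fin N ⊕ Fin N)) (v₀ N) := by
  rw [v₀]
  exact goodElt_sum mulFil_Dfil _ _ fun i _ => goodElt_X _

theorem Tg_wt (e p : ℕ) : ∀ m ∈ (Tg e p).support, p ≤ Finsupp.weight w2 m := by
  apply wt_ge_of_phiInf _ _ 0
  intro N _
  rw [← highDeg_map_iff, map_PhiInf, evg2_Tg (isSpecial_model _), ← mem_Dfil]
  exact goodElt_mul (isSpecial_model _) mulFil_Dfil (goodElt_u₀ N)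
    (goodElt_gamma (isSpecial_model _) mulFil_Dfil (goodElt_v₀ N) e) p

theorem Ug_wt (e p : ℕ) : ∀ m ∈ (Ug e p).support, p - (e + 1) ≤ Finsupp.weight w2 m :=
  Dv_weight (e := e) w2 (Tg_wt e p)

theorem Tg_exists_inl (e p : ℕ) : ∀ m ∈ (Tg e (p + 1)).support, ∃ j, m (Sum.inl j) ≠ 0 := by
  have h1 : Pg (p + 1) ∈
      Ideal.span ((X : ℕ ⊕ ℕ → MvPolynomial (ℕ ⊕ ℕ) ℤ) '' (Set.range Sum.inl)) := by
    rw [mem_ideal_span_X_image]
    intro m hm
    obtain ⟨j, hj⟩ := Pg_exists_inl p m hm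
    exact ⟨Sum.inl j, ⟨j, rfl⟩, hj⟩
  have h2 : Tg e (p + 1) ∈
      Ideal.span ((X : ℕ ⊕ ℕ → MvPolynomial (ℕ ⊕ ℕ) ℤ) '' (Set.range Sum.inl)) := by
    set f : MvPolynomial (ℕ ⊕ ℕ) ℤ →ₐ[ℤ] MvPolynomial (ℕ ⊕ ℕ) ℤ :=
      aeval (Sum.elim (fun k => X (Sum.inl k)) (fun k => rename Sum.inr (Qg e k))) with hf
    have h3 := Ideal.mem_map_of_mem (f : MvPolynomial (ℕ ⊕ ℕ) ℤ →+* MvPolynomial (ℕ ⊕ ℕ) ℤ) h1
    rw [Ideal.map_span] at h3
    refine Ideal.span_mono ?_ h3
    rintro _ ⟨_, ⟨_, ⟨j, rfl⟩, rfl⟩, rfl⟩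
    refine ⟨Sum.inl j, ⟨j, rfl⟩, ?_⟩
    change X (Sum.inl j) = f (X (Sum.inl j))
    rw [hf, aeval_X, Sum.elim_inl]
  rw [mem_ideal_span_X_image] at h2
  intro m hm
  obtain ⟨i, ⟨j, rfl⟩, hi⟩ := h2 m hm
  exact ⟨j, hi⟩

theorem Ug_exists_inl (e p : ℕ) : ∀ m ∈ (Ug e (p + 1)).support, ∃ j, m (Sum.inl j) ≠ 0 :=
  Dv_exists_inl (Tg_exists_inl e p)

section Special2

variable {K : Type u} [CommRing K] [LambdaOps K]

/-- **divisibility** of `γ^{p+1}(x g)` by `g = γ^{e+1} u` -/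
theorem gamma_mul_gamma_eq (hK : IsSpecial K) (e p : ℕ) (x u : K)
    (hu : ∀ k, e + 1 ≤ k → gamma (k + 1) u = 0) :
    gamma (p + 1) (x * gamma (e + 1) u) = gamma (e + 1) u * evg2 x u (Ug e (p + 1)) := by
  rw [← evg2_Tg hK, Ug]
  exact evg2_eq_mul_Dv (trunc_Tg e p) x u hu

end Special2

/-! ### the one-family case -/

theorem trunc_Qg (e k : ℕ) : trunc e (rename Sum.inr (Qg e k)) = 0 := by
  apply trunc_eq_zero_of_model e _ 0
  intro N _
  rw [evg2_rename_inr, ← gamma_gamma_eq_evg1 (isSpecial_model _), gamma_um_eq_zero N e e le_rfl,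
    gamma_succ_zero]

/-- the quotient of the polynomial for `γ^{k+1}(γ^{e+1} u)` by the variable `inr e` -/
noncomputable def Hg (e k : ℕ) : MvPolynomial (ℕ ⊕ ℕ) ℤ := Dv e (rename Sum.inr (Qg e k))

theorem renameQg_wt (e k : ℕ) :
    ∀ m ∈ (rename Sum.inr (Qg e k) : MvPolynomial (ℕ ⊕ ℕ) ℤ).support,
      max (e + 1) (k + 1) ≤ Finsupp.weight w2 m := by
  apply wt_ge_of_phiInf _ _ 0
  intro N _
  rw [← highDeg_map_iff, map_PhiInf, evg2_rename_inr, ← mem_Dfil, evg1]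
  exact mulFil_Dfil.aeval_mem w1 _ (fun s => goodElt_v₀ N (s + 1)) _ _ (Qg_wt_max e k)

theorem Hg_wt (e k : ℕ) : ∀ m ∈ (Hg e k).support, k + 1 - (e + 1) ≤ Finsupp.weight w2 m := by
  intro m hm
  have := Dv_weight (e := e) w2 (renameQg_wt e k) m hm
  have h2 : w2 (Sum.inr e) = e + 1 := rfl
  omega

theorem coeff_zero_Hg (e : ℕ) : coeff 0 (Hg e e) = cc (e + 1) := by
  have hlow : Low (e + 1) (Finsupp.single (Sum.inr e) 1 + 0) := by
    intro k hk
    rw [add_zero, Finsupp.single_apply, if_neg]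
    intro h
    have := Sum.inr.inj h
    omega
  rw [Hg, coeff_Dv, coeff_trunc_of_low hlow, add_zero]
  have h1 : (Finsupp.single (Sum.inr e) 1 : ℕ ⊕ ℕ →₀ ℕ) =
      Finsupp.mapDomain Sum.inr (Finsupp.single e 1) := by
    rw [Finsupp.mapDomain_single]
  rw [h1, coeff_rename_mapDomain _ Sum.inr_injective]
  have h2 : coeff (Finsupp.single e 1) (Qg e e - C (cc (e + 1)) * X e) = 0 := by
    by_contra hne
    have := Qg_lead e _ (mem_support_iff.mpr hne)
    rw [Finsupp.weight_single, smul_eq_mul, one_mul] at this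
    have h3 : w1 e = e + 1 := rfl
    omega
  rw [coeff_sub, coeff_C_mul, coeff_X, if_pos rfl, mul_one, sub_eq_zero] at h2
  exact h2

section Special3

variable {K : Type u} [CommRing K] [LambdaOps K]

/-- **divisibility** of `γ^{k+1}(g)` by `g = γ^{e+1} u` -/
theorem gamma_gamma_eq (hK : IsSpecial K) (e k : ℕ) (x u : K)
    (hu : ∀ k, e + 1 ≤ k → gamma (k + 1) u = 0) :
    gamma (k + 1) (gamma (e + 1) u) = gamma (e + 1) u * evg2 x u (Hg e k) := by
  rw [gamma_gamma_eq_evg1 hK, ← evg2_rename_inr x u, Hg]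
  exact evg2_eq_mul_Dv (trunc_Qg e k) x u hu

/-- an element `N` with `λ^k N = 0` for `k > d`: the element `N - d` has rank `≤ d` -/
theorem gamma_sub_natCast_eq_zero (hK : IsSpecial K) (d : ℕ) (N : K)
    (hN : ∀ i : ℕ, d < i → LambdaOps.lam i N = 0) (k : ℕ) (hk : d < k) :
    gamma k (N - (d : K)) = 0 := by
  have h := gammaSeries_sub_natCast hK.lam_one_eq_zero N d hN
  have h2 := congrArg (PowerSeries.coeff k) h
  rw [gammaSeries, PowerSeries.coeff_mk] at h2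
  rw [h2, map_sum]
  apply Finset.sum_eq_zero
  intro i hi
  rw [Finset.mem_range] at hi
  rw [PowerSeries.coeff_C_mul, PowerSeries.coeff_X_pow_mul', if_pos (by omega),
    coeff_one_sub_X_pow, Nat.choose_eq_zero_of_lt (by omega)]
  simp

/-- the top γ-operation of `N - d` is `± λ_{-1}(N)` -/
theorem gamma_sub_natCast_top (hK : IsSpecial K) (d : ℕ) (N : K)
    (hN : ∀ i : ℕ, d < i → LambdaOps.lam i N = 0) :
    gamma d (N - (d : K)) =
      (-1 : K) ^ d * ∑ i ∈ range (d + 1), (-1 : K) ^ i * LambdaOps.lam i N := by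
  have h := gammaSeries_sub_natCast hK.lam_one_eq_zero N d hN
  have h2 := congrArg (PowerSeries.coeff d) h
  rw [gammaSeries, PowerSeries.coeff_mk] at h2
  rw [h2, map_sum, Finset.mul_sum]
  apply Finset.sum_congr rfl
  intro i hi
  rw [Finset.mem_range] at hi
  rw [PowerSeries.coeff_C_mul, PowerSeries.coeff_X_pow_mul', if_pos (by omega),
    coeff_one_sub_X_pow, Nat.choose_self, Nat.cast_one, mul_one]
  have h4 : (-1 : K) ^ d * ((-1) ^ i * LambdaOps.lam i N) =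
      LambdaOps.lam i N * ((-1 : K) ^ d * (-1) ^ i) := by ring
  rw [h4]
  congr 1
  have hd : d = (d - i) + i := by omega
  conv_rhs => rw [hd, pow_add, mul_assoc, ← mul_pow]
  simp

end Special3

end Groth.Agent.R2.H39.LamRank
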