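import Groth.Prelude.Def_LambdaSp
import Groth.Agent.R2.H39LamFil
import Groth.Agent.R2.H39LamGammaPoly
import Groth.Agent.R2.H39LamWeight
import Groth.Agent.Lib.Helper4Lambda
import Groth.Agent.R2.H39LamChern
import Mathlib

/-!
# helper39: evaluation lemmas for filtered λ-rings

* `evg2_lead`: the value of a two-family polynomial of weight `≥ i+1`, all of whose monomials involve
  the first family, at `(x, u)` with `x` of filtration `i+1`: only the linear term `γ^{i+1} x` matters
  modulo `F (i+2)`.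
* `divEval`: the value of an isobaric polynomial at elements of the form `g · h_k` is `g` times an
  element whose filtration is controlled.
* `ShGood.mul`: products of series of the form `1 + g · v`.
-/

set_option autoImplicit false
universe u
open MvPolynomial Finset LambdaRing
open Groth.Agent.R2.H39.LamFil Groth.Agent.R2.H39.LamGP Groth.Agent.R2.H39.LamWt
  Groth.Agent.R2.H39.LamChern

namespace Groth.Agent.R2.H39.LamRank

section Lead

variable {R : Type u} [CommRing R] [LambdaOps R] {F : ℕ → Ideal R}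

/-- weights: `γ^{k+1} x` has weight `max i (k+1)`, `γ^{k+1} u` has weight `k+1` -/
def wL (i : ℕ) : ℕ ⊕ ℕ → ℕ := Sum.elim (fun k => max i (k + 1)) (fun k => k + 1)

theorem one_le_wL (i : ℕ) (s : ℕ ⊕ ℕ) : 1 ≤ wL (i + 1) s := by
  rcases s with k | k
  · exact le_max_of_le_right (Nat.succ_le_succ (Nat.zero_le k))
  · exact Nat.succ_le_succ (Nat.zero_le k)

theorem evg2_lead (hF : MulFil F) (i : ℕ) (U : MvPolynomial (ℕ ⊕ ℕ) ℤ)
    (hU1 : ∀ m ∈ U.support, i + 1 ≤ Finsupp.weight w2 m)
    (hU2 : ∀ m ∈ U.support, ∃ j, m (Sum.inl j) ≠ 0)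
    {x u : R} (hx : Zmem F (i + 1) x) (hu : GoodElt F u) :
    evg2 x u U - ((coeff (Finsupp.single (Sum.inl i) 1) U : ℤ) : R) * gamma (i + 1) x ∈
      F (i + 2) := by
  classical
  set c := coeff (Finsupp.single (Sum.inl i) 1) U with hc
  set U' := U - monomial (Finsupp.single (Sum.inl i) 1) c with hU'
  have h1 : U = monomial (Finsupp.single (Sum.inl i) 1) c + U' := by rw [hU']; ring
  have h2 : evg2 x u (monomial (Finsupp.single (Sum.inl i) 1) c) =
      ((c : ℤ) : R) * gamma (i + 1) x := by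
    rw [evg2, aeval_monomial, Finsupp.prod_single_index (by simp)]
    simp
  have h3 : evg2 x u U - ((c : ℤ) : R) * gamma (i + 1) x = evg2 x u U' := by
    conv_lhs => rw [h1, map_add, h2]
    ring
  rw [h3, evg2]
  apply hF.aeval_mem (wL (i + 1)) _ _ _ _
  · intro d hd
    have hcoeff : coeff d U' = coeff d U - if Finsupp.single (Sum.inl i) 1 = d then c else 0 := by
      rw [hU', coeff_sub, coeff_monomial]
    have hdne : d ≠ Finsupp.single (Sum.inl i) 1 := by
      rintro rfl
      rw [mem_support_iff, hcoeff, if_pos rfl, hc, sub_self] at hd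
      exact hd rfl
    have hd' : d ∈ U.support := by
      rw [mem_support_iff] at hd ⊢
      rw [hcoeff, if_neg (Ne.symm hdne), sub_zero] at hd
      exact hd
    obtain ⟨j, hj⟩ := hU2 d hd'
    obtain ⟨d', rfl⟩ := exists_add_single d (Sum.inl j) hj
    have hw := hU1 _ hd'
    rw [weight_add_single] at hw ⊢
    have e1 : wL (i + 1) (Sum.inl j) = max (i + 1) (j + 1) := rfl
    have e2 : w2 (Sum.inl j) = j + 1 := rfl
    rw [e1]
    rw [e2] at hw
    by_cases h0 : d' = 0
    · subst h0
      rw [map_zero] at hw ⊢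
      have hji : j ≠ i := by
        rintro rfl
        apply hdne
        rw [zero_add]
      have : i + 2 ≤ j + 1 := by omega
      exact this.trans (by rw [zero_add]; exact le_max_right _ _)
    · have h4 : 1 ≤ Finsupp.weight (wL (i + 1)) d' := le_weight_of_ne_zero (one_le_wL i) h0
      have h5 : i + 1 ≤ max (i + 1) (j + 1) := le_max_left _ _
      omega
  · intro s
    rcases s with k | k
    · exact hx k
    · exact hu (k + 1)

/-- a polynomial all of whose monomials involve the first family takes values in `F 1` when the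
γ-operations of `x` do -/
theorem evg2_mem_one (hF : MulFil F) (U : MvPolynomial (ℕ ⊕ ℕ) ℤ)
    (hU2 : ∀ m ∈ U.support, ∃ j, m (Sum.inl j) ≠ 0)
    {x u : R} (hx : ∀ k, gamma (k + 1) x ∈ F 1) : evg2 x u U ∈ F 1 := by
  rw [evg2]
  apply hF.aeval_mem (Sum.elim (fun _ => 1) (fun _ => 0)) _ _ _ _
  · intro m hm
    obtain ⟨j, hj⟩ := hU2 m hm
    exact Finsupp.le_weight_of_ne_zero' (w := (Sum.elim (fun _ => 1) (fun _ => 0) : ℕ ⊕ ℕ → ℕ)) hj
  · intro s
    rcases s with k | k
    · exact hx k
    · exact hF.mem_zero _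

theorem evg2_mem_of_wt (hF : MulFil F) (n : ℕ) (U : MvPolynomial (ℕ ⊕ ℕ) ℤ)
    (hU : ∀ m ∈ U.support, n ≤ Finsupp.weight w2 m)
    {x u : R} (hx : GoodElt F x) (hu : GoodElt F u) : evg2 x u U ∈ F n := by
  rw [evg2]
  apply hF.aeval_mem w2 _ _ _ _ hU
  intro s
  rcases s with k | k
  · exact hx (k + 1)
  · exact hu (k + 1)

end Lead

section DivEval

variable {R : Type u} [CommRing R] {F : ℕ → Ideal R}

/-- one monomial -/
theorem divEval_monomial (hF : MulFil F) (d : ℕ) (g : R) (hg : g ∈ F d) (h : ℕ → R)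
    (hh : ∀ k, h k ∈ F (k + 1 - d)) (m : ℕ →₀ ℕ) (hm : m ≠ 0) :
    ∃ V : R, (m.prod fun k c => (g * h k) ^ c) = g * V ∧ V ∈ F (Finsupp.weight w1 m - d) ∧
      (∀ k, m = Finsupp.single k 1 → V = h k) ∧
      ((∀ k, m ≠ Finsupp.single k 1) → V ∈ F 1) := by
  classical
  obtain ⟨k₀, hk₀⟩ : ∃ k₀, m k₀ ≠ 0 := by
    by_contra hne
    push Not at hne
    exact hm (Finsupp.ext hne)
  obtain ⟨m', rfl⟩ := exists_add_single m k₀ hk₀
  have hgh : ∀ k, g * h k ∈ F (w1 k) := by
    intro k
    have := hF.mul hg (hh k)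
    exact hF.anti (by change k + 1 ≤ d + (k + 1 - d); omega) this
  have hprod : (m'.prod fun k c => (g * h k) ^ c) ∈ F (Finsupp.weight w1 m') := by
    have h1 := hF.prod_pow_mem w1 (fun k => g * h k) hgh m'.support m'
    have h2 : ∑ i ∈ m'.support, m' i * w1 i = Finsupp.weight w1 m' := by
      rw [Finsupp.weight_apply, Finsupp.sum]
      rfl
    rw [h2] at h1
    exact h1
  refine ⟨h k₀ * (m'.prod fun k c => (g * h k) ^ c), ?_, ?_, ?_, ?_⟩
  · rw [Finsupp.prod_add_index' (by simp) (by intros; rw [pow_add]),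
      Finsupp.prod_single_index (by simp), pow_one]
    ring
  · rw [weight_add_single]
    have := hF.mul (hh k₀) hprod
    refine hF.anti ?_ this
    change Finsupp.weight w1 m' + (k₀ + 1) - d ≤ k₀ + 1 - d + Finsupp.weight w1 m'
    omega
  · intro k hk
    have h1 := congrArg (fun f => f k₀) hk
    simp only [Finsupp.add_apply, Finsupp.single_eq_same] at h1
    have hkk : k = k₀ := by
      by_contra hne
      rw [Finsupp.single_eq_of_ne (Ne.symm hne)] at h1
      omega
    subst hkk
    have hm0 : m' = 0 := by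
      have : m' + Finsupp.single k 1 = 0 + Finsupp.single k 1 := by rw [hk, zero_add]
      exact add_right_cancel this
    rw [hm0, Finsupp.prod_zero_index, mul_one]
  · intro hne
    have hm0 : m' ≠ 0 := by
      rintro rfl
      exact hne k₀ (zero_add _)
    apply Ideal.mul_mem_left
    exact hF.anti (le_weight_of_ne_zero (c := 1) (fun s => Nat.succ_le_succ (Nat.zero_le s)) hm0) hprod

/-- **division of values**: the value of an isobaric polynomial of weight `p+1` at the elements
`g · h_k` is `g · V` with `V ∈ F (p + 1 - d)`; if `p + 1 = d` then `V` is congruent to the linear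
term modulo `F 1` -/
theorem divEval (hF : MulFil F) {S : Type*} [CommRing S] [Algebra S R] (d : ℕ) (g : R)
    (hg : g ∈ F d) (h : ℕ → R) (hh : ∀ k, h k ∈ F (k + 1 - d)) (p : ℕ) (P : MvPolynomial ℕ S)
    (hP : IsWeightedHomogeneous w1 P (p + 1)) :
    ∃ V : R, aeval (fun k => g * h k) P = g * V ∧ V ∈ F (p + 1 - d) ∧
      V - algebraMap S R (coeff (Finsupp.single p 1) P) * h p ∈ F 1 := by
  classical
  have hne : ∀ m ∈ P.support, m ≠ 0 := by
    rintro m hm rfl
    have := hP (mem_support_iff.mp hm)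
    rw [map_zero] at this
    omega
  have ML := divEval_monomial hF d g hg h hh
  choose Vm hVm using ML
  set V : R := ∑ m ∈ P.support.attach, algebraMap S R (coeff m.1 P) * Vm m.1 (hne m.1 m.2) with hV
  refine ⟨V, ?_, ?_, ?_⟩
  · rw [aeval_def, eval₂_eq, hV, Finset.mul_sum, ← Finset.sum_attach]
    apply Finset.sum_congr rfl
    intro m _
    have := (hVm m.1 (hne m.1 m.2)).1
    rw [Finsupp.prod] at this
    rw [this]
    ring
  · rw [hV]
    apply Ideal.sum_mem
    intro m _
    apply Ideal.mul_mem_left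
    have := (hVm m.1 (hne m.1 m.2)).2.1
    rwa [hP (mem_support_iff.mp m.2)] at this
  · have key : V - algebraMap S R (coeff (Finsupp.single p 1) P) * h p =
        ∑ m ∈ P.support.attach, algebraMap S R (coeff m.1 P) *
          (Vm m.1 (hne m.1 m.2) - if m.1 = Finsupp.single p 1 then h p else 0) := by
      have h1 : ∑ m ∈ P.support.attach, algebraMap S R (coeff m.1 P) *
          (if m.1 = Finsupp.single p 1 then h p else 0) =
          algebraMap S R (coeff (Finsupp.single p 1) P) * h p := by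
        rw [Finset.sum_attach P.support
          (fun m => algebraMap S R (coeff m P) * (if m = Finsupp.single p 1 then h p else 0))]
        by_cases hs : Finsupp.single p 1 ∈ P.support
        · rw [Finset.sum_eq_single_of_mem _ hs, if_pos rfl]
          intro b _ hb
          rw [if_neg hb, mul_zero]
        · rw [notMem_support_iff.mp hs, map_zero, zero_mul]
          apply Finset.sum_eq_zero
          intro b hb
          rw [if_neg, mul_zero]
          rintro rfl
          exact hs hb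
      rw [hV, ← h1, ← Finset.sum_sub_distrib]
      apply Finset.sum_congr rfl
      intro m _
      ring
    rw [key]
    apply Ideal.sum_mem
    intro m _
    apply Ideal.mul_mem_left
    by_cases hms : m.1 = Finsupp.single p 1
    · rw [if_pos hms, (hVm m.1 (hne m.1 m.2)).2.2.1 p hms, sub_self]
      exact Ideal.zero_mem _
    · rw [if_neg hms, sub_zero]
      apply (hVm m.1 (hne m.1 m.2)).2.2.2
      intro k hk
      have hw := hP (mem_support_iff.mp m.2)
      rw [hk, Finsupp.weight_single, smul_eq_mul, one_mul] at hw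
      have : k = p := by
        change k + 1 = p + 1 at hw
        omega
      subst this
      exact hms hk

end DivEval

section Series

variable {R : Type u} [CommRing R] {F : ℕ → Ideal R}

/-- the `i`-th coefficient lies in `F (i - d)` -/
def ShGood (F : ℕ → Ideal R) (d : ℕ) (v : PowerSeries R) : Prop :=
  ∀ i, PowerSeries.coeff i v ∈ F (i - d)

theorem ShGood.add {d : ℕ} {v₁ v₂ : PowerSeries R} (h₁ : ShGood F d v₁) (h₂ : ShGood F d v₂) :
    ShGood F d (v₁ + v₂) := fun i => by
  rw [map_add]; exact Ideal.add_mem _ (h₁ i) (h₂ i)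

theorem ShGood.C_mul_mul (hF : MulFil F) {d : ℕ} {g : R} (hg : g ∈ F d) {v₁ v₂ : PowerSeries R}
    (h₁ : ShGood F d v₁) (h₂ : ShGood F d v₂) : ShGood F d (PowerSeries.C g * (v₁ * v₂)) := by
  intro p
  rw [PowerSeries.coeff_C_mul, PowerSeries.coeff_mul, Finset.mul_sum]
  apply Ideal.sum_mem
  intro ij hij
  have hij' : ij.1 + ij.2 = p := Finset.HasAntidiagonal.mem_antidiagonal.mp hij
  have := hF.mul hg (hF.mul (h₁ ij.1) (h₂ ij.2))
  exact hF.anti (by omega) this

theorem one_add_mul_one_add (g : R) (v₁ v₂ : PowerSeries R) :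
    (1 + PowerSeries.C g * v₁) * (1 + PowerSeries.C g * v₂) =
      1 + PowerSeries.C g * (v₁ + v₂ + PowerSeries.C g * (v₁ * v₂)) := by ring

end Series

section GammaAdd

open Groth.Agent.Lib.Helper4

variable {R : Type u} [CommRing R] [LambdaOps R] {F : ℕ → Ideal R}

/-- shift a sequence by one, with `0` in degree `0` -/
def sh (V : ℕ → R) : ℕ → R := fun i => if i = 0 then 0 else V (i - 1)

theorem gammaSeries_eq_of_div (g z : R) (V : ℕ → R) (h : ∀ p, gamma (p + 1) z = g * V p) :
    gammaSeries z = 1 + PowerSeries.C g * PowerSeries.mk (sh V) := by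
  refine PowerSeries.ext fun n => ?_
  rw [coeff_gammaSeries, map_add, PowerSeries.coeff_C_mul, PowerSeries.coeff_mk, sh]
  rcases n with _ | p
  · rw [gamma_zero, if_pos rfl, mul_zero, add_zero, PowerSeries.coeff_zero_eq_constantCoeff,
      map_one]
  · rw [if_neg (Nat.succ_ne_zero p), PowerSeries.coeff_one, if_neg (Nat.succ_ne_zero p), zero_add,
      Nat.add_sub_cancel, h p]

omit [LambdaOps R] in
theorem shGood_sh {d : ℕ} (V : ℕ → R) (hV : ∀ p, V p ∈ F (p + 1 - d)) :
    ShGood F d (PowerSeries.mk (sh V)) := by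
  intro i
  rw [PowerSeries.coeff_mk, sh]
  rcases i with _ | p
  · rw [if_pos rfl]; exact Ideal.zero_mem _
  · rw [if_neg (Nat.succ_ne_zero p), Nat.add_sub_cancel]; exact hV p

/-- **sums**: if `γ^{p+1} z₁ = g V₁ p` and `γ^{p+1} z₂ = g V₂ p` with `V_i p ∈ F (p+1-d)` then
`γ^{p+1}(z₁ + z₂) = g W` with `W ∈ F (p+1-d)` and `W ≡ V₁ p + V₂ p` modulo `g` -/
theorem gamma_add_of_div (hF : MulFil F) {d : ℕ} {g : R} (hg : g ∈ F d) (z₁ z₂ : R)
    (V₁ V₂ : ℕ → R) (h₁ : ∀ p, gamma (p + 1) z₁ = g * V₁ p) (h₂ : ∀ p, gamma (p + 1) z₂ = g * V₂ p)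
    (hV₁ : ∀ p, V₁ p ∈ F (p + 1 - d)) (hV₂ : ∀ p, V₂ p ∈ F (p + 1 - d)) (p : ℕ) :
    ∃ W : R, gamma (p + 1) (z₁ + z₂) = g * W ∧ W ∈ F (p + 1 - d) ∧ W - V₁ p - V₂ p ∈ F d := by
  set v₁ := PowerSeries.mk (sh V₁) with hv₁
  set v₂ := PowerSeries.mk (sh V₂) with hv₂
  have g₁ : ShGood F d v₁ := shGood_sh V₁ hV₁
  have g₂ : ShGood F d v₂ := shGood_sh V₂ hV₂
  have hser : gammaSeries (z₁ + z₂) =
      1 + PowerSeries.C g * (v₁ + v₂ + PowerSeries.C g * (v₁ * v₂)) := by
    rw [gammaSeries_add, gammaSeries_eq_of_div g z₁ V₁ h₁, gammaSeries_eq_of_div g z₂ V₂ h₂,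
      one_add_mul_one_add]
  refine ⟨PowerSeries.coeff (p + 1) (v₁ + v₂ + PowerSeries.C g * (v₁ * v₂)), ?_, ?_, ?_⟩
  · rw [← coeff_gammaSeries, hser, map_add, PowerSeries.coeff_one, if_neg (Nat.succ_ne_zero p),
      zero_add, PowerSeries.coeff_C_mul]
  · exact ((g₁.add g₂).add (ShGood.C_mul_mul hF hg g₁ g₂)) (p + 1)
  · have e1 : PowerSeries.coeff (p + 1) v₁ = V₁ p := by
      rw [hv₁, PowerSeries.coeff_mk, sh, if_neg (Nat.succ_ne_zero p), Nat.add_sub_cancel]
    have e2 : PowerSeries.coeff (p + 1) v₂ = V₂ p := by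
      rw [hv₂, PowerSeries.coeff_mk, sh, if_neg (Nat.succ_ne_zero p), Nat.add_sub_cancel]
    rw [map_add, map_add, e1, e2, PowerSeries.coeff_C_mul]
    have : V₁ p + V₂ p + g * PowerSeries.coeff (p + 1) (v₁ * v₂) - V₁ p - V₂ p =
        g * PowerSeries.coeff (p + 1) (v₁ * v₂) := by ring
    rw [this]
    exact Ideal.mul_mem_right _ _ hg

end GammaAdd

end Groth.Agent.R2.H39.LamRank
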