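import Groth.Prelude.Def_LambdaSp
import Groth.Agent.Lib.Helper4Lambda
import Groth.Agent.R2.H39LamFil
import Groth.Agent.R2.H39LamGammaPoly
import Groth.Agent.R2.H39LamModel
import Groth.Agent.R2.H39LamWeight
import Groth.Agent.R2.H39LamBinom
import Groth.Agent.R2.H39LamGFil
import Groth.Agent.R2.H39LamAdams
import Groth.Agent.R2.H39LamLead
import Groth.Agent.R2.H39LamChern
import Groth.Agent.R2.H39LamChern2
import Groth.Agent.R2.H39LamRankA
import Groth.Agent.R2.H39LamRankB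
import Groth.Agent.R2.H39LamRankC
import Groth.Agent.R2.H39LamRankD
import Mathlib

/-!
# helper39: the quotient `γ^p(x g)/g` for `g = γ^d u`, `u` of rank `d`, in an augmented λ-algebra

* `coeff_Ug_mul_cc`: the leading coefficient of the universal quotient, computed in a polynomial model.
* `exists_div`: for arbitrary `x`, `γ^{p+1}(x g) = g W` with `W ∈ Fil^{p+1-d}`, and `W ≡ (-1)^(d-1) (d-1)! x`
  modulo `Fil^1` when `p + 1 = d`.
* `div_lead`: for `x ∈ Fil^{i+1}`, `γ^{d+i+1}(x g) = g W` with `W ≡ (-1)^(d+i) (d+i)! x` modulo `Fil^{i+2}`.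
-/

set_option autoImplicit false
universe u v
open MvPolynomial Finset LambdaRing
open Groth.Agent.Lib.Helper4
open Groth.Agent.R2.H39.LamFil Groth.Agent.R2.H39.LamGP Groth.Agent.R2.H39.LamModel
  Groth.Agent.R2.H39.LamWt Groth.Agent.R2.H39.LamGFil Groth.Agent.R2.H39.LamLead
  Groth.Agent.R2.H39.LamAdams Groth.Agent.R2.H39.LamChern Groth.Agent.R2.H39.LamBinom

namespace Groth.Agent.R2.H39.LamRank

/-! ### division by variables in the polynomial models -/

section ModelDiv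

variable {σ : Type}

theorem X_mul_mem_Dfil {n : ℕ} (i : σ) {f : MvPolynomial σ ℚ} (h : X i * f ∈ Dfil σ (n + 1)) :
    f ∈ Dfil σ n := by
  intro m hm
  have h1 : Finsupp.single i 1 + m ∈ (X i * f).support := by
    rw [mem_support_iff, coeff_X_mul]
    exact mem_support_iff.mp hm
  have h2 := h _ h1
  rw [map_add, Finsupp.degree_single] at h2
  omega

theorem prod_X_mul_mem_Dfil [DecidableEq σ] (t : Finset σ) {n : ℕ} {f : MvPolynomial σ ℚ}
    (h : (∏ i ∈ t, X i) * f ∈ Dfil σ (n + t.card)) : f ∈ Dfil σ n := by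
  induction t using Finset.induction_on generalizing n with
  | empty => simpa using h
  | insert a t ha ih =>
    rw [Finset.prod_insert ha, Finset.card_insert_of_notMem ha, mul_assoc] at h
    have h1 : (∏ i ∈ t, X i) * f ∈ Dfil σ (n + t.card) := by
      apply X_mul_mem_Dfil a
      rwa [add_assoc]
    exact ih h1

theorem C_mem_Dfil_one {q : ℚ} (h : (C q : MvPolynomial σ ℚ) ∈ Dfil σ 1) : q = 0 := by
  classical
  by_contra hq
  have h1 : (0 : σ →₀ ℕ) ∈ (C q : MvPolynomial σ ℚ).support := by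
    rw [mem_support_iff, coeff_C, if_pos rfl]
    exact hq
  have := h _ h1
  rw [map_zero] at this
  omega

end ModelDiv

/-! ### the leading coefficient -/

theorem coeff_Ug_mul_cc (e i : ℕ) :
    coeff (Finsupp.single (Sum.inl i) 1) (Ug e (e + 1 + i + 1)) * cc (i + 1) = cc (e + 1 + i + 1) := by
  classical
  set c := coeff (Finsupp.single (Sum.inl i) 1) (Ug e (e + 1 + i + 1)) with hc
  let σ := Fin (i + 1) ⊕ Fin (e + 1)
  have hS := isSpecial_model σ
  have hF : MulFil (Dfil σ) := mulFil_Dfil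
  set x₀ : MvPolynomial σ ℚ := xm (i + 1) (e + 1) with hx₀
  set u₀ : MvPolynomial σ ℚ := um (i + 1) (e + 1) with hu₀
  set x₁ := gamma (i + 1) x₀ with hx₁
  set g := gamma (e + 1) u₀ with hg
  have hx₀g : GoodElt (Dfil σ) x₀ := goodElt_xm _ _
  have hu₀g : GoodElt (Dfil σ) u₀ := goodElt_um _ _
  have hZx : Z (Dfil σ) (i + 1) x₁ := Z_gamma hS hF hx₀g i
  have hZg : Z (Dfil σ) (e + 1) g := Z_gamma hS hF hu₀g e
  have hrank : ∀ k, e + 1 ≤ k → gamma (k + 1) u₀ = 0 := fun k hk => gamma_um_eq_zero _ _ k hk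
  -- the quotient in the model
  set y := evg2 x₁ u₀ (Ug e (e + 1 + i + 1)) with hy
  have hdiv : gamma (e + 1 + i + 1) (x₁ * g) = g * y := gamma_mul_gamma_eq hS e (e + 1 + i) x₁ u₀ hrank
  -- first congruence
  have h1 : y - ((c : ℤ) : MvPolynomial σ ℚ) * gamma (i + 1) x₁ ∈ Dfil σ (i + 2) := by
    apply evg2_lead hF i _ _ (Ug_exists_inl e (e + 1 + i)) hZx.mem hu₀g
    intro m hm
    have := Ug_wt e (e + 1 + i + 1) m hm
    omega
  have h2 : gamma (i + 1) x₁ - ((cc (i + 1) : ℤ) : MvPolynomial σ ℚ) * x₁ ∈ Dfil σ (i + 2) := hZx.lead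
  have h3 : y - ((c * cc (i + 1) : ℤ) : MvPolynomial σ ℚ) * x₁ ∈ Dfil σ (i + 2) := by
    have e3 : y - ((c * cc (i + 1) : ℤ) : MvPolynomial σ ℚ) * x₁ =
        (y - ((c : ℤ) : MvPolynomial σ ℚ) * gamma (i + 1) x₁) +
        ((c : ℤ) : MvPolynomial σ ℚ) *
          (gamma (i + 1) x₁ - ((cc (i + 1) : ℤ) : MvPolynomial σ ℚ) * x₁) := by
      push_cast; ring
    rw [e3]
    exact Ideal.add_mem _ h1 (Ideal.mul_mem_left _ _ h2)
  -- second congruence
  have hZm : Z (Dfil σ) (i + e + 2) (x₁ * g) := Z_mul hS hF i e hZx hZg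
  have h4 : g * (y - ((cc (e + 1 + i + 1) : ℤ) : MvPolynomial σ ℚ) * x₁) ∈ Dfil σ (i + e + 3) := by
    have := hZm.lead
    unfold Zlead at this
    rw [show i + e + 2 = e + 1 + i + 1 by ring, hdiv] at this
    have e4 : g * (y - ((cc (e + 1 + i + 1) : ℤ) : MvPolynomial σ ℚ) * x₁) =
        g * y - ((cc (e + 1 + i + 1) : ℤ) : MvPolynomial σ ℚ) * (x₁ * g) := by ring
    rw [e4]
    rwa [show e + 1 + i + 1 + 1 = i + e + 3 by ring] at this
  have hgprod : g = ∏ j ∈ (univ : Finset (Fin (e + 1))).map ⟨Sum.inr, Sum.inr_injective⟩,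
      (X j : MvPolynomial σ ℚ) := by
    rw [hg, hu₀, um, gamma_sum_X univ Sum.inr (e + 1)]
    have : powersetCard (e + 1) (univ : Finset (Fin (e + 1))) = {univ} := by
      have := Finset.powersetCard_self (univ : Finset (Fin (e + 1)))
      rwa [Finset.card_univ, Fintype.card_fin] at this
    rw [this, Finset.sum_singleton, Finset.prod_map]
    rfl
  have h5 : y - ((cc (e + 1 + i + 1) : ℤ) : MvPolynomial σ ℚ) * x₁ ∈ Dfil σ (i + 2) := by
    apply prod_X_mul_mem_Dfil ((univ : Finset (Fin (e + 1))).map ⟨Sum.inr, Sum.inr_injective⟩)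
    rw [← hgprod, Finset.card_map, Finset.card_univ, Fintype.card_fin]
    rwa [show i + 2 + (e + 1) = i + e + 3 by ring]
  -- compare
  have h6 : ((c * cc (i + 1) - cc (e + 1 + i + 1) : ℤ) : MvPolynomial σ ℚ) * x₁ ∈ Dfil σ (i + 2) := by
    have e6 : ((c * cc (i + 1) - cc (e + 1 + i + 1) : ℤ) : MvPolynomial σ ℚ) * x₁ =
        (y - ((cc (e + 1 + i + 1) : ℤ) : MvPolynomial σ ℚ) * x₁) -
        (y - ((c * cc (i + 1) : ℤ) : MvPolynomial σ ℚ) * x₁) := by
      push_cast; ring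
    rw [e6]
    exact Ideal.sub_mem _ h5 h3
  have hxprod : x₁ = ∏ j ∈ (univ : Finset (Fin (i + 1))).map ⟨Sum.inl, Sum.inl_injective⟩,
      (X j : MvPolynomial σ ℚ) := by
    rw [hx₁, hx₀, xm, gamma_sum_X univ Sum.inl (i + 1)]
    have : powersetCard (i + 1) (univ : Finset (Fin (i + 1))) = {univ} := by
      have := Finset.powersetCard_self (univ : Finset (Fin (i + 1)))
      rwa [Finset.card_univ, Fintype.card_fin] at this
    rw [this, Finset.sum_singleton, Finset.prod_map]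
    rfl
  have h7 : (C ((c * cc (i + 1) - cc (e + 1 + i + 1) : ℤ) : ℚ) : MvPolynomial σ ℚ) ∈ Dfil σ 1 := by
    apply prod_X_mul_mem_Dfil ((univ : Finset (Fin (i + 1))).map ⟨Sum.inl, Sum.inl_injective⟩)
    rw [← hxprod, Finset.card_map, Finset.card_univ, Fintype.card_fin, mul_comm]
    have e7 : (C ((c * cc (i + 1) - cc (e + 1 + i + 1) : ℤ) : ℚ) : MvPolynomial σ ℚ) =
        ((c * cc (i + 1) - cc (e + 1 + i + 1) : ℤ) : MvPolynomial σ ℚ) := by
      simp
    rw [e7, show 1 + (i + 1) = i + 2 by ring]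
    exact h6
  have h8 := C_mem_Dfil_one h7
  have h9 : c * cc (i + 1) - cc (e + 1 + i + 1) = 0 := by exact_mod_cast h8
  exact sub_eq_zero.mp h9

/-! ### the main statements -/

section Abstract

variable {R : Type u} [CommRing R] [LambdaOps R] {F : ℕ → Ideal R}

theorem evg2_sub_coeff_zero_mem_one (hF : MulFil F) (U : MvPolynomial (ℕ ⊕ ℕ) ℤ) {x u : R}
    (hx : GoodElt F x) (hu : GoodElt F u) : evg2 x u U - ((coeff 0 U : ℤ) : R) ∈ F 1 := by
  classical
  have e1 : evg2 x u U - ((coeff 0 U : ℤ) : R) = evg2 x u (U - C (coeff 0 U)) := by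
    rw [map_sub, evg2, aeval_C]
    simp
  rw [e1]
  apply evg2_mem_of_wt hF 1 _ _ hx hu
  intro m hm
  have hm0 : m ≠ 0 := by
    rintro rfl
    rw [mem_support_iff, coeff_sub, coeff_C, if_pos rfl, sub_self] at hm
    exact hm rfl
  apply le_weight_of_ne_zero (c := 1) _ hm0
  intro s
  rcases s with k | k <;> exact Nat.succ_le_succ (Nat.zero_le k)

end Abstract

section Main

variable {K : Type u} [CommRing K] [LambdaOps K] [BinomialRing K]
  {A : Type v} [CommRing A] [LambdaOps A] [Algebra K A]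

/-- **the quotient** `γ^{p+1}(x g)/g` for arbitrary `x`: it lies in `Fil^{p+1-d}`, and for `p + 1 = d` it
is congruent to `(-1)^(d-1) (d-1)! x` modulo `Fil^1` -/
theorem exists_div (hKb : IsBinomial K) (hA : IsSpecial A) (ε : A →ₐ[K] K)
    (hε : IsAugLambdaAlg K A ε) (e : ℕ) (u : A) (hu0 : ε u = 0)
    (hrank : ∀ k, e + 1 ≤ k → gamma (k + 1) u = 0) (x : A) (p : ℕ) :
    ∃ W : A, gamma (p + 1) (x * gamma (e + 1) u) = gamma (e + 1) u * W ∧
      W ∈ gammaFil (ε : A →+* K) (p + 1 - (e + 1)) ∧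
      (p = e → W - ((cc (e + 1) : ℤ) : A) * x ∈ gammaFil (ε : A →+* K) 1) := by
  classical
  set F := gammaFil (ε : A →+* K) with hFdef
  have hF : MulFil F := mulFil_gammaFil (ε : A →+* K)
  set g := gamma (e + 1) u with hg
  have hu0' : (ε : A →+* K) u = 0 := hu0
  have hugood : GoodElt F u := fun i => gamma_mem_gammaFil _ hu0' i
  have hgF : g ∈ F (e + 1) := hugood (e + 1)
  set n := ε x with hn
  set a := x - algebraMap K A n with ha
  have ha0 : (ε : A →+* K) a = 0 := by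
    change ε (x - algebraMap K A n) = 0
    rw [map_sub, AlgHom.commutes]
    simp [hn]
  have hagood : GoodElt F a := fun i => gamma_mem_gammaFil _ ha0 i
  have hxsplit : x * g = algebraMap K A n * g + a * g := by rw [ha]; ring
  -- the augmentation-zero part
  set V₂ : ℕ → A := fun q => evg2 a u (Ug e (q + 1)) with hV₂
  have h₂ : ∀ q, gamma (q + 1) (a * g) = g * V₂ q := fun q => gamma_mul_gamma_eq hA e q a u hrank
  have hV₂F : ∀ q, V₂ q ∈ F (q + 1 - (e + 1)) := fun q =>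
    evg2_mem_of_wt hF _ _ (Ug_wt e (q + 1)) hagood hugood
  -- the γ-operations of g
  set h : ℕ → A := fun k => evg2 0 u (Hg e k) with hh
  have hhF : ∀ k, h k ∈ F (k + 1 - (e + 1)) := fun k =>
    evg2_mem_of_wt hF _ _ (Hg_wt e k) (goodElt_zero hF) hugood
  have hgam : ∀ k, gamma (k + 1) g = g * h k := fun k => gamma_gamma_eq hA e k 0 u hrank
  -- the scalar part
  have hscal : ∀ q, ∃ V : A, gamma (q + 1) (algebraMap K A n * g) = g * V ∧
      V ∈ F (q + 1 - (e + 1)) ∧ V - algebraMap K A n * h q ∈ F 1 := by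
    intro q
    obtain ⟨V, hV1, hV2, hV3⟩ := divEval (S := K) hF (e + 1) g hgF h hhF q (phi K n (Pmix (q + 1)))
      (phi_Pmix_isWeightedHomogeneous K n (q + 1))
    refine ⟨V, ?_, hV2, ?_⟩
    · rw [gamma_mul_eq_evmix hA, evmix_algebraMap hKb hε.isLambdaAlg, ← hV1]
      have hfun : (fun j => gamma (j + 1) g) = fun k => g * h k := funext hgam
      rw [hfun]
    · rwa [coeff_phi_Pmix] at hV3
  choose V₁ hV₁ using hscal
  obtain ⟨W, hW1, hW2, hW3⟩ := gamma_add_of_div hF hgF (algebraMap K A n * g) (a * g) V₁ V₂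
    (fun q => (hV₁ q).1) h₂ (fun q => (hV₁ q).2.1) hV₂F p
  refine ⟨W, ?_, hW2, ?_⟩
  · rw [hxsplit]; exact hW1
  · rintro rfl
    have t1 : W - V₁ p - V₂ p ∈ F 1 := hF.anti (Nat.succ_le_succ (Nat.zero_le p)) hW3
    have t2 : V₁ p - algebraMap K A n * h p ∈ F 1 := (hV₁ p).2.2
    have t3 : h p - ((cc (p + 1) : ℤ) : A) ∈ F 1 := by
      have := evg2_sub_coeff_zero_mem_one hF (Hg p p) (goodElt_zero hF) hugood
      rwa [coeff_zero_Hg] at this
    have t4 : V₂ p ∈ F 1 := by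
      apply evg2_mem_one hF _ (Ug_exists_inl p p)
      intro k
      exact hF.anti (Nat.succ_le_succ (Nat.zero_le k)) (hagood (k + 1))
    have t5 : a ∈ F 1 := hagood.mem_one
    have key : W - ((cc (p + 1) : ℤ) : A) * x =
        (W - V₁ p - V₂ p) + (V₁ p - algebraMap K A n * h p) +
        algebraMap K A n * (h p - ((cc (p + 1) : ℤ) : A)) + V₂ p - ((cc (p + 1) : ℤ) : A) * a := by
      rw [ha]; ring
    rw [key]
    exact Ideal.sub_mem _ (Ideal.add_mem _ (Ideal.add_mem _ (Ideal.add_mem _ t1 t2)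
      (Ideal.mul_mem_left _ _ t3)) t4) (Ideal.mul_mem_left _ _ t5)

/-- **the quotient** `γ^{d+i+1}(x g)/g` for `x ∈ Fil^{i+1}`: it is congruent to `(-1)^(d+i) (d+i)! x`
modulo `Fil^{i+2}` -/
theorem div_lead (hKb : IsBinomial K) (hA : IsSpecial A) (ε : A →ₐ[K] K)
    (hε : IsAugLambdaAlg K A ε) (e : ℕ) (u : A) (hu0 : ε u = 0)
    (hrank : ∀ k, e + 1 ≤ k → gamma (k + 1) u = 0) (i : ℕ) (x : A)
    (hx : x ∈ gammaFil (ε : A →+* K) (i + 1)) :
    ∃ W : A, gamma (e + 1 + i + 1) (x * gamma (e + 1) u) = gamma (e + 1) u * W ∧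
      W - ((cc (e + 1 + i + 1) : ℤ) : A) * x ∈ gammaFil (ε : A →+* K) (i + 2) := by
  set F := gammaFil (ε : A →+* K) with hFdef
  have hF : MulFil F := mulFil_gammaFil (ε : A →+* K)
  have hu0' : (ε : A →+* K) u = 0 := hu0
  have hugood : GoodElt F u := fun i => gamma_mem_gammaFil _ hu0' i
  have hZx : Z F (i + 1) x := Z_of_mem_gammaFil K A hKb hA ε hε i x hx
  refine ⟨evg2 x u (Ug e (e + 1 + i + 1)), gamma_mul_gamma_eq hA e (e + 1 + i) x u hrank, ?_⟩
  set c := coeff (Finsupp.single (Sum.inl i) 1) (Ug e (e + 1 + i + 1)) with hc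
  have h1 : evg2 x u (Ug e (e + 1 + i + 1)) - ((c : ℤ) : A) * gamma (i + 1) x ∈ F (i + 2) := by
    apply evg2_lead hF i _ _ (Ug_exists_inl e (e + 1 + i)) hZx.mem hugood
    intro m hm
    have := Ug_wt e (e + 1 + i + 1) m hm
    omega
  have h2 : gamma (i + 1) x - ((cc (i + 1) : ℤ) : A) * x ∈ F (i + 2) := hZx.lead
  have e3 : evg2 x u (Ug e (e + 1 + i + 1)) - ((cc (e + 1 + i + 1) : ℤ) : A) * x =
      (evg2 x u (Ug e (e + 1 + i + 1)) - ((c : ℤ) : A) * gamma (i + 1) x) +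
      ((c : ℤ) : A) * (gamma (i + 1) x - ((cc (i + 1) : ℤ) : A) * x) := by
    rw [← coeff_Ug_mul_cc e i, ← hc]
    push_cast; ring
  rw [e3]
  exact Ideal.add_mem _ h1 (Ideal.mul_mem_left _ _ h2)

end Main

end Groth.Agent.R2.H39.LamRank
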