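import Groth.Prelude.Def_LambdaSp
import Groth.Agent.R2.H39LamFil
import Groth.Agent.R2.H39LamGammaPoly
import Groth.Agent.R2.H39LamWeight
import Groth.Agent.R2.H39LamBinom
import Groth.Agent.R2.H39LamGFil
import Mathlib

/-!
# helper39: the γ-filtration of a λ-algebra generated by the γ-operations of one element
-/

set_option autoImplicit false
universe u v
open LambdaRing Finset
open Groth.Agent.R2.H39.LamFil Groth.Agent.R2.H39.LamGP Groth.Agent.R2.H39.LamWt
  Groth.Agent.R2.H39.LamBinom Groth.Agent.R2.H39.LamGFil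

namespace Groth.Agent.R2.H39.LamTrunc

theorem gammaFil_eq_span_monomials
    (K : Type u) [CommRing K] [LambdaOps K] [BinomialRing K] (hKb : IsBinomial K)
    (B : Type v) [CommRing B] [LambdaOps B] [Algebra K B] (hB : IsSpecial B)
    (ε : B →ₐ[K] K) (hε : IsAugLambdaAlg K B ε)
    (n : ℕ) (x : B) (hx : ε x = 0) (hγ : ∀ k : ℕ, n < k → gamma k x = 0)
    (hgen : Algebra.adjoin K (Set.range fun j : Fin n => gamma ((j : ℕ) + 1) x) = ⊤) (k : ℕ) :
    gammaFil (ε : B →+* K) k =
      Ideal.span {m : B | ∃ e : Fin n → ℕ, k ≤ ∑ j : Fin n, ((j : ℕ) + 1) * e j ∧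
        m = ∏ j : Fin n, gamma ((j : ℕ) + 1) x ^ e j} := by
  classical
  set g : Fin n → B := fun j => gamma ((j : ℕ) + 1) x with hg
  set W : ℕ → Ideal B := fun k => Ideal.span {m : B | ∃ e : Fin n → ℕ,
    k ≤ ∑ j : Fin n, ((j : ℕ) + 1) * e j ∧ m = ∏ j : Fin n, g j ^ e j} with hW
  have hWmul : MulFil W := by
    refine ⟨?_, ?_, ?_⟩
    · rw [Ideal.eq_top_iff_one]
      exact Ideal.subset_span ⟨0, by simp, by simp⟩
    · intro m n' h
      apply Ideal.span_mono
      rintro y ⟨e, he, rfl⟩
      exact ⟨e, h.trans he, rfl⟩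
    · intro i j a b ha hb
      have h1 : a * b ∈ W i * W j := Ideal.mul_mem_mul ha hb
      refine (?_ : W i * W j ≤ W (i + j)) h1
      simp only [hW]
      rw [Ideal.span_mul_span']
      apply Ideal.span_le.mpr
      rintro y ⟨a, ⟨e₁, h₁, rfl⟩, b, ⟨e₂, h₂, rfl⟩, rfl⟩
      apply Ideal.subset_span
      refine ⟨e₁ + e₂, ?_, ?_⟩
      · simp only [Pi.add_apply, mul_add, Finset.sum_add_distrib]; omega
      · simp only [Pi.add_apply, pow_add, Finset.prod_mul_distrib]
  have hxW : GoodElt W x := by
    intro p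
    rcases Nat.eq_zero_or_pos p with rfl | hp
    · exact hWmul.mem_zero _
    · by_cases hpn : p ≤ n
      · apply Ideal.subset_span
        refine ⟨Pi.single (⟨p - 1, by omega⟩ : Fin n) 1, ?_, ?_⟩
        · rw [Finset.sum_eq_single (⟨p - 1, by omega⟩ : Fin n)]
          · simp; omega
          · intro j _ hj; simp [hj]
          · intro h; exact absurd (Finset.mem_univ _) h
        · rw [Finset.prod_eq_single (⟨p - 1, by omega⟩ : Fin n)]
          · simp only [Pi.single_eq_same, pow_one, hg]
            congr 1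
            omega
          · intro j _ hj; simp [hj]
          · intro h; exact absurd (Finset.mem_univ _) h
      · rw [hγ p (by omega)]; exact Ideal.zero_mem _
  have hgW : ∀ j, GoodElt W (g j) := fun j => goodElt_gamma hB hWmul hxW j
  have hεg : ∀ j, ε (g j) = 0 := by
    intro j
    have := map_gamma (ε : B →+* K) hε.map_lam ((j : ℕ) + 1) x
    rw [RingHom.coe_coe] at this
    rw [hg, this, hx, gamma_succ_zero]
  have hker : ∀ z : B, (ε : B →+* K) z = 0 → GoodElt W z := by
    intro z hz
    have hmem : z ∈ (⊤ : Subalgebra K B) := trivial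
    rw [← hgen, Algebra.adjoin_range_eq_range_aeval] at hmem
    obtain ⟨p, rfl⟩ := hmem
    have hc : MvPolynomial.constantCoeff p = 0 := by
      have h1 := MvPolynomial.comp_aeval_apply (f := g) ε p
      have h2 : (fun i => ε (g i)) = (0 : Fin n → K) := funext hεg
      rw [h2, MvPolynomial.aeval_zero] at h1
      have h3 : ε ((MvPolynomial.aeval g) p) = 0 := hz
      rw [h1] at h3
      simpa using h3
    change GoodElt W (MvPolynomial.aeval g p)
    rw [MvPolynomial.aeval_def, MvPolynomial.eval₂_eq]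
    apply goodElt_sum hWmul
    intro d hd
    have hd0 : d ≠ 0 := by
      rintro rfl
      rw [MvPolynomial.mem_support_iff] at hd
      exact hd hc
    apply goodElt_algebraMap_mul hKb hε.isLambdaAlg hB hWmul
    apply goodElt_prod hB hWmul
    · exact Finsupp.support_nonempty_iff.mpr hd0
    · intro j hj
      obtain ⟨c, hc'⟩ := Nat.exists_eq_succ_of_ne_zero (Finsupp.mem_support_iff.mp hj)
      rw [hc']
      exact goodElt_pow hB hWmul (hgW j) c
  apply le_antisymm
  · exact gammaFil_le_of_goodElt _ hWmul hker k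
  · apply Ideal.span_le.mpr
    rintro y ⟨e, he, rfl⟩
    have hx' : (ε : B →+* K) x = 0 := hx
    have h1 := (mulFil_gammaFil (ε : B →+* K)).prod_pow_mem (fun j : Fin n => (j : ℕ) + 1) g
      (fun j => gamma_mem_gammaFil _ hx' _) univ e
    refine (mulFil_gammaFil _).anti ?_ h1
    refine he.trans (le_of_eq ?_)
    apply Finset.sum_congr rfl
    intro j _
    ring

end Groth.Agent.R2.H39.LamTrunc
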