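import Groth.Agent.Lib.Helper4LambdaSplit
import Groth.Agent.R2.H39LamModel
import Mathlib

/-!
# helper39: the splitting property implies that a λ-ring is special

For a λ-ring `K` with positive structure `P` having the splitting property (`HasSplitting K P`), the three
families of identities of `LambdaRing.IsSpecial K` hold.  Proof: after an extension the elements involved are
integral combinations of line elements `u_i`; the subring `ℤ[u_i - 1]` is the image of `ℤ[X_i]`, which is a
λ-stable integral form of the rational model `ℚ[X_i]` of `H39LamModel` (where the `1 + X_i` are line elements),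
and the model is special.
-/

set_option autoImplicit false
universe u
open MvPolynomial Finset LambdaRing
open Groth.Agent.Lib.Helper4 Groth.Agent.R2.H39.LamModel

namespace Groth.Agent.R2.H39.SplitSpecial

section Rel

variable {L : Type u} [CommRing L] [LambdaOps L] {σ : Type} (u : σ → L)

/-- evaluation `X_i ↦ u_i - 1` -/
noncomputable def ev : MvPolynomial σ ℤ →ₐ[ℤ] L := aeval (fun i => u i - 1)

/-- `ℤ[X] → ℚ[X]` -/
noncomputable def iota (σ : Type) : MvPolynomial σ ℤ →+* MvPolynomial σ ℚ :=
  MvPolynomial.map (Int.castRingHom ℚ)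

theorem iota_injective : Function.Injective (iota σ) :=
  MvPolynomial.map_injective _ Int.cast_injective

/-- `f` has `λ`-series defined over `ℤ[X]`, compatibly in the model and in `L` -/
def Rel (f : MvPolynomial σ ℤ) : Prop :=
  ∃ G : PowerSeries (MvPolynomial σ ℤ), PowerSeries.map (iota σ) G = lamSeries (iota σ f) ∧
    PowerSeries.map (ev u : MvPolynomial σ ℤ →+* L) G = lamSeries (ev u f)

theorem rel_zero : Rel u (0 : MvPolynomial σ ℤ) :=
  ⟨1, by rw [map_one, map_zero, lamSeries_zero], by rw [map_one, map_zero, lamSeries_zero]⟩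

theorem rel_add {f g : MvPolynomial σ ℤ} (hf : Rel u f) (hg : Rel u g) : Rel u (f + g) := by
  obtain ⟨F, hF1, hF2⟩ := hf
  obtain ⟨G, hG1, hG2⟩ := hg
  exact ⟨F * G, by rw [map_mul, hF1, hG1, map_add, lamSeries_add],
    by rw [map_mul, hF2, hG2, map_add, lamSeries_add]⟩

theorem rel_neg {f : MvPolynomial σ ℤ} (hf : Rel u f) : Rel u (-f) := by
  obtain ⟨F, hF1, hF2⟩ := hf
  have h0 : PowerSeries.constantCoeff F = 1 := by
    apply iota_injective (σ := σ)
    rw [← PowerSeries.coeff_zero_eq_constantCoeff_apply, ← PowerSeries.coeff_map, hF1, coeff_lamSeries,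
      LambdaOps.lam_zero, map_one]
  have hFH : F * F.invOfUnit 1 = 1 := PowerSeries.mul_invOfUnit F 1 (by simpa using h0)
  refine ⟨F.invOfUnit 1, ?_, ?_⟩
  · have h1 := congrArg (PowerSeries.map (iota σ)) hFH
    rw [map_mul, map_one, hF1] at h1
    have h2 := lamSeries_neg_mul (iota σ f)
    rw [map_neg]
    calc PowerSeries.map (iota σ) (F.invOfUnit 1)
        = (lamSeries (-(iota σ f)) * lamSeries (iota σ f)) * PowerSeries.map (iota σ) (F.invOfUnit 1) := by
          rw [h2, one_mul]
      _ = lamSeries (-(iota σ f)) := by rw [mul_assoc, h1, mul_one]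
  · have h1 := congrArg (PowerSeries.map (ev u : MvPolynomial σ ℤ →+* L)) hFH
    rw [map_mul, map_one, hF2] at h1
    have h2 := lamSeries_neg_mul (ev u f)
    rw [map_neg]
    calc PowerSeries.map (ev u : MvPolynomial σ ℤ →+* L) (F.invOfUnit 1)
        = (lamSeries (-(ev u f)) * lamSeries (ev u f)) *
            PowerSeries.map (ev u : MvPolynomial σ ℤ →+* L) (F.invOfUnit 1) := by
          rw [h2, one_mul]
      _ = lamSeries (-(ev u f)) := by rw [mul_assoc, h1, mul_one]

theorem rel_zsmul {f : MvPolynomial σ ℤ} (hf : Rel u f) (c : ℤ) : Rel u (c • f) := by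
  induction c using Int.induction_on with
  | zero => rw [zero_smul]; exact rel_zero u
  | succ n ih => rw [add_smul, one_smul]; exact rel_add u ih hf
  | pred n ih => rw [sub_smul, one_smul, sub_eq_add_neg]; exact rel_add u ih (rel_neg u hf)

theorem IsLineM.pow' {v : MvPolynomial σ ℚ} (hv : IsLineM σ v) (n : ℕ) : IsLineM σ (v ^ n) := by
  induction n with
  | zero => rw [pow_zero]; exact isLineM_one
  | succ n ih => rw [pow_succ]; exact ih.mul hv

theorem rel_line (PL : PosStructure L) {f : MvPolynomial σ ℤ} (h1 : IsLineM σ (iota σ f))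
    (h2 : PL.IsLine (ev u f)) : Rel u f := by
  refine ⟨1 + PowerSeries.C f * PowerSeries.X, ?_, ?_⟩
  · rw [lamSeries_of_isLineM h1]
    simp
  · rw [lamSeries_of_isLine PL _ h2]
    simp

/-- `X_i ↦ 1 + X_i` -/
noncomputable def shiftUp (σ : Type) : MvPolynomial σ ℤ →ₐ[ℤ] MvPolynomial σ ℤ :=
  aeval (fun i => 1 + X i)

/-- `X_i ↦ X_i - 1` -/
noncomputable def shiftDown (σ : Type) : MvPolynomial σ ℤ →ₐ[ℤ] MvPolynomial σ ℤ :=
  aeval (fun i => X i - 1)

theorem shiftUp_shiftDown (f : MvPolynomial σ ℤ) : shiftUp σ (shiftDown σ f) = f := by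
  have : (shiftUp σ).comp (shiftDown σ) = AlgHom.id ℤ _ := by
    apply MvPolynomial.algHom_ext
    intro i
    simp [shiftUp, shiftDown]
  exact AlgHom.congr_fun this f

theorem rel_shiftUp (PL : PosStructure L) (hu : ∀ i, PL.IsLine (u i)) (g : MvPolynomial σ ℤ) :
    Rel u (shiftUp σ g) := by
  induction g using MvPolynomial.induction_on' with
  | monomial m a =>
    have e : shiftUp σ (monomial m a) = a • (m.prod fun i k => (1 + X i : MvPolynomial σ ℤ) ^ k) := by
      rw [shiftUp, aeval_monomial, Algebra.smul_def]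
    rw [e]
    apply rel_zsmul
    apply rel_line u PL
    · rw [Finsupp.prod, map_prod]
      apply IsLineM.prod
      intro i _
      rw [map_pow]
      apply IsLineM.pow'
      have : iota σ (1 + X i) = 1 + X i := by simp [iota]
      rw [this]
      exact isLineM_one_add_X i
    · rw [Finsupp.prod, map_prod]
      have : ∀ s : Finset σ, PL.IsLine (∏ i ∈ s, ev u ((1 + X i : MvPolynomial σ ℤ) ^ m i)) := by
        intro s
        classical
        induction s using Finset.induction_on with
        | empty => rw [Finset.prod_empty]; exact isLine_one PL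
        | insert a s ha ih =>
          rw [Finset.prod_insert ha]
          refine isLine_mul PL ?_ ih
          rw [map_pow]
          apply isLine_pow
          have : ev u (1 + X a) = u a := by simp [ev]
          rw [this]
          exact hu a
      exact this _
  | add p q hp hq => rw [map_add]; exact rel_add u hp hq

theorem rel_all (PL : PosStructure L) (hu : ∀ i, PL.IsLine (u i)) (f : MvPolynomial σ ℤ) : Rel u f := by
  rw [← shiftUp_shiftDown f]
  exact rel_shiftUp u PL hu _

/-- the `λ`-operations on the integral form -/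
theorem exists_lam (PL : PosStructure L) (hu : ∀ i, PL.IsLine (u i)) (f : MvPolynomial σ ℤ) (n : ℕ) :
    ∃ g : MvPolynomial σ ℤ, iota σ g = LambdaOps.lam n (iota σ f) ∧ ev u g = LambdaOps.lam n (ev u f) := by
  obtain ⟨G, hG1, hG2⟩ := rel_all u PL hu f
  refine ⟨PowerSeries.coeff n G, ?_, ?_⟩
  · rw [← coeff_lamSeries, ← hG1, PowerSeries.coeff_map]
  · rw [← coeff_lamSeries, ← hG2, PowerSeries.coeff_map]; rfl

theorem iota_aeval {τ : Type*} (g : τ → MvPolynomial σ ℤ) (p : MvPolynomial τ ℤ) :
    iota σ (aeval g p) = aeval (fun i => iota σ (g i)) p :=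
  comp_aeval_apply g (iota σ).toIntAlgHom p

theorem lam_mul_ev (PL : PosStructure L) (hu : ∀ i, PL.IsLine (u i)) (n : ℕ)
    (Pn : MvPolynomial (Fin n ⊕ Fin n) ℤ) (hPn : IsMulPoly n Pn) (f f' : MvPolynomial σ ℤ) :
    LambdaOps.lam n (ev u f * ev u f') =
      aeval (Sum.elim (fun k : Fin n => LambdaOps.lam ((k : ℕ) + 1) (ev u f))
        (fun k : Fin n => LambdaOps.lam ((k : ℕ) + 1) (ev u f'))) Pn := by
  choose g hg1 hg2 using exists_lam u PL hu f
  choose g' hg1' hg2' using exists_lam u PL hu f'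
  obtain ⟨g'', hg1'', hg2''⟩ := exists_lam u PL hu (f * f') n
  have key : g'' = aeval (Sum.elim (fun k : Fin n => g ((k : ℕ) + 1)) (fun k : Fin n => g' ((k : ℕ) + 1))) Pn := by
    apply iota_injective (σ := σ)
    rw [hg1'', map_mul, (isSpecial_model σ).lam_mul n Pn hPn, iota_aeval]
    refine congrArg (fun v => aeval v Pn) (funext fun i => ?_)
    rcases i with k | k
    · exact (hg1 _).symm
    · exact (hg1' _).symm
  rw [← map_mul, ← hg2'', key, comp_aeval_apply]
  refine congrArg (fun v => aeval v Pn) (funext fun i => ?_)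
  rcases i with k | k
  · exact hg2 _
  · exact hg2' _

theorem lam_lam_ev (PL : PosStructure L) (hu : ∀ i, PL.IsLine (u i)) (i j : ℕ)
    (Q : MvPolynomial (Fin (i * j)) ℤ) (hQ : IsCompPoly i j Q) (f : MvPolynomial σ ℤ) :
    LambdaOps.lam j (LambdaOps.lam i (ev u f)) =
      aeval (fun k : Fin (i * j) => LambdaOps.lam ((k : ℕ) + 1) (ev u f)) Q := by
  choose g hg1 hg2 using exists_lam u PL hu f
  obtain ⟨h, hh1, hh2⟩ := exists_lam u PL hu (g i) j
  have key : h = aeval (fun k : Fin (i * j) => g ((k : ℕ) + 1)) Q := by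
    apply iota_injective (σ := σ)
    rw [hh1, hg1, (isSpecial_model σ).lam_lam i j Q hQ, iota_aeval]
    refine congrArg (fun v => aeval v Q) (funext fun k => ?_)
    exact (hg1 _).symm
  rw [← hg2, ← hh2, key, comp_aeval_apply]
  refine congrArg (fun v => aeval v Q) (funext fun k => ?_)
  exact hg2 _

end Rel

section Rep

variable {L : Type u} [CommRing L] [LambdaOps L] (PL : PosStructure L)

theorem exists_rep {x : L} (hx : x ∈ lineSpan PL) :
    ∃ (σ : Type) (u : σ → L) (f : MvPolynomial σ ℤ), (∀ i, PL.IsLine (u i)) ∧ ev u f = x := by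
  induction hx using AddSubgroup.closure_induction with
  | mem ℓ hℓ => exact ⟨Unit, fun _ => ℓ, 1 + X (), fun _ => hℓ, by simp [ev]⟩
  | zero => exact ⟨Empty, Empty.elim, 0, fun i => i.elim, map_zero _⟩
  | add x y _ _ hx hy =>
    obtain ⟨σ, u, f, hu, rfl⟩ := hx
    obtain ⟨σ', u', f', hu', rfl⟩ := hy
    refine ⟨σ ⊕ σ', Sum.elim u u', rename Sum.inl f + rename Sum.inr f', ?_, ?_⟩
    · rintro (i | i)
      · exact hu i
      · exact hu' i
    · rw [map_add, ev, aeval_rename, aeval_rename]
      rfl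
  | neg x _ hx =>
    obtain ⟨σ, u, f, hu, rfl⟩ := hx
    exact ⟨σ, u, -f, hu, map_neg _ _⟩

theorem exists_rep₂ {x y : L} (hx : x ∈ lineSpan PL) (hy : y ∈ lineSpan PL) :
    ∃ (σ : Type) (u : σ → L) (f f' : MvPolynomial σ ℤ), (∀ i, PL.IsLine (u i)) ∧ ev u f = x ∧
      ev u f' = y := by
  obtain ⟨σ, u, f, hu, rfl⟩ := exists_rep PL hx
  obtain ⟨σ', u', f', hu', rfl⟩ := exists_rep PL hy
  refine ⟨σ ⊕ σ', Sum.elim u u', rename Sum.inl f, rename Sum.inr f', ?_, ?_, ?_⟩
  · rintro (i | i)
    · exact hu i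
    · exact hu' i
  · rw [ev, aeval_rename]; rfl
  · rw [ev, aeval_rename]; rfl

theorem lam_mul_of_mem_lineSpan {x y : L} (hx : x ∈ lineSpan PL) (hy : y ∈ lineSpan PL) (n : ℕ)
    (Pn : MvPolynomial (Fin n ⊕ Fin n) ℤ) (hPn : IsMulPoly n Pn) :
    LambdaOps.lam n (x * y) =
      aeval (Sum.elim (fun k : Fin n => LambdaOps.lam ((k : ℕ) + 1) x)
        (fun k : Fin n => LambdaOps.lam ((k : ℕ) + 1) y)) Pn := by
  obtain ⟨σ, u, f, f', hu, rfl, rfl⟩ := exists_rep₂ PL hx hy
  exact lam_mul_ev u PL hu n Pn hPn f f'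

theorem lam_lam_of_mem_lineSpan {x : L} (hx : x ∈ lineSpan PL) (i j : ℕ)
    (Q : MvPolynomial (Fin (i * j)) ℤ) (hQ : IsCompPoly i j Q) :
    LambdaOps.lam j (LambdaOps.lam i x) =
      aeval (fun k : Fin (i * j) => LambdaOps.lam ((k : ℕ) + 1) x) Q := by
  obtain ⟨σ, u, f, hu, rfl⟩ := exists_rep PL hx
  exact lam_lam_ev u PL hu i j Q hQ f

end Rep

section Main

variable {K : Type u} [CommRing K] [LambdaOps K]

/-- **The splitting property implies specialness.** -/
theorem isSpecial_of_hasSplitting {P : PosStructure K} (hK : HasSplitting K P) : IsSpecial K where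
  lam_one_eq_zero n hn := lam_one_eq_zero P n hn
  lam_mul n Pn hPn x y := by
    obtain ⟨L, f, hf, -, hxy⟩ := exists_extension_lineSpan hK [x, y]
    apply hf.injective
    have hx := hxy x (by simp)
    have hy := hxy y (by simp)
    rw [hf.isLambdaHom, map_mul, lam_mul_of_mem_lineSpan L.posStr hx hy n Pn hPn]
    erw [comp_aeval_apply _ f.toIntAlgHom]
    refine congrArg (fun v => aeval v Pn) (funext fun i => ?_)
    rcases i with k | k
    · exact (hf.isLambdaHom _ _).symm
    · exact (hf.isLambdaHom _ _).symm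
  lam_lam i j Q hQ x := by
    obtain ⟨L, f, hf, -, hxy⟩ := exists_extension_lineSpan hK [x]
    apply hf.injective
    have hx := hxy x (by simp)
    rw [hf.isLambdaHom, hf.isLambdaHom, lam_lam_of_mem_lineSpan L.posStr hx i j Q hQ]
    erw [comp_aeval_apply _ f.toIntAlgHom]
    refine congrArg (fun v => aeval v Q) (funext fun k => ?_)
    exact (hf.isLambdaHom _ _).symm

end Main

end Groth.Agent.R2.H39.SplitSpecial
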