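import Groth.Agent.R2.H39LamModel
import Groth.Agent.R2.H39SplitSpecial
import Groth.Agent.R2.H39LamAdjoin
import Mathlib

/-!
# helper39: line elements in the rational model (multiplication by a line element, sums of lines)
-/

set_option autoImplicit false
set_option linter.unusedSectionVars false
universe u
open MvPolynomial Finset LambdaRing
open Groth.Agent.Lib.Helper4 Groth.Agent.Lib.Helper4.Newton
open Groth.Agent.R2.H39.LamModel

namespace Groth.Agent.R2.H39.LamUniv

section Model

variable {σ : Type}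

theorem derivative_rescale {A : Type*} [CommRing A] (w : A) (F : PowerSeries A) :
    PowerSeries.derivative A (PowerSeries.rescale w F) =
      PowerSeries.C w * PowerSeries.rescale w (PowerSeries.derivative A F) := by
  ext n
  rw [PowerSeries.coeff_derivative, PowerSeries.coeff_rescale, PowerSeries.coeff_C_mul,
    PowerSeries.coeff_rescale, PowerSeries.coeff_derivative, pow_succ]
  ring_nf

/-- multiplication by a line element of the model rescales `λ_t` -/
theorem lamSeries_mul_isLineM {w : MvPolynomial σ ℚ} (hw : IsLineM σ w) (a : MvPolynomial σ ℚ) :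
    lamSeries (a * w) = PowerSeries.rescale w (lamSeries a) := by
  have hl : ∀ x : MvPolynomial σ ℚ, lamSeries x = sol (cOf (psiAdd σ) x) := fun x => rfl
  rw [hl (a * w)]
  symm
  apply sol_unique
  · rw [derivative_rescale, hl a, derivative_sol, map_mul, ← mul_assoc]
    congr 1
    ext k
    rw [PowerSeries.coeff_mk, PowerSeries.coeff_C_mul, PowerSeries.coeff_rescale,
      PowerSeries.coeff_mk, cOf, cOf, psiAdd_apply, psiAdd_apply, map_mul, hw k]
    ring_nf
  · rw [PowerSeries.coeff_rescale, coeff_lamSeries, LambdaOps.lam_zero, pow_zero, mul_one]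

theorem lam_mul_isLineM {w : MvPolynomial σ ℚ} (hw : IsLineM σ w) (a : MvPolynomial σ ℚ) (k : ℕ) :
    LambdaOps.lam k (a * w) = LambdaOps.lam k a * w ^ k := by
  rw [← coeff_lamSeries, lamSeries_mul_isLineM hw, PowerSeries.coeff_rescale, coeff_lamSeries,
    mul_comm]

/-- `x` is a sum of `d` line elements of the model -/
def LineSum (d : ℕ) (x : MvPolynomial σ ℚ) : Prop :=
  ∃ (ι : Type) (_ : Fintype ι) (w : ι → MvPolynomial σ ℚ),
    Fintype.card ι = d ∧ (∀ i, IsLineM σ (w i)) ∧ x = ∑ i, w i

theorem LineSum.of_isLineM {w : MvPolynomial σ ℚ} (hw : IsLineM σ w) : LineSum 1 w :=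
  ⟨Unit, inferInstance, fun _ => w, by simp, fun _ => hw, by simp⟩

theorem lineSum_one : LineSum 1 (1 : MvPolynomial σ ℚ) := LineSum.of_isLineM isLineM_one

theorem LineSum.mul {d d' : ℕ} {x y : MvPolynomial σ ℚ} (hx : LineSum d x) (hy : LineSum d' y) :
    LineSum (d * d') (x * y) := by
  obtain ⟨ι, _, w, hc, hw, rfl⟩ := hx
  obtain ⟨ι', _, w', hc', hw', rfl⟩ := hy
  refine ⟨ι × ι', inferInstance, fun q => w q.1 * w' q.2, ?_, fun q => (hw q.1).mul (hw' q.2), ?_⟩
  · rw [Fintype.card_prod, hc, hc']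
  · rw [Finset.sum_mul_sum, Fintype.sum_prod_type]

theorem LineSum.pow {d : ℕ} {x : MvPolynomial σ ℚ} (hx : LineSum d x) (j : ℕ) :
    LineSum (d ^ j) (x ^ j) := by
  induction j with
  | zero => rw [pow_zero, pow_zero]; exact lineSum_one
  | succ j ih => rw [pow_succ, pow_succ]; exact ih.mul hx

theorem lineSum_sum_fin (n : ℕ) (g : Fin n → σ) :
    LineSum n (∑ r : Fin n, (1 + X (g r) : MvPolynomial σ ℚ)) :=
  ⟨Fin n, inferInstance, fun r => 1 + X (g r), by simp, fun r => isLineM_one_add_X _, rfl⟩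

theorem lineSum_sum_erase (m : ℕ) (g : Fin m → σ) (k₀ : Fin m) :
    LineSum (m - 1) ((∑ k : Fin m, (1 + X (g k) : MvPolynomial σ ℚ)) - (1 + X (g k₀))) := by
  classical
  refine ⟨{k : Fin m // k ≠ k₀}, inferInstance, fun k => 1 + X (g k.1), ?_,
    fun k => isLineM_one_add_X _, ?_⟩
  · rw [Fintype.card_subtype_compl, Fintype.card_fin, Fintype.card_unique]
  · rw [Fintype.sum_eq_add_sum_subtype_ne _ k₀, add_sub_cancel_left]

theorem LineSum.lam_eq_zero {d : ℕ} {x : MvPolynomial σ ℚ} (hx : LineSum d x) (n : ℕ)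
    (hn : d < n) : LambdaOps.lam n x = 0 := by
  classical
  obtain ⟨ι, _, w, hc, hw, rfl⟩ := hx
  rw [← coeff_lamSeries, lamSeries_sum,
    prod_congr rfl (fun i _ => lamSeries_of_isLineM (hw i)), coeff_prod_one_add_C_mul_X,
    Finset.powersetCard_eq_empty.2 (by rw [Finset.card_univ, hc]; exact hn), Finset.sum_empty]

end Model

end Groth.Agent.R2.H39.LamUniv
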