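import Groth.Agent.R2.H39LamUnivA
import Mathlib

/-!
# helper39: transfer from the universal split situation to `L[T]/∏(T - u_k)`

`U = ℤ[X_σ]`, `σ = Fin m ⊕ Fin n`, `W = U[T]/∏_k (T - (1 + X_{inl k}))`, with maps to the model
`M_e = M[T]/∏ (T - (1 + X_{inl k}))`, `M = ℚ[X_σ]`, and to `L_e = L[T]/∏ (T - u_k)` for line
elements `u_k` of a λ-ring `L` with positive structure.  Identities for `λ^k` in `L_e` between
images of elements of `W` can be checked in `M_e`, hence after evaluation `T ↦ 1 + X_{inl k}` in `M`.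
-/

set_option autoImplicit false
set_option linter.unusedSectionVars false
universe u
open Polynomial LambdaRing Finset
open Groth.Agent.Lib.Helper4
open Groth.Agent.R2.H39.LamModel Groth.Agent.R2.H39.SplitSpecial Groth.Agent.R2.H39.LamAdjoin

namespace Groth.Agent.R2.H39.LamUniv

/-- index type -/
abbrev Idx (m n : ℕ) : Type := Fin m ⊕ Fin n

/-- the universal polynomial `∏ (T - (1 + X_k))` over `ℤ[X]` -/
noncomputable def pU (m n : ℕ) : (MvPolynomial (Idx m n) ℤ)[X] :=
  ∏ k : Fin m, (X - C (1 + MvPolynomial.X (Sum.inl k)))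

/-- the polynomial `∏ (T - (1 + X_k))` over the model -/
noncomputable def pM (m n : ℕ) : (MvPolynomial (Idx m n) ℚ)[X] :=
  ∏ k : Fin m, (X - C (1 + MvPolynomial.X (Sum.inl k)))

/-- `∏ (T - u_k)` -/
noncomputable def pL {L : Type u} [CommRing L] {m : ℕ} (ue : Fin m → L) : L[X] :=
  ∏ k : Fin m, (X - C (ue k))

instance factU (m n : ℕ) : Fact (pU m n).Monic :=
  ⟨monic_prod_of_monic _ _ fun _ _ => monic_X_sub_C _⟩

instance factM (m n : ℕ) : Fact (pM m n).Monic :=
  ⟨monic_prod_of_monic _ _ fun _ _ => monic_X_sub_C _⟩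

instance factL {L : Type u} [CommRing L] {m : ℕ} (ue : Fin m → L) : Fact (pL ue).Monic :=
  ⟨monic_prod_of_monic _ _ fun _ _ => monic_X_sub_C _⟩

theorem natDegree_pL {L : Type u} [CommRing L] [Nontrivial L] {m : ℕ} (ue : Fin m → L) :
    (pL ue).natDegree = m := by
  rw [pL, natDegree_prod_of_monic _ _ fun _ _ => monic_X_sub_C _,
    Finset.sum_congr rfl (fun k _ => natDegree_X_sub_C _), Finset.sum_const, Finset.card_univ,
    Fintype.card_fin, smul_eq_mul, mul_one]

theorem natDegree_pM (m n : ℕ) : (pM m n).natDegree = m := by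
  rw [pM, natDegree_prod_of_monic _ _ fun _ _ => monic_X_sub_C _,
    Finset.sum_congr rfl (fun k _ => natDegree_X_sub_C _), Finset.sum_const, Finset.card_univ,
    Fintype.card_fin, smul_eq_mul, mul_one]

theorem natDegree_pU (m n : ℕ) : (pU m n).natDegree = m := by
  rw [pU, natDegree_prod_of_monic _ _ fun _ _ => monic_X_sub_C _,
    Finset.sum_congr rfl (fun k _ => natDegree_X_sub_C _), Finset.sum_const, Finset.card_univ,
    Fintype.card_fin, smul_eq_mul, mul_one]

theorem map_pU_iota (m n : ℕ) : (pU m n).map (iota (Idx m n)) = pM m n := by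
  rw [pU, pM, Polynomial.map_prod]
  refine prod_congr rfl fun k _ => ?_
  rw [Polynomial.map_sub, map_X, map_C, iota, map_add, map_one, MvPolynomial.map_X]

section Reps

variable {R : Type*} [CommRing R]

theorem exists_rep_degree_lt [Nontrivial R] (p : R[X]) (hp : p.Monic) (Y : AdjoinRoot p) :
    ∃ g : R[X], AdjoinRoot.mk p g = Y ∧ g.degree < p.degree := by
  obtain ⟨g₀, rfl⟩ := AdjoinRoot.mk_surjective Y
  refine ⟨g₀ %ₘ p, ?_, degree_modByMonic_lt g₀ hp⟩
  rw [AdjoinRoot.mk_eq_mk]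
  refine ⟨-(g₀ /ₘ p), ?_⟩
  have := modByMonic_add_div g₀ p
  linear_combination this

theorem map_mk {S : Type*} [CommRing S] (f : R →+* S) (p : R[X]) (q : S[X]) (h : q ∣ p.map f)
    (g : R[X]) : AdjoinRoot.map f p q h (AdjoinRoot.mk p g) = AdjoinRoot.mk q (g.map f) := by
  rw [AdjoinRoot.map, AdjoinRoot.lift_mk, ← Polynomial.eval₂_map, ← AdjoinRoot.aeval_eq,
    Polynomial.aeval_def, AdjoinRoot.algebraMap_eq]

end Reps

section Diagram

variable {L : Type u} [CommRing L] [LambdaOps L] {m n : ℕ} (ue : Fin m → L) (ua : Fin n → L)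

/-- all the line elements -/
def uu : Idx m n → L := Sum.elim ue ua

theorem ev_one_add_X (i : Idx m n) :
    ev (uu ue ua) (1 + MvPolynomial.X i) = uu ue ua i := by
  rw [map_add, map_one, ev, MvPolynomial.aeval_X]; ring

theorem map_pU_ev : (pU m n).map (ev (uu ue ua) : MvPolynomial (Idx m n) ℤ →+* L) = pL ue := by
  rw [pU, pL, Polynomial.map_prod]
  refine prod_congr rfl fun k _ => ?_
  rw [Polynomial.map_sub, map_X, map_C]
  congr 2
  exact ev_one_add_X ue ua (Sum.inl k)

/-- `W → M_e` -/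
noncomputable def jM (m n : ℕ) : AdjoinRoot (pU m n) →+* AdjoinRoot (pM m n) :=
  AdjoinRoot.map (iota (Idx m n)) (pU m n) (pM m n) (by rw [map_pU_iota])

/-- `W → L_e` -/
noncomputable def jL : AdjoinRoot (pU m n) →+* AdjoinRoot (pL ue) :=
  AdjoinRoot.map (ev (uu ue ua) : MvPolynomial (Idx m n) ℤ →+* L) (pU m n) (pL ue)
    (by rw [map_pU_ev])

theorem jM_of (f : MvPolynomial (Idx m n) ℤ) :
    jM m n (AdjoinRoot.of _ f) = AdjoinRoot.of _ (iota _ f) := AdjoinRoot.map_of _ _ _ _ _

theorem jM_root : jM m n (AdjoinRoot.root _) = AdjoinRoot.root _ := AdjoinRoot.map_root _ _ _ _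

theorem jL_of (f : MvPolynomial (Idx m n) ℤ) :
    jL ue ua (AdjoinRoot.of _ f) = AdjoinRoot.of _ (ev (uu ue ua) f) :=
  AdjoinRoot.map_of _ _ _ _ _

theorem jL_root : jL ue ua (AdjoinRoot.root _) = AdjoinRoot.root _ := AdjoinRoot.map_root _ _ _ _

/-- `λ_t` of `Y ∈ W` is defined over `W`, compatibly in `M_e` and in `L_e`. -/
def RelW (Y : AdjoinRoot (pU m n)) : Prop :=
  ∃ G : PowerSeries (AdjoinRoot (pU m n)),
    PowerSeries.map (jM m n) G = lamSeries (jM m n Y) ∧
    PowerSeries.map (jL ue ua) G = lamSeries (jL ue ua Y)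

theorem relW_zero : RelW ue ua (0 : AdjoinRoot (pU m n)) :=
  ⟨1, by rw [map_one, map_zero, lamSeries_zero], by rw [map_one, map_zero, lamSeries_zero]⟩

theorem relW_add {Y Z : AdjoinRoot (pU m n)} (hY : RelW ue ua Y) (hZ : RelW ue ua Z) :
    RelW ue ua (Y + Z) := by
  obtain ⟨F, hF1, hF2⟩ := hY
  obtain ⟨G, hG1, hG2⟩ := hZ
  exact ⟨F * G, by rw [map_mul, hF1, hG1, map_add, lamSeries_add],
    by rw [map_mul, hF2, hG2, map_add, lamSeries_add]⟩

theorem relW_sum {ι : Type*} (t : Finset ι) (Y : ι → AdjoinRoot (pU m n))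
    (h : ∀ i ∈ t, RelW ue ua (Y i)) : RelW ue ua (∑ i ∈ t, Y i) := by
  classical
  induction t using Finset.induction_on with
  | empty => rw [sum_empty]; exact relW_zero ue ua
  | insert i t hi ih =>
    rw [sum_insert hi]
    exact relW_add ue ua (h i (mem_insert_self _ _)) (ih fun j hj => h j (mem_insert_of_mem hj))

variable (PL : PosStructure L) (hue : ∀ k, PL.IsLine (ue k)) (hua : ∀ r, PL.IsLine (ua r))

include hue hua in
theorem uu_isLine (i : Idx m n) : PL.IsLine (uu ue ua i) := by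
  rcases i with k | r
  · exact hue k
  · exact hua r

include PL hue hua in
theorem relW_monomial (f : MvPolynomial (Idx m n) ℤ) (s : ℕ) (hs : s < m) :
    RelW ue ua (AdjoinRoot.of (pU m n) f * AdjoinRoot.root (pU m n) ^ s) := by
  have : Nontrivial L := PL.aug.domain_nontrivial
  choose g hg1 hg2 using fun k => exists_lam (uu ue ua) PL (uu_isLine ue ua PL hue hua) f k
  refine ⟨PowerSeries.mk fun k => AdjoinRoot.of _ (g k) * AdjoinRoot.root _ ^ (s * k), ?_, ?_⟩
  · ext k
    rw [PowerSeries.coeff_map, PowerSeries.coeff_mk, coeff_lamSeries, map_mul, map_pow, jM_of,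
      jM_root, map_mul, map_pow, jM_of, jM_root, hg1,
      lam_of_mul_pow (pM m n) _ s (by rw [natDegree_pM]; exact hs)]
  · ext k
    rw [PowerSeries.coeff_map, PowerSeries.coeff_mk, coeff_lamSeries, map_mul, map_pow, jL_of,
      jL_root, map_mul, map_pow, jL_of, jL_root, hg2,
      lam_of_mul_pow (pL ue) _ s (by rw [natDegree_pL]; exact hs)]

include PL hue hua in
theorem relW_all (Y : AdjoinRoot (pU m n)) : RelW ue ua Y := by
  rw [← sum_crd (pU m n) Y]
  refine relW_sum ue ua _ _ fun s _ => relW_monomial ue ua PL hue hua _ _ ?_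
  exact lt_of_lt_of_eq s.2 ((AdjoinRoot.powerBasis'_dim _).trans (natDegree_pU m n))

theorem jM_injective (m n : ℕ) : Function.Injective (jM m n) := by
  rw [injective_iff_map_eq_zero]
  intro Y hY
  obtain ⟨g, rfl, hg⟩ := exists_rep_degree_lt (pU m n) (factU m n).out Y
  rw [jM, map_mk, AdjoinRoot.mk_eq_zero] at hY
  have e1 : (pU m n).degree = (m : WithBot ℕ) := by
    rw [degree_eq_natDegree (factU m n).out.ne_zero, natDegree_pU]
  have e2 : (pM m n).degree = (m : WithBot ℕ) := by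
    rw [degree_eq_natDegree (factM m n).out.ne_zero, natDegree_pM]
  have hdeg : (g.map (iota (Idx m n))).degree < (pM m n).degree := by
    refine lt_of_le_of_lt (degree_map_le) ?_
    rw [e2, ← e1]
    exact hg
  have h0 := eq_zero_of_dvd_of_degree_lt hY hdeg
  have : g = 0 := Polynomial.map_injective _ iota_injective (by rw [h0, Polynomial.map_zero])
  rw [this, map_zero]

/-- the `k`-th root in the model -/
noncomputable def vM (m n : ℕ) (k : Fin m) : MvPolynomial (Idx m n) ℚ :=
  1 + MvPolynomial.X (Sum.inl k)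

theorem vM_isLineM (m n : ℕ) (k : Fin m) : IsLineM (Idx m n) (vM m n k) := isLineM_one_add_X _

theorem vM_injective (m n : ℕ) : Function.Injective (vM m n) := by
  intro k k' h
  have h1 : (MvPolynomial.X (Sum.inl k) : MvPolynomial (Idx m n) ℚ) = MvPolynomial.X (Sum.inl k') :=
    add_left_cancel h
  exact Sum.inl_injective (MvPolynomial.X_injective h1)

theorem eval_vM_pM (m n : ℕ) (k₀ : Fin m) :
    eval₂ (RingHom.id _) (vM m n k₀) (pM m n) = 0 := by
  rw [eval₂_id, pM, eval_prod]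
  refine prod_eq_zero (mem_univ k₀) ?_
  rw [eval_sub, eval_X, eval_C, vM, sub_self]

/-- evaluation `M_e → M` at the `k`-th root -/
noncomputable def evM (m n : ℕ) (k₀ : Fin m) :
    AdjoinRoot (pM m n) →+* MvPolynomial (Idx m n) ℚ :=
  AdjoinRoot.lift (RingHom.id _) (vM m n k₀) (eval_vM_pM m n k₀)

theorem evM_of (m n : ℕ) (k₀ : Fin m) (a : MvPolynomial (Idx m n) ℚ) :
    evM m n k₀ (AdjoinRoot.of _ a) = a := AdjoinRoot.lift_of _

theorem evM_root (m n : ℕ) (k₀ : Fin m) : evM m n k₀ (AdjoinRoot.root _) = vM m n k₀ :=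
  AdjoinRoot.lift_root _

theorem evM_isLambdaHom (m n : ℕ) (k₀ : Fin m) : IsLambdaHom (evM m n k₀) := by
  apply isLambdaHom_of_monomials
  intro s _ a k
  rw [map_mul, map_pow, evM_of, evM_root, map_mul, map_pow, evM_of, evM_root,
    lam_mul_isLineM (IsLineM.pow' (vM_isLineM m n k₀) s), ← pow_mul]

theorem eq_zero_of_evM (m n : ℕ) (x : AdjoinRoot (pM m n)) (h : ∀ k₀, evM m n k₀ x = 0) :
    x = 0 := by
  obtain ⟨g, rfl, hg⟩ := exists_rep_degree_lt (pM m n) (factM m n).out x
  by_cases hg0 : g = 0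
  · rw [hg0, map_zero]
  have hnat : g.natDegree < Fintype.card (Fin m) := by
    have h1 := natDegree_lt_natDegree hg0 hg
    rw [natDegree_pM] at h1
    rw [Fintype.card_fin]
    exact h1
  have : g = 0 := by
    refine eq_zero_of_natDegree_lt_card_of_eval_eq_zero g (vM_injective m n) (fun k₀ => ?_) hnat
    have := h k₀
    rwa [evM, AdjoinRoot.lift_mk, eval₂_id] at this
  exact absurd this hg0

end Diagram

section Transfer

variable {L : Type u} [CommRing L] [LambdaOps L] {m n : ℕ} (ue : Fin m → L) (ua : Fin n → L)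
  (PL : PosStructure L) (hue : ∀ k, PL.IsLine (ue k)) (hua : ∀ r, PL.IsLine (ua r))

include PL hue hua in
/-- **Transfer principle**: an identity `λ^k(Y) = Z` between images of elements of `W` holds in `L_e`
as soon as it holds in the model after evaluation at each root. -/
theorem transfer (Y Z : AdjoinRoot (pU m n)) (k : ℕ)
    (h : ∀ k₀, LambdaOps.lam k (evM m n k₀ (jM m n Y)) = evM m n k₀ (jM m n Z)) :
    LambdaOps.lam k (jL ue ua Y) = jL ue ua Z := by
  obtain ⟨G, hG1, hG2⟩ := relW_all ue ua PL hue hua Y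
  have e : jM m n (PowerSeries.coeff k G) = LambdaOps.lam k (jM m n Y) := by
    rw [← PowerSeries.coeff_map, hG1, coeff_lamSeries]
  have h1 : jM m n (PowerSeries.coeff k G) = jM m n Z := by
    rw [e, ← sub_eq_zero]
    apply eq_zero_of_evM
    intro k₀
    rw [map_sub, evM_isLambdaHom, h k₀, sub_self]
  have h2 := jM_injective m n h1
  rw [← coeff_lamSeries, ← hG2, PowerSeries.coeff_map, h2]

/-- the universal `a = Σ (1 + X_{inr r})` -/
noncomputable def AU (m n : ℕ) : MvPolynomial (Idx m n) ℤ := ∑ r : Fin n, (1 + MvPolynomial.X (Sum.inr r))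

/-- the universal `e = Σ (1 + X_{inl k})` -/
noncomputable def EU (m n : ℕ) : MvPolynomial (Idx m n) ℤ := ∑ k : Fin m, (1 + MvPolynomial.X (Sum.inl k))

theorem iota_AU (m n : ℕ) :
    iota _ (AU m n) = ∑ r : Fin n, (1 + MvPolynomial.X (Sum.inr r) : MvPolynomial (Idx m n) ℚ) := by
  rw [AU, map_sum]
  refine sum_congr rfl fun r _ => ?_
  rw [iota, map_add, map_one, MvPolynomial.map_X]

theorem iota_EU (m n : ℕ) :
    iota _ (EU m n) = ∑ k : Fin m, (1 + MvPolynomial.X (Sum.inl k) : MvPolynomial (Idx m n) ℚ) := by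
  rw [EU, map_sum]
  refine sum_congr rfl fun r _ => ?_
  rw [iota, map_add, map_one, MvPolynomial.map_X]

theorem ev_AU : ev (uu ue ua) (AU m n) = ∑ r, ua r := by
  rw [AU, map_sum]
  exact sum_congr rfl fun r _ => ev_one_add_X ue ua (Sum.inr r)

theorem ev_EU : ev (uu ue ua) (EU m n) = ∑ k, ue k := by
  rw [EU, map_sum]
  exact sum_congr rfl fun r _ => ev_one_add_X ue ua (Sum.inl r)

include PL hue hua in
/-- `λ^k(ι(b) ℓ^i) = ι(λ^k b) ℓ^{ik}` in `L_e` for `b` in the image of `ℤ[X]`. -/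
theorem lam_of_mul_root_pow (f : MvPolynomial (Idx m n) ℤ) (i k : ℕ) :
    LambdaOps.lam k (AdjoinRoot.of (pL ue) (ev (uu ue ua) f) * AdjoinRoot.root (pL ue) ^ i) =
      AdjoinRoot.of (pL ue) (LambdaOps.lam k (ev (uu ue ua) f)) *
        AdjoinRoot.root (pL ue) ^ (i * k) := by
  obtain ⟨g, hg1, hg2⟩ := exists_lam (uu ue ua) PL (uu_isLine ue ua PL hue hua) f k
  have h := transfer ue ua PL hue hua
    (AdjoinRoot.of _ f * AdjoinRoot.root _ ^ i) (AdjoinRoot.of _ g * AdjoinRoot.root _ ^ (i * k)) k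
    (by
      intro k₀
      rw [map_mul, map_pow, jM_of, jM_root, map_mul, map_pow, evM_of, evM_root,
        map_mul, map_pow, jM_of, jM_root, map_mul, map_pow, evM_of, evM_root, hg1,
        lam_mul_isLineM (IsLineM.pow' (vM_isLineM m n k₀) i), ← pow_mul])
  rw [map_mul, map_pow, jL_of, jL_root, map_mul, map_pow, jL_of, jL_root, hg2] at h
  exact h

include PL hue hua in
/-- vanishing of `λ^N` on the monomials `ι(a) ℓ^i (ι e - ℓ)^j` of `L_e`. -/
theorem lam_monomial_eq_zero (i j N : ℕ) (hN : n * (m - 1) ^ j < N) :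
    LambdaOps.lam N (AdjoinRoot.of (pL ue) (∑ r, ua r) * AdjoinRoot.root (pL ue) ^ i *
      (AdjoinRoot.of (pL ue) (∑ k, ue k) - AdjoinRoot.root (pL ue)) ^ j) = 0 := by
  have h := transfer ue ua PL hue hua
    (AdjoinRoot.of _ (AU m n) * AdjoinRoot.root _ ^ i *
      (AdjoinRoot.of _ (EU m n) - AdjoinRoot.root _) ^ j) 0 N
    (by
      intro k₀
      simp only [map_mul, map_pow, map_sub, map_zero, jM_of, jM_root, evM_of, evM_root, iota_AU,
        iota_EU]
      have hL : LineSum (n * 1 * (m - 1) ^ j)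
          ((∑ r : Fin n, (1 + MvPolynomial.X (Sum.inr r) : MvPolynomial (Idx m n) ℚ)) *
            vM m n k₀ ^ i *
            ((∑ k : Fin m, (1 + MvPolynomial.X (Sum.inl k) : MvPolynomial (Idx m n) ℚ)) -
              vM m n k₀) ^ j) :=
        ((lineSum_sum_fin n _).mul (LineSum.of_isLineM (IsLineM.pow' (vM_isLineM m n k₀) i))).mul
          ((lineSum_sum_erase m _ k₀).pow j)
      exact hL.lam_eq_zero N (by rw [mul_one]; exact hN))
  simp only [map_mul, map_pow, map_sub, map_zero, jL_of, jL_root, ev_AU, ev_EU] at h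
  exact h

end Transfer

end Groth.Agent.R2.H39.LamUniv
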