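import Groth.Agent.S3843
import Groth.Prelude.Def_AlgSpSub

/-!
# H95 — schematic density: faithfully flat descent, intersections, and chart independence for
algebraic spaces (S9968, S9970)
-/

set_option autoImplicit false
universe u
open CategoryTheory CategoryTheory.Limits AlgebraicGeometry

namespace Groth.Agent.R2.H95.SchDenseSp

section Schemes

variable {X Y : Scheme.{u}}

set_option backward.isDefEq.respectTransparency.types false in
/-- Stalk maps of a flat morphism are injective (they are faithfully flat). -/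
theorem stalkMap_injective_of_flat (f : X ⟶ Y) [Flat f] (x : X) :
    Function.Injective (f.stalkMap x).hom := by
  algebraize [(f.stalkMap x).hom]
  have : Module.FaithfullyFlat (Y.presheaf.stalk (f x)) (X.presheaf.stalk x) :=
    @Module.FaithfullyFlat.of_flat_of_isLocalHom _ _ _ _ _ _ _
      (Flat.stalkMap f x) (f.toLRSHom.prop x)
  exact ‹RingHom.FaithfullyFlat _›.injective

/-- A flat surjective morphism is injective on sections. -/
theorem app_injective_of_flat_of_surjective (f : X ⟶ Y) [Flat f] [Surjective f] (V : Y.Opens) :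
    Function.Injective (f.app V).hom := by
  rw [injective_iff_map_eq_zero]
  intro s hs
  refine TopCat.Presheaf.section_ext Y.sheaf V s 0 fun y hy => ?_
  obtain ⟨x, rfl⟩ := f.surjective y
  apply stalkMap_injective_of_flat f x
  have h1 := Scheme.Hom.germ_stalkMap_apply f V x hy s
  have h2 : (f.stalkMap x).hom ((Y.presheaf.germ V (f x) hy).hom s) = 0 :=
    h1.trans ((congrArg _ hs).trans (map_zero _))
  have h3 : (Y.presheaf.germ V (f x) hy).hom (0 : Γ(Y, V)) = 0 := map_zero _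
  exact h2.trans ((congrArg _ h3).trans (map_zero _)).symm

/-- Faithfully flat descent of schematic density. -/
theorem isSchematicallyDense_of_preimage (f : X ⟶ Y) [Flat f] [Surjective f] (W : Y.Opens)
    (h : CInt.IsSchematicallyDense (f ⁻¹ᵁ W)) : CInt.IsSchematicallyDense W := by
  intro V
  rw [injective_iff_map_eq_zero]
  intro s hs
  apply app_injective_of_flat_of_surjective f V
  rw [map_zero]
  apply h (f ⁻¹ᵁ V)
  rw [map_zero]
  -- `(f^♯ s)|_{f⁻¹V ⊓ f⁻¹W} = f^♯ (s|_{V ⊓ W}) = 0`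
  have nat := f.naturality (homOfLE (inf_le_left : V ⊓ W ≤ V)).op
  have h2 : (X.presheaf.map (homOfLE (inf_le_left : f ⁻¹ᵁ V ⊓ f ⁻¹ᵁ W ≤ f ⁻¹ᵁ V)).op).hom
      ((f.app V).hom s) = (f.app (V ⊓ W)).hom
        ((Y.presheaf.map (homOfLE (inf_le_left : V ⊓ W ≤ V)).op).hom s) :=
    (congrArg (fun g => g.hom s) nat).symm
  exact h2.trans ((congrArg _ hs).trans (map_zero _))

/-- The intersection of two schematically dense opens is schematically dense. -/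
theorem isSchematicallyDense_inf (U V : X.Opens) (hU : CInt.IsSchematicallyDense U)
    (hV : CInt.IsSchematicallyDense V) : CInt.IsSchematicallyDense (U ⊓ V) := by
  intro T
  rw [injective_iff_map_eq_zero]
  intro s hs
  apply hU T
  rw [map_zero]
  apply hV (T ⊓ U)
  rw [map_zero, ← RingHom.comp_apply, ← CommRingCat.hom_comp, ← Functor.map_comp]
  have e : T ⊓ U ⊓ V = T ⊓ (U ⊓ V) := inf_assoc _ _ _
  have h3 : X.presheaf.map (homOfLE (inf_le_left : T ⊓ (U ⊓ V) ≤ T)).op ≫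
      X.presheaf.map (eqToHom e).op =
      X.presheaf.map ((homOfLE (inf_le_left : T ⊓ U ≤ T)).op ≫
        (homOfLE (inf_le_left : T ⊓ U ⊓ V ≤ T ⊓ U)).op) := by
    rw [← Functor.map_comp]
    rfl
  rw [← h3, CommRingCat.hom_comp, RingHom.comp_apply, hs, map_zero]

end Schemes

section Spaces

variable {S : Scheme.{u}}

/-- The open `W ⊆ V` as a scheme over `S`. -/
noncomputable abbrev opn (V : Over S) (W : V.left.Opens) : Over S := Over.mk (W.ι ≫ V.hom)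

/-- The inclusion `W ⟶ V` over `S`. -/
noncomputable abbrev opnι (V : Over S) (W : V.left.Opens) : opn V W ⟶ V := Over.homMk W.ι rfl

/-- Comparison of the inverse images of a subsheaf `j : G ⟶ F` on two charts, along a common
refinement: one inclusion. -/
theorem preimage_le_of_isPullback {F G : AlgSp.Sp S} (j : G ⟶ F) {V₁ V V₂ : Over S}
    (φ₁ : (AlgSp.yon S).obj V₁ ⟶ F) (φ : (AlgSp.yon S).obj V ⟶ F) (π₁ : V₂ ⟶ V₁) (π : V₂ ⟶ V)
    (hcomm : (AlgSp.yon S).map π₁ ≫ φ₁ = (AlgSp.yon S).map π ≫ φ)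
    (W₁ : V₁.left.Opens) (fst₁ : (AlgSp.yon S).obj (opn V₁ W₁) ⟶ G)
    (sq₁ : IsPullback fst₁ ((AlgSp.yon S).map (opnι V₁ W₁)) j φ₁)
    (W : V.left.Opens) (fst : (AlgSp.yon S).obj (opn V W) ⟶ G)
    (hw : fst ≫ j = (AlgSp.yon S).map (opnι V W) ≫ φ) :
    π.left ⁻¹ᵁ W ≤ π₁.left ⁻¹ᵁ W₁ := by
  -- the open `T₀ = π⁻¹ W` of `V₂` as a scheme over `S`
  set T₀ : V₂.left.Opens := π.left ⁻¹ᵁ W with hT₀
  let t : opn V₂ T₀ ⟶ V₂ := opnι V₂ T₀
  let l : opn V₂ T₀ ⟶ opn V W := Over.homMk (π.left ∣_ W) (by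
    show (π.left ∣_ W) ≫ W.ι ≫ V.hom = T₀.ι ≫ V₂.hom
    rw [← Category.assoc, morphismRestrict_ι, Category.assoc, Over.w π])
  have hl : l ≫ opnι V W = t ≫ π := by
    ext
    show (π.left ∣_ W) ≫ W.ι = T₀.ι ≫ π.left
    exact morphismRestrict_ι _ _
  have hm : ((AlgSp.yon S).map l ≫ fst) ≫ j = (AlgSp.yon S).map (t ≫ π₁) ≫ φ₁ := by
    rw [Category.assoc, hw, ← Category.assoc, ← Functor.map_comp, hl, Functor.map_comp,
      Functor.map_comp, Category.assoc, Category.assoc, hcomm]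
  obtain ⟨k, hk⟩ := (AlgSp.yon S).map_surjective (sq₁.lift _ _ hm)
  have hk2 : k ≫ opnι V₁ W₁ = t ≫ π₁ := by
    apply (AlgSp.yon S).map_injective
    rw [Functor.map_comp, hk, sq₁.lift_snd]
  have hk3 : k.left ≫ W₁.ι = T₀.ι ≫ π₁.left := congrArg (fun f => f.left) hk2
  intro x hx
  have h1 : (T₀.ι ≫ π₁.left) ⟨x, hx⟩ = π₁.left x := rfl
  show π₁.left x ∈ W₁
  rw [← h1, ← hk3]
  exact (k.left ⟨x, hx⟩).2

theorem preimage_eq_of_isPullback {F G : AlgSp.Sp S} (j : G ⟶ F) {V₁ V V₂ : Over S}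
    (φ₁ : (AlgSp.yon S).obj V₁ ⟶ F) (φ : (AlgSp.yon S).obj V ⟶ F) (π₁ : V₂ ⟶ V₁) (π : V₂ ⟶ V)
    (hcomm : (AlgSp.yon S).map π₁ ≫ φ₁ = (AlgSp.yon S).map π ≫ φ)
    (W₁ : V₁.left.Opens) (fst₁ : (AlgSp.yon S).obj (opn V₁ W₁) ⟶ G)
    (sq₁ : IsPullback fst₁ ((AlgSp.yon S).map (opnι V₁ W₁)) j φ₁)
    (W : V.left.Opens) (fst : (AlgSp.yon S).obj (opn V W) ⟶ G)
    (sq : IsPullback fst ((AlgSp.yon S).map (opnι V W)) j φ) :
    π₁.left ⁻¹ᵁ W₁ = π.left ⁻¹ᵁ W :=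
  le_antisymm (preimage_le_of_isPullback j φ φ₁ π π₁ hcomm.symm W fst sq W₁ fst₁ sq₁.w)
    (preimage_le_of_isPullback j φ₁ φ π₁ π hcomm W₁ fst₁ sq₁ W fst sq.w)

/-- **Chart independence of schematic density** (S9968): if the inverse image of `j` is
schematically dense on one surjective etale chart, it is so on every etale chart. -/
theorem isSchematicallyDense_chart {F G : AlgSp.Sp S} (j : G ⟶ F)
    {V₁ : Over S} (φ₁ : (AlgSp.yon S).obj V₁ ⟶ F) (hφ₁e : AlgSp.RepWith @Etale φ₁)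
    (hφ₁s : AlgSp.RepWith @Surjective φ₁)
    (W₁ : V₁.left.Opens) (fst₁ : (AlgSp.yon S).obj (opn V₁ W₁) ⟶ G)
    (sq₁ : IsPullback fst₁ ((AlgSp.yon S).map (opnι V₁ W₁)) j φ₁)
    (hW₁ : CInt.IsSchematicallyDense W₁)
    {V : Over S} (φ : (AlgSp.yon S).obj V ⟶ F) (hφ : AlgSp.RepWith @Etale φ)
    (W : V.left.Opens) (fst : (AlgSp.yon S).obj (opn V W) ⟶ G)
    (sq : IsPullback fst ((AlgSp.yon S).map (opnι V W)) j φ) :
    CInt.IsSchematicallyDense W := by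
  obtain ⟨V₂, π, fst', sq'⟩ := hφ₁e.1 φ
  obtain ⟨π₁, rfl⟩ := (AlgSp.yon S).map_surjective fst'
  have h1 : Etale π.left := hφ₁e.2 φ _ π sq'
  have h2 : Surjective π.left := hφ₁s.2 φ _ π sq'
  have h3 : Etale π₁.left := hφ.2 φ₁ _ π₁ sq'.flip
  have heq : π₁.left ⁻¹ᵁ W₁ = π.left ⁻¹ᵁ W :=
    preimage_eq_of_isPullback j φ₁ φ π₁ π sq'.w W₁ fst₁ sq₁ W fst sq
  have h4 : CInt.IsSchematicallyDense (π₁.left ⁻¹ᵁ W₁) :=
    Groth.Agent.S3843.result π₁.left W₁ hW₁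
  rw [heq] at h4
  exact isSchematicallyDense_of_preimage π.left W h4

/-- The inclusion `W ⟶ W'` of two opens of `V`, over `S`. -/
noncomputable abbrev opnLE (V : Over S) {W W' : V.left.Opens} (h : W ≤ W') : opn V W ⟶ opn V W' :=
  Over.homMk (V.left.homOfLE h) (by
    show V.left.homOfLE h ≫ W'.ι ≫ V.hom = W.ι ≫ V.hom
    rw [Scheme.homOfLE_ι_assoc])

theorem opnLE_opnι (V : Over S) {W W' : V.left.Opens} (h : W ≤ W') :
    opnLE V h ≫ opnι V W' = opnι V W := by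
  ext
  show V.left.homOfLE h ≫ W'.ι = W.ι
  exact Scheme.homOfLE_ι _ _

theorem isPullback_opn_inf (V : Over S) (W W' : V.left.Opens) :
    IsPullback (opnLE V (inf_le_left : W ⊓ W' ≤ W)) (opnLE V (inf_le_right : W ⊓ W' ≤ W'))
      (opnι V W) (opnι V W') := by
  refine IsPullback.of_map (Over.forget S) ?_ ?_
  · rw [opnLE_opnι, opnLE_opnι]
  · exact isPullback_opens_inf W W'

/-- The inverse image of a fibre product `P = GU ×_F GV` of two subsheaves on a chart is the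
intersection of the inverse images. -/
theorem exists_isPullback_inf {F GU GV P : AlgSp.Sp S} (jU : GU ⟶ F) (jV : GV ⟶ F)
    (fst : P ⟶ GU) (snd : P ⟶ GV) (sq : IsPullback fst snd jU jV)
    {V₁ : Over S} (φ₁ : (AlgSp.yon S).obj V₁ ⟶ F) (WU WV : V₁.left.Opens)
    (fstU : (AlgSp.yon S).obj (opn V₁ WU) ⟶ GU)
    (sqU : IsPullback fstU ((AlgSp.yon S).map (opnι V₁ WU)) jU φ₁)
    (fstV : (AlgSp.yon S).obj (opn V₁ WV) ⟶ GV)
    (sqV : IsPullback fstV ((AlgSp.yon S).map (opnι V₁ WV)) jV φ₁) :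
    ∃ fst₀ : (AlgSp.yon S).obj (opn V₁ (WU ⊓ WV)) ⟶ P,
      IsPullback fst₀ ((AlgSp.yon S).map (opnι V₁ (WU ⊓ WV))) (fst ≫ jU) φ₁ := by
  set a₁ := opnLE V₁ (inf_le_left : WU ⊓ WV ≤ WU) with ha₁
  set a₂ := opnLE V₁ (inf_le_right : WU ⊓ WV ≤ WV) with ha₂
  have sq₀ := (isPullback_opn_inf V₁ WU WV).map (AlgSp.yon S)
  have hcomm : ((AlgSp.yon S).map a₁ ≫ fstU) ≫ jU = ((AlgSp.yon S).map a₂ ≫ fstV) ≫ jV := by
    rw [Category.assoc, Category.assoc, sqU.w, sqV.w, ← Category.assoc, ← Category.assoc,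
      ← Functor.map_comp, ← Functor.map_comp, opnLE_opnι, opnLE_opnι]
  refine ⟨sq.lift _ _ hcomm, ?_⟩
  -- outer rectangle `h_{W₀} = GV ×_F h_{WU}`
  have outer : IsPullback ((AlgSp.yon S).map a₂ ≫ fstV) ((AlgSp.yon S).map a₁) jV
      ((AlgSp.yon S).map (opnι V₁ WU) ≫ φ₁) := sq₀.flip.paste_horiz sqV
  have outer' : IsPullback (sq.lift _ _ hcomm ≫ snd) ((AlgSp.yon S).map a₁) jV (fstU ≫ jU) := by
    rw [sq.lift_snd, sqU.w]
    exact outer
  have left : IsPullback (sq.lift _ _ hcomm) ((AlgSp.yon S).map a₁) fst fstU :=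
    IsPullback.of_right outer' (sq.lift_fst _ _ hcomm) sq.flip
  have := left.paste_vert sqU
  rw [← Functor.map_comp, opnLE_opnι] at this
  exact this

/-- The restriction `h⁻¹W ⟶ W` of a morphism `h : U₀ ⟶ V₁` over `S`. -/
noncomputable abbrev opnRes {U₀ V₁ : Over S} (h : U₀ ⟶ V₁) (W : V₁.left.Opens) :
    opn U₀ (h.left ⁻¹ᵁ W) ⟶ opn V₁ W :=
  Over.homMk (h.left ∣_ W) (by
    show (h.left ∣_ W) ≫ W.ι ≫ V₁.hom = (h.left ⁻¹ᵁ W).ι ≫ U₀.hom
    rw [← Category.assoc, morphismRestrict_ι, Category.assoc, Over.w h])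

theorem isPullback_opnRes {U₀ V₁ : Over S} (h : U₀ ⟶ V₁) (W : V₁.left.Opens) :
    IsPullback (opnRes h W) (opnι U₀ (h.left ⁻¹ᵁ W)) (opnι V₁ W) h := by
  refine IsPullback.of_map (Over.forget S) ?_ ?_
  · ext
    show (h.left ∣_ W) ≫ W.ι = (h.left ⁻¹ᵁ W).ι ≫ h.left
    exact morphismRestrict_ι _ _
  · exact isPullback_morphismRestrict h.left W

/-- The inverse image on a chart of the base change `j'` of a subsheaf `j` along `f` is the
preimage (under the chart map `h`) of the inverse image of `j`. -/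
theorem exists_isPullback_preimage {F F' G G' : AlgSp.Sp S} (j : G ⟶ F) (f : F' ⟶ F)
    (fst : G' ⟶ G) (j' : G' ⟶ F') (sq : IsPullback fst j' j f) {V₁ U₀ : Over S}
    (φ₁ : (AlgSp.yon S).obj V₁ ⟶ F) (p : (AlgSp.yon S).obj U₀ ⟶ F') (h : U₀ ⟶ V₁)
    (hcomm : p ≫ f = (AlgSp.yon S).map h ≫ φ₁) (W₁ : V₁.left.Opens)
    (fst₁ : (AlgSp.yon S).obj (opn V₁ W₁) ⟶ G)
    (sq₁ : IsPullback fst₁ ((AlgSp.yon S).map (opnι V₁ W₁)) j φ₁) :
    ∃ fst₀ : (AlgSp.yon S).obj (opn U₀ (h.left ⁻¹ᵁ W₁)) ⟶ G',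
      IsPullback fst₀ ((AlgSp.yon S).map (opnι U₀ (h.left ⁻¹ᵁ W₁))) j' p := by
  have left := (isPullback_opnRes h W₁).map (AlgSp.yon S)
  have outer : IsPullback ((AlgSp.yon S).map (opnRes h W₁) ≫ fst₁)
      ((AlgSp.yon S).map (opnι U₀ (h.left ⁻¹ᵁ W₁))) j ((AlgSp.yon S).map h ≫ φ₁) :=
    left.paste_horiz sq₁
  rw [← hcomm] at outer
  have hc : ((AlgSp.yon S).map (opnRes h W₁) ≫ fst₁) ≫ j =
      ((AlgSp.yon S).map (opnι U₀ (h.left ⁻¹ᵁ W₁)) ≫ p) ≫ f := by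
    rw [Category.assoc _ p f]
    exact outer.w
  refine ⟨sq.lift _ _ hc, ?_⟩
  have outer' : IsPullback (sq.lift _ _ hc ≫ fst)
      ((AlgSp.yon S).map (opnι U₀ (h.left ⁻¹ᵁ W₁))) j (p ≫ f) := by
    rw [sq.lift_fst]
    exact outer
  exact IsPullback.of_right outer' (sq.lift_snd _ _ hc) sq

end Spaces

end Groth.Agent.R2.H95.SchDenseSp
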