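import Mathlib
import Groth.Agent.Lib.Helper12SchDenseExt
import Groth.Agent.Lib.Helper20SchDense
import Groth.Agent.R2.H95SchDenseSp

/-!
# helper39: a proper morphism of flat schemes over a DVR which is an isomorphism over the generic
fibre is an isomorphism near every point whose local ring is a DVR (S19198)

* `eq_of_comp_eq_of_isIso_restrict`: `h ∣_ D` iso ⟹ `h` is "mono on maps landing over `D`".
* `isIso_morphismRestrict_of_section`: a section `s` of a separated `h` over an open `U` is inverse to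
  `h ∣_ U` as soon as the part of `h⁻¹U` over `D` (where `h` is an isomorphism) is schematically dense.
* `isSchematicallyDense_preimage_basicOpen`: the generic fibre of a flat scheme over a domain is
  schematically dense.
* `exists_lift_fromSpecStalk`: valuative criterion at a point whose local ring is a valuation ring.
-/

set_option autoImplicit false
set_option linter.style.haveILetI false
universe u

open CategoryTheory CategoryTheory.Limits AlgebraicGeometry TopologicalSpace Opposite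

namespace Groth.Agent.R2.H39.ModelsIso

section General

variable {Z C : Scheme.{u}}

/-- If `h ∣_ D` is an isomorphism, two morphisms `a b : T ⟶ Z` with `a ≫ h = b ≫ h` landing over
`D` are equal. -/
theorem eq_of_comp_eq_of_isIso_restrict (h : Z ⟶ C) (D : C.Opens) [IsIso (h ∣_ D)]
    {T : Scheme.{u}} (a b : T ⟶ Z) (hab : a ≫ h = b ≫ h) (hb : ∀ t : T, h (b t) ∈ D) : a = b := by
  have ha : ∀ t : T, h (a t) ∈ D := fun t => by
    have : h (a t) = h (b t) := by
      rw [← Scheme.Hom.comp_apply, ← Scheme.Hom.comp_apply, hab]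
    rw [this]; exact hb t
  have hra : Set.range a ⊆ Set.range (h ⁻¹ᵁ D).ι := by
    rintro _ ⟨t, rfl⟩
    rw [Scheme.Opens.range_ι]
    exact ha t
  have hrb : Set.range b ⊆ Set.range (h ⁻¹ᵁ D).ι := by
    rintro _ ⟨t, rfl⟩
    rw [Scheme.Opens.range_ι]
    exact hb t
  let a' := IsOpenImmersion.lift (h ⁻¹ᵁ D).ι a hra
  let b' := IsOpenImmersion.lift (h ⁻¹ᵁ D).ι b hrb
  have ha' : a' ≫ (h ⁻¹ᵁ D).ι = a := IsOpenImmersion.lift_fac _ _ _
  have hb' : b' ≫ (h ⁻¹ᵁ D).ι = b := IsOpenImmersion.lift_fac _ _ _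
  have key : a' ≫ (h ∣_ D) ≫ D.ι = b' ≫ (h ∣_ D) ≫ D.ι := by
    rw [morphismRestrict_ι, ← Category.assoc, ← Category.assoc, ha', hb', hab]
  have key2 : a' = b' := by
    rw [← Category.assoc, ← Category.assoc, cancel_mono, cancel_mono] at key
    exact key
  rw [← ha', ← hb', key2]

/-- A section of a separated morphism over an open `U` is inverse to `h ∣_ U`, provided the part of
`h⁻¹U` lying over an open `D` over which `h` is an isomorphism is schematically dense. -/
theorem isIso_morphismRestrict_of_section (h : Z ⟶ C) [IsSeparated h] (D U : C.Opens)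
    [IsIso (h ∣_ D)] (s : (U : Scheme.{u}) ⟶ Z) (hs : s ≫ h = U.ι)
    (hdense : CInt.IsSchematicallyDense ((h ⁻¹ᵁ U).ι ⁻¹ᵁ (h ⁻¹ᵁ D))) : IsIso (h ∣_ U) := by
  have hrs : Set.range s ⊆ Set.range (h ⁻¹ᵁ U).ι := by
    rintro _ ⟨u, rfl⟩
    rw [Scheme.Opens.range_ι]
    show h (s u) ∈ U
    rw [← Scheme.Hom.comp_apply, hs]
    exact u.2
  let s' := IsOpenImmersion.lift (h ⁻¹ᵁ U).ι s hrs
  have hs' : s' ≫ (h ⁻¹ᵁ U).ι = s := IsOpenImmersion.lift_fac _ _ _
  have h1 : s' ≫ (h ∣_ U) = 𝟙 _ := by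
    rw [← cancel_mono U.ι, Category.assoc, morphismRestrict_ι, ← Category.assoc, hs', hs,
      Category.id_comp]
  haveI : IsSeparated (h ∣_ U) := MorphismProperty.of_isPullback
    (isPullback_morphismRestrict h U).flip inferInstance
  have h2 : (h ∣_ U) ≫ s' = 𝟙 _ := by
    refine Groth.Agent.Lib.Helper12.SchDense.ext_of_isSchematicallyDense (h ∣_ U) ?_
      ((h ⁻¹ᵁ U).ι ⁻¹ᵁ (h ⁻¹ᵁ D)) hdense ?_
    · rw [Category.assoc, h1, Category.comp_id, Category.id_comp]
    · rw [← cancel_mono (h ⁻¹ᵁ U).ι]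
      apply eq_of_comp_eq_of_isIso_restrict h D
      · simp only [Category.assoc, Category.id_comp]
        rw [reassoc_of% hs', hs, morphismRestrict_ι]
      · intro t
        exact t.2
  exact ⟨s', h2, h1⟩

end General

section Dense

variable {Z : Scheme.{u}} {R : Type u} [CommRing R] [IsDomain R] [IsNoetherianRing R]

/-- The generic fibre `ρ⁻¹ D(ϖ)` of a flat scheme over a Noetherian domain is schematically dense. -/
theorem isSchematicallyDense_preimage_basicOpen (ρ : Z ⟶ Spec (CommRingCat.of R)) [Flat ρ] (ϖ : R)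
    (hϖ : ϖ ≠ 0) :
    CInt.IsSchematicallyDense
      (ρ ⁻¹ᵁ (show (Spec (CommRingCat.of R)).Opens from PrimeSpectrum.basicOpen ϖ)) := by
  have hD : CInt.IsSchematicallyDense (X := Spec (CommRingCat.of R))
      (PrimeSpectrum.basicOpen ϖ) := by
    apply Groth.Agent.Lib.Helper20.SchDense.isSchematicallyDense_of_dense_of_isReduced
    have hne : ((PrimeSpectrum.basicOpen ϖ : Opens (PrimeSpectrum R)) : Set (PrimeSpectrum R)).Nonempty :=
      ⟨⟨⊥, Ideal.isPrime_bot⟩, by
        show ϖ ∉ (⊥ : Ideal R)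
        rw [Ideal.mem_bot]; exact hϖ⟩
    exact (PrimeSpectrum.basicOpen ϖ).2.dense hne
  exact Groth.Agent.Lib.Helper12.SchDense.isSchematicallyDense_preimage_of_flat ρ _ hD

end Dense

section Valuative

variable {Z C : Scheme.{u}}

/-- Valuative criterion at a point `c` whose local ring is a valuation ring: if `h` is universally
closed and an isomorphism over an open `D` containing the image of the generic point of
`Spec O_{C,c}`, then `Spec O_{C,c} ⟶ C` lifts to `Z`. -/
theorem exists_lift_fromSpecStalk (h : Z ⟶ C) [UniversallyClosed h] (D : C.Opens) [IsIso (h ∣_ D)]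
    (c : C) [IsDomain (C.presheaf.stalk c)] [ValuationRing (C.presheaf.stalk c)]
    (hD : ∀ x : Spec (CommRingCat.of (FractionRing (C.presheaf.stalk c))),
      (Spec.map (CommRingCat.ofHom (algebraMap (C.presheaf.stalk c)
        (FractionRing (C.presheaf.stalk c)))) ≫ C.fromSpecStalk c) x ∈ D) :
    ∃ ℓ : Spec (C.presheaf.stalk c) ⟶ Z, ℓ ≫ h = C.fromSpecStalk c := by
  let g₀ := Spec.map (CommRingCat.ofHom (algebraMap (C.presheaf.stalk c)
        (FractionRing (C.presheaf.stalk c)))) ≫ C.fromSpecStalk c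
  have hr : Set.range g₀ ⊆ Set.range D.ι := by
    rintro _ ⟨x, rfl⟩
    rw [Scheme.Opens.range_ι]
    exact hD x
  let g₁ := IsOpenImmersion.lift D.ι g₀ hr
  have hg₁ : g₁ ≫ D.ι = g₀ := IsOpenImmersion.lift_fac _ _ _
  let i₁ := g₁ ≫ inv (h ∣_ D) ≫ (h ⁻¹ᵁ D).ι
  have hi₁ : i₁ ≫ h = g₀ := by
    simp only [i₁, Category.assoc]
    rw [← morphismRestrict_ι, IsIso.inv_hom_id_assoc, hg₁]
  have hex : ValuativeCriterion.Existence h := by
    have h0 : (ValuativeCriterion.Existence ⊓ @QuasiCompact) h := by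
      rw [← UniversallyClosed.eq_valuativeCriterion]; infer_instance
    exact h0.1
  obtain ⟨l⟩ := (hex (@ValuativeCommSq.mk _ _ h (C.presheaf.stalk c) inferInstance ‹_› ‹_›
    (FractionRing (C.presheaf.stalk c)) _ _ _ i₁ (C.fromSpecStalk c) ⟨hi₁⟩)).exists_lift
  exact ⟨l.l, l.fac_right⟩

/-- For `C` flat over a domain `R`, the generic point of `Spec O_{C,c}` lies over `D(ϖ)`. -/
theorem fromSpecStalk_generic_mem {R : Type u} [CommRing R] [IsDomain R]
    (πC : C ⟶ Spec (CommRingCat.of R)) [Flat πC] (c : C) [IsDomain (C.presheaf.stalk c)] (ϖ : R)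
    (hϖ : ϖ ≠ 0) (x : Spec (CommRingCat.of (FractionRing (C.presheaf.stalk c)))) :
    πC ((Spec.map (CommRingCat.ofHom (algebraMap (C.presheaf.stalk c)
        (FractionRing (C.presheaf.stalk c)))) ≫ C.fromSpecStalk c) x) ∈
      (PrimeSpectrum.basicOpen ϖ : Opens (PrimeSpectrum R)) := by
  rw [← Scheme.Hom.comp_apply, Category.assoc, ← Scheme.SpecMap_stalkMap_fromSpecStalk,
    Spec.fromSpecStalk_eq, ← Spec.map_comp, ← Spec.map_comp]
  generalize hΨ : (((Scheme.ΓSpecIso (CommRingCat.of R)).inv ≫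
    (Spec (CommRingCat.of R)).presheaf.germ ⊤ (πC c) trivial) ≫ πC.stalkMap c) ≫
    CommRingCat.ofHom (algebraMap (C.presheaf.stalk c) (FractionRing (C.presheaf.stalk c))) = Ψ
  have hinj : Function.Injective Ψ.hom := by
    rw [← hΨ]
    simp only [CommRingCat.hom_comp]
    refine (IsFractionRing.injective _ _).comp
      ((Groth.Agent.R2.H95.SchDenseSp.stalkMap_injective_of_flat πC c).comp ?_)
    exact (germ_injective_of_isIntegral (Spec (CommRingCat.of R)) (πC c)
      (show πC c ∈ (⊤ : (Spec (CommRingCat.of R)).Opens) from trivial)).comp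
      (ConcreteCategory.bijective_of_isIso (Scheme.ΓSpecIso (CommRingCat.of R)).inv).1
  intro hmem
  have h1 : Ψ.hom ϖ ∈ x.asIdeal := hmem
  have h2 : x.asIdeal = ⊥ := Ideal.eq_bot_of_prime x.asIdeal
  rw [h2, Ideal.mem_bot] at h1
  exact hϖ (hinj (h1.trans (map_zero _).symm))

end Valuative

section Main

/-- S19198. -/
theorem exists_nhds_isIso_restrict (R : Type u) [CommRing R] [IsDomain R]
    [IsDiscreteValuationRing R] {C X Z : Scheme.{u}} (πC : C ⟶ Spec (CommRingCat.of R)) [Flat πC]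
    [LocallyOfFiniteType πC] (f : X ⟶ C) [IsProper f] (i : Z ⟶ X) [IsClosedImmersion i]
    [Flat ((i ≫ f) ≫ πC)] (ϖ : R) (hϖ : Irreducible ϖ)
    (hgen : IsIso ((i ≫ f) ∣_ (πC ⁻¹ᵁ (PrimeSpectrum.basicOpen ϖ))))
    (c : C) (hdom : IsDomain (C.presheaf.stalk c)) (hnorm : IsIntegrallyClosed (C.presheaf.stalk c))
    (hdim : ringKrullDim (C.presheaf.stalk c) = 1) :
    ∃ V : C.Opens, c ∈ V ∧ IsIso ((i ≫ f) ∣_ V) := by
  haveI := hgen
  haveI := hdom
  haveI := hnorm
  haveI : IsLocallyNoetherian C := LocallyOfFiniteType.isLocallyNoetherian πC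
  haveI : IsNoetherianRing (C.presheaf.stalk c) := inferInstance
  haveI : ValuationRing (C.presheaf.stalk c) := by
    have hk : Ring.KrullDimLE 1 (C.presheaf.stalk c) := Ring.krullDimLE_iff.mpr hdim.le
    have h4 : IsIntegrallyClosed (C.presheaf.stalk c) ∧ ∀ P : Ideal (C.presheaf.stalk c),
        P ≠ ⊥ → P.IsPrime → P = IsLocalRing.maximalIdeal (C.presheaf.stalk c) :=
      ⟨hnorm, fun P hP hP' => IsLocalRing.eq_maximalIdeal
        (Ring.krullDimLE_one_iff_of_noZeroDivisors.mp hk P hP hP')⟩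
    exact ((tfae_of_isNoetherianRing_of_isLocalRing_of_isDomain
      (C.presheaf.stalk c)).out 3 1).mp h4
  obtain ⟨ℓ, hℓ⟩ := exists_lift_fromSpecStalk (i ≫ f) (πC ⁻¹ᵁ (PrimeSpectrum.basicOpen ϖ)) c
    (fun x => fromSpecStalk_generic_mem πC c ϖ hϖ.ne_zero x)
  obtain ⟨U, hcU, s, -, hs⟩ := spread_out_of_isGermInjective' (𝟙 C) (i ≫ f) ℓ
    (by rw [hℓ, Category.comp_id])
  refine ⟨U, hcU, isIso_morphismRestrict_of_section (i ≫ f) (πC ⁻¹ᵁ (PrimeSpectrum.basicOpen ϖ))
    U s (by rw [hs, Category.comp_id]) ?_⟩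
  exact isSchematicallyDense_preimage_basicOpen (((i ≫ f) ⁻¹ᵁ U).ι ≫ (i ≫ f) ≫ πC) ϖ hϖ.ne_zero

end Main

end Groth.Agent.R2.H39.ModelsIso
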