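import Mathlib

/-!
# Embedding finitely generated domains into a big algebraically closed field

`exists_injective_algHom`: if `Ω` is an algebraically closed `K`-algebra containing an
algebraically independent sequence, every finitely generated `K`-algebra which is a domain
embeds `K`-linearly into `Ω`.

`exists_algHom_ker_eq`: hence every prime of a finitely generated `K`-algebra is the kernel of
some `K`-algebra homomorphism to `Ω`.
-/

set_option autoImplicit false
set_option linter.style.haveILetI false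
universe u v w

namespace Groth.Agent.R2.H39.OmegaPts

open MvPolynomial AlgebraicGeometry CategoryTheory CategoryTheory.Limits

theorem exists_injective_algHom (K : Type u) (Ω : Type v) [Field K] [Field Ω] [IsAlgClosed Ω]
    [Algebra K Ω] (t : ℕ → Ω) (ht : AlgebraicIndependent K t)
    (D : Type w) [CommRing D] [IsDomain D] [Algebra K D] [Algebra.FiniteType K D] :
    ∃ φ : D →ₐ[K] Ω, Function.Injective φ := by
  classical
  obtain ⟨s, g, hginj, hgfin⟩ := exists_finite_inj_algHom_of_fg K D
  -- the map `K[z_1..z_s] → Ω`, `z_i ↦ t_i`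
  have hts : AlgebraicIndependent K (fun i : Fin s => t i) :=
    ht.comp (fun i : Fin s => (i : ℕ)) Fin.val_injective
  let h : MvPolynomial (Fin s) K →ₐ[K] Ω := aeval (fun i : Fin s => t i)
  have hhinj : Function.Injective h := hts
  letI algD : Algebra (MvPolynomial (Fin s) K) D := g.toRingHom.toAlgebra
  letI algΩ : Algebra (MvPolynomial (Fin s) K) Ω := h.toRingHom.toAlgebra
  have hD : Function.Injective (algebraMap (MvPolynomial (Fin s) K) D) := hginj
  have hΩ : Function.Injective (algebraMap (MvPolynomial (Fin s) K) Ω) := hhinj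
  haveI : Module.IsTorsionFree (MvPolynomial (Fin s) K) D :=
    Module.isTorsionFree_iff_algebraMap_injective.mpr hD
  haveI : Module.IsTorsionFree (MvPolynomial (Fin s) K) Ω :=
    Module.isTorsionFree_iff_algebraMap_injective.mpr hΩ
  haveI : Module.Finite (MvPolynomial (Fin s) K) D := hgfin
  haveI : Algebra.IsIntegral (MvPolynomial (Fin s) K) D := Algebra.IsIntegral.of_finite _ _
  haveI : Algebra.IsAlgebraic (MvPolynomial (Fin s) K) D := inferInstance
  let ψ : D →ₐ[MvPolynomial (Fin s) K] Ω := IsAlgClosed.lift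
  have hψg : ∀ p : MvPolynomial (Fin s) K, ψ (g p) = h p := fun p => ψ.commutes p
  -- `ψ` as a `K`-algebra map
  let φ : D →ₐ[K] Ω :=
    { ψ.toRingHom with
      commutes' := fun k => by
        have h1 : algebraMap K D k = g (C k) := by
          rw [← MvPolynomial.algebraMap_eq, AlgHom.commutes]
        have h2 : algebraMap K Ω k = h (C k) := by
          rw [← MvPolynomial.algebraMap_eq, AlgHom.commutes]
        change ψ (algebraMap K D k) = algebraMap K Ω k
        rw [h1, h2, hψg] }
  refine ⟨φ, ?_⟩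
  have hφ : ∀ d, φ d = ψ d := fun _ => rfl
  rw [injective_iff_map_eq_zero]
  intro d hd
  have hker : RingHom.ker ψ.toRingHom = ⊥ := by
    apply Ideal.eq_bot_of_comap_eq_bot (R := MvPolynomial (Fin s) K)
    rw [eq_bot_iff]
    intro p hp
    rw [Ideal.mem_comap, RingHom.mem_ker] at hp
    have : h p = 0 := by rw [← hψg]; exact hp
    rw [Ideal.mem_bot]
    exact hhinj (by rw [this, map_zero])
  have : d ∈ RingHom.ker ψ.toRingHom := by
    rw [RingHom.mem_ker]; exact hd
  rw [hker, Ideal.mem_bot] at this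
  exact this

theorem exists_algHom_ker_eq (K : Type u) (Ω : Type v) [Field K] [Field Ω] [IsAlgClosed Ω]
    [Algebra K Ω] (t : ℕ → Ω) (ht : AlgebraicIndependent K t)
    (B : Type w) [CommRing B] [Algebra K B] [Algebra.FiniteType K B]
    (p : Ideal B) [p.IsPrime] :
    ∃ φ : B →ₐ[K] Ω, RingHom.ker φ.toRingHom = p := by
  haveI : Algebra.FiniteType K (B ⧸ p) :=
    Algebra.FiniteType.of_surjective (Ideal.Quotient.mkₐ K p) (Ideal.Quotient.mkₐ_surjective K p)
  obtain ⟨ψ, hψ⟩ := exists_injective_algHom K Ω t ht (B ⧸ p)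
  refine ⟨ψ.comp (Ideal.Quotient.mkₐ K p), ?_⟩
  ext b
  rw [RingHom.mem_ker]
  change ψ (Ideal.Quotient.mk p b) = 0 ↔ _
  rw [map_eq_zero_iff ψ hψ, Ideal.Quotient.eq_zero_iff_mem]


theorem exists_point_through (K Ω : Type u) [Field K] [Field Ω] [IsAlgClosed Ω] [Algebra K Ω]
    (t : ℕ → Ω) (ht : AlgebraicIndependent K t)
    {Y : Scheme.{u}} (pY : Y ⟶ Spec (CommRingCat.of K)) [LocallyOfFiniteType pY] (y₀ : Y) :
    ∃ y : Spec (CommRingCat.of Ω) ⟶ Y,
      y ≫ pY = Spec.map (CommRingCat.ofHom (algebraMap K Ω)) ∧ y₀ ∈ Set.range y := by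
  let j := Y.affineOpenCover.idx y₀
  let R := Y.affineOpenCover.X j
  obtain ⟨z, hz⟩ : ∃ z : Spec R, Y.affineOpenCover.f j z = y₀ := Y.affineOpenCover.covers y₀
  let ι : Spec R ⟶ Y := Y.affineOpenCover.f j
  haveI : IsOpenImmersion ι := Y.affineOpenCover.map_prop j
  have hLFT : LocallyOfFiniteType (ι ≫ pY) := inferInstance
  let ψ : CommRingCat.of K ⟶ R := Spec.preimage (ι ≫ pY)
  have hψ : Spec.map ψ = ι ≫ pY := Spec.map_preimage _
  have hft : ψ.hom.FiniteType := by
    rw [← hψ] at hLFT
    exact (HasRingHomProperty.Spec_iff (P := @LocallyOfFiniteType)).mp hLFT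
  letI : Algebra K R := ψ.hom.toAlgebra
  haveI : Algebra.FiniteType K R := hft
  obtain ⟨φ, hφ⟩ := exists_algHom_ker_eq K Ω t ht R z.asIdeal
  refine ⟨Spec.map (CommRingCat.ofHom φ.toRingHom) ≫ ι, ?_, ?_⟩
  · rw [Category.assoc, ← hψ, ← Spec.map_comp]
    congr 1
    ext k
    exact φ.commutes k
  · refine ⟨⟨⊥, Ideal.isPrime_bot⟩, ?_⟩
    rw [Scheme.Hom.comp_apply]
    rw [← hz]
    congr 1
    refine PrimeSpectrum.ext ?_
    change Ideal.comap φ.toRingHom ⊥ = z.asIdeal
    rw [← hφ]
    rfl


theorem exists_lift_of_surjective (Ω : Type u) [Field Ω] [IsAlgClosed Ω]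
    {X Y : Scheme.{u}} (f : X ⟶ Y) [LocallyOfFiniteType f] [Surjective f]
    (y : Spec (CommRingCat.of Ω) ⟶ Y) :
    ∃ x : Spec (CommRingCat.of Ω) ⟶ X, x ≫ f = y := by
  haveI : Surjective (pullback.snd f y) := inferInstance
  haveI : LocallyOfFiniteType (pullback.snd f y) := inferInstance
  haveI : JacobsonSpace ((pullback f y : Scheme.{u}) : Type u) := LocallyOfFiniteType.jacobsonSpace (pullback.snd f y)
  obtain ⟨w, -⟩ := (pullback.snd f y).surjective (⟨⊥, Ideal.isPrime_bot⟩ : Spec (CommRingCat.of Ω))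
  have hne : (closedPoints ((pullback f y : Scheme.{u}) : Type u)).Nonempty := by
    by_contra hcon
    rw [Set.not_nonempty_iff_eq_empty] at hcon
    have := closure_closedPoints (X := ((pullback f y : Scheme.{u}) : Type u))
    rw [hcon, closure_empty] at this
    exact (this ▸ Set.mem_univ w : w ∈ (∅ : Set _))
  obtain ⟨z, hz⟩ := hne
  refine ⟨pointOfClosedPoint (pullback.snd f y) z hz ≫ pullback.fst f y, ?_⟩
  rw [Category.assoc, pullback.condition, pointOfClosedPoint_comp_assoc]

end Groth.Agent.R2.H39.OmegaPts
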