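import Mathlib
import Groth.Prelude.Def_DeRham

/-!
# The formal Poincaré lemma (helper91)

Operators on exterior powers (wedge with a vector, contraction with a linear form), the Cartan
formula for a de Rham differential, and the formal Poincaré lemma for `k[[σ]]`.
-/

set_option autoImplicit false
set_option linter.unusedSectionVars false
set_option linter.style.haveILetI false

universe v u

open exteriorPower

namespace Groth.Agent.R2.H91.Poincare

section Operators

variable {A : Type u} [CommRing A] {M : Type u} [AddCommGroup M] [Module A M]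

theorem ι_mul_mem (m : M) (q : ℕ) (x : ExteriorAlgebra A M) (hx : x ∈ ⋀[A]^q M) :
    ExteriorAlgebra.ι A m * x ∈ ⋀[A]^(q + 1) M := by
  show _ ∈ LinearMap.range (ExteriorAlgebra.ι A : M →ₗ[A] ExteriorAlgebra A M) ^ (q + 1)
  rw [pow_succ']
  exact Submodule.mul_mem_mul ⟨m, rfl⟩ hx

/-- Wedge product with a vector, `⋀^q M → ⋀^(q+1) M`. -/
noncomputable def wedge (m : M) (q : ℕ) : ↥(⋀[A]^q M) →ₗ[A] ↥(⋀[A]^(q + 1) M) :=
  (LinearMap.mulLeft A (ExteriorAlgebra.ι A m)).restrict (fun x hx => ι_mul_mem m q x hx)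

theorem wedge_coe (m : M) (q : ℕ) (ω : ↥(⋀[A]^q M)) :
    ((wedge m q ω : ↥(⋀[A]^(q + 1) M)) : ExteriorAlgebra A M) =
      ExteriorAlgebra.ι A m * (ω : ExteriorAlgebra A M) := rfl

theorem wedge_add (m n : M) (q : ℕ) (ω : ↥(⋀[A]^q M)) :
    wedge (m + n) q ω = wedge m q ω + wedge n q ω := by
  apply Subtype.ext
  rw [Submodule.coe_add, wedge_coe, wedge_coe, wedge_coe, map_add, add_mul]

theorem wedge_smul (a : A) (m : M) (q : ℕ) (ω : ↥(⋀[A]^q M)) :
    wedge (a • m) q ω = a • wedge m q ω := by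
  apply Subtype.ext
  rw [Submodule.coe_smul, wedge_coe, wedge_coe, map_smul, smul_mul_assoc]

theorem wedge_wedge_swap (m n : M) (q : ℕ) (ω : ↥(⋀[A]^q M)) :
    wedge m (q + 1) (wedge n q ω) = -wedge n (q + 1) (wedge m q ω) := by
  apply Subtype.ext
  rw [Submodule.coe_neg, wedge_coe, wedge_coe, wedge_coe, wedge_coe, ← mul_assoc, ← mul_assoc,
    ← neg_mul]
  congr 1
  exact eq_neg_of_add_eq_zero_left (ExteriorAlgebra.ι_add_mul_swap m n)

theorem ιMulti_cons (m : M) (q : ℕ) (v : Fin q → M) :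
    ιMulti A (q + 1) (Fin.cons m v) = wedge m q (ιMulti A q v) := by
  apply Subtype.ext
  rw [wedge_coe, ιMulti_apply_coe, ιMulti_apply_coe, ExteriorAlgebra.ιMulti_succ_apply]
  rfl

variable (ε : Module.Dual A M)

theorem contract_mem (q : ℕ) :
    ∀ x ∈ ⋀[A]^(q + 1) M, CliffordAlgebra.contractLeft (Q := (0 : QuadraticForm A M)) ε x ∈
      ⋀[A]^q M := by
  induction q with
  | zero =>
    intro x hx
    have hx' : x ∈ LinearMap.range (ExteriorAlgebra.ι A : M →ₗ[A] ExteriorAlgebra A M) := by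
      have : x ∈ LinearMap.range (ExteriorAlgebra.ι A : M →ₗ[A] ExteriorAlgebra A M) ^ (0 + 1) :=
        hx
      rwa [zero_add, pow_one] at this
    obtain ⟨m, rfl⟩ := hx'
    show _ ∈ LinearMap.range (ExteriorAlgebra.ι A : M →ₗ[A] ExteriorAlgebra A M) ^ 0
    rw [pow_zero, Submodule.one_eq_range]
    exact ⟨ε m, (CliffordAlgebra.contractLeft_ι (Q := (0 : QuadraticForm A M)) ε m).symm⟩
  | succ q ih =>
    intro x hx
    have hx' : x ∈ LinearMap.range (ExteriorAlgebra.ι A : M →ₗ[A] ExteriorAlgebra A M) *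
        LinearMap.range (ExteriorAlgebra.ι A : M →ₗ[A] ExteriorAlgebra A M) ^ (q + 1) := by
      have : x ∈ LinearMap.range (ExteriorAlgebra.ι A : M →ₗ[A] ExteriorAlgebra A M) ^
          (q + 1 + 1) := hx
      rwa [pow_succ'] at this
    clear hx
    induction hx' using Submodule.mul_induction_on' with
    | mem_mul_mem a ha b hb =>
      obtain ⟨m, rfl⟩ := ha
      have h1 := CliffordAlgebra.contractLeft_ι_mul (Q := (0 : QuadraticForm A M)) (d := ε) m b
      rw [h1]
      refine Submodule.sub_mem _ (Submodule.smul_mem _ _ hb) ?_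
      exact ι_mul_mem m q _ (ih b hb)
    | add x _ y _ hx hy =>
      rw [map_add]
      exact Submodule.add_mem _ hx hy

/-- Contraction with a linear form, `⋀^(q+1) M → ⋀^q M`. -/
noncomputable def contr (q : ℕ) : ↥(⋀[A]^(q + 1) M) →ₗ[A] ↥(⋀[A]^q M) :=
  (CliffordAlgebra.contractLeft (Q := (0 : QuadraticForm A M)) ε).restrict (contract_mem ε q)

theorem contr_coe (q : ℕ) (ω : ↥(⋀[A]^(q + 1) M)) :
    ((contr ε q ω : ↥(⋀[A]^q M)) : ExteriorAlgebra A M) =
      CliffordAlgebra.contractLeft (Q := (0 : QuadraticForm A M)) ε (ω : ExteriorAlgebra A M) :=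
  rfl

theorem contr_wedge_succ (m : M) (q : ℕ) (ω : ↥(⋀[A]^(q + 1) M)) :
    contr ε (q + 1) (wedge m (q + 1) ω) = ε m • ω - wedge m q (contr ε q ω) := by
  apply Subtype.ext
  rw [Submodule.coe_sub, Submodule.coe_smul, contr_coe, wedge_coe, wedge_coe, contr_coe]
  exact CliffordAlgebra.contractLeft_ι_mul (Q := (0 : QuadraticForm A M)) (d := ε) m _

theorem contr_wedge_zero (m : M) (ω : ↥(⋀[A]^0 M)) :
    contr ε 0 (wedge m 0 ω) = ε m • ω := by
  apply Subtype.ext
  rw [Submodule.coe_smul, contr_coe, wedge_coe]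
  have h1 := CliffordAlgebra.contractLeft_ι_mul (Q := (0 : QuadraticForm A M)) (d := ε) m
    (ω : ExteriorAlgebra A M)
  rw [h1]
  have h2 : (ω : ExteriorAlgebra A M) ∈
      LinearMap.range (ExteriorAlgebra.ι A : M →ₗ[A] ExteriorAlgebra A M) ^ 0 := ω.2
  rw [pow_zero, Submodule.one_eq_range] at h2
  obtain ⟨a, ha⟩ := h2
  have h3 : CliffordAlgebra.contractLeft (Q := (0 : QuadraticForm A M)) ε
      (ω : ExteriorAlgebra A M) = 0 := by
    rw [← ha]
    exact CliffordAlgebra.contractLeft_algebraMap (Q := (0 : QuadraticForm A M)) ε a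
  rw [h3, mul_zero, sub_zero]

end Operators

section Rule

variable {R : Type v} {A M : Type u} [CommRing R] [CommRing A] [Algebra R A]
  [AddCommGroup M] [Module A M] [Module R M] [IsScalarTower R A M]
  (δ : Derivation R A M) (hgen : Submodule.span A (Set.range δ) = ⊤)
  (d : ∀ p : ℕ, ↥(⋀[A]^p M) →ₗ[R] ↥(⋀[A]^(p + 1) M)) (hd : DeRham.IsRule δ d)

include hgen in
/-- Induction principle: the elements `c · δb₁ ∧ … ∧ δb_q` additively generate `⋀^q M`. -/
theorem gen_induction (q : ℕ) (P : ↥(⋀[A]^q M) → Prop) (h0 : P 0)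
    (hadd : ∀ x y, P x → P y → P (x + y))
    (hg : ∀ (c : A) (b : Fin q → A), P (DeRham.gen δ q c b)) : ∀ ω, P ω := by
  intro ω
  have hspan := exteriorPower.ιMulti_span_of_span (R := A) (n := q) (M := M) hgen
  have hω : ω ∈ Submodule.span A (exteriorPower.ιMulti A q ''
      {v : Fin q → M | Set.range v ⊆ Set.range δ}) := by
    rw [hspan]; exact Submodule.mem_top
  have key : ∀ c : A, P (c • ω) := by
    induction hω using Submodule.span_induction with
    | mem ω h =>
      obtain ⟨v, hv, rfl⟩ := h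
      have hv' : ∀ i, ∃ b : A, δ b = v i := fun i => hv ⟨i, rfl⟩
      choose b hb using hv'
      intro c
      have h2 : c • exteriorPower.ιMulti A q v = DeRham.gen δ q c b := by
        simp only [DeRham.gen, hb]
      rw [h2]; exact hg c b
    | zero => intro c; rw [smul_zero]; exact h0
    | add x y _ _ hx hy => intro c; rw [smul_add]; exact hadd _ _ (hx c) (hy c)
    | smul e x _ hx => intro c; rw [smul_smul]; exact hx (c * e)
  have := key 1
  rwa [one_smul] at this

include hd in
theorem d_gen (q : ℕ) (c : A) (b : Fin q → A) :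
    d q (DeRham.gen δ q c b) = wedge (δ c) q (ιMulti A q (fun i => δ (b i))) := by
  rw [hd q c b, ιMulti_cons]

include hgen hd in
/-- Leibniz rule for multiplication by a function. -/
theorem d_smul (q : ℕ) (g : A) (ω : ↥(⋀[A]^q M)) :
    d q (g • ω) = wedge (δ g) q ω + g • d q ω := by
  refine gen_induction δ hgen q (fun ω => d q (g • ω) = wedge (δ g) q ω + g • d q ω) ?_ ?_ ?_ ω
  · simp only [smul_zero, map_zero, add_zero]
  · intro x y hx hy
    simp only [smul_add, map_add, hx, hy]
    abel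
  · intro c b
    have h1 : g • DeRham.gen δ q c b = DeRham.gen δ q (g * c) b := by
      simp only [DeRham.gen, smul_smul]
    rw [h1, d_gen δ d hd, d_gen δ d hd, Derivation.leibniz, wedge_add, wedge_smul, wedge_smul]
    simp only [DeRham.gen, map_smul]
    abel

include hgen hd in
/-- `d (δb ∧ ω) = - δb ∧ dω`. -/
theorem d_wedge (q : ℕ) (b : A) (ω : ↥(⋀[A]^q M)) :
    d (q + 1) (wedge (δ b) q ω) = -wedge (δ b) (q + 1) (d q ω) := by
  refine gen_induction δ hgen q
    (fun ω => d (q + 1) (wedge (δ b) q ω) = -wedge (δ b) (q + 1) (d q ω)) ?_ ?_ ?_ ω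
  · simp only [map_zero, neg_zero]
  · intro x y hx hy
    simp only [map_add, hx, hy, neg_add]
  · intro c b'
    have h1 : wedge (δ b) q (DeRham.gen δ q c b') = DeRham.gen δ (q + 1) c (Fin.cons b b') := by
      simp only [DeRham.gen, map_smul]
      congr 1
      rw [← ιMulti_cons]
      congr 1
      funext i
      refine Fin.cases ?_ (fun j => ?_) i
      · simp
      · simp
    rw [h1, d_gen δ d hd, d_gen δ d hd]
    have h2 : (fun i => δ ((Fin.cons b b' : Fin (q + 1) → A) i)) =
        Fin.cons (δ b) (fun i => δ (b' i)) := by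
      funext i
      refine Fin.cases ?_ (fun j => ?_) i
      · simp
      · simp
    rw [h2, ιMulti_cons, wedge_wedge_swap]

end Rule


section Cartan

variable {R : Type v} {A M : Type u} [CommRing R] [CommRing A] [Algebra R A]
  [AddCommGroup M] [Module A M] [Module R M] [IsScalarTower R A M]
  (δ : Derivation R A M) (hgen : Submodule.span A (Set.range δ) = ⊤)
  (d : ∀ p : ℕ, ↥(⋀[A]^p M) →ₗ[R] ↥(⋀[A]^(p + 1) M)) (hd : DeRham.IsRule δ d)
  (ε : Module.Dual A M)

/-- The Cartan operator `d ι + ι d` (in degree zero: `ι d`). -/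
noncomputable def L : (q : ℕ) → ↥(⋀[A]^q M) →ₗ[R] ↥(⋀[A]^q M)
  | 0 => ((contr ε 0).restrictScalars R) ∘ₗ d 0
  | q + 1 => d q ∘ₗ ((contr ε q).restrictScalars R) +
      ((contr ε (q + 1)).restrictScalars R) ∘ₗ d (q + 1)

theorem L_zero (ω : ↥(⋀[A]^0 M)) : L d ε 0 ω = contr ε 0 (d 0 ω) := rfl

theorem L_succ (q : ℕ) (ω : ↥(⋀[A]^(q + 1) M)) :
    L d ε (q + 1) ω = d q (contr ε q ω) + contr ε (q + 1) (d (q + 1) ω) := rfl

include hgen hd in
theorem L_wedge (q : ℕ) (b : A) (ω : ↥(⋀[A]^q M)) :
    L d ε (q + 1) (wedge (δ b) q ω) =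
      wedge (δ (ε (δ b))) q ω + wedge (δ b) q (L d ε q ω) := by
  cases q with
  | zero =>
    rw [L_succ, L_zero, contr_wedge_zero, d_wedge δ hgen d hd, map_neg, contr_wedge_succ,
      d_smul δ hgen d hd]
    abel
  | succ q =>
    rw [L_succ, L_succ, contr_wedge_succ, d_wedge δ hgen d hd, map_neg, contr_wedge_succ,
      map_sub, d_smul δ hgen d hd, d_wedge δ hgen d hd, map_add]
    abel

end Cartan


section PowerSeries

variable {k : Type u} [Field k] [CharZero k] {σ : Type u} [Finite σ]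

/-- A `Fintype` structure on the finite index set. -/
noncomputable local instance instFintypeσ : Fintype σ := Fintype.ofFinite σ

/-- The Euler form `v ↦ ∑ Xᵢ vᵢ`. -/
noncomputable def eps : Module.Dual (MvPowerSeries σ k) (σ → MvPowerSeries σ k) :=
  ∑ i : σ, (MvPowerSeries.X i : MvPowerSeries σ k) • LinearMap.proj i

theorem eps_apply (v : σ → MvPowerSeries σ k) :
    eps v = ∑ i : σ, (MvPowerSeries.X i : MvPowerSeries σ k) * v i := by
  unfold eps
  rw [LinearMap.sum_apply]
  rfl

theorem coeff_X_mul_pderiv (i : σ) (f : MvPowerSeries σ k) (α : σ →₀ ℕ) :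
    MvPowerSeries.coeff α (MvPowerSeries.X i * MvPowerSeries.pderiv k i f) =
      (α i : k) * MvPowerSeries.coeff α f := by
  classical
  rw [MvPowerSeries.X_def, MvPowerSeries.coeff_monomial_mul]
  split_ifs with h
  · rw [one_mul, MvPowerSeries.coeff_pderiv, tsub_add_cancel_of_le h]
    have h1 : 1 ≤ α i := Finsupp.single_le_iff.mp h
    have h2 : ((((α - Finsupp.single i 1 : σ →₀ ℕ) i : ℕ)) : k) + 1 = (α i : k) := by
      rw [Finsupp.tsub_apply, Finsupp.single_eq_same]
      have : α i - 1 + 1 = α i := Nat.sub_add_cancel h1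
      exact_mod_cast this
    rw [h2, mul_comm]
  · have h1 : α i = 0 := by
      by_contra h0
      exact h (Finsupp.single_le_iff.mpr (Nat.one_le_iff_ne_zero.mpr h0))
    rw [h1, Nat.cast_zero, zero_mul]

/-- The operator `θ + q` on power series. -/
noncomputable def Th (q : ℕ) (f : MvPowerSeries σ k) : MvPowerSeries σ k :=
  eps (fun i => MvPowerSeries.pderiv k i f) + q • f

theorem coeff_Th (q : ℕ) (f : MvPowerSeries σ k) (α : σ →₀ ℕ) :
    MvPowerSeries.coeff α (Th q f) = ((α.degree + q : ℕ) : k) * MvPowerSeries.coeff α f := by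
  unfold Th
  rw [map_add, eps_apply, map_sum, map_nsmul, nsmul_eq_mul]
  simp only [coeff_X_mul_pderiv]
  rw [← Finset.sum_mul, Finsupp.degree_eq_sum]
  push_cast
  ring

/-- Coefficientwise division by `|α| + q`. -/
noncomputable def Tq (q : ℕ) (g : MvPowerSeries σ k) : MvPowerSeries σ k :=
  fun α => MvPowerSeries.coeff α g / ((α.degree + q : ℕ) : k)

theorem coeff_Tq (q : ℕ) (g : MvPowerSeries σ k) (α : σ →₀ ℕ) :
    MvPowerSeries.coeff α (Tq q g) = MvPowerSeries.coeff α g / ((α.degree + q : ℕ) : k) := rfl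

theorem Th_Tq (q : ℕ) (hq : 0 < q) (g : MvPowerSeries σ k) : Th q (Tq q g) = g := by
  ext α
  rw [coeff_Th, coeff_Tq]
  have h : ((α.degree + q : ℕ) : k) ≠ 0 := by
    have : α.degree + q ≠ 0 := by omega
    exact_mod_cast this
  field_simp

theorem Tq_Th (q : ℕ) (hq : 0 < q) (f : MvPowerSeries σ k) : Tq q (Th q f) = f := by
  ext α
  rw [coeff_Tq, coeff_Th]
  have h : ((α.degree + q : ℕ) : k) ≠ 0 := by
    have : α.degree + q ≠ 0 := by omega
    exact_mod_cast this
  field_simp

theorem Th_zero (q : ℕ) : Th q (0 : MvPowerSeries σ k) = 0 := by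
  ext α
  rw [coeff_Th, map_zero, mul_zero]

end PowerSeries


section Main

variable {k : Type u} [Field k] [CharZero k] {σ : Type u} [Finite σ]
  (δ : Derivation k (MvPowerSeries σ k) (σ → MvPowerSeries σ k))
  (hδ : ∀ (f : MvPowerSeries σ k) (i : σ), δ f i = MvPowerSeries.pderiv k i f)
  (hgen : Submodule.span (MvPowerSeries σ k) (Set.range δ) = ⊤)
  (d : ∀ p : ℕ, ↥(⋀[MvPowerSeries σ k]^p (σ → MvPowerSeries σ k)) →ₗ[k]
    ↥(⋀[MvPowerSeries σ k]^(p + 1) (σ → MvPowerSeries σ k)))
  (hd : DeRham.IsRule δ d)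

attribute [local instance] instFintypeσ

include hδ in
theorem eps_delta (f : MvPowerSeries σ k) :
    eps (δ f) = eps (fun i => MvPowerSeries.pderiv k i f) := by
  congr 1
  funext i
  exact hδ f i

include hδ in
theorem eps_delta_X (i : σ) :
    eps (δ (MvPowerSeries.X i : MvPowerSeries σ k)) = MvPowerSeries.X i := by
  classical
  rw [eps_delta δ hδ, eps_apply, Finset.sum_eq_single i]
  · rw [MvPowerSeries.pderiv_X_self, mul_one]
  · intro j _ hj
    rw [MvPowerSeries.pderiv_X_of_ne (Ne.symm hj), mul_zero]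
  · intro h
    exact absurd (Finset.mem_univ i) h

include hδ hgen hd in
theorem L_eI (q : ℕ) : ∀ (I : Fin q → σ) (f : MvPowerSeries σ k),
    L d eps q (f • ιMulti (MvPowerSeries σ k) q
      (fun j => δ (MvPowerSeries.X (I j) : MvPowerSeries σ k))) =
    Th q f • ιMulti (MvPowerSeries σ k) q
      (fun j => δ (MvPowerSeries.X (I j) : MvPowerSeries σ k)) := by
  induction q with
  | zero =>
    intro I f
    have h1 : f • ιMulti (MvPowerSeries σ k) 0
        (fun j => δ (MvPowerSeries.X (I j) : MvPowerSeries σ k)) =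
        DeRham.gen δ 0 f (fun j => (MvPowerSeries.X (I j) : MvPowerSeries σ k)) := rfl
    rw [h1, L_zero, d_gen δ d hd, contr_wedge_zero, eps_delta δ hδ]
    unfold Th
    rw [zero_smul, add_zero]
  | succ q ih =>
    intro I f
    have h1 : (fun j => δ (MvPowerSeries.X (I j) : MvPowerSeries σ k)) =
        Fin.cons (δ (MvPowerSeries.X (I 0) : MvPowerSeries σ k))
          (fun j => δ (MvPowerSeries.X (Fin.tail I j) : MvPowerSeries σ k)) := by
      funext j
      refine Fin.cases ?_ (fun j' => ?_) j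
      · simp
      · simp [Fin.tail]
    rw [h1, ιMulti_cons, ← LinearMap.map_smul, L_wedge δ hgen d hd, ih, eps_delta_X δ hδ,
      ← LinearMap.map_smul, ← map_add, ← add_smul]
    congr 2
    unfold Th
    rw [succ_nsmul]
    abel

include hδ in
theorem delta_X [DecidableEq σ] (i : σ) :
    δ (MvPowerSeries.X i : MvPowerSeries σ k) = Pi.single i 1 := by
  funext j
  rw [hδ]
  by_cases h : i = j
  · subst h
    rw [MvPowerSeries.pderiv_X_self, Pi.single_eq_same]
  · rw [MvPowerSeries.pderiv_X_of_ne h, Pi.single_eq_of_ne (Ne.symm h)]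

include hδ hgen hd in
theorem L_basis [LinearOrder σ] (q : ℕ) (s : Set.powersetCard σ q) (f : MvPowerSeries σ k) :
    L d eps q (f • (Pi.basisFun (MvPowerSeries σ k) σ).exteriorPower q s) =
      Th q f • (Pi.basisFun (MvPowerSeries σ k) σ).exteriorPower q s := by
  classical
  have h1 : (Pi.basisFun (MvPowerSeries σ k) σ).exteriorPower q s =
      ιMulti (MvPowerSeries σ k) q (fun j => δ (MvPowerSeries.X
        ((Set.powersetCard.ofFinEmbEquiv.symm s) j) : MvPowerSeries σ k)) := by
    rw [exteriorPower.basis_apply]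
    unfold exteriorPower.ιMulti_family
    congr 1
    funext j
    rw [delta_X δ hδ, Function.comp_apply, Pi.basisFun_apply]
  rw [h1]
  exact L_eI δ hδ hgen d hd q _ f

include hδ hgen hd in
theorem L_equivFun_symm [LinearOrder σ] (q : ℕ) (c : Set.powersetCard σ q → MvPowerSeries σ k) :
    L d eps q (((Pi.basisFun (MvPowerSeries σ k) σ).exteriorPower q).equivFun.symm c) =
      ((Pi.basisFun (MvPowerSeries σ k) σ).exteriorPower q).equivFun.symm
        (fun s => Th q (c s)) := by
  letI : Fintype (Set.powersetCard σ q) := Fintype.ofFinite _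
  rw [Module.Basis.equivFun_symm_apply, Module.Basis.equivFun_symm_apply, map_sum]
  refine Finset.sum_congr rfl fun s _ => ?_
  exact L_basis δ hδ hgen d hd q s (c s)

include hδ hgen hd in
theorem L_injective (q : ℕ) (hq : 0 < q) : Function.Injective (L d (eps (k := k) (σ := σ)) q) := by
  letI : LinearOrder σ := LinearOrder.lift' (Finite.equivFin σ) (Equiv.injective _)
  rw [injective_iff_map_eq_zero]
  intro ω hω
  obtain ⟨c, rfl⟩ := ((Pi.basisFun (MvPowerSeries σ k) σ).exteriorPower q).equivFun.symm.surjective ω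
  rw [L_equivFun_symm δ hδ hgen d hd, LinearEquiv.map_eq_zero_iff] at hω
  have hc : c = 0 := by
    funext s
    have h1 : Th q (c s) = 0 := congrFun hω s
    have h2 := Tq_Th q hq (c s)
    rw [h1] at h2
    rw [← h2]
    ext α
    rw [coeff_Tq, map_zero, zero_div]
    rfl
  rw [hc, map_zero]

include hδ hgen hd in
theorem L_surjective (q : ℕ) (hq : 0 < q) : Function.Surjective (L d (eps (k := k) (σ := σ)) q) := by
  letI : LinearOrder σ := LinearOrder.lift' (Finite.equivFin σ) (Equiv.injective _)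
  intro ω
  obtain ⟨c, rfl⟩ := ((Pi.basisFun (MvPowerSeries σ k) σ).exteriorPower q).equivFun.symm.surjective ω
  refine ⟨((Pi.basisFun (MvPowerSeries σ k) σ).exteriorPower q).equivFun.symm
    (fun s => Tq q (c s)), ?_⟩
  rw [L_equivFun_symm δ hδ hgen d hd]
  congr 1
  funext s
  exact Th_Tq q hq (c s)

include hδ hgen in
/-- The formal Poincaré lemma. -/
theorem poincare (hd : DeRham.IsDiff δ d) (p : ℕ) :
    DeRham.cocycles d (p + 1) ≤ DeRham.coboundaries d (p + 1) := by
  intro ω hω
  have hω0 : d (p + 1) ω = 0 := hω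
  obtain ⟨ω', hω'⟩ := L_surjective δ hδ hgen d hd.1 (p + 1) (Nat.succ_pos p) ω
  have hdd : d (p + 1 + 1) (d (p + 1) ω') = 0 := LinearMap.congr_fun (hd.2 (p + 1)) ω'
  have hdd' : d (p + 1) (d p (contr eps p ω')) = 0 := LinearMap.congr_fun (hd.2 p) _
  have hζ : d (p + 1) ω' = 0 := by
    apply L_injective δ hδ hgen d hd.1 (p + 1 + 1) (Nat.succ_pos _)
    rw [map_zero, L_succ, hdd, map_zero, add_zero]
    have h1 : contr eps (p + 1) (d (p + 1) ω') = L d eps (p + 1) ω' - d p (contr eps p ω') := by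
      rw [L_succ]
      abel
    rw [h1, map_sub, hω', hω0, hdd', sub_zero]
  show ω ∈ LinearMap.range (d p)
  refine ⟨contr eps p ω', ?_⟩
  rw [← hω', L_succ, hζ, map_zero, add_zero]

end Main


end Groth.Agent.R2.H91.Poincare
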