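import Mathlib
import Groth.Prelude.Def_DeRham
import Groth.Agent.R2.H91Poincare
import Groth.Agent.Lib.Helper15ExtBC

/-!
# `A → A[X]` is a quasi-isomorphism on de Rham complexes over `ℚ` (helper39)
-/

set_option autoImplicit false
set_option linter.unusedSectionVars false

universe v u

open exteriorPower
open Groth.Agent.R2.H91.Poincare

namespace Groth.Agent.R2.H39.PolyDR

section Generic

variable {R : Type v} {A M : Type u} [CommRing R] [CommRing A] [Algebra R A]
  [AddCommGroup M] [Module A M] [Module R M] [IsScalarTower R A M]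
  (δ : Derivation R A M) (hgen : Submodule.span A (Set.range δ) = ⊤)
  (d : ∀ p : ℕ, ↥(⋀[A]^p M) →ₗ[R] ↥(⋀[A]^(p + 1) M)) (hd : DeRham.IsRule δ d)
  (ε : Module.Dual A M)

include hgen hd in
/-- The Cartan operator is a derivation with respect to multiplication by functions. -/
theorem L_smul (q : ℕ) (g : A) (ω : ↥(⋀[A]^q M)) :
    L d ε q (g • ω) = ε (δ g) • ω + g • L d ε q ω := by
  cases q with
  | zero =>
    rw [L_zero, L_zero, d_smul δ hgen d hd, map_add, contr_wedge_zero, map_smul]
  | succ q =>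
    rw [L_succ, L_succ, d_smul δ hgen d hd, map_smul, d_smul δ hgen d hd, map_add, map_smul,
      contr_wedge_succ, smul_add]
    abel

include hd in
theorem L_comm_d (hdd : ∀ p : ℕ, d (p + 1) ∘ₗ d p = 0) (q : ℕ) (ω : ↥(⋀[A]^q M)) :
    L d ε (q + 1) (d q ω) = d q (L d ε q ω) := by
  have h2 : ∀ (p : ℕ) (x : ↥(⋀[A]^p M)), d (p + 1) (d p x) = 0 :=
    fun p x => LinearMap.congr_fun (hdd p) x
  cases q with
  | zero =>
    rw [L_succ, L_zero, h2, map_zero, add_zero]
  | succ q =>
    rw [L_succ, L_succ, h2, map_zero, add_zero, map_add, h2, zero_add]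

include hgen hd in
/-- `L` on a wedge of eigen-differentials. -/
theorem L_ιMulti : ∀ (q : ℕ) (b : Fin q → A) (m : Fin q → ℕ),
    (∀ i, ε (δ (b i)) = m i • b i) →
    L d ε q (ιMulti A q (fun i => δ (b i))) = (∑ i, m i) • ιMulti A q (fun i => δ (b i)) := by
  intro q
  induction q with
  | zero =>
    intro b m _
    have h1 : ιMulti A 0 (fun i => δ (b i)) = DeRham.gen δ 0 1 b := by
      simp [DeRham.gen]
    rw [L_zero, h1, hd 0 1 b]
    have h2 : (Fin.cons (δ (1 : A)) (fun i => δ (b i)) : Fin (0 + 1) → M) = fun _ => 0 := by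
      funext i
      refine Fin.cases ?_ (fun j => j.elim0) i
      simp
    rw [h2]
    have h3 : ιMulti A (0 + 1) (fun _ => (0 : M)) = 0 :=
      (ιMulti A (0 + 1)).map_coord_zero (0 : Fin (0 + 1)) rfl
    rw [h3, map_zero]
    simp
  | succ q ih =>
    intro b m hb
    have hcons : (fun i => δ (b i)) = Fin.cons (δ (b 0)) (fun i : Fin q => δ (b i.succ)) := by
      funext i
      refine Fin.cases ?_ (fun j => ?_) i
      · simp
      · simp
    rw [hcons, ιMulti_cons, L_wedge δ hgen d hd, ih (fun i => b i.succ) (fun i => m i.succ)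
      (fun i => hb i.succ), hb 0, Fin.sum_univ_succ]
    have hw : ∀ (n : ℕ) (x : M) (η : ↥(⋀[A]^q M)), wedge (n • x) q η = n • wedge x q η := by
      intro n x η
      rw [← Nat.cast_smul_eq_nsmul A, wedge_smul, Nat.cast_smul_eq_nsmul]
    rw [map_nsmul, hw, map_nsmul, add_smul]

include hgen hd in
theorem L_gen (q : ℕ) (c : A) (b : Fin q → A) (mc : ℕ) (m : Fin q → ℕ)
    (hc : ε (δ c) = mc • c) (hb : ∀ i, ε (δ (b i)) = m i • b i) :
    L d ε q (DeRham.gen δ q c b) = (mc + ∑ i, m i) • DeRham.gen δ q c b := by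
  unfold DeRham.gen
  rw [L_smul δ hgen d hd, L_ιMulti δ hgen d hd ε q b m hb, hc, add_smul, smul_assoc,
    smul_comm c]

end Generic

section Indep

variable {N : Type*} [AddCommGroup N] (T : N →+ N)
  (htf : ∀ (n : ℤ), n ≠ 0 → ∀ v : N, n • v = 0 → v = 0)

include htf in
/-- Eigenvectors of an additive endomorphism for distinct integer eigenvalues are independent,
on a torsion-free group. -/
theorem eq_zero_of_sum_eq_zero : ∀ (S : Finset ℕ) (v : ℕ → N),
    (∀ j ∈ S, T (v j) = (j : ℤ) • v j) → ∑ j ∈ S, v j = 0 → ∀ j ∈ S, v j = 0 := by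
  intro S
  induction S using Finset.induction_on with
  | empty => intro v _ _ j hj; simp at hj
  | insert a S ha ih =>
    intro v hv hsum j hj
    -- the vectors `(j - a) • v j`
    have hw : ∀ j ∈ S, T (((j : ℤ) - a) • v j) = (j : ℤ) • (((j : ℤ) - a) • v j) := by
      intro j hj
      rw [map_zsmul, hv j (Finset.mem_insert_of_mem hj), smul_comm]
    have hsum2 : ∑ j ∈ S, ((j : ℤ) - a) • v j = 0 := by
      have h1 : T (∑ j ∈ insert a S, v j) = 0 := by rw [hsum, map_zero]
      rw [map_sum, Finset.sum_insert ha, hv a (Finset.mem_insert_self a S)] at h1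
      have h2 : ∑ j ∈ S, T (v j) = ∑ j ∈ S, (j : ℤ) • v j :=
        Finset.sum_congr rfl fun j hj => hv j (Finset.mem_insert_of_mem hj)
      rw [h2] at h1
      have h3 : (a : ℤ) • (v a + ∑ j ∈ S, v j) = 0 := by
        rw [← Finset.sum_insert ha, hsum, smul_zero]
      rw [smul_add, Finset.smul_sum] at h3
      have h4 : ∑ j ∈ S, ((j : ℤ) - a) • v j =
          ((a : ℤ) • v a + ∑ j ∈ S, (j : ℤ) • v j) - ((a : ℤ) • v a + ∑ j ∈ S, (a : ℤ) • v j) := by
        simp only [sub_smul, Finset.sum_sub_distrib]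
        abel
      rw [h4, h1, h3, sub_zero]
    have hS : ∀ j ∈ S, v j = 0 := by
      intro j hj
      have h0 := ih (fun j => ((j : ℤ) - a) • v j) hw hsum2 j hj
      have hne : ((j : ℤ) - a) ≠ 0 := by
        intro h
        have : j = a := by omega
        exact ha (this ▸ hj)
      exact htf _ hne _ h0
    rcases Finset.mem_insert.mp hj with rfl | hj
    · rw [Finset.sum_insert ha, Finset.sum_eq_zero hS, add_zero] at hsum
      exact hsum
    · exact hS j hj

end Indep

section GenInd

variable {R : Type v} {A M : Type u} [CommRing R] [CommRing A] [Algebra R A]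
  [AddCommGroup M] [Module A M] [Module R M] [IsScalarTower R A M]
  (δ : Derivation R A M) (T : Set A) (hT : Submodule.span A (δ '' T) = ⊤)

include hT in
/-- Induction principle: the elements `c · δb₁ ∧ … ∧ δb_q` with `bᵢ ∈ T` additively generate
`⋀^q M` when `δ(T)` spans `M`. -/
theorem gen_induction_of_span (q : ℕ) (P : ↥(⋀[A]^q M) → Prop) (h0 : P 0)
    (hadd : ∀ x y, P x → P y → P (x + y))
    (hg : ∀ (c : A) (b : Fin q → A), (∀ i, b i ∈ T) → P (DeRham.gen δ q c b)) : ∀ ω, P ω := by
  intro ω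
  have hspan := exteriorPower.ιMulti_span_of_span (R := A) (n := q) (M := M) hT
  have hω : ω ∈ Submodule.span A (exteriorPower.ιMulti A q ''
      {v : Fin q → M | Set.range v ⊆ δ '' T}) := by
    rw [hspan]; exact Submodule.mem_top
  have key : ∀ c : A, P (c • ω) := by
    induction hω using Submodule.span_induction with
    | mem ω h =>
      obtain ⟨v, hv, rfl⟩ := h
      have hv' : ∀ i, ∃ b : A, b ∈ T ∧ δ b = v i := fun i => hv ⟨i, rfl⟩
      choose b hbT hb using hv'
      intro c
      have h2 : c • exteriorPower.ιMulti A q v = DeRham.gen δ q c b := by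
        simp only [DeRham.gen, hb]
      rw [h2]; exact hg c b hbT
    | zero => intro c; rw [smul_zero]; exact h0
    | add x y _ _ hx hy => intro c; rw [smul_add]; exact hadd _ _ (hx c) (hy c)
    | smul e x _ hx => intro c; rw [smul_smul]; exact hx (c * e)
  have := key 1
  rwa [one_smul] at this

end GenInd

section Poly

open Polynomial

variable (R A : Type u) [CommRing R] [CommRing A] [Algebra R A]

/-- The Euler derivation `X · d/dX` of `A[X]` over `R`. -/
noncomputable def euler : Derivation R A[X] A[X] :=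
  (X : A[X]) • (Polynomial.derivative' (R := A)).restrictScalars R

lemma euler_apply (b : A[X]) : euler R A b = X * derivative b := rfl

/-- The linear form on `Ω[A[X]⁄R]` given by the Euler derivation. -/
noncomputable def eps : Module.Dual A[X] (Ω[A[X]⁄R]) := (euler R A).liftKaehlerDifferential

lemma eps_D (b : A[X]) : eps R A (KaehlerDifferential.D R A[X] b) = X * derivative b := by
  rw [eps, Derivation.liftKaehlerDifferential_comp_D, euler_apply]

lemma eps_D_C (a : A) : eps R A (KaehlerDifferential.D R A[X] (C a)) = 0 • (C a) := by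
  rw [eps_D, derivative_C, mul_zero, zero_smul]

lemma eps_D_X : eps R A (KaehlerDifferential.D R A[X] X) = 1 • (X : A[X]) := by
  rw [eps_D, derivative_X, mul_one, one_smul]

lemma eps_D_monomial (n : ℕ) (a : A) :
    eps R A (KaehlerDifferential.D R A[X] (monomial n a)) = n • (monomial n a : A[X]) := by
  rw [eps_D, derivative_monomial]
  cases n with
  | zero => simp
  | succ n =>
    rw [Nat.add_sub_cancel, X_mul_monomial, nsmul_eq_mul, ← C_eq_natCast, C_mul_monomial, mul_comm]

/-- the generating set `A ∪ {X}` of `A[X]`. -/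
def genSet : Set A[X] := Set.range (C : A → A[X]) ∪ {X}

lemma D_mem_span (b : A[X]) : KaehlerDifferential.D R A[X] b ∈
    Submodule.span A[X] (KaehlerDifferential.D R A[X] '' genSet A) := by
  induction b using Polynomial.induction_on with
  | C a => exact Submodule.subset_span ⟨C a, Or.inl ⟨a, rfl⟩, rfl⟩
  | add p q hp hq => rw [map_add]; exact Submodule.add_mem _ hp hq
  | monomial n a h =>
    rw [pow_succ, ← mul_assoc, Derivation.leibniz]
    refine Submodule.add_mem _ (Submodule.smul_mem _ _ ?_) (Submodule.smul_mem _ _ h)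
    exact Submodule.subset_span ⟨X, Or.inr rfl, rfl⟩

lemma span_genSet : Submodule.span A[X] (KaehlerDifferential.D R A[X] '' genSet A) = ⊤ := by
  rw [eq_top_iff, ← KaehlerDifferential.span_range_derivation R A[X], Submodule.span_le]
  rintro _ ⟨b, rfl⟩
  exact D_mem_span R A b

section Decomp

variable {R A}
variable (d' : ∀ p : ℕ, ↥(⋀[A[X]]^p (Ω[A[X]⁄R])) →ₗ[R] ↥(⋀[A[X]]^(p + 1) (Ω[A[X]⁄R])))
  (hd' : DeRham.IsRule (KaehlerDifferential.D R A[X]) d')
  (ψ : ∀ p : ℕ, ↥(⋀[A]^p (Ω[A⁄R])) →+ ↥(⋀[A[X]]^p (Ω[A[X]⁄R])))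
  (hψ : DeRham.IsCxMap (KaehlerDifferential.D R A) (KaehlerDifferential.D R A[X])
    (algebraMap A A[X]) ψ)

/-- the Cartan operator of the Euler field. -/
noncomputable abbrev LE (q : ℕ) : ↥(⋀[A[X]]^q (Ω[A[X]⁄R])) →ₗ[R] ↥(⋀[A[X]]^q (Ω[A[X]⁄R])) :=
  L d' (eps R A) q

include hd' in
lemma LE_gen (q : ℕ) (c : A[X]) (b : Fin q → A[X]) (mc : ℕ) (m : Fin q → ℕ)
    (hc : eps R A (KaehlerDifferential.D R A[X] c) = mc • c)
    (hb : ∀ i, eps R A (KaehlerDifferential.D R A[X] (b i)) = m i • b i) :
    LE d' q (DeRham.gen (KaehlerDifferential.D R A[X]) q c b) =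
      (mc + ∑ i, m i) • DeRham.gen (KaehlerDifferential.D R A[X]) q c b :=
  L_gen (KaehlerDifferential.D R A[X]) (KaehlerDifferential.span_range_derivation R A[X]) d' hd'
    (eps R A) q c b mc m hc hb

include hd' hψ in
/-- forms pulled back from `A` have weight zero. -/
lemma LE_ψ (q : ℕ) (x : ↥(⋀[A]^q (Ω[A⁄R]))) : LE d' q (ψ q x) = 0 := by
  refine gen_induction (KaehlerDifferential.D R A) (KaehlerDifferential.span_range_derivation R A) q
    (fun x => LE d' q (ψ q x) = 0) ?_ ?_ ?_ x
  · simp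
  · intro x y hx hy
    rw [map_add, map_add, hx, hy, add_zero]
  · intro c b
    rw [hψ q c b]
    simp only [Polynomial.algebraMap_eq]
    rw [LE_gen d' hd' q _ _ 0 (fun _ => 0) (eps_D_C R A c) (fun i => eps_D_C R A (b i))]
    simp

include hd' hψ in
/-- weight decomposition of a form on `A[X]`. -/
theorem exists_decomp (q : ℕ) (ω : ↥(⋀[A[X]]^q (Ω[A[X]⁄R]))) :
    ∃ (x : ↥(⋀[A]^q (Ω[A⁄R]))) (f : ℕ →₀ ↥(⋀[A[X]]^q (Ω[A[X]⁄R]))),
      (∀ j, LE d' q (f j) = (j + 1) • f j) ∧ ω = ψ q x + f.sum (fun _ v => v) := by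
  refine gen_induction_of_span (KaehlerDifferential.D R A[X]) (genSet A) (span_genSet R A) q
    (fun ω => ∃ (x : ↥(⋀[A]^q (Ω[A⁄R]))) (f : ℕ →₀ ↥(⋀[A[X]]^q (Ω[A[X]⁄R]))),
      (∀ j, LE d' q (f j) = (j + 1) • f j) ∧ ω = ψ q x + f.sum (fun _ v => v)) ?_ ?_ ?_ ω
  · exact ⟨0, 0, fun j => by simp, by simp⟩
  · rintro ω₁ ω₂ ⟨x₁, f₁, h₁, rfl⟩ ⟨x₂, f₂, h₂, rfl⟩
    refine ⟨x₁ + x₂, f₁ + f₂, fun j => ?_, ?_⟩
    · rw [Finsupp.add_apply, map_add, h₁, h₂, smul_add]
    · rw [map_add, Finsupp.sum_add_index' (fun _ => rfl) (fun _ _ _ => rfl)]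
      abel
  · intro c b hb
    -- reduce `c` to monomials
    induction c using Polynomial.induction_on' with
    | add c₁ c₂ h₁ h₂ =>
      obtain ⟨x₁, f₁, h₁, e₁⟩ := h₁
      obtain ⟨x₂, f₂, h₂, e₂⟩ := h₂
      refine ⟨x₁ + x₂, f₁ + f₂, fun j => ?_, ?_⟩
      · rw [Finsupp.add_apply, map_add, h₁, h₂, smul_add]
      · have : DeRham.gen (KaehlerDifferential.D R A[X]) q (c₁ + c₂) b =
            DeRham.gen (KaehlerDifferential.D R A[X]) q c₁ b +
              DeRham.gen (KaehlerDifferential.D R A[X]) q c₂ b := by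
          simp only [DeRham.gen, add_smul]
        rw [this, e₁, e₂, map_add, Finsupp.sum_add_index' (fun _ => rfl) (fun _ _ _ => rfl)]
        abel
    | monomial n a =>
      classical
      by_cases h0 : n = 0 ∧ ∀ i, b i ∈ Set.range (C : A → A[X])
      · -- weight zero: in the image of `ψ`
        obtain ⟨rfl, hbC⟩ := h0
        choose a' ha' using hbC
        refine ⟨DeRham.gen (KaehlerDifferential.D R A) q a a', 0, fun j => by simp, ?_⟩
        rw [hψ q a a']
        simp only [Finsupp.sum_zero_index, add_zero, Polynomial.algebraMap_eq, ha',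
          monomial_zero_left]
      · -- positive weight
        let m : Fin q → ℕ := fun i => if b i ∈ Set.range (C : A → A[X]) then 0 else 1
        have hm : ∀ i, eps R A (KaehlerDifferential.D R A[X] (b i)) = m i • b i := by
          intro i
          by_cases hi : b i ∈ Set.range (C : A → A[X])
          · have hmi : m i = 0 := if_pos hi
            obtain ⟨a', ha'⟩ := hi
            rw [hmi, ← ha']
            exact eps_D_C R A a'
          · have hX : b i = X := by
              rcases hb i with h | h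
              · exact absurd h hi
              · exact h
            have hmi : m i = 1 := if_neg hi
            rw [hmi, hX]
            exact eps_D_X R A
        have hw := LE_gen d' hd' q (monomial n a) b n m (eps_D_monomial R A n a) hm
        have hpos : 0 < n + ∑ i, m i := by
          by_contra hle
          have hz : n + ∑ i, m i = 0 := by omega
          apply h0
          refine ⟨by omega, fun i => ?_⟩
          have hmi : m i = 0 := by
            have : ∑ i, m i = 0 := by omega
            exact (Finset.sum_eq_zero_iff.mp this) i (Finset.mem_univ i)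
          by_contra hi
          have hmi' : m i = 1 := if_neg hi
          omega
        refine ⟨0, Finsupp.single (n + ∑ i, m i - 1)
          (DeRham.gen (KaehlerDifferential.D R A[X]) q (monomial n a) b), fun j => ?_, ?_⟩
        · by_cases hj : j = n + ∑ i, m i - 1
          · subst hj
            rw [Finsupp.single_eq_same, hw]
            congr 1
            omega
          · rw [Finsupp.single_eq_of_ne hj]
            simp
        · rw [map_zero, zero_add, Finsupp.sum_single_index rfl]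

end Decomp

end Poly

section Retraction

open Polynomial

variable (R A : Type u) [CommRing R] [CommRing A] [Algebra R A]

/-- `A` as an `A[X]`-algebra through `X ↦ 0`. -/
noncomputable local instance algEv : Algebra A[X] A := (Polynomial.constantCoeff (R := A)).toAlgebra

lemma algebraMap_ev (b : A[X]) : algebraMap A[X] A b = b.coeff 0 := rfl

local instance towerEv : IsScalarTower R A[X] A :=
  IsScalarTower.of_algebraMap_eq (fun r => by
    rw [algebraMap_ev, Polynomial.algebraMap_apply, Polynomial.coeff_C_zero])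

/-- the map on Kähler differentials induced by `X ↦ 0`. -/
noncomputable def kmap : Ω[A[X]⁄R] →ₗ[A[X]] Ω[A⁄R] := KaehlerDifferential.map R R A[X] A

lemma kmap_D (b : A[X]) : kmap R A (KaehlerDifferential.D R A[X] b) =
    KaehlerDifferential.D R A (b.coeff 0) := by
  rw [kmap, KaehlerDifferential.map_D, algebraMap_ev]

/-- the retraction `Ω^q_{A[X]} → Ω^q_A`. -/
noncomputable def rho (q : ℕ) : ↥(⋀[A[X]]^q (Ω[A[X]⁄R])) →+ ↥(⋀[A]^q (Ω[A⁄R])) :=
  ((Groth.Agent.Lib.Helper15ExtBC.extScalars A[X] A (Ω[A⁄R]) q) ∘ₗ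
    (exteriorPower.map q (kmap R A))).toAddMonoidHom

lemma rho_gen (q : ℕ) (c : A[X]) (b : Fin q → A[X]) :
    rho R A q (DeRham.gen (KaehlerDifferential.D R A[X]) q c b) =
      DeRham.gen (KaehlerDifferential.D R A) q (c.coeff 0) (fun i => (b i).coeff 0) := by
  unfold DeRham.gen rho
  simp only [LinearMap.toAddMonoidHom_coe, map_smul, LinearMap.comp_apply,
    exteriorPower.map_apply_ιMulti, Groth.Agent.Lib.Helper15ExtBC.extScalars_ιMulti]
  rw [← algebraMap_ev, algebraMap_smul]
  congr 2
  funext i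
  simp [kmap_D]

lemma rho_ιMulti (q : ℕ) (b : Fin q → A[X]) :
    rho R A q (ιMulti A[X] q (fun i => KaehlerDifferential.D R A[X] (b i))) =
      ιMulti A q (fun i => KaehlerDifferential.D R A ((b i).coeff 0)) := by
  have := rho_gen R A q 1 b
  simpa [DeRham.gen] using this

variable {R A}
variable (d : ∀ p : ℕ, ↥(⋀[A]^p (Ω[A⁄R])) →ₗ[R] ↥(⋀[A]^(p + 1) (Ω[A⁄R])))
  (hd : DeRham.IsRule (KaehlerDifferential.D R A) d)
  (d' : ∀ p : ℕ, ↥(⋀[A[X]]^p (Ω[A[X]⁄R])) →ₗ[R] ↥(⋀[A[X]]^(p + 1) (Ω[A[X]⁄R])))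
  (hd' : DeRham.IsRule (KaehlerDifferential.D R A[X]) d')
  (ψ : ∀ p : ℕ, ↥(⋀[A]^p (Ω[A⁄R])) →+ ↥(⋀[A[X]]^p (Ω[A[X]⁄R])))
  (hψ : DeRham.IsCxMap (KaehlerDifferential.D R A) (KaehlerDifferential.D R A[X])
    (algebraMap A A[X]) ψ)

include hψ in
lemma rho_ψ (q : ℕ) (x : ↥(⋀[A]^q (Ω[A⁄R]))) : rho R A q (ψ q x) = x := by
  refine gen_induction (KaehlerDifferential.D R A) (KaehlerDifferential.span_range_derivation R A) q
    (fun x => rho R A q (ψ q x) = x) ?_ ?_ ?_ x
  · simp
  · intro x y hx hy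
    rw [map_add, map_add, hx, hy]
  · intro c b
    rw [hψ q c b, rho_gen]
    simp [Polynomial.algebraMap_eq]

include hψ in
lemma ψ_injective (q : ℕ) : Function.Injective (ψ q) :=
  Function.LeftInverse.injective (g := rho R A q) (rho_ψ ψ hψ q)

include hd hd' in
lemma rho_d (q : ℕ) (ω : ↥(⋀[A[X]]^q (Ω[A[X]⁄R]))) :
    rho R A (q + 1) (d' q ω) = d q (rho R A q ω) := by
  refine gen_induction (KaehlerDifferential.D R A[X])
    (KaehlerDifferential.span_range_derivation R A[X]) q
    (fun ω => rho R A (q + 1) (d' q ω) = d q (rho R A q ω)) ?_ ?_ ?_ ω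
  · simp
  · intro x y hx hy
    rw [map_add, map_add, map_add, map_add, hx, hy]
  · intro c b
    rw [hd' q c b, rho_gen, hd q _ _]
    have h1 : (Fin.cons (KaehlerDifferential.D R A[X] c)
        (fun i => KaehlerDifferential.D R A[X] (b i)) : Fin (q + 1) → Ω[A[X]⁄R]) =
        fun i => KaehlerDifferential.D R A[X] ((Fin.cons c b : Fin (q + 1) → A[X]) i) := by
      funext i
      refine Fin.cases ?_ (fun j => ?_) i <;> simp
    rw [h1, rho_ιMulti]
    congr 1
    funext i
    refine Fin.cases ?_ (fun j => ?_) i <;> simp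

end Retraction

section Main

open Polynomial

variable {R A : Type u} [CommRing R] [CommRing A] [Algebra R A] [Algebra ℚ R]

lemma torsion_free {N : Type*} [AddCommGroup N] [Module R N] (n : ℤ) (hn : n ≠ 0) (v : N)
    (h : n • v = 0) : v = 0 := by
  have h1 : (algebraMap ℚ R (1 / n)) • (n • v) = v := by
    rw [← Int.cast_smul_eq_zsmul R n v, smul_smul]
    have h2 : algebraMap ℚ R (1 / n) * (n : R) = 1 := by
      rw [← map_intCast (algebraMap ℚ R) n, ← map_mul]
      have : (1 / (n : ℚ)) * (n : ℚ) = 1 := by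
        field_simp
      rw [this, map_one]
    rw [h2, one_smul]
  rw [h, smul_zero] at h1
  exact h1.symm

variable (d' : ∀ p : ℕ, ↥(⋀[A[X]]^p (Ω[A[X]⁄R])) →ₗ[R] ↥(⋀[A[X]]^(p + 1) (Ω[A[X]⁄R])))

/-- closed forms of positive weight are exact. -/
lemma mem_coboundaries_of_eig (q j : ℕ) (f : ↥(⋀[A[X]]^q (Ω[A[X]⁄R])))
    (hL : LE d' q f = (j + 1) • f) (hcl : d' q f = 0) : f ∈ DeRham.coboundaries d' q := by
  cases q with
  | zero =>
    have h0 : LE d' 0 f = 0 := by
      show L d' (eps R A) 0 f = 0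
      rw [L_zero, hcl, map_zero]
    rw [h0] at hL
    have hf : f = 0 := by
      refine torsion_free (R := R) ((j + 1 : ℕ) : ℤ) (by omega) f ?_
      rw [natCast_zsmul]
      exact hL.symm
    rw [hf]
    exact Submodule.zero_mem _
  | succ q =>
    have h1 : LE d' (q + 1) f = d' q (contr (eps R A) q f) := by
      show L d' (eps R A) (q + 1) f = _
      rw [L_succ, hcl, map_zero, add_zero]
    rw [h1] at hL
    show f ∈ LinearMap.range (d' q)
    refine ⟨(algebraMap ℚ R (1 / ((j : ℚ) + 1))) • contr (eps R A) q f, ?_⟩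
    rw [map_smul, hL, ← Nat.cast_smul_eq_nsmul R (j + 1) f, smul_smul]
    have h2 : algebraMap ℚ R (1 / ((j : ℚ) + 1)) * ((j + 1 : ℕ) : R) = 1 := by
      rw [← map_natCast (algebraMap ℚ R) (j + 1), ← map_mul]
      have : (1 / ((j : ℚ) + 1)) * ((j + 1 : ℕ) : ℚ) = 1 := by
        push_cast
        field_simp
      rw [this, map_one]
    rw [h2, one_smul]

variable (d : ∀ p : ℕ, ↥(⋀[A]^p (Ω[A⁄R])) →ₗ[R] ↥(⋀[A]^(p + 1) (Ω[A⁄R])))
  (hd : DeRham.IsDiff (KaehlerDifferential.D R A) d)
  (hd' : DeRham.IsDiff (KaehlerDifferential.D R A[X]) d')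
  (ψ : ∀ p : ℕ, ↥(⋀[A]^p (Ω[A⁄R])) →+ ↥(⋀[A[X]]^p (Ω[A[X]⁄R])))
  (hψ : DeRham.IsCxMap (KaehlerDifferential.D R A) (KaehlerDifferential.D R A[X])
    (algebraMap A A[X]) ψ)
  (hcomm : ∀ (p : ℕ) (x : ↥(⋀[A]^p (Ω[A⁄R]))), ψ (p + 1) (d p x) = d' p (ψ p x))

include hd hd' hψ hcomm in
theorem main (i : ℕ) :
    (∀ y ∈ DeRham.cocycles d' i, ∃ x ∈ DeRham.cocycles d i,
        y - ψ i x ∈ DeRham.coboundaries d' i) ∧
      (∀ x ∈ DeRham.cocycles d i, ψ i x ∈ DeRham.coboundaries d' i →
        x ∈ DeRham.coboundaries d i) := by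
  constructor
  · intro y hy
    have hy0 : d' i y = 0 := hy
    obtain ⟨x, f, hf, rfl⟩ := exists_decomp d' hd'.1 ψ hψ i y
    -- the closedness equation
    have hkey : ψ (i + 1) (d i x) + f.sum (fun _ v => d' i v) = 0 := by
      rw [map_add, ← hcomm, map_finsuppSum] at hy0
      exact hy0
    set N := f.support.sup id + 1 with hN
    have hsupp : f.support ⊆ Finset.range N := by
      intro k hk
      rw [Finset.mem_range, hN]
      have : id k ≤ f.support.sup id := Finset.le_sup hk
      simp only [id] at this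
      omega
    let v : ℕ → ↥(⋀[A[X]]^(i + 1) (Ω[A[X]⁄R])) := fun j =>
      match j with
      | 0 => ψ (i + 1) (d i x)
      | k + 1 => d' i (f k)
    have hv : ∀ j ∈ Finset.range (N + 1),
        (LE d' (i + 1)).toAddMonoidHom (v j) = (j : ℤ) • v j := by
      intro j _
      cases j with
      | zero =>
        show LE d' (i + 1) (ψ (i + 1) (d i x)) = _
        rw [LE_ψ d' hd'.1 ψ hψ]
        simp
      | succ k =>
        show LE d' (i + 1) (d' i (f k)) = ((k + 1 : ℕ) : ℤ) • d' i (f k)
        rw [LE, L_comm_d (KaehlerDifferential.D R A[X]) d' hd'.1 (eps R A) hd'.2, ← LE, hf k,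
          map_nsmul, natCast_zsmul]
    have hsum : ∑ j ∈ Finset.range (N + 1), v j = 0 := by
      rw [Finset.sum_range_succ']
      show ∑ k ∈ Finset.range N, d' i (f k) + ψ (i + 1) (d i x) = 0
      rw [← Finsupp.sum_of_support_subset f hsupp (fun _ v => d' i v) (fun _ _ => map_zero _)]
      exact (add_comm _ _).trans hkey
    have hz := eq_zero_of_sum_eq_zero (LE d' (i + 1)).toAddMonoidHom
      (fun n hn w hw => torsion_free (R := R) n hn w hw) (Finset.range (N + 1)) v hv hsum
    have hx0 : d i x = 0 := by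
      apply ψ_injective ψ hψ (i + 1)
      rw [map_zero]
      exact hz 0 (Finset.mem_range.mpr (Nat.succ_pos N))
    have hfk : ∀ k, d' i (f k) = 0 := by
      intro k
      by_cases hk : k < N
      · exact hz (k + 1) (Finset.mem_range.mpr (by omega))
      · have : f k = 0 := by
          by_contra hne
          exact hk (Finset.mem_range.mp (hsupp (Finsupp.mem_support_iff.mpr hne)))
        rw [this, map_zero]
    refine ⟨x, hx0, ?_⟩
    rw [add_sub_cancel_left]
    exact Submodule.sum_mem _ fun k _ => mem_coboundaries_of_eig d' i k (f k) (hf k) (hfk k)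
  · intro x hx hψx
    cases i with
    | zero =>
      have h0 : ψ 0 x = 0 := by
        have : ψ 0 x ∈ (⊥ : Submodule R ↥(⋀[A[X]]^0 (Ω[A[X]⁄R]))) := hψx
        exact (Submodule.mem_bot R).mp this
      have hx0 : x = 0 := by
        apply ψ_injective ψ hψ 0
        rw [h0, map_zero]
      rw [hx0]
      exact Submodule.zero_mem _
    | succ q =>
      obtain ⟨y, hy⟩ := hψx
      show x ∈ LinearMap.range (d q)
      refine ⟨rho R A q y, ?_⟩
      rw [← rho_d d hd.1 d' hd'.1, hy, rho_ψ ψ hψ]

end Main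

end Groth.Agent.R2.H39.PolyDR
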