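import Mathlib
import Groth.Agent.Lib.Helper15ExtBC
import Groth.Agent.R2.H91Poincare

/-!
# Trace on differential forms for `S = R[x]/(x^p - a)` in characteristic `p` (helper39)

* `altQuot`: an alternating map vanishing when one argument lies in a submodule descends to the
  quotient.
* `exists_der`: derivations out of `AdjoinRoot f` (via the trivial square-zero extension).
* the trace map `⋀^{t+1} Ω_{S/Λ} → ⋀^{t+1} Ω_{R/Λ}`.
-/

set_option autoImplicit false
set_option linter.unusedSectionVars false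

universe u

open Polynomial TensorProduct

namespace Groth.Agent.R2.H39.PthRootTrace

section AltQuot

variable {R : Type*} [CommRing R] {M V : Type*} [AddCommGroup M] [Module R M]
  [AddCommGroup V] [Module R V] (N : Submodule R M) {t : ℕ}
  (g : M [⋀^Fin t]→ₗ[R] V) (H : ∀ (m : Fin t → M) (i : Fin t), m i ∈ N → g m = 0)

include H in
theorem alt_update_congr [DecidableEq (Fin t)] (F : Fin t → M) (i : Fin t) (u u' : M)
    (h : u - u' ∈ N) :
    g (Function.update F i u) = g (Function.update F i u') := by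
  rw [← sub_eq_zero, ← AlternatingMap.map_update_sub]
  exact H _ i (by simpa using h)

include H in
theorem alt_congr (m m' : Fin t → M) (h : ∀ i, m i - m' i ∈ N) : g m = g m' := by
  classical
  have key : ∀ s : Finset (Fin t), g (s.piecewise m m') = g m' := by
    intro s
    induction s using Finset.induction_on with
    | empty => simp
    | insert i s hi ih =>
      rw [Finset.piecewise_insert, alt_update_congr N g H _ i (m i) (m' i) (h i)]
      rw [← ih]
      congr 1
      rw [Function.update_eq_self_iff]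
      simp [Finset.piecewise, hi]
  simpa using key Finset.univ

theorem mk_surjInv (z : M ⧸ N) :
    (Submodule.Quotient.mk (Function.surjInv N.mkQ_surjective z) : M ⧸ N) = z :=
  Function.surjInv_eq N.mkQ_surjective z

/-- Descent of an alternating map to the quotient by a submodule. -/
noncomputable def altQuot : (M ⧸ N) [⋀^Fin t]→ₗ[R] V where
  toFun q := g (fun i => Function.surjInv N.mkQ_surjective (q i))
  map_update_add' := by
    intro _ q i x y
    have e : ∀ z, (fun j => Function.surjInv N.mkQ_surjective (Function.update q i z j)) =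
        Function.update (fun j => Function.surjInv N.mkQ_surjective (q j)) i
          (Function.surjInv N.mkQ_surjective z) := by
      intro z
      funext j
      by_cases hj : j = i
      · subst hj; simp
      · simp [hj]
    simp only [e]
    rw [← AlternatingMap.map_update_add]
    apply alt_update_congr N g H
    rw [← Submodule.Quotient.mk_eq_zero]
    simp [mk_surjInv]
  map_update_smul' := by
    intro _ q i c x
    have e : ∀ z, (fun j => Function.surjInv N.mkQ_surjective (Function.update q i z j)) =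
        Function.update (fun j => Function.surjInv N.mkQ_surjective (q j)) i
          (Function.surjInv N.mkQ_surjective z) := by
      intro z
      funext j
      by_cases hj : j = i
      · subst hj; simp
      · simp [hj]
    simp only [e]
    rw [← AlternatingMap.map_update_smul]
    apply alt_update_congr N g H
    rw [← Submodule.Quotient.mk_eq_zero]
    simp [mk_surjInv]
  map_eq_zero_of_eq' := by
    intro q i j hij hne
    exact g.map_eq_zero_of_eq _ (by simp [hij]) hne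

theorem altQuot_mk (m : Fin t → M) :
    altQuot N g H (fun i => N.mkQ (m i)) = g m := by
  show g _ = g m
  apply alt_congr N g H
  intro i
  rw [← Submodule.Quotient.mk_eq_zero]
  simp [mk_surjInv]

end AltQuot

section AdjoinRootDer

variable {R : Type*} [CommRing R] (f : R[X]) {M : Type*} [AddCommGroup M]
  [Module (AdjoinRoot f) M] [Module (AdjoinRoot f)ᵐᵒᵖ M] [IsCentralScalar (AdjoinRoot f) M]

/-- The ring map `r ↦ (r, δ r)` into the trivial square-zero extension. -/
noncomputable def iHom (δ : R →+ M)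
    (hδ : ∀ r r', δ (r * r') = AdjoinRoot.of f r • δ r' + AdjoinRoot.of f r' • δ r) :
    R →+* TrivSqZeroExt (AdjoinRoot f) M where
  toFun r := TrivSqZeroExt.inl (AdjoinRoot.of f r) + TrivSqZeroExt.inr (δ r)
  map_one' := by
    have h1 : δ 1 = 0 := by
      have := hδ 1 1
      simpa using this
    rw [h1]
    simp
  map_mul' r r' := by
    apply TrivSqZeroExt.ext
    · simp
    · simp [hδ, add_comm]
  map_zero' := by simp
  map_add' r r' := by
    apply TrivSqZeroExt.ext
    · simp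
    · simp

theorem iHom_apply (δ : R →+ M)
    (hδ : ∀ r r', δ (r * r') = AdjoinRoot.of f r • δ r' + AdjoinRoot.of f r' • δ r) (r : R) :
    iHom f δ hδ r = TrivSqZeroExt.inl (AdjoinRoot.of f r) + TrivSqZeroExt.inr (δ r) := rfl

theorem exists_der (δ : R →+ M)
    (hδ : ∀ r r', δ (r * r') = AdjoinRoot.of f r • δ r' + AdjoinRoot.of f r' • δ r) (m : M)
    (h : eval₂ (iHom f δ hδ) (TrivSqZeroExt.inl (AdjoinRoot.root f) + TrivSqZeroExt.inr m) f = 0) :
    ∃ D : AdjoinRoot f →+ M, (∀ s s', D (s * s') = s • D s' + s' • D s) ∧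
      (∀ r, D (AdjoinRoot.of f r) = δ r) ∧ D (AdjoinRoot.root f) = m := by
  set φ : AdjoinRoot f →+* TrivSqZeroExt (AdjoinRoot f) M := AdjoinRoot.lift (iHom f δ hδ) _ h
    with hφ
  have hof : ∀ r, φ (AdjoinRoot.of f r) = iHom f δ hδ r := fun r => AdjoinRoot.lift_of h
  have hroot : φ (AdjoinRoot.root f) =
      TrivSqZeroExt.inl (AdjoinRoot.root f) + TrivSqZeroExt.inr m := AdjoinRoot.lift_root h
  let ψ : AdjoinRoot f →ₐ[R] AdjoinRoot f :=
    { toFun := fun s => (φ s).fst
      map_one' := by simp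
      map_mul' := by intro x y; simp
      map_zero' := by simp
      map_add' := by intro x y; simp
      commutes' := by
        intro r
        rw [AdjoinRoot.algebraMap_eq, hof, iHom_apply]
        simp }
  have hψ : ψ = AlgHom.id R _ := by
    apply AdjoinRoot.algHom_ext
    show (φ (AdjoinRoot.root f)).fst = _
    rw [hroot]
    simp
  have hfst : ∀ s, (φ s).fst = s := fun s => congrArg (fun g : AdjoinRoot f →ₐ[R] AdjoinRoot f => g s) hψ
  refine ⟨AddMonoidHom.mk' (fun s => (φ s).snd) (by intro x y; simp), ?_, ?_, ?_⟩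
  · intro s s'
    show (φ (s * s')).snd = s • (φ s').snd + s' • (φ s).snd
    rw [map_mul, TrivSqZeroExt.snd_mul, hfst, hfst, op_smul_eq_smul]
  · intro r
    show (φ (AdjoinRoot.of f r)).snd = _
    rw [hof, iHom_apply]
    simp
  · show (φ (AdjoinRoot.root f)).snd = _
    rw [hroot]
    simp

/-- Package an additive Leibniz map out of `AdjoinRoot f` killing the base ring as a derivation. -/
noncomputable def mkDer (Λ : Type*) [CommRing Λ] [Algebra Λ R] [Module Λ M]
    [IsScalarTower Λ (AdjoinRoot f) M] (D : AdjoinRoot f →+ M)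
    (hD : ∀ s s', D (s * s') = s • D s' + s' • D s)
    (h0 : ∀ l : Λ, D (AdjoinRoot.of f (algebraMap Λ R l)) = 0) :
    Derivation Λ (AdjoinRoot f) M :=
  Derivation.mk'
    { toFun := D
      map_add' := D.map_add
      map_smul' := by
        intro l s
        have h1 : algebraMap Λ (AdjoinRoot f) l = AdjoinRoot.of f (algebraMap Λ R l) := by
          rw [IsScalarTower.algebraMap_apply Λ R (AdjoinRoot f), AdjoinRoot.algebraMap_eq]
        rw [Algebra.smul_def, hD, h1, h0, smul_zero, add_zero, ← h1, algebraMap_smul]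
        rfl }
    hD

@[simp] theorem mkDer_apply (Λ : Type*) [CommRing Λ] [Algebra Λ R] [Module Λ M]
    [IsScalarTower Λ (AdjoinRoot f) M] (D : AdjoinRoot f →+ M)
    (hD : ∀ s s', D (s * s') = s • D s' + s' • D s)
    (h0 : ∀ l : Λ, D (AdjoinRoot.of f (algebraMap Λ R l)) = 0) (s : AdjoinRoot f) :
    mkDer f Λ D hD h0 s = D s := rfl

end AdjoinRootDer

theorem map_smul_eq_zero {A M N : Type*} [CommRing A] [AddCommGroup M] [Module A M]
    [AddCommGroup N] [Module A N] (f : M →ₗ[A] N) (s : A) (x : M) (h : f x = 0) :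
    f (s • x) = 0 := by
  rw [map_smul, h, smul_zero]

section Contr

open Groth.Agent.R2.H91.Poincare

variable {A : Type u} [CommRing A] {M : Type u} [AddCommGroup M] [Module A M]
  (ε : Module.Dual A M)

theorem contr_ιMulti_eq_zero : ∀ (t : ℕ) (v : Fin (t + 1) → M), (∀ j, ε (v j) = 0) →
    contr ε t (exteriorPower.ιMulti A (t + 1) v) = 0
  | 0, v, hv => by
    rw [← Fin.cons_self_tail v, ιMulti_cons, contr_wedge_zero, hv, zero_smul]
  | t + 1, v, hv => by
    rw [← Fin.cons_self_tail v, ιMulti_cons, contr_wedge_succ, hv, zero_smul,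
      contr_ιMulti_eq_zero t (Fin.tail v) (fun j => hv _), map_zero, sub_zero]

theorem contr_ιMulti_cons (t : ℕ) (m : M) (v : Fin t → M) (hv : ∀ j, ε (v j) = 0) :
    contr ε t (exteriorPower.ιMulti A (t + 1) (Fin.cons m v)) =
      ε m • exteriorPower.ιMulti A t v := by
  cases t with
  | zero => rw [ιMulti_cons, contr_wedge_zero]
  | succ t =>
    rw [ιMulti_cons, contr_wedge_succ, contr_ιMulti_eq_zero ε t v hv, map_zero, sub_zero]

theorem ιMulti_snoc_eq (t : ℕ) (m : M) (v : Fin t → M) :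
    exteriorPower.ιMulti A (t + 1) (Fin.snoc v m : Fin (t + 1) → M) =
      Equiv.Perm.sign (finRotate (t + 1)) •
        exteriorPower.ιMulti A (t + 1) (Fin.cons m v : Fin (t + 1) → M) := by
  rw [Fin.snoc_eq_cons_rotate]
  exact AlternatingMap.map_perm (exteriorPower.ιMulti A (t + 1)) _ (finRotate (t + 1))

end Contr

section Generic

open Groth.Agent.R2.H91.Poincare

variable {A : Type u} [CommRing A] {M N : Type u} [AddCommGroup M] [Module A M]
  [AddCommGroup N] [Module A N] {V : Type*} [AddCommGroup V]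
  (ε : M →ₗ[A] A) (π : M →ₗ[A] N) (t : ℕ) (F : ↥(⋀[A]^t N) →+ V)

/-- Contract with `ε`, push forward along `π`, then apply `F`. -/
noncomputable def trGen : ↥(⋀[A]^(t + 1) M) →+ V :=
  F.comp ((exteriorPower.map t π).toAddMonoidHom.comp (contr ε t).toAddMonoidHom)

theorem trGen_apply (ω : ↥(⋀[A]^(t + 1) M)) :
    trGen ε π t F ω = F (exteriorPower.map t π (contr ε t ω)) := rfl

theorem trGen_smul_ιMulti (s : A) (X : Fin (t + 1) → M) (hX : ∀ j, ε (X j) = 0) :
    trGen ε π t F (s • exteriorPower.ιMulti A (t + 1) X) = 0 := by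
  rw [trGen_apply, map_smul, contr_ιMulti_eq_zero ε t X hX, smul_zero, map_zero, map_zero]

theorem trGen_cons (ω : M) (v : Fin t → M) (hv : ∀ j, ε (v j) = 0) :
    trGen ε π t F (exteriorPower.ιMulti A (t + 1) (Fin.cons ω v : Fin (t + 1) → M)) =
      F (ε ω • exteriorPower.ιMulti A t (fun j => π (v j))) := by
  rw [trGen_apply, contr_ιMulti_cons ε t ω v hv, map_smul, exteriorPower.map_apply_ιMulti]
  rfl

theorem trGen_snoc (ω : M) (v : Fin t → M) (hv : ∀ j, ε (v j) = 0) :
    trGen ε π t F (exteriorPower.ιMulti A (t + 1) (Fin.snoc v ω : Fin (t + 1) → M)) =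
      Equiv.Perm.sign (finRotate (t + 1)) •
        F (ε ω • exteriorPower.ιMulti A t (fun j => π (v j))) := by
  rw [ιMulti_snoc_eq, Units.smul_def, map_zsmul, trGen_cons ε π t F ω v hv, ← Units.smul_def]

theorem trGen_algebraMap_smul {R₀ : Type*} [CommRing R₀] [Algebra R₀ A] [Module R₀ V]
    (hF : ∀ (r : R₀) (y : ↥(⋀[A]^t N)), F (algebraMap R₀ A r • y) = r • F y)
    (r : R₀) (ω : ↥(⋀[A]^(t + 1) M)) :
    trGen ε π t F (algebraMap R₀ A r • ω) = r • trGen ε π t F ω := by
  rw [trGen_apply, trGen_apply, map_smul, map_smul, hF]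

end Generic

section PthRoot

variable (p : ℕ) [Fact p.Prime] (Λ R : Type u) [CommRing Λ] [CommRing R] [Algebra Λ R]
  [CharP R p] (a : R)

/-- The submodule `R · da` of `Ω_{R/Λ}`. -/
noncomputable abbrev Nda : Submodule R (Ω[R⁄Λ]) := Submodule.span R {KaehlerDifferential.D Λ R a}

/-- `Ω_{R/Λ} / (da)`. -/
abbrev Qda : Type u := Ω[R⁄Λ] ⧸ Nda Λ R a

theorem root_pow (a : R) :
    AdjoinRoot.root (X ^ p - C a : R[X]) ^ p = AdjoinRoot.of (X ^ p - C a : R[X]) a := by
  have h := AdjoinRoot.eval₂_root (X ^ p - C a : R[X])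
  rw [eval₂_sub, eval₂_pow, eval₂_X, eval₂_C, sub_eq_zero] at h
  exact h

theorem natCast_p_eq_zero (a : R) : ((p : ℕ) : AdjoinRoot (X ^ p - C a : R[X])) = 0 := by
  rw [← map_natCast (algebraMap R (AdjoinRoot (X ^ p - C a : R[X]))) p, CharP.cast_eq_zero,
    map_zero]

/-- The linear form `∂/∂x` on `Ω_{S/Λ}`. -/
theorem exists_eps :
    ∃ ε : Ω[AdjoinRoot (X ^ p - C a : R[X])⁄Λ] →ₗ[AdjoinRoot (X ^ p - C a : R[X])]
        AdjoinRoot (X ^ p - C a : R[X]),
      ε (KaehlerDifferential.D Λ _ (AdjoinRoot.root (X ^ p - C a))) = 1 ∧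
      ∀ η : Ω[R⁄Λ], ε (KaehlerDifferential.map Λ Λ R (AdjoinRoot (X ^ p - C a : R[X])) η) = 0 := by
  have hδ : ∀ r r' : R, (0 : R →+ AdjoinRoot (X ^ p - C a : R[X])) (r * r') =
      AdjoinRoot.of (X ^ p - C a : R[X]) r • (0 : R →+ AdjoinRoot (X ^ p - C a : R[X])) r' +
        AdjoinRoot.of (X ^ p - C a : R[X]) r' • (0 : R →+ AdjoinRoot (X ^ p - C a : R[X])) r := by
    intro r r'; simp
  have h : eval₂ (iHom (X ^ p - C a : R[X]) (0 : R →+ AdjoinRoot (X ^ p - C a : R[X])) hδ)
      (TrivSqZeroExt.inl (AdjoinRoot.root (X ^ p - C a : R[X])) + TrivSqZeroExt.inr 1)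
      (X ^ p - C a : R[X]) = 0 := by
    rw [eval₂_sub, eval₂_pow, eval₂_X, eval₂_C, iHom_apply]
    apply TrivSqZeroExt.ext
    · simp [root_pow]
    · simp only [TrivSqZeroExt.snd_sub, TrivSqZeroExt.snd_pow, TrivSqZeroExt.snd_add,
        TrivSqZeroExt.snd_inl, TrivSqZeroExt.snd_inr, AddMonoidHom.zero_apply, add_zero,
        sub_zero, TrivSqZeroExt.snd_zero]
      rw [← Nat.cast_smul_eq_nsmul (AdjoinRoot (X ^ p - C a : R[X])), natCast_p_eq_zero, zero_smul]
  obtain ⟨D, hD, hof, hroot⟩ := exists_der (X ^ p - C a : R[X]) 0 hδ 1 h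
  refine ⟨(mkDer (X ^ p - C a : R[X]) Λ D hD (fun l => by rw [hof]; rfl)).liftKaehlerDifferential,
    ?_, ?_⟩
  · rw [Derivation.liftKaehlerDifferential_comp_D, mkDer_apply, hroot]
  · intro η
    have hη : η ∈ Submodule.span R (Set.range (KaehlerDifferential.D Λ R)) := by
      rw [KaehlerDifferential.span_range_derivation]; trivial
    induction hη using Submodule.span_induction with
    | mem x hx =>
      obtain ⟨r, rfl⟩ := hx
      rw [KaehlerDifferential.map_D, Derivation.liftKaehlerDifferential_comp_D, mkDer_apply,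
        AdjoinRoot.algebraMap_eq, hof]
      rfl
    | zero => simp
    | add x y _ _ hx hy => rw [map_add, map_add, hx, hy, add_zero]
    | smul r x _ hx => rw [map_smul, LinearMap.map_smul_of_tower, hx, smul_zero]

/-- The projection `Ω_{S/Λ} → S ⊗_R (Ω_{R/Λ}/(da))` (coefficientwise differential). -/
theorem exists_pi :
    ∃ π : Ω[AdjoinRoot (X ^ p - C a : R[X])⁄Λ] →ₗ[AdjoinRoot (X ^ p - C a : R[X])]
        AdjoinRoot (X ^ p - C a : R[X]) ⊗[R] Qda Λ R a,
      π (KaehlerDifferential.D Λ _ (AdjoinRoot.root (X ^ p - C a))) = 0 ∧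
      ∀ η : Ω[R⁄Λ], π (KaehlerDifferential.map Λ Λ R (AdjoinRoot (X ^ p - C a : R[X])) η) =
        (1 : AdjoinRoot (X ^ p - C a : R[X])) ⊗ₜ[R] (Nda Λ R a).mkQ η := by
  let δ₂ : R →+ AdjoinRoot (X ^ p - C a : R[X]) ⊗[R] Qda Λ R a :=
    AddMonoidHom.mk' (fun r => (1 : AdjoinRoot (X ^ p - C a : R[X])) ⊗ₜ[R]
      (Nda Λ R a).mkQ (KaehlerDifferential.D Λ R r)) (by intro r r'; rw [map_add, map_add, tmul_add])
  have hδ₂ : ∀ r, δ₂ r = (1 : AdjoinRoot (X ^ p - C a : R[X])) ⊗ₜ[R]
      (Nda Λ R a).mkQ (KaehlerDifferential.D Λ R r) := fun r => rfl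
  have hδ : ∀ r r' : R, δ₂ (r * r') =
      AdjoinRoot.of (X ^ p - C a : R[X]) r • δ₂ r' +
        AdjoinRoot.of (X ^ p - C a : R[X]) r' • δ₂ r := by
    intro r r'
    rw [hδ₂, hδ₂, hδ₂, Derivation.leibniz, map_add, map_smul, map_smul, tmul_add, tmul_smul,
      tmul_smul, ← algebraMap_smul (AdjoinRoot (X ^ p - C a : R[X])) r,
      ← algebraMap_smul (AdjoinRoot (X ^ p - C a : R[X])) r', AdjoinRoot.algebraMap_eq]
  have hda : δ₂ a = 0 := by
    rw [hδ₂]
    have : (Nda Λ R a).mkQ (KaehlerDifferential.D Λ R a) = 0 := by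
      rw [Submodule.mkQ_apply, Submodule.Quotient.mk_eq_zero]
      exact Submodule.mem_span_singleton_self _
    rw [this, tmul_zero]
  have h : eval₂ (iHom (X ^ p - C a : R[X]) δ₂ hδ)
      (TrivSqZeroExt.inl (AdjoinRoot.root (X ^ p - C a : R[X])) + TrivSqZeroExt.inr 0)
      (X ^ p - C a : R[X]) = 0 := by
    rw [eval₂_sub, eval₂_pow, eval₂_X, eval₂_C, iHom_apply, hda, TrivSqZeroExt.inr_zero, add_zero,
      add_zero, TrivSqZeroExt.inl_pow, root_pow, sub_self]
  obtain ⟨D, hD, hof, hroot⟩ := exists_der (X ^ p - C a : R[X]) δ₂ hδ 0 h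
  refine ⟨(mkDer (X ^ p - C a : R[X]) Λ D hD (fun l => by
      rw [hof, hδ₂, Derivation.map_algebraMap, map_zero, tmul_zero])).liftKaehlerDifferential,
    ?_, ?_⟩
  · rw [Derivation.liftKaehlerDifferential_comp_D, mkDer_apply, hroot]
  · intro η
    have hη : η ∈ Submodule.span R (Set.range (KaehlerDifferential.D Λ R)) := by
      rw [KaehlerDifferential.span_range_derivation]; trivial
    induction hη using Submodule.span_induction with
    | mem x hx =>
      obtain ⟨r, rfl⟩ := hx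
      rw [KaehlerDifferential.map_D, Derivation.liftKaehlerDifferential_comp_D, mkDer_apply,
        AdjoinRoot.algebraMap_eq, hof, hδ₂]
    | zero => simp
    | add x y _ _ hx hy => rw [map_add, map_add, hx, hy, map_add, tmul_add]
    | smul r x _ hx =>
      have e1 : KaehlerDifferential.map Λ Λ R (AdjoinRoot (X ^ p - C a : R[X])) (r • x) =
          r • KaehlerDifferential.map Λ Λ R (AdjoinRoot (X ^ p - C a : R[X])) x :=
        LinearMap.map_smul _ r x
      have e2 : (Nda Λ R a).mkQ (r • x) = r • (Nda Λ R a).mkQ x := LinearMap.map_smul _ r x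
      rw [e1, e2, ← algebraMap_smul (AdjoinRoot (X ^ p - C a : R[X])) r, LinearMap.map_smul, hx,
        algebraMap_smul, tmul_smul]

/-- `η ↦ da ∧ η_1 ∧ … ∧ η_t` as an alternating map. -/
noncomputable def gDa (t : ℕ) : (Ω[R⁄Λ]) [⋀^Fin t]→ₗ[R] ↥(⋀[R]^(t + 1) (Ω[R⁄Λ])) :=
  (exteriorPower.ιMulti R (t + 1) (M := Ω[R⁄Λ])).curryLeft (KaehlerDifferential.D Λ R a)

theorem gDa_apply (t : ℕ) (v : Fin t → Ω[R⁄Λ]) :
    gDa Λ R a t v = exteriorPower.ιMulti R (t + 1)
      (Fin.cons (KaehlerDifferential.D Λ R a) v : Fin (t + 1) → Ω[R⁄Λ]) := rfl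

theorem gDa_eq_zero (t : ℕ) (v : Fin t → Ω[R⁄Λ]) (i : Fin t) (hi : v i ∈ Nda Λ R a) :
    gDa Λ R a t v = 0 := by
  classical
  have hle : Nda Λ R a ≤ LinearMap.ker ((gDa Λ R a t).toMultilinearMap.toLinearMap v i) := by
    rw [Submodule.span_le, Set.singleton_subset_iff]
    show (gDa Λ R a t).toMultilinearMap.toLinearMap v i (KaehlerDifferential.D Λ R a) = 0
    rw [MultilinearMap.toLinearMap_apply]
    show gDa Λ R a t _ = 0
    rw [gDa_apply]
    exact (exteriorPower.ιMulti R (t + 1) (M := Ω[R⁄Λ])).map_eq_zero_of_eq _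
      (i := 0) (j := i.succ) (by simp) (Fin.succ_ne_zero i).symm
  have h := hle hi
  rw [LinearMap.mem_ker, MultilinearMap.toLinearMap_apply, Function.update_eq_self] at h
  exact h

/-- Wedge with `da`: `⋀^t (Ω_R/(da)) → ⋀^{t+1} Ω_R`. -/
noncomputable def wDa (t : ℕ) : ↥(⋀[R]^t (Qda Λ R a)) →ₗ[R] ↥(⋀[R]^(t + 1) (Ω[R⁄Λ])) :=
  exteriorPower.alternatingMapLinearEquiv
    (altQuot (Nda Λ R a) (gDa Λ R a t) (gDa_eq_zero Λ R a t))

theorem wDa_ιMulti (t : ℕ) (v : Fin t → Ω[R⁄Λ]) :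
    wDa Λ R a t (exteriorPower.ιMulti R t (fun i => (Nda Λ R a).mkQ (v i))) =
      exteriorPower.ιMulti R (t + 1)
        (Fin.cons (KaehlerDifferential.D Λ R a) v : Fin (t + 1) → Ω[R⁄Λ]) := by
  unfold wDa
  rw [exteriorPower.alternatingMapLinearEquiv_apply_ιMulti, altQuot_mk, gDa_apply]

theorem monic_f : (X ^ p - C a : R[X]).Monic :=
  monic_X_pow_sub_C a (Fact.out : p.Prime).ne_zero

/-- The coefficient of `x^(p-1)`. -/
noncomputable def kTop : AdjoinRoot (X ^ p - C a : R[X]) →ₗ[R] R :=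
  (Polynomial.lcoeff R (p - 1)) ∘ₗ (AdjoinRoot.modByMonicHom (monic_f p R a))

theorem kTop_root_pow (i : ℕ) (hi : i < p) :
    kTop p R a (AdjoinRoot.root (X ^ p - C a : R[X]) ^ i) = if i = p - 1 then 1 else 0 := by
  have hnt : Nontrivial R := CharP.nontrivial_of_char_ne_one (R := R) (Fact.out : p.Prime).ne_one
  have h1 : AdjoinRoot.root (X ^ p - C a : R[X]) ^ i =
      AdjoinRoot.mk (X ^ p - C a : R[X]) (X ^ i) := by rw [map_pow, AdjoinRoot.mk_X]
  have h2 : (X ^ i : R[X]) %ₘ (X ^ p - C a : R[X]) = X ^ i := by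
    rw [Polynomial.modByMonic_eq_self_iff (monic_f p R a), degree_X_pow,
      degree_X_pow_sub_C (Fact.out : p.Prime).pos]
    exact_mod_cast hi
  unfold kTop
  rw [h1, LinearMap.comp_apply, AdjoinRoot.modByMonicHom_mk, h2, lcoeff_apply, coeff_X_pow]
  simp [eq_comm]

/-- The `R`-linear part of the trace: base change back, take the top coefficient, wedge with
`da`. -/
theorem exists_F (t : ℕ) :
    ∃ F : ↥(⋀[AdjoinRoot (X ^ p - C a : R[X])]^t (AdjoinRoot (X ^ p - C a : R[X]) ⊗[R] Qda Λ R a)) →+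
        ↥(⋀[R]^(t + 1) (Ω[R⁄Λ])),
      (∀ (s : AdjoinRoot (X ^ p - C a : R[X])) (v : Fin t → Ω[R⁄Λ]),
        F (s • exteriorPower.ιMulti (AdjoinRoot (X ^ p - C a : R[X])) t
          (fun j => (1 : AdjoinRoot (X ^ p - C a : R[X])) ⊗ₜ[R] (Nda Λ R a).mkQ (v j))) =
        kTop p R a s • exteriorPower.ιMulti R (t + 1)
          (Fin.cons (KaehlerDifferential.D Λ R a) v : Fin (t + 1) → Ω[R⁄Λ])) ∧
      (∀ (r : R) (y : ↥(⋀[AdjoinRoot (X ^ p - C a : R[X])]^t
          (AdjoinRoot (X ^ p - C a : R[X]) ⊗[R] Qda Λ R a))),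
        F (algebraMap R (AdjoinRoot (X ^ p - C a : R[X])) r • y) = r • F y) := by
  let b := (Groth.Agent.Lib.Helper15ExtBC.bcEquiv R (AdjoinRoot (X ^ p - C a : R[X]))
    (Qda Λ R a) t).symm
  let kk : AdjoinRoot (X ^ p - C a : R[X]) ⊗[R] ↥(⋀[R]^t (Qda Λ R a)) →ₗ[R] ↥(⋀[R]^t (Qda Λ R a)) :=
    (TensorProduct.lid R _).toLinearMap ∘ₗ LinearMap.rTensor _ (kTop p R a)
  have hkk : ∀ (s : AdjoinRoot (X ^ p - C a : R[X])) (z : ↥(⋀[R]^t (Qda Λ R a))),
      kk (s ⊗ₜ[R] z) = kTop p R a s • z := by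
    intro s z
    show (TensorProduct.lid R _) (LinearMap.rTensor _ (kTop p R a) (s ⊗ₜ[R] z)) = _
    rw [LinearMap.rTensor_tmul, TensorProduct.lid_tmul]
  refine ⟨AddMonoidHom.mk' (fun y => wDa Λ R a t (kk (b y))) (by intro x y; simp only [map_add]),
    ?_, ?_⟩
  · intro s v
    show wDa Λ R a t (kk (b _)) = _
    have h2 : b (s • exteriorPower.ιMulti (AdjoinRoot (X ^ p - C a : R[X])) t
        (fun j => (1 : AdjoinRoot (X ^ p - C a : R[X])) ⊗ₜ[R] (Nda Λ R a).mkQ (v j))) =
        s ⊗ₜ[R] exteriorPower.ιMulti R t (fun j => (Nda Λ R a).mkQ (v j)) := by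
      rw [LinearEquiv.symm_apply_eq, Groth.Agent.Lib.Helper15ExtBC.bcEquiv_tmul,
        Groth.Agent.Lib.Helper15ExtBC.fwd0_ιMulti]
    rw [h2, hkk, LinearMap.map_smul, wDa_ιMulti]
  · intro r y
    show wDa Λ R a t (kk (b _)) = r • wDa Λ R a t (kk (b y))
    rw [LinearEquiv.map_smul, algebraMap_smul, LinearMap.map_smul, LinearMap.map_smul]

open Groth.Agent.R2.H91.Poincare in
theorem exists_trace (t : ℕ) :
    ∃ Tr : (⋀[AdjoinRoot (X ^ p - C a : R[X])]^(t + 1) (Ω[AdjoinRoot (X ^ p - C a : R[X])⁄Λ])) →+ (⋀[R]^(t + 1) (Ω[R⁄Λ])),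
      (∀ (r : R) (ω : ⋀[AdjoinRoot (X ^ p - C a : R[X])]^(t + 1) (Ω[AdjoinRoot (X ^ p - C a : R[X])⁄Λ])),
        Tr (algebraMap R (AdjoinRoot (X ^ p - C a : R[X])) r • ω) = r • Tr ω) ∧
      (∀ (η : Fin t → Ω[R⁄Λ]) (i : ℕ), i + 2 ≤ p →
        Tr (exteriorPower.ιMulti _ (t + 1) (Fin.snoc (fun j => KaehlerDifferential.map Λ Λ R (AdjoinRoot (X ^ p - C a : R[X])) (η j))
          (AdjoinRoot.root (X ^ p - C a) ^ i • KaehlerDifferential.D Λ _ (AdjoinRoot.root (X ^ p - C a))))) = 0) ∧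
      (∀ (η : Fin t → Ω[R⁄Λ]),
        Tr (exteriorPower.ιMulti _ (t + 1) (Fin.snoc (fun j => KaehlerDifferential.map Λ Λ R (AdjoinRoot (X ^ p - C a : R[X])) (η j))
          (AdjoinRoot.root (X ^ p - C a) ^ (p - 1) • KaehlerDifferential.D Λ _ (AdjoinRoot.root (X ^ p - C a))))) =
          exteriorPower.ιMulti R (t + 1) (Fin.snoc η (KaehlerDifferential.D Λ R a))) ∧
      (∀ (s : AdjoinRoot (X ^ p - C a : R[X])) (η : Fin (t + 1) → Ω[R⁄Λ]),
        Tr (s • exteriorPower.ιMulti _ (t + 1) (fun j => KaehlerDifferential.map Λ Λ R (AdjoinRoot (X ^ p - C a : R[X])) (η j))) = 0) := by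
  obtain ⟨ε, hε1, hε0⟩ := exists_eps p Λ R a
  obtain ⟨π, hπ1, hπ0⟩ := exists_pi p Λ R a
  obtain ⟨F, hF1, hF2⟩ := exists_F p Λ R a t
  have hε_pow : ∀ i : ℕ, ε (AdjoinRoot.root (X ^ p - C a : R[X]) ^ i •
      KaehlerDifferential.D Λ _ (AdjoinRoot.root (X ^ p - C a : R[X]))) =
      AdjoinRoot.root (X ^ p - C a : R[X]) ^ i := by
    intro i
    rw [LinearMap.map_smul, hε1, smul_eq_mul, mul_one]
  refine ⟨trGen ε π t F, ?_, ?_, ?_, ?_⟩
  · exact trGen_algebraMap_smul ε π t F hF2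
  · intro η i hi
    rw [trGen_snoc ε π t F _ _ (fun j => hε0 (η j)), hε_pow]
    simp only [hπ0]
    rw [hF1, kTop_root_pow p R a i (by omega), if_neg (by omega), zero_smul, smul_zero]
  · intro η
    rw [trGen_snoc ε π t F _ _ (fun j => hε0 (η j)), hε_pow]
    simp only [hπ0]
    rw [hF1, kTop_root_pow p R a (p - 1) (Nat.sub_lt (Fact.out : p.Prime).pos one_pos),
      if_pos rfl, one_smul, ιMulti_snoc_eq]
  · intro s η
    exact trGen_smul_ιMulti ε π t F s _ (fun j => hε0 (η j))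

end PthRoot

end Groth.Agent.R2.H39.PthRootTrace
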