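import Groth.Prelude.Def_KGr
import Groth.Agent.Lib.Helper4LambdaFil
import Mathlib

/-!
# helper39: the extended Rees ring of the γ-filtration and its quotient `KGr.GrZ`

Description of `KGr.rees P` by coefficients (`p ∈ rees P ↔ ∀ k, coeff_k p ∈ F^(-k)`), of the ideal `(t)`,
the classes `cls n : F^n →+ GrZ P`, the projections `proj n : GrZ P →ₗ[ℤ] K ⧸ F^(n+1)`.
-/

set_option autoImplicit false
set_option linter.unusedSectionVars false
universe v
open LambdaRing LaurentPolynomial KGr
open Groth.Agent.Lib.Helper4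

namespace Groth.Agent.R2.H39.Rees

noncomputable section

variable {K : Type v} [CommRing K] [LambdaOps K] (P : PosStructure K)

theorem toNat_add_le (i j : ℤ) : (-(i + j)).toNat ≤ (-i).toNat + (-j).toNat := by omega

/-- the Rees ring described by coefficients -/
def reesC : Subring (LaurentPolynomial K) where
  carrier := {p | ∀ k : ℤ, p.coeff k ∈ gammaFiltration P (-k).toNat}
  zero_mem' k := by
    rw [AddMonoidAlgebra.coeff_zero, Finsupp.zero_apply]
    exact AddSubgroup.zero_mem _
  add_mem' {p q} hp hq k := by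
    rw [AddMonoidAlgebra.coeff_add, Finsupp.add_apply]
    exact AddSubgroup.add_mem _ (hp k) (hq k)
  neg_mem' {p} hp k := by
    rw [AddMonoidAlgebra.coeff_neg, Finsupp.neg_apply]
    exact AddSubgroup.neg_mem _ (hp k)
  one_mem' k := by
    by_cases hk : k = 0
    · subst hk
      rw [neg_zero, Int.toNat_zero, gammaFiltration_zero]; trivial
    · have : (1 : LaurentPolynomial K).coeff k = 0 := by
        rw [← LaurentPolynomial.T_zero, T_apply, if_neg (Ne.symm hk)]
      rw [this]; exact AddSubgroup.zero_mem _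
  mul_mem' {p q} hp hq k := by
    rw [AddMonoidAlgebra.coeff_mul_apply_left, Finsupp.sum]
    apply AddSubgroup.sum_mem
    intro i _
    have h1 := mul_mem_gammaFiltration P _ _ _ _ (hp i) (hq (-i + k))
    refine gammaFiltration_anti P ?_ h1
    have := toNat_add_le i (-i + k)
    rwa [show i + (-i + k) = k by ring] at this

theorem mem_reesC {p : LaurentPolynomial K} :
    p ∈ reesC P ↔ ∀ k : ℤ, p.coeff k ∈ gammaFiltration P (-k).toNat := Iff.rfl

theorem coeff_C_mul_T (a : K) (n k : ℤ) :
    (C a * T n : LaurentPolynomial K).coeff k = if n = k then a else 0 := by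
  rw [← single_eq_C_mul_T, AddMonoidAlgebra.coeff_single, Finsupp.single_apply]

theorem C_mul_T_mem_rees (a : K) (n : ℤ) (ha : a ∈ gammaFiltration P (-n).toNat) :
    C a * T n ∈ rees P := by
  rcases le_or_gt n 0 with hn | hn
  · apply Subring.subset_closure
    refine Or.inr ⟨(-n).toNat, a, ha, ?_⟩
    rw [Int.toNat_of_nonneg (by omega), neg_neg]
  · have h0 : C a * T (-((0 : ℕ) : ℤ)) ∈ rees P := by
      apply Subring.subset_closure
      exact Or.inr ⟨0, a, by rw [gammaFiltration_zero]; trivial, rfl⟩
    have h1 : (T 1 : LaurentPolynomial K) ∈ rees P := Subring.subset_closure (Or.inl rfl)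
    have h2 := Subring.mul_mem _ h0 (Subring.pow_mem _ h1 n.toNat)
    rw [T_pow, Nat.cast_zero, neg_zero, T_zero, mul_one, mul_one, Int.toNat_of_nonneg hn.le] at h2
    exact h2

theorem rees_eq : rees P = reesC P := by
  apply le_antisymm
  · apply (Subring.closure_le).mpr
    rintro p (rfl | ⟨n, x, hx, rfl⟩)
    · intro k
      rw [T_apply]
      split_ifs with h
      · subst h
        rw [show (-(1 : ℤ)).toNat = 0 by rfl, gammaFiltration_zero]; trivial
      · exact AddSubgroup.zero_mem _
    · intro k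
      rw [coeff_C_mul_T]
      split_ifs with h
      · subst h
        rw [neg_neg, Int.toNat_natCast]; exact hx
      · exact AddSubgroup.zero_mem _
  · intro p hp
    rw [← AddMonoidAlgebra.sum_coeff_single p, Finsupp.sum]
    apply Subring.sum_mem
    intro k _
    rw [single_eq_C_mul_T]
    exact C_mul_T_mem_rees P _ k (hp k)

theorem mem_rees_iff {p : LaurentPolynomial K} :
    p ∈ rees P ↔ ∀ k : ℤ, p.coeff k ∈ gammaFiltration P (-k).toNat := by
  rw [rees_eq]; rfl

theorem coeff_mul_T (p : LaurentPolynomial K) (n k : ℤ) : (p * T n).coeff k = p.coeff (k - n) := by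
  rw [T, AddMonoidAlgebra.coeff_mul_single_apply, mul_one, sub_eq_add_neg]

/-- membership in the ideal `(t)` of the Rees ring -/
theorem mem_span_t_iff (p : rees P) :
    p ∈ Ideal.span {tGen P} ↔ ∀ k : ℤ, p.1.coeff k ∈ gammaFiltration P (1 - k).toNat := by
  rw [Ideal.mem_span_singleton']
  constructor
  · rintro ⟨q, rfl⟩ k
    have hq := (mem_rees_iff P).mp q.2 (k - 1)
    have : (q * tGen P).1 = q.1 * T 1 := rfl
    rw [this, coeff_mul_T]
    rwa [show -(k - 1) = 1 - k by ring] at hq
  · intro h
    have hq : p.1 * T (-1) ∈ rees P := by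
      rw [mem_rees_iff]
      intro k
      rw [coeff_mul_T]
      have := h (k - -1)
      rwa [show 1 - (k - -1) = -k by ring] at this
    refine ⟨⟨p.1 * T (-1), hq⟩, ?_⟩
    apply Subtype.ext
    change p.1 * T (-1) * T 1 = p.1
    rw [mul_T_assoc, show (-1 : ℤ) + 1 = 0 by ring, T_zero, mul_one]

/-- the element `x t^(-n)` of the Rees ring, for `x ∈ F^n` -/
def reesElt (n : ℕ) (x : gammaFiltration P n) : rees P :=
  ⟨C x.1 * T (-(n : ℤ)), C_mul_T_mem_rees P _ _ (by rw [neg_neg, Int.toNat_natCast]; exact x.2)⟩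

/-- the class in degree `n` of an element of `F^n` -/
def cls (n : ℕ) : gammaFiltration P n →+ GrZ P where
  toFun x := Ideal.Quotient.mk _ (reesElt P n x)
  map_zero' := by
    have : reesElt P n 0 = 0 := by
      apply Subtype.ext
      change C ((0 : gammaFiltration P n) : K) * T (-(n : ℤ)) = 0
      rw [AddSubgroup.coe_zero, map_zero, zero_mul]
    rw [this, map_zero]
  map_add' x y := by
    have : reesElt P n (x + y) = reesElt P n x + reesElt P n y := by
      apply Subtype.ext
      change C ((x + y : gammaFiltration P n) : K) * T (-(n : ℤ)) =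
        C (x : K) * T (-(n : ℤ)) + C (y : K) * T (-(n : ℤ))
      rw [AddSubgroup.coe_add, map_add, add_mul]
    rw [this, map_add]

theorem cls_apply (n : ℕ) (x : gammaFiltration P n) :
    cls P n x = Ideal.Quotient.mk _ (reesElt P n x) := rfl

theorem cls_eq_zero_iff (n : ℕ) (x : gammaFiltration P n) :
    cls P n x = 0 ↔ (x : K) ∈ gammaFiltration P (n + 1) := by
  rw [cls_apply, Ideal.Quotient.eq_zero_iff_mem, mem_span_t_iff]
  change (∀ k : ℤ, (C (x : K) * T (-(n : ℤ))).coeff k ∈ _) ↔ _
  constructor
  · intro h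
    have := h (-(n : ℤ))
    rw [coeff_C_mul_T, if_pos rfl] at this
    rwa [show (1 - -(n : ℤ)).toNat = n + 1 by omega] at this
  · intro h k
    rw [coeff_C_mul_T]
    split_ifs with hk
    · subst hk
      rwa [show (1 - -(n : ℤ)).toNat = n + 1 by omega]
    · exact AddSubgroup.zero_mem _

theorem cls_mul (a b : ℕ) (x : gammaFiltration P a) (y : gammaFiltration P b) :
    cls P a x * cls P b y =
      cls P (a + b) ⟨(x : K) * (y : K), mul_mem_gammaFiltration P a b _ _ x.2 y.2⟩ := by
  rw [cls_apply, cls_apply, cls_apply, ← map_mul]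
  congr 1
  apply Subtype.ext
  change C (x : K) * T (-(a : ℤ)) * (C (y : K) * T (-(b : ℤ))) = C ((x : K) * (y : K)) * T (-((a + b : ℕ) : ℤ))
  rw [map_mul, Nat.cast_add, neg_add, T_add]
  ring

theorem one_mem_zero : (1 : K) ∈ gammaFiltration P 0 := by rw [gammaFiltration_zero]; trivial

theorem cls_zero_one : cls P 0 ⟨1, one_mem_zero P⟩ = 1 := by
  rw [cls_apply, ← map_one (Ideal.Quotient.mk _)]
  congr 1
  apply Subtype.ext
  change C (1 : K) * T (-((0 : ℕ) : ℤ)) = 1
  rw [map_one, Nat.cast_zero, neg_zero, T_zero, mul_one]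

/-- every element of `GrZ P` is a sum of classes -/
theorem closure_cls : AddSubgroup.closure {g : GrZ P | ∃ (n : ℕ) (x : gammaFiltration P n), g = cls P n x} = ⊤ := by
  rw [eq_top_iff]
  rintro g -
  obtain ⟨p, rfl⟩ := Ideal.Quotient.mk_surjective g
  obtain ⟨p, hp⟩ := p
  have hp' := (mem_rees_iff P).mp hp
  -- decompose p
  have key : ∀ (s : Finset ℤ) (c : ℤ → K) (hc : ∀ k, c k ∈ gammaFiltration P (-k).toNat),
      Ideal.Quotient.mk (Ideal.span {tGen P})
        (⟨∑ k ∈ s, C (c k) * T k, Subring.sum_mem _ fun k _ => C_mul_T_mem_rees P _ k (hc k)⟩ : rees P) ∈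
        AddSubgroup.closure {g : GrZ P | ∃ (n : ℕ) (x : gammaFiltration P n), g = cls P n x} := by
    intro s c hc
    classical
    induction s using Finset.induction_on with
    | empty =>
      have : (⟨∑ k ∈ (∅ : Finset ℤ), C (c k) * T k,
          Subring.sum_mem _ fun k _ => C_mul_T_mem_rees P _ k (hc k)⟩ : rees P) = 0 := by
        apply Subtype.ext; simp
      rw [this, map_zero]; exact AddSubgroup.zero_mem _
    | insert a s ha ih =>
      have : (⟨∑ k ∈ insert a s, C (c k) * T k,
          Subring.sum_mem _ fun k _ => C_mul_T_mem_rees P _ k (hc k)⟩ : rees P) =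
          ⟨C (c a) * T a, C_mul_T_mem_rees P _ a (hc a)⟩ +
          ⟨∑ k ∈ s, C (c k) * T k, Subring.sum_mem _ fun k _ => C_mul_T_mem_rees P _ k (hc k)⟩ := by
        apply Subtype.ext
        change ∑ k ∈ insert a s, C (c k) * T k = C (c a) * T a + ∑ k ∈ s, C (c k) * T k
        rw [Finset.sum_insert ha]
      rw [this, map_add]
      refine AddSubgroup.add_mem _ ?_ ih
      rcases le_or_gt a 0 with h0 | h0
      · apply AddSubgroup.subset_closure
        refine ⟨(-a).toNat, ⟨c a, hc a⟩, ?_⟩
        rw [cls_apply]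
        congr 1
        apply Subtype.ext
        change C (c a) * T a = C (c a) * T (-((-a).toNat : ℤ))
        rw [Int.toNat_of_nonneg (by omega), neg_neg]
      · have : Ideal.Quotient.mk (Ideal.span {tGen P})
            (⟨C (c a) * T a, C_mul_T_mem_rees P _ a (hc a)⟩ : rees P) = 0 := by
          rw [Ideal.Quotient.eq_zero_iff_mem, mem_span_t_iff]
          intro k
          change (C (c a) * T a).coeff k ∈ _
          rw [coeff_C_mul_T]
          split_ifs with hk
          · subst hk
            rw [show (1 - a).toNat = 0 by omega, gammaFiltration_zero]; trivial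
          · exact AddSubgroup.zero_mem _
        rw [this]; exact AddSubgroup.zero_mem _
  have hsum : p = ∑ k ∈ p.coeff.support, C (p.coeff k) * T k := by
    conv_lhs => rw [← AddMonoidAlgebra.sum_coeff_single p, Finsupp.sum]
    apply Finset.sum_congr rfl
    intro k _
    rw [single_eq_C_mul_T]
  have := key p.coeff.support (fun k => p.coeff k) hp'
  convert this using 3

/-- the coefficient of `t^(-n)` modulo `F^(n+1)`, as a map from the Rees ring -/
def projAux (n : ℕ) : rees P →ₗ[ℤ] K ⧸ gammaFiltration P (n + 1) where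
  toFun p := QuotientAddGroup.mk (p.1.coeff (-(n : ℤ)))
  map_add' p q := by
    change QuotientAddGroup.mk ((p.1 + q.1).coeff (-(n : ℤ))) = _
    rw [AddMonoidAlgebra.coeff_add, Finsupp.add_apply, QuotientAddGroup.mk_add]
  map_smul' c p := by
    change QuotientAddGroup.mk ((c • p.1).coeff (-(n : ℤ))) = c • _
    rw [← QuotientAddGroup.mk_zsmul]
    congr 1

theorem projAux_apply (n : ℕ) (p : rees P) :
    projAux P n p = QuotientAddGroup.mk (p.1.coeff (-(n : ℤ))) := rfl

theorem span_le_ker_projAux (n : ℕ) :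
    (Ideal.span {tGen P}).restrictScalars ℤ ≤ LinearMap.ker (projAux P n) := by
  intro p hp
  rw [Submodule.restrictScalars_mem, mem_span_t_iff] at hp
  rw [LinearMap.mem_ker, projAux_apply, QuotientAddGroup.eq_zero_iff]
  have := hp (-(n : ℤ))
  rwa [show (1 - -(n : ℤ)).toNat = n + 1 by omega] at this

/-- the projection to the degree `n` component `F^n/F^(n+1) ⊆ K/F^(n+1)` -/
def proj (n : ℕ) : GrZ P →ₗ[ℤ] K ⧸ gammaFiltration P (n + 1) :=
  (((Ideal.span {tGen P}).restrictScalars ℤ).liftQ (projAux P n) (span_le_ker_projAux P n)).comp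
    (Submodule.Quotient.restrictScalarsEquiv ℤ (Ideal.span {tGen P})).symm.toLinearMap

theorem proj_mk (n : ℕ) (p : rees P) :
    proj P n (Ideal.Quotient.mk _ p) = QuotientAddGroup.mk (p.1.coeff (-(n : ℤ))) := rfl

theorem proj_cls (n m : ℕ) (x : gammaFiltration P m) :
    proj P n (cls P m x) = if m = n then QuotientAddGroup.mk (x : K) else 0 := by
  rw [cls_apply, proj_mk]
  change QuotientAddGroup.mk ((C (x : K) * T (-(m : ℤ))).coeff (-(n : ℤ))) = _
  rw [coeff_C_mul_T]
  by_cases h : m = n
  · subst h; rw [if_pos rfl, if_pos rfl]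
  · rw [if_neg h, if_neg (by omega)]; rfl

end

end Groth.Agent.R2.H39.Rees
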