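import Mathlib
import Groth.Prelude.Def_GSzCSA
import Groth.Prelude.Def_GSzH1
import Groth.Prelude.Def_Curves
import Groth.Agent.Lib.LeadCSA
import Groth.Agent.Lib.Helper23GalDescent
import Groth.Agent.R2.H39NormGroup
import Groth.Agent.R2.H39H90

/-!
# `H¹` of the norm-one group of a central simple algebra, finite level

Uniqueness of the reduced norm (Skolem–Noether), its Galois equivariance and compatibility with
base change, and the boundary-map description of `H¹(G, SL₁(K ⊗ A))`.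
-/

set_option autoImplicit false
set_option linter.style.haveILetI false

namespace Groth.Agent.R2.H39.SL1

open Matrix
open scoped TensorProduct
open Groth.Agent.Lib.Helper23

universe u v w

section RedNormUnique

/-- The reduced norm of a split central simple algebra is the determinant of any splitting. -/
theorem redNorm_eq_det {F : Type u} [Field F] {C : Type v} [Ring C] [Algebra F C]
    [Algebra.IsCentral F C] [IsSimpleRing C] {n : ℕ} (hn : n ≠ 0)
    (θ : C ≃ₐ[F] Matrix (Fin n) (Fin n) F) (NF : C →* F) (hNF : CSAGal.IsRedNorm F C NF)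
    (y : C) : NF y = det (θ y) := by
  haveI : FiniteDimensional F C := Module.Finite.equiv θ.symm.toLinearEquiv
  obtain ⟨L, _, _, _, n', φ, hφ⟩ := hNF
  have hdim : n' = n := by
    have h1 : Module.finrank L (L ⊗[F] C) = n' * n' := by
      rw [φ.toLinearEquiv.finrank_eq, Module.finrank_matrix]; simp
    have h2 : Module.finrank F C = n * n := by
      rw [θ.toLinearEquiv.finrank_eq, Module.finrank_matrix]; simp
    rw [Module.finrank_baseChange, h2] at h1
    exact (Nat.mul_self_inj.1 h1).symm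
  subst hdim
  haveI : Nonempty (Fin n') := ⟨⟨0, Nat.pos_of_ne_zero hn⟩⟩
  let Ψ : C →ₐ[F] Matrix (Fin n') (Fin n') L :=
    (φ.toAlgHom.restrictScalars F).comp Algebra.TensorProduct.includeRight
  let Ψ' : C →ₐ[F] Matrix (Fin n') (Fin n') L :=
    ((Algebra.ofId F L).mapMatrix).comp θ.toAlgHom
  have h := NormGroup.det_eq_of_algHom Ψ Ψ' y
  have h1 : Ψ y = φ (1 ⊗ₜ y) := rfl
  have h2 : Ψ' y = (algebraMap F L).mapMatrix (θ y) := rfl
  apply (algebraMap F L).injective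
  rw [hφ, ← h1, h, h2]
  exact (RingHom.map_det (algebraMap F L) (θ y)).symm

end RedNormUnique

section BaseChange

variable {k : Type u} [Field k] {K : Type v} [Field K] [Algebra k K]
  {A : Type w} [Ring A] [Algebra k A] [Algebra.IsCentral k A] [IsSimpleRing A]
  [FiniteDimensional k A]

/-- The determinant of a splitting of `K ⊗ A` restricts on `A` to the reduced norm of `A`. -/
theorem det_one_tmul {n : ℕ} (hn : n ≠ 0)
    (θ : K ⊗[k] A ≃ₐ[K] Matrix (Fin n) (Fin n) K) (N : A →* k)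
    (hN : CSAGal.IsRedNorm k A N) (a : A) :
    det (θ ((1 : K) ⊗ₜ[k] a)) = algebraMap k K (N a) := by
  obtain ⟨d, ψ, hd, hdim, hψ⟩ := NormGroup.exists_rep hN
  have hdn : d = n := by
    have h2 : Module.finrank K (K ⊗[k] A) = n * n := by
      rw [θ.toLinearEquiv.finrank_eq, Module.finrank_matrix]; simp
    rw [Module.finrank_baseChange, hdim] at h2
    exact Nat.mul_self_inj.1 h2
  subst hdn
  haveI : Nonempty (Fin d) := ⟨⟨0, Nat.pos_of_ne_zero hn⟩⟩
  let j : AlgebraicClosure k →ₐ[k] AlgebraicClosure K := IsAlgClosed.lift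
  let Ψ1 : A →ₐ[k] Matrix (Fin d) (Fin d) (AlgebraicClosure K) := j.mapMatrix.comp ψ
  let Ψ2 : A →ₐ[k] Matrix (Fin d) (Fin d) (AlgebraicClosure K) :=
    ((IsScalarTower.toAlgHom k K (AlgebraicClosure K)).mapMatrix).comp
      ((θ.toAlgHom.restrictScalars k).comp Algebra.TensorProduct.includeRight)
  have h := NormGroup.det_eq_of_algHom Ψ2 Ψ1 a
  have h1 : Ψ1 a = j.toRingHom.mapMatrix (ψ a) := rfl
  have h2 : Ψ2 a = (algebraMap K (AlgebraicClosure K)).mapMatrix (θ ((1 : K) ⊗ₜ[k] a)) := rfl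
  apply (algebraMap K (AlgebraicClosure K)).injective
  rw [RingHom.map_det, ← h2, h, h1, ← RingHom.map_det, ← hψ]
  show j (algebraMap k (AlgebraicClosure k) (N a)) = _
  rw [j.commutes, ← IsScalarTower.algebraMap_apply]

end BaseChange

section Equivariance

variable {k : Type u} [Field k] {K : Type v} [Field K] [Algebra k K]
  {A : Type w} [Ring A] [Algebra k A] [Algebra.IsCentral k A] [IsSimpleRing A]

attribute [local instance] CSAGal.tensorAction GpH1.unitsAction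

/-- The determinant of a splitting of `K ⊗ A` is Galois equivariant. -/
theorem det_smul {n : ℕ} (hn : n ≠ 0)
    (θ : K ⊗[k] A ≃ₐ[K] Matrix (Fin n) (Fin n) K) (σ : K ≃ₐ[k] K) (y : K ⊗[k] A) :
    det (θ (σ • y)) = σ (det (θ y)) := by
  haveI : Nonempty (Fin n) := ⟨⟨0, Nat.pos_of_ne_zero hn⟩⟩
  haveI : IsSimpleRing (K ⊗[k] A) := Groth.Agent.Lib.LeadCSA.isSimpleRing_baseChange K
  haveI : Algebra.IsCentral K (K ⊗[k] A) := Groth.Agent.Lib.LeadCSA.isCentral_baseChange K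
  let r : K ⊗[k] A →+* Matrix (Fin n) (Fin n) K :=
    ((σ : K →+* K).mapMatrix).comp
      ((θ : K ⊗[k] A →+* Matrix (Fin n) (Fin n) K).comp
        (MulSemiringAction.toRingHom (K ≃ₐ[k] K) (K ⊗[k] A) σ⁻¹))
  have hr : ∀ z, r z = (σ : K →+* K).mapMatrix (θ (σ⁻¹ • z)) := fun z => rfl
  let Ψ' : K ⊗[k] A →ₐ[K] Matrix (Fin n) (Fin n) K :=
    { r with
      commutes' := fun x => by
        show r (algebraMap K (K ⊗[k] A) x) = _
        rw [hr, Algebra.TensorProduct.algebraMap_apply, TensorProduct.smul_tmul',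
          AlgEquiv.smul_def, Algebra.algebraMap_self, RingHom.id_apply]
        have h1 : (σ⁻¹ x) ⊗ₜ[k] (1 : A) = algebraMap K (K ⊗[k] A) (σ⁻¹ x) := by
          rw [Algebra.TensorProduct.algebraMap_apply, Algebra.algebraMap_self, RingHom.id_apply]
        rw [h1, θ.commutes]
        ext i j
        simp only [RingHom.mapMatrix_apply, Matrix.map_apply, Matrix.algebraMap_matrix_apply]
        split_ifs
        · show σ (σ⁻¹ x) = x
          exact σ.apply_symm_apply x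
        · exact map_zero _ }
  have hΨ : ∀ z, Ψ' z = (σ : K →+* K).mapMatrix (θ (σ⁻¹ • z)) := fun z => rfl
  have h := NormGroup.det_eq_of_algHom θ.toAlgHom Ψ' (σ • y)
  have h1 : θ.toAlgHom (σ • y) = θ (σ • y) := rfl
  rw [h1, hΨ, inv_smul_smul, ← RingHom.map_det] at h
  exact h

end Equivariance

section Main

variable {k : Type u} [Field k] {K : Type v} [Field K] [Algebra k K] [FiniteDimensional k K]
  [IsGalois k K]
  {A : Type w} [Ring A] [Algebra k A] [Algebra.IsCentral k A] [IsSimpleRing A]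
  [FiniteDimensional k A]

attribute [local instance] CSAGal.tensorAction GpH1.unitsAction

omit [Algebra.IsCentral k A] [IsSimpleRing A] in
/-- Hilbert 90 for `(K ⊗ A)ˣ`, cocycle form. -/
theorem exists_unit (a : (K ≃ₐ[k] K) → (K ⊗[k] A)ˣ) (ha : GpH1.IsOneCocycle a) :
    ∃ c : (K ⊗[k] A)ˣ, ∀ σ : K ≃ₐ[k] K, σ • c = c * a σ := by
  have h : ∃ c : (K ⊗[k] A)ˣ, ∀ σ : K ≃ₐ[k] K,
      σ • (c : K ⊗[k] A) = c * (a σ : K ⊗[k] A) := by
    rcases finite_or_infinite k with h | h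
    · exact H90.exists_unit_of_finite a ha
    · exact H90.exists_unit_of_infinite a ha
  obtain ⟨c, hc⟩ := h
  exact ⟨c, fun σ => Units.ext (hc σ)⟩

omit [Algebra.IsCentral k A] [IsSimpleRing A] [FiniteDimensional k A] in
/-- Galois-fixed units of `K ⊗ A` come from units of `A`. -/
theorem exists_unit_of_fixed (t : (K ⊗[k] A)ˣ) (ht : ∀ σ : K ≃ₐ[k] K, σ • t = t) :
    ∃ x : Aˣ, ((1 : K) ⊗ₜ[k] (x : A)) = (t : K ⊗[k] A) := by
  obtain ⟨x, hx⟩ := exists_one_tmul_eq_of_fixed (t : K ⊗[k] A)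
    (fun σ => congrArg Units.val (ht σ))
  obtain ⟨x', hx'⟩ := exists_one_tmul_eq_of_fixed ((t⁻¹ : (K ⊗[k] A)ˣ) : K ⊗[k] A)
    (fun σ => by
      have h := congrArg (fun u : (K ⊗[k] A)ˣ => ((u⁻¹ : (K ⊗[k] A)ˣ) : K ⊗[k] A)) (ht σ)
      exact h)
  have inj := one_tmul_injective (k := k) (K := K) (W := A)
  have h1 : x * x' = 1 := inj (by
    show (1 : K) ⊗ₜ[k] (x * x') = (1 : K) ⊗ₜ[k] (1 : A)
    rw [← Algebra.TensorProduct.one_def, ← Units.mul_inv t, ← hx, ← hx',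
      Algebra.TensorProduct.tmul_mul_tmul, mul_one])
  have h2 : x' * x = 1 := inj (by
    show (1 : K) ⊗ₜ[k] (x' * x) = (1 : K) ⊗ₜ[k] (1 : A)
    rw [← Algebra.TensorProduct.one_def, ← Units.inv_mul t, ← hx, ← hx',
      Algebra.TensorProduct.tmul_mul_tmul, mul_one])
  exact ⟨⟨x, x', h1, h2⟩, hx⟩

theorem main (hA : Curves.Splits k A K)
    (N : A →* k) (hN : CSAGal.IsRedNorm k A N)
    (NK : (K ⊗[k] A) →* K) (hNK : CSAGal.IsRedNorm K (K ⊗[k] A) NK) :
    (∀ a : GpH1.OneCocycle (K ≃ₐ[k] K) (K ⊗[k] A)ˣ, (∀ σ, NK (a σ : K ⊗[k] A) = 1) →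
        ∃ (c : kˣ) (b : (K ⊗[k] A)ˣ), NK (b : K ⊗[k] A) = algebraMap k K (c : k) ∧
          ∀ σ : K ≃ₐ[k] K, a σ = b⁻¹ * σ • b) ∧
    (∀ (c c' : kˣ) (b b' : (K ⊗[k] A)ˣ),
        NK (b : K ⊗[k] A) = algebraMap k K (c : k) → NK (b' : K ⊗[k] A) = algebraMap k K (c' : k) →
        ((∃ s : (K ⊗[k] A)ˣ, NK (s : K ⊗[k] A) = 1 ∧
            ∀ σ : K ≃ₐ[k] K, b'⁻¹ * σ • b' = s⁻¹ * (b⁻¹ * σ • b) * σ • s) ↔
          ∃ x : Aˣ, (c' : k) = N (x : A) * (c : k))) := by
  obtain ⟨n, hn, ⟨θ⟩⟩ := hA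
  haveI : IsSimpleRing (K ⊗[k] A) := Groth.Agent.Lib.LeadCSA.isSimpleRing_baseChange K
  haveI : Algebra.IsCentral K (K ⊗[k] A) := Groth.Agent.Lib.LeadCSA.isCentral_baseChange K
  have hdet : ∀ y, NK y = det (θ y) := redNorm_eq_det hn θ NK hNK
  have hNKσ : ∀ (σ : K ≃ₐ[k] K) (y : K ⊗[k] A), NK (σ • y) = σ (NK y) := fun σ y => by
    rw [hdet, hdet, det_smul hn θ σ y]
  have hNK1 : ∀ a : A, NK ((1 : K) ⊗ₜ[k] a) = algebraMap k K (N a) := fun a => by
    rw [hdet, det_one_tmul hn θ N hN a]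
  have hNKinv : ∀ u : (K ⊗[k] A)ˣ, NK ((u⁻¹ : (K ⊗[k] A)ˣ) : K ⊗[k] A) =
      (NK (u : K ⊗[k] A))⁻¹ := fun u => by
    apply eq_inv_of_mul_eq_one_right
    rw [← map_mul, Units.mul_inv, map_one]
  have hNinv : ∀ x : Aˣ, N ((x⁻¹ : Aˣ) : A) = (N (x : A))⁻¹ := fun x => by
    apply eq_inv_of_mul_eq_one_right
    rw [← map_mul, Units.mul_inv, map_one]
  refine ⟨fun a ha => ?_, fun c c' b b' hb hb' => ⟨?_, ?_⟩⟩
  · obtain ⟨b, hb⟩ := exists_unit (fun σ => a σ) a.2
    have hfixN : ∀ σ : K ≃ₐ[k] K, σ (NK (b : K ⊗[k] A)) = NK (b : K ⊗[k] A) := fun σ => by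
      have h2 := congrArg Units.val (hb σ)
      rw [← hNKσ]
      show NK ((σ • b : (K ⊗[k] A)ˣ) : K ⊗[k] A) = _
      rw [h2, Units.val_mul, map_mul, ha σ, mul_one]
    obtain ⟨r, hr⟩ := (IsGalois.mem_range_algebraMap_iff_fixed (NK (b : K ⊗[k] A))).2 hfixN
    have hr0 : r ≠ 0 := by
      rintro rfl
      rw [map_zero] at hr
      have hu : IsUnit (NK (b : K ⊗[k] A)) := b.isUnit.map NK
      rw [← hr] at hu
      exact not_isUnit_zero hu
    refine ⟨Units.mk0 r hr0, b, hr.symm, fun σ => ?_⟩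
    rw [hb σ, inv_mul_cancel_left]
  · rintro ⟨s, hs1, hs⟩
    have ht : ∀ σ : K ≃ₐ[k] K, σ • (b * s * b'⁻¹) = b * s * b'⁻¹ := by
      intro σ
      have h := hs σ
      have h2 : σ • b * σ • s = b * s * b'⁻¹ * σ • b' := by
        calc σ • b * σ • s = b * s * (s⁻¹ * (b⁻¹ * σ • b) * σ • s) := by group
          _ = b * s * (b'⁻¹ * σ • b') := by rw [h]
          _ = _ := by group
      rw [smul_mul', smul_mul', smul_inv', h2]
      group
    obtain ⟨x, hx⟩ := exists_unit_of_fixed (b * s * b'⁻¹) ht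
    refine ⟨x⁻¹, ?_⟩
    have h3 : NK ((b * s * b'⁻¹ : (K ⊗[k] A)ˣ) : K ⊗[k] A) = algebraMap k K (N x) := by
      rw [← hx, hNK1]
    have h4 : NK ((b * s * b'⁻¹ : (K ⊗[k] A)ˣ) : K ⊗[k] A) =
        algebraMap k K ((c : k) * (c' : k)⁻¹) := by
      rw [Units.val_mul, Units.val_mul, map_mul, map_mul, hb, hs1, mul_one, hNKinv, hb', map_mul,
        map_inv₀]
    have h5 : N (x : A) = (c : k) * (c' : k)⁻¹ := (algebraMap k K).injective (h3.symm.trans h4)
    rw [hNinv, h5]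
    have hc0 : (c : k) ≠ 0 := c.ne_zero
    have hc0' : (c' : k) ≠ 0 := c'.ne_zero
    field_simp
  · rintro ⟨x, hx⟩
    let ix : (K ⊗[k] A)ˣ :=
      Units.map ((Algebra.TensorProduct.includeRight : A →ₐ[k] K ⊗[k] A) : A →* K ⊗[k] A) x⁻¹
    have hixv : (ix : K ⊗[k] A) = (1 : K) ⊗ₜ[k] ((x⁻¹ : Aˣ) : A) := rfl
    have hix : ∀ σ : K ≃ₐ[k] K, σ • ix = ix := fun σ => Units.ext (by
      show σ • (ix : K ⊗[k] A) = ix
      rw [hixv]
      exact H90.smul_one_tmul σ _)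
    refine ⟨b⁻¹ * ix * b', ?_, fun σ => ?_⟩
    · have hc0 : (c : k) ≠ 0 := c.ne_zero
      have hx0 : N (x : A) ≠ 0 := by
        intro h0
        have hu : IsUnit (N (x : A)) := x.isUnit.map N
        rw [h0] at hu
        exact not_isUnit_zero hu
      have h7 : (c : k)⁻¹ * (N (x : A))⁻¹ * (N (x : A) * (c : k)) = 1 := by
        field_simp
      rw [Units.val_mul, Units.val_mul, map_mul, map_mul, hb', hNKinv, hb, hixv, hNK1, hNinv, hx,
        ← map_inv₀ (algebraMap k K), ← map_mul, ← map_mul, h7, map_one]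
    · rw [smul_mul', smul_mul', hix, smul_inv']
      group

end Main

end Groth.Agent.R2.H39.SL1
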