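import Mathlib
import Groth.Agent.Lib.Helper10DVRFibre6

/-!
# helper93: schemes locally of finite type and flat over a DVR with reduced special fibre

Scheme-level ingredients for the algebraic-space version of "proper flat over a DVR with reduced
special fibre is reduced".
-/

set_option autoImplicit false
set_option linter.style.haveILetI false
universe u

namespace Groth.Agent.R2.H93.DvrRed

open AlgebraicGeometry CategoryTheory CategoryTheory.Limits TopologicalSpace
open Groth.Agent.Lib.Helper10.DVRFibre

section Alg

variable {R : Type u} [CommRing R] [IsDomain R] [IsDiscreteValuationRing R]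

/-- the fraction field of a DVR is the localization away from a uniformizer. -/
theorem isLocalization_away_fractionRing {π : R} (hπ : Irreducible π) :
    IsLocalization.Away π (FractionRing R) := by
  refine (IsLocalization.iff_of_le_of_exists_dvd (Submonoid.powers π) (nonZeroDivisors R) ?_ ?_).2
    inferInstance
  · exact Submonoid.powers_le.2 (mem_nonZeroDivisors_of_ne_zero hπ.ne_zero)
  · intro n hn
    obtain ⟨k, u, hu⟩ := IsDiscreteValuationRing.eq_unit_mul_pow_irreducible
      (nonZeroDivisors.ne_zero hn) hπ
    refine ⟨π ^ k, ⟨k, rfl⟩, ⟨((u⁻¹ : Rˣ) : R), ?_⟩⟩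
    rw [hu]
    have : (u : R) * π ^ k * ((u⁻¹ : Rˣ) : R) = (u : R) * ((u⁻¹ : Rˣ) : R) * π ^ k := by ring
    rw [this, Units.mul_inv, one_mul]

/-- the generic point of the spectrum of a DVR is open. -/
theorem isOpenImmersion_spec_fractionRing :
    IsOpenImmersion (Spec.map (CommRingCat.ofHom (algebraMap R (FractionRing R)))) := by
  obtain ⟨π, hπ⟩ := IsDiscreteValuationRing.exists_irreducible R
  haveI := isLocalization_away_fractionRing hπ
  exact IsOpenImmersion.of_isLocalization π

end Alg

section Fibre

variable {R : Type u} [CommRing R] [IsDomain R] [IsDiscreteValuationRing R]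

/-- the special fibre computed with `R ⧸ 𝔪` agrees with Mathlib's scheme-theoretic fibre over the
closed point. -/
theorem isReduced_fiber_closedPoint {X : Scheme.{u}} (f : X ⟶ Spec (CommRingCat.of R))
    (h : IsReduced (pullback f (Spec.map (CommRingCat.ofHom (IsLocalRing.residue R))))) :
    IsReduced (f.fiber (IsLocalRing.closedPoint R)) := by
  let y : Spec (CommRingCat.of R) := IsLocalRing.closedPoint R
  have h1 := Scheme.Spec.map_residueFieldIso_inv_eq_fromSpecResidueField (CommRingCat.of R) y
  let ψ : IsLocalRing.ResidueField R →+* y.asIdeal.ResidueField :=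
    algebraMap (R ⧸ IsLocalRing.maximalIdeal R) (IsLocalRing.maximalIdeal R).ResidueField
  have hψ : Function.Bijective ψ :=
    Ideal.bijective_algebraMap_quotient_residueField (IsLocalRing.maximalIdeal R)
  have hcomp : CommRingCat.ofHom (algebraMap R y.asIdeal.ResidueField) =
      CommRingCat.ofHom (IsLocalRing.residue R) ≫ CommRingCat.ofHom ψ := by
    ext r
    exact IsScalarTower.algebraMap_apply R (R ⧸ IsLocalRing.maximalIdeal R)
      (IsLocalRing.maximalIdeal R).ResidueField r
  haveI : IsIso (CommRingCat.ofHom ψ) :=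
    (ConcreteCategory.isIso_iff_bijective (CommRingCat.ofHom ψ)).2 hψ
  let e : Spec ((Spec (CommRingCat.of R)).residueField y) ⟶
      Spec (CommRingCat.of (IsLocalRing.ResidueField R)) :=
    Spec.map (Scheme.Spec.residueFieldIso (CommRingCat.of R) y).inv ≫ Spec.map (CommRingCat.ofHom ψ)
  have he : e ≫ Spec.map (CommRingCat.ofHom (IsLocalRing.residue R)) =
      (Spec (CommRingCat.of R)).fromSpecResidueField y := by
    rw [← h1, hcomp, Spec.map_comp, Category.assoc]
  let m : pullback f ((Spec (CommRingCat.of R)).fromSpecResidueField y) ⟶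
      pullback f (Spec.map (CommRingCat.ofHom (IsLocalRing.residue R))) :=
    pullback.map _ _ _ _ (𝟙 X) e (𝟙 _) (by rw [Category.id_comp, Category.comp_id])
      (by rw [Category.comp_id, he])
  haveI : IsIso m := by
    dsimp only [m]
    infer_instance
  haveI := h
  have hred : IsReduced (pullback f ((Spec (CommRingCat.of R)).fromSpecResidueField y)) :=
    isReduced_of_isOpenImmersion m
  exact hred

end Fibre

section Key

variable {R : Type u} [CommRing R] [IsDomain R] [IsDiscreteValuationRing R]

/-- locally of finite type over a DVR, generalizing, reduced special fibre: every point of the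
special fibre has a reduced affine open neighbourhood. -/
theorem exists_affine_reduced {X : Scheme.{u}} (f : X ⟶ Spec (CommRingCat.of R))
    [LocallyOfFiniteType f] (hgen : GeneralizingMap f)
    [IsReduced (f.fiber (IsLocalRing.closedPoint R))] (x : X) (hx : f x ≠ genPt R) :
    ∃ U : X.Opens, IsAffineOpen U ∧ x ∈ U ∧ _root_.IsReduced Γ(X, U) := by
  obtain ⟨π, hπ⟩ := IsDiscreteValuationRing.exists_irreducible R
  obtain ⟨W, hW, hxW⟩ := exists_affineOpen_mem x
  have hft : (phi f W).FiniteType := by
    have h1 : (f.appLE ⊤ W le_top).hom.FiniteType :=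
      HasRingHomProperty.appLE (P := @LocallyOfFiniteType) f inferInstance
        ⟨⊤, isAffineOpen_top _⟩ ⟨W, hW⟩ le_top
    have h2 : (Scheme.ΓSpecIso (CommRingCat.of R)).inv.hom.FiniteType :=
      RingHom.FiniteType.of_surjective _
        (ConcreteCategory.bijective_of_isIso (Scheme.ΓSpecIso (CommRingCat.of R)).inv).2
    exact RingHom.FiniteType.comp h1 h2
  haveI : IsNoetherianRing Γ(X, W) := by
    letI : Algebra R Γ(X, W) := (phi f W).toAlgebra
    haveI : Algebra.FiniteType R Γ(X, W) := hft
    exact Algebra.FiniteType.isNoetherianRing R Γ(X, W)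
  have hy : (IsLocalRing.closedPoint R).asIdeal = Ideal.span {π} := hπ.maximalIdeal_eq
  haveI : (IsLocalRing.closedPoint R).asIdeal.IsMaximal := IsLocalRing.maximalIdeal.isMaximal R
  haveI : _root_.IsReduced (Γ(X, W) ⧸ Ideal.span {phi f W π}) :=
    isReduced_quotient_of_isReduced_fiber f (IsLocalRing.closedPoint R) π hy hW
  obtain ⟨s, hxs, -, -, h4⟩ := exists_basicOpen_nzd_reduced hW (phi f W π)
    (notMem_minimalPrimes_of_generalizing f hgen hW hπ.ne_zero) x hxW
    (notMem_basicOpen_phi f hπ hx)
  exact ⟨X.basicOpen s, hW.basicOpen s, hxs, h4⟩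

/-- the stalks of a scheme at the points of a reduced affine open are reduced. -/
theorem isReduced_stalk_of_affine {X : Scheme.{u}} {U : X.Opens} (hU : IsAffineOpen U)
    (hred : _root_.IsReduced Γ(X, U)) (x : X) (hx : x ∈ U) :
    _root_.IsReduced (X.presheaf.stalk x) := by
  letI := X.presheaf.algebra_section_stalk (⟨x, hx⟩ : U)
  haveI := hU.isLocalization_stalk ⟨x, hx⟩
  exact isReduced_localizationPreserves (hU.primeIdealOf ⟨x, hx⟩).asIdeal.primeCompl _ hred

/-- for a closed map to the spectrum of a local ring, every point specializes to a point over the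
closed point. -/
theorem exists_mem_closure_map_eq_closedPoint {P : Type*} [TopologicalSpace P]
    (τ : P → PrimeSpectrum R) (hτ : IsClosedMap τ) (x : P) :
    ∃ x0 ∈ closure {x}, τ x0 = IsLocalRing.closedPoint R := by
  have hcl : IsClosed (τ '' closure {x}) := hτ _ isClosed_closure
  have h2 : τ x ∈ τ '' closure {x} := ⟨x, subset_closure rfl, rfl⟩
  have h3 : τ x ⤳ IsLocalRing.closedPoint R := IsLocalRing.specializes_closedPoint _
  obtain ⟨x0, hx0, h⟩ := h3.mem_closed hcl h2
  exact ⟨x0, hx0, h⟩

theorem closedPoint_ne_genPt : IsLocalRing.closedPoint R ≠ genPt R := by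
  obtain ⟨π, hπ⟩ := IsDiscreteValuationRing.exists_irreducible R
  intro h
  have h1 : π ∈ (IsLocalRing.closedPoint R).asIdeal := by
    show π ∈ IsLocalRing.maximalIdeal R
    rw [hπ.maximalIdeal_eq]; exact Ideal.subset_span rfl
  rw [h] at h1
  exact hπ.ne_zero ((Ideal.mem_bot).1 h1)

end Key

end Groth.Agent.R2.H93.DvrRed
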