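import Mathlib
import Groth.Agent.Lib.Helper10DVRFibre4
import Groth.Agent.R2.H93DvrRed
import Groth.Agent.R2.H39FibNormal

/-!
# helper39: `O_X → π_* O_Y` is an isomorphism for a proper `π : Y → X` of flat schemes over a DVR
which is an isomorphism on generic fibres, when the special fibre of `X` is reduced (S13746)

* ring lemma `surjective_of_isIntegral_of_isReduced_quotient`: `φ : A → B` integral and injective,
  `φ t` a non-zero-divisor, `A ⧸ (t)` reduced, every `b` satisfies `φ a = (φ t)^n b` for some `n`,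
  `a` ⟹ `φ` surjective.
* `phi_mem_nonZeroDivisors_opens`: sections of a flat scheme over a domain over ANY open are
  torsion-free.
* `isIso_app_of_openImmersions`: `p.app W` is an isomorphism for `W` inside an open over which `p`
  is an isomorphism.
* `isIso_app_of_forall_isAffineOpen`: `p.app V` iso for all affine opens ⟹ for all opens.
-/

set_option autoImplicit false
set_option linter.style.haveILetI false
universe u

open CategoryTheory CategoryTheory.Limits AlgebraicGeometry TopologicalSpace Opposite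

namespace Groth.Agent.R2.H39.SemiFact

section Ring

variable {A B : Type*} [CommRing A] [CommRing B]

theorem mem_span_of_eval_scaleRoots_eq_zero (t : A) [IsReduced (A ⧸ Ideal.span {t})]
    (P : Polynomial A) (hP : P.Monic) (a : A) (n : ℕ)
    (h : (P.scaleRoots (t ^ (n + 1))).eval a = 0) : a ∈ Ideal.span {t} := by
  by_cases hnt : Nontrivial (A ⧸ Ideal.span {t})
  · let q := Ideal.Quotient.mk (Ideal.span {t})
    have hq : q (t ^ (n + 1)) = 0 := by
      rw [map_pow, Ideal.Quotient.eq_zero_iff_mem.mpr (Ideal.subset_span (Set.mem_singleton t)),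
        zero_pow (Nat.succ_ne_zero n)]
    have h4 := congrArg q h
    rw [map_zero, Groth.Agent.R2.H39.FibNormal.map_eval_scaleRoots q P hP a (t ^ (n + 1)), hq,
      Polynomial.scaleRoots_zero, (hP.map q).leadingCoeff, one_smul, Polynomial.eval_pow,
      Polynomial.eval_X] at h4
    have h5 : IsNilpotent (q a) := ⟨_, h4⟩
    exact Ideal.Quotient.eq_zero_iff_mem.mp h5.eq_zero
  · rw [not_nontrivial_iff_subsingleton] at hnt
    exact Ideal.Quotient.eq_zero_iff_mem.mp (Subsingleton.elim _ _)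

/-- `φ : A → B` integral and injective, `φ t` regular, `A ⧸ (t)` reduced and `φ` "surjective after
inverting `t`": then `φ` is surjective. -/
theorem surjective_of_isIntegral_of_isReduced_quotient (φ : A →+* B) (t : A)
    (hφt : φ t ∈ nonZeroDivisors B) [IsReduced (A ⧸ Ideal.span {t})]
    (hint : φ.IsIntegral) (hinj : Function.Injective φ)
    (hloc : ∀ b : B, ∃ (n : ℕ) (a : A), φ a = φ t ^ n * b) : Function.Surjective φ := by
  have key : ∀ (n : ℕ) (b : B) (a : A), φ a = φ t ^ n * b → ∃ a', φ a' = b := by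
    intro n
    induction n with
    | zero => intro b a h; exact ⟨a, by simpa using h⟩
    | succ n ih =>
      intro b a h
      obtain ⟨P, hP, hPb⟩ := hint b
      have h1 : Polynomial.eval₂ φ (φ (t ^ (n + 1)) * b) (P.scaleRoots (t ^ (n + 1))) = 0 :=
        Polynomial.scaleRoots_eval₂_eq_zero φ hPb
      rw [map_pow, ← h, Polynomial.eval₂_hom] at h1
      have h2 : (P.scaleRoots (t ^ (n + 1))).eval a = 0 := hinj (by rw [h1, map_zero])
      obtain ⟨a', ha'⟩ := Ideal.mem_span_singleton'.mp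
        (mem_span_of_eval_scaleRoots_eq_zero t P hP a n h2)
      apply ih b a'
      have h3 : φ t * φ a' = φ t * (φ t ^ n * b) := by
        rw [← map_mul, mul_comm, ha', h, pow_succ]; ring
      exact (mul_cancel_left_mem_nonZeroDivisors hφt).mp h3
  intro b
  obtain ⟨n, a, h⟩ := hloc b
  exact key n b a h

end Ring

section Sheaf

variable {X Y : Scheme.{u}}

/-- If `p.app V` is an isomorphism for every affine open `V`, it is one for every open. -/
theorem isIso_app_of_forall_isAffineOpen (p : Y ⟶ X)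
    (h : ∀ V : X.Opens, IsAffineOpen V → IsIso (p.app V)) (V : X.Opens) : IsIso (p.app V) := by
  let B : X.affineOpens → Opens X := Subtype.val
  have hB : Opens.IsBasis (Set.range B) := by
    have : Set.range B = X.affineOpens := Subtype.range_val
    rw [this]
    exact X.isBasis_affineOpens
  let φ : X.sheaf ⟶ (TopCat.Sheaf.pushforward CommRingCat p.base).obj Y.sheaf := ⟨p.c⟩
  haveI : IsIso φ := TopCat.Sheaf.isIso_iff_isIso_basis (B := B) hB (fun i => h i.1 i.2)
  have h2 : IsIso ((TopCat.Sheaf.forget _ _).map φ) := inferInstance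
  exact NatIso.isIso_app_of_isIso ((TopCat.Sheaf.forget _ _).map φ) (op V)

/-- `p.app W` is an isomorphism for `W` inside an open over which `p` is an isomorphism. -/
theorem isIso_app_of_openImmersions {X' Y' : Scheme.{u}} (p : Y ⟶ X) (ιX : X' ⟶ X) (ιY : Y' ⟶ Y)
    [IsOpenImmersion ιX] [IsOpenImmersion ιY] (p' : Y' ⟶ X') [IsIso p']
    (hcomm : p' ≫ ιX = ιY ≫ p) (hrange : p ⁻¹ᵁ ιX.opensRange ≤ ιY.opensRange)
    (W : X.Opens) (hW : W ≤ ιX.opensRange) : IsIso (p.app W) := by
  have h1 := Scheme.Hom.congr_app hcomm W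
  rw [Scheme.Hom.comp_app, Scheme.Hom.comp_app] at h1
  have ha : IsIso (ιX.app W) := ιX.isIso_app W hW
  haveI hb : IsIso (ιY.app (p ⁻¹ᵁ W)) := ιY.isIso_app _ (fun y hy => hrange (hW hy))
  obtain ⟨e, he, h1'⟩ : ∃ (e : Γ(Y', (ιY ≫ p) ⁻¹ᵁ W) ⟶ Γ(Y', (p' ≫ ιX) ⁻¹ᵁ W)), IsIso e ∧
      ιX.app W ≫ p'.app (ιX ⁻¹ᵁ W) = (p.app W ≫ ιY.app (p ⁻¹ᵁ W)) ≫ e :=
    ⟨_, inferInstance, h1⟩
  have hc : IsIso (p'.app (ιX ⁻¹ᵁ W)) := inferInstance
  have hd : IsIso ((p.app W ≫ ιY.app (p ⁻¹ᵁ W)) ≫ e) := by
    rw [← h1']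
    exact @IsIso.comp_isIso' _ _ _ _ _ _ _ ha hc
  haveI : IsIso (p.app W ≫ ιY.app (p ⁻¹ᵁ W)) :=
    @IsIso.of_isIso_comp_right _ _ _ _ _ _ e he hd
  exact IsIso.of_isIso_comp_right (p.app W) (ιY.app (p ⁻¹ᵁ W))

end Sheaf

section DVR

open Groth.Agent.Lib.Helper10.DVRFibre

variable {R : Type u} [CommRing R] {X Y : Scheme.{u}}

theorem phi_res (f : X ⟶ Spec (CommRingCat.of R)) {U W : X.Opens} (h : U ≤ W) (r : R) :
    X.presheaf.map (homOfLE h).op (phi f W r) = phi f U r := by
  rw [phi_apply, phi_apply]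
  generalize f.appTop ((Scheme.ΓSpecIso (CommRingCat.of R)).inv r) = z
  rw [← CommRingCat.comp_apply, ← Functor.map_comp]
  rfl

/-- Sections over any open of a flat scheme over a domain are torsion-free. -/
theorem phi_mem_nonZeroDivisors_opens [IsDomain R] (f : X ⟶ Spec (CommRingCat.of R)) [Flat f]
    (W : X.Opens) {r : R} (hr : r ≠ 0) : phi f W r ∈ nonZeroDivisors Γ(X, W) := by
  rw [mem_nonZeroDivisors_iff_left]
  intro s hs
  refine TopCat.Sheaf.eq_of_locally_eq' X.sheaf
    (fun U : {U : X.affineOpens // U.1 ≤ W} => U.1.1) W (fun U => homOfLE U.2) ?_ s 0 ?_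
  · intro x hx
    obtain ⟨_, ⟨U, hU, rfl⟩, hxU, hUW⟩ :=
      X.isBasis_affineOpens.exists_subset_of_mem_open hx W.2
    exact Opens.mem_iSup.mpr ⟨⟨⟨U, hU⟩, hUW⟩, hxU⟩
  · intro U
    rw [map_zero]
    have h1 := phi_mem_nonZeroDivisors f U.1.2 hr
    have h3 := congrArg (X.presheaf.map (homOfLE U.2).op) hs
    rw [map_mul, map_zero, phi_res] at h3
    exact (mem_nonZeroDivisors_iff_left.mp h1) _ h3

theorem app_phi (p : Y ⟶ X) (f : X ⟶ Spec (CommRingCat.of R)) (V : X.Opens) (r : R) :
    p.app V (phi f V r) = phi (p ≫ f) (p ⁻¹ᵁ V) r := by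
  rw [phi_apply, phi_apply, Scheme.Hom.comp_appTop]
  generalize (Scheme.ΓSpecIso (CommRingCat.of R)).inv r = z
  have h := ConcreteCategory.congr_hom (p.naturality (homOfLE (le_top : V ≤ ⊤)).op) (f.appTop z)
  rw [CommRingCat.comp_apply, CommRingCat.comp_apply] at h
  rw [h, CommRingCat.comp_apply]
  rfl

end DVR

section Main

open Groth.Agent.Lib.Helper10.DVRFibre

variable {R : Type u} [CommRing R] [IsDomain R] [IsDiscreteValuationRing R] {X Y : Scheme.{u}}

/-- For a universally closed morphism, `O_X(V) → O_Y(p⁻¹V)` is integral for every affine open `V`. -/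
theorem isIntegral_app_of_universallyClosed (p : Y ⟶ X) [UniversallyClosed p] (V : X.Opens)
    (hV : IsAffineOpen V) : (p.app V).hom.IsIntegral := by
  haveI : IsAffine (V : Scheme.{u}) := hV
  have h := isIntegral_appTop_of_universallyClosed (p ∣_ V)
  rw [morphismRestrict_appTop] at h
  have hVV : V.ι ''ᵁ ⊤ = V := by simp
  have hnat := p.naturality (eqToHom hVV).op
  have h1 : (p.app (V.ι ''ᵁ ⊤)).hom.IsIntegral :=
    (RingHom.isIntegral_respectsIso.cancel_right_isIso _ _).mp h
  have h2 : (X.presheaf.map (eqToHom hVV).op ≫ p.app (V.ι ''ᵁ ⊤)).hom.IsIntegral :=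
    (RingHom.isIntegral_respectsIso.cancel_left_isIso _ _).mpr h1
  rw [hnat] at h2
  exact (RingHom.isIntegral_respectsIso.cancel_right_isIso _ _).mp h2

/-- The affine-open case. -/
theorem isIso_app_of_isAffineOpen
    (f : X ⟶ Spec (CommRingCat.of R)) [Flat f] (p : Y ⟶ X) [Flat (p ≫ f)] [IsProper p]
    [IsReduced (f.fiber (IsLocalRing.closedPoint R))]
    (hp : ∀ W : X.Opens, (∀ x ∈ W, f x = genPt R) → IsIso (p.app W))
    {V : X.Opens} (hV : IsAffineOpen V) : IsIso (p.app V) := by
  obtain ⟨t, ht⟩ := IsDiscreteValuationRing.exists_irreducible R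
  set φ : Γ(X, V) →+* Γ(Y, p ⁻¹ᵁ V) := (p.app V).hom with hφ
  set tA : Γ(X, V) := phi f V t with htA
  have htB : φ tA = phi (p ≫ f) (p ⁻¹ᵁ V) t := app_phi p f V t
  have h1 : tA ∈ nonZeroDivisors Γ(X, V) := phi_mem_nonZeroDivisors f hV ht.ne_zero
  have h2 : φ tA ∈ nonZeroDivisors Γ(Y, p ⁻¹ᵁ V) := by
    rw [htB]; exact phi_mem_nonZeroDivisors_opens (p ≫ f) _ ht.ne_zero
  haveI : (IsLocalRing.closedPoint R).asIdeal.IsMaximal :=
    IsLocalRing.maximalIdeal.isMaximal R
  haveI h3 : IsReduced (Γ(X, V) ⧸ Ideal.span {tA}) :=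
    isReduced_quotient_of_isReduced_fiber f (IsLocalRing.closedPoint R) t ht.maximalIdeal_eq hV
  have h4 : φ.IsIntegral := isIntegral_app_of_universallyClosed p V hV
  -- `p` is an isomorphism over the basic open `W = D(t)` of `V`
  let W : X.Opens := X.basicOpen tA
  have hWV : W ≤ V := X.basicOpen_le tA
  haveI hW : IsIso (p.app W) := hp W (fun x hx => by
    by_contra h
    exact notMem_basicOpen_phi f ht h hx)
  have hbij := ConcreteCategory.bijective_of_isIso (p.app W)
  have hpW : Y.basicOpen (φ tA) ≤ p ⁻¹ᵁ W := (Scheme.preimage_basicOpen p tA).ge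
  have hpWV : p ⁻¹ᵁ W ≤ p ⁻¹ᵁ V := fun y hy => hWV hy
  have hcpt : IsCompact ((p ⁻¹ᵁ V : Y.Opens) : Set Y) := p.isCompact_preimage hV.isCompact
  have nat : ∀ a : Γ(X, V), p.app W (X.presheaf.map (homOfLE hWV).op a) =
      Y.presheaf.map (homOfLE hpWV).op (φ a) := by
    intro a
    have h := ConcreteCategory.congr_hom (p.naturality (homOfLE hWV).op) a
    rw [CommRingCat.comp_apply, CommRingCat.comp_apply] at h
    exact h
  -- sections of `Y` over `p⁻¹V` vanishing over `p⁻¹W` vanish
  have hzero : ∀ z : Γ(Y, p ⁻¹ᵁ V), Y.presheaf.map (homOfLE hpWV).op z = 0 → z = 0 := by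
    intro z hz
    have hz' : z |_ (Y.basicOpen (φ tA)) = 0 := by
      show Y.presheaf.map (homOfLE (Y.basicOpen_le (φ tA))).op z = 0
      have : homOfLE (Y.basicOpen_le (φ tA)) = homOfLE hpW ≫ homOfLE hpWV := rfl
      rw [this, op_comp, Functor.map_comp, CommRingCat.comp_apply, hz, map_zero]
    obtain ⟨m, hm⟩ := exists_pow_mul_eq_zero_of_res_basicOpen_eq_zero_of_isCompact Y hcpt z
      (φ tA) hz'
    exact (mem_nonZeroDivisors_iff_left.mp (pow_mem h2 m)) z hm
  haveI hloc' := hV.isLocalization_basicOpen tA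
  have halg : ∀ a : Γ(X, V), algebraMap Γ(X, V) Γ(X, W) a =
      X.presheaf.map (homOfLE hWV).op a := fun a => rfl
  have hinj : Function.Injective φ := by
    rw [injective_iff_map_eq_zero]
    intro a ha
    have h5 : algebraMap Γ(X, V) Γ(X, W) a = 0 := by
      rw [halg]
      apply hbij.1
      rw [map_zero, nat, ha, map_zero]
    obtain ⟨⟨_, n, rfl⟩, hn⟩ :=
      (IsLocalization.map_eq_zero_iff (Submonoid.powers tA) Γ(X, W) a).mp h5
    exact (mem_nonZeroDivisors_iff_left.mp (pow_mem h1 n)) a hn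
  have hloc : ∀ b : Γ(Y, p ⁻¹ᵁ V), ∃ (n : ℕ) (a : Γ(X, V)), φ a = φ tA ^ n * b := by
    intro b
    obtain ⟨a', ha'⟩ := hbij.2 (Y.presheaf.map (homOfLE hpWV).op b)
    obtain ⟨⟨a, ⟨_, n, rfl⟩⟩, hn⟩ := IsLocalization.surj (Submonoid.powers tA) a'
    refine ⟨n, a, ?_⟩
    have hsub : φ a - φ tA ^ n * b = 0 := by
      apply hzero
      rw [map_sub, map_mul, ← nat, ← halg, ← hn, map_mul, ha', halg, nat, map_pow, sub_eq_zero,
        mul_comm]
    exact sub_eq_zero.mp hsub
  have hsurj := surjective_of_isIntegral_of_isReduced_quotient φ tA h2 h4 hinj hloc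
  exact (ConcreteCategory.isIso_iff_bijective (p.app V)).mpr ⟨hinj, hsurj⟩

end Main

section Final

open Groth.Agent.Lib.Helper10.DVRFibre

variable (R : Type u) [CommRing R] [IsDomain R] [IsDiscreteValuationRing R]

theorem genPt_mem_range :
    genPt R ∈ Set.range (Spec.map (CommRingCat.ofHom (algebraMap R (FractionRing R)))) := by
  refine ⟨⟨⊥, Ideal.isPrime_bot⟩, ?_⟩
  apply PrimeSpectrum.ext
  show Ideal.comap (algebraMap R (FractionRing R)) ⊥ = ⊥
  rw [← RingHom.ker_eq_comap_bot, (RingHom.injective_iff_ker_eq_bot _).mp (IsFractionRing.injective R (FractionRing R))]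

/-- S13746. -/
theorem app_isIso (X Y : Over (Spec (CommRingCat.of R))) [Flat X.hom] [Flat Y.hom]
    (π : Y ⟶ X) [IsProper π.left]
    (hgen : IsIso ((Over.pullback
      (Spec.map (CommRingCat.ofHom (algebraMap R (FractionRing R))))).map π))
    [IsReduced (X.hom.fiber (IsLocalRing.closedPoint R))] :
    ∀ V : X.left.Opens, IsIso (π.left.app V) := by
  let j := Spec.map (CommRingCat.ofHom (algebraMap R (FractionRing R)))
  haveI : IsOpenImmersion j := Groth.Agent.R2.H93.DvrRed.isOpenImmersion_spec_fractionRing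
  let ιX := pullback.fst X.hom j
  let ιY := pullback.fst Y.hom j
  let p' := ((Over.pullback j).map π).left
  haveI : IsIso p' := (Over.forget _).map_isIso ((Over.pullback j).map π)
  have hcomm : p' ≫ ιX = ιY ≫ π.left := by
    simp only [p', ιX, ιY, Over.pullback_map_left, pullback.lift_fst]
  haveI hYf : Flat (π.left ≫ X.hom) := by rw [Over.w π]; infer_instance
  have hp : ∀ W : X.left.Opens, (∀ x ∈ W, X.hom x = genPt R) → IsIso (π.left.app W) := by
    intro W hW
    apply isIso_app_of_openImmersions π.left ιX ιY p' hcomm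
    · intro y hy
      have h1 : π.left y ∈ Set.range ιX := hy
      rw [Scheme.Pullback.range_fst] at h1
      show y ∈ Set.range ιY
      rw [Scheme.Pullback.range_fst]
      show Y.hom y ∈ Set.range j
      rw [← Over.w π, Scheme.Hom.comp_apply]
      exact h1
    · intro x hx
      show x ∈ Set.range ιX
      rw [Scheme.Pullback.range_fst]
      show X.hom x ∈ Set.range j
      rw [hW x hx]
      exact genPt_mem_range R
  exact isIso_app_of_forall_isAffineOpen π.left
    (fun V hV => isIso_app_of_isAffineOpen X.hom π.left hp hV)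

end Final

end Groth.Agent.R2.H39.SemiFact
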