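import Mathlib

/-!
# Separatedness over an affine base via an affine open cover

`isSeparated_iff_inter_affine_and_generated`: for `f : X ⟶ Y` with `Y` affine and an affine open
cover `U i` of `X`, `f` is separated iff every `U i ⊓ U j` is affine and its ring of sections is
generated by the restrictions from `U i` and `U j`.
-/

set_option autoImplicit false
universe u v

open CategoryTheory CategoryTheory.Limits AlgebraicGeometry TopologicalSpace

namespace Groth.Agent.R2.H39.SepGen

/-- In a pushout square of commutative rings, the pushout is generated by the two images. -/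
theorem closure_eq_top_of_isPushout {A B C P : CommRingCat.{u}} {f : A ⟶ B} {g : A ⟶ C}
    {inl : B ⟶ P} {inr : C ⟶ P} (h : IsPushout f g inl inr) :
    Subring.closure (Set.range inl.hom ∪ Set.range inr.hom) = ⊤ := by
  set S := Subring.closure (Set.range inl.hom ∪ Set.range inr.hom) with hS
  let inl' : B ⟶ CommRingCat.of S := CommRingCat.ofHom
    (inl.hom.codRestrict S (fun b => Subring.subset_closure (Or.inl ⟨b, rfl⟩)))
  let inr' : C ⟶ CommRingCat.of S := CommRingCat.ofHom
    (inr.hom.codRestrict S (fun c => Subring.subset_closure (Or.inr ⟨c, rfl⟩)))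
  let j : CommRingCat.of S ⟶ P := CommRingCat.ofHom S.subtype
  have hl : inl' ≫ j = inl := by ext b; rfl
  have hr : inr' ≫ j = inr := by ext c; rfl
  have w : f ≫ inl' = g ≫ inr' := by
    ext a
    exact congrArg (fun φ : A ⟶ P => φ.hom a) h.w
  let t : P ⟶ CommRingCat.of S := h.desc inl' inr' w
  have ht : t ≫ j = 𝟙 P := by
    apply h.hom_ext
    · rw [← Category.assoc, h.inl_desc, hl, Category.comp_id]
    · rw [← Category.assoc, h.inr_desc, hr, Category.comp_id]
  rw [eq_top_iff]
  intro x _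
  have : x = j.hom (t.hom x) := congrArg (fun φ : P ⟶ P => φ.hom x) ht.symm
  rw [this]
  exact (t.hom x).2

/-- pure ring theory: transporting "generated by two images" along a map and an iso -/
theorem surjective_iff_closure_eq_top {A B C A₁ A₂ A₁' A₂' : Type*} [CommRing A] [CommRing B]
    [CommRing C] [CommRing A₁] [CommRing A₂] [CommRing A₁'] [CommRing A₂']
    (φ : A →+* B) (a₁ : A₁ →+* A) (a₂ : A₂ →+* A)
    (hA : Subring.closure (Set.range a₁ ∪ Set.range a₂) = ⊤)
    (ψ : B →+* C) (hψ : Function.Bijective ψ) (r₁ : A₁' →+* C) (r₂ : A₂' →+* C)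
    (h₁ : Set.range r₁ = Set.range ((ψ.comp φ).comp a₁))
    (h₂ : Set.range r₂ = Set.range ((ψ.comp φ).comp a₂)) :
    Function.Surjective φ ↔ Subring.closure (Set.range r₁ ∪ Set.range r₂) = ⊤ := by
  have key : Subring.closure (Set.range r₁ ∪ Set.range r₂) = (ψ.comp φ).range := by
    rw [h₁, h₂, RingHom.coe_comp, RingHom.coe_comp (ψ.comp φ) a₂, Set.range_comp, Set.range_comp _ a₂,
      ← Set.image_union, ← RingHom.map_closure, hA, RingHom.range_eq_map]
  rw [key, RingHom.range_eq_top]
  constructor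
  · intro h
    exact hψ.2.comp h
  · intro h b
    obtain ⟨a, ha⟩ := h (ψ b)
    exact ⟨a, hψ.1 ha⟩


theorem mapDesc_iff {X Y : Scheme.{u}} [IsAffine Y] (f : X ⟶ Y) (V W : X.Opens)
    (hV : IsAffineOpen V) (hW : IsAffineOpen W) :
    (IsAffine (pullback V.ι W.ι) ∧ Function.Surjective (pullback.mapDesc V.ι W.ι f).appTop) ↔
    (IsAffineOpen (V ⊓ W) ∧
      Subring.closure (Set.range (X.presheaf.map (homOfLE (inf_le_left : V ⊓ W ≤ V)).op).hom ∪
        Set.range (X.presheaf.map (homOfLE (inf_le_right : V ⊓ W ≤ W)).op).hom) = ⊤) := by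
  have : IsAffine V.toScheme := hV
  have : IsAffine W.toScheme := hW
  have hpb := IsOpenImmersion.isPullback (X.homOfLE (inf_le_left : V ⊓ W ≤ V))
    (X.homOfLE (inf_le_right : V ⊓ W ≤ W)) V.ι W.ι (by simp) (by ext; simp)
  let e := hpb.isoPullback
  have haff : IsAffine (pullback V.ι W.ι) ↔ IsAffineOpen (V ⊓ W) := by
    constructor
    · intro h
      exact IsAffine.of_isIso e.hom
    · intro h
      have : IsAffine (V ⊓ W).toScheme := h
      exact IsAffine.of_isIso e.inv
  rw [haff]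
  refine and_congr_right (fun hI => ?_)
  have : IsAffine (V ⊓ W).toScheme := hI
  have hZpush := isPushout_appTop_of_isPullback
    (IsPullback.of_hasPullback (V.ι ≫ f) (W.ι ≫ f))
  have hA := closure_eq_top_of_isPushout hZpush
  have hm₁ : pullback.mapDesc V.ι W.ι f ≫ pullback.fst (V.ι ≫ f) (W.ι ≫ f)
      = pullback.fst V.ι W.ι := (pullback.lift_fst _ _ _).trans (Category.comp_id _)
  have hm₂ : pullback.mapDesc V.ι W.ι f ≫ pullback.snd (V.ι ≫ f) (W.ι ≫ f)
      = pullback.snd V.ι W.ι := (pullback.lift_snd _ _ _).trans (Category.comp_id _)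
  have he₁ : e.hom ≫ pullback.fst V.ι W.ι = X.homOfLE (inf_le_left : V ⊓ W ≤ V) :=
    hpb.isoPullback_hom_fst
  have he₂ : e.hom ≫ pullback.snd V.ι W.ι = X.homOfLE (inf_le_right : V ⊓ W ≤ W) :=
    hpb.isoPullback_hom_snd
  have key₁ : (pullback.fst (V.ι ≫ f) (W.ι ≫ f)).appTop ≫ (pullback.mapDesc V.ι W.ι f).appTop ≫
      e.hom.appTop ≫ (V ⊓ W).topIso.hom
      = V.topIso.hom ≫ X.presheaf.map (homOfLE (inf_le_left : V ⊓ W ≤ V)).op := by
    rw [← Scheme.Hom.comp_appTop_assoc, hm₁, ← Scheme.Hom.comp_appTop_assoc, he₁,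
      Scheme.homOfLE_appTop, Scheme.Opens.topIso_hom, Scheme.Opens.topIso_hom]
    erw [← Functor.map_comp, ← Functor.map_comp]
    rfl
  have key₂ : (pullback.snd (V.ι ≫ f) (W.ι ≫ f)).appTop ≫ (pullback.mapDesc V.ι W.ι f).appTop ≫
      e.hom.appTop ≫ (V ⊓ W).topIso.hom
      = W.topIso.hom ≫ X.presheaf.map (homOfLE (inf_le_right : V ⊓ W ≤ W)).op := by
    rw [← Scheme.Hom.comp_appTop_assoc, hm₂, ← Scheme.Hom.comp_appTop_assoc, he₂,
      Scheme.homOfLE_appTop, Scheme.Opens.topIso_hom, Scheme.Opens.topIso_hom]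
    erw [← Functor.map_comp, ← Functor.map_comp]
    rfl
  have : IsIso e.hom.appTop := inferInstanceAs (IsIso (e.hom.app ⊤))
  have hψ : Function.Bijective (e.hom.appTop ≫ (V ⊓ W).topIso.hom).hom :=
    ConcreteCategory.bijective_of_isIso (e.hom.appTop ≫ (V ⊓ W).topIso.hom)
  have hVs : Function.Surjective V.topIso.hom.hom :=
    (ConcreteCategory.bijective_of_isIso V.topIso.hom).2
  have hWs : Function.Surjective W.topIso.hom.hom :=
    (ConcreteCategory.bijective_of_isIso W.topIso.hom).2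
  refine surjective_iff_closure_eq_top (pullback.mapDesc V.ι W.ι f).appTop.hom
    (pullback.fst (V.ι ≫ f) (W.ι ≫ f)).appTop.hom (pullback.snd (V.ι ≫ f) (W.ι ≫ f)).appTop.hom hA
    (e.hom.appTop ≫ (V ⊓ W).topIso.hom).hom hψ
    (X.presheaf.map (homOfLE (inf_le_left : V ⊓ W ≤ V)).op).hom
    (X.presheaf.map (homOfLE (inf_le_right : V ⊓ W ≤ W)).op).hom ?_ ?_
  · have : (((e.hom.appTop ≫ (V ⊓ W).topIso.hom).hom.comp
        (pullback.mapDesc V.ι W.ι f).appTop.hom).comp
        (pullback.fst (V.ι ≫ f) (W.ι ≫ f)).appTop.hom)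
        = (V.topIso.hom ≫ X.presheaf.map (homOfLE (inf_le_left : V ⊓ W ≤ V)).op).hom := by
      rw [← key₁]
      rfl
    rw [this, CommRingCat.hom_comp, RingHom.coe_comp, Set.range_comp, hVs.range_eq, Set.image_univ]
  · have : (((e.hom.appTop ≫ (V ⊓ W).topIso.hom).hom.comp
        (pullback.mapDesc V.ι W.ι f).appTop.hom).comp
        (pullback.snd (V.ι ≫ f) (W.ι ≫ f)).appTop.hom)
        = (W.topIso.hom ≫ X.presheaf.map (homOfLE (inf_le_right : V ⊓ W ≤ W)).op).hom := by
      rw [← key₂]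
      rfl
    rw [this, CommRingCat.hom_comp, RingHom.coe_comp, Set.range_comp, hWs.range_eq, Set.image_univ]

theorem isSeparated_iff_inter_affine_and_generated
    {X Y : Scheme.{u}} [IsAffine Y] (f : X ⟶ Y) {ι : Type v} (U : ι → X.Opens)
    (hU : ∀ i, IsAffineOpen (U i)) (hcov : ⨆ i, U i = ⊤) :
    IsSeparated f ↔ ∀ i j, IsAffineOpen (U i ⊓ U j) ∧
      Subring.closure (Set.range (X.presheaf.map (homOfLE (inf_le_left : U i ⊓ U j ≤ U i)).op).hom ∪
        Set.range (X.presheaf.map (homOfLE (inf_le_right : U i ⊓ U j ≤ U j)).op).hom) = ⊤ := by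
  have h1 : IsSeparated f ↔ MorphismProperty.diagonal @IsClosedImmersion f := by
    rw [IsSeparated.isSeparated_eq_diagonal_isClosedImmersion]
  rw [h1, ← HasAffineProperty.diagonal_iff @IsClosedImmersion
    (Q := fun X _ f _ ↦ IsAffine X ∧ Function.Surjective (f.appTop))]
  constructor
  · intro H i j
    have : IsAffine (U i).toScheme := hU i
    have : IsAffine (U j).toScheme := hU j
    exact (mapDesc_iff f (U i) (U j) (hU i) (hU j)).mp (H (U i).ι (U j).ι)
  · intro H
    let 𝒰 := X.openCoverOfIsOpenCover U hcov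
    have : ∀ i, IsAffine (𝒰.X i) := hU
    have := HasAffineProperty.isLocal_affineProperty @IsClosedImmersion
    refine AffineTargetMorphismProperty.diagonal_of_openCover_source f 𝒰 (fun i j => ?_)
    exact (mapDesc_iff f (U i) (U j) (hU i) (hU j)).mpr (H i j)

end Groth.Agent.R2.H39.SepGen
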