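import Mathlib

set_option autoImplicit false
set_option linter.style.haveILetI false
set_option linter.unreachableTactic false
set_option linter.unusedTactic false
universe u

namespace Groth.Agent.R2.H39.StdSmoothEmb

open MvPolynomial KaehlerDifferential TensorProduct Module

theorem exists_minor {κ : Type*} [Field κ] {c n : ℕ} (w : Fin c → Fin n → κ)
    (hw : LinearIndependent κ w) :
    ∃ a : Fin c → Fin n, Function.Injective a ∧
      (Matrix.of fun i j : Fin c => w j (a i)).det ≠ 0 := by
  classical
  let M : Matrix (Fin c) (Fin n) κ := Matrix.of w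
  have hrank : M.rank = c := by
    rw [Matrix.rank_eq_finrank_span_row]
    have : M.row = w := rfl
    rw [this, finrank_span_eq_card hw, Fintype.card_fin]
  have hcols : Submodule.span κ (Set.range M.col) = ⊤ := by
    apply Submodule.eq_top_of_finrank_eq
    rw [← Matrix.rank_eq_finrank_span_cols, hrank, Module.finrank_fin_fun]
  obtain ⟨κ', a, ha, hspan, hli⟩ := exists_linearIndependent' (K := κ) M.col
  rw [hcols] at hspan
  let b : Module.Basis κ' κ (Fin c → κ) := Module.Basis.mk hli (by rw [hspan])
  let e : Fin c ≃ κ' := (Pi.basisFun κ (Fin c)).indexEquiv b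
  refine ⟨a ∘ e, ha.comp e.injective, ?_⟩
  have hN : LinearIndependent κ (Matrix.of fun i j : Fin c => w j (a (e i))).row := by
    have : (Matrix.of fun i j : Fin c => w j (a (e i))).row = (M.col ∘ a) ∘ e := by
      ext i j
      rfl
    rw [this]
    exact hli.comp e e.injective
  have := Matrix.linearIndependent_rows_iff_isUnit.mp hN
  exact ((Matrix.isUnit_iff_isUnit_det _).mp this).ne_zero

theorem exists_relations {A B : Type u} [CommRing A] [CommRing B] [Algebra A B] {n : ℕ}
    (Gen : Algebra.Generators A B (Fin n)) (q : Ideal B) [q.IsPrime] (r : ℕ)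
    (hr : Module.finrank q.ResidueField (q.ResidueField ⊗[B] Ω[B⁄A]) = r) :
    ∃ c : ℕ, c + r = n ∧ ∃ f : Fin c → MvPolynomial (Fin n) A, (∀ j, aeval Gen.val (f j) = 0) ∧
      LinearIndependent q.ResidueField
        (fun (j : Fin c) (i : Fin n) =>
          algebraMap B q.ResidueField (aeval Gen.val (pderiv i (f j)))) := by
  classical
  let κ := q.ResidueField
  let E := Gen.toExtension
  let cc : E.Cotangent →ₗ[B] E.CotangentSpace := E.cotangentComplex
  let tk : E.CotangentSpace →ₗ[B] Ω[B⁄A] := E.toKaehler
  have hex : Function.Exact cc tk := E.exact_cotangentComplex_toKaehler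
  have hsurj : Function.Surjective tk := E.toKaehler_surjective
  let bs : Basis (Fin n) B E.CotangentSpace := Gen.cotangentSpaceBasis
  let bκ : Basis (Fin n) κ (κ ⊗[B] E.CotangentSpace) := bs.baseChange κ
  let tkκ : κ ⊗[B] E.CotangentSpace →ₗ[κ] κ ⊗[B] Ω[B⁄A] := tk.baseChange κ
  have htkκ_surj : Function.Surjective tkκ := LinearMap.lTensor_surjective κ hsurj
  have hexκ : Function.Exact (cc.lTensor κ) (tk.lTensor κ) := lTensor_exact κ hex hsurj
  have hfin : Module.finrank κ (κ ⊗[B] E.CotangentSpace) = n := by
    rw [Module.finrank_eq_card_basis bκ, Fintype.card_fin]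
  haveI : Module.Finite κ (κ ⊗[B] E.CotangentSpace) := Module.Finite.of_basis bκ
  have hrn := LinearMap.finrank_range_add_finrank_ker tkκ
  rw [LinearMap.range_eq_top.mpr htkκ_surj, finrank_top, hr, hfin] at hrn
  -- the spanning set of the kernel
  let S : Set (κ ⊗[B] E.CotangentSpace) :=
    {x | ∃ f : E.ker, x = (1 : κ) ⊗ₜ[B] cc (Algebra.Extension.Cotangent.mk f)}
  have hker : Submodule.span κ S = LinearMap.ker tkκ := by
    apply le_antisymm
    · rw [Submodule.span_le]
      rintro x ⟨f, rfl⟩
      rw [SetLike.mem_coe, LinearMap.mem_ker]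
      change (tk.lTensor κ) ((cc.lTensor κ) ((1 : κ) ⊗ₜ[B] Algebra.Extension.Cotangent.mk f)) = 0
      exact hexκ.apply_apply_eq_zero _
    · intro x hx
      rw [LinearMap.mem_ker] at hx
      have hx' : (tk.lTensor κ) x = 0 := hx
      obtain ⟨y, rfl⟩ := (hexκ x).mp hx'
      induction y using TensorProduct.induction_on with
      | zero => rw [map_zero]; exact Submodule.zero_mem _
      | add y₁ y₂ h₁ h₂ =>
        rw [map_add]
        refine Submodule.add_mem _ (h₁ ?_ ?_) (h₂ ?_ ?_) <;>
          first
          | exact hexκ.apply_apply_eq_zero _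
          | (rw [LinearMap.mem_ker]; exact hexκ.apply_apply_eq_zero _)
      | tmul a m =>
        obtain ⟨f, rfl⟩ := Algebra.Extension.Cotangent.mk_surjective m
        rw [LinearMap.lTensor_tmul]
        have : a ⊗ₜ[B] cc (Algebra.Extension.Cotangent.mk f)
            = a • ((1 : κ) ⊗ₜ[B] cc (Algebra.Extension.Cotangent.mk f)) := by
          rw [TensorProduct.smul_tmul', smul_eq_mul, mul_one]
        rw [this]
        exact Submodule.smul_mem _ _ (Submodule.subset_span ⟨f, rfl⟩)
  obtain ⟨F, hFS, -, hFli⟩ := Submodule.exists_fun_fin_finrank_span_eq κ S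
  refine ⟨Module.finrank κ (Submodule.span κ S), ?_, ?_⟩
  · rw [hker]; omega
  choose g hg using hFS
  refine ⟨fun j => ((g j).val : MvPolynomial (Fin n) A), fun j => ?_, ?_⟩
  · have := (g j).2
    have h2 : algebraMap E.Ring B (g j).val = 0 := this
    rw [← h2]
    exact (Gen.algebraMap_apply _).symm
  · have hw : (fun (j : Fin (Module.finrank κ (Submodule.span κ S))) (i : Fin n) =>
        algebraMap B q.ResidueField (aeval Gen.val (pderiv i ((g j).val : MvPolynomial (Fin n) A))))
        = fun j => bκ.equivFun (F j) := by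
      funext j i
      rw [Basis.equivFun_apply, hg j]
      change _ = (bs.baseChange κ).repr _ i
      rw [Basis.baseChange_repr_tmul]
      change _ = (bs.repr (E.cotangentComplex (Algebra.Extension.Cotangent.mk (g j))) i) • (1 : κ)
      rw [Algebra.Extension.cotangentComplex_mk]
      have := Gen.cotangentSpaceBasis_repr_one_tmul ((g j).val : MvPolynomial (Fin n) A) i
      rw [Algebra.algebraMap_eq_smul_one]
      congr 1
      exact this.symm
    rw [hw]
    exact hFli.map' bκ.equivFun.toLinearMap bκ.equivFun.ker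

theorem main {A B : Type u} [CommRing A] [CommRing B] [Algebra A B] [Algebra.FiniteType A B]
    (q : Ideal B) [q.IsPrime] (r : ℕ)
    (hr : Module.finrank q.ResidueField (q.ResidueField ⊗[B] Ω[B⁄A]) = r) :
    ∃ g : B, g ∉ q ∧ ∃ (D : Type u) (_ : CommRing D) (_ : Algebra A D),
      Algebra.IsStandardSmoothOfRelativeDimension r A D ∧
        ∃ φ : D →ₐ[A] Localization.Away g, Function.Surjective φ := by
  classical
  obtain ⟨n, ⟨Gen⟩⟩ :=
    (Algebra.FiniteType.iff_exists_generators (R := A) (S := B)).mp inferInstance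
  obtain ⟨c, hcn, f, hf0, hli⟩ := exists_relations Gen q r hr
  obtain ⟨a, ha, hdet⟩ := exists_minor _ hli
  let J : Matrix (Fin c) (Fin c) (MvPolynomial (Fin n) A) :=
    Matrix.of fun i j => pderiv (a i) (f j)
  let h : MvPolynomial (Fin n) A := J.det
  let π : MvPolynomial (Fin n) A →ₐ[A] B := aeval Gen.val
  let g : B := π h
  have hg : g ∉ q := by
    intro hgq
    apply hdet
    have hres : algebraMap B q.ResidueField g =
        (Matrix.of fun i j : Fin c =>
          algebraMap B q.ResidueField (aeval Gen.val (pderiv (a i) (f j)))).det := by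
      change algebraMap B q.ResidueField (π J.det) = _
      rw [AlgHom.map_det, RingHom.map_det]
      rfl
    rw [← hres]
    exact (Ideal.algebraMap_residueField_eq_zero).mpr hgq
  let I : Ideal (MvPolynomial (Fin n) A) := Ideal.span (Set.range f)
  let pre : Algebra.PreSubmersivePresentation A (MvPolynomial (Fin n) A ⧸ I) (Fin n) (Fin c) :=
    Algebra.PreSubmersivePresentation.naive (v := f) a ha
  let hbar : MvPolynomial (Fin n) A ⧸ I := Ideal.Quotient.mk I h
  have hjac : pre.jacobian = hbar := by
    rw [Algebra.PreSubmersivePresentation.jacobian_eq_jacobiMatrix_det]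
    have hJ : pre.jacobiMatrix = J := by
      ext i j
      rw [Algebra.PreSubmersivePresentation.jacobiMatrix_apply]
      rfl
    rw [hJ]
    rfl
  let Q : Algebra.PreSubmersivePresentation (MvPolynomial (Fin n) A ⧸ I) (Localization.Away hbar)
      Unit Unit := Algebra.PreSubmersivePresentation.localizationAway (Localization.Away hbar) hbar
  have hunit : IsUnit (Q.comp pre).jacobian := by
    rw [Algebra.PreSubmersivePresentation.comp_jacobian_eq_jacobian_smul_jacobian, hjac,
      Algebra.PreSubmersivePresentation.localizationAway_jacobian, Algebra.smul_def]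
    exact (IsLocalization.Away.algebraMap_isUnit hbar).mul
      (IsLocalization.Away.algebraMap_isUnit hbar)
  let SP : Algebra.SubmersivePresentation A (Localization.Away hbar) (Unit ⊕ Fin n) (Unit ⊕ Fin c) :=
    ⟨Q.comp pre, hunit⟩
  have hdim : SP.dimension = r := by
    change Nat.card (Unit ⊕ Fin n) - Nat.card (Unit ⊕ Fin c) = r
    simp only [Nat.card_eq_fintype_card, Fintype.card_sum, Fintype.card_unit, Fintype.card_fin]
    omega
  refine ⟨g, hg, Localization.Away hbar, inferInstance, inferInstance,
    SP.isStandardSmoothOfRelativeDimension hdim, ?_⟩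
  have hIker : ∀ x ∈ I, π x = 0 := by
    intro x hx
    refine Submodule.span_induction (p := fun x _ => π x = 0) ?_ ?_ ?_ ?_ hx
    · rintro _ ⟨j, rfl⟩
      exact hf0 j
    · exact map_zero π
    · intro x y _ _ hx hy
      rw [map_add, hx, hy, add_zero]
    · intro t x _ hx
      rw [smul_eq_mul, map_mul, hx, mul_zero]
  let ψ' : (MvPolynomial (Fin n) A ⧸ I) →ₐ[A] B := Ideal.Quotient.liftₐ I π hIker
  have hψ'surj : Function.Surjective ψ' := by
    intro b
    obtain ⟨p, hp⟩ := Gen.algebraMap_surjective b
    refine ⟨Ideal.Quotient.mk I p, ?_⟩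
    rw [← hp]
    exact (Gen.algebraMap_apply p).symm
  have hψ'h : ψ' hbar = g := rfl
  let φ₀ : Localization.Away hbar →ₐ[A] Localization.Away (ψ' hbar) := Localization.awayMapₐ ψ' hbar
  have hφ₀ : Function.Surjective φ₀ := by
    have : Function.Surjective (Localization.awayMap ψ'.toRingHom hbar) := by
      rw [Localization.awayMap_surjective_iff]
      intro b
      obtain ⟨d, hd⟩ := hψ'surj b
      exact ⟨d, 0, by rw [pow_zero, one_mul]; exact hd⟩
    exact this
  exact ⟨φ₀, hφ₀⟩

end Groth.Agent.R2.H39.StdSmoothEmb
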