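import Mathlib
import Groth.Agent.S5802

/-!
# helper39: `A/J^N ≅ (A/J)[T]/(T)^N` for `J` generated by a weakly regular sequence, given a section
of `A/J^N → A/J`.
-/

set_option autoImplicit false
universe u v

namespace Groth.Agent.R2.H39.TruncPoly

open MvPolynomial

variable {R : Type u} {A : Type v} [CommRing R] [CommRing A] [Algebra R A] {d : ℕ}
  (x : Fin d → A) (N : ℕ)

/-- the ideal generated by the sequence -/
abbrev J : Ideal A := Ideal.span (Set.range x)

/-- the image of `J` in `A/J^N` -/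
abbrev Jbar : Ideal (A ⧸ J x ^ N) := (J x).map (Ideal.Quotient.mk (J x ^ N))

theorem Jbar_pow_N : Jbar x N ^ N = ⊥ := by
  rw [Jbar, ← Ideal.map_pow, Ideal.map_quotient_self]

theorem mem_Jbar_of_factor_eq_zero (hN : N ≠ 0) (y : A ⧸ J x ^ N)
    (hy : Ideal.Quotient.factor (Ideal.pow_le_self hN) y = 0) : y ∈ Jbar x N := by
  obtain ⟨a, rfl⟩ := Ideal.Quotient.mk_surjective y
  rw [Ideal.Quotient.factor_mk, Ideal.Quotient.eq_zero_iff_mem] at hy
  exact Ideal.mem_map_of_mem _ hy

variable (σ : (A ⧸ J x) →ₐ[R] (A ⧸ J x ^ N))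

/-- the comparison map -/
noncomputable def Phi : MvPolynomial (Fin d) (A ⧸ J x) →ₐ[R] (A ⧸ J x ^ N) :=
  { MvPolynomial.eval₂Hom (σ : (A ⧸ J x) →+* (A ⧸ J x ^ N))
      (fun i => Ideal.Quotient.mk _ (x i)) with
    commutes' := fun r => by
      simp [MvPolynomial.algebraMap_apply] }

theorem Phi_C (b : A ⧸ J x) : Phi x N σ (C b) = σ b := by simp [Phi]

theorem Phi_X (i : Fin d) : Phi x N σ (X i) = Ideal.Quotient.mk _ (x i) := by simp [Phi]

theorem Phi_monomial (α : Fin d →₀ ℕ) (b : A ⧸ J x) :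
    Phi x N σ (monomial α b) =
      σ b * α.prod fun i e => (Ideal.Quotient.mk (J x ^ N) (x i)) ^ e := by
  simp [Phi, MvPolynomial.eval₂_monomial]

theorem prod_mem (α : Fin d →₀ ℕ) :
    (α.prod fun i e => (Ideal.Quotient.mk (J x ^ N) (x i)) ^ e) ∈
      Jbar x N ^ (Finsupp.degree α) := by
  rw [Finsupp.degree_apply, ← Finset.prod_pow_eq_pow_sum, Finsupp.prod]
  refine Ideal.prod_mem_prod fun i _ => Ideal.pow_mem_pow ?_ _
  exact Ideal.mem_map_of_mem _ (Ideal.subset_span ⟨i, rfl⟩)

theorem Phi_mem_of_mem_pow (k : ℕ) (p : MvPolynomial (Fin d) (A ⧸ J x))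
    (hp : p ∈ idealOfVars (Fin d) (A ⧸ J x) ^ k) : Phi x N σ p ∈ Jbar x N ^ k := by
  have h1 : (idealOfVars (Fin d) (A ⧸ J x)).map (Phi x N σ) ≤ Jbar x N := by
    rw [Ideal.map_span, Ideal.span_le]
    rintro _ ⟨_, ⟨i, rfl⟩, rfl⟩
    rw [Phi_X]
    exact Ideal.mem_map_of_mem _ (Ideal.subset_span ⟨i, rfl⟩)
  have := Ideal.mem_map_of_mem (Phi x N σ) hp
  rw [Ideal.map_pow] at this
  exact Ideal.pow_right_mono h1 k this

section withSection

variable (hN : N ≠ 0)
  (hσ : ∀ b, Ideal.Quotient.factor (Ideal.pow_le_self hN) (σ b) = b)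

include hσ in
theorem evdiff (k : ℕ) (G : MvPolynomial (Fin d) A) (hG : G.IsHomogeneous k) :
    Ideal.Quotient.mk (J x ^ N) (eval x G) -
      Phi x N σ (map (Ideal.Quotient.mk (J x)) G) ∈ Jbar x N ^ (k + 1) := by
  have hsum := G.as_sum
  rw [hsum]
  simp only [map_sum, ← Finset.sum_sub_distrib]
  refine Ideal.sum_mem _ fun α hα => ?_
  have hdeg : Finsupp.degree α = k := by
    have := hG (mem_support_iff.mp hα)
    rw [Finsupp.degree_eq_weight_one]
    exact this
  rw [eval_monomial, map_monomial, Phi_monomial, map_mul, map_finsuppProd]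
  simp only [map_pow]
  rw [← sub_mul, pow_succ']
  refine Ideal.mul_mem_mul ?_ (hdeg ▸ prod_mem x N α)
  apply mem_Jbar_of_factor_eq_zero x N hN
  rw [map_sub, hσ, Ideal.Quotient.factor_mk, sub_self]

include hσ in
theorem Phi_approx (y : A ⧸ J x ^ N) (k : ℕ) :
    ∃ p, y - Phi x N σ p ∈ Jbar x N ^ k := by
  induction k with
  | zero => exact ⟨0, by simp⟩
  | succ k ih =>
    obtain ⟨p, hp⟩ := ih
    rw [Jbar, ← Ideal.map_pow] at hp
    obtain ⟨z', hz', hz⟩ :=
      (Ideal.mem_map_iff_of_surjective _ Ideal.Quotient.mk_surjective).mp hp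
    obtain ⟨G, hG, hGe⟩ := (Ideal.mem_span_pow_iff_exists_isHomogeneous x z').mp hz'
    refine ⟨p + map (Ideal.Quotient.mk (J x)) G, ?_⟩
    have := evdiff x N σ hN hσ k G hG
    rw [hGe, hz] at this
    convert this using 1
    rw [map_add]; ring

include hσ in
theorem Phi_surjective : Function.Surjective (Phi x N σ) := by
  intro y
  obtain ⟨p, hp⟩ := Phi_approx x N σ hN hσ y N
  rw [Jbar_pow_N, Ideal.mem_bot, sub_eq_zero] at hp
  exact ⟨p, hp.symm⟩

theorem map_homogeneousComponent {S T : Type*} [CommRing S] [CommRing T] (f : S →+* T) (k : ℕ)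
    (G : MvPolynomial (Fin d) S) :
    map f (homogeneousComponent k G) = homogeneousComponent k (map f G) := by
  ext α
  rw [coeff_map, coeff_homogeneousComponent, coeff_homogeneousComponent, coeff_map]
  split_ifs <;> simp

include hσ in
theorem mem_pow_of_Phi_mem (hreg : RingTheory.Sequence.IsWeaklyRegular A (List.ofFn x))
    (k : ℕ) (hk : k ≤ N) (p : MvPolynomial (Fin d) (A ⧸ J x))
    (hp : Phi x N σ p ∈ Jbar x N ^ k) :
    p ∈ idealOfVars (Fin d) (A ⧸ J x) ^ k := by
  induction k with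
  | zero => simp
  | succ k ih =>
    have hpk : p ∈ idealOfVars (Fin d) (A ⧸ J x) ^ k :=
      ih (by omega) (Ideal.pow_le_pow_right (Nat.le_succ k) hp)
    set pk := homogeneousComponent k p with hpkdef
    have hrest : p - pk ∈ idealOfVars (Fin d) (A ⧸ J x) ^ (k + 1) := by
      rw [mem_pow_idealOfVars_iff']
      intro α hα
      rw [coeff_sub, hpkdef, coeff_homogeneousComponent]
      by_cases h : Finsupp.degree α = k
      · simp [h]
      · have hlt : Finsupp.degree α < k := by omega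
        rw [if_neg h, sub_zero]
        exact (mem_pow_idealOfVars_iff' k p).mp hpk α hlt
    have hΦrest := Phi_mem_of_mem_pow x N σ (k + 1) _ hrest
    have hΦpk : Phi x N σ pk ∈ Jbar x N ^ (k + 1) := by
      have := Ideal.sub_mem _ hp hΦrest
      rwa [map_sub, sub_sub_cancel] at this
    obtain ⟨G0, hG0⟩ := MvPolynomial.map_surjective _
      (Ideal.Quotient.mk_surjective (I := J x)) pk
    set G := homogeneousComponent k G0 with hGdef
    have hG : G.IsHomogeneous k := homogeneousComponent_isHomogeneous k G0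
    have hGmap : map (Ideal.Quotient.mk (J x)) G = pk := by
      rw [hGdef, map_homogeneousComponent, hG0, hpkdef]
      exact homogeneousComponent_eq_self (homogeneousComponent_isHomogeneous k p)
    have hE := evdiff x N σ hN hσ k G hG
    rw [hGmap] at hE
    have hev : Ideal.Quotient.mk (J x ^ N) (eval x G) ∈ Jbar x N ^ (k + 1) := by
      have := Ideal.add_mem _ hE hΦpk
      rwa [sub_add_cancel] at this
    have hev' : eval x G ∈ J x ^ (k + 1) := by
      rw [Jbar, ← Ideal.map_pow] at hev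
      obtain ⟨z, hz, hzeq⟩ :=
        (Ideal.mem_map_iff_of_surjective _ Ideal.Quotient.mk_surjective).mp hev
      have h1 : eval x G - z ∈ J x ^ N := Ideal.Quotient.eq.mp hzeq.symm
      have h2 : eval x G = z + (eval x G - z) := by ring
      rw [h2]
      exact Ideal.add_mem _ hz (Ideal.pow_le_pow_right hk h1)
    have hcoef := Groth.Agent.S5802.result A d x hreg k G hG hev'
    have hpk0 : pk = 0 := by
      rw [← hGmap]
      ext α
      rw [coeff_map, coeff_zero]
      exact Ideal.Quotient.eq_zero_iff_mem.mpr (hcoef α)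
    rw [hpk0, sub_zero] at hrest
    exact hrest

include hσ in
theorem Phi_eq_zero_iff (hreg : RingTheory.Sequence.IsWeaklyRegular A (List.ofFn x))
    (p : MvPolynomial (Fin d) (A ⧸ J x)) :
    Phi x N σ p = 0 ↔ p ∈ idealOfVars (Fin d) (A ⧸ J x) ^ N := by
  constructor
  · intro h
    refine mem_pow_of_Phi_mem x N σ hN hσ hreg N le_rfl p ?_
    rw [h]; exact Ideal.zero_mem _
  · intro h
    have := Phi_mem_of_mem_pow x N σ N p h
    rwa [Jbar_pow_N, Ideal.mem_bot] at this

include hσ in
theorem factor_Phi (p : MvPolynomial (Fin d) (A ⧸ J x)) :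
    Ideal.Quotient.factor (Ideal.pow_le_self hN) (Phi x N σ p) = constantCoeff p := by
  have : ((Ideal.Quotient.factor (Ideal.pow_le_self hN)).comp
      (Phi x N σ : MvPolynomial (Fin d) (A ⧸ J x) →+* (A ⧸ J x ^ N))) = constantCoeff := by
    refine MvPolynomial.ringHom_ext (fun b => ?_) (fun i => ?_)
    · simp [Phi_C, hσ]
    · simp only [RingHom.comp_apply, RingHom.coe_coe, Phi_X, Ideal.Quotient.factor_mk,
        constantCoeff_X]
      exact Ideal.Quotient.eq_zero_iff_mem.mpr (Ideal.subset_span ⟨i, rfl⟩)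
  exact RingHom.congr_fun this p

end withSection

end Groth.Agent.R2.H39.TruncPoly
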