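import Mathlib

/-!
# Big tensor products of presented algebras (helper3)

For a family of presented `A`-algebras `E i = A[x_1..x_{n i}]/J i` the algebra
`PT P = A[x_{i,k}] / (J i (x_i) : i)` is their coproduct (`inc`, `lift`, `lift_inc`, `hom_ext`); for a finite
family of étale algebras it is étale (`etale_PT`).
-/

set_option autoImplicit false
set_option linter.style.haveILetI false
open MvPolynomial
universe u

namespace Groth.Agent.R2.H3.BigTensor

variable (A : Type u) [CommRing A]

/-- a presented `A`-algebra -/
structure Pres where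
  n : ℕ
  J : Ideal (MvPolynomial (Fin n) A)

variable {A}

/-- the algebra presented by `s` -/
abbrev Pres.E (s : Pres A) : Type u := MvPolynomial (Fin s.n) A ⧸ s.J

variable {ι : Type u} (P : ι → Pres A)

/-- the variables of the big tensor product -/
abbrev Var : Type u := Σ i, Fin (P i).n

/-- the `i`-th block of variables -/
def mkVar (i : ι) (k : Fin (P i).n) : Var P := ⟨i, k⟩

/-- the ideal of relations -/
noncomputable def K : Ideal (MvPolynomial (Var P) A) :=
  ⨆ i, (P i).J.map (rename (mkVar P i) : _ →ₐ[A] _).toRingHom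

/-- the big tensor product -/
abbrev PT : Type u := MvPolynomial (Var P) A ⧸ K P

/-- the inclusion of a factor -/
noncomputable def inc (i : ι) : (P i).E →ₐ[A] PT P :=
  Ideal.Quotient.liftₐ (P i).J ((Ideal.Quotient.mkₐ A (K P)).comp
    (rename (mkVar P i))) (by
    intro p hp
    show Ideal.Quotient.mk (K P) (rename _ p) = 0
    rw [Ideal.Quotient.eq_zero_iff_mem]
    exact (le_iSup (fun i => (P i).J.map
      (rename (mkVar P i) : _ →ₐ[A] _).toRingHom) i)
      (Ideal.mem_map_of_mem _ hp))

theorem inc_mk (i : ι) (p : MvPolynomial (Fin (P i).n) A) :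
    inc P i (Ideal.Quotient.mk _ p) = Ideal.Quotient.mk (K P) (rename (mkVar P i) p) := rfl

variable {P} {R : Type u} [CommRing R] [Algebra A R]

/-- the evaluation attached to a family of maps -/
noncomputable def liftAux (f : ∀ i, (P i).E →ₐ[A] R) : MvPolynomial (Var P) A →ₐ[A] R :=
  aeval (fun v : Var P => f v.1 (Ideal.Quotient.mk _ (X v.2)))

theorem liftAux_rename (f : ∀ i, (P i).E →ₐ[A] R) (i : ι) (p : MvPolynomial (Fin (P i).n) A) :
    liftAux f (rename (mkVar P i) p) = f i (Ideal.Quotient.mk _ p) := by
  have : (liftAux f).comp (rename (mkVar P i)) =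
      (f i).comp (Ideal.Quotient.mkₐ A (P i).J) := by
    apply MvPolynomial.algHom_ext
    intro k
    simp only [liftAux, AlgHom.comp_apply, rename_X, aeval_X]
    rfl
  exact congr($this p)

/-- the universal property -/
noncomputable def lift (f : ∀ i, (P i).E →ₐ[A] R) : PT P →ₐ[A] R :=
  Ideal.Quotient.liftₐ (K P) (liftAux f) (by
    intro p hp
    have hle : K P ≤ RingHom.ker (liftAux f).toRingHom := by
      refine iSup_le fun i => ?_
      rw [Ideal.map_le_iff_le_comap]
      intro q hq
      show liftAux f (rename (mkVar P i) q) = 0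
      rw [liftAux_rename, Ideal.Quotient.eq_zero_iff_mem.mpr hq, map_zero]
    exact hle hp)

theorem lift_inc (f : ∀ i, (P i).E →ₐ[A] R) (i : ι) : (lift f).comp (inc P i) = f i := by
  apply Ideal.Quotient.algHom_ext
  apply MvPolynomial.algHom_ext
  intro k
  show liftAux f (rename (mkVar P i) (X k)) = f i (Ideal.Quotient.mk _ (X k))
  rw [liftAux_rename]

theorem hom_ext {g g' : PT P →ₐ[A] R} (h : ∀ i, g.comp (inc P i) = g'.comp (inc P i)) : g = g' := by
  apply Ideal.Quotient.algHom_ext
  apply MvPolynomial.algHom_ext
  rintro ⟨i, k⟩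
  have := congr($(h i) (Ideal.Quotient.mk _ (X k)))
  simp only [AlgHom.comp_apply, inc_mk, rename_X] at this
  exact this

/-- maps out of the big tensor product are families of maps -/
noncomputable def homEquiv : (PT P →ₐ[A] R) ≃ (∀ i, (P i).E →ₐ[A] R) where
  toFun g i := g.comp (inc P i)
  invFun := lift
  left_inv _ := hom_ext fun i => lift_inc _ i
  right_inv f := funext fun i => lift_inc f i

section etale

variable (P)

theorem formallyEtale_PT [∀ i, Algebra.FormallyEtale A (P i).E] :
    Algebra.FormallyEtale A (PT P) := by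
  rw [Algebra.FormallyEtale.iff_comp_bijective]
  intro B _ _ I hI
  have h := fun i => Algebra.FormallyEtale.comp_bijective A (P i).E I hI
  constructor
  · intro g g' hgg'
    apply hom_ext
    intro i
    apply (h i).1
    show (Ideal.Quotient.mkₐ A I).comp (g.comp (inc P i)) =
      (Ideal.Quotient.mkₐ A I).comp (g'.comp (inc P i))
    rw [← AlgHom.comp_assoc, ← AlgHom.comp_assoc]
    exact congrArg (fun φ => φ.comp (inc P i)) hgg'
  · intro f
    choose fi hfi using fun i => (h i).2 (f.comp (inc P i))
    refine ⟨lift fi, ?_⟩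
    apply hom_ext
    intro i
    rw [AlgHom.comp_assoc, lift_inc]
    exact hfi i

theorem fg_J_of_finitePresentation (s : Pres A) [Algebra.FinitePresentation A s.E] : s.J.FG := by
  have := Algebra.FinitePresentation.ker_fG_of_surjective (Ideal.Quotient.mkₐ A s.J)
    (Ideal.Quotient.mkₐ_surjective A s.J)
  have h2 : RingHom.ker (Ideal.Quotient.mkₐ A s.J).toRingHom = s.J := Ideal.mk_ker
  rwa [h2] at this

theorem finitePresentation_PT [Finite ι] (h : ∀ i, (P i).J.FG) :
    Algebra.FinitePresentation A (PT P) := by
  apply Algebra.FinitePresentation.quotient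
  exact Submodule.fg_iSup _ (fun i => (h i).map _)

theorem etale_PT [Finite ι] [∀ i, Algebra.Etale A (P i).E] : Algebra.Etale A (PT P) where
  formallyEtale := formallyEtale_PT P
  finitePresentation := finitePresentation_PT P (fun i => fg_J_of_finitePresentation (P i))

end etale

end Groth.Agent.R2.H3.BigTensor
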