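import Mathlib

/-!
# Spectra of colimits of rings and of tensor products (helper3)

`mem_range_comap_tensor`, `map_vanishingIdeal_eq_top_iff`, `exists_map_eq_top`, `exists_forall_comap_mem`.
-/

set_option autoImplicit false
open CategoryTheory CategoryTheory.Limits AlgebraicGeometry TensorProduct
universe u

namespace Groth.Agent.R2.H3.ColimSpec

/-- a prime of `T` whose contraction lies in the image of `Spec S` lifts to `T ⊗ S` -/
theorem mem_range_comap_tensor {R T S : Type u} [CommRing R] [CommRing T] [CommRing S]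
    [Algebra R T] [Algebra R S] (p : PrimeSpectrum T)
    (h : PrimeSpectrum.comap (algebraMap R T) p ∈ Set.range (PrimeSpectrum.comap (algebraMap R S))) :
    p ∈ Set.range (PrimeSpectrum.comap (algebraMap T (T ⊗[R] S))) := by
  obtain ⟨q, hq⟩ := h
  let f : Spec (CommRingCat.of T) ⟶ Spec (CommRingCat.of R) :=
    Spec.map (CommRingCat.ofHom (algebraMap R T))
  let g : Spec (CommRingCat.of S) ⟶ Spec (CommRingCat.of R) :=
    Spec.map (CommRingCat.ofHom (algebraMap R S))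
  obtain ⟨z, hz1, hz2⟩ := Scheme.Pullback.exists_preimage_pullback (f := f) (g := g) p q hq.symm
  refine ⟨(pullbackSpecIso R T S).hom z, ?_⟩
  have := congr($(pullbackSpecIso_hom_fst' R T S) z)
  rw [← hz1, ← this]
  rfl

/-- the extension of the ideal of the complement of an open `U` is the unit ideal iff the whole spectrum maps
into `U` -/
theorem map_vanishingIdeal_eq_top_iff {R₀ R : Type*} [CommRing R₀] [CommRing R] (φ : R₀ →+* R)
    {U : Set (PrimeSpectrum R₀)} (hU : IsOpen U) :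
    (PrimeSpectrum.vanishingIdeal Uᶜ).map φ = ⊤ ↔ ∀ q : PrimeSpectrum R, PrimeSpectrum.comap φ q ∈ U := by
  have hz : PrimeSpectrum.zeroLocus (PrimeSpectrum.vanishingIdeal Uᶜ : Set R₀) = Uᶜ := by
    rw [PrimeSpectrum.zeroLocus_vanishingIdeal_eq_closure, hU.isClosed_compl.closure_eq]
  constructor
  · intro h q
    by_contra hq
    have h1 : PrimeSpectrum.comap φ q ∈
        PrimeSpectrum.zeroLocus (PrimeSpectrum.vanishingIdeal Uᶜ : Set R₀) := by
      rw [hz]; exact hq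
    rw [PrimeSpectrum.mem_zeroLocus] at h1
    have h2 : (PrimeSpectrum.vanishingIdeal Uᶜ).map φ ≤ q.asIdeal := Ideal.map_le_iff_le_comap.mpr h1
    rw [h] at h2
    exact q.isPrime.ne_top (top_le_iff.mp h2)
  · intro h
    by_contra hne
    obtain ⟨m, hm, hle⟩ := Ideal.exists_le_maximal _ hne
    have h1 := h ⟨m, hm.isPrime⟩
    have h2 : PrimeSpectrum.comap φ ⟨m, hm.isPrime⟩ ∈ Uᶜ := by
      rw [← hz, PrimeSpectrum.mem_zeroLocus]
      exact Ideal.map_le_iff_le_comap.mp hle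
    exact h2 h1

section colim

variable {ι : Type*} [Preorder ι] [IsDirectedOrder ι] [Nonempty ι] {G : ι → Type*}
  [∀ i, CommRing (G i)] (f' : ∀ i j, i ≤ j → G i →+* G j) [DirectedSystem G fun i j h => f' i j h]
  {R₀ : Type*} [CommRing R₀]

omit [IsDirectedOrder ι] [Nonempty ι] in
theorem comp_comp (n m m' : ι) (h1 : n ≤ m) (h2 : m ≤ m') (ψ : R₀ →+* G n) :
    (f' m m' h2).comp ((f' n m h1).comp ψ) = (f' n m' (h1.trans h2)).comp ψ := by
  ext x
  exact DirectedSystem.map_map (f := fun i j h => f' i j h) h1 h2 (ψ x)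

/-- an ideal generating the unit ideal in the colimit does so at a finite stage -/
theorem exists_map_eq_top (I : Ideal R₀) (n : ι) (ψ : R₀ →+* G n)
    (h : I.map ((Ring.DirectLimit.of G (fun i j h => f' i j h) n).comp ψ) = ⊤) :
    ∃ m, ∃ hm : n ≤ m, I.map ((f' n m hm).comp ψ) = ⊤ := by
  have transport : ∀ (m m' : ι) (h1 : n ≤ m) (h2 : m ≤ m') (y : G m),
      y ∈ I.map ((f' n m h1).comp ψ) → f' m m' h2 y ∈ I.map ((f' n m' (h1.trans h2)).comp ψ) := by
    intro m m' h1 h2 y hy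
    have := Ideal.mem_map_of_mem (f' m m' h2) hy
    rwa [Ideal.map_map, comp_comp] at this
  have key : ∀ x ∈ I.map ((Ring.DirectLimit.of G (fun i j h => f' i j h) n).comp ψ),
      ∃ m, ∃ hm : n ≤ m, ∃ y ∈ I.map ((f' n m hm).comp ψ),
        Ring.DirectLimit.of G (fun i j h => f' i j h) m y = x := by
    intro x hx
    refine Submodule.span_induction ?_ ?_ ?_ ?_ hx
    · rintro _ ⟨a, ha, rfl⟩
      refine ⟨n, le_rfl, (f' n n le_rfl) (ψ a), Ideal.mem_map_of_mem _ ha, ?_⟩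
      rw [Ring.DirectLimit.of_f]
      rfl
    · exact ⟨n, le_rfl, 0, zero_mem _, map_zero _⟩
    · rintro x₁ x₂ - - ⟨m₁, h₁, y₁, hy₁, rfl⟩ ⟨m₂, h₂, y₂, hy₂, rfl⟩
      obtain ⟨m, hm₁, hm₂⟩ := exists_ge_ge m₁ m₂
      refine ⟨m, h₁.trans hm₁, f' m₁ m hm₁ y₁ + f' m₂ m hm₂ y₂,
        add_mem (transport _ _ h₁ hm₁ _ hy₁) (transport _ _ h₂ hm₂ _ hy₂), ?_⟩
      rw [map_add, Ring.DirectLimit.of_f, Ring.DirectLimit.of_f]
    · rintro c x₁ - ⟨m₁, h₁, y₁, hy₁, rfl⟩
      obtain ⟨k, g, rfl⟩ := Ring.DirectLimit.exists_of c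
      obtain ⟨m, hm₁, hm₂⟩ := exists_ge_ge m₁ k
      refine ⟨m, h₁.trans hm₁, f' k m hm₂ g * f' m₁ m hm₁ y₁,
        Ideal.mul_mem_left _ _ (transport _ _ h₁ hm₁ _ hy₁), ?_⟩
      rw [map_mul, Ring.DirectLimit.of_f, Ring.DirectLimit.of_f, smul_eq_mul]
  obtain ⟨m, hm, y, hy, hy1⟩ := key 1 (h ▸ Submodule.mem_top)
  have h0 : Ring.DirectLimit.of G (fun i j h => f' i j h) m (y - 1) = 0 := by
    rw [map_sub, hy1, map_one, sub_self]
  obtain ⟨m', hm', hz⟩ := Ring.DirectLimit.of.zero_exact h0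
  refine ⟨m', hm.trans hm', ?_⟩
  rw [Ideal.eq_top_iff_one]
  have := transport m m' hm hm' y hy
  rw [map_sub, map_one, sub_eq_zero] at hz
  rwa [hz] at this

/-- if the spectrum of the colimit maps into an open, so does the spectrum of a finite stage -/
theorem exists_forall_comap_mem {U : Set (PrimeSpectrum R₀)} (hU : IsOpen U) (n : ι) (ψ : R₀ →+* G n)
    (h : ∀ q : PrimeSpectrum (Ring.DirectLimit G (fun i j h => f' i j h)),
      PrimeSpectrum.comap ((Ring.DirectLimit.of G (fun i j h => f' i j h) n).comp ψ) q ∈ U) :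
    ∃ m, ∃ hm : n ≤ m, ∀ q : PrimeSpectrum (G m), PrimeSpectrum.comap ((f' n m hm).comp ψ) q ∈ U := by
  rw [← map_vanishingIdeal_eq_top_iff _ hU] at h
  obtain ⟨m, hm, h'⟩ := exists_map_eq_top f' _ n ψ h
  exact ⟨m, hm, (map_vanishingIdeal_eq_top_iff _ hU).mp h'⟩

end colim

end Groth.Agent.R2.H3.ColimSpec
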