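import Mathlib
import Groth.Agent.Lib.Helper14WEField
import Groth.Agent.Lib.Helper10WEtaleSch
import Groth.Agent.Lib.Helper9ProEt

/-!
# Lifting geometric points along weakly étale coverings (helper3)

* `exists_algHom_of_weaklyEtale_of_isSepClosed`: a nonzero weakly étale algebra over a separably closed
  field has a rational point.
* `exists_section_of_weaklyEtale`: a nonempty scheme weakly étale over `Spec k` (`k` separably closed)
  has a section.
* `exists_lift_of_weaklyEtale`: geometric points lift along weakly étale morphisms hitting their image.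
-/

set_option autoImplicit false
set_option linter.style.haveILetI false
open CategoryTheory CategoryTheory.Limits AlgebraicGeometry Opposite
open Polynomial
universe u

namespace Groth.Agent.R2.H3.GeomLift

open Groth.Agent.Lib.Helper14.WEField

theorem exists_algHom_of_weaklyEtale_of_isSepClosed (k B : Type u) [Field k] [IsSepClosed k]
    [CommRing B] [Nontrivial B] [Algebra k B] [Algebra.WeaklyEtale k B] : Nonempty (B →ₐ[k] k) := by
  obtain ⟨m, hm⟩ := Ideal.exists_maximal B
  letI : Field (B ⧸ m) := Ideal.Quotient.field m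
  have hB : IsSepAlg k B := (weaklyEtale_iff_isSepAlg k B).mp inferInstance
  have hL : IsSepAlg k (B ⧸ m) :=
    hB.of_surjective (Ideal.Quotient.mkₐ k m) Ideal.Quotient.mk_surjective
  haveI : Algebra.IsSeparable k (B ⧸ m) := by
    refine ⟨fun x => ?_⟩
    obtain ⟨f, hf, hx⟩ := hL x
    exact hf.of_dvd (minpoly.dvd k x hx)
  have hbij := IsSepClosed.algebraMap_bijective k (B ⧸ m)
  let e : k ≃ₐ[k] (B ⧸ m) := AlgEquiv.ofBijective (Algebra.ofId k (B ⧸ m)) hbij
  exact ⟨e.symm.toAlgHom.comp (Ideal.Quotient.mkₐ k m)⟩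

theorem exists_section_of_weaklyEtale {k : Type u} [Field k] [IsSepClosed k] {W : Scheme.{u}}
    [Nonempty W] (p : W ⟶ Spec (CommRingCat.of k)) [WeaklyEtale p] :
    ∃ σ : Spec (CommRingCat.of k) ⟶ W, σ ≫ p = 𝟙 _ := by
  obtain ⟨w⟩ := ‹Nonempty W›
  obtain ⟨W₀, hW₀, hw, -⟩ := exists_isAffineOpen_mem_and_subset (TopologicalSpace.Opens.mem_top w)
  obtain ⟨φ, hφ⟩ : ∃ φ : CommRingCat.of k ⟶ Γ(W, W₀), Spec.map φ = hW₀.fromSpec ≫ p :=
    ⟨Spec.preimage _, Spec.map_preimage _⟩
  have hwe : WeaklyEtale (Spec.map φ) := by rw [hφ]; infer_instance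
  rw [Groth.Agent.Lib.Helper10.WEtaleSch.specMap_iff] at hwe
  letI := φ.hom.toAlgebra
  haveI : Nontrivial Γ(W, W₀) :=
    PrimeSpectrum.nonempty_iff_nontrivial.mp ⟨hW₀.primeIdealOf ⟨w, hw⟩⟩
  obtain ⟨ρ⟩ := exists_algHom_of_weaklyEtale_of_isSepClosed k Γ(W, W₀)
  refine ⟨Spec.map (CommRingCat.ofHom ρ.toRingHom) ≫ hW₀.fromSpec, ?_⟩
  rw [Category.assoc, ← hφ, ← Spec.map_comp]
  have : φ ≫ CommRingCat.ofHom ρ.toRingHom = 𝟙 _ := by
    ext x
    exact ρ.commutes x
  rw [this, Spec.map_id]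

/-- Geometric points lift along weakly étale morphisms whose image contains the image point. -/
theorem exists_lift_of_weaklyEtale {k : Type u} [Field k] [IsSepClosed k] {V U : Scheme.{u}}
    (g : V ⟶ U) [WeaklyEtale g] (ξ : Spec (CommRingCat.of k) ⟶ U)
    (h : ∃ (y : V) (t : Spec (CommRingCat.of k)), g.base y = ξ.base t) :
    ∃ ξ' : Spec (CommRingCat.of k) ⟶ V, ξ' ≫ g = ξ := by
  obtain ⟨y, t, hyt⟩ := h
  obtain ⟨z, -, -⟩ := Scheme.Pullback.exists_preimage_pullback y t hyt
  haveI : Nonempty ↥(pullback g ξ) := ⟨z⟩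
  obtain ⟨σ, hσ⟩ := exists_section_of_weaklyEtale (pullback.snd g ξ)
  refine ⟨σ ≫ pullback.fst g ξ, ?_⟩
  rw [Category.assoc, pullback.condition, ← Category.assoc, hσ, Category.id_comp]

end Groth.Agent.R2.H3.GeomLift
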