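import Mathlib
import Groth.Prelude.Def_ProEtW
import Groth.Agent.S7289

/-!
# Ind-étale algebras from a universal property (helper3)

`isIndEtale_of_universal`: if `B` is the colimit (expressed by the universal property for `A`-algebra maps) of a
filtered system of ind-étale `A`-algebras, then `B` is ind-étale over `A`.
-/

set_option autoImplicit false
set_option linter.style.haveILetI false
open CategoryTheory CategoryTheory.Limits
universe u

namespace Groth.Agent.R2.H3.IndEtUniv

theorem isIndEtale_of_universal {A B : Type u} [CommRing A] [CommRing B] [Algebra A B]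
    {J : Type u} [SmallCategory J] [IsFiltered J]
    (R : J → Type u) [∀ j, CommRing (R j)] [∀ j, Algebra A (R j)]
    (hR : ∀ j, EtPBC.IsIndEtale A (R j))
    (t : ∀ {j k : J}, (j ⟶ k) → (R j →ₐ[A] R k))
    (t_id : ∀ j, t (𝟙 j) = AlgHom.id A (R j))
    (t_comp : ∀ {j k l : J} (f : j ⟶ k) (g : k ⟶ l), t (f ≫ g) = (t g).comp (t f))
    (ι : ∀ j, R j →ₐ[A] B)
    (compat : ∀ {j k : J} (g : j ⟶ k), (ι k).comp (t g) = ι j)
    (univ : ∀ (S : Type u) [CommRing S] [Algebra A S] (g : ∀ j, R j →ₐ[A] S),
      (∀ {j k : J} (h : j ⟶ k), (g k).comp (t h) = g j) →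
      ∃! φ : B →ₐ[A] S, ∀ j, φ.comp (ι j) = g j) :
    EtPBC.IsIndEtale A B := by
  letI instR : ∀ j, Algebra (CommRingCat.of A) (R j) := fun j => inferInstanceAs (Algebra A (R j))
  letI instB : Algebra (CommRingCat.of A) B := inferInstanceAs (Algebra A B)
  let D : J ⥤ Under (CommRingCat.of A) :=
    { obj := fun j => CommRingCat.mkUnder (CommRingCat.of A) (R j)
      map := fun {j k} g => AlgHom.toUnder (R := CommRingCat.of A) (t g)
      map_id := fun j => by
        rw [t_id]
        rfl
      map_comp := fun {j k l} f g => by
        rw [t_comp]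
        rfl }
  let c : Cocone D :=
    { pt := CommRingCat.mkUnder (CommRingCat.of A) B
      ι :=
        { app := fun j => AlgHom.toUnder (R := CommRingCat.of A) (ι j)
          naturality := fun j k g => by
            apply CommRingCat.mkUnder_ext
            intro x
            exact congr($(compat g) x) } }
  have hc : IsColimit c := by
    apply IsColimit.ofExistsUnique
    intro s
    letI : Algebra A s.pt.right := s.pt.hom.hom.toAlgebra
    let g : ∀ j, R j →ₐ[A] s.pt.right := fun j =>
      { toRingHom := (s.ι.app j).right.hom
        commutes' := fun a => congr($(Under.w (s.ι.app j)).hom a) }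
    have hg : ∀ {j k : J} (h : j ⟶ k), (g k).comp (t h) = g j := by
      intro j k h
      apply AlgHom.ext
      intro x
      have := s.w h
      exact congr($(this).right.hom x)
    obtain ⟨φ, hφ, hφu⟩ := univ s.pt.right g hg
    refine ⟨Under.homMk (CommRingCat.ofHom φ.toRingHom) ?_, ?_, ?_⟩
    · ext a
      exact φ.commutes a
    · intro j
      apply CommRingCat.mkUnder_ext
      intro x
      exact congr($(hφ j) x)
    · intro d hd
      let δ : B →ₐ[A] s.pt.right :=
        { toRingHom := d.right.hom
          commutes' := fun a => congr($(Under.w d).hom a) }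
      have : δ = φ := by
        apply hφu
        intro j
        apply AlgHom.ext
        intro x
        exact congr($(hd j).right.hom x)
      apply CommRingCat.mkUnder_ext
      intro x
      exact congr($this x)
  refine Groth.Agent.S7289.result A B D (fun j => ?_) c hc (Iso.refl _)
  show @EtPBC.IsIndEtale A (R j) _ _ (RingHom.toAlgebra (algebraMap A (R j)))
  convert hR j
  exact Algebra.algebra_ext _ _ (fun r => rfl)

end Groth.Agent.R2.H3.IndEtUniv
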