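import Mathlib
import Groth.Prelude.Def_ProEtW
import Groth.Agent.R2.H3BigTensor
import Groth.Agent.R2.H3IndEtUniv
import Groth.Agent.R2.H3GeomLift
import Groth.Agent.Lib.Helper3IndEtComp
import Groth.Agent.S0736

/-!
# The tensor product of all faithfully flat étale algebras (helper3)

`TA A` is the coproduct of (representatives of) all faithfully flat étale `A`-algebras. It is ind-étale and
faithfully flat over `A` and receives an `A`-algebra map from every faithfully flat étale `A`-algebra.
-/

set_option autoImplicit false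
set_option linter.style.haveILetI false
open CategoryTheory TensorProduct
open Groth.Agent.R2.H3.BigTensor
universe u

namespace Groth.Agent.R2.H3.EtRetr

variable (A : Type u) [CommRing A]

/-- presented faithfully flat étale `A`-algebras -/
structure FFEt where
  pres : Pres A
  etale : Algebra.Etale A pres.E
  ff : Module.FaithfullyFlat A pres.E

instance (s : FFEt A) : Algebra.Etale A s.pres.E := s.etale
instance (s : FFEt A) : Module.FaithfullyFlat A s.pres.E := s.ff

/-- the tensor product of all faithfully flat étale algebras -/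
abbrev TA : Type u := PT (fun s : FFEt A => s.pres)

/-- the finite sub-tensor products -/
abbrev TF (F : Finset (FFEt A)) : Type u := PT (fun s : {x // x ∈ F} => s.1.pres)

instance (F : Finset (FFEt A)) : Algebra.Etale A (TF A F) :=
  etale_PT (fun s : {x // x ∈ F} => s.1.pres)

/-- transition maps -/
noncomputable def tF {F F' : Finset (FFEt A)} (h : F ≤ F') : TF A F →ₐ[A] TF A F' :=
  lift (fun s => inc (fun s : {x // x ∈ F'} => s.1.pres) ⟨s.1, h s.2⟩)

/-- the maps to the big tensor product -/
noncomputable def ιF (F : Finset (FFEt A)) : TF A F →ₐ[A] TA A :=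
  lift (fun s => inc (fun s : FFEt A => s.pres) s.1)

theorem isIndEtale_TA : EtPBC.IsIndEtale A (TA A) := by
  haveI : IsFiltered (Finset (FFEt A)) := isFiltered_of_directed_le_nonempty _
  refine Groth.Agent.R2.H3.IndEtUniv.isIndEtale_of_universal (J := Finset (FFEt A))
    (fun F => TF A F) (fun F => Groth.Agent.Lib.Helper3.IndEt.isIndEtale_of_etale A (TF A F))
    (fun {F F'} h => tF A (leOfHom h)) ?_ ?_ (fun F => ιF A F) ?_ ?_
  · intro F
    apply hom_ext
    intro s
    rw [tF, lift_inc]
    rfl
  · intro F F' F'' f g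
    apply hom_ext
    intro s
    rw [tF, lift_inc, AlgHom.comp_assoc]
    conv_rhs => rw [tF, tF, lift_inc, lift_inc]
  · intro F F' g
    apply hom_ext
    intro s
    rw [AlgHom.comp_assoc, tF, lift_inc, ιF, lift_inc, ιF, lift_inc]
  · intro S _ _ g hg
    have hkey : ∀ (F : Finset (FFEt A)) (s : {x // x ∈ F}),
        (g F).comp (inc (fun s : {x // x ∈ F} => s.1.pres) s) =
          (g {s.1}).comp (inc (fun s : {x // x ∈ ({s.1} : Finset (FFEt A))} => s.1.pres)
            ⟨s.1, Finset.mem_singleton_self _⟩) := by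
      intro F s
      have hle : ({s.1} : Finset (FFEt A)) ≤ F := Finset.singleton_subset_iff.mpr s.2
      rw [← hg (homOfLE hle), AlgHom.comp_assoc, tF, lift_inc]
    refine ⟨lift (fun s => (g {s}).comp (inc (fun s' : {x // x ∈ ({s} : Finset (FFEt A))} => s'.1.pres)
      ⟨s, Finset.mem_singleton_self _⟩)), fun F => ?_, fun φ hφ => ?_⟩
    · apply hom_ext
      intro s
      rw [AlgHom.comp_assoc, ιF, lift_inc, lift_inc, hkey F s]
    · apply hom_ext
      intro s
      rw [lift_inc, ← hφ {s}, AlgHom.comp_assoc, ιF, lift_inc]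

/-- every faithfully flat étale algebra maps to `TA A` -/
theorem nonempty_algHom_TA (E : Type u) [CommRing E] [Algebra A E] [Algebra.Etale A E]
    [Module.FaithfullyFlat A E] : Nonempty (E →ₐ[A] TA A) := by
  obtain ⟨n, f, hf, -⟩ := Algebra.FinitePresentation.out (R := A) (A := E)
  let e : (MvPolynomial (Fin n) A ⧸ RingHom.ker f.toRingHom) ≃ₐ[A] E :=
    Ideal.quotientKerAlgEquivOfSurjective hf
  let s : FFEt A :=
    { pres := ⟨n, RingHom.ker f.toRingHom⟩
      etale := Algebra.Etale.of_equiv e.symm
      ff := Module.FaithfullyFlat.of_linearEquiv A E e.toLinearEquiv }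
  exact ⟨(inc (fun s : FFEt A => s.pres) s).comp (e.symm : E →ₐ[A] _)⟩

/-- a geometric point of `TA A` over a separably closed field -/
theorem nonempty_algHom_TA_field (k : Type u) [Field k] [IsSepClosed k] [Algebra A k] :
    Nonempty (TA A →ₐ[A] k) := by
  have h : ∀ s : FFEt A, Nonempty (s.pres.E →ₐ[A] k) := by
    intro s
    obtain ⟨ρ⟩ := Groth.Agent.R2.H3.GeomLift.exists_algHom_of_weaklyEtale_of_isSepClosed k
      (k ⊗[A] s.pres.E)
    exact ⟨(ρ.restrictScalars A).comp Algebra.TensorProduct.includeRight⟩
  exact ⟨lift (fun s => (h s).some)⟩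

theorem faithfullyFlat_TA : Module.FaithfullyFlat A (TA A) := by
  haveI : Algebra.WeaklyEtale A (TA A) := Groth.Agent.S0736.result A (TA A) (isIndEtale_TA A)
  refine Module.FaithfullyFlat.of_comap_surjective fun p => ?_
  obtain ⟨φ⟩ := nonempty_algHom_TA_field A (AlgebraicClosure p.asIdeal.ResidueField)
  refine ⟨⟨RingHom.ker φ.toRingHom, RingHom.ker_isPrime _⟩, ?_⟩
  ext a
  show φ (algebraMap A (TA A) a) = 0 ↔ a ∈ p.asIdeal
  rw [φ.commutes, IsScalarTower.algebraMap_apply A p.asIdeal.ResidueField
    (AlgebraicClosure p.asIdeal.ResidueField), map_eq_zero_iff _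
    (algebraMap p.asIdeal.ResidueField (AlgebraicClosure p.asIdeal.ResidueField)).injective,
    Ideal.algebraMap_residueField_eq_zero]

end Groth.Agent.R2.H3.EtRetr
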