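import Mathlib
import Groth.Agent.R2.H3EtRetr
import Groth.Agent.R2.H3ColimSpec
import Groth.Agent.S0734
import Groth.Agent.Lib.Helper3IndEtFP

/-!
# The tower `A → T(A) → T(T(A)) → ⋯` and its colimit (helper3)

`C A` is the colimit of the tower obtained by iterating `TA`; it is ind-étale and faithfully flat over `A`
(`isIndEtale_C`, `faithfullyFlat_C`) and every faithfully flat étale `C A`-algebra has a retraction
(`hasEtaleRetractions_C`).
-/

set_option autoImplicit false
set_option linter.style.haveILetI false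
open CategoryTheory TensorProduct
open Groth.Agent.R2.H3.BigTensor
universe u

namespace Groth.Agent.R2.H3.EtRetr

variable (A : Type u) [CommRing A]

/-- a stage of the tower -/
structure Stage where
  R : Type u
  [cr : CommRing R]
  [alg : Algebra A R]
  indEt : EtPBC.IsIndEtale A R
  ff : Module.FaithfullyFlat A R

attribute [instance] Stage.cr Stage.alg

variable {A} in
/-- the next stage -/
noncomputable def next (s : Stage A) : Stage A where
  R := TA s.R
  indEt := Groth.Agent.S0734.result A s.R (TA s.R) s.indEt (isIndEtale_TA s.R)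
  ff := by
    haveI := s.ff
    haveI := faithfullyFlat_TA s.R
    exact Module.FaithfullyFlat.trans A s.R (TA s.R)

/-- the tower -/
noncomputable def stage : ℕ → Stage A
  | 0 => ⟨A, Groth.Agent.Lib.Helper3.IndEt.isIndEtale_of_etale A A, inferInstance⟩
  | n + 1 => next (stage n)

/-- the rings of the tower -/
abbrev G (n : ℕ) : Type u := (stage A n).R

/-- the step maps -/
noncomputable def step (n : ℕ) : G A n →ₐ[A] G A (n + 1) :=
  IsScalarTower.toAlgHom A (G A n) (TA (G A n))

theorem step_apply (n : ℕ) (x : G A n) : step A n x = algebraMap (G A n) (TA (G A n)) x := rfl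

/-- the transition maps -/
noncomputable def trans : ∀ i j, i ≤ j → (G A i →ₐ[A] G A j) := fun i _ h =>
  Nat.leRecOn h (fun {k} φ => (step A k).comp φ) (AlgHom.id A (G A i))

theorem trans_self (i : ℕ) : trans A i i le_rfl = AlgHom.id A _ := Nat.leRecOn_self _

theorem trans_succ (i j : ℕ) (h : i ≤ j) :
    trans A i (j + 1) (Nat.le_succ_of_le h) = (step A j).comp (trans A i j h) :=
  Nat.leRecOn_succ h _

theorem trans_trans (i j k : ℕ) (hij : i ≤ j) (hjk : j ≤ k) :
    (trans A j k hjk).comp (trans A i j hij) = trans A i k (hij.trans hjk) := by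
  induction k, hjk using Nat.le_induction with
  | base => rw [trans_self, AlgHom.id_comp]
  | succ k hjk ih =>
    rw [trans_succ A j k hjk, AlgHom.comp_assoc, ih, ← trans_succ]

/-- the transition maps as ring homomorphisms -/
noncomputable def transR (i j : ℕ) (h : i ≤ j) : G A i →+* G A j := (trans A i j h).toRingHom

instance : DirectedSystem (G A) fun i j h => transR A i j h where
  map_self i x := by
    show trans A i i le_rfl x = x
    rw [trans_self]; rfl
  map_map k j i hij hjk x := congr($(trans_trans A _ _ _ hij hjk) x)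

/-- the colimit of the tower -/
abbrev C : Type u := Ring.DirectLimit (G A) fun i j h => transR A i j h

/-- the maps to the colimit -/
noncomputable abbrev ofC (n : ℕ) : G A n →+* C A := Ring.DirectLimit.of (G A) (fun i j h => transR A i j h) n

noncomputable instance : Algebra A (C A) := ((ofC A 0).comp (algebraMap A (G A 0))).toAlgebra

theorem ofC_algebraMap (n : ℕ) (a : A) : ofC A n (algebraMap A (G A n) a) = algebraMap A (C A) a := by
  show _ = ofC A 0 (algebraMap A (G A 0) a)
  rw [← Ring.DirectLimit.of_f (f := fun i j h => transR A i j h) (Nat.zero_le n)]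
  show _ = ofC A n (trans A 0 n (Nat.zero_le n) (algebraMap A (G A 0) a))
  rw [AlgHom.commutes]

/-- the maps to the colimit as algebra maps -/
noncomputable def ofA (n : ℕ) : G A n →ₐ[A] C A :=
  { ofC A n with commutes' := ofC_algebraMap A n }


theorem ofA_trans (i j : ℕ) (h : i ≤ j) (x : G A i) : ofA A j (trans A i j h x) = ofA A i x :=
  Ring.DirectLimit.of_f (f := fun i j h => transR A i j h) h x

theorem ofC_transR (i j : ℕ) (h : i ≤ j) (x : G A i) : ofC A j (transR A i j h x) = ofC A i x :=
  Ring.DirectLimit.of_f (f := fun i j h => transR A i j h) h x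

theorem ofC_step (m : ℕ) (x : G A m) : ofC A (m + 1) (step A m x) = ofC A m x := by
  rw [← ofC_transR A m (m + 1) (Nat.le_succ m)]
  show _ = ofC A (m + 1) (trans A m (m + 1) (Nat.le_succ_of_le le_rfl) x)
  rw [trans_succ A m m le_rfl, trans_self]
  rfl

theorem exists_ofA (x : C A) : ∃ n y, ofA A n y = x :=
  Ring.DirectLimit.exists_of x

theorem exists_trans_eq_zero (i : ℕ) (y : G A i) (h : ofA A i y = 0) :
    ∃ j, ∃ hij : i ≤ j, trans A i j hij y = 0 :=
  Ring.DirectLimit.of.zero_exact (f' := fun i j h => transR A i j h) h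

/-- maps from finitely presented algebras to the colimit factor through a stage -/
theorem exists_factor_stage (P : Type*) [CommRing P] [Algebra A P]
    [Algebra.FinitePresentation A P]
    (ψ : P →ₐ[A] C A) : ∃ n, ∃ ψn : P →ₐ[A] G A n, (ofA A n).comp ψn = ψ :=
  Groth.Agent.Lib.Helper3.IndEt.exists_factor_of_directed (K := ℕ) (G A)
    (fun i j h => trans A i j h) (fun i => ofA A i) (ofA_trans A)
    (fun α β γ h1 h2 x => congr($(trans_trans A α β γ h1 h2) x))
    (exists_ofA A) (exists_trans_eq_zero A) ψ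

/-- ring maps from finitely presented rings to the colimit factor through a stage -/
theorem exists_factor_stage_int (P : Type*) [CommRing P] [Algebra.FinitePresentation ℤ P]
    (ψ : P →+* C A) : ∃ n, ∃ ψn : P →+* G A n, (ofC A n).comp ψn = ψ := by
  obtain ⟨n, ψn, h⟩ := Groth.Agent.Lib.Helper3.IndEt.exists_factor_of_directed (R := ℤ) (K := ℕ) (G A)
    (fun i j h => (transR A i j h).toIntAlgHom) (fun i => (ofC A i).toIntAlgHom) (ofA_trans A)
    (fun α β γ h1 h2 x => congr($(trans_trans A α β γ h1 h2) x))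
    (exists_ofA A) (exists_trans_eq_zero A) ψ.toIntAlgHom
  exact ⟨n, ψn.toRingHom, RingHom.ext fun x => congr($h x)⟩

theorem isIndEtale_C : EtPBC.IsIndEtale A (C A) := by
  apply Groth.Agent.Lib.Helper3.IndEt.isIndEtale_of_factor
  intro P _ _ _ ψ
  obtain ⟨n, ψn, hψ⟩ := exists_factor_stage A P ψ
  obtain ⟨E, _, _, hE, f, g, hfg⟩ :=
    Groth.Agent.Lib.Helper3.IndEt.factor_of_isIndEtale (stage A n).indEt P ψn
  exact ⟨E, _, _, hE, f, (ofA A n).comp g, by rw [AlgHom.comp_assoc, hfg, hψ]⟩

theorem faithfullyFlat_C : Module.FaithfullyFlat A (C A) := by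
  haveI : Algebra.WeaklyEtale A (C A) := Groth.Agent.S0736.result A (C A) (isIndEtale_C A)
  rw [Module.FaithfullyFlat.iff_flat_and_ideal_smul_eq_top]
  refine ⟨inferInstance, fun I hI => ?_⟩
  rw [Ideal.smul_top_eq_map] at hI
  have hI' : I.map (algebraMap A (C A)) = ⊤ := by
    rw [eq_top_iff]
    intro x _
    have : x ∈ (I.map (algebraMap A (C A))).restrictScalars A := by rw [hI]; trivial
    exact this
  obtain ⟨m, hm, h⟩ := Groth.Agent.R2.H3.ColimSpec.exists_map_eq_top
    (fun i j h => transR A i j h) I 0 (algebraMap A (G A 0)) hI'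
  have h2 : (transR A 0 m hm).comp (algebraMap A (G A 0)) = algebraMap A (G A m) := by
    ext a
    exact (trans A 0 m hm).commutes a
  rw [h2] at h
  haveI := (stage A m).ff
  have := (Module.FaithfullyFlat.iff_flat_and_ideal_smul_eq_top A (G A m)).mp inferInstance |>.2 I
  apply this
  rw [Ideal.smul_top_eq_map, h]
  rfl


theorem hasEtaleRetractions_C : ProEtW.HasEtaleRetractions (C A) := by
  intro D _ _ hff het
  obtain ⟨C₀, D₀, _, _, hfg, het₀, ⟨e⟩⟩ := Algebra.Etale.exists_subalgebra_fg ℤ (C A) D
  haveI : Algebra.FiniteType ℤ C₀ := (Subalgebra.fg_iff_finiteType C₀).mp hfg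
  haveI : Algebra.FinitePresentation ℤ C₀ := Algebra.FinitePresentation.of_finiteType.mp inferInstance
  obtain ⟨n, ψ, hψ⟩ := exists_factor_stage_int A C₀ (algebraMap C₀ (C A))
  -- the image of `Spec D₀`
  let U : Set (PrimeSpectrum C₀) := Set.range (PrimeSpectrum.comap (algebraMap C₀ D₀))
  have hU : IsOpen U :=
    (PrimeSpectrum.isOpenMap_comap_of_hasGoingDown_of_finitePresentation (R := C₀) (S := D₀)).isOpen_range
  have hC : ∀ q : PrimeSpectrum (C A), PrimeSpectrum.comap ((ofC A n).comp ψ) q ∈ U := by
    intro q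
    rw [hψ]
    obtain ⟨q', rfl⟩ := PrimeSpectrum.comap_surjective_of_faithfullyFlat (A := C A) (B := D) q
    let θ : D₀ →+* D :=
      (e.symm : C A ⊗[C₀] D₀ →+* D).comp Algebra.TensorProduct.includeRight.toRingHom
    refine ⟨PrimeSpectrum.comap θ q', ?_⟩
    rw [← PrimeSpectrum.comap_comp_apply, ← PrimeSpectrum.comap_comp_apply]
    congr 1
    ext c
    show e.symm (Algebra.TensorProduct.includeRight (algebraMap C₀ D₀ c)) =
      algebraMap (C A) D (algebraMap C₀ (C A) c)
    rw [AlgHom.commutes]
    have h1 : algebraMap C₀ (C A ⊗[C₀] D₀) c =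
        algebraMap (C A) (C A ⊗[C₀] D₀) (algebraMap C₀ (C A) c) := rfl
    exact (congrArg e.symm h1).trans (AlgEquiv.commutes e.symm _)
  obtain ⟨m, hm, hGm⟩ := Groth.Agent.R2.H3.ColimSpec.exists_forall_comap_mem
    (fun i j h => transR A i j h) hU n ψ hC
  -- the algebra structure on `G m` over `C₀`
  letI : Algebra C₀ (G A m) := ((transR A n m hm).comp ψ).toAlgebra
  haveI : Module.FaithfullyFlat (G A m) (G A m ⊗[C₀] D₀) := by
    refine Module.FaithfullyFlat.of_comap_surjective fun p => ?_
    exact Groth.Agent.R2.H3.ColimSpec.mem_range_comap_tensor p (hGm p)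
  obtain ⟨ρ⟩ := nonempty_algHom_TA (G A m) (G A m ⊗[C₀] D₀)
  let g₀ : D₀ →+* C A :=
    (ofC A (m + 1)).comp (ρ.toRingHom.comp Algebra.TensorProduct.includeRight.toRingHom)
  let g : D₀ →ₐ[C₀] C A :=
    { g₀ with
      commutes' := fun c => by
        show ofC A (m + 1) (ρ (Algebra.TensorProduct.includeRight (algebraMap C₀ D₀ c))) =
          algebraMap C₀ (C A) c
        rw [AlgHom.commutes]
        have h1 : algebraMap C₀ (G A m ⊗[C₀] D₀) c =
            algebraMap (G A m) (G A m ⊗[C₀] D₀) (algebraMap C₀ (G A m) c) := rfl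
        have h2 : ρ (algebraMap C₀ (G A m ⊗[C₀] D₀) c) =
            algebraMap (G A m) (TA (G A m)) (algebraMap C₀ (G A m) c) :=
          (congrArg ρ h1).trans (AlgHom.commutes ρ _)
        refine (congrArg (ofC A (m + 1)) h2).trans ?_
        rw [← hψ]
        show ofC A (m + 1) (step A m (transR A n m hm (ψ c))) = ofC A n (ψ c)
        rw [ofC_step, ofC_transR] }
  exact ⟨(Algebra.TensorProduct.lift (AlgHom.id (C A) (C A)) g (fun _ _ => Commute.all _ _)).comp
    e.toAlgHom⟩

end Groth.Agent.R2.H3.EtRetr
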