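import Mathlib
import Groth.Agent.Lib.Helper3HenselA
import Groth.Agent.Lib.Helper3IndEtFP

/-!
# Local sections of étale algebras at primes with strictly henselian local ring (helper3)
-/

set_option autoImplicit false
set_option linter.style.haveILetI false
universe u
open IsLocalRing

namespace Groth.Agent.R2.H3.EtZar

section algebra

variable {A B O : Type u} [CommRing A] [CommRing B] [Algebra A B] [Algebra.Etale A B]
  [CommRing O] [HenselianLocalRing O] [Algebra A O]

/-- If `O` is a strictly henselian local `A`-algebra which is the localization of `A` at `p = q ∩ A`, `B` étale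
over `A`, then there is an `A`-algebra map `B → O` pulling the maximal ideal back to `q`. -/
theorem exists_algHom_comap_eq (q : Ideal B) [q.IsPrime] (p : Ideal A) [p.IsPrime]
    (hpq : q.comap (algebraMap A B) = p) [IsLocalization.AtPrime O p]
    [IsSepClosed (ResidueField O)] :
    ∃ σ : B →ₐ[A] O, (maximalIdeal O).comap σ.toRingHom = q := by
  haveI : q.LiesOver p := ⟨hpq.symm⟩
  letI := Localization.AtPrime.algebraOfLiesOver p q
  -- `κ(p) → κ(O)`
  let res : A →ₐ[A] ResidueField O :=
    (IsScalarTower.toAlgHom A O (ResidueField O)).comp (Algebra.ofId A O)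
  have hres : ∀ a, res a = residue O (algebraMap A O a) := fun a => rfl
  have h1 : p ≤ RingHom.ker res := by
    intro a ha
    rw [RingHom.mem_ker, hres, residue_eq_zero_iff]
    exact (IsLocalization.AtPrime.to_map_mem_maximal_iff O p a).mpr ha
  have h2 : p.primeCompl ≤ (IsUnit.submonoid (ResidueField O)).comap res := by
    intro a ha
    show IsUnit (res a)
    rw [hres]
    exact ((IsLocalization.AtPrime.isUnit_to_map_iff O p a).mpr ha).map _
  let κp : p.ResidueField →ₐ[A] ResidueField O := Ideal.ResidueField.liftₐ p res h1 h2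
  letI : Algebra p.ResidueField (ResidueField O) := κp.toRingHom.toAlgebra
  haveI : IsScalarTower A p.ResidueField (ResidueField O) :=
    IsScalarTower.of_algebraMap_eq (fun a => (κp.commutes a).symm)
  -- separability of `κ(q)/κ(p)`
  haveI : Algebra.IsSeparable p.ResidueField q.ResidueField := inferInstance
  let τ' : q.ResidueField →ₐ[p.ResidueField] ResidueField O := IsSepClosed.lift
  let τ : q.ResidueField →ₐ[A] ResidueField O := τ'.restrictScalars A
  obtain ⟨σ, hσ, -⟩ := Groth.Agent.Lib.Helper3.Hensel.existsUnique_algHom_of_etale (R := A) (S := O) q τ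
  exact ⟨σ, Groth.Agent.Lib.Helper3.Hensel.comap_eq_of_residue q τ.toRingHom σ hσ⟩

open Groth.Agent.Lib.Helper3.IndEt in
/-- the section of `exists_algHom_comap_eq` is defined over a basic open neighbourhood -/
theorem exists_away_algHom (q : Ideal B) [q.IsPrime] (p : Ideal A) [p.IsPrime]
    (hpq : q.comap (algebraMap A B) = p) [IsLocalization.AtPrime O p]
    [IsSepClosed (ResidueField O)] :
    ∃ (f : p.primeCompl) (ψ : B →ₐ[A] Localization.Away (f : A)),
      (maximalIdeal O).comap ((awayTo (R := A) (L := O) p.primeCompl f).comp ψ).toRingHom = q := by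
  obtain ⟨σ, hσ⟩ := exists_algHom_comap_eq (O := O) q p hpq
  obtain ⟨f, ψ, hψ⟩ := exists_factor_localization (R := A) (C := A) (L := O) p.primeCompl σ
  exact ⟨f, ψ, by rw [hψ]; exact hσ⟩

end algebra

end Groth.Agent.R2.H3.EtZar
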