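import Mathlib
import Groth.Prelude.Def_EtZar
import Groth.Agent.R2.H3EtZarA

/-!
# Étale morphisms over schemes with strictly henselian local rings have local sections (helper3)
-/

set_option autoImplicit false
set_option linter.style.haveILetI false
universe u
open CategoryTheory AlgebraicGeometry IsLocalRing TopologicalSpace Opposite

namespace Groth.Agent.R2.H3.EtZar

section scheme

variable {U S : Scheme.{u}} (φ : U ⟶ S) [Etale φ]

theorem exists_local_section
    (hS : ∀ s : S, EtCoh.IsStrictlyHenselianLocalRing (S.presheaf.stalk s)) (u : U) :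
    ∃ (W : S.Opens) (σ : W.toScheme ⟶ U), σ ≫ φ = W.ι ∧ u ∈ Set.range σ := by
  obtain ⟨V, hV, hsV⟩ : ∃ V : S.Opens, IsAffineOpen V ∧ φ u ∈ V := by
    obtain ⟨_, ⟨V, hV, rfl⟩, hsV, -⟩ :=
      S.isBasis_affineOpens.exists_subset_of_mem_open (Set.mem_univ (φ u)) isOpen_univ
    exact ⟨V, hV, hsV⟩
  obtain ⟨U', hU', huU', hU'V⟩ : ∃ U' : U.Opens, IsAffineOpen U' ∧ u ∈ U' ∧ U' ≤ φ ⁻¹ᵁ V := by
    obtain ⟨_, ⟨U', hU', rfl⟩, hu, hle⟩ :=
      U.isBasis_affineOpens.exists_subset_of_mem_open (show u ∈ (φ ⁻¹ᵁ V : Set U) from hsV)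
        (φ ⁻¹ᵁ V).isOpen
    exact ⟨U', hU', hu, hle⟩
  have hρ : (φ.appLE V U' hU'V).hom.Etale :=
    HasRingHomProperty.appLE (P := @Etale) φ inferInstance ⟨V, hV⟩ ⟨U', hU'⟩ hU'V
  letI : Algebra Γ(S, V) Γ(U, U') := (φ.appLE V U' hU'V).hom.toAlgebra
  haveI : Algebra.Etale Γ(S, V) Γ(U, U') := hρ
  let x : V := ⟨φ u, hsV⟩
  let y : U' := ⟨u, huU'⟩
  let p := (hV.primeIdealOf x).asIdeal
  let q := (hU'.primeIdealOf y).asIdeal
  have hpq : q.comap (algebraMap Γ(S, V) Γ(U, U')) = p :=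
    congrArg PrimeSpectrum.asIdeal (IsAffineOpen.comap_primeIdealOf_appLE V hV U' hU' hU'V huU')
  letI : Algebra Γ(S, V) (S.presheaf.stalk x) := S.presheaf.algebra_section_stalk x
  haveI : IsLocalization.AtPrime (S.presheaf.stalk x) p := hV.isLocalization_stalk x
  obtain ⟨hH, hSC⟩ := hS (φ u)
  obtain ⟨f, ψ, hψ⟩ := exists_away_algHom (O := S.presheaf.stalk x) q p hpq
  have hW : IsAffineOpen (S.basicOpen (f : Γ(S, V))) := hV.basicOpen _
  haveI : IsLocalization.Away (f : Γ(S, V)) Γ(S, S.basicOpen (f : Γ(S, V))) :=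
    hV.isLocalization_basicOpen _
  let ε : Localization.Away (f : Γ(S, V)) ≃ₐ[Γ(S, V)] Γ(S, S.basicOpen (f : Γ(S, V))) :=
    IsLocalization.algEquiv (Submonoid.powers (f : Γ(S, V))) _ _
  let ψ' : Γ(U, U') →ₐ[Γ(S, V)] Γ(S, S.basicOpen (f : Γ(S, V))) := ε.toAlgHom.comp ψ
  let σ : (S.basicOpen (f : Γ(S, V))).toScheme ⟶ U :=
    hW.isoSpec.hom ≫ Spec.map (CommRingCat.ofHom ψ'.toRingHom) ≫ hU'.fromSpec
  refine ⟨S.basicOpen (f : Γ(S, V)), σ, ?_, ?_⟩
  · have h1 : φ.appLE V U' hU'V ≫ CommRingCat.ofHom ψ'.toRingHom =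
        S.presheaf.map (homOfLE (S.basicOpen_le (f : Γ(S, V)))).op := by
      ext a
      exact ψ'.commutes a
    show (hW.isoSpec.hom ≫ Spec.map (CommRingCat.ofHom ψ'.toRingHom) ≫ hU'.fromSpec) ≫ φ = _
    rw [Category.assoc, Category.assoc, ← IsAffineOpen.SpecMap_appLE_fromSpec φ hV hU' hU'V,
      ← Spec.map_comp_assoc, h1, IsAffineOpen.map_fromSpec hV hW, IsAffineOpen.isoSpec_hom_fromSpec]
  · have hfu : IsUnit (S.presheaf.germ V (φ u) hsV (f : Γ(S, V))) :=
      (IsLocalization.AtPrime.isUnit_to_map_iff (S.presheaf.stalk x) p (f : Γ(S, V))).mpr f.2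
    have hwW : φ u ∈ S.basicOpen (f : Γ(S, V)) := (S.mem_basicOpen _ _ hsV).mpr hfu
    let w : (S.basicOpen (f : Γ(S, V))) := ⟨φ u, hwW⟩
    refine ⟨w, ?_⟩
    -- the prime of `w`
    have h2 : (hW.primeIdealOf w).comap ψ'.toRingHom = hU'.primeIdealOf y := by
      apply PrimeSpectrum.ext
      show ((hW.primeIdealOf w).asIdeal).comap ψ'.toRingHom = q
      rw [← hψ, hW.primeIdealOf_eq_map_closedPoint w]
      have hkey : (S.presheaf.germ (S.basicOpen (f : Γ(S, V))) (φ u) hwW).hom.comp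
          (ε : Localization.Away (f : Γ(S, V)) →+* Γ(S, S.basicOpen (f : Γ(S, V)))) =
          (Groth.Agent.Lib.Helper3.IndEt.awayTo (R := Γ(S, V)) (L := S.presheaf.stalk x)
            p.primeCompl f).toRingHom := by
        apply IsLocalization.ringHom_ext (Submonoid.powers (f : Γ(S, V)))
        ext a
        simp only [RingHom.comp_apply]
        have h3 : (ε : Localization.Away (f : Γ(S, V)) →+* Γ(S, S.basicOpen (f : Γ(S, V))))
            (algebraMap Γ(S, V) (Localization.Away (f : Γ(S, V))) a) =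
            algebraMap Γ(S, V) Γ(S, S.basicOpen (f : Γ(S, V))) a := ε.commutes a
        rw [h3]
        have h4 : (Groth.Agent.Lib.Helper3.IndEt.awayTo (R := Γ(S, V)) (L := S.presheaf.stalk x)
            p.primeCompl f).toRingHom (algebraMap Γ(S, V) (Localization.Away (f : Γ(S, V))) a) =
            algebraMap Γ(S, V) (S.presheaf.stalk x) a :=
          Groth.Agent.Lib.Helper3.IndEt.awayTo_algebraMap p.primeCompl f a
        rw [h4]
        exact TopCat.Presheaf.germ_res_apply S.presheaf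
          (homOfLE (S.basicOpen_le (f : Γ(S, V)))) (φ u) hwW a
      ext b
      show (S.presheaf.germ (S.basicOpen (f : Γ(S, V))) (φ u) hwW).hom (ε (ψ b)) ∈
          maximalIdeal (S.presheaf.stalk (φ u)) ↔
        Groth.Agent.Lib.Helper3.IndEt.awayTo (R := Γ(S, V)) (L := S.presheaf.stalk x)
            p.primeCompl f (ψ b) ∈ maximalIdeal (S.presheaf.stalk (φ u))
      have := RingHom.congr_fun hkey (ψ b)
      simp only [RingHom.comp_apply] at this
      have h5 : (S.presheaf.germ (S.basicOpen (f : Γ(S, V))) (φ u) hwW).hom (ε (ψ b)) =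
          Groth.Agent.Lib.Helper3.IndEt.awayTo (R := Γ(S, V)) (L := S.presheaf.stalk x)
            p.primeCompl f (ψ b) := this
      rw [h5]
    show (hW.isoSpec.hom ≫ Spec.map (CommRingCat.ofHom ψ'.toRingHom) ≫ hU'.fromSpec) w = u
    rw [Scheme.Hom.comp_apply, Scheme.Hom.comp_apply]
    have h6 : hW.isoSpec.hom w = hW.primeIdealOf w := rfl
    rw [h6]
    have h7 : Spec.map (CommRingCat.ofHom ψ'.toRingHom) (hW.primeIdealOf w) =
        (hW.primeIdealOf w).comap ψ'.toRingHom := rfl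
    rw [h7, h2]
    exact hU'.fromSpec_primeIdealOf y

end scheme

end Groth.Agent.R2.H3.EtZar
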