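import Mathlib
import Groth.Prelude.Def_EtZar
import Groth.Agent.R2.H3EtZarB
import Groth.Agent.Lib.Helper16SmallEtale

/-!
# The Zariski site is a dense subsite of the small étale site when local rings are strictly henselian (helper3)
-/

set_option autoImplicit false
set_option linter.style.haveILetI false
universe u
open CategoryTheory AlgebraicGeometry IsLocalRing TopologicalSpace Opposite Limits

namespace Groth.Agent.R2.H3.EtZar

section dense

variable (S : Scheme.{u})

instance : (EtZar.zarToEt S).Faithful where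
  map_injective := fun _ => Subsingleton.elim _ _

set_option backward.isDefEq.respectTransparency.types false in
theorem hom_left_ι {W W' : S.Opens} (f : (EtZar.zarToEt S).obj W ⟶ (EtZar.zarToEt S).obj W') :
    (f.left : W.toScheme ⟶ W'.toScheme) ≫ W'.ι = W.ι := MorphismProperty.Over.w f

set_option backward.isDefEq.respectTransparency.types false in
theorem le_of_hom {W W' : S.Opens} (f : (EtZar.zarToEt S).obj W ⟶ (EtZar.zarToEt S).obj W') :
    W ≤ W' := by
  have key : ∀ (g : W.toScheme ⟶ W'.toScheme), g ≫ W'.ι = W.ι → W ≤ W' := by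
    intro g hg x hx
    have h2 : (W'.ι) (g ⟨x, hx⟩) = x := by
      rw [← Scheme.Hom.comp_apply, hg]
      rfl
    rw [← h2]
    exact (g ⟨x, hx⟩).2
  exact key _ (hom_left_ι S f)

set_option backward.isDefEq.respectTransparency.types false in
instance : (EtZar.zarToEt S).Full where
  map_surjective {W W'} f := by
    refine ⟨homOfLE (le_of_hom S f), ?_⟩
    apply MorphismProperty.Over.Hom.ext
    have key : ∀ (g g' : W.toScheme ⟶ W'.toScheme), g ≫ W'.ι = W.ι → g' ≫ W'.ι = W.ι → g = g' :=
      fun g g' h h' => (cancel_mono W'.ι).mp (h.trans h'.symm)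
    exact key _ _ (S.homOfLE_ι (le_of_hom S f)) (hom_left_ι S f)

variable {S}

set_option backward.isDefEq.respectTransparency.types false in
theorem isCoverDense (hS : ∀ s : S, EtCoh.IsStrictlyHenselianLocalRing (S.presheaf.stalk s)) :
    (EtZar.zarToEt S).IsCoverDense S.smallEtaleTopology where
  is_cover U := by
    rw [Groth.Agent.Lib.Helper16.SmallEtale.mem_smallEtale_iff]
    intro x
    haveI : Etale U.hom := U.prop
    obtain ⟨W, σ, hσ, w, hw⟩ := exists_local_section U.hom hS x
    refine ⟨(EtZar.zarToEt S).obj W, MorphismProperty.Over.homMk σ hσ, w, ?_, hw⟩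
    exact ⟨⟨W, 𝟙 _, _, Category.id_comp _⟩⟩

set_option backward.isDefEq.respectTransparency.types false in
theorem functorPushforward_mem_iff' {W : S.Opens} {R : Sieve W} :
    R.functorPushforward (EtZar.zarToEt S) ∈ S.smallEtaleTopology ((EtZar.zarToEt S).obj W) ↔
      R ∈ Opens.grothendieckTopology S W := by
  rw [Groth.Agent.Lib.Helper16.SmallEtale.mem_smallEtale_iff]
  constructor
  · intro h x hx
    obtain ⟨V, g, y, ⟨W₀, g₀, k, hg₀, rfl⟩, hy⟩ := h (⟨x, hx⟩ : W.toScheme)
    refine ⟨W₀, g₀, hg₀, ?_⟩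
    let W₁ : S.Opens := W₀
    have h1 : ((S.homOfLE g₀.le) ((k.left : V.left ⟶ W₁.toScheme) y) : W.toScheme) = ⟨x, hx⟩ := hy
    have h2 := congrArg Subtype.val h1
    rw [Scheme.homOfLE_apply] at h2
    simp only at h2
    rw [← h2]
    exact ((k.left : V.left ⟶ W₁.toScheme) y).2
  · intro h z
    obtain ⟨W₀, g₀, hg₀, hz⟩ := h z.1 z.2
    let W₁ : S.Opens := W₀
    refine ⟨(EtZar.zarToEt S).obj W₁, (EtZar.zarToEt S).map g₀, (⟨z.1, hz⟩ : W₁.toScheme),
      ⟨W₀, g₀, 𝟙 _, hg₀, (Category.id_comp _).symm⟩, ?_⟩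
    show (S.homOfLE g₀.le) (⟨z.1, hz⟩ : W₁.toScheme) = z
    apply Subtype.ext
    rw [Scheme.homOfLE_apply]

theorem isDenseSubsite (hS : ∀ s : S, EtCoh.IsStrictlyHenselianLocalRing (S.presheaf.stalk s)) :
    (EtZar.zarToEt S).IsDenseSubsite (Opens.grothendieckTopology S) S.smallEtaleTopology :=
  { isCoverDense' := isCoverDense hS
    isLocallyFull' := inferInstance
    isLocallyFaithful' := inferInstance
    functorPushforward_mem_iff := functorPushforward_mem_iff' }

theorem isEquivalence_resZar (hS : ∀ s : S, EtCoh.IsStrictlyHenselianLocalRing (S.presheaf.stalk s))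
    [EtZar.ZarCont S] : (EtZar.resZar S).IsEquivalence := by
  haveI := isDenseSubsite hS
  infer_instance

end dense

end Groth.Agent.R2.H3.EtZar
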