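import Mathlib
import Groth.Prelude.Def_EtZar
import Groth.Agent.R2.H3EtZarC

/-!
# Étale cohomology = Zariski cohomology when all local rings are strictly henselian (helper3)

* `mapExt_bijective_of_isEquivalence`, `extCongrLeft`: `Ext` and equivalences / isomorphisms.
* `nonempty_H_equiv`: `H^i(S_et, F) ≃ H^i(S_Zar, F|_Zar)`.
-/

set_option autoImplicit false
set_option linter.style.haveILetI false
universe u
open CategoryTheory AlgebraicGeometry IsLocalRing TopologicalSpace Opposite Limits Abelian

namespace Groth.Agent.R2.H3.EtZar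

section ext

variable {C D : Type*} [Category C] [Category D] [Abelian C] [Abelian D]

/-- an equivalence of abelian categories induces bijections on `Ext` -/
theorem mapExt_bijective_of_isEquivalence (e : C ⥤ D) [e.IsEquivalence] [e.Additive]
    [HasExt.{u} C] [HasExt.{u} D] [EnoughInjectives C] (X Y : C) (n : ℕ) :
    Function.Bijective (e.mapExtAddHom X Y n) := by
  haveI : e.PreservesInjectiveObjects :=
    Functor.preservesInjectiveObjects_of_adjunction_of_preservesMonomorphisms
      e.asEquivalence.symm.toAdjunction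
  exact Functor.mapExt_bijective_of_preservesInjectiveObjects e X Y n

/-- `Ext` is invariant under isomorphisms in the first variable -/
noncomputable def extCongrLeft [HasExt.{u} C] {X X' : C} (φ : X ≅ X') (Y : C) (n : ℕ) :
    Ext.{u} X' Y n ≃+ Ext.{u} X Y n where
  toFun x := (Ext.mk₀ φ.hom).comp x (zero_add n)
  invFun y := (Ext.mk₀ φ.inv).comp y (zero_add n)
  left_inv x := by
    simp only
    rw [← Ext.comp_assoc (Ext.mk₀ φ.inv) (Ext.mk₀ φ.hom) x (zero_add 0) (zero_add n) (by omega),
      Ext.mk₀_comp_mk₀, Iso.inv_hom_id, Ext.mk₀_id_comp]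
  right_inv y := by
    simp only
    rw [← Ext.comp_assoc (Ext.mk₀ φ.hom) (Ext.mk₀ φ.inv) y (zero_add 0) (zero_add n) (by omega),
      Ext.mk₀_comp_mk₀, Iso.hom_inv_id, Ext.mk₀_id_comp]
  map_add' x y := by simp

end ext

section main

variable (S : Scheme.{u})

theorem comp_topIso_inv_ι {Y : Scheme.{u}} (h : Y ⟶ S) :
    (h ≫ S.topIso.inv) ≫ (⊤ : S.Opens).ι = h := by
  rw [Category.assoc, Scheme.toIso_inv_ι, Category.comp_id]

set_option backward.isDefEq.respectTransparency.types false in
/-- the image of the whole space is terminal in the small étale site -/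
noncomputable def isTerminalZarToEtTop : IsTerminal ((EtZar.zarToEt S).obj ⊤) :=
  IsTerminal.ofUniqueHom
    (fun U => MorphismProperty.Over.homMk (U.hom ≫ S.topIso.inv) (comp_topIso_inv_ι S U.hom))
    (fun U m => by
      apply MorphismProperty.Over.Hom.ext
      have key : ∀ (g g' : U.left ⟶ (⊤ : S.Opens).toScheme), g ≫ (⊤ : S.Opens).ι = U.hom →
          g' ≫ (⊤ : S.Opens).ι = U.hom → g = g' :=
        fun g g' h h' => (cancel_mono (⊤ : S.Opens).ι).mp (h.trans h'.symm)
      exact key _ _ (MorphismProperty.Over.w m) (comp_topIso_inv_ι S U.hom))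

instance [EtZar.ZarCont S] : (EtZar.resZar S).Additive where

theorem nonempty_H_equiv
    (hS : ∀ s : S, EtCoh.IsStrictlyHenselianLocalRing (S.presheaf.stalk s)) [EtZar.ZarCont S]
    (F : EtCoh.Ab S) (i : ℕ) :
    Nonempty (EtCoh.H S F i ≃+ EtZar.H ((EtZar.resZar S).obj F) i) := by
  haveI := isDenseSubsite hS
  haveI : (EtZar.resZar S).IsEquivalence := isEquivalence_resZar hS
  let Z : AddCommGrpCat.{u + 1} := AddCommGrpCat.of (ULift.{u + 1} ℤ)
  have iso : (constantSheaf (Opens.grothendieckTopology S) AddCommGrpCat.{u + 1}).obj Z ≅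
      (EtZar.resZar S).obj ((constantSheaf S.smallEtaleTopology AddCommGrpCat.{u + 1}).obj Z) :=
    (equivCommuteConstant' (Opens.grothendieckTopology S) AddCommGrpCat.{u + 1}
      S.smallEtaleTopology (EtZar.zarToEt S) isTerminalTop (isTerminalZarToEtTop S)).app Z
  have hb := mapExt_bijective_of_isEquivalence (EtZar.resZar S)
    ((constantSheaf S.smallEtaleTopology AddCommGrpCat.{u + 1}).obj Z) F i
  exact ⟨(AddEquiv.ofBijective _ hb).trans (extCongrLeft iso ((EtZar.resZar S).obj F) i)⟩

end main

end Groth.Agent.R2.H3.EtZar
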