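import Mathlib
import Groth.Prelude.Def_ProEtW
import Groth.Agent.Lib.Helper3IndEt

/-!
# Ind-Zariski algebras: elementary recognition (helper3, round 2)
-/

set_option autoImplicit false

open CategoryTheory CategoryTheory.Limits TensorProduct

universe u

namespace Groth.Agent.R2.H3.IndZar

open Groth.Agent.Lib.Helper3.IndEt

/-- Constructing `IsIndZariski` from elementary filtered data. -/
theorem isIndZariski_of_filtered {A B : Type u} [CommRing A] [CommRing B] [Algebra A B]
    {J : Type u} [SmallCategory J] [IsFiltered J]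
    (R : J → Type u) [∀ j, CommRing (R j)] [∀ j, Algebra A (R j)]
    [∀ j, Algebra.IsLocalIso A (R j)]
    (t : ∀ {j k : J}, (j ⟶ k) → (R j →ₐ[A] R k))
    (t_id : ∀ j, t (𝟙 j) = AlgHom.id A (R j))
    (t_comp : ∀ {j k l : J} (f : j ⟶ k) (g : k ⟶ l), t (f ≫ g) = (t g).comp (t f))
    (ι : ∀ j, R j →ₐ[A] B)
    (compat : ∀ {j k : J} (g : j ⟶ k) (x : R j), ι k (t g x) = ι j x)
    (surj : ∀ b : B, ∃ j x, ι j x = b)
    (inj : ∀ j (x : R j), ι j x = 0 → ∃ k, ∃ g : j ⟶ k, t g x = 0) :
    EtPBC.IsIndZariski A B := by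
  letI instR : ∀ j, Algebra (CommRingCat.of A) (R j) := fun j => inferInstanceAs (Algebra A (R j))
  letI instB : Algebra (CommRingCat.of A) B := inferInstanceAs (Algebra A B)
  let D : J ⥤ Under (CommRingCat.of A) :=
    { obj := fun j => CommRingCat.mkUnder (CommRingCat.of A) (R j)
      map := fun {j k} g => AlgHom.toUnder (R := CommRingCat.of A) (t g)
      map_id := fun j => by
        rw [t_id]
        rfl
      map_comp := fun {j k l} f g => by
        rw [t_comp]
        rfl }
  let c : Cocone D :=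
    { pt := CommRingCat.mkUnder (CommRingCat.of A) B
      ι :=
        { app := fun j => AlgHom.toUnder (R := CommRingCat.of A) (ι j)
          naturality := fun j k g => by
            apply CommRingCat.mkUnder_ext
            intro x
            exact compat g x } }
  obtain ⟨hc⟩ := nonempty_isColimit_under D c
    (fun x => by
      obtain ⟨j, y, hy⟩ := surj x
      exact ⟨j, y, hy⟩)
    (fun j y hy => by
      obtain ⟨k, g, hg⟩ := inj j y hy
      exact ⟨k, g, hg⟩)
  refine ⟨J, inferInstance, inferInstance, D, c, hc, fun j => ?_, ⟨Iso.refl _⟩⟩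
  show @Algebra.IsLocalIso A (R j) _ _ (RingHom.toAlgebra (algebraMap A (R j)))
  convert (inferInstance : Algebra.IsLocalIso A (R j))
  exact Algebra.algebra_ext _ _ (fun r => rfl)

/-- The same, over a directed preorder. -/
theorem isIndZariski_of_directed {A B : Type u} [CommRing A] [CommRing B] [Algebra A B]
    {J : Type u} [Preorder J] [IsDirected J (· ≤ ·)] [Nonempty J]
    (R : J → Type u) [∀ j, CommRing (R j)] [∀ j, Algebra A (R j)]
    [∀ j, Algebra.IsLocalIso A (R j)]
    (t : ∀ {j k : J}, j ≤ k → (R j →ₐ[A] R k))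
    (t_id : ∀ j, t (le_refl j) = AlgHom.id A (R j))
    (t_comp : ∀ {j k l : J} (f : j ≤ k) (g : k ≤ l), t (f.trans g) = (t g).comp (t f))
    (ι : ∀ j, R j →ₐ[A] B)
    (compat : ∀ {j k : J} (g : j ≤ k) (x : R j), ι k (t g x) = ι j x)
    (surj : ∀ b : B, ∃ j x, ι j x = b)
    (inj : ∀ j (x : R j), ι j x = 0 → ∃ k, ∃ g : j ≤ k, t g x = 0) :
    EtPBC.IsIndZariski A B := by
  haveI : IsFiltered J := isFiltered_of_directed_le_nonempty J
  refine isIndZariski_of_filtered (J := J) R (fun {j k} g => t (leOfHom g)) (fun j => t_id j)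
    (fun {j k l} f g => t_comp (leOfHom f) (leOfHom g)) ι
    (fun {j k} g x => compat (leOfHom g) x) surj ?_
  intro j x hx
  obtain ⟨k, g, hg⟩ := inj j x hx
  exact ⟨k, homOfLE g, hg⟩

end Groth.Agent.R2.H3.IndZar
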