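import Mathlib
import Groth.Prelude.Def_ProEtW
import Groth.Agent.R2.H3IndZar

/-!
# The factorization criterion for ind-Zariski algebras (helper3)

`Factor A B`: every `A`-algebra map from a finitely presented `A`-algebra to `B` factors through a local
isomorphism `A → E`.  `isIndZariski_of_factor` / `factor_of_isIndZariski`: this is equivalent to `B` being
ind-Zariski over `A`.
-/

set_option autoImplicit false
set_option linter.style.haveILetI false

open CategoryTheory CategoryTheory.Limits TensorProduct

universe u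

namespace Groth.Agent.R2.H3.IndZarFactor

open Groth.Agent.Lib.Helper3.IndEt Groth.Agent.R2.H3.IndZar

/-- A local isomorphism is of finite presentation. -/
theorem finitePresentation_of_isLocalIso (R S : Type u) [CommRing R] [CommRing S] [Algebra R S]
    [Algebra.IsLocalIso R S] : Algebra.FinitePresentation R S := by
  rw [← RingHom.finitePresentation_algebraMap]
  refine RingHom.finitePresentation_ofLocalizationSpanTarget (algebraMap R S)
    {g : S | Algebra.IsStandardOpenImmersion R (Localization.Away g)}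
    (Algebra.IsLocalIso.span_isStandardOpenImmersion_eq_top R S) ?_
  rintro ⟨g, hg⟩
  obtain ⟨r, hr⟩ := hg.exists_away
  rw [← IsScalarTower.algebraMap_eq, RingHom.finitePresentation_algebraMap]
  exact IsLocalization.Away.finitePresentation r

theorem isLocalIso_tensor (A E F : Type*) [CommRing A] [CommRing E] [CommRing F] [Algebra A E]
    [Algebra A F] [Algebra.IsLocalIso A E] [Algebra.IsLocalIso A F] :
    Algebra.IsLocalIso A (E ⊗[A] F) :=
  Algebra.IsLocalIso.trans A E (E ⊗[A] F)

section crit

variable (A B : Type u) [CommRing A] [CommRing B] [Algebra A B]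

/-- Presented local-iso `A`-algebras with a map to `B`. -/
structure Obj where
  n : ℕ
  I : Ideal (MvPolynomial (Fin n) A)
  li : Algebra.IsLocalIso A (MvPolynomial (Fin n) A ⧸ I)
  φ : (MvPolynomial (Fin n) A ⧸ I) →ₐ[A] B

namespace Obj

variable {A B}

/-- the underlying algebra -/
abbrev E (j : Obj A B) : Type u := MvPolynomial (Fin j.n) A ⧸ j.I

instance (j : Obj A B) : Algebra.IsLocalIso A j.E := j.li

noncomputable instance : SmallCategory (Obj A B) where
  Hom j k := {f : j.E →ₐ[A] k.E // k.φ.comp f = j.φ}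
  id j := ⟨AlgHom.id A _, AlgHom.comp_id _⟩
  comp f g := ⟨g.1.comp f.1, by rw [← AlgHom.comp_assoc, g.2, f.2]⟩
  id_comp _ := Subtype.ext (AlgHom.comp_id _)
  comp_id _ := Subtype.ext (AlgHom.id_comp _)
  assoc _ _ _ := Subtype.ext (AlgHom.comp_assoc _ _ _).symm

theorem comp_val {j k l : Obj A B} (f : j ⟶ k) (g : k ⟶ l) : (f ≫ g).1 = g.1.comp f.1 := rfl

theorem id_val (j : Obj A B) : (𝟙 j : j ⟶ j).1 = AlgHom.id A j.E := rfl

variable (A) in
theorem exists_obj {E : Type u} [CommRing E] [Algebra A E] [Algebra.IsLocalIso A E]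
    (φ : E →ₐ[A] B) :
    ∃ (j : Obj A B) (e : j.E ≃ₐ[A] E), φ.comp (e : j.E →ₐ[A] E) = j.φ := by
  haveI := finitePresentation_of_isLocalIso A E
  obtain ⟨n, f, hf, -⟩ := Algebra.FinitePresentation.out (R := A) (A := E)
  let e := Ideal.quotientKerAlgEquivOfSurjective hf
  exact ⟨⟨n, RingHom.ker f, Algebra.IsLocalIso.of_algEquiv e.symm, φ.comp e⟩, e, rfl⟩

end Obj

/-- The factorization hypothesis: every map from a finitely presented algebra to `B` factors
through a local isomorphism. -/
def Factor (A B : Type u) [CommRing A] [CommRing B] [Algebra A B] : Prop :=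
  ∀ (P : Type u) [CommRing P] [Algebra A P] [Algebra.FinitePresentation A P] (ψ : P →ₐ[A] B),
    ∃ (E : Type u) (_ : CommRing E) (_ : Algebra A E) (_ : Algebra.IsLocalIso A E) (f : P →ₐ[A] E)
      (g : E →ₐ[A] B), g.comp f = ψ

namespace Obj

variable {A B}

/-- killing finitely generated ideals inside the kernel -/
theorem exists_hom_of_span (H : Factor A B) (k : Obj A B) (K : Ideal k.E) (hK : K.FG)
    (hker : ∀ x ∈ K, k.φ x = 0) : ∃ (l : Obj A B) (h : k ⟶ l), ∀ x ∈ K, h.1 x = 0 := by
  haveI := finitePresentation_of_isLocalIso A k.E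
  haveI : Algebra.FinitePresentation A (k.E ⧸ K) := Algebra.FinitePresentation.quotient hK
  let ψ : (k.E ⧸ K) →ₐ[A] B := Ideal.Quotient.liftₐ K k.φ hker
  obtain ⟨E', _, _, _, f', g', hfg⟩ := H (k.E ⧸ K) ψ
  obtain ⟨l, e, he⟩ := exists_obj A g'
  refine ⟨l, ⟨((e.symm : E' →ₐ[A] l.E).comp f').comp (Ideal.Quotient.mkₐ A K), ?_⟩, ?_⟩
  · rw [← he]
    apply AlgHom.ext
    intro x
    show g' (e (e.symm (f' (Ideal.Quotient.mk K x)))) = k.φ x
    rw [e.apply_symm_apply]
    have := congr($hfg (Ideal.Quotient.mk K x))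
    rw [AlgHom.comp_apply] at this
    rw [this]
    rfl
  · intro x hx
    show (e.symm : E' →ₐ[A] l.E) (f' (Ideal.Quotient.mk K x)) = 0
    rw [Ideal.Quotient.eq_zero_iff_mem.mpr hx, map_zero, map_zero]

theorem isFiltered (H : Factor A B) : IsFiltered (Obj A B) := by
  haveI : Nonempty (Obj A B) := by
    obtain ⟨j, -, -⟩ := exists_obj A (Algebra.ofId A B)
    exact ⟨j⟩
  haveI : IsFilteredOrEmpty (Obj A B) := by
    refine ⟨fun j k => ?_, fun j k f g => ?_⟩
    · haveI := isLocalIso_tensor A j.E k.E
      obtain ⟨l, e, he⟩ := exists_obj A (E := j.E ⊗[A] k.E)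
        (Algebra.TensorProduct.productMap j.φ k.φ)
      refine ⟨l, ⟨(e.symm : j.E ⊗[A] k.E →ₐ[A] l.E).comp Algebra.TensorProduct.includeLeft, ?_⟩,
        ⟨(e.symm : j.E ⊗[A] k.E →ₐ[A] l.E).comp Algebra.TensorProduct.includeRight, ?_⟩, trivial⟩
      · rw [← he]
        ext x
        simp
      · rw [← he]
        ext x
        simp
    · classical
      let K : Ideal k.E := Ideal.span (Set.range fun i : Fin j.n =>
        f.1 (Ideal.Quotient.mk j.I (MvPolynomial.X i)) - g.1 (Ideal.Quotient.mk j.I (MvPolynomial.X i)))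
      have hK : K.FG := Submodule.fg_span (Set.finite_range _)
      have hker : ∀ x ∈ K, k.φ x = 0 := by
        intro x hx
        have hle : K ≤ RingHom.ker k.φ.toRingHom := by
          rw [Ideal.span_le]
          rintro _ ⟨i, rfl⟩
          show k.φ _ = 0
          rw [map_sub, sub_eq_zero]
          have h1 := congr($(f.2) (Ideal.Quotient.mk j.I (MvPolynomial.X i)))
          have h2 := congr($(g.2) (Ideal.Quotient.mk j.I (MvPolynomial.X i)))
          rw [AlgHom.comp_apply] at h1 h2
          rw [h1, h2]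
        exact hle hx
      obtain ⟨l, h, hh⟩ := exists_hom_of_span H k K hK hker
      refine ⟨l, h, Subtype.ext ?_⟩
      rw [comp_val, comp_val]
      apply Ideal.Quotient.algHom_ext
      apply MvPolynomial.algHom_ext
      intro i
      have := hh _ (Ideal.subset_span ⟨i, rfl⟩)
      rw [map_sub, sub_eq_zero] at this
      exact this
  exact {}

end Obj

/-- **Criterion**: if every map from a finitely presented `A`-algebra to `B` factors through a
local isomorphism, then `B` is ind-Zariski over `A`. -/
theorem isIndZariski_of_factor {A B : Type u} [CommRing A] [CommRing B] [Algebra A B]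
    (H : Factor A B) : EtPBC.IsIndZariski A B := by
  haveI := Obj.isFiltered H
  refine isIndZariski_of_filtered (J := Obj A B) (fun j => j.E)
    (fun {j k} (g : j ⟶ k) => g.1) (fun _ => rfl)
    (fun _ _ => rfl) (fun j => j.φ) (fun {j k} (g : j ⟶ k) x => congr($(g.2) x)) ?_ ?_
  · intro b
    let ψ : MvPolynomial (Fin 1) A →ₐ[A] B := MvPolynomial.aeval (fun _ => b)
    obtain ⟨E', _, _, _, f', g', hfg⟩ := H _ ψ
    obtain ⟨j, e, he⟩ := Obj.exists_obj A g'
    refine ⟨j, e.symm (f' (MvPolynomial.X 0)), ?_⟩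
    rw [← he]
    show g' (e (e.symm (f' (MvPolynomial.X 0)))) = b
    rw [e.apply_symm_apply]
    have := congr($hfg (MvPolynomial.X 0))
    rw [AlgHom.comp_apply] at this
    rw [this]
    simp [ψ]
  · intro j x hx
    have hker : ∀ y ∈ Ideal.span ({x} : Set j.E), j.φ y = 0 := by
      intro y hy
      obtain ⟨z, rfl⟩ := Ideal.mem_span_singleton'.mp hy
      rw [map_mul, hx, mul_zero]
    obtain ⟨l, h, hh⟩ := Obj.exists_hom_of_span H j _ ⟨{x}, by simp⟩ hker
    exact ⟨l, h, hh x (Ideal.subset_span rfl)⟩

end crit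

/-- Converse of the criterion. -/
theorem factor_of_isIndZariski {A B : Type u} [CommRing A] [CommRing B] [Algebra A B]
    (h : EtPBC.IsIndZariski A B) : Factor A B := by
  intro P _ _ _ ψ
  obtain ⟨J, _, _, D, c, hc, hD, ⟨e⟩⟩ := h
  letI : Algebra (CommRingCat.of A) P := inferInstanceAs (Algebra A P)
  letI : Algebra (CommRingCat.of A) B := inferInstanceAs (Algebra A B)
  let X : Under (CommRingCat.of A) := CommRingCat.mkUnder (CommRingCat.of A) P
  haveI : IsFinitelyPresentable.{u} X := by
    apply CommRingCat.isFinitelyPresentable_under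
    show (algebraMap A P).FinitePresentation
    rw [RingHom.finitePresentation_algebraMap]
    infer_instance
  let g : X ⟶ c.pt := AlgHom.toUnder (R := CommRingCat.of A) ψ ≫ e.inv
  obtain ⟨j, p, hp⟩ := IsFinitelyPresentable.exists_hom_of_isColimit hc g
  letI := (D.obj j).hom.hom.toAlgebra
  have hp' : p ≫ (c.ι.app j ≫ e.hom) = AlgHom.toUnder (R := CommRingCat.of A) ψ := by
    rw [← Category.assoc, hp, Category.assoc, e.inv_hom_id]
    exact Category.comp_id _
  refine ⟨(D.obj j).right, inferInstance, inferInstance, hD j,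
    { toRingHom := p.right.hom
      commutes' := fun a => congr($(Under.w p).hom a) },
    { toRingHom := (c.ι.app j ≫ e.hom).right.hom
      commutes' := fun a => congr($(Under.w (c.ι.app j ≫ e.hom)).hom a) }, ?_⟩
  apply AlgHom.ext
  intro x
  exact congr($(hp').right.hom x)

theorem isIndZariski_iff_factor {A B : Type u} [CommRing A] [CommRing B] [Algebra A B] :
    EtPBC.IsIndZariski A B ↔ Factor A B :=
  ⟨factor_of_isIndZariski, isIndZariski_of_factor⟩

end Groth.Agent.R2.H3.IndZarFactor
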