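import Mathlib
import Groth.Prelude.Def_ProEtW
import Groth.Prelude.Def_EtBase
import Groth.Agent.R2.H3IndZarFactor
import Groth.Agent.Lib.Helper3UnramEt

/-!
# Auxiliary lemmas for the w-local ind-étale square (helper3)

`etale_of_isLocalIso`, `isIndEtale_of_isIndZariski`, `algebraicResidueExtensions_of_isIndEtale`,
`algebraicResidueExtensions_baseChange`, `isStrictlyHenselianLocalRing_of_ringEquiv`, `exists_prime_tensor`,
`exists_comap_eq_of_bijective_quotientMap`.
-/

set_option autoImplicit false
set_option linter.style.haveILetI false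
open CategoryTheory CategoryTheory.Limits TensorProduct AlgebraicGeometry Polynomial
universe u

namespace Groth.Agent.R2.H3.WLocSquare

/-- A local isomorphism is étale. -/
theorem etale_of_isLocalIso (R S : Type u) [CommRing R] [CommRing S] [Algebra R S]
    [Algebra.IsLocalIso R S] : Algebra.Etale R S := by
  rw [← RingHom.etale_algebraMap]
  refine RingHom.Etale.ofLocalizationSpanTarget (algebraMap R S)
    {g : S | Algebra.IsStandardOpenImmersion R (Localization.Away g)}
    (Algebra.IsLocalIso.span_isStandardOpenImmersion_eq_top R S) ?_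
  rintro ⟨g, hg⟩
  obtain ⟨r, hr⟩ := hg.exists_away
  rw [← IsScalarTower.algebraMap_eq, RingHom.etale_algebraMap]
  exact Algebra.Etale.of_isLocalizationAway r

/-- ind-Zariski algebras are ind-étale -/
theorem isIndEtale_of_isIndZariski {A B : Type u} [CommRing A] [CommRing B] [Algebra A B]
    (h : EtPBC.IsIndZariski A B) : EtPBC.IsIndEtale A B := by
  obtain ⟨J, i1, i2, D, c, hc, hD, e⟩ := h
  refine ⟨J, i1, i2, D, c, hc, fun j => ?_, e⟩
  letI := (D.obj j).hom.hom.toAlgebra
  haveI := hD j
  exact etale_of_isLocalIso A (D.obj j).right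

/-- ind-étale algebras induce algebraic residue field extensions -/
theorem algebraicResidueExtensions_of_isIndEtale {A B : Type u} [CommRing A] [CommRing B]
    [Algebra A B] (h : EtPBC.IsIndEtale A B) : ProEtW.AlgebraicResidueExtensions A B := by
  intro q _
  constructor
  intro x
  obtain ⟨b, rfl⟩ := Ideal.Quotient.mk_surjective x
  let ψ : MvPolynomial (Fin 1) A →ₐ[A] B := MvPolynomial.aeval (fun _ => b)
  obtain ⟨E, _, _, _, f, g, hfg⟩ := Groth.Agent.Lib.Helper3.IndEt.factor_of_isIndEtale h _ ψ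
  have he : g (f (MvPolynomial.X 0)) = b := by
    have := congr($hfg (MvPolynomial.X 0))
    rw [AlgHom.comp_apply] at this
    rw [this]
    simp [ψ]
  have halg : IsAlgebraic (A ⧸ q.comap (algebraMap A B))
      ((1 : A ⧸ q.comap (algebraMap A B)) ⊗ₜ[A] (f (MvPolynomial.X 0))) :=
    Groth.Agent.Lib.Helper3.UnramEt.isAlgebraic_of_etale (A ⧸ q.comap (algebraMap A B))
      ((A ⧸ q.comap (algebraMap A B)) ⊗[A] E) _
  let θ : (A ⧸ q.comap (algebraMap A B)) ⊗[A] E →ₐ[A ⧸ q.comap (algebraMap A B)] B ⧸ q :=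
    Algebra.TensorProduct.lift (Algebra.ofId _ _) ((Ideal.Quotient.mkₐ A q).comp g)
      (fun _ _ => Commute.all _ _)
  have h2 := halg.algHom θ
  have h3 : θ ((1 : A ⧸ q.comap (algebraMap A B)) ⊗ₜ[A] (f (MvPolynomial.X 0))) =
      Ideal.Quotient.mk q b := by
    simp [θ, he]
  rwa [h3] at h2

/-- algebraic residue field extensions are stable under base change -/
theorem algebraicResidueExtensions_baseChange {A B C : Type u} [CommRing A] [CommRing B]
    [CommRing C] [Algebra A B] [Algebra A C] (h : ProEtW.AlgebraicResidueExtensions A B) :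
    ProEtW.AlgebraicResidueExtensions C (C ⊗[A] B) := by
  intro q' _
  let ι : B →+* C ⊗[A] B := Algebra.TensorProduct.includeRight.toRingHom
  have hq := h (q'.comap ι)
  have hcomm : ∀ a : A, algebraMap C (C ⊗[A] B) (algebraMap A C a) = ι (algebraMap A B a) := by
    intro a
    show algebraMap A C a ⊗ₜ[A] (1 : B) = (1 : C) ⊗ₜ[A] algebraMap A B a
    rw [Algebra.algebraMap_eq_smul_one, Algebra.algebraMap_eq_smul_one, TensorProduct.smul_tmul]
  have hpp : (q'.comap ι).comap (algebraMap A B) =
      (q'.comap (algebraMap C (C ⊗[A] B))).comap (algebraMap A C) := by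
    ext a
    simp only [Ideal.mem_comap]
    rw [hcomm]
  let σ : A ⧸ (q'.comap ι).comap (algebraMap A B) →+* C ⧸ q'.comap (algebraMap C (C ⊗[A] B)) :=
    Ideal.quotientMap _ (algebraMap A C) hpp.le
  have hσ : Function.Injective σ := Ideal.quotientMap_injective' hpp.ge
  let τ : B ⧸ q'.comap ι →+* (C ⊗[A] B) ⧸ q' := Ideal.quotientMap q' ι le_rfl
  have hτσ : τ.comp (algebraMap (A ⧸ (q'.comap ι).comap (algebraMap A B)) (B ⧸ q'.comap ι)) =
      (algebraMap (C ⧸ q'.comap (algebraMap C (C ⊗[A] B))) ((C ⊗[A] B) ⧸ q')).comp σ := by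
    apply Ideal.Quotient.ringHom_ext
    ext a
    show Ideal.Quotient.mk q' (ι (algebraMap A B a)) =
      Ideal.Quotient.mk q' (algebraMap C (C ⊗[A] B) (algebraMap A C a))
    rw [hcomm]
  have key : ∀ b : B, IsAlgebraic (C ⧸ q'.comap (algebraMap C (C ⊗[A] B)))
      (Ideal.Quotient.mk q' (ι b)) := by
    intro b
    obtain ⟨P, hP0, hP⟩ := hq.isAlgebraic (Ideal.Quotient.mk _ b)
    refine ⟨P.map σ, (Polynomial.map_ne_zero_iff hσ).mpr hP0, ?_⟩
    rw [Polynomial.aeval_def, Polynomial.eval₂_map, ← hτσ]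
    have : Ideal.Quotient.mk q' (ι b) = τ (Ideal.Quotient.mk _ b) := rfl
    rw [this, ← Polynomial.hom_eval₂, ← Polynomial.aeval_def, hP, map_zero]
  constructor
  intro x
  obtain ⟨t, rfl⟩ := Ideal.Quotient.mk_surjective x
  rw [← Subalgebra.mem_algebraicClosure]
  induction t using TensorProduct.induction_on with
  | zero => rw [map_zero]; exact zero_mem _
  | tmul c b =>
    have h1 : c ⊗ₜ[A] b = algebraMap C (C ⊗[A] B) c * ι b := by
      show c ⊗ₜ[A] b = (c ⊗ₜ[A] (1 : B)) * ((1 : C) ⊗ₜ[A] b)
      rw [Algebra.TensorProduct.tmul_mul_tmul, mul_one, one_mul]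
    rw [h1, map_mul]
    refine mul_mem ?_ ((Subalgebra.mem_algebraicClosure _ _).mpr (key b))
    exact Subalgebra.algebraMap_mem _ (Ideal.Quotient.mk _ c)
  | add x y hx hy => rw [map_add]; exact add_mem hx hy

theorem isSepClosed_of_ringEquiv {k k' : Type*} [Field k] [Field k'] (e : k ≃+* k')
    [IsSepClosed k] : IsSepClosed k' := by
  constructor
  intro p hp
  have h1 : (p.map (e.symm : k' →+* k)).Separable := hp.map
  have h2 := (IsSepClosed.splits_of_separable _ h1).map (e : k →+* k')
  rwa [Polynomial.map_map, show (e : k →+* k').comp (e.symm : k' →+* k) = RingHom.id k' from by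
    ext x; simp, Polynomial.map_id] at h2

theorem henselianLocalRing_of_ringEquiv {R S : Type*} [CommRing R] [CommRing S] (e : R ≃+* S)
    [HenselianLocalRing R] : HenselianLocalRing S := by
  haveI : IsLocalRing S := e.isLocalRing
  have hmax : ∀ x : S, x ∈ IsLocalRing.maximalIdeal S ↔ e.symm x ∈ IsLocalRing.maximalIdeal R := by
    intro x
    rw [IsLocalRing.mem_maximalIdeal, IsLocalRing.mem_maximalIdeal, mem_nonunits_iff,
      mem_nonunits_iff, not_iff_not]
    exact (MulEquiv.isUnit_map e.symm.toMulEquiv).symm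
  have hev : ∀ (g : S[X]) (x : S), (g.map (e.symm : S →+* R)).eval (e.symm x) = e.symm (g.eval x) := by
    intro g x
    rw [Polynomial.eval_map]
    exact Polynomial.eval₂_at_apply (e.symm : S →+* R) x
  constructor
  intro f hf a₀ h1 h2
  have h1' : (f.map (e.symm : S →+* R)).eval (e.symm a₀) ∈ IsLocalRing.maximalIdeal R := by
    rw [hev]
    exact (hmax _).mp h1
  have h2' : IsUnit ((f.map (e.symm : S →+* R)).derivative.eval (e.symm a₀)) := by
    rw [Polynomial.derivative_map, hev]
    exact (MulEquiv.isUnit_map e.symm.toMulEquiv).mpr h2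
  obtain ⟨a, ha1, ha2⟩ := HenselianLocalRing.is_henselian (f.map (e.symm : S →+* R))
    (hf.map _) (e.symm a₀) h1' h2'
  refine ⟨e a, ?_, ?_⟩
  · have h3 := hev f (e a)
    rw [e.symm_apply_apply] at h3
    have h4 : e.symm (f.eval (e a)) = 0 := by rw [← h3]; exact ha1
    exact e.symm.injective (by rw [h4, map_zero])
  · rw [hmax, map_sub, e.symm_apply_apply]
    exact ha2

/-- strict henselianity is invariant under ring isomorphisms -/
theorem isStrictlyHenselianLocalRing_of_ringEquiv {R S : Type u} [CommRing R] [CommRing S]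
    (e : R ≃+* S) (h : EtCoh.IsStrictlyHenselianLocalRing R) :
    EtCoh.IsStrictlyHenselianLocalRing S := by
  obtain ⟨h1, h2⟩ := h
  haveI := henselianLocalRing_of_ringEquiv e
  refine ⟨inferInstance, ?_⟩
  exact isSepClosed_of_ringEquiv (IsLocalRing.ResidueField.mapEquiv e)

/-- primes of `T` and `S` over the same prime of `R` come from a prime of `T ⊗ S` -/
theorem exists_prime_tensor {R T S : Type u} [CommRing R] [CommRing T] [CommRing S]
    [Algebra R T] [Algebra R S] (p : PrimeSpectrum T) (q : PrimeSpectrum S)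
    (h : PrimeSpectrum.comap (algebraMap R T) p = PrimeSpectrum.comap (algebraMap R S) q) :
    ∃ P : PrimeSpectrum (T ⊗[R] S), PrimeSpectrum.comap (algebraMap T (T ⊗[R] S)) P = p ∧
      PrimeSpectrum.comap (Algebra.TensorProduct.includeRight : S →ₐ[R] T ⊗[R] S).toRingHom P = q := by
  let f : Spec (CommRingCat.of T) ⟶ Spec (CommRingCat.of R) :=
    Spec.map (CommRingCat.ofHom (algebraMap R T))
  let g : Spec (CommRingCat.of S) ⟶ Spec (CommRingCat.of R) :=
    Spec.map (CommRingCat.ofHom (algebraMap R S))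
  obtain ⟨z, hz1, hz2⟩ := Scheme.Pullback.exists_preimage_pullback (f := f) (g := g) p q h
  refine ⟨(pullbackSpecIso R T S).hom z, ?_, ?_⟩
  · have := congr($(pullbackSpecIso_hom_fst' R T S) z)
    rw [← hz1, ← this]
    rfl
  · have := congr($(pullbackSpecIso_hom_snd R T S) z)
    rw [← hz2, ← this]
    rfl

/-- primes containing `J` lift along a map inducing a bijection modulo `J` -/
theorem exists_comap_eq_of_bijective_quotientMap {R S : Type*} [CommRing R] [CommRing S]
    [Algebra R S] (J : Ideal R)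
    (hb : Function.Bijective (Ideal.quotientMap (J.map (algebraMap R S)) (algebraMap R S)
      Ideal.le_comap_map))
    (P : PrimeSpectrum R) (hP : J ≤ P.asIdeal) :
    ∃ Q : PrimeSpectrum S, PrimeSpectrum.comap (algebraMap R S) Q = P := by
  let e := RingEquiv.ofBijective _ hb
  have h1 : P ∈ Set.range (PrimeSpectrum.comap (Ideal.Quotient.mk J)) := by
    rw [range_comap_of_surjective _ _ Ideal.Quotient.mk_surjective, Ideal.mk_ker]
    exact hP
  obtain ⟨P', rfl⟩ := h1
  refine ⟨PrimeSpectrum.comap (Ideal.Quotient.mk _) (PrimeSpectrum.comap (e.symm : S ⧸ J.map (algebraMap R S) →+* R ⧸ J) P'), ?_⟩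
  rw [← PrimeSpectrum.comap_comp_apply, ← PrimeSpectrum.comap_comp_apply]
  have h2 : (e.symm : S ⧸ J.map (algebraMap R S) →+* R ⧸ J).comp
      ((Ideal.Quotient.mk (J.map (algebraMap R S))).comp (algebraMap R S)) = Ideal.Quotient.mk J := by
    ext r
    show e.symm (Ideal.Quotient.mk _ (algebraMap R S r)) = Ideal.Quotient.mk J r
    rw [RingEquiv.symm_apply_eq]
    rfl
  rw [h2]

end Groth.Agent.R2.H3.WLocSquare
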