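import Mathlib
import Groth.Agent.R2.H3WLocSquareA

/-!
# Extremal disconnectedness for quasi-finite algebras: auxiliary lemmas (helper3)

`extremallyDisconnected_of_locally_injOn`, `isMaximal_of_quasiFinite`, `ideal_le_of_comap_eq`.
-/

set_option autoImplicit false
set_option linter.style.haveILetI false
open Topology Set TensorProduct
universe u

namespace Groth.Agent.R2.H3.ExtrDiscQF

/-- a compact space mapping to an extremally disconnected Hausdorff space by an open continuous map which is
locally (on clopens) injective is extremally disconnected -/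
theorem extremallyDisconnected_of_locally_injOn {X Y : Type*} [TopologicalSpace X]
    [TopologicalSpace Y] [T2Space X] [ExtremallyDisconnected X] [CompactSpace Y] (f : Y → X)
    (hf : Continuous f) (hfo : IsOpenMap f)
    (hloc : ∀ p : Y, ∃ W : Set Y, IsClopen W ∧ p ∈ W ∧ InjOn f W) :
    ExtremallyDisconnected Y := by
  constructor
  intro O hO
  rw [isOpen_iff_forall_mem_open]
  intro p hp
  obtain ⟨W, hW, hpW, hinj⟩ := hloc p
  -- closure of `O ∩ W`
  have hOW : IsOpen (O ∩ W) := hO.inter hW.2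
  let G : Set X := closure (f '' (O ∩ W))
  have hG : IsOpen G := ExtremallyDisconnected.open_closure _ (hfo _ hOW)
  have hcl : closure (O ∩ W) = W ∩ f ⁻¹' G := by
    apply Subset.antisymm
    · intro y hy
      refine ⟨closure_minimal inter_subset_right hW.1 hy, ?_⟩
      exact map_mem_closure hf hy (fun z hz => mem_image_of_mem f hz)
    · rintro y ⟨hyW, hyG⟩
      have hcomp : IsCompact (closure (O ∩ W)) := isClosed_closure.isCompact
      have hclosed : IsClosed (f '' closure (O ∩ W)) := (hcomp.image hf).isClosed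
      have hsub : G ⊆ f '' closure (O ∩ W) :=
        closure_minimal (image_mono subset_closure) hclosed
      obtain ⟨y', hy', hyy'⟩ := hsub hyG
      have hy'W : y' ∈ W := closure_minimal inter_subset_right hW.1 hy'
      rw [← hinj hy'W hyW hyy']
      exact hy'
  refine ⟨closure (O ∩ W), closure_mono inter_subset_left, ?_, ?_⟩
  · rw [hcl]
    exact hW.2.inter (hG.preimage hf)
  · rw [mem_closure_iff]
    intro V hV hpV
    obtain ⟨z, hz1, hz2⟩ := mem_closure_iff.mp hp (V ∩ W) (hV.inter hW.2) ⟨hpV, hpW⟩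
    exact ⟨z, hz1.1, hz2, hz1.2⟩

variable {A B : Type u} [CommRing A] [CommRing B] [Algebra A B]

/-- primes of a quasi-finite algebra over maximal ideals are maximal -/
theorem isMaximal_of_quasiFinite [Algebra.QuasiFinite A B] (y : Ideal B) [y.IsPrime]
    (hu : (y.comap (algebraMap A B)).IsMaximal) : y.IsMaximal := by
  obtain ⟨M, hM, hyM⟩ := Ideal.exists_le_maximal y (Ideal.IsPrime.ne_top inferInstance)
  haveI := hM.isPrime
  have h1 : y.under A = M.under A :=
    hu.eq_of_le (Ideal.comap_ne_top _ hM.ne_top) (Ideal.comap_mono hyM)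
  rw [Algebra.QuasiFinite.eq_of_le_of_under_eq (R := A) y M hyM h1]
  exact hM

/-- over a base with separably closed residue fields (all primes maximal), a prime of `B ⊗ B` lying over the same
prime on both sides contains the kernel of the multiplication -/
theorem ideal_le_of_comap_eq [Algebra.QuasiFinite A B]
    (hres : ∀ p : PrimeSpectrum A, IsSepClosed p.asIdeal.ResidueField)
    (hmax : ∀ p : PrimeSpectrum A, p.asIdeal.IsMaximal)
    (z : Ideal (B ⊗[A] B)) [z.IsPrime]
    (hz : z.comap (Algebra.TensorProduct.includeLeft : B →ₐ[A] B ⊗[A] B).toRingHom =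
      z.comap (Algebra.TensorProduct.includeRight : B →ₐ[A] B ⊗[A] B).toRingHom) :
    KaehlerDifferential.ideal A B ≤ z := by
  rw [← KaehlerDifferential.span_range_eq_ideal, Ideal.span_le]
  rintro _ ⟨b, rfl⟩
  let y : Ideal B := z.comap (Algebra.TensorProduct.includeLeft : B →ₐ[A] B ⊗[A] B).toRingHom
  haveI : y.IsPrime := Ideal.comap_isPrime _ _
  haveI hu : (y.comap (algebraMap A B)).IsMaximal := hmax ⟨y.comap (algebraMap A B), inferInstance⟩
  haveI hymax : y.IsMaximal := isMaximal_of_quasiFinite y hu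
  letI : Field (A ⧸ y.comap (algebraMap A B)) := Ideal.Quotient.field _
  letI : Field (B ⧸ y) := Ideal.Quotient.field _
  haveI : IsSepClosed (A ⧸ y.comap (algebraMap A B)) :=
    haveI := hres ⟨y.comap (algebraMap A B), inferInstance⟩
    Groth.Agent.R2.H3.WLocSquare.isSepClosed_of_ringEquiv
      (RingEquiv.ofBijective _
        (Ideal.bijective_algebraMap_quotient_residueField (y.comap (algebraMap A B)))).symm
  haveI : Algebra.QuasiFinite (A ⧸ y.comap (algebraMap A B)) (B ⧸ y) :=
    Algebra.QuasiFinite.of_restrictScalars A _ _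
  haveI : Module.Finite (A ⧸ y.comap (algebraMap A B)) (B ⧸ y) := Module.Finite.of_quasiFinite
  haveI : Algebra.IsAlgebraic (A ⧸ y.comap (algebraMap A B)) (B ⧸ y) :=
    Algebra.IsAlgebraic.of_finite _ _
  haveI : IsPurelyInseparable (A ⧸ y.comap (algebraMap A B)) (B ⧸ y) := inferInstance
  let q := ringExpChar (A ⧸ y.comap (algebraMap A B))
  haveI : ExpChar (A ⧸ y.comap (algebraMap A B)) q := ringExpChar.expChar _
  obtain ⟨n, a', ha'⟩ := IsPurelyInseparable.pow_mem (A ⧸ y.comap (algebraMap A B)) q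
    (Ideal.Quotient.mk y b)
  obtain ⟨a, rfl⟩ := Ideal.Quotient.mk_surjective a'
  have hmem : b ^ q ^ n - algebraMap A B a ∈ y := by
    rw [← Ideal.Quotient.eq_zero_iff_mem, map_sub, map_pow, ← ha']
    exact sub_self _
  have hmem' : b ^ q ^ n - algebraMap A B a ∈
      z.comap (Algebra.TensorProduct.includeRight : B →ₐ[A] B ⊗[A] B).toRingHom := hz ▸ hmem
  -- pass to the domain `(B ⊗ B) ⧸ z`
  have hu_le : y.comap (algebraMap A B) ≤
      RingHom.ker ((Ideal.Quotient.mk z).comp (algebraMap A (B ⊗[A] B))) := by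
    intro c hc
    rw [RingHom.mem_ker, RingHom.comp_apply, Ideal.Quotient.eq_zero_iff_mem]
    have : algebraMap A B c ∈ y := hc
    exact this
  let σ : A ⧸ y.comap (algebraMap A B) →+* (B ⊗[A] B) ⧸ z := Ideal.Quotient.lift _ _ hu_le
  haveI : ExpChar ((B ⊗[A] B) ⧸ z) q := expChar_of_injective_ringHom σ.injective q
  have h1 : Ideal.Quotient.mk z (b ⊗ₜ[A] (1 : B)) ^ q ^ n =
      Ideal.Quotient.mk z (algebraMap A B a ⊗ₜ[A] (1 : B)) := by
    rw [← map_pow, Algebra.TensorProduct.tmul_pow, one_pow, ← sub_eq_zero, ← map_sub,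
      ← TensorProduct.sub_tmul, Ideal.Quotient.eq_zero_iff_mem]
    exact hmem
  have h2 : Ideal.Quotient.mk z ((1 : B) ⊗ₜ[A] b) ^ q ^ n =
      Ideal.Quotient.mk z ((1 : B) ⊗ₜ[A] algebraMap A B a) := by
    rw [← map_pow, Algebra.TensorProduct.tmul_pow, one_pow, ← sub_eq_zero, ← map_sub,
      ← TensorProduct.tmul_sub, Ideal.Quotient.eq_zero_iff_mem]
    exact hmem'
  have h3 : algebraMap A B a ⊗ₜ[A] (1 : B) = (1 : B) ⊗ₜ[A] algebraMap A B a := by
    rw [Algebra.algebraMap_eq_smul_one, TensorProduct.smul_tmul]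
  have h4 : (Ideal.Quotient.mk z ((1 : B) ⊗ₜ[A] b) - Ideal.Quotient.mk z (b ⊗ₜ[A] (1 : B))) ^ q ^ n
      = 0 := by
    rw [sub_pow_expChar_pow, h1, h2, h3, sub_self]
  have h5 := pow_eq_zero_iff (pow_ne_zero n (expChar_pos ((B ⊗[A] B) ⧸ z) q).ne') |>.mp h4
  rw [← map_sub, Ideal.Quotient.eq_zero_iff_mem] at h5
  exact h5

end Groth.Agent.R2.H3.ExtrDiscQF
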