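import Mathlib
import Groth.Agent.R2.H3ExtrDiscQFA
import Groth.Agent.S0701

/-!
# Extremal disconnectedness of `Spec B` for `B` quasi-finite of finite presentation (helper3)

Over a base with Hausdorff extremally disconnected spectrum and separably closed residue fields.
-/

set_option autoImplicit false
set_option linter.style.haveILetI false
open Topology Set TensorProduct
universe u

namespace Groth.Agent.R2.H3.ExtrDiscQF

theorem extremallyDisconnected_spec (A B : Type u) [CommRing A] [CommRing B] [Algebra A B]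
    [Algebra.QuasiFinite A B] [Algebra.FinitePresentation A B]
    (hres : ∀ p : PrimeSpectrum A, IsSepClosed p.asIdeal.ResidueField)
    [T2Space (PrimeSpectrum A)] [ExtremallyDisconnected (PrimeSpectrum A)] :
    ExtremallyDisconnected (PrimeSpectrum B) := by
  have hmax : ∀ p : PrimeSpectrum A, p.asIdeal.IsMaximal := fun p =>
    (PrimeSpectrum.isClosed_singleton_iff_isMaximal p).mp (T1Space.t1 p)
  haveI : Algebra.HasGoingDown A B := ⟨fun {p} _ Q _ hlt => by
    exfalso
    have hp := hmax ⟨p, inferInstance⟩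
    have h1 : p = Q.under A :=
      hp.eq_of_le (Ideal.comap_ne_top _ (Ideal.IsPrime.ne_top inferInstance)) hlt.le
    exact (h1 ▸ hlt).false⟩
  have hfo : IsOpenMap (PrimeSpectrum.comap (algebraMap A B)) :=
    PrimeSpectrum.isOpenMap_comap_of_hasGoingDown_of_finitePresentation
  obtain ⟨hcomp, hT2, htd⟩ := Groth.Agent.S0701.result A B (fun q q' hqq' hle =>
    PrimeSpectrum.ext (Algebra.QuasiFinite.eq_of_le_of_under_eq (R := A) q.asIdeal q'.asIdeal
      hle hqq'))
  refine extremallyDisconnected_of_locally_injOn (PrimeSpectrum.comap (algebraMap A B))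
    (PrimeSpectrum.continuous_comap (algebraMap A B)) hfo ?_
  intro y
  let N : Set (PrimeSpectrum (B ⊗[A] B)) :=
    (PrimeSpectrum.zeroLocus (KaehlerDifferential.ideal A B : Set (B ⊗[A] B)))ᶜ
  have hNc : IsCompact N := by
    obtain ⟨s, hs⟩ := KaehlerDifferential.ideal_fg A B
    have : N = ⋃ i ∈ s, (PrimeSpectrum.basicOpen i : Set (PrimeSpectrum (B ⊗[A] B))) := by
      show (PrimeSpectrum.zeroLocus (KaehlerDifferential.ideal A B : Set (B ⊗[A] B)))ᶜ = _
      rw [← hs, PrimeSpectrum.zeroLocus_span]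
      ext z
      simp only [mem_compl_iff, PrimeSpectrum.mem_zeroLocus, Set.subset_def,
        SetLike.mem_coe, not_forall, mem_iUnion, PrimeSpectrum.mem_basicOpen, exists_prop]
    rw [this]
    exact s.isCompact_biUnion fun i _ => PrimeSpectrum.isCompact_basicOpen i
  have hπN : IsClosed (PrimeSpectrum.tensorProductTo A B B '' N) :=
    (hNc.image (PrimeSpectrum.continuous_tensorProductTo A B B)).isClosed
  have hdiag : ∀ y : PrimeSpectrum B, (y, y) ∉ PrimeSpectrum.tensorProductTo A B B '' N := by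
    rintro y ⟨z, hzN, hz⟩
    apply hzN
    rw [PrimeSpectrum.mem_zeroLocus, SetLike.coe_subset_coe]
    have h1 : PrimeSpectrum.comap (algebraMap B (B ⊗[A] B)) z = y := congr(($hz).1)
    have h2 : PrimeSpectrum.comap
        (Algebra.TensorProduct.includeRight : B →ₐ[A] B ⊗[A] B).toRingHom z = y := congr(($hz).2)
    refine ideal_le_of_comap_eq hres hmax z.asIdeal ?_
    have h1' := congrArg PrimeSpectrum.asIdeal h1
    have h2' := congrArg PrimeSpectrum.asIdeal h2
    exact h1'.trans h2'.symm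
  obtain ⟨U, V, hU, hV, hyU, hyV, hUV⟩ := isOpen_prod_iff.mp hπN.isOpen_compl y y (hdiag y)
  obtain ⟨W, hWclopen, hyW, hWsub⟩ :=
    (isTopologicalBasis_isClopen (X := PrimeSpectrum B)).exists_subset_of_mem_open
      (show y ∈ U ∩ V from ⟨hyU, hyV⟩) (hU.inter hV)
  refine ⟨W, hWclopen, hyW, ?_⟩
  intro y₁ hy₁ y₂ hy₂ h12
  by_contra hne
  obtain ⟨P, hP1, hP2⟩ := Groth.Agent.R2.H3.WLocSquare.exists_prime_tensor y₁ y₂ h12
  have hPN : P ∈ N := by
    intro hPK
    rw [PrimeSpectrum.mem_zeroLocus, SetLike.coe_subset_coe] at hPK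
    have hsurj : Function.Surjective
        (Algebra.TensorProduct.lmul' A : B ⊗[A] B →ₐ[A] B).toRingHom := fun b =>
      ⟨b ⊗ₜ[A] 1, by simp⟩
    have hr : P ∈ Set.range (PrimeSpectrum.comap
        (Algebra.TensorProduct.lmul' A : B ⊗[A] B →ₐ[A] B).toRingHom) := by
      rw [range_comap_of_surjective _ _ hsurj]
      exact hPK
    obtain ⟨y', rfl⟩ := hr
    apply hne
    rw [← hP1, ← hP2, ← PrimeSpectrum.comap_comp_apply, ← PrimeSpectrum.comap_comp_apply]
    congr 1
    ext b
    simp
  exact hUV (show (y₁, y₂) ∈ U ×ˢ V from ⟨(hWsub hy₁).1, (hWsub hy₂).2⟩)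
    ⟨P, hPN, Prod.ext hP1 hP2⟩

end Groth.Agent.R2.H3.ExtrDiscQF
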