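import Mathlib

/-!
# Finitely presented models of maps into a localization (helper3)

`exists_fp_model_away`: a map from a finitely presented `A`-algebra `P` into `B[1/σ]` comes from a map
`P → Q[1/q]` for a finitely presented `A`-algebra `Q` with a map `χ : Q → B`, `χ q = σ`.
-/

set_option autoImplicit false
set_option linter.style.haveILetI false

universe u

namespace Groth.Agent.R2.H3.FPLoc

open MvPolynomial

variable {A : Type u} [CommRing A]

theorem exists_fp_model_away {P B L : Type u} [CommRing P] [Algebra A P]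
    [Algebra.FinitePresentation A P] [CommRing B] [Algebra A B] (σ : B) [CommRing L] [Algebra B L]
    [Algebra A L] [IsScalarTower A B L] [IsLocalization.Away σ L] (ψ : P →ₐ[A] L) :
    ∃ (Q : Type u) (_ : CommRing Q) (_ : Algebra A Q) (_ : Algebra.FinitePresentation A Q)
      (χ : Q →ₐ[A] B) (q : Q) (ψ' : P →ₐ[A] Localization.Away q), χ q = σ ∧
      ∀ (lam : Localization.Away q →ₐ[A] L),
        (∀ x, lam (algebraMap Q _ x) = algebraMap B L (χ x)) → lam.comp ψ' = ψ := by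
  classical
  obtain ⟨n, π, hπ, rels, hrels⟩ := Algebra.FinitePresentation.out (R := A) (A := P)
  -- Step 1: numerators of the images of the generators
  choose N b hb using fun i : Fin n => IsLocalization.Away.surj σ (ψ (π (X i)))
  -- Step 2: the polynomial model
  let Q₁ := MvPolynomial (Option (Fin n)) A
  let χ₁ : Q₁ →ₐ[A] B := aeval (fun o : Option (Fin n) => o.elim σ b)
  let S₁ : Q₁ := X none
  have hχ₁S : χ₁ S₁ = σ := by
    show aeval _ (X none) = σ
    rw [aeval_X]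
    rfl
  let L₁ := Localization.Away S₁
  have hunit₁ : ∀ y : Submonoid.powers S₁,
      IsUnit (((IsScalarTower.toAlgHom A B L).comp χ₁) y) := by
    rintro ⟨_, k, rfl⟩
    show IsUnit (algebraMap B L (χ₁ (S₁ ^ k)))
    rw [map_pow, hχ₁S, map_pow]
    exact (IsLocalization.Away.algebraMap_isUnit σ).pow k
  let lam₁ : L₁ →ₐ[A] L := IsLocalization.liftAlgHom (M := Submonoid.powers S₁) hunit₁
  have hlam₁ : ∀ x : Q₁, lam₁ (algebraMap Q₁ L₁ x) = algebraMap B L (χ₁ x) := by
    intro x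
    show IsLocalization.lift _ _ = _
    rw [IsLocalization.lift_eq]
    rfl
  let inv₁ : L₁ := IsLocalization.Away.invSelf S₁
  have hinv₁ : algebraMap Q₁ L₁ S₁ * inv₁ = 1 := IsLocalization.Away.mul_invSelf S₁
  let ev₁ : MvPolynomial (Fin n) A →ₐ[A] L₁ :=
    aeval (fun i => algebraMap Q₁ L₁ (X (some i)) * inv₁ ^ N i)
  have hlaminv : algebraMap B L σ * lam₁ inv₁ = 1 := by
    rw [← hχ₁S, ← hlam₁, ← map_mul, hinv₁, map_one]
  have hev₁ : lam₁.comp ev₁ = ψ.comp π := by
    apply MvPolynomial.algHom_ext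
    intro i
    simp only [AlgHom.comp_apply, ev₁, aeval_X, map_mul, map_pow]
    rw [hlam₁]
    have : χ₁ (X (some i)) = b i := by
      show aeval _ (X (some i)) = b i
      rw [aeval_X]
      rfl
    rw [this, ← hb i, mul_assoc, ← mul_pow, hlaminv, one_pow, mul_one]
  -- Step 3: clear denominators in the relations
  choose Mr ρ hρ using fun r : rels => IsLocalization.Away.surj S₁ (ev₁ r.1)
  have hker : ∀ r : rels, π r.1 = 0 := by
    intro r
    have : (r.1 : MvPolynomial (Fin n) A) ∈ RingHom.ker π.toRingHom := by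
      rw [← hrels]; exact Ideal.subset_span r.2
    exact this
  have hρ0 : ∀ r : rels, algebraMap B L (χ₁ (ρ r)) = 0 := by
    intro r
    rw [← hlam₁, ← hρ r, map_mul]
    have := congr($hev₁ r.1)
    rw [AlgHom.comp_apply, AlgHom.comp_apply, hker r, map_zero] at this
    rw [this, zero_mul]
  have hK : ∀ r : rels, ∃ K : ℕ, σ ^ K * χ₁ (ρ r) = 0 := by
    intro r
    obtain ⟨⟨_, K, rfl⟩, hm⟩ :=
      (IsLocalization.map_eq_zero_iff (Submonoid.powers σ) L _).mp (hρ0 r)
    exact ⟨K, hm⟩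
  choose K hK using hK
  -- Step 4: the finitely presented model
  let J : Ideal Q₁ := Ideal.span (Set.range fun r : rels => S₁ ^ K r * ρ r)
  have hJ : J.FG := Submodule.fg_span (Set.finite_range _)
  haveI : Algebra.FinitePresentation A (Q₁ ⧸ J) := Algebra.FinitePresentation.quotient hJ
  have hχ₁J : ∀ a ∈ J, χ₁ a = 0 := by
    intro a ha
    have hle : J ≤ RingHom.ker χ₁.toRingHom := by
      rw [Ideal.span_le]
      rintro _ ⟨r, rfl⟩
      show χ₁ _ = 0
      rw [map_mul, map_pow, hχ₁S, hK r]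
    exact hle ha
  let χ : (Q₁ ⧸ J) →ₐ[A] B := Ideal.Quotient.liftₐ J χ₁ hχ₁J
  let q : Q₁ ⧸ J := Ideal.Quotient.mk J S₁
  have hχq : χ q = σ := hχ₁S
  -- Step 5: the map `P → (Q₁/J)[1/q]`
  let L₂ := Localization.Away q
  have hunit₂ : ∀ y : Submonoid.powers S₁,
      IsUnit (((IsScalarTower.toAlgHom A (Q₁ ⧸ J) L₂).comp (Ideal.Quotient.mkₐ A J)) y) := by
    rintro ⟨_, k, rfl⟩
    show IsUnit (algebraMap (Q₁ ⧸ J) L₂ (Ideal.Quotient.mk J (S₁ ^ k)))
    rw [map_pow, map_pow]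
    exact (IsLocalization.Away.algebraMap_isUnit q).pow k
  let μ : L₁ →ₐ[A] L₂ := IsLocalization.liftAlgHom (M := Submonoid.powers S₁) hunit₂
  have hμ : ∀ x : Q₁, μ (algebraMap Q₁ L₁ x) = algebraMap (Q₁ ⧸ J) L₂ (Ideal.Quotient.mk J x) := by
    intro x
    show IsLocalization.lift _ _ = _
    rw [IsLocalization.lift_eq]
    rfl
  let ev₂ : MvPolynomial (Fin n) A →ₐ[A] L₂ := μ.comp ev₁
  have hqunit : IsUnit (algebraMap (Q₁ ⧸ J) L₂ q) := IsLocalization.Away.algebraMap_isUnit q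
  have hev₂ : ∀ r : rels, ev₂ r.1 = 0 := by
    intro r
    have h1 : μ (ev₁ r.1) * algebraMap (Q₁ ⧸ J) L₂ q ^ Mr r =
        algebraMap (Q₁ ⧸ J) L₂ (Ideal.Quotient.mk J (ρ r)) := by
      have := congr(μ $(hρ r))
      rw [map_mul, map_pow, hμ, hμ] at this
      exact this
    have h2 : algebraMap (Q₁ ⧸ J) L₂ q ^ K r *
        algebraMap (Q₁ ⧸ J) L₂ (Ideal.Quotient.mk J (ρ r)) = 0 := by
      have hmem : S₁ ^ K r * ρ r ∈ J := Ideal.subset_span ⟨r, rfl⟩
      rw [← map_pow, ← map_mul, ← map_pow, ← map_mul,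
        Ideal.Quotient.eq_zero_iff_mem.mpr hmem, map_zero]
    have h3 : algebraMap (Q₁ ⧸ J) L₂ (Ideal.Quotient.mk J (ρ r)) = 0 :=
      (hqunit.pow (K r)).mul_right_eq_zero.mp h2
    rw [h3] at h1
    exact (hqunit.pow (Mr r)).mul_left_eq_zero.mp h1
  have hle : RingHom.ker π.toRingHom ≤ RingHom.ker ev₂.toRingHom := by
    rw [← hrels, Ideal.span_le]
    intro r hr
    exact hev₂ ⟨r, hr⟩
  let e := Ideal.quotientKerAlgEquivOfSurjective hπ
  have hle' : ∀ a ∈ RingHom.ker π, ev₂ a = 0 := fun a ha => hle ha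
  let ψ' : P →ₐ[A] L₂ :=
    (Ideal.Quotient.liftₐ (RingHom.ker π) ev₂ hle').comp (e.symm : P →ₐ[A] _)
  have hψ' : ∀ a, ψ' (π a) = ev₂ a := by
    intro a
    have h1 : (e.symm : P →ₐ[A] _) (π a) = Ideal.Quotient.mk (RingHom.ker π) a := by
      apply e.injective
      show e (e.symm (π a)) = e (Ideal.Quotient.mk _ a)
      rw [e.apply_symm_apply]
      rfl
    show Ideal.Quotient.liftₐ (RingHom.ker π) ev₂ hle' ((e.symm : P →ₐ[A] _) (π a)) = ev₂ a
    rw [h1]
    rfl
  refine ⟨Q₁ ⧸ J, inferInstance, inferInstance, inferInstance, χ, q, ψ', hχq, ?_⟩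
  intro lam hlam
  have hcomp : lam.comp μ = lam₁ := by
    apply AlgHom.coe_ringHom_injective
    apply IsLocalization.ringHom_ext (Submonoid.powers S₁)
    apply RingHom.ext
    intro x
    show lam (μ (algebraMap Q₁ L₁ x)) = lam₁ (algebraMap Q₁ L₁ x)
    rw [hμ, hlam, hlam₁]
    rfl
  apply AlgHom.ext
  intro p
  obtain ⟨a, rfl⟩ := hπ p
  rw [AlgHom.comp_apply, hψ']
  show lam (μ (ev₁ a)) = ψ (π a)
  have h1 := congr($hcomp (ev₁ a))
  rw [AlgHom.comp_apply] at h1
  rw [h1]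
  exact congr($hev₁ a)

end Groth.Agent.R2.H3.FPLoc
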