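import Mathlib
import Groth.Agent.Lib.Helper9EtMVCompare
import Groth.Agent.R2.H3EtZarB

/-!
# Tools for Gabber's criterion (helper3)

Working with the groups `Ext^n(ℤ[h_P], F)` (helper9's `Zh`) on the small étale site:

* `mvComplexTo_shortExact`, `gluesTo_opens`: the Mayer–Vietoris short exact sequence
  `ℤ[h_{U ∩ V}] ⟶ ℤ[h_U] ⊞ ℤ[h_V] ⟶ ℤ[h_W]` for opens `U, V ≤ W ≤ U ⊔ V`.
* `vanSieve_mem`: classes of positive degree are locally trivial (the sieve along which a class
  dies is covering).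
* `exists_open_vanishing`: with strictly henselian local rings, Zariski locally trivial.
-/

set_option autoImplicit false
set_option linter.style.haveILetI false
universe u
open CategoryTheory CategoryTheory.Limits AlgebraicGeometry Opposite Abelian
open Groth.Agent.Lib.Helper9.EtMV Groth.Agent.Lib.Helper9.EtPull
open Groth.Agent.Lib.Helper16.SmallEtale

namespace Groth.Agent.R2.H3.Gabber

section SES

variable {X : Scheme.{u}}

lemma ZhMap_comp {P Q R : X.Etale} (r : P ⟶ Q) (s : Q ⟶ R) : ZhMap (r ≫ s) = ZhMap r ≫ ZhMap s := by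
  unfold ZhMap
  rw [Functor.map_comp, Functor.whiskerRight_comp, Functor.map_comp]
  rfl

variable {P1 P2 P12 P0 : X.Etale} (p1 : P12 ⟶ P1) (p2 : P12 ⟶ P2) (q1 : P1 ⟶ P0) (q2 : P2 ⟶ P0)

/-- sections over `P1`, `P2` agreeing over `P12` glue uniquely to sections over `P0` -/
def GluesTo : Prop :=
  ∀ (F : EtCoh.Ab X) (t1 : (F.obj.obj (op P1) : AddCommGrpCat.{u + 1}))
    (t2 : (F.obj.obj (op P2) : AddCommGrpCat.{u + 1})),
    (F.obj.map p1.op).hom t1 = (F.obj.map p2.op).hom t2 →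
      ∃! s : (F.obj.obj (op P0) : AddCommGrpCat.{u + 1}),
        (F.obj.map q1.op).hom s = t1 ∧ (F.obj.map q2.op).hom s = t2

variable (w : p1 ≫ q1 = p2 ≫ q2)

/-- the Mayer–Vietoris complex `ℤ[h_{P12}] ⟶ ℤ[h_{P1}] ⊞ ℤ[h_{P2}] ⟶ ℤ[h_{P0}]` -/
noncomputable def mvComplexTo : ShortComplex (EtCoh.Ab X) :=
  ShortComplex.mk (biprod.lift (ZhMap p1) (-ZhMap p2)) (biprod.desc (ZhMap q1) (ZhMap q2)) (by
    simp [← ZhMap_comp, w])

instance [Mono p2] : Mono (mvComplexTo p1 p2 q1 q2 w).f := by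
  have : Mono ((mvComplexTo p1 p2 q1 q2 w).f ≫ biprod.snd) := by
    dsimp [mvComplexTo]
    simp only [biprod.lift_snd]
    infer_instance
  exact mono_of_mono _ biprod.snd

variable {p1 p2 q1 q2}

lemma exists_unique_descTo (H : GluesTo p1 p2 q1 q2) {Z' : EtCoh.Ab X} (g' : Zh P1 ⊞ Zh P2 ⟶ Z')
    (eq' : (mvComplexTo p1 p2 q1 q2 w).f ≫ g' = 0) :
    ∃! l : Zh P0 ⟶ Z', (mvComplexTo p1 p2 q1 q2 w).g ≫ l = g' := by
  have hcond : (Z'.obj.map p1.op).hom (zhEquiv P1 Z' (biprod.inl ≫ g')) =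
      (Z'.obj.map p2.op).hom (zhEquiv P2 Z' (biprod.inr ≫ g')) := by
    rw [← zhEquiv_map, ← zhEquiv_map]
    congr 1
    have h : biprod.lift (ZhMap p1) (-ZhMap p2) ≫ g' = 0 := eq'
    have h2 : biprod.lift (ZhMap p1) (-ZhMap p2) =
        ZhMap p1 ≫ biprod.inl - ZhMap p2 ≫ biprod.inr := by
      apply biprod.hom_ext <;> simp
    rw [h2, Preadditive.sub_comp, sub_eq_zero, Category.assoc, Category.assoc] at h
    exact h
  obtain ⟨s, ⟨hs1, hs2⟩, hsu⟩ := H Z' _ _ hcond
  have key : ∀ l : Zh P0 ⟶ Z', (mvComplexTo p1 p2 q1 q2 w).g ≫ l = g' ↔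
      ((Z'.obj.map q1.op).hom (zhEquiv P0 Z' l) = zhEquiv P1 Z' (biprod.inl ≫ g') ∧
        (Z'.obj.map q2.op).hom (zhEquiv P0 Z' l) = zhEquiv P2 Z' (biprod.inr ≫ g')) := by
    intro l
    rw [← zhEquiv_map, ← zhEquiv_map]
    constructor
    · intro h
      subst h
      constructor
      · congr 1
        simp [mvComplexTo]
      · congr 1
        simp [mvComplexTo]
    · rintro ⟨h1, h2⟩
      apply biprod.hom_ext'
      · have := (zhEquiv P1 Z').injective h1
        simpa [mvComplexTo] using this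
      · have := (zhEquiv P2 Z').injective h2
        simpa [mvComplexTo] using this
  refine ⟨(zhEquiv P0 Z').symm s, ?_, ?_⟩
  · refine (key _).2 ?_
    rw [Equiv.apply_symm_apply]
    exact ⟨hs1, hs2⟩
  · intro m hm
    have := hsu _ ((key m).1 hm)
    apply (zhEquiv P0 Z').injective
    rw [Equiv.apply_symm_apply]
    exact this

theorem mvComplexTo_shortExact [Mono p2] (H : GluesTo p1 p2 q1 q2) :
    (mvComplexTo p1 p2 q1 q2 w).ShortExact := by
  have hcok : IsColimit (CokernelCofork.ofπ (mvComplexTo p1 p2 q1 q2 w).g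
      (mvComplexTo p1 p2 q1 q2 w).zero) :=
    CokernelCofork.IsColimit.ofπ _ _
      (fun g' eq' => (exists_unique_descTo w H g' eq').choose)
      (fun g' eq' => (exists_unique_descTo w H g' eq').choose_spec.1)
      (fun g' eq' m hm => (exists_unique_descTo w H g' eq').choose_spec.2 m hm)
  obtain ⟨hex, hepi⟩ := (mvComplexTo p1 p2 q1 q2 w).exact_and_epi_g_iff_g_is_cokernel.2 ⟨hcok⟩
  exact { exact := hex }

end SES

variable {X : Scheme.{u}}

section Glue

set_option backward.isDefEq.respectTransparency.types false in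
/-- gluing of sections along a cover of `P0` by two subobjects -/
theorem gluesTo_of_cover {P1 P2 P12 P0 : X.Etale} (p1 : P12 ⟶ P1) (p2 : P12 ⟶ P2)
    (q1 : P1 ⟶ P0) (q2 : P2 ⟶ P0) (hm1 : Mono q1) (hm2 : Mono q2)
    (hfac : ∀ (Z : X.Etale) (a : Z ⟶ P1) (b : Z ⟶ P2), a ≫ q1 = b ≫ q2 →
      ∃ c : Z ⟶ P12, c ≫ p1 = a ∧ c ≫ p2 = b)
    (hcov : ∀ x : P0.left, (∃ y : P1.left, q1.left y = x) ∨ (∃ y : P2.left, q2.left y = x)) :
    GluesTo p1 p2 q1 q2 := by
  intro F t1 t2 h12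
  let G : X.Etaleᵒᵖ ⥤ Type (u + 1) := F.obj ⋙ forget AddCommGrpCat.{u + 1}
  have hG : Presieve.IsSheaf X.smallEtaleTopology G :=
    (isSheaf_iff_isSheaf_of_type _ _).1
      ((Presheaf.isSheaf_iff_isSheaf_forget X.smallEtaleTopology F.obj
        (forget AddCommGrpCat.{u + 1})).1 F.property)
  let W : Bool → X.Etale := fun b => match b with
    | true => P1
    | false => P2
  let π : ∀ b, W b ⟶ P0 := fun b => match b with
    | true => q1
    | false => q2
  let t : ∀ b, G.obj (op (W b)) := fun b => match b with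
    | true => t1
    | false => t2
  have hS : Sieve.ofArrows W π ∈ X.smallEtaleTopology P0 := by
    rw [mem_smallEtale_iff]
    intro x
    rcases hcov x with ⟨y, hy⟩ | ⟨y, hy⟩
    · exact ⟨P1, π true, y, Sieve.ofArrows_mk _ _ true, hy⟩
    · exact ⟨P2, π false, y, Sieve.ofArrows_mk _ _ false, hy⟩
  have h1 : Presieve.IsSheafFor G (Presieve.ofArrows W π) :=
    (Presieve.isSheafFor_iff_generate (Presieve.ofArrows W π)).mpr (hG _ hS)
  rw [Presieve.isSheafFor_arrows_iff] at h1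
  have hcompat : Presieve.Arrows.Compatible G π t := by
    intro a b Z ga gb hgab
    cases a <;> cases b
    · have : ga = gb := by
        rw [← cancel_mono q2]
        exact hgab
      rw [this]
    · obtain ⟨c, hc1, hc2⟩ := hfac Z gb ga hgab.symm
      subst hc1 hc2
      change G.map (c ≫ p2).op t2 = G.map (c ≫ p1).op t1
      rw [op_comp, op_comp, G.map_comp, G.map_comp]
      exact congrArg (G.map c.op) h12.symm
    · obtain ⟨c, hc1, hc2⟩ := hfac Z ga gb hgab
      subst hc1 hc2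
      change G.map (c ≫ p1).op t1 = G.map (c ≫ p2).op t2
      rw [op_comp, op_comp, G.map_comp, G.map_comp]
      exact congrArg (G.map c.op) h12
    · have : ga = gb := by
        rw [← cancel_mono q1]
        exact hgab
      rw [this]
  obtain ⟨s, hs, hsu⟩ := h1 t hcompat
  refine ⟨s, ⟨hs true, hs false⟩, ?_⟩
  rintro s' ⟨h1', h2'⟩
  apply hsu
  intro b
  cases b
  · exact h2'
  · exact h1'

end Glue

section Opens

/-- the restriction morphism `(W' → X) ⟶ (W → X)` for opens `W' ≤ W` -/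
noncomputable abbrev res {W' W : X.Opens} (h : W' ≤ W) : oo W' ⟶ oo W :=
  rr (X.homOfLE h) W.ι W'.ι (X.homOfLE_ι h)

set_option backward.isDefEq.respectTransparency.types false in
instance mono_res {W' W : X.Opens} (h : W' ≤ W) : Mono (res h) := by
  haveI : Mono (res h).left := by
    change Mono (X.homOfLE h)
    infer_instance
  exact mono_of_mono_left _

lemma hom_oo_ext' {W : X.Opens} {Z : X.Etale} (a b : Z ⟶ oo W) : a = b := hom_oo_ext W a b

set_option backward.isDefEq.respectTransparency.types false in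
theorem gluesTo_opens {U V W : X.Opens} (hU : U ≤ W) (hV : V ≤ W) (hW : W ≤ U ⊔ V) :
    GluesTo (pL U V) (pR U V) (res hU) (res hV) := by
  apply gluesTo_of_cover
  · infer_instance
  · infer_instance
  · intro Z a b _
    have ha : a.left ≫ U.ι = Z.hom := by
      have := MorphismProperty.Over.w a
      rwa [oo_hom] at this
    have hb : b.left ≫ V.ι = Z.hom := by
      have := MorphismProperty.Over.w b
      rwa [oo_hom] at this
    have hrange : Set.range Z.hom ⊆ Set.range (U ⊓ V).ι := by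
      rw [Scheme.Opens.range_ι]
      rintro _ ⟨z, rfl⟩
      constructor
      · rw [← ha]
        exact (a.left z).2
      · rw [← hb]
        exact (b.left z).2
    let l : Z.left ⟶ ((U ⊓ V : X.Opens) : Scheme.{u}) :=
      IsOpenImmersion.lift (U ⊓ V).ι Z.hom hrange
    have hl : l ≫ (U ⊓ V).ι = Z.hom := IsOpenImmersion.lift_fac _ _ _
    refine ⟨MorphismProperty.Over.homMk l ?_, hom_oo_ext U _ _, hom_oo_ext V _ _⟩
    rw [oo_hom]
    exact hl
  · intro x
    have key : ∀ (x : (W : Scheme.{u})), (∃ y : (U : Scheme.{u}), X.homOfLE hU y = x) ∨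
        (∃ y : (V : Scheme.{u}), X.homOfLE hV y = x) := by
      intro x
      rcases hW x.2 with hx | hx
      · left
        exact ⟨⟨x.1, hx⟩, Subtype.ext (Scheme.homOfLE_apply _ _)⟩
      · right
        exact ⟨⟨x.1, hx⟩, Subtype.ext (Scheme.homOfLE_apply _ _)⟩
    exact key x

end Opens

section LocallyTrivial

/-- the sieve of morphisms `r : Q ⟶ P` along which an extension class dies -/
def vanSieve {P : X.Etale} {F : EtCoh.Ab X} {n : ℕ} (ξ : Ext.{u + 1} (Zh P) F n) : Sieve P where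
  arrows Q r := (Ext.mk₀ (ZhMap r)).comp ξ (zero_add n) = 0
  downward_closed := by
    intro Q Q' r hr s
    show (Ext.mk₀ (ZhMap (s ≫ r))).comp ξ (zero_add n) = 0
    rw [ZhMap_comp, ← Ext.mk₀_comp_mk₀_assoc, hr, Ext.comp_zero]

lemma vanSieve_apply {P Q : X.Etale} {F : EtCoh.Ab X} {n : ℕ} (ξ : Ext.{u + 1} (Zh P) F n)
    (r : Q ⟶ P) : vanSieve ξ r ↔ (Ext.mk₀ (ZhMap r)).comp ξ (zero_add n) = 0 := Iff.rfl

/-- classes of positive degree are locally trivial -/
theorem vanSieve_mem : ∀ (n : ℕ) (F : EtCoh.Ab X) (P : X.Etale) (ξ : Ext.{u + 1} (Zh P) F (n + 1)),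
    vanSieve ξ ∈ X.smallEtaleTopology P := by
  intro n
  induction n with
  | zero =>
    intro F P ξ
    let S : ShortComplex (EtCoh.Ab X) :=
      ShortComplex.mk (Injective.ι F) (cokernel.π (Injective.ι F)) (cokernel.condition _)
    have hS : S.ShortExact :=
      { exact := ShortComplex.exact_cokernel (Injective.ι F) }
    have h0 : ξ.comp (Ext.mk₀ S.f) (add_zero 1) = 0 := Ext.eq_zero_of_injective _
    obtain ⟨x₃, hx₃⟩ := Ext.covariant_sequence_exact₁ (Zh P) hS ξ h0 (zero_add 1)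
    let s : Zh P ⟶ S.X₃ := Ext.homEquiv₀ x₃
    have hs : Ext.mk₀ s = x₃ := Ext.mk₀_homEquiv₀_apply x₃
    haveI : Epi S.g := hS.epi_g
    have hls : Sheaf.IsLocallySurjective S.g := (Sheaf.isLocallySurjective_iff_epi' _ S.g).2 inferInstance
    have hmem := hls.imageSieve_mem (zhEquiv P S.X₃ s)
    refine X.smallEtaleTopology.superset_covering ?_ hmem
    intro P' r ⟨t, ht⟩
    let t' : Zh P' ⟶ S.X₂ := (zhEquiv P' S.X₂).symm t
    have e : t' ≫ S.g = ZhMap r ≫ s := by
      apply (zhEquiv P' S.X₃).injective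
      rw [zhEquiv_comp, zhEquiv_map, Equiv.apply_symm_apply]
      exact ht
    show (Ext.mk₀ (ZhMap r)).comp ξ (zero_add 1) = 0
    rw [← hx₃, ← hs, ← Ext.comp_assoc (Ext.mk₀ (ZhMap r)) (Ext.mk₀ s) hS.extClass (zero_add 0)
      (zero_add 1) (by omega), Ext.mk₀_comp_mk₀, ← e, ← Ext.mk₀_comp_mk₀,
      Ext.comp_assoc (Ext.mk₀ t') (Ext.mk₀ S.g) hS.extClass (zero_add 0) (zero_add 1) (by omega),
      hS.comp_extClass, Ext.comp_zero]
  | succ n ih =>
    intro F P ξ
    let S : ShortComplex (EtCoh.Ab X) :=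
      ShortComplex.mk (Injective.ι F) (cokernel.π (Injective.ι F)) (cokernel.condition _)
    have hS : S.ShortExact :=
      { exact := ShortComplex.exact_cokernel (Injective.ι F) }
    have h0 : ξ.comp (Ext.mk₀ S.f) (add_zero (n + 1 + 1)) = 0 := Ext.eq_zero_of_injective _
    obtain ⟨x₃, hx₃⟩ := Ext.covariant_sequence_exact₁ (Zh P) hS ξ h0 (rfl : n + 1 + 1 = n + 1 + 1)
    refine X.smallEtaleTopology.superset_covering ?_ (ih S.X₃ P x₃)
    intro P' r hr
    show (Ext.mk₀ (ZhMap r)).comp ξ (zero_add (n + 1 + 1)) = 0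
    have hr' : (Ext.mk₀ (ZhMap r)).comp x₃ (zero_add (n + 1)) = 0 := hr
    rw [← hx₃, ← Ext.comp_assoc (Ext.mk₀ (ZhMap r)) x₃ hS.extClass (zero_add (n + 1))
      rfl (by omega), hr', Ext.zero_comp]

end LocallyTrivial

/-- auxiliary: a local section through a point of an étale scheme lying over an open `W` -/
theorem exists_open_section_aux {X Q : Scheme.{u}} (q : Q ⟶ X) [Etale q]
    (hS : ∀ x : X, EtCoh.IsStrictlyHenselianLocalRing (X.presheaf.stalk x))
    (W : X.Opens) (γ : Q ⟶ W.toScheme) (hγ : γ ≫ W.ι = q) (y : Q) :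
    ∃ (W₁ : X.Opens) (σ : W₁.toScheme ⟶ Q), σ ≫ q = W₁.ι ∧ W₁ ≤ W ∧ (W.ι (γ y)) ∈ W₁ := by
  obtain ⟨W₁, σ, hσ, ⟨w₁, hw₁⟩⟩ := Groth.Agent.R2.H3.EtZar.exists_local_section q hS y
  refine ⟨W₁, σ, hσ, ?_, ?_⟩
  · intro z hz
    have h2 : (W.ι) ((σ ≫ γ) ⟨z, hz⟩) = z := by
      rw [← Scheme.Hom.comp_apply, Category.assoc, hγ, hσ]
      rfl
    rw [← h2]
    exact ((σ ≫ γ) ⟨z, hz⟩).2
  · rw [← Scheme.Hom.comp_apply, hγ, ← hw₁, ← Scheme.Hom.comp_apply, hσ]
    exact w₁.2

set_option backward.isDefEq.respectTransparency.types false in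
/-- with strictly henselian local rings, classes of positive degree over an open are Zariski
locally trivial -/
theorem exists_open_vanishing
    (hS : ∀ x : X, EtCoh.IsStrictlyHenselianLocalRing (X.presheaf.stalk x))
    {W : X.Opens} {F : EtCoh.Ab X} {n : ℕ} (ξ : Ext.{u + 1} (Zh (oo W)) F (n + 1))
    (x : X) (hx : x ∈ W) :
    ∃ (W' : X.Opens) (h : W' ≤ W), x ∈ W' ∧
      (Ext.mk₀ (ZhMap (res h))).comp ξ (zero_add (n + 1)) = 0 := by
  have hmem := vanSieve_mem n F (oo W) ξ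
  rw [mem_smallEtale_iff] at hmem
  have key : ∀ (z : (W : Scheme.{u})), ∃ (Q : X.Etale) (g : Q ⟶ oo W) (y : Q.left),
      vanSieve ξ g ∧ (g.left : Q.left ⟶ (W : Scheme.{u})) y = z := hmem
  obtain ⟨Q, g, y, hg, hy⟩ := key ⟨x, hx⟩
  haveI : Etale Q.hom := Q.prop
  have hgw : (g.left : Q.left ⟶ (W : Scheme.{u})) ≫ W.ι = Q.hom := by
    have := MorphismProperty.Over.w g
    rwa [oo_hom] at this
  obtain ⟨W₁, σ, hσ, hle, hmemW₁⟩ : ∃ (W₁ : X.Opens) (σ : W₁.toScheme ⟶ Q.left),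
      σ ≫ Q.hom = W₁.ι ∧ W₁ ≤ W ∧
        (W.ι ((g.left : Q.left ⟶ (W : Scheme.{u})) y)) ∈ W₁ :=
    exists_open_section_aux Q.hom hS W g.left hgw y
  have hxW₁ : x ∈ W₁ := by
    have h3 : (W.ι) ((g.left : Q.left ⟶ (W : Scheme.{u})) y) = x := by
      have := congrArg (fun z : (W : Scheme.{u}) => W.ι z) hy
      exact this
    exact h3 ▸ hmemW₁
  refine ⟨W₁, hle, hxW₁, ?_⟩
  let τ : oo W₁ ⟶ Q := MorphismProperty.Over.homMk σ (by rw [oo_hom]; exact hσ)
  have e : res hle = τ ≫ g := hom_oo_ext W _ _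
  have h4 : vanSieve ξ (τ ≫ g) := (vanSieve ξ).downward_closed hg τ
  have h5 : vanSieve ξ (res hle) := e ▸ h4
  exact h5

end Groth.Agent.R2.H3.Gabber
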