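import Mathlib
import Groth.Agent.R2.H3GabberA
import Groth.Agent.Lib.Helper9MVAbstract

/-!
# Gabber's criterion, part B: restriction maps on `Ext (Zh (oo W)) F n`, emptiness, Mayer–Vietoris
-/

set_option autoImplicit false
set_option linter.style.haveILetI false
universe u
open CategoryTheory CategoryTheory.Limits AlgebraicGeometry Opposite Abelian
open Groth.Agent.Lib.Helper9.EtMV Groth.Agent.Lib.Helper9.EtPull
open Groth.Agent.Lib.Helper16.SmallEtale

namespace Groth.Agent.R2.H3.Gabber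

variable {X : Scheme.{u}}

lemma ZhMap_id (P : X.Etale) : ZhMap (𝟙 P) = 𝟙 (Zh P) := by
  have h := zhEquiv_map (𝟙 P) (Zh P) (𝟙 _)
  rw [Category.comp_id] at h
  apply (zhEquiv P (Zh P)).injective
  rw [h, op_id, CategoryTheory.Functor.map_id]
  rfl

section Rho

variable {F : EtCoh.Ab X}

/-- restriction of classes along an inclusion of opens -/
noncomputable def ρ {W' W : X.Opens} (h : W' ≤ W) {n : ℕ} (ξ : Ext.{u + 1} (Zh (oo W)) F n) :
    Ext.{u + 1} (Zh (oo W')) F n :=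
  (Ext.mk₀ (ZhMap (res h))).comp ξ (zero_add n)

lemma ρ_zero {W' W : X.Opens} (h : W' ≤ W) {n : ℕ} :
    ρ h (0 : Ext.{u + 1} (Zh (oo W)) F n) = 0 := Ext.comp_zero _ _ _ _ _

lemma ρ_trans {W'' W' W : X.Opens} (h' : W'' ≤ W') (h : W' ≤ W) {n : ℕ}
    (ξ : Ext.{u + 1} (Zh (oo W)) F n) : ρ h' (ρ h ξ) = ρ (h'.trans h) ξ := by
  unfold ρ
  rw [Ext.mk₀_comp_mk₀_assoc, ← ZhMap_comp]
  congr 3
  exact hom_oo_ext W _ _

lemma ρ_refl {W : X.Opens} {n : ℕ} (ξ : Ext.{u + 1} (Zh (oo W)) F n) : ρ (le_refl W) ξ = ξ := by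
  unfold ρ
  have : res (le_refl W) = 𝟙 (oo W) := hom_oo_ext W _ _
  rw [this, ZhMap_id, Ext.mk₀_id_comp]

/-- if a class dies on a bigger open, it dies on a smaller one -/
lemma ρ_eq_zero_of_le {W'' W' W : X.Opens} (h' : W'' ≤ W') (h : W' ≤ W) {n : ℕ}
    (ξ : Ext.{u + 1} (Zh (oo W)) F n) (h0 : ρ h ξ = 0) (h'' : W'' ≤ W) : ρ h'' ξ = 0 := by
  have : ρ h'' ξ = ρ (h'.trans h) ξ := rfl
  rw [this, ← ρ_trans h' h, h0, ρ_zero]

/-- restriction along an equality of opens is injective -/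
lemma eq_zero_of_ρ_eq_zero_of_le {W' W : X.Opens} (h : W' ≤ W) (h' : W ≤ W') {n : ℕ}
    (ξ : Ext.{u + 1} (Zh (oo W)) F n) (h0 : ρ h ξ = 0) : ξ = 0 := by
  have := ρ_trans h' h ξ
  rw [h0, ρ_zero] at this
  rw [← ρ_refl ξ]
  exact this.symm

end Rho

section Empty

set_option backward.isDefEq.respectTransparency.types false in
/-- sections of an abelian sheaf over an empty object vanish -/
theorem subsingleton_sections_of_isEmpty (F : EtCoh.Ab X) (P : X.Etale) (hP : IsEmpty P.left) :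
    Subsingleton (F.obj.obj (op P) : AddCommGrpCat.{u + 1}) := by
  let G : X.Etaleᵒᵖ ⥤ Type (u + 1) := F.obj ⋙ forget AddCommGrpCat.{u + 1}
  have hG : Presieve.IsSheaf X.smallEtaleTopology G :=
    (isSheaf_iff_isSheaf_of_type _ _).1
      ((Presheaf.isSheaf_iff_isSheaf_forget X.smallEtaleTopology F.obj
        (forget AddCommGrpCat.{u + 1})).1 F.property)
  have hS : (⊥ : Sieve P) ∈ X.smallEtaleTopology P := by
    rw [mem_smallEtale_iff]
    intro x
    exact (hP.false x).elim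
  have hsep := (hG ⊥ hS).isSeparatedFor
  constructor
  intro a b
  exact hsep.ext (fun Y f hf => (hf : False).elim)

/-- classes over an empty open vanish -/
theorem eq_zero_of_isEmpty {F : EtCoh.Ab X} {W : X.Opens} (hW : ∀ x : X, x ∉ W) {n : ℕ}
    (ξ : Ext.{u + 1} (Zh (oo W)) F n) : ξ = 0 := by
  have hE : IsEmpty (oo W).left := by
    have : IsEmpty (W : Scheme.{u}) := ⟨fun w => hW w.1 w.2⟩
    exact this
  have hz : (𝟙 (Zh (oo W))) = 0 := by
    apply (zhEquiv (oo W) (Zh (oo W))).injective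
    haveI := subsingleton_sections_of_isEmpty (Zh (oo W)) (oo W) hE
    exact Subsingleton.elim _ _
  rw [← Ext.mk₀_id_comp ξ, hz, Ext.mk₀_zero, Ext.zero_comp]

end Empty

section MV

variable {F : EtCoh.Ab X}

/-- Mayer–Vietoris: if `Ext^n` vanishes on `U ⊓ V`, a class of degree `n + 1` on `W = U ∪ V` dying
on `U` and on `V` vanishes -/
theorem eq_zero_of_ρ_eq_zero_of_cover {U V W : X.Opens} (hU : U ≤ W) (hV : V ≤ W) (hW : W ≤ U ⊔ V)
    {n : ℕ} (h0 : ∀ η : Ext.{u + 1} (Zh (oo (U ⊓ V))) F n, η = 0)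
    (ξ : Ext.{u + 1} (Zh (oo W)) F (n + 1)) (h1 : ρ hU ξ = 0) (h2 : ρ hV ξ = 0) : ξ = 0 := by
  have w : pL U V ≫ res hU = pR U V ≫ res hV := hom_oo_ext W _ _
  have hS := mvComplexTo_shortExact w (gluesTo_opens hU hV hW)
  have h3 : (Ext.mk₀ (mvComplexTo (pL U V) (pR U V) (res hU) (res hV) w).g).comp ξ
      (zero_add (n + 1)) = 0 :=
    (Groth.Agent.Lib.Helper9.MVAbstract.mk₀_desc_comp_eq_zero_iff _ _ ξ).2 ⟨h1, h2⟩
  obtain ⟨x₁, hx₁⟩ := Ext.contravariant_sequence_exact₃ hS F ξ h3 (show 1 + n = n + 1 by omega)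
  have hx0 : x₁ = 0 := h0 x₁
  rw [← hx₁, hx0]
  exact Ext.comp_zero _ _ _ _ _

end MV

end Groth.Agent.R2.H3.Gabber
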