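import Mathlib
import Groth.Agent.R2.H3GabberB
import Groth.Agent.R2.H3WLocSquareA

/-!
# Gabber's criterion (Stacks 09ZH), part C: the induction

For an affine scheme `X` all of whose local rings are strictly henselian and an abelian sheaf `F`
on its small étale site such that `H^1(D(f+g)) → H^1(D(f(f+g))) × H^1(D(g(f+g)))` is injective for all
`f, g`, all higher cohomology groups of `F` on all basic opens vanish.
-/

set_option autoImplicit false
set_option linter.style.haveILetI false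
universe u
open CategoryTheory CategoryTheory.Limits AlgebraicGeometry Opposite Abelian
open Groth.Agent.Lib.Helper9.EtMV Groth.Agent.Lib.Helper9.EtPull
open Groth.Agent.Lib.Helper16.SmallEtale

namespace Groth.Agent.R2.H3.Gabber

section Affine

variable (X : Scheme.{u}) [IsAffine X]

lemma exists_basicOpen_le {W : X.Opens} {x : X} (hx : x ∈ W) :
    ∃ f : Γ(X, ⊤), x ∈ X.basicOpen f ∧ X.basicOpen f ≤ W := by
  obtain ⟨_, ⟨f, rfl⟩, hxf, hfW⟩ :=
    TopologicalSpace.Opens.isBasis_iff_nbhd.1 (isBasis_basicOpen X) hx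
  exact ⟨f, hxf, hfW⟩

lemma exists_point_of_prime (J : Ideal Γ(X, ⊤)) [hJ : J.IsPrime] :
    ∃ x : X, ∀ f : Γ(X, ⊤), x ∈ X.basicOpen f ↔ f ∉ J := by
  obtain ⟨x, hx⟩ := X.isoSpec.hom.surjective ⟨J, hJ⟩
  refine ⟨x, fun f => ?_⟩
  rw [← Scheme.map_PrimeSpectrum_basicOpen_of_affine X f]
  change X.isoSpec.hom x ∈ PrimeSpectrum.basicOpen f ↔ _
  rw [hx]
  rfl

/-- if an ideal of functions has basic opens covering `D(h)`, then `h` is in its radical -/
lemma mem_radical_of_cover (I : Ideal Γ(X, ⊤)) (h : Γ(X, ⊤))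
    (hc : ∀ x : X, x ∈ X.basicOpen h → ∃ f ∈ I, x ∈ X.basicOpen f) : h ∈ I.radical := by
  rw [Ideal.radical_eq_sInf, Ideal.mem_sInf]
  rintro J ⟨hIJ, hJ⟩
  by_contra hh
  obtain ⟨x, hx⟩ := exists_point_of_prime X J
  obtain ⟨f, hfI, hxf⟩ := hc x ((hx h).2 hh)
  exact (hx f).1 hxf (hIJ hfI)

end Affine

section Main

variable {X : Scheme.{u}} {F : EtCoh.Ab X}

/-- the kernel hypothesis of Gabber's criterion, in `Ext` form -/
def KerHyp (F : EtCoh.Ab X) : Prop :=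
  ∀ (f g : Γ(X, ⊤)) (ξ : Ext.{u + 1} (Zh (oo (X.basicOpen (f + g)))) F 1),
    ρ ((X.basicOpen_mul f (f + g)).trans_le inf_le_right) ξ = 0 →
    ρ ((X.basicOpen_mul g (f + g)).trans_le inf_le_right) ξ = 0 → ξ = 0

/-- the functions `f` such that `ξ` dies on `W ∩ D(f)` -/
def dieSet {W : X.Opens} {n : ℕ} (ξ : Ext.{u + 1} (Zh (oo W)) F n) : Set Γ(X, ⊤) :=
  {f | ρ (inf_le_left : W ⊓ X.basicOpen f ≤ W) ξ = 0}

lemma mem_dieSet {W : X.Opens} {n : ℕ} (ξ : Ext.{u + 1} (Zh (oo W)) F n) (f : Γ(X, ⊤)) :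
    f ∈ dieSet ξ ↔ ρ (inf_le_left : W ⊓ X.basicOpen f ≤ W) ξ = 0 := Iff.rfl

lemma zero_mem_dieSet {W : X.Opens} {n : ℕ} (ξ : Ext.{u + 1} (Zh (oo W)) F n) :
    (0 : Γ(X, ⊤)) ∈ dieSet ξ := by
  rw [mem_dieSet]
  apply eq_zero_of_isEmpty
  intro x hx
  have h2 : x ∈ X.basicOpen (0 : Γ(X, ⊤)) := hx.2
  rw [Scheme.basicOpen_zero] at h2
  exact h2

lemma mul_mem_dieSet {W : X.Opens} {n : ℕ} (ξ : Ext.{u + 1} (Zh (oo W)) F n) (r : Γ(X, ⊤))
    {f : Γ(X, ⊤)} (hf : f ∈ dieSet ξ) : r * f ∈ dieSet ξ := by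
  rw [mem_dieSet] at hf ⊢
  refine ρ_eq_zero_of_le ?_ inf_le_left ξ hf _
  rw [Scheme.basicOpen_mul]
  exact inf_le_inf_left _ inf_le_right

/-- the ideal of functions `f` such that `ξ` dies on `W ∩ D(f)` -/
def dieIdeal {W : X.Opens} {n : ℕ} (ξ : Ext.{u + 1} (Zh (oo W)) F n)
    (hadd : ∀ f g : Γ(X, ⊤), f ∈ dieSet ξ → g ∈ dieSet ξ → f + g ∈ dieSet ξ) : Ideal Γ(X, ⊤) where
  carrier := dieSet ξ
  add_mem' := hadd _ _
  zero_mem' := zero_mem_dieSet ξ
  smul_mem' r _ hf := mul_mem_dieSet ξ r hf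

lemma mem_dieIdeal {W : X.Opens} {n : ℕ} (ξ : Ext.{u + 1} (Zh (oo W)) F n)
    (hadd : ∀ f g : Γ(X, ⊤), f ∈ dieSet ξ → g ∈ dieSet ξ → f + g ∈ dieSet ξ) (f : Γ(X, ⊤)) :
    f ∈ dieIdeal ξ hadd ↔ ρ (inf_le_left : W ⊓ X.basicOpen f ≤ W) ξ = 0 := Iff.rfl

/-- closedness under addition in degree one, from the kernel hypothesis -/
lemma add_mem_dieSet_one (hK : KerHyp F) (h : Γ(X, ⊤))
    (ξ : Ext.{u + 1} (Zh (oo (X.basicOpen h))) F 1) {f g : Γ(X, ⊤)}
    (hf : f ∈ dieSet ξ) (hg : g ∈ dieSet ξ) : f + g ∈ dieSet ξ := by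
  rw [mem_dieSet] at hf hg ⊢
  have e : X.basicOpen (h * f + h * g) = X.basicOpen h ⊓ X.basicOpen (f + g) := by
    rw [← mul_add, Scheme.basicOpen_mul]
  have hW2 : X.basicOpen (h * f + h * g) ≤ X.basicOpen h := e.le.trans inf_le_left
  have h0 : ρ hW2 ξ = 0 := by
    apply hK (h * f) (h * g) (ρ hW2 ξ)
    · rw [ρ_trans]
      refine ρ_eq_zero_of_le ?_ inf_le_left ξ hf _
      rw [Scheme.basicOpen_mul, Scheme.basicOpen_mul]
      exact inf_le_left
    · rw [ρ_trans]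
      refine ρ_eq_zero_of_le ?_ inf_le_left ξ hg _
      rw [Scheme.basicOpen_mul, Scheme.basicOpen_mul]
      exact inf_le_left
  exact ρ_eq_zero_of_le e.ge hW2 ξ h0 _

/-- closedness under addition in higher degree, from vanishing one degree lower -/
lemma add_mem_dieSet_succ {j : ℕ}
    (ih : ∀ (h' : Γ(X, ⊤)) (η : Ext.{u + 1} (Zh (oo (X.basicOpen h'))) F (j + 1)), η = 0)
    (h : Γ(X, ⊤)) (ξ : Ext.{u + 1} (Zh (oo (X.basicOpen h))) F (j + 1 + 1)) {f g : Γ(X, ⊤)}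
    (hf : f ∈ dieSet ξ) (hg : g ∈ dieSet ξ) : f + g ∈ dieSet ξ := by
  rw [mem_dieSet] at hf hg ⊢
  set W : X.Opens := X.basicOpen h ⊓ X.basicOpen (f + g) with hWdef
  have hU : W ⊓ X.basicOpen f ≤ W := inf_le_left
  have hV : W ⊓ X.basicOpen g ≤ W := inf_le_left
  have hW : W ≤ (W ⊓ X.basicOpen f) ⊔ (W ⊓ X.basicOpen g) := by
    intro x hx
    rcases Scheme.basicOpen_add_le (X := X) (f := f) (g := g) hx.2 with h1 | h1
    · exact Or.inl ⟨hx, h1⟩
    · exact Or.inr ⟨hx, h1⟩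
  have e : X.basicOpen ((h * (f + g) * f) * (h * (f + g) * g)) =
      (W ⊓ X.basicOpen f) ⊓ (W ⊓ X.basicOpen g) := by
    simp only [Scheme.basicOpen_mul, hWdef]
  have h0 : ∀ η : Ext.{u + 1} (Zh (oo ((W ⊓ X.basicOpen f) ⊓ (W ⊓ X.basicOpen g)))) F (j + 1),
      η = 0 := fun η => eq_zero_of_ρ_eq_zero_of_le e.le e.ge η (ih _ _)
  refine eq_zero_of_ρ_eq_zero_of_cover hU hV hW h0 _ ?_ ?_
  · rw [ρ_trans]
    exact ρ_eq_zero_of_le (inf_le_inf_right _ inf_le_left) inf_le_left ξ hf _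
  · rw [ρ_trans]
    exact ρ_eq_zero_of_le (inf_le_inf_right _ inf_le_left) inf_le_left ξ hg _

variable [IsAffine X]

/-- a class of positive degree on `D(h)` whose dying set is closed under addition vanishes -/
theorem eq_zero_of_add_mem_dieSet
    (hS : ∀ x : X, EtCoh.IsStrictlyHenselianLocalRing (X.presheaf.stalk x))
    (h : Γ(X, ⊤)) {n : ℕ} (ξ : Ext.{u + 1} (Zh (oo (X.basicOpen h))) F (n + 1))
    (hadd : ∀ f g : Γ(X, ⊤), f ∈ dieSet ξ → g ∈ dieSet ξ → f + g ∈ dieSet ξ) : ξ = 0 := by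
  have hrad : h ∈ (dieIdeal ξ hadd).radical := by
    apply mem_radical_of_cover
    intro x hx
    obtain ⟨W', hW', hxW', h0⟩ := exists_open_vanishing hS ξ x hx
    obtain ⟨f, hxf, hfW'⟩ := exists_basicOpen_le X hxW'
    refine ⟨f, ?_, hxf⟩
    rw [mem_dieIdeal]
    exact ρ_eq_zero_of_le (inf_le_right.trans hfW') hW' ξ h0 _
  obtain ⟨N, hN⟩ := hrad
  have hN1 : h ^ (N + 1) ∈ dieIdeal ξ hadd := by
    rw [pow_succ']
    exact Ideal.mul_mem_left _ _ hN
  rw [mem_dieIdeal] at hN1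
  refine eq_zero_of_ρ_eq_zero_of_le inf_le_left ?_ ξ hN1
  have e := X.basicOpen_pow h (Nat.succ_pos N)
  exact le_inf le_rfl e.ge

/-- Gabber's criterion (Stacks 09ZH), `Ext` form -/
theorem ext_basicOpen_eq_zero
    (hS : ∀ x : X, EtCoh.IsStrictlyHenselianLocalRing (X.presheaf.stalk x))
    (hK : KerHyp F) : ∀ (i : ℕ) (h : Γ(X, ⊤))
      (ξ : Ext.{u + 1} (Zh (oo (X.basicOpen h))) F (i + 1)), ξ = 0 := by
  intro i
  induction i with
  | zero =>
    intro h ξ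
    exact eq_zero_of_add_mem_dieSet hS h ξ (fun f g hf hg => add_mem_dieSet_one hK h ξ hf hg)
  | succ j ih =>
    intro h ξ
    exact eq_zero_of_add_mem_dieSet hS h ξ (fun f g hf hg => add_mem_dieSet_succ ih h ξ hf hg)

end Main

section Top

variable (X : Scheme.{u})

set_option backward.isDefEq.respectTransparency.types false in
/-- the section `X ⟶ (⊤ → X)` in the small étale site -/
noncomputable def topSec : EtCoh.top X ⟶ oo (⊤ : X.Opens) :=
  MorphismProperty.Over.homMk X.topIso.inv (by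
    rw [oo_hom]
    exact X.toIso_inv_ι)

lemma from_comp_topSec :
    (EtCore.topIsTerminal X).from (oo (⊤ : X.Opens)) ≫ topSec X = 𝟙 _ := hom_oo_ext _ _ _

lemma topSec_comp_from :
    topSec X ≫ (EtCore.topIsTerminal X).from (oo (⊤ : X.Opens)) = 𝟙 _ :=
  (EtCore.topIsTerminal X).hom_ext _ _

lemma aug_comp_bijective (G : EtCoh.Ab X) :
    Function.Bijective (fun l : EtCoh.const X ℤ ⟶ G => aug (oo (⊤ : X.Opens)) ≫ l) := by
  have e : (zhEquiv (oo (⊤ : X.Opens)) G) ∘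
      (fun l : EtCoh.const X ℤ ⟶ G => aug (oo (⊤ : X.Opens)) ≫ l) =
      (fun s => (G.obj.map ((EtCore.topIsTerminal X).from (oo (⊤ : X.Opens))).op).hom s) ∘
        (secEquiv G) := by
    funext l
    exact zhEquiv_aug_comp _ G l
  have hb : Function.Bijective
      (fun s => (G.obj.map ((EtCore.topIsTerminal X).from (oo (⊤ : X.Opens))).op).hom s) := by
    refine Function.bijective_iff_has_inverse.2
      ⟨fun s => (G.obj.map (topSec X).op).hom s, fun s => ?_, fun s => ?_⟩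
    · change (G.obj.map _ ≫ G.obj.map _).hom s = s
      rw [← G.obj.map_comp, ← op_comp, topSec_comp_from, op_id, G.obj.map_id]
      rfl
    · change (G.obj.map _ ≫ G.obj.map _).hom s = s
      rw [← G.obj.map_comp, ← op_comp, from_comp_topSec, op_id, G.obj.map_id]
      rfl
  have h2 : Function.Bijective ((zhEquiv (oo (⊤ : X.Opens)) G) ∘
      (fun l : EtCoh.const X ℤ ⟶ G => aug (oo (⊤ : X.Opens)) ≫ l)) := by
    rw [e]
    exact hb.comp (secEquiv G).bijective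
  exact (Function.Bijective.of_comp_iff' (zhEquiv _ G).bijective _).1 h2

instance isIso_aug_top : IsIso (aug (oo (⊤ : X.Opens))) :=
  (isIso_iff_coyoneda_map_bijective _).2 (aug_comp_bijective X)

/-- vanishing of the `Ext` groups of `ℤ[h_⊤]` gives vanishing of cohomology -/
theorem subsingleton_H_of_ext_top (F : EtCoh.Ab X) (n : ℕ)
    (h0 : ∀ ξ : Ext.{u + 1} (Zh (oo (⊤ : X.Opens))) F n, ξ = 0) :
    Subsingleton (EtCoh.H X F n) := by
  have key : ∀ x : EtCoh.H X F n, x = 0 := by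
    intro x
    have h1 := h0 ((Ext.mk₀ (aug (oo (⊤ : X.Opens)))).comp x (zero_add n))
    have h2 : (Ext.mk₀ (inv (aug (oo (⊤ : X.Opens))))).comp
        ((Ext.mk₀ (aug (oo (⊤ : X.Opens)))).comp x (zero_add n)) (zero_add n) = x := by
      rw [Ext.mk₀_comp_mk₀_assoc, IsIso.inv_hom_id, Ext.mk₀_id_comp]
    rw [← h2, h1, Ext.comp_zero]
  exact ⟨fun a b => (key a).trans (key b).symm⟩

end Top

section Conv

variable {X : Scheme.{u}} {F : EtCoh.Ab X}

/-- restriction in `Ext` form corresponds to `HpullVia` under the comparison isomorphisms -/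
lemma HpullVia_Phi {W' W : X.Opens} (h : W' ≤ W)
    [PreservesFiniteLimits (EtCoh.pull (X.homOfLE h))] [PreservesFiniteLimits (EtCoh.pull W.ι)]
    [PreservesFiniteLimits (EtCoh.pull W'.ι)] {n : ℕ}
    (ξ : Ext.{u + 1} (Zh (oo W)) F n) :
    EtCore.HpullVia (X.homOfLE h) W.ι W'.ι (X.homOfLE_ι h) F n (Phi W.ι F n ξ) =
      Phi W'.ι F n (ρ h ξ) :=
  HpullVia_eq (X.homOfLE h) W.ι W'.ι (X.homOfLE_ι h) F n ξ

/-- if `HpullVia` kills the image under `Phi`, restriction kills the class -/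
lemma HpullVia_Phi_eq_zero {W' W : X.Opens} (h : W' ≤ W)
    [PreservesFiniteLimits (EtCoh.pull (X.homOfLE h))] [PreservesFiniteLimits (EtCoh.pull W.ι)]
    [PreservesFiniteLimits (EtCoh.pull W'.ι)] {n : ℕ}
    (ξ : Ext.{u + 1} (Zh (oo W)) F n) (h0 : ρ h ξ = 0) :
    EtCore.HpullVia (X.homOfLE h) W.ι W'.ι (X.homOfLE_ι h) F n (Phi W.ι F n ξ) = 0 := by
  rw [HpullVia_Phi, h0, map_zero]

end Conv

section Final

/-- Gabber's criterion for `Spec R`, with the kernel hypothesis in `Ext` form -/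
theorem subsingleton_H_spec (R : Type u) [CommRing R]
    (hR : ∀ p : PrimeSpectrum R,
      EtCoh.IsStrictlyHenselianLocalRing (Localization.AtPrime p.asIdeal))
    (F : EtCoh.Ab (Spec (CommRingCat.of R))) (hK : KerHyp F) (q : ℕ) (hq : 1 ≤ q) :
    Subsingleton (EtCoh.H (Spec (CommRingCat.of R)) F q) := by
  obtain ⟨i, rfl⟩ : ∃ i, q = i + 1 := ⟨q - 1, by omega⟩
  have hS : ∀ x : Spec (CommRingCat.of R), EtCoh.IsStrictlyHenselianLocalRing
      ((Spec (CommRingCat.of R)).presheaf.stalk x) := fun x =>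
    Groth.Agent.R2.H3.WLocSquare.isStrictlyHenselianLocalRing_of_ringEquiv
      (Spec.stalkIso (CommRingCat.of R) x).commRingCatIsoToRingEquiv.symm (hR x)
  apply subsingleton_H_of_ext_top
  intro ξ
  have e : (Spec (CommRingCat.of R)).basicOpen (1 : Γ(Spec (CommRingCat.of R), ⊤)) = ⊤ :=
    Scheme.basicOpen_one _
  exact eq_zero_of_ρ_eq_zero_of_le e.le e.ge ξ (ext_basicOpen_eq_zero hS hK i 1 _)

end Final

end Groth.Agent.R2.H3.Gabber
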