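import Mathlib

/-!
# Gluing locally constant functions on `Spec B` into elements of `B` (helper3)

`glueHom : LocallyConstant (PrimeSpectrum B) B →+* B` sends a locally constant function `ξ` to the unique
element `b` which agrees with `ξ q` in a neighbourhood of every point `q`
(`glue_spec : ∃ s ∉ q, s * (glue ξ - ξ q) = 0`).
-/

set_option autoImplicit false
open PrimeSpectrum TopologicalSpace
universe u

namespace Groth.Agent.R2.H3.Glue

variable {B : Type u} [CommRing B]

/-- `b` is a gluing of `ξ`. -/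
def IsGlue (ξ : LocallyConstant (PrimeSpectrum B) B) (b : B) : Prop :=
  ∀ q : PrimeSpectrum B, ∃ s : B, s ∉ q.asIdeal ∧ s * (b - ξ q) = 0

theorem eq_zero_of_forall_exists_mul_eq_zero (d : B)
    (h : ∀ q : PrimeSpectrum B, ∃ s : B, s ∉ q.asIdeal ∧ s * d = 0) : d = 0 := by
  by_contra hne
  have hN : (Submodule.span B {d}).annihilator ≠ ⊤ := by
    intro htop
    have h1 : (1 : B) ∈ (Submodule.span B {d}).annihilator := htop ▸ Submodule.mem_top
    rw [Submodule.mem_annihilator_span_singleton, one_smul] at h1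
    exact hne h1
  obtain ⟨m, hm, hle⟩ := Ideal.exists_le_maximal _ hN
  obtain ⟨s, hs, hsd⟩ := h ⟨m, hm.isPrime⟩
  apply hs
  apply hle
  rw [Submodule.mem_annihilator_span_singleton, smul_eq_mul, hsd]

theorem IsGlue.unique {ξ : LocallyConstant (PrimeSpectrum B) B} {b b' : B} (h : IsGlue ξ b)
    (h' : IsGlue ξ b') : b = b' := by
  rw [← sub_eq_zero]
  apply eq_zero_of_forall_exists_mul_eq_zero
  intro q
  obtain ⟨s, hs, e⟩ := h q
  obtain ⟨s', hs', e'⟩ := h' q
  refine ⟨s * s', q.2.mul_notMem hs hs', ?_⟩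
  linear_combination s' * e - s * e'

/-- the idempotent of the fibre `ξ = v` -/
noncomputable def idem (ξ : LocallyConstant (PrimeSpectrum B) B) (v : B) : B :=
  (isIdempotentElemEquivClopens.symm
    (⟨ξ ⁻¹' {v}, ξ.isLocallyConstant.isClopen_fiber v⟩ : Clopens (PrimeSpectrum B))).1

theorem idem_notMem_iff (ξ : LocallyConstant (PrimeSpectrum B) B) (v : B) (q : PrimeSpectrum B) :
    idem ξ v ∉ q.asIdeal ↔ ξ q = v := by
  have := basicOpen_isIdempotentElemEquivClopens_symm
    (⟨ξ ⁻¹' {v}, ξ.isLocallyConstant.isClopen_fiber v⟩ : Clopens (PrimeSpectrum B))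
  have h2 : q ∈ basicOpen (idem ξ v) ↔ q ∈ (⟨ξ ⁻¹' {v}, ξ.isLocallyConstant.isClopen_fiber v⟩ :
      Clopens (PrimeSpectrum B)).toOpens := by
    rw [← this]; rfl
  exact h2

theorem idem_mul_idem (ξ : LocallyConstant (PrimeSpectrum B) B) {v w : B} (h : v ≠ w) :
    idem ξ v * idem ξ w = 0 := by
  have h1 := isIdempotentElemEquivClopens_symm_inf
    (⟨ξ ⁻¹' {v}, ξ.isLocallyConstant.isClopen_fiber v⟩ : Clopens (PrimeSpectrum B))
    (⟨ξ ⁻¹' {w}, ξ.isLocallyConstant.isClopen_fiber w⟩ : Clopens (PrimeSpectrum B))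
  have h2 : (⟨ξ ⁻¹' {v}, ξ.isLocallyConstant.isClopen_fiber v⟩ : Clopens (PrimeSpectrum B)) ⊓
      (⟨ξ ⁻¹' {w}, ξ.isLocallyConstant.isClopen_fiber w⟩ : Clopens (PrimeSpectrum B)) = ⊥ := by
    apply Clopens.ext
    ext q
    simp only [Clopens.coe_inf, Clopens.coe_mk, Set.mem_inter_iff, Set.mem_preimage,
      Set.mem_singleton_iff, Clopens.coe_bot, Set.mem_empty_iff_false, iff_false, not_and]
    intro h3 h4
    exact h (h3.symm.trans h4)
  rw [h2, isIdempotentElemEquivClopens_symm_bot] at h1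
  exact (congrArg Subtype.val h1).symm

theorem idem_isIdempotentElem (ξ : LocallyConstant (PrimeSpectrum B) B) (v : B) :
    IsIdempotentElem (idem ξ v) :=
  (isIdempotentElemEquivClopens.symm
    (⟨ξ ⁻¹' {v}, ξ.isLocallyConstant.isClopen_fiber v⟩ : Clopens (PrimeSpectrum B))).2

theorem exists_isGlue (ξ : LocallyConstant (PrimeSpectrum B) B) : ∃ b, IsGlue ξ b := by
  classical
  have hfin : (Set.range ξ).Finite := ξ.range_finite
  refine ⟨∑ v ∈ hfin.toFinset, idem ξ v * v, fun q => ⟨idem ξ (ξ q), ?_, ?_⟩⟩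
  · rw [idem_notMem_iff]
  · rw [mul_sub, Finset.mul_sum, Finset.sum_eq_single (ξ q)]
    · rw [← mul_assoc, (idem_isIdempotentElem ξ (ξ q)).eq, sub_self]
    · intro v _ hv
      rw [← mul_assoc, idem_mul_idem ξ (Ne.symm hv), zero_mul]
    · intro hq
      exact absurd (hfin.mem_toFinset.mpr ⟨q, rfl⟩) hq

/-- the gluing of a locally constant function -/
noncomputable def glue (ξ : LocallyConstant (PrimeSpectrum B) B) : B :=
  Classical.choose (exists_isGlue ξ)

theorem isGlue_glue (ξ : LocallyConstant (PrimeSpectrum B) B) : IsGlue ξ (glue ξ) :=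
  Classical.choose_spec (exists_isGlue ξ)

theorem glue_eq {ξ : LocallyConstant (PrimeSpectrum B) B} {b : B} (h : IsGlue ξ b) : glue ξ = b :=
  (isGlue_glue ξ).unique h

/-- gluing as a ring homomorphism -/
noncomputable def glueHom : LocallyConstant (PrimeSpectrum B) B →+* B where
  toFun := glue
  map_one' := glue_eq fun q => ⟨1, q.2.one_notMem, by simp⟩
  map_zero' := glue_eq fun q => ⟨1, q.2.one_notMem, by simp⟩
  map_mul' ξ η := glue_eq fun q => by
    obtain ⟨s, hs, e⟩ := isGlue_glue ξ q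
    obtain ⟨s', hs', e'⟩ := isGlue_glue η q
    refine ⟨s * s', q.2.mul_notMem hs hs', ?_⟩
    rw [LocallyConstant.mul_apply]
    linear_combination (s' * glue η) * e + (s * ξ q) * e'
  map_add' ξ η := glue_eq fun q => by
    obtain ⟨s, hs, e⟩ := isGlue_glue ξ q
    obtain ⟨s', hs', e'⟩ := isGlue_glue η q
    refine ⟨s * s', q.2.mul_notMem hs hs', ?_⟩
    rw [LocallyConstant.add_apply]
    linear_combination s' * e + s * e'

theorem glueHom_spec (ξ : LocallyConstant (PrimeSpectrum B) B) (q : PrimeSpectrum B) :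
    ∃ s : B, s ∉ q.asIdeal ∧ s * (glueHom ξ - ξ q) = 0 := isGlue_glue ξ q

theorem glueHom_const (b : B) : glueHom (LocallyConstant.const _ b) = b :=
  glue_eq fun q => ⟨1, q.2.one_notMem, by simp⟩

/-- `glueHom ξ ∈ q ↔ ξ q ∈ q` -/
theorem glueHom_mem_iff (ξ : LocallyConstant (PrimeSpectrum B) B) (q : PrimeSpectrum B) :
    glueHom ξ ∈ q.asIdeal ↔ ξ q ∈ q.asIdeal := by
  obtain ⟨s, hs, e⟩ := glueHom_spec ξ q
  have hd : glueHom ξ - ξ q ∈ q.asIdeal := by
    have : s * (glueHom ξ - ξ q) ∈ q.asIdeal := by rw [e]; exact q.asIdeal.zero_mem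
    exact (q.2.mem_or_mem this).resolve_left hs
  constructor
  · intro h
    have := q.asIdeal.sub_mem h hd
    rwa [sub_sub_cancel] at this
  · intro h
    have := q.asIdeal.add_mem hd h
    rwa [sub_add_cancel] at this

end Groth.Agent.R2.H3.Glue
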