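import Mathlib
import Groth.Prelude.Def_ProEtW
import Groth.Agent.R2.H3IndZarFactor

/-!
# Maps identifying local rings (helper3)

* `identifies_of_isLocalization`, `identifies_of_isLocalIso` (L0): localizations and local isomorphisms
  identify local rings.
* `bijective_localRingHom_iff`: elementary characterization (`SurjAt`, `InjAt`) of bijectivity of `A_p → B_q`.
* `identifies_of_factor` (L1): `Factor A B` (in particular ind-Zariski) ⇒ identifies local rings.
* `identifies_quotient` (L2): passes to `A/I → B/IB`.
* `identifies_comp`: composition.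
* `identifies_of_comp`: cancellation (`A → E`, `A → S` identify ⇒ `E → S` identifies).
-/

set_option autoImplicit false
set_option linter.style.haveILetI false
open PrimeSpectrum
universe u

namespace Groth.Agent.R2.H3.IdLoc

variable {A B : Type u} [CommRing A] [CommRing B] [Algebra A B]

theorem identifies_of_isLocalization (M : Submonoid A) [IsLocalization M B] :
    EtPBC.IdentifiesLocalRings A B := by
  intro q
  haveI : IsLocalization.AtPrime (Localization.AtPrime q.asIdeal)
      (q.asIdeal.comap (algebraMap A B)) :=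
    IsLocalization.isLocalization_isLocalization_atPrime_isLocalization M _ q.asIdeal
  let e := IsLocalization.algEquiv (q.asIdeal.comap (algebraMap A B)).primeCompl
    (Localization.AtPrime (q.asIdeal.comap (algebraMap A B))) (Localization.AtPrime q.asIdeal)
  have : (Localization.localRingHom (q.asIdeal.comap (algebraMap A B)) q.asIdeal
      (algebraMap A B) rfl) = (e : _ →+* _) := by
    apply IsLocalization.ringHom_ext (q.asIdeal.comap (algebraMap A B)).primeCompl
    ext x
    simp [Localization.localRingHom_to_map, ← IsScalarTower.algebraMap_apply]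
  rw [this]
  exact e.bijective

theorem bijective_localRingHom_congr {R S : Type*} [CommRing R] [CommRing S] {f f' : R →+* S}
    (hf : f = f') {I I' : Ideal R} [I.IsPrime] [I'.IsPrime] (hI : I = I') {J J' : Ideal S}
    [J.IsPrime] [J'.IsPrime] (hJ : J = J')
    (h : I = J.comap f) (h' : I' = J'.comap f') :
    Function.Bijective (Localization.localRingHom I J f h) ↔
      Function.Bijective (Localization.localRingHom I' J' f' h') := by
  subst hf
  subst hI
  subst hJ
  rfl

/-- cancellation: if `A → S` and `E → S` identify local rings then `A → E` identifies local rings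
at primes in the image of `Spec S`. -/
theorem bijective_localRingHom_of_comp {E S : Type u} [CommRing E] [CommRing S] [Algebra A E]
    [Algebra E S] [Algebra A S] [IsScalarTower A E S] (hAS : EtPBC.IdentifiesLocalRings A S)
    (hES : EtPBC.IdentifiesLocalRings E S) (Q : PrimeSpectrum S) :
    Function.Bijective (Localization.localRingHom
      ((Q.asIdeal.comap (algebraMap E S)).comap (algebraMap A E))
      (Q.asIdeal.comap (algebraMap E S)) (algebraMap A E) rfl) := by
  have h1 := hAS Q
  have h2 := hES Q
  have h3 := Localization.localRingHom_comp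
    (I := (Q.asIdeal.comap (algebraMap E S)).comap (algebraMap A E))
    (Q.asIdeal.comap (algebraMap E S)) Q.asIdeal (algebraMap A E) rfl (algebraMap E S) rfl
  rw [bijective_localRingHom_congr (IsScalarTower.algebraMap_eq A E S)
    (by rw [IsScalarTower.algebraMap_eq A E S, ← Ideal.comap_comap]) rfl rfl
    (by rw [Ideal.comap_comap]), h3] at h1
  have hinj : Function.Injective (Localization.localRingHom
      ((Q.asIdeal.comap (algebraMap E S)).comap (algebraMap A E))
      (Q.asIdeal.comap (algebraMap E S)) (algebraMap A E) rfl) := by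
    have := h1.1
    rw [RingHom.coe_comp] at this
    exact Function.Injective.of_comp this
  refine ⟨hinj, ?_⟩
  have := h1.2
  rw [RingHom.coe_comp] at this
  intro y
  obtain ⟨x, hx⟩ := this (Localization.localRingHom _ Q.asIdeal (algebraMap E S) rfl y)
  exact ⟨x, h2.1 hx⟩

/-- **(L0)** local isomorphisms identify local rings. -/
theorem identifies_of_isLocalIso [Algebra.IsLocalIso A B] : EtPBC.IdentifiesLocalRings A B := by
  intro q
  obtain ⟨g, hg, hstd⟩ := Algebra.IsLocalIso.exists_notMem_isStandardOpenImmersion (R := A) q.asIdeal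
  obtain ⟨f, hf⟩ := hstd.exists_away
  have hAS : EtPBC.IdentifiesLocalRings A (Localization.Away g) :=
    identifies_of_isLocalization (Submonoid.powers f)
  have hES : EtPBC.IdentifiesLocalRings B (Localization.Away g) :=
    identifies_of_isLocalization (Submonoid.powers g)
  have hdisj : Disjoint (Submonoid.powers g : Set B) (q.asIdeal : Set B) := by
    rw [Set.disjoint_left]
    rintro _ ⟨n, rfl⟩ hn
    exact hg (q.2.mem_of_pow_mem n hn)
  obtain ⟨Q, hQ⟩ : ∃ Q : PrimeSpectrum (Localization.Away g),
      Q.asIdeal.comap (algebraMap B (Localization.Away g)) = q.asIdeal :=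
    ⟨⟨q.asIdeal.map (algebraMap B (Localization.Away g)),
      IsLocalization.isPrime_of_isPrime_disjoint (Submonoid.powers g) _ _ q.2 hdisj⟩,
      IsLocalization.under_map_of_isPrime_disjoint (Submonoid.powers g) _ q.2 hdisj⟩
  have := bijective_localRingHom_of_comp hAS hES Q
  rwa [bijective_localRingHom_congr rfl (by rw [hQ]) hQ rfl rfl] at this


/-- elementary form of surjectivity of `A_p → B_q` -/
def SurjAt (A : Type u) {B : Type u} [CommRing A] [CommRing B] [Algebra A B] (q : Ideal B) : Prop :=
  ∀ b s : B, s ∉ q → ∃ (a t : A) (u : B), algebraMap A B t ∉ q ∧ u ∉ q ∧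
    u * (algebraMap A B t * b - algebraMap A B a * s) = 0

/-- elementary form of injectivity of `A_p → B_q` -/
def InjAt (A : Type u) {B : Type u} [CommRing A] [CommRing B] [Algebra A B] (q : Ideal B) : Prop :=
  ∀ a : A, (∃ s : B, s ∉ q ∧ s * algebraMap A B a = 0) → ∃ t : A, algebraMap A B t ∉ q ∧ t * a = 0

theorem bijective_localRingHom_iff (q : Ideal B) [q.IsPrime] :
    Function.Bijective (Localization.localRingHom (q.comap (algebraMap A B)) q (algebraMap A B) rfl) ↔
      SurjAt A q ∧ InjAt A q := by
  constructor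
  · rintro ⟨hinj, hsurj⟩
    constructor
    · intro b s hs
      obtain ⟨x, hx⟩ := hsurj (IsLocalization.mk' (Localization.AtPrime q) b (⟨s, hs⟩ : q.primeCompl))
      obtain ⟨a, t, rfl⟩ := IsLocalization.exists_mk'_eq (q.comap (algebraMap A B)).primeCompl x
      rw [Localization.localRingHom_mk', IsLocalization.eq] at hx
      obtain ⟨c, hc⟩ := hx
      refine ⟨a, t.1, c.1, t.2, c.2, ?_⟩
      simp only at hc
      linear_combination (-1 : B) * hc
    · rintro a ⟨s, hs, hsa⟩
      have h0 : algebraMap B (Localization.AtPrime q) (algebraMap A B a) = 0 := by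
        rw [IsLocalization.map_eq_zero_iff q.primeCompl]
        exact ⟨⟨s, hs⟩, hsa⟩
      rw [← Localization.localRingHom_to_map (q.comap (algebraMap A B)) q (algebraMap A B) rfl] at h0
      have h1 := hinj (h0.trans (map_zero _).symm)
      rw [IsLocalization.map_eq_zero_iff (q.comap (algebraMap A B)).primeCompl] at h1
      obtain ⟨m, hm⟩ := h1
      exact ⟨m.1, m.2, hm⟩
  · rintro ⟨hS, hI⟩
    constructor
    · rw [injective_iff_map_eq_zero]
      intro x hx
      obtain ⟨a, t, rfl⟩ := IsLocalization.exists_mk'_eq (q.comap (algebraMap A B)).primeCompl x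
      rw [Localization.localRingHom_mk', IsLocalization.mk'_eq_zero_iff] at hx
      obtain ⟨m, hm⟩ := hx
      obtain ⟨t', ht', hta⟩ := hI a ⟨m.1, m.2, hm⟩
      rw [IsLocalization.mk'_eq_zero_iff]
      exact ⟨⟨t', ht'⟩, hta⟩
    · intro y
      obtain ⟨b, s, rfl⟩ := IsLocalization.exists_mk'_eq q.primeCompl y
      obtain ⟨a, t, u, ht, hu, h⟩ := hS b s.1 s.2
      refine ⟨IsLocalization.mk' _ a (⟨t, ht⟩ : (q.comap (algebraMap A B)).primeCompl), ?_⟩
      rw [Localization.localRingHom_mk', IsLocalization.eq]
      refine ⟨⟨u, hu⟩, ?_⟩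
      simp only
      linear_combination (-1 : B) * h


open Groth.Agent.R2.H3.IndZarFactor in
/-- **(L1)** -/
theorem identifies_of_factor (H : Factor A B) : EtPBC.IdentifiesLocalRings A B := by
  intro q
  rw [bijective_localRingHom_iff]
  constructor
  · intro b s hs
    let ψ : MvPolynomial (Fin 2) A →ₐ[A] B := MvPolynomial.aeval ![b, s]
    obtain ⟨E, _, _, _, f, g, hfg⟩ := H (MvPolynomial (Fin 2) A) ψ
    have hE := identifies_of_isLocalIso (A := A) (B := E)
      ⟨q.asIdeal.comap g.toRingHom, inferInstance⟩
    rw [bijective_localRingHom_iff] at hE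
    have h0 : g (f (MvPolynomial.X 0)) = b := by
      have := congr($hfg (MvPolynomial.X 0))
      simpa [ψ] using this
    have h1 : g (f (MvPolynomial.X 1)) = s := by
      have := congr($hfg (MvPolynomial.X 1))
      simpa [ψ] using this
    obtain ⟨a, t, u, ht, hu, h⟩ := hE.1 (f (MvPolynomial.X 0)) (f (MvPolynomial.X 1)) (by
      show ¬ g (f (MvPolynomial.X 1)) ∈ q.asIdeal
      rw [h1]; exact hs)
    refine ⟨a, t, g u, ?_, hu, ?_⟩
    · intro h'
      apply ht
      show g (algebraMap A E t) ∈ q.asIdeal
      rw [g.commutes]; exact h'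
    · have := congr(g $h)
      simpa [h0, h1] using this
  · rintro a ⟨s, hs, hsa⟩
    let K : Ideal (MvPolynomial (Fin 1) A) := Ideal.span {MvPolynomial.C a * MvPolynomial.X 0}
    haveI : Algebra.FinitePresentation A (MvPolynomial (Fin 1) A ⧸ K) :=
      Algebra.FinitePresentation.quotient (Submodule.fg_span (Set.finite_singleton _))
    let ψ₀ : MvPolynomial (Fin 1) A →ₐ[A] B := MvPolynomial.aeval ![s]
    let ψ : (MvPolynomial (Fin 1) A ⧸ K) →ₐ[A] B := Ideal.Quotient.liftₐ K ψ₀ (by
      intro x hx
      have hle : K ≤ RingHom.ker ψ₀.toRingHom := by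
        rw [Ideal.span_le]
        rintro _ rfl
        show ψ₀ _ = 0
        simp [ψ₀, mul_comm, hsa]
      exact hle hx)
    obtain ⟨E, _, _, _, f, g, hfg⟩ := H (MvPolynomial (Fin 1) A ⧸ K) ψ
    have hE := identifies_of_isLocalIso (A := A) (B := E)
      ⟨q.asIdeal.comap g.toRingHom, inferInstance⟩
    rw [bijective_localRingHom_iff] at hE
    have h0 : g (f (Ideal.Quotient.mk K (MvPolynomial.X 0))) = s := by
      have := congr($hfg (Ideal.Quotient.mk K (MvPolynomial.X 0)))
      simpa [ψ, ψ₀] using this
    have h1 : f (Ideal.Quotient.mk K (MvPolynomial.X 0)) * algebraMap A E a = 0 := by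
      have : Ideal.Quotient.mk K (MvPolynomial.C a * MvPolynomial.X 0) = 0 :=
        Ideal.Quotient.eq_zero_iff_mem.mpr (Ideal.subset_span rfl)
      have h2 := congr(f $this)
      rw [map_mul, map_mul, map_zero] at h2
      rw [mul_comm, ← h2]
      congr 1
      rw [← MvPolynomial.algebraMap_eq, ← Ideal.Quotient.algebraMap_eq, ← IsScalarTower.algebraMap_apply,
        f.commutes]
    obtain ⟨t, ht, hta⟩ := hE.2 a ⟨_, (by
      show ¬ g (f (Ideal.Quotient.mk K (MvPolynomial.X 0))) ∈ q.asIdeal
      rw [h0]; exact hs), h1⟩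
    refine ⟨t, ?_, hta⟩
    intro h'
    apply ht
    show g (algebraMap A E t) ∈ q.asIdeal
    rw [g.commutes]; exact h'


/-- **(L2)** identifying local rings passes to quotients `A/I → B/IB`. -/
theorem identifies_quotient (h1 : EtPBC.IdentifiesLocalRings A B) (I : Ideal A) :
    EtPBC.IdentifiesLocalRings (A ⧸ I) (B ⧸ I.map (algebraMap A B)) := by
  intro qbar
  let q : PrimeSpectrum B := comap (Ideal.Quotient.mk (I.map (algebraMap A B))) qbar
  obtain ⟨hS, hI⟩ := (bijective_localRingHom_iff q.asIdeal).mp (h1 q)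
  have h1q : (1 : B) ∉ q.asIdeal := q.2.one_notMem
  rw [bijective_localRingHom_iff]
  constructor
  · intro b s hs
    obtain ⟨b, rfl⟩ := Ideal.Quotient.mk_surjective b
    obtain ⟨s, rfl⟩ := Ideal.Quotient.mk_surjective s
    obtain ⟨a, t, u, ht, hu, h⟩ := hS b s hs
    refine ⟨Ideal.Quotient.mk I a, Ideal.Quotient.mk I t,
      Ideal.Quotient.mk (I.map (algebraMap A B)) u, ht, hu, ?_⟩
    have := congr(Ideal.Quotient.mk (I.map (algebraMap A B)) $h)
    simpa using this
  · rintro a ⟨s, hs, hsa⟩
    obtain ⟨a, rfl⟩ := Ideal.Quotient.mk_surjective a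
    obtain ⟨s, rfl⟩ := Ideal.Quotient.mk_surjective s
    have hs' : s ∉ q.asIdeal := hs
    have hmem : s * algebraMap A B a ∈ I.map (algebraMap A B) := by
      rw [← Ideal.Quotient.eq_zero_iff_mem]
      simpa using hsa
    have key : ∀ z ∈ I.map (algebraMap A B), ∃ (c : A) (t : A) (u : B), c ∈ I ∧
        algebraMap A B t ∉ q.asIdeal ∧ u ∉ q.asIdeal ∧
        u * (algebraMap A B t * z - algebraMap A B c) = 0 := by
      intro z hz
      induction hz using Submodule.span_induction with
      | mem z hz =>
        obtain ⟨i, hi, rfl⟩ := hz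
        exact ⟨i, 1, 1, hi, by simpa using h1q, h1q, by simp⟩
      | zero => exact ⟨0, 1, 1, I.zero_mem, by simpa using h1q, h1q, by simp⟩
      | add z1 z2 _ _ h1 h2 =>
        obtain ⟨c1, t1, u1, hc1, ht1, hu1, e1⟩ := h1
        obtain ⟨c2, t2, u2, hc2, ht2, hu2, e2⟩ := h2
        refine ⟨t2 * c1 + t1 * c2, t1 * t2, u1 * u2,
          I.add_mem (I.mul_mem_left _ hc1) (I.mul_mem_left _ hc2), ?_, ?_, ?_⟩
        · rw [map_mul]
          exact fun h => (q.2.mem_or_mem h).elim ht1 ht2
        · exact fun h => (q.2.mem_or_mem h).elim hu1 hu2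
        · simp only [map_add, map_mul]
          linear_combination (u2 * algebraMap A B t2) * e1 + (u1 * algebraMap A B t1) * e2
      | smul b z _ h =>
        obtain ⟨c, t, u, hc, ht, hu, e⟩ := h
        obtain ⟨a', t', u', ht', hu', e'⟩ := hS b 1 h1q
        refine ⟨a' * c, t * t', u * u', I.mul_mem_left _ hc, ?_, ?_, ?_⟩
        · rw [map_mul]
          exact fun h => (q.2.mem_or_mem h).elim ht ht'
        · exact fun h => (q.2.mem_or_mem h).elim hu hu'
        · simp only [map_mul, smul_eq_mul]
          linear_combination (u' * algebraMap A B t' * b) * e + (u * algebraMap A B c) * e'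
    obtain ⟨c, t, u, hc, ht, hu, e⟩ := key _ hmem
    obtain ⟨a₁, t₁, u₁, ht₁, hu₁, e₁⟩ := hS 1 s hs'
    obtain ⟨t₂, ht₂, e₂⟩ := hI (t * t₁ * a - a₁ * c) ⟨u * u₁,
      fun h => (q.2.mem_or_mem h).elim hu hu₁, by
        simp only [map_sub, map_mul]
        linear_combination (u₁ * algebraMap A B a₁) * e + (u * algebraMap A B t * algebraMap A B a) * e₁⟩
    refine ⟨Ideal.Quotient.mk I (t₂ * t * t₁), ?_, ?_⟩
    · show ¬ Ideal.Quotient.mk (I.map (algebraMap A B)) (algebraMap A B (t₂ * t * t₁)) ∈ qbar.asIdeal
      show ¬ algebraMap A B (t₂ * t * t₁) ∈ q.asIdeal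
      rw [map_mul, map_mul]
      exact fun h => (q.2.mem_or_mem h).elim (fun h => (q.2.mem_or_mem h).elim ht₂ ht) ht₁
    · rw [← map_mul, Ideal.Quotient.eq_zero_iff_mem]
      have : t₂ * t * t₁ * a = t₂ * a₁ * c := by linear_combination e₂
      rw [this]
      exact I.mul_mem_left _ hc


/-- cancellation: if `A → E` and `A → S` identify local rings then so does `E → S`. -/
theorem identifies_of_comp {E S : Type u} [CommRing E] [CommRing S] [Algebra A E]
    [Algebra E S] [Algebra A S] [IsScalarTower A E S] (hAE : EtPBC.IdentifiesLocalRings A E)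
    (hAS : EtPBC.IdentifiesLocalRings A S) : EtPBC.IdentifiesLocalRings E S := by
  intro Q
  have h1 := hAS Q
  have h2 := hAE ⟨Q.asIdeal.comap (algebraMap E S), inferInstance⟩
  have h3 := Localization.localRingHom_comp
    (I := (Q.asIdeal.comap (algebraMap E S)).comap (algebraMap A E))
    (Q.asIdeal.comap (algebraMap E S)) Q.asIdeal (algebraMap A E) rfl (algebraMap E S) rfl
  rw [bijective_localRingHom_congr (IsScalarTower.algebraMap_eq A E S)
    (by rw [IsScalarTower.algebraMap_eq A E S, ← Ideal.comap_comap]) rfl rfl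
    (by rw [Ideal.comap_comap]), h3, RingHom.coe_comp] at h1
  constructor
  · intro x y hxy
    obtain ⟨x', rfl⟩ := h2.2 x
    obtain ⟨y', rfl⟩ := h2.2 y
    have := h1.1 hxy
    rw [this]
  · intro z
    obtain ⟨x, hx⟩ := h1.2 z
    exact ⟨_, hx⟩


/-- composition: if `A → E` and `E → S` identify local rings then so does `A → S`. -/
theorem identifies_comp {E S : Type u} [CommRing E] [CommRing S] [Algebra A E]
    [Algebra E S] [Algebra A S] [IsScalarTower A E S] (hAE : EtPBC.IdentifiesLocalRings A E)
    (hES : EtPBC.IdentifiesLocalRings E S) : EtPBC.IdentifiesLocalRings A S := by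
  intro Q
  have h2 := hES Q
  have h1 := hAE ⟨Q.asIdeal.comap (algebraMap E S), inferInstance⟩
  have h3 := Localization.localRingHom_comp
    (I := (Q.asIdeal.comap (algebraMap E S)).comap (algebraMap A E))
    (Q.asIdeal.comap (algebraMap E S)) Q.asIdeal (algebraMap A E) rfl (algebraMap E S) rfl
  rw [bijective_localRingHom_congr (IsScalarTower.algebraMap_eq A E S)
    (by rw [IsScalarTower.algebraMap_eq A E S, ← Ideal.comap_comap]) rfl rfl
    (by rw [Ideal.comap_comap]), h3, RingHom.coe_comp]
  exact h2.comp h1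

end Groth.Agent.R2.H3.IdLoc
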