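import Mathlib
import Groth.Prelude.Def_ProEtW
import Groth.Agent.Lib.Helper10WLocal
import Groth.Agent.S0738

/-!
# w-local spaces: closed points and connected components (helper3)

* `eq_of_mk_eq_of_isClosed`: in a w-local space two closed points in the same connected component are equal.
* `exists_isClosed_singleton_mk_eq`: every connected component contains a closed point.
-/

set_option autoImplicit false
set_option linter.style.haveILetI false
open Topology TopologicalSpace Set
universe u

namespace Groth.Agent.R2.H3.WLocalTop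

open Groth.Agent.Lib.Helper10.Spectral Groth.Agent.Lib.Helper10.WLocal

variable {X : Type u} [TopologicalSpace X]

/-- In a T1 spectral space, compact opens are closed. -/
theorem isClosed_of_isCompact_isOpen_of_t1 [SpectralSpace X] [T1Space X] {U : Set X}
    (hUo : IsOpen U) (hUc : IsCompact U) : IsClosed U := by
  apply isClosed_of_isClosed_constr_of_stableUnderSpecialization
    (isClosed_constr_of_isCompact_isOpen hUo hUc)
  intro x y hxy hx
  rwa [← hxy.eq]

/-- In a T1 spectral space distinct points are separated by a clopen. -/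
theorem exists_isClopen_of_ne_of_t1 [SpectralSpace X] [T1Space X] {x y : X} (h : x ≠ y) :
    ∃ C : Set X, IsClopen C ∧ x ∈ C ∧ y ∉ C := by
  obtain ⟨V, ⟨hVo, hVc⟩, hxV, hVO⟩ :=
    PrespectralSpace.isTopologicalBasis.exists_subset_of_mem_open
      (show x ∈ ({y}ᶜ : Set X) from h) isOpen_compl_singleton
  exact ⟨V, ⟨isClosed_of_isCompact_isOpen_of_t1 hVo hVc, hVo⟩, hxV, fun hy => hVO hy rfl⟩

/-- For a closed set `E` of closed points in a w-local space, the set of generalizations is closed. -/
theorem isClosed_generalizations_of_subset_closedPoints (hX : ProEtW.IsWLocal X) {E : Set X}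
    (hE : IsClosed E) (hE0 : E ⊆ ProEtW.closedPoints X) : IsClosed {x | ∃ e ∈ E, x ⤳ e} := by
  haveI := hX.1
  apply isClosed_generalizations hE
  rintro x y hxy ⟨e, he, hxe⟩
  obtain ⟨z, ⟨hzc, hyz⟩, -⟩ := hX.2.2 y
  have : z = e := (hX.2.2 x).unique ⟨hzc, hxy.trans hyz⟩ ⟨hE0 he, hxe⟩
  exact ⟨e, he, this ▸ hyz⟩

/-- In a w-local space, two closed points lying in the same connected component are equal. -/
theorem eq_of_mk_eq_of_isClosed (hX : ProEtW.IsWLocal X) {x x' : X} (hx : IsClosed ({x} : Set X))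
    (hx' : IsClosed ({x'} : Set X))
    (h : ConnectedComponents.mk x = ConnectedComponents.mk x') : x = x' := by
  by_contra hne
  haveI := hX.1
  have hX₀ : IsClosed (ProEtW.closedPoints X) := hX.2.1
  haveI : SpectralSpace (ProEtW.closedPoints X) :=
    Groth.Agent.S0738.spectralSpace_of_isClosed _ hX₀
  haveI : T1Space (ProEtW.closedPoints X) :=
    ⟨fun y => (Groth.Agent.S0738.isClosed_singleton_subtype_iff _ hX₀ y).mpr y.2⟩
  obtain ⟨C, hC, hxC, hx'C⟩ := exists_isClopen_of_ne_of_t1
    (x := (⟨x, hx⟩ : ProEtW.closedPoints X)) (y := ⟨x', hx'⟩)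
    (fun hh => hne (congrArg Subtype.val hh))
  have hE : IsClosed (Subtype.val '' C : Set X) :=
    hX₀.isClosedEmbedding_subtypeVal.isClosedMap _ hC.1
  have hE' : IsClosed (Subtype.val '' Cᶜ : Set X) :=
    hX₀.isClosedEmbedding_subtypeVal.isClosedMap _ hC.2.isClosed_compl
  have hsub : ∀ D : Set (ProEtW.closedPoints X), (Subtype.val '' D : Set X) ⊆ ProEtW.closedPoints X := by
    rintro D _ ⟨y, -, rfl⟩
    exact y.2
  have hGE := isClosed_generalizations_of_subset_closedPoints hX hE (hsub C)
  have hGE' := isClosed_generalizations_of_subset_closedPoints hX hE' (hsub Cᶜ)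
  have hcompl : {y : X | ∃ e ∈ (Subtype.val '' C : Set X), y ⤳ e}ᶜ =
      {y : X | ∃ e ∈ (Subtype.val '' Cᶜ : Set X), y ⤳ e} := by
    ext y
    obtain ⟨z, ⟨hzc, hyz⟩, huniq⟩ := hX.2.2 y
    simp only [mem_compl_iff, Set.mem_ofPred_eq]
    constructor
    · intro hy
      refine ⟨z, ⟨⟨z, hzc⟩, fun hzC => hy ⟨z, ⟨⟨z, hzc⟩, hzC, rfl⟩, hyz⟩, rfl⟩, hyz⟩
    · rintro ⟨_, ⟨e, heC, rfl⟩, hye⟩ ⟨_, ⟨e', he'C, rfl⟩, hye'⟩
      have h1 : (e : X) = z := huniq _ ⟨e.2, hye⟩
      have h2 : (e' : X) = z := huniq _ ⟨e'.2, hye'⟩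
      have : e = e' := Subtype.ext (h1.trans h2.symm)
      exact heC (this ▸ he'C)
  have hclopen : IsClopen {y : X | ∃ e ∈ (Subtype.val '' C : Set X), y ⤳ e} :=
    ⟨hGE, by rw [← isClosed_compl_iff, hcompl]; exact hGE'⟩
  have hsubset := hclopen.connectedComponent_subset
    (show x ∈ {y : X | ∃ e ∈ (Subtype.val '' C : Set X), y ⤳ e} from
      ⟨x, ⟨⟨x, hx⟩, hxC, rfl⟩, specializes_rfl⟩)
  have hx'mem : x' ∈ connectedComponent x := by
    rw [← ConnectedComponents.coe_eq_coe']
    exact h.symm
  obtain ⟨_, ⟨e, heC, rfl⟩, hx'e⟩ := hsubset hx'mem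
  have : (e : X) = x' := by
    have := (specializes_iff_mem_closure.mp hx'e)
    rw [hx'.closure_eq] at this
    exact this
  exact hx'C ((Subtype.ext this : e = ⟨x', hx'⟩) ▸ heC)

/-- In a w-local space every connected component contains a closed point. -/
theorem exists_isClosed_singleton_mk_eq (hX : ProEtW.IsWLocal X) (c : ConnectedComponents X) :
    ∃ z : X, IsClosed ({z} : Set X) ∧ ConnectedComponents.mk z = c := by
  haveI := hX.1
  obtain ⟨x, rfl⟩ := ConnectedComponents.surjective_coe c
  obtain ⟨z, hz, hzx⟩ := exists_isClosed_singleton_mem_connectedComponent x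
  exact ⟨z, hz, ConnectedComponents.coe_eq_coe'.mpr hzx⟩

end Groth.Agent.R2.H3.WLocalTop
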