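import Mathlib
import Groth.Prelude.Def_ProEtW
import Groth.Agent.R2.H3WLocalTop

/-!
# Ring maps identifying local rings (helper3)

* `exists_le_comap_eq` (going down), `eq_of_le_of_comap_eq` (local injectivity on spectra) for a ring map
  inducing an isomorphism `A_p → B_q`.
* `bijective_of_bijective_comap`: a ring map identifying local rings and bijective on spectra is bijective.
* `bijective_comap_of_wLocal`: a w-local map of w-local spectra identifying local rings and bijective on `π₀`
  is bijective on spectra.
-/

set_option autoImplicit false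
set_option linter.style.haveILetI false
open PrimeSpectrum
universe u

namespace Groth.Agent.R2.H3.LocIso

variable {A B : Type u} [CommRing A] [CommRing B] [Algebra A B]

/-- The commutative square of spectra attached to the local ring map at `q`. -/
theorem comap_comap_localRingHom (q : PrimeSpectrum B)
    (w : PrimeSpectrum (Localization.AtPrime q.asIdeal)) :
    comap (algebraMap A B) (comap (algebraMap B (Localization.AtPrime q.asIdeal)) w) =
      comap (algebraMap A (Localization.AtPrime (q.asIdeal.comap (algebraMap A B))))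
        (comap (Localization.localRingHom (q.asIdeal.comap (algebraMap A B)) q.asIdeal
          (algebraMap A B) rfl) w) := by
  rw [← comap_comp_apply, ← comap_comp_apply]
  congr 1
  ext x
  simp

theorem exists_comap_eq_of_le (q x : PrimeSpectrum B) (hx : x ≤ q) :
    ∃ w : PrimeSpectrum (Localization.AtPrime q.asIdeal),
      comap (algebraMap B (Localization.AtPrime q.asIdeal)) w = x := by
  have : x ∈ Set.range (comap (algebraMap B (Localization.AtPrime q.asIdeal))) := by
    rw [localization_comap_range (Localization.AtPrime q.asIdeal) q.asIdeal.primeCompl]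
    exact Set.disjoint_left.mpr fun a ha hax => ha (hx hax)
  exact this

theorem comap_le (q : PrimeSpectrum B) (w : PrimeSpectrum (Localization.AtPrime q.asIdeal)) :
    comap (algebraMap B (Localization.AtPrime q.asIdeal)) w ≤ q := by
  have : comap (algebraMap B (Localization.AtPrime q.asIdeal)) w ∈
      Set.range (comap (algebraMap B (Localization.AtPrime q.asIdeal))) := ⟨w, rfl⟩
  rw [localization_comap_range (Localization.AtPrime q.asIdeal) q.asIdeal.primeCompl] at this
  intro a ha
  by_contra hq
  exact Set.disjoint_left.mp this hq ha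

/-- Going down for a ring map inducing a bijection `A_p → B_q`. -/
theorem exists_le_comap_eq (q : PrimeSpectrum B)
    (hq : Function.Bijective (Localization.localRingHom (q.asIdeal.comap (algebraMap A B)) q.asIdeal
      (algebraMap A B) rfl))
    (x : PrimeSpectrum A) (hx : x ≤ comap (algebraMap A B) q) :
    ∃ y ≤ q, comap (algebraMap A B) y = x := by
  obtain ⟨z, hz⟩ : ∃ z : PrimeSpectrum (Localization.AtPrime (q.asIdeal.comap (algebraMap A B))),
      comap (algebraMap A (Localization.AtPrime (q.asIdeal.comap (algebraMap A B)))) z = x :=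
    exists_comap_eq_of_le (comap (algebraMap A B) q) x hx
  let e := RingEquiv.ofBijective _ hq
  let w : PrimeSpectrum (Localization.AtPrime q.asIdeal) := comap e.symm.toRingHom z
  have hw : comap (Localization.localRingHom (q.asIdeal.comap (algebraMap A B)) q.asIdeal
      (algebraMap A B) rfl) w = z := by
    ext a
    change e.symm (e a) ∈ z.asIdeal ↔ a ∈ z.asIdeal
    rw [e.symm_apply_apply a]
  refine ⟨comap (algebraMap B (Localization.AtPrime q.asIdeal)) w, comap_le q w, ?_⟩
  rw [comap_comap_localRingHom, hw]
  exact hz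

/-- Local injectivity on spectra for a ring map inducing a bijection `A_p → B_q`. -/
theorem eq_of_le_of_comap_eq (q : PrimeSpectrum B)
    (hq : Function.Bijective (Localization.localRingHom (q.asIdeal.comap (algebraMap A B)) q.asIdeal
      (algebraMap A B) rfl))
    (y y' : PrimeSpectrum B) (hy : y ≤ q) (hy' : y' ≤ q)
    (h : comap (algebraMap A B) y = comap (algebraMap A B) y') : y = y' := by
  obtain ⟨w, rfl⟩ := exists_comap_eq_of_le q y hy
  obtain ⟨w', rfl⟩ := exists_comap_eq_of_le q y' hy'
  rw [comap_comap_localRingHom, comap_comap_localRingHom] at h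
  have h1 := localization_comap_injective
    (Localization.AtPrime (q.asIdeal.comap (algebraMap A B)))
    (q.asIdeal.comap (algebraMap A B)).primeCompl h
  have h2 := comap_injective_of_surjective _ hq.2 h1
  rw [h2]

/-- If `Spec B → Spec A` is injective and `A → B` identifies local rings, then elements outside a prime `q`
divide the image of an element of `A` outside `q ∩ A`. -/
theorem exists_mul_eq_algebraMap (h1 : EtPBC.IdentifiesLocalRings A B)
    (hinj : Function.Injective (comap (algebraMap A B))) (q : PrimeSpectrum B) (t : B)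
    (ht : t ∉ q.asIdeal) :
    ∃ (t' : B) (s : A), s ∉ q.asIdeal.comap (algebraMap A B) ∧ t * t' = algebraMap A B s := by
  by_contra hcon
  push Not at hcon
  let S : Submonoid B := Submonoid.map (algebraMap A B) (q.asIdeal.comap (algebraMap A B)).primeCompl
  have hdisj : Disjoint ((Ideal.span {t} : Ideal B) : Set B) S := by
    rw [Set.disjoint_left]
    rintro u hu ⟨s, hs, rfl⟩
    obtain ⟨t', ht'⟩ := Ideal.mem_span_singleton.mp hu
    exact hcon t' s hs ht'.symm
  obtain ⟨q', hq'prime, hle, hq'disj⟩ := Ideal.exists_le_prime_disjoint _ S hdisj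
  let y' : PrimeSpectrum B := ⟨q', hq'prime⟩
  have hy' : comap (algebraMap A B) y' ≤ comap (algebraMap A B) q := by
    intro a ha
    by_contra haq
    exact Set.disjoint_left.mp hq'disj ha ⟨a, haq, rfl⟩
  obtain ⟨y, hyq, hy⟩ := exists_le_comap_eq q (h1 q) _ hy'
  have : y = y' := hinj hy
  subst this
  exact ht (hyq (hle (Ideal.subset_span rfl)))

/-- A ring map which identifies local rings and is bijective on spectra is bijective. -/
theorem bijective_of_bijective_comap (h1 : EtPBC.IdentifiesLocalRings A B)
    (hbij : Function.Bijective (comap (algebraMap A B))) : Function.Bijective (algebraMap A B) := by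
  constructor
  · rw [injective_iff_map_eq_zero]
    intro a ha
    apply eq_zero_of_localization
    intro J hJ
    obtain ⟨q, hq⟩ := hbij.2 ⟨J, hJ.isPrime⟩
    obtain rfl : J = q.asIdeal.comap (algebraMap A B) := (congrArg PrimeSpectrum.asIdeal hq).symm
    apply (h1 q).1
    rw [Localization.localRingHom_to_map, ha, map_zero, map_zero]
  · intro b
    let I : Ideal A :=
      { carrier := {a | ∃ a', algebraMap A B a' = algebraMap A B a * b}
        add_mem' := by
          rintro a₁ a₂ ⟨a₁', h₁⟩ ⟨a₂', h₂⟩
          exact ⟨a₁' + a₂', by rw [map_add, map_add, h₁, h₂, add_mul]⟩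
        zero_mem' := ⟨0, by simp⟩
        smul_mem' := by
          rintro c a ⟨a', h⟩
          exact ⟨c * a', by rw [smul_eq_mul, map_mul, map_mul, h, mul_assoc]⟩ }
    suffices hI : I = ⊤ by
      have : (1 : A) ∈ I := hI ▸ Submodule.mem_top
      obtain ⟨a', ha'⟩ := this
      exact ⟨a', by rw [ha', map_one, one_mul]⟩
    by_contra hI
    obtain ⟨J, hJ, hIJ⟩ := Ideal.exists_le_maximal I hI
    obtain ⟨q, hq⟩ := hbij.2 ⟨J, hJ.isPrime⟩
    obtain rfl : J = q.asIdeal.comap (algebraMap A B) := (congrArg PrimeSpectrum.asIdeal hq).symm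
    obtain ⟨z, hz⟩ := (h1 q).2 (algebraMap B (Localization.AtPrime q.asIdeal) b)
    obtain ⟨a₁, s₁, rfl⟩ := IsLocalization.exists_mk'_eq
      (q.asIdeal.comap (algebraMap A B)).primeCompl z
    rw [Localization.localRingHom_mk', IsLocalization.mk'_eq_iff_eq_mul, ← map_mul,
      IsLocalization.eq_iff_exists q.asIdeal.primeCompl] at hz
    obtain ⟨⟨t, ht⟩, hz⟩ := hz
    obtain ⟨t', s, hs, hts⟩ := exists_mul_eq_algebraMap h1 hbij.1 q t ht
    have hmem : s * (s₁ : A) ∈ I := by
      refine ⟨s * a₁, ?_⟩
      simp only at hz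
      rw [map_mul, map_mul, ← hts]
      linear_combination t' * hz
    have := hIJ hmem
    exact ((Ideal.IsPrime.mul_mem_iff_mem_or_mem inferInstance).mp this).elim hs s₁.2

/-- A w-local map of w-local spectra identifying local rings and bijective on `π₀` is bijective. -/
theorem bijective_comap_of_wLocal (h1 : EtPBC.IdentifiesLocalRings A B)
    (h2 : ProEtW.IsWLocal (PrimeSpectrum A)) (h3 : ProEtW.IsWLocal (PrimeSpectrum B))
    (h4 : ProEtW.IsWLocalMap (comap (algebraMap A B)))
    (h5 : Function.Bijective (continuous_comap (algebraMap A B)).connectedComponentsMap) :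
    Function.Bijective (comap (algebraMap A B)) := by
  have hinj0 : ∀ y y' : PrimeSpectrum B, IsClosed ({y} : Set _) → IsClosed ({y'} : Set _) →
      comap (algebraMap A B) y = comap (algebraMap A B) y' → y = y' := by
    intro y y' hy hy' h
    have : (continuous_comap (algebraMap A B)).connectedComponentsMap (ConnectedComponents.mk y) =
        (continuous_comap (algebraMap A B)).connectedComponentsMap (ConnectedComponents.mk y') := by
      change ConnectedComponents.mk (comap (algebraMap A B) y) =
        ConnectedComponents.mk (comap (algebraMap A B) y')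
      rw [h]
    exact WLocalTop.eq_of_mk_eq_of_isClosed h3 hy hy' (h5.1 this)
  have hsurj0 : ∀ x : PrimeSpectrum A, IsClosed ({x} : Set _) →
      ∃ y : PrimeSpectrum B, IsClosed ({y} : Set _) ∧ comap (algebraMap A B) y = x := by
    intro x hx
    obtain ⟨c, hc⟩ := h5.2 (ConnectedComponents.mk x)
    obtain ⟨y₀, hy₀, rfl⟩ := WLocalTop.exists_isClosed_singleton_mk_eq h3 c
    have : ConnectedComponents.mk (comap (algebraMap A B) y₀) = ConnectedComponents.mk x := hc
    exact ⟨y₀, hy₀, WLocalTop.eq_of_mk_eq_of_isClosed h2 (h4.2 y₀ hy₀) hx this⟩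
  constructor
  · intro y y' h
    obtain ⟨y₀, ⟨hy₀c, hyy₀⟩, -⟩ := h3.2.2 y
    obtain ⟨y₀', ⟨hy₀'c, hyy₀'⟩, -⟩ := h3.2.2 y'
    have hs : comap (algebraMap A B) y ⤳ comap (algebraMap A B) y₀ :=
      hyy₀.map (continuous_comap _)
    have hs' : comap (algebraMap A B) y ⤳ comap (algebraMap A B) y₀' := by
      rw [h]
      exact hyy₀'.map (continuous_comap _)
    have h0 : comap (algebraMap A B) y₀ = comap (algebraMap A B) y₀' :=
      (h2.2.2 (comap (algebraMap A B) y)).unique ⟨h4.2 y₀ hy₀c, hs⟩ ⟨h4.2 y₀' hy₀'c, hs'⟩
    have h00 : y₀ = y₀' := hinj0 y₀ y₀' hy₀c hy₀'c h0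
    subst h00
    exact eq_of_le_of_comap_eq y₀ (h1 y₀) y y' ((le_iff_specializes _ _).mpr hyy₀)
      ((le_iff_specializes _ _).mpr hyy₀') h
  · intro x
    obtain ⟨x₀, ⟨hx₀c, hxx₀⟩, -⟩ := h2.2.2 x
    obtain ⟨y₀, hy₀, rfl⟩ := hsurj0 x₀ hx₀c
    obtain ⟨y, -, hy⟩ := exists_le_comap_eq y₀ (h1 y₀) x ((le_iff_specializes _ _).mpr hxx₀)
    exact ⟨y, hy⟩

end Groth.Agent.R2.H3.LocIso
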