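import Mathlib

/-!
# The spectrum of the ring of locally constant functions on a profinite space (helper3)

For a profinite space `T` and a ring `A`, `Spec (LocallyConstant T A) ≃ₜ Spec A × T`
(`specHomeo`), and the spectrum of a localization `M⁻¹ (LocallyConstant T A)` is the subspace of pairs
`(x, t)` with `φ t ∉ x` for all `φ ∈ M` (`specLocHomeo`).
-/

set_option autoImplicit false
set_option linter.style.haveILetI false

universe u

namespace Groth.Agent.R2.H3.LCSpec

open LocallyConstant PrimeSpectrum Topology TopologicalSpace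

variable {T : Type u} [TopologicalSpace T] {A : Type u} [CommRing A]

lemma charFn_of_mem {N : Set T} (hN : IsClopen N) {t : T} (ht : t ∈ N) :
    charFn A hN t = 1 := by
  rw [coe_charFn]
  exact Set.indicator_of_mem ht _

lemma charFn_of_notMem {N : Set T} (hN : IsClopen N) {t : T} (ht : t ∉ N) :
    charFn A hN t = 0 := by
  rw [coe_charFn]
  exact Set.indicator_of_notMem ht _

/-- The point of `Spec (LocallyConstant T A)` attached to a pair `(x, t)`. -/
def pt (p : PrimeSpectrum A × T) : PrimeSpectrum (LocallyConstant T A) :=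
  comap (evalRingHom p.2) p.1

lemma mem_pt_iff (p : PrimeSpectrum A × T) (φ : LocallyConstant T A) :
    φ ∈ (pt p).asIdeal ↔ φ p.2 ∈ p.1.asIdeal := Iff.rfl

lemma comap_const_pt (p : PrimeSpectrum A × T) :
    comap (constRingHom : A →+* LocallyConstant T A) (pt p) = p.1 := by
  ext a
  rfl

variable [CompactSpace T] [T2Space T] [TotallyDisconnectedSpace T]

lemma pt_injective : Function.Injective (pt (T := T) (A := A)) := by
  rintro ⟨x, t⟩ ⟨x', t'⟩ h
  have hmem : ∀ φ : LocallyConstant T A, φ t ∈ x.asIdeal ↔ φ t' ∈ x'.asIdeal := fun φ => by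
    rw [← mem_pt_iff (x, t), ← mem_pt_iff (x', t'), h]
  have ht : t = t' := by
    by_contra hne
    obtain ⟨N, hN, htN, ht'N⟩ := exists_isClopen_of_totally_separated hne
    have := hmem (charFn A hN)
    rw [charFn_of_mem hN htN, charFn_of_notMem hN ht'N] at this
    exact x.2.ne_top ((Ideal.eq_top_iff_one _).mpr (this.mpr (Ideal.zero_mem _)))
  subst ht
  have hx : x = x' := by
    ext a
    exact hmem (const T a)
  rw [hx]

omit [CompactSpace T] [T2Space T] [TotallyDisconnectedSpace T] in
/-- `φ * 1_N = a * 1_N` where `N` is the fibre of `φ` over `a`. -/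
lemma mul_charFn_fiber (φ : LocallyConstant T A) (a : A) :
    φ * charFn A (φ.isLocallyConstant.isClopen_fiber a) =
      const T a * charFn A (φ.isLocallyConstant.isClopen_fiber a) := by
  ext t
  by_cases ht : t ∈ {t | φ t = a}
  · rw [mul_apply, mul_apply, charFn_of_mem _ ht]
    simp only [coe_const, Function.const_apply, mul_one]
    exact ht
  · rw [mul_apply, mul_apply, charFn_of_notMem _ ht, mul_zero, mul_zero]

omit [T2Space T] [TotallyDisconnectedSpace T] in
lemma pt_surjective : Function.Surjective (pt (T := T) (A := A)) := by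
  intro P
  -- the filter of clopens whose characteristic function is not in `P`
  let F : Set (Set T) := {N | ∃ hN : IsClopen N, charFn A hN ∉ P.asIdeal}
  have hinter : ∀ N ∈ F, ∀ N' ∈ F, N ∩ N' ∈ F := by
    rintro N ⟨hN, h1⟩ N' ⟨hN', h2⟩
    refine ⟨hN.inter hN', fun h => ?_⟩
    have : charFn A (hN.inter hN') = charFn A hN * charFn A hN' := by
      ext t
      by_cases h1 : t ∈ N <;> by_cases h2 : t ∈ N'
      · rw [mul_apply, charFn_of_mem hN h1, charFn_of_mem hN' h2,
          charFn_of_mem (hN.inter hN') ⟨h1, h2⟩, mul_one]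
      · rw [mul_apply, charFn_of_mem hN h1, charFn_of_notMem hN' h2,
          charFn_of_notMem (hN.inter hN') (fun h => h2 h.2), mul_zero]
      · rw [mul_apply, charFn_of_notMem hN h1,
          charFn_of_notMem (hN.inter hN') (fun h => h1 h.1), zero_mul]
      · rw [mul_apply, charFn_of_notMem hN h1,
          charFn_of_notMem (hN.inter hN') (fun h => h1 h.1), zero_mul]
    rw [this] at h
    exact (P.2.mem_or_mem h).elim h1 h2
  have hne : ∀ N ∈ F, N.Nonempty := by
    rintro N ⟨hN, h1⟩
    by_contra hN0
    rw [Set.not_nonempty_iff_eq_empty] at hN0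
    apply h1
    have : charFn A hN = 0 := by
      ext t
      rw [charFn_of_notMem hN (by rw [hN0]; exact Set.notMem_empty t)]
      rfl
    rw [this]
    exact Ideal.zero_mem _
  have hcompl : ∀ N : Set T, ∀ hN : IsClopen N, N ∉ F → Nᶜ ∈ F := by
    intro N hN hNF
    refine ⟨hN.compl, fun h => ?_⟩
    have h1 : charFn A hN ∈ P.asIdeal := by
      by_contra h1
      exact hNF ⟨hN, h1⟩
    have : charFn A hN + charFn A hN.compl = 1 := by
      ext t
      by_cases ht : t ∈ N
      · rw [LocallyConstant.add_apply, charFn_of_mem _ ht,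
          charFn_of_notMem _ (fun h : t ∈ Nᶜ => h ht), add_zero]
        rfl
      · rw [LocallyConstant.add_apply, charFn_of_notMem _ ht, charFn_of_mem hN.compl ht, zero_add]
        rfl
    exact P.2.ne_top ((Ideal.eq_top_iff_one _).mpr (this ▸ P.asIdeal.add_mem h1 h))
  -- the intersection of `F` is nonempty
  have hI : (⋂ N : F, (N : Set T)).Nonempty := by
    by_contra hemp
    rw [Set.not_nonempty_iff_eq_empty] at hemp
    obtain ⟨s, hs⟩ := isCompact_univ.elim_finite_subfamily_closed (fun N : F => (N : Set T))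
      (fun N => N.2.choose.1) (by rw [Set.univ_inter]; exact hemp)
    rw [Set.univ_inter] at hs
    have hmem : ∀ s : Finset F, (⋂ N ∈ s, (N : Set T)) ∈ F ∨ (⋂ N ∈ s, (N : Set T)) = Set.univ := by
      intro s
      induction s using Finset.induction_on with
      | empty => right; simp
      | insert a s _ ih =>
        rw [Finset.set_biInter_insert]
        rcases ih with ih | ih
        · left; exact hinter _ a.2 _ ih
        · left; rw [ih, Set.inter_univ]; exact a.2
    rcases hmem s with h | h
    · exact (hne _ h).ne_empty hs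
    · rw [h] at hs
      obtain ⟨t⟩ : Nonempty T := by
        by_contra hT
        rw [not_nonempty_iff] at hT
        -- then `1 = 0` in the ring, contradiction with `P` prime
        have : (1 : LocallyConstant T A) = 0 := by ext t; exact (hT.false t).elim
        exact P.2.ne_top ((Ideal.eq_top_iff_one _).mpr (this ▸ Ideal.zero_mem _))
      exact (Set.nonempty_iff_univ_nonempty.mp ⟨t⟩).ne_empty hs
  obtain ⟨t, ht⟩ := hI
  rw [Set.mem_iInter] at ht
  refine ⟨(comap (constRingHom : A →+* LocallyConstant T A) P, t), ?_⟩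
  ext φ
  rw [mem_pt_iff]
  show const T (φ t) ∈ P.asIdeal ↔ φ ∈ P.asIdeal
  have hN : {s | φ s = φ t} ∈ F := by
    by_contra hNF
    have := ht ⟨_, hcompl _ (φ.isLocallyConstant.isClopen_fiber (φ t)) hNF⟩
    exact this rfl
  obtain ⟨hN', hχ⟩ := hN
  have key := mul_charFn_fiber φ (φ t)
  constructor
  · intro h
    have : φ * charFn A hN' ∈ P.asIdeal := by
      rw [key]
      exact Ideal.mul_mem_right _ _ h
    exact (P.2.mem_or_mem this).resolve_right hχ
  · intro h
    have : const T (φ t) * charFn A hN' ∈ P.asIdeal := by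
      rw [← key]
      exact Ideal.mul_mem_right _ _ h
    exact (P.2.mem_or_mem this).resolve_right hχ

omit [CompactSpace T] [T2Space T] [TotallyDisconnectedSpace T] in
lemma pt_continuous : Continuous (pt (T := T) (A := A)) := by
  rw [PrimeSpectrum.isTopologicalBasis_basic_opens.continuous_iff]
  rintro _ ⟨φ, rfl⟩
  rw [isOpen_iff_forall_mem_open]
  rintro ⟨x, t⟩ hxt
  have hxt' : φ t ∉ x.asIdeal := hxt
  refine ⟨(basicOpen (φ t) : Set (PrimeSpectrum A)) ×ˢ {s | φ s = φ t}, ?_,
    (basicOpen (φ t)).2.prod (φ.isLocallyConstant.isClopen_fiber (φ t)).2, ⟨hxt', rfl⟩⟩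
  rintro ⟨y, s⟩ ⟨hy, hs⟩
  show φ s ∉ y.asIdeal
  rw [hs]
  exact hy

lemma pt_isOpenMap : IsOpenMap (pt (T := T) (A := A)) := by
  have hB := (PrimeSpectrum.isTopologicalBasis_basic_opens (R := A)).prod
    (isTopologicalBasis_isClopen (X := T))
  rw [hB.isOpenMap_iff]
  rintro _ ⟨_, ⟨a, rfl⟩, N, hN, rfl⟩
  have hN' : IsClopen N := hN
  have : pt '' ((fun r => (basicOpen r : Set (PrimeSpectrum A))) a ×ˢ N) =
      (basicOpen (const T a * charFn A hN') : Set (PrimeSpectrum (LocallyConstant T A))) := by
    ext Q
    constructor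
    · rintro ⟨⟨x, t⟩, ⟨hx, ht⟩, rfl⟩
      show (const T a * charFn A hN') t ∉ x.asIdeal
      rw [mul_apply, charFn_of_mem _ ht, mul_one]
      exact hx
    · intro hQ
      obtain ⟨⟨x, t⟩, rfl⟩ := pt_surjective Q
      have hQ' : (const T a * charFn A hN') t ∉ x.asIdeal := hQ
      have ht : t ∈ N := by
        by_contra ht
        rw [mul_apply, charFn_of_notMem _ ht, mul_zero] at hQ'
        exact hQ' (Ideal.zero_mem _)
      rw [mul_apply, charFn_of_mem _ ht, mul_one] at hQ'
      exact ⟨(x, t), ⟨hQ', ht⟩, rfl⟩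
  rw [this]
  exact (basicOpen _).2

/-- `Spec A × T ≃ₜ Spec (LocallyConstant T A)` for profinite `T`. -/
noncomputable def specHomeo : PrimeSpectrum A × T ≃ₜ PrimeSpectrum (LocallyConstant T A) :=
  (Equiv.ofBijective pt ⟨pt_injective, pt_surjective⟩).toHomeomorphOfContinuousOpen
    pt_continuous pt_isOpenMap

@[simp] lemma specHomeo_apply (p : PrimeSpectrum A × T) : specHomeo p = pt p := rfl

/-- The subspace of `Spec A × T` cut out by a submonoid `M` of `LocallyConstant T A`. -/
def locSet (M : Submonoid (LocallyConstant T A)) : Set (PrimeSpectrum A × T) :=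
  {p | ∀ φ ∈ M, φ p.2 ∉ p.1.asIdeal}

omit [CompactSpace T] [T2Space T] [TotallyDisconnectedSpace T] in
lemma mem_locSet_iff (M : Submonoid (LocallyConstant T A)) (p : PrimeSpectrum A × T) :
    p ∈ locSet M ↔ ∀ φ ∈ M, φ p.2 ∉ p.1.asIdeal := Iff.rfl

/-- The spectrum of a localization of `LocallyConstant T A`. -/
theorem exists_specLocHomeo (M : Submonoid (LocallyConstant T A)) (L : Type u) [CommRing L]
    [Algebra (LocallyConstant T A) L] [IsLocalization M L] [Algebra A L]
    [IsScalarTower A (LocallyConstant T A) L] :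
    ∃ e : PrimeSpectrum L ≃ₜ locSet M, ∀ y : PrimeSpectrum L,
      (e y).1.1 = comap (algebraMap A L) y ∧
      pt (e y).1 = comap (algebraMap (LocallyConstant T A) L) y := by
  let j : PrimeSpectrum L → PrimeSpectrum A × T :=
    fun y => specHomeo.symm (comap (algebraMap (LocallyConstant T A) L) y)
  have hj : IsEmbedding j :=
    specHomeo.symm.isEmbedding.comp (localization_comap_isEmbedding L M)
  have hptj : ∀ y, pt (j y) = comap (algebraMap (LocallyConstant T A) L) y := fun y =>
    specHomeo.apply_symm_apply _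
  have hrange : Set.range j = locSet M := by
    ext p
    constructor
    · rintro ⟨y, rfl⟩ φ hφ hmem
      have h1 : comap (algebraMap (LocallyConstant T A) L) y ∈
          Set.range (comap (algebraMap (LocallyConstant T A) L)) := ⟨y, rfl⟩
      rw [localization_comap_range L M] at h1
      have h2 : φ ∈ (pt (j y)).asIdeal := hmem
      rw [hptj] at h2
      exact Set.disjoint_left.mp h1 hφ h2
    · intro hp
      have h1 : pt p ∈ Set.range (comap (algebraMap (LocallyConstant T A) L)) := by
        rw [localization_comap_range L M]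
        exact Set.disjoint_left.mpr fun φ hφ hmem => hp φ hφ hmem
      obtain ⟨y, hy⟩ := h1
      refine ⟨y, ?_⟩
      show specHomeo.symm _ = p
      rw [hy, ← specHomeo_apply, specHomeo.symm_apply_apply]
  refine ⟨hj.toHomeomorph.trans (Homeomorph.setCongr hrange), fun y => ⟨?_, hptj y⟩⟩
  show (j y).1 = _
  rw [← comap_const_pt (j y), hptj, ← comap_comp_apply]
  congr 1
  ext a
  rw [IsScalarTower.algebraMap_apply A (LocallyConstant T A) L]
  rfl

end Groth.Agent.R2.H3.LCSpec
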