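import Mathlib
import Groth.Agent.R2.H3IndZarFactor
import Groth.Agent.R2.H3FPLoc
import Groth.Agent.Lib.Helper3IndEtFP

/-!
# Ind-Zariski algebras: localizations, flatness (helper3)

* `factor_of_isLocalization`: if `B` is ind-Zariski over `A` (in the form `Factor A B`), so is any
  localization of `B`.
* `flat_of_factor`: ind-Zariski algebras are flat.
-/

set_option autoImplicit false
set_option linter.style.haveILetI false

universe u

namespace Groth.Agent.R2.H3.IndZarFactor

open Groth.Agent.Lib.Helper3.IndEt Groth.Agent.R2.H3.FPLoc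

theorem factor_of_isLocalization {A B L : Type u} [CommRing A] [CommRing B] [Algebra A B]
    [CommRing L] [Algebra B L] [Algebra A L] [IsScalarTower A B L] (M : Submonoid B)
    [IsLocalization M L] (H : Factor A B) : Factor A L := by
  intro P _ _ _ ψ
  obtain ⟨s, ψs, hs⟩ := exists_factor_localization (R := A) M ψ
  obtain ⟨Q, _, _, _, χ, q, ψ', hχq, hlam⟩ :=
    exists_fp_model_away (σ := (s : B)) (L := Localization.Away (s : B)) ψs
  obtain ⟨E, _, _, _, f, g, hfg⟩ := H Q χ
  haveI : Algebra.IsLocalIso A (Localization.Away (f q)) :=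
    Algebra.IsLocalIso.trans A E (Localization.Away (f q))
  have hgf : ∀ x, g (f x) = χ x := fun x => congr($hfg x)
  have hunitα : ∀ y : Submonoid.powers q,
      IsUnit (((IsScalarTower.toAlgHom A E (Localization.Away (f q))).comp f) y) := by
    rintro ⟨_, k, rfl⟩
    show IsUnit (algebraMap E (Localization.Away (f q)) (f (q ^ k)))
    rw [map_pow, map_pow]
    exact (IsLocalization.Away.algebraMap_isUnit (f q)).pow k
  let α : Localization.Away q →ₐ[A] Localization.Away (f q) :=
    IsLocalization.liftAlgHom (M := Submonoid.powers q) hunitα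
  have hα : ∀ x : Q, α (algebraMap Q _ x) = algebraMap E (Localization.Away (f q)) (f x) := by
    intro x
    show IsLocalization.lift _ _ = _
    rw [IsLocalization.lift_eq]
    rfl
  have hunitβ : ∀ y : Submonoid.powers (f q),
      IsUnit (((IsScalarTower.toAlgHom A B (Localization.Away (s : B))).comp g) y) := by
    rintro ⟨_, k, rfl⟩
    show IsUnit (algebraMap B (Localization.Away (s : B)) (g (f q ^ k)))
    rw [map_pow, map_pow, hgf, hχq]
    exact (IsLocalization.Away.algebraMap_isUnit (s : B)).pow k
  let β : Localization.Away (f q) →ₐ[A] Localization.Away (s : B) :=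
    IsLocalization.liftAlgHom (M := Submonoid.powers (f q)) hunitβ
  have hβ : ∀ x : E, β (algebraMap E _ x) = algebraMap B (Localization.Away (s : B)) (g x) := by
    intro x
    show IsLocalization.lift _ _ = _
    rw [IsLocalization.lift_eq]
    rfl
  refine ⟨Localization.Away (f q), inferInstance, inferInstance, inferInstance, α.comp ψ',
    (awayTo M s).comp β, ?_⟩
  have h1 : (β.comp α).comp ψ' = ψs := by
    apply hlam
    intro x
    rw [AlgHom.comp_apply, hα, hβ, hgf]
  rw [← hs, ← h1]
  rfl

/-- Ind-Zariski algebras (in the form `Factor`) are flat. -/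
theorem flat_of_factor {A B : Type u} [CommRing A] [CommRing B] [Algebra A B]
    (H : Factor A B) : Module.Flat A B := by
  refine Module.Flat.of_forall_isTrivialRelation fun {l f x} h => ?_
  classical
  let rel : MvPolynomial (Fin l) A := ∑ i, MvPolynomial.C (f i) * MvPolynomial.X i
  let I : Ideal (MvPolynomial (Fin l) A) := Ideal.span {rel}
  haveI : Algebra.FinitePresentation A (MvPolynomial (Fin l) A ⧸ I) :=
    Algebra.FinitePresentation.quotient ⟨{rel}, by simp [I]⟩
  have hrel : MvPolynomial.aeval x rel = 0 := by
    simp only [rel, map_sum, map_mul, MvPolynomial.aeval_C, MvPolynomial.aeval_X]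
    simp_rw [← Algebra.smul_def]
    exact h
  let ψ : (MvPolynomial (Fin l) A ⧸ I) →ₐ[A] B :=
    Ideal.Quotient.liftₐ I (MvPolynomial.aeval x) (fun a ha => by
      obtain ⟨z, rfl⟩ := Ideal.mem_span_singleton'.mp ha
      rw [map_mul, hrel, mul_zero])
  obtain ⟨E, _, _, hE, u, v, huv⟩ := H _ ψ
  haveI : Module.Flat A E := by
    refine Module.flat_of_isLocalized_span (R := A) (S := E) (M := E)
      {g : E | Algebra.IsStandardOpenImmersion A (Localization.Away g)}
      (Algebra.IsLocalIso.span_isStandardOpenImmersion_eq_top A E)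
      (fun r => Localization.Away r.1) (fun r => Algebra.linearMap E (Localization.Away r.1)) ?_
    rintro ⟨g, hg⟩
    obtain ⟨r, hr⟩ := hg.exists_away
    exact IsLocalization.flat (Localization.Away g) (Submonoid.powers r)
  let x' : Fin l → E := fun i => u (Ideal.Quotient.mk I (MvPolynomial.X i))
  have hx' : ∀ i, v (x' i) = x i := fun i => by
    have := congr($huv (Ideal.Quotient.mk I (MvPolynomial.X i)))
    rw [AlgHom.comp_apply] at this
    rw [this]
    simp [ψ]
  have h0 : ∑ i, f i • x' i = 0 := by
    have h1 : Ideal.Quotient.mk I rel = 0 :=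
      Ideal.Quotient.eq_zero_iff_mem.mpr (Ideal.subset_span rfl)
    have h2 := congr(u $h1)
    rw [map_zero] at h2
    rw [← h2]
    simp only [rel, map_sum, map_mul]
    refine Finset.sum_congr rfl (fun i _ => ?_)
    rw [Algebra.smul_def]
    congr 1
    show algebraMap A E (f i) = u (algebraMap A _ (f i))
    rw [u.commutes]
  have h0' : Module.IsTrivialRelation f x' := by
    apply Module.Flat.isTrivialRelation_of_sum_smul_eq_zero
    exact h0
  obtain ⟨k, a, y, hxy, hfa⟩ := h0'
  refine ⟨k, a, fun j => v (y j), fun i => ?_, hfa⟩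
  rw [← hx', hxy, map_sum]
  refine Finset.sum_congr rfl (fun j _ => ?_)
  rw [map_smul]

end Groth.Agent.R2.H3.IndZarFactor
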