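import Mathlib
import Groth.Agent.R2.H3IndZarFactor

/-!
# Locally constant functions with values in an ind-Zariski algebra (helper3)

`factor_locallyConstant`: if `A'` is ind-Zariski over `A` (in the form `Factor A A'`) and `T` is a compact
space, then `LocallyConstant T A'` is ind-Zariski over `A`.
-/

set_option autoImplicit false
set_option linter.style.haveILetI false

universe u

namespace Groth.Agent.R2.H3.IndZarFactor

open LocallyConstant MvPolynomial

theorem factor_locallyConstant {A A' : Type u} [CommRing A] [CommRing A'] [Algebra A A']
    (T : Type u) [TopologicalSpace T] [CompactSpace T] (H : Factor A A') :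
    Factor A (LocallyConstant T A') := by
  intro P _ _ _ ψ
  classical
  obtain ⟨n, π, hπ, -⟩ := Algebra.FinitePresentation.out (R := A) (A := P)
  let v : T → (Fin n → A') := fun t i => ψ (π (X i)) t
  have hv : IsLocallyConstant v := by
    rw [IsLocallyConstant.iff_exists_open]
    intro t
    refine ⟨⋂ i, {s | ψ (π (X i)) s = ψ (π (X i)) t},
      isOpen_iInter_of_finite
        (fun i => ((ψ (π (X i))).isLocallyConstant.isClopen_fiber _).2),
      Set.mem_iInter.mpr fun i => rfl, ?_⟩
    intro s hs
    funext i
    exact Set.mem_iInter.mp hs i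
  haveI : Finite (Set.range v) := hv.range_finite
  have hι : IsLocallyConstant (Set.rangeFactorization v) :=
    IsLocallyConstant.desc (Set.rangeFactorization v) Subtype.val hv Subtype.val_injective
  let ι : LocallyConstant T (Set.range v) := ⟨Set.rangeFactorization v, hι⟩
  have hιv : ∀ t, (ι t).1 = v t := fun t => rfl
  have hev : ∀ (a : MvPolynomial (Fin n) A) (t : T), ψ (π a) t = aeval (v t) a := by
    intro a t
    have : ((evalₐ A t).comp (ψ.comp π)) = aeval (v t) := by
      apply MvPolynomial.algHom_ext
      intro i
      rw [aeval_X]
      rfl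
    exact congr($this a)
  choose tw htw using fun w : Set.range v => w.2
  let ψw : ∀ w : Set.range v, P →ₐ[A] A' := fun w => (evalₐ A (tw w)).comp ψ
  choose E instE1 instE2 hE α β hαβ using fun w => H P (ψw w)
  haveI : Algebra.IsLocalIso A (∀ w, E w) := Algebra.IsLocalIso.pi_of_finite A E
  let β' : (∀ w, E w) →ₐ[A] LocallyConstant T A' :=
    { toFun := fun x => ι.map (fun w => β w (x w))
      map_one' := by
        ext t
        simp
      map_mul' := fun x y => by
        ext t
        simp
      map_zero' := by
        ext t
        simp
      map_add' := fun x y => by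
        ext t
        simp
      commutes' := fun a => by
        ext t
        simp }
  refine ⟨∀ w, E w, inferInstance, inferInstance, inferInstance, AlgHom.pi α, β', ?_⟩
  apply AlgHom.ext
  intro p
  obtain ⟨a, rfl⟩ := hπ p
  ext t
  show β (ι t) (α (ι t) (π a)) = ψ (π a) t
  have h1 : β (ι t) (α (ι t) (π a)) = ψw (ι t) (π a) := congr($(hαβ (ι t)) (π a))
  rw [h1]
  show ψ (π a) (tw (ι t)) = ψ (π a) t
  rw [hev, hev, htw, hιv]

end Groth.Agent.R2.H3.IndZarFactor
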