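import Mathlib
import Groth.Prelude.Def_ProEtW
import Groth.Agent.R2.H3LCSpec
import Groth.Agent.R2.H3LCFactor
import Groth.Agent.R2.H3IndZarLoc
import Groth.Agent.Lib.Helper10Pi0
import Groth.Agent.S0703

/-!
# Realizing profinite spaces over `π₀(Spec A)` by ind-Zariski algebras (helper3)

For `g : T → π₀(Spec A)` with `T` profinite we construct `B = M⁻¹ LocallyConstant T A`, an ind-Zariski
`A`-algebra with `Spec B = Spec A ×_{π₀(Spec A)} T`.
-/

set_option autoImplicit false
set_option linter.style.haveILetI false

universe u

namespace Groth.Agent.R2.H3.ProfReal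

open LocallyConstant PrimeSpectrum Topology TopologicalSpace
open Groth.Agent.R2.H3.LCSpec Groth.Agent.R2.H3.IndZarFactor

/-- `A` is ind-Zariski over itself. -/
theorem factor_refl (A : Type u) [CommRing A] : Factor A A := by
  intro P _ _ _ ψ
  exact ⟨A, inferInstance, inferInstance, inferInstance, ψ, AlgHom.id A A, AlgHom.id_comp ψ⟩

/-- A localization of `LocallyConstant T A'` (`T` compact) is ind-Zariski over `A` when `A'` is. -/
theorem factor_localization_locallyConstant {A A' : Type u} [CommRing A] [CommRing A'] [Algebra A A']
    (H : Factor A A') (T : Type u) [TopologicalSpace T] [CompactSpace T]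
    (M : Submonoid (LocallyConstant T A')) (L : Type u) [CommRing L]
    [Algebra (LocallyConstant T A') L] [IsLocalization M L] [Algebra A L]
    [IsScalarTower A (LocallyConstant T A') L] : Factor A L :=
  factor_of_isLocalization M (factor_locallyConstant T H)

/-- The homeomorphism on `π₀` induced by a homeomorphism. -/
noncomputable def pi0Homeo {X Y : Type*} [TopologicalSpace X] [TopologicalSpace Y] (Ψ : X ≃ₜ Y) :
    ConnectedComponents X ≃ₜ ConnectedComponents Y where
  toFun := Ψ.continuous.connectedComponentsMap
  invFun := Ψ.symm.continuous.connectedComponentsMap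
  left_inv := by
    intro c
    obtain ⟨x, rfl⟩ := ConnectedComponents.surjective_coe c
    show Ψ.symm.continuous.connectedComponentsMap (Ψ.continuous.connectedComponentsMap (.mk x)) = _
    rw [Continuous.connectedComponentsMap_mk, Continuous.connectedComponentsMap_mk,
      Ψ.symm_apply_apply]
  right_inv := by
    intro c
    obtain ⟨x, rfl⟩ := ConnectedComponents.surjective_coe c
    show Ψ.continuous.connectedComponentsMap (Ψ.symm.continuous.connectedComponentsMap (.mk x)) = _
    rw [Continuous.connectedComponentsMap_mk, Continuous.connectedComponentsMap_mk,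
      Ψ.apply_symm_apply]
  continuous_toFun := Ψ.continuous.connectedComponentsMap_continuous
  continuous_invFun := Ψ.symm.continuous.connectedComponentsMap_continuous

lemma pi0Homeo_mk {X Y : Type*} [TopologicalSpace X] [TopologicalSpace Y] (Ψ : X ≃ₜ Y) (x : X) :
    pi0Homeo Ψ (ConnectedComponents.mk x) = ConnectedComponents.mk (Ψ x) :=
  Continuous.connectedComponentsMap_mk Ψ.continuous x

section

variable (A : Type u) [CommRing A] (T : Type u) [TopologicalSpace T] [CompactSpace T] [T2Space T]
  [TotallyDisconnectedSpace T] (g : C(T, ConnectedComponents (PrimeSpectrum A)))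

/-- The generators of the multiplicative set. -/
def gens : Set (LocallyConstant T A) :=
  {η | ∃ (V : Set (ConnectedComponents (PrimeSpectrum A))) (hV : IsClopen V) (e f : A),
    e * f = 0 ∧ e + f = 1 ∧
    (ConnectedComponents.mk ⁻¹' V : Set (PrimeSpectrum A)) = basicOpen e ∧
    η = const T e * charFn A (hV.preimage g.continuous) +
      const T f * charFn A (hV.preimage g.continuous).compl}

/-- The multiplicative set. -/
def mset : Submonoid (LocallyConstant T A) := Submonoid.closure (gens A T g)

omit [CompactSpace T] [T2Space T] [TotallyDisconnectedSpace T] in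
theorem locSet_mset :
    locSet (mset A T g) = {p : PrimeSpectrum A × T | ConnectedComponents.mk p.1 = g p.2} := by
  haveI : T2Space (ConnectedComponents (PrimeSpectrum A)) :=
    Groth.Agent.Lib.Helper10.Pi0.t2Space_connectedComponents
  ext ⟨x, t⟩
  rw [mem_locSet_iff]
  constructor
  · intro h
    by_contra hne
    have hne' : ConnectedComponents.mk x ≠ g t := hne
    obtain ⟨V, hV, hxV, htV⟩ := exists_isClopen_of_totally_separated hne'
    obtain ⟨e, f, hef, hef1, hVe⟩ :=
      isClopen_iff_mul_add.mp (hV.preimage ConnectedComponents.continuous_coe)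
    have hmem : const T e * charFn A (hV.preimage g.continuous) +
        const T f * charFn A (hV.preimage g.continuous).compl ∈ mset A T g :=
      Submonoid.subset_closure ⟨V, hV, e, f, hef, hef1, hVe, rfl⟩
    have := h _ hmem
    have htV' : t ∉ g ⁻¹' V := htV
    simp only [LocallyConstant.add_apply, LocallyConstant.mul_apply, coe_const,
      Function.const_apply] at this
    rw [charFn_of_notMem _ htV', charFn_of_mem (hV.preimage g.continuous).compl htV', mul_zero,
      zero_add, mul_one] at this
    have hx : x ∈ (basicOpen e : Set (PrimeSpectrum A)) := by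
      rw [← hVe]
      exact hxV
    have hex : e ∉ x.asIdeal := hx
    have : e * f ∈ x.asIdeal := by rw [hef]; exact Ideal.zero_mem _
    rcases x.2.mem_or_mem this with h1 | h1
    · exact hex h1
    · exact ‹f ∉ x.asIdeal› h1
  · intro h φ hφ
    have h' : ConnectedComponents.mk x = g t := h
    induction hφ using Submonoid.closure_induction with
    | mem η hη =>
      obtain ⟨V, hV, e, f, hef, hef1, hVe, rfl⟩ := hη
      simp only [LocallyConstant.add_apply, LocallyConstant.mul_apply, coe_const,
        Function.const_apply]
      by_cases htV : t ∈ g ⁻¹' V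
      · rw [charFn_of_mem _ htV, charFn_of_notMem (hV.preimage g.continuous).compl
          (fun h : t ∈ (g ⁻¹' V)ᶜ => h htV), mul_zero, add_zero, mul_one]
        have : x ∈ (ConnectedComponents.mk ⁻¹' V : Set (PrimeSpectrum A)) := by
          show ConnectedComponents.mk x ∈ V
          rw [h']
          exact htV
        rw [hVe] at this
        exact this
      · rw [charFn_of_notMem _ htV, charFn_of_mem (hV.preimage g.continuous).compl htV, mul_zero,
          zero_add, mul_one]
        have hx : x ∉ (ConnectedComponents.mk ⁻¹' V : Set (PrimeSpectrum A)) := by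
          show ConnectedComponents.mk x ∉ V
          rw [h']
          exact htV
        rw [hVe] at hx
        have hex : e ∈ x.asIdeal := by
          by_contra hex
          exact hx hex
        intro hf
        exact x.2.ne_top ((Ideal.eq_top_iff_one _).mpr (hef1 ▸ x.asIdeal.add_mem hex hf))
    | one =>
      show (1 : A) ∉ x.asIdeal
      exact fun h1 => x.2.ne_top ((Ideal.eq_top_iff_one _).mpr h1)
    | mul φ₁ φ₂ _ _ h1 h2 =>
      rw [LocallyConstant.mul_apply]
      exact fun hm => (x.2.mem_or_mem hm).elim h1 h2

/-- **Realization of profinite spaces over `π₀`, over a base `A₀` over which `A` is ind-Zariski.** -/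
theorem exists_indZariski_realizing' {A₀ : Type u} [CommRing A₀] [Algebra A₀ A] (H : Factor A₀ A) :
    ∃ (B : Type u) (_ : CommRing B) (_ : Algebra A B) (_ : Algebra A₀ B) (_ : IsScalarTower A₀ A B)
      (Ψ : PrimeSpectrum B ≃ₜ
        {p : PrimeSpectrum A × T // ConnectedComponents.mk p.1 = g p.2}),
      Factor A₀ B ∧ Factor A B ∧ ∀ y, (Ψ y).1.1 = comap (algebraMap A B) y := by
  let B := Localization (mset A T g)
  obtain ⟨e₀, he₀⟩ := exists_specLocHomeo (mset A T g) B
  have hF : Factor A B :=
    factor_localization_locallyConstant (factor_refl A) T (mset A T g) B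
  have hF₀ : Factor A₀ B :=
    factor_localization_locallyConstant H T (mset A T g) B
  haveI : IsScalarTower A₀ A (LocallyConstant T A) := IsScalarTower.of_algebraMap_eq fun x => by
    ext t
    simp
  haveI : IsScalarTower A₀ A B := IsScalarTower.of_algebraMap_eq fun x => by
    show algebraMap A₀ B x = algebraMap A B (algebraMap A₀ A x)
    rw [IsScalarTower.algebraMap_apply A₀ (LocallyConstant T A) B,
      IsScalarTower.algebraMap_apply A (LocallyConstant T A) B,
      IsScalarTower.algebraMap_apply A₀ A (LocallyConstant T A)]
  let Ψ : PrimeSpectrum B ≃ₜ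
      {p : PrimeSpectrum A × T // ConnectedComponents.mk p.1 = g p.2} :=
    e₀.trans (Homeomorph.setCongr (locSet_mset A T g))
  exact ⟨B, inferInstance, inferInstance, inferInstance, inferInstance, Ψ, hF₀, hF,
    fun y => (he₀ y).1⟩

/-- **Realization of profinite spaces over `π₀`.** -/
theorem exists_indZariski_realizing :
    ∃ (B : Type u) (_ : CommRing B) (_ : Algebra A B)
      (Ψ : PrimeSpectrum B ≃ₜ
        {p : PrimeSpectrum A × T // ConnectedComponents.mk p.1 = g p.2}),
      Factor A B ∧ ∀ y, (Ψ y).1.1 = comap (algebraMap A B) y := by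
  let B := Localization (mset A T g)
  obtain ⟨e₀, he₀⟩ := exists_specLocHomeo (mset A T g) B
  have hF : Factor A B :=
    factor_localization_locallyConstant (factor_refl A) T (mset A T g) B
  let Ψ : PrimeSpectrum B ≃ₜ
      {p : PrimeSpectrum A × T // ConnectedComponents.mk p.1 = g p.2} :=
    e₀.trans (Homeomorph.setCongr (locSet_mset A T g))
  exact ⟨B, inferInstance, inferInstance, Ψ, hF, fun y => (he₀ y).1⟩

end

end Groth.Agent.R2.H3.ProfReal
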