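import Mathlib
import Groth.Prelude.Def_ProEtW
import Groth.Agent.R2.H3LCSpec
import Groth.Agent.R2.H3ProfReal
import Groth.Agent.Lib.Helper10Pi0

/-!
# Localizing `LocallyConstant T A` along a map `ρ : T → Spec A` (helper3)

For a profinite space `T` and `ρ : T → Spec A` such that all `ρ⁻¹ D(a)` are clopen, the ring
`B = M⁻¹ LocallyConstant T A`, `M = {φ | ∀ t, φ t ∉ ρ t}`, is ind-Zariski over `A`, and
`Spec B ≃ₜ {(y, t) | y ⤳ ρ t}`, a w-local space whose closed points are the pairs `(ρ t, t)`.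
-/

set_option autoImplicit false
set_option linter.style.haveILetI false

universe u

namespace Groth.Agent.R2.H3.RhoLoc

open LocallyConstant PrimeSpectrum Topology TopologicalSpace
open Groth.Agent.R2.H3.LCSpec Groth.Agent.R2.H3.IndZarFactor

variable (A : Type u) [CommRing A] (T : Type u) [TopologicalSpace T] (ρ : T → PrimeSpectrum A)

/-- The multiplicative set of functions not vanishing at `ρ t` for any `t`. -/
def mset : Submonoid (LocallyConstant T A) where
  carrier := {φ | ∀ t, φ t ∉ (ρ t).asIdeal}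
  one_mem' := fun t => (ρ t).2.one_notMem
  mul_mem' := fun {φ ψ} h1 h2 t => by
    rw [LocallyConstant.mul_apply]
    exact (ρ t).2.mul_notMem (h1 t) (h2 t)

/-- The space of pairs `(y, t)` with `y ⤳ ρ t`. -/
abbrev W : Type u := {p : PrimeSpectrum A × T // p.1 ≤ ρ p.2}

variable {A T}

theorem locSet_mset [CompactSpace T] [T2Space T] [TotallyDisconnectedSpace T]
    (hρ : ∀ a : A, IsOpen (ρ ⁻¹' (basicOpen a : Set (PrimeSpectrum A)))) :
    locSet (mset A T ρ) = {p : PrimeSpectrum A × T | p.1 ≤ ρ p.2} := by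
  ext ⟨y, t⟩
  rw [mem_locSet_iff]
  constructor
  · intro h a hay
    by_contra hat
    have ht : t ∈ ρ ⁻¹' (basicOpen a : Set (PrimeSpectrum A)) := hat
    obtain ⟨N, hN, htN, hNsub⟩ :=
      (isTopologicalBasis_isClopen (X := T)).exists_subset_of_mem_open ht (hρ a)
    have hN' : IsClopen N := hN
    let φ : LocallyConstant T A := const T a * charFn A hN' + charFn A hN'.compl
    have hφ : φ ∈ mset A T ρ := by
      intro s
      by_cases hs : s ∈ N
      · have : φ s = a := by
          simp only [φ, LocallyConstant.add_apply, LocallyConstant.mul_apply, coe_const,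
            Function.const_apply]
          rw [charFn_of_mem _ hs, charFn_of_notMem hN'.compl (fun h : s ∈ Nᶜ => h hs), mul_one,
            add_zero]
        rw [this]
        exact hNsub hs
      · have : φ s = 1 := by
          simp only [φ, LocallyConstant.add_apply, LocallyConstant.mul_apply, coe_const,
            Function.const_apply]
          rw [charFn_of_notMem _ hs, charFn_of_mem hN'.compl hs, mul_zero, zero_add]
        rw [this]
        exact (ρ s).2.one_notMem
    have hφt : φ t = a := by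
      simp only [φ, LocallyConstant.add_apply, LocallyConstant.mul_apply, coe_const,
        Function.const_apply]
      rw [charFn_of_mem _ htN, charFn_of_notMem hN'.compl (fun h : t ∈ Nᶜ => h htN), mul_one,
        add_zero]
    have := h φ hφ
    rw [hφt] at this
    exact this hay
  · intro h φ hφ hmem
    exact hφ t (h hmem)

section top

variable [T1Space T]

omit [T1Space T] in
theorem specializes_iff (p p' : W A T ρ) [T1Space T] :
    p ⤳ p' ↔ p.1.1 ≤ p'.1.1 ∧ p.1.2 = p'.1.2 := by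
  rw [← IsInducing.subtypeVal.specializes_iff]
  obtain ⟨⟨x, t⟩, h⟩ := p
  obtain ⟨⟨x', t'⟩, h'⟩ := p'
  simp only [specializes_prod, specializes_iff_eq, le_iff_specializes]

theorem isClosed_singleton_iff (p : W A T ρ) :
    IsClosed ({p} : Set (W A T ρ)) ↔ p.1.1 = ρ p.1.2 := by
  rw [Groth.Agent.Lib.Helper10.Pi0.isClosed_singleton_iff_forall_specializes]
  obtain ⟨⟨y, t⟩, h⟩ := p
  constructor
  · intro hp
    have := hp ⟨(ρ t, t), le_refl _⟩ ((specializes_iff ρ _ _).mpr ⟨h, rfl⟩)
    exact (congrArg (fun z : W A T ρ => z.1.1) this).symm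
  · rintro hy ⟨⟨y', t'⟩, h'⟩ hspec
    obtain ⟨h1, h2⟩ := (specializes_iff ρ _ _).mp hspec
    simp only at h1 h2 hy h'
    subst h2
    subst hy
    have : y' = ρ t := le_antisymm h' h1
    subst this
    rfl

theorem existsUnique_closed_specialization (p : W A T ρ) :
    ∃! z : W A T ρ, IsClosed ({z} : Set (W A T ρ)) ∧ p ⤳ z := by
  obtain ⟨⟨y, t⟩, h⟩ := p
  refine ⟨⟨(ρ t, t), le_refl _⟩, ⟨(isClosed_singleton_iff ρ _).mpr rfl,
    (specializes_iff ρ _ _).mpr ⟨h, rfl⟩⟩, ?_⟩
  rintro ⟨⟨y', t'⟩, h'⟩ ⟨hcl, hspec⟩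
  have hy' : y' = ρ t' := (isClosed_singleton_iff ρ _).mp hcl
  obtain ⟨-, h2⟩ := (specializes_iff ρ _ _).mp hspec
  simp only at h2
  subst h2
  subst hy'
  rfl

theorem isClosed_closedPoints
    (hρ' : ∀ a : A, IsOpen (ρ ⁻¹' (zeroLocus {a} : Set (PrimeSpectrum A)))) :
    IsClosed {p : W A T ρ | IsClosed ({p} : Set (W A T ρ))} := by
  rw [← isOpen_compl_iff, isOpen_iff_forall_mem_open]
  rintro ⟨⟨y, t⟩, h⟩ hp
  have hne : y ≠ ρ t := fun hh => hp ((isClosed_singleton_iff ρ _).mpr hh)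
  have hnle : ¬ ρ t ≤ y := fun hh => hne (le_antisymm h hh)
  obtain ⟨a, hat, hay⟩ := Set.not_subset.mp hnle
  let O : Set (PrimeSpectrum A × T) :=
    (basicOpen a : Set (PrimeSpectrum A)) ×ˢ (ρ ⁻¹' (zeroLocus {a} : Set (PrimeSpectrum A)))
  have hO : IsOpen O := (basicOpen a).2.prod (hρ' a)
  refine ⟨Subtype.val ⁻¹' O, ?_, hO.preimage continuous_subtype_val, ⟨hay, ?_⟩⟩
  · rintro ⟨⟨y', t'⟩, h'⟩ ⟨hy'a, ht'a⟩ hcl
    have hy' : y' = ρ t' := (isClosed_singleton_iff ρ _).mp hcl
    have h1 : a ∈ (ρ t').asIdeal := by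
      have : ρ t' ∈ zeroLocus ({a} : Set A) := ht'a
      rw [mem_zeroLocus, Set.singleton_subset_iff] at this
      exact this
    have hy'' : y' = ρ t' := hy'
    subst hy''
    exact hy'a h1
  · show ρ t ∈ zeroLocus ({a} : Set A)
    rw [mem_zeroLocus, Set.singleton_subset_iff]
    exact hat

end top

/-- Transport of w-locality along a homeomorphism. -/
theorem isWLocal_of_homeomorph {X Y : Type u} [TopologicalSpace X] [TopologicalSpace Y]
    [SpectralSpace X] (e : X ≃ₜ Y) (h1 : IsClosed {y : Y | IsClosed ({y} : Set Y)})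
    (h2 : ∀ y : Y, ∃! z : Y, IsClosed ({z} : Set Y) ∧ y ⤳ z) : ProEtW.IsWLocal X := by
  have hcl : ∀ x : X, IsClosed ({x} : Set X) ↔ IsClosed ({e x} : Set Y) := fun x => by
    rw [← e.isClosed_image, Set.image_singleton]
  refine ⟨inferInstance, ?_, fun x => ?_⟩
  · have : {x : X | IsClosed ({x} : Set X)} = e ⁻¹' {y : Y | IsClosed ({y} : Set Y)} := by
      ext x
      exact hcl x
    rw [this]
    exact h1.preimage e.continuous
  · obtain ⟨z, ⟨hz1, hz2⟩, hz3⟩ := h2 (e x)
    refine ⟨e.symm z, ⟨?_, ?_⟩, ?_⟩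
    · rw [hcl, e.apply_symm_apply]
      exact hz1
    · rw [← e.isInducing.specializes_iff, e.apply_symm_apply]
      exact hz2
    · rintro w ⟨hw1, hw2⟩
      rw [← hz3 (e w) ⟨(hcl w).mp hw1, e.isInducing.specializes_iff.mpr hw2⟩, e.symm_apply_apply]

/-- **The localization along `ρ`.** -/
theorem exists_rhoLocalization [CompactSpace T] [T2Space T] [TotallyDisconnectedSpace T]
    (hρ : ∀ a : A, IsOpen (ρ ⁻¹' (basicOpen a : Set (PrimeSpectrum A))))
    (hρ' : ∀ a : A, IsOpen (ρ ⁻¹' (zeroLocus {a} : Set (PrimeSpectrum A)))) :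
    ∃ (B : Type u) (_ : CommRing B) (_ : Algebra A B) (Ψ : PrimeSpectrum B ≃ₜ W A T ρ),
      Factor A B ∧ (∀ y, (Ψ y).1.1 = comap (algebraMap A B) y) ∧
      ProEtW.IsWLocal (PrimeSpectrum B) ∧
      (∀ y : PrimeSpectrum B, IsClosed ({y} : Set (PrimeSpectrum B)) ↔
        (Ψ y).1.1 = ρ (Ψ y).1.2) := by
  let B := Localization (mset A T ρ)
  obtain ⟨e₀, he₀⟩ := exists_specLocHomeo (mset A T ρ) B
  have hF : Factor A B :=
    Groth.Agent.R2.H3.ProfReal.factor_localization_locallyConstant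
      (Groth.Agent.R2.H3.ProfReal.factor_refl A) T (mset A T ρ) B
  let Ψ : PrimeSpectrum B ≃ₜ W A T ρ := e₀.trans (Homeomorph.setCongr (locSet_mset ρ hρ))
  refine ⟨B, inferInstance, inferInstance, Ψ, hF, fun y => (he₀ y).1,
    isWLocal_of_homeomorph Ψ (isClosed_closedPoints ρ hρ')
      (existsUnique_closed_specialization ρ), fun y => ?_⟩
  rw [← isClosed_singleton_iff ρ (Ψ y), ← Ψ.isClosed_image, Set.image_singleton]

end Groth.Agent.R2.H3.RhoLoc
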