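import Mathlib
import Groth.Prelude.Def_ProEtW
import Groth.Agent.R2.H3WLocalTop
import Groth.Agent.Lib.Helper10Pi0

/-!
# Closed points of a w-local space (helper3)

For a w-local space `X`: the subspace of closed points is homeomorphic to `π₀(X)` (hence profinite), and there is
a continuous retraction `retr : X → closedPoints X` sending a point to its unique closed specialization.
-/

set_option autoImplicit false
set_option linter.style.haveILetI false
open Topology
universe u

namespace Groth.Agent.R2.H3.WLocalPi

variable {X : Type u} [TopologicalSpace X]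

theorem compactSpace_closedPoints (hX : ProEtW.IsWLocal X) : CompactSpace (ProEtW.closedPoints X) := by
  haveI := hX.1
  exact isCompact_iff_compactSpace.mp hX.2.1.isCompact

theorem t2Space_pi0 (hX : ProEtW.IsWLocal X) : T2Space (ConnectedComponents X) := by
  haveI := hX.1
  exact Groth.Agent.Lib.Helper10.Pi0.t2Space_connectedComponents

theorem bijective_mk_val (hX : ProEtW.IsWLocal X) :
    Function.Bijective (fun t : ProEtW.closedPoints X => (ConnectedComponents.mk t.1 :
      ConnectedComponents X)) := by
  constructor
  · intro t t' h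
    exact Subtype.ext (Groth.Agent.R2.H3.WLocalTop.eq_of_mk_eq_of_isClosed hX t.2 t'.2 h)
  · intro c
    obtain ⟨z, hz, hzc⟩ := Groth.Agent.R2.H3.WLocalTop.exists_isClosed_singleton_mk_eq hX c
    exact ⟨⟨z, hz⟩, hzc⟩

/-- closed points of a w-local space are homeomorphic to `π₀` -/
noncomputable def closedPointsHomeo (hX : ProEtW.IsWLocal X) :
    ProEtW.closedPoints X ≃ₜ ConnectedComponents X :=
  haveI := compactSpace_closedPoints hX
  haveI := t2Space_pi0 hX
  Continuous.homeoOfEquivCompactToT2 (f := Equiv.ofBijective _ (bijective_mk_val hX))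
    (ConnectedComponents.continuous_coe.comp continuous_subtype_val)

theorem closedPointsHomeo_apply (hX : ProEtW.IsWLocal X) (t : ProEtW.closedPoints X) :
    closedPointsHomeo hX t = ConnectedComponents.mk t.1 := rfl

theorem t2Space_closedPoints (hX : ProEtW.IsWLocal X) : T2Space (ProEtW.closedPoints X) :=
  haveI := t2Space_pi0 hX
  (closedPointsHomeo hX).symm.t2Space

theorem totallyDisconnectedSpace_closedPoints (hX : ProEtW.IsWLocal X) :
    TotallyDisconnectedSpace (ProEtW.closedPoints X) :=
  (closedPointsHomeo hX).symm.totallyDisconnectedSpace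

/-- the retraction onto the closed points -/
noncomputable def retr (hX : ProEtW.IsWLocal X) (x : X) : ProEtW.closedPoints X :=
  (closedPointsHomeo hX).symm (ConnectedComponents.mk x)

theorem continuous_retr (hX : ProEtW.IsWLocal X) : Continuous (retr hX) :=
  (closedPointsHomeo hX).symm.continuous.comp ConnectedComponents.continuous_coe

theorem retr_eq_of_specializes (hX : ProEtW.IsWLocal X) {x : X} {t : ProEtW.closedPoints X}
    (h : x ⤳ t.1) : retr hX x = t := by
  rw [retr, Homeomorph.symm_apply_eq, closedPointsHomeo_apply]
  exact (Groth.Agent.Lib.Helper10.Pi0.mk_eq_of_specializes X h).symm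

theorem specializes_retr (hX : ProEtW.IsWLocal X) (x : X) : x ⤳ (retr hX x).1 := by
  obtain ⟨z, ⟨hz, hxz⟩, -⟩ := hX.2.2 x
  have := retr_eq_of_specializes hX (x := x) (t := ⟨z, hz⟩) hxz
  rw [this]
  exact hxz

theorem retr_val (hX : ProEtW.IsWLocal X) (t : ProEtW.closedPoints X) : retr hX t.1 = t :=
  retr_eq_of_specializes hX specializes_rfl

end Groth.Agent.R2.H3.WLocalPi
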