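import Mathlib
import Groth.Prelude.Def_ProEtW
import Groth.Agent.R2.H3RhoLoc
import Groth.Agent.R2.H3IdLoc
import Groth.Agent.R2.H3LocIso
import Groth.Agent.R2.H3Glue
import Groth.Agent.R2.H3WLocalPi

/-!
# Maps identifying local rings with w-local target are ind-Zariski (helper3)

`factor_of_identifies_wLocal`: if `A → B` identifies local rings and `Spec B` is w-local then `B` is ind-Zariski
over `A` (in the form `Factor A B`). `B` is identified with the localization of
`LocallyConstant (closedPoints (Spec B)) A` at the functions `φ` with `φ t ∉ t ∩ A` for all closed points `t`.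
-/

set_option autoImplicit false
set_option linter.style.haveILetI false
open PrimeSpectrum Topology
open Groth.Agent.R2.H3.LCSpec Groth.Agent.R2.H3.IndZarFactor Groth.Agent.R2.H3.WLocalPi
  Groth.Agent.R2.H3.Glue
universe u

namespace Groth.Agent.R2.H3.IdLocIndZar

variable {A B : Type u} [CommRing A] [CommRing B] [Algebra A B]

/-- the image in `Spec A` of a closed point of `Spec B` -/
def rho (A : Type u) [CommRing A] (B : Type u) [CommRing B] [Algebra A B] :
    ProEtW.closedPoints (PrimeSpectrum B) → PrimeSpectrum A :=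
  fun t => comap (algebraMap A B) t.1

variable (h3 : ProEtW.IsWLocal (PrimeSpectrum B))

/-- the gluing map `LocallyConstant (closedPoints (Spec B)) A → B` -/
noncomputable def glueAlg : LocallyConstant (ProEtW.closedPoints (PrimeSpectrum B)) A →ₐ[A] B :=
  { glueHom.comp ((LocallyConstant.mapRingHom (algebraMap A B)).comp
      (LocallyConstant.comapRingHom ⟨retr h3, continuous_retr h3⟩)) with
    commutes' := fun a => by
      show glueHom _ = _
      convert glueHom_const (algebraMap A B a) using 2
      ext q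
      rfl }

theorem glueAlg_mem_iff (φ : LocallyConstant (ProEtW.closedPoints (PrimeSpectrum B)) A)
    (q : PrimeSpectrum B) :
    glueAlg (A := A) h3 φ ∈ q.asIdeal ↔ algebraMap A B (φ (retr h3 q)) ∈ q.asIdeal := by
  show glueHom _ ∈ _ ↔ _
  rw [glueHom_mem_iff]
  rfl

theorem isUnit_glueAlg (φ : LocallyConstant (ProEtW.closedPoints (PrimeSpectrum B)) A)
    (hφ : φ ∈ Groth.Agent.R2.H3.RhoLoc.mset A _ (rho A B)) : IsUnit (glueAlg (A := A) h3 φ) := by
  by_contra hnu
  obtain ⟨m, hm, hmem⟩ := exists_max_ideal_of_mem_nonunits hnu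
  let q : PrimeSpectrum B := ⟨m, hm.isPrime⟩
  have h1 : algebraMap A B (φ (retr h3 q)) ∈ q.asIdeal := (glueAlg_mem_iff h3 φ q).mp hmem
  have h2 : q ⤳ (retr h3 q).1 := specializes_retr h3 q
  have h4 : q.asIdeal ≤ (retr h3 q).1.asIdeal := (PrimeSpectrum.le_iff_specializes _ _).mpr h2
  exact hφ (retr h3 q) (h4 h1)

include h3 in
/-- **A map identifying local rings whose target has w-local spectrum is ind-Zariski.** -/
theorem factor_of_identifies_wLocal (h1 : EtPBC.IdentifiesLocalRings A B) : Factor A B := by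
  classical
  let T : Type u := ProEtW.closedPoints (PrimeSpectrum B)
  haveI : CompactSpace T := compactSpace_closedPoints h3
  haveI : T2Space T := t2Space_closedPoints h3
  haveI : TotallyDisconnectedSpace T := totallyDisconnectedSpace_closedPoints h3
  let ρ : T → PrimeSpectrum A := rho A B
  have hρ : ∀ a : A, IsOpen (ρ ⁻¹' (basicOpen a : Set (PrimeSpectrum A))) := fun a =>
    (basicOpen a).isOpen.preimage ((continuous_comap _).comp continuous_subtype_val)
  let M : Submonoid (LocallyConstant T A) := Groth.Agent.R2.H3.RhoLoc.mset A T ρ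
  let A' := Localization M
  obtain ⟨e₀, he₀⟩ := exists_specLocHomeo M A'
  have hloc : locSet M = {p : PrimeSpectrum A × T | p.1 ≤ ρ p.2} :=
    Groth.Agent.R2.H3.RhoLoc.locSet_mset ρ hρ
  have hF : Factor A A' :=
    Groth.Agent.R2.H3.ProfReal.factor_localization_locallyConstant
      (Groth.Agent.R2.H3.ProfReal.factor_refl A) T M A'
  let Θ : A' →ₐ[A] B := IsLocalization.liftAlgHom (M := M) (f := glueAlg h3)
    (fun m => isUnit_glueAlg h3 m.1 m.2)
  have hΘ : ∀ φ, Θ (algebraMap (LocallyConstant T A) A' φ) = glueAlg h3 φ :=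
    fun φ => IsLocalization.lift_eq _ _
  -- key computation
  have hkey : ∀ q : PrimeSpectrum B,
      (e₀ (comap Θ.toRingHom q)).1 = (comap (algebraMap A B) q, retr h3 q) := by
    intro q
    apply pt_injective
    rw [(he₀ _).2]
    ext φ
    rw [mem_pt_iff]
    show Θ (algebraMap _ _ φ) ∈ q.asIdeal ↔ _
    rw [hΘ, glueAlg_mem_iff]
    rfl
  -- bijectivity on spectra
  have hbij : Function.Bijective (comap Θ.toRingHom) := by
    constructor
    · intro q q' h
      have hk := hkey q
      rw [h, hkey q'] at hk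
      have hc : comap (algebraMap A B) q' = comap (algebraMap A B) q := congrArg Prod.fst hk
      have hr : retr h3 q' = retr h3 q := congrArg Prod.snd hk
      have hq : q ≤ (retr h3 q).1 := (le_iff_specializes _ _).mpr (specializes_retr h3 q)
      have hq' : q' ≤ (retr h3 q).1 := by
        rw [← hr]
        exact (le_iff_specializes _ _).mpr (specializes_retr h3 q')
      exact Groth.Agent.R2.H3.LocIso.eq_of_le_of_comap_eq (retr h3 q).1 (h1 _) q q' hq hq' hc.symm
    · intro y
      have hy : (e₀ y).1.1 ≤ ρ (e₀ y).1.2 := (Set.ext_iff.mp hloc (e₀ y).1).mp (e₀ y).2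
      obtain ⟨q, hq, hqc⟩ := Groth.Agent.R2.H3.LocIso.exists_le_comap_eq (e₀ y).1.2.1 (h1 _)
        (e₀ y).1.1 hy
      refine ⟨q, ?_⟩
      apply e₀.injective
      apply Subtype.ext
      rw [hkey q, hqc]
      have : retr h3 q = (e₀ y).1.2 :=
        retr_eq_of_specializes h3 ((le_iff_specializes _ _).mp hq)
      rw [this]
  letI : Algebra A' B := Θ.toRingHom.toAlgebra
  haveI : IsScalarTower A A' B := IsScalarTower.of_algebraMap_eq (fun a => (Θ.commutes a).symm)
  have hid : EtPBC.IdentifiesLocalRings A' B :=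
    Groth.Agent.R2.H3.IdLoc.identifies_of_comp (Groth.Agent.R2.H3.IdLoc.identifies_of_factor hF) h1
  have hΘbij : Function.Bijective Θ :=
    Groth.Agent.R2.H3.LocIso.bijective_of_bijective_comap hid hbij
  let ε : A' ≃ₐ[A] B := AlgEquiv.ofBijective Θ hΘbij
  intro P _ _ _ ψ
  obtain ⟨E, _, _, _, f, g, hfg⟩ := hF P ((ε.symm : B →ₐ[A] A').comp ψ)
  refine ⟨E, inferInstance, inferInstance, inferInstance, f, (ε : A' →ₐ[A] B).comp g, ?_⟩
  rw [AlgHom.comp_assoc, hfg]
  ext x
  simp

end Groth.Agent.R2.H3.IdLocIndZar
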