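import Mathlib
import Groth.Prelude.Def_ProEtW
import Groth.Agent.R2.H3IndZar
import Groth.Agent.Lib.Helper10Pi0

/-!
# Quotients by ideals generated by idempotents are ind-Zariski (helper3, round 2)
-/

set_option autoImplicit false
set_option linter.style.haveILetI false
open CategoryTheory CategoryTheory.Limits TensorProduct
universe u
namespace Groth.Agent.R2.H3.IndZarQuot
open Groth.Agent.R2.H3.IndZar

section Idem
variable {A : Type u} [CommRing A]

/-- join of idempotents -/
def ijoin (e f : A) : A := e + f - e * f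

lemma ijoin_idem {e f : A} (he : IsIdempotentElem e) (hf : IsIdempotentElem f) :
    IsIdempotentElem (ijoin e f) := by
  unfold ijoin IsIdempotentElem at *
  linear_combination (1 - 2 * f + f * f) * he + (1 - e) * hf

lemma mul_ijoin_left {e f : A} (he : IsIdempotentElem e) : e * ijoin e f = e := by
  unfold ijoin IsIdempotentElem at *
  linear_combination (1 - f) * he

lemma mul_ijoin_right {e f : A} (hf : IsIdempotentElem f) : f * ijoin e f = f := by
  unfold ijoin IsIdempotentElem at *
  linear_combination (1 - e) * hf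

lemma ijoin_mem {I : Ideal A} {e f : A} (he : e ∈ I) (hf : f ∈ I) : ijoin e f ∈ I :=
  I.sub_mem (I.add_mem he hf) (I.mul_mem_right _ he)

/-- The quotient by an idempotent is a standard open immersion. -/
lemma isStandardOpenImmersion_quot_idem {e : A} (he : IsIdempotentElem e) :
    Algebra.IsStandardOpenImmersion A (A ⧸ Ideal.span {e}) := by
  refine ⟨1 - e, ?_⟩
  apply IsLocalization.away_of_isIdempotentElem he.one_sub
  · rw [sub_sub_cancel]
    exact Ideal.mk_ker
  · exact Ideal.Quotient.mk_surjective

/-- the directed set of idempotents in an ideal -/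
structure IdemIn (I : Ideal A) : Type u where
  val : A
  idem : IsIdempotentElem val
  mem : val ∈ I

instance (I : Ideal A) : Preorder (IdemIn I) where
  le e f := e.val * f.val = e.val
  le_refl e := e.idem
  le_trans e f g h1 h2 := by
    show e.val * g.val = e.val
    have h1' : e.val * f.val = e.val := h1
    have h2' : f.val * g.val = f.val := h2
    calc e.val * g.val = (e.val * f.val) * g.val := by rw [h1']
      _ = e.val * (f.val * g.val) := by ring
      _ = e.val := by rw [h2', h1']

lemma IdemIn.le_def {I : Ideal A} (e f : IdemIn I) : e ≤ f ↔ e.val * f.val = e.val := Iff.rfl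

instance (I : Ideal A) : Nonempty (IdemIn I) := ⟨⟨0, IsIdempotentElem.zero, I.zero_mem⟩⟩

instance (I : Ideal A) : IsDirected (IdemIn I) (· ≤ ·) where
  directed e f := ⟨⟨ijoin e.val f.val, ijoin_idem e.idem f.idem, ijoin_mem e.mem f.mem⟩,
    mul_ijoin_left e.idem, mul_ijoin_right f.idem⟩

lemma span_le_of_le {I : Ideal A} {e f : IdemIn I} (h : e ≤ f) :
    Ideal.span {e.val} ≤ Ideal.span {f.val} := by
  rw [Ideal.span_singleton_le_span_singleton]
  exact ⟨e.val, by rw [mul_comm]; exact h.symm⟩

/-- Every element of the span of a set of idempotents lies in the ideal of a single idempotent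
of the span. -/
lemma exists_idem_of_mem_span {E : Set A} (hE : ∀ e ∈ E, IsIdempotentElem e) {x : A}
    (hx : x ∈ Ideal.span E) :
    ∃ e : IdemIn (Ideal.span E), x ∈ Ideal.span {e.val} := by
  induction hx using Submodule.span_induction with
  | mem x hx => exact ⟨⟨x, hE x hx, Ideal.subset_span hx⟩, Ideal.subset_span rfl⟩
  | zero => exact ⟨⟨0, IsIdempotentElem.zero, Ideal.zero_mem _⟩, Ideal.zero_mem _⟩
  | add x y _ _ hx hy =>
    obtain ⟨e, he⟩ := hx
    obtain ⟨f, hf⟩ := hy
    obtain ⟨g, hg1, hg2⟩ := exists_ge_ge e f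
    exact ⟨g, Ideal.add_mem _ (span_le_of_le hg1 he) (span_le_of_le hg2 hf)⟩
  | smul a x _ hx =>
    obtain ⟨e, he⟩ := hx
    exact ⟨e, Ideal.mul_mem_left _ a he⟩

/-- The quotient of a ring by an ideal generated by idempotents is ind-Zariski. -/
theorem isIndZariski_quot_span_idem (E : Set A) (hE : ∀ e ∈ E, IsIdempotentElem e) :
    EtPBC.IsIndZariski A (A ⧸ Ideal.span E) := by
  set I := Ideal.span E with hI
  haveI : ∀ j : IdemIn I, Algebra.IsLocalIso A (A ⧸ Ideal.span {j.val}) := fun j => by
    haveI := isStandardOpenImmersion_quot_idem j.idem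
    infer_instance
  have hle : ∀ j : IdemIn I, Ideal.span {j.val} ≤ I := fun j => by
    rw [Ideal.span_singleton_le_iff_mem]
    exact j.mem
  refine isIndZariski_of_directed (J := IdemIn I) (fun j => A ⧸ Ideal.span {j.val})
    (fun {j k} h => Ideal.Quotient.factorₐ A (span_le_of_le h)) ?_ ?_
    (fun j => Ideal.Quotient.factorₐ A (hle j)) ?_ ?_ ?_
  · intro j
    apply Ideal.Quotient.algHom_ext
    ext
  · intro j k l f g
    apply Ideal.Quotient.algHom_ext
    ext
  · intro j k g x
    obtain ⟨x, rfl⟩ := Ideal.Quotient.mk_surjective x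
    simp
  · intro b
    obtain ⟨x, rfl⟩ := Ideal.Quotient.mk_surjective b
    exact ⟨⟨0, IsIdempotentElem.zero, I.zero_mem⟩, Ideal.Quotient.mk _ x, by simp⟩
  · intro j x hx
    obtain ⟨x, rfl⟩ := Ideal.Quotient.mk_surjective x
    have hx' : x ∈ I := by
      simpa [Ideal.Quotient.eq_zero_iff_mem] using hx
    obtain ⟨e, he⟩ := exists_idem_of_mem_span hE hx'
    obtain ⟨k, hk1, hk2⟩ := exists_ge_ge j e
    refine ⟨k, hk1, ?_⟩
    simp only [Ideal.Quotient.factorₐ_apply_mk]
    rw [Ideal.Quotient.eq_zero_iff_mem]
    exact span_le_of_le hk2 he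

end Idem

section Pi0
variable (A : Type u) [CommRing A]

open Groth.Agent.Lib.Helper10.Pi0

/-- The preimage in `Spec A` of a closed subset of `π₀(Spec A)` is the zero locus of the ideal
generated by the idempotents vanishing on it. -/
theorem zeroLocus_span_idem_eq_preimage
    (T : Set (_root_.ConnectedComponents (PrimeSpectrum A))) (hT : IsClosed T) :
    PrimeSpectrum.zeroLocus (R := A)
      (Ideal.span {e : A | IsIdempotentElem e ∧
        _root_.ConnectedComponents.mk ⁻¹' T ⊆ PrimeSpectrum.zeroLocus {e}}) =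
      _root_.ConnectedComponents.mk ⁻¹' T := by
  haveI : T2Space (_root_.ConnectedComponents (PrimeSpectrum A)) := t2Space_connectedComponents
  rw [PrimeSpectrum.zeroLocus_span]
  apply Set.Subset.antisymm
  · intro p hp
    by_contra hpT
    have hpT' : _root_.ConnectedComponents.mk p ∈ Tᶜ := hpT
    obtain ⟨V, hV, hpV, hVT⟩ := compact_exists_isClopen_in_isOpen hT.isOpen_compl hpT'
    have hclopen : IsClopen (_root_.ConnectedComponents.mk ⁻¹' V : Set (PrimeSpectrum A)) :=
      hV.preimage _root_.ConnectedComponents.continuous_coe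
    obtain ⟨e, he, hVe⟩ := PrimeSpectrum.isClopen_iff.1 hclopen
    have hmem : e ∈ {e : A | IsIdempotentElem e ∧
        _root_.ConnectedComponents.mk ⁻¹' T ⊆ PrimeSpectrum.zeroLocus {e}} := by
      refine ⟨he, ?_⟩
      intro q hq
      rw [PrimeSpectrum.mem_zeroLocus, Set.singleton_subset_iff]
      by_contra hne
      have : q ∈ (_root_.ConnectedComponents.mk ⁻¹' V : Set (PrimeSpectrum A)) := by
        rw [hVe]
        exact hne
      exact hVT this hq
    have h1 : e ∈ p.asIdeal := hp hmem
    have h2 : p ∈ (_root_.ConnectedComponents.mk ⁻¹' V : Set (PrimeSpectrum A)) := hpV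
    rw [hVe] at h2
    exact h2 h1
  · intro p hp e he
    have := he.2 hp
    rw [PrimeSpectrum.mem_zeroLocus, Set.singleton_subset_iff] at this
    exact this

end Pi0
end Groth.Agent.R2.H3.IndZarQuot
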