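import Mathlib
import Groth.Prelude.Def_ProEtW
import Groth.Agent.R2.H3RhoLoc
import Groth.Agent.Lib.Helper10Spectral

/-!
# The w-localization of a ring (helper3)

`A_w = M⁻¹ LocallyConstant (Spec A)^cons A`, `M = {φ | ∀ x, φ x ∉ x}`.
-/

set_option autoImplicit false
set_option linter.style.haveILetI false

universe u

namespace Groth.Agent.R2.H3.WLocalization

open LocallyConstant PrimeSpectrum Topology TopologicalSpace
open Groth.Agent.R2.H3.LCSpec Groth.Agent.R2.H3.IndZarFactor Groth.Agent.R2.H3.RhoLoc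
open Groth.Agent.Lib.Helper10.Spectral

section constr

variable (X : Type u) [TopologicalSpace X] [SpectralSpace X]

instance : TotallySeparatedSpace (WithConstructibleTopology X) := by
  rw [totallySeparatedSpace_iff_exists_isClopen]
  intro x y hxy
  have hne : x.ofTopology ≠ y.ofTopology := fun h => hxy (WithTopology.ofTopology_injective _ h)
  obtain ⟨U, hU, hx, hy⟩ := exists_isClopen_constr_separating hne
  refine ⟨WithTopology.ofTopology ⁻¹' U, ⟨?_, ?_⟩, hx, hy⟩
  · exact @IsClosed.preimage _ _ _ (constructibleTopology X) _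
      (WithTopology.continuous_ofTopology _) _ hU.1
  · exact @IsOpen.preimage _ _ _ (constructibleTopology X) _
      (WithTopology.continuous_ofTopology _) _ hU.2

end constr

variable (A : Type u) [CommRing A]

/-- The map `(Spec A)^cons → Spec A`. -/
def rho : WithConstructibleTopology (PrimeSpectrum A) → PrimeSpectrum A := WithTopology.ofTopology

theorem isOpen_rho_preimage_basicOpen (a : A) :
    IsOpen (rho A ⁻¹' (basicOpen a : Set (PrimeSpectrum A))) := by
  rw [WithConstructibleTopology.isOpen_iff]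
  exact (isCompact_basicOpen a).isOpen_constructibleTopology_of_isOpen (basicOpen a).2

theorem isOpen_rho_preimage_zeroLocus (a : A) :
    IsOpen (rho A ⁻¹' (zeroLocus {a} : Set (PrimeSpectrum A))) := by
  rw [WithConstructibleTopology.isOpen_iff]
  refine IsCompact.isOpen_constructibleTopology_of_isClosed ?_ (isClosed_zeroLocus _)
  have : (zeroLocus ({a} : Set A))ᶜ = (basicOpen a : Set (PrimeSpectrum A)) := by
    rw [basicOpen_eq_zeroLocus_compl]
  show IsCompact (zeroLocus ({a} : Set A))ᶜ
  rw [this]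
  exact isCompact_basicOpen a

/-- **The w-localization.** -/
theorem exists_wLocalization :
    ∃ (Aw : Type u) (_ : CommRing Aw) (_ : Algebra A Aw),
      Factor A Aw ∧ Module.FaithfullyFlat A Aw ∧ ProEtW.IsWLocal (PrimeSpectrum Aw) ∧
      Set.BijOn (comap (algebraMap A Aw)) (ProEtW.closedPoints (PrimeSpectrum Aw)) Set.univ := by
  obtain ⟨B, iB1, iB2, Ψ, hF, hΨ, hW, hcl⟩ := exists_rhoLocalization (rho A)
    (isOpen_rho_preimage_basicOpen A) (isOpen_rho_preimage_zeroLocus A)
  -- the closed point over `x`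
  let pt : PrimeSpectrum A → PrimeSpectrum B := fun x =>
    Ψ.symm ⟨(x, WithTopology.toTopology _ x), le_refl _⟩
  have hpt1 : ∀ x, comap (algebraMap A B) (pt x) = x := fun x => by
    rw [← hΨ, Ψ.apply_symm_apply]
  have hpt2 : ∀ x, IsClosed ({pt x} : Set (PrimeSpectrum B)) := fun x => by
    rw [hcl, Ψ.apply_symm_apply]
    rfl
  haveI : Module.Flat A B := flat_of_factor hF
  refine ⟨B, iB1, iB2, hF, Module.FaithfullyFlat.of_comap_surjective fun x => ⟨pt x, hpt1 x⟩, hW,
    fun _ _ => trivial, ?_, fun x _ => ⟨pt x, hpt2 x, hpt1 x⟩⟩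
  intro y hy y' hy' h
  have h1 : (Ψ y).1.1 = rho A (Ψ y).1.2 := (hcl y).mp hy
  have h2 : (Ψ y').1.1 = rho A (Ψ y').1.2 := (hcl y').mp hy'
  rw [← hΨ, ← hΨ] at h
  have h3 : (Ψ y).1.2 = (Ψ y').1.2 := by
    apply WithTopology.ofTopology_injective
    show rho A _ = rho A _
    rw [← h1, ← h2, h]
  exact Ψ.injective (Subtype.ext (Prod.ext h h3))

end Groth.Agent.R2.H3.WLocalization
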