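import Mathlib
import Groth.Prelude.Def_ProEtW
import Groth.Agent.R2.H3WLocalization
import Groth.Agent.R2.H3Glue
import Groth.Agent.R2.H3WLocalPi
import Groth.Agent.Lib.Helper10ProCons

/-!
# The universal property of the w-localization (helper3)

`Aw A = M⁻¹ LocallyConstant (Spec A)^cons A` with `M = {φ | ∀ x, φ x ∉ x}`; for every `A`-algebra `B` with w-local
spectrum there is exactly one `A`-algebra map `Aw A → B` inducing a w-local map on spectra
(`existsUnique_wLocal`).
-/

set_option autoImplicit false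
set_option linter.style.haveILetI false
open PrimeSpectrum Topology LocallyConstant TopologicalSpace
open Groth.Agent.R2.H3.LCSpec Groth.Agent.R2.H3.Glue Groth.Agent.R2.H3.IndZarFactor
  Groth.Agent.R2.H3.RhoLoc Groth.Agent.R2.H3.WLocalization Groth.Agent.R2.H3.WLocalPi
universe u

namespace Groth.Agent.R2.H3.WLocUniv

/-- idempotents with the same basic open set are equal -/
theorem idem_eq_of_basicOpen_eq {B : Type u} [CommRing B] {e e' : B} (he : IsIdempotentElem e)
    (he' : IsIdempotentElem e') (h : ∀ q : PrimeSpectrum B, e ∉ q.asIdeal ↔ e' ∉ q.asIdeal) :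
    e = e' := by
  have : isIdempotentElemEquivClopens (⟨e, he⟩ : {e : B // IsIdempotentElem e}) =
      isIdempotentElemEquivClopens ⟨e', he'⟩ := by
    apply Clopens.ext
    rw [coe_isIdempotentElemEquivClopens_apply, coe_isIdempotentElemEquivClopens_apply]
    ext q
    exact h q
  exact congrArg Subtype.val (isIdempotentElemEquivClopens.injective this)

section ext

variable {A B : Type u} [CommRing A] [CommRing B] [Algebra A B] {T : Type u} [TopologicalSpace T]

theorem isIdempotentElem_charFn (N : Set T) (hN : IsClopen N) : IsIdempotentElem (charFn A hN) := by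
  ext t
  by_cases ht : t ∈ N
  · rw [LocallyConstant.mul_apply, charFn_of_mem hN ht, mul_one]
  · rw [LocallyConstant.mul_apply, charFn_of_notMem hN ht, mul_zero]

/-- Two `A`-algebra maps out of `LocallyConstant T A` whose values on characteristic functions cut out the
preimages of the clopens under a common map `π : Spec B → T` are equal. -/
theorem algHom_ext_of_charFn (f₁ f₂ : LocallyConstant T A →ₐ[A] B) (π : PrimeSpectrum B → T)
    (h₁ : ∀ (N : Set T) (hN : IsClopen N) (q : PrimeSpectrum B),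
      f₁ (charFn A hN) ∉ q.asIdeal ↔ π q ∈ N)
    (h₂ : ∀ (N : Set T) (hN : IsClopen N) (q : PrimeSpectrum B),
      f₂ (charFn A hN) ∉ q.asIdeal ↔ π q ∈ N) : f₁ = f₂ := by
  have heq : ∀ (N : Set T) (hN : IsClopen N), f₁ (charFn A hN) = f₂ (charFn A hN) := by
    intro N hN
    apply idem_eq_of_basicOpen_eq ((isIdempotentElem_charFn N hN).map f₁)
      ((isIdempotentElem_charFn N hN).map f₂)
    intro q
    rw [h₁ N hN q, h₂ N hN q]
  apply AlgHom.ext
  intro ψ
  rw [← sub_eq_zero]
  apply eq_zero_of_forall_exists_mul_eq_zero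
  intro q
  have hN := ψ.isLocallyConstant.isClopen_fiber (ψ (π q))
  refine ⟨f₁ (charFn A hN), (h₁ _ hN q).mpr rfl, ?_⟩
  have e1 : f₁ (charFn A hN) * f₁ ψ = f₁ (charFn A hN) * algebraMap A B (ψ (π q)) := by
    rw [← map_mul, mul_comm, mul_charFn_fiber, map_mul, mul_comm]
    congr 1
    exact f₁.commutes _
  have e2 : f₁ (charFn A hN) * f₂ ψ = f₁ (charFn A hN) * algebraMap A B (ψ (π q)) := by
    rw [heq, ← map_mul, mul_comm, mul_charFn_fiber, map_mul, mul_comm]
    congr 1
    exact f₂.commutes _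
  rw [mul_sub, e1, e2, sub_self]

end ext

variable (A : Type u) [CommRing A]

/-- the constructible spectrum -/
abbrev Tc : Type u := WithConstructibleTopology (PrimeSpectrum A)

/-- the multiplicative set -/
abbrev Mw : Submonoid (LocallyConstant (Tc A) A) := mset A (Tc A) (rho A)

/-- the w-localization -/
abbrev Aw : Type u := Localization (Mw A)

theorem exists_Psi : ∃ Ψ : PrimeSpectrum (Aw A) ≃ₜ W A (Tc A) (rho A),
    (∀ y, (Ψ y).1.1 = comap (algebraMap A (Aw A)) y) ∧
    (∀ y, pt (Ψ y).1 = comap (algebraMap (LocallyConstant (Tc A) A) (Aw A)) y) := by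
  obtain ⟨e₀, he₀⟩ := exists_specLocHomeo (Mw A) (Aw A)
  exact ⟨e₀.trans (Homeomorph.setCongr (locSet_mset (rho A) (isOpen_rho_preimage_basicOpen A))),
    fun y => (he₀ y).1, fun y => (he₀ y).2⟩

theorem factor_Aw : Factor A (Aw A) :=
  Groth.Agent.R2.H3.ProfReal.factor_localization_locallyConstant
    (Groth.Agent.R2.H3.ProfReal.factor_refl A) (Tc A) (Mw A) (Aw A)

theorem isWLocal_Aw : ProEtW.IsWLocal (PrimeSpectrum (Aw A)) := by
  obtain ⟨Ψ, -, -⟩ := exists_Psi A
  exact isWLocal_of_homeomorph Ψ (isClosed_closedPoints (rho A) (isOpen_rho_preimage_zeroLocus A))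
    (existsUnique_closed_specialization (rho A))

theorem isClosed_singleton_iff_Aw (Ψ : PrimeSpectrum (Aw A) ≃ₜ W A (Tc A) (rho A))
    (y : PrimeSpectrum (Aw A)) :
    IsClosed ({y} : Set (PrimeSpectrum (Aw A))) ↔ (Ψ y).1.1 = rho A (Ψ y).1.2 := by
  rw [← isClosed_singleton_iff (rho A) (Ψ y), ← Ψ.isClosed_image, Set.image_singleton]

theorem faithfullyFlat_Aw : Module.FaithfullyFlat A (Aw A) := by
  obtain ⟨Ψ, hΨ, -⟩ := exists_Psi A
  haveI : Module.Flat A (Aw A) := flat_of_factor (factor_Aw A)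
  refine Module.FaithfullyFlat.of_comap_surjective fun x => ?_
  refine ⟨Ψ.symm ⟨(x, WithTopology.toTopology _ x), le_refl _⟩, ?_⟩
  rw [← hΨ, Ψ.apply_symm_apply]

section univ

variable {A : Type u} [CommRing A] (B : Type u) [CommRing B] [Algebra A B]
  (hB : ProEtW.IsWLocal (PrimeSpectrum B))

/-- the map `Spec B → (Spec A)^cons`: the image of the closed specialization -/
noncomputable def piB (q : PrimeSpectrum B) : Tc A :=
  WithTopology.toTopology _ (comap (algebraMap A B) (retr hB q).1)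

theorem continuous_piB : Continuous (piB (A := A) B hB) := by
  haveI := t2Space_closedPoints hB
  have hC : IsClosed (ProEtW.closedPoints (PrimeSpectrum B)) := hB.2.1
  let f : ProEtW.closedPoints (PrimeSpectrum B) → PrimeSpectrum A :=
    fun t => comap (algebraMap A B) t.1
  have hf : Continuous f := (continuous_comap _).comp continuous_subtype_val
  have hcpt : ∀ U : Set (PrimeSpectrum A), IsOpen U → IsCompact U → IsCompact (f ⁻¹' U) := by
    intro U hUo hUc
    have h1 : IsCompact (comap (algebraMap A B) ⁻¹' U) :=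
      (Groth.Agent.Lib.Helper10.ProCons.isSpectralMap_comap (algebraMap A B)).isCompact_preimage_of_isOpen
        hUo hUc
    exact hC.isClosedEmbedding_subtypeVal.isCompact_preimage h1
  have hf' : Continuous[_, constructibleTopology (PrimeSpectrum A)] f := by
    rw [continuous_generateFrom_iff]
    rintro s (⟨hso, hsc⟩ | ⟨hscl, hsc⟩)
    · exact hso.preimage hf
    · have : f ⁻¹' s = (f ⁻¹' sᶜ)ᶜ := by rw [Set.preimage_compl, compl_compl]
      rw [this]
      exact (hcpt _ hscl.isOpen_compl hsc).isClosed.isOpen_compl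
  have h2 : Continuous (fun t : ProEtW.closedPoints (PrimeSpectrum B) =>
      (WithTopology.toTopology _ (f t) : Tc A)) :=
    @Continuous.comp _ _ _ _ (constructibleTopology (PrimeSpectrum A)) _ _ _
      (WithTopology.continuous_toTopology _) hf'
  exact h2.comp (continuous_retr hB)

/-- the gluing map `LocallyConstant (Spec A)^cons A → B` -/
noncomputable def glueB : LocallyConstant (Tc A) A →ₐ[A] B :=
  { glueHom.comp ((LocallyConstant.mapRingHom (algebraMap A B)).comp
      (LocallyConstant.comapRingHom ⟨piB B hB, continuous_piB B hB⟩)) with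
    commutes' := fun a => by
      show glueHom _ = _
      convert glueHom_const (algebraMap A B a) using 2
      ext q
      rfl }

theorem glueB_mem_iff (φ : LocallyConstant (Tc A) A) (q : PrimeSpectrum B) :
    glueB B hB φ ∈ q.asIdeal ↔ algebraMap A B (φ (piB B hB q)) ∈ q.asIdeal := by
  show glueHom _ ∈ _ ↔ _
  rw [glueHom_mem_iff]
  rfl

theorem isUnit_glueB (φ : LocallyConstant (Tc A) A) (hφ : φ ∈ Mw A) : IsUnit (glueB B hB φ) := by
  by_contra hnu
  obtain ⟨m, hm, hmem⟩ := exists_max_ideal_of_mem_nonunits hnu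
  let q : PrimeSpectrum B := ⟨m, hm.isPrime⟩
  have h1 : algebraMap A B (φ (piB B hB q)) ∈ q.asIdeal := (glueB_mem_iff B hB φ q).mp hmem
  have h2 : q ⤳ (retr hB q).1 := specializes_retr hB q
  have h4 : q.asIdeal ≤ (retr hB q).1.asIdeal := (PrimeSpectrum.le_iff_specializes _ _).mpr h2
  exact hφ (piB B hB q) (h4 h1)

/-- the canonical map `A_w → B` -/
noncomputable def toB : Aw A →ₐ[A] B :=
  IsLocalization.liftAlgHom (M := Mw A) (f := glueB B hB) (fun m => isUnit_glueB B hB m.1 m.2)

theorem toB_algebraMap (φ : LocallyConstant (Tc A) A) :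
    toB B hB (algebraMap (LocallyConstant (Tc A) A) (Aw A) φ) = glueB B hB φ :=
  IsLocalization.lift_eq _ _

variable {B}

/-- first coordinate of the image of a point under an `A`-algebra map -/
theorem Psi_fst (Ψ : PrimeSpectrum (Aw A) ≃ₜ W A (Tc A) (rho A))
    (hΨ : ∀ y, (Ψ y).1.1 = comap (algebraMap A (Aw A)) y) (φ : Aw A →ₐ[A] B) (q : PrimeSpectrum B) :
    (Ψ (comap φ.toRingHom q)).1.1 = comap (algebraMap A B) q := by
  rw [hΨ, ← comap_comp_apply]
  congr 1
  ext a
  exact φ.commutes a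

theorem Psi_toB (Ψ : PrimeSpectrum (Aw A) ≃ₜ W A (Tc A) (rho A))
    (hΨ2 : ∀ y, pt (Ψ y).1 = comap (algebraMap (LocallyConstant (Tc A) A) (Aw A)) y)
    (q : PrimeSpectrum B) :
    (Ψ (comap (toB B hB).toRingHom q)).1 = (comap (algebraMap A B) q, piB B hB q) := by
  apply pt_injective
  rw [hΨ2]
  ext φ
  rw [mem_pt_iff]
  show toB B hB (algebraMap _ _ φ) ∈ q.asIdeal ↔ _
  rw [toB_algebraMap, glueB_mem_iff]
  rfl

theorem piB_of_isClosed (q : PrimeSpectrum B) (hq : IsClosed ({q} : Set (PrimeSpectrum B))) :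
    piB (A := A) B hB q = WithTopology.toTopology _ (comap (algebraMap A B) q) := by
  have : retr hB q = ⟨q, hq⟩ := retr_eq_of_specializes hB (t := ⟨q, hq⟩) specializes_rfl
  rw [piB, this]

theorem isWLocalMap_toB : ProEtW.IsWLocalMap (comap (toB (A := A) B hB).toRingHom) := by
  obtain ⟨Ψ, hΨ, hΨ2⟩ := exists_Psi A
  refine ⟨Groth.Agent.Lib.Helper10.ProCons.isSpectralMap_comap _, fun q hq => ?_⟩
  rw [isClosed_singleton_iff_Aw A Ψ, Psi_toB hB Ψ hΨ2 q, piB_of_isClosed hB q hq]
  rfl

/-- second coordinate of the image of a point under a w-local `A`-algebra map -/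
theorem Psi_snd (Ψ : PrimeSpectrum (Aw A) ≃ₜ W A (Tc A) (rho A))
    (hΨ : ∀ y, (Ψ y).1.1 = comap (algebraMap A (Aw A)) y) (φ : Aw A →ₐ[A] B)
    (hφ : ProEtW.IsWLocalMap (comap φ.toRingHom)) (q : PrimeSpectrum B) :
    (Ψ (comap φ.toRingHom q)).1.2 = piB B hB q := by
  -- the closed specialization
  have ht : IsClosed ({(retr hB q).1} : Set (PrimeSpectrum B)) := (retr hB q).2
  have h1 : IsClosed ({comap φ.toRingHom (retr hB q).1} : Set (PrimeSpectrum (Aw A))) :=
    hφ.2 _ ht
  rw [isClosed_singleton_iff_Aw A Ψ, Psi_fst Ψ hΨ φ] at h1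
  have h2 : (Ψ (comap φ.toRingHom (retr hB q).1)).1.2 = piB B hB q := by
    apply WithTopology.ofTopology_injective
    exact h1.symm
  have h3 : comap φ.toRingHom q ⤳ comap φ.toRingHom (retr hB q).1 :=
    (specializes_retr hB q).map (continuous_comap _)
  have h4 : Ψ (comap φ.toRingHom q) ⤳ Ψ (comap φ.toRingHom (retr hB q).1) := h3.map Ψ.continuous
  rw [specializes_iff] at h4
  rw [h4.2, h2]

theorem charFn_notMem_iff (Ψ : PrimeSpectrum (Aw A) ≃ₜ W A (Tc A) (rho A))
    (hΨ : ∀ y, (Ψ y).1.1 = comap (algebraMap A (Aw A)) y)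
    (hΨ2 : ∀ y, pt (Ψ y).1 = comap (algebraMap (LocallyConstant (Tc A) A) (Aw A)) y)
    (φ : Aw A →ₐ[A] B) (hφ : ProEtW.IsWLocalMap (comap φ.toRingHom))
    (N : Set (Tc A)) (hN : IsClopen N) (q : PrimeSpectrum B) :
    (φ.comp (Algebra.algHom A (LocallyConstant (Tc A) A) (Aw A))) (charFn A hN) ∉ q.asIdeal ↔
      piB B hB q ∈ N := by
  have h1 : (φ.comp (Algebra.algHom A (LocallyConstant (Tc A) A) (Aw A))) (charFn A hN) ∈ q.asIdeal ↔
      charFn A hN ∈ (pt (Ψ (comap φ.toRingHom q)).1).asIdeal := by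
    rw [hΨ2]
    rfl
  rw [h1, mem_pt_iff, Psi_snd hB Ψ hΨ φ hφ q]
  by_cases hmem : piB B hB q ∈ N
  · rw [charFn_of_mem hN hmem]
    exact iff_of_true (Ideal.IsPrime.one_notMem inferInstance) hmem
  · rw [charFn_of_notMem hN hmem]
    exact iff_of_false (fun h => h (Ideal.zero_mem _)) hmem

variable (A B)

include hB in
/-- **Universal property of the w-localization.** -/
theorem existsUnique_wLocal :
    ∃! φ : Aw A →ₐ[A] B, ProEtW.IsWLocalMap (comap φ.toRingHom) := by
  obtain ⟨Ψ, hΨ, hΨ2⟩ := exists_Psi A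
  refine ⟨toB B hB, isWLocalMap_toB hB, fun φ hφ => ?_⟩
  apply IsLocalization.algHom_ext (Mw A)
  exact algHom_ext_of_charFn _ _ (piB B hB) (charFn_notMem_iff hB Ψ hΨ hΨ2 φ hφ)
    (charFn_notMem_iff hB Ψ hΨ hΨ2 (toB B hB) (isWLocalMap_toB hB))

end univ

end Groth.Agent.R2.H3.WLocUniv
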