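import Mathlib
import Groth.Prelude.Def_ProEtW
import Groth.Agent.R2.H3WLocUniv
import Groth.Agent.R2.H3IdLoc
import Groth.Agent.R2.H3LocIso
import Groth.Agent.S0738
import Groth.Agent.S0696
import Groth.Agent.S0698

/-!
# Rings whose faithfully flat ind-Zariski algebras split (helper3)

`hasIndZariskiRetractions_iff`: every faithfully flat ind-Zariski `A`-algebra has a retraction iff `Spec A` is
w-local with extremally disconnected `π₀`.
-/

set_option autoImplicit false
set_option linter.style.haveILetI false
open PrimeSpectrum Topology
open Groth.Agent.R2.H3.WLocalPi Groth.Agent.R2.H3.IndZarFactor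
universe u

namespace Groth.Agent.R2.H3.IndZarRetr

/-- a retract of an extremally disconnected space is extremally disconnected -/
theorem extremallyDisconnected_of_retract {X P : Type*} [TopologicalSpace X] [TopologicalSpace P]
    [ExtremallyDisconnected P] (i : X → P) (p : P → X) (hi : Continuous i) (hp : Continuous p)
    (h : ∀ x, p (i x) = x) : ExtremallyDisconnected X where
  open_closure U hU := by
    have h1 : IsOpen (closure (p ⁻¹' U)) := ExtremallyDisconnected.open_closure _ (hU.preimage hp)
    have h2 : closure U = i ⁻¹' closure (p ⁻¹' U) := by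
      apply Set.Subset.antisymm
      · apply closure_minimal _ (isClosed_closure.preimage hi)
        intro x hx
        apply subset_closure
        show p (i x) ∈ U
        rw [h]
        exact hx
      · intro x hx
        have h3 : closure (p ⁻¹' U) ⊆ p ⁻¹' closure U :=
          closure_minimal (Set.preimage_mono subset_closure) (isClosed_closure.preimage hp)
        have := h3 hx
        rwa [Set.mem_preimage, h] at this
    rw [h2]
    exact h1.preimage hi

/-- a closed subspace (given by a closed embedding) of a w-local space is w-local -/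
theorem isWLocal_of_isClosedEmbedding {X Y : Type u} [TopologicalSpace X] [TopologicalSpace Y]
    [SpectralSpace X] (f : X → Y) (hf : IsClosedEmbedding f) (hY : ProEtW.IsWLocal Y) :
    ProEtW.IsWLocal X := by
  have h := Groth.Agent.S0738.result Y hY (Set.range f) hf.isClosed_range
  exact Groth.Agent.R2.H3.RhoLoc.isWLocal_of_homeomorph hf.isEmbedding.toHomeomorph h.2.1 h.2.2

variable (A : Type u) [CommRing A]

theorem wLocal_extrDisc_of_hasIndZariskiRetractions (h : ProEtW.HasIndZariskiRetractions A) :
    ProEtW.IsWLocal (PrimeSpectrum A) ∧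
      ExtremallyDisconnected (ConnectedComponents (PrimeSpectrum A)) := by
  obtain ⟨A', _, _, hff, hind, hW, hE⟩ := Groth.Agent.S0696.result A
  obtain ⟨r⟩ := h A' hff hind
  have hr : ∀ a : A, r (algebraMap A A' a) = a := fun a => r.commutes a
  have hsurj : Function.Surjective r.toRingHom := fun a => ⟨algebraMap A A' a, hr a⟩
  have hcomp : ∀ x : PrimeSpectrum A, comap (algebraMap A A') (comap r.toRingHom x) = x := by
    intro x
    rw [← comap_comp_apply]
    have : r.toRingHom.comp (algebraMap A A') = RingHom.id A := RingHom.ext hr
    rw [this, comap_id]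
  refine ⟨isWLocal_of_isClosedEmbedding (comap r.toRingHom)
    (isClosedEmbedding_comap_of_surjective _ _ hsurj) hW, ?_⟩
  refine extremallyDisconnected_of_retract
    (continuous_comap r.toRingHom).connectedComponentsMap
    (continuous_comap (algebraMap A A')).connectedComponentsMap
    (Continuous.connectedComponentsMap_continuous _) (Continuous.connectedComponentsMap_continuous _)
    fun c => ?_
  obtain ⟨x, rfl⟩ := ConnectedComponents.surjective_coe c
  rw [Continuous.connectedComponentsMap_mk, Continuous.connectedComponentsMap_mk, hcomp]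

theorem nonempty_retraction (hW : ProEtW.IsWLocal (PrimeSpectrum A))
    (hE : ExtremallyDisconnected (ConnectedComponents (PrimeSpectrum A)))
    (B : Type u) [CommRing B] [Algebra A B] (hff : Module.FaithfullyFlat A B)
    (hind : EtPBC.IsIndZariski A B) : Nonempty (B →ₐ[A] A) := by
  classical
  -- step 1: the w-localization of `B`
  obtain ⟨B', _, _, hF', hff', hB', -⟩ := Groth.Agent.R2.H3.WLocalization.exists_wLocalization B
  letI : Algebra A B' := ((algebraMap B B').comp (algebraMap A B)).toAlgebra
  haveI : IsScalarTower A B B' := IsScalarTower.of_algebraMap_eq (fun _ => rfl)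
  haveI : Module.FaithfullyFlat B B' := hff'
  haveI := hff
  have hsurjAB' : Function.Surjective (comap (algebraMap A B')) := by
    have h1 := PrimeSpectrum.comap_surjective_of_faithfullyFlat (A := A) (B := B)
    have h2 := PrimeSpectrum.comap_surjective_of_faithfullyFlat (A := B) (B := B')
    intro x
    obtain ⟨y, rfl⟩ := h1 x
    obtain ⟨y', rfl⟩ := h2 y
    refine ⟨y', ?_⟩
    rw [IsScalarTower.algebraMap_eq A B B', comap_comp_apply]
  have hid' : EtPBC.IdentifiesLocalRings A B' :=
    Groth.Agent.R2.H3.IdLoc.identifies_comp
      (Groth.Agent.R2.H3.IdLoc.identifies_of_factor (factor_of_isIndZariski hind))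
      (Groth.Agent.R2.H3.IdLoc.identifies_of_factor hF')
  -- step 2: the section on closed points
  let Z : Type u := ProEtW.closedPoints (PrimeSpectrum A)
  let Z' : Type u := ProEtW.closedPoints (PrimeSpectrum B')
  haveI : CompactSpace Z := compactSpace_closedPoints hW
  haveI : T2Space Z := t2Space_closedPoints hW
  haveI : CompactSpace Z' := compactSpace_closedPoints hB'
  haveI : T2Space Z' := t2Space_closedPoints hB'
  let Z'' : Set Z' := {t | comap (algebraMap A B') t.1 ∈ ProEtW.closedPoints (PrimeSpectrum A)}
  have hZ''closed : IsClosed Z'' :=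
    hW.2.1.preimage ((continuous_comap (algebraMap A B')).comp continuous_subtype_val)
  haveI : CompactSpace Z'' := isCompact_iff_compactSpace.mp hZ''closed.isCompact
  let g : Z'' → Z := fun t => ⟨comap (algebraMap A B') t.1.1, t.2⟩
  have hg : Continuous g :=
    Continuous.subtype_mk ((continuous_comap (algebraMap A B')).comp
      (continuous_subtype_val.comp continuous_subtype_val)) _
  have hgsurj : Function.Surjective g := by
    intro z
    obtain ⟨y, hy⟩ := hsurjAB' z.1
    have hs : comap (algebraMap A B') y ⤳ comap (algebraMap A B') (retr hB' y).1 :=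
      (specializes_retr hB' y).map (continuous_comap _)
    rw [hy] at hs
    have heq : comap (algebraMap A B') (retr hB' y).1 = z.1 :=
      (Groth.Agent.Lib.Helper10.Pi0.isClosed_singleton_iff_forall_specializes.mp z.2) _ hs
    exact ⟨⟨retr hB' y, by show _ ∈ ProEtW.closedPoints _; rw [heq]; exact z.2⟩, Subtype.ext heq⟩
  haveI : ExtremallyDisconnected Z := extremallyDisconnected_of_homeo (closedPointsHomeo hW).symm
  obtain ⟨s, hs, hgs⟩ := CompactT2.ExtremallyDisconnected.projective (A := Z)
    (continuous_id (X := Z)) hg hgsurj
  have hgs' : ∀ z : Z, comap (algebraMap A B') (s z).1.1 = z.1 := fun z =>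
    congrArg Subtype.val (congrFun hgs z)
  -- step 3: the closed subset of `π₀(Spec B')` and the ind-Zariski quotient
  haveI : T2Space (ConnectedComponents (PrimeSpectrum B')) := t2Space_pi0 hB'
  let σ : Z → ConnectedComponents (PrimeSpectrum B') := fun z => ConnectedComponents.mk (s z).1.1
  have hσ : Continuous σ := ConnectedComponents.continuous_coe.comp
    (continuous_subtype_val.comp (continuous_subtype_val.comp hs))
  let T' : Set (ConnectedComponents (PrimeSpectrum B')) := Set.range σ
  have hT' : IsClosed T' := (isCompact_range hσ).isClosed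
  obtain ⟨B'', _, _, hind'', hsurj'', hemb'', hrange''⟩ := Groth.Agent.S0698.result B' T' hT'
  letI : Algebra A B'' := ((algebraMap B' B'').comp (algebraMap A B')).toAlgebra
  haveI : IsScalarTower A B' B'' := IsScalarTower.of_algebraMap_eq (fun _ => rfl)
  have hid'' : EtPBC.IdentifiesLocalRings A B'' :=
    Groth.Agent.R2.H3.IdLoc.identifies_comp hid'
      (Groth.Agent.R2.H3.IdLoc.identifies_of_factor (factor_of_isIndZariski hind''))
  have hcomp : ∀ y'' : PrimeSpectrum B'', comap (algebraMap A B'') y'' =
      comap (algebraMap A B') (comap (algebraMap B' B'') y'') := by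
    intro y''
    rw [IsScalarTower.algebraMap_eq A B' B'', comap_comp_apply]
  have hkey : ∀ y'' : PrimeSpectrum B'', ∃ z : Z,
      retr hB' (comap (algebraMap B' B'') y'') = (s z).1 := by
    intro y''
    have : comap (algebraMap B' B'') y'' ∈ ConnectedComponents.mk ⁻¹' T' := by
      rw [← hrange'']
      exact ⟨y'', rfl⟩
    obtain ⟨z, hz⟩ := this
    refine ⟨z, ?_⟩
    rw [retr, Homeomorph.symm_apply_eq, closedPointsHomeo_apply]
    exact hz.symm
  have hbij : Function.Bijective (comap (algebraMap A B'')) := by
    constructor
    · intro y₁ y₂ h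
      obtain ⟨z₁, hz₁⟩ := hkey y₁
      obtain ⟨z₂, hz₂⟩ := hkey y₂
      rw [hcomp, hcomp] at h
      have hs₁ : comap (algebraMap B' B'') y₁ ⤳ (s z₁).1.1 := by
        rw [← hz₁]
        exact specializes_retr hB' _
      have hs₂ : comap (algebraMap B' B'') y₂ ⤳ (s z₂).1.1 := by
        rw [← hz₂]
        exact specializes_retr hB' _
      have hx₁ : comap (algebraMap A B') (comap (algebraMap B' B'') y₁) ⤳ z₁.1 := by
        have := hs₁.map (continuous_comap (algebraMap A B'))
        rwa [hgs'] at this
      have hx₂ : comap (algebraMap A B') (comap (algebraMap B' B'') y₂) ⤳ z₂.1 := by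
        have := hs₂.map (continuous_comap (algebraMap A B'))
        rwa [hgs'] at this
      have e₁ := retr_eq_of_specializes hW hx₁
      have e₂ := retr_eq_of_specializes hW hx₂
      have hz : z₁ = z₂ := by rw [← e₁, ← e₂, h]
      subst hz
      have := Groth.Agent.R2.H3.LocIso.eq_of_le_of_comap_eq (s z₁).1.1 (hid' _) _ _
        ((le_iff_specializes _ _).mpr hs₁) ((le_iff_specializes _ _).mpr hs₂) h
      exact hemb''.injective this
    · intro x
      have hx : x ≤ comap (algebraMap A B') (s (retr hW x)).1.1 := by
        rw [hgs']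
        exact (le_iff_specializes _ _).mpr (specializes_retr hW x)
      obtain ⟨y', hy', hy'x⟩ := Groth.Agent.R2.H3.LocIso.exists_le_comap_eq (s (retr hW x)).1.1
        (hid' _) x hx
      have hmem : y' ∈ Set.range (comap (algebraMap B' B'')) := by
        rw [hrange'']
        refine ⟨retr hW x, ?_⟩
        show ConnectedComponents.mk (s (retr hW x)).1.1 = ConnectedComponents.mk y'
        exact Groth.Agent.Lib.Helper10.Pi0.mk_eq_of_specializes _ ((le_iff_specializes _ _).mp hy')
      obtain ⟨y'', rfl⟩ := hmem
      exact ⟨y'', by rw [hcomp, hy'x]⟩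
  have hbijAB'' : Function.Bijective (algebraMap A B'') :=
    Groth.Agent.R2.H3.LocIso.bijective_of_bijective_comap hid'' hbij
  let ε : A ≃ₐ[A] B'' := AlgEquiv.ofBijective (Algebra.ofId A B'') hbijAB''
  exact ⟨(ε.symm : B'' →ₐ[A] A).comp
    ((IsScalarTower.toAlgHom A B' B'').comp (IsScalarTower.toAlgHom A B B'))⟩

/-- **Characterization of rings whose faithfully flat ind-Zariski algebras split.** -/
theorem hasIndZariskiRetractions_iff :
    ProEtW.HasIndZariskiRetractions A ↔
      (ProEtW.IsWLocal (PrimeSpectrum A) ∧
        ExtremallyDisconnected (ConnectedComponents (PrimeSpectrum A))) :=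
  ⟨wLocal_extrDisc_of_hasIndZariskiRetractions A,
    fun h B _ _ hff hind => nonempty_retraction A h.1 h.2 B hff hind⟩

end Groth.Agent.R2.H3.IndZarRetr
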