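import Mathlib

/-!
# Integrally closed criteria via flat two-generated ideals; torsion-free modules over Bezout p.p. rings

* `mem_range_of_isIntegralElem_of_flat_span_pair`: if `φ : R →+* R'` is injective, `x : R'` is
  integral over `R`, `φ s` is a unit, `φ s * x = φ y` and the ideal `(s, y)` of `R` is flat, then
  `x ∈ range φ`.
* `IsTF`: a torsion-freeness condition satisfied by flat modules, inherited by submodules, and
  implying flatness over Bezout rings in which annihilators of elements are generated by idempotents.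
-/

set_option autoImplicit false
open Polynomial TensorProduct

namespace Groth.Agent.R2.H3.IntClosedA

section IC

variable {R R' : Type*} [CommRing R] [CommRing R']

/-- scaling the root in an integrality equation -/
lemma exists_pow_eq_mul_of_isIntegralElem (φ : R →+* R') (x : R') (p : R[X]) (hp : p.Monic)
    (hpx : eval₂ φ x p = 0) (β u : R) (hu : φ u = φ β * x) :
    ∃ w : R, φ (u ^ p.natDegree) = φ (β * w) := by
  classical
  set n := p.natDegree with hn
  refine ⟨- ∑ i ∈ Finset.range n, p.coeff i * β ^ (n - 1 - i) * u ^ i, ?_⟩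
  have h1 : eval₂ φ x p = x ^ n + ∑ i ∈ Finset.range n, φ (p.coeff i) * x ^ i := by
    rw [eval₂_eq_sum_range, Finset.sum_range_succ, ← hn, hp.coeff_natDegree, map_one, one_mul,
      add_comm]
  rw [h1] at hpx
  have h2 : (φ β) ^ n * (x ^ n + ∑ i ∈ Finset.range n, φ (p.coeff i) * x ^ i) = 0 := by
    rw [hpx, mul_zero]
  rw [mul_add, ← mul_pow, ← hu, Finset.mul_sum] at h2
  have h3 : ∀ i ∈ Finset.range n, φ β ^ n * (φ (p.coeff i) * x ^ i) =
      φ (β * (p.coeff i * β ^ (n - 1 - i) * u ^ i)) := by
    intro i hi
    have hi' : i < n := Finset.mem_range.mp hi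
    have hni : n = (n - 1 - i) + 1 + i := by omega
    simp only [map_mul, map_pow, hu]
    conv_lhs => rw [hni]
    ring
  rw [Finset.sum_congr rfl h3, ← map_sum, ← Finset.mul_sum] at h2
  rw [map_pow, eq_neg_of_add_eq_zero_left h2, mul_neg, map_neg]

/-- **Key lemma.** Let `φ : R →+* R'` be injective, `x : R'` integral over `R`, `s y : R` with
`φ s` a unit and `φ s * x = φ y`. If the ideal `(s, y)` of `R` is flat, then `x` lies in the image
of `φ`. -/
theorem mem_range_of_isIntegralElem_of_flat_span_pair (φ : R →+* R')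
    (hinj : Function.Injective φ) (x : R') (hx : φ.IsIntegralElem x) (s y : R)
    (hs : IsUnit (φ s)) (hy : φ s * x = φ y)
    (hflat : Module.Flat R (Ideal.span {s, y} : Ideal R)) : x ∈ φ.range := by
  classical
  obtain ⟨p, hp, hpx⟩ := hx
  set I : Ideal R := Ideal.span {s, y} with hI
  have hsI : s ∈ I := Ideal.subset_span (by simp)
  have hyI : y ∈ I := Ideal.subset_span (by simp)
  -- the relation y • s - s • y = 0 in I
  have hrel : ∑ i : Fin 2, (![y, -s] i) • (![(⟨s, hsI⟩ : I), ⟨y, hyI⟩] i) = 0 := by
    rw [Fin.sum_univ_two]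
    apply Subtype.ext
    simp only [Matrix.cons_val_zero, Matrix.cons_val_one, Submodule.coe_add, Submodule.coe_smul,
      smul_eq_mul, Submodule.coe_zero]
    ring
  obtain ⟨k, a, z, hz, ha⟩ := Module.Flat.isTrivialRelation_of_sum_smul_eq_zero hrel
  have hz0 : s = ∑ j, a 0 j * (z j : R) := by
    have := congrArg (Subtype.val) (hz 0)
    simpa using this
  have ha' : ∀ j, y * a 0 j = s * a 1 j := by
    intro j
    have := ha j
    rw [Fin.sum_univ_two] at this
    simp only [Matrix.cons_val_zero, Matrix.cons_val_one] at this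
    linear_combination this
  -- each z j is a combination of s and y
  have hzj : ∀ j, ∃ pj rj : R, pj * s + rj * y = (z j : R) := fun j =>
    Ideal.mem_span_pair.mp (z j).2
  choose P Q hPQ using hzj
  -- x * φ (a 0 j) = φ (a 1 j)
  have hxa : ∀ j, x * φ (a 0 j) = φ (a 1 j) := by
    intro j
    have := congrArg φ (ha' j)
    rw [map_mul, map_mul, ← hy] at this
    apply hs.mul_left_cancel
    rw [← this]; ring
  set α : R := ∑ j, a 0 j * P j with hα
  set β : R := ∑ j, a 0 j * Q j with hβ
  set u : R := ∑ j, a 1 j * Q j with hu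
  set α' : R := ∑ j, a 1 j * P j with hα'
  have hxα : x * φ α = φ α' := by
    rw [hα, hα', map_sum, map_sum, Finset.mul_sum]
    refine Finset.sum_congr rfl fun j _ => ?_
    rw [map_mul, map_mul, ← hxa j]; ring
  have hxβ : φ u = φ β * x := by
    rw [hβ, hu, map_sum, map_sum, Finset.sum_mul]
    refine Finset.sum_congr rfl fun j _ => ?_
    rw [map_mul, map_mul, ← hxa j]; ring
  -- 1 = α + u
  have h1 : (1 : R) = α + u := by
    apply hinj
    apply hs.mul_left_cancel
    have e1 : φ s * φ u = φ (β * y) := by rw [hxβ, map_mul, ← hy]; ring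
    have e2 : s * α + β * y = s := by
      conv_rhs => rw [hz0]
      rw [hα, hβ, Finset.mul_sum, Finset.sum_mul, ← Finset.sum_add_distrib]
      refine Finset.sum_congr rfl fun j _ => ?_
      rw [← hPQ j]; ring
    rw [map_one, mul_one, map_add, mul_add, e1, ← map_mul, ← map_add, e2]
  obtain ⟨w, hw⟩ := exists_pow_eq_mul_of_isIntegralElem φ x p hp hpx β u hxβ
  set n := p.natDegree
  have hdvd : α ∣ (α + u) ^ n - u ^ n := by
    have := sub_dvd_pow_sub_pow (α + u) u n
    simpa using this
  obtain ⟨t, ht⟩ := hdvd
  have h2 : (1 : R) = u ^ n + α * t := by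
    rw [← ht, ← h1]; ring
  refine ⟨u * w + α' * t, ?_⟩
  have e3 : x * φ (u ^ n) = φ (u * w) := by
    rw [hw, map_mul, map_mul, hxβ]; ring
  have e4 : x * φ (α * t) = φ (α' * t) := by
    rw [map_mul, ← mul_assoc, hxα, map_mul]
  calc φ (u * w + α' * t) = x * φ (u ^ n) + x * φ (α * t) := by rw [map_add, e3, e4]
    _ = x * φ (u ^ n + α * t) := by rw [map_add, mul_add]
    _ = x := by rw [← h2, map_one, mul_one]

end IC

section TF

variable (V : Type*) [CommRing V] (M : Type*) [AddCommGroup M] [Module V M]

/-- A torsion-freeness condition: whenever `g • m = 0` and `e` acts as the identity on the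
annihilator of `g`, then `e • m = m`. -/
def IsTF : Prop :=
  ∀ (g e : V), (∀ x : V, g * x = 0 → e * x = x) → ∀ m : M, g • m = 0 → e • m = m

variable {V M}

/-- Flat modules satisfy `IsTF`. -/
theorem isTF_of_flat [Module.Flat V M] : IsTF V M := by
  intro g e he m hm
  have hrel : ∑ i : Fin 1, (![g] i) • (![m] i) = 0 := by
    simpa using hm
  obtain ⟨k, a, z, hz, ha⟩ := Module.Flat.isTrivialRelation_of_sum_smul_eq_zero hrel
  have hm' : m = ∑ j, a 0 j • z j := by simpa using hz 0
  have ha' : ∀ j, g * a 0 j = 0 := by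
    intro j
    simpa using ha j
  rw [hm', Finset.smul_sum]
  refine Finset.sum_congr rfl fun j _ => ?_
  rw [smul_smul, he _ (ha' j)]

/-- `IsTF` passes to submodules. -/
theorem IsTF.submodule (h : IsTF V M) (N : Submodule V M) : IsTF V N := by
  intro g e he m hm
  apply Subtype.ext
  have := h g e he (m : M) (by simpa using congrArg Subtype.val hm)
  simpa using this

/-- `IsTF` passes to submodules of a module over a `V`-algebra. -/
theorem IsTF.submodule' {R : Type*} [CommRing R] [Algebra V R] [Module R M] [IsScalarTower V R M]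
    (h : IsTF V M) (N : Submodule R M) : IsTF V N := by
  intro g e he m hm
  apply Subtype.ext
  have := h g e he (m : M) (by simpa using congrArg Subtype.val hm)
  simpa using this

/-- Over a Bezout ring in which the annihilator of each element is generated by an idempotent
(more precisely: has an element acting as identity on it and killing the element),
`IsTF` modules are flat. -/
theorem flat_of_isTF [IsBezout V]
    (hpp : ∀ g : V, ∃ e : V, e * g = 0 ∧ ∀ x : V, g * x = 0 → e * x = x) (h : IsTF V M) :
    Module.Flat V M := by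
  rw [Module.Flat.iff_lift_lsmul_comp_subtype_injective]
  intro I hI
  have hprin : I.IsPrincipal := IsBezout.isPrincipal_of_FG I hI
  obtain ⟨g, hg⟩ := hprin.principal
  have hgI : g ∈ I := by rw [hg]; exact Submodule.mem_span_singleton_self g
  obtain ⟨e, heg, he⟩ := hpp g
  -- every element is of the form g' ⊗ m
  have hform : ∀ t : I ⊗[V] M, ∃ m : M, t = (⟨g, hgI⟩ : I) ⊗ₜ[V] m := by
    intro t
    induction t using TensorProduct.induction_on with
    | zero => exact ⟨0, by simp⟩
    | tmul i m =>
      have hi : (i : V) ∈ Submodule.span V {g} := by rw [← hg]; exact i.2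
      obtain ⟨r, hr⟩ := Submodule.mem_span_singleton.mp hi
      refine ⟨r • m, ?_⟩
      rw [TensorProduct.tmul_smul, TensorProduct.smul_tmul']
      congr 1
      apply Subtype.ext
      simpa using hr.symm
    | add x y hx hy =>
      obtain ⟨m, rfl⟩ := hx
      obtain ⟨m', rfl⟩ := hy
      exact ⟨m + m', by rw [TensorProduct.tmul_add]⟩
  rw [injective_iff_map_eq_zero]
  intro t ht
  obtain ⟨m, rfl⟩ := hform t
  have hgm : g • m = 0 := by simpa using ht
  have hem := h g e he m hgm
  have h0 : e • (⟨g, hgI⟩ : I) = 0 := by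
    apply Subtype.ext
    simpa using heg
  calc (⟨g, hgI⟩ : I) ⊗ₜ[V] m = (⟨g, hgI⟩ : I) ⊗ₜ[V] (e • m) := by rw [hem]
    _ = (e • (⟨g, hgI⟩ : I)) ⊗ₜ[V] m := by
      rw [TensorProduct.tmul_smul, TensorProduct.smul_tmul']
    _ = 0 := by rw [h0, TensorProduct.zero_tmul]

end TF

end Groth.Agent.R2.H3.IntClosedA
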