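import Mathlib
import Groth.Agent.R2.H3IntClosedA
import Groth.Agent.Lib.Helper14WEFlat

set_option autoImplicit false
universe u
open TensorProduct

namespace Groth.Agent.R2.H3.IntClosedB

open Groth.Agent.R2.H3.IntClosedA

section Pi

variable {ι : Type*} (R : ι → Type*) [∀ i, CommRing (R i)] [∀ i, IsDomain (R i)]

/-- In a product of domains, annihilators of elements are generated by idempotents. -/
theorem pi_pp (g : ∀ i, R i) : ∃ e : ∀ i, R i, e * g = 0 ∧ ∀ x, g * x = 0 → e * x = x := by
  classical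
  refine ⟨fun i => if g i = 0 then 1 else 0, ?_, ?_⟩
  · funext i
    by_cases h : g i = 0 <;> simp [h]
  · intro x hx
    funext i
    have hi : g i * x i = 0 := congrFun hx i
    by_cases h : g i = 0
    · simp [h]
    · have : x i = 0 := (mul_eq_zero.mp hi).resolve_left h
      simp [h, this]

/-- A product of valuation rings is a Bezout ring. -/
theorem pi_isBezout [∀ i, ValuationRing (R i)] : IsBezout (∀ i, R i) := by
  classical
  rw [IsBezout.iff_span_pair_isPrincipal]
  intro x y
  have hxy : ∀ i, x i ∣ y i ∨ y i ∣ x i := fun i => ValuationRing.dvd_total (x i) (y i)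
  -- generator
  let c : ∀ i, R i := fun i => if x i ∣ y i then x i else y i
  let p : ∀ i, R i := fun i => if x i ∣ y i then 1 else 0
  let q : ∀ i, R i := fun i => if x i ∣ y i then 0 else 1
  have hc : c = p * x + q * y := by
    funext i
    by_cases h : x i ∣ y i <;> simp [c, p, q, h]
  have hx' : ∀ i, ∃ k, x i = c i * k := by
    intro i
    by_cases h : x i ∣ y i
    · exact ⟨1, by simp [c, h]⟩
    · obtain ⟨k, hk⟩ := (hxy i).resolve_left h
      exact ⟨k, by rw [show c i = y i from if_neg h]; exact hk⟩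
  have hy' : ∀ i, ∃ k, y i = c i * k := by
    intro i
    by_cases h : x i ∣ y i
    · have hci : c i = x i := if_pos h
      obtain ⟨k, hk⟩ := h
      exact ⟨k, by rw [hci]; exact hk⟩
    · exact ⟨1, by rw [show c i = y i from if_neg h, mul_one]⟩
  choose x' hx' using hx'
  choose y' hy' using hy'
  refine ⟨⟨c, ?_⟩⟩
  apply le_antisymm
  · rw [Ideal.span_le]
    intro z hz
    rcases hz with rfl | rfl
    · exact Ideal.mem_span_singleton'.mpr ⟨x', by funext i; simp [hx' i, mul_comm]⟩
    · exact Ideal.mem_span_singleton'.mpr ⟨y', by funext i; simp [hy' i, mul_comm]⟩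
  · rw [Submodule.span_singleton_le_iff_mem, hc]
    exact Ideal.mem_span_pair.mpr ⟨p, q, rfl⟩

end Pi

section Main

variable (A : Type u) [CommRing A] (K : Type u) [Field K] [Algebra A K]

/-- valuation subrings of `K` containing the image of `A` -/
abbrev Idx : Type u := {v : ValuationSubring K // ∀ a : A, algebraMap A K a ∈ v}

noncomputable instance algV (v : Idx A K) : Algebra A ↥v.1 :=
  RingHom.toAlgebra
    { toFun := fun a => ⟨algebraMap A K a, v.2 a⟩
      map_one' := Subtype.ext (map_one _)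
      map_mul' := fun a b => Subtype.ext (map_mul _ a b)
      map_zero' := Subtype.ext (map_zero _)
      map_add' := fun a b => Subtype.ext (map_add _ a b) }

/-- the product of all valuation rings of `K` containing `A` -/
abbrev VRing : Type u := ∀ v : Idx A K, ↥v.1

/-- the product of copies of `K` -/
abbrev LRing : Type u := Idx A K → K

/-- coordinatewise inclusion `V → L` -/
noncomputable def iota : VRing A K →ₐ[A] LRing A K where
  toFun w v := (w v : K)
  map_one' := rfl
  map_mul' _ _ := rfl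
  map_zero' := rfl
  map_add' _ _ := rfl
  commutes' _ := rfl

/-- diagonal `K → L` -/
noncomputable def delta : K →ₐ[A] LRing A K := Pi.constAlgHom A (Idx A K) K

lemma iota_apply (w : VRing A K) (v : Idx A K) : iota A K w v = (w v : K) := rfl

lemma delta_apply (k : K) (v : Idx A K) : delta A K k v = k := rfl

lemma iota_injective : Function.Injective (iota A K) := by
  intro w w' h
  funext v
  exact Subtype.ext (congrFun h v)

/-- `A` is the intersection of the valuation rings containing it. -/
lemma mem_range_of_forall_mem [IsDomain A] [IsIntegrallyClosed A] [IsFractionRing A K] (k : K) (hk : ∀ v : Idx A K, k ∈ v.1) :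
    k ∈ (algebraMap A K).range := by
  by_contra h
  let R : Subring K := (algebraMap A K).range
  letI : Algebra A R := ((algebraMap A K).rangeRestrict).toAlgebra
  haveI : IsScalarTower A R K := .of_algebraMap_eq fun _ => rfl
  haveI : Algebra.IsIntegral A R :=
    Algebra.isIntegral_of_surjective (algebraMap A K).rangeRestrict_surjective
  haveI : IsIntegrallyClosedIn R K := by
    rw [Subring.isIntegrallyClosedIn_iff]
    intro x hx
    have hx' : IsIntegral A x := isIntegral_trans x hx
    obtain ⟨a, ha⟩ := (isIntegrallyClosed_iff K).mp inferInstance hx'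
    exact ⟨a, ha⟩
  obtain ⟨v, hRv, hkv⟩ := Subring.exists_le_valuationSubring_of_isIntegrallyClosedIn (R := R) h
  exact hkv (hk ⟨v, fun a => hRv ⟨a, rfl⟩⟩)

/-- denominators: every element of `L` becomes an element of `V` after multiplying by an element
of `V` which is a unit in `L`. -/
lemma exists_denom (l : LRing A K) :
    ∃ s w : VRing A K, IsUnit (iota A K s) ∧ iota A K s * l = iota A K w := by
  classical
  have h : ∀ v : Idx A K, ∃ s w : ↥v.1, (s : K) ≠ 0 ∧ (s : K) * l v = w := by
    intro v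
    rcases v.1.mem_or_inv_mem (l v) with h | h
    · exact ⟨1, ⟨l v, h⟩, by simp, by simp⟩
    · by_cases h0 : l v = 0
      · exact ⟨1, 0, by simp, by simp [h0]⟩
      · exact ⟨⟨(l v)⁻¹, h⟩, 1, by simpa using h0, by simp [h0]⟩
  choose s w hs hw using h
  refine ⟨s, w, ?_, ?_⟩
  · rw [Pi.isUnit_iff]
    intro v
    exact (hs v).isUnit
  · funext v
    exact hw v


section Tensor

variable (B : Type u) [CommRing B] [Algebra A B]

/-- `V ⊗ B → L ⊗ B` -/
noncomputable def Phi : VRing A K ⊗[A] B →ₐ[A] LRing A K ⊗[A] B :=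
  Algebra.TensorProduct.map (iota A K) (AlgHom.id A B)

/-- `K ⊗ B → L ⊗ B` -/
noncomputable def PsiK : K ⊗[A] B →ₐ[A] LRing A K ⊗[A] B :=
  Algebra.TensorProduct.map (delta A K) (AlgHom.id A B)

lemma map_id_eq_rTensor {S T : Type*} [CommRing S] [CommRing T] [Algebra A S] [Algebra A T]
    (h : S →ₐ[A] T) (z : S ⊗[A] B) :
    Algebra.TensorProduct.map h (AlgHom.id A B) z = h.toLinearMap.rTensor B z := by
  induction z using TensorProduct.induction_on with
  | zero => simp
  | tmul s b => simp
  | add x y hx hy => simp only [map_add, hx, hy]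

lemma Phi_injective [Module.Flat A B] : Function.Injective (Phi A K B) := by
  have h : Function.Injective ((iota A K).toLinearMap.rTensor B) :=
    Module.Flat.rTensor_preserves_injective_linearMap _ (iota_injective A K)
  intro x y hxy
  apply h
  rw [← map_id_eq_rTensor, ← map_id_eq_rTensor]
  exact hxy

/-- denominators in `L ⊗ B` -/
lemma exists_denom_tensor (x : LRing A K ⊗[A] B) :
    ∃ s : VRing A K, IsUnit (iota A K s) ∧
      ∃ y : VRing A K ⊗[A] B, ((iota A K s) ⊗ₜ[A] (1 : B)) * x = Phi A K B y := by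
  induction x using TensorProduct.induction_on with
  | zero => exact ⟨1, by simp, 0, by simp⟩
  | tmul l b =>
    obtain ⟨s, w, hs, hw⟩ := exists_denom A K l
    refine ⟨s, hs, w ⊗ₜ b, ?_⟩
    rw [Algebra.TensorProduct.tmul_mul_tmul, hw, one_mul]
    simp [Phi]
  | add x y hx hy =>
    obtain ⟨s, hs, x', hx'⟩ := hx
    obtain ⟨t, ht, y', hy'⟩ := hy
    refine ⟨s * t, by rw [map_mul]; exact hs.mul ht,
      (t ⊗ₜ 1) * x' + (s ⊗ₜ 1) * y', ?_⟩
    have e1 : (iota A K (s * t)) ⊗ₜ[A] (1 : B) =
        ((iota A K t) ⊗ₜ[A] (1 : B)) * ((iota A K s) ⊗ₜ[A] (1 : B)) := by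
      rw [Algebra.TensorProduct.tmul_mul_tmul, map_mul, mul_one, mul_comm]
    have e2 : (iota A K (s * t)) ⊗ₜ[A] (1 : B) =
        ((iota A K s) ⊗ₜ[A] (1 : B)) * ((iota A K t) ⊗ₜ[A] (1 : B)) := by
      rw [Algebra.TensorProduct.tmul_mul_tmul, map_mul, mul_one]
    have e3 : Phi A K B (t ⊗ₜ 1) = (iota A K t) ⊗ₜ[A] (1 : B) := by simp [Phi]
    have e4 : Phi A K B (s ⊗ₜ 1) = (iota A K s) ⊗ₜ[A] (1 : B) := by simp [Phi]
    have e5 : Phi A K B ((t ⊗ₜ 1) * x' + (s ⊗ₜ 1) * y') =
        ((iota A K t) ⊗ₜ[A] (1 : B)) * (((iota A K s) ⊗ₜ[A] (1 : B)) * x) +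
        ((iota A K s) ⊗ₜ[A] (1 : B)) * (((iota A K t) ⊗ₜ[A] (1 : B)) * y) := by
      rw [map_add, map_mul, map_mul, e3, e4, hx', hy']
    rw [e5, mul_add, ← mul_assoc, ← mul_assoc, ← e1, ← e2]

end Tensor

section Flat

variable (B : Type u) [CommRing B] [Algebra A B] [Algebra.WeaklyEtale A B]

/-- Every ideal of `V ⊗ B` is flat. -/
theorem flat_ideal (J : Ideal (VRing A K ⊗[A] B)) : Module.Flat (VRing A K ⊗[A] B) J := by
  haveI : IsBezout (VRing A K) := pi_isBezout _
  have hTF : IsTF (VRing A K) (VRing A K ⊗[A] B) := isTF_of_flat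
  have hTFJ : IsTF (VRing A K) J := hTF.submodule' J
  haveI : Module.Flat (VRing A K) J := flat_of_isTF (pi_pp _) hTFJ
  exact Groth.Agent.Lib.Helper14.WEFlat.flat_of_flat_of_weaklyEtale (VRing A K)
    (VRing A K ⊗[A] B) J

end Flat

section Cart

variable [IsDomain A] [IsIntegrallyClosed A] [IsFractionRing A K]
variable (B : Type u) [CommRing B] [Algebra A B] [Module.Flat A B]

/-- `a ↦ (a, a)` -/
noncomputable def fMap : A →ₗ[A] K × VRing A K :=
  (Algebra.linearMap A K).prod (Algebra.linearMap A (VRing A K))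

/-- `(k, w) ↦ k - w` -/
noncomputable def gMap : K × VRing A K →ₗ[A] LRing A K :=
  (delta A K).toLinearMap.coprod (-(iota A K).toLinearMap)

lemma exact_fMap_gMap : Function.Exact (fMap A K) (gMap A K) := by
  intro p
  constructor
  · intro hp
    obtain ⟨k, w⟩ := p
    have h1 : delta A K k = iota A K w := by
      have : delta A K k + -iota A K w = 0 := by simpa [gMap] using hp
      exact add_neg_eq_zero.mp this
    have h2 : ∀ v : Idx A K, k ∈ v.1 := by
      intro v
      have := congrFun h1 v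
      rw [delta_apply, iota_apply] at this
      rw [this]
      exact (w v).2
    obtain ⟨a, ha⟩ := mem_range_of_forall_mem A K k h2
    refine ⟨a, ?_⟩
    refine Prod.ext ha ?_
    funext v
    apply Subtype.ext
    have := congrFun h1 v
    rw [delta_apply, iota_apply] at this
    rw [← this, ← ha]
    rfl
  · rintro ⟨a, rfl⟩
    show (delta A K) (algebraMap A K a) + -(iota A K) (algebraMap A (VRing A K) a) = 0
    rw [AlgHom.commutes, AlgHom.commutes, add_neg_cancel]

/-- The cartesian square `B = (K ⊗ B) ×_{L ⊗ B} (V ⊗ B)`. -/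
theorem exists_of_PsiK_eq_Phi (x₀ : K ⊗[A] B) (r : VRing A K ⊗[A] B)
    (h : PsiK A K B x₀ = Phi A K B r) : ∃ b : B, (1 : K) ⊗ₜ[A] b = x₀ := by
  have hex := Module.Flat.rTensor_exact B (exact_fMap_gMap A K)
  set t : (K × VRing A K) ⊗[A] B :=
    (LinearMap.inl A K (VRing A K)).rTensor B x₀ + (LinearMap.inr A K (VRing A K)).rTensor B r
    with ht
  have hg : (gMap A K).rTensor B t = 0 := by
    rw [ht, map_add, ← LinearMap.rTensor_comp_apply, ← LinearMap.rTensor_comp_apply]
    have e1 : (gMap A K) ∘ₗ (LinearMap.inl A K (VRing A K)) = (delta A K).toLinearMap := by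
      simp [gMap, LinearMap.coprod_inl]
    have e2 : (gMap A K) ∘ₗ (LinearMap.inr A K (VRing A K)) = -(iota A K).toLinearMap := by
      simp [gMap, LinearMap.coprod_inr]
    rw [e1, e2, LinearMap.rTensor_neg, LinearMap.neg_apply, ← map_id_eq_rTensor,
      ← map_id_eq_rTensor]
    exact sub_eq_zero.mpr h |>.symm ▸ (by rw [sub_eq_add_neg]; rfl)
  obtain ⟨t₀, ht₀⟩ := (hex t).mp hg
  have h3 := congrArg ((LinearMap.fst A K (VRing A K)).rTensor B) ht₀
  rw [← LinearMap.rTensor_comp_apply, ht, map_add, ← LinearMap.rTensor_comp_apply,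
    ← LinearMap.rTensor_comp_apply] at h3
  have e3 : (LinearMap.fst A K (VRing A K)) ∘ₗ (fMap A K) = Algebra.linearMap A K := by
    simp [fMap, LinearMap.fst_prod]
  have e4 : (LinearMap.fst A K (VRing A K)) ∘ₗ (LinearMap.inl A K (VRing A K)) = LinearMap.id :=
    LinearMap.fst_comp_inl A K (VRing A K)
  have e5 : (LinearMap.fst A K (VRing A K)) ∘ₗ (LinearMap.inr A K (VRing A K)) = 0 :=
    LinearMap.fst_comp_inr A K (VRing A K)
  rw [e3, e4, e5, LinearMap.rTensor_id, LinearMap.rTensor_zero, LinearMap.id_apply,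
    LinearMap.zero_apply, add_zero] at h3
  refine ⟨TensorProduct.lid A B t₀, ?_⟩
  rw [← h3]
  have : t₀ = (1 : A) ⊗ₜ[A] (TensorProduct.lid A B t₀) := by
    rw [← TensorProduct.lid_symm_apply, LinearEquiv.symm_apply_apply]
  conv_rhs => rw [this]
  rw [LinearMap.rTensor_tmul, Algebra.linearMap_apply, map_one]

end Cart

section MainThm

variable [IsDomain A] [IsIntegrallyClosed A] [IsFractionRing A K]
variable (B : Type u) [CommRing B] [Algebra A B] [Algebra.WeaklyEtale A B]

/-- **Stacks 092X.** Let `A` be a normal domain with fraction field `K` and `B` a weakly étale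
`A`-algebra. Every element of `K ⊗ B` integral over `B` lies in `B`. -/
theorem exists_of_isIntegralElem (x₀ : K ⊗[A] B)
    (hx₀ : (Algebra.TensorProduct.includeRight : B →ₐ[A] K ⊗[A] B).toRingHom.IsIntegralElem x₀) :
    ∃ b : B, (1 : K) ⊗ₜ[A] b = x₀ := by
  obtain ⟨p, hp, hpx⟩ := hx₀
  set x := PsiK A K B x₀ with hx
  -- x is integral over V ⊗ B
  have hxint : (Phi A K B).toRingHom.IsIntegralElem x := by
    refine ⟨p.map (Algebra.TensorProduct.includeRight : B →ₐ[A] VRing A K ⊗[A] B).toRingHom,
      hp.map _, ?_⟩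
    rw [Polynomial.eval₂_map]
    have e1 : (Phi A K B).toRingHom.comp
        (Algebra.TensorProduct.includeRight : B →ₐ[A] VRing A K ⊗[A] B).toRingHom =
        (PsiK A K B).toRingHom.comp
        (Algebra.TensorProduct.includeRight : B →ₐ[A] K ⊗[A] B).toRingHom := by
      ext b
      simp [Phi, PsiK]
    rw [e1, hx]
    have := Polynomial.hom_eval₂ p
      (Algebra.TensorProduct.includeRight : B →ₐ[A] K ⊗[A] B).toRingHom
      (PsiK A K B).toRingHom x₀
    rw [hpx, map_zero] at this
    exact this.symm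
  obtain ⟨s, hs, y, hy⟩ := exists_denom_tensor A K B x
  have hmem := mem_range_of_isIntegralElem_of_flat_span_pair (Phi A K B).toRingHom
    (Phi_injective A K B) x hxint (s ⊗ₜ 1) y
    (by
      have : (Phi A K B).toRingHom (s ⊗ₜ 1) = (iota A K s) ⊗ₜ[A] (1 : B) := by simp [Phi]
      rw [this]
      exact hs.map (Algebra.TensorProduct.includeLeft : LRing A K →ₐ[A] LRing A K ⊗[A] B))
    (by
      have : (Phi A K B).toRingHom (s ⊗ₜ 1) = (iota A K s) ⊗ₜ[A] (1 : B) := by simp [Phi]
      rw [this]
      exact hy)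
    (flat_ideal A K B _)
  obtain ⟨r, hr⟩ := hmem
  exact exists_of_PsiK_eq_Phi A K B x₀ r hr.symm

end MainThm

end Main

end Groth.Agent.R2.H3.IntClosedB
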