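import Mathlib
import Groth.Agent.Lib.Helper3IndEt

/-!
# The colimit of all étale algebras mapping to a given algebra (helper3)

`isFiltered_obj`: the category of presented étale `A`-algebras over `B` is filtered for every `A`-algebra `B`;
`exists_colimit`: its colimit `C` (ind-étale over `A`) with the structure maps.
-/

set_option autoImplicit false
set_option linter.style.haveILetI false
open CategoryTheory CategoryTheory.Limits TensorProduct
open Groth.Agent.Lib.Helper3.IndEt
universe u

namespace Groth.Agent.R2.H3.LiftQuot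

variable {A B : Type u} [CommRing A] [CommRing B] [Algebra A B]

/-- the coequalizer of two maps of étale algebras is étale -/
theorem etale_coequalizer {E₁ E₂ : Type u} [CommRing E₁] [CommRing E₂] [Algebra A E₁] [Algebra A E₂]
    [Algebra.Etale A E₁] [Algebra.Etale A E₂] (f g : E₁ →ₐ[A] E₂) (K : Ideal E₂) (hK : K.FG)
    (hfg : ∀ x, f x - g x ∈ K)
    (huniv : ∀ (T : Type u) [CommRing T] [Algebra A T] (h : E₂ →ₐ[A] T), h.comp f = h.comp g →
      ∀ x ∈ K, h x = 0) :
    Algebra.Etale A (E₂ ⧸ K) := by
  haveI : Algebra.FinitePresentation A (E₂ ⧸ K) := Algebra.FinitePresentation.quotient hK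
  refine ⟨?_, inferInstance⟩
  rw [Algebra.FormallyEtale.iff_comp_bijective]
  intro T _ _ N hN
  have h1 := Algebra.FormallyEtale.comp_bijective A E₁ N hN
  have h2 := Algebra.FormallyEtale.comp_bijective A E₂ N hN
  constructor
  · intro a b hab
    apply Ideal.Quotient.algHom_ext
    apply h2.1
    show (Ideal.Quotient.mkₐ A N).comp (a.comp (Ideal.Quotient.mkₐ A K)) =
      (Ideal.Quotient.mkₐ A N).comp (b.comp (Ideal.Quotient.mkₐ A K))
    rw [← AlgHom.comp_assoc, ← AlgHom.comp_assoc]
    exact congrArg (fun φ => φ.comp (Ideal.Quotient.mkₐ A K)) hab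
  · intro a
    obtain ⟨h, hh⟩ := h2.2 (a.comp (Ideal.Quotient.mkₐ A K))
    have hfg' : h.comp f = h.comp g := by
      apply h1.1
      show (Ideal.Quotient.mkₐ A N).comp (h.comp f) = (Ideal.Quotient.mkₐ A N).comp (h.comp g)
      rw [← AlgHom.comp_assoc, ← AlgHom.comp_assoc]
      have hh' : (Ideal.Quotient.mkₐ A N).comp h = a.comp (Ideal.Quotient.mkₐ A K) := hh
      rw [hh']
      apply AlgHom.ext
      intro x
      show a (Ideal.Quotient.mk K (f x)) = a (Ideal.Quotient.mk K (g x))
      congr 1
      rw [Ideal.Quotient.eq]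
      exact hfg x
    refine ⟨Ideal.Quotient.liftₐ K h (huniv T h hfg'), ?_⟩
    apply Ideal.Quotient.algHom_ext
    exact hh


/-- the category of presented étale algebras mapping to `B` is always filtered -/
theorem isFiltered_obj : IsFiltered (Obj A B) := by
  haveI : Nonempty (Obj A B) := by
    obtain ⟨j, -, -⟩ := Obj.exists_obj A (Algebra.ofId A B)
    exact ⟨j⟩
  haveI : IsFilteredOrEmpty (Obj A B) := by
    refine ⟨fun j k => ?_, fun j k f g => ?_⟩
    · haveI := etale_tensor A j.E k.E
      obtain ⟨l, e, he⟩ := Obj.exists_obj A (E := j.E ⊗[A] k.E)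
        (Algebra.TensorProduct.productMap j.φ k.φ)
      refine ⟨l, ⟨(e.symm : j.E ⊗[A] k.E →ₐ[A] l.E).comp Algebra.TensorProduct.includeLeft, ?_⟩,
        ⟨(e.symm : j.E ⊗[A] k.E →ₐ[A] l.E).comp Algebra.TensorProduct.includeRight, ?_⟩, trivial⟩
      · rw [← he]
        ext x
        simp
      · rw [← he]
        ext x
        simp
    · classical
      let K : Ideal k.E := Ideal.span (Set.range fun i : Fin j.n =>
        f.1 (Ideal.Quotient.mk j.I (MvPolynomial.X i)) - g.1 (Ideal.Quotient.mk j.I (MvPolynomial.X i)))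
      have hK : K.FG := Submodule.fg_span (Set.finite_range _)
      have hker : ∀ x ∈ K, k.φ x = 0 := by
        intro x hx
        have hle : K ≤ RingHom.ker k.φ.toRingHom := by
          rw [Ideal.span_le]
          rintro _ ⟨i, rfl⟩
          show k.φ _ = 0
          rw [map_sub, sub_eq_zero]
          have h1 := congr($(f.2) (Ideal.Quotient.mk j.I (MvPolynomial.X i)))
          have h2 := congr($(g.2) (Ideal.Quotient.mk j.I (MvPolynomial.X i)))
          rw [AlgHom.comp_apply] at h1 h2
          rw [h1, h2]
        exact hle hx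
      -- the two maps agree modulo `K`
      have hmk : (Ideal.Quotient.mkₐ A K).comp f.1 = (Ideal.Quotient.mkₐ A K).comp g.1 := by
        apply Ideal.Quotient.algHom_ext
        apply MvPolynomial.algHom_ext
        intro i
        show Ideal.Quotient.mk K (f.1 (Ideal.Quotient.mk j.I (MvPolynomial.X i))) =
          Ideal.Quotient.mk K (g.1 (Ideal.Quotient.mk j.I (MvPolynomial.X i)))
        rw [Ideal.Quotient.eq]
        exact Ideal.subset_span ⟨i, rfl⟩
      haveI : Algebra.Etale A (k.E ⧸ K) := by
        refine etale_coequalizer f.1 g.1 K hK (fun x => ?_) (fun T _ _ h hh => ?_)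
        · have := congr($hmk x)
          rw [AlgHom.comp_apply, AlgHom.comp_apply] at this
          exact Ideal.Quotient.eq.mp this
        · intro x hx
          have hle : K ≤ RingHom.ker h.toRingHom := by
            rw [Ideal.span_le]
            rintro _ ⟨i, rfl⟩
            show h _ = 0
            rw [map_sub, sub_eq_zero]
            exact congr($hh (Ideal.Quotient.mk j.I (MvPolynomial.X i)))
          exact hle hx
      obtain ⟨l, e, he⟩ := Obj.exists_obj A (E := k.E ⧸ K) (Ideal.Quotient.liftₐ K k.φ hker)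
      refine ⟨l, ⟨(e.symm : (k.E ⧸ K) →ₐ[A] l.E).comp (Ideal.Quotient.mkₐ A K), ?_⟩, Subtype.ext ?_⟩
      · rw [← he]
        apply AlgHom.ext
        intro x
        show Ideal.Quotient.liftₐ K k.φ hker (e (e.symm (Ideal.Quotient.mk K x))) = k.φ x
        rw [e.apply_symm_apply]
        rfl
      · rw [Obj.comp_val, Obj.comp_val]
        show ((e.symm : (k.E ⧸ K) →ₐ[A] l.E).comp (Ideal.Quotient.mkₐ A K)).comp f.1 =
          ((e.symm : (k.E ⧸ K) →ₐ[A] l.E).comp (Ideal.Quotient.mkₐ A K)).comp g.1
        rw [AlgHom.comp_assoc, AlgHom.comp_assoc, hmk]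
  exact {}


/-- elementwise description of filtered colimits under `A` -/
theorem under_colimit_rep {J : Type u} [SmallCategory J] [IsFiltered J]
    (D : J ⥤ Under (CommRingCat.of A)) (c : Cocone D) (hc : IsColimit c) :
    (∀ y : c.pt.right, ∃ j, ∃ x : (D.obj j).right, (c.ι.app j).right.hom x = y) ∧
    (∀ j (x : (D.obj j).right), (c.ι.app j).right.hom x = 0 →
      ∃ k, ∃ g : j ⟶ k, (D.map g).right.hom x = 0) := by
  let c' : Cocone (D ⋙ Under.forget _) := (Under.forget _).mapCocone c
  have hc' : IsColimit c' := isColimitOfPreserves _ hc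
  constructor
  · intro y
    obtain ⟨j, x, hx⟩ := Concrete.isColimit_exists_rep _ hc' y
    exact ⟨j, x, hx⟩
  · intro j x hx
    have h2 : c'.ι.app j x = c'.ι.app j 0 := by
      show (c.ι.app j).right.hom x = (c.ι.app j).right.hom 0
      rw [map_zero]
      exact hx
    obtain ⟨k, g, hk⟩ := (IsColimit.eq_iff' hc' x 0).1 h2
    exact ⟨k, g, hk.trans (map_zero (D.map g).right.hom)⟩

variable (A B) in
/-- the colimit of all étale algebras mapping to `B` -/
theorem exists_colimit :
    ∃ (C : Type u) (_ : CommRing C) (_ : Algebra A C) (ρ : C →ₐ[A] B)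
      (ι : ∀ j : Obj A B, j.E →ₐ[A] C),
      EtPBC.IsIndEtale A C ∧ (∀ y : C, ∃ j : Obj A B, ∃ x : j.E, ι j x = y) ∧
      (∀ j, ρ.comp (ι j) = j.φ) ∧ (∀ (j l : Obj A B) (h : j ⟶ l), (ι l).comp h.1 = ι j) := by
  haveI := isFiltered_obj (A := A) (B := B)
  letI instE : ∀ j : Obj A B, Algebra (CommRingCat.of A) j.E :=
    fun j => inferInstanceAs (Algebra A j.E)
  letI instB : Algebra (CommRingCat.of A) B := inferInstanceAs (Algebra A B)
  let D : Obj A B ⥤ Under (CommRingCat.of A) :=
    { obj := fun j => CommRingCat.mkUnder (CommRingCat.of A) j.E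
      map := fun {j k} f => AlgHom.toUnder (R := CommRingCat.of A) f.1
      map_id := fun j => rfl
      map_comp := fun {j k l} f g => rfl }
  let c := colimit.cocone D
  have hc : IsColimit c := colimit.isColimit D
  let cB : Cocone D :=
    { pt := CommRingCat.mkUnder (CommRingCat.of A) B
      ι :=
        { app := fun j => AlgHom.toUnder (R := CommRingCat.of A) j.φ
          naturality := fun j k g => by
            apply CommRingCat.mkUnder_ext
            intro x
            exact congr($(g.2) x) } }
  let r : c.pt ⟶ cB.pt := hc.desc cB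
  letI : Algebra A c.pt.right := c.pt.hom.hom.toAlgebra
  let ρ : c.pt.right →ₐ[A] B :=
    { toRingHom := r.right.hom
      commutes' := fun a => congr($(Under.w r).hom a) }
  let ι : ∀ j : Obj A B, j.E →ₐ[A] c.pt.right := fun j =>
    { toRingHom := (c.ι.app j).right.hom
      commutes' := fun a => congr($(Under.w (c.ι.app j)).hom a) }
  obtain ⟨hrep, -⟩ := under_colimit_rep D c hc
  refine ⟨c.pt.right, inferInstance, inferInstance, ρ, ι, ?_, ?_, ?_, ?_⟩
  · refine ⟨Obj A B, inferInstance, inferInstance, D, c, hc, fun j => ?_, ⟨Iso.refl _⟩⟩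
    show @Algebra.Etale A j.E _ _ (RingHom.toAlgebra (algebraMap A j.E))
    convert (inferInstance : Algebra.Etale A j.E)
    exact Algebra.algebra_ext _ _ (fun r => rfl)
  · intro y
    obtain ⟨j, x, hx⟩ := hrep y
    exact ⟨j, x, hx⟩
  · intro j
    apply AlgHom.ext
    intro x
    have := hc.fac cB j
    exact congr($(this).right.hom x)
  · intro j l h
    apply AlgHom.ext
    intro x
    have := c.w h
    exact congr($(this).right.hom x)

end Groth.Agent.R2.H3.LiftQuot
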