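import Mathlib
import Groth.Agent.R2.H3LiftQuotA
import Groth.Agent.S9436

/-!
# Lifting ind-étale algebras along a quotient (helper3)

`exists_lift`: for an ind-étale `A/I`-algebra `Cb` the colimit `C` of all étale `A`-algebras mapping to `Cb` is
ind-étale over `A` and `C/IC ≅ Cb`.
-/

set_option autoImplicit false
set_option linter.style.haveILetI false
open CategoryTheory CategoryTheory.Limits TensorProduct
open Groth.Agent.Lib.Helper3.IndEt
universe u

namespace Groth.Agent.R2.H3.LiftQuot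

/-- an element of an étale algebra dying in `Cb` dies modulo `I` in a further étale algebra -/
theorem exists_kill {A : Type u} [CommRing A] (I : Ideal A) {Cb : Type u} [CommRing Cb]
    [Algebra (A ⧸ I) Cb] (h : EtPBC.IsIndEtale (A ⧸ I) Cb) [Algebra A Cb]
    [IsScalarTower A (A ⧸ I) Cb] (E : Type u) [CommRing E] [Algebra A E] [Algebra.Etale A E]
    (φ : E →ₐ[A] Cb) (e : E) (he : φ e = 0) :
    ∃ (S : Type u) (_ : CommRing S) (_ : Algebra A S) (_ : Algebra.Etale A S) (φS : S →ₐ[A] Cb)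
      (m : E →ₐ[A] S), φS.comp m = φ ∧ m e ∈ I.map (algebraMap A S) := by
  have hAI : ∀ a ∈ I, algebraMap A Cb a = 0 := by
    intro a ha
    rw [IsScalarTower.algebraMap_apply A (A ⧸ I) Cb]
    show algebraMap (A ⧸ I) Cb (Ideal.Quotient.mk I a) = 0
    rw [Ideal.Quotient.eq_zero_iff_mem.mpr ha, map_zero]
  haveI : Algebra.Etale (A ⧸ I) (E ⧸ I.map (algebraMap A E)) :=
    Algebra.Etale.of_equiv (Algebra.TensorProduct.quotIdealMapEquivQuotTensor E I).symm
  have hkerE : ∀ x ∈ I.map (algebraMap A E), φ.toRingHom x = 0 := by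
    intro x hx
    have hle : I.map (algebraMap A E) ≤ RingHom.ker φ.toRingHom := by
      rw [Ideal.map_le_iff_le_comap]
      intro a ha
      show φ (algebraMap A E a) = 0
      rw [φ.commutes]
      exact hAI a ha
    exact hle hx
  let φb : (E ⧸ I.map (algebraMap A E)) →ₐ[A ⧸ I] Cb :=
    { Ideal.Quotient.lift _ φ.toRingHom hkerE with
      commutes' := fun x => by
        obtain ⟨a, rfl⟩ := Ideal.Quotient.mk_surjective x
        show φ (algebraMap A E a) = algebraMap (A ⧸ I) Cb (Ideal.Quotient.mk I a)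
        rw [φ.commutes, IsScalarTower.algebraMap_apply A (A ⧸ I) Cb]
        rfl }
  let Q := E ⧸ I.map (algebraMap A E)
  let eb : Q := Ideal.Quotient.mk _ e
  haveI : Algebra.FinitePresentation (A ⧸ I) (Q ⧸ Ideal.span {eb}) :=
    Algebra.FinitePresentation.quotient ⟨{eb}, by simp⟩
  have hkerP : ∀ x ∈ Ideal.span {eb}, φb x = 0 := by
    intro x hx
    obtain ⟨z, rfl⟩ := Ideal.mem_span_singleton'.mp hx
    rw [map_mul]
    have : φb eb = 0 := he
    rw [this, mul_zero]
  let ψ : (Q ⧸ Ideal.span {eb}) →ₐ[A ⧸ I] Cb := Ideal.Quotient.liftₐ _ φb hkerP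
  obtain ⟨R', _, _, _, f, g, hfg⟩ := factor_of_isIndEtale h _ ψ
  let f' : Q →ₐ[A ⧸ I] R' := f.comp (Ideal.Quotient.mkₐ (A ⧸ I) (Ideal.span {eb}))
  have hf'e : f' eb = 0 := by
    show f (Ideal.Quotient.mk _ eb) = 0
    have h0 : Ideal.Quotient.mk (Ideal.span {eb}) eb = 0 :=
      Ideal.Quotient.eq_zero_iff_mem.mpr (Ideal.subset_span (Set.mem_singleton eb))
    rw [h0, map_zero]
  have hgf' : ∀ x : E, g (f' (Ideal.Quotient.mk _ x)) = φ x := by
    intro x
    have := congr($hfg (Ideal.Quotient.mk _ (Ideal.Quotient.mk _ x)))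
    rw [AlgHom.comp_apply] at this
    exact this
  letI algQR : Algebra Q R' := f'.toRingHom.toAlgebra
  haveI : IsScalarTower (A ⧸ I) Q R' :=
    IsScalarTower.of_algebraMap_eq fun x => (f'.commutes x).symm
  haveI : Algebra.Etale Q R' := Algebra.Etale.of_restrictScalars (A ⧸ I) Q R'
  obtain ⟨S, _, _, _, ⟨ε⟩⟩ := Groth.Agent.S9436.result E (I.map (algebraMap A E)) R'
  letI algAS : Algebra A S := ((algebraMap E S).comp (algebraMap A E)).toAlgebra
  haveI : IsScalarTower A E S := IsScalarTower.of_algebraMap_eq fun _ => rfl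
  haveI : Algebra.Etale A S := Algebra.Etale.comp A E S
  let φS₀ : S →+* Cb := g.toRingHom.comp ((ε : _ →+* R').comp
    (Algebra.TensorProduct.includeRight : S →ₐ[E] Q ⊗[E] S).toRingHom)
  have hε : ∀ x : E, ε ((1 : Q) ⊗ₜ[E] algebraMap E S x) = f' (Ideal.Quotient.mk _ x) := by
    intro x
    have h1 : (1 : Q) ⊗ₜ[E] algebraMap E S x =
        algebraMap Q (Q ⊗[E] S) (Ideal.Quotient.mk _ x) := by
      rw [Algebra.TensorProduct.algebraMap_apply, Algebra.algebraMap_eq_smul_one,
        ← TensorProduct.smul_tmul, Algebra.smul_def, mul_one]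
      rfl
    rw [h1, ε.commutes]
    rfl
  have key : ∀ x : E, φS₀ (algebraMap E S x) = φ x := by
    intro x
    show g (ε ((1 : Q) ⊗ₜ[E] algebraMap E S x)) = φ x
    rw [hε, hgf']
  let φS : S →ₐ[A] Cb :=
    { φS₀ with
      commutes' := fun a => by
        show φS₀ (algebraMap E S (algebraMap A E a)) = algebraMap A Cb a
        rw [key, φ.commutes] }
  refine ⟨S, inferInstance, algAS, inferInstance, φS, IsScalarTower.toAlgHom A E S, ?_, ?_⟩
  · apply AlgHom.ext
    intro x
    exact key x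
  · show algebraMap E S e ∈ I.map (algebraMap A S)
    have h0 : (1 : Q) ⊗ₜ[E] algebraMap E S e = 0 := by
      apply ε.injective
      rw [hε, map_zero]
      exact hf'e
    have h1 : Ideal.Quotient.mk ((I.map (algebraMap A E)).map (algebraMap E S))
        (algebraMap E S e) = 0 := by
      apply (Algebra.TensorProduct.quotIdealMapEquivQuotTensor S (I.map (algebraMap A E))).injective
      rw [Algebra.TensorProduct.quotIdealMapEquivQuotTensor_mk, map_zero]
      exact h0
    rw [Ideal.Quotient.eq_zero_iff_mem, Ideal.map_map] at h1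
    exact h1

/-- **Lifting ind-étale algebras along a quotient.** -/
theorem exists_lift (A : Type u) [CommRing A] (I : Ideal A) (Cb : Type u) [CommRing Cb]
    [Algebra (A ⧸ I) Cb] (h : EtPBC.IsIndEtale (A ⧸ I) Cb) :
    ∃ (C : Type u) (_ : CommRing C) (_ : Algebra A C),
      EtPBC.IsIndEtale A C ∧ Nonempty ((C ⧸ I.map (algebraMap A C)) ≃ₐ[A ⧸ I] Cb) := by
  letI algACb : Algebra A Cb := ((algebraMap (A ⧸ I) Cb).comp (Ideal.Quotient.mk I)).toAlgebra
  haveI : IsScalarTower A (A ⧸ I) Cb := IsScalarTower.of_algebraMap_eq fun _ => rfl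
  obtain ⟨C, _, _, ρ, ι, hC, hrep, hρι, hιh⟩ := exists_colimit A Cb
  refine ⟨C, inferInstance, inferInstance, hC, ?_⟩
  have hker : ∀ x ∈ I.map (algebraMap A C), ρ.toRingHom x = 0 := by
    intro x hx
    have hle : I.map (algebraMap A C) ≤ RingHom.ker ρ.toRingHom := by
      rw [Ideal.map_le_iff_le_comap]
      intro a ha
      show ρ (algebraMap A C a) = 0
      rw [ρ.commutes]
      show algebraMap (A ⧸ I) Cb (Ideal.Quotient.mk I a) = 0
      rw [Ideal.Quotient.eq_zero_iff_mem.mpr ha, map_zero]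
    exact hle hx
  let ρ₀ : C ⧸ I.map (algebraMap A C) →+* Cb := Ideal.Quotient.lift _ ρ.toRingHom hker
  let ρb : (C ⧸ I.map (algebraMap A C)) →ₐ[A ⧸ I] Cb :=
    { ρ₀ with
      commutes' := fun x => by
        obtain ⟨a, rfl⟩ := Ideal.Quotient.mk_surjective x
        show ρ (algebraMap A C a) = algebraMap (A ⧸ I) Cb (Ideal.Quotient.mk I a)
        rw [ρ.commutes]
        rfl }
  refine ⟨AlgEquiv.ofBijective ρb ⟨?_, ?_⟩⟩
  · rw [injective_iff_map_eq_zero]
    intro y hy
    obtain ⟨y, rfl⟩ := Ideal.Quotient.mk_surjective y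
    rw [Ideal.Quotient.eq_zero_iff_mem]
    have hy' : ρ y = 0 := hy
    obtain ⟨j, e, rfl⟩ := hrep y
    have hφe : j.φ e = 0 := by
      rw [← hρι j]
      exact hy'
    obtain ⟨S, _, _, _, φS, m, hm1, hm2⟩ := exists_kill I h j.E j.φ e hφe
    obtain ⟨l, e', he'⟩ := Obj.exists_obj A φS
    let hm : j ⟶ l := ⟨(e'.symm : S →ₐ[A] l.E).comp m, by
      rw [← he', ← hm1]
      apply AlgHom.ext
      intro x
      show φS (e' (e'.symm (m x))) = φS (m x)
      rw [e'.apply_symm_apply]⟩
    have hl : hm.1 e ∈ I.map (algebraMap A l.E) := by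
      have h1 := Ideal.mem_map_of_mem (e'.symm : S →ₐ[A] l.E).toRingHom hm2
      rw [Ideal.map_map] at h1
      have h2 : (e'.symm : S →ₐ[A] l.E).toRingHom.comp (algebraMap A S) = algebraMap A l.E := by
        ext a
        exact (e'.symm : S →ₐ[A] l.E).commutes a
      rw [h2] at h1
      exact h1
    rw [← hιh j l hm]
    have h3 := Ideal.mem_map_of_mem (ι l).toRingHom hl
    rw [Ideal.map_map] at h3
    have h4 : (ι l).toRingHom.comp (algebraMap A l.E) = algebraMap A C := by
      ext a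
      exact (ι l).commutes a
    rw [h4] at h3
    exact h3
  · intro cb
    let ψ : MvPolynomial (Fin 1) (A ⧸ I) →ₐ[A ⧸ I] Cb := MvPolynomial.aeval (fun _ => cb)
    obtain ⟨R', _, _, _, f, g, hfg⟩ := factor_of_isIndEtale h _ ψ
    obtain ⟨S, _, _, _, ⟨ε⟩⟩ := Groth.Agent.S9436.result A I R'
    let φS₀ : S →+* Cb := g.toRingHom.comp ((ε : _ →+* R').comp
      (Algebra.TensorProduct.includeRight : S →ₐ[A] (A ⧸ I) ⊗[A] S).toRingHom)
    let φS : S →ₐ[A] Cb :=
      { φS₀ with
        commutes' := fun a => by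
          show g (ε ((1 : A ⧸ I) ⊗ₜ[A] algebraMap A S a)) = algebraMap A Cb a
          have h1 : (1 : A ⧸ I) ⊗ₜ[A] algebraMap A S a =
              algebraMap (A ⧸ I) ((A ⧸ I) ⊗[A] S) (Ideal.Quotient.mk I a) := by
            rw [Algebra.TensorProduct.algebraMap_apply, Algebra.algebraMap_eq_smul_one,
              ← TensorProduct.smul_tmul, Algebra.smul_def, mul_one]
            rfl
          rw [h1, ε.commutes, g.commutes]
          rfl }
    obtain ⟨q, hq⟩ := (Algebra.TensorProduct.quotIdealMapEquivQuotTensor S I).surjective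
      (ε.symm (f (MvPolynomial.X 0)))
    obtain ⟨s, rfl⟩ := Ideal.Quotient.mk_surjective q
    rw [Algebra.TensorProduct.quotIdealMapEquivQuotTensor_mk] at hq
    have hs : φS s = cb := by
      show g (ε ((1 : A ⧸ I) ⊗ₜ[A] s)) = cb
      rw [hq, ε.apply_symm_apply]
      have := congr($hfg (MvPolynomial.X 0))
      rw [AlgHom.comp_apply] at this
      rw [this]
      simp [ψ]
    obtain ⟨l, e, he⟩ := Obj.exists_obj A φS
    refine ⟨Ideal.Quotient.mk _ (ι l (e.symm s)), ?_⟩
    show ρ (ι l (e.symm s)) = cb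
    have h2 := congr($(hρι l) (e.symm s))
    rw [AlgHom.comp_apply] at h2
    rw [h2, ← he]
    show φS (e (e.symm s)) = cb
    rw [e.apply_symm_apply, hs]

end Groth.Agent.R2.H3.LiftQuot
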