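import Mathlib
import Groth.Prelude.Def_PBC
import Groth.Agent.Lib.Helper3IndEtDesc
import Groth.Agent.R2.H6NLBase

/-!
# Naive cotangent complex and ind-étale algebras, part A (helper3)

* `formallyEtale_of_isIndEtale`: ind-étale algebras are formally étale.
* `exists_h1Cotangent_equiv`: if the presentation `P = A[B] → B` lifts to a flat formally étale `P`-algebra
  `Q` with `Q ⊗_P B = C`, then `C ⊗_B H¹(L_{B/A}) ≃ H¹(L_{C/A})` through the canonical map.
-/

set_option autoImplicit false
set_option linter.style.haveILetI false
universe u
open TensorProduct Algebra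

namespace Groth.Agent.R2.H3.NLHens

/-- ind-étale algebras are formally étale -/
theorem formallyEtale_of_isIndEtale {A B : Type u} [CommRing A] [CommRing B] [Algebra A B]
    (h : EtPBC.IsIndEtale A B) : Algebra.FormallyEtale A B := by
  have H := Groth.Agent.Lib.Helper3.IndEt.factor_of_isIndEtale h
  rw [Algebra.FormallyEtale.iff_comp_bijective]
  intro C _ _ I hI
  constructor
  · -- injectivity
    intro F₁ F₂ h12
    have key : ∀ j : Groth.Agent.Lib.Helper3.IndEt.Obj A B, F₁.comp j.φ = F₂.comp j.φ := by
      intro j
      apply (Algebra.FormallyEtale.comp_bijective A j.E I hI).1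
      show (Ideal.Quotient.mkₐ A I).comp (F₁.comp j.φ) = (Ideal.Quotient.mkₐ A I).comp (F₂.comp j.φ)
      rw [← AlgHom.comp_assoc, ← AlgHom.comp_assoc]
      exact congrArg (fun G => AlgHom.comp G j.φ) h12
    obtain ⟨F, -, huniq⟩ := Groth.Agent.Lib.Helper3.IndEt.Obj.existsUnique_desc H C
      (fun j => F₁.comp j.φ) (by intro j k g; rw [AlgHom.comp_assoc, g.2])
    rw [huniq F₁ (fun j => rfl), huniq F₂ (fun j => (key j).symm)]
  · -- surjectivity
    intro g
    have hex : ∀ j : Groth.Agent.Lib.Helper3.IndEt.Obj A B,
        ∃! f : j.E →ₐ[A] C, (Ideal.Quotient.mkₐ A I).comp f = g.comp j.φ := fun j =>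
      (Algebra.FormallyEtale.comp_bijective A j.E I hI).existsUnique _
    choose f hf hfuniq using hex
    have hcompat : ∀ {j k : Groth.Agent.Lib.Helper3.IndEt.Obj A B} (l : j ⟶ k),
        (f k).comp l.1 = f j := by
      intro j k l
      apply hfuniq j
      rw [← AlgHom.comp_assoc, hf k, AlgHom.comp_assoc, l.2]
    obtain ⟨F, hF, -⟩ := Groth.Agent.Lib.Helper3.IndEt.Obj.existsUnique_desc H C f hcompat
    refine ⟨F, ?_⟩
    obtain ⟨G, -, hGuniq⟩ := Groth.Agent.Lib.Helper3.IndEt.Obj.existsUnique_desc H (C ⧸ I)
      (fun j => g.comp j.φ) (by intro j k l; rw [AlgHom.comp_assoc, l.2])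
    rw [hGuniq ((Ideal.Quotient.mkₐ A I).comp F) (fun j => by rw [AlgHom.comp_assoc, hF, hf]),
      hGuniq g (fun j => rfl)]

section lift

variable {A B C Q : Type u} [CommRing A] [CommRing B] [CommRing C] [CommRing Q]
  [Algebra A B] [Algebra A C] [Algebra B C] [IsScalarTower A B C] [Module.Flat B C]
  [Algebra A Q] [Algebra (Generators.self A B).toExtension.Ring Q]
  [IsScalarTower A (Generators.self A B).toExtension.Ring Q]

attribute [local instance] SMulCommClass.of_commMonoid

set_option backward.isDefEq.respectTransparency false in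
/-- If `P = A[B] → B` lifts to a flat formally étale `P`-algebra `Q` with a surjection `Q → C` whose
kernel is generated by the kernel of `P → B`, and `C` is flat over `B`, then the canonical map
`C ⊗_B H¹(L_{B/A}) → H¹(L_{C/A})` is bijective. -/
theorem bijective_liftBaseChange_h1Cotangent_map
    [Algebra.FormallyEtale (Generators.self A B).toExtension.Ring Q]
    [Module.Flat (Generators.self A B).toExtension.Ring Q]
    (fQ : Q →ₐ[A] C) (hsurj : Function.Surjective fQ)
    (hcomm : ∀ p : (Generators.self A B).toExtension.Ring,
      fQ (algebraMap _ Q p) = algebraMap B C (algebraMap _ B p))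
    (hker : RingHom.ker fQ ≤
      ((Generators.self A B).toExtension.ker).map
        (algebraMap (Generators.self A B).toExtension.Ring Q)) :
    Function.Bijective ((Algebra.H1Cotangent.map A A B C).liftBaseChange C) := by
  let P : Extension A B := (Generators.self A B).toExtension
  let Qe : Extension A C := .ofSurjective fQ hsurj
  let f : P.Hom Qe :=
    { toRingHom := algebraMap P.Ring Q
      toRingHom_algebraMap := fun x => (IsScalarTower.algebraMap_apply A P.Ring Q x).symm
      algebraMap_toRingHom := fun x => hcomm x }
  haveI : FormallySmooth A P.Ring := inferInstanceAs (FormallySmooth A (MvPolynomial B A))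
  haveI : FormallySmooth P.Ring Q := inferInstance
  haveI : FormallySmooth A Qe.Ring := FormallySmooth.comp A P.Ring Q
  letI : Algebra P.Ring Qe.Ring := (inferInstance : Algebra P.Ring Q)
  have H₁ : f.toRingHom.FormallyEtale :=
    RingHom.formallyEtale_algebraMap.mpr (inferInstance : Algebra.FormallyEtale P.Ring Q)
  haveI hflat : Module.Flat P.Ring Q := ‹Module.Flat (Generators.self A B).toExtension.Ring Q›
  have H₂ : Function.Bijective ((f.mapKer rfl).liftBaseChange Qe.Ring) :=
    ⟨Groth.Agent.R2.H6.NLBase.mapKer_liftBaseChange_injective f rfl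
        (Module.Flat.lTensor_preserves_injective_linearMap (M := Q) _ Subtype.val_injective),
      Groth.Agent.R2.H6.NLBase.mapKer_liftBaseChange_surjective f rfl hker⟩
  let e := Extension.tensorH1CotangentOfFormallyEtale f rfl H₁ H₂ ≪≫ₗ
      Extension.equivH1CotangentOfFormallySmooth _
  have he : e.toLinearMap = (Algebra.H1Cotangent.map A A B C).liftBaseChange C := by
    ext x : 3
    simp only [AlgebraTensorModule.curry_apply, curry_apply, LinearMap.coe_restrictScalars,
      LinearEquiv.coe_coe, LinearMap.liftBaseChange_tmul, one_smul]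
    simp only [e, Extension.tensorH1CotangentOfFormallyEtale,
      LinearEquiv.ofBijective_apply, LinearMap.liftBaseChange_tmul, one_smul,
      Extension.equivH1CotangentOfFormallySmooth, LinearEquiv.trans_apply]
    let g : (Generators.self A C).toExtension.Hom Qe :=
    { toRingHom := (MvPolynomial.aeval Qe.σ).toRingHom
      toRingHom_algebraMap := (MvPolynomial.aeval Qe.σ).commutes
      algebraMap_toRingHom := by
        have : (IsScalarTower.toAlgHom A Qe.Ring C).comp (MvPolynomial.aeval Qe.σ) =
            IsScalarTower.toAlgHom _ (Generators.self A C).toExtension.Ring _ := by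
          ext i
          change _ = algebraMap (Generators.self A C).Ring _ (.X i)
          simp
        exact DFunLike.congr_fun this }
    rw [← Extension.H1Cotangent.equivOfFormallySmooth_symm, LinearEquiv.symm_apply_eq,
      @Extension.H1Cotangent.equivOfFormallySmooth_apply (f := g),
      Algebra.H1Cotangent.map, LinearMap.liftBaseChange_tmul, one_smul,
      ← (Extension.H1Cotangent.map g).coe_restrictScalars B,
      ← LinearMap.comp_apply, ← Extension.H1Cotangent.map_comp, Extension.H1Cotangent.map_eq]
  rw [← he]
  exact e.bijective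

end lift

end Groth.Agent.R2.H3.NLHens
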