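import Mathlib

/-!
# Naive cotangent complex and formally étale base rings (helper3)

For `R → S → T` with `S` formally étale over `R`: `H¹(L_{T/R}) → H¹(L_{T/S})` and `Ω_{T/R} → Ω_{T/S}` are
bijective.
-/

set_option autoImplicit false
set_option linter.style.haveILetI false
universe u
open TensorProduct Algebra KaehlerDifferential

namespace Groth.Agent.R2.H3.NLHens

variable (R S T : Type u) [CommRing R] [CommRing S] [CommRing T] [Algebra R S] [Algebra R T]
  [Algebra S T] [IsScalarTower R S T]

attribute [local instance] SMulCommClass.of_commMonoid

/-- the cotangent complex of the standard presentation of a formally étale algebra is bijective -/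
theorem cotangentComplex_self_bijective [Algebra.FormallyEtale R S] :
    Function.Bijective (Generators.self R S).toExtension.cotangentComplex := by
  constructor
  · rw [← LinearMap.ker_eq_bot]
    have : Subsingleton (Algebra.H1Cotangent R S) := inferInstance
    exact @Submodule.eq_bot_of_subsingleton _ _ _ _ _ _
      (this : Subsingleton (LinearMap.ker (Generators.self R S).toExtension.cotangentComplex))
  · intro x
    have hx : (Generators.self R S).toExtension.toKaehler x = 0 := Subsingleton.elim _ _
    exact ((Generators.self R S).toExtension.exact_cotangentComplex_toKaehler x).mp hx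

theorem injective_h1Cotangent_map_ofComp {ι σ : Type u} (Q : Generators S T ι) (P : Generators R S σ)
    (hP : Function.Injective (P.toExtension.cotangentComplex.baseChange T)) :
    Function.Injective (Extension.H1Cotangent.map (Q.ofComp P).toExtensionHom) := by
  rw [injective_iff_map_eq_zero]
  intro x hx
  have h1 : Extension.Cotangent.map (Q.ofComp P).toExtensionHom x.1 = 0 := by
    have := congrArg Subtype.val hx
    simpa using this
  obtain ⟨y, hy⟩ := (Generators.Cotangent.exact Q P x.1).mp h1
  have h2 : (Q.comp P).toExtension.cotangentComplex x.1 = 0 := x.2
  rw [← hy] at h2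
  have h3 := congr($(Generators.H1Cotangent.map_comp_cotangentComplex_baseChange Q P) y)
  simp only [LinearMap.coe_comp, Function.comp_apply] at h3
  rw [h2] at h3
  have h4 : P.toExtension.cotangentComplex.baseChange T y = 0 := by
    apply Generators.CotangentSpace.map_toComp_injective Q P
    rw [h3, map_zero]
  have h5 : y = 0 := hP (by rw [h4, map_zero])
  apply Subtype.ext
  rw [← hy, h5, map_zero]
  rfl

/-- `H¹(L_{T/R}) → H¹(L_{T/S})` is bijective when `S` is formally étale over `R` -/
theorem bijective_h1Cotangent_map_of_formallyEtale [Algebra.FormallyEtale R S] :
    Function.Bijective (Algebra.H1Cotangent.map R S T T) := by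
  constructor
  · let Q := Generators.self S T
    let P := Generators.self R S
    let W := Generators.self R T
    have hP : Function.Injective (P.toExtension.cotangentComplex.baseChange T) := by
      have hb := cotangentComplex_self_bijective R S
      let e := LinearEquiv.ofBijective _ hb
      have : P.toExtension.cotangentComplex.baseChange T = (e.baseChange S T _ _).toLinearMap := by
        ext; simp [e]; rfl
      rw [this]
      exact (e.baseChange S T _ _).injective
    have h1 := injective_h1Cotangent_map_ofComp R S T Q P hP
    have h2 : (Extension.H1Cotangent.map (Q.ofComp P).toExtensionHom) =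
        ((Algebra.H1Cotangent.map R S T T).restrictScalars T) ∘ₗ
          (Generators.H1Cotangent.equiv (Q.comp P) W).toLinearMap := by
      change _ = ((Extension.H1Cotangent.map _).restrictScalars T) ∘ₗ
        (Extension.H1Cotangent.map _)
      rw [← Extension.H1Cotangent.map_comp, Extension.H1Cotangent.map_eq]
    rw [h2] at h1
    intro a b hab
    obtain ⟨a', rfl⟩ := (Generators.H1Cotangent.equiv (Q.comp P) W).surjective a
    obtain ⟨b', rfl⟩ := (Generators.H1Cotangent.equiv (Q.comp P) W).surjective b
    congr 1
    exact h1 hab
  · intro y
    have : Algebra.H1Cotangent.δ R S T y = 0 := Subsingleton.elim _ _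
    exact ((Algebra.H1Cotangent.exact_map_δ R S T) y).mp this

/-- `Ω_{T/R} → Ω_{T/S}` is bijective when `S` is formally unramified over `R` -/
theorem bijective_kaehler_map_of_formallyUnramified [Algebra.FormallyUnramified R S] :
    Function.Bijective (KaehlerDifferential.map R S T T) := by
  constructor
  · rw [injective_iff_map_eq_zero]
    intro x hx
    obtain ⟨y, rfl⟩ := (KaehlerDifferential.exact_mapBaseChange_map R S T x).mp hx
    rw [Subsingleton.elim y 0, map_zero]
  · exact KaehlerDifferential.map_surjective R S T

end Groth.Agent.R2.H3.NLHens
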