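import Mathlib
import Groth.Prelude.Def_PBC
import Groth.Prelude.Def_Hensel
import Groth.Agent.Lib.Helper3IndEtDesc
import Groth.Agent.S13598
import Groth.Agent.Lib.Helper3IndEtFlat
import Groth.Agent.R2.H3NLHensA

/-!
# Henselizations and quotients, via ind-étale lifting (helper3)

* `existsUnique_ringHom_of_isIndEtale`: ring-hom form of the lifting property of ind-étale algebras
  against henselian local rings.
* `surjective_and_ker_eq_map`: if `R̃` is henselian local ind-étale over `R`, `B̃` henselian local ind-étale over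
  `B = R/I`, and `g : R̃ → B̃` is a local map over `R → B` inducing a surjection on residue fields, then `g` is
  surjective with kernel `I R̃`.
-/

set_option autoImplicit false
set_option linter.style.haveILetI false
universe u
open IsLocalRing

namespace Groth.Agent.R2.H3.NLHens

/-- ring-hom form of the lifting property of ind-étale algebras against henselian local rings -/
theorem existsUnique_ringHom_of_isIndEtale {R S T K : Type u} [CommRing R] [CommRing S]
    [Algebra R S] (hS : EtPBC.IsIndEtale R S) [CommRing T] [HenselianLocalRing T] [Field K]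
    (φ : R →+* T) (uT : T →+* K) (huT : Function.Surjective uT)
    (hker : RingHom.ker uT = maximalIdeal T) (uS : S →+* K)
    (hcompat : uS.comp (algebraMap R S) = uT.comp φ) :
    ∃! ψ : S →+* T, ψ.comp (algebraMap R S) = φ ∧ uT.comp ψ = uS := by
  letI : Algebra R T := φ.toAlgebra
  letI : Algebra R K := (uT.comp φ).toAlgebra
  let uT' : T →ₐ[R] K := { uT with commutes' := fun _ => rfl }
  let uS' : S →ₐ[R] K := { uS with commutes' := fun a => RingHom.congr_fun hcompat a }
  obtain ⟨g, hg, hguniq⟩ := Groth.Agent.Lib.Helper3.IndEt.existsUnique_algHom_of_isIndEtale hS uT'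
    huT hker uS'
  refine ⟨g.toRingHom, ⟨?_, ?_⟩, ?_⟩
  · ext a
    exact g.commutes a
  · ext r
    exact AlgHom.congr_fun hg r
  · rintro ψ ⟨h1, h2⟩
    let ψ' : S →ₐ[R] T := { ψ with commutes' := fun a => RingHom.congr_fun h1 a }
    have : ψ' = g := hguniq ψ' (by
      ext r
      exact RingHom.congr_fun h2 r)
    rw [← this]

section lemmaU

variable {R B Rt Bt : Type u} [CommRing R] [CommRing B]
  [CommRing Rt] [HenselianLocalRing Rt] [Algebra R Rt]
  [CommRing Bt] [HenselianLocalRing Bt] [Algebra B Bt]

/-- If `R̃` is henselian local and ind-étale over `R`, `B̃` is henselian local and ind-étale over a quotient `B`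
of `R`, and `g : R̃ → B̃` is a map over `R → B` which induces a surjection `R̃ → κ(B̃)` with kernel the maximal
ideal, then `g` is surjective with kernel generated by the kernel of `R → B`. -/
theorem surjective_and_ker_eq_map (hRt : EtPBC.IsIndEtale R Rt) (hBt : EtPBC.IsIndEtale B Bt)
    (π : R →+* B) (hπ : Function.Surjective π)
    (g : Rt →+* Bt) (hg : g.comp (algebraMap R Rt) = (algebraMap B Bt).comp π)
    (hgres : Function.Surjective ((residue Bt).comp g)) :
    Function.Surjective g ∧ RingHom.ker g = (RingHom.ker π).map (algebraMap R Rt) := by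
  set J : Ideal Rt := (RingHom.ker π).map (algebraMap R Rt) with hJ
  have hJg : ∀ x ∈ J, g x = 0 := by
    intro x hx
    have : J ≤ RingHom.ker g := by
      rw [hJ, Ideal.map_le_iff_le_comap]
      intro r hr
      show g (algebraMap R Rt r) = 0
      have := RingHom.congr_fun hg r
      simp only [RingHom.comp_apply] at this
      rw [this, (RingHom.mem_ker).mp hr, map_zero]
    exact this hx
  have hJtop : J ≠ ⊤ := by
    intro h
    have := hJg 1 (h ▸ Submodule.mem_top)
    rw [map_one] at this
    exact one_ne_zero this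
  haveI : Nontrivial (Rt ⧸ J) := Ideal.Quotient.nontrivial_iff.mpr hJtop
  haveI : IsLocalRing (Rt ⧸ J) :=
    IsLocalRing.of_surjective' (Ideal.Quotient.mk J) Ideal.Quotient.mk_surjective
  haveI : HenselianLocalRing (Rt ⧸ J) := Groth.Agent.S13598.henselian_quotient J
  let K := ResidueField Bt
  -- the structure map `B → R̃/J`
  have hkerπ : RingHom.ker π ≤ RingHom.ker ((Ideal.Quotient.mk J).comp (algebraMap R Rt)) := by
    intro r hr
    rw [RingHom.mem_ker, RingHom.comp_apply, Ideal.Quotient.eq_zero_iff_mem]
    exact Ideal.mem_map_of_mem _ hr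
  let φB : B →+* Rt ⧸ J := RingHom.liftOfSurjective π hπ
    ⟨(Ideal.Quotient.mk J).comp (algebraMap R Rt), hkerπ⟩
  have hφB : φB.comp π = (Ideal.Quotient.mk J).comp (algebraMap R Rt) :=
    RingHom.liftOfRightInverse_comp _ _ _ _
  -- the residue map of `R̃/J`
  let uT' : Rt ⧸ J →+* K := Ideal.Quotient.lift J ((residue Bt).comp g) (fun x hx => by
    rw [RingHom.comp_apply, hJg x hx, map_zero])
  have huT'mk : uT'.comp (Ideal.Quotient.mk J) = (residue Bt).comp g := by
    ext x; rfl
  have huT'surj : Function.Surjective uT' := by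
    intro y
    obtain ⟨x, rfl⟩ := hgres y
    exact ⟨Ideal.Quotient.mk J x, rfl⟩
  have huT'ker : RingHom.ker uT' = maximalIdeal (Rt ⧸ J) := by
    haveI : (RingHom.ker uT').IsMaximal := RingHom.ker_isMaximal_of_surjective uT' huT'surj
    exact IsLocalRing.eq_maximalIdeal inferInstance
  -- `h : B̃ → R̃/J`
  have hcompatB : (residue Bt).comp (algebraMap B Bt) = uT'.comp φB := by
    apply RingHom.cancel_right hπ |>.mp
    rw [RingHom.comp_assoc, RingHom.comp_assoc, hφB, ← hg, ← RingHom.comp_assoc,
      ← RingHom.comp_assoc, huT'mk]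
  obtain ⟨h, ⟨hh1, hh2⟩, -⟩ := existsUnique_ringHom_of_isIndEtale hBt φB uT' huT'surj huT'ker
    (residue Bt) hcompatB
  -- `ḡ : R̃/J → B̃`
  let gbar : Rt ⧸ J →+* Bt := Ideal.Quotient.lift J g hJg
  have hgbar : gbar.comp (Ideal.Quotient.mk J) = g := by ext x; rfl
  have hresgbar : (residue Bt).comp gbar = uT' := by
    apply Ideal.Quotient.ringHom_ext
    rw [RingHom.comp_assoc, hgbar, huT'mk]
  have hgbarφB : gbar.comp φB = algebraMap B Bt := by
    apply RingHom.cancel_right hπ |>.mp
    rw [RingHom.comp_assoc, hφB, ← RingHom.comp_assoc, hgbar, hg]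
  -- `ḡ ∘ h = id`
  have h1 : gbar.comp h = RingHom.id Bt := by
    obtain ⟨ψ, -, huniq⟩ := existsUnique_ringHom_of_isIndEtale hBt (algebraMap B Bt) (residue Bt)
      residue_surjective IsLocalRing.ker_residue (residue Bt) rfl
    rw [huniq (gbar.comp h) ⟨by rw [RingHom.comp_assoc, hh1, hgbarφB], by
        rw [← RingHom.comp_assoc, hresgbar, hh2]⟩,
      huniq (RingHom.id Bt) ⟨by simp, by simp⟩]
  -- `h ∘ g = mk`
  have h2 : h.comp g = Ideal.Quotient.mk J := by
    have hc : ((residue Bt).comp g).comp (algebraMap R Rt) =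
        uT'.comp ((Ideal.Quotient.mk J).comp (algebraMap R Rt)) := by
      rw [← RingHom.comp_assoc, huT'mk]
    obtain ⟨ψ, -, huniq⟩ := existsUnique_ringHom_of_isIndEtale hRt
      ((Ideal.Quotient.mk J).comp (algebraMap R Rt)) uT' huT'surj huT'ker
      ((residue Bt).comp g) hc
    rw [huniq (h.comp g) ⟨by rw [RingHom.comp_assoc, hg, ← RingHom.comp_assoc, hh1, hφB], by
        rw [← RingHom.comp_assoc, hh2]⟩,
      huniq (Ideal.Quotient.mk J) ⟨rfl, huT'mk⟩]
  constructor
  · intro y
    obtain ⟨x, hx⟩ := Ideal.Quotient.mk_surjective (h y)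
    refine ⟨x, ?_⟩
    have := RingHom.congr_fun h1 y
    rw [RingHom.comp_apply, RingHom.id_apply] at this
    rw [← this, ← hx]
    rfl
  · apply le_antisymm
    · intro x hx
      have := RingHom.congr_fun h2 x
      rw [RingHom.comp_apply, (RingHom.mem_ker).mp hx, map_zero] at this
      exact Ideal.Quotient.eq_zero_iff_mem.mp this.symm
    · intro x hx
      exact hJg x hx

end lemmaU

section presentation

open Algebra

variable (A B : Type u) [CommRing A] [CommRing B] [Algebra A B] [IsLocalRing B]

/-- the polynomial ring `A[B]` of the standard presentation -/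
noncomputable abbrev PR : Type u := (Generators.self A B).toExtension.Ring

/-- the prime of `A[B]` under the maximal ideal of `B` -/
noncomputable abbrev nP : Ideal (PR A B) := (maximalIdeal B).comap (algebraMap (PR A B) B)

/-- the local ring of `A[B]` at `nP` -/
noncomputable abbrev Pn : Type u := Localization.AtPrime (nP A B)

theorem isUnit_algebraMap_of_mem_primeCompl (y : (nP A B).primeCompl) :
    IsUnit (algebraMap (PR A B) B y) := by
  by_contra h
  exact y.2 h

/-- the surjection `A[B]_n → B` -/
noncomputable def πn : Pn A B →+* B :=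
  IsLocalization.lift (M := (nP A B).primeCompl) (g := algebraMap (PR A B) B)
    (isUnit_algebraMap_of_mem_primeCompl A B)

theorem πn_algebraMap (p : PR A B) :
    πn A B (algebraMap (PR A B) (Pn A B) p) = algebraMap (PR A B) B p :=
  IsLocalization.lift_eq _ p

theorem πn_comp : (πn A B).comp (algebraMap (PR A B) (Pn A B)) = algebraMap (PR A B) B :=
  RingHom.ext (πn_algebraMap A B)

theorem πn_surjective : Function.Surjective (πn A B) := by
  intro b
  obtain ⟨p, rfl⟩ := (Generators.self A B).toExtension.algebraMap_surjective b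
  exact ⟨algebraMap _ _ p, πn_algebraMap A B p⟩

theorem ker_πn :
    RingHom.ker (πn A B) =
      ((Generators.self A B).toExtension.ker).map (algebraMap (PR A B) (Pn A B)) := by
  apply le_antisymm
  · intro x hx
    obtain ⟨p, s, rfl⟩ := IsLocalization.exists_mk'_eq (nP A B).primeCompl x
    have h1 : πn A B (IsLocalization.mk' (Pn A B) p s) * algebraMap (PR A B) B s =
        algebraMap (PR A B) B p := by
      rw [← πn_algebraMap, ← πn_algebraMap, ← map_mul, IsLocalization.mk'_spec]
    rw [(RingHom.mem_ker).mp hx, zero_mul] at h1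
    have hp : p ∈ (Generators.self A B).toExtension.ker := (RingHom.mem_ker).mpr h1.symm
    rw [IsLocalization.mk'_eq_mul_mk'_one]
    exact Ideal.mul_mem_right _ _ (Ideal.mem_map_of_mem _ hp)
  · rw [Ideal.map_le_iff_le_comap]
    intro p hp
    rw [Ideal.mem_comap, RingHom.mem_ker, πn_algebraMap]
    exact hp

end presentation

section lemmaV

open Algebra

variable {A B C : Type u} [CommRing A] [CommRing B] [IsLocalRing B] [CommRing C]
  [HenselianLocalRing C] [Algebra A B] [Algebra A C] [Algebra B C] [IsScalarTower A B C]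

/-- If `C` is henselian local ind-étale over the local ring `B`, and some henselian local ind-étale
`A[B]_n`-algebra `Q` maps to `C` over `A[B]_n → B` inducing a surjection onto the residue field of `C`,
then `C ⊗_B H¹(L_{B/A}) → H¹(L_{C/A})` is bijective. -/
theorem bijective_liftBaseChange_of_henselian_lift
    (hC : EtPBC.IsIndEtale B C)
    (Q : Type u) [CommRing Q] [HenselianLocalRing Q] [Algebra (Pn A B) Q]
    (hQ : EtPBC.IsIndEtale (Pn A B) Q)
    (g : Q →+* C) (hg : g.comp (algebraMap (Pn A B) Q) = (algebraMap B C).comp (πn A B))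
    (hgres : Function.Surjective ((residue C).comp g)) :
    Function.Bijective ((Algebra.H1Cotangent.map A A B C).liftBaseChange C) := by
  obtain ⟨hsurj, hker⟩ := surjective_and_ker_eq_map hQ hC (πn A B) (πn_surjective A B) g hg hgres
  letI : Algebra (PR A B) Q :=
    ((algebraMap (Pn A B) Q).comp (algebraMap (PR A B) (Pn A B))).toAlgebra
  haveI : IsScalarTower (PR A B) (Pn A B) Q := IsScalarTower.of_algebraMap_eq' rfl
  letI : Algebra A Q := ((algebraMap (PR A B) Q).comp (algebraMap A (PR A B))).toAlgebra
  haveI : IsScalarTower A (PR A B) Q := IsScalarTower.of_algebraMap_eq' rfl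
  haveI : Algebra.FormallyEtale (Pn A B) Q := formallyEtale_of_isIndEtale hQ
  haveI : Algebra.FormallyEtale (PR A B) (Pn A B) :=
    Algebra.FormallyEtale.of_isLocalization (nP A B).primeCompl
  haveI : Algebra.FormallyEtale (PR A B) Q := Algebra.FormallyEtale.comp (PR A B) (Pn A B) Q
  haveI : Module.Flat (Pn A B) Q :=
    Groth.Agent.Lib.Helper3.IndEt.flat_of_factor'
      (Groth.Agent.Lib.Helper3.IndEt.factor_of_isIndEtale hQ)
  haveI : Module.Flat (PR A B) (Pn A B) := IsLocalization.flat _ (nP A B).primeCompl
  haveI : Module.Flat (PR A B) Q := Module.Flat.trans (PR A B) (Pn A B) Q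
  haveI : Module.Flat B C :=
    Groth.Agent.Lib.Helper3.IndEt.flat_of_factor'
      (Groth.Agent.Lib.Helper3.IndEt.factor_of_isIndEtale hC)
  have hcomm : ∀ p : PR A B,
      g (algebraMap (PR A B) Q p) = algebraMap B C (algebraMap (PR A B) B p) := by
    intro p
    have := RingHom.congr_fun hg (algebraMap (PR A B) (Pn A B) p)
    simp only [RingHom.comp_apply, πn_algebraMap] at this
    exact this
  let fQ : Q →ₐ[A] C :=
    { g with
      commutes' := fun a => by
        show g (algebraMap (PR A B) Q (algebraMap A (PR A B) a)) = algebraMap A C a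
        rw [hcomm, ← IsScalarTower.algebraMap_apply A (PR A B) B,
          ← IsScalarTower.algebraMap_apply A B C] }
  refine bijective_liftBaseChange_h1Cotangent_map fQ hsurj hcomm ?_
  show RingHom.ker g ≤ _
  rw [hker, ker_πn, Ideal.map_map]
  exact le_of_eq rfl

end lemmaV

end Groth.Agent.R2.H3.NLHens
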