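import Mathlib
import Groth.Prelude.Def_Hensel
import Groth.Agent.Lib.Helper3IndEtDesc
import Groth.Agent.R2.H3GeomLift
import Groth.Agent.S12237
import Groth.Agent.S0736
import Groth.Agent.S0539

/-!
# Maps between strict henselizations (helper3)
-/

set_option autoImplicit false
set_option linter.style.haveILetI false
universe u
open TensorProduct IsLocalRing

namespace Groth.Agent.R2.H3.StrictLoc

variable (A A' R R' : Type u) [CommRing A] [IsLocalRing A] [CommRing A'] [IsLocalRing A']
  (sp : A →+* A')
  [CommRing R] [IsLocalRing R] [Algebra A R] [IsLocalHom (algebraMap A R)]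
  [Hensel.IsStrictHenselization A R]
  [CommRing R'] [IsLocalRing R'] [Algebra A' R'] [IsLocalHom (algebraMap A' R')]
  [hR' : Hensel.IsStrictHenselization A' R']

include hR' in
/-- maps from a strict henselization of `A` to a strict henselization of `A'` over a ring map
`A → A'` correspond bijectively to their reductions to the residue field -/
theorem existsUnique_ringHom (φ : R →+* ResidueField R')
    (hφ : φ.comp (algebraMap A R) = ((residue R').comp (algebraMap A' R')).comp sp) :
    ∃! ψ : R →+* R', ψ.comp (algebraMap A R) = (algebraMap A' R').comp sp ∧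
      (residue R').comp ψ = φ := by
  haveI := hR'.henselian
  letI : Algebra A R' := ((algebraMap A' R').comp sp).toAlgebra
  letI : Algebra A (ResidueField R') := ((residue R').comp (algebraMap A R')).toAlgebra
  let uT : R' →ₐ[A] ResidueField R' := { residue R' with commutes' := fun _ => rfl }
  let uS : R →ₐ[A] ResidueField R' :=
    { φ with commutes' := fun a => RingHom.congr_fun hφ a }
  have hind : EtPBC.IsIndEtale A R := Groth.Agent.S12237.result A R
  obtain ⟨g, hg, hguniq⟩ := Groth.Agent.Lib.Helper3.IndEt.existsUnique_algHom_of_isIndEtale hind uT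
    residue_surjective IsLocalRing.ker_residue uS
  refine ⟨g.toRingHom, ⟨?_, ?_⟩, ?_⟩
  · ext a
    exact g.commutes a
  · ext r
    exact AlgHom.congr_fun hg r
  · rintro ψ ⟨h1, h2⟩
    let ψ' : R →ₐ[A] R' := { ψ with commutes' := fun a => RingHom.congr_fun h1 a }
    have : ψ' = g := hguniq ψ' (by
      ext r
      exact RingHom.congr_fun h2 r)
    rw [← this]

include hR' in
/-- there is a map from a strict henselization of `A` to one of `A'` over any ring map `A → A'` -/
theorem exists_ringHom :
    ∃ ψ : R →+* R', ψ.comp (algebraMap A R) = (algebraMap A' R').comp sp := by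
  haveI : IsSepClosed (ResidueField R') := hR'.isSepClosure.sep_closed
  letI : Algebra A (ResidueField R') :=
    (((residue R').comp (algebraMap A' R')).comp sp).toAlgebra
  haveI : Module.FaithfullyFlat A R := Groth.Agent.S0539.result A R
  haveI : Algebra.WeaklyEtale A R :=
    Groth.Agent.S0736.result A R (Groth.Agent.S12237.result A R)
  haveI : Nontrivial (ResidueField R' ⊗[A] R) :=
    Module.FaithfullyFlat.rTensor_nontrivial A R (ResidueField R')
  obtain ⟨ρ⟩ := Groth.Agent.R2.H3.GeomLift.exists_algHom_of_weaklyEtale_of_isSepClosed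
    (ResidueField R') (ResidueField R' ⊗[A] R)
  let uS : R →ₐ[A] ResidueField R' :=
    (ρ.restrictScalars A).comp Algebra.TensorProduct.includeRight
  obtain ⟨ψ, ⟨h1, -⟩, -⟩ := existsUnique_ringHom A A' R R' sp uS.toRingHom (by
    ext a
    exact uS.commutes a)
  exact ⟨ψ, h1⟩

end Groth.Agent.R2.H3.StrictLoc
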