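import Mathlib
import Groth.Prelude.Def_PBC
import Groth.Prelude.Def_Hensel
import Groth.Agent.Lib.Helper3IndEtHz
import Groth.Agent.Lib.Helper3TensorLocal
import Groth.Agent.Lib.Helper3HzP
import Groth.Agent.R2.H3StrictLocA
import Groth.Agent.R2.H3NLHensC

/-!
# `H¹(L_{B/A}) ⊗_B C ≅ H¹(L_{C/A})` for `C` a (strict) henselization of the local ring `B` (helper3)
-/

set_option autoImplicit false
set_option linter.style.haveILetI false
universe u
open IsLocalRing

namespace Groth.Agent.R2.H3.NLHens

open Groth.Agent.Lib.Helper3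

section hens

variable (A B Bh : Type u) [CommRing A] [CommRing B] [IsLocalRing B] [Algebra A B]
  [CommRing Bh] [IsLocalRing Bh] [Algebra B Bh] [IsLocalHom (algebraMap B Bh)]
  [hBh : Hensel.IsHenselization B Bh] [Algebra A Bh] [IsScalarTower A B Bh]

include hBh in
theorem bijective_liftBaseChange_henselization :
    Function.Bijective ((Algebra.H1Cotangent.map A A B Bh).liftBaseChange Bh) := by
  haveI : HenselianLocalRing Bh := hBh.henselian
  have hC : EtPBC.IsIndEtale B Bh := IndEt.isIndEtale_of_isHenselization B Bh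
  have hπloc : IsLocalHom (πn A B) := IsLocalHom.of_surjective _ (πn_surjective A B)
  have hf : IsLocalHom ((algebraMap B Bh).comp (πn A B)) := RingHom.isLocalHom_comp _ _
  obtain ⟨g, hg, -⟩ := Hz.universal (R := Pn A B) Bh ((algebraMap B Bh).comp (πn A B)) hf
  refine bijective_liftBaseChange_of_henselian_lift hC (Hz.Rh (Pn A B))
    (IndEt.isIndEtale_Rh (Pn A B)) g hg ?_
  intro y
  obtain ⟨z, rfl⟩ := residue_surjective y
  obtain ⟨b, hb⟩ := HzP.hz_exists_sub_mem_maximalIdeal B Bh z
  obtain ⟨p, rfl⟩ := πn_surjective A B b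
  refine ⟨algebraMap (Pn A B) (Hz.Rh (Pn A B)) p, ?_⟩
  have h1 := RingHom.congr_fun hg p
  simp only [RingHom.comp_apply] at h1 ⊢
  rw [h1]
  symm
  rw [← sub_eq_zero, ← map_sub]
  exact (residue_eq_zero_iff _).mpr hb

end hens

section strict

variable (A B Bsh : Type u) [CommRing A] [CommRing B] [IsLocalRing B] [Algebra A B]
  [CommRing Bsh] [IsLocalRing Bsh] [Algebra B Bsh] [IsLocalHom (algebraMap B Bsh)]
  [hBsh : Hensel.IsStrictHenselization B Bsh] [Algebra A Bsh] [IsScalarTower A B Bsh]

include hBsh in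
theorem bijective_liftBaseChange_strictHenselization :
    Function.Bijective ((Algebra.H1Cotangent.map A A B Bsh).liftBaseChange Bsh) := by
  haveI : HenselianLocalRing Bsh := hBsh.henselian
  have hC : EtPBC.IsIndEtale B Bsh := IndEt.isIndEtale_of_isStrictHenselization B Bsh
  let Ω := SeparableClosure (ResidueField (Pn A B))
  letI : Algebra (Pn A B) Ω :=
    ((algebraMap (ResidueField (Pn A B)) Ω).comp (residue (Pn A B))).toAlgebra
  haveI : IsScalarTower (Pn A B) (ResidueField (Pn A B)) Ω :=
    IsScalarTower.of_algebraMap_eq (fun _ => rfl)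
  let Q := Sh.Rsh (Pn A B) Ω
  obtain ⟨g, hg⟩ := StrictLoc.exists_ringHom (Pn A B) B Q Bsh (πn A B)
  refine bijective_liftBaseChange_of_henselian_lift hC Q (IndEt.isIndEtale_Rsh (Pn A B) Ω) g hg ?_
  haveI : IsSepClosed (ResidueField Q) :=
    (Sh.isStrictHenselization (R := Pn A B) (Ω := Ω)).isSepClosure.sep_closed
  have hπloc : IsLocalHom (πn A B) := IsLocalHom.of_surjective _ (πn_surjective A B)
  have hloc : IsLocalHom ((algebraMap B Bsh).comp (πn A B)) := RingHom.isLocalHom_comp _ _
  have hkill : ∀ x ∈ maximalIdeal Q, ((residue Bsh).comp g) x = 0 := by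
    intro x hx
    rw [← HzP.sh_map_maximalIdeal (Pn A B) Q] at hx
    have hle : Ideal.map (algebraMap (Pn A B) Q) (maximalIdeal (Pn A B)) ≤
        (maximalIdeal Bsh).comap g := by
      rw [Ideal.map_le_iff_le_comap]
      intro p hp
      show g (algebraMap _ _ p) ∈ maximalIdeal Bsh
      rw [← RingHom.comp_apply, hg]
      rw [mem_maximalIdeal, mem_nonunits_iff] at hp ⊢
      intro hu
      exact hp (hloc.map_nonunit p hu)
    exact (residue_eq_zero_iff _).mpr (hle hx)
  let τ : ResidueField Q →+* ResidueField Bsh :=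
    Ideal.Quotient.lift (maximalIdeal Q) ((residue Bsh).comp g) hkill
  have hτ : ∀ x, τ (residue Q x) = residue Bsh (g x) := fun x => rfl
  intro y
  have hsep : (minpoly (ResidueField B) y).Separable :=
    hBsh.isSepClosure.separable.isSeparable _ y
  let ρ : Pn A B →+* ResidueField B := (residue B).comp (πn A B)
  have hρ : Function.Surjective ρ := residue_surjective.comp (πn_surjective A B)
  obtain ⟨M, hM⟩ : ∃ M : Polynomial (Pn A B), M.map ρ = minpoly (ResidueField B) y :=
    Polynomial.map_surjective ρ hρ _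
  let M' : Polynomial (ResidueField Q) := M.map ((residue Q).comp (algebraMap (Pn A B) Q))
  have hM' : M'.map τ =
      (minpoly (ResidueField B) y).map (algebraMap (ResidueField B) (ResidueField Bsh)) := by
    rw [Polynomial.map_map, ← hM, Polynomial.map_map]
    congr 1
    ext p
    have h1 := RingHom.congr_fun hg p
    simp only [RingHom.comp_apply] at h1 ⊢
    rw [hτ, h1]
    rfl
  have hsepM' : M'.Separable := by
    rw [← Polynomial.separable_map τ, hM']
    exact hsep.map
  have hsplit : M'.Splits := IsSepClosed.splits_of_separable M' hsepM'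
  have hM'0 : M' ≠ 0 := hsepM'.ne_zero
  have hroot : (M'.map τ).IsRoot y := by
    rw [hM', Polynomial.IsRoot, Polynomial.eval_map_algebraMap, minpoly.aeval]
  obtain ⟨x, hx⟩ := hsplit.mem_range_of_isRoot hM'0 hroot
  obtain ⟨q, rfl⟩ := residue_surjective x
  exact ⟨q, hx⟩

end strict

end Groth.Agent.R2.H3.NLHens
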