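import Mathlib
import Groth.Agent.Lib.Helper27TraceLen

/-!
# helper52: alternating trace of an endomorphism of a perfect complex with free cohomology (S11703)
-/

set_option autoImplicit false
universe u

namespace Groth.Agent.R2.H52.AltTrace

open Module

section LinAlg

variable {R : Type*} [CommRing R] {M₁ M₂ M₃ : Type*} [AddCommGroup M₁] [AddCommGroup M₂]
  [AddCommGroup M₃] [Module R M₁] [Module R M₂] [Module R M₃]

/-- additivity of the trace on a short exact sequence with free ends -/
theorem trace_eq_add_of_exact [Module.Free R M₁] [Module.Finite R M₁] [Module.Finite R M₂]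
    [Module.Free R M₃]
    (f : M₁ →ₗ[R] M₂) (g : M₂ →ₗ[R] M₃) (hf : Function.Injective f) (hg : Function.Surjective g)
    (hfg : Function.Exact f g) (e₁ : M₁ →ₗ[R] M₁) (e₂ : M₂ →ₗ[R] M₂) (e₃ : M₃ →ₗ[R] M₃)
    (h₁ : ∀ x, f (e₁ x) = e₂ (f x)) (h₂ : ∀ x, g (e₂ x) = e₃ (g x)) :
    LinearMap.trace R M₂ e₂ = LinearMap.trace R M₁ e₁ + LinearMap.trace R M₃ e₃ := by
  let W : Submodule R M₂ := LinearMap.range f
  let eW : M₁ ≃ₗ[R] W := LinearEquiv.ofInjective f hf
  have hker : LinearMap.ker g = W := LinearMap.exact_iff.mp hfg
  let eQ : (M₂ ⧸ W) ≃ₗ[R] M₃ :=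
    (Submodule.quotEquivOfEq _ _ hker.symm).trans (g.quotKerEquivOfSurjective hg)
  have : Module.Free R W := Module.Free.of_equiv eW
  have : Module.Finite R W := Module.Finite.equiv eW
  have : Module.Free R (M₂ ⧸ W) := Module.Free.of_equiv eQ.symm
  have he : W ≤ W.comap e₂ := by
    rintro _ ⟨x, rfl⟩
    exact ⟨e₁ x, h₁ x⟩
  rw [Groth.Agent.Lib.Helper27TraceLen.trace_eq_trace_add_trace W e₂ he]
  have hA : e₂.restrict he = eW.conj e₁ := by
    apply LinearMap.ext
    intro w
    obtain ⟨x, rfl⟩ := eW.surjective w
    apply Subtype.ext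
    rw [LinearEquiv.conj_apply_apply, LinearEquiv.symm_apply_apply]
    change e₂ (f x) = f (e₁ x)
    exact (h₁ x).symm
  have hB : e₃ = eQ.conj (W.mapQ W e₂ he) := by
    apply LinearMap.ext
    intro y
    obtain ⟨m, rfl⟩ := hg y
    rw [LinearEquiv.conj_apply_apply]
    have h3 : eQ.symm (g m) = W.mkQ m := by
      rw [LinearEquiv.symm_apply_eq]
      rfl
    rw [h3, Submodule.mkQ_apply, Submodule.mapQ_apply]
    change e₃ (g m) = g (e₂ m)
    exact (h₂ m).symm
  rw [hA, hB, LinearMap.trace_conj', LinearMap.trace_conj']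

/-- in a short exact sequence with projective middle and right terms, the left term is
projective -/
theorem projective_of_exact [Module.Projective R M₂] [Module.Projective R M₃]
    (f : M₁ →ₗ[R] M₂) (g : M₂ →ₗ[R] M₃) (hf : Function.Injective f) (hg : Function.Surjective g)
    (hfg : Function.Exact f g) : Module.Projective R M₁ := by
  obtain ⟨s, hs⟩ := LinearMap.exists_rightInverse_of_surjective g (LinearMap.range_eq_top.mpr hg)
  obtain ⟨-, r, hr⟩ := (hfg.split_tfae'.out 0 1 rfl rfl).mp ⟨hf, s, hs⟩
  exact Module.Projective.of_split f r hr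

end LinAlg

section Telescope

/-- telescoping sum over an integer interval -/
theorem sum_Icc_sub {G : Type*} [AddCommGroup G] (w : ℤ → G) (a : ℤ) :
    ∀ b : ℤ, a - 1 ≤ b → ∑ n ∈ Finset.Icc a b, (w n - w (n + 1)) = w a - w (b + 1) := by
  intro b hb
  induction b, hb using Int.le_induction with
  | base =>
    rw [Finset.Icc_eq_empty (by omega), Finset.sum_empty, sub_add_cancel, sub_self]
  | succ b hb ih =>
    rw [← Finset.insert_Icc_right_eq_Icc_add_one (by omega), Finset.sum_insert (by simp), ih]
    abel

end Telescope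

section Complex

open CategoryTheory CategoryTheory.Limits HomologicalComplex

variable {A : Type u} [CommRing A] (P : CochainComplex (ModuleCat.{u} A) ℤ)

/-- boundaries, as a submodule of the cycles -/
noncomputable def Bd (i j : ℤ) : Submodule A (P.cycles j) := LinearMap.range (P.toCycles i j).hom

theorem iCycles_injective (n : ℤ) : Function.Injective (P.iCycles n).hom :=
  (ModuleCat.mono_iff_injective _).mp inferInstance

theorem homologyπ_surjective (n : ℤ) : Function.Surjective (P.homologyπ n).hom :=
  (ModuleCat.epi_iff_surjective _).mp inferInstance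

theorem iCycles_toCycles_apply (i j : ℤ) (x : P.X i) :
    (P.iCycles j).hom ((P.toCycles i j).hom x) = (P.d i j).hom x :=
  congrArg (fun φ => φ.hom x) (P.toCycles_i i j)

theorem exact_iCycles_toCycles (i j : ℤ) (hij : i + 1 = j) :
    Function.Exact (P.iCycles i).hom (P.toCycles i j).hom := by
  have h1 : (ShortComplex.mk (P.iCycles i) (P.d i j) (P.iCycles_d i j)).Exact :=
    ShortComplex.exact_of_f_is_kernel _
      (P.cyclesIsKernel i j (by rw [CochainComplex.next]; exact hij))
  rw [ShortComplex.moduleCat_exact_iff] at h1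
  intro x
  constructor
  · intro hx
    apply h1 x
    change (P.d i j).hom x = 0
    rw [← iCycles_toCycles_apply, hx, map_zero]
  · rintro ⟨z, rfl⟩
    apply iCycles_injective P j
    rw [iCycles_toCycles_apply, map_zero]
    exact congrArg (fun φ => φ.hom z) (P.iCycles_d i j)

theorem exact_toCycles_homologyπ (i j : ℤ) (hij : i + 1 = j) :
    Function.Exact (P.toCycles i j).hom (P.homologyπ j).hom := by
  have h1 : (ShortComplex.mk (P.toCycles i j) (P.homologyπ j)
      (P.toCycles_comp_homologyπ i j)).Exact :=
    ShortComplex.exact_of_g_is_cokernel _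
      (P.homologyIsCokernel i j (by rw [CochainComplex.prev]; omega))
  rw [ShortComplex.moduleCat_exact_iff_range_eq_ker] at h1
  rw [LinearMap.exact_iff]
  exact h1.symm

variable (β : P ⟶ P)

theorem iCycles_cyclesMap_apply (n : ℤ) (z : P.cycles n) :
    (P.iCycles n).hom ((cyclesMap β n).hom z) = (β.f n).hom ((P.iCycles n).hom z) :=
  congrArg (fun φ => φ.hom z) (cyclesMap_i β n)

theorem toCycles_cyclesMap_apply (i j : ℤ) (x : P.X i) :
    (P.toCycles i j).hom ((β.f i).hom x) = (cyclesMap β j).hom ((P.toCycles i j).hom x) := by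
  apply iCycles_injective P j
  rw [iCycles_toCycles_apply, iCycles_cyclesMap_apply, iCycles_toCycles_apply]
  exact congrArg (fun φ => φ.hom x) (β.comm i j)

theorem homologyπ_cyclesMap_apply (n : ℤ) (z : P.cycles n) :
    (P.homologyπ n).hom ((cyclesMap β n).hom z) =
      (homologyMap β n).hom ((P.homologyπ n).hom z) :=
  (congrArg (fun φ => φ.hom z) (homologyπ_naturality β n)).symm

theorem Bd_le_comap (i j : ℤ) : Bd P i j ≤ (Bd P i j).comap (cyclesMap β j).hom := by
  rintro _ ⟨x, rfl⟩
  exact ⟨(β.f i).hom x, toCycles_cyclesMap_apply P β i j x⟩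

/-- trace of `β` on the boundaries -/
noncomputable def tB (i j : ℤ) : A :=
  LinearMap.trace A (Bd P i j) ((cyclesMap β j).hom.restrict (Bd_le_comap P β i j))

theorem tB_eq (i j : ℤ) (hij : i + 1 = j) : tB P β i j = tB P β (j - 1) j := by
  have : i = j - 1 := by omega
  subst this
  rfl

section Proj

variable [∀ n, Module.Projective A (P.X n)] [∀ n, Module.Projective A (P.homology n)]

omit [∀ n, Module.Projective A (P.homology n)] in
theorem projective_cycles_of_Bd (i j : ℤ) (hij : i + 1 = j) (h : Module.Projective A (Bd P i j)) :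
    Module.Projective A (P.cycles i) := by
  have : Module.Projective A (LinearMap.range (P.toCycles i j).hom) := h
  refine projective_of_exact (P.iCycles i).hom (P.toCycles i j).hom.rangeRestrict
    (iCycles_injective P i) (LinearMap.surjective_rangeRestrict _) ?_
  intro x
  rw [← exact_iCycles_toCycles P i j hij x]
  constructor
  · intro hx
    exact congrArg Subtype.val hx
  · intro hx
    exact Subtype.ext hx

omit [∀ n, Module.Projective A (P.X n)] in
theorem projective_Bd_of_cycles (i j : ℤ) (hij : i + 1 = j) (h : Module.Projective A (P.cycles j)) :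
    Module.Projective A (Bd P i j) := by
  refine projective_of_exact (Bd P i j).subtype (P.homologyπ j).hom
    (Submodule.subtype_injective _) (homologyπ_surjective P j) ?_
  rw [LinearMap.exact_iff, Submodule.range_subtype]
  exact LinearMap.exact_iff.mp (exact_toCycles_homologyπ P i j hij)

theorem projective_Bd (b : ℤ) (hP : ∀ n : ℤ, b < n → IsZero (P.X n)) :
    ∀ j : ℤ, Module.Projective A (Bd P (j - 1) j) := by
  have hbig : ∀ j : ℤ, b < j → Module.Projective A (Bd P (j - 1) j) := by
    intro j hj
    have h1 : Subsingleton (P.X j) := ModuleCat.subsingleton_of_isZero (hP j hj)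
    have h2 : Subsingleton (P.cycles j) := (iCycles_injective P j).subsingleton
    have h3 : Subsingleton (Bd P (j - 1) j) := inferInstance
    infer_instance
  have hsmall : ∀ j : ℤ, j ≤ b + 1 → Module.Projective A (Bd P (j - 1) j) := by
    intro j hj
    induction j, hj using Int.le_induction_down with
    | base => exact hbig _ (by omega)
    | pred j hj ih =>
      have h1 : Module.Projective A (P.cycles (j - 1)) :=
        projective_cycles_of_Bd P (j - 1) j (by omega) ih
      exact projective_Bd_of_cycles P (j - 1 - 1) (j - 1) (by omega) h1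
  intro j
  by_cases hj : j ≤ b + 1
  · exact hsmall j hj
  · exact hbig j (by omega)

end Proj

section Main

variable [IsLocalRing A] [IsNoetherianRing A] [∀ n, Module.Finite A (P.X n)]
  [∀ n, Module.Free A (P.X n)] [∀ n, Module.Free A (P.homology n)]

omit [IsLocalRing A] [∀ n, Module.Free A (P.X n)] [∀ n, Module.Free A (P.homology n)] in
theorem isNoetherian_cycles (n : ℤ) : IsNoetherian A (P.cycles n) :=
  isNoetherian_of_injective (P.iCycles n).hom (iCycles_injective P n)

theorem free_of_projective {M : Type*} [AddCommGroup M] [Module A M] [Module.Finite A M]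
    (h : Module.Projective A M) : Module.Free A M :=
  Module.free_of_flat_of_isLocalRing

theorem projective_Bd' (b : ℤ) (hP : ∀ n : ℤ, b < n → IsZero (P.X n)) (i j : ℤ) (hij : i + 1 = j) :
    Module.Projective A (Bd P i j) := by
  have : i = j - 1 := by omega
  subst this
  exact projective_Bd P b hP j

theorem trace_X (b : ℤ) (hP : ∀ n : ℤ, b < n → IsZero (P.X n)) (i j : ℤ) (hij : i + 1 = j) :
    LinearMap.trace A (P.X i) (β.f i).hom =
      LinearMap.trace A (P.cycles i) (cyclesMap β i).hom + tB P β i j := by
  have hB : Module.Projective A (Bd P i j) := projective_Bd' P b hP i j hij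
  have hZ : Module.Projective A (P.cycles i) := projective_cycles_of_Bd P i j hij hB
  have := isNoetherian_cycles P i
  have := isNoetherian_cycles P j
  have : Module.Free A (P.cycles i) := free_of_projective hZ
  have : Module.Free A (LinearMap.range (P.toCycles i j).hom) := free_of_projective hB
  refine trace_eq_add_of_exact (P.iCycles i).hom (P.toCycles i j).hom.rangeRestrict
    (iCycles_injective P i) (LinearMap.surjective_rangeRestrict _) ?_ _ _
    ((cyclesMap β j).hom.restrict (Bd_le_comap P β i j)) ?_ ?_
  · intro x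
    rw [← exact_iCycles_toCycles P i j hij x]
    constructor
    · intro hx
      exact congrArg Subtype.val hx
    · intro hx
      exact Subtype.ext hx
  · intro z
    exact iCycles_cyclesMap_apply P β i z
  · intro x
    apply Subtype.ext
    exact toCycles_cyclesMap_apply P β i j x

theorem trace_cycles (b : ℤ) (hP : ∀ n : ℤ, b < n → IsZero (P.X n)) (i j : ℤ) (hij : i + 1 = j) :
    LinearMap.trace A (P.cycles j) (cyclesMap β j).hom =
      tB P β i j + LinearMap.trace A (P.homology j) (homologyMap β j).hom := by
  have hB : Module.Projective A (Bd P i j) := projective_Bd' P b hP i j hij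
  have := isNoetherian_cycles P j
  have : Module.Free A (Bd P i j) := free_of_projective hB
  refine trace_eq_add_of_exact (Bd P i j).subtype (P.homologyπ j).hom
    (Submodule.subtype_injective _) (homologyπ_surjective P j) ?_
    ((cyclesMap β j).hom.restrict (Bd_le_comap P β i j)) _ _ ?_ ?_
  · rw [LinearMap.exact_iff, Submodule.range_subtype]
    exact LinearMap.exact_iff.mp (exact_toCycles_homologyπ P i j hij)
  · intro z
    rfl
  · intro z
    exact homologyπ_cyclesMap_apply P β j z

omit [IsLocalRing A] [IsNoetherianRing A] [∀ n, Module.Finite A (P.X n)]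
  [∀ n, Module.Free A (P.X n)] [∀ n, Module.Free A (P.homology n)] in
theorem tB_eq_zero_of_subsingleton (i j : ℤ) (h : Subsingleton (Bd P i j)) : tB P β i j = 0 := by
  unfold tB
  rw [Subsingleton.elim ((cyclesMap β j).hom.restrict (Bd_le_comap P β i j)) 0, map_zero]

/-- **Main theorem**: the alternating trace on the complex equals the alternating trace on
cohomology. -/
theorem alternatingTrace_eq (a b : ℤ) (hP : ∀ n : ℤ, n < a ∨ b < n → IsZero (P.X n)) :
    ∑ n ∈ Finset.Icc a b, ((n.negOnePow : ℤˣ) : ℤ) • LinearMap.trace A (P.X n) (β.f n).hom =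
    ∑ n ∈ Finset.Icc a b, ((n.negOnePow : ℤˣ) : ℤ) •
      LinearMap.trace A (P.homology n) (homologyMap β n).hom := by
  have hPb : ∀ n : ℤ, b < n → IsZero (P.X n) := fun n hn => hP n (Or.inr hn)
  by_cases hab : b < a
  · rw [Finset.Icc_eq_empty (by omega), Finset.sum_empty, Finset.sum_empty]
  push Not at hab
  set τ : ℤ → A := fun j => tB P β (j - 1) j with hτ
  have hkey : ∀ n : ℤ, LinearMap.trace A (P.X n) (β.f n).hom -
      LinearMap.trace A (P.homology n) (homologyMap β n).hom = τ n + τ (n + 1) := by
    intro n
    rw [trace_X P β b hPb n (n + 1) rfl, trace_cycles P β b hPb (n - 1) n (by omega),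
      tB_eq P β n (n + 1) rfl]
    simp only [hτ]
    abel
  have hτa : τ a = 0 := by
    apply tB_eq_zero_of_subsingleton
    have h1 : Subsingleton (P.X (a - 1)) :=
      ModuleCat.subsingleton_of_isZero (hP _ (Or.inl (by omega)))
    have h2 : Bd P (a - 1) a = ⊥ := by
      rw [Bd, LinearMap.range_eq_bot]
      apply LinearMap.ext
      intro x
      rw [Subsingleton.elim x 0, map_zero, map_zero]
    rw [h2]
    infer_instance
  have hτb : τ (b + 1) = 0 := by
    apply tB_eq_zero_of_subsingleton
    have h1 : Subsingleton (P.X (b + 1)) :=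
      ModuleCat.subsingleton_of_isZero (hP _ (Or.inr (by omega)))
    have h2 : Subsingleton (P.cycles (b + 1)) := (iCycles_injective P (b + 1)).subsingleton
    infer_instance
  set w : ℤ → A := fun n => ((n.negOnePow : ℤˣ) : ℤ) • τ n with hw
  have hterm : ∀ n : ℤ, ((n.negOnePow : ℤˣ) : ℤ) • (τ n + τ (n + 1)) = w n - w (n + 1) := by
    intro n
    simp only [hw]
    rw [Int.negOnePow_succ, Units.val_neg, neg_smul, smul_add, sub_neg_eq_add]
  rw [← sub_eq_zero, ← Finset.sum_sub_distrib]
  simp_rw [← smul_sub, hkey, hterm]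
  rw [sum_Icc_sub w a b (by omega)]
  simp only [hw]
  rw [hτa, hτb, smul_zero, smul_zero, sub_zero]

end Main

end Complex

end Groth.Agent.R2.H52.AltTrace
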