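import Mathlib
import Groth.Prelude.Def_SheafNL
import Groth.Agent.R2.H6NLBase
import Groth.Agent.R2.H52LiftQis

/-!
# A quasi-isomorphism criterion for the base change map of naive cotangent complexes (helper3)

* `quasiIso_of_double`: elementwise criterion for a map of two-term complexes (`HomologicalComplex.double`)
  of modules to be a quasi-isomorphism.
* `quasiIso_bcMap`: `NLCx.bcMap f` is a quasi-isomorphism as soon as `NLCx.bcH1Map f` and `NLCx.bcH0Map` are
  bijective.
* `bcH1Map_bijective_of_flat`: for `S'` flat over `S`, `bcH1Map f` is bijective iff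
  `S' ⊗ H¹(P) → H¹(P')` is.
-/

set_option autoImplicit false
set_option linter.style.haveILetI false
set_option linter.unusedSectionVars false
universe u
open TensorProduct Algebra Algebra.Extension CategoryTheory CategoryTheory.Limits HomologicalComplex
  KaehlerDifferential

namespace Groth.Agent.R2.H3.NLHens

section qis

variable {A : Type u} [CommRing A]

theorem quasiIso_of_elementwise' {K L : CochainComplex (ModuleCat.{u} A) ℤ} (f : K ⟶ L)
    (hinj : ∀ (i j k : ℤ), i + 1 = j → j + 1 = k → ∀ x : K.X j, (K.d j k).hom x = 0 →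
      (∃ y : L.X i, (L.d i j).hom y = (f.f j).hom x) → ∃ x' : K.X i, (K.d i j).hom x' = x)
    (hsurj : ∀ (i j k : ℤ), i + 1 = j → j + 1 = k → ∀ y : L.X j, (L.d j k).hom y = 0 →
      ∃ x : K.X j, (K.d j k).hom x = 0 ∧ ∃ y' : L.X i, (L.d i j).hom y' = y - (f.f j).hom x) :
    QuasiIso f :=
  Groth.Agent.R2.H52.LiftQis.quasiIso_of_elementwise f
    (fun n x hx hy => hinj n (n + 1) (n + 1 + 1) rfl rfl x hx hy)
    (fun n y hy => hsurj n (n + 1) (n + 1 + 1) rfl rfl y hy)

theorem rel_up : (ComplexShape.up ℤ).Rel (-1) 0 := by simp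

theorem iso_hom_inv_apply {M N : ModuleCat.{u} A} (e : M ≅ N) (x : N) :
    e.hom.hom (e.inv.hom x) = x := ModuleCat.hom_inv_apply e x

theorem iso_inv_hom_apply {M N : ModuleCat.{u} A} (e : M ≅ N) (x : M) :
    e.inv.hom (e.hom.hom x) = x := ModuleCat.inv_hom_apply e x

theorem iso_inv_injective {M N : ModuleCat.{u} A} (e : M ≅ N) : Function.Injective e.inv.hom := by
  intro a b hab
  rw [← iso_hom_inv_apply e a, hab, iso_hom_inv_apply]

variable {X₀ X₁ Y₀ Y₁ : ModuleCat.{u} A} (φ : X₀ ⟶ X₁) (ψ : Y₀ ⟶ Y₁)

theorem quasiIso_of_double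
    (g : HomologicalComplex.double φ rel_up ⟶ HomologicalComplex.double ψ rel_up)
    (g₀ : X₀ ⟶ Y₀) (g₁ : X₁ ⟶ Y₁)
    (hg₀ : g.f (-1) = (doubleXIso₀ φ rel_up).hom ≫ g₀ ≫ (doubleXIso₀ ψ rel_up).inv)
    (hg₁ : g.f 0 = (doubleXIso₁ φ rel_up (by decide)).hom ≫ g₁ ≫
      (doubleXIso₁ ψ rel_up (by decide)).inv)
    (H1inj : ∀ x : X₀, φ.hom x = 0 → g₀.hom x = 0 → x = 0)
    (H1surj : ∀ y : Y₀, ψ.hom y = 0 → ∃ x : X₀, φ.hom x = 0 ∧ g₀.hom x = y)
    (H0inj : ∀ x : X₁, (∃ y : Y₀, ψ.hom y = g₁.hom x) → ∃ x' : X₀, φ.hom x' = x)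
    (H0surj : ∀ y : Y₁, ∃ x : X₁, ∃ y' : Y₀, ψ.hom y' = y - g₁.hom x) :
    QuasiIso g := by
  have hdK : (double φ rel_up).d (-1) 0 =
      (doubleXIso₀ φ rel_up).hom ≫ φ ≫ (doubleXIso₁ φ rel_up (by decide)).inv :=
    double_d φ rel_up (by decide)
  have hdL : (double ψ rel_up).d (-1) 0 =
      (doubleXIso₀ ψ rel_up).hom ≫ ψ ≫ (doubleXIso₁ ψ rel_up (by decide)).inv :=
    double_d ψ rel_up (by decide)
  set e₀ := doubleXIso₀ φ rel_up
  set e₁ := doubleXIso₁ φ rel_up (by decide)
  set e₀' := doubleXIso₀ ψ rel_up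
  set e₁' := doubleXIso₁ ψ rel_up (by decide)
  apply quasiIso_of_elementwise'
  · intro i j k hij hjk x hx hy
    by_cases hj0 : j = -1
    · subst hj0
      obtain rfl : i = -2 := by omega
      obtain rfl : k = 0 := by omega
      refine ⟨0, ?_⟩
      rw [map_zero]
      symm
      obtain ⟨y, hy⟩ := hy
      have hL0 : (double ψ rel_up).d (-2) (-1) = 0 := double_d_eq_zero₀ ψ rel_up _ _ (by decide)
      rw [hL0, hg₀] at hy
      rw [hdK] at hx
      simp only [ModuleCat.hom_comp, LinearMap.comp_apply, ModuleCat.hom_zero,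
        LinearMap.zero_apply] at hx hy
      have h1 : φ.hom (e₀.hom.hom x) = 0 := iso_inv_injective e₁ (by rw [hx, map_zero])
      have h2 : g₀.hom (e₀.hom.hom x) = 0 := iso_inv_injective e₀' (by rw [← hy, map_zero])
      have h3 := H1inj _ h1 h2
      rw [← iso_inv_hom_apply e₀ x, h3, map_zero]
    · by_cases hj1 : j = 0
      · subst hj1
        obtain rfl : i = -1 := by omega
        obtain ⟨y, hy⟩ := hy
        rw [hdL, hg₁] at hy
        simp only [ModuleCat.hom_comp, LinearMap.comp_apply] at hy
        have h1 := iso_inv_injective e₁' hy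
        obtain ⟨x', hx'⟩ := H0inj _ ⟨_, h1⟩
        refine ⟨e₀.inv.hom x', ?_⟩
        rw [hdK]
        simp only [ModuleCat.hom_comp, LinearMap.comp_apply]
        rw [iso_hom_inv_apply, hx', iso_inv_hom_apply]
      · haveI : Subsingleton ((double φ rel_up).X j) :=
          ModuleCat.subsingleton_of_isZero (isZero_double_X φ rel_up j hj0 hj1)
        exact ⟨0, Subsingleton.elim _ _⟩
  · intro i j k hij hjk y hy
    by_cases hj0 : j = -1
    · subst hj0
      obtain rfl : i = -2 := by omega
      obtain rfl : k = 0 := by omega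
      rw [hdL] at hy
      simp only [ModuleCat.hom_comp, LinearMap.comp_apply] at hy
      have h1 : ψ.hom (e₀'.hom.hom y) = 0 := iso_inv_injective e₁' (by rw [hy, map_zero])
      obtain ⟨x₀, hx₀, hgx₀⟩ := H1surj _ h1
      refine ⟨e₀.inv.hom x₀, ?_, 0, ?_⟩
      · rw [hdK]
        simp only [ModuleCat.hom_comp, LinearMap.comp_apply]
        rw [iso_hom_inv_apply, hx₀, map_zero]
      · rw [map_zero, hg₀]
        simp only [ModuleCat.hom_comp, LinearMap.comp_apply]
        rw [iso_hom_inv_apply, hgx₀, iso_inv_hom_apply, sub_self]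
    · by_cases hj1 : j = 0
      · subst hj1
        obtain rfl : i = -1 := by omega
        obtain ⟨x₁, y₀', h⟩ := H0surj (e₁'.hom.hom y)
        have hK0 : (double φ rel_up).d 0 k = 0 := double_d_eq_zero₀ φ rel_up _ _ (by decide)
        refine ⟨e₁.inv.hom x₁, ?_, e₀'.inv.hom y₀', ?_⟩
        · rw [hK0]
          rfl
        · rw [hdL, hg₁]
          simp only [ModuleCat.hom_comp, LinearMap.comp_apply]
          rw [iso_hom_inv_apply, iso_hom_inv_apply, h, map_sub, iso_inv_hom_apply]
      · haveI : Subsingleton ((double ψ rel_up).X j) :=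
          ModuleCat.subsingleton_of_isZero (isZero_double_X ψ rel_up j hj0 hj1)
        exact ⟨0, by rw [map_zero], 0, Subsingleton.elim _ _⟩

end qis


section plumbing

variable {R S R' S' : Type u} [CommRing R] [CommRing S] [CommRing R'] [CommRing S'] [Algebra R S]
  [Algebra R' S'] [Algebra R R'] [Algebra S S'] [Algebra R S'] [IsScalarTower R R' S']
  [IsScalarTower R S S']
variable {P : Algebra.Extension.{u} R S} {P' : Algebra.Extension.{u} R' S'}

theorem liftBaseChange_cotangent_baseChange_ι (f : P.Hom P') (z : S' ⊗[S] P.H1Cotangent) :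
    (Cotangent.map f).liftBaseChange S' (P.h1Cotangentι.baseChange S' z) =
      P'.h1Cotangentι ((H1Cotangent.map f).liftBaseChange S' z) := by
  induction z using TensorProduct.induction_on with
  | zero => simp
  | add x y hx hy => simp only [map_add, hx, hy]
  | tmul s h =>
    simp only [LinearMap.baseChange_tmul, LinearMap.liftBaseChange_tmul, map_smul]
    rfl

/-- over a flat base change, `H^{-1}` of the tensored complex is the tensored `H^{-1}` -/
theorem bcH1Map_bijective_of_flat [Module.Flat S S'] (f : P.Hom P')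
    (h : Function.Bijective ((H1Cotangent.map f).liftBaseChange S')) :
    Function.Bijective (NLCx.bcH1Map (S' := S') f) := by
  have hex : Function.Exact (P.h1Cotangentι.baseChange S') (P.cotangentComplex.baseChange S') := by
    have := Module.Flat.lTensor_exact S' (P.exact_hCotangentι_cotangentComplex)
    intro x
    have h2 := this x
    rw [← LinearMap.baseChange_eq_ltensor, ← LinearMap.baseChange_eq_ltensor] at h2
    exact h2
  have hinj : Function.Injective (P.h1Cotangentι.baseChange S') := by
    have := Module.Flat.lTensor_preserves_injective_linearMap (M := S') P.h1Cotangentι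
      P.h1Cotangentι_injective
    rw [← LinearMap.baseChange_eq_ltensor] at this
    exact this
  constructor
  · rw [injective_iff_map_eq_zero]
    intro x hx
    obtain ⟨z, hz⟩ := (hex x.1).mp x.2
    have h1 : (Cotangent.map f).liftBaseChange S' x.1 = 0 := congrArg Subtype.val hx
    rw [← hz, liftBaseChange_cotangent_baseChange_ι] at h1
    have h2 : (H1Cotangent.map f).liftBaseChange S' z = 0 :=
      P'.h1Cotangentι_injective (by rw [h1, map_zero])
    have h3 : z = 0 := h.1 (by rw [h2, map_zero])
    apply Subtype.ext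
    rw [← hz, h3, map_zero]
    rfl
  · intro y
    obtain ⟨z, hz⟩ := h.2 y
    have hmem : P.h1Cotangentι.baseChange S' z ∈ NLCx.bcH1 P S' :=
      (hex _).mpr ⟨z, rfl⟩
    refine ⟨⟨_, hmem⟩, ?_⟩
    apply Subtype.ext
    show (Cotangent.map f).liftBaseChange S' (P.h1Cotangentι.baseChange S' z) = y.1
    rw [liftBaseChange_cotangent_baseChange_ι, hz]
    rfl

theorem toKaehler_cotangentSpace_map (f : P.Hom P') (c : P.CotangentSpace) :
    P'.toKaehler (CotangentSpace.map f c) = KaehlerDifferential.map R R' S S' (P.toKaehler c) := by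
  induction c using TensorProduct.induction_on with
  | zero => simp
  | add x y hx hy => simp only [map_add, hx, hy]
  | tmul s y =>
    obtain ⟨y, rfl⟩ := KaehlerDifferential.tensorProductTo_surjective _ _ y
    induction y with
    | zero => simp
    | add a b ha hb => simp only [map_add, tmul_add, ha, hb]
    | tmul a b =>
      simp only [Derivation.tensorProductTo_tmul, tmul_smul, smul_tmul']
      simp only [CotangentSpace.map_tmul, mapBaseChange_tmul, map_D, map_smul]
      have h1 : algebraMap P'.Ring S' (f.toAlgHom b) = algebraMap S S' (algebraMap P.Ring S b) :=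
        f.algebraMap_toRingHom b
      rw [h1, algebraMap_smul]

theorem toKaehler_liftBaseChange (f : P.Hom P') (x : S' ⊗[S] P.CotangentSpace) :
    P'.toKaehler ((CotangentSpace.map f).liftBaseChange S' x) =
      NLCx.bcH0Map R S R' S' (P.toKaehler.baseChange S' x) := by
  induction x using TensorProduct.induction_on with
  | zero => simp
  | add x y hx hy => simp only [map_add, hx, hy]
  | tmul s c =>
    simp only [NLCx.bcH0Map, LinearMap.baseChange_tmul, LinearMap.liftBaseChange_tmul, map_smul,
      toKaehler_cotangentSpace_map]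

theorem exact_baseChange_toKaehler (P : Algebra.Extension.{u} R S) (S' : Type u) [CommRing S']
    [Algebra S S'] :
    Function.Exact (P.cotangentComplex.baseChange S') (P.toKaehler.baseChange S') := by
  have := lTensor_exact S' P.exact_cotangentComplex_toKaehler P.toKaehler_surjective
  intro x
  have h2 := this x
  rw [← LinearMap.baseChange_eq_ltensor, ← LinearMap.baseChange_eq_ltensor] at h2
  exact h2

theorem surjective_baseChange_toKaehler (P : Algebra.Extension.{u} R S) (S' : Type u) [CommRing S']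
    [Algebra S S'] : Function.Surjective (P.toKaehler.baseChange S') := by
  have := LinearMap.lTensor_surjective S' P.toKaehler_surjective
  rw [← LinearMap.baseChange_eq_ltensor] at this
  exact this

/-- injectivity on `H⁰`, elementwise -/
theorem h0_inj (f : P.Hom P') (h0 : Function.Injective (NLCx.bcH0Map R S R' S'))
    (x : S' ⊗[S] P.CotangentSpace)
    (hx : ∃ y : P'.Cotangent, P'.cotangentComplex y = (CotangentSpace.map f).liftBaseChange S' x) :
    ∃ x' : S' ⊗[S] P.Cotangent, P.cotangentComplex.baseChange S' x' = x := by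
  obtain ⟨y, hy⟩ := hx
  apply (exact_baseChange_toKaehler P S' x).mp
  apply h0
  rw [← toKaehler_liftBaseChange, ← hy, map_zero]
  exact (P'.exact_cotangentComplex_toKaehler _).mpr ⟨y, rfl⟩

/-- surjectivity on `H⁰`, elementwise -/
theorem h0_surj (f : P.Hom P') (h0 : Function.Surjective (NLCx.bcH0Map R S R' S'))
    (y : P'.CotangentSpace) :
    ∃ x : S' ⊗[S] P.CotangentSpace, ∃ y' : P'.Cotangent,
      P'.cotangentComplex y' = y - (CotangentSpace.map f).liftBaseChange S' x := by
  obtain ⟨z, hz⟩ := h0 (P'.toKaehler y)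
  obtain ⟨x, rfl⟩ := surjective_baseChange_toKaehler P S' z
  refine ⟨x, ?_⟩
  apply (P'.exact_cotangentComplex_toKaehler _).mp
  rw [map_sub, toKaehler_liftBaseChange, hz, sub_self]


/-- `bcMap f` is a quasi-isomorphism when it induces bijections on `H^{-1}` and `H^0` -/
theorem quasiIso_bcMap (f : P.Hom P')
    (h1 : Function.Bijective (NLCx.bcH1Map (S' := S') f))
    (h0 : Function.Bijective (NLCx.bcH0Map R S R' S')) :
    QuasiIso (NLCx.bcMap (S' := S') f) := by
  apply quasiIso_of_double (ModuleCat.ofHom (P.cotangentComplex.baseChange S'))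
    (ModuleCat.ofHom P'.cotangentComplex) (NLCx.bcMap f)
    (ModuleCat.ofHom ((Cotangent.map f).liftBaseChange S'))
    (ModuleCat.ofHom ((CotangentSpace.map f).liftBaseChange S'))
    (Groth.Agent.R2.H6.NLBase.bcMap_f_negOne f) (Groth.Agent.R2.H6.NLBase.bcMap_f_zero f)
  · intro x hx hgx
    have := h1.1 (a₁ := ⟨x, hx⟩) (a₂ := 0) (Subtype.ext hgx)
    exact congrArg Subtype.val this
  · intro y hy
    obtain ⟨x, hx⟩ := h1.2 ⟨y, hy⟩
    exact ⟨x.1, x.2, congrArg Subtype.val hx⟩
  · exact fun x hx => h0_inj f h0.1 x hx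
  · exact fun y => h0_surj f h0.2 y

end plumbing

end Groth.Agent.R2.H3.NLHens
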