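import Mathlib
import Groth.Prelude.Def_SheafNL
import Groth.Agent.R2.H3NLHensB
import Groth.Agent.R2.H3NLHensE

/-!
# The base change map of naive cotangent complexes along formally étale extensions (helper3)
-/

set_option autoImplicit false
set_option linter.style.haveILetI false
set_option linter.unusedSectionVars false
universe u
open TensorProduct Algebra CategoryTheory KaehlerDifferential

namespace Groth.Agent.R2.H3.NLHens

section final

variable (A B A' B' : Type u) [CommRing A] [CommRing B] [CommRing A'] [CommRing B']
  [Algebra A B] [Algebra A A'] [Algebra B B'] [Algebra A' B'] [Algebra A B']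
  [IsScalarTower A A' B'] [IsScalarTower A B B']

theorem kaehler_map_comp (ω : Ω[B⁄A]) :
    KaehlerDifferential.map A A' B' B' (KaehlerDifferential.map A A B B' ω) =
      KaehlerDifferential.map A A' B B' ω := by
  have hspan := KaehlerDifferential.span_range_derivation A B
  have hmem : ω ∈ Submodule.span B (Set.range (D A B)) := hspan ▸ Submodule.mem_top
  induction hmem using Submodule.span_induction with
  | mem x hx =>
    obtain ⟨b, rfl⟩ := hx
    simp only [KaehlerDifferential.map_D, Algebra.algebraMap_self, RingHom.id_apply]
  | zero => simp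
  | add x y _ _ hx hy => simp only [map_add, hx, hy]
  | smul b x _ hx =>
    simp only [map_smul, hx, LinearMap.map_smul_of_tower]

theorem bcH0Map_eq (x : B' ⊗[B] Ω[B⁄A]) :
    NLCx.bcH0Map A B A' B' x =
      KaehlerDifferential.map A A' B' B' (KaehlerDifferential.mapBaseChange A B B' x) := by
  induction x using TensorProduct.induction_on with
  | zero => simp
  | add x y hx hy => simp only [map_add, hx, hy]
  | tmul s ω =>
    simp only [NLCx.bcH0Map, LinearMap.liftBaseChange_tmul, KaehlerDifferential.mapBaseChange_tmul,
      map_smul, kaehler_map_comp]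

theorem bcH0Map_bijective [Algebra.FormallyUnramified A A'] [Algebra.FormallyEtale B B'] :
    Function.Bijective (NLCx.bcH0Map A B A' B') := by
  have h1 : Function.Bijective (KaehlerDifferential.mapBaseChange A B B') :=
    (KaehlerDifferential.tensorKaehlerEquivOfFormallyEtale A B B').bijective
  have h2 := bijective_kaehler_map_of_formallyUnramified A A' B'
  have : (NLCx.bcH0Map A B A' B' : B' ⊗[B] Ω[B⁄A] → Ω[B'⁄A']) =
      (KaehlerDifferential.map A A' B' B') ∘ (KaehlerDifferential.mapBaseChange A B B') :=
    funext (bcH0Map_eq A B A' B')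
  rw [this]
  exact h2.comp h1

theorem h1Cotangent_map_comp :
    Algebra.H1Cotangent.map A A' B B' =
      (Algebra.H1Cotangent.map A A' B' B').restrictScalars B ∘ₗ Algebra.H1Cotangent.map A A B B' := by
  change Extension.H1Cotangent.map _ = ((Extension.H1Cotangent.map _).restrictScalars B) ∘ₗ
    (Extension.H1Cotangent.map _)
  rw [← Extension.H1Cotangent.map_comp]
  exact Extension.H1Cotangent.map_eq _ _

theorem h1Cotangent_liftBaseChange_eq (x : B' ⊗[B] Algebra.H1Cotangent A B) :
    (Algebra.H1Cotangent.map A A' B B').liftBaseChange B' x =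
      Algebra.H1Cotangent.map A A' B' B' ((Algebra.H1Cotangent.map A A B B').liftBaseChange B' x) := by
  induction x using TensorProduct.induction_on with
  | zero => simp
  | add x y hx hy => simp only [map_add, hx, hy]
  | tmul s h =>
    simp only [LinearMap.liftBaseChange_tmul, map_smul]
    rw [h1Cotangent_map_comp A B A' B']
    rfl

theorem h1Cotangent_liftBaseChange_bijective [Algebra.FormallyEtale A A']
    (h : Function.Bijective ((Algebra.H1Cotangent.map A A B B').liftBaseChange B')) :
    Function.Bijective ((Algebra.H1Cotangent.map A A' B B').liftBaseChange B') := by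
  have h2 := bijective_h1Cotangent_map_of_formallyEtale A A' B'
  have : ((Algebra.H1Cotangent.map A A' B B').liftBaseChange B' :
        B' ⊗[B] Algebra.H1Cotangent A B → Algebra.H1Cotangent A' B') =
      (Algebra.H1Cotangent.map A A' B' B') ∘ ((Algebra.H1Cotangent.map A A B B').liftBaseChange B') :=
    funext (h1Cotangent_liftBaseChange_eq A B A' B')
  rw [this]
  exact h2.comp h

/-- For a commutative square `A → B`, `A → A'`, `B → B'`, `A' → B'` with `A'` formally étale over `A`, `B'` flat and
formally étale over `B`, and `B' ⊗_B H¹(L_{B/A}) ≅ H¹(L_{B'/A})`, the base change map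
`NL_{B/A} ⊗_B B' → NL_{B'/A'}` is a quasi-isomorphism. -/
theorem quasiIso_bcMapSelf [Algebra.FormallyEtale A A'] [Algebra.FormallyEtale B B'] [Module.Flat B B']
    (h : Function.Bijective ((Algebra.H1Cotangent.map A A B B').liftBaseChange B')) :
    QuasiIso (NLCx.bcMapSelf A B A' B') := by
  have h1 := h1Cotangent_liftBaseChange_bijective A B A' B' h
  exact quasiIso_bcMap _ (bcH1Map_bijective_of_flat _ h1) (bcH0Map_bijective A B A' B')

end final

end Groth.Agent.R2.H3.NLHens
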