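import Mathlib
import Groth.Prelude.Def_EtBase
import Groth.Agent.R2.H3EtZarB

/-!
# Separated étale schemes over integral schemes with strictly henselian local rings (helper3)

* `isOpenImmersion_of_section`: a section of an étale morphism over an open is an open immersion.
* `section_ext`, `section_apply_eq`: two local sections of a separated étale morphism over an
  integral scheme agreeing at one point agree on the overlap.
* `exists_iso_sigma_opens`: if moreover all local rings of the base are strictly henselian, the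
  source is a disjoint union of open subschemes of the base.
-/

set_option autoImplicit false
set_option linter.style.haveILetI false
universe u
open CategoryTheory AlgebraicGeometry TopologicalSpace Opposite Limits

namespace Groth.Agent.R2.H3.NormSep

variable {U X : Scheme.{u}} (g : U ⟶ X)

/-- a section of an étale morphism over an open is an open immersion -/
theorem isOpenImmersion_of_section [Etale g] {W : X.Opens} (σ : W.toScheme ⟶ U)
    (hσ : σ ≫ g = W.ι) : IsOpenImmersion σ := by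
  haveI : Etale (σ ≫ g) := by rw [hσ]; infer_instance
  haveI : Etale σ := Etale.of_comp σ g
  haveI : Mono σ := mono_of_mono_fac hσ
  exact IsOpenImmersion.of_flat_of_mono σ

/-- two sections of a separated étale morphism over an open of an integral scheme which agree at
one point are equal -/
theorem section_ext [IsIntegral X] [Etale g] [IsSeparated g] {W : X.Opens}
    (σ σ' : W.toScheme ⟶ U) (hσ : σ ≫ g = W.ι) (hσ' : σ' ≫ g = W.ι) (x : W.toScheme)
    (hx : σ x = σ' x) : σ = σ' := by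
  haveI : Nonempty W := ⟨x⟩
  haveI : IsIntegral W.toScheme := inferInstance
  haveI := isOpenImmersion_of_section g σ hσ
  haveI := isOpenImmersion_of_section g σ' hσ'
  let N : U.Opens := σ.opensRange ⊓ σ'.opensRange
  have h1 : Set.range N.ι ⊆ Set.range σ := by
    rintro _ ⟨y, rfl⟩
    exact y.2.1
  have h2 : Set.range N.ι ⊆ Set.range σ' := by
    rintro _ ⟨y, rfl⟩
    exact y.2.2
  let k := IsOpenImmersion.lift σ N.ι h1
  let k' := IsOpenImmersion.lift σ' N.ι h2
  have hk : k ≫ σ = N.ι := IsOpenImmersion.lift_fac _ _ _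
  have hk' : k' ≫ σ' = N.ι := IsOpenImmersion.lift_fac _ _ _
  have hkk : k = k' := by
    rw [← cancel_mono W.ι, ← hσ, ← Category.assoc, hk, hσ, ← hσ', ← Category.assoc, hk']
  haveI : IsOpenImmersion (k ≫ σ) := by rw [hk]; infer_instance
  haveI : IsOpenImmersion k := IsOpenImmersion.of_comp k σ
  haveI : IsDominant k := by
    refine ⟨?_⟩
    have hopen : IsOpen (Set.range k) := k.isOpenEmbedding.isOpen_range
    have hne : (Set.range k).Nonempty := by
      have hxN : σ x ∈ N := ⟨⟨x, rfl⟩, ⟨x, hx.symm⟩⟩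
      exact ⟨k ⟨σ x, hxN⟩, ⟨_, rfl⟩⟩
    exact hopen.dense hne
  refine ext_of_isDominant_of_isSeparated g (hσ.trans hσ'.symm) k ?_
  rw [hk, hkk, hk']

/-- two local sections agreeing at one point agree on the overlap -/
theorem section_apply_eq [IsIntegral X] [Etale g] [IsSeparated g] {W W' : X.Opens}
    (σ : W.toScheme ⟶ U) (σ' : W'.toScheme ⟶ U) (hσ : σ ≫ g = W.ι) (hσ' : σ' ≫ g = W'.ι)
    (x : X) (hx : x ∈ W) (hx' : x ∈ W') (h : σ ⟨x, hx⟩ = σ' ⟨x, hx'⟩)
    (y : X) (hy : y ∈ W) (hy' : y ∈ W') : σ ⟨y, hy⟩ = σ' ⟨y, hy'⟩ := by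
  let τ : (W ⊓ W').toScheme ⟶ U := X.homOfLE inf_le_left ≫ σ
  let τ' : (W ⊓ W').toScheme ⟶ U := X.homOfLE inf_le_right ≫ σ'
  have hτ : τ ≫ g = (W ⊓ W').ι := by rw [Category.assoc, hσ, Scheme.homOfLE_ι]
  have hτ' : τ' ≫ g = (W ⊓ W').ι := by rw [Category.assoc, hσ', Scheme.homOfLE_ι]
  have e1 : ∀ (z : X) (hz : z ∈ W) (hz' : z ∈ W'), τ ⟨z, ⟨hz, hz'⟩⟩ = σ ⟨z, hz⟩ := by
    intro z hz hz'
    rw [Scheme.Hom.comp_apply]
    congr 1
    exact Subtype.ext (Scheme.homOfLE_apply _ _)
  have e2 : ∀ (z : X) (hz : z ∈ W) (hz' : z ∈ W'), τ' ⟨z, ⟨hz, hz'⟩⟩ = σ' ⟨z, hz'⟩ := by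
    intro z hz hz'
    rw [Scheme.Hom.comp_apply]
    congr 1
    exact Subtype.ext (Scheme.homOfLE_apply _ _)
  have key : τ = τ' := section_ext g τ τ' hτ hτ' ⟨x, ⟨hx, hx'⟩⟩
    ((e1 x hx hx').trans (h.trans (e2 x hx hx').symm))
  rw [← e1 y hy hy', ← e2 y hy hy', key]


section decomposition

variable [IsIntegral X] [Etale g] [IsSeparated g]

/-- points of `U` in the image of a local section taking the value `i` at the generic point -/
def secSet (i : U) : Set U :=
  {u | ∃ (W : X.Opens) (σ : W.toScheme ⟶ U) (_ : σ ≫ g = W.ι) (hη : genericPoint X ∈ W),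
      σ ⟨genericPoint X, hη⟩ = i ∧ u ∈ Set.range σ}

omit [IsSeparated g] in
theorem isOpen_secSet (i : U) : IsOpen (secSet g i) := by
  rw [isOpen_iff_forall_mem_open]
  rintro u ⟨W, σ, hσ, hη, hi, hu⟩
  haveI := isOpenImmersion_of_section g σ hσ
  exact ⟨Set.range σ, fun v hv => ⟨W, σ, hσ, hη, hi, hv⟩, σ.isOpenEmbedding.isOpen_range, hu⟩

/-- the open subscheme of `U` swept out by the local sections through `i` over the generic point -/
def secOpen (i : U) : U.Opens := ⟨secSet g i, isOpen_secSet g i⟩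

omit [IsSeparated g] in
theorem exists_mem_secOpen
    (hS : ∀ x : X, EtCoh.IsStrictlyHenselianLocalRing (X.presheaf.stalk x)) (u : U) :
    ∃ i, u ∈ secOpen g i := by
  obtain ⟨W, σ, hσ, hu⟩ := Groth.Agent.R2.H3.EtZar.exists_local_section g hS u
  have hne : ((⊤ : Set X) ∩ (W : Set X)).Nonempty := by
    obtain ⟨w, -⟩ := hu
    exact ⟨w.1, trivial, w.2⟩
  have hη : genericPoint X ∈ W :=
    ((genericPoint_spec X).mem_open_set_iff W.isOpen).2 hne
  exact ⟨σ ⟨_, hη⟩, W, σ, hσ, hη, rfl, hu⟩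

omit [IsIntegral X] [Etale g] [IsSeparated g] in
theorem section_comp_apply {W : X.Opens} (σ : W.toScheme ⟶ U) (hσ : σ ≫ g = W.ι) (x : X)
    (hx : x ∈ W) : g (σ ⟨x, hx⟩) = x := by
  rw [← Scheme.Hom.comp_apply, hσ]
  rfl

theorem eq_of_mem_secOpen {i j : U} {u : U} (hi : u ∈ secOpen g i) (hj : u ∈ secOpen g j) :
    i = j := by
  obtain ⟨W, σ, hσ, hη, rfl, ⟨⟨x, hx⟩, rfl⟩⟩ := hi
  obtain ⟨W', σ', hσ', hη', rfl, ⟨⟨x', hx'⟩, hw'⟩⟩ := hj
  have h1 : x' = x := by
    rw [← section_comp_apply g σ' hσ' x' hx', ← section_comp_apply g σ hσ x hx, hw']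
  subst h1
  exact section_apply_eq g σ σ' hσ hσ' x' hx hx' hw'.symm _ hη hη'

theorem injective_secOpen_ι_comp (i : U) : Function.Injective ((secOpen g i).ι ≫ g) := by
  rintro ⟨a, W, σ, hσ, hη, hi, ⟨⟨x, hx⟩, rfl⟩⟩ ⟨b, W', σ', hσ', hη', hi', ⟨⟨x', hx'⟩, rfl⟩⟩ hab
  apply Subtype.ext
  have hab' : g (σ ⟨x, hx⟩) = g (σ' ⟨x', hx'⟩) := hab
  rw [section_comp_apply g σ hσ, section_comp_apply g σ' hσ'] at hab'
  subst hab'
  exact section_apply_eq g σ σ' hσ hσ' _ hη hη' (hi.trans hi'.symm) x hx hx'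

theorem isOpenImmersion_secOpen_ι_comp (i : U) : IsOpenImmersion ((secOpen g i).ι ≫ g) := by
  refine IsOpenImmersion.of_forall_source_exists _ (injective_secOpen_ι_comp g i) ?_
  rintro ⟨u, W, σ, hσ, hη, hi, ⟨w, rfl⟩⟩
  haveI := isOpenImmersion_of_section g σ hσ
  have hr : Set.range σ ⊆ Set.range (secOpen g i).ι := by
    rintro _ ⟨v, rfl⟩
    exact ⟨⟨σ v, W, σ, hσ, hη, hi, ⟨v, rfl⟩⟩, rfl⟩
  let i' := IsOpenImmersion.lift (secOpen g i).ι σ hr
  have hi' : i' ≫ (secOpen g i).ι = σ := IsOpenImmersion.lift_fac _ _ _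
  haveI : IsOpenImmersion (i' ≫ (secOpen g i).ι) := by rw [hi']; infer_instance
  haveI : IsOpenImmersion i' := IsOpenImmersion.of_comp i' (secOpen g i).ι
  refine ⟨W.toScheme, i', inferInstance, ⟨w, ?_⟩, ?_⟩
  · apply Subtype.ext
    have := congrArg (fun f : W.toScheme ⟶ U => f w) hi'
    exact this
  · rw [← Category.assoc, hi', hσ]
    infer_instance

/-- a separated étale scheme over an integral scheme with strictly henselian local rings is a
disjoint union of open subschemes of the base -/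
theorem exists_iso_sigma_opens
    (hS : ∀ x : X, EtCoh.IsStrictlyHenselianLocalRing (X.presheaf.stalk x)) :
    ∃ (ι : Type u) (V : ι → X.Opens) (e : (∐ fun i => (V i : Scheme.{u})) ≅ U),
      ∀ i, Sigma.ι (fun i => (V i : Scheme.{u})) i ≫ e.hom ≫ g = (V i).ι := by
  let h : ∀ i : U, (secOpen g i).toScheme ⟶ X := fun i => (secOpen g i).ι ≫ g
  haveI : ∀ i, IsOpenImmersion (h i) := isOpenImmersion_secOpen_ι_comp g
  let V : U → X.Opens := fun i => (h i).opensRange
  let f : ∀ i : U, (V i).toScheme ⟶ U := fun i => (h i).isoOpensRange.inv ≫ (secOpen g i).ι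
  have hf : ∀ i, f i ≫ g = (V i).ι := fun i => by
    rw [Category.assoc]
    exact (h i).isoOpensRange_inv_comp
  have hrange : ∀ i, (f i).opensRange = secOpen g i := by
    intro i
    ext u
    constructor
    · rintro ⟨v, rfl⟩
      exact ((h i).isoOpensRange.inv v).2
    · intro hu
      refine ⟨(h i).isoOpensRange.hom ⟨u, hu⟩, ?_⟩
      show ((h i).isoOpensRange.hom ≫ (h i).isoOpensRange.inv ≫ (secOpen g i).ι) ⟨u, hu⟩ = u
      rw [Iso.hom_inv_id_assoc]
      rfl
  have hcov : ⨆ i, (f i).opensRange = ⊤ := by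
    rw [eq_top_iff]
    intro u _
    obtain ⟨i, hi⟩ := exists_mem_secOpen g hS u
    rw [Opens.mem_iSup]
    exact ⟨i, by rw [hrange]; exact hi⟩
  have hdisj : Pairwise (Function.onFun Disjoint (fun i => (f i).opensRange)) := by
    intro i j hij
    rw [Function.onFun, hrange, hrange, disjoint_iff]
    ext u
    simp only [Opens.coe_inf, Set.mem_inter_iff, SetLike.mem_coe, Opens.coe_bot,
      Set.mem_empty_iff_false, iff_false, not_and]
    intro hi hj
    exact hij (eq_of_mem_secOpen g hi hj)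
  obtain ⟨hc⟩ := nonempty_isColimit_cofanMk_of f hcov hdisj
  let e : (∐ fun i => (V i : Scheme.{u})) ≅ U :=
    (coproductIsCoproduct (fun i => (V i : Scheme.{u}))).coconePointUniqueUpToIso hc
  refine ⟨U, V, e, fun i => ?_⟩
  have he : Sigma.ι (fun i => (V i : Scheme.{u})) i ≫ e.hom = f i :=
    (coproductIsCoproduct (fun i => (V i : Scheme.{u}))).comp_coconePointUniqueUpToIso_hom hc ⟨i⟩
  rw [← Category.assoc, he, hf]

end decomposition

end Groth.Agent.R2.H3.NormSep
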