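import Mathlib
import Groth.Agent.S9436
import Groth.Agent.R2.H3NormSepA

/-!
# Affine étale schemes over closed subschemes of normal schemes with separably closed function field (helper3)

* `exists_etale_isPushout`, `exists_etale_isPullback`: affine étale schemes lift along closed
  immersions into affine schemes (from `Groth.Agent.S9436`).
* `exists_iso_sigma_of_opens`: a scheme covered by pairwise disjoint opens, each mapping by an open
  immersion to `Z`, is a disjoint union of opens of `Z`.
* `exists_finite_iso_sigma_opens`: affine étale over a closed subscheme of an affine integral scheme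
  with strictly henselian local rings is a finite disjoint union of opens.
-/

set_option autoImplicit false
set_option linter.style.haveILetI false
universe u
open CategoryTheory Limits TensorProduct AlgebraicGeometry TopologicalSpace

namespace Groth.Agent.R2.H3.NormSep

/-- étale ring maps lift along surjections, as a pushout square in `CommRingCat` -/
theorem exists_etale_isPushout {R A C : CommRingCat.{u}} (p : R ⟶ A) (hp : Function.Surjective p.hom)
    (q : A ⟶ C) (hq : q.hom.Etale) :
    ∃ (S : CommRingCat.{u}) (a : R ⟶ S) (b : S ⟶ C), a.hom.Etale ∧ IsPushout a p b q := by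
  let I : Ideal R := RingHom.ker p.hom
  let eA : (R ⧸ I) ≃+* A := RingHom.quotientKerEquivOfSurjective hp
  letI : Algebra (R ⧸ I) C := (q.hom.comp eA.toRingHom).toAlgebra
  haveI : Algebra.Etale (R ⧸ I) C := by
    have h1 : (eA.toRingHom).Etale := RingHom.Etale.of_bijective eA.bijective
    have h2 : (q.hom.comp eA.toRingHom).Etale := RingHom.Etale.stableUnderComposition _ _ h1 hq
    exact h2
  obtain ⟨S, _, _, hS, ⟨e⟩⟩ := Groth.Agent.S9436.result R I C
  let b : S →+* C := e.toRingHom.comp Algebra.TensorProduct.includeRight.toRingHom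
  refine ⟨CommRingCat.of S, CommRingCat.ofHom (algebraMap R S), CommRingCat.ofHom b, ?_, ?_⟩
  · exact RingHom.etale_algebraMap.2 hS
  · have h0 := (CommRingCat.isPushout_tensorProduct R (R ⧸ I) S).flip
    refine h0.of_iso (Iso.refl _) (Iso.refl _) eA.toCommRingCatIso e.toRingEquiv.toCommRingCatIso
      ?_ ?_ ?_ ?_
    · simp
    · ext r
      simp
      rfl
    · ext s
      simp
      rfl
    · ext x
      simp
      have h3 : (Ideal.Quotient.mk I) x ⊗ₜ[↑R] (1 : S) =
          algebraMap (↑R ⧸ I) ((↑R ⧸ I) ⊗[↑R] S) ((Ideal.Quotient.mk I) x) := by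
        rw [Algebra.TensorProduct.algebraMap_apply]
        rfl
      rw [h3, e.commutes]
      rfl

/-- affine étale schemes lift along closed immersions into affine schemes -/
theorem exists_etale_isPullback {V Z X : Scheme.{u}} [IsAffine X] (i : Z ⟶ X) [IsClosedImmersion i]
    (φ : V ⟶ Z) [Etale φ] [IsAffine V] :
    ∃ (U : Scheme.{u}) (g : U ⟶ X) (ψ : V ⟶ U), IsAffine U ∧ Etale g ∧ IsPullback ψ φ g i := by
  obtain ⟨hZ, hp⟩ := IsClosedImmersion.isAffine_surjective_of_isAffine i
  have hq : φ.appTop.hom.Etale := (HasRingHomProperty.iff_of_isAffine (P := @Etale)).1 inferInstance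
  obtain ⟨S, a, b, ha, hpo⟩ := exists_etale_isPushout i.appTop hp φ.appTop hq
  have hpb := isPullback_SpecMap_of_isPushout a i.appTop b φ.appTop hpo
  refine ⟨Spec S, Spec.map a ≫ X.isoSpec.inv, V.isoSpec.hom ≫ Spec.map b, inferInstance, ?_, ?_⟩
  · haveI : Etale (Spec.map a) := (HasRingHomProperty.Spec_iff (P := @Etale)).2 ha
    infer_instance
  · refine hpb.of_iso V.isoSpec.symm (Iso.refl _) Z.isoSpec.symm X.isoSpec.symm ?_ ?_ ?_ ?_
    · simp
    · simp only [Iso.symm_hom]
      exact Scheme.isoSpec_inv_naturality φ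
    · simp
    · simp only [Iso.symm_hom]
      exact Scheme.isoSpec_inv_naturality i

/-- a scheme covered by pairwise disjoint opens, each mapping by an open immersion to `Z`, is a
disjoint union of opens of `Z` -/
theorem exists_iso_sigma_of_opens {V Z : Scheme.{u}} (φ : V ⟶ Z) {ι : Type u} (Q : ι → V.Opens)
    (hQ : ∀ k, IsOpenImmersion ((Q k).ι ≫ φ)) (hcov : ⨆ k, Q k = ⊤)
    (hdisj : ∀ k l (v : V), v ∈ Q k → v ∈ Q l → k = l) :
    ∃ (W : ι → Z.Opens) (e : (∐ fun k => (W k : Scheme.{u})) ≅ V),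
      ∀ k, Sigma.ι (fun k => (W k : Scheme.{u})) k ≫ e.hom ≫ φ = (W k).ι := by
  let h : ∀ k, (Q k).toScheme ⟶ Z := fun k => (Q k).ι ≫ φ
  haveI : ∀ k, IsOpenImmersion (h k) := hQ
  let W : ι → Z.Opens := fun k => (h k).opensRange
  let f : ∀ k, (W k).toScheme ⟶ V := fun k => (h k).isoOpensRange.inv ≫ (Q k).ι
  have hf : ∀ k, f k ≫ φ = (W k).ι := fun k => by
    rw [Category.assoc]
    exact (h k).isoOpensRange_inv_comp
  have hrange : ∀ k, (f k).opensRange = Q k := by
    intro k
    ext u
    constructor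
    · rintro ⟨v, rfl⟩
      exact ((h k).isoOpensRange.inv v).2
    · intro hu
      refine ⟨(h k).isoOpensRange.hom ⟨u, hu⟩, ?_⟩
      show ((h k).isoOpensRange.hom ≫ (h k).isoOpensRange.inv ≫ (Q k).ι) ⟨u, hu⟩ = u
      rw [Iso.hom_inv_id_assoc]
      rfl
  have hcov' : ⨆ k, (f k).opensRange = ⊤ := by
    rw [← hcov]
    exact iSup_congr hrange
  have hdisj' : Pairwise (Function.onFun Disjoint (fun k => (f k).opensRange)) := by
    intro k l hkl
    rw [Function.onFun, hrange, hrange, disjoint_iff]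
    ext u
    simp only [Opens.coe_inf, Set.mem_inter_iff, SetLike.mem_coe, Opens.coe_bot,
      Set.mem_empty_iff_false, iff_false, not_and]
    intro hk hl
    exact hkl (hdisj k l u hk hl)
  obtain ⟨hc⟩ := nonempty_isColimit_cofanMk_of f hcov' hdisj'
  let e : (∐ fun k => (W k : Scheme.{u})) ≅ V :=
    (coproductIsCoproduct (fun k => (W k : Scheme.{u}))).coconePointUniqueUpToIso hc
  refine ⟨W, e, fun k => ?_⟩
  have he : Sigma.ι (fun k => (W k : Scheme.{u})) k ≫ e.hom = f k :=
    (coproductIsCoproduct (fun k => (W k : Scheme.{u}))).comp_coconePointUniqueUpToIso_hom hc ⟨k⟩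
  rw [← Category.assoc, he, hf]

/-- an affine étale scheme over a closed subscheme of an affine integral scheme with strictly
henselian local rings is a finite disjoint union of opens -/
theorem exists_finite_iso_sigma_opens {V Z X : Scheme.{u}} [IsAffine X] [IsIntegral X]
    (hS : ∀ x : X, EtCoh.IsStrictlyHenselianLocalRing (X.presheaf.stalk x))
    (i : Z ⟶ X) [IsClosedImmersion i] (φ : V ⟶ Z) [Etale φ] [IsAffine V] :
    ∃ (ι : Type u) (_ : Finite ι) (W : ι → Z.Opens) (e : (∐ fun k => (W k : Scheme.{u})) ≅ V),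
      ∀ k, Sigma.ι (fun k => (W k : Scheme.{u})) k ≫ e.hom ≫ φ = (W k).ι := by
  obtain ⟨U, g, ψ, hU, hg, hpb⟩ := exists_etale_isPullback i φ
  haveI : IsSeparated g := inferInstance
  let Q : U → V.Opens := fun k => ψ ⁻¹ᵁ (secOpen g k)
  have hQ : ∀ k, IsOpenImmersion ((Q k).ι ≫ φ) := by
    intro k
    have h1 : IsPullback (Q k).ι (ψ ∣_ (secOpen g k)) ψ (secOpen g k).ι :=
      (isPullback_morphismRestrict ψ (secOpen g k)).flip
    have h2 : IsPullback ((Q k).ι ≫ φ) (ψ ∣_ (secOpen g k)) i ((secOpen g k).ι ≫ g) :=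
      h1.paste_horiz hpb.flip
    haveI := isOpenImmersion_secOpen_ι_comp g k
    exact MorphismProperty.of_isPullback (P := @IsOpenImmersion) h2.flip inferInstance
  have hdisj : ∀ k l (v : V), v ∈ Q k → v ∈ Q l → k = l :=
    fun k l v hk hl => eq_of_mem_secOpen g hk hl
  have hcovU : ∀ v : V, ∃ k, v ∈ Q k := fun v => exists_mem_secOpen g hS (ψ v)
  obtain ⟨t, ht⟩ := isCompact_univ.elim_finite_subcover (fun k => ((Q k : V.Opens) : Set V))
    (fun k => (Q k).isOpen) (fun v _ => Set.mem_iUnion.2 (hcovU v))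
  let Q' : {k // k ∈ t} → V.Opens := fun k => Q k.1
  have hcov' : ⨆ k, Q' k = ⊤ := by
    rw [eq_top_iff]
    intro v _
    obtain ⟨k, hk⟩ := Set.mem_iUnion.1 (ht (Set.mem_univ v))
    obtain ⟨hkt, hv⟩ := Set.mem_iUnion.1 hk
    rw [Opens.mem_iSup]
    exact ⟨⟨k, hkt⟩, hv⟩
  obtain ⟨W, e, he⟩ := exists_iso_sigma_of_opens φ Q' (fun k => hQ k.1) hcov'
    (fun k l v hk hl => Subtype.ext (hdisj k.1 l.1 v hk hl))
  exact ⟨{k // k ∈ t}, inferInstance, W, e, he⟩

end Groth.Agent.R2.H3.NormSep
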