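import Mathlib
import Groth.Agent.R2.H3NormSepB

/-!
# Sections of finite étale covers of closed subschemes of normal schemes with separably closed function field (helper3)

* `exists_pairwiseDisjoint_refinement`: a finite family of clopen sets has a pairwise disjoint
  refinement by opens with the same union.
* `exists_finite_opens_cover`: primitive form of `exists_finite_iso_sigma_opens`.
* `exists_section_of_finite`: a surjective finite étale morphism to a closed subscheme of an affine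
  integral scheme with strictly henselian local rings has a section.
-/

set_option autoImplicit false
set_option linter.style.haveILetI false
universe u
open CategoryTheory Limits TensorProduct AlgebraicGeometry TopologicalSpace

namespace Groth.Agent.R2.H3.NormSep

/-- a finite family of clopen sets has a pairwise disjoint refinement by opens with the same union -/
theorem exists_pairwiseDisjoint_refinement {X : Type*} [TopologicalSpace X] {ι : Type*} [Finite ι]
    (W : ι → Opens X) (hcl : ∀ k, IsClosed (W k : Set X)) :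
    ∃ 𝒰 : Set (Opens X), (∀ E ∈ 𝒰, ∃ k, E ≤ W k) ∧ 𝒰.PairwiseDisjoint id ∧
      sSup 𝒰 = ⨆ k, W k := by
  classical
  cases nonempty_fintype ι
  have claim : ∀ t : Finset ι, ∃ 𝒰 : Set (Opens X), (∀ E ∈ 𝒰, ∃ k, E ≤ W k) ∧
      𝒰.PairwiseDisjoint id ∧ ((sSup 𝒰 : Opens X) : Set X) = ⋃ k ∈ t, (W k : Set X) := by
    intro t
    induction t using Finset.induction_on with
    | empty => exact ⟨∅, fun E hE => (Set.notMem_empty E hE).elim, Set.pairwiseDisjoint_empty,
        by simp⟩
    | insert a t hat ih =>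
      obtain ⟨𝒰, h𝒰, hdis, hsup⟩ := ih
      have hC : IsClosed (⋃ k ∈ t, (W k : Set X)) :=
        t.finite_toSet.isClosed_biUnion (fun k _ => hcl k)
      let E : Opens X := ⟨(W a : Set X) \ ⋃ k ∈ t, (W k : Set X), (W a).isOpen.sdiff hC⟩
      refine ⟨insert E 𝒰, ?_, hdis.insert ?_, ?_⟩
      · intro E' hE'
        rcases Set.mem_insert_iff.1 hE' with rfl | hE'
        · exact ⟨a, fun y hy => hy.1⟩
        · exact h𝒰 E' hE'
      · intro j hj _
        show Disjoint E j
        rw [disjoint_iff]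
        ext y
        simp only [Opens.coe_inf, Set.mem_inter_iff, SetLike.mem_coe, Opens.coe_bot,
          Set.mem_empty_iff_false, iff_false, not_and]
        intro hyE hyj
        have : y ∈ ((sSup 𝒰 : Opens X) : Set X) := (le_sSup hj : j ≤ sSup 𝒰) hyj
        rw [hsup] at this
        exact hyE.2 this
      · rw [sSup_insert, Opens.coe_sup, hsup, Finset.set_biUnion_insert]
        exact Set.sdiff_union_self
  obtain ⟨𝒰, h𝒰, hdis, hsup⟩ := claim Finset.univ
  refine ⟨𝒰, h𝒰, hdis, ?_⟩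
  ext y
  rw [SetLike.mem_coe, SetLike.mem_coe, ← SetLike.mem_coe, hsup]
  simp [Opens.mem_iSup]

/-- primitive form of `exists_finite_iso_sigma_opens` -/
theorem exists_finite_opens_cover {V Z X : Scheme.{u}} [IsAffine X] [IsIntegral X]
    (hS : ∀ x : X, EtCoh.IsStrictlyHenselianLocalRing (X.presheaf.stalk x))
    (i : Z ⟶ X) [IsClosedImmersion i] (φ : V ⟶ Z) [Etale φ] [IsAffine V] :
    ∃ (ι : Type u) (_ : Finite ι) (Q : ι → V.Opens), (∀ k, IsOpenImmersion ((Q k).ι ≫ φ)) ∧
      (⨆ k, Q k = ⊤) ∧ (∀ k l (v : V), v ∈ Q k → v ∈ Q l → k = l) := by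
  obtain ⟨U, g, ψ, hU, hg, hpb⟩ := exists_etale_isPullback i φ
  haveI : IsSeparated g := inferInstance
  let Q : U → V.Opens := fun k => ψ ⁻¹ᵁ (secOpen g k)
  have hQ : ∀ k, IsOpenImmersion ((Q k).ι ≫ φ) := by
    intro k
    have h1 : IsPullback (Q k).ι (ψ ∣_ (secOpen g k)) ψ (secOpen g k).ι :=
      (isPullback_morphismRestrict ψ (secOpen g k)).flip
    have h2 : IsPullback ((Q k).ι ≫ φ) (ψ ∣_ (secOpen g k)) i ((secOpen g k).ι ≫ g) :=
      h1.paste_horiz hpb.flip
    haveI := isOpenImmersion_secOpen_ι_comp g k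
    exact MorphismProperty.of_isPullback (P := @IsOpenImmersion) h2.flip inferInstance
  have hdisj : ∀ k l (v : V), v ∈ Q k → v ∈ Q l → k = l :=
    fun k l v hk hl => eq_of_mem_secOpen g hk hl
  have hcovU : ∀ v : V, ∃ k, v ∈ Q k := fun v => exists_mem_secOpen g hS (ψ v)
  obtain ⟨t, ht⟩ := isCompact_univ.elim_finite_subcover (fun k => ((Q k : V.Opens) : Set V))
    (fun k => (Q k).isOpen) (fun v _ => Set.mem_iUnion.2 (hcovU v))
  let Q' : {k // k ∈ t} → V.Opens := fun k => Q k.1
  have hcov' : ⨆ k, Q' k = ⊤ := by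
    rw [eq_top_iff]
    intro v _
    obtain ⟨k, hk⟩ := Set.mem_iUnion.1 (ht (Set.mem_univ v))
    obtain ⟨hkt, hv⟩ := Set.mem_iUnion.1 hk
    rw [Opens.mem_iSup]
    exact ⟨⟨k, hkt⟩, hv⟩
  exact ⟨{k // k ∈ t}, inferInstance, Q', fun k => hQ k.1, hcov',
    fun k l v hk hl => Subtype.ext (hdisj k.1 l.1 v hk hl)⟩

/-- a surjective finite étale morphism to a closed subscheme of an affine integral scheme with
strictly henselian local rings has a section -/
theorem exists_section_of_finite {V Z X : Scheme.{u}} [IsAffine X] [IsIntegral X]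
    (hS : ∀ x : X, EtCoh.IsStrictlyHenselianLocalRing (X.presheaf.stalk x))
    (i : Z ⟶ X) [IsClosedImmersion i] (φ : V ⟶ Z) [Etale φ] [IsFinite φ] [Surjective φ] :
    ∃ s : Z ⟶ V, s ≫ φ = 𝟙 Z := by
  haveI : IsAffine Z := (IsClosedImmersion.isAffine_surjective_of_isAffine i).1
  haveI : IsAffine V := isAffine_of_isAffineHom φ
  obtain ⟨ι, hι, Q, hQ, hcov, hdisj⟩ := exists_finite_opens_cover hS i φ
  -- the pieces are closed
  have hQcl : ∀ k, IsClosed ((Q k : V.Opens) : Set V) := by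
    intro k
    have : ((Q k : V.Opens) : Set V) = (⋃ l ∈ {l | l ≠ k}, ((Q l : V.Opens) : Set V))ᶜ := by
      ext v
      simp only [SetLike.mem_coe, Set.mem_compl_iff, Set.mem_iUnion, not_exists]
      constructor
      · intro hv l hl hvl
        exact hl (hdisj l k v hvl hv)
      · intro hv
        have hv' : v ∈ (⨆ k, Q k : V.Opens) := by rw [hcov]; trivial
        obtain ⟨l, hl⟩ := Opens.mem_iSup.1 hv'
        by_cases hlk : l = k
        · exact hlk ▸ hl
        · exact (hv l hlk hl).elim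
    rw [this, isClosed_compl_iff]
    exact isOpen_biUnion (fun l _ => (Q l).isOpen)
  let h : ∀ k, (Q k).toScheme ⟶ Z := fun k => (Q k).ι ≫ φ
  haveI : ∀ k, IsOpenImmersion (h k) := hQ
  let W : ι → Z.Opens := fun k => (h k).opensRange
  have hWset : ∀ k, ((W k : Z.Opens) : Set Z) = φ '' ((Q k : V.Opens) : Set V) := by
    intro k
    show Set.range (h k) = _
    ext z
    constructor
    · rintro ⟨v, rfl⟩
      exact ⟨v.1, v.2, rfl⟩
    · rintro ⟨v, hv, rfl⟩
      exact ⟨⟨v, hv⟩, rfl⟩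
  have hWcl : ∀ k, IsClosed ((W k : Z.Opens) : Set Z) := by
    intro k
    rw [hWset]
    exact φ.isClosedMap _ (hQcl k)
  have hWcov : ⨆ k, W k = ⊤ := by
    rw [eq_top_iff]
    intro z _
    obtain ⟨v, rfl⟩ := φ.surjective z
    have hv' : v ∈ (⨆ k, Q k : V.Opens) := by rw [hcov]; trivial
    obtain ⟨l, hl⟩ := Opens.mem_iSup.1 hv'
    rw [Opens.mem_iSup]
    refine ⟨l, ?_⟩
    show φ v ∈ ((W l : Z.Opens) : Set Z)
    rw [hWset]
    exact ⟨v, hl, rfl⟩
  let s : ∀ k, (W k).toScheme ⟶ V := fun k => (h k).isoOpensRange.inv ≫ (Q k).ι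
  have hs : ∀ k, s k ≫ φ = (W k).ι := fun k => by
    rw [Category.assoc]
    exact (h k).isoOpensRange_inv_comp
  obtain ⟨𝒰, h𝒰, hdis, hsup⟩ := exists_pairwiseDisjoint_refinement W hWcl
  choose κ hκ using fun E : 𝒰 => h𝒰 E.1 E.2
  let T : 𝒰 → Z.Opens := fun E => E.1
  have hcov𝒰 : ⨆ E : 𝒰, ((T E).ι).opensRange = ⊤ := by
    rw [← hWcov, ← hsup, sSup_eq_iSup']
    exact iSup_congr (fun E => Scheme.Opens.opensRange_ι _)
  have hdisj𝒰 : Pairwise (Function.onFun Disjoint (fun E : 𝒰 => ((T E).ι).opensRange)) := by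
    intro E E' hEE'
    rw [Function.onFun, Scheme.Opens.opensRange_ι, Scheme.Opens.opensRange_ι]
    exact hdis E.2 E'.2 (fun h => hEE' (Subtype.ext h))
  obtain ⟨hc⟩ := nonempty_isColimit_cofanMk_of (fun E : 𝒰 => (T E).ι) hcov𝒰 hdisj𝒰
  refine ⟨Cofan.IsColimit.desc hc (fun E => Z.homOfLE (hκ E) ≫ s (κ E)), ?_⟩
  refine Cofan.IsColimit.hom_ext hc _ _ (fun E => ?_)
  rw [Cofan.IsColimit.fac_assoc, Category.assoc, hs, Scheme.homOfLE_ι]
  exact (Category.comp_id _).symm

end Groth.Agent.R2.H3.NormSep
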