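import Mathlib
import Groth.Agent.S0499
import Groth.Agent.Lib.Helper14WEField

/-!
# Preparations for Olivier's theorem

* integral domains over henselian local rings are local;
* a nontrivial weakly étale algebra over an algebraically closed field with only trivial
  idempotents is the field itself.
-/

set_option autoImplicit false
universe u
open TensorProduct Polynomial

namespace Groth.Agent.R2.H3.OlivierA

section Local

/-- A domain isomorphic to a finite product of local rings is local. -/
theorem isLocalRing_of_ringEquiv_pi {S : Type*} [CommRing S] [IsDomain S] {ι : Type*} [Fintype ι]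
    (A : ι → Type*) [∀ i, CommRing (A i)] [∀ i, IsLocalRing (A i)] (e : S ≃+* (∀ i, A i)) :
    IsLocalRing S := by
  classical
  have hne : Nonempty ι := by
    by_contra h
    rw [not_nonempty_iff] at h
    have : Subsingleton S := e.injective.subsingleton
    exact not_subsingleton S this
  have hsub : Subsingleton ι := by
    constructor
    intro i j
    by_contra hij
    have h0 : e.symm (Pi.single i 1) * e.symm (Pi.single j 1) = 0 := by
      rw [← map_mul]
      have : (Pi.single i 1 * Pi.single j 1 : ∀ i, A i) = 0 := by
        funext l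
        by_cases hl : l = i
        · subst hl
          simp [Pi.single_eq_of_ne hij]
        · simp [Pi.single_eq_of_ne hl]
      rw [this, map_zero]
    rcases mul_eq_zero.mp h0 with h | h
    · have := (EmbeddingLike.map_eq_zero_iff (f := e.symm)).mp h
      have := congrFun this i
      simp at this
    · have := (EmbeddingLike.map_eq_zero_iff (f := e.symm)).mp h
      have := congrFun this j
      simp at this
  obtain ⟨i₀⟩ := hne
  haveI : Unique ι := uniqueOfSubsingleton i₀
  exact RingEquiv.isLocalRing (e.trans (RingEquiv.piUnique A)).symm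

/-- An integral algebra over a henselian local ring which is a domain is a local ring. -/
theorem isLocalRing_of_isIntegral_of_isDomain (A : Type u) [CommRing A] [HenselianLocalRing A]
    (A' : Type u) [CommRing A'] [Algebra A A'] [Algebra.IsIntegral A A'] [IsDomain A'] :
    IsLocalRing A' := by
  apply IsLocalRing.of_unique_max_ideal
  obtain ⟨m, hm⟩ := Ideal.exists_maximal A'
  refine ⟨m, hm, ?_⟩
  intro m' hm'
  by_contra hne
  -- pick a ∈ m' \ m
  have hnle : ¬ m' ≤ m := fun hle => hne (hm'.eq_of_le hm.ne_top hle)
  obtain ⟨a, ham', ham⟩ := SetLike.not_le_iff_exists.mp hnle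
  let S : Subalgebra A A' := Algebra.adjoin A {a}
  haveI : Module.Finite A S :=
    Module.Finite.iff_fg.mpr (Algebra.IsIntegral.isIntegral a).fg_adjoin_singleton
  obtain ⟨ι, hι, F, hF, hloc, ⟨e⟩⟩ := Groth.Agent.S0499.result A S
  haveI := hloc
  haveI : IsLocalRing S := isLocalRing_of_ringEquiv_pi F e
  haveI : Algebra.IsIntegral S A' := Algebra.IsIntegral.tower_top (R := A)
  have h1 : (m.comap (algebraMap S A')).IsMaximal :=
    Ideal.isMaximal_comap_of_isIntegral_of_isMaximal m
  have h2 : (m'.comap (algebraMap S A')).IsMaximal :=
    Ideal.isMaximal_comap_of_isIntegral_of_isMaximal m'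
  have h3 : m.comap (algebraMap S A') = m'.comap (algebraMap S A') := by
    rw [IsLocalRing.eq_maximalIdeal h1, IsLocalRing.eq_maximalIdeal h2]
  have ha : (⟨a, Algebra.subset_adjoin rfl⟩ : S) ∈ m'.comap (algebraMap S A') := ham'
  rw [← h3] at ha
  exact ham ha

/-- An integral algebra map between local rings is a local homomorphism. -/
theorem isLocalHom_of_isIntegral (A A' : Type*) [CommRing A] [IsLocalRing A] [CommRing A']
    [IsLocalRing A'] [Algebra A A'] [Algebra.IsIntegral A A'] : IsLocalHom (algebraMap A A') := by
  constructor
  intro a ha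
  by_contra hna
  have h1 : ((IsLocalRing.maximalIdeal A').comap (algebraMap A A')).IsMaximal :=
    Ideal.isMaximal_comap_of_isIntegral_of_isMaximal _
  have h2 := IsLocalRing.eq_maximalIdeal h1
  have h3 : a ∈ (IsLocalRing.maximalIdeal A').comap (algebraMap A A') := by
    rw [h2]; exact (IsLocalRing.mem_maximalIdeal a).mpr hna
  exact (IsLocalRing.mem_maximalIdeal _).mp h3 ha

/-- Residue fields of an integral local extension form an algebraic extension. -/
theorem isAlgebraic_residueField (A A' : Type*) [CommRing A] [IsLocalRing A] [CommRing A']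
    [IsLocalRing A'] [Algebra A A'] [Algebra.IsIntegral A A'] [IsLocalHom (algebraMap A A')] :
    Algebra.IsAlgebraic (IsLocalRing.ResidueField A) (IsLocalRing.ResidueField A') := by
  haveI : Algebra.IsIntegral (IsLocalRing.ResidueField A) (IsLocalRing.ResidueField A') := by
    constructor
    intro y
    obtain ⟨a', rfl⟩ := IsLocalRing.residue_surjective y
    have h1 : IsIntegral A (IsLocalRing.residue A' a') :=
      (Algebra.IsIntegral.isIntegral a').map (IsScalarTower.toAlgHom A A' (IsLocalRing.ResidueField A'))
    exact h1.tower_top
  infer_instance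

end Local

section Field

variable {R : Type*} [CommRing R]

/-- In a ring with only trivial idempotents, a product of two coprime elements vanishes only if
one of them does. -/
theorem eq_zero_or_eq_zero_of_isCoprime (hid : ∀ e : R, IsIdempotentElem e → e = 0 ∨ e = 1)
    {a b : R} (hab : a * b = 0) (hc : IsCoprime a b) : a = 0 ∨ b = 0 := by
  obtain ⟨u, v, huv⟩ := hc
  have hidem : IsIdempotentElem (u * a) := by
    have : u * a * (u * a) = u * a * (u * a + v * b) - u * v * (a * b) := by ring
    rw [IsIdempotentElem, this, huv, hab]; ring
  rcases hid _ hidem with h | h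
  · left
    have : a = a * (u * a + v * b) := by rw [huv, mul_one]
    rw [this]
    have : a * (u * a + v * b) = a * (u * a) + v * (a * b) := by ring
    rw [this, h, hab]; ring
  · right
    have h' : v * b = 0 := by
      have := huv; rw [h] at this
      linear_combination this
    have : b = b * (u * a + v * b) := by rw [huv, mul_one]
    rw [this]
    have : b * (u * a + v * b) = u * (a * b) + b * (v * b) := by ring
    rw [this, h', hab]; ring

variable {k : Type*} [Field k] [Algebra k R] [Nontrivial R]

/-- If a product of `x - λ` over finitely many distinct scalars vanishes in a nontrivial algebra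
with only trivial idempotents, then `x` is one of the scalars. -/
theorem exists_eq_algebraMap_of_prod_eq_zero (hid : ∀ e : R, IsIdempotentElem e → e = 0 ∨ e = 1)
    (x : R) (S : Finset k) (h : ∏ c ∈ S, (x - algebraMap k R c) = 0) :
    ∃ c ∈ S, x = algebraMap k R c := by
  classical
  induction S using Finset.induction_on with
  | empty => simp at h
  | insert c S hc ih =>
    rw [Finset.prod_insert hc] at h
    have hcop : IsCoprime (x - algebraMap k R c) (∏ d ∈ S, (x - algebraMap k R d)) := by
      apply IsCoprime.prod_right
      intro d hd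
      have hne : d - c ≠ 0 := sub_ne_zero.mpr (fun hdc => hc (hdc ▸ hd))
      refine ⟨algebraMap k R (d - c)⁻¹, - algebraMap k R (d - c)⁻¹, ?_⟩
      have : algebraMap k R (d - c)⁻¹ * (x - algebraMap k R c) +
          -algebraMap k R (d - c)⁻¹ * (x - algebraMap k R d) =
          algebraMap k R (d - c)⁻¹ * (algebraMap k R d - algebraMap k R c) := by ring
      rw [this, ← map_sub, ← map_mul, inv_mul_cancel₀ hne, map_one]
    rcases eq_zero_or_eq_zero_of_isCoprime hid h hcop with h1 | h1
    · exact ⟨c, Finset.mem_insert_self c S, sub_eq_zero.mp h1⟩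
    · obtain ⟨d, hd, hxd⟩ := ih h1
      exact ⟨d, Finset.mem_insert_of_mem hd, hxd⟩

end Field

/-- A nontrivial weakly étale algebra over an algebraically closed field with only trivial
idempotents is the field itself. -/
theorem bijective_algebraMap_of_trivial_idempotents (Ω R : Type u) [Field Ω] [IsAlgClosed Ω]
    [CommRing R] [Algebra Ω R] [Nontrivial R] [Algebra.WeaklyEtale Ω R]
    (hid : ∀ e : R, IsIdempotentElem e → e = 0 ∨ e = 1) :
    Function.Bijective (algebraMap Ω R) := by
  classical
  refine ⟨(algebraMap Ω R).injective, ?_⟩
  intro x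
  obtain ⟨f, hf, hfx⟩ :=
    (Groth.Agent.Lib.Helper14.WEField.weaklyEtale_iff_isSepAlg Ω R).mp inferInstance x
  have hsplit := IsAlgClosed.splits f
  have hf0 : f ≠ 0 := hf.ne_zero
  have hprod := hsplit.eq_prod_roots
  have hnodup : f.roots.Nodup := nodup_roots hf
  let S : Finset Ω := ⟨f.roots, hnodup⟩
  have h1 : aeval x f = algebraMap Ω R f.leadingCoeff * ∏ c ∈ S, (x - algebraMap Ω R c) := by
    conv_lhs => rw [hprod]
    rw [map_mul, aeval_C, map_multiset_prod, Multiset.map_map]
    congr 1
    show _ = (Multiset.map _ f.roots).prod
    congr 1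
    apply Multiset.map_congr rfl
    intro c _
    simp
  rw [hfx] at h1
  have hlc : IsUnit (algebraMap Ω R f.leadingCoeff) :=
    (isUnit_iff_ne_zero.mpr (leadingCoeff_ne_zero.mpr hf0)).map _
  have h2 : ∏ c ∈ S, (x - algebraMap Ω R c) = 0 := by
    apply hlc.mul_left_cancel
    rw [← h1, mul_zero]
  obtain ⟨c, _, hc⟩ := exists_eq_algebraMap_of_prod_eq_zero hid x S h2
  exact ⟨c, hc.symm⟩

end Groth.Agent.R2.H3.OlivierA
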