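import Mathlib
import Groth.Agent.S13198
import Groth.Agent.R2.H3OlivierA
import Groth.Agent.R2.H3IntClosedB

/-!
# Olivier's theorem: the geometric fibres are trivial
-/

set_option autoImplicit false
universe u
open TensorProduct Polynomial

namespace Groth.Agent.R2.H3.OlivierB

open Groth.Agent.R2.H3.OlivierA

/-- idempotents of a local ring are trivial -/
theorem eq_zero_or_eq_one_of_isIdempotentElem {R : Type*} [CommRing R] [IsLocalRing R] (e : R)
    (he : IsIdempotentElem e) : e = 0 ∨ e = 1 := by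
  have h0 : e * (1 - e) = 0 := by
    rw [mul_sub, mul_one, he.eq, sub_self]
  rcases IsLocalRing.isUnit_or_isUnit_one_sub_self e with h | h
  · right
    have : 1 - e = 0 := h.mul_left_cancel (by rw [h0, mul_zero])
    exact (sub_eq_zero.mp this).symm
  · left
    exact h.mul_right_cancel (by rw [h0, zero_mul])

/-- **Geometric fibres in Olivier's theorem.** Let `A` be a strictly henselian local ring, `B` a
local weakly étale `A`-algebra with local structure map. Let `A'` be an integral `A`-algebra which is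
a normal domain whose fraction field `Ω` is algebraically closed. Then `Ω ⊗[A] B = Ω`. -/
theorem bijective_algebraMap_tensor
    (A : Type u) [CommRing A] [HenselianLocalRing A] [IsSepClosed (IsLocalRing.ResidueField A)]
    (B : Type u) [CommRing B] [IsLocalRing B] [Algebra A B] [IsLocalHom (algebraMap A B)]
    [Algebra.WeaklyEtale A B]
    (A' : Type u) [CommRing A'] [IsDomain A'] [IsIntegrallyClosed A'] [Algebra A A']
    [Algebra.IsIntegral A A']
    (Ω : Type u) [Field Ω] [IsAlgClosed Ω] [Algebra A' Ω] [IsFractionRing A' Ω] [Algebra A Ω]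
    [IsScalarTower A A' Ω] :
    Function.Bijective (algebraMap Ω (Ω ⊗[A] B)) := by
  haveI : IsLocalRing A' := isLocalRing_of_isIntegral_of_isDomain A A'
  haveI : IsLocalHom (algebraMap A A') := isLocalHom_of_isIntegral A A'
  haveI := isAlgebraic_residueField A A'
  obtain ⟨hloc, -, -⟩ := Groth.Agent.S13198.result A A' B
  haveI := hloc
  haveI : Module.FaithfullyFlat A B := Module.FaithfullyFlat.of_flat_of_isLocalHom
  haveI : Nontrivial (Ω ⊗[A] B) := inferInstance
  let φ : Ω ⊗[A'] (A' ⊗[A] B) ≃ₐ[A'] Ω ⊗[A] B :=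
    Algebra.TensorProduct.cancelBaseChange A A' A' Ω B
  have hinj : Function.Injective
      (Algebra.TensorProduct.includeRight : (A' ⊗[A] B) →ₐ[A'] Ω ⊗[A'] (A' ⊗[A] B)) :=
    Algebra.TensorProduct.includeRight_injective (IsFractionRing.injective A' Ω)
  have hid : ∀ e : Ω ⊗[A] B, IsIdempotentElem e → e = 0 ∨ e = 1 := by
    intro e he
    have he' : IsIdempotentElem (φ.symm e) := he.map φ.symm
    have hint : (Algebra.TensorProduct.includeRight :
        (A' ⊗[A] B) →ₐ[A'] Ω ⊗[A'] (A' ⊗[A] B)).toRingHom.IsIntegralElem (φ.symm e) := by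
      refine ⟨X ^ 2 - X, monic_X_pow_sub (by simp), ?_⟩
      rw [eval₂_sub, eval₂_X_pow, eval₂_X, pow_two, he'.eq, sub_self]
    obtain ⟨b', hb'⟩ := Groth.Agent.R2.H3.IntClosedB.exists_of_isIntegralElem A' Ω (A' ⊗[A] B)
      (φ.symm e) hint
    have hb'id : IsIdempotentElem b' := by
      apply hinj
      show (1 : Ω) ⊗ₜ[A'] (b' * b') = (1 : Ω) ⊗ₜ[A'] b'
      have : (1 : Ω) ⊗ₜ[A'] (b' * b') = ((1 : Ω) ⊗ₜ[A'] b') * ((1 : Ω) ⊗ₜ[A'] b') := by
        rw [Algebra.TensorProduct.tmul_mul_tmul, mul_one]
      rw [this, hb', he'.eq]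
    rcases eq_zero_or_eq_one_of_isIdempotentElem b' hb'id with h | h
    · left
      rw [h, TensorProduct.tmul_zero] at hb'
      exact (EmbeddingLike.map_eq_zero_iff (f := φ.symm)).mp hb'.symm
    · right
      rw [h] at hb'
      have : φ.symm e = 1 := hb'.symm
      exact (EmbeddingLike.map_eq_one_iff (f := φ.symm)).mp this
  exact bijective_algebraMap_of_trivial_idempotents Ω (Ω ⊗[A] B) hid

end Groth.Agent.R2.H3.OlivierB
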