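import Mathlib
import Groth.Agent.R2.H3OlivierB
import Groth.Agent.R2.H3WLocSquareA

set_option autoImplicit false
universe u
open TensorProduct Polynomial

namespace Groth.Agent.R2.H3.OlivierC

open Groth.Agent.R2.H3.OlivierA Groth.Agent.R2.H3.OlivierB

section Fibre

variable (A : Type u) [CommRing A] (p : Ideal A) [p.IsPrime]

/-- an algebraic closure of the residue field at `p` -/
abbrev Om : Type u := AlgebraicClosure (FractionRing (A ⧸ p))

/-- The geometric fibre of `A → B` at `p` is trivial. -/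
theorem bijective_algebraMap_Om [HenselianLocalRing A]
    [IsSepClosed (IsLocalRing.ResidueField A)]
    (B : Type u) [CommRing B] [IsLocalRing B] [Algebra A B] [IsLocalHom (algebraMap A B)]
    [Algebra.WeaklyEtale A B] :
    Function.Bijective (algebraMap (Om A p) (Om A p ⊗[A] B)) := by
  haveI : Algebra.IsAlgebraic (A ⧸ p) (Om A p) :=
    IsFractionRing.comap_isAlgebraic_iff.mpr
      (inferInstance : Algebra.IsAlgebraic (FractionRing (A ⧸ p)) (Om A p))
  have hinj : ∀ x : A ⧸ p, algebraMap (A ⧸ p) (Om A p) x = 0 → x = 0 := by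
    intro x hx
    rw [IsScalarTower.algebraMap_apply (A ⧸ p) (FractionRing (A ⧸ p)) (Om A p)] at hx
    have h1 := (map_eq_zero (algebraMap (FractionRing (A ⧸ p)) (Om A p))).mp hx
    exact (IsFractionRing.to_map_eq_zero_iff).mp h1
  haveI : IsFractionRing (integralClosure (A ⧸ p) (Om A p)) (Om A p) :=
    integralClosure.isFractionRing_of_algebraic hinj
  haveI : IsIntegrallyClosed (integralClosure (A ⧸ p) (Om A p)) :=
    (isIntegrallyClosed_iff_isIntegrallyClosedIn (Om A p)).mpr inferInstance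
  haveI : Algebra.IsIntegral A (A ⧸ p) :=
    Algebra.isIntegral_of_surjective Ideal.Quotient.mk_surjective
  haveI : Algebra.IsIntegral A (integralClosure (A ⧸ p) (Om A p)) :=
    Algebra.IsIntegral.trans (A ⧸ p)
  exact bijective_algebraMap_tensor A B (integralClosure (A ⧸ p) (Om A p)) (Om A p)

end Fibre

section Final

variable (A : Type u) [CommRing A] [HenselianLocalRing A]
  [IsSepClosed (IsLocalRing.ResidueField A)]
  (B : Type u) [CommRing B] [IsLocalRing B] [Algebra A B] [IsLocalHom (algebraMap A B)]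
  [Algebra.WeaklyEtale A B]

omit [HenselianLocalRing A] [IsSepClosed (IsLocalRing.ResidueField A)] [IsLocalRing B]
  [IsLocalHom (algebraMap A B)] in
/-- purity of the kernel of the multiplication map -/
theorem exists_mul_eq_of_lmul'_eq_zero (z : B ⊗[A] B)
    (hz : Algebra.TensorProduct.lmul' A (S := B) z = 0) :
    ∃ e : B ⊗[A] B, Algebra.TensorProduct.lmul' A (S := B) e = 0 ∧ e * z = z := by
  have hμ := Algebra.WeaklyEtale.flat_lmul' A B
  letI : Algebra (B ⊗[A] B) B := (Algebra.TensorProduct.lmul' A (S := B)).toRingHom.toAlgebra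
  have hflat : Module.Flat (B ⊗[A] B) B := hμ
  have hsurj : Function.Surjective (Algebra.linearMap (B ⊗[A] B) B) := by
    intro s
    exact ⟨s ⊗ₜ 1, by
      change Algebra.TensorProduct.lmul' A (S := B) (s ⊗ₜ 1) = s
      simp⟩
  let I : Ideal (B ⊗[A] B) := RingHom.ker (Algebra.TensorProduct.lmul' A (S := B))
  have hker : I = LinearMap.ker (Algebra.linearMap (B ⊗[A] B) B) := by
    ext t
    rfl
  haveI : Module.Flat (B ⊗[A] B) ((B ⊗[A] B) ⧸ I) :=
    Module.Flat.of_linearEquiv
      ((Submodule.quotEquivOfEq _ _ hker).trans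
        (LinearMap.quotKerEquivOfSurjective (Algebra.linearMap (B ⊗[A] B) B) hsurj))
  obtain ⟨e, he, het⟩ :=
    Groth.Agent.Lib.Helper14.WEField.exists_mul_eq_of_flat_quotient I (t := z) hz
  exact ⟨e, he, het⟩

omit [HenselianLocalRing A] [IsSepClosed (IsLocalRing.ResidueField A)] [IsLocalRing B]
  [IsLocalHom (algebraMap A B)] [Algebra.WeaklyEtale A B] in
/-- if the fibre `Ω ⊗ B` is `Ω` then so is `Ω ⊗ (B ⊗ B)` -/
theorem surjective_algebraMap_tensor_tensor (Ω : Type u) [Field Ω] [Algebra A Ω]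
    (h : Function.Surjective (algebraMap Ω (Ω ⊗[A] B))) :
    Function.Surjective (algebraMap Ω (Ω ⊗[A] (B ⊗[A] B))) := by
  let j₁ : Ω ⊗[A] B →ₐ[Ω] Ω ⊗[A] (B ⊗[A] B) :=
    Algebra.TensorProduct.map (AlgHom.id Ω Ω) (Algebra.TensorProduct.includeLeft)
  let j₂ : Ω ⊗[A] B →ₐ[Ω] Ω ⊗[A] (B ⊗[A] B) :=
    Algebra.TensorProduct.map (AlgHom.id Ω Ω) (Algebra.TensorProduct.includeRight)
  have hrange : ∀ x : Ω ⊗[A] (B ⊗[A] B), x ∈ (algebraMap Ω (Ω ⊗[A] (B ⊗[A] B))).range := by
    intro x
    induction x using TensorProduct.induction_on with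
    | zero => exact Subring.zero_mem _
    | add x y hx hy => exact Subring.add_mem _ hx hy
    | tmul ω c =>
      induction c using TensorProduct.induction_on with
      | zero => rw [TensorProduct.tmul_zero]; exact Subring.zero_mem _
      | add x y hx hy => rw [TensorProduct.tmul_add]; exact Subring.add_mem _ hx hy
      | tmul b b' =>
        obtain ⟨c, hc⟩ := h ((1 : Ω) ⊗ₜ[A] b)
        obtain ⟨c', hc'⟩ := h ((1 : Ω) ⊗ₜ[A] b')
        refine ⟨ω * c * c', ?_⟩
        have e1 : ω ⊗ₜ[A] (b ⊗ₜ[A] b') =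
            algebraMap Ω (Ω ⊗[A] (B ⊗[A] B)) ω * j₁ ((1 : Ω) ⊗ₜ[A] b) * j₂ ((1 : Ω) ⊗ₜ[A] b') := by
          simp [j₁, j₂, Algebra.TensorProduct.algebraMap_apply]
        rw [e1, ← hc, ← hc', AlgHom.commutes, AlgHom.commutes, map_mul, map_mul]
  intro x
  exact hrange x

/-- **Olivier's theorem.** -/
theorem bijective_algebraMap : Function.Bijective (algebraMap A B) := by
  haveI : Module.FaithfullyFlat A B := Module.FaithfullyFlat.of_flat_of_isLocalHom
  -- the multiplication map is injective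
  have hμinj : Function.Injective (Algebra.TensorProduct.lmul' A (S := B)) := by
    rw [injective_iff_map_eq_zero]
    intro z hz
    by_contra hz0
    obtain ⟨e, he, hez⟩ := exists_mul_eq_of_lmul'_eq_zero A B z hz
    let J : Ideal (B ⊗[A] B) := (Ideal.span {z}).annihilator
    have hJ : J ≠ ⊤ := by
      intro hJ
      have : (1 : B ⊗[A] B) ∈ J := by rw [hJ]; trivial
      rw [Submodule.mem_annihilator_span_singleton] at this
      exact hz0 (by simpa using this)
    obtain ⟨P, hPmax, hJP⟩ := Ideal.exists_le_maximal J hJ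
    have h1e : 1 - e ∈ P := by
      apply hJP
      rw [Submodule.mem_annihilator_span_singleton, smul_eq_mul, sub_mul, one_mul, hez, sub_self]
    have heP : e ∉ P := by
      intro heP
      apply hPmax.ne_top
      rw [Ideal.eq_top_iff_one]
      have := P.add_mem h1e heP
      simpa using this
    haveI : P.IsPrime := hPmax.isPrime
    let p : Ideal A := P.comap (algebraMap A (B ⊗[A] B))
    haveI : p.IsPrime := Ideal.comap_isPrime _ _
    have hbij := bijective_algebraMap_Om A p B
    have hsurj := surjective_algebraMap_tensor_tensor A B (Om A p) hbij.2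
    -- 1 ⊗ e = 0
    have he0 : (1 : Om A p) ⊗ₜ[A] e = 0 := by
      obtain ⟨ω₀, hω₀⟩ := hsurj ((1 : Om A p) ⊗ₜ[A] e)
      let ν : Om A p ⊗[A] (B ⊗[A] B) →ₐ[Om A p] Om A p ⊗[A] B :=
        Algebra.TensorProduct.map (AlgHom.id _ _) (Algebra.TensorProduct.lmul' A (S := B))
      have h1 := congrArg ν hω₀
      rw [AlgHom.commutes] at h1
      have h2 : ν ((1 : Om A p) ⊗ₜ[A] e) = 0 := by
        simp only [ν, Algebra.TensorProduct.map_tmul, he, TensorProduct.tmul_zero]
      rw [h2] at h1
      have h3 : ω₀ = 0 := hbij.1 (by rw [h1, map_zero])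
      rw [← hω₀, h3, map_zero]
    -- a prime of Ω ⊗ C over P
    have hker : PrimeSpectrum.comap (algebraMap A (Om A p)) ⟨⊥, Ideal.bot_prime⟩ =
        PrimeSpectrum.comap (algebraMap A (B ⊗[A] B)) ⟨P, inferInstance⟩ := by
      apply PrimeSpectrum.ext
      show Ideal.comap (algebraMap A (Om A p)) ⊥ = p
      ext a
      rw [Ideal.mem_comap, Ideal.mem_bot,
        IsScalarTower.algebraMap_apply A (A ⧸ p) (Om A p),
        IsScalarTower.algebraMap_apply (A ⧸ p) (FractionRing (A ⧸ p)) (Om A p),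
        map_eq_zero, IsFractionRing.to_map_eq_zero_iff, Ideal.Quotient.algebraMap_eq,
        Ideal.Quotient.eq_zero_iff_mem]
    obtain ⟨PP, -, hPP⟩ := Groth.Agent.R2.H3.WLocSquare.exists_prime_tensor
      (R := A) (T := Om A p) (S := B ⊗[A] B) ⟨⊥, Ideal.bot_prime⟩ ⟨P, inferInstance⟩ hker
    have : e ∈ (PrimeSpectrum.comap (Algebra.TensorProduct.includeRight :
        B ⊗[A] B →ₐ[A] Om A p ⊗[A] (B ⊗[A] B)).toRingHom PP).asIdeal := by
      show (Algebra.TensorProduct.includeRight :
        B ⊗[A] B →ₐ[A] Om A p ⊗[A] (B ⊗[A] B)) e ∈ PP.asIdeal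
      rw [Algebra.TensorProduct.includeRight_apply, he0]
      exact Ideal.zero_mem _
    rw [hPP] at this
    exact heP this
  refine ⟨FaithfulSMul.algebraMap_injective A B, ?_⟩
  -- surjectivity
  have hform : ∀ x : B ⊗[A] B, x = (Algebra.TensorProduct.lmul' A (S := B) x) ⊗ₜ[A] 1 := by
    intro x
    apply hμinj
    simp
  have hs : Function.Surjective ((Algebra.linearMap A B).lTensor B) := by
    intro x
    refine ⟨(Algebra.TensorProduct.lmul' A (S := B) x) ⊗ₜ[A] 1, ?_⟩
    rw [LinearMap.lTensor_tmul, Algebra.linearMap_apply, map_one]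
    exact (hform x).symm
  exact (Module.FaithfullyFlat.lTensor_surjective_iff_surjective A B _).mp hs

end Final

end Groth.Agent.R2.H3.OlivierC
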