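import Mathlib
import Groth.Prelude.Def_ProEtW
import Groth.Agent.R2.H3IdLoc
import Groth.Agent.Lib.Helper14WEField

/-!
# Preparations for `weakly étale ⇒ ind-étale after an ind-étale cover` (BS 2.3.4)

* `identifies_of_maximal`: a ring map identifies local rings as soon as it does so at all maximal
  ideals of the target.
* `algebraicResidueExtensions_of_weaklyEtale`.
-/

set_option autoImplicit false
universe u
open TensorProduct Polynomial

namespace Groth.Agent.R2.H3.WEIndEt

open Groth.Agent.R2.H3.IdLoc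

section Identifies

variable {A B : Type u} [CommRing A] [CommRing B] [Algebra A B]

/-- the elementary conditions pass to smaller primes -/
theorem surjAt_injAt_of_le (n q : Ideal B) [n.IsPrime] [q.IsPrime] (hqn : q ≤ n)
    (hS : SurjAt A n) (hI : InjAt A n) : SurjAt A q ∧ InjAt A q := by
  -- every element of `B` is a fraction at `n`
  have key : ∀ s : B, ∃ (a t : A) (u : B), algebraMap A B t ∉ n ∧ u ∉ n ∧
      u * (algebraMap A B t * s) = u * algebraMap A B a := by
    intro s
    obtain ⟨a, t, u, ht, hu, h⟩ := hS s 1 (fun h1 => ‹n.IsPrime›.ne_top ((Ideal.eq_top_iff_one n).mpr h1))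
    refine ⟨a, t, u, ht, hu, ?_⟩
    linear_combination h
  have hnq : ∀ {x : B}, x ∉ n → x ∉ q := fun hx hxq => hx (hqn hxq)
  constructor
  · intro b s hs
    obtain ⟨as, ts, us, hts, hus, hs'⟩ := key s
    obtain ⟨ab, tb, ub, htb, hub, hb'⟩ := key b
    have has : algebraMap A B as ∉ q := by
      intro hmem
      have h1 : us * (algebraMap A B ts * s) ∈ q := by rw [hs']; exact q.mul_mem_left _ hmem
      rcases ‹q.IsPrime›.mem_or_mem h1 with h | h
      · exact hnq hus h
      · rcases ‹q.IsPrime›.mem_or_mem h with h | h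
        · exact hnq hts h
        · exact hs h
    refine ⟨ab * ts, tb * as, us * ub, ?_, ?_, ?_⟩
    · rw [map_mul]
      exact fun h => (‹q.IsPrime›.mem_or_mem h).elim (hnq htb) has
    · exact fun h => (‹q.IsPrime›.mem_or_mem h).elim (hnq hus) (hnq hub)
    · rw [map_mul, map_mul]
      linear_combination (algebraMap A B as * us) * hb' - (algebraMap A B ab * ub) * hs'
  · rintro a ⟨s, hs, hsa⟩
    obtain ⟨as, ts, us, hts, hus, hs'⟩ := key s
    have has : algebraMap A B as ∉ q := by
      intro hmem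
      have h1 : us * (algebraMap A B ts * s) ∈ q := by rw [hs']; exact q.mul_mem_left _ hmem
      rcases ‹q.IsPrime›.mem_or_mem h1 with h | h
      · exact hnq hus h
      · rcases ‹q.IsPrime›.mem_or_mem h with h | h
        · exact hnq hts h
        · exact hs h
    have h0 : us * algebraMap A B (as * a) = 0 := by
      rw [map_mul]
      linear_combination (algebraMap A B a) * hs'.symm + (us * algebraMap A B ts) * hsa
    obtain ⟨t', ht', hta⟩ := hI (as * a) ⟨us, hus, h0⟩
    refine ⟨t' * as, ?_, ?_⟩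
    · rw [map_mul]
      exact fun h => (‹q.IsPrime›.mem_or_mem h).elim (hnq ht') has
    · rw [mul_assoc]; exact hta

/-- A ring map identifying local rings at all maximal ideals of the target identifies local
rings. -/
theorem identifies_of_maximal
    (h : ∀ (n : Ideal B) [n.IsMaximal], Function.Bijective
      (Localization.localRingHom (n.comap (algebraMap A B)) n (algebraMap A B) rfl)) :
    EtPBC.IdentifiesLocalRings A B := by
  intro q
  obtain ⟨n, hn, hqn⟩ := Ideal.exists_le_maximal q.asIdeal q.2.ne_top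
  haveI := hn
  have h1 := (bijective_localRingHom_iff (A := A) n).mp (h n)
  exact (bijective_localRingHom_iff (A := A) q.asIdeal).mpr
    (surjAt_injAt_of_le n q.asIdeal hqn h1.1 h1.2)

end Identifies

section Residue

open Groth.Agent.Lib.Helper14.WEField in
/-- weakly étale maps induce algebraic residue field extensions -/
theorem algebraicResidueExtensions_of_weaklyEtale (A B : Type u) [CommRing A] [CommRing B]
    [Algebra A B] [Algebra.WeaklyEtale A B] : ProEtW.AlgebraicResidueExtensions A B := by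
  intro q _
  set p : Ideal A := q.comap (algebraMap A B) with hp
  haveI : p.IsPrime := Ideal.comap_isPrime _ _
  have hinj : Function.Injective (algebraMap (A ⧸ p) (B ⧸ q)) :=
    Ideal.algebraMap_quotient_injective
  haveI : FaithfulSMul (A ⧸ p) (B ⧸ q) := (faithfulSMul_iff_algebraMap_injective _ _).mpr hinj
  let K₁ := FractionRing (A ⧸ p)
  let L₁ := FractionRing (B ⧸ q)
  haveI : FaithfulSMul (A ⧸ p) L₁ := by
    rw [faithfulSMul_iff_algebraMap_injective, IsScalarTower.algebraMap_eq (A ⧸ p) (B ⧸ q) L₁]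
    exact (IsFractionRing.injective (B ⧸ q) L₁).comp hinj
  letI : Algebra K₁ L₁ := FractionRing.liftAlgebra (A ⧸ p) L₁
  haveI : IsScalarTower (A ⧸ p) K₁ L₁ := FractionRing.isScalarTower_liftAlgebra (A ⧸ p) L₁
  haveI : IsScalarTower A K₁ L₁ := IsScalarTower.of_algebraMap_eq (fun a => by
    rw [IsScalarTower.algebraMap_apply A (A ⧸ p) K₁, ← IsScalarTower.algebraMap_apply (A ⧸ p) K₁ L₁,
      ← IsScalarTower.algebraMap_apply A (A ⧸ p) L₁])
  have hC : IsSepAlg K₁ (K₁ ⊗[A] B) := exists_separable_aeval_eq_zero K₁ (K₁ ⊗[A] B)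
  let ψ : K₁ ⊗[A] B →ₐ[K₁] L₁ :=
    Algebra.TensorProduct.lift (Algebra.ofId K₁ L₁) (IsScalarTower.toAlgHom A B L₁)
      (fun _ _ => Commute.all _ _)
  constructor
  intro x
  obtain ⟨b, rfl⟩ := Ideal.Quotient.mk_surjective x
  obtain ⟨f, hf, hfb⟩ := hC ((1 : K₁) ⊗ₜ[A] b)
  have h1 : ψ ((1 : K₁) ⊗ₜ[A] b) = algebraMap B L₁ b := by
    simp [ψ]
  have h2 : aeval (algebraMap B L₁ b) f = 0 := by
    rw [← h1, Polynomial.aeval_algHom_apply, hfb, map_zero]
  have h3 : IsAlgebraic K₁ (algebraMap B L₁ b) := ⟨f, hf.ne_zero, h2⟩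
  have h4 : IsAlgebraic (A ⧸ p) (algebraMap B L₁ b) :=
    (IsFractionRing.isAlgebraic_iff (A ⧸ p) K₁ L₁).mpr h3
  have h5 : algebraMap B L₁ b = algebraMap (B ⧸ q) L₁ (Ideal.Quotient.mk q b) := by
    rw [← Ideal.Quotient.algebraMap_eq, ← IsScalarTower.algebraMap_apply]
  rw [h5] at h4
  exact (isAlgebraic_algebraMap_iff (IsFractionRing.injective (B ⧸ q) L₁)).mp h4

end Residue

end Groth.Agent.R2.H3.WEIndEt
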