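import Mathlib
import Groth.Prelude.Def_ProEtW
import Groth.Agent.R2.H3IndZarRetr
import Groth.Agent.R2.H3WEIndEtA

/-!
# Retractions of w-local algebras over a w-local ring with extremally disconnected `π₀`

`nonempty_retraction_of_identifies_closed`: generalization of `IndZarRetr.nonempty_retraction` where the
algebra is only assumed to identify local rings at points lying over closed points.
-/

set_option autoImplicit false
set_option linter.style.haveILetI false
open PrimeSpectrum Topology
open Groth.Agent.R2.H3.WLocalPi Groth.Agent.R2.H3.IndZarFactor Groth.Agent.R2.H3.IndZarRetr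
universe u

namespace Groth.Agent.R2.H3.WContr

variable (A : Type u) [CommRing A]

theorem nonempty_retraction_of_identifies_closed (hW : ProEtW.IsWLocal (PrimeSpectrum A))
    (hE : ExtremallyDisconnected (ConnectedComponents (PrimeSpectrum A)))
    (B' : Type u) [CommRing B'] [Algebra A B'] (hB' : ProEtW.IsWLocal (PrimeSpectrum B'))
    (hsurjAB' : Function.Surjective (comap (algebraMap A B')))
    (hidc : ∀ t : PrimeSpectrum B', comap (algebraMap A B') t ∈ ProEtW.closedPoints (PrimeSpectrum A) →
      Function.Bijective (Localization.localRingHom (t.asIdeal.comap (algebraMap A B')) t.asIdeal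
        (algebraMap A B') rfl)) :
    Nonempty (B' →ₐ[A] A) := by
  classical
  -- step 2: the section on closed points
  let Z : Type u := ProEtW.closedPoints (PrimeSpectrum A)
  let Z' : Type u := ProEtW.closedPoints (PrimeSpectrum B')
  haveI : CompactSpace Z := compactSpace_closedPoints hW
  haveI : T2Space Z := t2Space_closedPoints hW
  haveI : CompactSpace Z' := compactSpace_closedPoints hB'
  haveI : T2Space Z' := t2Space_closedPoints hB'
  let Z'' : Set Z' := {t | comap (algebraMap A B') t.1 ∈ ProEtW.closedPoints (PrimeSpectrum A)}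
  have hZ''closed : IsClosed Z'' :=
    hW.2.1.preimage ((continuous_comap (algebraMap A B')).comp continuous_subtype_val)
  haveI : CompactSpace Z'' := isCompact_iff_compactSpace.mp hZ''closed.isCompact
  let g : Z'' → Z := fun t => ⟨comap (algebraMap A B') t.1.1, t.2⟩
  have hg : Continuous g :=
    Continuous.subtype_mk ((continuous_comap (algebraMap A B')).comp
      (continuous_subtype_val.comp continuous_subtype_val)) _
  have hgsurj : Function.Surjective g := by
    intro z
    obtain ⟨y, hy⟩ := hsurjAB' z.1
    have hs : comap (algebraMap A B') y ⤳ comap (algebraMap A B') (retr hB' y).1 :=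
      (specializes_retr hB' y).map (continuous_comap _)
    rw [hy] at hs
    have heq : comap (algebraMap A B') (retr hB' y).1 = z.1 :=
      (Groth.Agent.Lib.Helper10.Pi0.isClosed_singleton_iff_forall_specializes.mp z.2) _ hs
    exact ⟨⟨retr hB' y, by show _ ∈ ProEtW.closedPoints _; rw [heq]; exact z.2⟩, Subtype.ext heq⟩
  haveI : ExtremallyDisconnected Z := extremallyDisconnected_of_homeo (closedPointsHomeo hW).symm
  obtain ⟨s, hs, hgs⟩ := CompactT2.ExtremallyDisconnected.projective (A := Z)
    (continuous_id (X := Z)) hg hgsurj
  have hgs' : ∀ z : Z, comap (algebraMap A B') (s z).1.1 = z.1 := fun z =>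
    congrArg Subtype.val (congrFun hgs z)
  have hid' : ∀ z : Z, Function.Bijective (Localization.localRingHom
      ((s z).1.1.asIdeal.comap (algebraMap A B')) (s z).1.1.asIdeal (algebraMap A B') rfl) :=
    fun z => hidc (s z).1.1 (s z).2
  -- step 3: the closed subset of `π₀(Spec B')` and the ind-Zariski quotient
  haveI : T2Space (ConnectedComponents (PrimeSpectrum B')) := t2Space_pi0 hB'
  let σ : Z → ConnectedComponents (PrimeSpectrum B') := fun z => ConnectedComponents.mk (s z).1.1
  have hσ : Continuous σ := ConnectedComponents.continuous_coe.comp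
    (continuous_subtype_val.comp (continuous_subtype_val.comp hs))
  let T' : Set (ConnectedComponents (PrimeSpectrum B')) := Set.range σ
  have hT' : IsClosed T' := (isCompact_range hσ).isClosed
  obtain ⟨B'', _, _, hind'', hsurj'', hemb'', hrange''⟩ := Groth.Agent.S0698.result B' T' hT'
  letI : Algebra A B'' := ((algebraMap B' B'').comp (algebraMap A B')).toAlgebra
  haveI : IsScalarTower A B' B'' := IsScalarTower.of_algebraMap_eq (fun _ => rfl)
  have hidB'' : EtPBC.IdentifiesLocalRings B' B'' :=
    Groth.Agent.R2.H3.IdLoc.identifies_of_factor (factor_of_isIndZariski hind'')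
  have hcomp : ∀ y'' : PrimeSpectrum B'', comap (algebraMap A B'') y'' =
      comap (algebraMap A B') (comap (algebraMap B' B'') y'') := by
    intro y''
    rw [IsScalarTower.algebraMap_eq A B' B'', comap_comp_apply]
  have hkey : ∀ y'' : PrimeSpectrum B'', ∃ z : Z,
      retr hB' (comap (algebraMap B' B'') y'') = (s z).1 := by
    intro y''
    have : comap (algebraMap B' B'') y'' ∈ ConnectedComponents.mk ⁻¹' T' := by
      rw [← hrange'']
      exact ⟨y'', rfl⟩
    obtain ⟨z, hz⟩ := this
    refine ⟨z, ?_⟩
    rw [retr, Homeomorph.symm_apply_eq, closedPointsHomeo_apply]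
    exact hz.symm
  -- `A → B''` identifies local rings
  have hid'' : EtPBC.IdentifiesLocalRings A B'' := by
    apply Groth.Agent.R2.H3.WEIndEt.identifies_of_maximal
    intro n hn
    let y'' : PrimeSpectrum B'' := ⟨n, hn.isPrime⟩
    have hy'max : (comap (algebraMap B' B'') y'').asIdeal.IsMaximal :=
      Ideal.comap_isMaximal_of_surjective (algebraMap B' B'') hsurj''
    have hy'closed : comap (algebraMap B' B'') y'' ∈ ProEtW.closedPoints (PrimeSpectrum B') :=
      (isClosed_singleton_iff_isMaximal _).mpr hy'max
    obtain ⟨z, hz⟩ := hkey y''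
    have hy' : comap (algebraMap B' B'') y'' = (s z).1.1 := by
      have := retr_val hB' ⟨comap (algebraMap B' B'') y'', hy'closed⟩
      rw [← hz]
      exact (congrArg Subtype.val this).symm
    have h1 : Function.Bijective (Localization.localRingHom
        ((comap (algebraMap B' B'') y'').asIdeal.comap (algebraMap A B'))
        (comap (algebraMap B' B'') y'').asIdeal (algebraMap A B') rfl) := by
      rw [hy']
      exact hid' z
    have h2 := hidB'' y''
    have h3 := Localization.localRingHom_comp
      (I := (n.comap (algebraMap B' B'')).comap (algebraMap A B'))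
      (n.comap (algebraMap B' B'')) n (algebraMap A B') rfl (algebraMap B' B'') rfl
    rw [Groth.Agent.R2.H3.IdLoc.bijective_localRingHom_congr (IsScalarTower.algebraMap_eq A B' B'')
      (by rw [IsScalarTower.algebraMap_eq A B' B'', ← Ideal.comap_comap]) rfl rfl
      (by rw [Ideal.comap_comap]), h3, RingHom.coe_comp]
    exact h2.comp h1
  have hbij : Function.Bijective (comap (algebraMap A B'')) := by
    constructor
    · intro y₁ y₂ h
      obtain ⟨z₁, hz₁⟩ := hkey y₁
      obtain ⟨z₂, hz₂⟩ := hkey y₂
      rw [hcomp, hcomp] at h
      have hs₁ : comap (algebraMap B' B'') y₁ ⤳ (s z₁).1.1 := by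
        rw [← hz₁]
        exact specializes_retr hB' _
      have hs₂ : comap (algebraMap B' B'') y₂ ⤳ (s z₂).1.1 := by
        rw [← hz₂]
        exact specializes_retr hB' _
      have hx₁ : comap (algebraMap A B') (comap (algebraMap B' B'') y₁) ⤳ z₁.1 := by
        have := hs₁.map (continuous_comap (algebraMap A B'))
        rwa [hgs'] at this
      have hx₂ : comap (algebraMap A B') (comap (algebraMap B' B'') y₂) ⤳ z₂.1 := by
        have := hs₂.map (continuous_comap (algebraMap A B'))
        rwa [hgs'] at this
      have e₁ := retr_eq_of_specializes hW hx₁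
      have e₂ := retr_eq_of_specializes hW hx₂
      have hz : z₁ = z₂ := by rw [← e₁, ← e₂, h]
      subst hz
      have := Groth.Agent.R2.H3.LocIso.eq_of_le_of_comap_eq (s z₁).1.1 (hid' _) _ _
        ((le_iff_specializes _ _).mpr hs₁) ((le_iff_specializes _ _).mpr hs₂) h
      exact hemb''.injective this
    · intro x
      have hx : x ≤ comap (algebraMap A B') (s (retr hW x)).1.1 := by
        rw [hgs']
        exact (le_iff_specializes _ _).mpr (specializes_retr hW x)
      obtain ⟨y', hy', hy'x⟩ := Groth.Agent.R2.H3.LocIso.exists_le_comap_eq (s (retr hW x)).1.1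
        (hid' _) x hx
      have hmem : y' ∈ Set.range (comap (algebraMap B' B'')) := by
        rw [hrange'']
        refine ⟨retr hW x, ?_⟩
        show ConnectedComponents.mk (s (retr hW x)).1.1 = ConnectedComponents.mk y'
        exact Groth.Agent.Lib.Helper10.Pi0.mk_eq_of_specializes _ ((le_iff_specializes _ _).mp hy')
      obtain ⟨y'', rfl⟩ := hmem
      exact ⟨y'', by rw [hcomp, hy'x]⟩
  have hbijAB'' : Function.Bijective (algebraMap A B'') :=
    Groth.Agent.R2.H3.LocIso.bijective_of_bijective_comap hid'' hbij
  let ε : A ≃ₐ[A] B'' := AlgEquiv.ofBijective (Algebra.ofId A B'') hbijAB''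
  exact ⟨(ε.symm : B'' →ₐ[A] A).comp (IsScalarTower.toAlgHom A B' B'')⟩

end Groth.Agent.R2.H3.WContr
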