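import Mathlib
import Groth.Prelude.Def_ProEtW
import Groth.Prelude.Def_EtBase
import Groth.Agent.R2.H3WLocSquareA
import Groth.Agent.R2.H3IdLoc
import Groth.Agent.R2.H3IndZarLoc
import Groth.Agent.S0694
import Groth.Agent.S0693
import Groth.Agent.S0737
import Groth.Agent.S0675
import Groth.Agent.S0734

/-!
# A faithfully flat ind-étale w-local cover with strictly henselian local rings (helper3)
-/

set_option autoImplicit false
set_option linter.style.haveILetI false
open CategoryTheory CategoryTheory.Limits TensorProduct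
open Groth.Agent.R2.H3.IndZarFactor
universe u

namespace Groth.Agent.R2.H3.WLocSquare

/-- Every ring has a faithfully flat ind-étale extension with w-local spectrum, strictly henselian local rings at
maximal ideals and closed points surjecting onto `Spec A`. -/
theorem exists_wLocal_indEtale_strictlyHenselian (A : Type u) [CommRing A] :
    ∃ (C : Type u) (_ : CommRing C) (_ : Algebra A C),
      Module.FaithfullyFlat A C ∧ EtPBC.IsIndEtale A C ∧ ProEtW.IsWLocal (PrimeSpectrum C) ∧
      PrimeSpectrum.comap (algebraMap A C) '' ProEtW.closedPoints (PrimeSpectrum C) = Set.univ ∧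
      ∀ (m : Ideal C) [m.IsMaximal],
        EtCoh.IsStrictlyHenselianLocalRing (Localization.AtPrime m) := by
  obtain ⟨Aw, _, _, hffw, hizw, hwlw, hbijw⟩ := Groth.Agent.S0694.result A
  obtain ⟨C₁, _, _, hff₁, hie₁, hret₁⟩ := Groth.Agent.S0693.result Aw
  -- the ideal of closed points of `Spec Aw`
  let I : Ideal Aw := PrimeSpectrum.vanishingIdeal (ProEtW.closedPoints (PrimeSpectrum Aw))
  have hI : I.IsRadical := PrimeSpectrum.isRadical_vanishingIdeal _
  have hI0 : PrimeSpectrum.zeroLocus (I : Set Aw) = ProEtW.closedPoints (PrimeSpectrum Aw) := by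
    rw [PrimeSpectrum.zeroLocus_vanishingIdeal_eq_closure]
    exact hwlw.2.1.closure_eq
  obtain ⟨hV₁, C, _, _, _, _, hizC, hbijC, hwlC, hwmC, hclC⟩ :=
    Groth.Agent.S0737.result Aw C₁ hwlw I hI hI0 (algebraicResidueExtensions_of_isIndEtale hie₁)
  letI : Algebra A C := ((algebraMap Aw C).comp (algebraMap A Aw)).toAlgebra
  haveI : IsScalarTower A Aw C := IsScalarTower.of_algebraMap_eq fun _ => rfl
  -- lifting closed points
  have hlift : ∀ m : PrimeSpectrum Aw, m ∈ ProEtW.closedPoints (PrimeSpectrum Aw) →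
      ∃ z : PrimeSpectrum C, PrimeSpectrum.comap (algebraMap Aw C) z = m := by
    intro m hm
    obtain ⟨z₁, hz₁⟩ := PrimeSpectrum.comap_surjective_of_faithfullyFlat (A := Aw) (B := C₁) m
    have hz₁I : I.map (algebraMap Aw C₁) ≤ z₁.asIdeal := by
      rw [Ideal.map_le_iff_le_comap]
      have h1 : m ∈ PrimeSpectrum.zeroLocus (I : Set Aw) := hI0 ▸ hm
      rw [PrimeSpectrum.mem_zeroLocus, ← hz₁] at h1
      exact h1
    obtain ⟨z, hz⟩ := exists_comap_eq_of_bijective_quotientMap (I.map (algebraMap Aw C₁)) hbijC z₁ hz₁I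
    refine ⟨z, ?_⟩
    rw [IsScalarTower.algebraMap_eq Aw C₁ C, PrimeSpectrum.comap_comp_apply, hz, hz₁]
  haveI : Module.Flat C₁ C := flat_of_factor (factor_of_isIndZariski hizC)
  haveI : Module.Flat Aw C := Module.Flat.trans Aw C₁ C
  haveI : Module.FaithfullyFlat Aw C := by
    refine ⟨fun m hm htop => ?_⟩
    obtain ⟨z, hz⟩ := hlift ⟨m, hm.isPrime⟩ ((PrimeSpectrum.isClosed_singleton_iff_isMaximal _).mpr hm)
    rw [Ideal.smul_top_eq_map] at htop
    have h1 : m.map (algebraMap Aw C) ≤ z.asIdeal := by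
      rw [Ideal.map_le_iff_le_comap]
      exact (congrArg PrimeSpectrum.asIdeal hz).ge
    have h2 : (1 : C) ∈ (m.map (algebraMap Aw C)).restrictScalars Aw := by rw [htop]; trivial
    exact z.isPrime.ne_top ((Ideal.eq_top_iff_one _).mpr (h1 h2))
  refine ⟨C, inferInstance, inferInstance, Module.FaithfullyFlat.trans A Aw C, ?_, hwlC, ?_, ?_⟩
  · exact Groth.Agent.S0734.result A Aw C (isIndEtale_of_isIndZariski hizw)
      (Groth.Agent.S0734.result Aw C₁ C hie₁ (isIndEtale_of_isIndZariski hizC))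
  · rw [Set.eq_univ_iff_forall]
    intro x
    obtain ⟨m, hm, hmx⟩ := hbijw.surjOn (Set.mem_univ x)
    obtain ⟨z, hz⟩ := hlift m hm
    refine ⟨z, ?_, ?_⟩
    · rw [hclC]
      show PrimeSpectrum.comap (algebraMap Aw C) z ∈ ProEtW.closedPoints (PrimeSpectrum Aw)
      rw [hz]
      exact hm
    · rw [IsScalarTower.algebraMap_eq A Aw C, PrimeSpectrum.comap_comp_apply, hz, hmx]
  · intro m hm
    let zm : PrimeSpectrum C := ⟨m, hm.isPrime⟩
    have hzm : zm ∈ ProEtW.closedPoints (PrimeSpectrum C) :=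
      (PrimeSpectrum.isClosed_singleton_iff_isMaximal zm).mpr hm
    rw [hclC] at hzm
    have hzm' : PrimeSpectrum.comap (algebraMap Aw C) zm ∈ PrimeSpectrum.zeroLocus (I : Set Aw) :=
      hI0 ▸ hzm
    rw [PrimeSpectrum.mem_zeroLocus] at hzm'
    have hm₁V : (⟨m.comap (algebraMap C₁ C), inferInstance⟩ : PrimeSpectrum C₁) ∈
        PrimeSpectrum.zeroLocus (R := C₁) (I.map (algebraMap Aw C₁)) := by
      rw [PrimeSpectrum.mem_zeroLocus, SetLike.coe_subset_coe, Ideal.map_le_iff_le_comap]
      intro a ha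
      have h1 : algebraMap Aw C a ∈ m := hzm' ha
      show algebraMap C₁ C (algebraMap Aw C₁ a) ∈ m
      rwa [← IsScalarTower.algebraMap_apply]
    haveI hm₁max : (m.comap (algebraMap C₁ C)).IsMaximal :=
      (PrimeSpectrum.isClosed_singleton_iff_isMaximal _).mp (hV₁ hm₁V)
    have hsh := Groth.Agent.S0675.result C₁ hret₁ (m.comap (algebraMap C₁ C))
    have hid := Groth.Agent.R2.H3.IdLoc.identifies_of_factor (factor_of_isIndZariski hizC) zm
    exact isStrictlyHenselianLocalRing_of_ringEquiv (RingEquiv.ofBijective _ hid) hsh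

end Groth.Agent.R2.H3.WLocSquare
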