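import Mathlib
import Groth.Agent.R2.H3WLocSquareB
import Groth.Agent.S0733

/-!
# The w-local ind-étale square (helper3)

`exists_square`: for `A → B` with algebraic residue field extensions, compatible faithfully flat ind-étale covers
`C/A`, `D/B` with w-local spectra, `Spec D → Spec C` w-local, and strictly henselian local rings of `C`.
-/

set_option autoImplicit false
set_option linter.style.haveILetI false
open CategoryTheory CategoryTheory.Limits TensorProduct
open Groth.Agent.R2.H3.IndZarFactor
universe u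

namespace Groth.Agent.R2.H3.WLocSquare

section right

variable {A B C : Type u} [CommRing A] [CommRing B] [CommRing C] [Algebra A B] [Algebra A C]

attribute [local instance] Algebra.TensorProduct.rightAlgebra

/-- the swap as an isomorphism of `B`-algebras -/
noncomputable def commRight : B ⊗[A] C ≃ₐ[B] C ⊗[A] B :=
  { (Algebra.TensorProduct.comm A B C).toRingEquiv with
    commutes' := fun b => by
      show Algebra.TensorProduct.comm A B C (b ⊗ₜ[A] (1 : C)) = (1 : C) ⊗ₜ[A] b
      simp }

variable (B) in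
theorem isIndEtale_tensor_right (h : EtPBC.IsIndEtale A C) : EtPBC.IsIndEtale B (C ⊗[A] B) :=
  Groth.Agent.Lib.Helper3.IndEt.isIndEtale_of_algEquiv (Groth.Agent.S0733.result A C B h) commRight

variable (B) in
theorem flat_tensor_right [Module.Flat A C] : Module.Flat B (C ⊗[A] B) :=
  Module.Flat.of_linearEquiv (commRight (A := A) (B := B) (C := C)).symm.toLinearEquiv

end right


attribute [local instance] Algebra.TensorProduct.rightAlgebra in
/-- **The w-local ind-étale square.** -/
theorem exists_square (A B : Type u) [CommRing A] [CommRing B] [Algebra A B]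
    (h : ProEtW.AlgebraicResidueExtensions A B) :
    ∃ (C D : Type u) (_ : CommRing C) (_ : CommRing D) (_ : Algebra A C) (_ : Algebra B D)
      (_ : Algebra C D) (_ : Algebra A D) (_ : IsScalarTower A C D) (_ : IsScalarTower A B D),
      Module.FaithfullyFlat A C ∧ EtPBC.IsIndEtale A C ∧ Module.FaithfullyFlat B D ∧
      EtPBC.IsIndEtale B D ∧ ProEtW.IsWLocal (PrimeSpectrum C) ∧ ProEtW.IsWLocal (PrimeSpectrum D) ∧
      ProEtW.IsWLocalMap (PrimeSpectrum.comap (algebraMap C D)) ∧
      ProEtW.closedPoints (PrimeSpectrum D) =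
        PrimeSpectrum.comap (algebraMap C D) ⁻¹' ProEtW.closedPoints (PrimeSpectrum C) ∧
      PrimeSpectrum.comap (algebraMap A C) '' ProEtW.closedPoints (PrimeSpectrum C) = Set.univ ∧
      PrimeSpectrum.comap (algebraMap B D) '' ProEtW.closedPoints (PrimeSpectrum D) = Set.univ ∧
      ∀ (m : Ideal C) [m.IsMaximal], EtCoh.IsStrictlyHenselianLocalRing (Localization.AtPrime m) := by
  obtain ⟨C, _, _, hffC, hieC, hwlC, hsurjC, hshC⟩ := exists_wLocal_indEtale_strictlyHenselian A
  have h' : ProEtW.AlgebraicResidueExtensions C (C ⊗[A] B) := algebraicResidueExtensions_baseChange h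
  let I : Ideal C := PrimeSpectrum.vanishingIdeal (ProEtW.closedPoints (PrimeSpectrum C))
  have hI : I.IsRadical := PrimeSpectrum.isRadical_vanishingIdeal _
  have hI0 : PrimeSpectrum.zeroLocus (I : Set C) = ProEtW.closedPoints (PrimeSpectrum C) := by
    rw [PrimeSpectrum.zeroLocus_vanishingIdeal_eq_closure]
    exact hwlC.2.1.closure_eq
  obtain ⟨-, D, _, _, _, _, hizD, hbijD, hwlD, hwmD, hclD⟩ :=
    Groth.Agent.S0737.result C (C ⊗[A] B) hwlC I hI hI0 h'
  letI algBD : Algebra B D := ((algebraMap (C ⊗[A] B) D).comp (algebraMap B (C ⊗[A] B))).toAlgebra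
  haveI : IsScalarTower B (C ⊗[A] B) D := IsScalarTower.of_algebraMap_eq fun _ => rfl
  letI algAD : Algebra A D := ((algebraMap C D).comp (algebraMap A C)).toAlgebra
  haveI tACD : IsScalarTower A C D := IsScalarTower.of_algebraMap_eq fun _ => rfl
  haveI tABD : IsScalarTower A B D := IsScalarTower.of_algebraMap_eq fun a => by
    show algebraMap C D (algebraMap A C a) =
      algebraMap (C ⊗[A] B) D (algebraMap B (C ⊗[A] B) (algebraMap A B a))
    rw [IsScalarTower.algebraMap_apply C (C ⊗[A] B) D]
    congr 1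
    show algebraMap A C a ⊗ₜ[A] (1 : B) = (1 : C) ⊗ₜ[A] algebraMap A B a
    rw [Algebra.algebraMap_eq_smul_one, Algebra.algebraMap_eq_smul_one, TensorProduct.smul_tmul]
  -- closed points of `Spec D` surject onto `Spec B`
  have hsurjD : PrimeSpectrum.comap (algebraMap B D) '' ProEtW.closedPoints (PrimeSpectrum D) =
      Set.univ := by
    rw [Set.eq_univ_iff_forall]
    intro y
    have hx : PrimeSpectrum.comap (algebraMap A B) y ∈
        PrimeSpectrum.comap (algebraMap A C) '' ProEtW.closedPoints (PrimeSpectrum C) := by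
      rw [hsurjC]; trivial
    obtain ⟨z, hz, hzx⟩ := hx
    obtain ⟨P, hP1, hP2⟩ := exists_prime_tensor z y hzx
    have hPI : I.map (algebraMap C (C ⊗[A] B)) ≤ P.asIdeal := by
      rw [Ideal.map_le_iff_le_comap]
      have h1 : z ∈ PrimeSpectrum.zeroLocus (I : Set C) := hI0 ▸ hz
      rw [PrimeSpectrum.mem_zeroLocus, ← hP1] at h1
      exact h1
    obtain ⟨Q, hQ⟩ := exists_comap_eq_of_bijective_quotientMap (I.map (algebraMap C (C ⊗[A] B)))
      hbijD P hPI
    refine ⟨Q, ?_, ?_⟩
    · rw [hclD]
      show PrimeSpectrum.comap (algebraMap C D) Q ∈ ProEtW.closedPoints (PrimeSpectrum C)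
      rw [IsScalarTower.algebraMap_eq C (C ⊗[A] B) D, PrimeSpectrum.comap_comp_apply, hQ, hP1]
      exact hz
    · rw [IsScalarTower.algebraMap_eq B (C ⊗[A] B) D, PrimeSpectrum.comap_comp_apply, hQ]
      exact hP2
  haveI : Module.Flat B (C ⊗[A] B) := flat_tensor_right B
  haveI : Module.Flat (C ⊗[A] B) D := flat_of_factor (factor_of_isIndZariski hizD)
  haveI : Module.Flat B D := Module.Flat.trans B (C ⊗[A] B) D
  have hffD : Module.FaithfullyFlat B D := by
    refine Module.FaithfullyFlat.of_comap_surjective fun y => ?_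
    have : y ∈ PrimeSpectrum.comap (algebraMap B D) '' ProEtW.closedPoints (PrimeSpectrum D) := by
      rw [hsurjD]; trivial
    obtain ⟨Q, -, hQ⟩ := this
    exact ⟨Q, hQ⟩
  exact ⟨C, D, inferInstance, inferInstance, inferInstance, algBD, inferInstance, algAD, tACD, tABD,
    hffC, hieC, hffD,
    Groth.Agent.S0734.result B (C ⊗[A] B) D (isIndEtale_tensor_right B hieC)
      (isIndEtale_of_isIndZariski hizD),
    hwlC, hwlD, hwmD, hclD, hsurjC, hsurjD, hshC⟩

end Groth.Agent.R2.H3.WLocSquare
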