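import Mathlib
import Groth.Agent.R2.H3WEIndEtA
import Groth.Agent.R2.H3OlivierC
import Groth.Agent.R2.H3WLocSquareC
import Groth.Agent.S0700
import Groth.Agent.S0736
import Groth.Agent.S7127
import Groth.Agent.Lib.Helper3IndEtComp

/-!
# Weakly étale maps become ind-étale after an ind-étale cover (BS Theorem 2.3.4)
-/

set_option autoImplicit false
universe u
open TensorProduct Polynomial

namespace Groth.Agent.R2.H3.WEIndEt

open Groth.Agent.R2.H3.IdLoc

/-- the local map `C_m → D_n` is bijective when `C → D` is weakly étale and `C_m` is strictly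
henselian -/
theorem bijective_localRingHom_of_weaklyEtale (C D : Type u) [CommRing C] [CommRing D]
    [Algebra C D] [Algebra.WeaklyEtale C D] (n : Ideal D) [n.IsPrime]
    (h : EtCoh.IsStrictlyHenselianLocalRing (Localization.AtPrime (n.comap (algebraMap C D)))) :
    Function.Bijective
      (Localization.localRingHom (n.comap (algebraMap C D)) n (algebraMap C D) rfl) := by
  obtain ⟨hHens, hSep⟩ := h
  letI : Algebra (Localization.AtPrime (n.comap (algebraMap C D))) (Localization.AtPrime n) :=
    (Localization.localRingHom (n.comap (algebraMap C D)) n (algebraMap C D) rfl).toAlgebra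
  haveI : IsLocalHom (algebraMap (Localization.AtPrime (n.comap (algebraMap C D)))
      (Localization.AtPrime n)) :=
    Localization.isLocalHom_localRingHom _ _ _ rfl
  haveI : Algebra.WeaklyEtale D (Localization.AtPrime n) :=
    Groth.Agent.Lib.Helper14.WEField.weaklyEtale_of_isLocalization n.primeCompl _
  haveI : Algebra.WeaklyEtale C (Localization.AtPrime n) := Algebra.WeaklyEtale.trans C D _
  haveI : Algebra.WeaklyEtale C (Localization.AtPrime (n.comap (algebraMap C D))) :=
    Groth.Agent.Lib.Helper14.WEField.weaklyEtale_of_isLocalization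
      (n.comap (algebraMap C D)).primeCompl _
  haveI : IsScalarTower C (Localization.AtPrime (n.comap (algebraMap C D)))
      (Localization.AtPrime n) := IsScalarTower.of_algebraMap_eq (fun c => by
    show _ = Localization.localRingHom (n.comap (algebraMap C D)) n (algebraMap C D) rfl
      (algebraMap C _ c)
    rw [Localization.localRingHom_to_map, ← IsScalarTower.algebraMap_apply])
  haveI : Algebra.WeaklyEtale (Localization.AtPrime (n.comap (algebraMap C D)))
      (Localization.AtPrime n) := Groth.Agent.S7127.result C _ _
  exact Groth.Agent.R2.H3.OlivierC.bijective_algebraMap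
    (Localization.AtPrime (n.comap (algebraMap C D))) (Localization.AtPrime n)

/-- **BS Theorem 2.3.4.** -/
theorem exists_indEtale_cover (A B : Type u) [CommRing A] [CommRing B] [Algebra A B]
    [Algebra.WeaklyEtale A B] :
    ∃ (B' : Type u) (_ : CommRing B') (_ : Algebra B B') (_ : Algebra A B')
      (_ : IsScalarTower A B B'),
      Module.FaithfullyFlat B B' ∧ EtPBC.IsIndEtale B B' ∧ EtPBC.IsIndEtale A B' := by
  obtain ⟨C, D, _, _, _, _, _, _, _, _, hffC, hieC, hffD, hieD, hwlC, hwlD, hwm, hcl, hsC, hsD,
    hsh⟩ := Groth.Agent.R2.H3.WLocSquare.exists_square A B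
      (algebraicResidueExtensions_of_weaklyEtale A B)
  refine ⟨D, inferInstance, inferInstance, inferInstance, inferInstance, hffD, hieD, ?_⟩
  haveI : Algebra.WeaklyEtale A C := Groth.Agent.S0736.result A C hieC
  haveI : Algebra.WeaklyEtale B D := Groth.Agent.S0736.result B D hieD
  haveI : Algebra.WeaklyEtale A D := Algebra.WeaklyEtale.trans A B D
  haveI : Algebra.WeaklyEtale C D := Groth.Agent.S7127.result A C D
  have hid : EtPBC.IdentifiesLocalRings C D := by
    apply identifies_of_maximal
    intro n hn
    have hm : (n.comap (algebraMap C D)).IsMaximal := by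
      have h1 : IsClosed ({(⟨n, hn.isPrime⟩ : PrimeSpectrum D)} : Set (PrimeSpectrum D)) :=
        (PrimeSpectrum.isClosed_singleton_iff_isMaximal _).mpr hn
      have h2 := hwm.2 _ h1
      exact (PrimeSpectrum.isClosed_singleton_iff_isMaximal _).mp h2
    exact bijective_localRingHom_of_weaklyEtale C D n (hsh _)
  have hiz : EtPBC.IsIndZariski C D := Groth.Agent.S0700.result C D hid hwlC hwlD hwm
  have hieCD : EtPBC.IsIndEtale C D := Groth.Agent.R2.H3.WLocSquare.isIndEtale_of_isIndZariski hiz
  exact Groth.Agent.Lib.Helper3.IndEt.isIndEtale_comp A C D hieC hieCD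

end Groth.Agent.R2.H3.WEIndEt
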