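import Mathlib
import Groth.Agent.R2.H3WContrA
import Groth.Agent.R2.H3WEIndEtB
import Groth.Agent.R2.H3WLocalization
import Groth.Agent.S0675
import Groth.Agent.S0678

/-!
# Characterization of w-contractible rings (BS Lemma 2.4.8 / Theorem 1.8)
-/

set_option autoImplicit false
set_option linter.style.haveILetI false
open PrimeSpectrum Topology
open Groth.Agent.R2.H3.IndZarFactor
universe u

namespace Groth.Agent.R2.H3.WContr

variable (A : Type u) [CommRing A]

/-- ind-Zariski maps are weakly étale -/
theorem weaklyEtale_of_isIndZariski {A B : Type u} [CommRing A] [CommRing B] [Algebra A B]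
    (h : EtPBC.IsIndZariski A B) : Algebra.WeaklyEtale A B :=
  Groth.Agent.S0736.result A B (Groth.Agent.R2.H3.WLocSquare.isIndEtale_of_isIndZariski h)

/-- w-local + extremally disconnected + strictly henselian local rings ⇒ w-contractible -/
theorem isWContractible_of (hW : ProEtW.IsWLocal (PrimeSpectrum A))
    (hE : ExtremallyDisconnected (ConnectedComponents (PrimeSpectrum A)))
    (hSH : ∀ (m : Ideal A) [m.IsMaximal],
      EtCoh.IsStrictlyHenselianLocalRing (Localization.AtPrime m)) :
    EtPBC.IsWContractible A := by
  intro B _ _ hff hwe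
  haveI := hwe
  haveI := hff
  obtain ⟨B', _, _, hF', hff', hB', -⟩ := Groth.Agent.R2.H3.WLocalization.exists_wLocalization B
  letI : Algebra A B' := ((algebraMap B B').comp (algebraMap A B)).toAlgebra
  haveI : IsScalarTower A B B' := IsScalarTower.of_algebraMap_eq (fun _ => rfl)
  haveI : Module.FaithfullyFlat B B' := hff'
  haveI : Algebra.WeaklyEtale B B' := weaklyEtale_of_isIndZariski (isIndZariski_of_factor hF')
  haveI : Algebra.WeaklyEtale A B' := Algebra.WeaklyEtale.trans A B B'
  have hsurjAB' : Function.Surjective (comap (algebraMap A B')) := by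
    have h1 := PrimeSpectrum.comap_surjective_of_faithfullyFlat (A := A) (B := B)
    have h2 := PrimeSpectrum.comap_surjective_of_faithfullyFlat (A := B) (B := B')
    intro x
    obtain ⟨y, rfl⟩ := h1 x
    obtain ⟨y', rfl⟩ := h2 y
    refine ⟨y', ?_⟩
    rw [IsScalarTower.algebraMap_eq A B B', comap_comp_apply]
  have hidc : ∀ t : PrimeSpectrum B',
      comap (algebraMap A B') t ∈ ProEtW.closedPoints (PrimeSpectrum A) →
      Function.Bijective (Localization.localRingHom (t.asIdeal.comap (algebraMap A B')) t.asIdeal
        (algebraMap A B') rfl) := by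
    intro t ht
    have hmax : (t.asIdeal.comap (algebraMap A B')).IsMaximal :=
      (isClosed_singleton_iff_isMaximal _).mp ht
    exact Groth.Agent.R2.H3.WEIndEt.bijective_localRingHom_of_weaklyEtale A B' t.asIdeal (hSH _)
  obtain ⟨r⟩ := nonempty_retraction_of_identifies_closed A hW hE B' hB' hsurjAB' hidc
  exact ⟨r.comp (IsScalarTower.toAlgHom A B B')⟩

/-- **Characterization of w-contractible rings.** -/
theorem isWContractible_iff :
    EtPBC.IsWContractible A ↔
      (ProEtW.IsWLocal (PrimeSpectrum A) ∧
        ExtremallyDisconnected (ConnectedComponents (PrimeSpectrum A)) ∧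
        ∀ (m : Ideal A) [m.IsMaximal],
          EtCoh.IsStrictlyHenselianLocalRing (Localization.AtPrime m)) := by
  constructor
  · intro h
    have h1 : ProEtW.HasIndZariskiRetractions A := by
      intro B _ _ hff hind
      exact h B hff (weaklyEtale_of_isIndZariski hind)
    have h2 : ProEtW.HasEtaleRetractions A := by
      intro B _ _ hff het
      haveI := het
      exact h B hff inferInstance
    obtain ⟨hW, hE⟩ := (Groth.Agent.S0678.result A).mp h1
    exact ⟨hW, hE, fun m _ => Groth.Agent.S0675.result A h2 m⟩
  · rintro ⟨hW, hE, hSH⟩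
    exact isWContractible_of A hW hE hSH

end Groth.Agent.R2.H3.WContr
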