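import Mathlib
import Groth.Agent.R2.H3WContrB
import Groth.Agent.R2.H3WLocSquareB
import Groth.Agent.R2.H3ProfReal
import Groth.Agent.S0704

/-!
# Every ring has a faithfully flat ind-étale w-contractible cover (BS Lemma 2.4.9)
-/

set_option autoImplicit false
set_option linter.style.haveILetI false
open PrimeSpectrum Topology
open Groth.Agent.R2.H3.IndZarFactor
universe u

namespace Groth.Agent.R2.H3.WContr

/-- A discrete copy of a type. -/
structure Disc (α : Type u) : Type u where
  /-- the underlying element -/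
  out : α

instance (α : Type u) : TopologicalSpace (Disc α) := ⊥

instance (α : Type u) : DiscreteTopology (Disc α) := ⟨rfl⟩

theorem exists_wContractible_cover (A : Type u) [CommRing A] :
    ∃ (D : Type u) (_ : CommRing D) (_ : Algebra A D),
      Module.FaithfullyFlat A D ∧ EtPBC.IsIndEtale A D ∧ EtPBC.IsWContractible D := by
  obtain ⟨C, _, _, hffC, hieC, hwlC, hsurjC, hshC⟩ :=
    Groth.Agent.R2.H3.WLocSquare.exists_wLocal_indEtale_strictlyHenselian A
  let Dsc := Disc (ConnectedComponents (PrimeSpectrum C))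
  have hED : ExtremallyDisconnected (StoneCech Dsc) :=
    CompactT2.Projective.extremallyDisconnected StoneCech.projective
  have : T2Space (ConnectedComponents (PrimeSpectrum C)) :=
    Groth.Agent.Lib.Helper10.Pi0.t2Space_connectedComponents
  have hcont : Continuous (Disc.out : Dsc → ConnectedComponents (PrimeSpectrum C)) :=
    continuous_of_discreteTopology
  let g : C(StoneCech Dsc, ConnectedComponents (PrimeSpectrum C)) :=
    ⟨stoneCechExtend hcont, continuous_stoneCechExtend hcont⟩
  have hg : Function.Surjective g := fun c =>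
    ⟨stoneCechUnit (⟨c⟩ : Dsc), stoneCechExtend_stoneCechUnit hcont ⟨c⟩⟩
  obtain ⟨D, _, _, Ψ, hF, hΨ⟩ :=
    Groth.Agent.R2.H3.ProfReal.exists_indZariski_realizing C (StoneCech Dsc) g
  obtain ⟨hY, hYmap, hYcl⟩ := Groth.Agent.S0704.result (PrimeSpectrum C) (StoneCech Dsc) hwlC g
  obtain ⟨-, eY, heY⟩ := Groth.Agent.S0703.result (PrimeSpectrum C) (StoneCech Dsc) g
  have hwlD : ProEtW.IsWLocal (PrimeSpectrum D) :=
    Groth.Agent.R2.H3.RhoLoc.isWLocal_of_homeomorph Ψ hY.2.1 hY.2.2
  have hEDD : ExtremallyDisconnected (ConnectedComponents (PrimeSpectrum D)) :=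
    extremallyDisconnected_of_homeo ((Groth.Agent.R2.H3.ProfReal.pi0Homeo Ψ).trans eY).symm
  haveI : Module.Flat C D := flat_of_factor hF
  haveI : Module.FaithfullyFlat C D := by
    apply Module.FaithfullyFlat.of_comap_surjective
    intro x'
    obtain ⟨t, ht⟩ := hg (ConnectedComponents.mk x')
    refine ⟨Ψ.symm ⟨(x', t), ht.symm⟩, ?_⟩
    rw [← hΨ, Ψ.apply_symm_apply]
  letI : Algebra A D := ((algebraMap C D).comp (algebraMap A C)).toAlgebra
  haveI : IsScalarTower A C D := IsScalarTower.of_algebraMap_eq (fun _ => rfl)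
  haveI := hffC
  have hieCD : EtPBC.IsIndEtale C D :=
    Groth.Agent.R2.H3.WLocSquare.isIndEtale_of_isIndZariski (isIndZariski_of_factor hF)
  have hid : EtPBC.IdentifiesLocalRings C D := Groth.Agent.R2.H3.IdLoc.identifies_of_factor hF
  refine ⟨D, inferInstance, inferInstance, Module.FaithfullyFlat.trans A C D,
    Groth.Agent.Lib.Helper3.IndEt.isIndEtale_comp A C D hieC hieCD, ?_⟩
  apply isWContractible_of D hwlD hEDD
  intro n hn
  have hncl : IsClosed ({(⟨n, hn.isPrime⟩ : PrimeSpectrum D)} : Set (PrimeSpectrum D)) :=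
    (isClosed_singleton_iff_isMaximal _).mpr hn
  have hΨcl : IsClosed ({Ψ ⟨n, hn.isPrime⟩} : Set _) := by
    rw [← Set.image_singleton, Ψ.isClosed_image]
    exact hncl
  have hmem : Ψ ⟨n, hn.isPrime⟩ ∈ ProEtW.closedPoints
      {p : PrimeSpectrum C × StoneCech Dsc // ConnectedComponents.mk p.1 = g p.2} := hΨcl
  rw [hYcl] at hmem
  have hmcl : IsClosed ({comap (algebraMap C D) ⟨n, hn.isPrime⟩} : Set (PrimeSpectrum C)) := by
    rw [← hΨ]
    exact hmem
  have hmmax : (n.comap (algebraMap C D)).IsMaximal :=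
    (isClosed_singleton_iff_isMaximal _).mp hmcl
  have hbij := hid ⟨n, hn.isPrime⟩
  exact Groth.Agent.R2.H3.WLocSquare.isStrictlyHenselianLocalRing_of_ringEquiv
    (RingEquiv.ofBijective _ hbij) (hshC _)

end Groth.Agent.R2.H3.WContr
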