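import Mathlib
import Groth.Prelude.Def_ProEtS
import Groth.Agent.Lib.Helper9WC3
import Groth.Agent.R2.H3WContrC
import Groth.Agent.S0736

/-!
# Coverings of the pro-étale site by w-contractible affines (helper3)
-/

set_option autoImplicit false
set_option linter.style.haveILetI false
set_option backward.isDefEq.respectTransparency false
open CategoryTheory CategoryTheory.Limits AlgebraicGeometry Opposite
open Groth.Agent.Lib.Helper9.ProEt Groth.Agent.Lib.Helper9.WC
universe u w

namespace Groth.Agent.R2.H3.ProEtCover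

/-- w-contractibility transfers along ring isomorphisms -/
lemma isWContractible_of_ringEquiv {A B : Type u} [CommRing A] [CommRing B] (e : A ≃+* B)
    (hA : EtPBC.IsWContractible A) : EtPBC.IsWContractible B := by
  intro C _ _ hff hwe
  letI : Algebra A B := e.toRingHom.toAlgebra
  letI : Algebra A C := ((algebraMap B C).comp e.toRingHom).toAlgebra
  haveI : IsScalarTower A B C := IsScalarTower.of_algebraMap_eq (fun _ => rfl)
  have hbij : Function.Bijective (algebraMap A B) := e.bijective
  let e' : A ≃ₐ[A] B := AlgEquiv.ofBijective (Algebra.ofId A B) hbij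
  haveI : Algebra.Etale A B := Algebra.Etale.of_equiv e'
  haveI : Module.FaithfullyFlat A B := Module.FaithfullyFlat.of_linearEquiv A A e'.symm.toLinearEquiv
  haveI : Algebra.WeaklyEtale A C := Algebra.WeaklyEtale.trans A B C
  haveI : Module.FaithfullyFlat A C := Module.FaithfullyFlat.trans A B C
  obtain ⟨r⟩ := hA C inferInstance inferInstance
  refine ⟨{ toRingHom := e.toRingHom.comp r.toRingHom, commutes' := ?_ }⟩
  intro b
  obtain ⟨a, rfl⟩ := e.surjective b
  have h1 : algebraMap B C (e a) = algebraMap A C a := rfl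
  change e (r (algebraMap B C (e a))) = algebraMap B B (e a)
  rw [h1, r.commutes]
  rfl

variable {X : Scheme.{u}}

/-- Zariski coverings by opens, then coverings of the pieces -/
lemma ofArrows_mem_of_opens {U : X.ProEt} {ι : Type u} (W : ι → U.left.Opens)
    (hW : ∀ i, IsAffineOpen (W i)) (hcov : ∀ x : U.left, ∃ i, x ∈ W i)
    (Z : ι → X.ProEt) (g : ∀ i, Z i ⟶ openObj X U (W i)) [∀ i, CompactSpace (Z i).left]
    (hsurj : ∀ i (x : (openObj X U (W i)).left), ∃ z : (Z i).left, (g i).left z = x) :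
    Sieve.ofArrows Z (fun i => g i ≫ openHom X U (W i)) ∈ Scheme.ProEt.topology X U := by
  have h1 : Sieve.ofArrows (fun i => openObj X U (W i)) (fun i => openHom X U (W i)) ∈
      Scheme.ProEt.topology X U := by
    rw [mem_topology_iff]
    refine ⟨Presieve.ofArrows _ _, ?_, Sieve.le_generate _⟩
    rw [mem_precoverage_iff, Presieve.map_ofArrows]
    refine Scheme.zariskiPrecoverage_le_propQCPrecoverage _ ?_
    rw [Scheme.ofArrows_mem_precoverage_iff]
    refine ⟨fun x => ?_, fun i => ?_⟩
    · obtain ⟨i, hi⟩ := hcov x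
      exact ⟨i, ⟨x, hi⟩, rfl⟩
    · change IsOpenImmersion (W i).ι
      infer_instance
  refine (Scheme.ProEt.topology X).transitive h1 _ ?_
  rintro Y f ⟨T, a, b, ⟨i⟩, rfl⟩
  rw [Sieve.pullback_comp]
  apply (Scheme.ProEt.topology X).pullback_stable
  haveI : IsAffine (openObj X U (W i)).left := hW i
  have h2 := ofArrows_mem_topology X (U := openObj X U (W i)) (fun _ : Unit => Z i)
    (fun _ => g i) (fun x => by obtain ⟨z, hz⟩ := hsurj i x; exact ⟨(), z, hz⟩)
  refine (Scheme.ProEt.topology X).superset_covering ?_ h2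
  rw [Sieve.ofArrows, Sieve.generate_le_iff]
  rintro Y' h ⟨⟨⟩⟩
  exact Sieve.ofArrows_mk Z _ i

/-- over an affine open of an object there is an affine w-contractible object mapping onto it -/
lemma exists_wc_over_affineOpen (U : X.ProEt) (W : U.left.Opens) (hW : IsAffineOpen W) :
    ∃ (Z : X.ProEt) (g : Z ⟶ openObj X U W), IsAffine Z.left ∧
      EtPBC.IsWContractible ↥(Γ(Z.left, ⊤)) ∧
      ∀ x : (openObj X U W).left, ∃ z : Z.left, g.left z = x := by
  let A : CommRingCat.{u} := Γ(U.left, W)
  obtain ⟨D, _, _, hff, hie, hwc⟩ := Groth.Agent.R2.H3.WContr.exists_wContractible_cover ↥A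
  haveI : Algebra.WeaklyEtale A D := Groth.Agent.S0736.result A D hie
  let φ : A ⟶ CommRingCat.of D := CommRingCat.ofHom (algebraMap A D)
  haveI : WeaklyEtale (Spec.map φ) := (weaklyEtale_SpecMap_iff A D).2 inferInstance
  let q : Spec (CommRingCat.of D) ⟶ (openObj X U W).left := Spec.map φ ≫ hW.isoSpec.inv
  haveI : WeaklyEtale q := inferInstance
  let Z : X.ProEt := Scheme.ProEt.mk (q ≫ (openObj X U W).hom)
  let g : Z ⟶ openObj X U W := MorphismProperty.Over.homMk q rfl trivial
  refine ⟨Z, g, ?_, ?_, ?_⟩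
  · change IsAffine (Spec (CommRingCat.of D))
    infer_instance
  · change EtPBC.IsWContractible ↥(Γ(Spec (CommRingCat.of D), ⊤))
    exact isWContractible_of_ringEquiv
      (Scheme.ΓSpecIso (CommRingCat.of D)).commRingCatIsoToRingEquiv.symm hwc
  · intro x
    have hs : Surjective (Spec.map φ) :=
      ((flat_and_surjective_SpecMap_iff φ).2
        (RingHom.faithfullyFlat_algebraMap_iff.2 hff)).2
    obtain ⟨y, hy⟩ := hs.surj (hW.isoSpec.hom x)
    refine ⟨y, ?_⟩
    change (Spec.map φ ≫ hW.isoSpec.inv) y = x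
    rw [Scheme.Hom.comp_apply, hy, ← Scheme.Hom.comp_apply, Iso.hom_inv_id]
    rfl

/-- every object has a covering family by affine objects with w-contractible rings of functions -/
theorem exists_cover_by_affine_wContractible (U : X.ProEt) :
    ∃ (ι : Type u) (V : ι → X.ProEt) (g : ∀ i, V i ⟶ U),
      Sieve.generate (Presieve.ofArrows V g) ∈ Scheme.ProEt.topology X U ∧
        ∀ i, IsAffine (V i).left ∧ EtPBC.IsWContractible ↥(Γ((V i).left, ⊤)) := by
  choose Z g haff hwc hsurj using
    fun W : U.left.affineOpens => exists_wc_over_affineOpen U W.1 W.2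
  refine ⟨U.left.affineOpens, Z, fun W => g W ≫ openHom X U W.1, ?_, fun W => ⟨haff W, hwc W⟩⟩
  haveI : ∀ W, CompactSpace (Z W).left := fun W => by haveI := haff W; infer_instance
  refine ofArrows_mem_of_opens (fun W : U.left.affineOpens => W.1) (fun W => W.2) ?_ Z g hsurj
  intro x
  obtain ⟨W, hW, hxW, -⟩ : ∃ W : U.left.Opens, W ∈ U.left.affineOpens ∧ x ∈ W ∧ W ≤ ⊤ :=
    (TopologicalSpace.Opens.isBasis_iff_nbhd.1 U.left.isBasis_affineOpens)
    (show x ∈ (⊤ : U.left.Opens) from trivial)
  exact ⟨⟨W, hW⟩, hxW⟩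

section sigI

variable {ι : Type u} (Z : ι → X.ProEt)

instance : WeaklyEtale (Sigma.desc (fun k => (Z k).hom)) :=
  IsZariskiLocalAtSource.sigmaDesc (P := @WeaklyEtale) (fun k => (Z k).prop)

/-- arbitrary (small) coproducts in the pro-étale site -/
noncomputable def sigI : X.ProEt := Scheme.ProEt.mk (Sigma.desc (fun k => (Z k).hom))

/-- the coprojections -/
noncomputable def sigIι (k : ι) : Z k ⟶ sigI Z :=
  MorphismProperty.Over.homMk (Sigma.ι (fun k => (Z k).left) k)
    (Sigma.ι_desc (fun k => (Z k).hom) k) trivial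

/-- the induced morphism -/
noncomputable def sigIDesc {U : X.ProEt} (g : ∀ k, Z k ⟶ U) : sigI Z ⟶ U :=
  MorphismProperty.Over.homMk (Sigma.desc (fun k => (g k).left)) (by
    apply Sigma.hom_ext
    intro k
    have h1 : Sigma.ι (fun k => (Z k).left) k ≫ (Sigma.desc fun k => (g k).left) ≫ U.hom =
        (Z k).hom := by
      rw [← Category.assoc, Sigma.ι_desc (fun k => (g k).left) k]
      exact CategoryTheory.Over.w (g k).hom
    exact h1.trans (Sigma.ι_desc (fun k => (Z k).hom) k).symm) trivial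

lemma sigIι_desc {U : X.ProEt} (g : ∀ k, Z k ⟶ U) (k : ι) : sigIι Z k ≫ sigIDesc Z g = g k := by
  apply MorphismProperty.Over.Hom.ext
  exact Sigma.ι_desc (fun k => (g k).left) k

instance [Finite ι] [∀ k, IsAffine (Z k).left] : IsAffine (sigI Z).left := by
  change IsAffine (∐ fun k => (Z k).left)
  infer_instance

lemma sigIι_mem_topology : Sieve.ofArrows Z (sigIι Z) ∈ Scheme.ProEt.topology X (sigI Z) := by
  rw [mem_topology_iff]
  refine ⟨Presieve.ofArrows Z (sigIι Z), ?_, Sieve.le_generate _⟩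
  rw [mem_precoverage_iff, Presieve.map_ofArrows]
  refine Scheme.zariskiPrecoverage_le_propQCPrecoverage _ ?_
  exact (sigmaOpenCover (fun k => (Z k).left)).mem₀

instance (k : ι) : Mono (sigIι Z k) := by
  apply (Fg X).mono_of_mono_map
  change Mono (Sigma.ι (fun k => (Z k).left) k)
  infer_instance

/-- gluing sections of a sheaf of sets along a coproduct -/
lemma sigI_glue (F : Sheaf (Scheme.ProEt.topology X) (Type w)) (x : ∀ k, F.obj.obj (op (Z k))) :
    ∃ t : F.obj.obj (op (sigI Z)), ∀ k, F.obj.map (sigIι Z k).op t = x k := by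
  have hsh := (isSheaf_iff_isSheaf_of_type _ _).1 F.property
  have h1 : (Presieve.ofArrows Z (sigIι Z)).IsSheafFor F.obj :=
    hsh.isSheafFor _ (sigIι_mem_topology Z)
  rw [Presieve.isSheafFor_arrows_iff] at h1
  have hc : Presieve.Arrows.Compatible F.obj (sigIι Z) x := by
    intro i j T gi gj hg
    by_cases hij : i = j
    · subst hij
      rw [(cancel_mono (sigIι Z i)).1 hg]
    · haveI : IsEmpty T.left := by
        have hg' : gi.left ≫ Sigma.ι (fun k => (Z k).left) i =
            gj.left ≫ Sigma.ι (fun k => (Z k).left) j := congrArg (fun f => f.left) hg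
        exact isEmpty_of_commSq_sigmaι_of_ne ⟨hg'⟩ hij
      haveI := subsingleton_of_isEmpty F T
      exact Subsingleton.elim _ _
  obtain ⟨t, ht, -⟩ := h1 x hc
  exact ⟨t, ht⟩

lemma sigI_ext (F : Sheaf (Scheme.ProEt.topology X) (Type w)) (t t' : F.obj.obj (op (sigI Z)))
    (h : ∀ k, F.obj.map (sigIι Z k).op t = F.obj.map (sigIι Z k).op t') : t = t' := by
  have hsh := (isSheaf_iff_isSheaf_of_type _ _).1 F.property
  refine (hsh.isSeparated _ (sigIι_mem_topology Z)).ext ?_
  rintro T f ⟨Y, a, b, ⟨k⟩, rfl⟩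
  rw [op_comp, Functor.map_comp]
  exact congrArg (F.obj.map a.op) (h k)

/-- a coproduct of weakly contractible objects is weakly contractible -/
theorem isWC_sigI (h : ∀ k, ProEtS.IsWC (Z k)) : ProEtS.IsWC (sigI Z) := by
  intro F G φ hφ s
  choose t ht using fun k => h k F G φ hφ (G.obj.map (sigIι Z k).op s)
  obtain ⟨T, hT⟩ := sigI_glue Z F t
  refine ⟨T, sigI_ext Z G _ _ fun k => ?_⟩
  rw [← ht k, ← hT k]
  exact (FunctorToTypes.naturality φ.hom (sigIι Z k).op T).symm

lemma le_generate_singleton_sigIDesc {U : X.ProEt} (g : ∀ k, Z k ⟶ U) :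
    Sieve.ofArrows Z g ≤ Sieve.generate (Presieve.singleton (sigIDesc Z g)) := by
  rw [Sieve.ofArrows, Sieve.generate_le_iff]
  rintro _ _ ⟨k⟩
  exact ⟨_, sigIι Z k, sigIDesc Z g, Presieve.singleton.mk, sigIι_desc Z g k⟩

end sigI

/-- every object admits a covering by a single weakly contractible object -/
theorem exists_cover_weaklyContractible (U : X.ProEt) :
    ∃ (V : X.ProEt) (g : V ⟶ U),
      Sieve.generate (Presieve.singleton g) ∈ Scheme.ProEt.topology X U ∧ ProEtS.IsWC V := by
  choose Z g haff hwc hsurj using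
    fun W : U.left.affineOpens => exists_wc_over_affineOpen U W.1 W.2
  haveI : ∀ W, IsAffine (Z W).left := haff
  refine ⟨sigI Z, sigIDesc Z (fun W => g W ≫ openHom X U W.1), ?_, ?_⟩
  · refine (Scheme.ProEt.topology X).superset_covering (le_generate_singleton_sigIDesc Z _) ?_
    refine ofArrows_mem_of_opens (fun W : U.left.affineOpens => W.1) (fun W => W.2) ?_ Z g hsurj
    intro x
    obtain ⟨W, hW, hxW, -⟩ : ∃ W : U.left.Opens, W ∈ U.left.affineOpens ∧ x ∈ W ∧ W ≤ ⊤ :=
      (TopologicalSpace.Opens.isBasis_iff_nbhd.1 U.left.isBasis_affineOpens)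
      (show x ∈ (⊤ : U.left.Opens) from trivial)
    exact ⟨⟨W, hW⟩, hxW⟩
  · exact isWC_sigI Z fun W => (isWContractible_iff_isWC (Z W)).1 (hwc W)

/-- every quasi-compact object admits a covering by a single affine weakly contractible object -/
theorem exists_cover_affine_weaklyContractible (U : X.ProEt) [CompactSpace ↥U.left] :
    ∃ (V : X.ProEt) (g : V ⟶ U),
      Sieve.generate (Presieve.singleton g) ∈ Scheme.ProEt.topology X U ∧ IsAffine V.left ∧
        ProEtS.IsWC V := by
  choose Z g haff hwc hsurj using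
    fun W : U.left.affineOpens => exists_wc_over_affineOpen U W.1 W.2
  haveI : ∀ W, IsAffine (Z W).left := haff
  -- a finite subcover
  obtain ⟨t, ht⟩ := isCompact_univ.elim_finite_subcover
    (fun W : U.left.affineOpens => ((W.1 : U.left.Opens) : Set U.left))
    (fun W => W.1.isOpen) (by
      intro x _
      obtain ⟨W, hW, hxW, -⟩ : ∃ W : U.left.Opens, W ∈ U.left.affineOpens ∧ x ∈ W ∧ W ≤ ⊤ :=
        (TopologicalSpace.Opens.isBasis_iff_nbhd.1 U.left.isBasis_affineOpens)
        (show x ∈ (⊤ : U.left.Opens) from trivial)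
      exact Set.mem_iUnion.2 ⟨⟨W, hW⟩, hxW⟩)
  let κ : Type u := {W : U.left.affineOpens // W ∈ t}
  let Z' : κ → X.ProEt := fun k => Z k.1
  haveI : ∀ k, IsAffine (Z' k).left := fun k => haff k.1
  refine ⟨sigI Z', sigIDesc Z' (fun k => g k.1 ≫ openHom X U k.1.1), ?_, inferInstance, ?_⟩
  · refine (Scheme.ProEt.topology X).superset_covering (le_generate_singleton_sigIDesc Z' _) ?_
    refine ofArrows_mem_of_opens (fun k : κ => k.1.1) (fun k => k.1.2) ?_ Z' (fun k => g k.1)
      (fun k => hsurj k.1)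
    intro x
    have hx := ht (Set.mem_univ x)
    simp only [Set.mem_iUnion] at hx
    obtain ⟨W, hWt, hxW⟩ := hx
    exact ⟨⟨W, hWt⟩, hxW⟩
  · exact isWC_sigI Z' fun k => (isWContractible_iff_isWC (Z' k)).1 (hwc k.1)

end Groth.Agent.R2.H3.ProEtCover
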