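import Mathlib
import Groth.Prelude.Def_ProEtW
import Groth.Agent.Lib.Helper3HenselLF
import Groth.Agent.R2.H3WLocSquareA
import Groth.Agent.R2.H3OlivierA
import Groth.Agent.S14620

/-!
# Finite algebras over rings with strictly henselian local rings (helper3)
-/

set_option autoImplicit false
set_option linter.style.haveILetI false
universe u
open TensorProduct IsLocalRing

namespace Groth.Agent.R2.H3.WContrFin

attribute [local instance] Algebra.TensorProduct.rightAlgebra

/-- transport of strict henselianity along a ring isomorphism -/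
theorem isStrictlyHenselian_of_ringEquiv {R S : Type u} [CommRing R] [CommRing S] (e : R ≃+* S)
    (h : EtCoh.IsStrictlyHenselianLocalRing R) : EtCoh.IsStrictlyHenselianLocalRing S := by
  obtain ⟨hH, hsep⟩ := h
  haveI : HenselianLocalRing S := Groth.Agent.R2.H3.WLocSquare.henselianLocalRing_of_ringEquiv e
  refine ⟨inferInstance, ?_⟩
  exact Groth.Agent.R2.H3.WLocSquare.isSepClosed_of_ringEquiv (ResidueField.mapEquiv e)

/-- localizations of a finite algebra at primes over a prime with strictly henselian local ring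
are strictly henselian -/
theorem isStrictlyHenselian_atPrime_of_finite (A B : Type u) [CommRing A] [CommRing B]
    [Algebra A B] [Module.Finite A B] (m : Ideal A) [m.IsPrime]
    (hSH : EtCoh.IsStrictlyHenselianLocalRing (Localization.AtPrime m))
    (n : Ideal B) [n.IsPrime] (hn : n.comap (algebraMap A B) = m) :
    EtCoh.IsStrictlyHenselianLocalRing (Localization.AtPrime n) := by
  obtain ⟨hH, hsep⟩ := hSH
  let Am := Localization.AtPrime m
  let T := Am ⊗[A] B
  let M : Submonoid B := Algebra.algebraMapSubmonoid B m.primeCompl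
  haveI hloc : IsLocalization M T := IsLocalization.tensorRight (S := B) (A := Am) m.primeCompl
  have hdisj : Disjoint (M : Set B) (n : Set B) := by
    rw [Set.disjoint_left]
    rintro _ ⟨a, ha, rfl⟩ hb
    apply ha
    rw [← hn]
    exact hb
  let n' : Ideal T := n.map (algebraMap B T)
  haveI hn'prime : n'.IsPrime := IsLocalization.isPrime_of_isPrime_disjoint M T n inferInstance hdisj
  have hn'comap : n'.comap (algebraMap B T) = n :=
    IsLocalization.comap_map_of_isPrime_disjoint M T inferInstance hdisj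
  haveI hlies : n'.LiesOver (maximalIdeal Am) := by
    constructor
    apply (IsLocalization.orderEmbedding m.primeCompl Am).injective
    change (maximalIdeal Am).comap (algebraMap A Am) = (n'.comap (algebraMap Am T)).comap (algebraMap A Am)
    have h1 : (maximalIdeal Am).comap (algebraMap A Am) = m :=
      IsLocalization.AtPrime.under_maximalIdeal Am m
    rw [h1, Ideal.comap_comap,
      ← IsScalarTower.algebraMap_eq A Am T, IsScalarTower.algebraMap_eq A B T,
      ← Ideal.comap_comap, hn'comap, hn]
  haveI : Module.Finite Am (Localization.AtPrime n') :=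
    Groth.Agent.Lib.Helper3.Hensel.finite_localization_of_quasiFiniteAt (R := Am) (S := T) n'
  let L := Localization.AtPrime n'
  haveI : IsScalarTower B T L := inferInstance
  have key : ∀ (P : Ideal B) [P.IsPrime], P = n'.comap (algebraMap B T) →
      IsLocalization.AtPrime L P := by
    intro P _ hP
    subst hP
    exact IsLocalization.isLocalization_isLocalization_atPrime_isLocalization M L n'
  haveI hLloc : IsLocalization.AtPrime L n := key n hn'comap.symm
  let e : Localization.AtPrime n ≃ₐ[B] L := IsLocalization.algEquiv n.primeCompl _ _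
  haveI : Algebra.IsIntegral Am L := Algebra.IsIntegral.of_finite Am L
  haveI : IsLocalHom (algebraMap Am L) :=
    Groth.Agent.R2.H3.OlivierA.isLocalHom_of_isIntegral Am L
  have hL : EtCoh.IsStrictlyHenselianLocalRing L :=
    Groth.Agent.S14620.result (algebraMap Am L) (RingHom.finite_algebraMap.2 inferInstance) ⟨hH, hsep⟩
  exact isStrictlyHenselian_of_ringEquiv e.symm.toRingEquiv hL

/-- over a prime with henselian local ring, a prime of a finite algebra lies in at most one
maximal ideal over it -/
theorem eq_of_le_of_comap_eq (A B : Type u) [CommRing A] [CommRing B] [Algebra A B]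
    [Module.Finite A B] (m : Ideal A) [m.IsPrime] [HenselianLocalRing (Localization.AtPrime m)]
    (q : Ideal B) [q.IsPrime] (n₁ n₂ : Ideal B) [hn₁ : n₁.IsMaximal] [hn₂ : n₂.IsMaximal]
    (h₁ : q ≤ n₁) (h₂ : q ≤ n₂)
    (hm₁ : n₁.comap (algebraMap A B) = m) (hm₂ : n₂.comap (algebraMap A B) = m) : n₁ = n₂ := by
  let D := B ⧸ q
  let Am := Localization.AtPrime m
  let D' := Am ⊗[A] D
  let M : Submonoid D := Algebra.algebraMapSubmonoid D m.primeCompl
  haveI hloc : IsLocalization M D' := IsLocalization.tensorRight (S := D) (A := Am) m.primeCompl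
  have hmk : Function.Surjective (Ideal.Quotient.mk q) := Ideal.Quotient.mk_surjective
  have hker : RingHom.ker (Ideal.Quotient.mk q) = q := Ideal.mk_ker
  have hcm : ∀ n : Ideal B, q ≤ n → (n.map (Ideal.Quotient.mk q)).comap (Ideal.Quotient.mk q) = n := by
    intro n hn
    rw [Ideal.comap_map_of_surjective _ hmk, ← RingHom.ker_eq_comap_bot, hker]
    exact sup_eq_left.2 hn
  have hne : ∀ a : A, a ∉ m → algebraMap A D a ≠ 0 := by
    intro a ha h0
    apply ha
    rw [← hm₁]
    apply h₁
    have : Ideal.Quotient.mk q (algebraMap A B a) = 0 := h0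
    exact Ideal.Quotient.eq_zero_iff_mem.1 this
  haveI : IsDomain D' := by
    refine IsLocalization.isDomain_of_le_nonZeroDivisors D' (M := M) ?_
    rintro _ ⟨a, ha, rfl⟩
    exact mem_nonZeroDivisors_of_ne_zero (hne a ha)
  haveI : Module.Finite A D :=
    Module.Finite.of_surjective (Ideal.Quotient.mkₐ A q).toLinearMap (Ideal.Quotient.mkₐ_surjective A q)
  haveI : Algebra.IsIntegral Am D' := Algebra.IsIntegral.of_finite Am D'
  haveI : IsLocalRing D' := Groth.Agent.R2.H3.OlivierA.isLocalRing_of_isIntegral_of_isDomain Am D'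
  have key : ∀ (n : Ideal B) [n.IsMaximal], q ≤ n → n.comap (algebraMap A B) = m →
      n.map (Ideal.Quotient.mk q) = (maximalIdeal D').comap (algebraMap D D') := by
    intro n hnmax hqn hnm
    set N := n.map (Ideal.Quotient.mk q) with hN
    have hNmax : N.IsMaximal := by
      rcases Ideal.map_eq_top_or_isMaximal_of_surjective _ hmk hnmax with h | h
      · exfalso
        have := hcm n hqn
        rw [h, Ideal.comap_top] at this
        exact hnmax.ne_top this.symm
      · exact h
    have hdisj : Disjoint (M : Set D) (N : Set D) := by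
      rw [Set.disjoint_left]
      rintro _ ⟨a, ha, rfl⟩ hb
      apply ha
      rw [← hnm]
      have : algebraMap A B a ∈ N.comap (Ideal.Quotient.mk q) := hb
      rwa [hcm n hqn] at this
    have h1 : N.map (algebraMap D D') ≠ ⊤ :=
      (IsLocalization.map_algebraMap_ne_top_iff_disjoint M D' N).2 hdisj
    have h2 : N ≤ (maximalIdeal D').comap (algebraMap D D') :=
      Ideal.le_comap_map.trans (Ideal.comap_mono (IsLocalRing.le_maximalIdeal h1))
    exact hNmax.eq_of_le (Ideal.comap_isPrime _ _).ne_top h2
  have h3 := (key n₁ h₁ hm₁).trans (key n₂ h₂ hm₂).symm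
  rw [← hcm n₁ h₁, ← hcm n₂ h₂, h3]

/-- the spectrum of a finite algebra over a ring with w-local spectrum and henselian local rings at
maximal ideals is w-local -/
theorem isWLocal_of_finite (A B : Type u) [CommRing A] [CommRing B] [Algebra A B]
    [Module.Finite A B] (hW : ProEtW.IsWLocal (PrimeSpectrum A))
    (hH : ∀ (m : Ideal A) [m.IsMaximal], HenselianLocalRing (Localization.AtPrime m)) :
    ProEtW.IsWLocal (PrimeSpectrum B) := by
  haveI : Algebra.IsIntegral A B := Algebra.IsIntegral.of_finite A B
  have hcl : ∀ q : PrimeSpectrum B, IsClosed ({q} : Set (PrimeSpectrum B)) ↔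
      IsClosed ({PrimeSpectrum.comap (algebraMap A B) q} : Set (PrimeSpectrum A)) := by
    intro q
    rw [PrimeSpectrum.isClosed_singleton_iff_isMaximal, PrimeSpectrum.isClosed_singleton_iff_isMaximal]
    constructor
    · intro h
      exact Ideal.isMaximal_comap_of_isIntegral_of_isMaximal (R := A) q.asIdeal
    · intro h
      exact Ideal.isMaximal_of_isIntegral_of_isMaximal_comap (R := A) q.asIdeal h
  refine ⟨inferInstance, ?_, ?_⟩
  · have : {q : PrimeSpectrum B | IsClosed ({q} : Set (PrimeSpectrum B))} =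
        (PrimeSpectrum.comap (algebraMap A B)) ⁻¹' {p | IsClosed ({p} : Set (PrimeSpectrum A))} := by
      ext q
      exact hcl q
    rw [this]
    exact hW.2.1.preimage (PrimeSpectrum.continuous_comap (algebraMap A B))
  · intro q
    obtain ⟨n, hnmax, hqn⟩ := Ideal.exists_le_maximal q.asIdeal q.2.ne_top
    refine ⟨⟨n, hnmax.isPrime⟩, ⟨(PrimeSpectrum.isClosed_singleton_iff_isMaximal _).2 hnmax,
      (PrimeSpectrum.le_iff_specializes _ _).1 hqn⟩, ?_⟩
    rintro ⟨n', hn'prime⟩ ⟨hn'cl, hqn'⟩
    have hn'max : n'.IsMaximal := (PrimeSpectrum.isClosed_singleton_iff_isMaximal _).1 hn'cl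
    have hqn'' : q.asIdeal ≤ n' := (PrimeSpectrum.le_iff_specializes q ⟨n', hn'prime⟩).2 hqn'
    -- the two maximal ideals lie over the same maximal ideal of A
    let p := PrimeSpectrum.comap (algebraMap A B) q
    have hm1 : IsClosed ({PrimeSpectrum.comap (algebraMap A B) ⟨n, hnmax.isPrime⟩} :
        Set (PrimeSpectrum A)) :=
      (hcl _).1 ((PrimeSpectrum.isClosed_singleton_iff_isMaximal _).2 hnmax)
    have hm2 : IsClosed ({PrimeSpectrum.comap (algebraMap A B) ⟨n', hn'prime⟩} :
        Set (PrimeSpectrum A)) := (hcl _).1 hn'cl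
    have hs1 : p ⤳ PrimeSpectrum.comap (algebraMap A B) ⟨n, hnmax.isPrime⟩ :=
      (PrimeSpectrum.le_iff_specializes _ _).1 (Ideal.comap_mono hqn)
    have hs2 : p ⤳ PrimeSpectrum.comap (algebraMap A B) ⟨n', hn'prime⟩ :=
      (PrimeSpectrum.le_iff_specializes _ _).1 (Ideal.comap_mono hqn'')
    have heq := (hW.2.2 p).unique ⟨hm2, hs2⟩ ⟨hm1, hs1⟩
    have heq' : n'.comap (algebraMap A B) = n.comap (algebraMap A B) :=
      congrArg PrimeSpectrum.asIdeal heq
    haveI hmmax : (n.comap (algebraMap A B)).IsMaximal :=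
      Ideal.isMaximal_comap_of_isIntegral_of_isMaximal (R := A) n
    haveI := hH (n.comap (algebraMap A B))
    apply PrimeSpectrum.ext
    exact eq_of_le_of_comap_eq A B (n.comap (algebraMap A B)) q.asIdeal n' n hqn'' hqn heq' rfl

section closedFibre

variable (A B : Type u) [CommRing A] [CommRing B] [Algebra A B] (J : Ideal A)

lemma surjective_algebraMap_quot_tensor :
    Function.Surjective (algebraMap B ((A ⧸ J) ⊗[A] B)) := by
  intro x
  induction x using TensorProduct.induction_on with
  | zero => exact ⟨0, map_zero _⟩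
  | tmul a b =>
    obtain ⟨a, rfl⟩ := Ideal.Quotient.mk_surjective a
    refine ⟨a • b, ?_⟩
    change (1 : A ⧸ J) ⊗ₜ[A] (a • b) = (Ideal.Quotient.mk J a) ⊗ₜ[A] b
    rw [TensorProduct.tmul_smul, TensorProduct.smul_tmul', Algebra.smul_def, mul_one]
    rfl
  | add x y hx hy =>
    obtain ⟨x, rfl⟩ := hx
    obtain ⟨y, rfl⟩ := hy
    exact ⟨x + y, map_add _ _ _⟩

/-- the spectrum of `(A ⧸ J) ⊗[A] B` is the preimage of `V(J)` in the spectrum of `B` -/
lemma range_comap_quot_tensor :
    Set.range (PrimeSpectrum.comap (algebraMap B ((A ⧸ J) ⊗[A] B))) =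
      (PrimeSpectrum.comap (algebraMap A B)) ⁻¹' (PrimeSpectrum.zeroLocus (J : Set A)) := by
  apply Set.Subset.antisymm
  · rintro _ ⟨q, rfl⟩
    intro a ha
    change algebraMap B ((A ⧸ J) ⊗[A] B) (algebraMap A B a) ∈ q.asIdeal
    have h0 : algebraMap B ((A ⧸ J) ⊗[A] B) (algebraMap A B a) = 0 := by
      change (1 : A ⧸ J) ⊗ₜ[A] (algebraMap A B a) = 0
      rw [Algebra.algebraMap_eq_smul_one, TensorProduct.tmul_smul, TensorProduct.smul_tmul',
        Algebra.smul_def, mul_one]
      have : algebraMap A (A ⧸ J) a = 0 := Ideal.Quotient.eq_zero_iff_mem.2 ha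
      rw [this, TensorProduct.zero_tmul]
    rw [h0]
    exact q.asIdeal.zero_mem
  · intro q hq
    have hJ : ∀ a ∈ J, algebraMap A (B ⧸ q.asIdeal) a = 0 := by
      intro a ha
      have : algebraMap A B a ∈ q.asIdeal := hq ha
      exact Ideal.Quotient.eq_zero_iff_mem.2 this
    let f : (A ⧸ J) →ₐ[A] (B ⧸ q.asIdeal) := Ideal.Quotient.liftₐ J (Algebra.ofId A _) hJ
    let g : B →ₐ[A] (B ⧸ q.asIdeal) := Ideal.Quotient.mkₐ A q.asIdeal
    let φ : (A ⧸ J) ⊗[A] B →ₐ[A] (B ⧸ q.asIdeal) := Algebra.TensorProduct.productMap f g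
    haveI : (RingHom.ker φ.toRingHom).IsPrime := RingHom.ker_isPrime _
    refine ⟨⟨RingHom.ker φ.toRingHom, inferInstance⟩, ?_⟩
    apply PrimeSpectrum.ext
    ext b
    change φ ((1 : A ⧸ J) ⊗ₜ[A] b) = 0 ↔ b ∈ q.asIdeal
    rw [Algebra.TensorProduct.productMap_apply_tmul, map_one, one_mul]
    exact Ideal.Quotient.eq_zero_iff_mem

end closedFibre

end Groth.Agent.R2.H3.WContrFin
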