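import Mathlib
import Groth.Prelude.Def_ProEtW
import Groth.Agent.R2.H3WContrFinA
import Groth.Agent.R2.H3WContrB
import Groth.Agent.R2.H3WLocalPi
import Groth.Agent.S0750

/-!
# Finite finitely presented algebras over w-contractible rings are w-contractible (helper3)
-/

set_option autoImplicit false
set_option linter.style.haveILetI false
universe u
open TensorProduct IsLocalRing Topology

namespace Groth.Agent.R2.H3.WContrFin

attribute [local instance] Algebra.TensorProduct.rightAlgebra

open Groth.Agent.R2.H3.WLocalPi

/-- closed points of the spectrum of an integral algebra are the preimage of the closed points -/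
lemma closedPoints_eq_preimage (A B : Type u) [CommRing A] [CommRing B] [Algebra A B]
    [Algebra.IsIntegral A B] :
    ProEtW.closedPoints (PrimeSpectrum B) =
      (PrimeSpectrum.comap (algebraMap A B)) ⁻¹' (ProEtW.closedPoints (PrimeSpectrum A)) := by
  ext q
  change IsClosed ({q} : Set (PrimeSpectrum B)) ↔
    IsClosed ({PrimeSpectrum.comap (algebraMap A B) q} : Set (PrimeSpectrum A))
  rw [PrimeSpectrum.isClosed_singleton_iff_isMaximal, PrimeSpectrum.isClosed_singleton_iff_isMaximal]
  constructor
  · intro h
    exact Ideal.isMaximal_comap_of_isIntegral_of_isMaximal (R := A) q.asIdeal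
  · intro h
    exact Ideal.isMaximal_of_isIntegral_of_isMaximal_comap (R := A) q.asIdeal h

/-- the closed fibre ring: its spectrum is the set of closed points -/
noncomputable def specQuotTensorHomeo (A B : Type u) [CommRing A] [CommRing B] [Algebra A B]
    [Algebra.IsIntegral A B] (J : Ideal A)
    (hJ : PrimeSpectrum.zeroLocus (J : Set A) = ProEtW.closedPoints (PrimeSpectrum A)) :
    PrimeSpectrum ((A ⧸ J) ⊗[A] B) ≃ₜ ProEtW.closedPoints (PrimeSpectrum B) :=
  (PrimeSpectrum.isClosedEmbedding_comap_of_surjective _ (algebraMap B ((A ⧸ J) ⊗[A] B))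
    (surjective_algebraMap_quot_tensor A B J)).isEmbedding.toHomeomorph.trans
    (Homeomorph.setCongr (by
      rw [range_comap_quot_tensor, hJ, closedPoints_eq_preimage A B]))

/-- the spectrum of the quotient by the vanishing ideal of the closed points -/
noncomputable def specQuotHomeo (A : Type u) [CommRing A] (J : Ideal A)
    (hJ : PrimeSpectrum.zeroLocus (J : Set A) = ProEtW.closedPoints (PrimeSpectrum A)) :
    PrimeSpectrum (A ⧸ J) ≃ₜ ProEtW.closedPoints (PrimeSpectrum A) :=
  (PrimeSpectrum.isClosedEmbedding_comap_of_surjective _ (Ideal.Quotient.mk J)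
    Ideal.Quotient.mk_surjective).isEmbedding.toHomeomorph.trans
    (Homeomorph.setCongr (by
      rw [_root_.range_comap_of_surjective _ _ Ideal.Quotient.mk_surjective, Ideal.mk_ker, hJ]))

theorem extremallyDisconnected_pi0_of_finite (A B : Type u) [CommRing A] [CommRing B] [Algebra A B]
    [Module.Finite A B] [Algebra.FinitePresentation A B]
    (hW : ProEtW.IsWLocal (PrimeSpectrum A))
    (hE : ExtremallyDisconnected (ConnectedComponents (PrimeSpectrum A)))
    (hsep : ∀ (m : Ideal A) [m.IsMaximal], IsSepClosed m.ResidueField)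
    (hWB : ProEtW.IsWLocal (PrimeSpectrum B)) :
    ExtremallyDisconnected (ConnectedComponents (PrimeSpectrum B)) := by
  haveI : Algebra.IsIntegral A B := Algebra.IsIntegral.of_finite A B
  let J : Ideal A := PrimeSpectrum.vanishingIdeal (ProEtW.closedPoints (PrimeSpectrum A))
  have hJ : PrimeSpectrum.zeroLocus (J : Set A) = ProEtW.closedPoints (PrimeSpectrum A) := by
    rw [PrimeSpectrum.zeroLocus_vanishingIdeal_eq_closure]
    exact hW.2.1.closure_eq
  let e1 : PrimeSpectrum (A ⧸ J) ≃ₜ ConnectedComponents (PrimeSpectrum A) :=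
    (specQuotHomeo A J hJ).trans (closedPointsHomeo hW)
  haveI : T2Space (ConnectedComponents (PrimeSpectrum A)) := t2Space_pi0 hW
  haveI : T2Space (PrimeSpectrum (A ⧸ J)) := e1.symm.t2Space
  haveI : ExtremallyDisconnected (PrimeSpectrum (A ⧸ J)) := extremallyDisconnected_of_homeo e1.symm
  have hres : ∀ p : PrimeSpectrum (A ⧸ J), IsSepClosed p.asIdeal.ResidueField := by
    intro p
    let m : Ideal A := p.asIdeal.comap (Ideal.Quotient.mk J)
    have hmcl : IsClosed ({PrimeSpectrum.comap (Ideal.Quotient.mk J) p} : Set (PrimeSpectrum A)) := by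
      have h1 : PrimeSpectrum.comap (Ideal.Quotient.mk J) p ∈
          ProEtW.closedPoints (PrimeSpectrum A) := ((specQuotHomeo A J hJ) p).2
      exact h1
    haveI hmmax : m.IsMaximal := (PrimeSpectrum.isClosed_singleton_iff_isMaximal _).1 hmcl
    haveI := hsep m
    have hbij := RingHom.SurjectiveOnStalks.residueFieldMap_bijective
      (RingHom.surjectiveOnStalks_of_surjective (Ideal.Quotient.mk_surjective (I := J)))
      m p.asIdeal rfl
    exact Groth.Agent.R2.H3.WLocSquare.isSepClosed_of_ringEquiv (RingEquiv.ofBijective _ hbij)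
  haveI : ExtremallyDisconnected (PrimeSpectrum ((A ⧸ J) ⊗[A] B)) :=
    Groth.Agent.S0750.result (A ⧸ J) ((A ⧸ J) ⊗[A] B) hres
  have h2 : ExtremallyDisconnected (ProEtW.closedPoints (PrimeSpectrum B)) :=
    extremallyDisconnected_of_homeo (specQuotTensorHomeo A B J hJ)
  exact extremallyDisconnected_of_homeo (closedPointsHomeo hWB)

/-- finite finitely presented algebras over w-contractible rings are w-contractible -/
theorem isWContractible_of_finite_finitePresentation (A B : Type u) [CommRing A] [CommRing B]
    [Algebra A B] [Module.Finite A B] [Algebra.FinitePresentation A B]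
    (h : EtPBC.IsWContractible A) : EtPBC.IsWContractible B := by
  obtain ⟨hW, hE, hSH⟩ := (Groth.Agent.R2.H3.WContr.isWContractible_iff A).1 h
  have hH : ∀ (m : Ideal A) [m.IsMaximal], HenselianLocalRing (Localization.AtPrime m) :=
    fun m _ => (hSH m).1
  have hWB := isWLocal_of_finite A B hW hH
  haveI : Algebra.IsIntegral A B := Algebra.IsIntegral.of_finite A B
  refine (Groth.Agent.R2.H3.WContr.isWContractible_iff B).2 ⟨hWB, ?_, ?_⟩
  · exact extremallyDisconnected_pi0_of_finite A B hW hE (fun m _ => (hSH m).2) hWB
  · intro n hn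
    haveI : (n.comap (algebraMap A B)).IsMaximal :=
      Ideal.isMaximal_comap_of_isIntegral_of_isMaximal (R := A) n
    exact isStrictlyHenselian_atPrime_of_finite A B (n.comap (algebraMap A B))
      (hSH (n.comap (algebraMap A B))) n rfl

end Groth.Agent.R2.H3.WContrFin
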