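import Mathlib
import Groth.Prelude.Def_ProEtS
import Groth.Agent.R2.H3ProEtCover
import Groth.Agent.R2.H3WContrFinB

/-!
# Exactness of pro-étale pushforward via weakly contractible objects (helper3)
-/

set_option autoImplicit false
set_option linter.style.haveILetI false
set_option backward.isDefEq.respectTransparency false
open CategoryTheory CategoryTheory.Limits AlgebraicGeometry Opposite
open Groth.Agent.Lib.Helper9.ProEt Groth.Agent.Lib.Helper9.WC
universe u

namespace Groth.Agent.R2.H3.ProEtPush

variable {X : Scheme.{u}}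

/-- an epimorphism of abelian pro-étale sheaves is surjective on sections over weakly contractible
objects -/
lemma surjective_app_of_isWC {F G : ProEtS.AbP X} (φ : F ⟶ G) [Epi φ] {W : X.ProEt}
    (hW : ProEtS.IsWC W) : Function.Surjective (φ.hom.app (op W)) := by
  have hls : Sheaf.IsLocallySurjective φ := (Sheaf.isLocallySurjective_iff_epi' _ φ).2 inferInstance
  let Φ := sheafCompose (Scheme.ProEt.topology X) (forget AddCommGrpCat.{u + 1})
  have hls' : Sheaf.IsLocallySurjective (Φ.map φ) := by
    change Presheaf.IsLocallySurjective _ (Functor.whiskerRight φ.hom (forget AddCommGrpCat.{u + 1}))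
    exact (Presheaf.isLocallySurjective_iff_whisker_forget _ φ.hom).1 hls
  have hepi : Epi (Φ.map φ) := (Sheaf.isLocallySurjective_iff_epi (Φ.map φ)).1 hls'
  intro s
  obtain ⟨t, ht⟩ := hW _ _ (Φ.map φ) hepi s
  exact ⟨t, ht⟩

open Groth.Agent.R2.H3.ProEtCover in
/-- if base change along `f` turns affine w-contractible objects into weakly contractible objects,
then `f_*` on abelian pro-étale sheaves is exact -/
theorem pushP_exact_of_isWC {Z X : Scheme.{u}} (f : Z ⟶ X) [ProEtS.PCont f]
    (h : ∀ (V : X.ProEt), IsAffine V.left → EtPBC.IsWContractible ↥(Γ(V.left, ⊤)) →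
      ProEtS.IsWC ((ProEtS.bcP f).obj V)) :
    PreservesFiniteLimits (ProEtS.pushP f) ∧ PreservesFiniteColimits (ProEtS.pushP f) := by
  haveI := (ProEtS.pullPushAdjP f).isRightAdjoint
  have hlim : PreservesFiniteLimits (ProEtS.pushP f) := inferInstance
  refine ⟨hlim, ?_⟩
  rw [Functor.preservesFiniteColimits_iff_forall_exact_map_and_epi]
  intro S hS
  refine ⟨((Functor.preservesFiniteLimits_iff_forall_exact_map_and_mono (ProEtS.pushP f)).1 hlim S hS).1, ?_⟩
  haveI := hS.epi_g
  rw [← Sheaf.isLocallySurjective_iff_epi']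
  constructor
  intro V s
  obtain ⟨ι, W, g, hcov, hW⟩ := exists_cover_by_affine_wContractible V
  refine (Scheme.ProEt.topology X).superset_covering ?_ hcov
  rw [Sieve.generate_le_iff]
  rintro _ _ ⟨i⟩
  have hwc := h (W i) (hW i).1 (hW i).2
  obtain ⟨t, ht⟩ := surjective_app_of_isWC S.g hwc
    (S.X₃.obj.map ((ProEtS.bcP f).map (g i)).op s)
  exact ⟨t, ht⟩

/-- base change along a finite, finitely presented morphism preserves affine w-contractible objects -/
theorem isWC_bcP_of_finite {Z X : Scheme.{u}} (f : Z ⟶ X) [IsFinite f]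
    [LocallyOfFinitePresentation f] (V : X.ProEt) (hV : IsAffine V.left)
    (hwc : EtPBC.IsWContractible ↥(Γ(V.left, ⊤))) :
    ProEtS.IsWC ((ProEtS.bcP f).obj V) := by
  let P := pullback V.hom f
  let π : P ⟶ V.left := pullback.fst V.hom f
  haveI : IsFinite π := inferInstance
  haveI : LocallyOfFinitePresentation π := inferInstance
  haveI : IsAffine P := isAffine_of_isAffineHom π
  haveI : IsAffine ((ProEtS.bcP f).obj V).left := ‹IsAffine P›
  rw [← isWContractible_iff_isWC]
  change EtPBC.IsWContractible ↥(Γ(P, ⊤))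
  letI : Algebra ↥Γ(V.left, ⊤) ↥Γ(P, ⊤) := π.appTop.hom.toAlgebra
  haveI : Module.Finite ↥Γ(V.left, ⊤) ↥Γ(P, ⊤) := RingHom.finite_algebraMap.1 π.finite_appTop
  haveI : Algebra.FinitePresentation ↥Γ(V.left, ⊤) ↥Γ(P, ⊤) :=
    (HasRingHomProperty.iff_of_isAffine (P := @LocallyOfFinitePresentation)).1 inferInstance
  exact Groth.Agent.R2.H3.WContrFin.isWContractible_of_finite_finitePresentation _ _ hwc

/-- `f_*` on abelian pro-étale sheaves is exact for `f` finite and finitely presented -/
theorem pushP_exact_of_finite {Z X : Scheme.{u}} (f : Z ⟶ X) [IsFinite f]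
    [LocallyOfFinitePresentation f] [ProEtS.PCont f] :
    PreservesFiniteLimits (ProEtS.pushP f) ∧ PreservesFiniteColimits (ProEtS.pushP f) :=
  pushP_exact_of_isWC f (isWC_bcP_of_finite f)

end Groth.Agent.R2.H3.ProEtPush
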