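import Mathlib
import Groth.Prelude.Def_ProEtW
import Groth.Agent.R2.H3WContrFinB
import Groth.Agent.R2.H3IndZarRetr

/-!
# Quotients of w-contractible rings with quasi-compact open complement (helper3)
-/

set_option autoImplicit false
set_option linter.style.haveILetI false
universe u
open TensorProduct IsLocalRing Topology

namespace Groth.Agent.R2.H3.WContrFin

open Groth.Agent.R2.H3.WLocalPi

/-- a space admitting an open embedding into an extremally disconnected space is extremally
disconnected -/
theorem extremallyDisconnected_of_isOpenEmbedding {Y C : Type*} [TopologicalSpace Y]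
    [TopologicalSpace C] [ExtremallyDisconnected C] (f : Y → C) (hf : IsOpenEmbedding f) :
    ExtremallyDisconnected Y where
  open_closure U hU := by
    rw [hf.isEmbedding.closure_eq_preimage_closure_image]
    exact (ExtremallyDisconnected.open_closure _ (hf.isOpenMap U hU)).preimage hf.continuous

/-- quotients of w-contractible rings by ideals with quasi-compact open complement are
w-contractible -/
theorem isWContractible_of_surjective (A B : Type u) [CommRing A] [CommRing B] [Algebra A B]
    (hsurj : Function.Surjective (algebraMap A B))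
    (hc : IsCompact (Set.range (PrimeSpectrum.comap (algebraMap A B)))ᶜ)
    (h : EtPBC.IsWContractible A) : EtPBC.IsWContractible B := by
  obtain ⟨hW, hE, hSH⟩ := (Groth.Agent.R2.H3.WContr.isWContractible_iff A).1 h
  haveI : Module.Finite A B := Module.Finite.of_surjective (Algebra.linearMap A B) hsurj
  haveI : Algebra.IsIntegral A B := Algebra.IsIntegral.of_finite A B
  have hemb : IsClosedEmbedding (PrimeSpectrum.comap (algebraMap A B)) :=
    PrimeSpectrum.isClosedEmbedding_comap_of_surjective _ _ hsurj
  have hWB : ProEtW.IsWLocal (PrimeSpectrum B) :=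
    Groth.Agent.R2.H3.IndZarRetr.isWLocal_of_isClosedEmbedding _ hemb hW
  refine (Groth.Agent.R2.H3.WContr.isWContractible_iff B).2 ⟨hWB, ?_, ?_⟩
  · -- π₀
    haveI : ExtremallyDisconnected (ProEtW.closedPoints (PrimeSpectrum A)) :=
      extremallyDisconnected_of_homeo (closedPointsHomeo hW).symm
    haveI : T2Space (ProEtW.closedPoints (PrimeSpectrum A)) := t2Space_closedPoints hW
    have hmem : ∀ q : ProEtW.closedPoints (PrimeSpectrum B),
        PrimeSpectrum.comap (algebraMap A B) q.1 ∈ ProEtW.closedPoints (PrimeSpectrum A) := by
      intro q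
      exact ((Set.ext_iff.1 (closedPoints_eq_preimage A B)) q.1).1 q.2
    let ρ : ProEtW.closedPoints (PrimeSpectrum B) → ProEtW.closedPoints (PrimeSpectrum A) :=
      fun q => ⟨PrimeSpectrum.comap (algebraMap A B) q.1, hmem q⟩
    have hρemb : IsEmbedding ρ :=
      (hemb.isEmbedding.comp IsEmbedding.subtypeVal).codRestrict _ hmem
    have hrange : Set.range ρ = (Subtype.val ⁻¹' (Set.range (PrimeSpectrum.comap (algebraMap A B)))ᶜ)ᶜ := by
      ext c
      simp only [Set.mem_range, Set.mem_compl_iff, Set.mem_preimage, not_not]
      constructor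
      · rintro ⟨q, rfl⟩
        exact ⟨q.1, rfl⟩
      · rintro ⟨q, hq⟩
        have hqcl : q ∈ ProEtW.closedPoints (PrimeSpectrum B) := by
          rw [closedPoints_eq_preimage A B, Set.mem_preimage, hq]
          exact c.2
        exact ⟨⟨q, hqcl⟩, Subtype.ext hq⟩
    have hcl : IsClosed (Subtype.val ⁻¹' (Set.range (PrimeSpectrum.comap (algebraMap A B)))ᶜ :
        Set (ProEtW.closedPoints (PrimeSpectrum A))) :=
      (((show IsClosed (ProEtW.closedPoints (PrimeSpectrum A)) from
        hW.2.1).isClosedEmbedding_subtypeVal).isCompact_preimage hc).isClosed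
    have hρ : IsOpenEmbedding ρ := ⟨hρemb, by rw [hrange]; exact hcl.isOpen_compl⟩
    haveI : ExtremallyDisconnected (ProEtW.closedPoints (PrimeSpectrum B)) :=
      extremallyDisconnected_of_isOpenEmbedding ρ hρ
    exact extremallyDisconnected_of_homeo (closedPointsHomeo hWB)
  · intro n hn
    haveI : (n.comap (algebraMap A B)).IsMaximal :=
      Ideal.isMaximal_comap_of_isIntegral_of_isMaximal (R := A) n
    exact isStrictlyHenselian_atPrime_of_finite A B (n.comap (algebraMap A B))
      (hSH (n.comap (algebraMap A B))) n rfl

end Groth.Agent.R2.H3.WContrFin
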