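import Mathlib
import Groth.Prelude.Def_ProEtS
import Groth.Agent.R2.H3ProEtPush
import Groth.Agent.R2.H3WContrQuot

/-!
# Exactness of pro-étale pushforward along closed immersions with retrocompact complement (helper3)
-/

set_option autoImplicit false
set_option linter.style.haveILetI false
set_option backward.isDefEq.respectTransparency false
open CategoryTheory CategoryTheory.Limits AlgebraicGeometry Opposite
open Groth.Agent.Lib.Helper9.ProEt Groth.Agent.Lib.Helper9.WC
universe u

namespace Groth.Agent.R2.H3.ProEtPush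

theorem isWC_bcP_of_closedImmersion {Z X : Scheme.{u}} (i : Z ⟶ X) [IsClosedImmersion i]
    (hr : IsRetrocompact (Set.range i.base)ᶜ) (V : X.ProEt) (hV : IsAffine V.left)
    (hwc : EtPBC.IsWContractible ↥(Γ(V.left, ⊤))) :
    ProEtS.IsWC ((ProEtS.bcP i).obj V) := by
  let P := pullback V.hom i
  let π : P ⟶ V.left := pullback.fst V.hom i
  haveI : IsClosedImmersion π := inferInstance
  haveI : IsAffine P := isAffine_of_isAffineHom π
  haveI : IsAffine ((ProEtS.bcP i).obj V).left := ‹IsAffine P›
  rw [← isWContractible_iff_isWC]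
  change EtPBC.IsWContractible ↥(Γ(P, ⊤))
  letI : Algebra ↥Γ(V.left, ⊤) ↥Γ(P, ⊤) := π.appTop.hom.toAlgebra
  have hsurj : Function.Surjective (algebraMap ↥Γ(V.left, ⊤) ↥Γ(P, ⊤)) :=
    (IsClosedImmersion.isAffine_surjective_of_isAffine π).2
  refine Groth.Agent.R2.H3.WContrFin.isWContractible_of_surjective _ _ hsurj ?_ hwc
  have hK : IsCompact (Set.range π)ᶜ := by
    have h1 : Set.range π = V.hom ⁻¹' Set.range i := Scheme.Pullback.range_fst V.hom i
    rw [h1, ← Set.preimage_compl]
    have hopen : IsOpen (Set.range i)ᶜ := i.isClosedEmbedding.isClosed_range.isOpen_compl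
    have h2 : IsRetrocompact (V.hom ⁻¹' (Set.range i)ᶜ) :=
      IsRetrocompact_iff_isSpectralMap_subtypeVal.mpr
        (quasiCompact_iff_isSpectralMap.mp
        (MorphismProperty.of_isPullback (P := @QuasiCompact)
        (isPullback_morphismRestrict V.hom ⟨_, hopen⟩)
        (quasiCompact_iff_isSpectralMap.mpr (IsRetrocompact_iff_isSpectralMap_subtypeVal.mp hr))))
    haveI : CompactSpace ↥V.left := inferInstance
    have := h2 (isCompact_univ (X := ↥V.left)) isOpen_univ
    rwa [Set.inter_univ] at this
  have hnat : π ≫ V.left.isoSpec.hom = P.isoSpec.hom ≫ Spec.map π.appTop :=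
    (Scheme.isoSpec_hom_naturality π).symm
  have hrange : Set.range (Spec.map π.appTop) = V.left.isoSpec.hom '' Set.range π := by
    have h1 : Set.range (P.isoSpec.hom ≫ Spec.map π.appTop) = Set.range (Spec.map π.appTop) := by
      rw [Scheme.Hom.comp_base, TopCat.coe_comp, Set.range_comp,
        Set.range_eq_univ.2 P.isoSpec.hom.surjective, Set.image_univ]
    rw [← h1, ← hnat, Scheme.Hom.comp_base, TopCat.coe_comp, Set.range_comp]
  have hcompl : (Set.range (Spec.map π.appTop))ᶜ = V.left.isoSpec.hom '' (Set.range π)ᶜ := by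
    rw [hrange]
    exact (Set.image_compl_eq (f := ⇑V.left.isoSpec.hom)
      ⟨V.left.isoSpec.hom.homeomorph.injective, V.left.isoSpec.hom.homeomorph.surjective⟩).symm
  have hfin : IsCompact (Set.range (Spec.map π.appTop))ᶜ := by
    rw [hcompl]
    exact hK.image V.left.isoSpec.hom.continuous
  exact hfin

/-- `i_*` on abelian pro-étale sheaves is exact for a closed immersion with retrocompact complement -/
theorem pushP_exact_of_closedImmersion {Z X : Scheme.{u}} (i : Z ⟶ X) [IsClosedImmersion i]
    (hr : IsRetrocompact (Set.range i.base)ᶜ) [ProEtS.PCont i] :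
    PreservesFiniteLimits (ProEtS.pushP i) ∧ PreservesFiniteColimits (ProEtS.pushP i) :=
  pushP_exact_of_isWC i (isWC_bcP_of_closedImmersion i hr)

end Groth.Agent.R2.H3.ProEtPush
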