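import Mathlib
import Groth.Prelude.Def_ProEtS
import Groth.Agent.R2.H3ProEtCover

/-!
# Sections of pro-étale extension by zero over objects "concentrated near the complement" (helper3)
-/

set_option autoImplicit false
set_option linter.style.haveILetI false
set_option backward.isDefEq.respectTransparency false
open CategoryTheory CategoryTheory.Limits AlgebraicGeometry Opposite
open Groth.Agent.Lib.Helper9.ProEt Groth.Agent.Lib.Helper9.WC
universe u

namespace Groth.Agent.R2.H3.ProEtShriek

variable {U X : Scheme.{u}} (j : U ⟶ X) [WeaklyEtale j]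

/-- the left Kan extension presheaf along `compP j` vanishes on objects with no map to `U` -/
lemma subsingleton_lan_of_isEmpty (F : U.ProEtᵒᵖ ⥤ AddCommGrpCat.{u + 1}) (W : X.ProEt)
    (hW : ∀ V : U.ProEt, IsEmpty (W ⟶ (ProEtS.compP j).obj V)) :
    Subsingleton (((ProEtS.compP j).op.lan.obj F).obj (op W)) := by
  have hc := Functor.isPointwiseLeftKanExtensionLeftKanExtensionUnit (ProEtS.compP j).op F (op W)
  haveI : IsEmpty (CostructuredArrow (ProEtS.compP j).op (op W)) :=
    ⟨fun a => (hW a.left.unop).false a.hom.unop⟩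
  have hinit : IsInitial (((ProEtS.compP j).op.lan.obj F).obj (op W)) :=
    (isColimitEquivIsInitialOfIsEmpty _ _) hc
  have hz : IsZero (((ProEtS.compP j).op.lan.obj F).obj (op W)) :=
    (isZero_zero _).of_iso (hinit.uniqueUpToIso HasZeroObject.zeroIsInitial)
  exact AddCommGrpCat.subsingleton_of_isZero hz

/-- sections of the sheafified Kan extension over an affine object all of whose points specialize
into the preimage of a closed set disjoint from the image of `j` -/
lemma subsingleton_sheafify_lan (F : U.ProEtᵒᵖ ⥤ AddCommGrpCat.{u + 1}) (T : Set X)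
    (hUT : Disjoint (Set.range j.base) T) (V : X.ProEt) [IsAffine V.left]
    (hV : ∀ v : ↥V.left, ∃ z : ↥V.left, V.hom.base z ∈ T ∧ v ⤳ z) :
    Subsingleton ((sheafify (Scheme.ProEt.topology X)
      ((ProEtS.compP j).op.lan.obj F)).obj (op V)) := by
  set P := (ProEtS.compP j).op.lan.obj F with hP
  set K := Scheme.ProEt.topology X with hK
  let η := toSheafify K P
  have hsh : Presheaf.IsSheaf K (sheafify K P) := (presheafToSheaf K _ |>.obj P).property
  suffices h0 : ∀ s : (sheafify K P).obj (op V), s = 0 by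
    exact ⟨fun a b => (h0 a).trans (h0 b).symm⟩
  intro s
  have hmem := Presheaf.imageSieve_mem K η s
  obtain ⟨n, Zk, g, hg, haff, hsurj⟩ := exists_finite_affine_of_mem X _ hmem
  -- members admitting a map to `U` have image disjoint from the preimage of `T`
  have hdisj : ∀ k, (∃ W : U.ProEt, Nonempty (Zk k ⟶ (ProEtS.compP j).obj W)) →
      ∀ y : (Zk k).left, V.hom.base ((g k).left.base y) ∉ T := by
    rintro k ⟨W, ⟨a⟩⟩ y hy
    have h1 : (g k).left ≫ V.hom = (Zk k).hom := CategoryTheory.Over.w (g k).hom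
    have h2 : a.left ≫ (W.hom ≫ j) = (Zk k).hom := CategoryTheory.Over.w a.hom
    have h12 : (g k).left ≫ V.hom = a.left ≫ (W.hom ≫ j) := h1.trans h2.symm
    have h3 : V.hom ((g k).left y) = j (W.hom (a.left y)) :=
      congrArg (fun f : (Zk k).left ⟶ X => f y) h12
    exact Set.disjoint_left.1 hUT ⟨_, h3.symm⟩ hy
  let K1 : Type := {k : Fin n // ¬ ∃ W : U.ProEt, Nonempty (Zk k ⟶ (ProEtS.compP j).obj W)}
  have hcov : Sieve.ofArrows (fun k : K1 => Zk k.1) (fun k => g k.1) ∈ K V := by
    haveI : ∀ k : K1, CompactSpace (Zk k.1).left := fun k => by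
      haveI := haff k.1; infer_instance
    refine ofArrows_mem_topology X _ _ ?_
    intro v
    obtain ⟨z, hzT, hvz⟩ := hV v
    obtain ⟨k, y, hy⟩ := hsurj z
    have hk : ¬ ∃ W : U.ProEt, Nonempty (Zk k ⟶ (ProEtS.compP j).obj W) := by
      intro hex
      refine hdisj k hex y ?_
      rw [show (g k).left.base y = z from hy]
      exact hzT
    have hgen : GeneralizingMap (g k).left.base := Flat.generalizingMap (g k).left
    obtain ⟨y', -, hy'⟩ := hgen (show v ⤳ (g k).left.base y by rw [show (g k).left.base y = z from hy]; exact hvz)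
    exact ⟨⟨k, hk⟩, y', hy'⟩
  refine (Presheaf.IsSheaf.isSeparated hsh) V _ hcov s 0 ?_
  rintro Y f ⟨Y', a, b, ⟨k⟩, rfl⟩
  obtain ⟨p, hp⟩ := hg k.1
  haveI : Subsingleton (P.obj (op (Zk k.1))) :=
    subsingleton_lan_of_isEmpty j F (Zk k.1) (fun W => ⟨fun a => k.2 ⟨W, ⟨a⟩⟩⟩)
  have hp0 : p = 0 := Subsingleton.elim _ _
  have h1 : (sheafify K P).map (g k.1).op s = 0 := by
    rw [← hp, hp0, map_zero]
  rw [op_comp, Functor.map_comp, ConcreteCategory.comp_apply, h1, map_zero, map_zero]

/-- `j_! F (V) = 0` for affine `V` all of whose points specialize into the preimage of a set disjoint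
from the image of `j` -/
theorem subsingleton_extZeroP {Z : Scheme.{u}} (i : Z ⟶ X)
    (hUZ : Disjoint (Set.range j.base) (Set.range i.base)) [ProEtS.JPCont j]
    (V : X.ProEt) [IsAffine V.left]
    (hV : ∀ v : ↥V.left, ∃ z : ↥V.left, V.hom.base z ∈ Set.range i.base ∧ v ⤳ z)
    (F : ProEtS.AbP U) :
    Subsingleton (ProEtS.sectP ((ProEtS.extZeroP j).obj F) V) := by
  let e := (Functor.sheafPullbackConstruction.sheafPullbackIso (ProEtS.compP j)
    AddCommGrpCat.{u + 1} (Scheme.ProEt.topology U) (Scheme.ProEt.topology X)).app F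
  let e' := ((sheafToPresheaf _ _).mapIso e).app (op V)
  have hsub : Subsingleton ((sheafify (Scheme.ProEt.topology X)
      ((ProEtS.compP j).op.lan.obj F.obj)).obj (op V)) :=
    subsingleton_sheafify_lan j F.obj (Set.range i.base) hUZ V hV
  constructor
  intro a b
  have h : e'.hom a = e'.hom b := hsub.elim _ _
  have h2 := congrArg e'.inv h
  simpa using h2

end Groth.Agent.R2.H3.ProEtShriek
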