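import Mathlib
import Groth.Prelude.Def_Hensel
import Groth.Agent.R2.H3OlivierC
import Groth.Agent.R2.H3WLocSquareA
import Groth.Agent.S0537
import Groth.Agent.S0539
import Groth.Agent.S12237
import Groth.Agent.S1996
import Groth.Agent.S0736
import Groth.Agent.S7127

/-!
# Strict henselizations and weakly étale local homomorphisms
-/

set_option autoImplicit false
universe u
open TensorProduct Polynomial IsLocalRing

namespace Groth.Agent.R2.H3.StrictHens

/-- transport of a strict henselization along a ring isomorphism of the top ring -/
theorem isStrictHenselization_of_ringEquiv_top {A S R : Type u} [CommRing A] [IsLocalRing A]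
    [CommRing S] [IsLocalRing S] [CommRing R] [IsLocalRing R]
    [Algebra A S] [IsLocalHom (algebraMap A S)] [hS : Hensel.IsStrictHenselization A S]
    [Algebra A R] [IsLocalHom (algebraMap A R)] (e : S ≃+* R)
    (he : ∀ a, e (algebraMap A S a) = algebraMap A R a) :
    Hensel.IsStrictHenselization A R := by
  haveI := hS.henselian
  haveI : IsLocalHom (e : S →+* R) := by
    refine ⟨fun a ha => ?_⟩
    have := ha.map (e.symm : R →+* S)
    simpa using this
  haveI : IsLocalHom (e.symm : R →+* S) := by
    refine ⟨fun a ha => ?_⟩
    have := ha.map (e : S →+* R)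
    simpa using this
  -- the induced isomorphism of residue fields, as an algebra isomorphism
  let ε : ResidueField S ≃ₐ[ResidueField A] ResidueField R :=
    { ResidueField.mapEquiv e with
      commutes' := by
        intro x
        obtain ⟨a, rfl⟩ := residue_surjective x
        show ResidueField.map (e : S →+* R) (algebraMap _ _ (residue A a)) = _
        rw [ResidueField.algebraMap_residue, ResidueField.algebraMap_residue,
          ResidueField.map_residue]
        exact congrArg _ (he a) }
  have hεres : ∀ s : S, ε (residue S s) = residue R (e s) := fun s => by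
    show ResidueField.map (e : S →+* R) (residue S s) = _
    rw [ResidueField.map_residue]; rfl
  refine ⟨Groth.Agent.R2.H3.WLocSquare.henselianLocalRing_of_ringEquiv e, ?_, ?_⟩
  · have h1 := hS.isSepClosure
    haveI := h1.sep_closed
    haveI := h1.separable
    exact ⟨Groth.Agent.R2.H3.WLocSquare.isSepClosed_of_ringEquiv ε.toRingEquiv,
      AlgEquiv.Algebra.isSeparable ε⟩
  · intro T _ _ f hf τ hτ
    have hτ' : (τ.comp (ε : ResidueField S →+* ResidueField R)).comp
        (ResidueField.map (algebraMap A S)) = ResidueField.map f := by
      rw [← hτ]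
      ext x
      obtain ⟨a, rfl⟩ := residue_surjective x
      simp only [RingHom.comp_apply, ResidueField.map_residue]
      congr 1
      show ε (residue S _) = _
      rw [hεres, he]
    obtain ⟨g, ⟨hg1, hg2⟩, hguniq⟩ := hS.universal T f
      (τ.comp (ε : ResidueField S →+* ResidueField R)) hτ'
    refine ⟨g.comp (e.symm : R →+* S), ⟨?_, ?_⟩, ?_⟩
    · ext a
      have := RingHom.congr_fun hg1 a
      simp only [RingHom.comp_apply] at this ⊢
      rw [← he a]
      simpa using this
    · intro x
      have := hg2 (e.symm x)
      simp only [RingHom.comp_apply] at this ⊢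
      rw [RingEquiv.coe_toRingHom, this]
      congr 1
      show ε (residue S _) = _
      rw [hεres]
      simp
    · intro g' ⟨hg'1, hg'2⟩
      have := hguniq (g'.comp (e : S →+* R)) ⟨?_, ?_⟩
      · rw [← this]
        ext x
        simp
      · ext a
        have := RingHom.congr_fun hg'1 a
        simp only [RingHom.comp_apply] at this ⊢
        rw [RingEquiv.coe_toRingHom, he a]
        exact this
      · intro x
        have := hg'2 (e x)
        simp only [RingHom.comp_apply] at this ⊢
        rw [RingEquiv.coe_toRingHom, this]
        congr 1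

open Groth.Agent.Lib.Helper14.WEField in
/-- the residue field extension of a weakly étale local homomorphism is separable -/
theorem isSeparable_residueField (A B : Type u) [CommRing A] [IsLocalRing A] [CommRing B]
    [IsLocalRing B] [Algebra A B] [IsLocalHom (algebraMap A B)] [Algebra.WeaklyEtale A B] :
    Algebra.IsSeparable (ResidueField A) (ResidueField B) := by
  let C := ResidueField A ⊗[A] B
  have hC : IsSepAlg (ResidueField A) C := exists_separable_aeval_eq_zero (ResidueField A) C
  let ψ : C →ₐ[ResidueField A] ResidueField B :=
    Algebra.TensorProduct.lift (Algebra.ofId (ResidueField A) (ResidueField B))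
      (IsScalarTower.toAlgHom A B (ResidueField B)) (fun _ _ => Commute.all _ _)
  constructor
  intro y
  obtain ⟨b, rfl⟩ := residue_surjective y
  obtain ⟨f, hf, hfb⟩ := hC ((1 : ResidueField A) ⊗ₜ[A] b)
  have h1 : ψ ((1 : ResidueField A) ⊗ₜ[A] b) = residue B b := by
    show Algebra.TensorProduct.lift (Algebra.ofId (ResidueField A) (ResidueField B))
      (IsScalarTower.toAlgHom A B (ResidueField B)) (fun _ _ => Commute.all _ _)
      ((1 : ResidueField A) ⊗ₜ[A] b) = _
    rw [Algebra.TensorProduct.lift_tmul, map_one, one_mul]
    rfl
  have h2 : aeval (residue B b) f = 0 := by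
    rw [← h1, Polynomial.aeval_algHom_apply, hfb, map_zero]
  exact hf.of_dvd (minpoly.dvd _ _ h2)

/-- If `A → B` is a weakly étale local homomorphism, a strict henselization of `B` is a strict
henselization of `A`. -/
theorem isStrictHenselization_of_weaklyEtale (A B R : Type u) [CommRing A] [IsLocalRing A]
    [CommRing B] [IsLocalRing B] [CommRing R] [IsLocalRing R]
    [Algebra A B] [IsLocalHom (algebraMap A B)] [Algebra.WeaklyEtale A B]
    [Algebra B R] [IsLocalHom (algebraMap B R)] [hR : Hensel.IsStrictHenselization B R]
    [Algebra A R] [IsScalarTower A B R] :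
    ∃ _ : IsLocalHom (algebraMap A R), Hensel.IsStrictHenselization A R := by
  haveI hloc : IsLocalHom (algebraMap A R) := by
    rw [IsScalarTower.algebraMap_eq A B R]
    exact RingHom.isLocalHom_comp _ _
  refine ⟨hloc, ?_⟩
  haveI := hR.henselian
  -- the residue field of `R` is a separable closure of that of `A`
  haveI hsepAB := isSeparable_residueField A B
  haveI hsepBR : Algebra.IsSeparable (ResidueField B) (ResidueField R) := hR.isSepClosure.separable
  haveI hscR : IsSepClosed (ResidueField R) := hR.isSepClosure.sep_closed
  haveI hsepAR : Algebra.IsSeparable (ResidueField A) (ResidueField R) :=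
    Algebra.IsSeparable.trans (ResidueField A) (ResidueField B) (ResidueField R)
  haveI hclAR : IsSepClosure (ResidueField A) (ResidueField R) := ⟨hscR, hsepAR⟩
  -- a strict henselization of `A`
  obtain ⟨Ash, _, _, _, _, hAsh⟩ := Groth.Agent.S0537.result A
  haveI := hAsh.henselian
  haveI := hAsh.isSepClosure
  haveI : IsSepClosed (ResidueField Ash) := hAsh.isSepClosure.sep_closed
  let τ₀ : ResidueField Ash ≃ₐ[ResidueField A] ResidueField R :=
    IsSepClosure.equiv (ResidueField A) (ResidueField Ash) (ResidueField R)
  have hτ₀ : (τ₀ : ResidueField Ash →+* ResidueField R).comp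
      (ResidueField.map (algebraMap A Ash)) = ResidueField.map (algebraMap A R) := by
    ext x
    obtain ⟨a, rfl⟩ := residue_surjective x
    simp only [RingHom.comp_apply, ResidueField.map_residue]
    have := τ₀.commutes (residue A a)
    rw [ResidueField.algebraMap_residue, ResidueField.algebraMap_residue] at this
    exact this
  obtain ⟨g, ⟨hg1, hg2⟩, -⟩ := hAsh.universal R (algebraMap A R)
    (τ₀ : ResidueField Ash →+* ResidueField R) hτ₀
  letI : Algebra Ash R := g.toAlgebra
  haveI : IsScalarTower A Ash R := IsScalarTower.of_algebraMap_eq (fun a =>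
    (RingHom.congr_fun hg1 a).symm)
  haveI : IsLocalHom (algebraMap Ash R) := by
    refine ⟨fun x hx => ?_⟩
    by_contra hnx
    have h0 : residue Ash x = 0 := (residue_eq_zero_iff x).mpr ((mem_maximalIdeal x).mpr hnx)
    have h1 : residue R (g x) = 0 := by
      rw [hg2 x, h0]; exact map_zero _
    exact ((residue_eq_zero_iff (g x)).mp h1) hx
  -- weak étaleness of `Ash → R`
  haveI : Algebra.WeaklyEtale A Ash :=
    Groth.Agent.S0736.result A Ash (Groth.Agent.S12237.result A Ash)
  haveI : Algebra.WeaklyEtale B R :=
    Groth.Agent.S0736.result B R (Groth.Agent.S12237.result B R)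
  haveI : Algebra.WeaklyEtale A R := Algebra.WeaklyEtale.trans A B R
  haveI : Algebra.WeaklyEtale Ash R := Groth.Agent.S7127.result A Ash R
  have hbij : Function.Bijective (algebraMap Ash R) :=
    Groth.Agent.R2.H3.OlivierC.bijective_algebraMap Ash R
  exact isStrictHenselization_of_ringEquiv_top (A := A) (S := Ash) (R := R)
    (RingEquiv.ofBijective (algebraMap Ash R) hbij)
    (fun a => (IsScalarTower.algebraMap_apply A Ash R a).symm)

/-- Conversely, if a strict henselization of `B` is also a strict henselization of `A`, then
`A → B` is weakly étale. -/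
theorem weaklyEtale_of_isStrictHenselization (A B R : Type u) [CommRing A] [IsLocalRing A]
    [CommRing B] [IsLocalRing B] [CommRing R] [IsLocalRing R]
    [Algebra A B] [Algebra B R] [IsLocalHom (algebraMap B R)] [Hensel.IsStrictHenselization B R]
    [Algebra A R] [IsScalarTower A B R] [IsLocalHom (algebraMap A R)]
    [Hensel.IsStrictHenselization A R] : Algebra.WeaklyEtale A B := by
  haveI : Algebra.WeaklyEtale A R :=
    Groth.Agent.S0736.result A R (Groth.Agent.S12237.result A R)
  haveI : Module.FaithfullyFlat B R := Groth.Agent.S0539.result B R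
  exact Groth.Agent.S1996.result A B R

end Groth.Agent.R2.H3.StrictHens
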