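import Mathlib
import Groth.Prelude.Def_Hens2
import Groth.Agent.R2.H3StrictLocA

/-!
# Specialization maps between strict localizations of a scheme (helper3)
-/

set_option autoImplicit false
set_option linter.style.haveILetI false
universe u
open CategoryTheory CategoryTheory.Limits AlgebraicGeometry Opposite IsLocalRing

namespace Groth.Agent.R2.H3.StrictLoc

/-- comparing two maps from an affine scheme to `X` through the local schemes at `x` and `x'` -/
theorem specMap_fromSpecStalk_eq_iff {X : Scheme.{u}} {x x' : X} (h : x' ⤳ x) {B : CommRingCat.{u}}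
    (a : X.presheaf.stalk x ⟶ B) (b : X.presheaf.stalk x' ⟶ B) :
    Spec.map a ≫ X.fromSpecStalk x = Spec.map b ≫ X.fromSpecStalk x' ↔
      a = X.presheaf.stalkSpecializes h ≫ b := by
  rw [← Scheme.SpecMap_stalkSpecializes_fromSpecStalk h, ← Category.assoc, ← Spec.map_comp,
    cancel_mono]
  exact Spec.map_injective.eq_iff

variable (X : Scheme.{u}) (x x' : X)
  (R : Type u) [CommRing R] [IsLocalRing R] [Algebra (X.presheaf.stalk x) R]
  [IsLocalHom (algebraMap (X.presheaf.stalk x) R)]

/-- the strict localization at `x` sends the closed point to `x` -/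
theorem specOf_closedPoint :
    (Hens2.specOf X x R).base (closedPoint R) = x := by
  have h1 : (Spec.map (CommRingCat.ofHom (algebraMap (X.presheaf.stalk x) R))).base
      (closedPoint R) = closedPoint (X.presheaf.stalk x) :=
    IsLocalRing.comap_closedPoint (algebraMap (X.presheaf.stalk x) R)
  rw [Hens2.specOf, Scheme.Hom.comp_base, TopCat.comp_app, h1]
  exact Scheme.fromSpecStalk_closedPoint

/-- any point of `Spec R` maps to a generization of `x` -/
theorem specOf_specializes (p : Spec (CommRingCat.of R)) :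
    (Hens2.specOf X x R).base p ⤳ x := by
  have := (IsLocalRing.specializes_closedPoint (R := R) p).map (Hens2.specOf X x R).continuous
  rwa [specOf_closedPoint] at this

variable (R' : Type u) [CommRing R'] [IsLocalRing R'] [Algebra (X.presheaf.stalk x') R']
  [IsLocalHom (algebraMap (X.presheaf.stalk x') R')]

/-- an `X`-morphism between strict localizations forces a specialization -/
theorem specializes_of_comp_specOf (g : Spec (CommRingCat.of R') ⟶ Spec (CommRingCat.of R))
    (hg : g ≫ Hens2.specOf X x R = Hens2.specOf X x' R') : x' ⤳ x := by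
  have := specOf_specializes X x R (g.base (closedPoint R'))
  rw [← TopCat.comp_app, ← Scheme.Hom.comp_base, hg, specOf_closedPoint] at this
  exact this

/-- an `X`-morphism from the geometric point over `x'` to the strict localization at `x` forces a
specialization -/
theorem specializes_of_comp_specOf_eq_geomPt
    (h : Spec (CommRingCat.of (ResidueField R')) ⟶ Spec (CommRingCat.of R))
    (hh : h ≫ Hens2.specOf X x R = Hens2.geomPt X x' R') : x' ⤳ x := by
  let pt : Spec (CommRingCat.of (ResidueField R')) := closedPoint (ResidueField R')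
  have := specOf_specializes X x R (h.base pt)
  rw [← TopCat.comp_app, ← Scheme.Hom.comp_base, hh, Hens2.geomPt, Scheme.Hom.comp_base,
    TopCat.comp_app] at this
  have h1 : (Spec.map (CommRingCat.ofHom (residue R'))).base pt = closedPoint R' :=
    comap_closedPoint (residue R')
  rw [h1, specOf_closedPoint] at this
  exact this

variable [Hensel.IsStrictHenselization (X.presheaf.stalk x) R]
  [Hensel.IsStrictHenselization (X.presheaf.stalk x') R']

omit [IsLocalRing R] [IsLocalHom (algebraMap (X.presheaf.stalk x) R)] [IsLocalRing R']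
  [IsLocalHom (algebraMap (X.presheaf.stalk x') R')]
  [Hensel.IsStrictHenselization (X.presheaf.stalk x) R]
  [Hensel.IsStrictHenselization (X.presheaf.stalk x') R'] in
/-- translation: `X`-morphisms `Spec R' ⟶ Spec R` are ring maps over the specialization map -/
theorem specMap_comp_specOf_iff (h : x' ⤳ x) (ψ : R →+* R') :
    Spec.map (CommRingCat.ofHom ψ) ≫ Hens2.specOf X x R = Hens2.specOf X x' R' ↔
      ψ.comp (algebraMap (X.presheaf.stalk x) R) =
        (algebraMap (X.presheaf.stalk x') R').comp (X.presheaf.stalkSpecializes h).hom := by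
  rw [Hens2.specOf, Hens2.specOf, ← Category.assoc, ← Spec.map_comp,
    specMap_fromSpecStalk_eq_iff h]
  constructor
  · intro e
    ext a
    exact congrArg (fun f => f.hom a) e
  · intro e
    ext a
    exact RingHom.congr_fun e a

/-- S5593 -/
theorem exists_iff_specializes :
    (∃ g : Spec (CommRingCat.of R') ⟶ Spec (CommRingCat.of R),
      g ≫ Hens2.specOf X x R = Hens2.specOf X x' R') ↔ x' ⤳ x := by
  constructor
  · rintro ⟨g, hg⟩
    exact specializes_of_comp_specOf X x x' R R' g hg
  · intro h
    obtain ⟨ψ, hψ⟩ := exists_ringHom (X.presheaf.stalk x) (X.presheaf.stalk x') R R'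
      (X.presheaf.stalkSpecializes h).hom
    exact ⟨Spec.map (CommRingCat.ofHom ψ), (specMap_comp_specOf_iff X x x' R R' h ψ).2 hψ⟩

/-- S5594, injectivity -/
theorem eq_of_residue_comp_eq (g₁ g₂ : Spec (CommRingCat.of R') ⟶ Spec (CommRingCat.of R))
    (h₁ : g₁ ≫ Hens2.specOf X x R = Hens2.specOf X x' R')
    (h₂ : g₂ ≫ Hens2.specOf X x R = Hens2.specOf X x' R')
    (he : Spec.map (CommRingCat.ofHom (IsLocalRing.residue R')) ≫ g₁ =
      Spec.map (CommRingCat.ofHom (IsLocalRing.residue R')) ≫ g₂) : g₁ = g₂ := by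
  have h := specializes_of_comp_specOf X x x' R R' g₁ h₁
  obtain ⟨ψ₁, rfl⟩ : ∃ ψ : R →+* R', Spec.map (CommRingCat.ofHom ψ) = g₁ :=
    ⟨(Spec.preimage g₁).hom, by simp⟩
  obtain ⟨ψ₂, rfl⟩ : ∃ ψ : R →+* R', Spec.map (CommRingCat.ofHom ψ) = g₂ :=
    ⟨(Spec.preimage g₂).hom, by simp⟩
  rw [specMap_comp_specOf_iff X x x' R R' h] at h₁ h₂
  rw [← Spec.map_comp, ← Spec.map_comp] at he
  have he' : (residue R').comp ψ₁ = (residue R').comp ψ₂ := by
    have := Spec.map_injective he
    ext r
    exact congrArg (fun f => f.hom r) this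
  obtain ⟨ψ, -, huniq⟩ := existsUnique_ringHom (X.presheaf.stalk x) (X.presheaf.stalk x') R R'
    (X.presheaf.stalkSpecializes h).hom ((residue R').comp ψ₁) (by
      rw [RingHom.comp_assoc, h₁, RingHom.comp_assoc])
  rw [huniq ψ₁ ⟨h₁, rfl⟩, huniq ψ₂ ⟨h₂, he'.symm⟩]

/-- S5594, surjectivity -/
theorem exists_of_geomPt
    (h : Spec (CommRingCat.of (IsLocalRing.ResidueField R')) ⟶ Spec (CommRingCat.of R))
    (hh : h ≫ Hens2.specOf X x R = Hens2.geomPt X x' R') :
    ∃ g : Spec (CommRingCat.of R') ⟶ Spec (CommRingCat.of R),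
      g ≫ Hens2.specOf X x R = Hens2.specOf X x' R' ∧
      Spec.map (CommRingCat.ofHom (IsLocalRing.residue R')) ≫ g = h := by
  have hs := specializes_of_comp_specOf_eq_geomPt X x x' R R' h hh
  obtain ⟨φ, rfl⟩ : ∃ φ : R →+* ResidueField R', Spec.map (CommRingCat.ofHom φ) = h :=
    ⟨(Spec.preimage h).hom, by simp⟩
  have hφ : φ.comp (algebraMap (X.presheaf.stalk x) R) =
      ((residue R').comp (algebraMap (X.presheaf.stalk x') R')).comp
        (X.presheaf.stalkSpecializes hs).hom := by
    rw [Hens2.geomPt, Hens2.specOf, Hens2.specOf, ← Category.assoc, ← Spec.map_comp,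
      ← Category.assoc, ← Spec.map_comp, specMap_fromSpecStalk_eq_iff hs] at hh
    ext a
    exact congrArg (fun f => f.hom a) hh
  obtain ⟨ψ, ⟨h1, h2⟩, -⟩ := existsUnique_ringHom (X.presheaf.stalk x) (X.presheaf.stalk x') R R'
    (X.presheaf.stalkSpecializes hs).hom φ hφ
  refine ⟨Spec.map (CommRingCat.ofHom ψ), (specMap_comp_specOf_iff X x x' R R' hs ψ).2 h1, ?_⟩
  rw [← Spec.map_comp, ← CommRingCat.ofHom_comp, h2]

end Groth.Agent.R2.H3.StrictLoc
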