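import Mathlib
import Groth.Prelude.Def_ProEtW
import Groth.Agent.Lib.Helper9WC2

/-!
# w-contractible rings are stable under "localization onto the specializing locus" (helper3, round 2)

Also: localizations, binary products of weakly étale algebras are weakly étale.
-/

set_option autoImplicit false
set_option linter.style.haveILetI false
open CategoryTheory CategoryTheory.Limits TensorProduct AlgebraicGeometry
universe u
namespace Groth.Agent.R2.H3.WCLoc

/-- An idempotent that is nilpotent vanishes. -/
lemma eq_zero_of_idem_of_nilpotent {R : Type*} [CommRing R] {e : R} (he : IsIdempotentElem e)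
    (hn : IsNilpotent e) : e = 0 := by
  obtain ⟨n, hn⟩ := hn
  cases n with
  | zero =>
    rw [pow_zero] at hn
    have : e = e * 1 := (mul_one e).symm
    rw [this, hn, mul_zero]
  | succ n => rw [← he.pow_succ_eq n, hn]

/-- Localizations are weakly étale. -/
theorem weaklyEtale_of_isLocalization {A B : Type u} [CommRing A] [CommRing B] [Algebra A B]
    (S : Submonoid A) [IsLocalization S B] : Algebra.WeaklyEtale A B where
  flat := IsLocalization.flat B S
  flat_lmul' := by
    apply RingHom.Flat.of_bijective
    exact IsLocalization.bijective_linearMap_mul' S B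

/-- A binary product of weakly étale algebras is weakly étale. -/
theorem weaklyEtale_prod {A : Type u} [CommRing A] (R S : Type u) [CommRing R] [CommRing S]
    [Algebra A R] [Algebra A S] [Algebra.WeaklyEtale A R] [Algebra.WeaklyEtale A S] :
    Algebra.WeaklyEtale A (R × S) := by
  rw [← Groth.Agent.Lib.Helper9.WC.weaklyEtale_SpecMap_iff]
  have hR : WeaklyEtale (Spec.map (CommRingCat.ofHom (algebraMap A R))) :=
    (Groth.Agent.Lib.Helper9.WC.weaklyEtale_SpecMap_iff A R).2 inferInstance
  have hS : WeaklyEtale (Spec.map (CommRingCat.ofHom (algebraMap A S))) :=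
    (Groth.Agent.Lib.Helper9.WC.weaklyEtale_SpecMap_iff A S).2 inferInstance
  have h : WeaklyEtale (coprodSpec R S ≫ Spec.map (CommRingCat.ofHom (algebraMap A (R × S)))) := by
    rw [IsZariskiLocalAtSource.iff_of_openCover (P := @WeaklyEtale) (coprodOpenCover.{_, 0} _ _)]
    rintro (x | x)
    · show WeaklyEtale (coprod.inl ≫ coprodSpec R S ≫ _)
      rw [coprodSpec_inl_assoc, ← Spec.map_comp]
      exact hR
    · show WeaklyEtale (coprod.inr ≫ coprodSpec R S ≫ _)
      rw [coprodSpec_inr_assoc, ← Spec.map_comp]
      exact hS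
  exact (MorphismProperty.cancel_left_of_respectsIso @WeaklyEtale _ _).1 h

section
variable {A : Type u} [CommRing A]

lemma range_comap_le_fst (R S : Type u) [CommRing R] [CommRing S] [Algebra A R] [Algebra A S] :
    Set.range (PrimeSpectrum.comap (algebraMap A R)) ⊆
      Set.range (PrimeSpectrum.comap (algebraMap A (R × S))) := by
  rintro _ ⟨q, rfl⟩
  refine ⟨PrimeSpectrum.comap (RingHom.fst R S) q, ?_⟩
  rw [← PrimeSpectrum.comap_comp_apply]
  rfl

lemma range_comap_le_snd (R S : Type u) [CommRing R] [CommRing S] [Algebra A R] [Algebra A S] :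
    Set.range (PrimeSpectrum.comap (algebraMap A S)) ⊆
      Set.range (PrimeSpectrum.comap (algebraMap A (R × S))) := by
  rintro _ ⟨q, rfl⟩
  refine ⟨PrimeSpectrum.comap (RingHom.snd R S) q, ?_⟩
  rw [← PrimeSpectrum.comap_comp_apply]
  rfl

lemma range_comap_le_pi {ι : Type u} (F : ι → Type u) [∀ i, CommRing (F i)] [∀ i, Algebra A (F i)]
    (i : ι) : Set.range (PrimeSpectrum.comap (algebraMap A (F i))) ⊆
      Set.range (PrimeSpectrum.comap (algebraMap A (Π i, F i))) := by
  rintro _ ⟨q, rfl⟩
  refine ⟨PrimeSpectrum.comap (Pi.evalRingHom F i) q, ?_⟩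
  rw [← PrimeSpectrum.comap_comp_apply]
  rfl

end

theorem isWContractible_localization {A B : Type u} [CommRing A] [CommRing B]
    [Algebra A B] (S : Submonoid A) [IsLocalization S B] (E : Finset A)
    (hB : Set.range (PrimeSpectrum.comap (algebraMap A B)) =
      {x | ∃ z : PrimeSpectrum A, z ∈ PrimeSpectrum.zeroLocus (R := A) E ∧ x ⤳ z})
    (hA : EtPBC.IsWContractible A) : EtPBC.IsWContractible B := by
  intro C _ _ hff hwe
  letI : Algebra A C := ((algebraMap B C).comp (algebraMap A B)).toAlgebra
  haveI : IsScalarTower A B C := IsScalarTower.of_algebraMap_eq (fun _ => rfl)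
  haveI : Algebra.WeaklyEtale A B := weaklyEtale_of_isLocalization S
  haveI : Algebra.WeaklyEtale A C := Algebra.WeaklyEtale.trans A B C
  let Q : Type u := Π f : {f // f ∈ E}, Localization.Away (f : A)
  haveI : Algebra.WeaklyEtale A (Q × C) := weaklyEtale_prod _ _
  have hsurj : Function.Surjective (PrimeSpectrum.comap (algebraMap A (Q × C))) := by
    intro p
    by_cases hp : ∃ f : {f // f ∈ E}, (f : A) ∉ p.asIdeal
    · obtain ⟨f, hf⟩ := hp
      apply range_comap_le_fst Q C
      apply range_comap_le_pi (fun f : {f // f ∈ E} => Localization.Away (f : A)) f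
      rw [PrimeSpectrum.localization_away_comap_range (Localization.Away (f : A)) (f : A)]
      exact hf
    · push Not at hp
      apply range_comap_le_snd Q C
      have hpB : p ∈ Set.range (PrimeSpectrum.comap (algebraMap A B)) := by
        rw [hB]
        refine ⟨p, ?_, specializes_rfl⟩
        intro f hf
        exact hp ⟨f, hf⟩
      obtain ⟨q, rfl⟩ := hpB
      obtain ⟨q', rfl⟩ := PrimeSpectrum.comap_surjective_of_faithfullyFlat (A := B) (B := C) q
      refine ⟨q', ?_⟩
      rw [← PrimeSpectrum.comap_comp_apply]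
      rfl
  haveI : Module.FaithfullyFlat A (Q × C) :=
    Module.FaithfullyFlat.of_comap_surjective hsurj
  obtain ⟨r⟩ := hA (Q × C) inferInstance inferInstance
  classical
  -- the idempotents
  set ε : {f // f ∈ E} → A := fun f => r ((Pi.single f 1 : Q), (0 : C)) with hε
  set ε' : A := r ((0 : Q), (1 : C)) with hε'
  have hidem : ∀ f, ε f * ε f = ε f := fun f => by
    simp only [hε]
    rw [← map_mul, Prod.mk_mul_mk, ← Pi.single_mul, mul_one, mul_zero]
  have hsum : ε' + ∑ f, ε f = 1 := by
    simp only [hε, hε']
    rw [← map_sum, ← map_add]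
    have h1 : (∑ f : {f // f ∈ E}, ((Pi.single f 1 : Q), (0 : C))) = ((1 : Q), (0 : C)) := by
      rw [Prod.ext_iff]
      refine ⟨?_, ?_⟩
      · rw [Prod.fst_sum]
        exact Finset.univ_sum_single (1 : Q)
      · rw [Prod.snd_sum]
        exact Finset.sum_const_zero
    rw [h1, Prod.mk_add_mk, zero_add, add_zero]
    exact map_one r
  -- Step 1
  have h1 : ∀ (f : {f // f ∈ E}) (p : PrimeSpectrum A),
      p ∈ Set.range (PrimeSpectrum.comap (algebraMap A B)) → ε f ∈ p.asIdeal := by
    intro f p hp
    rw [hB] at hp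
    obtain ⟨z, hz, hpz⟩ := hp
    have hfz : (f : A) ∈ z.asIdeal := hz f.2
    have hle : p.asIdeal ≤ z.asIdeal := (PrimeSpectrum.le_iff_specializes p z).2 hpz
    have hg : ((f : A) • (((Pi.single f 1 : Q), (0 : C)) : Q × C)) *
        ((Pi.single f (IsLocalization.Away.invSelf (f : A)) : Q), (0 : C)) =
        ((Pi.single f 1 : Q), (0 : C)) := by
      rw [Prod.smul_mk, Prod.mk_mul_mk, smul_zero, mul_zero, ← Pi.single_smul, ← Pi.single_mul]
      congr 2
      rw [Algebra.smul_def, mul_one]
      exact IsLocalization.Away.mul_invSelf (f : A)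
    have hg' : (f : A) * (ε f *
        r ((Pi.single f (IsLocalization.Away.invSelf (f : A)) : Q), (0 : C))) = ε f := by
      have := congrArg r hg
      rw [map_mul, map_smul, smul_eq_mul] at this
      rw [← mul_assoc]
      exact this
    have hεz : ε f ∈ z.asIdeal := by
      rw [← hg']
      exact Ideal.mul_mem_right _ _ hfz
    by_contra hεp
    have h0 : (1 - ε f) * ε f ∈ p.asIdeal := by
      rw [sub_mul, one_mul, hidem, sub_self]
      exact Ideal.zero_mem _
    have h2 : 1 - ε f ∈ p.asIdeal := (p.isPrime.mem_or_mem h0).resolve_right hεp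
    have h3 : (1 : A) ∈ z.asIdeal := by
      have := Ideal.add_mem _ (hle h2) hεz
      rwa [sub_add_cancel] at this
    exact z.isPrime.ne_top ((Ideal.eq_top_iff_one _).2 h3)
  -- Step 2
  have h2 : ∀ f : {f // f ∈ E}, algebraMap A B (ε f) = 0 := by
    intro f
    apply eq_zero_of_idem_of_nilpotent
    · show algebraMap A B (ε f) * algebraMap A B (ε f) = algebraMap A B (ε f)
      rw [← map_mul, hidem]
    · rw [nilpotent_iff_mem_prime]
      intro J hJ
      exact h1 f (PrimeSpectrum.comap (algebraMap A B) ⟨J, hJ⟩) ⟨_, rfl⟩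
  -- Step 3
  have h3 : algebraMap A B ε' = 1 := by
    have := congrArg (algebraMap A B) hsum
    rw [map_add, map_sum, map_one] at this
    rw [← this]
    simp [h2]
  -- Step 4
  let ρ : C →+* B :=
    { toFun := fun c => algebraMap A B (r ((0 : Q), c))
      map_one' := h3
      map_mul' := fun c c' => by
        rw [← map_mul, ← map_mul, Prod.mk_mul_mk, mul_zero]
      map_zero' := by
        rw [show (((0 : Q), (0 : C)) : Q × C) = 0 from rfl, map_zero, map_zero]
      map_add' := fun c c' => by
        rw [← map_add, ← map_add, Prod.mk_add_mk, add_zero] }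
  have hρ : ρ.comp (algebraMap B C) = RingHom.id B := by
    apply IsLocalization.ringHom_ext S
    ext a
    show algebraMap A B (r ((0 : Q), algebraMap B C (algebraMap A B a))) = algebraMap A B a
    have : (((0 : Q), algebraMap B C (algebraMap A B a)) : Q × C) = a • ((0 : Q), (1 : C)) := by
      rw [Prod.smul_mk, smul_zero, Algebra.smul_def, mul_one]
      rfl
    rw [this, map_smul, smul_eq_mul, map_mul, h3, mul_one]
  exact ⟨{ ρ with commutes' := fun b => congrArg (fun φ : B →+* B => φ b) hρ }⟩

end Groth.Agent.R2.H3.WCLoc
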