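import Mathlib
import Groth.Agent.R2.H3IntClosedB
import Groth.Agent.Lib.Helper14WEFlat
import Groth.Agent.Lib.Helper14WEField

/-!
# Weakly étale algebras over normal domains are normal (Stacks 0950)
-/

set_option autoImplicit false
universe u
open TensorProduct Polynomial

namespace Groth.Agent.R2.H3.WENormal

/-- A nontrivial weakly étale algebra over a field with only trivial idempotents is a field. -/
theorem isField_of_trivial_idempotents (K L : Type u) [Field K] [CommRing L] [Algebra K L]
    [Nontrivial L] [Algebra.WeaklyEtale K L]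
    (hid : ∀ e : L, IsIdempotentElem e → e = 0 ∨ e = 1) : IsField L := by
  refine ⟨exists_pair_ne L, mul_comm, ?_⟩
  intro x hx
  haveI : Module.Flat L (L ⧸ Ideal.span {x}) :=
    Groth.Agent.Lib.Helper14.WEFlat.flat_of_flat_of_weaklyEtale K L (L ⧸ Ideal.span {x})
  obtain ⟨e, he, hex⟩ := Groth.Agent.Lib.Helper14.WEField.exists_mul_eq_of_flat_quotient
    (Ideal.span {x}) (t := x) (Ideal.subset_span rfl)
  obtain ⟨y, rfl⟩ := Ideal.mem_span_singleton'.mp he
  have hidem : IsIdempotentElem (y * x) := by
    rw [IsIdempotentElem]
    calc y * x * (y * x) = y * (y * x * x) := by ring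
      _ = y * x := by rw [hex]
  rcases hid _ hidem with h | h
  · exact absurd (by rw [← hex, h, zero_mul]) hx
  · exact ⟨y, by rw [mul_comm]; exact h⟩

attribute [local instance] Algebra.TensorProduct.rightAlgebra in
/-- **Stacks 0950.** A nontrivial weakly étale algebra `S` with only trivial idempotents over a
normal domain `R` is a normal domain. -/
theorem isDomain_isIntegrallyClosed (R : Type u) [CommRing R] [IsDomain R] [IsIntegrallyClosed R]
    (S : Type u) [CommRing S] [Algebra R S] [Algebra.WeaklyEtale R S] [Nontrivial S]
    (hid : ∀ e : S, IsIdempotentElem e → e = 0 ∨ e = 1) :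
    IsDomain S ∧ IsIntegrallyClosed S := by
  let K := FractionRing R
  let L := K ⊗[R] S
  have hinj : Function.Injective (algebraMap S L) :=
    Algebra.TensorProduct.includeRight_injective (IsFractionRing.injective R K)
  haveI : Nontrivial L := hinj.nontrivial
  have hic : ∀ x : L, IsIntegral S x → ∃ b : S, algebraMap S L b = x := by
    intro x hx
    obtain ⟨b, hb⟩ := Groth.Agent.R2.H3.IntClosedB.exists_of_isIntegralElem R K S x hx
    exact ⟨b, hb⟩
  have hidL : ∀ e : L, IsIdempotentElem e → e = 0 ∨ e = 1 := by
    intro e he
    have hint : IsIntegral S e := by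
      refine ⟨X ^ 2 - X, monic_X_pow_sub (by simp), ?_⟩
      rw [eval₂_sub, eval₂_X_pow, eval₂_X, pow_two, he.eq, sub_self]
    obtain ⟨b, rfl⟩ := hic e hint
    have hb : IsIdempotentElem b := by
      apply hinj
      rw [map_mul]
      exact he
    rcases hid b hb with h | h
    · left; rw [h, map_zero]
    · right; rw [h, map_one]
  have hfield : IsField L := isField_of_trivial_idempotents K L hidL
  letI : Field L := hfield.toField
  haveI : IsDomain S := hinj.isDomain (algebraMap S L)
  -- `L` is the fraction field of `S`
  haveI hloc : IsLocalization (Algebra.algebraMapSubmonoid S (nonZeroDivisors R)) L :=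
    inferInstance
  haveI : IsFractionRing S L := by
    refine IsLocalization.of_le (Algebra.algebraMapSubmonoid S (nonZeroDivisors R)) _ ?_ ?_
    · rintro _ ⟨r, hr, rfl⟩
      rw [mem_nonZeroDivisors_iff_ne_zero]
      intro h0
      have h1 : algebraMap S L (algebraMap R S r) = 0 := by rw [h0, map_zero]
      have h2 : algebraMap S L (algebraMap R S r) = algebraMap K L (algebraMap R K r) := by
        simp [Algebra.TensorProduct.algebraMap_apply, Algebra.algebraMap_eq_smul_one,
          TensorProduct.smul_tmul]
      rw [h2] at h1
      have h3 := (map_eq_zero (algebraMap K L)).mp h1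
      exact (nonZeroDivisors.ne_zero hr) ((IsFractionRing.to_map_eq_zero_iff).mp h3)
    · intro s hs
      have : algebraMap S L s ≠ 0 := fun h => (nonZeroDivisors.ne_zero hs) (hinj (by rw [h, map_zero]))
      exact isUnit_iff_ne_zero.mpr this
  refine ⟨inferInstance, ?_⟩
  rw [isIntegrallyClosed_iff L]
  intro x hx
  exact hic x hx

end Groth.Agent.R2.H3.WENormal
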