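import Mathlib
import Groth.Prelude.Def_EtBase
import Groth.Agent.S0527

/-!
# Schemes all of whose points are closed: local rings are henselian, basic opens are clopen (helper3)

* `henselianLocalRing_of_nil`: a local ring whose maximal ideal consists of nilpotent elements is
  henselian.
* `isNilpotent_of_mem_maximalIdeal_stalk`: on a scheme all of whose points are closed, every non-unit
  of a local ring is nilpotent.
* `isStrictlyHenselianLocalRing_stalk`: with separably closed residue fields, the local rings are
  strictly henselian.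
* `isClosed_basicOpen`: global basic opens are closed.
-/

set_option autoImplicit false
set_option linter.style.haveILetI false
universe u
open CategoryTheory AlgebraicGeometry IsLocalRing TopologicalSpace Opposite

namespace Groth.Agent.R2.H3.ZeroDim

/-- a local ring whose maximal ideal consists of nilpotent elements is henselian -/
theorem henselianLocalRing_of_nil (R : Type u) [CommRing R] [IsLocalRing R]
    (h : ∀ x ∈ maximalIdeal R, IsNilpotent x) : HenselianLocalRing R := by
  have hH : HenselianRing R (maximalIdeal R) := Groth.Agent.S0527.result R (maximalIdeal R) h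
  exact
    { is_henselian := fun f hf a₀ h₁ h₂ =>
        hH.is_henselian f hf a₀ h₁ (h₂.map (Ideal.Quotient.mk (maximalIdeal R))) }

variable {S : Scheme.{u}}

/-- on a scheme all of whose points are closed, the spectrum of a local ring is a point -/
theorem eq_closedPoint_of_isClosed_singleton (h1 : ∀ s : S, IsClosed ({s} : Set S)) (s : S)
    (p : PrimeSpectrum (S.presheaf.stalk s)) : p = closedPoint (S.presheaf.stalk s) := by
  have hinj : Function.Injective (S.fromSpecStalk s) :=
    (S.fromSpecStalk s).isEmbedding.injective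
  apply hinj
  have hp : (S.fromSpecStalk s) p ∈ Set.range (S.fromSpecStalk s) := ⟨p, rfl⟩
  rw [Scheme.range_fromSpecStalk] at hp
  have hp' : (S.fromSpecStalk s) p ⤳ s := hp
  rw [specializes_iff_mem_closure, (h1 _).closure_eq, Set.mem_singleton_iff] at hp'
  rw [Scheme.fromSpecStalk_closedPoint]
  exact hp'.symm

/-- on a scheme all of whose points are closed, non-units of local rings are nilpotent -/
theorem isNilpotent_of_mem_maximalIdeal_stalk (h1 : ∀ s : S, IsClosed ({s} : Set S)) (s : S)
    (x : S.presheaf.stalk s) (hx : x ∈ maximalIdeal (S.presheaf.stalk s)) : IsNilpotent x := by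
  rw [← mem_nilradical, nilradical_eq_sInf, Ideal.mem_sInf]
  intro J hJ
  have := eq_closedPoint_of_isClosed_singleton h1 s ⟨J, hJ⟩
  have h2 : J = maximalIdeal (S.presheaf.stalk s) := congrArg PrimeSpectrum.asIdeal this
  rw [h2]
  exact hx

/-- all points closed and separably closed residue fields: local rings are strictly henselian -/
theorem isStrictlyHenselianLocalRing_stalk (h1 : ∀ s : S, IsClosed ({s} : Set S))
    (h2 : ∀ s : S, IsSepClosed (S.residueField s)) (s : S) :
    EtCoh.IsStrictlyHenselianLocalRing (S.presheaf.stalk s) :=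
  ⟨henselianLocalRing_of_nil _ (isNilpotent_of_mem_maximalIdeal_stalk h1 s), h2 s⟩

/-- on a scheme all of whose points are closed, global basic opens are closed -/
theorem isClosed_basicOpen (h1 : ∀ s : S, IsClosed ({s} : Set S)) (f : Γ(S, ⊤)) :
    IsClosed ((S.basicOpen f : S.Opens) : Set S) := by
  rw [← isOpen_compl_iff, isOpen_iff_forall_mem_open]
  intro x hx
  have hx' : x ∉ S.basicOpen f := hx
  rw [Scheme.mem_basicOpen_top] at hx'
  have hm : S.presheaf.germ ⊤ x trivial f ∈ maximalIdeal (S.presheaf.stalk x) := hx'
  obtain ⟨n, hn⟩ := isNilpotent_of_mem_maximalIdeal_stalk h1 x _ hm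
  rw [← map_pow] at hn
  have hn' : S.presheaf.germ ⊤ x trivial (f ^ (n + 1)) = S.presheaf.germ ⊤ x trivial 0 := by
    rw [pow_succ, map_mul, hn, zero_mul, map_zero]
  obtain ⟨W, hxW, iU, iV, e⟩ := TopCat.Presheaf.germ_eq S.presheaf (U := ⊤) (V := ⊤) x trivial trivial _ _ hn'
  refine ⟨(W : Set S), ?_, W.isOpen, hxW⟩
  intro y hyW hyf
  have hyf' : y ∈ S.basicOpen f := hyf
  have h3 : S.basicOpen (S.presheaf.map iU.op (f ^ (n + 1))) = W ⊓ S.basicOpen f := by
    rw [Scheme.basicOpen_res, Scheme.basicOpen_pow _ _ (Nat.succ_pos n)]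
  have h4 : S.basicOpen (S.presheaf.map iU.op (f ^ (n + 1))) = ⊥ := by
    have e' : S.presheaf.map iU.op (f ^ (n + 1)) = 0 := by
      refine e.trans ?_
      exact map_zero _
    rw [e', Scheme.basicOpen_zero]
  have h5 : y ∈ W ⊓ S.basicOpen f := ⟨hyW, hyf'⟩
  rw [← h3, h4] at h5
  exact h5

end Groth.Agent.R2.H3.ZeroDim
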