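import Mathlib
import Groth.Prelude.Def_EtZar
import Groth.Agent.R2.H3ZeroDimA

/-!
# Zariski cohomology vanishes on compact spaces with a basis of clopen sets (helper3)

* `exists_pairwiseDisjoint_cover`: in a compact space with a basis of clopen sets, every
  downward-closed covering family of opens contains a pairwise disjoint covering subfamily.
* `surjective_app_top`: on such a (scheme's) space, global sections are right exact on abelian sheaves.
* `projective_constantSheaf`, `subsingleton_H_zar`: the constant sheaf `ℤ` is projective, hence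
  Zariski cohomology vanishes in positive degrees.
* `exists_pairwiseDisjoint_cover_of_affine`: affine schemes all of whose points are closed have
  this property.
-/

set_option autoImplicit false
set_option linter.style.haveILetI false
universe u
open CategoryTheory AlgebraicGeometry TopologicalSpace Opposite Limits

namespace Groth.Agent.R2.H3.ZeroDim

/-- compact space with a basis of clopen sets: every downward-closed covering family of opens
contains a pairwise disjoint covering subfamily -/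
theorem exists_pairwiseDisjoint_cover {X : Type*} [TopologicalSpace X] [CompactSpace X]
    {ℬ : Set (Opens X)} (hℬ : Opens.IsBasis ℬ) (hcl : ∀ B ∈ ℬ, IsClosed (B : Set X))
    (𝒲 : Set (Opens X)) (hdown : ∀ W ∈ 𝒲, ∀ W' : Opens X, W' ≤ W → W' ∈ 𝒲)
    (hcov : ∀ x : X, ∃ W ∈ 𝒲, x ∈ W) :
    ∃ 𝒰 : Set (Opens X), 𝒰 ⊆ 𝒲 ∧ 𝒰.PairwiseDisjoint id ∧ sSup 𝒰 = ⊤ := by
  have hB : ∀ x : X, ∃ B ∈ ℬ, B ∈ 𝒲 ∧ x ∈ B := by
    intro x
    obtain ⟨W, hW, hxW⟩ := hcov x
    obtain ⟨B, hB, hxB, hBW⟩ := Opens.isBasis_iff_nbhd.1 hℬ hxW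
    exact ⟨B, hB, hdown W hW B hBW, hxB⟩
  choose B hBℬ hB𝒲 hxB using hB
  obtain ⟨t, ht⟩ := isCompact_univ.elim_finite_subcover (fun x => (B x : Set X))
    (fun x => (B x).isOpen) (fun x _ => Set.mem_iUnion.2 ⟨x, hxB x⟩)
  have claim : ∀ t : Finset X, ∃ 𝒰 : Set (Opens X), 𝒰 ⊆ 𝒲 ∧ 𝒰.PairwiseDisjoint id ∧
      ((sSup 𝒰 : Opens X) : Set X) = ⋃ x ∈ t, (B x : Set X) := by
    classical
    intro t
    induction t using Finset.induction_on with
    | empty => exact ⟨∅, Set.empty_subset _, Set.pairwiseDisjoint_empty, by simp⟩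
    | insert a t hat ih =>
      obtain ⟨𝒰, h𝒰, hdis, hsup⟩ := ih
      have hC : IsClosed (⋃ x ∈ t, (B x : Set X)) :=
        t.finite_toSet.isClosed_biUnion (fun x _ => hcl _ (hBℬ x))
      let E : Opens X := ⟨(B a : Set X) \ ⋃ x ∈ t, (B x : Set X), (B a).isOpen.sdiff hC⟩
      have hE : E ∈ 𝒲 := hdown _ (hB𝒲 a) E (fun y hy => hy.1)
      refine ⟨insert E 𝒰, Set.insert_subset hE h𝒰, hdis.insert ?_, ?_⟩
      · intro j hj _
        show Disjoint E j
        rw [disjoint_iff]
        ext y
        simp only [Opens.coe_inf, Set.mem_inter_iff, SetLike.mem_coe, Opens.coe_bot,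
          Set.mem_empty_iff_false, iff_false, not_and]
        intro hyE hyj
        have : y ∈ ((sSup 𝒰 : Opens X) : Set X) := (le_sSup hj : j ≤ sSup 𝒰) hyj
        rw [hsup] at this
        exact hyE.2 this
      · rw [sSup_insert, Opens.coe_sup, hsup, Finset.set_biUnion_insert]
        exact Set.sdiff_union_self
  obtain ⟨𝒰, h𝒰, hdis, hsup⟩ := claim t
  refine ⟨𝒰, h𝒰, hdis, ?_⟩
  ext y
  simp only [Opens.coe_top, Set.mem_univ, iff_true]
  rw [hsup]
  exact ht (Set.mem_univ y)

/-- the property of a scheme's space used below -/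
def HasDisjointRefinements (S : Scheme.{u}) : Prop :=
  ∀ 𝒲 : Set S.Opens, (∀ W ∈ 𝒲, ∀ W' : S.Opens, W' ≤ W → W' ∈ 𝒲) →
    (∀ x : S, ∃ W ∈ 𝒲, x ∈ W) →
    ∃ 𝒰 : Set S.Opens, 𝒰 ⊆ 𝒲 ∧ 𝒰.PairwiseDisjoint id ∧ sSup 𝒰 = ⊤

/-- affine schemes all of whose points are closed have disjoint refinements of open covers -/
theorem hasDisjointRefinements_of_affine (S : Scheme.{u}) [IsAffine S]
    (h1 : ∀ s : S, IsClosed ({s} : Set S)) : HasDisjointRefinements S := by
  intro 𝒲 hdown hcov
  refine exists_pairwiseDisjoint_cover (isBasis_basicOpen S) ?_ 𝒲 hdown hcov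
  rintro _ ⟨f, rfl⟩
  exact isClosed_basicOpen h1 f

instance instWEqualsLocallyBijectiveZar (S : Scheme.{u}) :
    (Opens.grothendieckTopology S).WEqualsLocallyBijective AddCommGrpCat.{u + 1} :=
  GrothendieckTopology.WEqualsLocallyBijective.ofEssentiallySmall (A := AddCommGrpCat.{u + 1})
    (Opens.grothendieckTopology S)

variable {S : Scheme.{u}}

/-- global sections are right exact on abelian Zariski sheaves when open covers have disjoint
refinements -/
theorem surjective_app_top (hS : HasDisjointRefinements S)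
    {F G : EtZar.Ab S} (φ : F ⟶ G) [Epi φ] : Function.Surjective (φ.hom.app (op ⊤)) := by
  have hls : Sheaf.IsLocallySurjective φ := (Sheaf.isLocallySurjective_iff_epi' _ φ).2 inferInstance
  intro g
  let 𝒲 : Set S.Opens := {W | ∃ t : F.obj.obj (op W),
    φ.hom.app (op W) t = G.obj.map (homOfLE (le_top : W ≤ ⊤)).op g}
  have hdown : ∀ W ∈ 𝒲, ∀ W' : S.Opens, W' ≤ W → W' ∈ 𝒲 := by
    rintro W ⟨t, ht⟩ W' hW'
    refine ⟨F.obj.map (homOfLE hW').op t, ?_⟩
    have := ConcreteCategory.congr_hom (φ.hom.naturality (homOfLE hW').op) t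
    simp only [ConcreteCategory.comp_apply] at this
    rw [this, ht, ← ConcreteCategory.comp_apply, ← G.obj.map_comp]
    rfl
  have hcov : ∀ x : S, ∃ W ∈ 𝒲, x ∈ W := by
    intro x
    obtain ⟨V, i, ⟨t, ht⟩, hxV⟩ := hls.imageSieve_mem g x trivial
    exact ⟨V, ⟨t, ht⟩, hxV⟩
  obtain ⟨𝒰, h𝒰, hdis, hsup⟩ := hS 𝒲 hdown hcov
  have h𝒰' : ∀ E : 𝒰, ∃ t : F.obj.obj (op (E : S.Opens)),
    φ.hom.app (op (E : S.Opens)) t = G.obj.map (homOfLE (le_top : (E : S.Opens) ≤ ⊤)).op g :=
    fun E => h𝒰 E.2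
  choose t ht using h𝒰'
  let F' : TopCat.Sheaf AddCommGrpCat.{u + 1} S.toTopCat := F
  let G' : TopCat.Sheaf AddCommGrpCat.{u + 1} S.toTopCat := G
  have hcover : (⊤ : S.Opens) ≤ iSup (fun E : 𝒰 => (E : S.Opens)) := by
    rw [← hsup, sSup_eq_iSup']
  have compat : TopCat.Presheaf.IsCompatible F'.1 (fun E : 𝒰 => (E : S.Opens)) t := by
    intro E E'
    rcases eq_or_ne E E' with rfl | hne
    · rfl
    · have hbot : (E : S.Opens) ⊓ (E' : S.Opens) = ⊥ :=
        disjoint_iff.1 (hdis E.2 E'.2 (fun h => hne (Subtype.ext h)))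
      refine TopCat.Sheaf.eq_of_locally_eq' F' (fun e : PEmpty.{1} => e.elim) _ (fun e => e.elim)
        ?_ _ _ (fun e => e.elim)
      rw [hbot]
      exact bot_le
  obtain ⟨s, hs, -⟩ := TopCat.Sheaf.existsUnique_gluing' F' (fun E : 𝒰 => (E : S.Opens)) ⊤
    (fun E => homOfLE le_top) hcover t compat
  refine ⟨s, ?_⟩
  refine TopCat.Sheaf.eq_of_locally_eq' G' (fun E : 𝒰 => (E : S.Opens)) ⊤
    (fun E => homOfLE le_top) hcover _ _ (fun E => ?_)
  have := ConcreteCategory.congr_hom (φ.hom.naturality (homOfLE (le_top : (E : S.Opens) ≤ ⊤)).op) s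
  simp only [ConcreteCategory.comp_apply] at this
  refine this.symm.trans ?_
  rw [← ht E]
  exact congrArg _ (hs E)

theorem uliftZMultiplesAddEquiv_apply' (X : AddCommGrpCat.{u + 1})
    (f : AddCommGrpCat.of (ULift.{u + 1} ℤ) ⟶ X) :
    AddCommGrpCat.uliftZMultiplesAddEquiv X f = f.hom ⟨1⟩ := rfl

/-- `ℤ` (lifted) is a projective abelian group -/
instance projective_ulift_int : Projective (AddCommGrpCat.of (ULift.{u + 1} ℤ)) where
  factors {E X} f e _ := by
    have hsurj : Function.Surjective e := (AddCommGrpCat.epi_iff_surjective e).1 inferInstance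
    obtain ⟨y, hy⟩ := hsurj (AddCommGrpCat.uliftZMultiplesAddEquiv X f)
    refine ⟨(AddCommGrpCat.uliftZMultiplesAddEquiv E).symm y, ?_⟩
    apply (AddCommGrpCat.uliftZMultiplesAddEquiv X).injective
    rw [← hy, uliftZMultiplesAddEquiv_apply']
    have h2 := uliftZMultiplesAddEquiv_apply' E ((AddCommGrpCat.uliftZMultiplesAddEquiv E).symm y)
    rw [AddEquiv.apply_symm_apply] at h2
    rw [AddCommGrpCat.hom_comp, AddMonoidHom.comp_apply, ← h2]

/-- the constant sheaf `ℤ` is projective when open covers have disjoint refinements -/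
theorem projective_constantSheaf (hS : HasDisjointRefinements S) :
    Projective ((constantSheaf (Opens.grothendieckTopology S) AddCommGrpCat.{u + 1}).obj
      (AddCommGrpCat.of (ULift.{u + 1} ℤ))) := by
  let adj := constantSheafAdj (Opens.grothendieckTopology S) AddCommGrpCat.{u + 1}
    (isTerminalTop : IsTerminal (⊤ : S.Opens))
  haveI : ((sheafSections (Opens.grothendieckTopology S) AddCommGrpCat.{u + 1}).obj
      (op (⊤ : S.Opens))).PreservesEpimorphisms :=
    ⟨fun {F G} φ _ => (AddCommGrpCat.epi_iff_surjective _).2 (surjective_app_top hS φ)⟩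
  exact adj.map_projective _ inferInstance

/-- Zariski cohomology of abelian sheaves vanishes in positive degrees when open covers have
disjoint refinements -/
theorem subsingleton_H_zar (hS : HasDisjointRefinements S) (G : EtZar.Ab S) (n : ℕ) :
    Subsingleton (EtZar.H G (n + 1)) := by
  haveI := projective_constantSheaf hS
  exact Abelian.Ext.subsingleton_of_projective _ _ n

end Groth.Agent.R2.H3.ZeroDim
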