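import Mathlib
import Groth.Agent.Lib.Helper14RigClosed3
import Groth.Agent.Lib.Helper14RigClosed5
import Groth.Agent.Lib.Helper19ComplFlatLocal

/-!
# Rig-flat homomorphisms: basic toolkit (helper40)

Facts on the completed principal localization `Ch R K r` (the `K`-adic completion of `R[1/r]`),
used for the rig-flat statements.
-/

set_option autoImplicit false
set_option linter.unusedSectionVars false
set_option linter.style.haveILetI false
universe u

namespace Groth.Agent.R2.H40.RigFlat

open Groth.Agent.Lib.Helper14 Groth.Agent.Lib.Helper14.RigClosed5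

/-- The rig-closed condition for a prime `q` with respect to an ideal `K`. -/
def IsRigClosed {R : Type u} [CommRing R] (K : Ideal R) (q : PrimeSpectrum R) : Prop :=
  ¬ K ≤ q.asIdeal ∧ ∀ y : PrimeSpectrum R, q ≤ y → ¬ K ≤ y.asIdeal → y = q

section Ch

variable (R : Type u) [CommRing R] (K : Ideal R) (r : R)

theorem flat_Ch [IsNoetherianRing R] : Module.Flat R (Ch R K r) :=
  Module.Flat.trans R (Localization.Away r) (Ch R K r)

/-- Every element of the completed localization is congruent mod `K` to an element of `R[1/r]`. -/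
theorem exists_sub_mem_map_Ch [IsNoetherianRing R] (n : ℕ) (c : Ch R K r) :
    ∃ l : Localization.Away r, c - algebraMap (Localization.Away r) (Ch R K r) l ∈
      (K.map (algebraMap R (Ch R K r))) ^ n := by
  rw [map_algebraMap_Ch]
  exact Groth.Agent.Lib.Helper19.exists_sub_of_mem_map_pow _ (IsNoetherian.noetherian _) n c

/-- `Ch R K r / K` is of finite type over `R`. -/
theorem finiteType_quotient_Ch [IsNoetherianRing R] :
    Algebra.FiniteType R (Ch R K r ⧸ K.map (algebraMap R (Ch R K r))) := by
  let θ : Localization.Away r →ₐ[R] (Ch R K r ⧸ K.map (algebraMap R (Ch R K r))) :=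
    (Ideal.Quotient.mkₐ R _).comp (IsScalarTower.toAlgHom R (Localization.Away r) (Ch R K r))
  apply Algebra.FiniteType.of_surjective θ
  intro y
  obtain ⟨c, rfl⟩ := Ideal.Quotient.mk_surjective y
  obtain ⟨l, hl⟩ := exists_sub_mem_map_Ch R K r 1 c
  rw [pow_one] at hl
  refine ⟨l, ?_⟩
  change Ideal.Quotient.mk _ (algebraMap (Localization.Away r) (Ch R K r) l) = Ideal.Quotient.mk _ c
  rw [Ideal.Quotient.eq, ← neg_sub]
  exact (Ideal.neg_mem_iff _).mpr hl

/-- If `r` is a unit modulo `𝔞`, then `R → Ch R K r / 𝔞` is surjective. -/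
theorem exists_sub_mem_map_of_isUnit [IsNoetherianRing R] [IsAdicComplete K R] (𝔞 : Ideal R)
    (hr : IsUnit (Ideal.Quotient.mk 𝔞 r)) (c : Ch R K r) :
    ∃ a : R, c - algebraMap R (Ch R K r) a ∈ 𝔞.map (algebraMap R (Ch R K r)) := by
  haveI : IsNoetherianRing (Ch R K r) := isNoetherianRing_Ch R K r
  haveI : IsAdicComplete (K.map (algebraMap R (Ch R K r))) (Ch R K r) := isAdicComplete_Ch R K r
  set 𝔞C : Ideal (Ch R K r) := 𝔞.map (algebraMap R (Ch R K r)) with h𝔞C
  let θ : R →+* (Ch R K r ⧸ 𝔞C) := (Ideal.Quotient.mk 𝔞C).comp (algebraMap R (Ch R K r))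
  have hKθ : K.map θ = (K.map (algebraMap R (Ch R K r))).map (Ideal.Quotient.mk 𝔞C) := by
    rw [Ideal.map_map]
  haveI : IsAdicComplete (K.map θ) (Ch R K r ⧸ 𝔞C) := by
    rw [hKθ]
    exact Groth.Agent.Lib.Helper19.isAdicComplete_quotient_of_isNoetherianRing _ _ _
  obtain ⟨u, hu⟩ := hr
  obtain ⟨v, hv⟩ := Ideal.Quotient.mk_surjective (u⁻¹ : (R ⧸ 𝔞)ˣ).val
  have hrv : r * v - 1 ∈ 𝔞 := by
    rw [← Ideal.Quotient.eq, map_mul, map_one, hv, ← hu, Units.mul_inv]
  have hθsurj : Function.Surjective θ := by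
    apply surjective_of_mk_map_comp_surjective (I := K) θ
    intro y
    obtain ⟨s, rfl⟩ := Ideal.Quotient.mk_surjective y
    obtain ⟨c, rfl⟩ := Ideal.Quotient.mk_surjective s
    obtain ⟨l, hl⟩ := exists_sub_mem_map_Ch R K r 1 c
    rw [pow_one] at hl
    obtain ⟨k, a, hka⟩ := IsLocalization.Away.surj r l
    refine ⟨a * v ^ k, ?_⟩
    -- `l - a v^k ∈ 𝔞 L`
    have h1 : (r * v) ^ k - 1 ∈ 𝔞 := by
      rw [← Ideal.Quotient.eq, map_pow, map_one]
      have : Ideal.Quotient.mk 𝔞 (r * v) = 1 := by
        rw [← map_one (Ideal.Quotient.mk 𝔞), Ideal.Quotient.eq]; exact hrv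
      rw [this, one_pow]
    have h2 : l - algebraMap R (Localization.Away r) (a * v ^ k) =
        - (l * algebraMap R (Localization.Away r) ((r * v) ^ k - 1)) := by
      rw [map_mul, ← hka, map_sub, map_pow, map_pow, map_mul, map_one]
      ring
    have h3 : algebraMap (Localization.Away r) (Ch R K r) l - algebraMap R (Ch R K r) (a * v ^ k)
        ∈ 𝔞C := by
      rw [IsScalarTower.algebraMap_apply R (Localization.Away r) (Ch R K r), ← map_sub, h2, map_neg,
        map_mul, ← IsScalarTower.algebraMap_apply R (Localization.Away r) (Ch R K r)]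
      exact Ideal.neg_mem_iff _ |>.mpr (Ideal.mul_mem_left _ _ (Ideal.mem_map_of_mem _ h1))
    change Ideal.Quotient.mk (K.map θ) (θ (a * v ^ k)) =
      Ideal.Quotient.mk (K.map θ) (Ideal.Quotient.mk 𝔞C c)
    rw [Ideal.Quotient.eq]
    change Ideal.Quotient.mk 𝔞C (algebraMap R (Ch R K r) (a * v ^ k)) - Ideal.Quotient.mk 𝔞C c ∈ _
    rw [← map_sub, hKθ]
    have h4 : algebraMap R (Ch R K r) (a * v ^ k) - c =
        -((c - algebraMap (Localization.Away r) (Ch R K r) l) +
          (algebraMap (Localization.Away r) (Ch R K r) l - algebraMap R (Ch R K r) (a * v ^ k))) := by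
      ring
    rw [h4, map_neg, map_add, Ideal.Quotient.eq_zero_iff_mem.mpr h3, add_zero]
    exact Ideal.neg_mem_iff _ |>.mpr (Ideal.mem_map_of_mem _ hl)
  obtain ⟨a, ha⟩ := hθsurj (Ideal.Quotient.mk 𝔞C c)
  refine ⟨a, ?_⟩
  rw [← Ideal.Quotient.eq]
  exact ha.symm

end Ch


section Unit

variable {A : Type u} [CommRing A]

/-- A unit modulo `p` is a unit modulo `p ^ n`. -/
theorem isUnit_mk_pow (p : Ideal A) (f : A) (hf : IsUnit (Ideal.Quotient.mk p f)) (n : ℕ) :
    IsUnit (Ideal.Quotient.mk (p ^ n) f) := by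
  obtain ⟨u, hu⟩ := hf
  obtain ⟨v, hv⟩ := Ideal.Quotient.mk_surjective (u⁻¹ : (A ⧸ p)ˣ).val
  have hfv : 1 - f * v ∈ p := by
    rw [← Ideal.Quotient.eq, map_mul, map_one, hv, ← hu, Units.mul_inv]
  have h1 : (1 - f * v) ^ n ∈ p ^ n := Ideal.pow_mem_pow hfv n
  have h2 := mul_geom_sum (1 - f * v) n
  apply IsUnit.of_mul_eq_one (Ideal.Quotient.mk (p ^ n) (v * ∑ i ∈ Finset.range n, (1 - f * v) ^ i))
  rw [← map_mul, ← map_one (Ideal.Quotient.mk (p ^ n)), Ideal.Quotient.eq]
  have h3 : f * (v * ∑ i ∈ Finset.range n, (1 - f * v) ^ i) - 1 = - (1 - f * v) ^ n := by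
    have : f * (v * ∑ i ∈ Finset.range n, (1 - f * v) ^ i) =
        - ((1 - f * v - 1) * ∑ i ∈ Finset.range n, (1 - f * v) ^ i) := by ring
    rw [this, h2]; ring
  rw [h3]
  exact (Ideal.neg_mem_iff _).mpr h1

end Unit

section Main

variable (A : Type u) [CommRing A] [IsNoetherianRing A] (I : Ideal A) [IsAdicComplete I A]
  (B : Type u) [CommRing B] [Algebra A B] [IsNoetherianRing B]
  [IsAdicComplete (I.map (algebraMap A B)) B]

/-- `B/IB` is Jacobson when `A/I` is. -/
theorem isJacobsonRing_quotient_map (hft : Algebra.FiniteType A (B ⧸ (I.map (algebraMap A B))))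
    (hJ : IsJacobsonRing (A ⧸ I)) : IsJacobsonRing (B ⧸ (I.map (algebraMap A B))) :=
  haveI : Algebra.FiniteType (A ⧸ I) (B ⧸ (I.map (algebraMap A B))) :=
    Algebra.FiniteType.of_restrictScalars_finiteType A _ _
  isJacobsonRing_of_finiteType (A := A ⧸ I)

/-- Contractions of rig-closed primes are rig-closed, in the Jacobson case. -/
theorem rigClosed_comap (hft : Algebra.FiniteType A (B ⧸ (I.map (algebraMap A B))))
    (hJ : IsJacobsonRing (A ⧸ I)) (q : PrimeSpectrum B)
    (hq : IsRigClosed (I.map (algebraMap A B)) q) :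
    IsRigClosed I (PrimeSpectrum.comap (algebraMap A B) q) := by
  apply RigClosed2.rigClosed_comap_of_finite A I B q hq
  apply RigClosed2.finite_quotient_of_forall_maximal A I B q hq
  intro m hm _
  apply RigClosed2.finite_quotient_of_isJacobsonRing A I B hft m hm
  have hIn : I ≤ m.comap (algebraMap A B) := by
    rw [← Ideal.map_le_iff_le_comap]
    exact RigClosed2.map_le_of_isMaximal A I B m hm
  exact isJacobsonRing_of_surjective ⟨Ideal.Quotient.factor hIn, Ideal.Quotient.factor_surjective hIn⟩

/-- The compatibility of `ψ` with the structure maps from `A`. -/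
theorem comp_algebraMap_of_compat (f : A)
    (ψ : Ch A I f →+* Ch B (I.map (algebraMap A B)) (algebraMap A B f))
    (hψ : ψ.comp (algebraMap (Localization.Away f) (Ch A I f)) =
      (algebraMap (Localization.Away (algebraMap A B f))
        (Ch B (I.map (algebraMap A B)) (algebraMap A B f))).comp
        (Localization.awayMap (algebraMap A B) f)) :
    ψ.comp (algebraMap A (Ch A I f)) =
      algebraMap A (Ch B (I.map (algebraMap A B)) (algebraMap A B f)) := by
  have h1 : algebraMap A (Ch A I f) =
      (algebraMap (Localization.Away f) (Ch A I f)).comp (algebraMap A (Localization.Away f)) := rfl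
  have h2 : algebraMap A (Ch B (I.map (algebraMap A B)) (algebraMap A B f)) =
      (algebraMap (Localization.Away (algebraMap A B f))
        (Ch B (I.map (algebraMap A B)) (algebraMap A B f))).comp
        ((algebraMap B (Localization.Away (algebraMap A B f))).comp (algebraMap A B)) := rfl
  rw [h1, ← RingHom.comp_assoc, hψ, RingHom.comp_assoc, h2]
  congr 1
  exact IsLocalization.map_comp _

local notation "J" => Ideal.map (algebraMap A B) I

/-- **Naively rig-flat implies rig-flat** when `A/I` is Jacobson. -/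
theorem flat_at_rigClosed_of_naive (hft : Algebra.FiniteType A (B ⧸ J))
    (hJ : IsJacobsonRing (A ⧸ I))
    (hnaive : ∀ q : PrimeSpectrum B, IsRigClosed J q →
      (algebraMap A (Localization.AtPrime q.asIdeal)).Flat)
    (f : A) (ψ : Ch A I f →+* Ch B J (algebraMap A B f))
    (hψ : ψ.comp (algebraMap (Localization.Away f) (Ch A I f)) =
      (algebraMap (Localization.Away (algebraMap A B f)) (Ch B J (algebraMap A B f))).comp
        (Localization.awayMap (algebraMap A B) f))
    (q' : PrimeSpectrum (Ch B J (algebraMap A B f)))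
    (hq' : IsRigClosed (Ideal.map (algebraMap B (Ch B J (algebraMap A B f))) J) q') :
    ((algebraMap (Ch B J (algebraMap A B f)) (Localization.AtPrime q'.asIdeal)).comp ψ).Flat := by
  haveI : IsNoetherianRing (Ch B J (algebraMap A B f)) := isNoetherianRing_Ch B J _
  haveI : IsNoetherianRing (Ch A I f) := isNoetherianRing_Ch A I f
  haveI hcB : IsAdicComplete (Ideal.map (algebraMap B (Ch B J (algebraMap A B f))) J)
      (Ch B J (algebraMap A B f)) := isAdicComplete_Ch B J _
  haveI : Module.Flat B (Ch B J (algebraMap A B f)) := flat_Ch B J _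
  have hcomp := comp_algebraMap_of_compat A I B f ψ hψ
  -- `q = q' ∩ B` and `p = q ∩ A` are rig-closed
  have hftB' : Algebra.FiniteType B (Ch B J (algebraMap A B f) ⧸
      Ideal.map (algebraMap B (Ch B J (algebraMap A B f))) J) :=
    finiteType_quotient_Ch B J _
  have hJB : IsJacobsonRing (B ⧸ J) := isJacobsonRing_quotient_map A I B hft hJ
  have hq : IsRigClosed J (PrimeSpectrum.comap (algebraMap B (Ch B J (algebraMap A B f))) q') :=
    rigClosed_comap B J (Ch B J (algebraMap A B f)) hftB' hJB q' hq'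
  have hp : IsRigClosed I (PrimeSpectrum.comap (algebraMap A B)
      (PrimeSpectrum.comap (algebraMap B (Ch B J (algebraMap A B f))) q')) :=
    rigClosed_comap A I B hft hJ _ hq
  -- flatness of `A → (B_f^)_{q'}`
  haveI : q'.asIdeal.LiesOver
      (PrimeSpectrum.comap (algebraMap B (Ch B J (algebraMap A B f))) q').asIdeal := ⟨rfl⟩
  letI := Localization.AtPrime.algebraOfLiesOver
    (PrimeSpectrum.comap (algebraMap B (Ch B J (algebraMap A B f))) q').asIdeal q'.asIdeal
  haveI : Module.Flat A (Localization.AtPrime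
      (PrimeSpectrum.comap (algebraMap B (Ch B J (algebraMap A B f))) q').asIdeal) :=
    RingHom.flat_algebraMap_iff.mp (hnaive _ hq)
  haveI : Module.Flat A (Localization.AtPrime q'.asIdeal) :=
    Module.Flat.trans A (Localization.AtPrime
      (PrimeSpectrum.comap (algebraMap B (Ch B J (algebraMap A B f))) q').asIdeal)
      (Localization.AtPrime q'.asIdeal)
  -- the `ψ`-algebra structure
  letI algA' : Algebra (Ch A I f) (Localization.AtPrime q'.asIdeal) :=
    ((algebraMap (Ch B J (algebraMap A B f)) (Localization.AtPrime q'.asIdeal)).comp ψ).toAlgebra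
  haveI : IsScalarTower A (Ch A I f) (Localization.AtPrime q'.asIdeal) := by
    apply IsScalarTower.of_algebraMap_eq
    intro x
    change _ = algebraMap (Ch B J (algebraMap A B f)) _ (ψ (algebraMap A (Ch A I f) x))
    rw [← RingHom.comp_apply ψ, hcomp]
    rfl
  -- `f` is a unit modulo `p`
  obtain ⟨m', hm', hqm'⟩ := Ideal.exists_le_maximal q'.asIdeal q'.isPrime.ne_top
  have hJm' : Ideal.map (algebraMap B (Ch B J (algebraMap A B f))) J ≤ m' :=
    RigClosed2.map_le_of_isMaximal B J (Ch B J (algebraMap A B f)) m' hm'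
  haveI := hm'.isPrime
  have hpm : (PrimeSpectrum.comap (algebraMap A B)
      (PrimeSpectrum.comap (algebraMap B (Ch B J (algebraMap A B f))) q')).asIdeal ≤
      m'.comap (algebraMap A (Ch B J (algebraMap A B f))) := fun a ha => hqm' ha
  have hIm : I ≤ m'.comap (algebraMap A (Ch B J (algebraMap A B f))) := fun a ha =>
    hJm' (Ideal.mem_map_of_mem _ (Ideal.mem_map_of_mem _ ha))
  have hmmax : (m'.comap (algebraMap A (Ch B J (algebraMap A B f)))).IsMaximal :=
    RigClosed3.isMaximal_of_rigClosed_le A I _ hp _ hpm hIm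
  have hfm : f ∉ m'.comap (algebraMap A (Ch B J (algebraMap A B f))) := fun h =>
    hm'.ne_top (Ideal.eq_top_of_isUnit_mem _ h (isUnit_algebraMap_Ch B J (algebraMap A B f)))
  have hunit : IsUnit (Ideal.Quotient.mk (PrimeSpectrum.comap (algebraMap A B)
      (PrimeSpectrum.comap (algebraMap B (Ch B J (algebraMap A B f))) q')).asIdeal f) :=
    isUnit_mk_of_notMem A I _ hp _ hmmax hpm f hfm
  have key : Module.Flat (Ch A I f) (Localization.AtPrime q'.asIdeal) := by
    apply Groth.Agent.Lib.Helper19.flat_of_adic_quotients (P := A)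
      (Q := Localization.AtPrime q'.asIdeal) (Pc := Ch A I f)
      (Qc := Localization.AtPrime q'.asIdeal)
      (PrimeSpectrum.comap (algebraMap A B)
        (PrimeSpectrum.comap (algebraMap B (Ch B J (algebraMap A B f))) q')).asIdeal
    · intro n x
      obtain ⟨a, ha⟩ := exists_sub_mem_map_of_isUnit A I f _ (isUnit_mk_pow _ f hunit n) x
      exact ⟨a, by rwa [← Ideal.map_pow]⟩
    · intro n y
      exact ⟨y, by rw [Algebra.algebraMap_self, RingHom.id_apply, sub_self]; exact Ideal.zero_mem _⟩
    · intro n y hy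
      rw [Algebra.algebraMap_self, RingHom.id_apply] at hy
      exact hy
    · rw [IsLocalRing.jacobson_eq_maximalIdeal ⊥ bot_ne_top, Ideal.map_le_iff_le_comap]
      intro a ha
      rw [Ideal.mem_comap, IsScalarTower.algebraMap_apply A (Ch B J (algebraMap A B f))
        (Localization.AtPrime q'.asIdeal),
        IsLocalization.AtPrime.to_map_mem_maximal_iff _ q'.asIdeal]
      exact ha
  exact key

end Main

end Groth.Agent.R2.H40.RigFlat
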