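import Mathlib
import Groth.Agent.R2.H40RigFlat

/-!
# Rig-flat homomorphisms: canonical maps of completed localizations, uniqueness, generization
(helper40)
-/

set_option autoImplicit false
set_option linter.unusedSectionVars false
set_option linter.style.haveILetI false
universe u

namespace Groth.Agent.R2.H40.RigFlat2

open Groth.Agent.Lib.Helper14 Groth.Agent.Lib.Helper14.RigClosed5 Groth.Agent.R2.H40.RigFlat

section ChMap

variable (R : Type u) [CommRing R] (K : Ideal R) (S : Type u) [CommRing S] [Algebra R S] (r : R)

theorem map_awayMap_eq :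
    (K.map (algebraMap R (Localization.Away r))).map (Localization.awayMap (algebraMap R S) r) =
      (K.map (algebraMap R S)).map (algebraMap S (Localization.Away (algebraMap R S r))) := by
  rw [Ideal.map_map, Ideal.map_map]
  congr 1
  exact IsLocalization.map_comp _

/-- The canonical map of completed principal localizations. -/
noncomputable def chMap : Ch R K r →+* Ch S (K.map (algebraMap R S)) (algebraMap R S r) :=
  FSch.complMap _ _ (Localization.awayMap (algebraMap R S) r) (map_awayMap_eq R K S r).le

theorem chMap_comp_algebraMap :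
    (chMap R K S r).comp (algebraMap (Localization.Away r) (Ch R K r)) =
      (algebraMap (Localization.Away (algebraMap R S r))
        (Ch S (K.map (algebraMap R S)) (algebraMap R S r))).comp
        (Localization.awayMap (algebraMap R S) r) := by
  apply RingHom.ext
  intro x
  apply AdicCompletion.ext_evalₐ
  intro n
  rw [RingHom.comp_apply, RingHom.comp_apply]
  unfold chMap
  rw [Groth.Agent.Lib.Helper19.evalₐ_complMap, AdicCompletion.algebraMap_apply,
    AdicCompletion.evalₐ_of, AdicCompletion.algebraMap_apply, AdicCompletion.evalₐ_of,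
    Ideal.quotientMap_mk]
  rfl

theorem chMap_comp_algebraMap' :
    (chMap R K S r).comp (algebraMap R (Ch R K r)) =
      algebraMap R (Ch S (K.map (algebraMap R S)) (algebraMap R S r)) := by
  have h1 : algebraMap R (Ch R K r) =
      (algebraMap (Localization.Away r) (Ch R K r)).comp (algebraMap R (Localization.Away r)) := rfl
  have h2 : algebraMap R (Ch S (K.map (algebraMap R S)) (algebraMap R S r)) =
      (algebraMap (Localization.Away (algebraMap R S r))
        (Ch S (K.map (algebraMap R S)) (algebraMap R S r))).comp
        ((algebraMap S (Localization.Away (algebraMap R S r))).comp (algebraMap R S)) := rfl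
  rw [h1, ← RingHom.comp_assoc, chMap_comp_algebraMap, RingHom.comp_assoc, h2]
  congr 1
  exact IsLocalization.map_comp _

theorem awayMap_flat [Module.Flat R S] : (Localization.awayMap (algebraMap R S) r).Flat := by
  letI : Algebra (Localization.Away r) (Localization.Away (algebraMap R S r)) :=
    (Localization.awayMap (algebraMap R S) r).toAlgebra
  haveI : IsScalarTower R (Localization.Away r) (Localization.Away (algebraMap R S r)) := by
    apply IsScalarTower.of_algebraMap_eq
    intro x
    have h : (Localization.awayMap (algebraMap R S) r).comp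
        (algebraMap R (Localization.Away r)) =
        (algebraMap S (Localization.Away (algebraMap R S r))).comp (algebraMap R S) :=
      IsLocalization.map_comp _
    exact (RingHom.congr_fun h x).symm
  haveI : Module.Flat R (Localization.Away (algebraMap R S r)) :=
    Module.Flat.trans R S (Localization.Away (algebraMap R S r))
  exact (Module.flat_iff_of_isLocalization (Localization.Away r) (Submonoid.powers r)
    (Localization.Away (algebraMap R S r))).mpr inferInstance

theorem chMap_flat [IsNoetherianRing R] [IsNoetherianRing S] [Module.Flat R S] :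
    (chMap R K S r).Flat :=
  Groth.Agent.Lib.Helper19.complMap_flat _ _ _ (awayMap_flat R S r) (map_awayMap_eq R K S r)

/-- The canonical map, with target expressed through propositionally equal data. -/
noncomputable def chMapGen (KS : Ideal S) (s : S) (hK : KS = K.map (algebraMap R S))
    (hs : s = algebraMap R S r) : Ch R K r →+* Ch S KS s := by
  subst hK hs
  exact chMap R K S r

theorem chMapGen_comp_algebraMap (KS : Ideal S) (s : S) (hK : KS = K.map (algebraMap R S))
    (hs : s = algebraMap R S r) :
    (chMapGen R K S r KS s hK hs).comp (algebraMap R (Ch R K r)) = algebraMap R (Ch S KS s) := by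
  subst hK hs
  exact chMap_comp_algebraMap' R K S r

theorem chMapGen_flat [IsNoetherianRing R] [IsNoetherianRing S] [Module.Flat R S]
    (KS : Ideal S) (s : S) (hK : KS = K.map (algebraMap R S)) (hs : s = algebraMap R S r) :
    (chMapGen R K S r KS s hK hs).Flat := by
  subst hK hs
  exact chMap_flat R K S r

/-- A map compatible with the structure maps from `R` is compatible with the localizations. -/
theorem compat_away_of_compat (ψ : Ch R K r →+* Ch S (K.map (algebraMap R S)) (algebraMap R S r))
    (hψ : ψ.comp (algebraMap R (Ch R K r)) =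
      algebraMap R (Ch S (K.map (algebraMap R S)) (algebraMap R S r))) :
    ψ.comp (algebraMap (Localization.Away r) (Ch R K r)) =
      (algebraMap (Localization.Away (algebraMap R S r))
        (Ch S (K.map (algebraMap R S)) (algebraMap R S r))).comp
        (Localization.awayMap (algebraMap R S) r) := by
  apply IsLocalization.ringHom_ext (Submonoid.powers r)
  have h1 : algebraMap R (Ch R K r) =
      (algebraMap (Localization.Away r) (Ch R K r)).comp (algebraMap R (Localization.Away r)) := rfl
  have h2 : algebraMap R (Ch S (K.map (algebraMap R S)) (algebraMap R S r)) =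
      (algebraMap (Localization.Away (algebraMap R S r))
        (Ch S (K.map (algebraMap R S)) (algebraMap R S r))).comp
        ((algebraMap S (Localization.Away (algebraMap R S r))).comp (algebraMap R S)) := rfl
  rw [RingHom.comp_assoc, ← h1, hψ, h2, RingHom.comp_assoc]
  congr 1
  exact (IsLocalization.map_comp _).symm

end ChMap


section Uniq

variable (R : Type u) [CommRing R] [IsNoetherianRing R] (K : Ideal R) (r : R)

/-- Ring maps out of the completed localization into a separated ring are determined by their
restriction to `R`. -/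
theorem ringHom_ext_Ch {X : Type u} [CommRing X] (φ₁ φ₂ : Ch R K r →+* X)
    (h : φ₁.comp (algebraMap R (Ch R K r)) = φ₂.comp (algebraMap R (Ch R K r)))
    (KX : Ideal X) (hKX : KX = K.map (φ₁.comp (algebraMap R (Ch R K r)))) [IsHausdorff KX X] :
    φ₁ = φ₂ := by
  have hL : φ₁.comp (algebraMap (Localization.Away r) (Ch R K r)) =
      φ₂.comp (algebraMap (Localization.Away r) (Ch R K r)) := by
    apply IsLocalization.ringHom_ext (Submonoid.powers r)
    rw [RingHom.comp_assoc, RingHom.comp_assoc]
    exact h
  have hmap₁ : (K.map (algebraMap R (Ch R K r))).map φ₁ = KX := by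
    rw [Ideal.map_map, hKX]
  have hmap₂ : (K.map (algebraMap R (Ch R K r))).map φ₂ = KX := by
    rw [Ideal.map_map, hKX, h]
  apply RingHom.ext
  intro c
  rw [← sub_eq_zero]
  apply IsHausdorff.haus' (I := KX)
  intro n
  rw [SModEq.zero, smul_eq_mul, Ideal.mul_top]
  obtain ⟨l, hl⟩ := exists_sub_mem_map_Ch R K r n c
  have e1 : φ₁ c - φ₂ c = φ₁ (c - algebraMap (Localization.Away r) (Ch R K r) l) -
      φ₂ (c - algebraMap (Localization.Away r) (Ch R K r) l) := by
    have := RingHom.congr_fun hL l
    simp only [RingHom.comp_apply] at this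
    rw [map_sub, map_sub, this]
    ring
  rw [e1]
  apply Ideal.sub_mem
  · rw [← hmap₁, ← Ideal.map_pow]
    exact Ideal.mem_map_of_mem _ hl
  · rw [← hmap₂, ← Ideal.map_pow]
    exact Ideal.mem_map_of_mem _ hl

end Uniq

section Def

variable {T R : Type u} [CommRing T] [CommRing R]

/-- Flatness at all rig-closed primes. -/
def FlatAtRigClosed (K : Ideal R) (ψ : T →+* R) : Prop :=
  ∀ q : PrimeSpectrum R, IsRigClosed K q →
    ((algebraMap R (Localization.AtPrime q.asIdeal)).comp ψ).Flat

end Def

section Gen

variable {T R : Type u} [CommRing T] [CommRing R] [IsNoetherianRing R]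

/-- Flatness at the rig-closed primes implies flatness at all primes not containing `K`. -/
theorem flat_at_prime_of_flatAtRigClosed (K : Ideal R) (ψ : T →+* R)
    (h : FlatAtRigClosed K ψ) (Q : PrimeSpectrum R) (hQ : ¬ K ≤ Q.asIdeal) :
    ((algebraMap R (Localization.AtPrime Q.asIdeal)).comp ψ).Flat := by
  obtain ⟨q, hQq, hq⟩ := RigClosed3.exists_rigClosed_ge R K Q hQ
  have hle : q.asIdeal.primeCompl ≤ Q.asIdeal.primeCompl := fun x hx hxQ => hx (hQq hxQ)
  let σ : Localization.AtPrime q.asIdeal →+* Localization.AtPrime Q.asIdeal :=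
    IsLocalization.lift (M := q.asIdeal.primeCompl) (g := algebraMap R (Localization.AtPrime Q.asIdeal))
      (fun y => IsLocalization.map_units (Localization.AtPrime Q.asIdeal) ⟨y.1, hle y.2⟩)
  have hσ : σ.comp (algebraMap R (Localization.AtPrime q.asIdeal)) =
      algebraMap R (Localization.AtPrime Q.asIdeal) := IsLocalization.lift_comp _
  have hσflat : σ.Flat := by
    letI : Algebra (Localization.AtPrime q.asIdeal) (Localization.AtPrime Q.asIdeal) := σ.toAlgebra
    haveI : IsScalarTower R (Localization.AtPrime q.asIdeal) (Localization.AtPrime Q.asIdeal) :=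
      IsScalarTower.of_algebraMap_eq (fun x => (RingHom.congr_fun hσ x).symm)
    haveI := IsLocalization.isLocalization_of_submonoid_le (Localization.AtPrime q.asIdeal)
      (Localization.AtPrime Q.asIdeal) q.asIdeal.primeCompl Q.asIdeal.primeCompl hle
    exact IsLocalization.flat (Localization.AtPrime Q.asIdeal)
      (Submonoid.map (algebraMap R (Localization.AtPrime q.asIdeal)) Q.asIdeal.primeCompl)
  have := RingHom.Flat.comp (h q hq) hσflat
  rwa [← RingHom.comp_assoc, hσ] at this

end Gen


section Forms

variable (A : Type u) [CommRing A] (I : Ideal A) (B : Type u) [CommRing B] [Algebra A B]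

/-- Rig-flatness in the form used by the frozen statements. -/
def RigFlatStmt : Prop :=
  ∀ f : A, ∀ ψf : Ch A I f →+* Ch B (I.map (algebraMap A B)) (algebraMap A B f),
    ψf.comp (algebraMap (Localization.Away f) (Ch A I f)) =
      (algebraMap (Localization.Away (algebraMap A B f))
        (Ch B (I.map (algebraMap A B)) (algebraMap A B f))).comp
        (Localization.awayMap (algebraMap A B) f) →
    ∀ qf : PrimeSpectrum (Ch B (I.map (algebraMap A B)) (algebraMap A B f)),
      IsRigClosed (((I.map (algebraMap A B)).map
        (algebraMap B (Localization.Away (algebraMap A B f)))).map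
        (algebraMap (Localization.Away (algebraMap A B f))
          (Ch B (I.map (algebraMap A B)) (algebraMap A B f)))) qf →
      ((algebraMap (Ch B (I.map (algebraMap A B)) (algebraMap A B f))
        (Localization.AtPrime qf.asIdeal)).comp ψf).Flat

/-- Rig-flatness in a transport-friendly form. -/
def RigFlatGen : Prop :=
  ∀ (f : A) (K : Ideal B) (b : B), K = I.map (algebraMap A B) → b = algebraMap A B f →
    ∀ ψ : Ch A I f →+* Ch B K b, ψ.comp (algebraMap A (Ch A I f)) = algebraMap A (Ch B K b) →
      FlatAtRigClosed (K.map (algebraMap B (Ch B K b))) ψ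

theorem rigFlatGen_of_stmt (h : RigFlatStmt A I B) : RigFlatGen A I B := by
  intro f K b hK hb
  subst hK hb
  intro ψ hψ q hq
  apply h f ψ (compat_away_of_compat A I B f ψ hψ) q
  rw [← map_algebraMap_Ch]
  exact hq

theorem stmt_of_rigFlatGen (h : RigFlatGen A I B) : RigFlatStmt A I B := by
  intro f ψ hψ q hq
  have hcomp : ψ.comp (algebraMap A (Ch A I f)) =
      algebraMap A (Ch B (I.map (algebraMap A B)) (algebraMap A B f)) := by
    have h1 : algebraMap A (Ch A I f) =
        (algebraMap (Localization.Away f) (Ch A I f)).comp (algebraMap A (Localization.Away f)) :=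
      rfl
    have h2 : algebraMap A (Ch B (I.map (algebraMap A B)) (algebraMap A B f)) =
        (algebraMap (Localization.Away (algebraMap A B f))
          (Ch B (I.map (algebraMap A B)) (algebraMap A B f))).comp
          ((algebraMap B (Localization.Away (algebraMap A B f))).comp (algebraMap A B)) := rfl
    rw [h1, ← RingHom.comp_assoc, hψ, RingHom.comp_assoc, h2]
    congr 1
    exact IsLocalization.map_comp _
  apply h f _ _ rfl rfl ψ hcomp q
  rw [map_algebraMap_Ch]
  exact hq

end Forms

section MapEq

theorem map_eq_map_of_eq {A C X : Type u} [CommRing A] [CommRing C] [CommRing X] [Algebra A C]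
    [Algebra A X] [Algebra C X] [IsScalarTower A C X] (I : Ideal A) (K : Ideal C)
    (hK : K = I.map (algebraMap A C)) : K.map (algebraMap C X) = I.map (algebraMap A X) := by
  subst hK
  rw [Ideal.map_map, ← IsScalarTower.algebraMap_eq]

end MapEq

section Comp

variable (A : Type u) [CommRing A] [IsNoetherianRing A] (I : Ideal A)
  (B : Type u) [CommRing B] [Algebra A B] [IsNoetherianRing B]
  (C : Type u) [CommRing C] [Algebra A C] [Algebra B C] [IsScalarTower A B C] [IsNoetherianRing C]

/-- Rig-flat maps compose. -/
theorem rigFlatGen_comp (hAB : RigFlatGen A I B) (hBC : RigFlatGen B (I.map (algebraMap A B)) C) :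
    RigFlatGen A I C := by
  intro e K c hK hc ψe hψe qe hqe
  have hK' : K = (I.map (algebraMap A B)).map (algebraMap B C) := by
    rw [hK, Ideal.map_map, ← IsScalarTower.algebraMap_eq]
  have hc' : c = algebraMap B C (algebraMap A B e) := by
    rw [hc, ← IsScalarTower.algebraMap_apply]
  haveI : IsNoetherianRing (Ch A I e) := isNoetherianRing_Ch A I e
  haveI : IsNoetherianRing (Ch B (I.map (algebraMap A B)) (algebraMap A B e)) :=
    isNoetherianRing_Ch B _ _
  haveI : IsNoetherianRing (Ch C K c) := isNoetherianRing_Ch C K c
  haveI : IsAdicComplete (K.map (algebraMap C (Ch C K c))) (Ch C K c) := isAdicComplete_Ch C K c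
  -- canonical maps
  let ψ₁ := chMap A I B e
  have hψ₁ := chMap_comp_algebraMap' A I B e
  let ψ₂ := chMapGen B (I.map (algebraMap A B)) C (algebraMap A B e) K c hK' hc'
  have hψ₂ := chMapGen_comp_algebraMap B (I.map (algebraMap A B)) C (algebraMap A B e) K c hK' hc'
  -- `ψ₂ ∘ ψ₁ = ψe`
  have hcompA : (ψ₂.comp ψ₁).comp (algebraMap A (Ch A I e)) = algebraMap A (Ch C K c) := by
    rw [RingHom.comp_assoc, hψ₁,
      IsScalarTower.algebraMap_eq A B (Ch B (I.map (algebraMap A B)) (algebraMap A B e)),
      ← RingHom.comp_assoc, hψ₂, ← IsScalarTower.algebraMap_eq]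
  have hKX : K.map (algebraMap C (Ch C K c)) =
      I.map ((ψ₂.comp ψ₁).comp (algebraMap A (Ch A I e))) := by
    rw [hcompA]
    exact map_eq_map_of_eq I K hK
  have huniq : ψ₂.comp ψ₁ = ψe :=
    ringHom_ext_Ch A I e (ψ₂.comp ψ₁) ψe (hcompA.trans hψe.symm) _ hKX
  -- flatness over `B`
  have hflat₂ := hBC (algebraMap A B e) K c hK' hc' ψ₂ hψ₂ qe hqe
  -- the prime below `qe`
  have hQ : ¬ (I.map (algebraMap A B)).map
      (algebraMap B (Ch B (I.map (algebraMap A B)) (algebraMap A B e))) ≤
      (PrimeSpectrum.comap ψ₂ qe).asIdeal := by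
    intro hle
    apply hqe.1
    have h1 : K.map (algebraMap C (Ch C K c)) =
        ((I.map (algebraMap A B)).map
          (algebraMap B (Ch B (I.map (algebraMap A B)) (algebraMap A B e)))).map ψ₂ := by
      rw [Ideal.map_map, hψ₂]
      exact map_eq_map_of_eq _ K hK'
    rw [h1, Ideal.map_le_iff_le_comap]
    exact hle
  have hflat₁ := flat_at_prime_of_flatAtRigClosed _ ψ₁
    (hAB e _ _ rfl rfl ψ₁ hψ₁) (PrimeSpectrum.comap ψ₂ qe) hQ
  -- the local map
  let τ := Localization.localRingHom (PrimeSpectrum.comap ψ₂ qe).asIdeal qe.asIdeal ψ₂ rfl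
  have hτ : τ.comp (algebraMap _ (Localization.AtPrime (PrimeSpectrum.comap ψ₂ qe).asIdeal)) =
      (algebraMap (Ch C K c) (Localization.AtPrime qe.asIdeal)).comp ψ₂ := by
    apply RingHom.ext
    intro x
    exact Localization.localRingHom_to_map _ _ _ rfl x
  have hτflat : τ.Flat := by
    letI : Algebra (Ch B (I.map (algebraMap A B)) (algebraMap A B e))
        (Localization.AtPrime qe.asIdeal) :=
      ((algebraMap (Ch C K c) (Localization.AtPrime qe.asIdeal)).comp ψ₂).toAlgebra
    letI : Algebra (Localization.AtPrime (PrimeSpectrum.comap ψ₂ qe).asIdeal)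
        (Localization.AtPrime qe.asIdeal) := τ.toAlgebra
    haveI : IsScalarTower (Ch B (I.map (algebraMap A B)) (algebraMap A B e))
        (Localization.AtPrime (PrimeSpectrum.comap ψ₂ qe).asIdeal)
        (Localization.AtPrime qe.asIdeal) :=
      IsScalarTower.of_algebraMap_eq (fun x => (RingHom.congr_fun hτ x).symm)
    have hf : Module.Flat (Ch B (I.map (algebraMap A B)) (algebraMap A B e))
        (Localization.AtPrime qe.asIdeal) := hflat₂
    exact (Module.flat_iff_of_isLocalization
      (Localization.AtPrime (PrimeSpectrum.comap ψ₂ qe).asIdeal)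
      (PrimeSpectrum.comap ψ₂ qe).asIdeal.primeCompl (Localization.AtPrime qe.asIdeal)).mpr hf
  have := RingHom.Flat.comp hflat₁ hτflat
  rw [← RingHom.comp_assoc, hτ, RingHom.comp_assoc, huniq] at this
  exact this

end Comp

end Groth.Agent.R2.H40.RigFlat2
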