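import Mathlib
import Groth.Agent.R2.H40RigFlat2
import Groth.Agent.Lib.Helper14RigClosed4
import Groth.Agent.Lib.Helper5LocalFlat

/-!
# Rig-flat homomorphisms: squares with flat vertical maps and unramified reduction (helper40)
-/

set_option autoImplicit false
set_option linter.unusedSectionVars false
set_option linter.style.haveILetI false
universe u

namespace Groth.Agent.R2.H40.RigFlat3

open Groth.Agent.Lib.Helper14 Groth.Agent.Lib.Helper14.RigClosed5 Groth.Agent.R2.H40.RigFlat
  Groth.Agent.R2.H40.RigFlat2 IsLocalRing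

section LC

variable {R R' S' : Type u} [CommRing R] [CommRing R'] [CommRing S'] [IsLocalRing R]
  [IsLocalRing R'] [IsNoetherianRing R'] [IsNoetherianRing S'] [Algebra R R'] [Algebra R' S']
  [Algebra R S'] [IsScalarTower R R' S']

/-- Local criterion: if `S'` is `R`-flat and the maximal ideal of `R` generates that of `R'`, then
`S'` is `R'`-flat. -/
theorem flat_of_flat_of_map_maximalIdeal [Module.Flat R S']
    (hm : (maximalIdeal R).map (algebraMap R R') = maximalIdeal R')
    (hjac : (maximalIdeal R').map (algebraMap R' S') ≤ (⊥ : Ideal S').jacobson) :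
    Module.Flat R' S' := by
  apply Groth.Agent.Lib.Helper5.flat_of_lTensor_maximalIdeal_injective (A := R') (B := S') S' hjac
  rw [← hm]
  exact Groth.Agent.Lib.Helper5.lTensor_map_subtype_injective_of_flat S' (maximalIdeal R)

end LC




section Descent

variable {R S T : Type u} [CommRing R] [CommRing S] [CommRing T] [Algebra R S] [Algebra S T]
  [Algebra R T] [IsScalarTower R S T] [Module.Flat S T]

/-- Flatness over `R` descends from `T_P` to `S_p` when `S → T` is flat and `P` lies over `p`. -/
theorem flat_descent_localization (p : Ideal S) [p.IsPrime] (P : Ideal T) [P.IsPrime]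
    [P.LiesOver p] (h : (algebraMap R (Localization.AtPrime P)).Flat) :
    (algebraMap R (Localization.AtPrime p)).Flat := by
  haveI : Module.Flat R (Localization.AtPrime P) := RingHom.flat_algebraMap_iff.mp h
  letI := Localization.AtPrime.algebraOfLiesOver p P
  haveI : IsLocalHom (algebraMap (Localization.AtPrime p) (Localization.AtPrime P)) := by
    rw [RingHom.algebraMap_toAlgebra]
    exact Localization.isLocalHom_localRingHom _ _ _ Ideal.LiesOver.over
  haveI : Module.FaithfullyFlat (Localization.AtPrime p) (Localization.AtPrime P) :=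
    Module.FaithfullyFlat.of_flat_of_isLocalHom
  haveI : Module.Flat R (Localization.AtPrime p) :=
    Groth.Agent.Lib.Helper5.flat_of_faithfullyFlat_of_flat (R := R)
      (S := Localization.AtPrime p) (Localization.AtPrime P)
  exact RingHom.flat_algebraMap_iff.mpr inferInstance

end Descent

section Aux

variable (A : Type u) [CommRing A] (B : Type u) [CommRing B] [Algebra A B]

/-- Finite type over `A` from finite type over `B` for a `B`-algebra killed by `J`, when `B/J` is
of finite type over `A`. -/
theorem finiteType_of_finiteType_quotient (J : Ideal B) (hft : Algebra.FiniteType A (B ⧸ J))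
    (X : Type u) [CommRing X] [Algebra A X] [Algebra B X] [IsScalarTower A B X]
    (hX : Algebra.FiniteType B X) (hJ : ∀ j ∈ J, algebraMap B X j = 0) :
    Algebra.FiniteType A X := by
  let φ : (B ⧸ J) →ₐ[A] X := Ideal.Quotient.liftₐ J (IsScalarTower.toAlgHom A B X) hJ
  letI : Algebra (B ⧸ J) X := φ.toRingHom.toAlgebra
  haveI : IsScalarTower A (B ⧸ J) X :=
    IsScalarTower.of_algebraMap_eq (fun a => (φ.commutes a).symm)
  haveI : IsScalarTower B (B ⧸ J) X := IsScalarTower.of_algebraMap_eq (fun b => rfl)
  haveI : Algebra.FiniteType (B ⧸ J) X := Algebra.FiniteType.of_restrictScalars_finiteType B _ _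
  exact Algebra.FiniteType.trans hft inferInstance

/-- `B_{g}/K` is of finite type over `A` when `B/K` is. -/
theorem finiteType_quotient_Ch_of_finiteType [IsNoetherianRing B] (K : Ideal B)
    (hft : Algebra.FiniteType A (B ⧸ K)) (g : B) :
    Algebra.FiniteType A (Ch B K g ⧸ K.map (algebraMap B (Ch B K g))) := by
  apply finiteType_of_finiteType_quotient A B K hft _ (finiteType_quotient_Ch B K g)
  intro j hj
  exact Ideal.Quotient.eq_zero_iff_mem.mpr (Ideal.mem_map_of_mem _ hj)

/-- Formal unramifiedness of the reduction passes to completed principal localizations. -/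
theorem formallyUnramified_quotient_Ch [IsNoetherianRing B] (K : Ideal B)
    [Algebra.FormallyUnramified A (B ⧸ K)] (g : B) :
    Algebra.FormallyUnramified A (Ch B K g ⧸ K.map (algebraMap B (Ch B K g))) := by
  haveI : Algebra.FormallyUnramified B (Localization.Away g) :=
    Algebra.FormallyUnramified.of_isLocalization (Submonoid.powers g)
  haveI : Algebra.FormallyUnramified (B ⧸ K)
      (Localization.Away g ⧸ K.map (algebraMap B (Localization.Away g))) :=
    Algebra.FormallyUnramified.of_restrictScalars B (B ⧸ K) _
  haveI : IsScalarTower A (B ⧸ K)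
      (Localization.Away g ⧸ K.map (algebraMap B (Localization.Away g))) :=
    IsScalarTower.of_algebraMap_eq (fun a => by
      rw [IsScalarTower.algebraMap_apply A B (B ⧸ K),
        IsScalarTower.algebraMap_apply A B
          (Localization.Away g ⧸ K.map (algebraMap B (Localization.Away g)))]
      rfl)
  haveI : Algebra.FormallyUnramified A
      (Localization.Away g ⧸ K.map (algebraMap B (Localization.Away g))) :=
    Algebra.FormallyUnramified.comp A (B ⧸ K) _
  let θ : Localization.Away g →ₐ[A] (Ch B K g ⧸ K.map (algebraMap B (Ch B K g))) :=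
    (Ideal.Quotient.mkₐ A _).comp (IsScalarTower.toAlgHom A (Localization.Away g) (Ch B K g))
  have hθ : ∀ a ∈ K.map (algebraMap B (Localization.Away g)), θ a = 0 := by
    intro a ha
    change Ideal.Quotient.mk _ (algebraMap (Localization.Away g) (Ch B K g) a) = 0
    rw [Ideal.Quotient.eq_zero_iff_mem, map_algebraMap_Ch]
    exact Ideal.mem_map_of_mem _ ha
  let θ' := Ideal.Quotient.liftₐ (K.map (algebraMap B (Localization.Away g))) θ hθ
  apply Algebra.FormallyUnramified.of_surjective θ'
  intro y
  obtain ⟨c, rfl⟩ := Ideal.Quotient.mk_surjective y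
  obtain ⟨l, hl⟩ := exists_sub_mem_map_Ch B K g 1 c
  rw [pow_one] at hl
  refine ⟨Ideal.Quotient.mk _ l, ?_⟩
  change Ideal.Quotient.mk _ (algebraMap (Localization.Away g) (Ch B K g) l) = Ideal.Quotient.mk _ c
  rw [Ideal.Quotient.eq, ← neg_sub]
  exact (Ideal.neg_mem_iff _).mpr hl

end Aux

section MapCh

variable (B : Type u) [CommRing B] [IsNoetherianRing B] (K : Ideal B) [IsAdicComplete K B]

/-- The extension of a rig-closed prime `q` to `B_{g}` is a rig-closed prime lying over `q`,
when `g` is a unit modulo `q`. -/
theorem rigClosed_map_Ch (q : PrimeSpectrum B) (hq : IsRigClosed K q) (g : B)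
    (hunit : IsUnit (Ideal.Quotient.mk q.asIdeal g)) :
    ∃ hprime : (q.asIdeal.map (algebraMap B (Ch B K g))).IsPrime,
      IsRigClosed (K.map (algebraMap B (Ch B K g)))
        (⟨q.asIdeal.map (algebraMap B (Ch B K g)), hprime⟩ : PrimeSpectrum (Ch B K g)) ∧
      (q.asIdeal.map (algebraMap B (Ch B K g))).comap (algebraMap B (Ch B K g)) = q.asIdeal := by
  haveI := q.isPrime
  haveI : IsNoetherianRing (Ch B K g) := isNoetherianRing_Ch B K g
  haveI : IsAdicComplete (K.map (algebraMap B (Ch B K g))) (Ch B K g) := isAdicComplete_Ch B K g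
  obtain ⟨hqh, hbij⟩ := ComplLoc.main B K q.asIdeal g hunit
  obtain ⟨hdim, hKq⟩ := RigClosed.one_to_five B K q hq
  have hcomap : (q.asIdeal.map (algebraMap B (Ch B K g))).comap (algebraMap B (Ch B K g)) =
      q.asIdeal := by
    apply le_antisymm
    · intro b hb
      have h2 : Ideal.quotientMap (q.asIdeal.map (algebraMap B (Ch B K g)))
          (algebraMap B (Ch B K g)) Ideal.le_comap_map (Ideal.Quotient.mk q.asIdeal b) = 0 := by
        rw [Ideal.quotientMap_mk, Ideal.Quotient.eq_zero_iff_mem]
        exact hb
      exact Ideal.Quotient.eq_zero_iff_mem.mp (hbij.1 (h2.trans (map_zero _).symm))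
    · exact Ideal.le_comap_map
  refine ⟨hqh, ?_, hcomap⟩
  apply RigClosed.five_to_one (Ch B K g) (K.map (algebraMap B (Ch B K g)))
    ⟨q.asIdeal.map (algebraMap B (Ch B K g)), hqh⟩
  refine ⟨?_, ?_⟩
  · rw [← hdim]
    exact (ringKrullDim_eq_of_ringEquiv (RingEquiv.ofBijective _ hbij)).symm
  · intro h
    apply hKq
    intro j hj
    have h1 : algebraMap B (Ch B K g) j ∈ q.asIdeal.map (algebraMap B (Ch B K g)) :=
      h (Ideal.mem_map_of_mem _ hj)
    rw [← hcomap]
    exact h1

end MapCh

section Square

variable (A : Type u) [CommRing A] [IsNoetherianRing A] (I : Ideal A) [IsAdicComplete I A]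
  (B : Type u) [CommRing B] [Algebra A B] [IsNoetherianRing B]
  [IsAdicComplete (I.map (algebraMap A B)) B]
  (A' : Type u) [CommRing A'] [Algebra A A'] [IsNoetherianRing A']
  [IsAdicComplete (I.map (algebraMap A A')) A']
  (B' : Type u) [CommRing B'] [Algebra A B'] [Algebra B B'] [Algebra A' B'] [IsScalarTower A B B']
  [IsScalarTower A A' B'] [IsNoetherianRing B'] [IsAdicComplete (I.map (algebraMap A B')) B']

/-- Core case: flatness of `A' → B'_{q'}` at a rig-closed prime `q'` whose contraction to `A` is
rig-closed. -/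
theorem flat_of_square_core
    (hftB'A : Algebra.FiniteType A (B' ⧸ I.map (algebraMap A B')))
    (hftA' : Algebra.FiniteType A (A' ⧸ I.map (algebraMap A A')))
    [Module.Flat B B'] [Algebra.FormallyUnramified A (A' ⧸ I.map (algebraMap A A'))]
    (hnaive : ∀ q : PrimeSpectrum B, IsRigClosed (I.map (algebraMap A B)) q →
      (algebraMap A (Localization.AtPrime q.asIdeal)).Flat)
    (q' : PrimeSpectrum B') (hq' : IsRigClosed (I.map (algebraMap A B')) q')
    (hp : IsRigClosed I (PrimeSpectrum.comap (algebraMap A B') q')) :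
    (algebraMap A' (Localization.AtPrime q'.asIdeal)).Flat := by
  -- ideal equalities
  have eB : (I.map (algebraMap A B)).map (algebraMap B B') = I.map (algebraMap A B') := by
    rw [Ideal.map_map, ← IsScalarTower.algebraMap_eq]
  have eA' : (I.map (algebraMap A A')).map (algebraMap A' B') = I.map (algebraMap A B') := by
    rw [Ideal.map_map, ← IsScalarTower.algebraMap_eq]
  haveI : IsAdicComplete ((I.map (algebraMap A B)).map (algebraMap B B')) B' := by
    rw [eB]; infer_instance
  haveI : IsAdicComplete ((I.map (algebraMap A A')).map (algebraMap A' B')) B' := by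
    rw [eA']; infer_instance
  -- finiteness of `B'/q'`
  have hfinA : Module.Finite A (B' ⧸ q'.asIdeal) :=
    RigClosed2.finite_quotient_of_forall_maximal A I B' q' hq' (fun m hm hqm =>
      RigClosed2.finite_quotient_of_rigClosed_comap A I B' q' hftB'A hp m hm hqm)
  haveI := hfinA
  have hfinB : Module.Finite B (B' ⧸ q'.asIdeal) := Module.Finite.of_restrictScalars_finite A B _
  have hfinA' : Module.Finite A' (B' ⧸ q'.asIdeal) :=
    Module.Finite.of_restrictScalars_finite A A' _
  -- contractions are rig-closed
  have hq : IsRigClosed (I.map (algebraMap A B)) (PrimeSpectrum.comap (algebraMap B B') q') :=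
    RigClosed2.rigClosed_comap_of_finite B _ B' q' (by rw [eB]; exact hq') hfinB
  have hp' : IsRigClosed (I.map (algebraMap A A')) (PrimeSpectrum.comap (algebraMap A' B') q') :=
    RigClosed2.rigClosed_comap_of_finite A' _ B' q' (by rw [eA']; exact hq') hfinA'
  have hpt : PrimeSpectrum.comap (algebraMap A A') (PrimeSpectrum.comap (algebraMap A' B') q') =
      PrimeSpectrum.comap (algebraMap A B') q' := by
    apply PrimeSpectrum.ext
    change (q'.asIdeal.comap (algebraMap A' B')).comap (algebraMap A A') =
      q'.asIdeal.comap (algebraMap A B')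
    rw [Ideal.comap_comap, ← IsScalarTower.algebraMap_eq]
  have hpp : IsRigClosed I (PrimeSpectrum.comap (algebraMap A A')
      (PrimeSpectrum.comap (algebraMap A' B') q')) := by
    rw [hpt]; exact hp
  haveI : Algebra.FormallyUnramified (A ⧸ I) (A' ⧸ I.map (algebraMap A A')) :=
    Algebra.FormallyUnramified.of_restrictScalars A (A ⧸ I) (A' ⧸ I.map (algebraMap A A'))
  have hmax := RigClosed4.map_map_eq_maximalIdeal A I A' hftA'
    (PrimeSpectrum.comap (algebraMap A' B') q') hpp
  -- the primes involved
  let qB : Ideal B := (PrimeSpectrum.comap (algebraMap B B') q').asIdeal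
  let pA' : Ideal A' := (PrimeSpectrum.comap (algebraMap A' B') q').asIdeal
  let pA : Ideal A := (PrimeSpectrum.comap (algebraMap A A')
    (PrimeSpectrum.comap (algebraMap A' B') q')).asIdeal
  haveI : qB.IsPrime := (PrimeSpectrum.comap (algebraMap B B') q').isPrime
  haveI : pA'.IsPrime := (PrimeSpectrum.comap (algebraMap A' B') q').isPrime
  haveI : pA.IsPrime := (PrimeSpectrum.comap (algebraMap A A')
    (PrimeSpectrum.comap (algebraMap A' B') q')).isPrime
  haveI : q'.asIdeal.LiesOver qB := ⟨rfl⟩
  haveI : q'.asIdeal.LiesOver pA' := ⟨rfl⟩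
  haveI : pA'.LiesOver pA := ⟨rfl⟩
  haveI : q'.asIdeal.LiesOver pA := ⟨congrArg PrimeSpectrum.asIdeal hpt⟩
  letI := Localization.AtPrime.algebraOfLiesOver qB q'.asIdeal
  letI := Localization.AtPrime.algebraOfLiesOver pA' q'.asIdeal
  letI := Localization.AtPrime.algebraOfLiesOver pA pA'
  letI := Localization.AtPrime.algebraOfLiesOver pA q'.asIdeal
  -- flatness over `A` and over `A_p`
  haveI : Module.Flat A (Localization.AtPrime qB) := RingHom.flat_algebraMap_iff.mp (hnaive _ hq)
  haveI : Module.Flat A (Localization.AtPrime q'.asIdeal) :=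
    Module.Flat.trans A (Localization.AtPrime qB) (Localization.AtPrime q'.asIdeal)
  haveI : Module.Flat (Localization.AtPrime pA) (Localization.AtPrime q'.asIdeal) :=
    (Module.flat_iff_of_isLocalization (Localization.AtPrime pA) pA.primeCompl
      (Localization.AtPrime q'.asIdeal)).mpr inferInstance
  -- the maximal ideal of `A_p` generates that of `A'_{p'}`
  have hm : (maximalIdeal (Localization.AtPrime pA)).map
      (algebraMap (Localization.AtPrime pA) (Localization.AtPrime pA')) =
      maximalIdeal (Localization.AtPrime pA') := by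
    rw [← Localization.AtPrime.map_eq_maximalIdeal, Ideal.map_map,
      ← IsScalarTower.algebraMap_eq A (Localization.AtPrime pA) (Localization.AtPrime pA'),
      IsScalarTower.algebraMap_eq A A' (Localization.AtPrime pA'), ← Ideal.map_map]
    exact hmax
  have hjac : (maximalIdeal (Localization.AtPrime pA')).map
      (algebraMap (Localization.AtPrime pA') (Localization.AtPrime q'.asIdeal)) ≤
      (⊥ : Ideal (Localization.AtPrime q'.asIdeal)).jacobson := by
    haveI : IsLocalHom (algebraMap (Localization.AtPrime pA')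
        (Localization.AtPrime q'.asIdeal)) := by
      rw [RingHom.algebraMap_toAlgebra]
      exact Localization.isLocalHom_localRingHom pA' q'.asIdeal (algebraMap A' B')
        Ideal.LiesOver.over
    rw [IsLocalRing.jacobson_eq_maximalIdeal ⊥ bot_ne_top]
    exact IsLocalRing.map_maximalIdeal_le _
  haveI : Module.Flat (Localization.AtPrime pA') (Localization.AtPrime q'.asIdeal) :=
    flat_of_flat_of_map_maximalIdeal (R := Localization.AtPrime pA) hm hjac
  haveI : Module.Flat A' (Localization.AtPrime q'.asIdeal) :=
    Module.Flat.trans A' (Localization.AtPrime pA') (Localization.AtPrime q'.asIdeal)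
  exact RingHom.flat_algebraMap_iff.mpr inferInstance

end Square


section SquareN

variable (A : Type u) [CommRing A] [IsNoetherianRing A] (I : Ideal A) [IsAdicComplete I A]
  (B : Type u) [CommRing B] [Algebra A B] [IsNoetherianRing B]
  [IsAdicComplete (I.map (algebraMap A B)) B]
  (A' : Type u) [CommRing A'] [Algebra A A'] [IsNoetherianRing A']
  [IsAdicComplete (I.map (algebraMap A A')) A']
  (B' : Type u) [CommRing B'] [Algebra A B'] [Algebra B B'] [Algebra A' B'] [IsScalarTower A B B']
  [IsScalarTower A A' B'] [IsNoetherianRing B'] [IsAdicComplete (I.map (algebraMap A B')) B']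
  (f : A)

local notation "Af" => Ch A I f
local notation "Bf" => Ch B (Ideal.map (algebraMap A B) I) (algebraMap A B f)
local notation "A'f" => Ch A' (Ideal.map (algebraMap A A') I) (algebraMap A A' f)
local notation "B'f" => Ch B' (Ideal.map (algebraMap A B') I) (algebraMap A B' f)

theorem flat_of_square_aux
    (hftB'A : Algebra.FiniteType A (B' ⧸ I.map (algebraMap A B')))
    (hftA' : Algebra.FiniteType A (A' ⧸ I.map (algebraMap A A')))
    [Module.Flat B B'] [Algebra.FormallyUnramified A (A' ⧸ I.map (algebraMap A A'))]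
    (hAB : RigFlatGen A I B)
    (q' : PrimeSpectrum B') (hq' : IsRigClosed (I.map (algebraMap A B')) q')
    (hunit : IsUnit (Ideal.Quotient.mk q'.asIdeal (algebraMap A B' f)))
    (hS : ((q'.asIdeal.map (algebraMap B' B'f)).comap (chMap A I B' f)).IsPrime ∧
      ¬ (I.map (algebraMap A Af)) ≤ ((q'.asIdeal.map (algebraMap B' B'f)).comap (chMap A I B' f)) ∧
      ∀ y : PrimeSpectrum Af,
        ((q'.asIdeal.map (algebraMap B' B'f)).comap (chMap A I B' f)) ≤ y.asIdeal →
        ¬ (I.map (algebraMap A Af)) ≤ y.asIdeal →
        y.asIdeal = ((q'.asIdeal.map (algebraMap B' B'f)).comap (chMap A I B' f))) :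
    (algebraMap A' (Localization.AtPrime q'.asIdeal)).Flat := by
  -- ideal equalities downstairs
  have eB : I.map (algebraMap A B') = (I.map (algebraMap A B)).map (algebraMap B B') := by
    rw [Ideal.map_map, ← IsScalarTower.algebraMap_eq]
  have eA' : I.map (algebraMap A B') = (I.map (algebraMap A A')).map (algebraMap A' B') := by
    rw [Ideal.map_map, ← IsScalarTower.algebraMap_eq]
  have efB : algebraMap A B' f = algebraMap B B' (algebraMap A B f) :=
    IsScalarTower.algebraMap_apply A B B' f
  have efA' : algebraMap A B' f = algebraMap A' B' (algebraMap A A' f) :=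
    IsScalarTower.algebraMap_apply A A' B' f
  -- basic instances
  haveI : IsNoetherianRing Af := isNoetherianRing_Ch A I f
  haveI : IsNoetherianRing Bf := isNoetherianRing_Ch B _ _
  haveI : IsNoetherianRing A'f := isNoetherianRing_Ch A' _ _
  haveI : IsNoetherianRing B'f := isNoetherianRing_Ch B' _ _
  haveI cAf : IsAdicComplete (I.map (algebraMap A Af)) Af := isAdicComplete_Ch A I f
  have cBf : IsAdicComplete ((I.map (algebraMap A B)).map (algebraMap B Bf)) Bf :=
    isAdicComplete_Ch B _ _
  have cA'f : IsAdicComplete ((I.map (algebraMap A A')).map (algebraMap A' A'f)) A'f :=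
    isAdicComplete_Ch A' _ _
  haveI cB'f : IsAdicComplete ((I.map (algebraMap A B')).map (algebraMap B' B'f)) B'f :=
    isAdicComplete_Ch B' _ _
  -- the maps
  let ψ₁ : Af →+* Bf := chMap A I B f
  let ψ₂ : Af →+* A'f := chMap A I A' f
  let ψ₃ : Af →+* B'f := chMap A I B' f
  let β : Bf →+* B'f := chMapGen B (I.map (algebraMap A B)) B' (algebraMap A B f) _ _ eB efB
  let γ : A'f →+* B'f := chMapGen A' (I.map (algebraMap A A')) B' (algebraMap A A' f) _ _ eA' efA'
  have hψ₁ : ψ₁.comp (algebraMap A Af) = algebraMap A Bf := chMap_comp_algebraMap' A I B f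
  have hψ₂ : ψ₂.comp (algebraMap A Af) = algebraMap A A'f := chMap_comp_algebraMap' A I A' f
  have hψ₃ : ψ₃.comp (algebraMap A Af) = algebraMap A B'f := chMap_comp_algebraMap' A I B' f
  have hβ : β.comp (algebraMap B Bf) = algebraMap B B'f := chMapGen_comp_algebraMap _ _ _ _ _ _ eB efB
  have hγ : γ.comp (algebraMap A' A'f) = algebraMap A' B'f :=
    chMapGen_comp_algebraMap _ _ _ _ _ _ eA' efA'
  have hKX : (I.map (algebraMap A B')).map (algebraMap B' B'f) = I.map (algebraMap A B'f) :=
    map_eq_map_of_eq I _ rfl
  have hβψ₁A : (β.comp ψ₁).comp (algebraMap A Af) = algebraMap A B'f := by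
    rw [RingHom.comp_assoc, hψ₁, IsScalarTower.algebraMap_eq A B Bf, ← RingHom.comp_assoc, hβ,
      ← IsScalarTower.algebraMap_eq]
  have hγψ₂A : (γ.comp ψ₂).comp (algebraMap A Af) = algebraMap A B'f := by
    rw [RingHom.comp_assoc, hψ₂, IsScalarTower.algebraMap_eq A A' A'f, ← RingHom.comp_assoc, hγ,
      ← IsScalarTower.algebraMap_eq]
  have hβψ₁ : β.comp ψ₁ = ψ₃ :=
    ringHom_ext_Ch A I f (β.comp ψ₁) ψ₃ (hβψ₁A.trans hψ₃.symm)
      ((I.map (algebraMap A B')).map (algebraMap B' B'f)) (by rw [hβψ₁A, hKX])
  have hγψ₂ : γ.comp ψ₂ = ψ₃ :=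
    ringHom_ext_Ch A I f (γ.comp ψ₂) ψ₃ (hγψ₂A.trans hψ₃.symm)
      ((I.map (algebraMap A B')).map (algebraMap B' B'f)) (by rw [hγψ₂A, hKX])
  -- algebra structures on the completed square
  letI alg1 : Algebra Af Bf := ψ₁.toAlgebra
  letI alg2 : Algebra Af A'f := ψ₂.toAlgebra
  letI alg3 : Algebra Af B'f := ψ₃.toAlgebra
  letI alg4 : Algebra Bf B'f := β.toAlgebra
  letI alg5 : Algebra A'f B'f := γ.toAlgebra
  haveI : IsScalarTower Af Bf B'f := IsScalarTower.of_algebraMap_eq' hβψ₁.symm
  haveI : IsScalarTower Af A'f B'f := IsScalarTower.of_algebraMap_eq' hγψ₂.symm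
  haveI : IsScalarTower A Af Bf := IsScalarTower.of_algebraMap_eq' hψ₁.symm
  haveI : IsScalarTower A Af A'f := IsScalarTower.of_algebraMap_eq' hψ₂.symm
  haveI : IsScalarTower A Af B'f := IsScalarTower.of_algebraMap_eq' hψ₃.symm
  -- ideals upstairs
  have iB : (I.map (algebraMap A Af)).map (algebraMap Af Bf) =
      (I.map (algebraMap A B)).map (algebraMap B Bf) :=
    (map_eq_map_of_eq I (I.map (algebraMap A Af)) rfl).trans
      (map_eq_map_of_eq I (I.map (algebraMap A B)) rfl).symm
  have iA' : (I.map (algebraMap A Af)).map (algebraMap Af A'f) =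
      (I.map (algebraMap A A')).map (algebraMap A' A'f) :=
    (map_eq_map_of_eq I (I.map (algebraMap A Af)) rfl).trans
      (map_eq_map_of_eq I (I.map (algebraMap A A')) rfl).symm
  have iB' : (I.map (algebraMap A Af)).map (algebraMap Af B'f) =
      (I.map (algebraMap A B')).map (algebraMap B' B'f) :=
    (map_eq_map_of_eq I (I.map (algebraMap A Af)) rfl).trans
      (map_eq_map_of_eq I (I.map (algebraMap A B')) rfl).symm
  haveI : IsAdicComplete ((I.map (algebraMap A Af)).map (algebraMap Af Bf)) Bf := by
    rw [iB]; exact cBf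
  haveI : IsAdicComplete ((I.map (algebraMap A Af)).map (algebraMap Af A'f)) A'f := by
    rw [iA']; exact cA'f
  haveI : IsAdicComplete ((I.map (algebraMap A Af)).map (algebraMap Af B'f)) B'f := by
    rw [iB']; exact cB'f
  -- finite type conditions upstairs
  have hft1 : Algebra.FiniteType Af (B'f ⧸ (I.map (algebraMap A Af)).map (algebraMap Af B'f)) := by
    rw [iB']
    haveI := finiteType_quotient_Ch_of_finiteType A B' (I.map (algebraMap A B')) hftB'A
      (algebraMap A B' f)
    exact Algebra.FiniteType.of_restrictScalars_finiteType A Af _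
  have hft2 : Algebra.FiniteType Af (A'f ⧸ (I.map (algebraMap A Af)).map (algebraMap Af A'f)) := by
    rw [iA']
    haveI := finiteType_quotient_Ch_of_finiteType A A' (I.map (algebraMap A A')) hftA'
      (algebraMap A A' f)
    exact Algebra.FiniteType.of_restrictScalars_finiteType A Af _
  -- flatness of `B_f^ → B'_f^`
  haveI : Module.Flat Bf B'f :=
    chMapGen_flat B (I.map (algebraMap A B)) B' (algebraMap A B f) _ _ eB efB
  -- unramified reduction upstairs
  haveI : Algebra.FormallyUnramified Af
      (A'f ⧸ (I.map (algebraMap A Af)).map (algebraMap Af A'f)) := by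
    rw [iA']
    haveI := formallyUnramified_quotient_Ch A A' (I.map (algebraMap A A')) (algebraMap A A' f)
    exact Algebra.FormallyUnramified.of_restrictScalars A Af _
  -- naive rig-flatness upstairs
  have hnaive : ∀ q : PrimeSpectrum Bf, IsRigClosed ((I.map (algebraMap A Af)).map
      (algebraMap Af Bf)) q → (algebraMap Af (Localization.AtPrime q.asIdeal)).Flat := by
    intro q hq
    rw [iB] at hq
    have := hAB f _ _ rfl rfl ψ₁ hψ₁ q hq
    rw [IsScalarTower.algebraMap_eq Af Bf (Localization.AtPrime q.asIdeal)]
    exact this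
  -- the prime upstairs
  obtain ⟨hprime, hrc, hcomap⟩ := rigClosed_map_Ch B' (I.map (algebraMap A B')) q' hq'
    (algebraMap A B' f) hunit
  have hrc' : IsRigClosed ((I.map (algebraMap A Af)).map (algebraMap Af B'f))
      (⟨q'.asIdeal.map (algebraMap B' B'f), hprime⟩ : PrimeSpectrum B'f) := by
    rw [iB']; exact hrc
  have hpc : IsRigClosed (I.map (algebraMap A Af)) (PrimeSpectrum.comap (algebraMap Af B'f)
      (⟨q'.asIdeal.map (algebraMap B' B'f), hprime⟩ : PrimeSpectrum B'f)) :=
    ⟨hS.2.1, fun y hy hIy => PrimeSpectrum.ext (hS.2.2 y hy hIy)⟩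
  have hcore := flat_of_square_core Af (I.map (algebraMap A Af)) Bf A'f B'f hft1 hft2 hnaive
    ⟨q'.asIdeal.map (algebraMap B' B'f), hprime⟩ hrc' hpc
  -- descent to `B'_{q'}`
  haveI : Module.Flat A' A'f := flat_Ch A' _ _
  have hflat1 : (algebraMap A' (Localization.AtPrime (q'.asIdeal.map (algebraMap B' B'f)))).Flat := by
    have h1 : algebraMap A' (Localization.AtPrime (q'.asIdeal.map (algebraMap B' B'f))) =
        (algebraMap A'f (Localization.AtPrime (q'.asIdeal.map (algebraMap B' B'f)))).comp
          (algebraMap A' A'f) := by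
      rw [IsScalarTower.algebraMap_eq A'f B'f
        (Localization.AtPrime (q'.asIdeal.map (algebraMap B' B'f))), RingHom.comp_assoc]
      change _ = (algebraMap B'f _).comp (γ.comp (algebraMap A' A'f))
      rw [hγ, ← IsScalarTower.algebraMap_eq]
    rw [h1]
    exact RingHom.Flat.comp (RingHom.flat_algebraMap_iff.mpr inferInstance) hcore
  haveI : Module.Flat B' B'f := flat_Ch B' _ _
  haveI : (q'.asIdeal.map (algebraMap B' B'f)).LiesOver q'.asIdeal := ⟨hcomap.symm⟩
  exact flat_descent_localization q'.asIdeal (q'.asIdeal.map (algebraMap B' B'f)) hflat1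

end SquareN



section Compat

variable (R : Type u) [CommRing R] (K : Ideal R) (S : Type u) [CommRing S] [Algebra R S] (r : R)

/-- Compatibility with the localizations implies compatibility with the structure maps. -/
theorem compat_of_compat_away
    (ψ : Ch R K r →+* Ch S (K.map (algebraMap R S)) (algebraMap R S r))
    (hψ : ψ.comp (algebraMap (Localization.Away r) (Ch R K r)) =
      (algebraMap (Localization.Away (algebraMap R S r))
        (Ch S (K.map (algebraMap R S)) (algebraMap R S r))).comp
        (Localization.awayMap (algebraMap R S) r)) :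
    ψ.comp (algebraMap R (Ch R K r)) =
      algebraMap R (Ch S (K.map (algebraMap R S)) (algebraMap R S r)) := by
  have h1 : algebraMap R (Ch R K r) =
      (algebraMap (Localization.Away r) (Ch R K r)).comp (algebraMap R (Localization.Away r)) := rfl
  have h2 : algebraMap R (Ch S (K.map (algebraMap R S)) (algebraMap R S r)) =
      (algebraMap (Localization.Away (algebraMap R S r))
        (Ch S (K.map (algebraMap R S)) (algebraMap R S r))).comp
        ((algebraMap S (Localization.Away (algebraMap R S r))).comp (algebraMap R S)) := rfl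
  rw [h1, ← RingHom.comp_assoc, hψ, RingHom.comp_assoc, h2]
  congr 1
  exact IsLocalization.map_comp _

end Compat

section Final

variable (A : Type u) [CommRing A] [IsNoetherianRing A] (I : Ideal A) [IsAdicComplete I A]
  (B : Type u) [CommRing B] [Algebra A B] [IsNoetherianRing B]
  [IsAdicComplete (I.map (algebraMap A B)) B]
  (A' : Type u) [CommRing A'] [Algebra A A'] [IsNoetherianRing A']
  [IsAdicComplete (I.map (algebraMap A A')) A']
  (B' : Type u) [CommRing B'] [Algebra A B'] [Algebra B B'] [Algebra A' B'] [IsScalarTower A B B']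
  [IsScalarTower A A' B'] [IsNoetherianRing B'] [IsAdicComplete (I.map (algebraMap A B')) B']

/-- Flatness of `A' → B'_{q'}` at every rig-closed prime `q'` of `B'`. -/
theorem flat_of_square
    (hftB'A : Algebra.FiniteType A (B' ⧸ I.map (algebraMap A B')))
    (hftA' : Algebra.FiniteType A (A' ⧸ I.map (algebraMap A A')))
    [Module.Flat B B'] [Algebra.FormallyUnramified A (A' ⧸ I.map (algebraMap A A'))]
    (hAB : RigFlatGen A I B)
    (q' : PrimeSpectrum B') (hq' : IsRigClosed (I.map (algebraMap A B')) q') :
    (algebraMap A' (Localization.AtPrime q'.asIdeal)).Flat := by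
  obtain ⟨f, hunit, hS⟩ := RigClosed5.main A I B' hftB'A q' hq'
  exact flat_of_square_aux A I B A' B' f hftB'A hftA' hAB q' hq' hunit
    (hS (chMap A I B' f) (chMap_comp_algebraMap A I B' f))

end Final


section Final2

variable (A : Type u) [CommRing A] [IsNoetherianRing A] (I : Ideal A) [IsAdicComplete I A]
  (B : Type u) [CommRing B] [Algebra A B] [IsNoetherianRing B]
  [IsAdicComplete (I.map (algebraMap A B)) B]
  (A' : Type u) [CommRing A'] [Algebra A A'] [IsNoetherianRing A']
  [IsAdicComplete (I.map (algebraMap A A')) A']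
  (B' : Type u) [CommRing B'] [Algebra A B'] [Algebra B B'] [Algebra A' B'] [IsScalarTower A B B']
  [IsScalarTower A A' B'] [IsNoetherianRing B'] [IsAdicComplete (I.map (algebraMap A B')) B']
  (f' : A')

local notation "A''" => Ch A' (Ideal.map (algebraMap A A') I) f'
local notation "B''" => Ch B' (Ideal.map (algebraMap A' B') (Ideal.map (algebraMap A A') I))
  (algebraMap A' B' f')

/-- Rig-flatness ascends along a square with flat `B → B'` and unramified reduction of `A → A'`:
the statement at a single `f'`. -/
theorem flat_at_rigClosed_of_square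
    (hftA' : Algebra.FiniteType A (A' ⧸ (I.map (algebraMap A A'))))
    (hftB'A' : Algebra.FiniteType A' (B' ⧸ (I.map (algebraMap A B'))))
    [Module.Flat B B'] [Algebra.FormallyUnramified A (A' ⧸ I.map (algebraMap A A'))]
    (hAB : RigFlatGen A I B)
    (ψ : A'' →+* B'') (hψ : ψ.comp (algebraMap A' A'') = algebraMap A' B'')
    (q : PrimeSpectrum B'')
    (hq : IsRigClosed (((I.map (algebraMap A A')).map (algebraMap A' B')).map
      (algebraMap B' B'')) q) :
    ((algebraMap B'' (Localization.AtPrime q.asIdeal)).comp ψ).Flat := by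
  haveI : IsNoetherianRing A'' := isNoetherianRing_Ch A' _ _
  haveI : IsNoetherianRing B'' := isNoetherianRing_Ch B' _ _
  have cA'' := isAdicComplete_Ch A' (I.map (algebraMap A A')) f'
  have cB'' := isAdicComplete_Ch B' ((I.map (algebraMap A A')).map (algebraMap A' B'))
    (algebraMap A' B' f')
  have eK : (I.map (algebraMap A A')).map (algebraMap A' B') = I.map (algebraMap A B') :=
    map_eq_map_of_eq I _ rfl
  have iA'' : (I.map (algebraMap A A')).map (algebraMap A' A'') = I.map (algebraMap A A'') :=
    map_eq_map_of_eq I _ rfl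
  have iB'' : ((I.map (algebraMap A A')).map (algebraMap A' B')).map (algebraMap B' B'') =
      I.map (algebraMap A B'') := map_eq_map_of_eq I _ eK
  haveI : IsAdicComplete (I.map (algebraMap A A'')) A'' := by rw [← iA'']; exact cA''
  haveI : IsAdicComplete (I.map (algebraMap A B'')) B'' := by rw [← iB'']; exact cB''
  letI : Algebra A'' B'' := ψ.toAlgebra
  haveI : IsScalarTower A' A'' B'' := IsScalarTower.of_algebraMap_eq' hψ.symm
  haveI : IsScalarTower A A'' B'' := by
    apply IsScalarTower.of_algebraMap_eq
    intro x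
    rw [IsScalarTower.algebraMap_apply A A' A'', ← IsScalarTower.algebraMap_apply A' A'' B'',
      ← IsScalarTower.algebraMap_apply A A' B'']
  -- finite type
  have hftB'A : Algebra.FiniteType A (B' ⧸ I.map (algebraMap A B')) := by
    apply finiteType_of_finiteType_quotient A A' (I.map (algebraMap A A')) hftA' _ hftB'A'
    intro j hj
    rw [IsScalarTower.algebraMap_apply A' B' (B' ⧸ I.map (algebraMap A B'))]
    apply Ideal.Quotient.eq_zero_iff_mem.mpr
    rw [← eK]
    exact Ideal.mem_map_of_mem _ hj
  have hft1 : Algebra.FiniteType A (B'' ⧸ I.map (algebraMap A B'')) := by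
    rw [← iB'']
    apply finiteType_quotient_Ch_of_finiteType A B'
    rw [eK]
    exact hftB'A
  have hft2 : Algebra.FiniteType A (A'' ⧸ I.map (algebraMap A A'')) := by
    rw [← iA'']
    exact finiteType_quotient_Ch_of_finiteType A A' _ hftA' f'
  haveI : Module.Flat B' B'' := flat_Ch B' _ _
  haveI : Module.Flat B B'' := Module.Flat.trans B B' B''
  haveI : Algebra.FormallyUnramified A (A'' ⧸ I.map (algebraMap A A'')) := by
    rw [← iA'']
    exact formallyUnramified_quotient_Ch A A' _ f'
  have hq2 : IsRigClosed (I.map (algebraMap A B'')) q := by rw [← iB'']; exact hq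
  have := flat_of_square A I B A'' B'' hft1 hft2 hAB q hq2
  rw [IsScalarTower.algebraMap_eq A'' B'' (Localization.AtPrime q.asIdeal)] at this
  exact this

end Final2

end Groth.Agent.R2.H40.RigFlat3
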