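import Mathlib
import Groth.Agent.R2.H40RigFlat3

/-!
# Rig-flat homomorphisms: descent along faithfully flat maps (helper40)
-/

set_option autoImplicit false
set_option linter.unusedSectionVars false
set_option linter.style.haveILetI false
universe u

namespace Groth.Agent.R2.H40.RigFlat4

open Groth.Agent.Lib.Helper14 Groth.Agent.Lib.Helper14.RigClosed5 Groth.Agent.R2.H40.RigFlat
  Groth.Agent.R2.H40.RigFlat2 Groth.Agent.R2.H40.RigFlat3

section Over

variable (B : Type u) [CommRing B] [IsNoetherianRing B] (J : Ideal B)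
  (B' : Type u) [CommRing B'] [Algebra B B'] [IsNoetherianRing B'] [Module.FaithfullyFlat B B']
  (g : B)

local notation "L" => Localization.Away g
local notation "L'" => Localization.Away (algebraMap B B' g)
local notation "JL" => Ideal.map (algebraMap B (Localization.Away g)) J
local notation "K'L'" => Ideal.map (algebraMap B' (Localization.Away (algebraMap B B' g)))
  (Ideal.map (algebraMap B B') J)
local notation "Bf" => Ch B J g
local notation "B'f" => Ch B' (Ideal.map (algebraMap B B') J) (algebraMap B B' g)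

/-- Every maximal ideal of `B_{g}` is the contraction of a prime of `B'_{g}`. -/
theorem exists_prime_over_maximal (𝔪 : Ideal Bf) (h𝔪 : 𝔪.IsMaximal) :
    ∃ P : Ideal B'f, P.IsPrime ∧ P.comap (chMap B J B' g) = 𝔪 := by
  haveI : IsNoetherianRing Bf := isNoetherianRing_Ch B J g
  haveI : IsAdicComplete (J.map (algebraMap B Bf)) Bf := isAdicComplete_Ch B J g
  haveI := h𝔪.isPrime
  -- `J B_f^ ⊆ 𝔪`
  have hJ𝔪 : J.map (algebraMap B Bf) ≤ 𝔪 :=
    (IsAdicComplete.le_jacobson_bot _).trans (sInf_le ⟨bot_le, h𝔪⟩)
  -- primes downstairs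
  let 𝔪L : Ideal L := 𝔪.comap (algebraMap L Bf)
  let 𝔫 : Ideal B := 𝔪L.comap (algebraMap B L)
  haveI : 𝔪L.IsPrime := Ideal.comap_isPrime _ _
  haveI : 𝔫.IsPrime := Ideal.comap_isPrime _ _
  have hJ𝔫 : J ≤ 𝔫 := fun j hj => hJ𝔪 (Ideal.mem_map_of_mem _ hj)
  have hg𝔫 : g ∉ 𝔫 := by
    intro h
    have h1 : algebraMap B Bf g ∈ 𝔪 := h
    exact h𝔪.ne_top (Ideal.eq_top_of_isUnit_mem _ h1 (isUnit_algebraMap_Ch B J g))
  obtain ⟨N', hN'prime, hN'over⟩ := Ideal.exists_isPrime_liesOver_of_faithfullyFlat (B := B') 𝔫
  have hover : 𝔫 = N'.comap (algebraMap B B') := hN'over.over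
  have hg'N' : algebraMap B B' g ∉ N' := by
    intro h
    apply hg𝔫
    rw [hover]
    exact h
  have hK'N' : J.map (algebraMap B B') ≤ N' := by
    rw [Ideal.map_le_iff_le_comap, ← hover]
    exact hJ𝔫
  -- the prime of `L'`
  have hN'L' : (N'.map (algebraMap B' L')).IsPrime :=
    IsLocalization.isPrime_of_isPrime_disjoint (Submonoid.powers (algebraMap B B' g)) L' N'
      hN'prime ((Ideal.disjoint_powers_iff_notMem_of_isPrime _).mpr hg'N')
  have hKN : K'L' ≤ N'.map (algebraMap B' L') := Ideal.map_mono hK'N'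
  -- the prime upstairs
  let ε' := AdicCompletion.evalₐ K'L' 1
  have hP0 : ((N'.map (algebraMap B' L')).map (Ideal.Quotient.mk (K'L' ^ 1))).IsPrime := by
    apply Ideal.map_isPrime_of_surjective Ideal.Quotient.mk_surjective
    rw [Ideal.mk_ker, pow_one]
    exact hKN
  let P : Ideal B'f := Ideal.comap ε'.toRingHom
    ((N'.map (algebraMap B' L')).map (Ideal.Quotient.mk (K'L' ^ 1)))
  haveI hPprime : P.IsPrime := Ideal.comap_isPrime _ _
  refine ⟨P, hPprime, ?_⟩
  have hle : 𝔪 ≤ P.comap (chMap B J B' g) := by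
    intro c hc
    obtain ⟨l, hl⟩ := Ideal.Quotient.mk_surjective (AdicCompletion.evalₐ JL 1 c)
    have h1 : c - algebraMap L Bf l ∈ (JL ^ 1).map (algebraMap L Bf) := by
      apply Groth.Agent.Lib.Helper19.mem_map_pow_of_evalₐ_eq_zero JL (IsNoetherian.noetherian _)
      rw [map_sub, AdicCompletion.algebraMap_apply, AdicCompletion.evalₐ_of,
        Algebra.algebraMap_self, RingHom.id_apply, hl, sub_self]
    have h2 : algebraMap L Bf l ∈ 𝔪 := by
      have h3 : c - algebraMap L Bf l ∈ 𝔪 := by
        apply hJ𝔪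
        rw [pow_one] at h1
        rw [map_algebraMap_Ch]
        exact h1
      have := 𝔪.sub_mem hc h3
      rwa [sub_sub_cancel] at this
    have h4 : l ∈ 𝔫.map (algebraMap B L) := by
      rw [IsLocalization.map_under (Submonoid.powers g) L 𝔪L]
      exact h2
    have h5 : Localization.awayMap (algebraMap B B') g l ∈ N'.map (algebraMap B' L') := by
      have h6 : (𝔫.map (algebraMap B L)).map (Localization.awayMap (algebraMap B B') g) ≤
          N'.map (algebraMap B' L') := by
        rw [Ideal.map_map]
        have h7 : (Localization.awayMap (algebraMap B B') g).comp (algebraMap B L) =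
            (algebraMap B' L').comp (algebraMap B B') := IsLocalization.map_comp _
        rw [h7, ← Ideal.map_map]
        apply Ideal.map_mono
        rw [Ideal.map_le_iff_le_comap, ← hover]
      exact h6 (Ideal.mem_map_of_mem _ h4)
    change ε' (chMap B J B' g c) ∈
      (N'.map (algebraMap B' L')).map (Ideal.Quotient.mk (K'L' ^ 1))
    unfold chMap
    rw [Groth.Agent.Lib.Helper19.evalₐ_complMap, ← hl, Ideal.quotientMap_mk]
    exact Ideal.mem_map_of_mem _ h5
  exact (h𝔪.eq_of_le (Ideal.comap_ne_top _ hPprime.ne_top) hle).symm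

/-- Every prime of `B_{g}` is the contraction of a prime of `B'_{g}`. -/
theorem exists_prime_over (qf : Ideal Bf) [qf.IsPrime] :
    ∃ Q : Ideal B'f, Q.IsPrime ∧ Q.comap (chMap B J B' g) = qf := by
  obtain ⟨𝔪, h𝔪, hq𝔪⟩ := Ideal.exists_le_maximal qf (Ideal.IsPrime.ne_top inferInstance)
  obtain ⟨P, hP, hP𝔪⟩ := exists_prime_over_maximal B J B' g 𝔪 h𝔪
  letI : Algebra Bf B'f := (chMap B J B' g).toAlgebra
  haveI : Module.Flat Bf B'f := chMap_flat B J B' g
  haveI := h𝔪.isPrime
  haveI : P.LiesOver 𝔪 := ⟨hP𝔪.symm⟩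
  obtain ⟨Q, _, hQprime, hQover⟩ := Ideal.exists_ideal_le_liesOver_of_le (p := qf) (q := 𝔪) P hq𝔪
  exact ⟨Q, hQprime, hQover.over.symm⟩

end Over

section Descent

variable (A : Type u) [CommRing A] [IsNoetherianRing A] (I : Ideal A)
  (B : Type u) [CommRing B] [Algebra A B] [IsNoetherianRing B]
  (A' : Type u) [CommRing A'] [Algebra A A'] [IsNoetherianRing A']
  (B' : Type u) [CommRing B'] [Algebra A B'] [Algebra B B'] [Algebra A' B'] [IsScalarTower A B B']
  [IsScalarTower A A' B'] [IsNoetherianRing B']

/-- Rig-flatness descends along a square with `A → A'` flat and `B → B'` faithfully flat. -/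
theorem rigFlatGen_descent [Module.Flat A A'] [Module.FaithfullyFlat B B']
    (hA'B' : RigFlatGen A' (I.map (algebraMap A A')) B') : RigFlatGen A I B := by
  intro f K b hK hb
  subst hK hb
  intro ψ hψ qf hqf
  have eK' : (I.map (algebraMap A B)).map (algebraMap B B') = I.map (algebraMap A B') :=
    map_eq_map_of_eq I _ rfl
  have eK : (I.map (algebraMap A B)).map (algebraMap B B') =
      (I.map (algebraMap A A')).map (algebraMap A' B') :=
    eK'.trans (map_eq_map_of_eq I (I.map (algebraMap A A')) rfl).symm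
  have eb : algebraMap B B' (algebraMap A B f) = algebraMap A' B' (algebraMap A A' f) := by
    rw [← IsScalarTower.algebraMap_apply, ← IsScalarTower.algebraMap_apply]
  haveI : IsNoetherianRing (Ch A I f) := isNoetherianRing_Ch A I f
  haveI : IsNoetherianRing (Ch B' ((I.map (algebraMap A B)).map (algebraMap B B'))
      (algebraMap B B' (algebraMap A B f))) := isNoetherianRing_Ch B' _ _
  haveI : IsAdicComplete (((I.map (algebraMap A B)).map (algebraMap B B')).map
      (algebraMap B' (Ch B' ((I.map (algebraMap A B)).map (algebraMap B B'))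
        (algebraMap B B' (algebraMap A B f)))))
      (Ch B' ((I.map (algebraMap A B)).map (algebraMap B B'))
        (algebraMap B B' (algebraMap A B f))) := isAdicComplete_Ch B' _ _
  -- the maps
  let α := chMap A I A' f
  let β := chMap B (I.map (algebraMap A B)) B' (algebraMap A B f)
  let ψ' := chMapGen A' (I.map (algebraMap A A')) B' (algebraMap A A' f) _ _ eK eb
  have hα := chMap_comp_algebraMap' A I A' f
  have hβ := chMap_comp_algebraMap' B (I.map (algebraMap A B)) B' (algebraMap A B f)
  have hψ' := chMapGen_comp_algebraMap A' (I.map (algebraMap A A')) B' (algebraMap A A' f) _ _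
    eK eb
  -- commutativity
  have h1 : (β.comp ψ).comp (algebraMap A (Ch A I f)) = algebraMap A _ := by
    rw [RingHom.comp_assoc, hψ, IsScalarTower.algebraMap_eq A B (Ch B _ _),
      ← RingHom.comp_assoc, hβ, ← IsScalarTower.algebraMap_eq]
  have h2 : (ψ'.comp α).comp (algebraMap A (Ch A I f)) = algebraMap A _ := by
    rw [RingHom.comp_assoc, hα, IsScalarTower.algebraMap_eq A A' (Ch A' _ _),
      ← RingHom.comp_assoc, hψ', ← IsScalarTower.algebraMap_eq]
  have hcomm : β.comp ψ = ψ'.comp α :=
    ringHom_ext_Ch A I f (β.comp ψ) (ψ'.comp α) (h1.trans h2.symm)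
      (((I.map (algebraMap A B)).map (algebraMap B B')).map (algebraMap B' _))
      (by rw [h1]; exact map_eq_map_of_eq I _ eK')
  -- a prime over `qf`
  haveI := qf.isPrime
  obtain ⟨Q, hQprime, hQover⟩ := exists_prime_over B (I.map (algebraMap A B)) B'
    (algebraMap A B f) qf.asIdeal
  have hQ : ¬ ((I.map (algebraMap A B)).map (algebraMap B B')).map (algebraMap B' _) ≤ Q := by
    intro hle
    apply hqf.1
    have e1 : ((I.map (algebraMap A B)).map (algebraMap B (Ch B (I.map (algebraMap A B))
        (algebraMap A B f)))).map β =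
        ((I.map (algebraMap A B)).map (algebraMap B B')).map (algebraMap B' _) :=
      (Ideal.map_map _ _).trans ((congrArg (fun φ => Ideal.map φ (I.map (algebraMap A B))) hβ).trans
        (map_eq_map_of_eq (I.map (algebraMap A B)) ((I.map (algebraMap A B)).map
          (algebraMap B B')) rfl).symm)
    rw [← hQover, ← Ideal.map_le_iff_le_comap, e1]
    exact hle
  have hflat' := flat_at_prime_of_flatAtRigClosed _ ψ'
    (hA'B' (algebraMap A A' f) _ _ eK eb ψ' hψ') ⟨Q, hQprime⟩ hQ
  have hαflat : α.Flat := chMap_flat A I A' f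
  have h3 := RingHom.Flat.comp hαflat hflat'
  rw [RingHom.comp_assoc, ← hcomm] at h3
  -- descent
  letI : Algebra (Ch A I f) (Ch B (I.map (algebraMap A B)) (algebraMap A B f)) := ψ.toAlgebra
  letI : Algebra (Ch B (I.map (algebraMap A B)) (algebraMap A B f))
      (Ch B' ((I.map (algebraMap A B)).map (algebraMap B B'))
        (algebraMap B B' (algebraMap A B f))) := β.toAlgebra
  letI : Algebra (Ch A I f) (Ch B' ((I.map (algebraMap A B)).map (algebraMap B B'))
      (algebraMap B B' (algebraMap A B f))) := (β.comp ψ).toAlgebra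
  haveI : IsScalarTower (Ch A I f) (Ch B (I.map (algebraMap A B)) (algebraMap A B f))
      (Ch B' ((I.map (algebraMap A B)).map (algebraMap B B'))
        (algebraMap B B' (algebraMap A B f))) := IsScalarTower.of_algebraMap_eq' rfl
  haveI : Module.Flat (Ch B (I.map (algebraMap A B)) (algebraMap A B f))
      (Ch B' ((I.map (algebraMap A B)).map (algebraMap B B'))
        (algebraMap B B' (algebraMap A B f))) :=
    chMap_flat B (I.map (algebraMap A B)) B' (algebraMap A B f)
  haveI : Q.LiesOver qf.asIdeal := ⟨hQover.symm⟩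
  have h4 : (algebraMap (Ch A I f) (Localization.AtPrime Q)).Flat := by
    rw [IsScalarTower.algebraMap_eq (Ch A I f) (Ch B' ((I.map (algebraMap A B)).map
      (algebraMap B B')) (algebraMap B B' (algebraMap A B f))) (Localization.AtPrime Q)]
    exact h3
  have h5 := flat_descent_localization (R := Ch A I f) qf.asIdeal Q h4
  rw [IsScalarTower.algebraMap_eq (Ch A I f) (Ch B (I.map (algebraMap A B)) (algebraMap A B f))
    (Localization.AtPrime qf.asIdeal)] at h5
  exact h5

end Descent

end Groth.Agent.R2.H40.RigFlat4
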