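import Mathlib
import Groth.Agent.R2.H40RigFlat4
import Groth.Agent.S3866
import Groth.Agent.Lib.Helper19Restricted2
import Groth.Agent.Lib.Helper28CTensorB

/-!
# Completed tensor products as "models" and their completed localizations (helper40)
-/

set_option autoImplicit false
set_option linter.unusedSectionVars false
set_option linter.style.haveILetI false
universe u

namespace Groth.Agent.R2.H40.CTensor

open TensorProduct
open Groth.Agent.Lib.Helper14 Groth.Agent.Lib.Helper14.RigClosed5 Groth.Agent.R2.H40.RigFlat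
  Groth.Agent.R2.H40.RigFlat2 Groth.Agent.R2.H40.RigFlat3

section AdicLoc

/-- `X → X₁` behaves like the `K`-adic completion of the localization of `X` at `x`. -/
structure IsAdicLoc {X X₁ : Type u} [CommRing X] [CommRing X₁] [Algebra X X₁] (K : Ideal X)
    (x : X) : Prop where
  unit : IsUnit (algebraMap X X₁ x)
  dense : ∀ (k : ℕ) (y : X₁), ∃ (z : X) (m : ℕ),
    algebraMap X X₁ x ^ m * y - algebraMap X X₁ z ∈ (K.map (algebraMap X X₁)) ^ k
  ker : ∀ (k : ℕ) (z : X), algebraMap X X₁ z ∈ (K.map (algebraMap X X₁)) ^ k →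
    ∃ N : ℕ, x ^ N * z ∈ K ^ k

theorem isAdicLoc_self {X : Type u} [CommRing X] (K : Ideal X) :
    IsAdicLoc (X := X) (X₁ := X) K 1 where
  unit := by rw [map_one]; exact isUnit_one
  dense k y := ⟨y, 0, by rw [pow_zero, one_mul, Algebra.algebraMap_self, RingHom.id_apply, sub_self]; exact Ideal.zero_mem _⟩
  ker k z hz := ⟨0, by
    rw [pow_zero, one_mul]
    rw [Algebra.algebraMap_self, Ideal.map_id] at hz
    exact hz⟩

theorem isAdicLoc_Ch {X : Type u} [CommRing X] [IsNoetherianRing X] (K : Ideal X) (x : X) :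
    IsAdicLoc (X := X) (X₁ := Ch X K x) K x where
  unit := isUnit_algebraMap_Ch X K x
  dense k y := by
    obtain ⟨l, hl⟩ := exists_sub_mem_map_Ch X K x k y
    obtain ⟨m, z, hz⟩ := IsLocalization.Away.surj x l
    refine ⟨z, m, ?_⟩
    have h1 : algebraMap X (Ch X K x) x ^ m * y - algebraMap X (Ch X K x) z =
        algebraMap X (Ch X K x) x ^ m * (y - algebraMap (Localization.Away x) (Ch X K x) l) := by
      rw [IsScalarTower.algebraMap_apply X (Localization.Away x) (Ch X K x) z, ← hz, map_mul,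
        map_pow, ← IsScalarTower.algebraMap_apply X (Localization.Away x) (Ch X K x)]
      ring
    rw [h1]
    exact Ideal.mul_mem_left _ _ hl
  ker k z hz := by
    rw [map_algebraMap_Ch] at hz
    have h1 := Groth.Agent.Lib.Helper19.evalₐ_eq_zero_of_mem_map_pow _ k _ hz
    rw [IsScalarTower.algebraMap_apply X (Localization.Away x) (Ch X K x),
      AdicCompletion.algebraMap_apply, AdicCompletion.evalₐ_of, Algebra.algebraMap_self,
      RingHom.id_apply, Ideal.Quotient.eq_zero_iff_mem, ← Ideal.map_pow,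
      IsLocalization.mem_map_algebraMap_iff (Submonoid.powers x)] at h1
    obtain ⟨⟨a, ⟨s, N, rfl⟩⟩, ha⟩ := h1
    simp only at ha
    rw [← map_mul] at ha
    obtain ⟨⟨c, M, rfl⟩, hc⟩ := (IsLocalization.eq_iff_exists (Submonoid.powers x) _).mp ha
    simp only at hc
    refine ⟨M + N, ?_⟩
    have h2 : x ^ (M + N) * z = x ^ M * (z * x ^ N) := by ring
    rw [h2, hc]
    exact Ideal.mul_mem_left _ _ a.2

end AdicLoc


section Model

variable (A : Type u) [CommRing A] (I : Ideal A)
  (B C D : Type u) [CommRing B] [CommRing C] [CommRing D]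
  [Algebra A B] [Algebra A C] [Algebra A D] [Algebra B D] [Algebra C D]
  [IsScalarTower A B D] [IsScalarTower A C D]

/-- The canonical map `C ⊗ B → D`. -/
noncomputable def mu : C ⊗[A] B →ₐ[A] D :=
  Algebra.TensorProduct.productMap (IsScalarTower.toAlgHom A C D) (IsScalarTower.toAlgHom A B D)

theorem mu_tmul (c : C) (b : B) : mu A B C D (c ⊗ₜ b) = algebraMap C D c * algebraMap B D b := by
  unfold mu
  rw [Algebra.TensorProduct.productMap_apply_tmul]
  rfl

/-- `D` is a completed tensor product of `C` and `B` over `A`: it is Noetherian, `I`-adically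
complete, with `D/ID` of finite type over `A`, and `C ⊗ B → D` is an isomorphism modulo every power
of `I`. -/
structure IsModel : Prop where
  noeth : IsNoetherianRing D
  complete : IsAdicComplete (I.map (algebraMap A D)) D
  ft : Algebra.FiniteType A (D ⧸ I.map (algebraMap A D))
  dense : ∀ (k : ℕ) (d : D), ∃ e : C ⊗[A] B, d - mu A B C D e ∈ (I.map (algebraMap A D)) ^ k
  ker : ∀ (k : ℕ) (e : C ⊗[A] B), mu A B C D e ∈ (I.map (algebraMap A D)) ^ k →
    e ∈ (I.map (algebraMap A (C ⊗[A] B))) ^ k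

end Model

section P1

variable (A : Type u) [CommRing A] [IsNoetherianRing A] (I : Ideal A)
  (B : Type u) [CommRing B] [Algebra A B] (C : Type u) [CommRing C] [Algebra A C]

attribute [local instance] Algebra.TensorProduct.rightAlgebra

local notation "KE" => Ideal.map (algebraMap C (C ⊗[A] B)) (Ideal.map (algebraMap A C) I)

theorem mu_adicCompletion (e : C ⊗[A] B) :
    mu A B C (AdicCompletion KE (C ⊗[A] B)) e = algebraMap (C ⊗[A] B) _ e := by
  induction e with
  | zero => rw [map_zero, map_zero]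
  | add x y hx hy => rw [map_add, map_add, hx, hy]
  | tmul c b =>
    rw [mu_tmul]
    change algebraMap (C ⊗[A] B) (AdicCompletion KE (C ⊗[A] B)) (c ⊗ₜ 1) *
      algebraMap (C ⊗[A] B) (AdicCompletion KE (C ⊗[A] B)) (1 ⊗ₜ b) = _
    rw [← map_mul, Algebra.TensorProduct.tmul_mul_tmul, mul_one, one_mul]

/-- The `I`-adic completion of `C ⊗ B` is a completed tensor product. -/
theorem isModel_adicCompletion (hftB : Algebra.FiniteType A (B ⧸ I.map (algebraMap A B)))
    (hftC : Algebra.FiniteType A (C ⧸ I.map (algebraMap A C))) :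
    IsModel A I B C (AdicCompletion KE (C ⊗[A] B)) := by
  have hKfg : (KE).FG := Ideal.FG.map (Ideal.FG.map (IsNoetherian.noetherian I) _) _
  have hKD : I.map (algebraMap A (AdicCompletion KE (C ⊗[A] B))) =
      (KE).map (algebraMap (C ⊗[A] B) (AdicCompletion KE (C ⊗[A] B))) := by
    rw [Ideal.map_map, Ideal.map_map]
    rfl
  have hKE : I.map (algebraMap A (C ⊗[A] B)) = KE := by
    rw [Ideal.map_map]
    rfl
  have hcomplete : IsAdicComplete (I.map (algebraMap A (AdicCompletion KE (C ⊗[A] B))))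
      (AdicCompletion KE (C ⊗[A] B)) := by
    rw [hKD]
    exact AdicCompletion.isAdicComplete_self _ hKfg
  have hdense : ∀ (k : ℕ) (d : AdicCompletion KE (C ⊗[A] B)), ∃ e : C ⊗[A] B,
      d - mu A B C (AdicCompletion KE (C ⊗[A] B)) e ∈
        (I.map (algebraMap A (AdicCompletion KE (C ⊗[A] B)))) ^ k := by
    intro k d
    obtain ⟨e, he⟩ := Groth.Agent.Lib.Helper19.exists_sub_of_mem_map_pow _ hKfg k d
    exact ⟨e, by rw [mu_adicCompletion, hKD]; exact he⟩
  have hker : ∀ (k : ℕ) (e : C ⊗[A] B), mu A B C (AdicCompletion KE (C ⊗[A] B)) e ∈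
      (I.map (algebraMap A (AdicCompletion KE (C ⊗[A] B)))) ^ k →
      e ∈ (I.map (algebraMap A (C ⊗[A] B))) ^ k := by
    intro k e he
    rw [mu_adicCompletion, hKD] at he
    have h1 := Groth.Agent.Lib.Helper19.evalₐ_eq_zero_of_mem_map_pow _ k _ he
    rw [AdicCompletion.algebraMap_apply, AdicCompletion.evalₐ_of, Algebra.algebraMap_self,
      RingHom.id_apply, Ideal.Quotient.eq_zero_iff_mem] at h1
    rw [hKE]
    exact h1
  -- finite type
  have hft : Algebra.FiniteType A (AdicCompletion KE (C ⊗[A] B) ⧸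
      I.map (algebraMap A (AdicCompletion KE (C ⊗[A] B)))) := by
    set D := AdicCompletion KE (C ⊗[A] B) with hD
    set ID : Ideal D := I.map (algebraMap A D) with hID
    let gC : (C ⧸ I.map (algebraMap A C)) →ₐ[A] (D ⧸ ID) :=
      Ideal.Quotient.liftₐ _ ((Ideal.Quotient.mkₐ A ID).comp (IsScalarTower.toAlgHom A C D))
        (by
          intro c hc
          change Ideal.Quotient.mk ID (algebraMap C D c) = 0
          rw [Ideal.Quotient.eq_zero_iff_mem, hID, IsScalarTower.algebraMap_eq A C D,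
            ← Ideal.map_map]
          exact Ideal.mem_map_of_mem _ hc)
    let gB : (B ⧸ I.map (algebraMap A B)) →ₐ[A] (D ⧸ ID) :=
      Ideal.Quotient.liftₐ _ ((Ideal.Quotient.mkₐ A ID).comp (IsScalarTower.toAlgHom A B D))
        (by
          intro b hb
          change Ideal.Quotient.mk ID (algebraMap B D b) = 0
          rw [Ideal.Quotient.eq_zero_iff_mem, hID, IsScalarTower.algebraMap_eq A B D,
            ← Ideal.map_map]
          exact Ideal.mem_map_of_mem _ hb)
    let θ : (C ⧸ I.map (algebraMap A C)) ⊗[A] (B ⧸ I.map (algebraMap A B)) →ₐ[A] (D ⧸ ID) :=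
      Algebra.TensorProduct.productMap gC gB
    have hθ : ∀ (c : C) (b : B), θ (Ideal.Quotient.mk _ c ⊗ₜ Ideal.Quotient.mk _ b) =
        Ideal.Quotient.mk ID (mu A B C D (c ⊗ₜ b)) := by
      intro c b
      rw [mu_tmul, map_mul]
      exact Algebra.TensorProduct.productMap_apply_tmul _ _ _ _
    have hθsurj : Function.Surjective θ := by
      intro y
      obtain ⟨d, rfl⟩ := Ideal.Quotient.mk_surjective y
      obtain ⟨e, he⟩ := hdense 1 d
      rw [pow_one] at he
      have h1 : Ideal.Quotient.mk ID d = Ideal.Quotient.mk ID (mu A B C D e) :=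
        Ideal.Quotient.eq.mpr he
      rw [h1]
      clear h1 he
      induction e with
      | zero => exact ⟨0, by rw [map_zero, map_zero, map_zero]⟩
      | add x y hx hy =>
        obtain ⟨x', hx'⟩ := hx
        obtain ⟨y', hy'⟩ := hy
        exact ⟨x' + y', by rw [map_add, hx', hy', map_add, map_add]⟩
      | tmul c b => exact ⟨_, hθ c b⟩
    haveI := hftB
    haveI := hftC
    haveI : Algebra.FiniteType (C ⧸ I.map (algebraMap A C))
        ((C ⧸ I.map (algebraMap A C)) ⊗[A] (B ⧸ I.map (algebraMap A B))) :=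
      Algebra.FiniteType.baseChange _
    haveI : Algebra.FiniteType A
        ((C ⧸ I.map (algebraMap A C)) ⊗[A] (B ⧸ I.map (algebraMap A B))) :=
      Algebra.FiniteType.trans (S := C ⧸ I.map (algebraMap A C)) hftC inferInstance
    exact Algebra.FiniteType.of_surjective θ hθsurj
  haveI := hcomplete
  exact
    { noeth := Groth.Agent.Lib.Helper19.isNoetherianRing_of_isAdicComplete_of_finiteType A I _ hft
      complete := hcomplete
      ft := hft
      dense := hdense
      ker := hker }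

end P1

section TensorIdeal

variable {R S T : Type u} [CommRing R] [CommRing S] [CommRing T] [Algebra R S] [Algebra R T]

theorem tmul_mem_left (J : Ideal R) (k : ℕ) (x : S) (y : T)
    (hx : x ∈ (J.map (algebraMap R S)) ^ k) :
    x ⊗ₜ[R] y ∈ (J.map (algebraMap R (S ⊗[R] T))) ^ k := by
  have h1 : x ⊗ₜ[R] y = (Algebra.TensorProduct.includeLeftRingHom x) * ((1 : S) ⊗ₜ[R] y) := by
    change _ = (x ⊗ₜ[R] (1 : T)) * _
    rw [Algebra.TensorProduct.tmul_mul_tmul, mul_one, one_mul]
  rw [h1]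
  apply Ideal.mul_mem_right
  have h2 : (J.map (algebraMap R (S ⊗[R] T))) ^ k =
      ((J.map (algebraMap R S)) ^ k).map
        (Algebra.TensorProduct.includeLeftRingHom : S →+* S ⊗[R] T) := by
    rw [Ideal.map_pow, Ideal.map_map]
    rfl
  rw [h2]
  exact Ideal.mem_map_of_mem _ hx

theorem tmul_mem_right (J : Ideal R) (k : ℕ) (x : S) (y : T)
    (hy : y ∈ (J.map (algebraMap R T)) ^ k) :
    x ⊗ₜ[R] y ∈ (J.map (algebraMap R (S ⊗[R] T))) ^ k := by
  have h1 : x ⊗ₜ[R] y = ((Algebra.TensorProduct.includeRight : T →ₐ[R] S ⊗[R] T) y) *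
      (x ⊗ₜ[R] (1 : T)) := by
    change _ = ((1 : S) ⊗ₜ[R] y) * _
    rw [Algebra.TensorProduct.tmul_mul_tmul, mul_one, one_mul]
  rw [h1]
  apply Ideal.mul_mem_right
  have h3 : ((Algebra.TensorProduct.includeRight : T →ₐ[R] S ⊗[R] T) : T →+* S ⊗[R] T).comp
      (algebraMap R T) = algebraMap R (S ⊗[R] T) :=
    RingHom.ext fun r => (Algebra.TensorProduct.includeRight : T →ₐ[R] S ⊗[R] T).commutes r
  have h2 : (J.map (algebraMap R (S ⊗[R] T))) ^ k =
      ((J.map (algebraMap R T)) ^ k).map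
        ((Algebra.TensorProduct.includeRight : T →ₐ[R] S ⊗[R] T) : T →+* S ⊗[R] T) := by
    rw [Ideal.map_pow, Ideal.map_map, h3]
  rw [h2]
  exact Ideal.mem_map_of_mem _ hy

end TensorIdeal

section AdicLocSq

theorem IsAdicLoc.mul_self {X X₁ : Type u} [CommRing X] [CommRing X₁] [Algebra X X₁] {K : Ideal X}
    {x : X} (h : IsAdicLoc (X₁ := X₁) K x) : IsAdicLoc (X₁ := X₁) K (x * x) where
  unit := by rw [map_mul]; exact h.unit.mul h.unit
  dense k y := by
    obtain ⟨z, m, hz⟩ := h.dense k y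
    refine ⟨x ^ m * z, m, ?_⟩
    have h1 : algebraMap X X₁ (x * x) ^ m * y - algebraMap X X₁ (x ^ m * z) =
        algebraMap X X₁ x ^ m * (algebraMap X X₁ x ^ m * y - algebraMap X X₁ z) := by
      rw [map_mul, map_mul, map_pow]
      ring
    rw [h1]
    exact Ideal.mul_mem_left _ _ hz
  ker k z hz := by
    obtain ⟨N, hN⟩ := h.ker k z hz
    refine ⟨N, ?_⟩
    rw [mul_pow, mul_assoc]
    exact Ideal.mul_mem_left _ _ hN

end AdicLocSq

section Loc

variable {A B C D : Type u} [CommRing A] [CommRing B] [CommRing C] [CommRing D]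
  [Algebra A B] [Algebra A C] [Algebra A D] [Algebra B D] [Algebra C D]
  [IsScalarTower A B D] [IsScalarTower A C D]
  {A₁ B₁ C₁ D₁ : Type u} [CommRing A₁] [CommRing B₁] [CommRing C₁] [CommRing D₁]
  [Algebra A₁ B₁] [Algebra A₁ C₁] [Algebra A₁ D₁] [Algebra B₁ D₁] [Algebra C₁ D₁]
  [IsScalarTower A₁ B₁ D₁] [IsScalarTower A₁ C₁ D₁]
  [Algebra A A₁] [Algebra B B₁] [Algebra C C₁] [Algebra D D₁]

/-- The comparison map `C ⊗[A] B → C₁ ⊗[A₁] B₁`. -/
noncomputable def iota
    (hAB : (algebraMap B B₁).comp (algebraMap A B) = (algebraMap A₁ B₁).comp (algebraMap A A₁))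
    (hAC : (algebraMap C C₁).comp (algebraMap A C) = (algebraMap A₁ C₁).comp (algebraMap A A₁)) :
    C ⊗[A] B →+* C₁ ⊗[A₁] B₁ :=
  letI : Algebra A (C₁ ⊗[A₁] B₁) :=
    ((algebraMap A₁ (C₁ ⊗[A₁] B₁)).comp (algebraMap A A₁)).toAlgebra
  let gC : C →ₐ[A] C₁ ⊗[A₁] B₁ :=
    { toRingHom := (Algebra.TensorProduct.includeLeftRingHom : C₁ →+* C₁ ⊗[A₁] B₁).comp
        (algebraMap C C₁)
      commutes' := fun a => by
        change (algebraMap C C₁ (algebraMap A C a)) ⊗ₜ[A₁] (1 : B₁) =
          algebraMap A₁ (C₁ ⊗[A₁] B₁) (algebraMap A A₁ a)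
        rw [← RingHom.comp_apply, hAC]
        rfl }
  let gB : B →ₐ[A] C₁ ⊗[A₁] B₁ :=
    { toRingHom := ((Algebra.TensorProduct.includeRight : B₁ →ₐ[A₁] C₁ ⊗[A₁] B₁) :
        B₁ →+* C₁ ⊗[A₁] B₁).comp (algebraMap B B₁)
      commutes' := fun a => by
        change (Algebra.TensorProduct.includeRight : B₁ →ₐ[A₁] C₁ ⊗[A₁] B₁)
          (algebraMap B B₁ (algebraMap A B a)) = algebraMap A₁ (C₁ ⊗[A₁] B₁) (algebraMap A A₁ a)
        rw [← RingHom.comp_apply, hAB, RingHom.comp_apply, AlgHom.commutes] }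
  (Algebra.TensorProduct.productMap gC gB).toRingHom

theorem iota_tmul
    (hAB : (algebraMap B B₁).comp (algebraMap A B) = (algebraMap A₁ B₁).comp (algebraMap A A₁))
    (hAC : (algebraMap C C₁).comp (algebraMap A C) = (algebraMap A₁ C₁).comp (algebraMap A A₁))
    (c : C) (b : B) :
    iota hAB hAC (c ⊗ₜ[A] b) = (algebraMap C C₁ c) ⊗ₜ[A₁] (algebraMap B B₁ b) := by
  letI : Algebra A (C₁ ⊗[A₁] B₁) :=
    ((algebraMap A₁ (C₁ ⊗[A₁] B₁)).comp (algebraMap A A₁)).toAlgebra
  unfold iota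
  refine (Algebra.TensorProduct.productMap_apply_tmul _ _ c b).trans ?_
  change ((algebraMap C C₁ c) ⊗ₜ[A₁] (1 : B₁)) * ((1 : C₁) ⊗ₜ[A₁] (algebraMap B B₁ b)) = _
  rw [Algebra.TensorProduct.tmul_mul_tmul, mul_one, one_mul]

/-- Localization of completed tensor products. -/
theorem isModel_loc (I : Ideal A) (hM : IsModel A I B C D)
    (hAB : (algebraMap B B₁).comp (algebraMap A B) = (algebraMap A₁ B₁).comp (algebraMap A A₁))
    (hAC : (algebraMap C C₁).comp (algebraMap A C) = (algebraMap A₁ C₁).comp (algebraMap A A₁))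
    (hBD : (algebraMap D D₁).comp (algebraMap B D) = (algebraMap B₁ D₁).comp (algebraMap B B₁))
    (hCD : (algebraMap D D₁).comp (algebraMap C D) = (algebraMap C₁ D₁).comp (algebraMap C C₁))
    (b : B) (c : C) (d : D) (hd : d = algebraMap C D c * algebraMap B D b)
    (hB : IsAdicLoc (X₁ := B₁) (I.map (algebraMap A B)) b)
    (hC : IsAdicLoc (X₁ := C₁) (I.map (algebraMap A C)) c)
    (hD : IsAdicLoc (X₁ := D₁) (I.map (algebraMap A D)) d)
    (hnoeth : IsNoetherianRing D₁)
    (hcompl : IsAdicComplete ((I.map (algebraMap A A₁)).map (algebraMap A₁ D₁)) D₁)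
    (hft : Algebra.FiniteType A₁ (D₁ ⧸ (I.map (algebraMap A A₁)).map (algebraMap A₁ D₁))) :
    IsModel A₁ (I.map (algebraMap A A₁)) B₁ C₁ D₁ := by
  set I₁ : Ideal A₁ := I.map (algebraMap A A₁) with hI₁
  set ι : C ⊗[A] B →+* C₁ ⊗[A₁] B₁ := iota hAB hAC with hι
  have hAD : (algebraMap D D₁).comp (algebraMap A D) =
      (algebraMap A₁ D₁).comp (algebraMap A A₁) := by
    rw [IsScalarTower.algebraMap_eq A C D, ← RingHom.comp_assoc, hCD, RingHom.comp_assoc, hAC,
      ← RingHom.comp_assoc, ← IsScalarTower.algebraMap_eq A₁ C₁ D₁]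
  have hKD : (I.map (algebraMap A D)).map (algebraMap D D₁) = I₁.map (algebraMap A₁ D₁) := by
    rw [hI₁, Ideal.map_map, Ideal.map_map, hAD]
  have hKC : (I.map (algebraMap A C)).map (algebraMap C C₁) = I₁.map (algebraMap A₁ C₁) := by
    rw [hI₁, Ideal.map_map, Ideal.map_map, hAC]
  have hKB : (I.map (algebraMap A B)).map (algebraMap B B₁) = I₁.map (algebraMap A₁ B₁) := by
    rw [hI₁, Ideal.map_map, Ideal.map_map, hAB]
  have hμι : ∀ e : C ⊗[A] B, mu A₁ B₁ C₁ D₁ (ι e) = algebraMap D D₁ (mu A B C D e) := by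
    intro e
    induction e with
    | zero => simp only [map_zero]
    | add x y hx hy => simp only [map_add, hx, hy]
    | tmul c' b' =>
      rw [hι, iota_tmul, mu_tmul, mu_tmul, map_mul, ← RingHom.comp_apply (algebraMap D D₁),
        hCD, ← RingHom.comp_apply (algebraMap D D₁) (algebraMap B D), hBD]
      rfl
  have hιA : ι.comp (algebraMap A (C ⊗[A] B)) =
      (algebraMap A₁ (C₁ ⊗[A₁] B₁)).comp (algebraMap A A₁) := by
    apply RingHom.ext
    intro a
    rw [RingHom.comp_apply, RingHom.comp_apply, Algebra.TensorProduct.algebraMap_apply, hι,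
      iota_tmul, map_one, ← RingHom.comp_apply (algebraMap C C₁), hAC,
      Algebra.TensorProduct.algebraMap_apply]
    rfl
  have hιI : ∀ k : ℕ, ∀ e ∈ (I.map (algebraMap A (C ⊗[A] B))) ^ k,
      ι e ∈ (I₁.map (algebraMap A₁ (C₁ ⊗[A₁] B₁))) ^ k := by
    intro k
    change (I.map (algebraMap A (C ⊗[A] B))) ^ k ≤
      ((I₁.map (algebraMap A₁ (C₁ ⊗[A₁] B₁))) ^ k).comap ι
    rw [← Ideal.map_le_iff_le_comap, Ideal.map_pow, Ideal.map_map, hιA, ← Ideal.map_map]
  have hμI : ∀ k : ℕ, ∀ e ∈ (I₁.map (algebraMap A₁ (C₁ ⊗[A₁] B₁))) ^ k,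
      mu A₁ B₁ C₁ D₁ e ∈ (I₁.map (algebraMap A₁ D₁)) ^ k := by
    intro k
    change (I₁.map (algebraMap A₁ (C₁ ⊗[A₁] B₁))) ^ k ≤
      ((I₁.map (algebraMap A₁ D₁)) ^ k).comap (mu A₁ B₁ C₁ D₁ : C₁ ⊗[A₁] B₁ →+* D₁)
    rw [← Ideal.map_le_iff_le_comap, Ideal.map_pow, Ideal.map_map, AlgHom.comp_algebraMap]
  -- the unit
  set u : C₁ ⊗[A₁] B₁ := (algebraMap C C₁ c) ⊗ₜ[A₁] (algebraMap B B₁ b) with hu
  have hιu : ι (c ⊗ₜ[A] b) = u := by rw [hι, iota_tmul]
  have huu : IsUnit u := by
    have h1 : u = (Algebra.TensorProduct.includeLeftRingHom (algebraMap C C₁ c)) *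
        ((Algebra.TensorProduct.includeRight : B₁ →ₐ[A₁] C₁ ⊗[A₁] B₁) (algebraMap B B₁ b)) := by
      change _ = ((algebraMap C C₁ c) ⊗ₜ[A₁] (1 : B₁)) * ((1 : C₁) ⊗ₜ[A₁] (algebraMap B B₁ b))
      rw [Algebra.TensorProduct.tmul_mul_tmul, mul_one, one_mul]
    rw [h1]
    exact (hC.unit.map _).mul (hB.unit.map _)
  have hμu : mu A₁ B₁ C₁ D₁ u = algebraMap D D₁ d := by
    rw [← hιu, hμι, mu_tmul, hd]
  obtain ⟨v, hv⟩ := huu
  refine
    { noeth := hnoeth
      complete := hcompl
      ft := hft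
      dense := ?_
      ker := ?_ }
  · intro k y
    obtain ⟨z, m, hz⟩ := hD.dense k y
    obtain ⟨e, he⟩ := hM.dense k z
    refine ⟨((v⁻¹ ^ m : (C₁ ⊗[A₁] B₁)ˣ) : C₁ ⊗[A₁] B₁) * ι e, ?_⟩
    have h1 : algebraMap D D₁ (z - mu A B C D e) ∈ (I₁.map (algebraMap A₁ D₁)) ^ k := by
      rw [← hKD, ← Ideal.map_pow]
      exact Ideal.mem_map_of_mem _ he
    rw [hKD] at hz
    have hone : mu A₁ B₁ C₁ D₁ ((v⁻¹ ^ m : (C₁ ⊗[A₁] B₁)ˣ) : C₁ ⊗[A₁] B₁) *
        (algebraMap D D₁ d) ^ m = 1 := by
      rw [← hμu, ← hv, ← map_pow, ← map_mul, ← Units.val_pow_eq_pow_val, ← Units.val_mul,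
        inv_pow, inv_mul_cancel, Units.val_one, map_one]
    have key : y - mu A₁ B₁ C₁ D₁ (((v⁻¹ ^ m : (C₁ ⊗[A₁] B₁)ˣ) : C₁ ⊗[A₁] B₁) * ι e) =
        mu A₁ B₁ C₁ D₁ ((v⁻¹ ^ m : (C₁ ⊗[A₁] B₁)ˣ) : C₁ ⊗[A₁] B₁) *
          ((algebraMap D D₁ d ^ m * y - algebraMap D D₁ z) +
            algebraMap D D₁ (z - mu A B C D e)) := by
      rw [map_mul, hμι, map_sub]
      linear_combination (-y) * hone
    rw [key]
    exact Ideal.mul_mem_left _ _ (Ideal.add_mem _ hz h1)
  · intro k e₁ he₁
    -- approximation of `e₁`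
    have approx : ∀ e₁ : C₁ ⊗[A₁] B₁, ∃ (e : C ⊗[A] B) (m : ℕ),
        u ^ m * e₁ - ι e ∈ (I₁.map (algebraMap A₁ (C₁ ⊗[A₁] B₁))) ^ k := by
      intro e₁
      induction e₁ with
      | zero => exact ⟨0, 0, by rw [mul_zero, map_zero, sub_zero]; exact Ideal.zero_mem _⟩
      | tmul c₁ b₁ =>
        obtain ⟨zc, mc, hzc⟩ := hC.dense k c₁
        obtain ⟨zb, mb, hzb⟩ := hB.dense k b₁
        rw [hKC] at hzc
        rw [hKB] at hzb
        refine ⟨(c ^ mb * zc) ⊗ₜ[A] (b ^ mc * zb), mc + mb, ?_⟩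
        have hx : algebraMap C C₁ c ^ (mc + mb) * c₁ - algebraMap C C₁ (c ^ mb * zc) ∈
            (I₁.map (algebraMap A₁ C₁)) ^ k := by
          have : algebraMap C C₁ c ^ (mc + mb) * c₁ - algebraMap C C₁ (c ^ mb * zc) =
              algebraMap C C₁ c ^ mb * (algebraMap C C₁ c ^ mc * c₁ - algebraMap C C₁ zc) := by
            rw [map_mul, map_pow]; ring
          rw [this]
          exact Ideal.mul_mem_left _ _ hzc
        have hy : algebraMap B B₁ b ^ (mc + mb) * b₁ - algebraMap B B₁ (b ^ mc * zb) ∈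
            (I₁.map (algebraMap A₁ B₁)) ^ k := by
          have : algebraMap B B₁ b ^ (mc + mb) * b₁ - algebraMap B B₁ (b ^ mc * zb) =
              algebraMap B B₁ b ^ mc * (algebraMap B B₁ b ^ mb * b₁ - algebraMap B B₁ zb) := by
            rw [map_mul, map_pow]; ring
          rw [this]
          exact Ideal.mul_mem_left _ _ hzb
        have hsplit : u ^ (mc + mb) * (c₁ ⊗ₜ[A₁] b₁) - ι ((c ^ mb * zc) ⊗ₜ[A] (b ^ mc * zb)) =
            (algebraMap C C₁ c ^ (mc + mb) * c₁ - algebraMap C C₁ (c ^ mb * zc)) ⊗ₜ[A₁]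
              (algebraMap B B₁ b ^ (mc + mb) * b₁) +
            (algebraMap C C₁ (c ^ mb * zc)) ⊗ₜ[A₁]
              (algebraMap B B₁ b ^ (mc + mb) * b₁ - algebraMap B B₁ (b ^ mc * zb)) := by
          rw [hι, iota_tmul, hu, Algebra.TensorProduct.tmul_pow,
            Algebra.TensorProduct.tmul_mul_tmul, TensorProduct.sub_tmul, TensorProduct.tmul_sub]
          abel
        rw [hsplit]
        exact Ideal.add_mem _ (tmul_mem_left I₁ k _ _ hx) (tmul_mem_right I₁ k _ _ hy)
      | add p q hp hq =>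
        obtain ⟨ep, mp, hp⟩ := hp
        obtain ⟨eq, mq, hq⟩ := hq
        refine ⟨(c ⊗ₜ[A] b) ^ mq * ep + (c ⊗ₜ[A] b) ^ mp * eq, mp + mq, ?_⟩
        have : u ^ (mp + mq) * (p + q) - ι ((c ⊗ₜ[A] b) ^ mq * ep + (c ⊗ₜ[A] b) ^ mp * eq) =
            u ^ mq * (u ^ mp * p - ι ep) + u ^ mp * (u ^ mq * q - ι eq) := by
          rw [map_add, map_mul, map_mul, map_pow, map_pow, hιu]
          ring
        rw [this]
        exact Ideal.add_mem _ (Ideal.mul_mem_left _ _ hp) (Ideal.mul_mem_left _ _ hq)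
    obtain ⟨e, m, hem⟩ := approx e₁
    -- `μ₁ (ι e)` lies in the ideal
    have h1 : mu A₁ B₁ C₁ D₁ (ι e) ∈ (I₁.map (algebraMap A₁ D₁)) ^ k := by
      have h2 : mu A₁ B₁ C₁ D₁ (ι e) = mu A₁ B₁ C₁ D₁ (u ^ m) * mu A₁ B₁ C₁ D₁ e₁ -
          mu A₁ B₁ C₁ D₁ (u ^ m * e₁ - ι e) := by
        rw [map_sub, map_mul]; ring
      rw [h2]
      exact Ideal.sub_mem _ (Ideal.mul_mem_left _ _ he₁) (hμI k _ hem)
    rw [hμι, ← hKD] at h1
    obtain ⟨N, hN⟩ := hD.ker k _ h1
    have h3 : d ^ N * mu A B C D e = mu A B C D ((c ⊗ₜ[A] b) ^ N * e) := by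
      rw [map_mul, map_pow, mu_tmul, hd]
    rw [h3] at hN
    have h4 := hιI k _ (hM.ker k _ hN)
    rw [map_mul, map_pow, hιu] at h4
    -- cancel the units
    obtain ⟨w, hone⟩ : ∃ w : C₁ ⊗[A₁] B₁, w * (u ^ m * u ^ N) = 1 := by
      refine ⟨((v⁻¹ ^ (m + N) : (C₁ ⊗[A₁] B₁)ˣ) : C₁ ⊗[A₁] B₁), ?_⟩
      rw [← pow_add, ← hv, ← Units.val_pow_eq_pow_val, ← Units.val_mul, inv_pow, inv_mul_cancel,
        Units.val_one]
    have h5 : e₁ = w * (u ^ N * (u ^ m * e₁ - ι e) + u ^ N * ι e) := by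
      linear_combination (-e₁) * hone
    rw [h5]
    exact Ideal.mul_mem_left _ _ (Ideal.add_mem _ (Ideal.mul_mem_left _ _ hem) h4)

end Loc

section KF

variable (A : Type u) [CommRing A] (I : Ideal A)
  (B C D : Type u) [CommRing B] [CommRing C] [CommRing D]
  [Algebra A B] [Algebra A C] [Algebra A D] [Algebra B D] [Algebra C D]
  [IsScalarTower A B D] [IsScalarTower A C D]

attribute [local instance] Algebra.TensorProduct.rightAlgebra

/-- `(C ⊗ B)/J(C ⊗ B)` is finite over `B` when `C/J` is finite over `A`. -/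
theorem finite_quotient_tensor (J : Ideal C) [Module.Finite A (C ⧸ J)] :
    Module.Finite B ((C ⊗[A] B) ⧸ J.map (algebraMap C (C ⊗[A] B))) := by
  set JE := J.map (algebraMap C (C ⊗[A] B)) with hJE
  let φ : (C ⧸ J) →ₐ[A] ((C ⊗[A] B) ⧸ JE) :=
    Ideal.Quotient.liftₐ J ((Ideal.Quotient.mkₐ A JE).comp
      (IsScalarTower.toAlgHom A C (C ⊗[A] B))) (by
      intro c hc
      change Ideal.Quotient.mk JE (algebraMap C _ c) = 0
      rw [Ideal.Quotient.eq_zero_iff_mem]
      exact Ideal.mem_map_of_mem _ hc)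
  let Ψ : B ⊗[A] (C ⧸ J) →ₗ[B] ((C ⊗[A] B) ⧸ JE) := LinearMap.liftBaseChange B φ.toLinearMap
  apply Module.Finite.of_surjective Ψ
  intro y
  obtain ⟨e, rfl⟩ := Ideal.Quotient.mk_surjective y
  induction e with
  | zero => exact ⟨0, by rw [map_zero, map_zero]⟩
  | add x y hx hy =>
    obtain ⟨x', hx'⟩ := hx
    obtain ⟨y', hy'⟩ := hy
    exact ⟨x' + y', by rw [map_add, hx', hy', map_add]⟩
  | tmul c b =>
    refine ⟨b ⊗ₜ[A] Ideal.Quotient.mk J c, ?_⟩
    rw [LinearMap.liftBaseChange_tmul]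
    change b • Ideal.Quotient.mk JE (c ⊗ₜ[A] (1 : B)) = _
    have h1 : b • (c ⊗ₜ[A] (1 : B) : C ⊗[A] B) = c ⊗ₜ[A] b := by
      rw [Algebra.smul_def]
      change ((1 : C) ⊗ₜ[A] b) * (c ⊗ₜ[A] (1 : B)) = _
      rw [Algebra.TensorProduct.tmul_mul_tmul, one_mul, mul_one]
    rw [← h1]
    rfl

variable [IsNoetherianRing B] [IsAdicComplete (I.map (algebraMap A B)) B]

theorem map_algebraMap_tensor_right :
    I.map (algebraMap A (C ⊗[A] B)) =
      (I.map (algebraMap A B)).map (algebraMap B (C ⊗[A] B)) := by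
  rw [Ideal.map_map, ← IsScalarTower.algebraMap_eq]

/-- Surjectivity of `C ⊗ B → D/JD` when `C/J` is finite over `A`. -/
theorem model_dense_ideal (hM : IsModel A I B C D) (J : Ideal C) [Module.Finite A (C ⧸ J)]
    (d : D) : ∃ e : C ⊗[A] B, d - mu A B C D e ∈ J.map (algebraMap C D) := by
  haveI := hM.noeth
  haveI := hM.complete
  set JE := J.map (algebraMap C (C ⊗[A] B)) with hJE
  set JD := J.map (algebraMap C D) with hJD
  set IB := I.map (algebraMap A B) with hIB
  have hμC : (mu A B C D : C ⊗[A] B →+* D).comp (algebraMap C (C ⊗[A] B)) = algebraMap C D := by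
    apply RingHom.ext
    intro c
    change mu A B C D (c ⊗ₜ[A] (1 : B)) = _
    rw [mu_tmul, map_one, mul_one]
  have hμB : (mu A B C D : C ⊗[A] B →+* D).comp (algebraMap B (C ⊗[A] B)) = algebraMap B D := by
    apply RingHom.ext
    intro b
    change mu A B C D ((1 : C) ⊗ₜ[A] b) = _
    rw [mu_tmul, map_one, one_mul]
  have hle : JE ≤ JD.comap (mu A B C D : C ⊗[A] B →+* D) := by
    rw [← Ideal.map_le_iff_le_comap, hJE, Ideal.map_map, hμC]
  let f : (C ⊗[A] B) ⧸ JE →+* D ⧸ JD := Ideal.quotientMap JD (mu A B C D : C ⊗[A] B →+* D) hle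
  haveI hfin : Module.Finite B ((C ⊗[A] B) ⧸ JE) := finite_quotient_tensor A B C J
  haveI hcM : IsAdicComplete IB ((C ⊗[A] B) ⧸ JE) := Groth.Agent.S3866.result B IB _
  set IM : Ideal ((C ⊗[A] B) ⧸ JE) := IB.map (algebraMap B ((C ⊗[A] B) ⧸ JE)) with hIM
  haveI : IsPrecomplete IM ((C ⊗[A] B) ⧸ JE) :=
    (IsPrecomplete.map_algebraMap_iff (I := IB) (S := (C ⊗[A] B) ⧸ JE)
      (M := (C ⊗[A] B) ⧸ JE)).mpr inferInstance
  have hfB : f.comp (algebraMap B ((C ⊗[A] B) ⧸ JE)) =
      (Ideal.Quotient.mk JD).comp (algebraMap B D) := by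
    apply RingHom.ext
    intro b
    change f (Ideal.Quotient.mk JE (algebraMap B (C ⊗[A] B) b)) = _
    rw [Ideal.quotientMap_mk, ← RingHom.comp_apply _ (algebraMap B (C ⊗[A] B)), hμB]
    rfl
  have hIMf : IM.map f = (I.map (algebraMap A D)).map (Ideal.Quotient.mk JD) := by
    rw [hIM, Ideal.map_map, hfB, ← Ideal.map_map, hIB, Ideal.map_map (algebraMap A B),
      ← IsScalarTower.algebraMap_eq]
  haveI : IsHausdorff (IM.map f) (D ⧸ JD) := by
    rw [hIMf]
    have h1 : IsHausdorff (I.map (algebraMap A D)) (D ⧸ JD) :=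
      IsHausdorff.of_le_jacobson _ _ (IsAdicComplete.le_jacobson_bot _)
    exact (IsHausdorff.map_algebraMap_iff (I := I.map (algebraMap A D)) (S := D ⧸ JD)
      (M := D ⧸ JD)).mpr h1
  have hsurj : Function.Surjective f := by
    apply surjective_of_mk_map_comp_surjective (I := IM) f
    intro y
    obtain ⟨y', rfl⟩ := Ideal.Quotient.mk_surjective y
    obtain ⟨d', rfl⟩ := Ideal.Quotient.mk_surjective y'
    obtain ⟨e, he⟩ := hM.dense 1 d'
    rw [pow_one] at he
    refine ⟨Ideal.Quotient.mk JE e, ?_⟩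
    rw [RingHom.comp_apply, Ideal.quotientMap_mk, Ideal.Quotient.eq, ← map_sub, hIMf]
    apply Ideal.mem_map_of_mem
    rw [← neg_sub]
    exact (Ideal.neg_mem_iff _).mpr he
  obtain ⟨x, hx⟩ := hsurj (Ideal.Quotient.mk JD d)
  obtain ⟨e, rfl⟩ := Ideal.Quotient.mk_surjective x
  refine ⟨e, ?_⟩
  rw [Ideal.quotientMap_mk] at hx
  exact Ideal.Quotient.eq.mp hx.symm

/-- Injectivity of `(C ⊗ B)/J(C ⊗ B) → D/JD` when `C/J` is finite over `A`. -/
theorem model_ker_ideal (hM : IsModel A I B C D) (J : Ideal C) [Module.Finite A (C ⧸ J)]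
    (e : C ⊗[A] B) (he : mu A B C D e ∈ J.map (algebraMap C D)) :
    e ∈ J.map (algebraMap C (C ⊗[A] B)) := by
  set JE := J.map (algebraMap C (C ⊗[A] B)) with hJE
  set JD := J.map (algebraMap C D) with hJD
  set IB := I.map (algebraMap A B) with hIB
  set ID := I.map (algebraMap A D) with hID
  set IE := I.map (algebraMap A (C ⊗[A] B)) with hIE
  have hμC : ∀ c : C, mu A B C D (algebraMap C (C ⊗[A] B) c) = algebraMap C D c := by
    intro c
    change mu A B C D (c ⊗ₜ[A] (1 : B)) = _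
    rw [mu_tmul, map_one, mul_one]
  have approx : ∀ x ∈ JD, ∀ k : ℕ, ∃ e' ∈ JE, x - mu A B C D e' ∈ ID ^ k := by
    intro x hx
    rw [hJD, Ideal.map] at hx
    induction hx using Submodule.span_induction with
    | mem x hx =>
      obtain ⟨j, hj, rfl⟩ := hx
      intro k
      exact ⟨algebraMap C (C ⊗[A] B) j, Ideal.mem_map_of_mem _ hj, by
        rw [hμC, sub_self]; exact zero_mem _⟩
    | zero =>
      intro k
      exact ⟨0, zero_mem _, by rw [map_zero, sub_zero]; exact zero_mem _⟩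
    | add x y _ _ hx hy =>
      intro k
      obtain ⟨ex, hex, hx'⟩ := hx k
      obtain ⟨ey, hey, hy'⟩ := hy k
      refine ⟨ex + ey, add_mem hex hey, ?_⟩
      have : x + y - mu A B C D (ex + ey) = (x - mu A B C D ex) + (y - mu A B C D ey) := by
        rw [map_add]; ring
      rw [this]
      exact add_mem hx' hy'
    | smul d x _ hx =>
      intro k
      obtain ⟨ex, hex, hx'⟩ := hx k
      obtain ⟨ed, hed⟩ := hM.dense k d
      refine ⟨ed * ex, Ideal.mul_mem_left _ _ hex, ?_⟩
      have : d • x - mu A B C D (ed * ex) =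
          d * (x - mu A B C D ex) + (d - mu A B C D ed) * mu A B C D ex := by
        rw [smul_eq_mul, map_mul]; ring
      rw [this]
      exact add_mem (Ideal.mul_mem_left _ _ hx') (Ideal.mul_mem_right _ _ hed)
  have hmem : ∀ k, e ∈ JE ⊔ IE ^ k := by
    intro k
    obtain ⟨e', he', h1⟩ := approx _ he k
    rw [← map_sub] at h1
    have h2 := hM.ker k _ h1
    have : e = e' + (e - e') := by ring
    rw [this]
    exact Submodule.add_mem_sup he' h2
  haveI hfin : Module.Finite B ((C ⊗[A] B) ⧸ JE) := finite_quotient_tensor A B C J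
  haveI hcM : IsAdicComplete IB ((C ⊗[A] B) ⧸ JE) := Groth.Agent.S3866.result B IB _
  rw [← Ideal.Quotient.eq_zero_iff_mem]
  apply IsHausdorff.haus' (I := IB)
  intro n
  rw [SModEq.zero]
  obtain ⟨e', he', i, hi, rfl⟩ := Submodule.mem_sup.mp (hmem n)
  rw [map_add, Ideal.Quotient.eq_zero_iff_mem.mpr he', zero_add, Ideal.smul_top_eq_map]
  change Ideal.Quotient.mk JE i ∈ (IB ^ n).map (algebraMap B ((C ⊗[A] B) ⧸ JE))
  have h3 : (IB ^ n).map (algebraMap B ((C ⊗[A] B) ⧸ JE)) =
      (IE ^ n).map (Ideal.Quotient.mk JE) := by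
    have h4 : IE = IB.map (algebraMap B (C ⊗[A] B)) := map_algebraMap_tensor_right A I B C
    have h5 : (IB.map (algebraMap B (C ⊗[A] B))) ^ n =
        (IB ^ n).map (algebraMap B (C ⊗[A] B)) := (Ideal.map_pow _ _ _).symm
    have h6 : ((IB ^ n).map (algebraMap B (C ⊗[A] B))).map (Ideal.Quotient.mk JE) =
        (IB ^ n).map ((Ideal.Quotient.mk JE).comp (algebraMap B (C ⊗[A] B))) :=
      Ideal.map_map _ _
    rw [h4, h5, h6]
    rfl
  rw [h3]
  exact Ideal.mem_map_of_mem _ hi

end KF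

section LocAdic

variable {E D : Type u} [CommRing E] [CommRing D] (μ : E →+* D) (𝔞 : Ideal E)
  (r : Ideal D) [r.IsPrime]

theorem notMem_comap_of_sub_mem (hr : 𝔞.map μ ≤ r) (s : D) (hs : s ∉ r) (es : E)
    (hes : s - μ es ∈ 𝔞.map μ) : es ∈ (r.comap μ).primeCompl := by
  intro h
  apply hs
  have h1 : s = (s - μ es) + μ es := by ring
  rw [h1]
  exact Ideal.add_mem _ (hr hes) h

/-- Density passes to the localizations. -/
theorem locAdic_dense (hdense : ∀ d : D, ∃ e : E, d - μ e ∈ 𝔞.map μ) (hr : 𝔞.map μ ≤ r)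
    (y : Localization.AtPrime r) :
    ∃ x : Localization.AtPrime (r.comap μ),
      y - Localization.localRingHom (r.comap μ) r μ rfl x ∈
        (𝔞.map μ).map (algebraMap D (Localization.AtPrime r)) := by
  obtain ⟨d, s, rfl⟩ := IsLocalization.exists_mk'_eq r.primeCompl y
  obtain ⟨e, he⟩ := hdense d
  obtain ⟨es, hes⟩ := hdense s.1
  have hes' : es ∈ (r.comap μ).primeCompl := notMem_comap_of_sub_mem μ 𝔞 r hr s.1 s.2 es hes
  refine ⟨IsLocalization.mk' _ e ⟨es, hes'⟩, ?_⟩
  rw [Localization.localRingHom_mk', ← IsLocalization.mk'_sub,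
    IsLocalization.mk'_mem_map_algebraMap_iff]
  refine ⟨1, Submonoid.one_mem _, ?_⟩
  rw [one_mul]
  have h1 : d * μ es - μ e * s.1 = (d - μ e) * μ es - μ e * (s.1 - μ es) := by ring
  change d * μ es - μ e * s.1 ∈ 𝔞.map μ
  rw [h1]
  exact Ideal.sub_mem _ (Ideal.mul_mem_right _ _ he) (Ideal.mul_mem_left _ _ hes)

/-- The kernel condition passes to the localizations. -/
theorem locAdic_ker (hdense : ∀ d : D, ∃ e : E, d - μ e ∈ 𝔞.map μ)
    (hker : ∀ e : E, μ e ∈ 𝔞.map μ → e ∈ 𝔞) (hr : 𝔞.map μ ≤ r)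
    (x : Localization.AtPrime (r.comap μ))
    (hx : Localization.localRingHom (r.comap μ) r μ rfl x ∈
      (𝔞.map μ).map (algebraMap D (Localization.AtPrime r))) :
    x ∈ 𝔞.map (algebraMap E (Localization.AtPrime (r.comap μ))) := by
  obtain ⟨e, t, rfl⟩ := IsLocalization.exists_mk'_eq (r.comap μ).primeCompl x
  rw [Localization.localRingHom_mk', IsLocalization.mk'_mem_map_algebraMap_iff] at hx
  obtain ⟨u, hu, hue⟩ := hx
  obtain ⟨eu, heu⟩ := hdense u
  have heu' : eu ∈ (r.comap μ).primeCompl := notMem_comap_of_sub_mem μ 𝔞 r hr u hu eu heu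
  rw [IsLocalization.mk'_mem_map_algebraMap_iff]
  refine ⟨eu, heu', hker _ ?_⟩
  have h1 : μ (eu * e) = u * μ e - (u - μ eu) * μ e := by rw [map_mul]; ring
  rw [h1]
  exact Ideal.sub_mem _ hue (Ideal.mul_mem_right _ _ heu)

end LocAdic

section FlatLoc

variable (A : Type u) [CommRing A] (B C : Type u) [CommRing B] [CommRing C] [Algebra A B]
  [Algebra A C]

attribute [local instance] Algebra.TensorProduct.rightAlgebra

/-- If `B_q` is flat over `A` then `(C ⊗ B)_P` is flat over `C` for every prime `P` over `q`. -/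
theorem flat_localization_tensor (P : Ideal (C ⊗[A] B)) [P.IsPrime]
    (hflat : Module.Flat A (Localization.AtPrime (P.comap (algebraMap B (C ⊗[A] B))))) :
    Module.Flat C (Localization.AtPrime P) := by
  set q : Ideal B := P.comap (algebraMap B (C ⊗[A] B)) with hq
  let Bq := Localization.AtPrime q
  let E := C ⊗[A] B
  let E' := C ⊗[A] Bq
  let EP := Localization.AtPrime P
  haveI : Module.Flat C E' := inferInstance
  let g : E →ₐ[A] E' :=
    Algebra.TensorProduct.map (AlgHom.id A C) (IsScalarTower.toAlgHom A B Bq)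
  letI algEE' : Algebra E E' := g.toRingHom.toAlgebra
  have hg : ∀ (c : C) (b : B), algebraMap E E' (c ⊗ₜ[A] b) = c ⊗ₜ[A] algebraMap B Bq b :=
    fun c b => rfl
  haveI : IsScalarTower C E E' := IsScalarTower.of_algebraMap_eq (fun c => by
    change (c ⊗ₜ[A] (1 : Bq) : E') = algebraMap E E' (c ⊗ₜ[A] (1 : B))
    rw [hg, map_one])
  have H : (algebraMap E E').comp
      ((Algebra.TensorProduct.includeRight : B →ₐ[A] C ⊗[A] B) : B →+* C ⊗[A] B) =
      ((Algebra.TensorProduct.includeRight : Bq →ₐ[A] C ⊗[A] Bq) : Bq →+* C ⊗[A] Bq).comp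
        (algebraMap B Bq) := by
    apply RingHom.ext
    intro b
    rfl
  haveI hloc1 : IsLocalization (q.primeCompl.map
      (Algebra.TensorProduct.includeRight : B →ₐ[A] C ⊗[A] B)) E' :=
    IsLocalization.tensorProduct_tensorProduct_right A C q.primeCompl Bq H
  have hle : q.primeCompl.map (Algebra.TensorProduct.includeRight : B →ₐ[A] C ⊗[A] B) ≤
      P.primeCompl := by
    rintro _ ⟨b, hb, rfl⟩
    exact hb
  let σ : E' →+* EP :=
    IsLocalization.lift (M := q.primeCompl.map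
      (Algebra.TensorProduct.includeRight : B →ₐ[A] C ⊗[A] B)) (g := algebraMap E EP)
      (fun y => IsLocalization.map_units EP ⟨y.1, hle y.2⟩)
  have hσ : σ.comp (algebraMap E E') = algebraMap E EP := IsLocalization.lift_comp _
  letI algE'EP : Algebra E' EP := σ.toAlgebra
  haveI : IsScalarTower E E' EP :=
    IsScalarTower.of_algebraMap_eq (fun x => (RingHom.congr_fun hσ x).symm)
  haveI hloc2 := IsLocalization.isLocalization_of_submonoid_le E' EP
    (q.primeCompl.map (Algebra.TensorProduct.includeRight : B →ₐ[A] C ⊗[A] B)) P.primeCompl hle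
  haveI : Module.Flat E' EP :=
    IsLocalization.flat EP (Submonoid.map (algebraMap E E') P.primeCompl)
  haveI : IsScalarTower C E' EP := IsScalarTower.of_algebraMap_eq (fun c => by
    change algebraMap E EP (algebraMap C E c) = σ (algebraMap C E' c)
    rw [IsScalarTower.algebraMap_apply C E E', ← RingHom.comp_apply σ, hσ])
  exact Module.Flat.trans C E' EP

end FlatLoc

section FinPow

theorem finite_quotient_pow {R S : Type u} [CommRing R] [CommRing S] [Algebra R S]
    [IsNoetherianRing S] (p : Ideal S) [Module.Finite R (S ⧸ p)] (n : ℕ) :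
    Module.Finite R (S ⧸ p ^ n) := by
  rcases n with _ | n
  · haveI : Subsingleton (S ⧸ p ^ 0) := by
      rw [pow_zero, Ideal.one_eq_top]
      exact Ideal.Quotient.subsingleton_iff.mpr rfl
    infer_instance
  have hle : p ^ (n + 1) ≤ p := Ideal.pow_le_self (Nat.succ_ne_zero n)
  let f : (S ⧸ p ^ (n + 1)) →ₐ[R] (S ⧸ p) := Ideal.Quotient.factorₐ R hle
  apply Module.finite_of_surjective_of_ker_le_nilradical f (Ideal.Quotient.factor_surjective hle)
  · intro x hx
    obtain ⟨y, rfl⟩ := Ideal.Quotient.mk_surjective x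
    rw [RingHom.mem_ker] at hx
    change Ideal.Quotient.mk p y = 0 at hx
    rw [Ideal.Quotient.eq_zero_iff_mem] at hx
    rw [mem_nilradical]
    refine ⟨n + 1, ?_⟩
    rw [← map_pow, Ideal.Quotient.eq_zero_iff_mem]
    exact Ideal.pow_mem_pow hx _
  · exact IsNoetherian.noetherian _

theorem flat_localization_of_eq {A B : Type u} [CommRing A] [CommRing B] [Algebra A B]
    (q₁ q₂ : Ideal B) [q₁.IsPrime] [q₂.IsPrime] (h : q₁ = q₂)
    (hf : Module.Flat A (Localization.AtPrime q₁)) : Module.Flat A (Localization.AtPrime q₂) := by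
  subst h
  exact hf

end FinPow

section Core

variable (A : Type u) [CommRing A] [IsNoetherianRing A] (I : Ideal A) [IsAdicComplete I A]
  (B : Type u) [CommRing B] [Algebra A B] [IsNoetherianRing B]
  [IsAdicComplete (I.map (algebraMap A B)) B]
  (C : Type u) [CommRing C] [Algebra A C] [IsNoetherianRing C]
  [IsAdicComplete (I.map (algebraMap A C)) C]
  (D : Type u) [CommRing D] [Algebra A D] [Algebra B D] [Algebra C D] [IsScalarTower A B D]
  [IsScalarTower A C D]

attribute [local instance] Algebra.TensorProduct.rightAlgebra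

/-- Core case: flatness of `C → D_r` at a rig-closed prime `r` of the completed tensor product `D`
whose contraction to `A` is rig-closed, when `A → B` is flat at the rig-closed primes of `B`. -/
theorem flat_of_model_core (hM : IsModel A I B C D)
    (hnaive : ∀ q : PrimeSpectrum B, IsRigClosed (I.map (algebraMap A B)) q →
      ((algebraMap B (Localization.AtPrime q.asIdeal)).comp (algebraMap A B)).Flat)
    (r : PrimeSpectrum D) (hr : IsRigClosed (I.map (algebraMap A D)) r)
    (hp : IsRigClosed I (PrimeSpectrum.comap (algebraMap A D) r)) :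
    ((algebraMap D (Localization.AtPrime r.asIdeal)).comp (algebraMap C D)).Flat := by
  haveI := hM.noeth
  haveI := hM.complete
  have eB : (I.map (algebraMap A B)).map (algebraMap B D) = I.map (algebraMap A D) := by
    rw [Ideal.map_map, ← IsScalarTower.algebraMap_eq]
  have eC : (I.map (algebraMap A C)).map (algebraMap C D) = I.map (algebraMap A D) := by
    rw [Ideal.map_map, ← IsScalarTower.algebraMap_eq]
  haveI : IsAdicComplete ((I.map (algebraMap A B)).map (algebraMap B D)) D := by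
    rw [eB]; infer_instance
  haveI : IsAdicComplete ((I.map (algebraMap A C)).map (algebraMap C D)) D := by
    rw [eC]; infer_instance
  -- finiteness of `D/r`
  have hfinA : Module.Finite A (D ⧸ r.asIdeal) :=
    RigClosed2.finite_quotient_of_forall_maximal A I D r hr (fun m hm hqm =>
      RigClosed2.finite_quotient_of_rigClosed_comap A I D r hM.ft hp m hm hqm)
  haveI := hfinA
  have hfinB : Module.Finite B (D ⧸ r.asIdeal) := Module.Finite.of_restrictScalars_finite A B _
  have hfinC : Module.Finite C (D ⧸ r.asIdeal) := Module.Finite.of_restrictScalars_finite A C _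
  -- contractions are rig-closed
  have hq : IsRigClosed (I.map (algebraMap A B)) (PrimeSpectrum.comap (algebraMap B D) r) :=
    RigClosed2.rigClosed_comap_of_finite B _ D r (by rw [eB]; exact hr) hfinB
  -- the primes
  set p' : Ideal C := (PrimeSpectrum.comap (algebraMap C D) r).asIdeal with hp'
  haveI hp'prime : p'.IsPrime := (PrimeSpectrum.comap (algebraMap C D) r).isPrime
  haveI := r.isPrime
  -- `C/p'` is finite over `A`
  haveI hfinCp : Module.Finite A (C ⧸ p') := by
    let j : (C ⧸ p') →ₐ[A] (D ⧸ r.asIdeal) :=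
      Ideal.quotientMapₐ r.asIdeal (IsScalarTower.toAlgHom A C D) (le_of_eq rfl)
    have hj : Function.Injective j := Ideal.quotientMap_injective
    haveI : IsNoetherian A (D ⧸ r.asIdeal) := isNoetherian_of_isNoetherianRing_of_finite A _
    exact Module.Finite.of_injective j.toLinearMap hj
  -- the map `μ`
  let E := C ⊗[A] B
  let μ : E →+* D := (mu A B C D : C ⊗[A] B →+* D)
  have hμC : μ.comp (algebraMap C E) = algebraMap C D := by
    apply RingHom.ext
    intro c
    change mu A B C D (c ⊗ₜ[A] (1 : B)) = _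
    rw [mu_tmul, map_one, mul_one]
  have hμB : μ.comp (algebraMap B E) = algebraMap B D := by
    apply RingHom.ext
    intro b
    change mu A B C D ((1 : C) ⊗ₜ[A] b) = _
    rw [mu_tmul, map_one, one_mul]
  set P : Ideal E := r.asIdeal.comap μ with hP
  haveI : P.IsPrime := Ideal.IsPrime.comap μ
  let Q := Localization.AtPrime P
  let Qc := Localization.AtPrime r.asIdeal
  -- flatness of `Q` over `C`
  haveI hflatQ : Module.Flat C Q := by
    apply flat_localization_tensor A B C P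
    have h1 : (PrimeSpectrum.comap (algebraMap B D) r).asIdeal = P.comap (algebraMap B E) := by
      change r.asIdeal.comap (algebraMap B D) = (r.asIdeal.comap μ).comap (algebraMap B E)
      rw [Ideal.comap_comap, hμB]
    haveI : (P.comap (algebraMap B E)).IsPrime := Ideal.IsPrime.comap _
    apply flat_localization_of_eq _ _ h1
    have h2 := hnaive _ hq
    rw [← IsScalarTower.algebraMap_eq] at h2
    exact RingHom.flat_algebraMap_iff.mp h2
  -- algebra structures
  letI algQQc : Algebra Q Qc := (Localization.localRingHom P r.asIdeal μ rfl).toAlgebra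
  haveI : IsScalarTower C Q Qc := by
    apply IsScalarTower.of_algebraMap_eq
    intro c
    change algebraMap D Qc (algebraMap C D c) =
      Localization.localRingHom P r.asIdeal μ rfl (algebraMap E Q (algebraMap C E c))
    rw [Localization.localRingHom_to_map, ← RingHom.comp_apply μ, hμC]
  -- ideals
  have hideal : ∀ n : ℕ, ((p' ^ n).map (algebraMap C E)).map μ = (p' ^ n).map (algebraMap C D) := by
    intro n
    rw [Ideal.map_map, hμC]
  have hfinpow : ∀ n : ℕ, Module.Finite A (C ⧸ p' ^ n) := fun n => finite_quotient_pow p' n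
  have hdense : ∀ (n : ℕ) (d : D), ∃ e : E, d - μ e ∈ ((p' ^ n).map (algebraMap C E)).map μ := by
    intro n d
    haveI := hfinpow n
    obtain ⟨e, he⟩ := model_dense_ideal A I B C D hM (p' ^ n) d
    exact ⟨e, by rw [hideal]; exact he⟩
  have hker : ∀ (n : ℕ) (e : E), μ e ∈ ((p' ^ n).map (algebraMap C E)).map μ →
      e ∈ (p' ^ n).map (algebraMap C E) := by
    intro n e he
    haveI := hfinpow n
    rw [hideal] at he
    exact model_ker_ideal A I B C D hM (p' ^ n) e he
  have hp'r : p'.map (algebraMap C D) ≤ r.asIdeal := by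
    rw [Ideal.map_le_iff_le_comap]
    exact le_of_eq rfl
  have hle : ∀ n : ℕ, n ≠ 0 → ((p' ^ n).map (algebraMap C E)).map μ ≤ r.asIdeal := by
    intro n hn
    rw [hideal]
    exact (Ideal.map_mono (Ideal.pow_le_self hn)).trans hp'r
  have hQcideal : ∀ n : ℕ, (((p' ^ n).map (algebraMap C E)).map μ).map (algebraMap D Qc) =
      (p'.map (algebraMap C Qc)) ^ n := by
    intro n
    rw [hideal, Ideal.map_map, ← IsScalarTower.algebraMap_eq, Ideal.map_pow]
  have hQideal : ∀ n : ℕ, ((p' ^ n).map (algebraMap C E)).map (algebraMap E Q) =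
      (p'.map (algebraMap C Q)) ^ n := by
    intro n
    rw [Ideal.map_map, ← IsScalarTower.algebraMap_eq, Ideal.map_pow]
  have key : Module.Flat C Qc := by
    apply Groth.Agent.Lib.Helper19.flat_of_adic_quotients (P := C) (Q := Q) (Pc := C) (Qc := Qc) p'
    · intro n x
      exact ⟨x, by rw [Algebra.algebraMap_self, RingHom.id_apply, sub_self]; exact zero_mem _⟩
    · intro n y
      rcases Nat.eq_zero_or_pos n with rfl | hn
      · exact ⟨0, by rw [pow_zero, Ideal.one_eq_top]; trivial⟩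
      · obtain ⟨x, hx⟩ := locAdic_dense μ ((p' ^ n).map (algebraMap C E)) r.asIdeal (hdense n)
          (hle n hn.ne') y
        exact ⟨x, by rw [← hQcideal]; exact hx⟩
    · intro n x hx
      rcases Nat.eq_zero_or_pos n with rfl | hn
      · rw [pow_zero, Ideal.one_eq_top]; trivial
      · rw [← hQideal]
        apply locAdic_ker μ ((p' ^ n).map (algebraMap C E)) r.asIdeal (hdense n) (hker n)
          (hle n hn.ne') x
        rw [hQcideal]
        exact hx
    · rw [IsLocalRing.jacobson_eq_maximalIdeal ⊥ bot_ne_top,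
        ← Localization.AtPrime.map_eq_maximalIdeal, IsScalarTower.algebraMap_eq C D Qc,
        ← Ideal.map_map]
      exact Ideal.map_mono hp'r
  rw [← IsScalarTower.algebraMap_eq]
  exact RingHom.flat_algebraMap_iff.mpr key

end Core

end Groth.Agent.R2.H40.CTensor
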