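import Mathlib
import Groth.Agent.R2.H40CTensor

/-!
# Rig-flatness of completed tensor products (helper40)
-/

set_option autoImplicit false
set_option linter.unusedSectionVars false
set_option linter.style.haveILetI false
universe u

namespace Groth.Agent.R2.H40.CTensor2

open TensorProduct
open Groth.Agent.Lib.Helper14 Groth.Agent.Lib.Helper14.RigClosed5 Groth.Agent.R2.H40.RigFlat
  Groth.Agent.R2.H40.RigFlat2 Groth.Agent.R2.H40.RigFlat3 Groth.Agent.R2.H40.CTensor

section T

variable (A : Type u) [CommRing A] [IsNoetherianRing A] (I : Ideal A) [IsAdicComplete I A]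
  (B : Type u) [CommRing B] [Algebra A B] [IsNoetherianRing B]
  [IsAdicComplete (I.map (algebraMap A B)) B]
  (C : Type u) [CommRing C] [Algebra A C] [IsNoetherianRing C]
  [IsAdicComplete (I.map (algebraMap A C)) C]
  (D : Type u) [CommRing D] [Algebra A D] [Algebra B D] [Algebra C D] [IsScalarTower A B D]
  [IsScalarTower A C D]
  (f : A)

local notation "Af" => Ch A I f
local notation "Bf" => Ch B (Ideal.map (algebraMap A B) I) (algebraMap A B f)
local notation "Cf" => Ch C (Ideal.map (algebraMap A C) I) (algebraMap A C f)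
local notation "Df" => Ch D (Ideal.map (algebraMap A D) I) (algebraMap A D f)

theorem flat_of_model_aux (hM : IsModel A I B C D) (hAB : RigFlatGen A I B)
    (r : PrimeSpectrum D) (hr : IsRigClosed (I.map (algebraMap A D)) r)
    (hunit : IsUnit (Ideal.Quotient.mk r.asIdeal (algebraMap A D f)))
    (hS : ((r.asIdeal.map (algebraMap D Df)).comap (chMap A I D f)).IsPrime ∧
      ¬ (I.map (algebraMap A Af)) ≤ ((r.asIdeal.map (algebraMap D Df)).comap (chMap A I D f)) ∧
      ∀ y : PrimeSpectrum Af,
        ((r.asIdeal.map (algebraMap D Df)).comap (chMap A I D f)) ≤ y.asIdeal →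
        ¬ (I.map (algebraMap A Af)) ≤ y.asIdeal →
        y.asIdeal = ((r.asIdeal.map (algebraMap D Df)).comap (chMap A I D f))) :
    ((algebraMap D (Localization.AtPrime r.asIdeal)).comp (algebraMap C D)).Flat := by
  haveI := hM.noeth
  haveI := hM.complete
  -- ideal equalities downstairs
  have eB : I.map (algebraMap A D) = (I.map (algebraMap A B)).map (algebraMap B D) := by
    rw [Ideal.map_map, ← IsScalarTower.algebraMap_eq]
  have eC : I.map (algebraMap A D) = (I.map (algebraMap A C)).map (algebraMap C D) := by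
    rw [Ideal.map_map, ← IsScalarTower.algebraMap_eq]
  have efB : algebraMap A D f = algebraMap B D (algebraMap A B f) :=
    IsScalarTower.algebraMap_apply A B D f
  have efC : algebraMap A D f = algebraMap C D (algebraMap A C f) :=
    IsScalarTower.algebraMap_apply A C D f
  -- basic instances
  haveI : IsNoetherianRing Af := isNoetherianRing_Ch A I f
  haveI : IsNoetherianRing Bf := isNoetherianRing_Ch B _ _
  haveI : IsNoetherianRing Cf := isNoetherianRing_Ch C _ _
  haveI : IsNoetherianRing Df := isNoetherianRing_Ch D _ _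
  haveI cAf : IsAdicComplete (I.map (algebraMap A Af)) Af := isAdicComplete_Ch A I f
  have cBf : IsAdicComplete ((I.map (algebraMap A B)).map (algebraMap B Bf)) Bf :=
    isAdicComplete_Ch B _ _
  have cCf : IsAdicComplete ((I.map (algebraMap A C)).map (algebraMap C Cf)) Cf :=
    isAdicComplete_Ch C _ _
  haveI cDf : IsAdicComplete ((I.map (algebraMap A D)).map (algebraMap D Df)) Df :=
    isAdicComplete_Ch D _ _
  -- the maps
  let ψ₁ : Af →+* Bf := chMap A I B f
  let ψ₂ : Af →+* Cf := chMap A I C f
  let ψ₃ : Af →+* Df := chMap A I D f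
  let β : Bf →+* Df := chMapGen B (I.map (algebraMap A B)) D (algebraMap A B f) _ _ eB efB
  let γ : Cf →+* Df := chMapGen C (I.map (algebraMap A C)) D (algebraMap A C f) _ _ eC efC
  have hψ₁ : ψ₁.comp (algebraMap A Af) = algebraMap A Bf := chMap_comp_algebraMap' A I B f
  have hψ₂ : ψ₂.comp (algebraMap A Af) = algebraMap A Cf := chMap_comp_algebraMap' A I C f
  have hψ₃ : ψ₃.comp (algebraMap A Af) = algebraMap A Df := chMap_comp_algebraMap' A I D f
  have hβ : β.comp (algebraMap B Bf) = algebraMap B Df :=
    chMapGen_comp_algebraMap _ _ _ _ _ _ eB efB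
  have hγ : γ.comp (algebraMap C Cf) = algebraMap C Df :=
    chMapGen_comp_algebraMap _ _ _ _ _ _ eC efC
  have hKX : (I.map (algebraMap A D)).map (algebraMap D Df) = I.map (algebraMap A Df) :=
    map_eq_map_of_eq I _ rfl
  have hβψ₁A : (β.comp ψ₁).comp (algebraMap A Af) = algebraMap A Df := by
    rw [RingHom.comp_assoc, hψ₁, IsScalarTower.algebraMap_eq A B Bf, ← RingHom.comp_assoc, hβ,
      ← IsScalarTower.algebraMap_eq]
  have hγψ₂A : (γ.comp ψ₂).comp (algebraMap A Af) = algebraMap A Df := by
    rw [RingHom.comp_assoc, hψ₂, IsScalarTower.algebraMap_eq A C Cf, ← RingHom.comp_assoc, hγ,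
      ← IsScalarTower.algebraMap_eq]
  have hβψ₁ : β.comp ψ₁ = ψ₃ :=
    ringHom_ext_Ch A I f (β.comp ψ₁) ψ₃ (hβψ₁A.trans hψ₃.symm)
      ((I.map (algebraMap A D)).map (algebraMap D Df)) (by rw [hβψ₁A, hKX])
  have hγψ₂ : γ.comp ψ₂ = ψ₃ :=
    ringHom_ext_Ch A I f (γ.comp ψ₂) ψ₃ (hγψ₂A.trans hψ₃.symm)
      ((I.map (algebraMap A D)).map (algebraMap D Df)) (by rw [hγψ₂A, hKX])
  -- algebra structures on the completed square
  letI alg1 : Algebra Af Bf := ψ₁.toAlgebra
  letI alg2 : Algebra Af Cf := ψ₂.toAlgebra
  letI alg3 : Algebra Af Df := ψ₃.toAlgebra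
  letI alg4 : Algebra Bf Df := β.toAlgebra
  letI alg5 : Algebra Cf Df := γ.toAlgebra
  haveI : IsScalarTower Af Bf Df := IsScalarTower.of_algebraMap_eq' hβψ₁.symm
  haveI : IsScalarTower Af Cf Df := IsScalarTower.of_algebraMap_eq' hγψ₂.symm
  haveI : IsScalarTower A Af Bf := IsScalarTower.of_algebraMap_eq' hψ₁.symm
  haveI : IsScalarTower A Af Cf := IsScalarTower.of_algebraMap_eq' hψ₂.symm
  haveI : IsScalarTower A Af Df := IsScalarTower.of_algebraMap_eq' hψ₃.symm
  -- ideals upstairs
  have iB : (I.map (algebraMap A Af)).map (algebraMap Af Bf) =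
      (I.map (algebraMap A B)).map (algebraMap B Bf) :=
    (map_eq_map_of_eq I (I.map (algebraMap A Af)) rfl).trans
      (map_eq_map_of_eq I (I.map (algebraMap A B)) rfl).symm
  have iC : (I.map (algebraMap A Af)).map (algebraMap Af Cf) =
      (I.map (algebraMap A C)).map (algebraMap C Cf) :=
    (map_eq_map_of_eq I (I.map (algebraMap A Af)) rfl).trans
      (map_eq_map_of_eq I (I.map (algebraMap A C)) rfl).symm
  have iD : (I.map (algebraMap A Af)).map (algebraMap Af Df) =
      (I.map (algebraMap A D)).map (algebraMap D Df) :=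
    (map_eq_map_of_eq I (I.map (algebraMap A Af)) rfl).trans
      (map_eq_map_of_eq I (I.map (algebraMap A D)) rfl).symm
  haveI : IsAdicComplete ((I.map (algebraMap A Af)).map (algebraMap Af Bf)) Bf := by
    rw [iB]; exact cBf
  haveI : IsAdicComplete ((I.map (algebraMap A Af)).map (algebraMap Af Cf)) Cf := by
    rw [iC]; exact cCf
  have cDf' : IsAdicComplete ((I.map (algebraMap A Af)).map (algebraMap Af Df)) Df := by
    rw [iD]; exact cDf
  -- finite type upstairs
  have hft1 : Algebra.FiniteType Af (Df ⧸ (I.map (algebraMap A Af)).map (algebraMap Af Df)) := by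
    rw [iD]
    haveI := finiteType_quotient_Ch_of_finiteType A D (I.map (algebraMap A D)) hM.ft
      (algebraMap A D f)
    exact Algebra.FiniteType.of_restrictScalars_finiteType A Af _
  -- the model upstairs
  have hM₂ : IsModel Af (I.map (algebraMap A Af)) Bf Cf Df := by
    refine isModel_loc (A := A) (B := B) (C := C) (D := D) (A₁ := Af) (B₁ := Bf) (C₁ := Cf)
      (D₁ := Df) I hM ?_ ?_ ?_ ?_ (algebraMap A B f) (algebraMap A C f)
      (algebraMap A D f * algebraMap A D f) ?_ (isAdicLoc_Ch _ _) (isAdicLoc_Ch _ _)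
      (isAdicLoc_Ch _ _).mul_self inferInstance cDf' hft1
    · rw [← IsScalarTower.algebraMap_eq A B Bf]
      exact hψ₁.symm
    · rw [← IsScalarTower.algebraMap_eq A C Cf]
      exact hψ₂.symm
    · rw [← IsScalarTower.algebraMap_eq B D Df]
      exact hβ.symm
    · rw [← IsScalarTower.algebraMap_eq C D Df]
      exact hγ.symm
    · rw [← efC, ← efB]
  -- naive rig-flatness upstairs
  have hnaive : ∀ q : PrimeSpectrum Bf, IsRigClosed ((I.map (algebraMap A Af)).map
      (algebraMap Af Bf)) q →
      ((algebraMap Bf (Localization.AtPrime q.asIdeal)).comp (algebraMap Af Bf)).Flat := by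
    intro q hq
    rw [iB] at hq
    exact hAB f _ _ rfl rfl ψ₁ hψ₁ q hq
  -- the prime upstairs
  obtain ⟨hprime, hrc, hcomap⟩ := rigClosed_map_Ch D (I.map (algebraMap A D)) r hr
    (algebraMap A D f) hunit
  have hrc' : IsRigClosed ((I.map (algebraMap A Af)).map (algebraMap Af Df))
      (⟨r.asIdeal.map (algebraMap D Df), hprime⟩ : PrimeSpectrum Df) := by
    rw [iD]; exact hrc
  have hpc : IsRigClosed (I.map (algebraMap A Af)) (PrimeSpectrum.comap (algebraMap Af Df)
      (⟨r.asIdeal.map (algebraMap D Df), hprime⟩ : PrimeSpectrum Df)) :=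
    ⟨hS.2.1, fun y hy hIy => PrimeSpectrum.ext (hS.2.2 y hy hIy)⟩
  have hcore := flat_of_model_core Af (I.map (algebraMap A Af)) Bf Cf Df hM₂ hnaive
    ⟨r.asIdeal.map (algebraMap D Df), hprime⟩ hrc' hpc
  -- descent to `D_r`
  haveI : Module.Flat C Cf := flat_Ch C _ _
  have hflat1 : (algebraMap C (Localization.AtPrime (r.asIdeal.map (algebraMap D Df)))).Flat := by
    have h1 : algebraMap C (Localization.AtPrime (r.asIdeal.map (algebraMap D Df))) =
        ((algebraMap Df (Localization.AtPrime (r.asIdeal.map (algebraMap D Df)))).comp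
          (algebraMap Cf Df)).comp (algebraMap C Cf) := by
      rw [RingHom.comp_assoc]
      change _ = (algebraMap Df _).comp (γ.comp (algebraMap C Cf))
      rw [hγ, ← IsScalarTower.algebraMap_eq]
    rw [h1]
    exact RingHom.Flat.comp (RingHom.flat_algebraMap_iff.mpr inferInstance) hcore
  haveI : Module.Flat D Df := flat_Ch D _ _
  haveI : (r.asIdeal.map (algebraMap D Df)).LiesOver r.asIdeal := ⟨hcomap.symm⟩
  rw [← IsScalarTower.algebraMap_eq]
  exact flat_descent_localization r.asIdeal (r.asIdeal.map (algebraMap D Df)) hflat1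

/-- Flatness of `C → D_r` at every rig-closed prime of a completed tensor product `D` of `C` and a
rig-flat `A`-algebra `B`. -/
theorem flat_of_model (hM : IsModel A I B C D) (hAB : RigFlatGen A I B)
    (r : PrimeSpectrum D) (hr : IsRigClosed (I.map (algebraMap A D)) r) :
    ((algebraMap D (Localization.AtPrime r.asIdeal)).comp (algebraMap C D)).Flat := by
  haveI := hM.noeth
  haveI := hM.complete
  obtain ⟨f, hunit, hmain⟩ := RigClosed5.main A I D hM.ft r hr
  exact flat_of_model_aux A I B C D f hM hAB r hr hunit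
    (hmain (chMap A I D f) (chMap_comp_algebraMap A I D f))

end T

section Final

variable (A : Type u) [CommRing A] [IsNoetherianRing A] (I : Ideal A) [IsAdicComplete I A]
  (B : Type u) [CommRing B] [Algebra A B] [IsNoetherianRing B]
  [IsAdicComplete (I.map (algebraMap A B)) B]
  (C : Type u) [CommRing C] [Algebra A C] [IsNoetherianRing C]
  [IsAdicComplete (I.map (algebraMap A C)) C]
  (D : Type u) [CommRing D] [Algebra A D] [Algebra B D] [Algebra C D] [IsScalarTower A B D]
  [IsScalarTower A C D]

/-- **Base change of rig-flat maps to completed tensor products.** -/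
theorem rigFlatGen_of_isModel (hM : IsModel A I B C D) (hAB : RigFlatGen A I B) :
    RigFlatGen C (I.map (algebraMap A C)) D := by
  intro h K d hK hd ψ hψ q hq
  subst hK hd
  haveI := hM.noeth
  haveI := hM.complete
  have eC : (I.map (algebraMap A C)).map (algebraMap C D) = I.map (algebraMap A D) := by
    rw [Ideal.map_map, ← IsScalarTower.algebraMap_eq]
  -- the rings
  let C₁ := Ch C (I.map (algebraMap A C)) h
  let D₁ := Ch D ((I.map (algebraMap A C)).map (algebraMap C D)) (algebraMap C D h)
  haveI : IsNoetherianRing C₁ := isNoetherianRing_Ch C _ _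
  haveI : IsNoetherianRing D₁ := isNoetherianRing_Ch D _ _
  have cC₁ : IsAdicComplete ((I.map (algebraMap A C)).map (algebraMap C C₁)) C₁ :=
    isAdicComplete_Ch C _ _
  have cD₁ : IsAdicComplete (((I.map (algebraMap A C)).map (algebraMap C D)).map
      (algebraMap D D₁)) D₁ := isAdicComplete_Ch D _ _
  letI algCD : Algebra C₁ D₁ := ψ.toAlgebra
  haveI : IsScalarTower A C D₁ := IsScalarTower.of_algebraMap_eq (fun a => by
    rw [IsScalarTower.algebraMap_apply A D D₁, IsScalarTower.algebraMap_apply C D D₁,
      ← IsScalarTower.algebraMap_apply A C D])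
  haveI : IsScalarTower A B D₁ := IsScalarTower.of_algebraMap_eq (fun a => by
    rw [IsScalarTower.algebraMap_apply A D D₁, IsScalarTower.algebraMap_apply B D D₁,
      ← IsScalarTower.algebraMap_apply A B D])
  haveI : IsScalarTower C C₁ D₁ := IsScalarTower.of_algebraMap_eq' hψ.symm
  haveI : IsScalarTower A C₁ D₁ := IsScalarTower.of_algebraMap_eq (fun a => by
    rw [IsScalarTower.algebraMap_apply A C D₁, IsScalarTower.algebraMap_apply C C₁ D₁,
      ← IsScalarTower.algebraMap_apply A C C₁])
  -- ideals
  have iC₁ : (I.map (algebraMap A C)).map (algebraMap C C₁) = I.map (algebraMap A C₁) :=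
    map_eq_map_of_eq I _ rfl
  have iD₁ : ((I.map (algebraMap A C)).map (algebraMap C D)).map (algebraMap D D₁) =
      I.map (algebraMap A D₁) := map_eq_map_of_eq I _ eC
  haveI : IsAdicComplete (I.map (algebraMap A C₁)) C₁ := by rw [← iC₁]; exact cC₁
  have cD₁' : IsAdicComplete (I.map (algebraMap A D₁)) D₁ := by rw [← iD₁]; exact cD₁
  have hftD : Algebra.FiniteType A (D ⧸ (I.map (algebraMap A C)).map (algebraMap C D)) := by
    rw [eC]; exact hM.ft
  have hft1 : Algebra.FiniteType A (D₁ ⧸ I.map (algebraMap A D₁)) := by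
    rw [← iD₁]
    exact finiteType_quotient_Ch_of_finiteType A D _ hftD (algebraMap C D h)
  -- the model
  have hM₁ : IsModel A I B C₁ D₁ := by
    have h0 : I.map (algebraMap A A) = I := by
      rw [Algebra.algebraMap_self, Ideal.map_id]
    have hD : IsAdicLoc (X₁ := D₁) (I.map (algebraMap A D)) (algebraMap C D h) := by
      rw [← eC]
      exact isAdicLoc_Ch _ _
    have := isModel_loc (A := A) (B := B) (C := C) (D := D) (A₁ := A) (B₁ := B) (C₁ := C₁)
      (D₁ := D₁) I hM (RingHom.ext fun _ => rfl)
      (RingHom.ext fun a => (IsScalarTower.algebraMap_apply A C C₁ a).symm)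
      (RingHom.ext fun b => (IsScalarTower.algebraMap_apply B D D₁ b).symm)
      (by rw [← IsScalarTower.algebraMap_eq C D D₁]; exact hψ.symm)
      1 h (algebraMap C D h) (by rw [map_one, mul_one]) (isAdicLoc_self _) (isAdicLoc_Ch _ _) hD
      inferInstance (by rw [h0]; exact cD₁') (by rw [h0]; exact hft1)
    rw [h0] at this
    exact this
  have hq' : IsRigClosed (I.map (algebraMap A D₁)) q := by
    rw [← iD₁]; exact hq
  exact flat_of_model A I B C₁ D₁ hM₁ hAB q hq'

end Final

section Stmt

variable (A : Type u) [CommRing A] [IsNoetherianRing A] (I : Ideal A) [IsAdicComplete I A]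
  (B : Type u) [CommRing B] [Algebra A B] [IsNoetherianRing B]
  [IsAdicComplete (I.map (algebraMap A B)) B]
  (C : Type u) [CommRing C] [Algebra A C] [IsNoetherianRing C]
  [IsAdicComplete (I.map (algebraMap A C)) C]

attribute [local instance] Algebra.TensorProduct.rightAlgebra

/-- Rig-flatness of `C → B ⊗̂_A C` in the form of the frozen statement. -/
theorem rigFlatStmt_completedTensor
    (hft : Algebra.FiniteType A (B ⧸ I.map (algebraMap A B)))
    (hftC : Algebra.FiniteType A (C ⧸ I.map (algebraMap A C)))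
    (hAB : RigFlatStmt A I B) :
    RigFlatStmt C (I.map (algebraMap A C))
      (AdicCompletion ((I.map (algebraMap A C)).map (algebraMap C (C ⊗[A] B))) (C ⊗[A] B)) :=
  stmt_of_rigFlatGen C _ _
    (rigFlatGen_of_isModel A I B C _ (isModel_adicCompletion A I B C hft hftC)
      (rigFlatGen_of_stmt A I B hAB))

end Stmt

end Groth.Agent.R2.H40.CTensor2
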