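import Groth.Agent.Lib.Helper28DepthFlat3
import Mathlib.RingTheory.Localization.BaseChange
import Mathlib.RingTheory.IsTensorProduct

/-!
# Depth and flat base change at a minimal prime, module version

For a flat map `R → S` of Noetherian rings, `q` minimal over `p S`, a finite `R`-module `M` and
`N = S ⊗_R M` (given as `IsBaseChange`), `depth (N_q) = depth (M_p)`.
-/

set_option autoImplicit false
universe u
open TensorProduct Groth.Agent.Lib.Helper28

namespace Groth.Agent.R2.H40.DepthCompl

variable {R S : Type u} [CommRing R] [CommRing S] [Algebra R S] [IsNoetherianRing R]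
  [IsNoetherianRing S] [Module.Flat R S]

set_option maxHeartbeats 800000 in
theorem depth_localization_eq_of_isBaseChange (p : Ideal R) [p.IsPrime] (q : Ideal S) [q.IsPrime]
    (hq : q ∈ (p.map (algebraMap R S)).minimalPrimes)
    (M : Type u) [AddCommGroup M] [Module R M] [Module.Finite R M]
    (N : Type u) [AddCommGroup N] [Module S N] [Module R N] [IsScalarTower R S N]
    (g : M →ₗ[R] N) (hg : IsBaseChange S g) :
    LocCoh.depth (Localization.AtPrime q) (LocalizedModule q.primeCompl N) =
      LocCoh.depth (Localization.AtPrime p) (LocalizedModule p.primeCompl M) := by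
  have hlies : q.LiesOver p := ⟨(under_eq_of_mem_minimalPrimes_map p q hq).symm⟩
  let _ := Localization.AtPrime.algebraOfLiesOver p q
  have hloc : IsLocalHom (algebraMap (Localization.AtPrime p) (Localization.AtPrime q)) := by
    rw [RingHom.algebraMap_toAlgebra]
    exact Localization.isLocalHom_localRingHom p q (algebraMap R S) Ideal.LiesOver.over
  have hmapeq : (IsLocalRing.maximalIdeal (Localization.AtPrime p)).map
      (algebraMap (Localization.AtPrime p) (Localization.AtPrime q)) =
      (p.map (algebraMap R S)).map (algebraMap S (Localization.AtPrime q)) := by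
    rw [← IsLocalization.AtPrime.map_eq_maximalIdeal p (Localization.AtPrime p), Ideal.map_map,
      Ideal.map_map]
    congr 1
    ext x
    simp only [RingHom.comp_apply]
    rw [RingHom.algebraMap_toAlgebra, Localization.localRingHom_to_map]
  have hmin : IsLocalRing.maximalIdeal (Localization.AtPrime q) ∈
      ((IsLocalRing.maximalIdeal (Localization.AtPrime p)).map
        (algebraMap (Localization.AtPrime p) (Localization.AtPrime q))).minimalPrimes := by
    rw [hmapeq, IsLocalization.minimalPrimes_map q.primeCompl (Localization.AtPrime q),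
      Set.mem_preimage, IsLocalization.AtPrime.under_maximalIdeal (Localization.AtPrime q) q]
    exact hq
  have hdepth := depth_tensor_of_flat (R := Localization.AtPrime p) (S := Localization.AtPrime q)
    (LocalizedModule p.primeCompl M) (Localization.AtPrime q)
  rw [depth_quotient_eq_zero_of_mem_minimalPrimes _ hmin, add_zero] at hdepth
  rw [← hdepth]
  -- the isomorphism
  let e1 : LocalizedModule p.primeCompl M ≃ₗ[Localization.AtPrime p]
      (Localization.AtPrime p) ⊗[R] M :=
    (IsLocalizedModule.isBaseChange p.primeCompl (Localization.AtPrime p)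
      (LocalizedModule.mkLinearMap p.primeCompl M)).equiv.symm
  let e2 : (Localization.AtPrime q) ⊗[Localization.AtPrime p] (LocalizedModule p.primeCompl M)
      ≃ₗ[Localization.AtPrime q]
      (Localization.AtPrime q) ⊗[Localization.AtPrime p] ((Localization.AtPrime p) ⊗[R] M) :=
    TensorProduct.AlgebraTensorModule.congr
      (LinearEquiv.refl (Localization.AtPrime q) (Localization.AtPrime q)) e1
  let e3 : (Localization.AtPrime q) ⊗[Localization.AtPrime p] ((Localization.AtPrime p) ⊗[R] M)
      ≃ₗ[Localization.AtPrime q] (Localization.AtPrime q) ⊗[R] M :=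
    TensorProduct.AlgebraTensorModule.cancelBaseChange R (Localization.AtPrime p)
      (Localization.AtPrime q) (Localization.AtPrime q) M
  let e4 : (Localization.AtPrime q) ⊗[S] (S ⊗[R] M)
      ≃ₗ[Localization.AtPrime q] (Localization.AtPrime q) ⊗[R] M :=
    TensorProduct.AlgebraTensorModule.cancelBaseChange R S
      (Localization.AtPrime q) (Localization.AtPrime q) M
  let e5 : (Localization.AtPrime q) ⊗[S] (S ⊗[R] M)
      ≃ₗ[Localization.AtPrime q] (Localization.AtPrime q) ⊗[S] N :=
    TensorProduct.AlgebraTensorModule.congr
      (LinearEquiv.refl (Localization.AtPrime q) (Localization.AtPrime q)) hg.equiv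
  let e6 : (Localization.AtPrime q) ⊗[S] N ≃ₗ[Localization.AtPrime q]
      LocalizedModule q.primeCompl N :=
    (IsLocalizedModule.isBaseChange q.primeCompl (Localization.AtPrime q)
      (LocalizedModule.mkLinearMap q.primeCompl N)).equiv
  let e := e2 ≪≫ₗ e3 ≪≫ₗ e4.symm ≪≫ₗ e5 ≪≫ₗ e6
  exact (idealDepth_congr e _).symm

end Groth.Agent.R2.H40.DepthCompl
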