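import Groth.Agent.R2.H40DepthCompl
import Groth.Agent.Lib.Helper19ComplNoeth
import Mathlib.RingTheory.AdicCompletion.AsTensorProduct
import Mathlib.RingTheory.AdicCompletion.LocalRing

/-!
# Primes of the completion of a localisation lying over a given prime, with the same depth

Let `A` be Noetherian, `I ≤ q₁` with `q₁` prime, `p ≤ q₁` a prime such that the only prime between
`p` and `q₁` containing `I` is `q₁`.  Then the `I`-adic completion `R'` of `A_{q₁}` has a prime `p''`
(minimal over `p R'`) such that the only primes of `R'` containing `p''` and `I R'` are maximal and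
`depth (M'_{p''}) = depth (M_p)` for the completion `M'` of `M_{q₁}`, `M` a finite `A`-module.
-/

set_option autoImplicit false
universe u
open TensorProduct Groth.Agent.Lib.Helper28

namespace Groth.Agent.R2.H40.DepthCompl

variable {A : Type u} [CommRing A] [IsNoetherianRing A]

set_option maxHeartbeats 1600000 in
theorem exists_prime_completion (I : Ideal A) (q₁ : Ideal A) [q₁.IsPrime] (hIq : I ≤ q₁)
    (p : Ideal A) [p.IsPrime] (hpq : p ≤ q₁) (hIp : ¬ I ≤ p)
    (hbetween : ∀ r : Ideal A, r.IsPrime → p ≤ r → r ≤ q₁ → I ≤ r → r = q₁)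
    (M : Type u) [AddCommGroup M] [Module A M] [Module.Finite A M] :
    ∃ p'' : PrimeSpectrum (AdicCompletion (I.map (algebraMap A (Localization.AtPrime q₁)))
        (Localization.AtPrime q₁)),
      ¬ (I.map (algebraMap A (AdicCompletion (I.map (algebraMap A (Localization.AtPrime q₁)))
        (Localization.AtPrime q₁)))) ≤ p''.asIdeal ∧
      (∀ Q : PrimeSpectrum (AdicCompletion (I.map (algebraMap A (Localization.AtPrime q₁)))
        (Localization.AtPrime q₁)), p'' ≤ Q →
        (I.map (algebraMap A (AdicCompletion (I.map (algebraMap A (Localization.AtPrime q₁)))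
          (Localization.AtPrime q₁)))) ≤ Q.asIdeal → Q.asIdeal.IsMaximal) ∧
      LocCoh.depth (Localization.AtPrime p''.asIdeal)
        (LocalizedModule p''.asIdeal.primeCompl
          (AdicCompletion (I.map (algebraMap A (Localization.AtPrime q₁)))
            (LocalizedModule q₁.primeCompl M))) =
        LocCoh.depth (Localization.AtPrime p) (LocalizedModule p.primeCompl M) := by
  -- notation
  set R₁ := Localization.AtPrime q₁ with hR₁
  set I₁ : Ideal R₁ := I.map (algebraMap A R₁) with hI₁
  set R' := AdicCompletion I₁ R₁ with hR'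
  have hNoeth : IsNoetherianRing R' := Groth.Agent.Lib.Helper19.isNoetherianRing_adicCompletion I₁
  have hfg : I₁.FG := IsNoetherian.noetherian I₁
  have hflat : Module.Flat A R' := Module.Flat.trans A R₁ R'
  -- the maximal ideal of R'
  have hI₁m : I₁ ≤ IsLocalRing.maximalIdeal R₁ := by
    rw [hI₁, ← Localization.AtPrime.map_eq_maximalIdeal]
    exact Ideal.map_mono hIq
  have hmax : ((IsLocalRing.maximalIdeal R₁).map (algebraMap R₁ R')).IsMaximal :=
    AdicCompletion.isMaximal_map_of_le I₁ (IsLocalRing.maximalIdeal R₁) hI₁m hfg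
  have hmapmap : ∀ J : Ideal A, J.map (algebraMap A R') =
      (J.map (algebraMap A R₁)).map (algebraMap R₁ R') := by
    intro J
    rw [Ideal.map_map, ← IsScalarTower.algebraMap_eq]
  have hple : p.map (algebraMap A R') ≤ (IsLocalRing.maximalIdeal R₁).map (algebraMap R₁ R') := by
    rw [hmapmap p, ← Localization.AtPrime.map_eq_maximalIdeal]
    exact Ideal.map_mono (Ideal.map_mono hpq)
  have hpne : p.map (algebraMap A R') ≠ ⊤ := fun h => hmax.ne_top (top_le_iff.mp (h ▸ hple))
  obtain ⟨P, hP⟩ := Ideal.nonempty_minimalPrimes hpne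
  have hPprime : P.IsPrime := hP.1.1
  have hunder : P.under A = p := under_eq_of_mem_minimalPrimes_map p P hP
  refine ⟨⟨P, hPprime⟩, ?_, ?_, ?_⟩
  · -- (a)
    intro hle
    apply hIp
    rw [← hunder]
    exact Ideal.map_le_iff_le_comap.mp hle
  · -- (b)
    intro Q hPQ hIQ
    have hQprime : Q.asIdeal.IsPrime := Q.isPrime
    set Q₁ : Ideal R₁ := Q.asIdeal.comap (algebraMap R₁ R') with hQ₁
    have hQ₁prime : Q₁.IsPrime := Ideal.comap_isPrime _ _
    set r : Ideal A := Q.asIdeal.comap (algebraMap A R') with hr
    have hrprime : r.IsPrime := Ideal.comap_isPrime _ _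
    have hrQ₁ : r = Q₁.comap (algebraMap A R₁) := by
      rw [hr, hQ₁, Ideal.comap_comap, ← IsScalarTower.algebraMap_eq]
    have hpr : p ≤ r := by
      rw [← hunder]
      exact Ideal.comap_mono hPQ
    have hIr : I ≤ r := Ideal.map_le_iff_le_comap.mp hIQ
    have hrq : r ≤ q₁ := by
      rw [hrQ₁]
      have h1 : Q₁.comap (algebraMap A R₁) ≤
          (IsLocalRing.maximalIdeal R₁).comap (algebraMap A R₁) :=
        Ideal.comap_mono (IsLocalRing.le_maximalIdeal hQ₁prime.ne_top)
      exact h1.trans (le_of_eq (Localization.AtPrime.under_maximalIdeal (I := q₁)))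
    have hreq : r = q₁ := hbetween r hrprime hpr hrq hIr
    have hmle : (IsLocalRing.maximalIdeal R₁).map (algebraMap R₁ R') ≤ Q.asIdeal := by
      rw [Ideal.map_le_iff_le_comap, ← Localization.AtPrime.map_eq_maximalIdeal,
        Ideal.map_le_iff_le_comap, ← hQ₁, ← hrQ₁, hreq]
    rw [← hmax.eq_of_le hQprime.ne_top hmle]
    exact hmax
  · -- (c)
    let g₁ : M →ₗ[A] LocalizedModule q₁.primeCompl M := LocalizedModule.mkLinearMap q₁.primeCompl M
    have hg₁ : IsBaseChange R₁ g₁ := IsLocalizedModule.isBaseChange q₁.primeCompl R₁ g₁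
    let g₂ : LocalizedModule q₁.primeCompl M →ₗ[R₁]
        AdicCompletion I₁ (LocalizedModule q₁.primeCompl M) :=
      AdicCompletion.of I₁ (LocalizedModule q₁.primeCompl M)
    have hg₂ : IsBaseChange R' g₂ :=
      IsBaseChange.of_equiv
        (AdicCompletion.ofTensorProductEquivOfFiniteNoetherian I₁ (LocalizedModule q₁.primeCompl M))
        (fun x => by
          rw [AdicCompletion.ofTensorProductEquivOfFiniteNoetherian_apply,
            AdicCompletion.ofTensorProduct_tmul, one_smul])
    have htower : IsScalarTower A R' (AdicCompletion I₁ (LocalizedModule q₁.primeCompl M)) :=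
      IsScalarTower.to₁₃₄ A R₁ R' _
    have hg : IsBaseChange R' ((g₂.restrictScalars A).comp g₁) := IsBaseChange.comp hg₁ hg₂
    exact depth_localization_eq_of_isBaseChange p P hP M
      (AdicCompletion I₁ (LocalizedModule q₁.primeCompl M)) _ hg

end Groth.Agent.R2.H40.DepthCompl
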