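import Mathlib
import Groth.Prelude.Def_BlowUp2
import Groth.Agent.Lib.Helper20EffCartier

/-!
# helper48: local descent of effective Cartier ideals along flat open morphisms

* `ring_descent`: the commutative algebra core.
* `IsEffCartierAt I x`: `I` is generated by one nonzerodivisor on an affine open neighbourhood of `x`.
* `isEffCartierAt_of_comap`: for `g : W ⟶ U` flat and open, if `g⁻¹ I` is effective Cartier at `w` then
  `I` is effective Cartier at `g w`.
* `isEffCartierIdeal_of_comap`: global version for surjective `g`.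
-/

set_option autoImplicit false
universe u
open CategoryTheory CategoryTheory.Limits AlgebraicGeometry Opposite
open nonZeroDivisors

namespace Groth.Agent.R2.H48.CartierDescent

section Ring

/-- Step 1: if `J B = b B` with `b` a nonzerodivisor and `𝔮` is a prime, some `x ∈ J` generates
`J B` near `𝔮`. -/
theorem exists_generator {A B : Type u} [CommRing A] [CommRing B] [Algebra A B]
    (J : Ideal A) (b : B) (hb : b ∈ B⁰) (hJ : J.map (algebraMap A B) = Ideal.span {b})
    (𝔮 : Ideal B) [h𝔮 : 𝔮.IsPrime] :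
    ∃ x ∈ J, ∃ γ : B, γ ∉ 𝔮 ∧ algebraMap A B x = γ * b := by
  have h1 : ∀ x ∈ J, ∃ γ, algebraMap A B x = γ * b := by
    intro x hx
    have : algebraMap A B x ∈ J.map (algebraMap A B) := Ideal.mem_map_of_mem _ hx
    rw [hJ] at this
    obtain ⟨γ, hγ⟩ := Ideal.mem_span_singleton'.mp this
    exact ⟨γ, hγ.symm⟩
  by_contra hcon
  push Not at hcon
  have h2 : J.map (algebraMap A B) ≤ 𝔮 * Ideal.span {b} := by
    refine Ideal.map_le_iff_le_comap.mpr (fun x hx => ?_)
    obtain ⟨γ, hγ⟩ := h1 x hx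
    have hγq : γ ∈ 𝔮 := by
      by_contra h
      exact hcon x hx γ h hγ
    show algebraMap A B x ∈ 𝔮 * Ideal.span {b}
    rw [hγ]
    exact Ideal.mul_mem_mul hγq (Ideal.mem_span_singleton_self b)
  have h3 : b ∈ 𝔮 * Ideal.span {b} := h2 (hJ ▸ Ideal.mem_span_singleton_self b)
  obtain ⟨q, hq, hqb⟩ := Ideal.mem_mul_span_singleton.mp h3
  have h4 : (q - 1) * b = 0 := by rw [sub_mul, hqb, one_mul, sub_self]
  have h5 : q - 1 = 0 := (mem_nonZeroDivisors_iff_right.mp hb) _ h4
  have h6 : q = 1 := sub_eq_zero.mp h5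
  exact h𝔮.ne_top ((Ideal.eq_top_iff_one _).mpr (h6 ▸ hq))

/-- descent of "principal generated by a nonzerodivisor" along a faithfully flat map, when the
generator upstairs comes from downstairs up to a unit. -/
theorem descent_ff {A' B' : Type u} [CommRing A'] [CommRing B'] [Algebra A' B']
    [Module.FaithfullyFlat A' B'] (J' : Ideal A') (x' : A') (b' : B') (hb' : b' ∈ B'⁰)
    (hJ' : J'.map (algebraMap A' B') = Ideal.span {b'}) (γ' : B') (hγ' : IsUnit γ')
    (hxb : algebraMap A' B' x' = γ' * b') :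
    x' ∈ A'⁰ ∧ J' = Ideal.span {x'} := by
  have hinj : Function.Injective (algebraMap A' B') :=
    FaithfulSMul.algebraMap_injective A' B'
  constructor
  · rw [mem_nonZeroDivisors_iff_right]
    intro y hy
    apply hinj
    rw [map_zero]
    have h1 : algebraMap A' B' y * γ' * b' = 0 := by
      rw [mul_assoc, ← hxb, ← map_mul, hy, map_zero]
    have h2 : algebraMap A' B' y * γ' = 0 := (mem_nonZeroDivisors_iff_right.mp hb') _ h1
    exact (hγ'.mul_left_eq_zero).mp h2
  · have h1 : (Ideal.span {x'}).map (algebraMap A' B') = Ideal.span {b'} := by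
      rw [Ideal.map_span, Set.image_singleton, hxb]
      exact Ideal.span_singleton_mul_left_unit hγ' b'
    rw [← Ideal.comap_map_eq_self_of_faithfullyFlat (B := B') J', hJ', ← h1,
      Ideal.comap_map_eq_self_of_faithfullyFlat]

/-- The commutative algebra core of the descent of effective Cartier ideals along flat open maps. -/
theorem ring_descent {A B : Type u} [CommRing A] [CommRing B] [Algebra A B] [Module.Flat A B]
    (hopen : IsOpenMap (PrimeSpectrum.comap (algebraMap A B)))
    (J : Ideal A) (b : B) (hb : b ∈ B⁰) (hJ : J.map (algebraMap A B) = Ideal.span {b})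
    (𝔮 : PrimeSpectrum B) :
    ∃ a : A, a ∉ (𝔮.comap (algebraMap A B)).asIdeal ∧ ∃ x ∈ J,
      ∀ (A' : Type u) [CommRing A'] [Algebra A A'] [IsLocalization.Away a A'],
        algebraMap A A' x ∈ A'⁰ ∧ J.map (algebraMap A A') = Ideal.span {algebraMap A A' x} := by
  obtain ⟨x, hxJ, γ, hγ, hxγ⟩ := exists_generator J b hb hJ 𝔮.asIdeal
  have hop : IsOpen (PrimeSpectrum.comap (algebraMap A B) '' (PrimeSpectrum.basicOpen γ : Set _)) :=
    hopen _ (PrimeSpectrum.basicOpen γ).isOpen
  have hmem : 𝔮.comap (algebraMap A B) ∈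
      PrimeSpectrum.comap (algebraMap A B) '' (PrimeSpectrum.basicOpen γ : Set _) := ⟨𝔮, hγ, rfl⟩
  obtain ⟨_, ⟨a, rfl⟩, ha𝔭, hasub⟩ :=
    PrimeSpectrum.isTopologicalBasis_basic_opens.exists_subset_of_mem_open hmem hop
  refine ⟨a, ha𝔭, x, hxJ, ?_⟩
  intro A' _ _ _
  let t : B := γ * algebraMap A B a
  let B' := Localization.Away t
  have htu : IsUnit (algebraMap B B' t) := IsLocalization.Away.algebraMap_isUnit t
  have hγu : IsUnit (algebraMap B B' γ) := by
    rw [map_mul] at htu
    exact isUnit_of_mul_isUnit_left htu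
  have hau : IsUnit (algebraMap A B' a) := by
    rw [IsScalarTower.algebraMap_apply A B B']
    rw [map_mul] at htu
    exact isUnit_of_mul_isUnit_right htu
  letI : Algebra A' B' := (IsLocalization.Away.lift (S := A') a (g := algebraMap A B') hau).toAlgebra
  haveI : IsScalarTower A A' B' := IsScalarTower.of_algebraMap_eq
    (fun r => (IsLocalization.Away.lift_eq a hau r).symm)
  haveI : Module.Flat A B' := inferInstance
  haveI : Module.Flat A' B' := (Module.flat_iff_of_isLocalization A' (Submonoid.powers a) B').mpr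
    inferInstance
  haveI : Module.FaithfullyFlat A' B' := by
    refine Module.FaithfullyFlat.of_comap_surjective (fun 𝔭' => ?_)
    have h1 : 𝔭'.comap (algebraMap A A') ∈ (PrimeSpectrum.basicOpen a : Set (PrimeSpectrum A)) := by
      rw [← PrimeSpectrum.localization_away_comap_range A' a]
      exact ⟨𝔭', rfl⟩
    obtain ⟨𝔮', h𝔮'γ, h𝔮'⟩ := hasub h1
    have h2 : 𝔮' ∈ (PrimeSpectrum.basicOpen t : Set (PrimeSpectrum B)) := by
      show t ∉ 𝔮'.asIdeal
      intro ht
      rcases 𝔮'.isPrime.mem_or_mem ht with h | h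
      · exact h𝔮'γ h
      · have : a ∈ (𝔮'.comap (algebraMap A B)).asIdeal := h
        rw [h𝔮'] at this
        exact h1 this
    rw [← PrimeSpectrum.localization_away_comap_range B' t] at h2
    obtain ⟨𝔮'', h𝔮''⟩ := h2
    refine ⟨𝔮'', ?_⟩
    apply PrimeSpectrum.localization_comap_injective A' (Submonoid.powers a)
    rw [← h𝔮', ← h𝔮'']
    ext1
    show Ideal.comap (algebraMap A A') (Ideal.comap (algebraMap A' B') 𝔮''.asIdeal) =
      Ideal.comap (algebraMap A B) (Ideal.comap (algebraMap B B') 𝔮''.asIdeal)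
    rw [Ideal.comap_comap, Ideal.comap_comap, ← IsScalarTower.algebraMap_eq,
      ← IsScalarTower.algebraMap_eq]
  have hb' : algebraMap B B' b ∈ B'⁰ :=
    IsLocalization.map_nonZeroDivisors_le (Submonoid.powers t) B' (Submonoid.mem_map_of_mem _ hb)
  have hJ' : (J.map (algebraMap A A')).map (algebraMap A' B') = Ideal.span {algebraMap B B' b} := by
    rw [Ideal.map_map, ← IsScalarTower.algebraMap_eq, IsScalarTower.algebraMap_eq A B B',
      ← Ideal.map_map, hJ, Ideal.map_span, Set.image_singleton]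
  refine descent_ff (J.map (algebraMap A A')) (algebraMap A A' x) (algebraMap B B' b) hb' hJ'
    (algebraMap B B' γ) hγu ?_
  rw [← IsScalarTower.algebraMap_apply, IsScalarTower.algebraMap_apply A B B', hxγ, map_mul]

end Ring

section Scheme

/-- `I` is generated by one nonzerodivisor on an affine open neighbourhood of `x`. -/
def IsEffCartierAt {X : Scheme.{u}} (I : X.IdealSheafData) (x : X) : Prop :=
  ∃ U : X.affineOpens, x ∈ U.1 ∧
    ∃ f : Γ(X, U.1), f ∈ nonZeroDivisors Γ(X, U.1) ∧ I.ideal U = Ideal.span {f}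

theorem isEffCartierIdeal_iff_forall_at {X : Scheme.{u}} (I : X.IdealSheafData) :
    BlowUp.IsEffCartierIdeal I ↔ ∀ x, IsEffCartierAt I x := Iff.rfl

/-- the local generator of an ideal effective Cartier at `x` can be found on arbitrarily small affine
opens. -/
theorem IsEffCartierAt.exists_le {X : Scheme.{u}} {I : X.IdealSheafData} {x : X}
    (h : IsEffCartierAt I x) (W : X.Opens) (hxW : x ∈ W) :
    ∃ (U : X.Opens) (hU : IsAffineOpen U), x ∈ U ∧ U ≤ W ∧
      ∃ f : Γ(X, U), f ∈ Γ(X, U)⁰ ∧ I.ideal ⟨U, hU⟩ = Ideal.span {f} := by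
  obtain ⟨U', hxU', a, ha, hIa⟩ := h
  obtain ⟨r, hrW, hxr⟩ := U'.2.exists_basicOpen_le ⟨x, hxW⟩ hxU'
  refine ⟨X.basicOpen r, U'.2.basicOpen r, hxr, hrW,
    (X.presheaf.map (homOfLE (X.basicOpen_le r)).op).hom a, ?_, ?_⟩
  · have inst := U'.2.isLocalization_basicOpen r
    have h1 : (X.presheaf.map (homOfLE (X.basicOpen_le r)).op).hom = algebraMap _ _ := rfl
    rw [h1]
    exact IsLocalization.map_nonZeroDivisors_le (.powers r) _ (Submonoid.mem_map_of_mem _ ha)
  · have h2 := I.map_ideal_basicOpen U' r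
    rw [hIa, Ideal.map_span, Set.image_singleton] at h2
    exact h2.symm

set_option backward.isDefEq.respectTransparency false in
/-- Local descent: for `g : W ⟶ U` flat and open, if `g⁻¹ I` is effective Cartier at `w` then `I` is
effective Cartier at `g w`. -/
theorem isEffCartierAt_of_comap {W U : Scheme.{u}} (g : W ⟶ U) [Flat g] (hopen : IsOpenMap g)
    (I : U.IdealSheafData) (w : W) (h : IsEffCartierAt (I.comap g) w) : IsEffCartierAt I (g w) := by
  obtain ⟨_, ⟨U₀, hU₀, rfl⟩, hxU₀, -⟩ :=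
    U.isBasis_affineOpens.exists_subset_of_mem_open (Set.mem_univ (g w)) isOpen_univ
  obtain ⟨W₁, hW₁, hwW₁, hW₁le, b, hb, hIb⟩ := h.exists_le (g ⁻¹ᵁ U₀) hxU₀
  have hflat : (g.appLE U₀ W₁ hW₁le).hom.Flat :=
    HasRingHomProperty.appLE (P := @Flat) g inferInstance ⟨U₀, hU₀⟩ ⟨W₁, hW₁⟩ hW₁le
  have hJ := Groth.Agent.Lib.Helper20.EffCartier.ideal_comap_eq_map g I hW₁ hU₀ hW₁le
  rw [hIb] at hJ
  -- the map on spectra is open
  have hopen' : IsOpenMap (PrimeSpectrum.comap (g.appLE U₀ W₁ hW₁le).hom) := by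
    have hsq := IsAffineOpen.SpecMap_appLE_fromSpec g hU₀ hW₁ hW₁le
    have h1 : IsOpenMap (hW₁.fromSpec ≫ g) := by
      rw [Scheme.Hom.comp_base]
      exact hopen.comp hW₁.fromSpec.isOpenEmbedding.isOpenMap
    rw [← hsq] at h1
    intro V hV
    have h2 := h1 V hV
    have h3 : (PrimeSpectrum.comap (g.appLE U₀ W₁ hW₁le).hom) '' V =
        hU₀.fromSpec ⁻¹' ((Spec.map (g.appLE U₀ W₁ hW₁le) ≫ hU₀.fromSpec) '' V) := by
      rw [Scheme.Hom.comp_base]
      ext y
      simp only [Set.mem_image, Set.mem_preimage]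
      constructor
      · rintro ⟨z, hz, rfl⟩
        exact ⟨z, hz, rfl⟩
      · rintro ⟨z, hz, hzy⟩
        exact ⟨z, hz, hU₀.fromSpec.isOpenEmbedding.injective hzy⟩
    rw [h3]
    exact h2.preimage hU₀.fromSpec.continuous
  algebraize [(g.appLE U₀ W₁ hW₁le).hom]
  obtain ⟨a, ha, x, hxJ, hA'⟩ := ring_descent hopen' (I.ideal ⟨U₀, hU₀⟩) b hb hJ.symm
    (hW₁.primeIdealOf ⟨w, hwW₁⟩)
  haveI := hU₀.isLocalization_basicOpen a
  obtain ⟨hnzd, hspan⟩ := hA' Γ(U, U.basicOpen a)
  refine ⟨⟨U.basicOpen a, hU₀.basicOpen a⟩, ?_, algebraMap _ _ x, hnzd, ?_⟩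
  · have ha' : a ∉ (hU₀.primeIdealOf ⟨g w, hW₁le hwW₁⟩).asIdeal := by
      rw [← IsAffineOpen.comap_primeIdealOf_appLE U₀ hU₀ W₁ hW₁ hW₁le hwW₁]
      exact ha
    rwa [← PrimeSpectrum.mem_basicOpen, IsAffineOpen.primeIdealOf,
      ← hU₀.fromSpec_preimage_basicOpen, Scheme.Hom.mem_preimage, ← Scheme.Hom.comp_apply,
      IsAffineOpen.isoSpec_hom, IsAffineOpen.toSpecΓ_fromSpec] at ha'
  · rw [← hspan]
    exact (I.map_ideal_basicOpen ⟨U₀, hU₀⟩ a).symm

/-- Descent of effective Cartier ideals along flat open surjective morphisms. -/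
theorem isEffCartierIdeal_of_comap {W U : Scheme.{u}} (g : W ⟶ U) [Flat g] [Surjective g]
    (hopen : IsOpenMap g) (I : U.IdealSheafData) (h : BlowUp.IsEffCartierIdeal (I.comap g)) :
    BlowUp.IsEffCartierIdeal I := by
  intro x
  obtain ⟨w, rfl⟩ := g.surjective x
  exact isEffCartierAt_of_comap g hopen I w (h w)

end Scheme

end Groth.Agent.R2.H48.CartierDescent
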