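import Mathlib
import Groth.Agent.R2.H48Chart
import Groth.Agent.R2.H48CartierDescent
import Groth.Agent.S10176
import Groth.Agent.S10855

/-!
# helper48: effective Cartier divisors on algebraic spaces, independence of the étale chart

* `ideal_eq_of_isPullback`: the ideal sheaf on a chart cutting out the inverse image of a closed subspace is unique.
* `exists_ideal_chart`: it exists for every chart.
* `isEffCartierAt_of_charts`: transfer of "effective Cartier at a point" between two étale charts.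
-/

set_option autoImplicit false
set_option backward.isDefEq.respectTransparency false
universe u
open CategoryTheory CategoryTheory.Limits AlgebraicGeometry
open AlgSp

namespace Groth.Agent.R2.H48.CartierChart

open Groth.Agent.R2.H48.Chart Groth.Agent.R2.H48.CartierDescent

variable {S : Scheme.{u}}

/-- two closed subschemes that are isomorphic over the ambient scheme have the same ideal. -/
theorem ideal_le_of_factor {W : Scheme.{u}} {I₁ I₂ : W.IdealSheafData}
    (ε : I₁.subscheme ⟶ I₂.subscheme) (hε : ε ≫ I₂.subschemeι = I₁.subschemeι) : I₂ ≤ I₁ := by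
  rw [← I₁.ker_subschemeι, ← hε]
  conv_lhs => rw [← I₂.ker_subschemeι]
  exact Scheme.Hom.le_ker_comp ε I₂.subschemeι

/-- the ideal sheaf on a chart cutting out the inverse image of a closed subspace is unique. -/
theorem ideal_eq_of_isPullback {D X : AlgSp.Sp S} {i : D ⟶ X} {W : Over S}
    {ψ ψ' : (AlgSp.yon S).obj W ⟶ X} (hψ : ψ = ψ') {I₁ I₂ : W.left.IdealSheafData}
    {f₁ : (AlgSp.yon S).obj (subOver I₁) ⟶ D} {f₂ : (AlgSp.yon S).obj (subOver I₂) ⟶ D}
    (h₁ : IsPullback f₁ ((AlgSp.yon S).map (subι I₁)) i ψ)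
    (h₂ : IsPullback f₂ ((AlgSp.yon S).map (subι I₂)) i ψ') : I₁ = I₂ := by
  subst hψ
  obtain ⟨ε, hε⟩ := (AlgSp.yon S).map_surjective (h₁.isoIsPullback _ _ h₂).hom
  obtain ⟨ε', hε'⟩ := (AlgSp.yon S).map_surjective (h₁.isoIsPullback _ _ h₂).inv
  have e1 : ε ≫ subι I₂ = subι I₁ := by
    apply (AlgSp.yon S).map_injective
    rw [Functor.map_comp, hε]
    exact IsPullback.isoIsPullback_hom_snd _ _ h₁ h₂
  have e2 : ε' ≫ subι I₁ = subι I₂ := by
    apply (AlgSp.yon S).map_injective
    rw [Functor.map_comp, hε']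
    exact IsPullback.isoIsPullback_inv_snd _ _ h₁ h₂
  have e1' : ε.left ≫ I₂.subschemeι = I₁.subschemeι := congrArg CommaMorphism.left e1
  have e2' : ε'.left ≫ I₁.subschemeι = I₂.subschemeι := congrArg CommaMorphism.left e2
  exact le_antisymm (ideal_le_of_factor ε'.left e2') (ideal_le_of_factor ε.left e1')

/-- for a closed subspace and any chart there is an ideal sheaf on the chart cutting out the inverse image. -/
theorem exists_ideal_chart {D X : AlgSp.Sp S} {i : D ⟶ X} (hi : AlgSp.RepWith @IsClosedImmersion i)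
    {V : Over S} (φ : (AlgSp.yon S).obj V ⟶ X) :
    ∃ (I : V.left.IdealSheafData) (fst : (AlgSp.yon S).obj (subOver I) ⟶ D),
      IsPullback fst ((AlgSp.yon S).map (subι I)) i φ := by
  obtain ⟨Z, ι, fst', sq⟩ := hi.1 φ
  haveI : IsClosedImmersion ι.left := hi.2 _ _ ι sq
  let I : V.left.IdealSheafData := ι.left.ker
  -- the isomorphism `Z ≅ V(I)` over `V`
  let e : Z ⟶ subOver I := Over.homMk ι.left.toImage (by
    show ι.left.toImage ≫ I.subschemeι ≫ V.hom = Z.hom
    rw [← Category.assoc]
    erw [ι.left.toImage_imageι]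
    exact Over.w ι)
  haveI : IsIso e.left := inferInstanceAs (IsIso ι.left.toImage)
  haveI : IsIso ((Over.forget S).map e) := ‹IsIso e.left›
  haveI : IsIso e := isIso_of_reflects_iso e (Over.forget S)
  have he : e ≫ subι I = ι := by
    ext
    exact ι.left.toImage_imageι
  refine ⟨I, (AlgSp.yon S).map (inv e) ≫ fst', ?_⟩
  have hι : (AlgSp.yon S).map (subι I) = (AlgSp.yon S).map (inv e) ≫ (AlgSp.yon S).map ι := by
    rw [← Functor.map_comp, ← he, IsIso.inv_hom_id_assoc]
  rw [hι]
  exact IsPullback.of_iso sq ((AlgSp.yon S).mapIso (asIso e)) (Iso.refl _) (Iso.refl _) (Iso.refl _)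
    (by simp) (by simp) (by simp) (by simp)

/-- transfer of "effective Cartier at a point" between two étale charts of a closed subspace. -/
theorem isEffCartierAt_of_charts {D X : AlgSp.Sp S} {i : D ⟶ X} {U V : Over S}
    {ψ : (AlgSp.yon S).obj U ⟶ X} {φ : (AlgSp.yon S).obj V ⟶ X}
    (hψ : AlgSp.RepWith @Etale ψ) (hφ : AlgSp.RepWith @Etale φ)
    {I_U : U.left.IdealSheafData} {I_V : V.left.IdealSheafData}
    {f_U : (AlgSp.yon S).obj (subOver I_U) ⟶ D} {f_V : (AlgSp.yon S).obj (subOver I_V) ⟶ D}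
    (sqU : IsPullback f_U ((AlgSp.yon S).map (subι I_U)) i ψ)
    (sqV : IsPullback f_V ((AlgSp.yon S).map (subι I_V)) i φ)
    (hI_V : BlowUp.IsEffCartierIdeal I_V) (u : ↥U.left) (v : ↥V.left)
    (huv : AlgSp.Points.ofPt φ v = AlgSp.Points.ofPt ψ u) : IsEffCartierAt I_U u := by
  obtain ⟨W, w_U, w_V', sqW⟩ := hφ.1 ψ
  obtain ⟨w_V, rfl⟩ := (AlgSp.yon S).map_surjective w_V'
  haveI : Etale w_U.left := hφ.2 _ _ w_U sqW
  haveI : Etale w_V.left := hψ.2 _ _ w_V sqW.flip
  obtain ⟨y, hyv, hyu⟩ := Groth.Agent.S10176.exists_point_of_isPullback_yon sqW v u huv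
  have h1 := isPullback_chart_comap sqV w_V
  have h2 := isPullback_chart_comap sqU w_U
  have hI : I_V.comap w_V.left = I_U.comap w_U.left := ideal_eq_of_isPullback sqW.w h1 h2
  have hc : BlowUp.IsEffCartierIdeal (I_U.comap w_U.left) := by
    rw [← hI]
    exact Groth.Agent.S10855.result w_V.left I_V hI_V
  have := isEffCartierAt_of_comap w_U.left w_U.left.isOpenMap I_U y (hc y)
  rwa [hyu] at this

/-- an ideal sheaf is effective Cartier at every point outside its support. -/
theorem isEffCartierAt_of_notMem_support {X : Scheme.{u}} (I : X.IdealSheafData) (x : X)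
    (hx : x ∉ I.support) : IsEffCartierAt I x := by
  let O : X.Opens := ⟨(I.support : Set X)ᶜ, I.support.isClosed.isOpen_compl⟩
  have htop : I.comap O.ι = ⊤ := by
    rw [← Scheme.IdealSheafData.support_eq_bot_iff, Scheme.IdealSheafData.support_comap]
    ext y
    simp only [TopologicalSpace.Closeds.coe_preimage, Set.mem_preimage, SetLike.mem_coe,
      TopologicalSpace.Closeds.coe_bot, Set.mem_empty_iff_false, iff_false]
    exact y.2
  have h1 : IsEffCartierAt (I.comap O.ι) ⟨x, hx⟩ := by
    rw [htop]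
    obtain ⟨_, ⟨U, hU, rfl⟩, hxU, -⟩ := (O : Scheme.{u}).isBasis_affineOpens.exists_subset_of_mem_open
      (Set.mem_univ (⟨x, hx⟩ : O)) isOpen_univ
    refine ⟨⟨U, hU⟩, hxU, 1, one_mem _, ?_⟩
    simp [Ideal.span_singleton_one]
  exact isEffCartierAt_of_comap O.ι O.ι.isOpenMap I ⟨x, hx⟩ h1

end Groth.Agent.R2.H48.CartierChart
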