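import Mathlib
import Groth.Agent.Lib.Helper3FibCritD
import Groth.Agent.S9272
import Groth.Agent.S5803

/-!
# Fibrewise criterion for quotients by regular sequences (helper42)

Finite presentation (non-Noetherian) form: `A → B` of finite presentation, `q` a prime of `B`,
`B_q` flat over `A`, `f_1, …, f_r ∈ q` forming a regular sequence in the local ring of the fibre at
`q`.  Then `(B/(f_1, …, f_r))_q` is flat over `A`.

Main declarations (all in namespace `Groth.Agent.R2.H42.FibReg`):
* `exists_kill_torsion`: a Noetherian algebra over a field; an element killing all `κ[t]`-torsion.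
* `flat_of_surjective_of_ker`: flatness of `N/𝔞N` over `R/𝔞`, semilinear form.
* `flat_localized_quotient_span_singleton`: `B_q` flat over `A[X]` (`X ↦ f`) gives `(B/f)_q` flat over `A`.
* `fiberMap_flat_of_torsionFree`: flatness of `κ[X] → κ ⊗ C` from torsion-freeness.
* `flat_of_fiberMap_flat_away`: the fibre criterion `Helper3.FibCritD.flat_of_fiberMap_flat`, with the
  fibre map only required to be flat after inverting some `g ∉ P`.
* `flat_localized_quotient_singleton_of_fiber`: one step (a nonzerodivisor on the fibre at `q`).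
* `flat_of_forall_localized_maximal`: relative local-global principle for flatness.
* `isQuasiRegular_ringEquiv`, `isQuasiRegular_localization`: transport of quasi-regularity.
* `regular_at_of_isWeaklyRegular`: a weakly regular sequence in `D_Q`, elementwise form in `D`.
* `localizedEquivOfSurjective`, `fiberQuot` and its lemmas.
* `flat_localized_quotient_of_regAt`: the induction (`RegAt Q t` = regular sequence at `Q`).
* `flat_quotient_of_quasiRegular_mod_nilpotent`: lifting flatness of a quasi-regular quotient along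
  a locally nilpotent thickening of the base.
-/

set_option autoImplicit false
set_option linter.style.haveILetI false
universe u

namespace Groth.Agent.R2.H42.FibReg

open Polynomial TensorProduct
open Groth.Agent.Lib.Helper3.FibCritA Groth.Agent.Lib.Helper3.FibCritD
open Groth.Agent.S9272 (Idx ev mono ev_apply qr_iff)



section Choose

variable {κ D : Type*} [Field κ] [CommRing D] [Algebra κ D]

lemma exists_kill_of_pow (Q : Ideal D) [Q.IsPrime] (t : D)
    (hreg : ∀ d : D, t * d = 0 → ∃ s ∉ Q, s * d = 0) :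
    ∀ (a : ℕ) (d : D), t ^ a * d = 0 → ∃ s ∉ Q, s * d = 0 := by
  intro a
  induction a with
  | zero =>
    intro d hd
    refine ⟨1, fun h => Ideal.IsPrime.ne_top ‹_› ((Ideal.eq_top_iff_one Q).mpr h), ?_⟩
    simpa using hd
  | succ a ih =>
    intro d hd
    have h1 : t * (t ^ a * d) = 0 := by rw [← hd]; ring
    obtain ⟨s₁, hs₁, h2⟩ := hreg _ h1
    have h3 : t ^ a * (s₁ * d) = 0 := by rw [← h2]; ring
    obtain ⟨s₂, hs₂, h4⟩ := ih _ h3
    refine ⟨s₂ * s₁, fun h => ?_, by rw [mul_assoc]; exact h4⟩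
    rcases Ideal.IsPrime.mem_or_mem ‹_› h with h | h
    · exact hs₂ h
    · exact hs₁ h

lemma aeval_notMem_of_eval_zero_ne (Q : Ideal D) [Q.IsPrime] (t : D) (ht : t ∈ Q)
    (u : κ[X]) (hu : u.eval 0 ≠ 0) : aeval t u ∉ Q := by
  intro hw
  have hX : (X : κ[X]) ∣ u - C (u.eval 0) := by
    rw [X_dvd_iff]
    simp [coeff_zero_eq_eval_zero]
  obtain ⟨v, hv⟩ := hX
  have h1 : aeval t u = algebraMap κ D (u.eval 0) + t * aeval t v := by
    have : u = C (u.eval 0) + X * v := by rw [← hv]; ring
    conv_lhs => rw [this]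
    simp
  have h2 : algebraMap κ D (u.eval 0) ∈ Q := by
    have : algebraMap κ D (u.eval 0) = aeval t u - t * aeval t v := by rw [h1]; ring
    rw [this]
    exact Q.sub_mem hw (Q.mul_mem_right _ ht)
  have h3 : (1 : D) ∈ Q := by
    have : (1 : D) = algebraMap κ D (u.eval 0)⁻¹ * algebraMap κ D (u.eval 0) := by
      rw [← map_mul, inv_mul_cancel₀ hu, map_one]
    rw [this]
    exact Q.mul_mem_left _ h2
  exact Ideal.IsPrime.ne_top ‹_› ((Ideal.eq_top_iff_one Q).mpr h3)

lemma exists_kill_of_aeval (Q : Ideal D) [Q.IsPrime] (t : D) (ht : t ∈ Q)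
    (hreg : ∀ d : D, t * d = 0 → ∃ s ∉ Q, s * d = 0)
    (h : κ[X]) (hh : h ≠ 0) (z : D) (hz : aeval t h * z = 0) : ∃ s ∉ Q, s * z = 0 := by
  obtain ⟨u, hu1, hu2⟩ := exists_eq_pow_rootMultiplicity_mul_and_not_dvd h hh 0
  have hu0 : u.eval 0 ≠ 0 := by
    intro h0
    apply hu2
    rw [dvd_iff_isRoot]
    exact h0
  set a := rootMultiplicity 0 h
  have hw := aeval_notMem_of_eval_zero_ne Q t ht u hu0
  have h1 : t ^ a * (aeval t u * z) = 0 := by
    rw [← hz, hu1]
    simp
    ring
  obtain ⟨s', hs', h2⟩ := exists_kill_of_pow Q t hreg a _ h1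
  refine ⟨s' * aeval t u, fun hm => ?_, by rw [mul_assoc]; exact h2⟩
  rcases Ideal.IsPrime.mem_or_mem ‹_› hm with hm | hm
  · exact hs' hm
  · exact hw hm

theorem exists_kill_torsion [IsNoetherianRing D] (Q : Ideal D) [Q.IsPrime] (t : D) (ht : t ∈ Q)
    (hreg : ∀ d : D, t * d = 0 → ∃ s ∉ Q, s * d = 0) :
    ∃ s ∉ Q, ∀ (h : κ[X]), h ≠ 0 → ∀ d : D, aeval t h * d = 0 → s * d = 0 := by
  classical
  let Z : Ideal D :=
    { carrier := {d | ∃ h : κ[X], h ≠ 0 ∧ aeval t h * d = 0}
      add_mem' := by
        rintro a b ⟨h₁, hh₁, ha⟩ ⟨h₂, hh₂, hb⟩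
        refine ⟨h₁ * h₂, mul_ne_zero hh₁ hh₂, ?_⟩
        rw [map_mul, mul_add]
        have e1 : aeval t h₁ * aeval t h₂ * a = aeval t h₂ * (aeval t h₁ * a) := by ring
        have e2 : aeval t h₁ * aeval t h₂ * b = aeval t h₁ * (aeval t h₂ * b) := by ring
        rw [e1, e2, ha, hb]
        simp
      zero_mem' := ⟨1, one_ne_zero, by simp⟩
      smul_mem' := by
        rintro c d ⟨h, hh, hd⟩
        refine ⟨h, hh, ?_⟩
        have : aeval t h * (c • d) = c * (aeval t h * d) := by rw [smul_eq_mul]; ring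
        rw [this, hd, mul_zero] }
  have hZfg : Z.FG := (isNoetherianRing_iff_ideal_fg D).mp inferInstance Z
  obtain ⟨S, hS⟩ := hZfg
  have hper : ∀ z ∈ S, ∃ s ∉ Q, s * z = 0 := by
    intro z hz
    have hzZ : z ∈ Z := by rw [← hS]; exact Ideal.subset_span hz
    obtain ⟨h, hh, hd⟩ := hzZ
    exact exists_kill_of_aeval Q t ht hreg h hh z hd
  choose! σ hσ1 hσ2 using hper
  refine ⟨∏ z ∈ S, σ z, ?_, ?_⟩
  · intro hmem
    rw [Ideal.IsPrime.prod_mem_iff] at hmem
    obtain ⟨z, hz, hzQ⟩ := hmem
    exact hσ1 z hz hzQ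
  · intro h hh d hd
    have hdZ : d ∈ Z := ⟨h, hh, hd⟩
    rw [← hS] at hdZ
    refine Submodule.span_induction ?_ ?_ ?_ ?_ hdZ
    · intro z hz
      rw [← Finset.prod_erase_mul S σ hz, mul_assoc, hσ2 z hz, mul_zero]
    · simp
    · intro x y _ _ hx hy
      rw [mul_add, hx, hy, add_zero]
    · intro c x _ hx
      rw [smul_eq_mul, mul_left_comm, hx, mul_zero]

end Choose




section QuotFlat

/-- transfer of flatness along a semilinear equivalence -/
theorem flat_of_semilinear_equiv' {R R' M M' : Type*} [CommRing R] [CommRing R'] [AddCommGroup M]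
    [AddCommGroup M'] [Module R M] [Module R' M'] (σ : R ≃+* R') (e : M ≃+ M')
    (he : ∀ (r : R) (m : M), e (r • m) = σ r • e m) [Module.Flat R M] : Module.Flat R' M' := by
  letI : Algebra R R' := σ.toRingHom.toAlgebra
  letI : Module R M' := Module.compHom M' σ.toRingHom
  haveI : IsScalarTower R R' M' :=
    ⟨fun a b y => by change (σ a * b) • y = σ a • (b • y); rw [mul_smul]⟩
  let e' : M ≃ₗ[R] M' := { e with map_smul' := fun r m => he r m }
  haveI : Module.Flat R M' := Module.Flat.of_linearEquiv e'.symm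
  haveI : IsLocalization (⊥ : Submonoid R) R := IsLocalization.self (by
    intro x hx
    rw [Submonoid.mem_bot] at hx
    subst hx
    exact isUnit_one)
  haveI : IsLocalization (⊥ : Submonoid R) R' :=
    IsLocalization.isLocalization_of_algEquiv (M := (⊥ : Submonoid R)) (S := R) (P := R')
      (AlgEquiv.ofRingEquiv (f := σ) (fun x => rfl))
  exact (Module.flat_iff_of_isLocalization R' (⊥ : Submonoid R) M').2 inferInstance

/-- `M / J M` is flat over `R / J` when `M` is flat over `R`. -/
theorem flat_quotient' {R : Type*} [CommRing R] {M : Type*} [AddCommGroup M] [Module R M]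
    [Module.Flat R M] (J : Ideal R) :
    Module.Flat (R ⧸ J) (M ⧸ (J • ⊤ : Submodule R M)) := by
  have e : ((R ⧸ J) ⊗[R] M) ≃ₗ[R ⧸ J] (M ⧸ (J • ⊤ : Submodule R M)) :=
    (TensorProduct.quotTensorEquivQuotSMul M J).extendScalarsOfSurjective
      (Ideal.Quotient.mk_surjective (I := J))
  exact Module.Flat.of_linearEquiv e.symm

/-- (G): flatness of a quotient `N / 𝔞 N` over `R / 𝔞 ≅ R'`, in semilinear form. -/
theorem flat_of_surjective_of_ker {R R' N N' : Type*} [CommRing R] [CommRing R']
    (σ : R →+* R') (hσ : Function.Surjective σ)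
    [AddCommGroup N] [Module R N] [Module.Flat R N] [AddCommGroup N'] [Module R' N']
    (π : N →+ N') (hπs : Function.Surjective π) (hsemi : ∀ (r : R) (n : N), π (r • n) = σ r • π n)
    (hker : ∀ n, π n = 0 → n ∈ (RingHom.ker σ • ⊤ : Submodule R N)) : Module.Flat R' N' := by
  set 𝔞 := RingHom.ker σ with h𝔞
  haveI := flat_quotient' (M := N) 𝔞
  let σ' : (R ⧸ 𝔞) ≃+* R' := RingHom.quotientKerEquivOfSurjective hσ
  letI : Module R N' := Module.compHom N' σ
  let πL : N →ₗ[R] N' := { π with map_smul' := fun r n => hsemi r n }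
  have hkerL : LinearMap.ker πL = (𝔞 • ⊤ : Submodule R N) := by
    apply le_antisymm
    · intro n hn
      exact hker n hn
    · rw [Submodule.smul_le]
      intro r hr n _
      rw [LinearMap.mem_ker]
      change π (r • n) = 0
      rw [hsemi, (RingHom.mem_ker).mp hr, zero_smul]
  let e1 : (N ⧸ (𝔞 • ⊤ : Submodule R N)) ≃ₗ[R] N ⧸ LinearMap.ker πL :=
    Submodule.quotEquivOfEq _ _ hkerL.symm
  let e2 : (N ⧸ LinearMap.ker πL) ≃ₗ[R] N' := LinearMap.quotKerEquivOfSurjective πL hπs
  let e : (N ⧸ (𝔞 • ⊤ : Submodule R N)) ≃ₗ[R] N' := e1.trans e2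
  refine flat_of_semilinear_equiv' σ' e.toAddEquiv ?_
  intro r m
  obtain ⟨r, rfl⟩ := Ideal.Quotient.mk_surjective r
  have h1 : (Ideal.Quotient.mk 𝔞 r) • m = r • m := rfl
  rw [h1]
  change e (r • m) = σ' (Ideal.Quotient.mk 𝔞 r) • e m
  rw [map_smul]
  rfl

end QuotFlat




section LocQuot

variable {A B : Type*} [CommRing A] [CommRing B] [Algebra A B]

theorem flat_localized_quotient_span_singleton
    (q : Ideal B) [q.IsPrime] (f : B)
    [Algebra A[X] B] [IsScalarTower A A[X] B] (hX : algebraMap A[X] B X = f)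
    [Module.Flat A[X] (LocalizedModule q.primeCompl B)] :
    Module.Flat A (LocalizedModule q.primeCompl (B ⧸ Ideal.span {f})) := by
  set S := q.primeCompl
  let f₁ := LocalizedModule.mkLinearMap S B
  let f₂ := LocalizedModule.mkLinearMap S (B ⧸ Ideal.span {f})
  let g : B →ₗ[B] B := f • LinearMap.id
  let h : B →ₗ[B] (B ⧸ Ideal.span {f}) := Submodule.mkQ (Ideal.span {f})
  have hex : Function.Exact g h := by
    intro y
    simp only [h, g, Submodule.mkQ_apply, Submodule.Quotient.mk_eq_zero, Set.mem_range,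
      LinearMap.smul_apply, LinearMap.id_coe, id_eq, smul_eq_mul]
    rw [Ideal.mem_span_singleton']
    constructor
    · rintro ⟨a, rfl⟩; exact ⟨a, mul_comm _ _⟩
    · rintro ⟨a, rfl⟩; exact ⟨a, mul_comm _ _⟩
  let π := IsLocalizedModule.map S f₁ f₂ h
  have hπs : Function.Surjective π :=
    IsLocalizedModule.map_surjective S f₁ f₂ h (Submodule.mkQ_surjective _)
  have hexloc := IsLocalizedModule.map_exact S f₁ f₁ f₂ g h hex
  have hmapg : IsLocalizedModule.map S f₁ f₁ g = f • LinearMap.id := by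
    simp only [g, map_smul, IsLocalizedModule.map_id]
  -- `f` kills the target
  have hkill : ∀ (b : B) (n' : LocalizedModule S (B ⧸ Ideal.span {f})), (f * b) • n' = 0 := by
    intro b n'
    induction n' using LocalizedModule.induction_on with
    | h m s =>
      rw [LocalizedModule.smul'_mk]
      have : (f * b) • m = 0 := by
        obtain ⟨m, rfl⟩ := Ideal.Quotient.mk_surjective m
        rw [Algebra.smul_def]
        change Ideal.Quotient.mk _ (f * b) * Ideal.Quotient.mk _ m = 0
        rw [Ideal.Quotient.eq_zero_iff_mem.mpr (Ideal.mul_mem_right _ _ (Ideal.mem_span_singleton_self f)),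
          zero_mul]
      rw [this, LocalizedModule.zero_mk]
  refine flat_of_surjective_of_ker (R := A[X]) (R' := A) (Polynomial.evalRingHom 0)
    (fun a => ⟨C a, by simp⟩) π.toAddMonoidHom hπs ?_ ?_
  · intro P n
    change π (P • n) = (P.eval 0) • π n
    rw [← algebraMap_smul B P n, map_smul]
    -- decompose P
    have hXd : (X : A[X]) ∣ P - C (P.eval 0) := by
      rw [X_dvd_iff]
      simp [coeff_zero_eq_eval_zero]
    obtain ⟨P', hP'⟩ := hXd
    have hP : P = C (P.eval 0) + X * P' := by rw [← hP']; ring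
    have h1 : algebraMap A[X] B P = algebraMap A B (P.eval 0) + f * algebraMap A[X] B P' := by
      conv_lhs => rw [hP]
      rw [map_add, map_mul, hX, ← Polynomial.algebraMap_eq, ← IsScalarTower.algebraMap_apply]
    rw [h1, add_smul, hkill, add_zero, algebraMap_smul]
  · intro n hn
    have hn' : π n = 0 := hn
    obtain ⟨n₀, rfl⟩ := (hexloc n).mp hn'
    rw [hmapg]
    simp only [LinearMap.smul_apply, LinearMap.id_coe, id_eq]
    have : f • n₀ = (X : A[X]) • n₀ := by
      rw [← algebraMap_smul B (X : A[X]) n₀, hX]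
    rw [this]
    refine Submodule.smul_mem_smul ?_ Submodule.mem_top
    rw [RingHom.mem_ker]
    simp

end LocQuot




section FibFlat

theorem fiberMap_flat_of_torsionFree {A C : Type u} [CommRing A] [CommRing C] [Algebra A C]
    (p : Ideal A) [p.IsPrime] (f : C) [Algebra A[X] C] [IsScalarTower A A[X] C]
    (hX : algebraMap A[X] C X = f)
    (htf : ∀ h : p.ResidueField[X], h ≠ 0 → ∀ x : p.Fiber C,
      aeval ((1 : p.ResidueField) ⊗ₜ[A] f) h * x = 0 → x = 0) :
    (fiberMap (B := A[X]) (C := C) p).toRingHom.Flat := by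
  let e : p.ResidueField[X] ≃ₐ[p.ResidueField] p.ResidueField ⊗[A] A[X] :=
    polyEquivTensor' A p.ResidueField
  let φ := fiberMap (B := A[X]) (C := C) p
  haveI : IsDomain (p.ResidueField ⊗[A] A[X]) := e.symm.toMulEquiv.isDomain
  haveI : IsPrincipalIdealRing (p.ResidueField ⊗[A] A[X]) :=
    IsPrincipalIdealRing.of_surjective e.toAlgHom.toRingHom e.surjective
  have hkey : ∀ h : p.ResidueField[X], φ (e h) = aeval ((1 : p.ResidueField) ⊗ₜ[A] f) h := by
    intro h
    have : (φ.comp e.toAlgHom) = aeval ((1 : p.ResidueField) ⊗ₜ[A] f) := by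
      apply Polynomial.algHom_ext
      simp [e, φ, fiberMap, hX]
    exact DFunLike.congr_fun this h
  letI := φ.toRingHom.toAlgebra
  show Module.Flat (p.ResidueField ⊗[A] A[X]) (p.ResidueField ⊗[A] C)
  rw [Module.Flat.flat_iff_torsion_eq_bot_of_isBezout, eq_bot_iff]
  intro x hx
  rw [Submodule.mem_torsion_iff] at hx
  obtain ⟨a, ha⟩ := hx
  obtain ⟨h, hh⟩ := e.surjective a.1
  have hh0 : h ≠ 0 := by
    rintro rfl
    rw [map_zero] at hh
    exact nonZeroDivisors.ne_zero a.2 hh.symm
  have h1 : aeval ((1 : p.ResidueField) ⊗ₜ[A] f) h * x = 0 := by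
    rw [← hkey, hh]
    exact ha
  rw [Submodule.mem_bot]
  exact htf h hh0 x h1

end FibFlat




section Away

variable {A B C : Type u} [CommRing A] [CommRing B] [CommRing C] [Algebra A B] [Algebra B C]
  [Algebra A C] [IsScalarTower A B C]

/-- localized version of the fibre criterion: it is enough that the fibre map is flat after inverting
some `g ∉ P`. -/
theorem flat_of_fiberMap_flat_away [Algebra.FiniteType A B] [Algebra.FinitePresentation A C]
    (p : Ideal A) [p.IsPrime] (P : Ideal C) [P.IsPrime] (hP : P.under A = p) (g : C) (hg : g ∉ P)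
    (hflat : (fiberMap (B := B) (C := Localization.Away g) p).toRingHom.Flat)
    (h1 : Module.Flat A (LocalizedModule P.primeCompl C)) :
    Module.Flat B (LocalizedModule P.primeCompl C) := by
  let Cg := Localization.Away g
  have hdisj : Disjoint (Submonoid.powers g : Set C) (P : Set C) := by
    rw [Ideal.disjoint_powers_iff_notMem g (Ideal.IsPrime.isRadical ‹_›)]
    exact hg
  let Pg : Ideal Cg := P.map (algebraMap C Cg)
  haveI hPgprime : Pg.IsPrime :=
    IsLocalization.isPrime_of_isPrime_disjoint (Submonoid.powers g) Cg P ‹_› hdisj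
  have hcomap : Pg.comap (algebraMap C Cg) = P :=
    IsLocalization.under_map_of_isPrime_disjoint (Submonoid.powers g) Cg ‹_› hdisj
  have hPg : Pg.under A = p := by
    rw [← hP, Ideal.under, Ideal.under, IsScalarTower.algebraMap_eq A C Cg, ← Ideal.comap_comap,
      hcomap]
  haveI : Algebra.FinitePresentation C Cg := IsLocalization.Away.finitePresentation g
  haveI : Algebra.FinitePresentation A Cg := Algebra.FinitePresentation.trans A C Cg
  -- `(Cg)_{Pg}` is the localization of `C` at `P`
  haveI hloc : IsLocalization.AtPrime (Localization.AtPrime Pg) P := by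
    have := IsLocalization.isLocalization_isLocalization_atPrime_isLocalization
      (Submonoid.powers g) (Localization.AtPrime Pg) Pg
    have key : ∀ (P' : Ideal C) (hP' : P'.IsPrime) (_ : P' = P),
        @IsLocalization.AtPrime C _ (Localization.AtPrime Pg) _ _ P' hP' →
          IsLocalization.AtPrime (Localization.AtPrime Pg) P := by
      intro P' hP' h
      subst h
      exact id
    exact key _ _ hcomap this
  let e : LocalizedModule P.primeCompl C ≃ₗ[C] Localization.AtPrime Pg :=
    IsLocalizedModule.linearEquiv P.primeCompl (LocalizedModule.mkLinearMap P.primeCompl C)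
      (Algebra.linearMap C (Localization.AtPrime Pg))
  have h1g : Module.Flat A (LocalizedModule Pg.primeCompl Cg) :=
    Module.Flat.of_linearEquiv (e.restrictScalars A).symm
  have h2 : Module.Flat B (LocalizedModule Pg.primeCompl Cg) :=
    flat_of_fiberMap_flat (A := A) (B := B) (C := Cg) p Pg hPg hflat h1g
  exact Module.Flat.of_linearEquiv (e.restrictScalars B)

end Away




section AwayFiber

variable {A B : Type u} [CommRing A] [CommRing B] [Algebra A B]

theorem torsionFree_fiber_away (p : Ideal A) [p.IsPrime] (f g : B)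
    (htf : ∀ h : p.ResidueField[X], h ≠ 0 → ∀ x : p.Fiber B,
      aeval ((1 : p.ResidueField) ⊗ₜ[A] f) h * x = 0 →
        ∃ n : ℕ, ((1 : p.ResidueField) ⊗ₜ[A] g) ^ n * x = 0) :
    ∀ h : p.ResidueField[X], h ≠ 0 → ∀ y : p.Fiber (Localization.Away g),
      aeval ((1 : p.ResidueField) ⊗ₜ[A] (algebraMap B (Localization.Away g) f)) h * y = 0 →
        y = 0 := by
  intro h hh y hy
  let κ := p.ResidueField
  let C := Localization.Away g
  let ι : κ ⊗[A] B →ₐ[κ] κ ⊗[A] C :=
    Algebra.TensorProduct.map (AlgHom.id κ κ) (IsScalarTower.toAlgHom A B C)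
  letI : Algebra (κ ⊗[A] B) (κ ⊗[A] C) := ι.toRingHom.toAlgebra
  haveI : IsScalarTower κ (κ ⊗[A] B) (κ ⊗[A] C) :=
    IsScalarTower.of_algebraMap_eq fun x => (ι.commutes x).symm
  have hloc0 := IsLocalization.tensorProduct_tensorProduct_right A κ (Submonoid.powers g) C
    (by ext; simp [RingHom.algebraMap_toAlgebra, ι])
  have hloc : IsLocalization (Submonoid.powers ((1 : κ) ⊗ₜ[A] g)) (κ ⊗[A] C) := by
    simpa only [Submonoid.map_powers, Algebra.TensorProduct.includeRight_apply] using hloc0
  have hι : ∀ d, algebraMap (κ ⊗[A] B) (κ ⊗[A] C) d = ι d := fun d => rfl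
  obtain ⟨⟨d, s⟩, hds⟩ := IsLocalization.surj (Submonoid.powers ((1 : κ) ⊗ₜ[A] g)) y
  simp only at hds
  have hu : IsUnit (algebraMap (κ ⊗[A] B) (κ ⊗[A] C) s) :=
    IsLocalization.map_units (κ ⊗[A] C) s
  have haev : aeval ((1 : κ) ⊗ₜ[A] (algebraMap B C f)) h =
      ι (aeval ((1 : κ) ⊗ₜ[A] f) h) := by
    rw [← aeval_algHom_apply]
    congr 1
  have h1 : algebraMap (κ ⊗[A] B) (κ ⊗[A] C) (aeval ((1 : κ) ⊗ₜ[A] f) h * d) = 0 := by
    rw [map_mul, ← hds, hι, ← haev, ← mul_assoc, hy, zero_mul]
  obtain ⟨⟨_, m, rfl⟩, hm⟩ :=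
    (IsLocalization.map_eq_zero_iff (Submonoid.powers ((1 : κ) ⊗ₜ[A] g)) (κ ⊗[A] C) _).mp h1
  simp only at hm
  have h2 : aeval ((1 : κ) ⊗ₜ[A] f) h * (((1 : κ) ⊗ₜ[A] g) ^ m * d) = 0 := by
    rw [← hm]; ring
  obtain ⟨n, hn⟩ := htf h hh _ h2
  have h3 : algebraMap (κ ⊗[A] B) (κ ⊗[A] C) d = 0 := by
    rw [IsLocalization.map_eq_zero_iff (Submonoid.powers ((1 : κ) ⊗ₜ[A] g))]
    refine ⟨⟨_, n + m, rfl⟩, ?_⟩
    simp only
    rw [pow_add, mul_assoc]
    exact hn
  rw [h3] at hds
  exact (hu.mul_left_eq_zero).mp hds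

end AwayFiber

section R1

variable {A B : Type u} [CommRing A] [CommRing B] [Algebra A B] [Algebra.FinitePresentation A B]

theorem flat_localized_quotient_singleton_of_fiber
    (p : Ideal A) [p.IsPrime] (q : Ideal B) [q.IsPrime] (hq : q.under A = p)
    (h1 : Module.Flat A (LocalizedModule q.primeCompl B)) (f g : B) (hg : g ∉ q)
    (htf : ∀ h : p.ResidueField[X], h ≠ 0 → ∀ x : p.Fiber B,
      aeval ((1 : p.ResidueField) ⊗ₜ[A] f) h * x = 0 →
        ∃ n : ℕ, ((1 : p.ResidueField) ⊗ₜ[A] g) ^ n * x = 0) :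
    Module.Flat A (LocalizedModule q.primeCompl (B ⧸ Ideal.span {f})) := by
  letI : Algebra A[X] B := (Polynomial.aeval f : A[X] →ₐ[A] B).toRingHom.toAlgebra
  haveI : IsScalarTower A A[X] B := IsScalarTower.of_algebraMap_eq (fun a => by
    simp [RingHom.algebraMap_toAlgebra])
  have hX : algebraMap A[X] B X = f := by simp [RingHom.algebraMap_toAlgebra]
  have hX' : algebraMap A[X] (Localization.Away g) X = algebraMap B (Localization.Away g) f := by
    rw [IsScalarTower.algebraMap_apply A[X] B (Localization.Away g), hX]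
  have hflat := fiberMap_flat_of_torsionFree (A := A) (C := Localization.Away g) p
    (algebraMap B (Localization.Away g) f) hX' (torsionFree_fiber_away p f g htf)
  haveI := flat_of_fiberMap_flat_away (A := A) (B := A[X]) (C := B) p q hq g hg hflat h1
  exact flat_localized_quotient_span_singleton q f hX

end R1




section LocalGlobal

variable {A B : Type*} [CommRing A] [CommRing B] [Algebra A B]
  {M : Type*} [AddCommGroup M] [Module A M] [Module B M] [IsScalarTower A B M]

/-- relative local-global principle for flatness -/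
theorem flat_of_forall_localized_maximal
    (h : ∀ (q : Ideal B) [q.IsMaximal], Module.Flat A (LocalizedModule q.primeCompl M)) :
    Module.Flat A M := by
  rw [Module.Flat.iff_lTensor_injectiveₛ]
  intro P _ _ N
  rw [← AlgebraTensorModule.coe_lTensor (A := B)]
  refine injective_of_isLocalized_maximal
    (fun q _ => LocalizedModule q.primeCompl M ⊗[A] N)
    (fun q _ => AlgebraTensorModule.rTensor A N (LocalizedModule.mkLinearMap q.primeCompl M))
    (fun q _ => LocalizedModule q.primeCompl M ⊗[A] P)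
    (fun q _ => AlgebraTensorModule.rTensor A P (LocalizedModule.mkLinearMap q.primeCompl M))
    (AlgebraTensorModule.lTensor B M N.subtype) ?_
  intro q hq
  rw [IsLocalizedModule.map_lTensor]
  have := h q
  rw [Module.Flat.iff_lTensor_injectiveₛ] at this
  have h2 := this N
  rw [← AlgebraTensorModule.coe_lTensor (A := B)] at h2
  exact h2

end LocalGlobal




section QR

variable {R R' : Type u} [CommRing R] [CommRing R'] {r : ℕ}

lemma mono_map (φ : R →+* R') (f : Fin r → R) (d : Fin r →₀ ℕ) :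
    mono (fun i => φ (f i)) d = φ (mono f d) := by
  simp [mono, map_prod]

lemma ev_map (φ : R →+* R') (f : Fin r → R) (n : ℕ) (c : Idx r n → R) :
    ev (fun i => φ (f i)) n (fun d => φ (c d)) = φ (ev f n c) := by
  rw [ev_apply, ev_apply, map_sum]
  refine Finset.sum_congr rfl fun d _ => ?_
  rw [mono_map, map_mul]

lemma span_range_map (φ : R →+* R') (f : Fin r → R) :
    Ideal.span (Set.range fun i => φ (f i)) = (Ideal.span (Set.range f)).map φ := by
  rw [Ideal.map_span, ← Set.range_comp]
  rfl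

theorem isQuasiRegular_ringEquiv (e : R ≃+* R') (f : Fin r → R) (hf : CAlgX.IsQuasiRegular f) :
    CAlgX.IsQuasiRegular (fun i => e (f i)) := by
  rw [qr_iff] at hf ⊢
  intro n c' hc' d
  have hspan := span_range_map (e : R →+* R') f
  have hspan' : Ideal.span (Set.range fun i => e (f i)) =
      (Ideal.span (Set.range f)).map (e : R →+* R') := hspan
  rw [hspan'] at hc' ⊢
  have h1 : ev f n (fun d => e.symm (c' d)) ∈ Ideal.span (Set.range f) ^ (n + 1) := by
    have h2 : (e : R →+* R') (ev f n (fun d => e.symm (c' d))) =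
        ev (fun i => e (f i)) n c' := by
      rw [← ev_map]
      congr 1
      ext d
      simp
    rw [← Ideal.map_pow] at hc'
    obtain ⟨x, hx, hxe⟩ := (Ideal.mem_map_of_equiv e _).mp hc'
    have : x = ev f n (fun d => e.symm (c' d)) := by
      apply e.injective
      rw [hxe]
      exact h2.symm
    rw [← this]
    exact hx
  have h3 := hf n _ h1 d
  have : c' d = (e : R →+* R') (e.symm (c' d)) := by simp
  rw [this]
  exact Ideal.mem_map_of_mem _ h3

theorem isQuasiRegular_localization (S : Submonoid R) [Algebra R R'] [IsLocalization S R']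
    (f : Fin r → R) (hf : CAlgX.IsQuasiRegular f) :
    CAlgX.IsQuasiRegular (fun i => algebraMap R R' (f i)) := by
  rw [qr_iff] at hf ⊢
  intro n c' hc' d
  rw [span_range_map (algebraMap R R') f] at hc' ⊢
  obtain ⟨b, hb⟩ := IsLocalization.exist_integer_multiples_of_finite S c'
  choose c hc using hb
  -- `algebraMap (c i) = b • c' i`
  have h1 : algebraMap R R' (ev f n c) = algebraMap R R' b * ev (fun i => algebraMap R R' (f i)) n c' := by
    rw [← ev_map, ev_apply, ev_apply, Finset.mul_sum]
    refine Finset.sum_congr rfl fun d _ => ?_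
    rw [hc d, Algebra.smul_def, mul_assoc]
  have h2 : algebraMap R R' (ev f n c) ∈
      (Ideal.span (Set.range f) ^ (n + 1)).map (algebraMap R R') := by
    rw [h1, Ideal.map_pow]
    exact Ideal.mul_mem_left _ _ hc'
  rw [IsLocalization.algebraMap_mem_map_algebraMap_iff S] at h2
  obtain ⟨m, hm, h3⟩ := h2
  have h4 : ev f n (fun d => m * c d) ∈ Ideal.span (Set.range f) ^ (n + 1) := by
    have : ev f n (fun d => m * c d) = m * ev f n c := by
      rw [ev_apply, ev_apply, Finset.mul_sum]
      refine Finset.sum_congr rfl fun d _ => ?_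
      ring
    rw [this]
    exact h3
  have h5 := hf n _ h4 d
  have h6 : algebraMap R R' (m * c d) ∈ (Ideal.span (Set.range f)).map (algebraMap R R') :=
    Ideal.mem_map_of_mem _ h5
  rw [map_mul, hc d, Algebra.smul_def, ← mul_assoc] at h6
  have hu : IsUnit (algebraMap R R' m * algebraMap R R' (b : R)) :=
    (IsLocalization.map_units R' ⟨m, hm⟩).mul (IsLocalization.map_units R' b)
  exact (Ideal.unit_mul_mem_iff_mem _ hu).mp h6

end QR



section WR

variable {D : Type u} [CommRing D]

theorem regular_at_of_isWeaklyRegular (Q : Ideal D) [Q.IsPrime] {r : ℕ} (t : Fin r → D)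
    (hw : RingTheory.Sequence.IsWeaklyRegular (Localization.AtPrime Q)
      (List.ofFn fun i => algebraMap D (Localization.AtPrime Q) (t i))) :
    ∀ (i : Fin r) (d : D), t i * d ∈ Ideal.span (t '' {j | j < i}) →
      ∃ s ∉ Q, s * d ∈ Ideal.span (t '' {j | j < i}) := by
  intro i d hd
  set L := Localization.AtPrime Q
  set rs := List.ofFn fun i => algebraMap D L (t i) with hrs
  have hlen : rs.length = r := by simp [hrs]
  have hi : (i : ℕ) < rs.length := by rw [hlen]; exact i.2
  have hreg := hw.regular_mod_prev i hi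
  have hget : rs[(i : ℕ)] = algebraMap D L (t i) := by
    simp [hrs]
  have hI : Ideal.ofList (rs.take i) = (Ideal.span (t '' {j | j < i})).map (algebraMap D L) := by
    rw [Ideal.map_span, Ideal.ofList]
    congr 1
    ext x
    simp only [Set.mem_ofPred_eq, Set.mem_image]
    constructor
    · intro hx
      rw [List.mem_take_iff_getElem] at hx
      obtain ⟨k, hk, rfl⟩ := hx
      have hk' : k < r := by
        have := lt_min_iff.mp hk
        omega
      refine ⟨t ⟨k, hk'⟩, ⟨⟨k, hk'⟩, ?_, rfl⟩, ?_⟩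
      · rw [Fin.lt_def]
        exact (lt_min_iff.mp hk).1
      · simp [hrs]
    · rintro ⟨_, ⟨j, hj, rfl⟩, rfl⟩
      rw [List.mem_take_iff_getElem]
      refine ⟨j, ?_, ?_⟩
      · rw [lt_min_iff]
        exact ⟨hj, by rw [hlen]; exact j.2⟩
      · simp [hrs]
  have hsub : (Ideal.ofList (rs.take i) • (⊤ : Submodule L L)) = Ideal.ofList (rs.take i) := by
    rw [smul_eq_mul, Ideal.mul_top]
  have hmem : algebraMap D L d ∈ (Ideal.span (t '' {j | j < i})).map (algebraMap D L) := by
    rw [← hI, ← hsub]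
    rw [← Submodule.Quotient.mk_eq_zero]
    apply hreg
    simp only [smul_zero]
    rw [← Submodule.Quotient.mk_smul, Submodule.Quotient.mk_eq_zero, hsub, hI, hget, smul_eq_mul,
      ← map_mul]
    exact Ideal.mem_map_of_mem _ hd
  rw [IsLocalization.algebraMap_mem_map_algebraMap_iff Q.primeCompl] at hmem
  obtain ⟨m, hm, h3⟩ := hmem
  exact ⟨m, hm, h3⟩

end WR



section T1

variable {B B₁ : Type*} [CommRing B] [CommRing B₁] [Algebra B B₁]
  {M₁ M : Type*} [AddCommGroup M₁] [Module B₁ M₁] [Module B M₁] [IsScalarTower B B₁ M₁]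
  [AddCommGroup M] [Module B M]

/-- change of ring for localizations at a prime, along a surjection -/
noncomputable def localizedEquivOfSurjective (hs : Function.Surjective (algebraMap B B₁))
    (q : Ideal B) [q.IsPrime] (q₁ : Ideal B₁) [q₁.IsPrime] (hq : q₁.comap (algebraMap B B₁) = q)
    (ε : M₁ ≃ₗ[B] M) :
    LocalizedModule q.primeCompl M ≃ₗ[B] LocalizedModule q₁.primeCompl M₁ := by
  haveI : q₁.LiesOver q := ⟨hq.symm⟩
  have hS : Algebra.algebraMapSubmonoid B₁ q.primeCompl = q₁.primeCompl :=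
    Ideal.algebraMapSubmonoid_primeCompl_of_liesOver_surjective (p := q) (P := q₁) hs
  haveI h0 : IsLocalizedModule (Algebra.algebraMapSubmonoid B₁ q.primeCompl)
      (LocalizedModule.mkLinearMap q₁.primeCompl M₁) := by
    rw [hS]; infer_instance
  haveI h1 : IsLocalizedModule q.primeCompl
      ((LocalizedModule.mkLinearMap q₁.primeCompl M₁).restrictScalars B) :=
    IsLocalizedModule.restrictScalars q.primeCompl _
  exact IsLocalizedModule.linearEquiv q.primeCompl (LocalizedModule.mkLinearMap q.primeCompl M)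
    (((LocalizedModule.mkLinearMap q₁.primeCompl M₁).restrictScalars B) ∘ₗ ε.symm.toLinearMap)

end T1




section QuotFiber

variable {A B : Type u} [CommRing A] [CommRing B] [Algebra A B] (p : Ideal A) [p.IsPrime]
  (I : Ideal B)

/-- the surjection of fibres induced by `B → B ⧸ I` -/
noncomputable def fiberQuot : p.Fiber B →ₐ[p.ResidueField] p.Fiber (B ⧸ I) :=
  Algebra.TensorProduct.map (AlgHom.id _ _) (Ideal.Quotient.mkₐ A I)

lemma fiberQuot_surjective : Function.Surjective (fiberQuot p I) :=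
  LinearMap.lTensor_surjective _ (Ideal.Quotient.mkₐ_surjective A I)

lemma fiberQuot_ker : RingHom.ker (fiberQuot p I) =
    I.map (Algebra.TensorProduct.includeRight : B →ₐ[A] p.Fiber B) := by
  have h := Algebra.TensorProduct.lTensor_ker (A := p.ResidueField) (Ideal.Quotient.mkₐ A I)
    (Ideal.Quotient.mkₐ_surjective A I)
  have hker : RingHom.ker (Ideal.Quotient.mkₐ A I) = I := by
    ext x
    rw [RingHom.mem_ker]
    exact Ideal.Quotient.eq_zero_iff_mem
  rw [hker] at h
  rw [← h]
  ext x
  rw [RingHom.mem_ker, RingHom.mem_ker]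
  rfl

@[simp] lemma fiberQuot_tmul (k : p.ResidueField) (b : B) :
    fiberQuot p I (k ⊗ₜ b) = k ⊗ₜ (Ideal.Quotient.mk I b) := by
  simp [fiberQuot]

variable {p}

lemma one_tmul_mem_iff (q : Ideal B) (Q : Ideal (p.Fiber B))
    (hQ : Q.comap (Algebra.TensorProduct.includeRight : B →ₐ[A] p.Fiber B) = q) (b : B) :
    (1 : p.ResidueField) ⊗ₜ[A] b ∈ Q ↔ b ∈ q := by
  rw [← hQ]
  rfl

lemma ker_fiberQuot_le (q : Ideal B) (Q : Ideal (p.Fiber B))
    (hQ : Q.comap (Algebra.TensorProduct.includeRight : B →ₐ[A] p.Fiber B) = q)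
    (hI : I ≤ q) : RingHom.ker (fiberQuot p I) ≤ Q := by
  rw [fiberQuot_ker, Ideal.map_le_iff_le_comap]
  intro x hx
  have : x ∈ q := hI hx
  rw [← hQ] at this
  exact this

lemma mem_of_fiberQuot_mem_map (q : Ideal B) (Q : Ideal (p.Fiber B))
    (hQ : Q.comap (Algebra.TensorProduct.includeRight : B →ₐ[A] p.Fiber B) = q)
    (hI : I ≤ q) (s : p.Fiber B) (hs : fiberQuot p I s ∈ Q.map (fiberQuot p I)) : s ∈ Q := by
  have h1 : s ∈ (Q.map (fiberQuot p I)).comap (fiberQuot p I) := hs
  rw [Ideal.comap_map_of_surjective _ (fiberQuot_surjective p I)] at h1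
  have h2 : Ideal.comap (fiberQuot p I) ⊥ ≤ Q := ker_fiberQuot_le I q Q hQ hI
  exact (sup_le le_rfl h2) h1

lemma map_fiberQuot_isPrime (q : Ideal B) (Q : Ideal (p.Fiber B)) [Q.IsPrime]
    (hQ : Q.comap (Algebra.TensorProduct.includeRight : B →ₐ[A] p.Fiber B) = q)
    (hI : I ≤ q) : (Q.map (fiberQuot p I)).IsPrime :=
  Ideal.map_isPrime_of_surjective (fiberQuot_surjective p I) (ker_fiberQuot_le I q Q hQ hI)

lemma comap_map_fiberQuot (q : Ideal B) (Q : Ideal (p.Fiber B))
    (hQ : Q.comap (Algebra.TensorProduct.includeRight : B →ₐ[A] p.Fiber B) = q)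
    (hI : I ≤ q) :
    (Q.map (fiberQuot p I)).comap
      (Algebra.TensorProduct.includeRight : (B ⧸ I) →ₐ[A] p.Fiber (B ⧸ I)) =
      q.map (Ideal.Quotient.mk I) := by
  ext x
  obtain ⟨x, rfl⟩ := Ideal.Quotient.mk_surjective x
  rw [Ideal.mem_comap]
  have h1 : (Algebra.TensorProduct.includeRight : (B ⧸ I) →ₐ[A] p.Fiber (B ⧸ I))
      (Ideal.Quotient.mk I x) = fiberQuot p I ((1 : p.ResidueField) ⊗ₜ[A] x) := by
    simp
  rw [h1]
  constructor
  · intro h
    have := mem_of_fiberQuot_mem_map I q Q hQ hI _ h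
    rw [one_tmul_mem_iff q Q hQ] at this
    exact Ideal.mem_map_of_mem _ this
  · intro h
    have hx : x ∈ q := by
      have h2 : x ∈ (q.map (Ideal.Quotient.mk I)).comap (Ideal.Quotient.mk I) := h
      rw [Ideal.comap_map_of_surjective _ Ideal.Quotient.mk_surjective] at h2
      have h3 : Ideal.comap (Ideal.Quotient.mk I) ⊥ ≤ q := by
        intro y hy
        apply hI
        rw [Ideal.mem_comap, Ideal.mem_bot] at hy
        exact Ideal.Quotient.eq_zero_iff_mem.mp hy
      exact (sup_le le_rfl h3) h2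
    apply Ideal.mem_map_of_mem
    rw [one_tmul_mem_iff q Q hQ]
    exact hx

end QuotFiber



section Ind

/-- the hypothesis "regular at `Q`" -/
def RegAt {D : Type u} [CommRing D] (Q : Ideal D) {r : ℕ} (t : Fin r → D) : Prop :=
  ∀ (i : Fin r) (d : D), t i * d ∈ Ideal.span (t '' {j | j < i}) →
    ∃ s ∉ Q, s * d ∈ Ideal.span (t '' {j | j < i})

variable {A B : Type u} [CommRing A] [CommRing B] [Algebra A B]

/-- base case transfer -/
theorem flat_localized_quotient_bot (q : Ideal B) [q.IsPrime]
    (h1 : Module.Flat A (LocalizedModule q.primeCompl B)) (I : Ideal B) (hI : I = ⊥) :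
    Module.Flat A (LocalizedModule q.primeCompl (B ⧸ I)) := by
  subst hI
  let ε : (B ⧸ (⊥ : Ideal B)) ≃ₗ[B] B := Submodule.quotEquivOfEqBot _ rfl
  let e : LocalizedModule q.primeCompl (B ⧸ (⊥ : Ideal B)) ≃ₗ[B] LocalizedModule q.primeCompl B :=
    IsLocalizedModule.linearEquiv q.primeCompl
      (LocalizedModule.mkLinearMap q.primeCompl (B ⧸ (⊥ : Ideal B)))
      ((LocalizedModule.mkLinearMap q.primeCompl B) ∘ₗ ε.toLinearMap)
  exact Module.Flat.of_linearEquiv (e.restrictScalars A)

end Ind

section Ind2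

lemma range_eq_insert_succ {α : Type*} {r : ℕ} (f : Fin (r + 1) → α) :
    Set.range f = insert (f 0) (Set.range fun i : Fin r => f i.succ) := by
  ext x
  simp only [Set.mem_range, Set.mem_insert_iff]
  constructor
  · rintro ⟨i, rfl⟩
    refine Fin.cases ?_ (fun j => ?_) i
    · left; rfl
    · right; exact ⟨j, rfl⟩
  · rintro (rfl | ⟨j, rfl⟩)
    · exact ⟨0, rfl⟩
    · exact ⟨j.succ, rfl⟩

theorem flat_localized_quotient_of_regAt : ∀ (r : ℕ) {A B : Type u} [CommRing A] [CommRing B]
    [Algebra A B] [Algebra.FinitePresentation A B] (p : Ideal A) [p.IsPrime] (q : Ideal B)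
    [q.IsPrime] (_hq : q.under A = p) (Q : Ideal (p.Fiber B)) [Q.IsPrime]
    (_hQ : Q.comap (Algebra.TensorProduct.includeRight : B →ₐ[A] p.Fiber B) = q)
    (f : Fin r → B) (_hf : ∀ i, f i ∈ q)
    (_h1 : Module.Flat A (LocalizedModule q.primeCompl B))
    (_hreg : RegAt Q (fun i => (1 : p.ResidueField) ⊗ₜ[A] f i)),
    Module.Flat A (LocalizedModule q.primeCompl (B ⧸ Ideal.span (Set.range f))) := by
  intro r
  induction r with
  | zero =>
    intro A B _ _ _ _ p _ q _ hq Q _ hQ f hf h1 hreg
    apply flat_localized_quotient_bot q h1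
    have : Set.range f = ∅ := Set.range_eq_empty f
    rw [this, Ideal.span_empty]
  | succ r ih =>
    intro A B _ _ _ _ p _ q _ hq Q _ hQ f hf h1 hreg
    set κ := p.ResidueField
    set t : Fin (r + 1) → p.Fiber B := fun i => (1 : κ) ⊗ₜ[A] f i with ht
    -- Step A
    haveI : IsNoetherianRing (κ ⊗[A] B) := Algebra.FiniteType.isNoetherianRing κ (κ ⊗[A] B)
    have ht0 : t 0 ∈ Q := (one_tmul_mem_iff q Q hQ (f 0)).mpr (hf 0)
    have hreg0 : ∀ d : p.Fiber B, t 0 * d = 0 → ∃ s ∉ Q, s * d = 0 := by
      intro d hd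
      have hempty : t '' {j | j < (0 : Fin (r + 1))} = ∅ := by
        rw [Set.image_eq_empty]
        ext j
        simp
      have := hreg 0 d (by rw [hd]; exact Ideal.zero_mem _)
      rw [hempty, Ideal.span_empty] at this
      obtain ⟨s, hs, hsd⟩ := this
      exact ⟨s, hs, by simpa using hsd⟩
    obtain ⟨s, hs, hkill⟩ := exists_kill_torsion (κ := κ) Q (t 0) ht0 hreg0
    obtain ⟨a, ha, g, hag⟩ := Ideal.Fiber.exists_smul_eq_one_tmul p s
    have hau : IsUnit (algebraMap A (p.Fiber B) a) := by
      rw [IsScalarTower.algebraMap_apply A κ (p.Fiber B)]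
      apply IsUnit.map
      rw [isUnit_iff_ne_zero, Ne, Ideal.algebraMap_residueField_eq_zero]
      exact ha
    have hg : g ∉ q := by
      intro hgq
      have h2 : (1 : κ) ⊗ₜ[A] g ∈ Q := (one_tmul_mem_iff q Q hQ g).mpr hgq
      rw [← hag, Algebra.smul_def, Ideal.unit_mul_mem_iff_mem _ hau] at h2
      exact hs h2
    have htf : ∀ h : κ[X], h ≠ 0 → ∀ x : p.Fiber B,
        aeval ((1 : κ) ⊗ₜ[A] f 0) h * x = 0 → ∃ n : ℕ, ((1 : κ) ⊗ₜ[A] g) ^ n * x = 0 := by
      intro h hh x hx
      refine ⟨1, ?_⟩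
      rw [pow_one, ← hag, smul_mul_assoc, hkill h hh x hx, smul_zero]
    have stepA := flat_localized_quotient_singleton_of_fiber p q hq h1 (f 0) g hg htf
    -- Step B
    set I : Ideal B := Ideal.span {f 0} with hIdef
    have hI : I ≤ q := by
      rw [hIdef, Ideal.span_le, Set.singleton_subset_iff]
      exact hf 0
    haveI : Algebra.FinitePresentation A (B ⧸ I) :=
      Algebra.FinitePresentation.quotient ⟨{f 0}, by simp [hIdef]⟩
    have hkermk : RingHom.ker (Ideal.Quotient.mk I) ≤ q := by rw [Ideal.mk_ker]; exact hI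
    haveI hq₁prime : (q.map (Ideal.Quotient.mk I)).IsPrime :=
      Ideal.map_isPrime_of_surjective Ideal.Quotient.mk_surjective hkermk
    have hq₁comap : (q.map (Ideal.Quotient.mk I)).comap (algebraMap B (B ⧸ I)) = q := by
      change (q.map (Ideal.Quotient.mk I)).comap (Ideal.Quotient.mk I) = q
      rw [Ideal.comap_map_of_surjective _ Ideal.Quotient.mk_surjective]
      apply le_antisymm
      · refine sup_le le_rfl ?_
        rw [← RingHom.ker_eq_comap_bot]
        exact hkermk
      · exact le_sup_left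
    have hq₁ : (q.map (Ideal.Quotient.mk I)).under A = p := by
      rw [← hq, Ideal.under, Ideal.under, IsScalarTower.algebraMap_eq A B (B ⧸ I),
        ← Ideal.comap_comap, hq₁comap]
    have h1₁ : Module.Flat A (LocalizedModule (q.map (Ideal.Quotient.mk I)).primeCompl (B ⧸ I)) := by
      let e := localizedEquivOfSurjective (B := B) (B₁ := B ⧸ I) (M₁ := B ⧸ I) (M := B ⧸ I)
        Ideal.Quotient.mk_surjective q (q.map (Ideal.Quotient.mk I)) hq₁comap
        (LinearEquiv.refl B (B ⧸ I))
      exact Module.Flat.of_linearEquiv (e.restrictScalars A).symm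
    set π := fiberQuot p I with hπ
    haveI hQ₁prime : (Q.map π).IsPrime := map_fiberQuot_isPrime I q Q hQ hI
    have hQ₁ := comap_map_fiberQuot I q Q hQ hI
    set f₁ : Fin r → B ⧸ I := fun i => Ideal.Quotient.mk I (f i.succ) with hf₁def
    have hf₁ : ∀ i, f₁ i ∈ q.map (Ideal.Quotient.mk I) := fun i => Ideal.mem_map_of_mem _ (hf _)
    have hπt : ∀ j, π (t j) = (1 : κ) ⊗ₜ[A] Ideal.Quotient.mk I (f j) := fun j => by
      simp [hπ, ht]
    have hπt0 : π (t 0) = 0 := by
      rw [hπt, Ideal.Quotient.eq_zero_iff_mem.mpr (Ideal.mem_span_singleton_self (f 0)), tmul_zero]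
    have hreg₁ : RegAt (Q.map π) (fun i => (1 : κ) ⊗ₜ[A] f₁ i) := by
      intro i x hx
      obtain ⟨d, rfl⟩ := fiberQuot_surjective p I x
      set T := Ideal.span (t '' {j | j < i.succ}) with hT
      have hTmap : T.map π =
          Ideal.span ((fun j => (1 : κ) ⊗ₜ[A] f₁ j) '' {j | j < i}) := by
        rw [hT, Ideal.map_span]
        apply le_antisymm
        · rw [Ideal.span_le]
          rintro _ ⟨_, ⟨j, hj, rfl⟩, rfl⟩
          refine Fin.cases ?_ (fun k hk => ?_) j hj
          · intro _
            rw [hπt0]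
            exact Ideal.zero_mem _
          · apply Ideal.subset_span
            refine ⟨k, ?_, ?_⟩
            · simpa using hk
            · exact (hπt k.succ).symm
        · rw [Ideal.span_le]
          rintro _ ⟨k, hk, rfl⟩
          apply Ideal.subset_span
          refine ⟨t k.succ, ⟨k.succ, ?_, rfl⟩, hπt k.succ⟩
          simpa using hk
      have hkerT : RingHom.ker π ≤ T := by
        rw [hπ, fiberQuot_ker, hIdef, Ideal.map_span, Ideal.span_le]
        rintro _ ⟨_, rfl, rfl⟩
        apply Ideal.subset_span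
        exact ⟨0, by simp, rfl⟩
      have h2 : t i.succ * d ∈ T := by
        have h3 : π (t i.succ * d) ∈ T.map π := by
          rw [hTmap, map_mul, hπt]
          exact hx
        have h4 : t i.succ * d ∈ (T.map π).comap π := h3
        rw [Ideal.comap_map_of_surjective _ (fiberQuot_surjective p I)] at h4
        have h5 : T ⊔ Ideal.comap π ⊥ ≤ T :=
          sup_le le_rfl (by rw [← RingHom.ker_eq_comap_bot]; exact hkerT)
        exact h5 h4
      obtain ⟨s', hs', hsd⟩ := hreg i.succ d h2
      refine ⟨π s', fun h => hs' (mem_of_fiberQuot_mem_map I q Q hQ hI s' h), ?_⟩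
      rw [← map_mul, ← hTmap]
      exact Ideal.mem_map_of_mem _ hsd
    -- Step C
    have stepC := ih p (q.map (Ideal.Quotient.mk I)) hq₁ (Q.map π) hQ₁ f₁ hf₁ h1₁ hreg₁
    -- Step D
    set J : Ideal B := Ideal.span (Set.range fun i : Fin r => f i.succ) with hJ
    have h₁ : Ideal.span (Set.range f₁) = J.map (Ideal.Quotient.mkₐ B I) := by
      rw [hJ, Ideal.map_span, ← Set.range_comp]
      rfl
    have h₂ : I ⊔ J = Ideal.span (Set.range f) := by
      rw [hIdef, hJ, ← Ideal.span_union, range_eq_insert_succ f, Set.singleton_union]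
    let ε : ((B ⧸ I) ⧸ Ideal.span (Set.range f₁)) ≃ₗ[B] (B ⧸ Ideal.span (Set.range f)) :=
      (((Ideal.quotientEquivAlgOfEq B h₁).trans (DoubleQuot.quotQuotEquivQuotSupₐ B I J)).trans
        (Ideal.quotientEquivAlgOfEq B h₂)).toLinearEquiv
    let e := localizedEquivOfSurjective (B := B) (B₁ := B ⧸ I)
      (M₁ := (B ⧸ I) ⧸ Ideal.span (Set.range f₁)) (M := B ⧸ Ideal.span (Set.range f))
      Ideal.Quotient.mk_surjective q (q.map (Ideal.Quotient.mk I)) hq₁comap ε
    exact Module.Flat.of_linearEquiv (e.restrictScalars A)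

end Ind2

section Nilp

variable {A' B' : Type u} [CommRing A'] [CommRing B'] [Algebra A' B']

theorem isQuasiRegular_fiber_of_nilpotent
    (I : Ideal A') (hI : ∀ x ∈ I, IsNilpotent x) (p : Ideal A') [p.IsPrime] {r : ℕ}
    (f' : Fin r → B')
    (hq : CAlgX.IsQuasiRegular
      (fun i => Ideal.Quotient.mk (Ideal.map (algebraMap A' B') I) (f' i)))
    (hflat : Module.Flat (A' ⧸ I)
      ((B' ⧸ Ideal.map (algebraMap A' B') I) ⧸
        Ideal.span (Set.range (fun i => Ideal.Quotient.mk (Ideal.map (algebraMap A' B') I) (f' i))))) :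
    CAlgX.IsQuasiRegular (fun i => ((1 : p.ResidueField) ⊗ₜ[A'] f' i : p.Fiber B')) := by
  have hIp : I ≤ p := by
    intro x hx
    obtain ⟨n, hn⟩ := hI x hx
    exact Ideal.IsPrime.mem_of_pow_mem ‹_› n (hn ▸ p.zero_mem)
  letI algĀκ : Algebra (A' ⧸ I) p.ResidueField :=
    (Ideal.Quotient.lift I (algebraMap A' p.ResidueField) (fun a ha => by
      rw [Ideal.algebraMap_residueField_eq_zero]; exact hIp ha)).toAlgebra
  haveI : IsScalarTower A' (A' ⧸ I) p.ResidueField :=
    IsScalarTower.of_algebraMap_eq (fun x => rfl)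
  have h := Groth.Agent.S9272.result (A' ⧸ I) (B' ⧸ I.map (algebraMap A' B')) p.ResidueField r _
    hflat hq
  let e₁ := Algebra.TensorProduct.quotIdealMapEquivQuotTensor B' I
  let Ψ₁ : p.ResidueField ⊗[A' ⧸ I] (B' ⧸ I.map (algebraMap A' B')) ≃ₐ[A' ⧸ I]
      p.ResidueField ⊗[A' ⧸ I] ((A' ⧸ I) ⊗[A'] B') :=
    Algebra.TensorProduct.congr AlgEquiv.refl e₁
  let Ψ₂ : p.ResidueField ⊗[A' ⧸ I] ((A' ⧸ I) ⊗[A'] B') ≃ₐ[A' ⧸ I] p.ResidueField ⊗[A'] B' :=
    Algebra.TensorProduct.cancelBaseChange A' (A' ⧸ I) (A' ⧸ I) p.ResidueField B'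
  have h2 := isQuasiRegular_ringEquiv (Ψ₁.trans Ψ₂).toRingEquiv _ h
  convert h2 using 2 with i
  simp [Ψ₁, Ψ₂, e₁]

end Nilp

section Main

/-- localizations of an `A`-flat `B`-module are `A`-flat -/
theorem flat_localizedModule_of_flat {A B : Type*} [CommRing A] [CommRing B] [Algebra A B]
    (T : Submonoid B) (N : Type*) [AddCommGroup N] [Module A N] [Module B N] [IsScalarTower A B N]
    [H : Module.Flat A N] : Module.Flat A (LocalizedModule T N) := by
  rw [Module.Flat.iff_lTensor_injectiveₛ] at H ⊢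
  intro P _ _ Q
  have h1 := H Q
  rw [← AlgebraTensorModule.coe_lTensor (A := B)] at h1 ⊢
  rw [← IsLocalizedModule.map_lTensor B T Q.subtype (LocalizedModule.mkLinearMap T N)]
  exact IsLocalizedModule.map_injective T _ _ _ h1

/-- a sequence which is quasi-regular in the fibre at `Q` is regular at `Q` -/
theorem regAt_of_isQuasiRegular {D : Type u} [CommRing D] [IsNoetherianRing D] (Q : Ideal D)
    [Q.IsPrime] {r : ℕ} (t : Fin r → D) (ht : ∀ i, t i ∈ Q) (hqr : CAlgX.IsQuasiRegular t) :
    RegAt Q t := by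
  apply regular_at_of_isWeaklyRegular Q t
  haveI : IsNoetherianRing (Localization.AtPrime Q) :=
    IsLocalization.isNoetherianRing Q.primeCompl _ inferInstance
  apply Groth.Agent.S5803.result (Localization.AtPrime Q) r _ _
    (isQuasiRegular_localization Q.primeCompl t hqr)
  intro i
  rw [← Ideal.jacobson_bot, IsLocalRing.jacobson_eq_maximalIdeal ⊥ bot_ne_top]
  exact (IsLocalization.AtPrime.to_map_mem_maximal_iff (Localization.AtPrime Q) Q (t i)).mpr (ht i)

variable {A' B' : Type u} [CommRing A'] [CommRing B'] [Algebra A' B']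

theorem flat_quotient_of_quasiRegular_mod_nilpotent [Module.Flat A' B']
    [Algebra.FinitePresentation A' B'] (I : Ideal A') (hI : ∀ x ∈ I, IsNilpotent x) (r : ℕ)
    (f' : Fin r → B')
    (hq : CAlgX.IsQuasiRegular
      (fun i => Ideal.Quotient.mk (Ideal.map (algebraMap A' B') I) (f' i)))
    (hflat : Module.Flat (A' ⧸ I)
      ((B' ⧸ Ideal.map (algebraMap A' B') I) ⧸
        Ideal.span (Set.range (fun i => Ideal.Quotient.mk (Ideal.map (algebraMap A' B') I) (f' i))))) :
    Module.Flat A' (B' ⧸ Ideal.span (Set.range f')) := by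
  apply flat_of_forall_localized_maximal (B := B')
  intro q hqmax
  haveI : q.IsPrime := hqmax.isPrime
  by_cases hJq : Ideal.span (Set.range f') ≤ q
  · have hf : ∀ i, f' i ∈ q := fun i => hJq (Ideal.subset_span ⟨i, rfl⟩)
    set p := q.under A' with hp
    obtain ⟨Q, hQprime, hQ⟩ : ∃ Q : Ideal (p.Fiber B'), ∃ _ : Q.IsPrime,
        Q.comap (Algebra.TensorProduct.includeRight : B' →ₐ[A'] p.Fiber B') = q := by
      let q' := PrimeSpectrum.primesOverOrderIsoFiber A' B' p ⟨q, ⟨inferInstance, ⟨rfl⟩⟩⟩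
      refine ⟨q'.asIdeal, q'.isPrime, ?_⟩
      have h := PrimeSpectrum.coe_primesOverOrderIsoFiber_symm_apply p q'
      rw [← h]
      simp [q']
    haveI : IsNoetherianRing (p.Fiber B') :=
      Algebra.FiniteType.isNoetherianRing p.ResidueField (p.ResidueField ⊗[A'] B')
    have hqrD := isQuasiRegular_fiber_of_nilpotent I hI p f' hq hflat
    have hreg : RegAt Q (fun i => (1 : p.ResidueField) ⊗ₜ[A'] f' i) :=
      regAt_of_isQuasiRegular Q _ (fun i => (one_tmul_mem_iff q Q hQ (f' i)).mpr (hf i)) hqrD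
    have h1 : Module.Flat A' (LocalizedModule q.primeCompl B') :=
      flat_localizedModule_of_flat q.primeCompl B'
    exact flat_localized_quotient_of_regAt r p q rfl Q hQ f' hf h1 hreg
  · -- the localization vanishes
    obtain ⟨s, hsJ, hsq⟩ := Set.not_subset.mp hJq
    haveI : Subsingleton (LocalizedModule q.primeCompl (B' ⧸ Ideal.span (Set.range f'))) := by
      refine ⟨fun x y => ?_⟩
      have hz : ∀ z : LocalizedModule q.primeCompl (B' ⧸ Ideal.span (Set.range f')), z = 0 := by
        intro z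
        induction z using LocalizedModule.induction_on with
        | h m t =>
          rw [← LocalizedModule.zero_mk t, LocalizedModule.mk_eq]
          refine ⟨⟨s, (show s ∈ q.primeCompl from hsq)⟩, ?_⟩
          have hkill : ∀ y : B' ⧸ Ideal.span (Set.range f'), s • y = 0 := by
            intro y
            rw [Algebra.smul_def]
            have : (algebraMap B' (B' ⧸ Ideal.span (Set.range f'))) s = 0 :=
              Ideal.Quotient.eq_zero_iff_mem.mpr hsJ
            rw [this, zero_mul]
          change s • (t • m) = s • (t • (0 : B' ⧸ Ideal.span (Set.range f')))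
          rw [hkill, hkill]
      rw [hz x, hz y]
    infer_instance

end Main

end Groth.Agent.R2.H42.FibReg
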