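import Mathlib

/-!
# Slicing a flat quasi-finite algebra over a polynomial ring by monic polynomials (helper6)

Ring-level core of S1349 (`FlatMor.slice_cohenMacaulay_to_quasiFinite`).

* `monic_slice_flat`, `monic_slice_nonZeroDivisor`, `monic_slice_quasiFinite`: cutting a flat /
  quasi-finite `R'[X]`-algebra by a monic polynomial.
* `isWeaklyRegular_cons_of_quotient`.
* `el`, `seq`, `slice_main`: induction over the number of variables.
* `flat_quotientMap_of_flat`, `exists_isolating`, `exists_slice_ring`.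
* `exists_ringHom_away_of_mul`, `exists_slice_ring'` (final form used by S1349).
-/

set_option autoImplicit false
universe u

open TensorProduct Polynomial

namespace Groth.Agent.R2.H6.CMSlice

open RingTheory.Sequence Pointwise

section Defs

variable {R C : Type u} [CommRing R] [CommRing C]

/-- The element `P_i(t_i)` of `C`, where `t_i = ψ (X i)`. -/
noncomputable def el {d : ℕ} (ψ : MvPolynomial (Fin d) R →+* C) (P : Fin d → R[X]) (i : Fin d) : C :=
  Polynomial.eval₂ (ψ.comp MvPolynomial.C) (ψ (MvPolynomial.X i)) (P i)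

/-- The sequence `P_0(t_0), …, P_{d-1}(t_{d-1})`. -/
noncomputable def seq {d : ℕ} (ψ : MvPolynomial (Fin d) R →+* C) (P : Fin d → R[X]) : List C :=
  List.ofFn (el ψ P)

theorem el_eq {d : ℕ} (ψ : MvPolynomial (Fin d) R →+* C) (P : Fin d → R[X]) (i : Fin d) :
    el ψ P i = ψ (Polynomial.eval₂ MvPolynomial.C (MvPolynomial.X i) (P i)) := by
  rw [el, Polynomial.hom_eval₂]

theorem map_el {d : ℕ} {C' : Type u} [CommRing C'] (ψ : MvPolynomial (Fin d) R →+* C)
    (P : Fin d → R[X]) (φ : C →+* C') (i : Fin d) :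
    φ (el ψ P i) = el (φ.comp ψ) P i := by
  rw [el, el, Polynomial.hom_eval₂]
  rfl

theorem map_seq {d : ℕ} {C' : Type u} [CommRing C'] (ψ : MvPolynomial (Fin d) R →+* C)
    (P : Fin d → R[X]) (φ : C →+* C') :
    (seq ψ P).map φ = seq (φ.comp ψ) P := by
  rw [seq, seq, List.map_ofFn]
  congr 1
  funext i
  exact map_el ψ P φ i

theorem finSuccEquiv_eval₂ (d : ℕ) (p : R[X]) :
    MvPolynomial.finSuccEquiv R d (Polynomial.eval₂ MvPolynomial.C (MvPolynomial.X 0) p) =
      p.map MvPolynomial.C := by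
  have h := Polynomial.hom_eval₂ p (MvPolynomial.C : R →+* MvPolynomial (Fin (d + 1)) R)
    ((MvPolynomial.finSuccEquiv R d).toAlgHom.toRingHom) (MvPolynomial.X 0)
  have h' : MvPolynomial.finSuccEquiv R d
      (Polynomial.eval₂ MvPolynomial.C (MvPolynomial.X 0) p) = _ := h
  rw [h']
  have h0 : (MvPolynomial.finSuccEquiv R d).toAlgHom.toRingHom (MvPolynomial.X 0) =
      Polynomial.X := MvPolynomial.finSuccEquiv_X_zero
  rw [h0, Polynomial.map]
  congr 1
  refine RingHom.ext fun r => ?_
  exact (MvPolynomial.finSuccEquiv R d).commutes r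

end Defs



section MonicSlice

variable {R' C : Type u} [CommRing R'] [CommRing C]

/-- Cutting a flat `R'[X]`-algebra by a monic polynomial gives a flat `R'`-algebra. -/
theorem monic_slice_flat (θ : R'[X] →+* C) (hfl : θ.Flat) (P : R'[X]) (hP : P.Monic)
    (J : Ideal C) (hJ : J = Ideal.span {θ P}) :
    ((Ideal.Quotient.mk J).comp (θ.comp Polynomial.C)).Flat := by
  subst hJ
  let _ : Algebra R'[X] C := θ.toAlgebra
  have hfl' : Module.Flat R'[X] C := hfl
  let I : Ideal R'[X] := Ideal.span {P}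
  have hmap : I.map (algebraMap R'[X] C) = Ideal.span {θ P} := by
    rw [Ideal.map_span, Set.image_singleton]
    rfl
  rw [← hmap]
  -- flat over the quotient `R'[X]/(P)`
  have h1 : Module.Flat (R'[X] ⧸ I) (C ⧸ I.map (algebraMap R'[X] C)) :=
    Module.Flat.of_linearEquiv
      (Algebra.TensorProduct.quotIdealMapEquivQuotTensor C I).toLinearEquiv
  have h2 : Module.Free R' (R'[X] ⧸ I) := hP.free_quotient
  have h3 : Module.Flat R' (R'[X] ⧸ I) := inferInstance
  have hA : (algebraMap (R'[X] ⧸ I) (C ⧸ I.map (algebraMap R'[X] C))).Flat :=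
    RingHom.flat_algebraMap_iff.mpr h1
  have hB : (algebraMap R' (R'[X] ⧸ I)).Flat := RingHom.flat_algebraMap_iff.mpr h3
  have := RingHom.Flat.comp hB hA
  convert this using 1
  ext r
  simp [RingHom.algebraMap_toAlgebra]
  rfl

end MonicSlice



section MonicSlice2

variable {R' C : Type u} [CommRing R'] [CommRing C]

theorem monic_slice_nonZeroDivisor (θ : R'[X] →+* C) (hfl : θ.Flat) (P : R'[X]) (hP : P.Monic) :
    θ P ∈ nonZeroDivisors C := by
  let _ : Algebra R'[X] C := θ.toAlgebra
  have hfl' : Module.Flat R'[X] C := hfl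
  have hreg : IsSMulRegular C P :=
    Module.Flat.isSMulRegular_of_nonZeroDivisors hP.mem_nonZeroDivisors
  rw [mem_nonZeroDivisors_iff_right]
  intro c hc
  apply hreg
  show P • c = P • 0
  rw [smul_zero, Algebra.smul_def, mul_comm]
  exact hc

theorem monic_slice_quasiFinite (θ : R'[X] →+* C) (hqf : θ.QuasiFinite) (P : R'[X]) (hP : P.Monic)
    (J : Ideal C) (hJ : θ P ∈ J) :
    ((Ideal.Quotient.mk J).comp (θ.comp Polynomial.C)).QuasiFinite := by
  let I : Ideal R'[X] := Ideal.span {P}
  have hIJ : I ≤ J.comap θ := by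
    rw [Ideal.span_le, Set.singleton_subset_iff]
    exact hJ
  -- factor through `R'[X]/(P)`
  have hfac : (Ideal.Quotient.mk J).comp (θ.comp Polynomial.C) =
      (Ideal.quotientMap J θ hIJ).comp ((Ideal.Quotient.mk I).comp Polynomial.C) := by
    ext r
    simp
  rw [hfac]
  refine RingHom.QuasiFinite.comp ?_ ?_
  · -- `R'[X]/(P) → C/J` is quasi-finite
    have h1 : ((Ideal.Quotient.mk J).comp θ).QuasiFinite :=
      RingHom.QuasiFinite.comp
        (RingHom.QuasiFinite.of_finite (RingHom.Finite.of_surjective _ Ideal.Quotient.mk_surjective))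
        hqf
    have h2 : (Ideal.quotientMap J θ hIJ).comp (Ideal.Quotient.mk I) =
        (Ideal.Quotient.mk J).comp θ := by
      ext x <;> simp
    rw [← h2] at h1
    exact RingHom.QuasiFinite.of_comp h1
  · -- `R' → R'[X]/(P)` is finite
    apply RingHom.QuasiFinite.of_finite
    have : Module.Finite R' (R'[X] ⧸ I) := hP.finite_quotient
    exact RingHom.finite_algebraMap.mpr this

end MonicSlice2




section Cons

variable {C : Type u} [CommRing C]

/-- Weak regularity of `r :: rs` on a ring from regularity of `r` and weak regularity of the image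
of `rs` in the quotient ring. -/
theorem isWeaklyRegular_cons_of_quotient (r : C) (rs : List C) (hr : r ∈ nonZeroDivisors C)
    (h : IsWeaklyRegular (C ⧸ Ideal.span {r}) (rs.map (Ideal.Quotient.mk (Ideal.span {r})))) :
    IsWeaklyRegular C (r :: rs) := by
  rw [isWeaklyRegular_cons_iff]
  refine ⟨?_, ?_⟩
  · intro a b hab
    have : r * (a - b) = 0 := by
      have h' : r • a = r • b := hab
      simp only [smul_eq_mul] at h'
      rw [mul_sub, h', sub_self]
    have := (mem_nonZeroDivisors_iff_right.mp hr) (a - b) (by rw [mul_comm]; exact this)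
    exact sub_eq_zero.mp this
  · have h1 : IsWeaklyRegular (C ⧸ Ideal.span {r}) rs :=
      (isWeaklyRegular_map_algebraMap_iff (C ⧸ Ideal.span {r}) (C ⧸ Ideal.span {r}) rs).mp h
    have heq : (r • (⊤ : Submodule C C)) = (Ideal.span {r} : Ideal C) := by
      rw [← Submodule.ideal_span_singleton_smul, smul_eq_mul, Ideal.mul_top]
    let e : QuotSMulTop r C ≃ₗ[C] (C ⧸ Ideal.span {r}) := Submodule.quotEquivOfEq _ _ heq
    exact (e.isWeaklyRegular_congr rs).mpr h1

end Cons


section Main

variable {R : Type u} [CommRing R]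

theorem flat_mk_comp_of_eq_bot {C : Type u} [CommRing C] (ρ : R →+* C) (hρ : ρ.Flat)
    (J : Ideal C) (hJ : J = ⊥) : ((Ideal.Quotient.mk J).comp ρ).Flat := by
  subst hJ
  refine RingHom.Flat.comp hρ (RingHom.Flat.of_bijective ⟨?_, Ideal.Quotient.mk_surjective⟩)
  rw [injective_iff_map_eq_zero]
  intro a ha
  rwa [Ideal.Quotient.eq_zero_iff_mem, Ideal.mem_bot] at ha

theorem quasiFinite_mk_comp {C : Type u} [CommRing C] (ρ : R →+* C) (hρ : ρ.QuasiFinite)
    (J : Ideal C) : ((Ideal.Quotient.mk J).comp ρ).QuasiFinite :=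
  RingHom.QuasiFinite.comp
    (RingHom.QuasiFinite.of_finite (RingHom.Finite.of_surjective _ Ideal.Quotient.mk_surjective)) hρ

theorem transfer {C : Type u} [CommRing C] (ρ : R →+* C) (r : C) (J K : Ideal C)
    (hK : K = Ideal.span {r} ⊔ J)
    (Q : ∀ {A B : Type u} [CommRing A] [CommRing B], (A →+* B) → Prop)
    (hQ : RingHom.RespectsIso Q)
    (h : Q ((Ideal.Quotient.mk (J.map (Ideal.Quotient.mk (Ideal.span {r})))).comp
      ((Ideal.Quotient.mk (Ideal.span {r})).comp ρ))) :
    Q ((Ideal.Quotient.mk K).comp ρ) := by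
  subst hK
  have h1 := hQ.1 _ (DoubleQuot.quotQuotEquivQuotSup (Ideal.span {r}) J) h
  convert h1 using 1
  refine RingHom.ext fun x => ?_
  exact (DoubleQuot.quotQuotEquivQuotSup_quotQuotMk (Ideal.span {r}) J (ρ x)).symm

theorem slice_main (d : ℕ) : ∀ (C : Type u) [CommRing C] (ψ : MvPolynomial (Fin d) R →+* C)
    (_ : ψ.Flat) (_ : ψ.QuasiFinite) (P : Fin d → R[X]) (_ : ∀ i, (P i).Monic),
    IsWeaklyRegular C (seq ψ P) ∧ ∀ J : Ideal C, J = Ideal.ofList (seq ψ P) →
      ((Ideal.Quotient.mk J).comp (ψ.comp MvPolynomial.C)).Flat ∧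
      ((Ideal.Quotient.mk J).comp (ψ.comp MvPolynomial.C)).QuasiFinite := by
  induction d with
  | zero =>
    intro C _ ψ hfl hqf P hP
    have hseq : seq ψ P = [] := by simp [seq]
    have hC : Function.Bijective (MvPolynomial.C : R →+* MvPolynomial (Fin 0) R) :=
      ⟨MvPolynomial.C_injective _ _, MvPolynomial.C_surjective _⟩
    rw [hseq]
    refine ⟨IsWeaklyRegular.nil C C, fun J hJ => ⟨?_, ?_⟩⟩
    · refine flat_mk_comp_of_eq_bot _ ?_ J (by rw [hJ, Ideal.ofList_nil])
      exact RingHom.Flat.comp (RingHom.Flat.of_bijective hC) hfl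
    · refine quasiFinite_mk_comp _ ?_ J
      exact RingHom.QuasiFinite.comp hqf
        (RingHom.QuasiFinite.of_finite (RingHom.Finite.of_surjective _ hC.2))
  | succ d ih =>
    intro C _ ψ hfl hqf P hP
    let e := MvPolynomial.finSuccEquiv R d
    let θ : (MvPolynomial (Fin d) R)[X] →+* C := ψ.comp e.symm.toAlgHom.toRingHom
    have hθfl : θ.Flat := RingHom.Flat.comp (RingHom.Flat.of_bijective e.symm.bijective) hfl
    have hθqf : θ.QuasiFinite := RingHom.QuasiFinite.comp hqf
      (RingHom.QuasiFinite.of_finite (RingHom.Finite.of_surjective _ e.symm.surjective))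
    let P₀ : (MvPolynomial (Fin d) R)[X] := (P 0).map MvPolynomial.C
    have hP₀ : P₀.Monic := (hP 0).map _
    have hr₀ : θ P₀ = el ψ P 0 := by
      rw [el_eq]
      show ψ (e.symm P₀) = _
      congr 1
      rw [AlgEquiv.symm_apply_eq]
      exact (finSuccEquiv_eval₂ d (P 0)).symm
    set r₀ : C := el ψ P 0 with hr₀def
    let P' : Fin d → R[X] := fun i => P i.succ
    let ψ₁ : MvPolynomial (Fin d) R →+* C ⧸ Ideal.span {r₀} :=
      (Ideal.Quotient.mk (Ideal.span {r₀})).comp (θ.comp Polynomial.C)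
    have hψ₁fl : ψ₁.Flat := monic_slice_flat θ hθfl P₀ hP₀ _ (by rw [hr₀])
    have hψ₁qf : ψ₁.QuasiFinite := monic_slice_quasiFinite θ hθqf P₀ hP₀ _
      (by rw [hr₀]; exact Ideal.subset_span rfl)
    have hr₀nzd : r₀ ∈ nonZeroDivisors C := by
      rw [← hr₀]; exact monic_slice_nonZeroDivisor θ hθfl P₀ hP₀
    obtain ⟨ih1, ih2⟩ := ih (C ⧸ Ideal.span {r₀}) ψ₁ hψ₁fl hψ₁qf P' (fun i => hP i.succ)
    -- compatibility of the structure maps
    have hcomp : ψ₁.comp MvPolynomial.C =
        (Ideal.Quotient.mk (Ideal.span {r₀})).comp (ψ.comp MvPolynomial.C) := by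
      refine RingHom.ext fun r => ?_
      show Ideal.Quotient.mk _ (ψ (e.symm (Polynomial.C (MvPolynomial.C r)))) =
        Ideal.Quotient.mk _ (ψ (MvPolynomial.C r))
      congr 2
      exact RingHom.congr_fun (MvPolynomial.finSuccEquiv_comp_C_eq_C d) r
    have hX : ∀ i : Fin d, ψ₁ (MvPolynomial.X i) =
        Ideal.Quotient.mk (Ideal.span {r₀}) (ψ (MvPolynomial.X i.succ)) := by
      intro i
      show Ideal.Quotient.mk _ (ψ (e.symm (Polynomial.C (MvPolynomial.X i)))) = _
      congr 2
      rw [AlgEquiv.symm_apply_eq]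
      exact MvPolynomial.finSuccEquiv_X_succ.symm
    have htail : seq ψ₁ P' =
        (List.ofFn (fun i : Fin d => el ψ P i.succ)).map (Ideal.Quotient.mk (Ideal.span {r₀})) := by
      rw [seq, List.map_ofFn]
      congr 1
      funext i
      show el ψ₁ P' i = Ideal.Quotient.mk _ (el ψ P i.succ)
      rw [el, el, Polynomial.hom_eval₂, hcomp, hX]
    have hseq : seq ψ P = r₀ :: List.ofFn (fun i : Fin d => el ψ P i.succ) := by
      rw [seq, List.ofFn_succ]
    refine ⟨?_, fun J hJ => ?_⟩
    · rw [hseq]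
      refine isWeaklyRegular_cons_of_quotient r₀ _ hr₀nzd ?_
      rw [← htail]
      exact ih1
    · have hK : J = Ideal.span {r₀} ⊔ Ideal.ofList (List.ofFn (fun i : Fin d => el ψ P i.succ)) := by
        rw [hJ, hseq, Ideal.ofList_cons]
      have hJ' : (Ideal.ofList (List.ofFn (fun i : Fin d => el ψ P i.succ))).map
          (Ideal.Quotient.mk (Ideal.span {r₀})) = Ideal.ofList (seq ψ₁ P') := by
        rw [htail, Ideal.map_ofList]
      obtain ⟨ihfl, ihqf⟩ := ih2 _ hJ'
      rw [hcomp] at ihfl ihqf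
      exact ⟨transfer _ r₀ _ J hK RingHom.Flat RingHom.Flat.respectsIso ihfl,
        transfer _ r₀ _ J hK RingHom.QuasiFinite RingHom.QuasiFinite.respectsIso ihqf⟩

end Main
section Isolate

variable {R C : Type u} [CommRing R] [CommRing C]

/-- The quotient map `C/I → C'/IC'` induced by a flat ring map is flat. -/
theorem flat_quotientMap_of_flat {C' : Type u} [CommRing C'] [Algebra C C'] [Module.Flat C C']
    (I : Ideal C) (J' : Ideal C') (hJ' : J' = I.map (algebraMap C C'))
    (hle : I ≤ J'.comap (algebraMap C C')) :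
    (Ideal.quotientMap J' (algebraMap C C') hle).Flat := by
  subst hJ'
  have h1 : Module.Flat (C ⧸ I) (C' ⧸ I.map (algebraMap C C')) :=
    Module.Flat.of_linearEquiv
      (Algebra.TensorProduct.quotIdealMapEquivQuotTensor C' I).toLinearEquiv
  have hA : (algebraMap (C ⧸ I) (C' ⧸ I.map (algebraMap C C'))).Flat :=
    RingHom.flat_algebraMap_iff.mpr h1
  convert hA using 1
  refine Ideal.Quotient.ringHom_ext (RingHom.ext fun x => ?_)
  simp only [RingHom.comp_apply, Ideal.quotientMap_mk]
  rw [← Ideal.Quotient.algebraMap_eq, ← Ideal.Quotient.algebraMap_eq,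
    ← IsScalarTower.algebraMap_apply, ← IsScalarTower.algebraMap_apply]


/-- Isolating a point in the fibre of a quasi-finite quotient, and localising. -/
theorem exists_isolating (ρ : R →+* C) (hfp : ρ.FinitePresentation) (rs : List C)
    (hreg : IsWeaklyRegular C rs)
    (hfl : ((Ideal.Quotient.mk (Ideal.ofList rs)).comp ρ).Flat)
    (hqf : ((Ideal.Quotient.mk (Ideal.ofList rs)).comp ρ).QuasiFinite)
    (q : Ideal C) [q.IsPrime] (hq : Ideal.ofList rs ≤ q) :
    ∃ h : C, h ∉ q ∧ ∀ (C' : Type u) [CommRing C'] [Algebra C C'] [IsLocalization.Away h C'],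
      IsRegular C' (rs.map (algebraMap C C')) ∧
      ∀ J' : Ideal C', J' = Ideal.ofList (rs.map (algebraMap C C')) →
        ((Ideal.Quotient.mk J').comp ((algebraMap C C').comp ρ)).Flat ∧
        ((Ideal.Quotient.mk J').comp ((algebraMap C C').comp ρ)).FinitePresentation ∧
        ((Ideal.Quotient.mk J').comp ((algebraMap C C').comp ρ)).QuasiFinite ∧
        ∀ Q : Ideal C', Q.IsPrime → J' ≤ Q →
          Q.comap ((algebraMap C C').comp ρ) = q.comap ρ → Q.comap (algebraMap C C') = q := by
  set I : Ideal C := Ideal.ofList rs with hI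
  let φ₀ : R →+* C ⧸ I := (Ideal.Quotient.mk I).comp ρ
  let _ : Algebra R (C ⧸ I) := φ₀.toAlgebra
  have hQF : Algebra.QuasiFinite R (C ⧸ I) := hqf
  have hFT : Algebra.FiniteType R (C ⧸ I) := by
    have h1 : φ₀.FiniteType :=
      (RingHom.FiniteType.of_surjective _ Ideal.Quotient.mk_surjective).comp (RingHom.FiniteType.of_finitePresentation hfp)
    exact h1
  -- the prime of the quotient
  let qb : Ideal (C ⧸ I) := q.map (Ideal.Quotient.mk I)
  have hqbprime : qb.IsPrime :=
    Ideal.map_isPrime_of_surjective Ideal.Quotient.mk_surjective (by rwa [Ideal.mk_ker])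
  have hmem : ∀ (q₁ : Ideal C), I ≤ q₁ → ∀ x : C,
      Ideal.Quotient.mk I x ∈ q₁.map (Ideal.Quotient.mk I) ↔ x ∈ q₁ :=
    fun q₁ h1 x => Ideal.mem_quotient_iff_mem h1
  let p : Ideal R := q.comap ρ
  have hpprime : p.IsPrime := Ideal.comap_isPrime ρ q
  have hover : ∀ (q₁ : Ideal C), I ≤ q₁ → q₁.comap ρ = p →
      (q₁.map (Ideal.Quotient.mk I)).LiesOver p := by
    intro q₁ h1 h2
    refine ⟨?_⟩
    ext r
    show r ∈ p ↔ Ideal.Quotient.mk I (ρ r) ∈ q₁.map (Ideal.Quotient.mk I)
    rw [← h2, Ideal.mem_comap]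
    exact (hmem q₁ h1 (ρ r)).symm
  have hqbover : qb.LiesOver p := hover q hq rfl
  obtain ⟨sb, hsbq, hsb⟩ := Ideal.exists_not_mem_forall_mem_of_ne_of_liesOver p qb
  obtain ⟨h, rfl⟩ := Ideal.Quotient.mk_surjective sb
  have hhq : h ∉ q := fun hh => hsbq ((hmem q hq h).mpr hh)
  refine ⟨h, hhq, ?_⟩
  intro C' _ _ _
  set ι : C →+* C' := algebraMap C C' with hι
  have hflat : Module.Flat C C' := IsLocalization.flat C' (Submonoid.powers h)
  have hdisj : Disjoint (Submonoid.powers h : Set C) (q : Set C) := by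
    rw [Set.disjoint_left]
    rintro x ⟨n, rfl⟩ hx
    exact hhq (Ideal.IsPrime.mem_of_pow_mem inferInstance n hx)
  have hqmapprime : (q.map ι).IsPrime :=
    IsLocalization.isPrime_of_isPrime_disjoint (Submonoid.powers h) C' q inferInstance hdisj
  have hJle : Ideal.ofList (rs.map ι) ≤ q.map ι := by
    rw [← Ideal.map_ofList]
    exact Ideal.map_mono hq
  refine ⟨⟨hreg.of_flat, ?_⟩, ?_⟩
  · intro htop
    apply hqmapprime.ne_top
    rw [eq_top_iff]
    refine le_trans ?_ hJle
    have : Ideal.ofList (rs.map ι) • (⊤ : Submodule C' C') = Ideal.ofList (rs.map ι) := by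
      rw [smul_eq_mul, Ideal.mul_top]
    rw [← this, ← htop]
  · intro J' hJ'
    have hJ'map : J' = I.map ι := by rw [hJ', Ideal.map_ofList]
    have hle : I ≤ J'.comap ι := by
      rw [hJ'map]; exact Ideal.le_comap_map
    have hfac : (Ideal.Quotient.mk J').comp (ι.comp ρ) =
        (Ideal.quotientMap J' ι hle).comp φ₀ := by
      refine RingHom.ext fun r => ?_
      simp [φ₀]
    have hqm_fl : (Ideal.quotientMap J' ι hle).Flat :=
      flat_quotientMap_of_flat I J' hJ'map hle
    have hιqf : ι.QuasiFinite :=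
      RingHom.QuasiFinite.holdsForLocalizationAway C' h
    have hqm_qf : (Ideal.quotientMap J' ι hle).QuasiFinite := by
      have h1 : ((Ideal.Quotient.mk J').comp ι).QuasiFinite :=
        RingHom.QuasiFinite.comp (RingHom.QuasiFinite.of_finite
          (RingHom.Finite.of_surjective _ Ideal.Quotient.mk_surjective)) hιqf
      have h2 : (Ideal.quotientMap J' ι hle).comp (Ideal.Quotient.mk I) =
          (Ideal.Quotient.mk J').comp ι := by
        refine RingHom.ext fun x => ?_
        simp
      rw [← h2] at h1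
      exact RingHom.QuasiFinite.of_comp h1
    refine ⟨?_, ?_, ?_, ?_⟩
    · rw [hfac]
      exact RingHom.Flat.comp hfl hqm_fl
    · have hιfp : ι.FinitePresentation :=
        RingHom.finitePresentation_algebraMap.mpr (IsLocalization.Away.finitePresentation h)
      have hmkfp : (Ideal.Quotient.mk J').FinitePresentation := by
        refine RingHom.FinitePresentation.of_surjective _ Ideal.Quotient.mk_surjective ?_
        rw [Ideal.mk_ker, hJ']
        exact Submodule.fg_span (List.finite_toSet _)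
      exact hmkfp.comp (hιfp.comp hfp)
    · rw [hfac]
      exact RingHom.QuasiFinite.comp hqm_qf hqf
    · intro Q hQ hJQ hQp
      set q₁ : Ideal C := Q.comap ι with hq₁
      have hq₁prime : q₁.IsPrime := Ideal.comap_isPrime ι Q
      have hIq₁ : I ≤ q₁ := by
        rw [hq₁, ← Ideal.map_le_iff_le_comap, ← hJ'map]; exact hJQ
      have hq₁p : q₁.comap ρ = p := by
        rw [hq₁, Ideal.comap_comap]; exact hQp
      have hhq₁ : h ∉ q₁ := by
        intro hh
        rw [hq₁, Ideal.mem_comap] at hh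
        exact hQ.ne_top (Ideal.eq_top_of_isUnit_mem _ hh (IsLocalization.Away.algebraMap_isUnit h))
      by_contra hne
      have hne' : q₁.map (Ideal.Quotient.mk I) ≠ qb := by
        intro heq
        apply hne
        ext x
        rw [← hmem q₁ hIq₁ x, heq, hmem q hq x]
      have hprime₁ : (q₁.map (Ideal.Quotient.mk I)).IsPrime :=
        Ideal.map_isPrime_of_surjective Ideal.Quotient.mk_surjective (by rwa [Ideal.mk_ker])
      have := hsb _ hprime₁ hne' (hover q₁ hIq₁ hq₁p)
      exact hhq₁ ((hmem q₁ hIq₁ h).mp this)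

end Isolate


section Final

variable {R C : Type u} [CommRing R] [CommRing C]

/-- Ring-level slicing: a flat quasi-finite `R[T₁..T_d]`-algebra `C`, cut by monic polynomials
`P_i(T_i)` vanishing at a prime `q`, becomes (after localising away from some `h ∉ q`) a flat,
finitely presented, quasi-finite `R`-algebra, the cutting elements form a regular sequence, and `q`
is the only prime in its fibre. -/
theorem exists_slice_ring {d : ℕ} (ψ : MvPolynomial (Fin d) R →+* C) (hfl : ψ.Flat)
    (hqf : ψ.QuasiFinite) (hfp : (ψ.comp MvPolynomial.C).FinitePresentation)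
    (P : Fin d → R[X]) (hP : ∀ i, (P i).Monic) (q : Ideal C) [q.IsPrime]
    (hq : ∀ i, el ψ P i ∈ q) :
    ∃ h : C, h ∉ q ∧ ∀ (C' : Type u) [CommRing C'] [Algebra C C'] [IsLocalization.Away h C'],
      IsRegular C' ((seq ψ P).map (algebraMap C C')) ∧
      ∀ J' : Ideal C', J' = Ideal.ofList ((seq ψ P).map (algebraMap C C')) →
        ((Ideal.Quotient.mk J').comp
          ((algebraMap C C').comp (ψ.comp MvPolynomial.C))).Flat ∧
        ((Ideal.Quotient.mk J').comp
          ((algebraMap C C').comp (ψ.comp MvPolynomial.C))).FinitePresentation ∧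
        ((Ideal.Quotient.mk J').comp
          ((algebraMap C C').comp (ψ.comp MvPolynomial.C))).QuasiFinite ∧
        ∀ Q : Ideal C', Q.IsPrime → J' ≤ Q →
          Q.comap ((algebraMap C C').comp (ψ.comp MvPolynomial.C)) =
            q.comap (ψ.comp MvPolynomial.C) → Q.comap (algebraMap C C') = q := by
  obtain ⟨h1, h2⟩ := slice_main d C ψ hfl hqf P hP
  obtain ⟨h2fl, h2qf⟩ := h2 _ rfl
  refine exists_isolating (ψ.comp MvPolynomial.C) hfp (seq ψ P) h1 h2fl h2qf q ?_
  rw [Ideal.ofList, Ideal.span_le]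
  intro r hr
  obtain ⟨i, rfl⟩ := (List.mem_ofFn' _ _).mp hr
  exact hq i

end Final
section Tower

/-- If `C'` is the localization of `C` away from `g * h₀` and `C₁` is the localization of `C` away
from `g`, then `C'` is a localization of `C₁` away from the image of `h₀`. -/
theorem exists_ringHom_away_of_mul {C : Type u} [CommRing C] (g h₀ : C) (C₁ : Type u)
    [CommRing C₁] [Algebra C C₁] [IsLocalization.Away g C₁] (C' : Type u) [CommRing C']
    [Algebra C C'] [IsLocalization.Away (g * h₀) C'] :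
    ∃ φ : C₁ →+* C', φ.comp (algebraMap C C₁) = algebraMap C C' ∧
      @IsLocalization.Away C₁ _ (algebraMap C C₁ h₀) C' _ φ.toAlgebra := by
  let T := Localization.Away (algebraMap C C₁ h₀)
  have hT : IsLocalization.Away (g * h₀) T := inferInstance
  let e : C' ≃ₐ[C] T := IsLocalization.algEquiv (Submonoid.powers (g * h₀)) C' T
  let φ : C₁ →+* C' := (e.symm : T →+* C').comp (algebraMap C₁ T)
  refine ⟨φ, ?_, ?_⟩
  · refine RingHom.ext fun c => ?_
    show e.symm (algebraMap C₁ T (algebraMap C C₁ c)) = algebraMap C C' c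
    rw [← IsScalarTower.algebraMap_apply, AlgEquiv.commutes]
  · let _ : Algebra C₁ C' := φ.toAlgebra
    let e' : T ≃ₐ[C₁] C' := { e.symm.toRingEquiv with commutes' := fun _ => rfl }
    exact IsLocalization.isLocalization_of_algEquiv (Submonoid.powers (algebraMap C C₁ h₀)) e'

end Tower


section Final2

variable {R C : Type u} [CommRing R] [CommRing C]

attribute [local instance] MvPolynomial.algebraMvPolynomial

/-- Ring-level slicing, final form: the coordinates need only be "algebraic at `q`" in the sense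
that each element of `C` satisfies, modulo `q`, a polynomial over `R` whose leading coefficient is
not in the contraction of `q`. -/
theorem exists_slice_ring' {d : ℕ} (ψ : MvPolynomial (Fin d) R →+* C) (hfl : ψ.Flat)
    (hqf : ψ.QuasiFinite) (hfp : (ψ.comp MvPolynomial.C).FinitePresentation)
    (q : Ideal C) [q.IsPrime]
    (halg : ∀ c : C, ∃ P : R[X], P.leadingCoeff ∉ q.comap (ψ.comp MvPolynomial.C) ∧
      Polynomial.eval₂ (ψ.comp MvPolynomial.C) c P ∈ q) :
    ∃ h : C, h ∉ q ∧ ∀ (C' : Type u) [CommRing C'] [Algebra C C'] [IsLocalization.Away h C'],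
      ∃ rs : List C', IsRegular C' rs ∧
        ((Ideal.Quotient.mk (Ideal.ofList rs)).comp
          ((algebraMap C C').comp (ψ.comp MvPolynomial.C))).Flat ∧
        ((Ideal.Quotient.mk (Ideal.ofList rs)).comp
          ((algebraMap C C').comp (ψ.comp MvPolynomial.C))).FinitePresentation ∧
        ((Ideal.Quotient.mk (Ideal.ofList rs)).comp
          ((algebraMap C C').comp (ψ.comp MvPolynomial.C))).QuasiFinite ∧
        (∀ Q₀ : Ideal C', Q₀.IsPrime → Q₀.comap (algebraMap C C') = q → Ideal.ofList rs ≤ Q₀) ∧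
        ∀ Q : Ideal C', Q.IsPrime → Ideal.ofList rs ≤ Q →
          Q.comap ((algebraMap C C').comp (ψ.comp MvPolynomial.C)) =
            q.comap (ψ.comp MvPolynomial.C) → Q.comap (algebraMap C C') = q := by
  set ρ : R →+* C := ψ.comp MvPolynomial.C with hρ
  choose P hPlc hPq using fun i : Fin d => halg (ψ (MvPolynomial.X i))
  -- the common denominator
  let s : R := ∏ i, (P i).leadingCoeff
  have hsp : s ∉ q.comap ρ := by
    intro hs
    obtain ⟨i, -, hi⟩ := (Ideal.IsPrime.prod_mem_iff (hp := Ideal.comap_isPrime ρ q)).mp hs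
    exact hPlc i hi
  have hρs : ρ s ∉ q := hsp
  let R₁ := Localization.Away s
  let C₁ := Localization.Away (ψ (MvPolynomial.C s))
  let a : R →+* R₁ := algebraMap R R₁
  let ι : C →+* C₁ := algebraMap C C₁
  have hloc : IsLocalization.Away (MvPolynomial.C s : MvPolynomial (Fin d) R)
      (MvPolynomial (Fin d) R₁) := by
    have := MvPolynomial.isLocalization (σ := Fin d) (Submonoid.powers s) R₁
    rwa [Submonoid.map_powers] at this
  let ψ₁ : MvPolynomial (Fin d) R₁ →+* C₁ :=
    IsLocalization.Away.map (MvPolynomial (Fin d) R₁) C₁ ψ (MvPolynomial.C s)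
  have hψ₁fl : ψ₁.Flat :=
    RingHom.Flat.propertyIsLocal.localizationAwayPreserves ψ (MvPolynomial.C s)
      (MvPolynomial (Fin d) R₁) C₁ hfl
  have hψ₁qf : ψ₁.QuasiFinite :=
    RingHom.QuasiFinite.propertyIsLocal.localizationAwayPreserves ψ (MvPolynomial.C s)
      (MvPolynomial (Fin d) R₁) C₁ hqf
  have hψ₁ : ∀ x : MvPolynomial (Fin d) R, ψ₁ (MvPolynomial.map a x) = ι (ψ x) := by
    intro x
    exact IsLocalization.map_eq _ x
  have hψ₁C : (ψ₁.comp MvPolynomial.C).comp a = ι.comp ρ := by
    refine RingHom.ext fun r => ?_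
    have := hψ₁ (MvPolynomial.C r)
    rw [MvPolynomial.map_C] at this
    exact this
  have hψ₁X : ∀ i, ψ₁ (MvPolynomial.X i) = ι (ψ (MvPolynomial.X i)) := by
    intro i
    have := hψ₁ (MvPolynomial.X i)
    rwa [MvPolynomial.map_X] at this
  -- finite presentation of `R₁ → C₁`
  have haft : a.FiniteType := RingHom.FiniteType.of_finitePresentation
    (RingHom.finitePresentation_algebraMap.mpr (IsLocalization.Away.finitePresentation s))
  have hιfp : ι.FinitePresentation :=
    RingHom.finitePresentation_algebraMap.mpr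
      (IsLocalization.Away.finitePresentation (ψ (MvPolynomial.C s)))
  have hfp₁ : (ψ₁.comp MvPolynomial.C).FinitePresentation := by
    refine RingHom.FinitePresentation.of_comp_finiteType a ?_ haft
    rw [hψ₁C]
    exact hιfp.comp hfp
  -- the prime of `C₁`
  have hdisj : Disjoint (Submonoid.powers (ψ (MvPolynomial.C s)) : Set C) (q : Set C) := by
    rw [Set.disjoint_left]
    rintro x ⟨n, rfl⟩ hx
    exact hρs (Ideal.IsPrime.mem_of_pow_mem inferInstance n hx)
  have hq₁prime : (q.map ι).IsPrime :=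
    IsLocalization.isPrime_of_isPrime_disjoint (Submonoid.powers (ψ (MvPolynomial.C s))) C₁ q
      inferInstance hdisj
  have hq₁comap : (q.map ι).comap ι = q :=
    IsLocalization.under_map_of_isPrime_disjoint (Submonoid.powers (ψ (MvPolynomial.C s))) C₁
      inferInstance hdisj
  -- monic polynomials over `R₁`
  have hunit : ∀ i, IsUnit (a (P i).leadingCoeff) := by
    intro i
    exact IsLocalization.Away.isUnit_of_dvd s (Finset.dvd_prod_of_mem _ (Finset.mem_univ i))
  choose u hu using fun i => (hunit i).exists_left_inv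
  let P₁ : Fin d → R₁[X] := fun i => Polynomial.C (u i) * (P i).map a
  have hP₁ : ∀ i, (P₁ i).Monic := by
    intro i
    rcases subsingleton_or_nontrivial R₁ with hss | hnt
    · exact Subsingleton.elim _ _
    · refine Polynomial.monic_C_mul_of_mul_leadingCoeff_eq_one ?_
      rw [Polynomial.leadingCoeff_map_of_leadingCoeff_ne_zero a (hunit i).ne_zero]
      exact hu i
  have hel : ∀ i, el ψ₁ P₁ i ∈ q.map ι := by
    intro i
    have h1 : el ψ₁ P₁ i = ψ₁ (MvPolynomial.C (u i)) *
        ι (Polynomial.eval₂ ρ (ψ (MvPolynomial.X i)) (P i)) := by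
      rw [el, Polynomial.eval₂_mul, Polynomial.eval₂_C, Polynomial.eval₂_map, hψ₁C, hψ₁X,
        Polynomial.hom_eval₂]
      rfl
    rw [h1]
    exact Ideal.mul_mem_left _ _ (Ideal.mem_map_of_mem ι (hPq i))
  obtain ⟨h₁, hh₁, H⟩ := exists_slice_ring ψ₁ hψ₁fl hψ₁qf hfp₁ P₁ hP₁ (q.map ι) hel
  -- write `h₁` as a fraction
  obtain ⟨n, h₀, hh₀⟩ := IsLocalization.Away.surj (ψ (MvPolynomial.C s)) h₁
  have hunit₁ : IsUnit (ι (ψ (MvPolynomial.C s)) ^ n) :=
    IsLocalization.Away.algebraMap_pow_isUnit _ n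
  have hassoc : Associated (ι h₀) h₁ := by
    obtain ⟨v, hv⟩ := hunit₁
    refine Associated.symm ⟨v, ?_⟩
    rw [hv, hh₀]
  have hh₀q : h₀ ∉ q := by
    intro hh
    have h2 : h₁ * ι (ψ (MvPolynomial.C s)) ^ n ∈ q.map ι := by
      rw [hh₀]; exact Ideal.mem_map_of_mem ι hh
    rcases hq₁prime.mem_or_mem h2 with h3 | h3
    · exact hh₁ h3
    · exact hq₁prime.ne_top (Ideal.eq_top_of_isUnit_mem _ h3 hunit₁)
  refine ⟨ψ (MvPolynomial.C s) * h₀, fun hh => ?_, ?_⟩
  · rcases Ideal.IsPrime.mem_or_mem inferInstance hh with h3 | h3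
    · exact hρs h3
    · exact hh₀q h3
  intro C' _ _ _
  obtain ⟨φ, hφ, hφloc⟩ := exists_ringHom_away_of_mul (ψ (MvPolynomial.C s)) h₀ C₁ C'
  let _ : Algebra C₁ C' := φ.toAlgebra
  have hloc' : IsLocalization.Away (ι h₀) C' := hφloc
  have hloc₁ : IsLocalization.Away h₁ C' := IsLocalization.Away.of_associated hassoc
  obtain ⟨hreg, H2⟩ := H C'
  obtain ⟨H2fl, H2fp, H2qf, H2uniq⟩ := H2 _ rfl
  have hφ' : (algebraMap C₁ C').comp ι = algebraMap C C' := hφ
  set rs : List C' := (seq ψ₁ P₁).map (algebraMap C₁ C') with hrs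
  have hcomp : ((Ideal.Quotient.mk (Ideal.ofList rs)).comp
      ((algebraMap C₁ C').comp (ψ₁.comp MvPolynomial.C))).comp a =
      (Ideal.Quotient.mk (Ideal.ofList rs)).comp ((algebraMap C C').comp ρ) := by
    have h4 : (algebraMap C₁ C').comp (ι.comp ρ) = (algebraMap C C').comp ρ := by
      rw [← RingHom.comp_assoc, hφ']
    rw [RingHom.comp_assoc, RingHom.comp_assoc, hψ₁C, h4]
  have hafl : a.Flat := RingHom.flat_algebraMap_iff.mpr (IsLocalization.flat R₁ (Submonoid.powers s))
  have haqf : a.QuasiFinite := RingHom.QuasiFinite.holdsForLocalizationAway R₁ s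
  have hafp : a.FinitePresentation :=
    RingHom.finitePresentation_algebraMap.mpr (IsLocalization.Away.finitePresentation s)
  refine ⟨rs, hreg, ?_, ?_, ?_, ?_, ?_⟩
  · rw [← hcomp]; exact RingHom.Flat.comp hafl H2fl
  · rw [← hcomp]; exact H2fp.comp hafp
  · rw [← hcomp]; exact RingHom.QuasiFinite.comp H2qf haqf
  · intro Q₀ hQ₀ hQ₀q
    have h5 : q.map ι ≤ Q₀.comap (algebraMap C₁ C') := by
      rw [Ideal.map_le_iff_le_comap, Ideal.comap_comap, hφ', hQ₀q]
    rw [hrs, ← Ideal.map_ofList, Ideal.map_le_iff_le_comap]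
    refine le_trans ?_ h5
    rw [Ideal.ofList, Ideal.span_le]
    intro r hr
    obtain ⟨i, rfl⟩ := (List.mem_ofFn' _ _).mp hr
    exact hel i
  · intro Q hQ hJQ hQp
    have h6 := H2uniq Q hQ hJQ ?_
    · rw [← hφ', ← Ideal.comap_comap, h6, hq₁comap]
    · -- primes of `R₁` are determined by their contraction to `R`
      have hL : (Q.comap ((algebraMap C₁ C').comp (ψ₁.comp MvPolynomial.C))).comap a =
          q.comap ρ := by
        rw [Ideal.comap_comap, RingHom.comp_assoc, hψ₁C, ← RingHom.comp_assoc, hφ']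
        exact hQp
      have hR : ((q.map ι).comap (ψ₁.comp MvPolynomial.C)).comap a = q.comap ρ := by
        rw [Ideal.comap_comap, hψ₁C, ← Ideal.comap_comap, hq₁comap]
      have h7 : (Q.comap ((algebraMap C₁ C').comp (ψ₁.comp MvPolynomial.C))).comap a =
          ((q.map ι).comap (ψ₁.comp MvPolynomial.C)).comap a := hL.trans hR.symm
      have hQ' : (Q.comap ((algebraMap C₁ C').comp (ψ₁.comp MvPolynomial.C))).IsPrime :=
        Ideal.comap_isPrime _ Q
      have hq' : ((q.map ι).comap (ψ₁.comp MvPolynomial.C)).IsPrime :=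
        Ideal.comap_isPrime _ _
      have := PrimeSpectrum.localization_comap_injective R₁ (Submonoid.powers s)
        (a₁ := ⟨_, hQ'⟩) (a₂ := ⟨_, hq'⟩) (PrimeSpectrum.ext h7)
      exact congrArg PrimeSpectrum.asIdeal this

end Final2

end Groth.Agent.R2.H6.CMSlice
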