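import Mathlib
import Groth.Agent.R2.H42FibReg
import Groth.Agent.R2.H6CMSliceA
import Groth.Agent.Lib.Helper3FlatOpenFP
import Groth.Agent.Lib.Helper3FlatLocA

/-!
# Slicing a flat finitely presented algebra by a fibrewise nonzerodivisor (helper6)

Ring-level core of Stacks 00ME / 046Z in "spread out" form: `A → C` flat of finite presentation,
`q` a prime of `C`, `h' ∈ q` a nonzerodivisor on the local ring of the fibre at `q`.  Then after
inverting some `g ∉ q`, `h'` is a nonzerodivisor and `C_g/(h')` is flat of finite presentation over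
`A`.
-/

set_option autoImplicit false
universe u

open Polynomial TensorProduct
open Groth.Agent.Lib.Helper3.FibCritA Groth.Agent.Lib.Helper3.FibCritD
open Groth.Agent.Lib.Helper3.FlatLoc Groth.Agent.Lib.Helper3.FlatOpen
open Groth.Agent.R2.H42.FibReg

namespace Groth.Agent.R2.H6.NzdSlice

section Fiber

variable {A C : Type u} [CommRing A] [CommRing C] [Algebra A C]

/-- elements of `pC` die in the fibre over `p` -/
theorem one_tmul_eq_zero_of_mem (p : Ideal A) [p.IsPrime] (c : C)
    (hc : c ∈ p.map (algebraMap A C)) : (1 : p.ResidueField) ⊗ₜ[A] c = 0 := by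
  have hle : p.map (algebraMap A C) ≤
      RingHom.ker ((Algebra.TensorProduct.includeRight : C →ₐ[A] p.Fiber C) : C →+* p.Fiber C) := by
    rw [Ideal.map_le_iff_le_comap]
    intro π hπ
    rw [Ideal.mem_comap, RingHom.mem_ker]
    change (1 : p.ResidueField) ⊗ₜ[A] (algebraMap A C π) = 0
    rw [Algebra.algebraMap_eq_smul_one, ← TensorProduct.smul_tmul, ← Algebra.algebraMap_eq_smul_one,
      (Ideal.algebraMap_residueField_eq_zero).mpr hπ, TensorProduct.zero_tmul]
  exact hle hc

attribute [local instance] Algebra.TensorProduct.rightAlgebra in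
/-- if `1 ⊗ c = 0` in the fibre over `p` then `a c ∈ pC` for some `a ∉ p` -/
theorem exists_mul_mem_of_one_tmul_eq_zero (p : Ideal A) [p.IsPrime] (c : C)
    (h : (1 : p.ResidueField) ⊗ₜ[A] c = 0) :
    ∃ a ∉ p, algebraMap A C a * c ∈ p.map (algebraMap A C) := by
  let M := Algebra.algebraMapSubmonoid C p.primeCompl
  let Cp := Localization M
  let pC := p.map (algebraMap A C)
  let e : p.Fiber C ≃ₐ[C] Cp ⧸ pC.map (algebraMap C Cp) := Ideal.Fiber.algEquivAux₁ p
  have h1 : e ((1 : p.ResidueField) ⊗ₜ[A] c) = 0 := by rw [h, map_zero]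
  have h2 : (1 : p.ResidueField) ⊗ₜ[A] c = algebraMap C (p.Fiber C) c := rfl
  rw [h2, e.commutes] at h1
  have h3 : algebraMap C Cp c ∈ pC.map (algebraMap C Cp) := by
    rw [← Ideal.Quotient.eq_zero_iff_mem]
    exact h1
  rw [IsLocalization.mem_map_algebraMap_iff M] at h3
  obtain ⟨⟨⟨j, hj⟩, ⟨m, hm⟩⟩, hx⟩ := h3
  simp only at hx
  rw [← map_mul, IsLocalization.eq_iff_exists M] at hx
  obtain ⟨⟨m', hm'⟩, hx⟩ := hx
  simp only at hx
  obtain ⟨a, ha, rfl⟩ := hm
  obtain ⟨a', ha', rfl⟩ := hm'
  refine ⟨a' * a, p.primeCompl.mul_mem ha' ha, ?_⟩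
  have : algebraMap A C (a' * a) * c = algebraMap A C a' * j := by
    rw [map_mul, ← hx]; ring
  rw [this]
  exact Ideal.mul_mem_left _ _ hj

end Fiber

section Away

variable {R S M : Type*} [CommRing R] [CommRing S] [Algebra R S] [AddCommGroup M] [Module R M]
  [Module S M] [IsScalarTower R S M]

/-- If `M` is `R`-flat at all primes of `D(g)` then `M_g` is `R`-flat. -/
theorem flat_localizedModule_powers (g : S)
    (h : ∀ (r : Ideal S) [r.IsPrime], g ∉ r → Module.Flat R (LocalizedModule r.primeCompl M)) :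
    Module.Flat R (LocalizedModule (Submonoid.powers g) M) := by
  rw [flat_localizedModule_iff']
  intro I z hz
  by_contra hcon
  push Not at hcon
  have hdisj : Disjoint ((Ideal.torsionOf S (M ⊗[R] I) z : Ideal S) : Set S)
      (Submonoid.powers g : Set S) := by
    rw [Set.disjoint_left]
    intro s hs hs'
    exact hcon s hs' ((Ideal.mem_torsionOf_iff _ _).mp hs)
  obtain ⟨r, hr, hle, hrd⟩ := Ideal.exists_le_prime_disjoint _ _ hdisj
  have hg : g ∉ r := fun hg => Set.disjoint_left.mp hrd hg (Submonoid.mem_powers g)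
  have hfl := h r hg
  rw [flat_localizedModule_iff'] at hfl
  obtain ⟨t, ht, htz⟩ := hfl I z hz
  exact ht (hle ((Ideal.mem_torsionOf_iff _ _).mpr htz))

end Away

section Main

variable {A C : Type u} [CommRing A] [CommRing C] [Algebra A C]
  [Algebra.FinitePresentation A C] [Module.Flat A C]

open Groth.Agent.R2.H6.CMSlice in
/-- **Slicing by a fibrewise nonzerodivisor**, ring level, spread out to a principal open. -/
theorem exists_away_flat_slice_mul (q : Ideal C) [q.IsPrime] (h' : C) (hh' : h' ∈ q)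
    (E : ∀ c : C, (∃ t ∉ q, t * (h' * c) ∈ (q.under A).map (algebraMap A C)) →
      ∃ t ∉ q, t * c ∈ (q.under A).map (algebraMap A C)) :
    ∃ g ∉ q, ∀ (g' : C) (C' : Type u) [CommRing C'] [Algebra C C']
      [IsLocalization.Away (g * g') C'],
      algebraMap C C' h' ∈ nonZeroDivisors C' ∧
      ((Ideal.Quotient.mk (Ideal.span {algebraMap C C' h'})).comp
        ((algebraMap C C').comp (algebraMap A C))).Flat ∧
      ((Ideal.Quotient.mk (Ideal.span {algebraMap C C' h'})).comp
        ((algebraMap C C').comp (algebraMap A C))).FinitePresentation := by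
  classical
  set p := q.under A with hp
  set κ := p.ResidueField
  -- the prime of the fibre
  obtain ⟨Q, hQprime, hQ⟩ : ∃ Q : Ideal (p.Fiber C), ∃ _ : Q.IsPrime,
      Q.comap (Algebra.TensorProduct.includeRight : C →ₐ[A] p.Fiber C) = q := by
    let q' := PrimeSpectrum.primesOverOrderIsoFiber A C p ⟨q, ⟨inferInstance, ⟨rfl⟩⟩⟩
    refine ⟨q'.asIdeal, q'.isPrime, ?_⟩
    have h := PrimeSpectrum.coe_primesOverOrderIsoFiber_symm_apply p q'
    rw [← h]
    simp [q']
  have : IsNoetherianRing (p.Fiber C) :=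
    Algebra.FiniteType.isNoetherianRing κ (κ ⊗[A] C)
  set t : p.Fiber C := (1 : κ) ⊗ₜ[A] h' with ht
  have ht0 : t ∈ Q := (one_tmul_mem_iff q Q hQ h').mpr hh'
  have hunit : ∀ a : A, a ∉ p → IsUnit (algebraMap A (p.Fiber C) a) := by
    intro a ha
    rw [IsScalarTower.algebraMap_apply A κ (p.Fiber C)]
    apply IsUnit.map
    rw [isUnit_iff_ne_zero, Ne, Ideal.algebraMap_residueField_eq_zero]
    exact ha
  have hreg0 : ∀ d : p.Fiber C, t * d = 0 → ∃ s ∉ Q, s * d = 0 := by
    intro d hd
    obtain ⟨a, ha, c, hac⟩ := Ideal.Fiber.exists_smul_eq_one_tmul p d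
    have h1 : (1 : κ) ⊗ₜ[A] (h' * c) = 0 := by
      have : (1 : κ) ⊗ₜ[A] (h' * c) = t * ((1 : κ) ⊗ₜ[A] c) := by
        rw [ht, Algebra.TensorProduct.tmul_mul_tmul, mul_one]
      rw [this, ← hac, mul_smul_comm, hd, smul_zero]
    obtain ⟨a', ha', hmem⟩ := exists_mul_mem_of_one_tmul_eq_zero p (h' * c) h1
    have ha'q : algebraMap A C a' ∉ q := fun hmem' => ha' hmem'
    obtain ⟨t₂, ht₂, ht₂c⟩ := E c ⟨algebraMap A C a', ha'q, hmem⟩
    refine ⟨(1 : κ) ⊗ₜ[A] t₂, fun hmem' => ht₂ ((one_tmul_mem_iff q Q hQ t₂).mp hmem'), ?_⟩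
    have h2 : (1 : κ) ⊗ₜ[A] (t₂ * c) = 0 := one_tmul_eq_zero_of_mem p _ ht₂c
    have h3 : ((1 : κ) ⊗ₜ[A] t₂) * (a • d) = 0 := by
      rw [hac, Algebra.TensorProduct.tmul_mul_tmul, mul_one, h2]
    rw [mul_smul_comm, Algebra.smul_def] at h3
    exact ((hunit a ha).mul_right_eq_zero).mp h3
  obtain ⟨s, hs, hkill⟩ := exists_kill_torsion (κ := κ) Q t ht0 hreg0
  obtain ⟨a, ha, g₁, hag⟩ := Ideal.Fiber.exists_smul_eq_one_tmul p s
  have hg₁ : g₁ ∉ q := by
    intro hgq
    have h2 : (1 : κ) ⊗ₜ[A] g₁ ∈ Q := (one_tmul_mem_iff q Q hQ g₁).mpr hgq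
    rw [← hag, Algebra.smul_def, Ideal.unit_mul_mem_iff_mem _ (hunit a ha)] at h2
    exact hs h2
  have htf : ∀ h : κ[X], h ≠ 0 → ∀ x : p.Fiber C,
      aeval ((1 : κ) ⊗ₜ[A] h') h * x = 0 → ∃ n : ℕ, ((1 : κ) ⊗ₜ[A] g₁) ^ n * x = 0 := by
    intro h hh x hx
    refine ⟨1, ?_⟩
    rw [pow_one, ← hag, smul_mul_assoc, hkill h hh x hx, smul_zero]
  -- the polynomial algebra structure
  let algXC : Algebra A[X] C := (Polynomial.aeval h' : A[X] →ₐ[A] C).toRingHom.toAlgebra
  have : IsScalarTower A A[X] C := IsScalarTower.of_algebraMap_eq (fun a => by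
    simp [RingHom.algebraMap_toAlgebra])
  have hX : algebraMap A[X] C X = h' := by simp [RingHom.algebraMap_toAlgebra]
  have hX' : algebraMap A[X] (Localization.Away g₁) X =
      algebraMap C (Localization.Away g₁) h' := by
    rw [IsScalarTower.algebraMap_apply A[X] C (Localization.Away g₁), hX]
  have hflatfib := fiberMap_flat_of_torsionFree (A := A) (C := Localization.Away g₁) p
    (algebraMap C (Localization.Away g₁) h') hX' (torsionFree_fiber_away p h' g₁ htf)
  have h1 : Module.Flat A (LocalizedModule q.primeCompl C) :=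
    flat_localizedModule_of_flat q.primeCompl
  have hflq : Module.Flat A[X] (LocalizedModule q.primeCompl C) :=
    flat_of_fiberMap_flat_away (A := A) (B := A[X]) (C := C) p q rfl g₁ hg₁ hflatfib h1
  -- openness
  have : Algebra.FinitePresentation A[X] C :=
    Algebra.FinitePresentation.of_restrict_scalars_finitePresentation A A[X] C
  have hopen := isOpen_flatLocus_of_finitePresentation (R := A[X]) (S := C) (M := C)
  have hqmem : (⟨q, inferInstance⟩ : PrimeSpectrum C) ∈
      {q : PrimeSpectrum C | Module.Flat A[X] (LocalizedModule q.asIdeal.primeCompl C)} := hflq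
  obtain ⟨_, ⟨g, rfl⟩, hqg, hsub⟩ :=
    PrimeSpectrum.isTopologicalBasis_basic_opens.exists_subset_of_mem_open hqmem hopen
  refine ⟨g, hqg, ?_⟩
  intro g' C' _ _ _
  have hflC' : Module.Flat A[X] (LocalizedModule (Submonoid.powers (g * g')) C) :=
    flat_localizedModule_powers (g * g') (fun r _ hgr =>
      hsub (show (⟨r, inferInstance⟩ : PrimeSpectrum C) ∈
        (PrimeSpectrum.basicOpen g : Set (PrimeSpectrum C)) from
          fun hmem => hgr (Ideal.mul_mem_right _ _ hmem)))
  let θ : A[X] →+* C' := (algebraMap C C').comp (algebraMap A[X] C)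
  have hθ : θ.Flat := by
    let : Algebra A[X] C' := θ.toAlgebra
    have : IsScalarTower A[X] C C' := IsScalarTower.of_algebraMap_eq (fun _ => rfl)
    let e : LocalizedModule (Submonoid.powers (g * g')) C ≃ₗ[C] C' :=
      IsLocalizedModule.linearEquiv (Submonoid.powers (g * g'))
        (LocalizedModule.mkLinearMap (Submonoid.powers (g * g')) C) (Algebra.linearMap C C')
    change Module.Flat A[X] C'
    exact Module.Flat.of_linearEquiv (e.restrictScalars A[X]).symm
  have hθX : θ X = algebraMap C C' h' := by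
    change algebraMap C C' (algebraMap A[X] C X) = _
    rw [hX]
  have hcomp : θ.comp Polynomial.C = (algebraMap C C').comp (algebraMap A C) := by
    ext a
    change algebraMap C C' (algebraMap A[X] C (Polynomial.C a)) = algebraMap C C' (algebraMap A C a)
    congr 1
    simp [RingHom.algebraMap_toAlgebra]
  refine ⟨?_, ?_, ?_⟩
  · have := monic_slice_nonZeroDivisor θ hθ X monic_X
    rwa [hθX] at this
  · have := monic_slice_flat θ hθ X monic_X (Ideal.span {algebraMap C C' h'}) (by rw [hθX])
    rwa [hcomp] at this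
  · have hιfp : (algebraMap C C').FinitePresentation :=
      RingHom.finitePresentation_algebraMap.mpr (IsLocalization.Away.finitePresentation (g * g'))
    have hmkfp : (Ideal.Quotient.mk (Ideal.span {algebraMap C C' h'})).FinitePresentation := by
      refine RingHom.FinitePresentation.of_surjective _ Ideal.Quotient.mk_surjective ?_
      rw [Ideal.mk_ker]
      exact Submodule.fg_span (Set.finite_singleton _)
    have hρfp : (algebraMap A C).FinitePresentation :=
      RingHom.finitePresentation_algebraMap.mpr inferInstance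
    exact hmkfp.comp (hιfp.comp hρfp)

open Groth.Agent.R2.H6.CMSlice in
/-- **Slicing by a fibrewise nonzerodivisor**, ring level, spread out to a principal open. -/
theorem exists_away_flat_slice (q : Ideal C) [q.IsPrime] (h' : C) (hh' : h' ∈ q)
    (E : ∀ c : C, (∃ t ∉ q, t * (h' * c) ∈ (q.under A).map (algebraMap A C)) →
      ∃ t ∉ q, t * c ∈ (q.under A).map (algebraMap A C)) :
    ∃ g ∉ q, ∀ (C' : Type u) [CommRing C'] [Algebra C C'] [IsLocalization.Away g C'],
      algebraMap C C' h' ∈ nonZeroDivisors C' ∧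
      ((Ideal.Quotient.mk (Ideal.span {algebraMap C C' h'})).comp
        ((algebraMap C C').comp (algebraMap A C))).Flat ∧
      ((Ideal.Quotient.mk (Ideal.span {algebraMap C C' h'})).comp
        ((algebraMap C C').comp (algebraMap A C))).FinitePresentation := by
  obtain ⟨g, hg, H⟩ := exists_away_flat_slice_mul q h' hh' E
  refine ⟨g, hg, fun C' _ _ _ => ?_⟩
  have : IsLocalization.Away (g * 1) C' := by rwa [mul_one]
  exact H 1 C'

end Main

end Groth.Agent.R2.H6.NzdSlice
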