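import Mathlib
import Groth.Prelude.Def_CurvBase
import Groth.Agent.Lib.Helper5FiberStalk
import Groth.Agent.Lib.Helper2FlatOver
import Groth.Agent.Lib.Helper22IdealComap
import Groth.Agent.Lib.Helper20EffCartier
import Groth.Agent.Lib.Helper20RelCartier
import Groth.Agent.R2.H48CartierChart
import Groth.Agent.R2.H6NzdSlice

/-!
# Fibrewise criterion for relative effective Cartier divisors (helper40)

`φ : X ⟶ S` flat and locally of finite presentation, `𝓘` a locally principal quasi-coherent ideal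
sheaf whose inverse images on all fibres are effective Cartier.  Then `𝓘` is effective Cartier and
its closed subscheme is flat over `S`.
-/

set_option autoImplicit false
set_option linter.style.haveILetI false
universe u
open CategoryTheory CategoryTheory.Limits AlgebraicGeometry TopologicalSpace

namespace Groth.Agent.R2.H40.FibCartier

open Groth.Agent.Lib.Helper5.FiberStalk Groth.Agent.Lib.Helper2

section Stalk

variable {X S : Scheme.{u}} (φ : X ⟶ S)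

/-- A section of `X` has zero germ on the fibre through `x` iff its germ at `x` lies in
`m_{φ x} O_{X,x}`. -/
theorem germ_fiber_eq_zero_iff (x : X) (U : X.Opens) (hxU : x ∈ U) (t : Γ(X, U))
    (hU : toFiber φ x (IsLocalRing.closedPoint (Q φ x)) ∈ (φ.fiberι (φ x)) ⁻¹ᵁ U) :
    (φ.fiber (φ x)).presheaf.germ ((φ.fiberι (φ x)) ⁻¹ᵁ U) _ hU ((φ.fiberι (φ x)).app U t) = 0 ↔
      X.presheaf.germ U x hxU t ∈ fibIdeal φ x := by
  have h := stalkClosedPointTo_toFiber_germ φ x U hxU t hU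
  constructor
  · intro h0
    rw [h0, map_zero] at h
    exact Ideal.Quotient.eq_zero_iff_mem.mp h.symm
  · intro hm
    rw [Ideal.Quotient.eq_zero_iff_mem.mpr hm] at h
    exact stalkClosedPointTo_toFiber_injective φ x (h.trans (map_zero _).symm)

/-- Elementwise description of `m_{φ x} O_{X,x}` on an affine chart. -/
theorem germ_mem_fibIdeal_iff {V : S.Opens} (hV : IsAffineOpen V) {U : X.Opens}
    (hU : IsAffineOpen U) (hUV : U ≤ φ ⁻¹ᵁ V) (x : X) (hxU : x ∈ U) (c : Γ(X, U)) :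
    X.presheaf.germ U x hxU c ∈ fibIdeal φ x ↔
      ∃ t ∉ (hU.primeIdealOf ⟨x, hxU⟩).asIdeal, t * c ∈
        (((hU.primeIdealOf ⟨x, hxU⟩).asIdeal).comap (φ.appLE V U hUV).hom).map
          (φ.appLE V U hUV).hom := by
  set q : Ideal Γ(X, U) := (hU.primeIdealOf ⟨x, hxU⟩).asIdeal with hq
  have hsV : φ x ∈ V := hUV hxU
  set p' : Ideal Γ(S, V) := (hV.primeIdealOf ⟨φ x, hsV⟩).asIdeal with hp'
  letI algBO : Algebra Γ(X, U) (X.presheaf.stalk x) := X.presheaf.algebra_section_stalk ⟨x, hxU⟩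
  haveI locO : IsLocalization.AtPrime (X.presheaf.stalk x) q := hU.isLocalization_stalk ⟨x, hxU⟩
  letI algAO : Algebra Γ(S, V) (S.presheaf.stalk (φ x)) :=
    S.presheaf.algebra_section_stalk ⟨φ x, hsV⟩
  haveI locA : IsLocalization.AtPrime (S.presheaf.stalk (φ x)) p' :=
    hV.isLocalization_stalk ⟨φ x, hsV⟩
  have hgX : ∀ b : Γ(X, U), algebraMap Γ(X, U) (X.presheaf.stalk x) b =
      X.presheaf.germ U x hxU b := fun b => rfl
  have hgS : ∀ a : Γ(S, V), algebraMap Γ(S, V) (S.presheaf.stalk (φ x)) a =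
      S.presheaf.germ V (φ x) hsV a := fun a => rfl
  -- the prime of `φ x` is the contraction of the prime of `x`
  have hpp : p' = q.comap (φ.appLE V U hUV).hom := by
    ext a
    rw [Ideal.mem_comap,
      ← IsLocalization.AtPrime.to_map_mem_maximal_iff (S.presheaf.stalk (φ x)) p' a,
      ← IsLocalization.AtPrime.to_map_mem_maximal_iff (X.presheaf.stalk x) q _, hgX, hgS,
      ← FlatOver.stalkMap_germ_eq φ hUV x hxU a, IsLocalRing.mem_maximalIdeal,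
      IsLocalRing.mem_maximalIdeal, mem_nonunits_iff, mem_nonunits_iff,
      isUnit_map_iff (φ.stalkMap x).hom]
  have hfib : fibIdeal φ x =
      (p'.map (φ.appLE V U hUV).hom).map (algebraMap Γ(X, U) (X.presheaf.stalk x)) := by
    unfold fibIdeal
    rw [← IsLocalization.AtPrime.map_eq_maximalIdeal p' (S.presheaf.stalk (φ x)), Ideal.map_map,
      Ideal.map_map]
    congr 1
    ext a
    simp only [RingHom.comp_apply, hgX, hgS]
    exact FlatOver.stalkMap_germ_eq φ hUV x hxU a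
  rw [← hpp, hfib, ← hgX,
    IsLocalization.algebraMap_mem_map_algebraMap_iff q.primeCompl (X.presheaf.stalk x)]
  constructor
  · rintro ⟨m, hm, hmc⟩
    exact ⟨m, hm, hmc⟩
  · rintro ⟨t, ht, htc⟩
    exact ⟨t, ht, htc⟩

end Stalk

section Ring

/-- Two generators of the same principal ideal: if one is a nonzerodivisor so is the other. -/
theorem mem_nonZeroDivisors_of_span_eq {R : Type*} [CommRing R] {a b : R}
    (h : Ideal.span {a} = Ideal.span {b}) (ha : a ∈ nonZeroDivisors R) :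
    b ∈ nonZeroDivisors R := by
  obtain ⟨u, hu⟩ : ∃ u, u * a = b :=
    Ideal.mem_span_singleton'.mp (h ▸ Ideal.mem_span_singleton_self b)
  obtain ⟨v, hv⟩ : ∃ v, v * b = a :=
    Ideal.mem_span_singleton'.mp (h.symm ▸ Ideal.mem_span_singleton_self a)
  have h1 : (1 - v * u) * a = 0 := by
    rw [sub_mul, one_mul, mul_assoc, hu, hv, sub_self]
  have h2 : 1 - v * u = 0 := (mem_nonZeroDivisors_iff_right.mp ha) _ h1
  have hunit : IsUnit u := IsUnit.of_mul_eq_one v (by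
    rw [mul_comm]; exact (sub_eq_zero.mp h2).symm)
  rw [← hu]
  exact mul_mem hunit.mem_nonZeroDivisors ha

end Ring

section Core

open Groth.Agent.Lib.Helper20 Groth.Agent.R2.H6.NzdSlice

variable {X S : Scheme.{u}} (φ : X ⟶ S) [Flat φ] [LocallyOfFinitePresentation φ]

/-- **Local form of the fibrewise criterion.**  If `𝓘` is principal near the point `x` of its
support and its inverse images on the fibres are effective Cartier, then near `x` the ideal `𝓘` is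
generated by a nonzerodivisor and the quotient is flat over the base. -/
theorem exists_chart_of_fibres (𝓘 : X.IdealSheafData)
    (hfib : ∀ s : S, BlowUp.IsEffCartierIdeal (𝓘.comap (φ.fiberι s)))
    (x : X) {U₀ : X.Opens} (hU₀ : IsAffineOpen U₀) (hxU₀ : x ∈ U₀) (h₀ : Γ(X, U₀))
    (hI₀ : 𝓘.ideal ⟨U₀, hU₀⟩ = Ideal.span {h₀}) (hxs : x ∈ 𝓘.support) :
    ∃ (V : S.Opens) (_ : IsAffineOpen V) (U : X.Opens) (hU : IsAffineOpen U) (_ : x ∈ U)
      (hUV : U ≤ φ ⁻¹ᵁ V),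
      (∃ h : Γ(X, U), h ∈ nonZeroDivisors Γ(X, U) ∧ 𝓘.ideal ⟨U, hU⟩ = Ideal.span {h}) ∧
      (letI := (φ.appLE V U hUV).hom.toAlgebra
       Module.Flat Γ(S, V) (Γ(X, U) ⧸ 𝓘.ideal ⟨U, hU⟩)) := by
  -- affine charts
  obtain ⟨V, hV, hsV, -⟩ := TopologicalSpace.Opens.isBasis_iff_nbhd.mp S.isBasis_affineOpens
    (show φ x ∈ (⊤ : S.Opens) from trivial)
  have hmem : x ∈ U₀ ⊓ φ ⁻¹ᵁ V := ⟨hxU₀, hsV⟩
  obtain ⟨U₁, hU₁, hxU₁, hle₁⟩ :=
    TopologicalSpace.Opens.isBasis_iff_nbhd.mp X.isBasis_affineOpens hmem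
  have hU₁U₀ : U₁ ≤ (𝟙 X) ⁻¹ᵁ U₀ := fun y hy => (hle₁ hy).1
  have hU₁V : U₁ ≤ φ ⁻¹ᵁ V := fun y hy => (hle₁ hy).2
  -- the generator on `U₁`
  set h₁ : Γ(X, U₁) := (Scheme.Hom.appLE (𝟙 X) U₀ U₁ hU₁U₀).hom h₀ with hh₁
  have hI₁ : 𝓘.ideal ⟨U₁, hU₁⟩ = Ideal.span {h₁} := by
    have key := Groth.Agent.Lib.Helper22.IdealComap.ideal_comap_eq_map (𝟙 X) 𝓘 ⟨U₁, hU₁⟩
      ⟨U₀, hU₀⟩ hU₁U₀
    rw [Scheme.IdealSheafData.comap_id, hI₀, Ideal.map_span, Set.image_singleton] at key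
    exact key
  -- ring-level data
  letI algAB : Algebra Γ(S, V) Γ(X, U₁) := (φ.appLE V U₁ hU₁V).hom.toAlgebra
  haveI : Module.Flat Γ(S, V) Γ(X, U₁) := Scheme.Hom.flat_appLE φ hV hU₁ hU₁V
  haveI : Algebra.FinitePresentation Γ(S, V) Γ(X, U₁) :=
    Scheme.Hom.finitePresentation_appLE φ hV hU₁ hU₁V
  set q : Ideal Γ(X, U₁) := (hU₁.primeIdealOf ⟨x, hxU₁⟩).asIdeal with hq
  haveI : q.IsPrime := (hU₁.primeIdealOf ⟨x, hxU₁⟩).isPrime
  letI algBO : Algebra Γ(X, U₁) (X.presheaf.stalk x) :=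
    X.presheaf.algebra_section_stalk ⟨x, hxU₁⟩
  haveI locO : IsLocalization.AtPrime (X.presheaf.stalk x) q :=
    hU₁.isLocalization_stalk ⟨x, hxU₁⟩
  have hmemq : ∀ r : Γ(X, U₁), r ∈ q ↔ ¬ IsUnit (X.presheaf.germ U₁ x hxU₁ r) := by
    intro r
    rw [← IsLocalization.AtPrime.to_map_mem_maximal_iff (X.presheaf.stalk x) q r,
      IsLocalRing.mem_maximalIdeal, mem_nonunits_iff]
    rfl
  -- `h₁ ∈ q`
  have hh₁q : h₁ ∈ q := by
    rw [hmemq, ← Scheme.mem_basicOpen X h₁ x hxU₁]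
    have hz := (Scheme.IdealSheafData.mem_support_iff_of_mem (I := 𝓘) (U := ⟨U₁, hU₁⟩) hxU₁).1 hxs
    rw [Scheme.mem_zeroLocus_iff] at hz
    exact hz h₁ (by rw [hI₁]; exact Ideal.mem_span_singleton_self h₁)
  -- the fibre
  set ι := φ.fiberι (φ x) with hι
  set z₀ := toFiber φ x (IsLocalRing.closedPoint (Q φ x)) with hz₀
  have hz₀U : z₀ ∈ ι ⁻¹ᵁ U₁ := by
    change ι z₀ ∈ U₁
    rw [hι, hz₀, fiberι_toFiber_closedPoint]
    exact hxU₁
  obtain ⟨W₁, hW₁, hz₀W₁, hW₁le, h', hh', hIW₁⟩ :=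
    EffCartier.exists_le_of_isEffCartierIdeal (hfib (φ x)) z₀ (ι ⁻¹ᵁ U₁) hz₀U
  set h'' : Γ(φ.fiber (φ x), W₁) := (ι.appLE U₁ W₁ hW₁le).hom h₁ with hh''
  have hspan : Ideal.span {h'} = Ideal.span {h''} := by
    have key := Groth.Agent.Lib.Helper22.IdealComap.ideal_comap_eq_map ι 𝓘 ⟨W₁, hW₁⟩
      ⟨U₁, hU₁⟩ hW₁le
    rw [hI₁, Ideal.map_span, Set.image_singleton, hIW₁] at key
    exact key
  have hh''nzd : h'' ∈ nonZeroDivisors Γ(φ.fiber (φ x), W₁) :=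
    mem_nonZeroDivisors_of_span_eq hspan hh'
  -- the germ of `h''` at `z₀` is a nonzerodivisor
  letI algWO : Algebra Γ(φ.fiber (φ x), W₁) ((φ.fiber (φ x)).presheaf.stalk z₀) :=
    (φ.fiber (φ x)).presheaf.algebra_section_stalk ⟨z₀, hz₀W₁⟩
  haveI locW : IsLocalization.AtPrime ((φ.fiber (φ x)).presheaf.stalk z₀)
      (hW₁.primeIdealOf ⟨z₀, hz₀W₁⟩).asIdeal := hW₁.isLocalization_stalk ⟨z₀, hz₀W₁⟩
  have hGnzd : (φ.fiber (φ x)).presheaf.germ W₁ z₀ hz₀W₁ h'' ∈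
      nonZeroDivisors ((φ.fiber (φ x)).presheaf.stalk z₀) :=
    IsLocalization.map_nonZeroDivisors_le (hW₁.primeIdealOf ⟨z₀, hz₀W₁⟩).asIdeal.primeCompl _
      (Submonoid.mem_map_of_mem _ hh''nzd)
  have hgerm : ∀ t : Γ(X, U₁), (φ.fiber (φ x)).presheaf.germ W₁ z₀ hz₀W₁
      ((ι.appLE U₁ W₁ hW₁le).hom t) =
      (φ.fiber (φ x)).presheaf.germ (ι ⁻¹ᵁ U₁) z₀ hz₀U ((ι.app U₁).hom t) := by
    intro t
    simp only [Scheme.Hom.appLE, CommRingCat.hom_comp, RingHom.comp_apply]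
    exact (φ.fiber (φ x)).presheaf.germ_res_apply (homOfLE hW₁le) z₀ hz₀W₁ _
  -- condition `E`
  have E : ∀ c : Γ(X, U₁), (∃ t ∉ q, t * (h₁ * c) ∈
        (q.under Γ(S, V)).map (algebraMap Γ(S, V) Γ(X, U₁))) →
      ∃ t ∉ q, t * c ∈ (q.under Γ(S, V)).map (algebraMap Γ(S, V) Γ(X, U₁)) := by
    intro c hc
    have h1 : X.presheaf.germ U₁ x hxU₁ (h₁ * c) ∈ fibIdeal φ x :=
      (germ_mem_fibIdeal_iff φ hV hU₁ hU₁V x hxU₁ (h₁ * c)).2 hc
    have h2 := (germ_fiber_eq_zero_iff φ x U₁ hxU₁ (h₁ * c) hz₀U).2 h1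
    rw [map_mul, map_mul, ← hgerm h₁] at h2
    have h3 : (φ.fiber (φ x)).presheaf.germ (ι ⁻¹ᵁ U₁) z₀ hz₀U ((ι.app U₁).hom c) = 0 := by
      refine (mem_nonZeroDivisors_iff.mp hGnzd).1 _ ?_
      exact h2
    have h4 := (germ_fiber_eq_zero_iff φ x U₁ hxU₁ c hz₀U).1 h3
    exact (germ_mem_fibIdeal_iff φ hV hU₁ hU₁V x hxU₁ c).1 h4
  -- slice
  obtain ⟨g, hg, H⟩ := exists_away_flat_slice q h₁ hh₁q E
  haveI : IsLocalization.Away g Γ(X, X.basicOpen g) := hU₁.isLocalization_basicOpen g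
  obtain ⟨hnzd, hfl, -⟩ := H Γ(X, X.basicOpen g)
  have hU : IsAffineOpen (X.basicOpen g) := hU₁.basicOpen g
  have hxU : x ∈ X.basicOpen g := by
    rw [Scheme.mem_basicOpen X g x hxU₁]
    by_contra hnu
    exact hg ((hmemq g).2 hnu)
  have hUV : X.basicOpen g ≤ φ ⁻¹ᵁ V := (X.basicOpen_le g).trans hU₁V
  have hIU : 𝓘.ideal ⟨X.basicOpen g, hU⟩ =
      Ideal.span {algebraMap Γ(X, U₁) Γ(X, X.basicOpen g) h₁} := by
    have key := 𝓘.map_ideal_basicOpen ⟨U₁, hU₁⟩ g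
    rw [hI₁, Ideal.map_span, Set.image_singleton] at key
    exact key.symm
  refine ⟨V, hV, X.basicOpen g, hU, hxU, hUV, ⟨_, hnzd, hIU⟩, ?_⟩
  letI algAC : Algebra Γ(S, V) Γ(X, X.basicOpen g) := (φ.appLE V (X.basicOpen g) hUV).hom.toAlgebra
  have hcomp : (algebraMap Γ(X, U₁) Γ(X, X.basicOpen g)).comp (algebraMap Γ(S, V) Γ(X, U₁)) =
      algebraMap Γ(S, V) Γ(X, X.basicOpen g) := by
    have := Scheme.Hom.appLE_map φ hU₁V (homOfLE (X.basicOpen_le g)).op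
    exact congrArg (fun ψ => ψ.hom) this
  rw [hcomp] at hfl
  rw [hIU]
  exact (RelCartier.flat_comp_iff (A := Γ(S, V)) (Ideal.Quotient.mk _)
    Ideal.Quotient.mk_surjective _ Ideal.mk_ker).1 hfl

/-- Outside the support the quotient by the ideal is locally trivial, hence flat. -/
theorem exists_chart_of_notMem_support (φ : X ⟶ S) (𝓘 : X.IdealSheafData) (x : X)
    (hx : x ∉ 𝓘.support) :
    ∃ (V : S.Opens) (_ : IsAffineOpen V) (U : X.Opens) (hU : IsAffineOpen U) (_ : x ∈ U)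
      (hUV : U ≤ φ ⁻¹ᵁ V),
      (letI := (φ.appLE V U hUV).hom.toAlgebra
       Module.Flat Γ(S, V) (Γ(X, U) ⧸ 𝓘.ideal ⟨U, hU⟩)) := by
  obtain ⟨V, hV, hsV, -⟩ := TopologicalSpace.Opens.isBasis_iff_nbhd.mp S.isBasis_affineOpens
    (show φ x ∈ (⊤ : S.Opens) from trivial)
  obtain ⟨U₁, hU₁, hxU₁, hle₁⟩ :=
    TopologicalSpace.Opens.isBasis_iff_nbhd.mp X.isBasis_affineOpens
      (show x ∈ φ ⁻¹ᵁ V from hsV)
  have hz : x ∉ X.zeroLocus (U := U₁) (𝓘.ideal ⟨U₁, hU₁⟩) := fun h =>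
    hx ((Scheme.IdealSheafData.mem_support_iff_of_mem (I := 𝓘) (U := ⟨U₁, hU₁⟩) hxU₁).2 h)
  rw [Scheme.mem_zeroLocus_iff] at hz
  push Not at hz
  obtain ⟨f, hfI, hxf⟩ := hz
  have hU : IsAffineOpen (X.basicOpen f) := hU₁.basicOpen f
  refine ⟨V, hV, X.basicOpen f, hU, hxf, (X.basicOpen_le f).trans hle₁, ?_⟩
  have htop : 𝓘.ideal ⟨X.basicOpen f, hU⟩ = ⊤ := by
    have key := 𝓘.map_ideal_basicOpen ⟨U₁, hU₁⟩ f
    have h1 : 𝓘.ideal ⟨X.basicOpen f, hU⟩ = 𝓘.ideal (X.affineBasicOpen (U := ⟨U₁, hU₁⟩) f) := rfl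
    rw [h1, ← key]
    exact Ideal.eq_top_of_isUnit_mem _ (Ideal.mem_map_of_mem _ hfI)
      (X.toRingedSpace.isUnit_res_basicOpen f)
  rw [htop]
  letI := (φ.appLE V (X.basicOpen f) ((X.basicOpen_le f).trans hle₁)).hom.toAlgebra
  haveI : Subsingleton (Γ(X, X.basicOpen f) ⧸ (⊤ : Ideal Γ(X, X.basicOpen f))) :=
    Submodule.Quotient.subsingleton_iff.mpr rfl
  infer_instance

/-- **Fibrewise criterion for relative effective Cartier divisors** (locally principal form). -/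
theorem isEffCartier_and_flat_of_locPrincipal (𝓘 : X.IdealSheafData)
    (hZ : Curv2.IsLocPrincipal 𝓘)
    (hfib : ∀ s : S, BlowUp.IsEffCartierIdeal (𝓘.comap (φ.fiberι s))) :
    BlowUp.IsEffCartierIdeal 𝓘 ∧ Flat (𝓘.subschemeι ≫ φ) := by
  constructor
  · intro x
    by_cases hx : x ∈ 𝓘.support
    · obtain ⟨U₀, hxU₀, h₀, hI₀⟩ := hZ x hx
      obtain ⟨V, hV, U, hU, hxU, hUV, ⟨h, hnzd, hI⟩, -⟩ :=
        exists_chart_of_fibres φ 𝓘 hfib x U₀.2 hxU₀ h₀ hI₀ hx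
      exact ⟨⟨U, hU⟩, hxU, h, hnzd, hI⟩
    · exact Groth.Agent.R2.H48.CartierChart.isEffCartierAt_of_notMem_support 𝓘 x hx
  · apply RelCartier.flat_of_local
    intro x
    by_cases hx : x ∈ 𝓘.support
    · obtain ⟨U₀, hxU₀, h₀, hI₀⟩ := hZ x hx
      obtain ⟨V, hV, U, hU, hxU, hUV, -, hfl⟩ :=
        exists_chart_of_fibres φ 𝓘 hfib x U₀.2 hxU₀ h₀ hI₀ hx
      exact ⟨V, hV, U, hU, hxU, hUV, hfl⟩
    · exact exists_chart_of_notMem_support φ 𝓘 x hx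

end Core

end Groth.Agent.R2.H40.FibCartier
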