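import Groth.Agent.R2.H40RelReg
import Groth.Agent.R2.H23TransReg
import Groth.Agent.Lib.Helper2StalkFlat

/-!
# Flatness of the ambient scheme along a relative quasi-regular immersion (helper40)

* `flat_of_flat_quot_pow` : `S` Noetherian `R`-algebra, `I ≤ rad S`, all `S ⧸ I ^ n` flat over `R`
  ⟹ `S` flat over `R` (Krull intersection; no finiteness on `R`).
* `flat_quotient_map_of_isLocalization` : localizations of `A`-flat quotients `B ⧸ K` are `A`-flat.
* `flat_of_isQuasiRegular_of_flat_quotient` : `B'` Noetherian local localization of `B`,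
  `f` quasi-regular in `B` with `B ⧸ (f)` flat over `A`, `f ⊆ 𝔪_{B'}` ⟹ `B'` flat over `A`.
* `flat_stalkMap_of_isRelRegularImmersion_quasi` : the scheme statement.
-/

set_option autoImplicit false
set_option linter.style.haveILetI false
universe u
open CategoryTheory CategoryTheory.Limits AlgebraicGeometry TopologicalSpace

namespace Groth.Agent.R2.H40.RelFlat

open Groth.Agent.R2.H40.RegBC Groth.Agent.R2.H40.RelRegAlg Groth.Agent.R2.H40.RelReg

section Ring

open TensorProduct

/-- If `S ⧸ K` is flat over `R`, every element of the kernel of `S ⊗ 𝔞 → S ⊗ R` lies in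
`K • (S ⊗ 𝔞)`. -/
theorem mem_smul_top_of_lTensor_eq_zero {R S : Type u} [CommRing R] [CommRing S] [Algebra R S]
    (K : Ideal S) [Module.Flat R (S ⧸ K)] (𝔞 : Ideal R) (x : S ⊗[R] 𝔞)
    (hx : LinearMap.lTensor S 𝔞.subtype x = 0) :
    x ∈ (K • ⊤ : Submodule S (S ⊗[R] 𝔞)) := by
  let q : S →ₗ[R] S ⧸ K := (Submodule.mkQ K).restrictScalars R
  let ι : ↥K →ₗ[R] S := (Submodule.subtype K).restrictScalars R
  have hex : Function.Exact ι q := LinearMap.exact_subtype_mkQ K
  have hq : Function.Surjective q := Submodule.mkQ_surjective _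
  have h1 : (LinearMap.lTensor (S ⧸ K) 𝔞.subtype) (LinearMap.rTensor 𝔞 q x) = 0 := by
    rw [← LinearMap.comp_apply, LinearMap.lTensor_comp_rTensor,
      ← LinearMap.rTensor_comp_lTensor, LinearMap.comp_apply, hx, map_zero]
  have h2 : LinearMap.rTensor 𝔞 q x = 0 := by
    have hinj := Module.Flat.lTensor_preserves_injective_linearMap (M := S ⧸ K) 𝔞.subtype
      Subtype.val_injective
    exact hinj (by rw [h1, map_zero])
  have hrange : ∀ y : ↥K ⊗[R] 𝔞,
      LinearMap.rTensor 𝔞 ι y ∈ (K • ⊤ : Submodule S (S ⊗[R] 𝔞)) := by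
    intro y
    induction y using TensorProduct.induction_on with
    | zero => simp
    | tmul a m =>
      have : LinearMap.rTensor 𝔞 ι (a ⊗ₜ m) = (a : S) • ((1 : S) ⊗ₜ[R] m) := by
        rw [LinearMap.rTensor_tmul, TensorProduct.smul_tmul', smul_eq_mul, mul_one]
        rfl
      rw [this]
      exact Submodule.smul_mem_smul a.2 Submodule.mem_top
    | add y₁ y₂ h₁ h₂ =>
      rw [map_add]
      exact Submodule.add_mem _ h₁ h₂
  obtain ⟨y, hy⟩ := (rTensor_exact 𝔞 hex hq x).1 h2
  rw [← hy]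
  exact hrange y

/-- Let `S` be a Noetherian `R`-algebra and `I` an ideal of `S` contained in the Jacobson radical.
If all `S ⧸ I ^ n` are flat over `R`, then `S` is flat over `R`. -/
theorem flat_of_flat_quot_pow {R S : Type u} [CommRing R] [CommRing S] [Algebra R S]
    [IsNoetherianRing S] (I : Ideal S) (hI : I ≤ Ideal.jacobson ⊥)
    (h : ∀ n : ℕ, Module.Flat R (S ⧸ I ^ n)) : Module.Flat R S := by
  rw [Module.Flat.iff_lTensor_injective]
  intro 𝔞 hfg
  rw [injective_iff_map_eq_zero]
  intro x hx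
  haveI : Module.Finite R 𝔞 := Module.Finite.iff_fg.mpr hfg
  have hK := Ideal.iInf_pow_smul_eq_bot_of_le_jacobson (M := S ⊗[R] 𝔞) I hI
  have hmem : x ∈ (⨅ i : ℕ, I ^ i • ⊤ : Submodule S (S ⊗[R] 𝔞)) := by
    rw [Submodule.mem_iInf]
    intro n
    haveI := h n
    exact mem_smul_top_of_lTensor_eq_zero (I ^ n) 𝔞 x hx
  rw [hK] at hmem
  exact (Submodule.mem_bot _).1 hmem

variable {A B B' : Type u} [CommRing A] [CommRing B] [CommRing B'] [Algebra A B] [Algebra B B']
  [Algebra A B'] [IsScalarTower A B B']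

/-- Localizations of `A`-flat quotients of `B` are `A`-flat. -/
theorem flat_quotient_map_of_isLocalization (T : Submonoid B) [IsLocalization T B'] (K : Ideal B)
    [Module.Flat A (B ⧸ K)] : Module.Flat A (B' ⧸ K.map (algebraMap B B')) := by
  have key : ∀ (K' : Ideal B'),
      Submodule.localized' B' T (Algebra.linearMap B B') K = K' → Module.Flat A (B' ⧸ K') := by
    intro K' h
    subst h
    exact Groth.Agent.Lib.Helper2.FlatOver.flat_of_isLocalizedModule_tower (R := A) T
      (Submodule.toLocalizedQuotient' B' T (Algebra.linearMap B B') K)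
  exact key _ (Ideal.localized'_eq_map B' T K)

/-- **Ring-level form.**  `B'` a Noetherian local localization of `B`; `f` a quasi-regular sequence in
`B` with `B ⧸ (f)` flat over `A`, whose members land in the maximal ideal of `B'`.  Then `B'` is flat
over `A`. -/
theorem flat_of_isQuasiRegular_of_flat_quotient (T : Submonoid B) [IsLocalization T B']
    [IsNoetherianRing B'] [IsLocalRing B'] {c : ℕ} (f : Fin c → B)
    (hqr : CAlgX.IsQuasiRegular f) [Module.Flat A (B ⧸ Ideal.span (Set.range f))]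
    (hmax : ∀ j, algebraMap B B' (f j) ∈ IsLocalRing.maximalIdeal B') : Module.Flat A B' := by
  set J : Ideal B := Ideal.span (Set.range f) with hJ
  have hI : J.map (algebraMap B B') ≤ Ideal.jacobson ⊥ := by
    refine le_trans ?_ (IsLocalRing.maximalIdeal_le_jacobson _)
    rw [Ideal.map_le_iff_le_comap, hJ, Ideal.span_le]
    rintro _ ⟨j, rfl⟩
    exact hmax j
  refine flat_of_flat_quot_pow (J.map (algebraMap B B')) hI (fun n => ?_)
  rw [← Ideal.map_pow]
  haveI : Module.Flat A (B ⧸ J ^ n) := Groth.Agent.R2.H23.TransReg.flat_quot_pow f hqr n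
  exact flat_quotient_map_of_isLocalization T (J ^ n)

end Ring

section Sch

open Groth.Agent.Lib.Helper2

variable {Z X S : Scheme.{u}}

/-- Sections vanishing on `Z` have germs in the maximal ideal at the points of `Z`. -/
theorem germ_mem_maximalIdeal_of_mem_ker (i : Z ⟶ X) {U : X.Opens} (z : Z) (hz : i z ∈ U)
    (r : Γ(X, U)) (hr : r ∈ RingHom.ker (i.app U).hom) :
    X.presheaf.germ U (i z) hz r ∈ IsLocalRing.maximalIdeal (X.presheaf.stalk (i z)) := by
  rw [IsLocalRing.mem_maximalIdeal, mem_nonunits_iff]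
  intro hu
  have h1 : (i.stalkMap z).hom (X.presheaf.germ U (i z) hz r) =
      Z.presheaf.germ (i ⁻¹ᵁ U) z hz ((i.app U).hom r) :=
    Scheme.Hom.germ_stalkMap_apply i U z hz r
  rw [RingHom.mem_ker.1 hr, map_zero] at h1
  have h2 := hu.map (i.stalkMap z).hom
  rw [h1] at h2
  exact not_isUnit_zero h2

/-- **Flatness along a relative quasi-regular immersion.**  If `i : Z ⟶ X` is a quasi-regular
immersion with `Z` flat over `S` and `O_{X, i z}` is Noetherian, then `f : X ⟶ S` is flat at `i z`. -/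
theorem flat_stalkMap_of_isRelRegularImmersion_quasi (f : X ⟶ S) (i : Z ⟶ X)
    (hi : RegImm.IsRelRegularImmersion RegImm.Kind.quasi f i) (z : Z)
    [IsNoetherianRing (X.presheaf.stalk (i z))] : (f.stalkMap (i z)).hom.Flat := by
  obtain ⟨⟨himm, hat⟩, hflat⟩ := hi
  haveI := hflat
  obtain ⟨V, hV, hsV, -⟩ := TopologicalSpace.Opens.isBasis_iff_nbhd.mp S.isBasis_affineOpens
    (show f (i z) ∈ (⊤ : S.Opens) from trivial)
  obtain ⟨U, hU, hUV, hzU, hcl, rs, hrs, hker⟩ :=
    exists_affine_le_of_isRegularImmersionAt RegImm.Kind.quasi (hat z) (f ⁻¹ᵁ V) hsV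
  haveI := hcl
  have hfl := flat_quotient_of_flat_comp f i hV hU hUV rs hker
  letI algAB : Algebra Γ(S, V) Γ(X, U) := (f.appLE V U hUV).hom.toAlgebra
  letI algBB' : Algebra Γ(X, U) (X.presheaf.stalk (i z)) :=
    X.presheaf.algebra_section_stalk ⟨i z, hzU⟩
  haveI locB' := hU.isLocalization_stalk ⟨i z, hzU⟩
  letI algAB' : Algebra Γ(S, V) (X.presheaf.stalk (i z)) :=
    ((algebraMap Γ(X, U) (X.presheaf.stalk (i z))).comp (algebraMap Γ(S, V) Γ(X, U))).toAlgebra
  haveI : IsScalarTower Γ(S, V) Γ(X, U) (X.presheaf.stalk (i z)) :=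
    IsScalarTower.of_algebraMap_eq (fun _ => rfl)
  haveI : Module.Flat Γ(S, V) (Γ(X, U) ⧸ Ideal.span (Set.range rs.get)) := hfl
  have hrs' : CAlgX.IsQuasiRegular rs.get := hrs
  have q3 : Module.Flat Γ(S, V) (X.presheaf.stalk (i z)) :=
    flat_of_isQuasiRegular_of_flat_quotient (hU.primeIdealOf ⟨i z, hzU⟩).asIdeal.primeCompl rs.get
      hrs' (fun j => germ_mem_maximalIdeal_of_mem_ker i z hzU _ (by
        rw [hker]
        exact Ideal.subset_span (List.get_mem rs j)))
  letI := S.presheaf.algebra_section_stalk ⟨f (i z), hUV hzU⟩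
  haveI := hV.isLocalization_stalk ⟨f (i z), hUV hzU⟩
  letI := (f.stalkMap (i z)).hom.toAlgebra
  haveI : IsScalarTower Γ(S, V) (S.presheaf.stalk (f (i z))) (X.presheaf.stalk (i z)) := by
    refine IsScalarTower.of_algebraMap_eq (fun r => ?_)
    exact (FlatOver.stalkMap_germ_eq f hUV (i z) hzU r).symm
  exact (Module.flat_iff_of_isLocalization (S.presheaf.stalk (f (i z)))
    (hV.primeIdealOf ⟨f (i z), hUV hzU⟩).asIdeal.primeCompl (X.presheaf.stalk (i z))).2 q3

end Sch

end Groth.Agent.R2.H40.RelFlat
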