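import Groth.Agent.R2.H40FibCartier
import Groth.Agent.R2.H40RelFlat

/-!
# Fibrewise criterion for relative effective Cartier divisors, flat lfp form (helper40)

`φ : X ⟶ S` flat and locally of finite presentation, `𝓘` a quasi-coherent ideal sheaf whose closed
subscheme is flat and locally of finite presentation over `S`, and whose inverse images on all
fibres are effective Cartier.  Then `𝓘` is locally principal (Nakayama + flatness), hence effective
Cartier by `FibCartier.isEffCartier_and_flat_of_locPrincipal`.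
-/

set_option autoImplicit false
set_option linter.style.haveILetI false
universe u
open CategoryTheory CategoryTheory.Limits AlgebraicGeometry TopologicalSpace

namespace Groth.Agent.R2.H40.FibCartier2

open Groth.Agent.Lib.Helper5.FiberStalk Groth.Agent.Lib.Helper2
open Groth.Agent.R2.H40.FibCartier Groth.Agent.R2.H40.RelRegAlg Groth.Agent.R2.H40.RelFlat

section Ring

/-- In a local ring, if the extension of `I` is principal generated by a nonzerodivisor, a
generator can be found in the image of `I`. -/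
theorem exists_mem_span_eq_of_map_eq_span {B O' : Type*} [CommRing B] [CommRing O']
    [IsLocalRing O'] (G : B →+* O') (I : Ideal B) (a : O') (ha : a ∈ nonZeroDivisors O')
    (hI : I.map G = Ideal.span {a}) : ∃ h ∈ I, Ideal.span {G h} = Ideal.span {a} := by
  by_contra hcon
  push Not at hcon
  have hle : I.map G ≤ IsLocalRing.maximalIdeal O' * Ideal.span {a} := by
    rw [Ideal.map_le_iff_le_comap]
    intro y hy
    rw [Ideal.mem_comap]
    have h1 : G y ∈ Ideal.span {a} := hI ▸ Ideal.mem_map_of_mem G hy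
    obtain ⟨s, hs⟩ := Ideal.mem_span_singleton'.mp h1
    have hsm : s ∈ IsLocalRing.maximalIdeal O' := by
      rw [IsLocalRing.mem_maximalIdeal, mem_nonunits_iff]
      intro hu
      apply hcon y hy
      rw [← hs]
      exact Ideal.span_singleton_mul_left_unit hu a
    rw [← hs]
    exact Ideal.mul_mem_mul hsm (Ideal.mem_span_singleton_self a)
  have h2 : a ∈ IsLocalRing.maximalIdeal O' * Ideal.span {a} :=
    hle (hI ▸ Ideal.mem_span_singleton_self a)
  obtain ⟨m, hm, hma⟩ := Ideal.mem_mul_span_singleton.mp h2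
  have h3 : (1 - m) * a = 0 := by rw [sub_mul, one_mul, hma, sub_self]
  have h4 : 1 - m = 0 := (mem_nonZeroDivisors_iff_right.mp ha) _ h3
  have h5 : m = 1 := (sub_eq_zero.mp h4).symm
  rw [h5] at hm
  exact (IsLocalRing.notMem_maximalIdeal.2 isUnit_one) hm

/-- Nakayama + flatness: if `O ⧸ J` is flat over `A`, `J` is finitely generated, `𝔞 O` lies in the
radical and `J ⊆ (h) + 𝔞 O` with `h ∈ J`, then `J = (h)`. -/
theorem eq_span_of_le_sup_map {A O : Type*} [CommRing A] [CommRing O] [Algebra A O]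
    (𝔞 : Ideal A) (h𝔞 : 𝔞.map (algebraMap A O) ≤ Ideal.jacobson ⊥) (J : Ideal O) (hJ : J.FG)
    [Module.Flat A (O ⧸ J)] (h : O) (hh : h ∈ J)
    (hle : J ≤ Ideal.span {h} ⊔ 𝔞.map (algebraMap A O)) : J = Ideal.span {h} := by
  refine le_antisymm ?_ ((Ideal.span_singleton_le_iff_mem _).2 hh)
  refine Submodule.le_of_le_smul_of_le_jacobson_bot hJ h𝔞 ?_
  intro y hy
  obtain ⟨u, hu, n, hn, hun⟩ := Submodule.mem_sup.mp (hle hy)
  have hnJ : n ∈ J := by
    have : n = y - u := by rw [← hun]; ring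
    rw [this]
    exact J.sub_mem hy ((Ideal.span_singleton_le_iff_mem _).2 hh hu)
  have h1 := mem_mul_of_mem_inter J 𝔞 n hnJ hn
  rw [← hun]
  exact Submodule.add_mem_sup hu (by rwa [Ideal.smul_eq_mul])

/-- Spreading out a principal generator from the local ring at a prime to a basic open. -/
theorem exists_away_map_eq_span {B O : Type u} [CommRing B] (q : Ideal B) [q.IsPrime]
    [CommRing O] [Algebra B O] [IsLocalization.AtPrime O q] (I : Ideal B) (hI : I.FG) (h : B)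
    (hh : h ∈ I) (hle : I.map (algebraMap B O) ≤ Ideal.span {algebraMap B O h}) :
    ∃ g ∉ q, ∀ (B' : Type u) [CommRing B'] [Algebra B B'] [IsLocalization.Away g B'],
      I.map (algebraMap B B') = Ideal.span {algebraMap B B' h} := by
  classical
  obtain ⟨s, rfl⟩ := hI
  have key : ∀ y ∈ s, ∃ t ∉ q, t * y ∈ Ideal.span {h} := by
    intro y hy
    have h1 : algebraMap B O y ∈ (Ideal.span {h}).map (algebraMap B O) := by
      rw [Ideal.map_span, Set.image_singleton]
      exact hle (Ideal.mem_map_of_mem _ (Ideal.subset_span hy))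
    obtain ⟨m, hm, hmy⟩ :=
      (IsLocalization.algebraMap_mem_map_algebraMap_iff q.primeCompl O _ _).1 h1
    exact ⟨m, hm, hmy⟩
  choose! t ht1 ht2 using key
  refine ⟨∏ y ∈ s, t y, ?_, ?_⟩
  · rw [Ideal.IsPrime.prod_mem_iff]
    rintro ⟨y, hy, hty⟩
    exact ht1 y hy hty
  · intro B' _ _ _
    refine le_antisymm ?_ ((Ideal.span_singleton_le_iff_mem _).2 (Ideal.mem_map_of_mem _ hh))
    rw [Ideal.map_span, Ideal.span_le]
    rintro _ ⟨y, hy, rfl⟩
    have hunit : IsUnit (algebraMap B B' (t y)) :=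
      isUnit_of_dvd_unit ((algebraMap B B').map_dvd (Finset.dvd_prod_of_mem t hy))
        (IsLocalization.Away.algebraMap_isUnit (∏ y ∈ s, t y))
    have h2 : algebraMap B B' (t y * y) ∈ Ideal.span {algebraMap B B' h} := by
      have := Ideal.mem_map_of_mem (algebraMap B B') (ht2 y hy)
      rwa [Ideal.map_span, Set.image_singleton] at this
    rw [map_mul] at h2
    exact (Ideal.unit_mul_mem_iff_mem _ hunit).1 h2

end Ring

section Scheme

open Groth.Agent.Lib.Helper20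

variable {X S : Scheme.{u}} (φ : X ⟶ S)

/-- `m_{φ x} O_{X,x}` is the extension of the prime of `φ x` on an affine chart. -/
theorem fibIdeal_eq_map {V : S.Opens} (hV : IsAffineOpen V) {U : X.Opens}
    (hUV : U ≤ φ ⁻¹ᵁ V) (x : X) (hxU : x ∈ U) :
    fibIdeal φ x = (((hV.primeIdealOf ⟨φ x, hUV hxU⟩).asIdeal).map (φ.appLE V U hUV).hom).map
      (X.presheaf.germ U x hxU).hom := by
  have hsV : φ x ∈ V := hUV hxU
  set p' : Ideal Γ(S, V) := (hV.primeIdealOf ⟨φ x, hsV⟩).asIdeal with hp'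
  letI algAO : Algebra Γ(S, V) (S.presheaf.stalk (φ x)) :=
    S.presheaf.algebra_section_stalk ⟨φ x, hsV⟩
  haveI locA : IsLocalization.AtPrime (S.presheaf.stalk (φ x)) p' :=
    hV.isLocalization_stalk ⟨φ x, hsV⟩
  have hgS : ∀ a : Γ(S, V), algebraMap Γ(S, V) (S.presheaf.stalk (φ x)) a =
      S.presheaf.germ V (φ x) hsV a := fun a => rfl
  unfold fibIdeal
  rw [← IsLocalization.AtPrime.map_eq_maximalIdeal p' (S.presheaf.stalk (φ x)), Ideal.map_map,
    Ideal.map_map]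
  congr 1
  ext a
  simp only [RingHom.comp_apply, hgS]
  exact FlatOver.stalkMap_germ_eq φ hUV x hxU a

/-- The ideal of a closed subscheme locally of finite presentation over the base, inside a scheme
locally of finite presentation over the base, is finitely generated on affine charts. -/
theorem ideal_fg [LocallyOfFinitePresentation φ] (𝓘 : X.IdealSheafData)
    [LocallyOfFinitePresentation (𝓘.subschemeι ≫ φ)]
    {V : S.Opens} (hV : IsAffineOpen V) {U : X.Opens} (hU : IsAffineOpen U)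
    (hUV : U ≤ φ ⁻¹ᵁ V) : (𝓘.ideal ⟨U, hU⟩).FG := by
  have hT : IsAffineOpen (𝓘.subschemeι ⁻¹ᵁ U) := hU.preimage 𝓘.subschemeι
  have hTV : 𝓘.subschemeι ⁻¹ᵁ U ≤ (𝓘.subschemeι ≫ φ) ⁻¹ᵁ V := fun t ht => hUV ht
  have hfac : (𝓘.subschemeι ≫ φ).appLE V (𝓘.subschemeι ⁻¹ᵁ U) hTV =
      φ.appLE V U hUV ≫ 𝓘.subschemeι.app U := by
    rw [← Scheme.Hom.appLE_eq_app, Scheme.Hom.appLE_comp_appLE]
  letI algAB : Algebra Γ(S, V) Γ(X, U) := (φ.appLE V U hUV).hom.toAlgebra
  letI algAC : Algebra Γ(S, V) Γ(𝓘.subscheme, 𝓘.subschemeι ⁻¹ᵁ U) :=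
    ((𝓘.subschemeι ≫ φ).appLE V (𝓘.subschemeι ⁻¹ᵁ U) hTV).hom.toAlgebra
  haveI : Algebra.FinitePresentation Γ(S, V) Γ(X, U) :=
    Scheme.Hom.finitePresentation_appLE φ hV hU hUV
  haveI : Algebra.FinitePresentation Γ(S, V) Γ(𝓘.subscheme, 𝓘.subschemeι ⁻¹ᵁ U) :=
    Scheme.Hom.finitePresentation_appLE (𝓘.subschemeι ≫ φ) hV hT hTV
  let f : Γ(X, U) →ₐ[Γ(S, V)] Γ(𝓘.subscheme, 𝓘.subschemeι ⁻¹ᵁ U) :=
    { (𝓘.subschemeι.app U).hom with
      commutes' := fun a => by
        change (𝓘.subschemeι.app U).hom ((φ.appLE V U hUV).hom a) =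
          ((𝓘.subschemeι ≫ φ).appLE V (𝓘.subschemeι ⁻¹ᵁ U) hTV).hom a
        rw [hfac]
        rfl }
  have hfg := Algebra.FinitePresentation.ker_fG_of_surjective f
    (𝓘.subschemeι_app_surjective ⟨U, hU⟩)
  rw [← 𝓘.ker_subschemeι_app ⟨U, hU⟩]
  exact hfg

end Scheme

section Main

open Groth.Agent.Lib.Helper20

variable {X S : Scheme.{u}} (φ : X ⟶ S) [Flat φ] [LocallyOfFinitePresentation φ]

omit [Flat φ] in
/-- **Local principality from the fibres.**  If `V(𝓘)` is flat and locally of finite presentation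
over `S` and the inverse images of `𝓘` on the fibres are effective Cartier, then `𝓘` is locally
principal. -/
theorem isLocPrincipal_of_fibres (𝓘 : X.IdealSheafData) [Flat (𝓘.subschemeι ≫ φ)]
    [LocallyOfFinitePresentation (𝓘.subschemeι ≫ φ)]
    (hfib : ∀ s : S, BlowUp.IsEffCartierIdeal (𝓘.comap (φ.fiberι s))) :
    Curv2.IsLocPrincipal 𝓘 := by
  intro x hxs
  obtain ⟨V, hV, hsV, -⟩ := TopologicalSpace.Opens.isBasis_iff_nbhd.mp S.isBasis_affineOpens
    (show φ x ∈ (⊤ : S.Opens) from trivial)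
  obtain ⟨U, hU, hxU, hUV⟩ := TopologicalSpace.Opens.isBasis_iff_nbhd.mp X.isBasis_affineOpens
    (show x ∈ φ ⁻¹ᵁ V from hsV)
  letI algAB : Algebra Γ(S, V) Γ(X, U) := (φ.appLE V U hUV).hom.toAlgebra
  set I : Ideal Γ(X, U) := 𝓘.ideal ⟨U, hU⟩ with hI
  haveI flQ : Module.Flat Γ(S, V) (Γ(X, U) ⧸ I) := RelCartier.flat_quotient_of_flat φ 𝓘 hV hU hUV
  have hIfg : I.FG := ideal_fg φ 𝓘 hV hU hUV
  set q : Ideal Γ(X, U) := (hU.primeIdealOf ⟨x, hxU⟩).asIdeal with hq
  haveI : q.IsPrime := (hU.primeIdealOf ⟨x, hxU⟩).isPrime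
  letI algBO : Algebra Γ(X, U) (X.presheaf.stalk x) := X.presheaf.algebra_section_stalk ⟨x, hxU⟩
  haveI locO : IsLocalization.AtPrime (X.presheaf.stalk x) q := hU.isLocalization_stalk ⟨x, hxU⟩
  letI algAO : Algebra Γ(S, V) (X.presheaf.stalk x) :=
    ((algebraMap Γ(X, U) (X.presheaf.stalk x)).comp (algebraMap Γ(S, V) Γ(X, U))).toAlgebra
  haveI : IsScalarTower Γ(S, V) Γ(X, U) (X.presheaf.stalk x) :=
    IsScalarTower.of_algebraMap_eq (fun a => rfl)
  have hgX : ∀ b : Γ(X, U), algebraMap Γ(X, U) (X.presheaf.stalk x) b =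
      X.presheaf.germ U x hxU b := fun b => rfl
  set J : Ideal (X.presheaf.stalk x) := I.map (algebraMap Γ(X, U) (X.presheaf.stalk x)) with hJ
  haveI flJ : Module.Flat Γ(S, V) (X.presheaf.stalk x ⧸ J) :=
    flat_quotient_map_of_isLocalization q.primeCompl I
  -- the fibre ideal
  set p' : Ideal Γ(S, V) := (hV.primeIdealOf ⟨φ x, hUV hxU⟩).asIdeal with hp'
  have hfibeq : fibIdeal φ x = p'.map (algebraMap Γ(S, V) (X.presheaf.stalk x)) := by
    rw [fibIdeal_eq_map φ hV hUV x hxU, Ideal.map_map]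
    rfl
  -- the fibre
  set ι := φ.fiberι (φ x) with hι
  set z₀ := toFiber φ x (IsLocalRing.closedPoint (Q φ x)) with hz₀
  have hz₀U : z₀ ∈ ι ⁻¹ᵁ U := by
    change ι z₀ ∈ U
    rw [hι, hz₀, fiberι_toFiber_closedPoint]
    exact hxU
  obtain ⟨W₁, hW₁, hz₀W₁, hW₁le, h', hh', hIW₁⟩ :=
    EffCartier.exists_le_of_isEffCartierIdeal (hfib (φ x)) z₀ (ι ⁻¹ᵁ U) hz₀U
  have key := Groth.Agent.Lib.Helper22.IdealComap.ideal_comap_eq_map ι 𝓘 ⟨W₁, hW₁⟩
    ⟨U, hU⟩ hW₁le
  rw [hIW₁] at key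
  letI algWO : Algebra Γ(φ.fiber (φ x), W₁) ((φ.fiber (φ x)).presheaf.stalk z₀) :=
    (φ.fiber (φ x)).presheaf.algebra_section_stalk ⟨z₀, hz₀W₁⟩
  haveI locW : IsLocalization.AtPrime ((φ.fiber (φ x)).presheaf.stalk z₀)
      (hW₁.primeIdealOf ⟨z₀, hz₀W₁⟩).asIdeal := hW₁.isLocalization_stalk ⟨z₀, hz₀W₁⟩
  have hGnzd : (φ.fiber (φ x)).presheaf.germ W₁ z₀ hz₀W₁ h' ∈
      nonZeroDivisors ((φ.fiber (φ x)).presheaf.stalk z₀) :=
    IsLocalization.map_nonZeroDivisors_le (hW₁.primeIdealOf ⟨z₀, hz₀W₁⟩).asIdeal.primeCompl _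
      (Submonoid.mem_map_of_mem _ hh')
  set G : Γ(X, U) →+* (φ.fiber (φ x)).presheaf.stalk z₀ :=
    ((φ.fiber (φ x)).presheaf.germ W₁ z₀ hz₀W₁).hom.comp (ι.appLE U W₁ hW₁le).hom with hG
  have hIG : I.map G = Ideal.span {(φ.fiber (φ x)).presheaf.germ W₁ z₀ hz₀W₁ h'} := by
    rw [hG, ← Ideal.map_map, ← key, Ideal.map_span, Set.image_singleton]
  obtain ⟨h, hhI, hspan⟩ := exists_mem_span_eq_of_map_eq_span G I _ hGnzd hIG
  have hgerm : ∀ t : Γ(X, U), G t =
      (φ.fiber (φ x)).presheaf.germ (ι ⁻¹ᵁ U) z₀ hz₀U ((ι.app U).hom t) := by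
    intro t
    simp only [hG, RingHom.comp_apply, Scheme.Hom.appLE, CommRingCat.hom_comp]
    exact (φ.fiber (φ x)).presheaf.germ_res_apply (homOfLE hW₁le) z₀ hz₀W₁ _
  have hσ : ∀ t : Γ(X, U), (Scheme.stalkClosedPointTo (toFiber φ x)).hom (G t) =
      Ideal.Quotient.mk (fibIdeal φ x) (X.presheaf.germ U x hxU t) := by
    intro t
    rw [hgerm t]
    exact stalkClosedPointTo_toFiber_germ φ x U hxU t hz₀U
  -- `J ⊆ (h) + m_s O`
  have hJle : J ≤ Ideal.span {algebraMap Γ(X, U) (X.presheaf.stalk x) h} ⊔ fibIdeal φ x := by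
    rw [hJ, Ideal.map_le_iff_le_comap]
    intro y hy
    rw [Ideal.mem_comap]
    have h1 : G y ∈ Ideal.span {G h} := by
      rw [hspan, ← hIG]
      exact Ideal.mem_map_of_mem G hy
    obtain ⟨r', hr'⟩ := Ideal.mem_span_singleton'.mp h1
    obtain ⟨r, hr⟩ := Ideal.Quotient.mk_surjective
      ((Scheme.stalkClosedPointTo (toFiber φ x)).hom r')
    have h2 : Ideal.Quotient.mk (fibIdeal φ x)
        (X.presheaf.germ U x hxU y - r * X.presheaf.germ U x hxU h) = 0 := by
      rw [map_sub, map_mul, hr, ← hσ, ← hσ, ← map_mul, hr', sub_self]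
    have h3 := Ideal.Quotient.eq_zero_iff_mem.mp h2
    have h4 : algebraMap Γ(X, U) (X.presheaf.stalk x) y =
        r * algebraMap Γ(X, U) (X.presheaf.stalk x) h +
          (X.presheaf.germ U x hxU y - r * X.presheaf.germ U x hxU h) := by
      rw [hgX, hgX]; ring
    rw [h4]
    exact Submodule.add_mem_sup (Ideal.mem_span_singleton'.mpr ⟨r, rfl⟩) h3
  -- Nakayama
  have hJeq : J = Ideal.span {algebraMap Γ(X, U) (X.presheaf.stalk x) h} := by
    refine eq_span_of_le_sup_map p' ?_ J (hIfg.map _) _ (Ideal.mem_map_of_mem _ hhI) ?_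
    · rw [← hfibeq]
      exact (fibIdeal_le φ x).trans (IsLocalRing.maximalIdeal_le_jacobson _)
    · rw [← hfibeq]
      exact hJle
  -- spread out
  obtain ⟨g, hg, H⟩ := exists_away_map_eq_span q I hIfg h hhI (le_of_eq hJeq)
  haveI : IsLocalization.Away g Γ(X, X.basicOpen g) := hU.isLocalization_basicOpen g
  have hIg := H Γ(X, X.basicOpen g)
  have hmemq : ∀ r : Γ(X, U), r ∈ q ↔ ¬ IsUnit (X.presheaf.germ U x hxU r) := by
    intro r
    rw [← IsLocalization.AtPrime.to_map_mem_maximal_iff (X.presheaf.stalk x) q r,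
      IsLocalRing.mem_maximalIdeal, mem_nonunits_iff]
    rfl
  have hxg : x ∈ X.basicOpen g := by
    rw [Scheme.mem_basicOpen X g x hxU]
    by_contra hnu
    exact hg ((hmemq g).2 hnu)
  refine ⟨⟨X.basicOpen g, hU.basicOpen g⟩, hxg, algebraMap Γ(X, U) Γ(X, X.basicOpen g) h, ?_⟩
  have key2 := 𝓘.map_ideal_basicOpen ⟨U, hU⟩ g
  rw [← hIg]
  exact key2.symm

/-- **Fibrewise criterion for relative effective Cartier divisors**: `φ` flat lfp, `V(𝓘)` flat lfp
over `S`, fibres of `𝓘` effective Cartier ⟹ `𝓘` effective Cartier. -/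
theorem isEffCartier_of_flat_lfp_of_fibres (𝓘 : X.IdealSheafData) [Flat (𝓘.subschemeι ≫ φ)]
    [LocallyOfFinitePresentation (𝓘.subschemeι ≫ φ)]
    (hfib : ∀ s : S, BlowUp.IsEffCartierIdeal (𝓘.comap (φ.fiberι s))) :
    BlowUp.IsEffCartierIdeal 𝓘 :=
  (isEffCartier_and_flat_of_locPrincipal φ 𝓘 (isLocPrincipal_of_fibres φ 𝓘 hfib) hfib).1

end Main

end Groth.Agent.R2.H40.FibCartier2
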