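import Mathlib
import Groth.Agent.R2.H6NzdSlice

/-!
# Spreading out flatness over a polynomial ring along a fibrewise nonzerodivisor (helper40)

`exists_away_flat_poly`: `A → C` flat of finite presentation, `q` a prime of `C`, `h' ∈ q` a
nonzerodivisor on the local ring at `q` of the fibre over `q ∩ A` (elementwise form).  Then for some
`g ∉ q`, every localization `C'` of `C` away from a multiple `g * g'` is flat and of finite presentation
over `A[X]` via `X ↦ h'`.  This is the intermediate statement inside helper6's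
`NzdSlice.exists_away_flat_slice_mul` (the proof below follows that proof), made available for
iteration.
-/

set_option autoImplicit false
set_option linter.style.haveILetI false
universe u

open Polynomial TensorProduct
open Groth.Agent.Lib.Helper3.FibCritA Groth.Agent.Lib.Helper3.FibCritD
open Groth.Agent.Lib.Helper3.FlatLoc Groth.Agent.Lib.Helper3.FlatOpen
open Groth.Agent.R2.H42.FibReg Groth.Agent.R2.H6.NzdSlice

namespace Groth.Agent.R2.H40.RegSpread

section SP

variable {A C : Type u} [CommRing A] [CommRing C] [Algebra A C]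
  [Algebra.FinitePresentation A C] [Module.Flat A C]

/-- **Spreading out flatness over `A[X]`** along a fibrewise nonzerodivisor. -/
theorem exists_away_flat_poly (q : Ideal C) [q.IsPrime] (h' : C) (hh' : h' ∈ q)
    (E : ∀ c : C, (∃ t ∉ q, t * (h' * c) ∈ (q.under A).map (algebraMap A C)) →
      ∃ t ∉ q, t * c ∈ (q.under A).map (algebraMap A C)) :
    ∃ g ∉ q, ∀ (g' : C) (C' : Type u) [CommRing C'] [Algebra C C']
      [IsLocalization.Away (g * g') C'],
      ((algebraMap C C').comp ((Polynomial.aeval h' : A[X] →ₐ[A] C) : A[X] →+* C)).Flat ∧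
      ((algebraMap C C').comp
        ((Polynomial.aeval h' : A[X] →ₐ[A] C) : A[X] →+* C)).FinitePresentation := by
  classical
  set p := q.under A with hp
  set κ := p.ResidueField
  -- the prime of the fibre
  obtain ⟨Q, hQprime, hQ⟩ : ∃ Q : Ideal (p.Fiber C), ∃ _ : Q.IsPrime,
      Q.comap (Algebra.TensorProduct.includeRight : C →ₐ[A] p.Fiber C) = q := by
    let q' := PrimeSpectrum.primesOverOrderIsoFiber A C p ⟨q, ⟨inferInstance, ⟨rfl⟩⟩⟩
    refine ⟨q'.asIdeal, q'.isPrime, ?_⟩
    have h := PrimeSpectrum.coe_primesOverOrderIsoFiber_symm_apply p q'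
    rw [← h]
    simp [q']
  have : IsNoetherianRing (p.Fiber C) :=
    Algebra.FiniteType.isNoetherianRing κ (κ ⊗[A] C)
  set t : p.Fiber C := (1 : κ) ⊗ₜ[A] h' with ht
  have ht0 : t ∈ Q := (one_tmul_mem_iff q Q hQ h').mpr hh'
  have hunit : ∀ a : A, a ∉ p → IsUnit (algebraMap A (p.Fiber C) a) := by
    intro a ha
    rw [IsScalarTower.algebraMap_apply A κ (p.Fiber C)]
    apply IsUnit.map
    rw [isUnit_iff_ne_zero, Ne, Ideal.algebraMap_residueField_eq_zero]
    exact ha
  have hreg0 : ∀ d : p.Fiber C, t * d = 0 → ∃ s ∉ Q, s * d = 0 := by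
    intro d hd
    obtain ⟨a, ha, c, hac⟩ := Ideal.Fiber.exists_smul_eq_one_tmul p d
    have h1 : (1 : κ) ⊗ₜ[A] (h' * c) = 0 := by
      have : (1 : κ) ⊗ₜ[A] (h' * c) = t * ((1 : κ) ⊗ₜ[A] c) := by
        rw [ht, Algebra.TensorProduct.tmul_mul_tmul, mul_one]
      rw [this, ← hac, mul_smul_comm, hd, smul_zero]
    obtain ⟨a', ha', hmem⟩ := exists_mul_mem_of_one_tmul_eq_zero p (h' * c) h1
    have ha'q : algebraMap A C a' ∉ q := fun hmem' => ha' hmem'
    obtain ⟨t₂, ht₂, ht₂c⟩ := E c ⟨algebraMap A C a', ha'q, hmem⟩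
    refine ⟨(1 : κ) ⊗ₜ[A] t₂, fun hmem' => ht₂ ((one_tmul_mem_iff q Q hQ t₂).mp hmem'), ?_⟩
    have h2 : (1 : κ) ⊗ₜ[A] (t₂ * c) = 0 := one_tmul_eq_zero_of_mem p _ ht₂c
    have h3 : ((1 : κ) ⊗ₜ[A] t₂) * (a • d) = 0 := by
      rw [hac, Algebra.TensorProduct.tmul_mul_tmul, mul_one, h2]
    rw [mul_smul_comm, Algebra.smul_def] at h3
    exact ((hunit a ha).mul_right_eq_zero).mp h3
  obtain ⟨s, hs, hkill⟩ := exists_kill_torsion (κ := κ) Q t ht0 hreg0
  obtain ⟨a, ha, g₁, hag⟩ := Ideal.Fiber.exists_smul_eq_one_tmul p s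
  have hg₁ : g₁ ∉ q := by
    intro hgq
    have h2 : (1 : κ) ⊗ₜ[A] g₁ ∈ Q := (one_tmul_mem_iff q Q hQ g₁).mpr hgq
    rw [← hag, Algebra.smul_def, Ideal.unit_mul_mem_iff_mem _ (hunit a ha)] at h2
    exact hs h2
  have htf : ∀ h : κ[X], h ≠ 0 → ∀ x : p.Fiber C,
      aeval ((1 : κ) ⊗ₜ[A] h') h * x = 0 → ∃ n : ℕ, ((1 : κ) ⊗ₜ[A] g₁) ^ n * x = 0 := by
    intro h hh x hx
    refine ⟨1, ?_⟩
    rw [pow_one, ← hag, smul_mul_assoc, hkill h hh x hx, smul_zero]
  -- the polynomial algebra structure
  let algXC : Algebra A[X] C := (Polynomial.aeval h' : A[X] →ₐ[A] C).toRingHom.toAlgebra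
  have : IsScalarTower A A[X] C := IsScalarTower.of_algebraMap_eq (fun a => by
    simp [RingHom.algebraMap_toAlgebra])
  have hX : algebraMap A[X] C X = h' := by simp [RingHom.algebraMap_toAlgebra]
  have hX' : algebraMap A[X] (Localization.Away g₁) X =
      algebraMap C (Localization.Away g₁) h' := by
    rw [IsScalarTower.algebraMap_apply A[X] C (Localization.Away g₁), hX]
  have hflatfib := fiberMap_flat_of_torsionFree (A := A) (C := Localization.Away g₁) p
    (algebraMap C (Localization.Away g₁) h') hX' (torsionFree_fiber_away p h' g₁ htf)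
  have h1 : Module.Flat A (LocalizedModule q.primeCompl C) :=
    flat_localizedModule_of_flat q.primeCompl
  have hflq : Module.Flat A[X] (LocalizedModule q.primeCompl C) :=
    flat_of_fiberMap_flat_away (A := A) (B := A[X]) (C := C) p q rfl g₁ hg₁ hflatfib h1
  -- openness
  have hfpXC : Algebra.FinitePresentation A[X] C :=
    Algebra.FinitePresentation.of_restrict_scalars_finitePresentation A A[X] C
  have hopen := isOpen_flatLocus_of_finitePresentation (R := A[X]) (S := C) (M := C)
  have hqmem : (⟨q, inferInstance⟩ : PrimeSpectrum C) ∈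
      {q : PrimeSpectrum C | Module.Flat A[X] (LocalizedModule q.asIdeal.primeCompl C)} := hflq
  obtain ⟨_, ⟨g, rfl⟩, hqg, hsub⟩ :=
    PrimeSpectrum.isTopologicalBasis_basic_opens.exists_subset_of_mem_open hqmem hopen
  refine ⟨g, hqg, ?_⟩
  intro g' C' _ _ _
  have hflC' : Module.Flat A[X] (LocalizedModule (Submonoid.powers (g * g')) C) :=
    flat_localizedModule_powers (g * g') (fun r _ hgr =>
      hsub (show (⟨r, inferInstance⟩ : PrimeSpectrum C) ∈
        (PrimeSpectrum.basicOpen g : Set (PrimeSpectrum C)) from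
          fun hmem => hgr (Ideal.mul_mem_right _ _ hmem)))
  have hθeq : (algebraMap C C').comp ((Polynomial.aeval h' : A[X] →ₐ[A] C) : A[X] →+* C) =
      (algebraMap C C').comp (algebraMap A[X] C) := rfl
  rw [hθeq]
  refine ⟨?_, ?_⟩
  · let θ : A[X] →+* C' := (algebraMap C C').comp (algebraMap A[X] C)
    let : Algebra A[X] C' := θ.toAlgebra
    have : IsScalarTower A[X] C C' := IsScalarTower.of_algebraMap_eq (fun _ => rfl)
    let e : LocalizedModule (Submonoid.powers (g * g')) C ≃ₗ[C] C' :=
      IsLocalizedModule.linearEquiv (Submonoid.powers (g * g'))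
        (LocalizedModule.mkLinearMap (Submonoid.powers (g * g')) C) (Algebra.linearMap C C')
    change Module.Flat A[X] C'
    exact Module.Flat.of_linearEquiv (e.restrictScalars A[X]).symm
  · have hιfp : (algebraMap C C').FinitePresentation :=
      RingHom.finitePresentation_algebraMap.mpr (IsLocalization.Away.finitePresentation (g * g'))
    have hρfp : (algebraMap A[X] C).FinitePresentation :=
      RingHom.finitePresentation_algebraMap.mpr hfpXC
    exact hιfp.comp hρfp

end SP

section NzdAt

variable {C : Type u} [CommRing C]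

/-- `h` is a nonzerodivisor on `(C ⧸ I)_q`, in elementwise form. -/
def NzdAt (q I : Ideal C) (h : C) : Prop :=
  ∀ c : C, (∃ t ∉ q, t * (h * c) ∈ I) → ∃ t ∉ q, t * c ∈ I

theorem NzdAt.congr {q I J : Ideal C} {h : C} (hIJ : I = J) (H : NzdAt q I h) : NzdAt q J h :=
  hIJ ▸ H

variable {C₁ : Type u} [CommRing C₁] [Algebra C C₁]

/-- `NzdAt` passes to a localization away from an element outside `q`. -/
theorem NzdAt.away (g₁ : C) [IsLocalization.Away g₁ C₁] (q : Ideal C) [q.IsPrime] (hg₁ : g₁ ∉ q)
    {I : Ideal C} {h : C} (H : NzdAt q I h) :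
    NzdAt (q.map (algebraMap C C₁)) (I.map (algebraMap C C₁)) (algebraMap C C₁ h) := by
  have hdisj : Disjoint (Submonoid.powers g₁ : Set C) (q : Set C) :=
    (Ideal.disjoint_powers_iff_notMem_of_isPrime g₁).mpr hg₁
  have hcomap : (q.map (algebraMap C C₁)).under C = q :=
    IsLocalization.under_map_of_isPrime_disjoint (Submonoid.powers g₁) C₁ inferInstance hdisj
  have hpow : ∀ m ∈ Submonoid.powers g₁, m ∉ q := fun m hm hmq =>
    Set.disjoint_left.mp hdisj hm hmq
  intro c₁ ⟨t₁, ht₁, hmem⟩
  obtain ⟨c, s, rfl⟩ := IsLocalization.exists_mk'_eq (Submonoid.powers g₁) c₁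
  obtain ⟨t, s', rfl⟩ := IsLocalization.exists_mk'_eq (Submonoid.powers g₁) t₁
  have htq : t ∉ q := by
    intro htq
    apply ht₁
    rw [IsLocalization.mk'_mem_map_algebraMap_iff (Submonoid.powers g₁)]
    exact ⟨1, Submonoid.one_mem _, by rw [one_mul]; exact htq⟩
  -- clear denominators
  have h1 : IsLocalization.mk' C₁ t s' * (algebraMap C C₁ h * IsLocalization.mk' C₁ c s) =
      IsLocalization.mk' C₁ (t * (h * c)) (s' * s) := by
    rw [← IsLocalization.mk'_one (M := Submonoid.powers g₁) C₁ h, ← IsLocalization.mk'_mul,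
      ← IsLocalization.mk'_mul, one_mul]
  rw [h1, IsLocalization.mk'_mem_map_algebraMap_iff (Submonoid.powers g₁)] at hmem
  obtain ⟨m, hm, hmI⟩ := hmem
  obtain ⟨t', ht', ht'I⟩ := H c ⟨m * t, fun hmt =>
    (Ideal.IsPrime.mem_or_mem inferInstance hmt).elim (hpow m hm) htq, by
      rw [mul_assoc]; exact hmI⟩
  refine ⟨algebraMap C C₁ t', fun hmem' => ht' ?_, ?_⟩
  · rw [← hcomap]
    exact hmem'
  · have h2 : algebraMap C C₁ t' * IsLocalization.mk' C₁ c s = IsLocalization.mk' C₁ (t' * c) s := by
      rw [← IsLocalization.mk'_one (M := Submonoid.powers g₁) C₁ t', ← IsLocalization.mk'_mul,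
        one_mul]
    rw [h2, IsLocalization.mk'_mem_map_algebraMap_iff (Submonoid.powers g₁)]
    exact ⟨1, Submonoid.one_mem _, by rw [one_mul]; exact ht'I⟩

end NzdAt

section Under

variable {A C : Type u} [CommRing A] [CommRing C] [Algebra A C]

/-- The extension to `C` of the contraction of `q` to `A[X]` (`X ↦ h ∈ q`) is generated by the extension
of the contraction to `A` and `h`. -/
theorem map_under_polynomial [Algebra A[X] C] [IsScalarTower A A[X] C] (h : C)
    (hX : algebraMap A[X] C X = h) (q : Ideal C) [q.IsPrime] (hq : h ∈ q) :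
    (q.under A[X]).map (algebraMap A[X] C) =
      (q.under A).map (algebraMap A C) ⊔ Ideal.span {h} := by
  apply le_antisymm
  · rw [Ideal.map_le_iff_le_comap]
    intro P hP
    rw [Ideal.mem_comap]
    have hP' : algebraMap A[X] C P ∈ q := hP
    have hXd : (X : A[X]) ∣ P - Polynomial.C (P.eval 0) := by
      rw [X_dvd_iff]
      simp [coeff_zero_eq_eval_zero]
    obtain ⟨P', hP'eq⟩ := hXd
    have hPeq : P = Polynomial.C (P.eval 0) + X * P' := by rw [← hP'eq]; ring
    have h1 : algebraMap A[X] C P = algebraMap A C (P.eval 0) + h * algebraMap A[X] C P' := by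
      conv_lhs => rw [hPeq]
      rw [map_add, map_mul, hX, ← Polynomial.algebraMap_eq, ← IsScalarTower.algebraMap_apply]
    have h2 : algebraMap A C (P.eval 0) ∈ q := by
      have h3 : algebraMap A C (P.eval 0) = algebraMap A[X] C P - h * algebraMap A[X] C P' := by
        rw [h1]; ring
      rw [h3]
      exact q.sub_mem hP' (q.mul_mem_right _ hq)
    rw [h1]
    refine Ideal.add_mem _ (Ideal.mem_sup_left (Ideal.mem_map_of_mem _ h2))
      (Ideal.mem_sup_right (Ideal.mul_mem_right _ _ (Ideal.mem_span_singleton_self h)))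
  · refine sup_le ?_ ?_
    · rw [Ideal.map_le_iff_le_comap]
      intro a ha
      rw [Ideal.mem_comap, IsScalarTower.algebraMap_apply A A[X] C]
      refine Ideal.mem_map_of_mem _ ?_
      change algebraMap A[X] C (algebraMap A A[X] a) ∈ q
      rw [← IsScalarTower.algebraMap_apply A A[X] C]
      exact ha
    · rw [Ideal.span_le]
      rintro _ rfl
      rw [← hX]
      refine Ideal.mem_map_of_mem _ ?_
      change algebraMap A[X] C X ∈ q
      rw [hX]
      exact hq

end Under

section Split

variable (A : Type u) [CommRing A] (n : ℕ)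

/-- The ring isomorphism `A[X_0, …, X_n] ≃ (A[X])[X_1, …, X_n]`. -/
noncomputable def splitEquiv : MvPolynomial (Fin (n + 1)) A ≃+* MvPolynomial (Fin n) A[X] :=
  ((MvPolynomial.renameEquiv A (finSuccEquiv n)).trans
    (MvPolynomial.optionEquivRight A (Fin n))).toRingEquiv

lemma splitEquiv_C (a : A) :
    splitEquiv A n (MvPolynomial.C a) = MvPolynomial.C (Polynomial.C a) := by
  simp [splitEquiv]

lemma splitEquiv_X_zero :
    splitEquiv A n (MvPolynomial.X 0) = MvPolynomial.C Polynomial.X := by
  simp [splitEquiv]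

lemma splitEquiv_X_succ (k : Fin n) :
    splitEquiv A n (MvPolynomial.X k.succ) = MvPolynomial.X k := by
  simp [splitEquiv]

end Split

section Iter

/-- **Spreading out flatness over `A[X_1, …, X_n]`** along a sequence which is regular in the local
ring at `q` of the fibre. -/
theorem exists_away_flat_mvPolynomial : ∀ (n : ℕ) {A C : Type u} [CommRing A] [CommRing C]
    [Algebra A C] [Algebra.FinitePresentation A C] [Module.Flat A C] (q : Ideal C) [q.IsPrime]
    (f : Fin n → C) (_ : ∀ i, f i ∈ q)
    (_ : ∀ i : Fin n, NzdAt q ((q.under A).map (algebraMap A C) ⊔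
      Ideal.span (f '' {j | j < i})) (f i)),
    ∃ g ∉ q, ∀ (g' : C) (C' : Type u) [CommRing C'] [Algebra C C']
      [IsLocalization.Away (g * g') C'],
      ((algebraMap C C').comp ((MvPolynomial.aeval f : MvPolynomial (Fin n) A →ₐ[A] C) :
        MvPolynomial (Fin n) A →+* C)).Flat := by
  intro n
  induction n with
  | zero =>
    intro A C _ _ _ _ _ q _ f hf hreg
    refine ⟨1, (Ideal.ne_top_iff_one q).mp (Ideal.IsPrime.ne_top inferInstance), ?_⟩
    intro g' C' _ _ _
    letI : Algebra A C' := ((algebraMap C C').comp (algebraMap A C)).toAlgebra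
    haveI : IsScalarTower A C C' := IsScalarTower.of_algebraMap_eq (fun _ => rfl)
    haveI : Module.Flat C C' := IsLocalization.flat C' (Submonoid.powers (1 * g'))
    have hAC' : Module.Flat A C' := Module.Flat.trans A C C'
    have heq : (algebraMap C C').comp ((MvPolynomial.aeval f : MvPolynomial (Fin 0) A →ₐ[A] C) :
        MvPolynomial (Fin 0) A →+* C) =
        (algebraMap A C').comp
          ((MvPolynomial.isEmptyAlgEquiv A (Fin 0) : MvPolynomial (Fin 0) A ≃ₐ[A] A) :
            MvPolynomial (Fin 0) A →+* A) := by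
      apply MvPolynomial.ringHom_ext
      · intro a
        change algebraMap C C' (MvPolynomial.aeval f (MvPolynomial.C a)) =
          algebraMap A C' ((MvPolynomial.isEmptyAlgEquiv A (Fin 0)) (MvPolynomial.C a))
        rw [MvPolynomial.aeval_C, ← MvPolynomial.algebraMap_eq, AlgEquiv.commutes]
        rfl
      · intro i
        exact Fin.elim0 i
    rw [heq]
    exact RingHom.Flat.comp (RingHom.Flat.of_bijective
      (MvPolynomial.isEmptyAlgEquiv A (Fin 0)).bijective) hAC'
  | succ n ih =>
    intro A C _ _ _ _ _ q _ f hf hreg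
    -- Step 1: spread flatness over `A[X]` along `f 0`
    have E : ∀ c : C, (∃ t ∉ q, t * (f 0 * c) ∈ (q.under A).map (algebraMap A C)) →
        ∃ t ∉ q, t * c ∈ (q.under A).map (algebraMap A C) := by
      have h0 := hreg 0
      have hem : f '' {j | j < (0 : Fin (n + 1))} = ∅ := by
        ext x
        simp
      rw [hem, Ideal.span_empty, sup_bot_eq] at h0
      exact h0
    obtain ⟨g₁, hg₁, H₁⟩ := exists_away_flat_poly q (f 0) (hf 0) E
    let C₁ := Localization.Away g₁
    haveI : IsLocalization.Away (g₁ * 1) C₁ := by rw [mul_one]; infer_instance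
    obtain ⟨hfl₁, hfp₁⟩ := H₁ 1 C₁
    let θ₁ : A[X] →+* C₁ :=
      (algebraMap C C₁).comp ((Polynomial.aeval (f 0) : A[X] →ₐ[A] C) : A[X] →+* C)
    letI algX : Algebra A[X] C₁ := θ₁.toAlgebra
    haveI : IsScalarTower A A[X] C₁ := IsScalarTower.of_algebraMap_eq (fun a => by
      change algebraMap A C₁ a = algebraMap C C₁ (Polynomial.aeval (f 0) (Polynomial.C a))
      rw [Polynomial.aeval_C, ← IsScalarTower.algebraMap_apply])
    haveI : Module.Flat A[X] C₁ := hfl₁
    haveI : Algebra.FinitePresentation A[X] C₁ := hfp₁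
    have hX : algebraMap A[X] C₁ X = algebraMap C C₁ (f 0) := by
      change algebraMap C C₁ (Polynomial.aeval (f 0) X) = _
      rw [Polynomial.aeval_X]
    have hdisj : Disjoint (Submonoid.powers g₁ : Set C) (q : Set C) :=
      (Ideal.disjoint_powers_iff_notMem_of_isPrime g₁).mpr hg₁
    let q₁ : Ideal C₁ := q.map (algebraMap C C₁)
    haveI hq₁ : q₁.IsPrime :=
      IsLocalization.isPrime_of_isPrime_disjoint (Submonoid.powers g₁) C₁ q inferInstance hdisj
    have hcomap : q₁.under C = q :=
      IsLocalization.under_map_of_isPrime_disjoint (Submonoid.powers g₁) C₁ inferInstance hdisj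
    let f₁ : Fin n → C₁ := fun k => algebraMap C C₁ (f k.succ)
    have hf₁ : ∀ k, f₁ k ∈ q₁ := fun k => Ideal.mem_map_of_mem _ (hf k.succ)
    have hunderA : q₁.under A = q.under A := by
      rw [← hcomap]
      ext a
      simp only [Ideal.mem_comap, Ideal.under]
      rw [IsScalarTower.algebraMap_apply A C C₁]
    have hreg₁ : ∀ k : Fin n, NzdAt q₁ ((q₁.under A[X]).map (algebraMap A[X] C₁) ⊔
        Ideal.span (f₁ '' {j | j < k})) (f₁ k) := by
      intro k
      have h1 := (hreg k.succ).away (C₁ := C₁) g₁ q hg₁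
      refine h1.congr ?_
      rw [map_under_polynomial (algebraMap C C₁ (f 0)) hX q₁ (Ideal.mem_map_of_mem _ (hf 0)),
        hunderA, Ideal.map_sup, Ideal.map_map, ← IsScalarTower.algebraMap_eq, Ideal.map_span,
        sup_assoc, ← Ideal.span_union]
      congr 2
      ext x
      simp only [Set.mem_image, Set.mem_ofPred_eq, Set.mem_union, Set.mem_singleton_iff,
        exists_exists_and_eq_and]
      constructor
      · rintro ⟨j, hj, rfl⟩
        induction j using Fin.cases with
        | zero => left; rfl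
        | succ j' =>
          right
          exact ⟨j', Fin.succ_lt_succ_iff.mp hj, rfl⟩
      · rintro (rfl | ⟨j', hj', rfl⟩)
        · exact ⟨0, Fin.succ_pos k, rfl⟩
        · exact ⟨j'.succ, Fin.succ_lt_succ_iff.mpr hj', rfl⟩
    obtain ⟨g₂, hg₂, H₂⟩ := ih (A := A[X]) (C := C₁) q₁ f₁ hf₁ hreg₁
    obtain ⟨c₂, s, hcs⟩ := IsLocalization.exists_mk'_eq (Submonoid.powers g₁) g₂
    have hc₂ : c₂ ∉ q := by
      intro hc
      apply hg₂
      rw [← hcs, IsLocalization.mk'_mem_map_algebraMap_iff (Submonoid.powers g₁)]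
      exact ⟨1, Submonoid.one_mem _, by rw [one_mul]; exact hc⟩
    refine ⟨g₁ * c₂, fun hmem =>
      (Ideal.IsPrime.mem_or_mem inferInstance hmem).elim hg₁ hc₂, ?_⟩
    intro g' C' _ _ _
    set y : C := c₂ * g' with hy
    let C'' := Localization.Away (algebraMap C C₁ y)
    haveI hC''1 : IsLocalization.Away (g₁ * y) C'' := inferInstance
    haveI hC' : IsLocalization.Away (g₁ * y) C' := by
      rw [hy, ← mul_assoc]; infer_instance
    have hel : g₂ * algebraMap C C₁ ((s : C) * g') = algebraMap C C₁ y := by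
      rw [← hcs, map_mul, ← mul_assoc, IsLocalization.mk'_spec, ← map_mul]
    haveI : IsLocalization.Away (g₂ * algebraMap C C₁ ((s : C) * g')) C'' := by
      rw [hel]; infer_instance
    have hfl₂ := H₂ (algebraMap C C₁ ((s : C) * g')) C''
    let e : C'' ≃ₐ[C] C' := IsLocalization.algEquiv (Submonoid.powers (g₁ * y)) C'' C'
    have heq : (algebraMap C C').comp
        ((MvPolynomial.aeval f : MvPolynomial (Fin (n + 1)) A →ₐ[A] C) :
          MvPolynomial (Fin (n + 1)) A →+* C) =
        (((e : C'' →+* C').comp ((algebraMap C₁ C'').comp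
          ((MvPolynomial.aeval f₁ : MvPolynomial (Fin n) A[X] →ₐ[A[X]] C₁) :
            MvPolynomial (Fin n) A[X] →+* C₁)))).comp
          (splitEquiv A n : MvPolynomial (Fin (n + 1)) A →+* MvPolynomial (Fin n) A[X]) := by
      apply MvPolynomial.ringHom_ext
      · intro a
        simp only [RingHom.comp_apply, RingHom.coe_coe, MvPolynomial.aeval_C, splitEquiv_C]
        change _ = e (algebraMap C₁ C'' (algebraMap C C₁ (Polynomial.aeval (f 0) (Polynomial.C a))))
        rw [Polynomial.aeval_C, ← IsScalarTower.algebraMap_apply C C₁ C'', e.commutes]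
      · intro i
        induction i using Fin.cases with
        | zero =>
          simp only [RingHom.comp_apply, RingHom.coe_coe, MvPolynomial.aeval_X, splitEquiv_X_zero,
            MvPolynomial.aeval_C]
          rw [hX, ← IsScalarTower.algebraMap_apply C C₁ C'', e.commutes]
        | succ k =>
          simp only [RingHom.comp_apply, RingHom.coe_coe, MvPolynomial.aeval_X, splitEquiv_X_succ]
          change _ = e (algebraMap C₁ C'' (algebraMap C C₁ (f k.succ)))
          rw [← IsScalarTower.algebraMap_apply C C₁ C'', e.commutes]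
    rw [heq]
    exact RingHom.Flat.comp (RingHom.Flat.of_bijective (splitEquiv A n).bijective)
      (RingHom.Flat.comp hfl₂ (RingHom.Flat.of_bijective e.bijective))

end Iter

end Groth.Agent.R2.H40.RegSpread
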