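import Mathlib.RingTheory.Regular.RegularSequence
import Mathlib.RingTheory.Regular.Flat
import Mathlib.RingTheory.Localization.Away.AdjoinRoot
import Mathlib.RingTheory.Localization.Ideal
import Mathlib.RingTheory.MvPolynomial.Basic
import Mathlib.Algebra.MvPolynomial.Equiv

/-!
# Presenting `(R/I)[1/g]` as a quotient of a polynomial ring by a regular sequence

Pure commutative algebra used for S18937.
-/

set_option autoImplicit false
universe u

namespace Groth.Agent.R2.H93.RegSeqAway

open Polynomial RingTheory.Sequence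
open scoped Pointwise

/-- `g X - 1` is a non-zero-divisor of `R[X]` -/
lemma isSMulRegular_C_mul_X_sub_one {R : Type*} [CommRing R] (g : R) :
    IsSMulRegular R[X] (C g * X - 1 : R[X]) := by
  intro p q hpq
  have h0 : (C g * X - 1 : R[X]) * (p - q) = 0 := by
    have : (C g * X - 1 : R[X]) * p = (C g * X - 1) * q := hpq
    rw [mul_sub, this, sub_self]
  have hcoef : ∀ k, (p - q).coeff k = 0 := by
    intro k
    induction k with
    | zero =>
      have := congrArg (fun r => r.coeff 0) h0
      simp only [sub_mul, one_mul, coeff_sub, mul_assoc, coeff_C_mul, coeff_zero] at this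
      rw [mul_comm X, coeff_mul_X_zero, mul_zero, zero_sub, neg_eq_zero] at this
      simpa using this
    | succ k ih =>
      have := congrArg (fun r => r.coeff (k + 1)) h0
      simp only [sub_mul, one_mul, coeff_sub, mul_assoc, coeff_C_mul, coeff_zero] at this
      rw [mul_comm X, coeff_mul_X] at this
      rw [ih, mul_zero, zero_sub, neg_eq_zero] at this
      simpa using this
  have : p - q = 0 := Polynomial.ext fun k => by rw [hcoef k, coeff_zero]
  exact sub_eq_zero.1 this

/-- transfer of weak regularity along a surjection with principal kernel generated by a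
non-zero-divisor -/
lemma isWeaklyRegular_cons_of_surjective {T S : Type*} [CommRing T] [CommRing S] (ψ : T →+* S)
    (hψ : Function.Surjective ψ) (P₀ : T) (hker : RingHom.ker ψ = Ideal.span {P₀})
    (hreg : IsSMulRegular T P₀) (Ps : List T)
    (h : IsWeaklyRegular S (Ps.map ψ)) :
    IsWeaklyRegular T (P₀ :: Ps) := by
  let _ := ψ.toAlgebra
  refine IsWeaklyRegular.cons hreg ?_
  have h1 : IsWeaklyRegular S Ps :=
    (isWeaklyRegular_map_algebraMap_iff S S Ps).1 h
  have hsub : (P₀ • ⊤ : Submodule T T) = LinearMap.ker (Algebra.linearMap T S) := by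
    ext x
    rw [LinearMap.mem_ker, Algebra.linearMap_apply]
    change _ ↔ ψ x = 0
    rw [← RingHom.mem_ker, hker, Ideal.mem_span_singleton']
    constructor
    · intro hx
      obtain ⟨y, -, rfl⟩ := (Submodule.mem_smul_pointwise_iff_exists _ _ _).1 hx
      exact ⟨y, by rw [smul_eq_mul, mul_comm]⟩
    · rintro ⟨y, rfl⟩
      rw [mul_comm]
      exact Submodule.smul_mem_pointwise_smul y P₀ ⊤ Submodule.mem_top
  let e : QuotSMulTop P₀ T ≃ₗ[T] S :=
    (Submodule.quotEquivOfEq _ _ hsub).trans
      ((Algebra.linearMap T S).quotKerEquivOfSurjective hψ)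
  exact (e.isWeaklyRegular_congr Ps).2 h1


/-- main algebraic statement: if `I S` is generated by a weakly regular sequence in the localisation
`S = R[1/g]` of `R = A[X_1..X_n]` and is proper, then `(R/I)[1/g]` is the quotient of
`A[X_0..X_n]` by a regular sequence. -/
theorem exists_presentation (A : Type u) [CommRing A] (n : ℕ)
    (I : Ideal (MvPolynomial (Fin n) A)) (g : MvPolynomial (Fin n) A)
    (S : Type*) [CommRing S] [Algebra (MvPolynomial (Fin n) A) S] [IsLocalization.Away g S]
    (rs : List S) (hrs : IsWeaklyRegular S rs)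
    (hI : I.map (algebraMap (MvPolynomial (Fin n) A) S) = Ideal.ofList rs)
    (hne : I.map (algebraMap (MvPolynomial (Fin n) A) S) ≠ ⊤) :
    ∃ (d : ℕ) (P : Fin d → MvPolynomial (Fin (n + 1)) A),
      IsRegular (MvPolynomial (Fin (n + 1)) A) (List.ofFn P) ∧
      Nonempty (Localization.Away (Ideal.Quotient.mk I g) ≃ₐ[A]
        (MvPolynomial (Fin (n + 1)) A ⧸ Ideal.ofList (List.ofFn P))) := by
  classical
  let f : (MvPolynomial (Fin n) A)[X] := C g * X - 1
  have : IsLocalization.Away g (AdjoinRoot f) := IsLocalization.adjoin_inv g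
  let ε : AdjoinRoot f ≃ₐ[MvPolynomial (Fin n) A] S :=
    IsLocalization.algEquiv (Submonoid.powers g) _ _
  let ψ₀ : (MvPolynomial (Fin n) A)[X] →+* S :=
    (ε : AdjoinRoot f →+* S).comp (AdjoinRoot.mk f)
  let φ : MvPolynomial (Fin (n + 1)) A ≃+* (MvPolynomial (Fin n) A)[X] :=
    (MvPolynomial.finSuccEquiv A n).toRingEquiv
  let ψ : MvPolynomial (Fin (n + 1)) A →+* S := ψ₀.comp (φ : _ →+* _)
  have hψsurj : Function.Surjective ψ :=
    (ε.surjective.comp AdjoinRoot.mk_surjective).comp φ.surjective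
  let P₀ : MvPolynomial (Fin (n + 1)) A := φ.symm f
  have hker₀ : RingHom.ker ψ₀ = Ideal.span {f} := by
    ext x
    rw [RingHom.mem_ker]
    change ε (AdjoinRoot.mk f x) = 0 ↔ _
    rw [map_eq_zero_iff ε ε.injective, AdjoinRoot.mk_eq_zero, Ideal.mem_span_singleton]
  have hker : RingHom.ker ψ = Ideal.span {P₀} := by
    ext x
    rw [RingHom.mem_ker]
    change ψ₀ (φ x) = 0 ↔ _
    rw [← RingHom.mem_ker, hker₀, Ideal.mem_span_singleton, Ideal.mem_span_singleton]
    constructor
    · rintro ⟨c, hc⟩
      exact ⟨φ.symm c, by rw [← map_mul, ← hc, RingEquiv.symm_apply_apply]⟩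
    · rintro ⟨c, rfl⟩
      exact ⟨φ c, by rw [map_mul, RingEquiv.apply_symm_apply]⟩
  have hP₀ : IsSMulRegular (MvPolynomial (Fin (n + 1)) A) P₀ := by
    intro a b hab
    apply φ.injective
    apply isSMulRegular_C_mul_X_sub_one g
    change f * φ a = f * φ b
    have : P₀ * a = P₀ * b := hab
    have h2 := congrArg φ this
    rwa [map_mul, map_mul, RingEquiv.apply_symm_apply] at h2
  have hψsurj' := hψsurj
  choose lift hlift using hψsurj'
  let Ps : List (MvPolynomial (Fin (n + 1)) A) := rs.map lift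
  have hPs : Ps.map ψ = rs := by
    rw [List.map_map]
    conv_rhs => rw [← List.map_id rs]
    exact List.map_congr_left fun r _ => hlift r
  have hwr : IsWeaklyRegular (MvPolynomial (Fin (n + 1)) A) (P₀ :: Ps) :=
    isWeaklyRegular_cons_of_surjective ψ hψsurj P₀ hker hP₀ Ps (hPs.symm ▸ hrs)
  have hcomap : Ideal.comap ψ (Ideal.ofList rs) = Ideal.ofList (P₀ :: Ps) := by
    rw [← hPs, ← Ideal.map_ofList, Ideal.comap_map_of_surjective ψ hψsurj, Ideal.ofList_cons,
      ← RingHom.ker_eq_comap_bot, hker, sup_comm]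
  have hne' : Ideal.ofList (P₀ :: Ps) ≠ ⊤ := by
    rw [← hcomap, ← hI]
    exact Ideal.comap_ne_top ψ hne
  have hreg : IsRegular (MvPolynomial (Fin (n + 1)) A) (P₀ :: Ps) := by
    refine ⟨hwr, ?_⟩
    rw [smul_eq_mul, Ideal.mul_top]
    exact fun h => hne' h.symm
  -- the equivalence
  have : IsLocalization (Submonoid.powers (Ideal.Quotient.mk I g))
      (S ⧸ I.map (algebraMap (MvPolynomial (Fin n) A) S)) := by
    have h := (inferInstance : IsLocalization
      (Algebra.algebraMapSubmonoid (MvPolynomial (Fin n) A ⧸ I) (Submonoid.powers g))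
      (S ⧸ I.map (algebraMap (MvPolynomial (Fin n) A) S)))
    have e : Algebra.algebraMapSubmonoid (MvPolynomial (Fin n) A ⧸ I) (Submonoid.powers g) =
        Submonoid.powers (Ideal.Quotient.mk I g) := Submonoid.map_powers _ g
    rwa [e] at h
  let e1 : Localization.Away (Ideal.Quotient.mk I g) ≃ₐ[MvPolynomial (Fin n) A ⧸ I]
      (S ⧸ I.map (algebraMap (MvPolynomial (Fin n) A) S)) :=
    IsLocalization.algEquiv (Submonoid.powers (Ideal.Quotient.mk I g)) _ _
  let χ : MvPolynomial (Fin (n + 1)) A →+* S ⧸ I.map (algebraMap (MvPolynomial (Fin n) A) S) :=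
    (Ideal.Quotient.mk _).comp ψ
  have hχ : Function.Surjective χ := Ideal.Quotient.mk_surjective.comp hψsurj
  have hkχ : RingHom.ker χ = Ideal.ofList (P₀ :: Ps) := by
    rw [← hcomap, ← hI]
    change RingHom.ker ((Ideal.Quotient.mk _).comp ψ) = _
    rw [← RingHom.comap_ker, Ideal.mk_ker]
  let e2 : (MvPolynomial (Fin (n + 1)) A ⧸ Ideal.ofList (P₀ :: Ps)) ≃+*
      S ⧸ I.map (algebraMap (MvPolynomial (Fin n) A) S) :=
    (Ideal.quotEquivOfEq hkχ.symm).trans (RingHom.quotientKerEquivOfSurjective hχ)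
  have hψC : ∀ a : A, ψ (MvPolynomial.C a) =
      algebraMap (MvPolynomial (Fin n) A) S (MvPolynomial.C a) := by
    intro a
    change ε (AdjoinRoot.mk f (MvPolynomial.finSuccEquiv A n (MvPolynomial.C a))) = _
    have h1 : MvPolynomial.finSuccEquiv A n (MvPolynomial.C a) =
        Polynomial.C (MvPolynomial.C a) := by
      have := (MvPolynomial.finSuccEquiv A n).commutes a
      simpa [MvPolynomial.algebraMap_eq, Polynomial.algebraMap_apply] using this
    rw [h1]
    have h2 : AdjoinRoot.mk f (Polynomial.C (MvPolynomial.C a)) =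
        algebraMap (MvPolynomial (Fin n) A) (AdjoinRoot f) (MvPolynomial.C a) := rfl
    rw [h2, ε.commutes]
  let E : Localization.Away (Ideal.Quotient.mk I g) ≃ₐ[A]
      (MvPolynomial (Fin (n + 1)) A ⧸ Ideal.ofList (P₀ :: Ps)) :=
    AlgEquiv.ofRingEquiv (f := e1.toRingEquiv.trans e2.symm) (by
      intro a
      change e2.symm (e1 (algebraMap A _ a)) = _
      rw [RingEquiv.symm_apply_eq]
      have h1 : algebraMap A (Localization.Away (Ideal.Quotient.mk I g)) a =
          algebraMap (MvPolynomial (Fin n) A ⧸ I) _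
            (algebraMap A (MvPolynomial (Fin n) A ⧸ I) a) :=
        IsScalarTower.algebraMap_apply A (MvPolynomial (Fin n) A ⧸ I) _ a
      rw [h1, e1.commutes]
      have h2 : algebraMap A (MvPolynomial (Fin (n + 1)) A ⧸ Ideal.ofList (P₀ :: Ps)) a =
          Ideal.Quotient.mk _ (MvPolynomial.C a) := rfl
      rw [h2]
      change _ = Ideal.Quotient.mk _ (ψ (MvPolynomial.C a))
      rw [hψC]
      rfl)
  refine ⟨(P₀ :: Ps).length, (P₀ :: Ps).get, ?_, ?_⟩
  · rw [List.ofFn_get]
    exact hreg
  · rw [List.ofFn_get]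
    exact ⟨E⟩

end Groth.Agent.R2.H93.RegSeqAway
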