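import Mathlib
import Groth.Prelude.Def_LCI2
import Groth.Agent.Lib.Helper5KoszulGor
import Groth.Agent.R2.H13KoszulTor
import Groth.Agent.S15821
import Groth.Agent.R2.H93RegSeqAway

/-!
# Koszul-regular sequences: basic transfer lemmas (helper7)

`Acyc M l`: the Koszul complex of `l` with coefficients in `M` is acyclic off degree `0`.
Restriction of scalars, invariance under isomorphisms of the coefficient module, flat base change and
faithfully flat descent, and Koszul-regularity of the variables of a polynomial ring.
-/

set_option autoImplicit false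
universe u

namespace Groth.Agent.R2.H7.KosBasic

open CategoryTheory CategoryTheory.Limits CochainComplex CohIII
open Groth.Agent.Helper13Kz Groth.Agent.Helper13KzLift
open scoped TensorProduct

variable {A : Type u} [CommRing A]

/-- acyclicity off degree zero of the Koszul complex with coefficients in `M` -/
def Acyc (M : ModuleCat.{u} A) (l : List A) : Prop :=
  ∀ i : ℤ, i ≠ 0 → IsZero ((koszulCx M l).homology i)

lemma kr_iff_acyc (l : List A) :
    LCI.IsKoszulRegularSeq A l ↔ Acyc (ModuleCat.of A A) l := by
  unfold LCI.IsKoszulRegularSeq Acyc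
  refine forall_congr' fun i => forall_congr' fun _ => ?_
  exact isZero_congr (koszul_eq A l) i

/-- restriction of scalars: vanishing of Koszul homology of `l.map φ` on `M` is the same as the
vanishing for `l` on the restricted module -/
theorem isZero_restrict_iff {S T : Type u} [CommRing S] [CommRing T] (φ : S →+* T)
    (M : ModuleCat.{u} T) (l : List S) (i : ℤ) :
    IsZero ((koszulCx M (l.map φ)).homology i) ↔
      IsZero ((koszulCx ((ModuleCat.restrictScalars φ).obj M) l).homology i) :=
  ⟨isZero_homology_restrict φ M l i,
    Groth.Agent.Lib.Helper5.KoszulGor.isZero_homology_of_restrict φ M l i⟩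

/-- invariance under isomorphism of the coefficient module -/
theorem isZero_iff_of_iso {M M' : ModuleCat.{u} A} (e : M ≅ M') (l : List A) (i : ℤ) :
    IsZero ((koszulCx M l).homology i) ↔ IsZero ((koszulCx M' l).homology i) := by
  constructor
  · intro h
    have : Subsingleton (KH l M i) := ModuleCat.subsingleton_of_isZero h
    have := subsingleton_KH_of_equiv l e.toLinearEquiv i this
    exact ModuleCat.isZero_of_subsingleton _
  · intro h
    have : Subsingleton (KH l M' i) := ModuleCat.subsingleton_of_isZero h
    have := subsingleton_KH_of_equiv l e.symm.toLinearEquiv i this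
    exact ModuleCat.isZero_of_subsingleton _

/-- the restriction of the regular module along `φ : S → T` -/
noncomputable def restrictSelfEquiv {S T : Type u} [CommRing S] [CommRing T] (φ : S →+* T) :
    letI := φ.toAlgebra
    T ≃ₗ[S] ((ModuleCat.restrictScalars φ).obj (ModuleCat.of T T)) :=
  letI := φ.toAlgebra
  { toFun := fun t => t
    invFun := fun t => t
    left_inv := fun _ => rfl
    right_inv := fun _ => rfl
    map_add' := fun _ _ => rfl
    map_smul' := fun _ _ => rfl }

/-- **flat base change** of Koszul-regular sequences -/
theorem kr_map_of_flat {S T : Type u} [CommRing S] [CommRing T] (φ : S →+* T) (hφ : φ.Flat)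
    (l : List S) (h : LCI.IsKoszulRegularSeq S l) : LCI.IsKoszulRegularSeq T (l.map φ) := by
  rw [isKoszulRegularSeq_iff] at h ⊢
  intro i hi
  exact Groth.Agent.Lib.Helper5.KoszulGor.subsingleton_KH_map_of_flat φ hφ l i (h i hi)

/-- **faithfully flat descent** of Koszul-regular sequences -/
theorem kr_of_map_faithfullyFlat {S T : Type u} [CommRing S] [CommRing T] (φ : S →+* T)
    (hφ : φ.FaithfullyFlat) (l : List S) (h : LCI.IsKoszulRegularSeq T (l.map φ)) :
    LCI.IsKoszulRegularSeq S l := by
  let _ : Algebra S T := φ.toAlgebra
  have : Module.FaithfullyFlat S T := hφ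
  rw [kr_iff_acyc] at h ⊢
  intro i hi
  have h1 := (isZero_restrict_iff φ (ModuleCat.of T T) l i).1 (h i hi)
  -- pass to `S ⊗ T`
  have e : ((ModuleCat.restrictScalars φ).obj (ModuleCat.of T T)) ≅
      (MonoidalCategory.tensorObj (ModuleCat.of S S) (ModuleCat.of S T)) :=
    ((restrictSelfEquiv φ).symm ≪≫ₗ (TensorProduct.lid S T).symm).toModuleIso
  have h2 := (isZero_iff_of_iso e l i).1 h1
  have h3 : IsZero ((((MonoidalCategory.tensorRight (ModuleCat.of S T)).mapHomologicalComplex
      (ComplexShape.up ℤ)).obj (koszulCx (ModuleCat.of S S) l)).homology i) :=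
    IsZero.of_iso h2 ((HomologicalComplex.homologyFunctor _ _ i).mapIso
      (tensIso (ModuleCat.of S T) (ModuleCat.of S S) l))
  rw [← HomologicalComplex.exactAt_iff_isZero_homology] at h3 ⊢
  have h4 : (((koszulCx (ModuleCat.of S S) l).sc i).map
      (MonoidalCategory.tensorRight (ModuleCat.of S T))).Exact := h3
  rw [HomologicalComplex.exactAt_iff]
  rw [ShortComplex.ShortExact.moduleCat_exact_iff_function_exact] at h4 ⊢
  exact Module.FaithfullyFlat.rTensor_reflects_exact S T _ _ h4

end Groth.Agent.R2.H7.KosBasic
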