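import Mathlib
import Groth.Prelude.Def_RegImm
import Groth.Agent.R2.H7KosBasic
import Groth.Agent.Lib.Helper5RegImmComp

/-!
# Flat base change of regular immersions of the four kinds (helper40; S8906, S8652)

* ring level: `isH1Regular_map_of_flat`, `isQuasiRegular_map_of_flat` (equational criterion of
  flatness), `seq_map_of_flat` (all four kinds);
* scheme level: `isClosedImmersion_restrict_of_isPullback`, `ker_app_of_isPullback` (kernel of the base
  change of a closed immersion over affine opens is the extended ideal; no flatness needed),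
  `isRegularImmersionAt_of_isPullback_of_flat`, `isRegularImmersion_of_isPullback_of_flat`.
-/

set_option autoImplicit false
set_option linter.style.haveILetI false
universe u

open CategoryTheory CategoryTheory.Limits AlgebraicGeometry

namespace Groth.Agent.R2.H40.RegBC

section RingH1

variable {S T : Type u} [CommRing S] [CommRing T]

theorem map_mem_span_trivial (φ : S →+* T) {c : ℕ} (f : Fin c → S) (a : Fin c → S)
    (ha : a ∈ Submodule.span S {v : Fin c → S | ∃ i j : Fin c,
      v = Pi.single i (f j) - Pi.single j (f i)}) :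
    (fun i => φ (a i)) ∈ Submodule.span T {v : Fin c → T | ∃ i j : Fin c,
        v = Pi.single i (φ (f j)) - Pi.single j (φ (f i))} := by
  induction ha using Submodule.span_induction with
  | mem v hv =>
    obtain ⟨i, j, rfl⟩ := hv
    apply Submodule.subset_span
    refine ⟨i, j, ?_⟩
    funext l
    simp only [Pi.sub_apply, map_sub]
    congr 1
    · by_cases h : l = i
      · subst h; simp
      · simp [Pi.single_eq_of_ne h]
    · by_cases h : l = j
      · subst h; simp
      · simp [Pi.single_eq_of_ne h]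
  | zero =>
    have : (fun i => φ ((0 : Fin c → S) i)) = 0 := by
      funext i; simp
    rw [this]
    exact Submodule.zero_mem _
  | add x y _ _ hx hy =>
    have : (fun i => φ ((x + y) i)) = (fun i => φ (x i)) + (fun i => φ (y i)) := by
      funext i; simp
    rw [this]
    exact Submodule.add_mem _ hx hy
  | smul r x _ hx =>
    have : (fun i => φ ((r • x) i)) = φ r • (fun i => φ (x i)) := by
      funext i; simp
    rw [this]
    exact Submodule.smul_mem _ _ hx

theorem isH1Regular_map_of_flat (φ : S →+* T) (hφ : φ.Flat) {c : ℕ} (f : Fin c → S)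
    (hf : CAlgX.IsH1Regular f) : CAlgX.IsH1Regular (fun i => φ (f i)) := by
  letI := φ.toAlgebra
  haveI : Module.Flat S T := hφ
  intro b hb
  have hb' : ∑ i, f i • b i = 0 := by
    refine Eq.trans (Finset.sum_congr rfl ?_) hb
    intro i _
    rw [Algebra.smul_def, mul_comm, RingHom.algebraMap_toAlgebra]
  obtain ⟨k, a, y, hxy, hrel⟩ :=
    Module.Flat.isTrivialRelation_of_sum_smul_eq_zero (R := S) (M := T) (f := f) (x := b) hb'
  -- each column of `a` is a relation
  have hcol : ∀ j : Fin k, (fun i => a i j) ∈ Submodule.span S {v : Fin c → S | ∃ i j : Fin c,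
      v = Pi.single i (f j) - Pi.single j (f i)} := by
    intro j
    apply hf
    rw [← hrel j]
    apply Finset.sum_congr rfl
    intro i _
    exact mul_comm _ _
  have hbsum : b = ∑ j, y j • (fun i => φ (a i j)) := by
    funext i
    rw [hxy i, Finset.sum_apply]
    apply Finset.sum_congr rfl
    intro j _
    rw [Pi.smul_apply, Algebra.smul_def, smul_eq_mul, mul_comm, RingHom.algebraMap_toAlgebra]
  rw [hbsum]
  exact Submodule.sum_mem _ fun j _ => Submodule.smul_mem _ _ (map_mem_span_trivial φ f _ (hcol j))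

end RingH1

section RingQuasi

open MvPolynomial

section
variable {S : Type*} {T : Type*} [CommRing S] [AddCommGroup T] [Module S T]

open Classical in
/-- equational criterion of flatness, for sums over a finset -/
theorem exists_trivial_relation_finset [Module.Flat S T] {ι : Type*} (s : Finset ι) (m : ι → S)
    (x : ι → T) (h : ∑ e ∈ s, m e • x e = 0) :
    ∃ (k : ℕ) (a : ι → Fin k → S) (y : Fin k → T),
      (∀ e ∈ s, x e = ∑ j, a e j • y j) ∧ ∀ j, ∑ e ∈ s, m e * a e j = 0 := by
  have h' : ∑ e : ↥s, m e.1 • x e.1 = 0 := by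
    rw [← h]
    exact Finset.sum_coe_sort s (fun e => m e • x e)
  obtain ⟨k, a, y, hxy, hay⟩ :=
    Module.Flat.isTrivialRelation_of_sum_smul_eq_zero (R := S) (M := T)
      (f := fun e : ↥s => m e.1) (x := fun e : ↥s => x e.1) h'
  refine ⟨k, fun e j => if he : e ∈ s then a ⟨e, he⟩ j else 0, y, ?_, ?_⟩
  · intro e he
    have h1 := hxy ⟨e, he⟩
    dsimp only at h1
    rw [h1]
    apply Finset.sum_congr rfl
    intro j _
    dsimp only
    rw [dif_pos he]
  · intro j
    refine Eq.trans ?_ (hay j)
    rw [← Finset.sum_coe_sort s]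
    apply Finset.sum_congr rfl
    intro e _
    dsimp only
    rw [dif_pos e.2]
end

variable {R : Type u} [CommRing R]

/-- Elements of `J^(n+1)` are values of homogeneous polynomials of degree `n` with coefficients in `J`. -/
theorem exists_homogeneous_coeff_mem {c : ℕ} (g : Fin c → R) (n : ℕ) (t : R)
    (ht : t ∈ Ideal.span (Set.range g) ^ (n + 1)) :
    ∃ Q : MvPolynomial (Fin c) R, Q.IsHomogeneous n ∧
      (∀ d, Q.coeff d ∈ Ideal.span (Set.range g)) ∧ MvPolynomial.eval g Q = t := by
  set J := Ideal.span (Set.range g) with hJ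
  -- the set of such `t` is an ideal
  let I : Ideal R :=
    { carrier := {t | ∃ Q : MvPolynomial (Fin c) R, Q.IsHomogeneous n ∧
        (∀ d, Q.coeff d ∈ J) ∧ MvPolynomial.eval g Q = t}
      add_mem' := by
        rintro a b ⟨Q₁, h1, h2, rfl⟩ ⟨Q₂, h1', h2', rfl⟩
        refine ⟨Q₁ + Q₂, h1.add h1', fun d => ?_, by rw [map_add]⟩
        rw [MvPolynomial.coeff_add]
        exact J.add_mem (h2 d) (h2' d)
      zero_mem' := ⟨0, MvPolynomial.isHomogeneous_zero _ _ _, fun d => by simp, by simp⟩
      smul_mem' := by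
        rintro r a ⟨Q, h1, h2, rfl⟩
        refine ⟨MvPolynomial.C r * Q, ?_, fun d => ?_, by simp⟩
        · have := (MvPolynomial.isHomogeneous_C (Fin c) r).mul h1
          rwa [zero_add] at this
        · rw [MvPolynomial.coeff_C_mul]
          exact J.mul_mem_left _ (h2 d) }
  have hle : J ^ (n + 1) ≤ I := by
    rw [pow_succ']
    rw [Ideal.mul_le]
    intro a ha b hb
    obtain ⟨P, hP, rfl⟩ := (Ideal.mem_span_pow_iff_exists_isHomogeneous g b).1 hb
    refine ⟨MvPolynomial.C a * P, ?_, fun d => ?_, by simp⟩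
    · have := (MvPolynomial.isHomogeneous_C (Fin c) a).mul hP
      rwa [zero_add] at this
    · rw [MvPolynomial.coeff_C_mul]
      exact J.mul_mem_right _ ha
  exact hle ht

variable {S T : Type u} [CommRing S] [CommRing T]

/-- a homogeneous polynomial over a flat algebra vanishing at a quasi-regular sequence has its
coefficients in the extended ideal -/
theorem coeff_mem_of_eval_eq_zero (φ : S →+* T) (hφ : φ.Flat) {c : ℕ} (f : Fin c → S)
    (hf : CAlgX.IsQuasiRegular f) (n : ℕ) (R₀ : MvPolynomial (Fin c) T) (hR₀h : R₀.IsHomogeneous n)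
    (hR₀e : MvPolynomial.eval (fun i => φ (f i)) R₀ = 0) (d : Fin c →₀ ℕ) :
    R₀.coeff d ∈ Ideal.span (Set.range fun i => φ (f i)) := by
  letI := φ.toAlgebra
  haveI : Module.Flat S T := hφ
  set JT := Ideal.span (Set.range fun i => φ (f i)) with hJT
  by_cases hd : d ∈ R₀.support
  swap
  · rw [MvPolynomial.notMem_support_iff] at hd
    rw [hd]
    exact JT.zero_mem
  have hrel : ∑ e ∈ R₀.support, (∏ i, f i ^ (e i)) • R₀.coeff e = 0 := by
    rw [← hR₀e, MvPolynomial.eval_eq']
    apply Finset.sum_congr rfl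
    intro e _
    rw [Algebra.smul_def, mul_comm, RingHom.algebraMap_toAlgebra, map_prod]
    congr 1
    apply Finset.prod_congr rfl
    intro i _
    rw [map_pow]
  obtain ⟨k, a, y, hxy, hay⟩ := exists_trivial_relation_finset R₀.support
    (fun e => ∏ i, f i ^ (e i)) (fun e => R₀.coeff e) hrel
  have hcoef : ∀ (j : Fin k), a d j ∈ Ideal.span (Set.range f) := by
    intro j
    let Qj : MvPolynomial (Fin c) S := ∑ e' ∈ R₀.support, MvPolynomial.monomial e' (a e' j)
    have hQjh : Qj.IsHomogeneous n := by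
      apply MvPolynomial.IsHomogeneous.sum
      intro e' he'
      apply MvPolynomial.isHomogeneous_monomial
      have := hR₀h (MvPolynomial.mem_support_iff.1 he')
      rw [Finsupp.degree_eq_weight_one]
      exact this
    have hQje : MvPolynomial.eval f Qj = 0 := by
      rw [map_sum, ← hay j]
      apply Finset.sum_congr rfl
      intro e' _
      rw [MvPolynomial.eval_monomial, mul_comm]
      congr 1
      rw [Finsupp.prod_fintype]
      intro i
      exact pow_zero _
    have := hf n Qj hQjh (by rw [hQje]; exact Ideal.zero_mem _) d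
    have hce : Qj.coeff d = a d j := by
      rw [MvPolynomial.coeff_sum]
      rw [Finset.sum_eq_single d]
      · rw [MvPolynomial.coeff_monomial, if_pos rfl]
      · intro e' _ hne
        rw [MvPolynomial.coeff_monomial, if_neg hne]
      · intro h
        exact absurd hd h
    rwa [hce] at this
  rw [hxy d hd]
  apply JT.sum_mem
  intro j _
  rw [Algebra.smul_def, RingHom.algebraMap_toAlgebra]
  apply JT.mul_mem_right
  have h1 : Ideal.map φ (Ideal.span (Set.range f)) = JT := by
    rw [Ideal.map_span, hJT, ← Set.range_comp]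
    rfl
  rw [← h1]
  exact Ideal.mem_map_of_mem φ (hcoef j)

/-- Quasi-regular sequences are preserved by flat ring maps. -/
theorem isQuasiRegular_map_of_flat (φ : S →+* T) (hφ : φ.Flat) {c : ℕ} (f : Fin c → S)
    (hf : CAlgX.IsQuasiRegular f) : CAlgX.IsQuasiRegular (fun i => φ (f i)) := by
  intro n P hP hmem d
  obtain ⟨Q, hQ, hQc, hQe⟩ := exists_homogeneous_coeff_mem (fun i => φ (f i)) n _ hmem
  have hR₀h : (P - Q).IsHomogeneous n := hP.sub hQ
  have hR₀e : MvPolynomial.eval (fun i => φ (f i)) (P - Q) = 0 := by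
    rw [map_sub, hQe, sub_self]
  have h := coeff_mem_of_eval_eq_zero φ hφ f hf n (P - Q) hR₀h hR₀e d
  have : P.coeff d = (P - Q).coeff d + Q.coeff d := by
    rw [MvPolynomial.coeff_sub, sub_add_cancel]
  rw [this]
  exact Ideal.add_mem _ h (hQc d)

end RingQuasi

/-- In a pushout square of commutative rings with `α` surjective, the kernel of the opposite map is the
extension of the kernel of `α`. -/
theorem ker_of_isPushout {A C A' D : CommRingCat.{u}} {α : A ⟶ C} {φ : A ⟶ A'} {γ : C ⟶ D}
    {β : A' ⟶ D} (h : IsPushout α φ γ β) (hα : Function.Surjective α.hom) :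
    RingHom.ker β.hom = Ideal.map φ.hom (RingHom.ker α.hom) := by
  apply le_antisymm
  · set K := Ideal.map φ.hom (RingHom.ker α.hom) with hK
    have hle : RingHom.ker α.hom ≤ RingHom.ker ((Ideal.Quotient.mk K).comp φ.hom) := by
      intro x hx
      rw [RingHom.mem_ker, RingHom.comp_apply, Ideal.Quotient.eq_zero_iff_mem]
      exact Ideal.mem_map_of_mem _ hx
    let ψ : C →+* (A' ⧸ K) := α.hom.liftOfSurjective hα ⟨_, hle⟩
    have hψ : ψ.comp α.hom = (Ideal.Quotient.mk K).comp φ.hom :=
      RingHom.liftOfRightInverse_comp _ _ _ ⟨_, hle⟩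
    have hw : α ≫ CommRingCat.ofHom ψ = φ ≫ CommRingCat.ofHom (Ideal.Quotient.mk K) := by
      ext x
      exact RingHom.congr_fun hψ x
    have hδ := h.inr_desc (CommRingCat.ofHom ψ) (CommRingCat.ofHom (Ideal.Quotient.mk K)) hw
    intro x hx
    have h1 := congrArg (fun q => q.hom x) hδ
    simp only [CommRingCat.hom_comp, RingHom.comp_apply, CommRingCat.hom_ofHom] at h1
    rw [RingHom.mem_ker] at hx
    rw [hx, map_zero] at h1
    exact Ideal.Quotient.eq_zero_iff_mem.1 h1.symm
  · rw [Ideal.map_le_iff_le_comap]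
    intro x hx
    rw [Ideal.mem_comap, RingHom.mem_ker]
    have h1 := congrArg (fun q => q.hom x) h.w
    simp only [CommRingCat.hom_comp, RingHom.comp_apply] at h1
    rw [← h1, RingHom.mem_ker.1 hx, map_zero]

section Sch

variable {Z X X' Z' : Scheme.{u}} {i : Z ⟶ X} {g : X' ⟶ X} {i' : Z' ⟶ X'} {p : Z' ⟶ Z}

theorem preimage_eq_inf (H : IsPullback p i' i g) {U : X.Opens} {U' : X'.Opens}
    (hUU' : U' ≤ g ⁻¹ᵁ U) : i' ⁻¹ᵁ U' = p ⁻¹ᵁ (i ⁻¹ᵁ U) ⊓ i' ⁻¹ᵁ U' := by
  apply le_antisymm
  · refine le_inf ?_ le_rfl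
    rw [← Scheme.Hom.comp_preimage, H.w, Scheme.Hom.comp_preimage]
    exact i'.preimage_mono hUU'
  · exact inf_le_right

theorem isClosedImmersion_restrict_of_isPullback (H : IsPullback p i' i g) {U : X.Opens}
    {U' : X'.Opens} (hUU' : U' ≤ g ⁻¹ᵁ U) [hcl : IsClosedImmersion (i ∣_ U)] :
    IsClosedImmersion (i' ∣_ U') := by
  have sq := Scheme.Hom.isPullback_resLE H hUU' (le_refl (i ⁻¹ᵁ U)) (preimage_eq_inf H hUU')
  have h1 : IsClosedImmersion (i.resLE U (i ⁻¹ᵁ U) le_rfl) := by
    rw [Scheme.Hom.resLE_eq_morphismRestrict]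
    exact hcl
  have h2 := MorphismProperty.of_isPullback (P := @IsClosedImmersion) sq h1
  rw [← Scheme.Hom.resLE_eq_morphismRestrict]
  exact h2

end Sch

section Sch2

variable {Z X X' Z' : Scheme.{u}} {i : Z ⟶ X} {g : X' ⟶ X} {i' : Z' ⟶ X'} {p : Z' ⟶ Z}

theorem isAffineOpen_preimage_of_isClosedImmersion_restrict {U : X.Opens} (hU : IsAffineOpen U)
    [hcl : IsClosedImmersion (i ∣_ U)] : IsAffineOpen (i ⁻¹ᵁ U) := by
  have : IsAffine U.toScheme := hU
  exact isAffine_of_isAffineHom (i ∣_ U)

theorem app_surjective_of_isClosedImmersion_restrict {U : X.Opens} (hU : IsAffineOpen U)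
    [hcl : IsClosedImmersion (i ∣_ U)] : Function.Surjective (i.app U).hom := by
  have : IsAffine U.toScheme := hU
  have h1 : Function.Surjective ((i ∣_ U).appTop).hom :=
    (i ∣_ U).app_surjective ⊤ (isAffineOpen_top _)
  have e := arrowResLEAppIso i U (i ⁻¹ᵁ U) le_rfl
  rw [Scheme.Hom.resLE_eq_morphismRestrict, Scheme.Hom.appLE_eq_app] at e
  -- transport surjectivity along the arrow iso
  have hw := e.hom.w
  simp only [Arrow.mk_hom, Arrow.mk_left, Arrow.mk_right] at hw
  intro y
  obtain ⟨x, hx⟩ := h1 ((e.inv.right).hom y)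
  refine ⟨(e.hom.left).hom x, ?_⟩
  have h2 := congrArg (fun q => q.hom x) hw
  simp only [CommRingCat.hom_comp, RingHom.comp_apply] at h2
  rw [h2, hx]
  have h3 : e.inv.right ≫ e.hom.right = 𝟙 _ := by
    rw [← Arrow.comp_right, e.inv_hom_id]
    rfl
  have h4 := congrArg (fun q => q.hom y) h3
  simp only [CommRingCat.hom_comp, RingHom.comp_apply, CommRingCat.hom_id, RingHom.id_apply] at h4
  exact h4

theorem ker_app_of_isPullback (H : IsPullback p i' i g) {U : X.Opens}
    {U' : X'.Opens} (hUU' : U' ≤ g ⁻¹ᵁ U) (hU : IsAffineOpen U) (hU' : IsAffineOpen U')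
    [hcl : IsClosedImmersion (i ∣_ U)] :
    RingHom.ker (i'.app U').hom =
      Ideal.map (g.appLE U U' hUU').hom (RingHom.ker (i.app U).hom) := by
  have hUX : IsAffineOpen (i ⁻¹ᵁ U) := isAffineOpen_preimage_of_isClosedImmersion_restrict hU
  have hiso := isIso_pushoutSection_of_isAffineOpen H hUU' (le_refl (i ⁻¹ᵁ U))
    (preimage_eq_inf H hUU') hU hU' hUX
  have hpo := (isIso_pushoutSection_iff H hUU' (le_refl (i ⁻¹ᵁ U)) (preimage_eq_inf H hUU')).1 hiso
  have hk := ker_of_isPushout hpo (by
    rw [Scheme.Hom.appLE_eq_app]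
    exact app_surjective_of_isClosedImmersion_restrict hU)
  rw [Scheme.Hom.appLE_eq_app, Scheme.Hom.appLE_eq_app] at hk
  exact hk

end Sch2

section Seq

variable {S T : Type u} [CommRing S] [CommRing T]

theorem isH1Regular_cast {A : Type u} [CommRing A] {m k : ℕ} (h : m = k) (g : Fin m → A)
    (f' : Fin k → A) (hfg : ∀ i, f' (Fin.cast h i) = g i) (hg : CAlgX.IsH1Regular g) :
    CAlgX.IsH1Regular f' := by
  subst h
  have : f' = g := funext fun i => hfg i
  rw [this]
  exact hg

theorem isQuasiRegular_cast {A : Type u} [CommRing A] {m k : ℕ} (h : m = k) (g : Fin m → A)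
    (f' : Fin k → A) (hfg : ∀ i, f' (Fin.cast h i) = g i) (hg : CAlgX.IsQuasiRegular g) :
    CAlgX.IsQuasiRegular f' := by
  subst h
  have : f' = g := funext fun i => hfg i
  rw [this]
  exact hg

theorem get_map_cast (φ : S →+* T) (rs : List S) (i : Fin rs.length) :
    (rs.map φ).get (Fin.cast (List.length_map φ).symm i) = φ (rs.get i) := by
  simp [List.get_eq_getElem]

/-- Sequences of each of the four kinds are preserved by flat ring maps (for the kind `regular` one has
to know that the extended ideal is proper). -/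
theorem seq_map_of_flat (k : RegImm.Kind) (φ : S →+* T) (hφ : φ.Flat) (rs : List S)
    (h : k.Seq S rs) (hne : Ideal.ofList (rs.map φ) ≠ ⊤) : k.Seq T (rs.map φ) := by
  cases k with
  | regular =>
    have h' : RingTheory.Sequence.IsRegular S rs := h
    refine ⟨Groth.Agent.Lib.Helper5.RegImmComp.isWeaklyRegular_map_of_flat φ hφ rs
      h'.toIsWeaklyRegular, ?_⟩
    rw [smul_eq_mul, Ideal.mul_top]
    exact hne.symm
  | koszul =>
    exact Groth.Agent.R2.H7.KosBasic.kr_map_of_flat φ hφ rs h
  | h1 =>
    have h' : CAlgX.IsH1Regular rs.get := h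
    exact isH1Regular_cast (List.length_map φ).symm _ _ (get_map_cast φ rs)
      (isH1Regular_map_of_flat φ hφ rs.get h')
  | quasi =>
    have h' : CAlgX.IsQuasiRegular rs.get := h
    exact isQuasiRegular_cast (List.length_map φ).symm _ _ (get_map_cast φ rs)
      (isQuasiRegular_map_of_flat φ hφ rs.get h')

end Seq

section Main

variable {Z X X' Z' : Scheme.{u}} {i : Z ⟶ X} {g : X' ⟶ X} {i' : Z' ⟶ X'} {p : Z' ⟶ Z}

/-- **Flat base change of regular immersions, pointwise form.** -/
theorem isRegularImmersionAt_of_isPullback_of_flat (H : IsPullback p i' i g) [Flat g]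
    (k : RegImm.Kind) (z' : Z') (h : RegImm.IsRegularImmersionAt k i (p z')) :
    RegImm.IsRegularImmersionAt k i' z' := by
  obtain ⟨U, hzU, hcl, rs, hrs, hker⟩ := h
  haveI := hcl
  have hmem : i' z' ∈ g ⁻¹ᵁ U.1 := by
    change g (i' z') ∈ U.1
    have h1 : g (i' z') = i (p z') := by
      have := congrArg (fun q : Z' ⟶ X => q z') H.w
      simpa using this.symm
    rw [h1]
    exact hzU
  obtain ⟨U', hU', hxU', hle⟩ :=
    TopologicalSpace.Opens.isBasis_iff_nbhd.mp X'.isBasis_affineOpens hmem
  have hφ : (g.appLE U.1 U' hle).hom.Flat := Scheme.Hom.flat_appLE g U.2 hU' hle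
  have hk := ker_app_of_isPullback H hle U.2 hU'
  rw [hker, Ideal.map_ofList] at hk
  haveI : Nonempty ↥(i' ⁻¹ᵁ U') := ⟨⟨z', hxU'⟩⟩
  have hne : Ideal.ofList (rs.map (g.appLE U.1 U' hle).hom) ≠ ⊤ := by
    rw [← hk]
    exact RingHom.ker_ne_top _
  exact ⟨⟨U', hU'⟩, hxU', isClosedImmersion_restrict_of_isPullback H hle, _,
    seq_map_of_flat k _ hφ rs hrs hne, hk⟩

/-- **Flat base change of regular immersions** (any of the four kinds, any cartesian square). -/
theorem isRegularImmersion_of_isPullback_of_flat (H : IsPullback p i' i g) [Flat g]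
    (k : RegImm.Kind) (hi : RegImm.IsRegularImmersion k i) : RegImm.IsRegularImmersion k i' :=
  ⟨MorphismProperty.of_isPullback (P := @IsImmersion) H hi.1,
    fun z' => isRegularImmersionAt_of_isPullback_of_flat H k z' (hi.2 (p z'))⟩

end Main

end Groth.Agent.R2.H40.RegBC
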