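import Mathlib
import Groth.Prelude.Def_RegImm
import Groth.Agent.R2.H40RegBC
import Groth.Agent.R2.H23TransReg

/-!
# Base change of `H_1`-regular and quasi-regular sequences with flat quotient (helper40; S8892)

Ring level (Stacks 15.31): `A → B`, `f` an `H_1`-regular (resp. quasi-regular) sequence in `B` with
`B/(f)` flat over `A`.  Then the image of `f` in `B/𝔞B` is `H_1`-regular (resp. quasi-regular) for every
ideal `𝔞` of `A` (`isH1Regular_quotient`, `isQuasiRegular_quotient`), and the image of `f` in `A' ⊗[A] B`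
is so for every `A`-algebra `A'` (`isH1Regular_tensor`, `isQuasiRegular_tensor`).
-/

set_option autoImplicit false
set_option linter.style.haveILetI false
universe u

open scoped TensorProduct

namespace Groth.Agent.R2.H40.RelRegAlg

open Groth.Agent.R2.H40.RegBC

section Inter

variable {A B : Type*} [CommRing A] [CommRing B] [Algebra A B]

/-- If `B/K` is flat over `A` then `K ∩ 𝔞B = 𝔞K`. -/
theorem mem_mul_of_mem_inter (K : Ideal B) [Module.Flat A (B ⧸ K)] (𝔞 : Ideal A) (x : B)
    (hxK : x ∈ K) (hx𝔞 : x ∈ 𝔞.map (algebraMap A B)) : x ∈ 𝔞.map (algebraMap A B) * K := by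
  classical
  have h1 : x ∈ 𝔞 • (Submodule.span A (Set.range (id : B → B))) := by
    rw [Set.range_id, Submodule.span_univ, Ideal.smul_top_eq_map]
    exact hx𝔞
  obtain ⟨a, ha, hax⟩ := (Submodule.mem_ideal_smul_span_iff_exists_sum 𝔞 (id : B → B) x).1 h1
  have key := exists_trivial_relation_finset (S := A) (T := B ⧸ K) a.support
    (fun y => a y) (fun y => Ideal.Quotient.mk K y) (by
      have h2 : Ideal.Quotient.mk K x = 0 := Ideal.Quotient.eq_zero_iff_mem.2 hxK
      rw [← h2, ← hax, Finsupp.sum, map_sum]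
      apply Finset.sum_congr rfl
      intro y _
      rw [id, Algebra.smul_def, Algebra.smul_def, map_mul]
      rfl)
  obtain ⟨k, c, zbar, hy, hc⟩ := key
  choose z hz using fun j => Ideal.Quotient.mk_surjective (zbar j)
  have hκ : ∀ y ∈ a.support, y - ∑ j, c y j • z j ∈ K := by
    intro y hys
    rw [← Ideal.Quotient.eq_zero_iff_mem, map_sub, hy y hys, map_sum, sub_eq_zero]
    apply Finset.sum_congr rfl
    intro j _
    rw [Algebra.smul_def, Algebra.smul_def, map_mul, hz j]
    rfl
  have hx : x = ∑ y ∈ a.support, a y • (y - ∑ j, c y j • z j) := by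
    have h3 : ∑ y ∈ a.support, a y • ∑ j, c y j • z j = 0 := by
      simp_rw [Finset.smul_sum, smul_smul]
      rw [Finset.sum_comm]
      apply Finset.sum_eq_zero
      intro j _
      rw [← Finset.sum_smul, hc j, zero_smul]
    simp_rw [smul_sub]
    rw [Finset.sum_sub_distrib, h3, sub_zero, ← hax, Finsupp.sum]
    rfl
  rw [hx]
  apply Ideal.sum_mem
  intro y hys
  rw [Algebra.smul_def]
  exact Ideal.mul_mem_mul (Ideal.mem_map_of_mem _ (ha y)) (hκ y hys)

end Inter

section Hom

variable {R : Type u} [CommRing R]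

/-- Elements of `I * J^n` are values of homogeneous polynomials of degree `n` with coefficients in `I`. -/
theorem exists_homogeneous_coeff_mem' {c : ℕ} (g : Fin c → R) (I : Ideal R) (n : ℕ) (t : R)
    (ht : t ∈ I * Ideal.span (Set.range g) ^ n) :
    ∃ Q : MvPolynomial (Fin c) R, Q.IsHomogeneous n ∧
      (∀ d, Q.coeff d ∈ I) ∧ MvPolynomial.eval g Q = t := by
  set J := Ideal.span (Set.range g) with hJ
  let I' : Ideal R :=
    { carrier := {t | ∃ Q : MvPolynomial (Fin c) R, Q.IsHomogeneous n ∧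
        (∀ d, Q.coeff d ∈ I) ∧ MvPolynomial.eval g Q = t}
      add_mem' := by
        rintro a b ⟨Q₁, h1, h2, rfl⟩ ⟨Q₂, h1', h2', rfl⟩
        refine ⟨Q₁ + Q₂, h1.add h1', fun d => ?_, by rw [map_add]⟩
        rw [MvPolynomial.coeff_add]
        exact I.add_mem (h2 d) (h2' d)
      zero_mem' := ⟨0, MvPolynomial.isHomogeneous_zero _ _ _, fun d => by simp, by simp⟩
      smul_mem' := by
        rintro r a ⟨Q, h1, h2, rfl⟩
        refine ⟨MvPolynomial.C r * Q, ?_, fun d => ?_, by simp⟩
        · have := (MvPolynomial.isHomogeneous_C (Fin c) r).mul h1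
          rwa [zero_add] at this
        · rw [MvPolynomial.coeff_C_mul]
          exact I.mul_mem_left _ (h2 d) }
  have hle : I * J ^ n ≤ I' := by
    rw [Ideal.mul_le]
    intro a ha b hb
    obtain ⟨P, hP, rfl⟩ := (Ideal.mem_span_pow_iff_exists_isHomogeneous g b).1 hb
    refine ⟨MvPolynomial.C a * P, ?_, fun d => ?_, by simp⟩
    · have := (MvPolynomial.isHomogeneous_C (Fin c) a).mul hP
      rwa [zero_add] at this
    · rw [MvPolynomial.coeff_C_mul]
      exact I.mul_mem_right _ ha
  exact hle ht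

end Hom


section Quot

variable {A B : Type u} [CommRing A] [CommRing B] [Algebra A B]

/-- `H_1`-regular sequences with flat quotient stay `H_1`-regular modulo `𝔞B`. -/
theorem isH1Regular_quotient {c : ℕ} (f : Fin c → B) (hf : CAlgX.IsH1Regular f)
    [Module.Flat A (B ⧸ Ideal.span (Set.range f))] (𝔞 : Ideal A) :
    CAlgX.IsH1Regular (fun i => Ideal.Quotient.mk (𝔞.map (algebraMap A B)) (f i)) := by
  classical
  set I := 𝔞.map (algebraMap A B) with hI
  intro bbar hb
  choose b hbb using fun i => Ideal.Quotient.mk_surjective (bbar i)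
  have hx𝔞 : ∑ i, b i * f i ∈ I := by
    rw [← Ideal.Quotient.eq_zero_iff_mem, map_sum, ← hb]
    apply Finset.sum_congr rfl
    intro i _
    rw [map_mul, hbb i]
  have hxK : ∑ i, b i * f i ∈ Ideal.span (Set.range f) :=
    Ideal.sum_mem _ fun i _ => Ideal.mul_mem_left _ _ (Ideal.subset_span ⟨i, rfl⟩)
  have hmem := mem_mul_of_mem_inter (Ideal.span (Set.range f)) 𝔞 _ hxK hx𝔞
  rw [← smul_eq_mul, Ideal.span, Submodule.mem_ideal_smul_span_iff_exists_sum] at hmem
  obtain ⟨w, hw, hwx⟩ := hmem
  rw [Finsupp.sum_fintype w (fun i c => c • f i) (fun i => zero_smul _ _)] at hwx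
  have hrel : ∑ i, (b i - w i) * f i = 0 := by
    simp_rw [sub_mul]
    rw [Finset.sum_sub_distrib, sub_eq_zero, ← hwx]
    rfl
  have h1 := map_mem_span_trivial (Ideal.Quotient.mk I) f _ (hf (fun i => b i - w i) hrel)
  have h2 : (fun i => Ideal.Quotient.mk I (b i - w i)) = bbar := by
    funext i
    rw [map_sub, hbb i, Ideal.Quotient.eq_zero_iff_mem.2 (hw i), sub_zero]
  rw [h2] at h1
  exact h1

/-- Quasi-regular sequences with flat quotient stay quasi-regular modulo `𝔞B`. -/
theorem isQuasiRegular_quotient {c : ℕ} (f : Fin c → B) (hf : CAlgX.IsQuasiRegular f)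
    [Module.Flat A (B ⧸ Ideal.span (Set.range f))] (𝔞 : Ideal A) :
    CAlgX.IsQuasiRegular (fun i => Ideal.Quotient.mk (𝔞.map (algebraMap A B)) (f i)) := by
  classical
  set I := 𝔞.map (algebraMap A B) with hI
  set K := Ideal.span (Set.range f) with hK
  have hKbar : Ideal.span (Set.range fun i => Ideal.Quotient.mk I (f i)) =
      K.map (Ideal.Quotient.mk I) := by
    rw [hK, Ideal.map_span, ← Set.range_comp]
    rfl
  intro n Pbar hPbar hmem d
  rw [hKbar] at hmem ⊢
  -- lift `Pbar`
  choose lift hlift using fun x : B ⧸ I => Ideal.Quotient.mk_surjective x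
  let P : MvPolynomial (Fin c) B :=
    ∑ e ∈ Pbar.support, MvPolynomial.monomial e (lift (Pbar.coeff e))
  have hPh : P.IsHomogeneous n := by
    apply MvPolynomial.IsHomogeneous.sum
    intro e he
    apply MvPolynomial.isHomogeneous_monomial
    rw [Finsupp.degree_eq_weight_one]
    exact hPbar (MvPolynomial.mem_support_iff.1 he)
  have hPmap : MvPolynomial.map (Ideal.Quotient.mk I) P = Pbar := by
    rw [map_sum]
    conv_rhs => rw [Pbar.as_sum]
    apply Finset.sum_congr rfl
    intro e _
    rw [MvPolynomial.map_monomial, hlift]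
  have hPcoeff : ∀ e, Ideal.Quotient.mk I (P.coeff e) = Pbar.coeff e := by
    intro e
    rw [← hPmap, MvPolynomial.coeff_map]
  -- `P(f) ∈ K^(n+1) + I`
  have hev : Ideal.Quotient.mk I (MvPolynomial.eval f P) =
      MvPolynomial.eval (fun i => Ideal.Quotient.mk I (f i)) Pbar := by
    rw [← hPmap, MvPolynomial.eval_map]
    have h1 := MvPolynomial.eval₂_comp_left (Ideal.Quotient.mk I) (RingHom.id B) f P
    rw [RingHom.comp_id] at h1
    exact h1
  rw [← hev, ← Ideal.map_pow] at hmem
  obtain ⟨y, hyK, hy⟩ := (Ideal.mem_map_iff_of_surjective _ Ideal.Quotient.mk_surjective).1 hmem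
  rw [pow_succ'] at hyK
  obtain ⟨Q, hQh, hQc, hQe⟩ := exists_homogeneous_coeff_mem' f K n y hyK
  -- `R₀ = P - Q`
  have hR₀h : (P - Q).IsHomogeneous n := hPh.sub hQh
  have hR₀I : MvPolynomial.eval f (P - Q) ∈ I := by
    rw [map_sub, hQe, ← Ideal.Quotient.eq_zero_iff_mem, map_sub, hy, sub_self]
  have hR₀K : MvPolynomial.eval f (P - Q) ∈ K ^ n :=
    (Ideal.mem_span_pow_iff_exists_isHomogeneous f _).2 ⟨P - Q, hR₀h, rfl⟩
  haveI : Module.Flat A (B ⧸ K ^ n) := Groth.Agent.R2.H23.TransReg.flat_quot_pow f hf n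
  have hR₀IK := mem_mul_of_mem_inter (K ^ n) 𝔞 _ hR₀K hR₀I
  obtain ⟨W, hWh, hWc, hWe⟩ := exists_homogeneous_coeff_mem' f I n _ hR₀IK
  -- `(R₀ - W)(f) = 0`
  have hfin := hf n (P - Q - W) (hR₀h.sub hWh) (by
    rw [map_sub, hWe, sub_self]
    exact Ideal.zero_mem _) d
  have hd : P.coeff d = (P - Q - W).coeff d + Q.coeff d + W.coeff d := by
    simp only [MvPolynomial.coeff_sub]
    ring
  rw [← hPcoeff d, hd, map_add, map_add, Ideal.Quotient.eq_zero_iff_mem.2 (hWc d), add_zero]
  exact Ideal.add_mem _ (Ideal.mem_map_of_mem _ hfin) (Ideal.mem_map_of_mem _ (hQc d))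

end Quot

section TensorForm

variable (A B A' : Type u) [CommRing A] [CommRing B] [CommRing A'] [Algebra A B] [Algebra A A']

/-- `includeRight : B → P ⊗[A] B` is flat when `P` is flat over `A`. -/
theorem flat_includeRight (P : Type u) [CommRing P] [Algebra A P] [Module.Flat A P] :
    (Algebra.TensorProduct.includeRight : B →ₐ[A] P ⊗[A] B).toRingHom.Flat := by
  have h1 : (algebraMap B (B ⊗[A] P)).Flat := RingHom.flat_algebraMap_iff.2 inferInstance
  have h2 : ((Algebra.TensorProduct.comm A B P).toRingEquiv.toRingHom).Flat :=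
    RingHom.Flat.of_bijective (Algebra.TensorProduct.comm A B P).bijective
  have h3 := RingHom.Flat.comp h1 h2
  have h4 : ((Algebra.TensorProduct.comm A B P).toRingEquiv.toRingHom).comp
      (algebraMap B (B ⊗[A] P)) =
      (Algebra.TensorProduct.includeRight : B →ₐ[A] P ⊗[A] B).toRingHom := by
    ext b
    simp [Algebra.TensorProduct.algebraMap_apply]
  rw [h4] at h3
  exact h3

section Tensor

/-- the polynomial algebra on the elements of `A'` -/
abbrev PolyOn (A A' : Type u) [CommRing A] : Type u := MvPolynomial A' A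

noncomputable def polyOnπ (A A' : Type u) [CommRing A] [CommRing A'] [Algebra A A'] :
    PolyOn A A' →ₐ[A] A' := MvPolynomial.aeval id

theorem polyOnπ_surjective (A A' : Type u) [CommRing A] [CommRing A'] [Algebra A A'] :
    Function.Surjective (polyOnπ A A') := fun x =>
  ⟨MvPolynomial.X x, by simp [polyOnπ]⟩

variable {A B} {c : ℕ} (f : Fin c → B)

/-- flatness of the quotient after base change to `P` -/
theorem flat_quot_tensor (P : Type u) [CommRing P] [Algebra A P]
    [Module.Flat A (B ⧸ Ideal.span (Set.range f))] :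
    Module.Flat P ((P ⊗[A] B) ⧸ Ideal.span (Set.range fun i => (1 : P) ⊗ₜ[A] f i)) := by
  have h1 : Ideal.span (Set.range fun i => (1 : P) ⊗ₜ[A] f i) =
      (Ideal.span (Set.range f)).map
        (Algebra.TensorProduct.includeRight : B →ₐ[A] P ⊗[A] B) := by
    rw [Ideal.map_span, ← Set.range_comp]
    rfl
  rw [h1]
  exact Module.Flat.of_linearEquiv
    (Algebra.TensorProduct.tensorQuotientEquiv (R := A) P B P
      (Ideal.span (Set.range f))).symm.toLinearEquiv


/-- the kernel of `A[A'] → A'` -/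
noncomputable abbrev polyOnKer (A A' : Type u) [CommRing A] [CommRing A'] [Algebra A A'] :
    Ideal (PolyOn A A') := RingHom.ker (polyOnπ A A')

/-- the ring isomorphism `(P ⊗ B)/𝔞(P ⊗ B) ≃ A' ⊗ B` for `P = A[A']`, `𝔞 = ker (P → A')` -/
noncomputable def quotTensorEquiv (A B A' : Type u) [CommRing A] [CommRing B] [CommRing A']
    [Algebra A B] [Algebra A A'] :
    ((PolyOn A A' ⊗[A] B) ⧸ (polyOnKer A A').map
      (algebraMap (PolyOn A A') (PolyOn A A' ⊗[A] B))) ≃+* A' ⊗[A] B :=
  ((Algebra.TensorProduct.quotientTensorEquiv (R := A) A B (PolyOn A A')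
      (polyOnKer A A')).symm.toRingEquiv).trans
    (Algebra.TensorProduct.congr
      (Ideal.quotientKerAlgEquivOfSurjective (polyOnπ_surjective A A'))
      (AlgEquiv.refl (R := A) (A₁ := B))).toRingEquiv

theorem quotTensorEquiv_mk (A B A' : Type u) [CommRing A] [CommRing B] [CommRing A']
    [Algebra A B] [Algebra A A'] (b : B) :
    quotTensorEquiv A B A' (Ideal.Quotient.mk _ ((1 : PolyOn A A') ⊗ₜ[A] b)) = (1 : A') ⊗ₜ[A] b := by
  have h1 : (Algebra.TensorProduct.quotientTensorEquiv (R := A) A B (PolyOn A A')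
      (polyOnKer A A')).symm
      (Ideal.Quotient.mk _ ((1 : PolyOn A A') ⊗ₜ[A] b)) =
      (Ideal.Quotient.mk _ (1 : PolyOn A A')) ⊗ₜ[A] b := rfl
  change (Algebra.TensorProduct.congr
      (Ideal.quotientKerAlgEquivOfSurjective (polyOnπ_surjective A A'))
      (AlgEquiv.refl (R := A) (A₁ := B)))
      ((Algebra.TensorProduct.quotientTensorEquiv (R := A) A B (PolyOn A A')
      (polyOnKer A A')).symm (Ideal.Quotient.mk _ ((1 : PolyOn A A') ⊗ₜ[A] b))) = _
  rw [h1, Algebra.TensorProduct.congr_apply, Algebra.TensorProduct.map_tmul]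
  congr 1
  rw [map_one]
  exact map_one _


/-- **Base change of `H_1`-regular sequences with flat quotient** (tensor form). -/
theorem isH1Regular_tensor (hf : CAlgX.IsH1Regular f)
    [Module.Flat A (B ⧸ Ideal.span (Set.range f))] :
    CAlgX.IsH1Regular (fun i => (1 : A') ⊗ₜ[A] f i) := by
  have h1 : CAlgX.IsH1Regular (fun i => (1 : PolyOn A A') ⊗ₜ[A] f i) :=
    isH1Regular_map_of_flat
      (Algebra.TensorProduct.includeRight : B →ₐ[A] PolyOn A A' ⊗[A] B).toRingHom
      (flat_includeRight A B (PolyOn A A')) f hf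
  haveI := flat_quot_tensor (A := A) f (PolyOn A A')
  have h2 := isH1Regular_quotient (A := PolyOn A A') (B := PolyOn A A' ⊗[A] B) _ h1
    (polyOnKer A A')
  have h3 := isH1Regular_map_of_flat (quotTensorEquiv A B A').toRingHom
    (RingHom.Flat.of_bijective (quotTensorEquiv A B A').bijective) _ h2
  have h4 : (fun i => (quotTensorEquiv A B A').toRingHom (Ideal.Quotient.mk
      ((polyOnKer A A').map (algebraMap (PolyOn A A') (PolyOn A A' ⊗[A] B)))
      ((1 : PolyOn A A') ⊗ₜ[A] f i))) = fun i => (1 : A') ⊗ₜ[A] f i :=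
    funext fun i => quotTensorEquiv_mk A B A' (f i)
  rw [h4] at h3
  exact h3

/-- **Base change of quasi-regular sequences with flat quotient** (tensor form). -/
theorem isQuasiRegular_tensor (hf : CAlgX.IsQuasiRegular f)
    [Module.Flat A (B ⧸ Ideal.span (Set.range f))] :
    CAlgX.IsQuasiRegular (fun i => (1 : A') ⊗ₜ[A] f i) := by
  have h1 : CAlgX.IsQuasiRegular (fun i => (1 : PolyOn A A') ⊗ₜ[A] f i) :=
    isQuasiRegular_map_of_flat
      (Algebra.TensorProduct.includeRight : B →ₐ[A] PolyOn A A' ⊗[A] B).toRingHom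
      (flat_includeRight A B (PolyOn A A')) f hf
  haveI := flat_quot_tensor (A := A) f (PolyOn A A')
  have h2 := isQuasiRegular_quotient (A := PolyOn A A') (B := PolyOn A A' ⊗[A] B) _ h1
    (polyOnKer A A')
  have h3 := isQuasiRegular_map_of_flat (quotTensorEquiv A B A').toRingHom
    (RingHom.Flat.of_bijective (quotTensorEquiv A B A').bijective) _ h2
  have h4 : (fun i => (quotTensorEquiv A B A').toRingHom (Ideal.Quotient.mk
      ((polyOnKer A A').map (algebraMap (PolyOn A A') (PolyOn A A' ⊗[A] B)))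
      ((1 : PolyOn A A') ⊗ₜ[A] f i))) = fun i => (1 : A') ⊗ₜ[A] f i :=
    funext fun i => quotTensorEquiv_mk A B A' (f i)
  rw [h4] at h3
  exact h3

end Tensor

end TensorForm

section PushoutForm

open CategoryTheory CategoryTheory.Limits

/-- `H_1`-regular / quasi-regular sequences with flat quotient are preserved by pushouts of rings. -/
theorem kind_of_isPushout {A B A' D : CommRingCat.{u}} {α : A ⟶ B} {φ : A ⟶ A'} {γ : B ⟶ D}
    {β : A' ⟶ D} (hpo : IsPushout α φ γ β) {c : ℕ} (f : Fin c → B)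
    (hfl : letI := α.hom.toAlgebra; Module.Flat A (B ⧸ Ideal.span (Set.range f))) :
    (CAlgX.IsH1Regular f → CAlgX.IsH1Regular (fun i => γ.hom (f i))) ∧
      (CAlgX.IsQuasiRegular f → CAlgX.IsQuasiRegular (fun i => γ.hom (f i))) := by
  letI := α.hom.toAlgebra
  letI := φ.hom.toAlgebra
  haveI : Module.Flat A (B ⧸ Ideal.span (Set.range f)) := hfl
  have ht := CommRingCat.isPushout_tensorProduct A A' B
  have hα : CommRingCat.ofHom (algebraMap A B) = α := rfl
  have hφ : CommRingCat.ofHom (algebraMap A A') = φ := rfl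
  rw [hα, hφ] at ht
  let e := ht.isoIsPushout _ _ hpo.flip
  have he : ∀ b : B, e.hom.hom ((1 : A') ⊗ₜ[A] b) = γ.hom b := by
    intro b
    have h1 := ht.inr_isoIsPushout_hom _ _ hpo.flip
    have h2 := congrArg (fun q => q.hom b) h1
    simp only [CommRingCat.hom_comp, RingHom.comp_apply, CommRingCat.hom_ofHom] at h2
    exact h2
  have hbij : Function.Bijective e.hom.hom :=
    ConcreteCategory.bijective_of_isIso e.hom
  have hflat : e.hom.hom.Flat := RingHom.Flat.of_bijective hbij
  constructor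
  · intro hf
    have h1 := isH1Regular_tensor (A := A) (B := B) A' f hf
    have h2 := isH1Regular_map_of_flat e.hom.hom hflat _ h1
    have h3 : (fun i => e.hom.hom ((1 : A') ⊗ₜ[A] f i)) = fun i => γ.hom (f i) :=
      funext fun i => he (f i)
    rw [h3] at h2
    exact h2
  · intro hf
    have h1 := isQuasiRegular_tensor (A := A) (B := B) A' f hf
    have h2 := isQuasiRegular_map_of_flat e.hom.hom hflat _ h1
    have h3 : (fun i => e.hom.hom ((1 : A') ⊗ₜ[A] f i)) = fun i => γ.hom (f i) :=
      funext fun i => he (f i)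
    rw [h3] at h2
    exact h2

end PushoutForm

end Groth.Agent.R2.H40.RelRegAlg
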