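import Mathlib
import Groth.Agent.R2.H7KosBasic

/-!
# Change of generators for Koszul homology (helper7)

If `v = a *ᵥ u` for an invertible matrix `a`, the Koszul complexes of `u` and `v` (iterated cone model)
have simultaneously vanishing homology, with any coefficient module.  Proof: over the polynomial ring
`S = A[T_1..T_N]` the variables form a Koszul-regular sequence, so does its image under the linear
automorphism given by `a`, both generate the same ideal, and Koszul homology of a Koszul-regular
sequence computes `Tor^S(S/(T), -)` (helper13); then restrict scalars along `T ↦ u`.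
-/

set_option autoImplicit false
universe u

namespace Groth.Agent.R2.H7.KosCG

open CategoryTheory CategoryTheory.Limits CochainComplex CohIII MvPolynomial
open Groth.Agent.Helper13Kz Groth.Agent.Helper13KzLift Groth.Agent.R2.H7.KosBasic
open RingTheory.Sequence

variable (A : Type u) [CommRing A]

/-- the variables of a polynomial ring form a weakly regular sequence -/
theorem isWeaklyRegular_X : ∀ N : ℕ, IsWeaklyRegular (MvPolynomial (Fin N) A)
    (List.ofFn (fun i : Fin N => (X i : MvPolynomial (Fin N) A)))
  | 0 => by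
    rw [List.ofFn_zero]
    exact IsWeaklyRegular.nil _ _
  | N + 1 => by
    rw [List.ofFn_succ]
    let φ : MvPolynomial (Fin (N + 1)) A ≃+* Polynomial (MvPolynomial (Fin N) A) :=
      (MvPolynomial.finSuccEquiv A N).toRingEquiv
    let ψ : MvPolynomial (Fin (N + 1)) A →+* MvPolynomial (Fin N) A :=
      (Polynomial.constantCoeff).comp (φ : _ →+* _)
    have hφ0 : φ (X 0) = Polynomial.X := MvPolynomial.finSuccEquiv_X_zero
    have hφs : ∀ i : Fin N, φ (X i.succ) = Polynomial.C (X i) := fun i =>
      MvPolynomial.finSuccEquiv_X_succ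
    have hsurj : Function.Surjective ψ := by
      intro p
      refine ⟨φ.symm (Polynomial.C p), ?_⟩
      change Polynomial.constantCoeff (φ (φ.symm (Polynomial.C p))) = p
      rw [RingEquiv.apply_symm_apply]
      simp
    have hker : RingHom.ker ψ = Ideal.span {(X 0 : MvPolynomial (Fin (N + 1)) A)} := by
      ext x
      rw [RingHom.mem_ker]
      change Polynomial.constantCoeff (φ x) = 0 ↔ _
      rw [← RingHom.mem_ker, Polynomial.ker_constantCoeff, Ideal.mem_span_singleton,
        Ideal.mem_span_singleton]
      constructor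
      · rintro ⟨c, hc⟩
        refine ⟨φ.symm c, ?_⟩
        apply φ.injective
        rw [map_mul, hc, RingEquiv.apply_symm_apply, hφ0]
      · rintro ⟨c, rfl⟩
        exact ⟨φ c, by rw [map_mul, hφ0]⟩
    have hreg : IsSMulRegular (MvPolynomial (Fin (N + 1)) A)
        (X 0 : MvPolynomial (Fin (N + 1)) A) :=
      (MvPolynomial.isRegular_X (R := A) (n := (0 : Fin (N + 1)))).left.isSMulRegular
    refine Groth.Agent.R2.H93.RegSeqAway.isWeaklyRegular_cons_of_surjective ψ hsurj _ hker hreg _ ?_
    rw [List.map_ofFn]
    have : (⇑ψ ∘ fun i : Fin N => (X i.succ : MvPolynomial (Fin (N + 1)) A)) =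
        fun i : Fin N => (X i : MvPolynomial (Fin N) A) := by
      funext i
      change Polynomial.constantCoeff (φ (X i.succ)) = _
      rw [hφs]
      simp
    rw [this]
    exact isWeaklyRegular_X N

/-- the variables of a polynomial ring form a Koszul-regular sequence -/
theorem kr_X (N : ℕ) : LCI.IsKoszulRegularSeq (MvPolynomial (Fin N) A)
    (List.ofFn (fun i : Fin N => (X i : MvPolynomial (Fin N) A))) :=
  (Groth.Agent.S15821.result _ _ (isWeaklyRegular_X A N)).1

variable {A} {N : ℕ}

/-- the linear substitution attached to a matrix -/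
noncomputable def theta (a : Matrix (Fin N) (Fin N) A) :
    MvPolynomial (Fin N) A →ₐ[A] MvPolynomial (Fin N) A :=
  MvPolynomial.aeval (fun j => ∑ i, C (a j i) * X i)

lemma theta_X (a : Matrix (Fin N) (Fin N) A) (j : Fin N) :
    theta a (X j) = ∑ i, C (a j i) * X i := by
  simp [theta]

lemma theta_comp (a b : Matrix (Fin N) (Fin N) A) :
    (theta a).comp (theta b) = theta (b * a) := by
  apply MvPolynomial.algHom_ext
  intro j
  rw [AlgHom.comp_apply, theta_X, map_sum, theta_X]
  simp_rw [map_mul, MvPolynomial.algHom_C, theta_X, Finset.mul_sum]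
  rw [Finset.sum_comm]
  refine Finset.sum_congr rfl fun k _ => ?_
  rw [Matrix.mul_apply, map_sum, Finset.sum_mul]
  refine Finset.sum_congr rfl fun i _ => ?_
  rw [map_mul, mul_assoc]
  rfl

lemma theta_one : theta (1 : Matrix (Fin N) (Fin N) A) = AlgHom.id A _ := by
  apply MvPolynomial.algHom_ext
  intro j
  rw [theta_X, AlgHom.id_apply]
  rw [Finset.sum_eq_single j]
  · simp
  · intro i _ hij
    simp [Matrix.one_apply_ne' hij]
  · simp

lemma eval_theta (u : Fin N → A) (a : Matrix (Fin N) (Fin N) A) (p : MvPolynomial (Fin N) A) :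
    MvPolynomial.eval u (theta a p) = MvPolynomial.eval (a.mulVec u) p := by
  have : (MvPolynomial.eval u).comp (theta a : MvPolynomial (Fin N) A →+* _) =
      MvPolynomial.eval (a.mulVec u) := by
    apply MvPolynomial.ringHom_ext
    · intro r
      simp [theta]
    · intro j
      change MvPolynomial.eval u (theta a (X j)) = _
      rw [theta_X, map_sum]
      simp [Matrix.mulVec, dotProduct]
  exact congrArg (fun f => f p) this

/-- the linear automorphism attached to an invertible matrix -/
noncomputable def thetaEquiv (a b : Matrix (Fin N) (Fin N) A) (hab : a * b = 1) (hba : b * a = 1) :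
    MvPolynomial (Fin N) A ≃ₐ[A] MvPolynomial (Fin N) A :=
  AlgEquiv.ofAlgHom (theta a) (theta b)
    (by rw [theta_comp, hba, theta_one]) (by rw [theta_comp, hab, theta_one])

lemma theta_X_mem (a : Matrix (Fin N) (Fin N) A) (j : Fin N) :
    theta a (X j) ∈ Ideal.ofList (List.ofFn (fun i : Fin N => (X i : MvPolynomial (Fin N) A))) := by
  rw [theta_X]
  refine Ideal.sum_mem _ fun i _ => Ideal.mul_mem_left _ _ (Ideal.subset_span ?_)
  simp [List.mem_ofFn]

lemma map_theta_le (a : Matrix (Fin N) (Fin N) A) :
    (Ideal.ofList (List.ofFn (fun i : Fin N => (X i : MvPolynomial (Fin N) A)))).map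
      (theta a : MvPolynomial (Fin N) A →+* MvPolynomial (Fin N) A) ≤
      Ideal.ofList (List.ofFn (fun i : Fin N => (X i : MvPolynomial (Fin N) A))) := by
  rw [Ideal.map_le_iff_le_comap]
  apply Ideal.span_le.2
  intro x hx
  simp only [Set.mem_ofPred_eq, List.mem_ofFn] at hx
  obtain ⟨j, rfl⟩ := hx
  exact theta_X_mem a j

lemma ofList_map_theta (a b : Matrix (Fin N) (Fin N) A) (hba : b * a = 1) :
    Ideal.ofList ((List.ofFn (fun i : Fin N => (X i : MvPolynomial (Fin N) A))).map
      (theta a : MvPolynomial (Fin N) A →+* MvPolynomial (Fin N) A)) =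
      Ideal.ofList (List.ofFn (fun i : Fin N => (X i : MvPolynomial (Fin N) A))) := by
  rw [← Ideal.map_ofList]
  refine le_antisymm (map_theta_le a) ?_
  intro x hx
  have h1 : theta b x ∈ Ideal.ofList (List.ofFn (fun i : Fin N => (X i : MvPolynomial (Fin N) A))) :=
    map_theta_le b (Ideal.mem_map_of_mem _ hx)
  have h2 : theta a (theta b x) = x := by
    have := theta_comp a b
    rw [hba, theta_one] at this
    exact congrArg (fun f => f x) this
  rw [← h2]
  exact Ideal.mem_map_of_mem _ h1

/-- `Tor` against `S/I` only depends on the ideal -/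
lemma isZero_tor_congr {S : Type u} [CommRing S] {I J : Ideal S} (h : I = J) (Y : ModuleCat.{u} S)
    (n : ℕ) :
    IsZero (((Tor (ModuleCat.{u} S) n).obj (ModuleCat.of S (S ⧸ I))).obj Y) ↔
      IsZero (((Tor (ModuleCat.{u} S) n).obj (ModuleCat.of S (S ⧸ J))).obj Y) := by
  subst h; rfl

/-- two Koszul-regular sequences generating the same ideal have simultaneously vanishing Koszul
homology, with arbitrary coefficients -/
theorem isZero_iff_of_kr_of_ofList_eq {S : Type u} [CommRing S] (l l' : List S)
    (hl : LCI.IsKoszulRegularSeq S l) (hl' : LCI.IsKoszulRegularSeq S l')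
    (h : Ideal.ofList l = Ideal.ofList l') (Y : ModuleCat.{u} S) (i : ℤ) :
    IsZero ((koszulCx Y l).homology i) ↔ IsZero ((koszulCx Y l').homology i) := by
  rcases lt_or_ge 0 i with hi | hi
  · have h1 : Subsingleton (KH l Y i) := subsingleton_KH_of_pos Y l i hi
    have h2 : Subsingleton (KH l' Y i) := subsingleton_KH_of_pos Y l' i hi
    exact ⟨fun _ => ModuleCat.isZero_of_subsingleton _, fun _ => ModuleCat.isZero_of_subsingleton _⟩
  · obtain ⟨n, rfl⟩ : ∃ n : ℕ, i = -(n : ℤ) := ⟨(-i).toNat, by omega⟩
    obtain ⟨e⟩ := Groth.Agent.R2.H13.KoszulTor.nonempty_tor_iso_KH' l ((kr_iff_acyc l).1 hl) Y n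
    obtain ⟨e'⟩ := Groth.Agent.R2.H13.KoszulTor.nonempty_tor_iso_KH' l' ((kr_iff_acyc l').1 hl') Y n
    constructor
    · intro h0
      exact ((isZero_tor_congr h Y n).1 (h0.of_iso e)).of_iso e'.symm
    · intro h0
      exact ((isZero_tor_congr h Y n).2 (h0.of_iso e')).of_iso e.symm

/-- **Change of generators.**  If `a` is an invertible matrix then the Koszul complexes of `u` and of
`a *ᵥ u` have simultaneously vanishing homology in each degree, for any coefficient module. -/
theorem isZero_mulVec_iff (u : Fin N → A) (a b : Matrix (Fin N) (Fin N) A) (hab : a * b = 1)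
    (hba : b * a = 1) (M : ModuleCat.{u} A) (i : ℤ) :
    IsZero ((koszulCx M (List.ofFn (a.mulVec u))).homology i) ↔
      IsZero ((koszulCx M (List.ofFn u)).homology i) := by
  let T : List (MvPolynomial (Fin N) A) := List.ofFn (fun i : Fin N => (X i : MvPolynomial (Fin N) A))
  let ev : MvPolynomial (Fin N) A →+* A := MvPolynomial.eval u
  let θ : MvPolynomial (Fin N) A →+* MvPolynomial (Fin N) A := (theta a : _ →+* _)
  have hT : LCI.IsKoszulRegularSeq (MvPolynomial (Fin N) A) T := kr_X A N
  have hθ : θ.Flat := RingHom.Flat.of_bijective (thetaEquiv a b hab hba).bijective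
  have hV : LCI.IsKoszulRegularSeq (MvPolynomial (Fin N) A) (T.map θ) := kr_map_of_flat θ hθ T hT
  have hI : Ideal.ofList (T.map θ) = Ideal.ofList T := ofList_map_theta a b hba
  have key := isZero_iff_of_kr_of_ofList_eq (T.map θ) T hV hT hI
    ((ModuleCat.restrictScalars ev).obj M) i
  have e1 : (T.map θ).map ev = List.ofFn (a.mulVec u) := by
    rw [List.map_map, List.map_ofFn]
    congr 1
    funext j
    change MvPolynomial.eval u (theta a (X j)) = _
    rw [eval_theta, MvPolynomial.eval_X]
  have e2 : T.map ev = List.ofFn u := by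
    rw [List.map_ofFn]
    congr 1
    funext j
    change MvPolynomial.eval u (X j) = _
    rw [MvPolynomial.eval_X]
  rw [← isZero_restrict_iff ev M (T.map θ) i, ← isZero_restrict_iff ev M T i, e1, e2] at key
  exact key

/-- change of generators for Koszul-regularity -/
theorem kr_mulVec_iff (u : Fin N → A) (a b : Matrix (Fin N) (Fin N) A) (hab : a * b = 1)
    (hba : b * a = 1) :
    LCI.IsKoszulRegularSeq A (List.ofFn (a.mulVec u)) ↔ LCI.IsKoszulRegularSeq A (List.ofFn u) := by
  rw [kr_iff_acyc, kr_iff_acyc]
  exact forall_congr' fun i => forall_congr' fun _ => isZero_mulVec_iff u a b hab hba _ i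

/-- permutation invariance of Koszul-regularity -/
theorem kr_comp_perm_iff (u : Fin N → A) (σ : Equiv.Perm (Fin N)) :
    LCI.IsKoszulRegularSeq A (List.ofFn (u ∘ σ)) ↔ LCI.IsKoszulRegularSeq A (List.ofFn u) := by
  have h := kr_mulVec_iff u (σ.toPEquiv.toMatrix : Matrix (Fin N) (Fin N) A)
    ((σ.symm).toPEquiv.toMatrix : Matrix (Fin N) (Fin N) A)
    (by rw [← PEquiv.toMatrix_trans, ← Equiv.toPEquiv_trans]; simp)
    (by rw [← PEquiv.toMatrix_trans, ← Equiv.toPEquiv_trans]; simp)
  have h2 : (σ.toPEquiv.toMatrix : Matrix (Fin N) (Fin N) A).mulVec u = u ∘ σ := by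
    funext j
    simp [Matrix.mulVec, dotProduct, PEquiv.toMatrix_apply, Equiv.toPEquiv_apply]
  rw [h2] at h
  exact h

end Groth.Agent.R2.H7.KosCG
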