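import Mathlib
import Groth.Agent.R2.H40RegSpread
import Groth.Agent.R2.H40RelRegAlg
import Groth.Agent.R2.H7KosCG
import Groth.Agent.Lib.Helper5RegImmComp

/-!
# Quasi-regular sequences with flat quotient in flat finitely presented algebras are regular
near every point (helper40)

* `nzdAt_of_isQuasiRegular` : `f` quasi-regular in `B` with `B ⧸ (f)` flat over `A`, `B` of finite
  type over `A`, `q ⊇ (f)` prime: `f` is a regular sequence in the local ring at `q` of the fibre
  (elementwise form `NzdAt`).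
* `exists_away_isWeaklyRegular` : `A → B` flat of finite presentation, `f` as above; then for some
  `g ∉ q` the sequence `f` is weakly regular in every localization of `B` away from a multiple of `g`.
-/

set_option autoImplicit false
set_option linter.style.haveILetI false
universe u

open Polynomial TensorProduct
open Groth.Agent.R2.H42.FibReg Groth.Agent.R2.H6.NzdSlice Groth.Agent.R2.H40.RegSpread

namespace Groth.Agent.R2.H40.RegSpread

section NZ

variable {A B : Type u} [CommRing A] [CommRing B] [Algebra A B]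

/-- A quasi-regular sequence with `A`-flat quotient is, at every prime `q` containing it, a regular
sequence in the local ring at `q` of the fibre over `q ∩ A` (elementwise form). -/
theorem nzdAt_of_isQuasiRegular [Algebra.FiniteType A B] {c : ℕ} (f : Fin c → B)
    (hqr : CAlgX.IsQuasiRegular f) [Module.Flat A (B ⧸ Ideal.span (Set.range f))]
    (q : Ideal B) [q.IsPrime] (hf : ∀ i, f i ∈ q) (i : Fin c) :
    NzdAt q ((q.under A).map (algebraMap A B) ⊔ Ideal.span (f '' {j | j < i})) (f i) := by
  classical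
  set p := q.under A with hp
  set κ := p.ResidueField
  obtain ⟨Q, hQprime, hQ⟩ : ∃ Q : Ideal (p.Fiber B), ∃ _ : Q.IsPrime,
      Q.comap (Algebra.TensorProduct.includeRight : B →ₐ[A] p.Fiber B) = q := by
    let q' := PrimeSpectrum.primesOverOrderIsoFiber A B p ⟨q, ⟨inferInstance, ⟨rfl⟩⟩⟩
    refine ⟨q'.asIdeal, q'.isPrime, ?_⟩
    have h := PrimeSpectrum.coe_primesOverOrderIsoFiber_symm_apply p q'
    rw [← h]
    simp [q']
  haveI : IsNoetherianRing (p.Fiber B) :=
    Algebra.FiniteType.isNoetherianRing κ (κ ⊗[A] B)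
  let ι : B →+* p.Fiber B := (Algebra.TensorProduct.includeRight : B →ₐ[A] p.Fiber B)
  have hι : ∀ b : B, ι b = (1 : κ) ⊗ₜ[A] b := fun b => rfl
  set t : Fin c → p.Fiber B := fun i => (1 : κ) ⊗ₜ[A] f i with ht
  have htQ : ∀ i, t i ∈ Q := fun i => (one_tmul_mem_iff q Q hQ (f i)).mpr (hf i)
  have hqrt : CAlgX.IsQuasiRegular t :=
    Groth.Agent.R2.H40.RelRegAlg.isQuasiRegular_tensor (A := A) (B := B) κ f hqr
  have hregAt : RegAt Q t := regAt_of_isQuasiRegular Q t htQ hqrt
  have hunit : ∀ a : A, a ∉ p → IsUnit (algebraMap A (p.Fiber B) a) := by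
    intro a ha
    rw [IsScalarTower.algebraMap_apply A κ (p.Fiber B)]
    apply IsUnit.map
    rw [isUnit_iff_ne_zero, Ne, Ideal.algebraMap_residueField_eq_zero]
    exact ha
  set J : Ideal B := Ideal.span (f '' {j | j < i}) with hJ
  have hJt : J.map ι = Ideal.span (t '' {j | j < i}) := by
    rw [hJ, Ideal.map_span, Set.image_image]
    rfl
  intro x ⟨s₀, hs₀, hmem⟩
  -- push to the fibre
  have h1 : t i * ι (s₀ * x) ∈ Ideal.span (t '' {j | j < i}) := by
    have h2 : ι (s₀ * (f i * x)) ∈ J.map ι := by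
      obtain ⟨u, hu, v, hv, huv⟩ := Submodule.mem_sup.mp hmem
      rw [← huv, map_add]
      have hu0 : ι u = 0 := by
        rw [hι]
        exact one_tmul_eq_zero_of_mem p u hu
      rw [hu0, zero_add]
      exact Ideal.mem_map_of_mem _ hv
    rw [← hJt]
    have h3 : t i * ι (s₀ * x) = ι (s₀ * (f i * x)) := by
      change ι (f i) * ι (s₀ * x) = _
      rw [← map_mul]
      congr 1
      ring
    rw [h3]
    exact h2
  obtain ⟨s, hs, hsmem⟩ := hregAt i _ h1
  obtain ⟨a, ha, b, hab⟩ := Ideal.Fiber.exists_smul_eq_one_tmul p s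
  have hbq : b ∉ q := by
    intro hbq
    have h2 : (1 : κ) ⊗ₜ[A] b ∈ Q := (one_tmul_mem_iff q Q hQ b).mpr hbq
    rw [← hab, Algebra.smul_def, Ideal.unit_mul_mem_iff_mem _ (hunit a ha)] at h2
    exact hs h2
  -- `ι (b * (s₀ * x)) ∈ J.map ι`
  have h4 : ι (b * (s₀ * x)) ∈ J.map ι := by
    rw [hJt, map_mul, hι b, ← hab, smul_mul_assoc, Algebra.smul_def]
    exact Ideal.mul_mem_left _ _ hsmem
  -- pass to `B ⧸ J`
  have h5 : (1 : κ) ⊗ₜ[A] (Ideal.Quotient.mk J (b * (s₀ * x))) = 0 := by
    rw [← fiberQuot_tmul p J, ← RingHom.mem_ker, fiberQuot_ker]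
    exact h4
  obtain ⟨a', ha', hmem'⟩ := exists_mul_mem_of_one_tmul_eq_zero (C := B ⧸ J) p _ h5
  refine ⟨algebraMap A B a' * (b * s₀), ?_, ?_⟩
  · intro hm
    rcases Ideal.IsPrime.mem_or_mem inferInstance hm with h | h
    · exact ha' h
    · rcases Ideal.IsPrime.mem_or_mem inferInstance h with h | h
      · exact hbq h
      · exact hs₀ h
  · have h6 : algebraMap A (B ⧸ J) a' * Ideal.Quotient.mk J (b * (s₀ * x)) =
        Ideal.Quotient.mk J (algebraMap A B a' * (b * s₀) * x) := by
      rw [IsScalarTower.algebraMap_apply A B (B ⧸ J), Ideal.Quotient.algebraMap_eq, ← map_mul]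
      congr 1
      ring
    rw [h6] at hmem'
    have h7 : (p.map (algebraMap A (B ⧸ J))) = (p.map (algebraMap A B)).map (Ideal.Quotient.mk J) := by
      rw [Ideal.map_map]
      rfl
    rw [h7, Ideal.mem_quotient_iff_mem_sup] at hmem'
    exact hmem'

end NZ

section Main

variable {A B : Type u} [CommRing A] [CommRing B] [Algebra A B]
  [Algebra.FinitePresentation A B] [Module.Flat A B]

/-- **Quasi-regular sequences with flat quotient are regular near every point**, for flat finitely
presented algebras over an arbitrary base ring. -/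
theorem exists_away_isWeaklyRegular {c : ℕ} (f : Fin c → B)
    (hqr : CAlgX.IsQuasiRegular f) [Module.Flat A (B ⧸ Ideal.span (Set.range f))]
    (q : Ideal B) [q.IsPrime] (hf : ∀ i, f i ∈ q) :
    ∃ g ∉ q, ∀ (g' : B) (B' : Type u) [CommRing B'] [Algebra B B']
      [IsLocalization.Away (g * g') B'],
      RingTheory.Sequence.IsWeaklyRegular B' (List.ofFn fun i => algebraMap B B' (f i)) := by
  obtain ⟨g, hg, H⟩ := exists_away_flat_mvPolynomial c q f hf
    (fun i => nzdAt_of_isQuasiRegular (A := A) f hqr q hf i)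
  refine ⟨g, hg, fun g' B' _ _ _ => ?_⟩
  have hfl := H g' B'
  have h1 := Groth.Agent.Lib.Helper5.RegImmComp.isWeaklyRegular_map_of_flat _ hfl _
    (Groth.Agent.R2.H7.KosCG.isWeaklyRegular_X A c)
  rw [List.map_ofFn] at h1
  convert h1 using 2
  funext i
  simp

end Main

end Groth.Agent.R2.H40.RegSpread
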