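import Groth.Agent.R2.H40FibCartier2
import Groth.Agent.R2.H40RegSpread2
import Groth.Agent.S3824
import Groth.Agent.S5802

/-!
# Fibrewise criterion for relative quasi-regular immersions: ring level (helper40)

`A → B` flat of finite presentation, `I ⊆ B` finitely generated with `B ⧸ I` flat over `A`, `q ⊇ I`
prime, `O = B_q`.  If the extension of `I` to the local ring `O ⧸ 𝔪_p O` of the fibre (presented as
a Noetherian local ring `O'` with a bijection `σ : O' → O ⧸ 𝔪_p O`) is generated by a quasi-regular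
sequence, then on a basic open neighbourhood of `q` the ideal `I` is generated by a regular
sequence.
-/

set_option autoImplicit false
set_option linter.style.haveILetI false
universe u

namespace Groth.Agent.R2.H40.FibQReg

open Groth.Agent.R2.H40.RegSpread Groth.Agent.R2.H40.RelRegAlg Groth.Agent.R2.H40.RelFlat
open Groth.Agent.R2.H42.FibReg

section Gen

/-- Nakayama + flatness, general form: if `O ⧸ J` is flat over `A`, `J` is finitely generated,
`𝔞 O` lies in the radical and `N ⊆ J ⊆ N + 𝔞 O`, then `J = N`. -/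
theorem eq_of_le_sup_map {A O : Type*} [CommRing A] [CommRing O] [Algebra A O]
    (𝔞 : Ideal A) (h𝔞 : 𝔞.map (algebraMap A O) ≤ Ideal.jacobson ⊥) (J : Ideal O) (hJ : J.FG)
    [Module.Flat A (O ⧸ J)] (N : Ideal O) (hNJ : N ≤ J)
    (hle : J ≤ N ⊔ 𝔞.map (algebraMap A O)) : J = N := by
  refine le_antisymm ?_ hNJ
  refine Submodule.le_of_le_smul_of_le_jacobson_bot hJ h𝔞 ?_
  intro y hy
  obtain ⟨u, hu, n, hn, hun⟩ := Submodule.mem_sup.mp (hle hy)
  have hnJ : n ∈ J := by
    have : n = y - u := by rw [← hun]; ring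
    rw [this]
    exact J.sub_mem hy (hNJ hu)
  have h1 := mem_mul_of_mem_inter J 𝔞 n hnJ hn
  rw [← hun]
  exact Submodule.add_mem_sup hu (by rwa [Ideal.smul_eq_mul])

/-- Spreading out an equality of ideals from the local ring at a prime to a basic open. -/
theorem exists_away_map_eq_map {B O : Type u} [CommRing B] (q : Ideal B) [q.IsPrime]
    [CommRing O] [Algebra B O] [IsLocalization.AtPrime O q] (I : Ideal B) (hI : I.FG)
    (N : Ideal B) (hN : N ≤ I) (hle : I.map (algebraMap B O) ≤ N.map (algebraMap B O)) :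
    ∃ g ∉ q, ∀ (g' : B) (B' : Type u) [CommRing B'] [Algebra B B']
      [IsLocalization.Away (g * g') B'], I.map (algebraMap B B') = N.map (algebraMap B B') := by
  classical
  obtain ⟨s, rfl⟩ := hI
  have key : ∀ y ∈ s, ∃ t ∉ q, t * y ∈ N := by
    intro y hy
    have h1 : algebraMap B O y ∈ N.map (algebraMap B O) :=
      hle (Ideal.mem_map_of_mem _ (Ideal.subset_span hy))
    obtain ⟨m, hm, hmy⟩ :=
      (IsLocalization.algebraMap_mem_map_algebraMap_iff q.primeCompl O _ _).1 h1
    exact ⟨m, hm, hmy⟩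
  choose! t ht1 ht2 using key
  refine ⟨∏ y ∈ s, t y, ?_, ?_⟩
  · rw [Ideal.IsPrime.prod_mem_iff]
    rintro ⟨y, hy, hty⟩
    exact ht1 y hy hty
  · intro g' B' _ _ _
    refine le_antisymm ?_ (Ideal.map_mono hN)
    rw [Ideal.map_span, Ideal.span_le]
    rintro _ ⟨y, hy, rfl⟩
    have hunit : IsUnit (algebraMap B B' (t y)) :=
      isUnit_of_dvd_unit ((algebraMap B B').map_dvd
        ((Finset.dvd_prod_of_mem t hy).trans (Dvd.intro g' rfl)))
        (IsLocalization.Away.algebraMap_isUnit ((∏ y ∈ s, t y) * g'))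
    have h2 : algebraMap B B' (t y * y) ∈ N.map (algebraMap B B') :=
      Ideal.mem_map_of_mem (algebraMap B B') (ht2 y hy)
    rw [map_mul] at h2
    exact (Ideal.unit_mul_mem_iff_mem _ hunit).1 h2

end Gen

section Reg

variable {A B : Type u} [CommRing A] [CommRing B] [Algebra A B]
  [Algebra.FinitePresentation A B] [Module.Flat A B]

/-- A sequence which is regular in the local rings of the fibre at `q` is weakly regular on a basic
open neighbourhood of `q`. -/
theorem exists_away_isWeaklyRegular_of_nzdAt {c : ℕ} (f : Fin c → B)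
    (q : Ideal B) [q.IsPrime] (hf : ∀ i, f i ∈ q)
    (hN : ∀ i : Fin c, NzdAt q ((q.under A).map (algebraMap A B) ⊔
      Ideal.span (f '' {j | j < i})) (f i)) :
    ∃ g ∉ q, ∀ (g' : B) (B' : Type u) [CommRing B'] [Algebra B B']
      [IsLocalization.Away (g * g') B'],
      RingTheory.Sequence.IsWeaklyRegular B' (List.ofFn fun i => algebraMap B B' (f i)) := by
  obtain ⟨g, hg, H⟩ := exists_away_flat_mvPolynomial c q f hf hN
  refine ⟨g, hg, fun g' B' _ _ _ => ?_⟩
  have hfl := H g' B'
  have h1 := Groth.Agent.Lib.Helper5.RegImmComp.isWeaklyRegular_map_of_flat _ hfl _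
    (Groth.Agent.R2.H7.KosCG.isWeaklyRegular_X A c)
  rw [List.map_ofFn] at h1
  convert h1 using 2
  funext i
  simp

end Reg

section Core

variable {A B : Type u} [CommRing A] [CommRing B] [Algebra A B]
  [Algebra.FinitePresentation A B] [Module.Flat A B]

/-- **Fibrewise criterion, ring level.** -/
theorem exists_away_regular_of_fibre (I : Ideal B) (hI : I.FG) [Module.Flat A (B ⧸ I)]
    (q : Ideal B) [q.IsPrime]
    {O : Type u} [CommRing O] [Algebra B O] [IsLocalization.AtPrime O q]
    (𝔫 : Ideal O) (h𝔫 : 𝔫 = ((q.under A).map (algebraMap A B)).map (algebraMap B O))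
    {O' : Type u} [CommRing O'] [IsLocalRing O'] [IsNoetherianRing O']
    (σ : O' →+* O ⧸ 𝔫) (hσ : Function.Bijective σ)
    (G : B →+* O') (hG : ∀ b, σ (G b) = Ideal.Quotient.mk 𝔫 (algebraMap B O b))
    {c : ℕ} (r : Fin c → O') (hr : CAlgX.IsQuasiRegular r)
    (hrm : ∀ i, r i ∈ IsLocalRing.maximalIdeal O')
    (hIG : I.map G = Ideal.span (Set.range r)) :
    ∃ (f : Fin c → B) (g : B), (∀ i, f i ∈ I) ∧ g ∉ q ∧
      ∀ (g' : B) (B' : Type u) [CommRing B'] [Algebra B B'] [IsLocalization.Away (g * g') B'],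
        I.map (algebraMap B B') = Ideal.span (Set.range fun i => algebraMap B B' (f i)) ∧
        RingTheory.Sequence.IsWeaklyRegular B' (List.ofFn fun i => algebraMap B B' (f i)) := by
  classical
  set p := q.under A with hp
  haveI : IsLocalRing O := IsLocalization.AtPrime.isLocalRing O q
  -- `σ ∘ G = mk ∘ algebraMap` on ideals
  have hmapσ : ∀ L : Ideal B, (L.map G).map σ =
      (L.map (algebraMap B O)).map (Ideal.Quotient.mk 𝔫) := by
    intro L
    rw [Ideal.map_map, Ideal.map_map]
    congr 1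
    ext b
    exact hG b
  -- units
  have hGunit : ∀ t : B, t ∉ q → IsUnit (G t) := by
    intro t ht
    have h1 : IsUnit (σ (G t)) := by
      rw [hG]
      exact (IsLocalization.map_units O (⟨t, ht⟩ : q.primeCompl)).map (Ideal.Quotient.mk 𝔫)
    let e := RingEquiv.ofBijective σ hσ
    have h2 : IsUnit (e (G t)) := h1
    exact (MulEquiv.isUnit_map e.toMulEquiv).1 h2
  -- `G` kills `p B`
  have hGp : ∀ b ∈ p.map (algebraMap A B), G b = 0 := by
    intro b hb
    apply hσ.1
    rw [hG, map_zero, Ideal.Quotient.eq_zero_iff_mem, h𝔫]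
    exact Ideal.mem_map_of_mem _ hb
  -- lifting elements of `I O'`
  have hlift : ∀ x ∈ I.map G, ∃ y ∈ I, ∃ t ∉ q, x * G t = G y := by
    intro x hx
    have h1 : σ x ∈ (I.map (algebraMap B O)).map (Ideal.Quotient.mk 𝔫) := by
      rw [← hmapσ]
      exact Ideal.mem_map_of_mem σ hx
    obtain ⟨j, hj, hjx⟩ :=
      (Ideal.mem_map_iff_of_surjective _ Ideal.Quotient.mk_surjective).1 h1
    obtain ⟨⟨y, t⟩, hyt⟩ := (IsLocalization.mem_map_algebraMap_iff q.primeCompl O).1 hj
    refine ⟨y, y.2, t, t.2, hσ.1 ?_⟩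
    rw [map_mul, hG, hG, ← hjx, ← map_mul, hyt]
  -- descending membership
  have hdesc : ∀ (L : Ideal B) (c₀ : B), G c₀ ∈ L.map G →
      ∃ m ∉ q, m * c₀ ∈ p.map (algebraMap A B) ⊔ L := by
    intro L c₀ h
    have h1 : σ (G c₀) ∈ (L.map (algebraMap B O)).map (Ideal.Quotient.mk 𝔫) := by
      rw [← hmapσ]
      exact Ideal.mem_map_of_mem σ h
    rw [hG, Ideal.mem_quotient_iff_mem_sup, h𝔫, ← Ideal.map_sup] at h1
    obtain ⟨m, hm, hmc⟩ :=
      (IsLocalization.algebraMap_mem_map_algebraMap_iff q.primeCompl O _ _).1 h1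
    exact ⟨m, hm, by rwa [sup_comm]⟩
  -- choose the sequence
  have hri : ∀ i, r i ∈ I.map G := fun i => hIG ▸ Ideal.subset_span ⟨i, rfl⟩
  choose f hfI t htq hft using fun i => hlift (r i) (hri i)
  have hspan : Ideal.span (Set.range fun i => G (f i)) = Ideal.span (Set.range r) := by
    apply le_antisymm
    · rw [Ideal.span_le]
      rintro _ ⟨i, rfl⟩
      change G (f i) ∈ Ideal.span (Set.range r)
      rw [← hft i]
      exact Ideal.mul_mem_right _ _ (Ideal.subset_span ⟨i, rfl⟩)
    · rw [Ideal.span_le]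
      rintro _ ⟨i, rfl⟩
      have h1 : r i * G (t i) ∈ Ideal.span (Set.range fun i => G (f i)) := by
        rw [hft i]
        exact Ideal.subset_span ⟨i, rfl⟩
      exact (Ideal.mul_unit_mem_iff_mem _ (hGunit (t i) (htq i))).1 h1
  have hqrGf : CAlgX.IsQuasiRegular (fun i => G (f i)) :=
    Groth.Agent.S3824.result r _ hr hspan
  have hGfm : ∀ i, G (f i) ∈ IsLocalRing.maximalIdeal O' := fun i => by
    rw [← hft i]
    exact Ideal.mul_mem_right _ _ (hrm i)
  have hfq : ∀ i, f i ∈ q := by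
    intro i
    by_contra hn
    exact (IsLocalRing.mem_maximalIdeal _).1 (hGfm i) (hGunit _ hn)
  have hregAt := regAt_of_isQuasiRegular (IsLocalRing.maximalIdeal O') (fun i => G (f i)) hGfm hqrGf
  have hreg : ∀ (i : Fin c) (d : O'),
      G (f i) * d ∈ Ideal.span ((fun j => G (f j)) '' {j | j < i}) →
        d ∈ Ideal.span ((fun j => G (f j)) '' {j | j < i}) := by
    intro i d hd
    obtain ⟨s, hs, hsd⟩ := hregAt i d hd
    have hsu : IsUnit s := by
      rwa [IsLocalRing.mem_maximalIdeal, mem_nonunits_iff, not_not] at hs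
    exact (Ideal.unit_mul_mem_iff_mem _ hsu).1 hsd
  -- regularity in the fibre, elementwise
  have hNzd : ∀ i : Fin c, NzdAt q (p.map (algebraMap A B) ⊔
      Ideal.span (f '' {j | j < i})) (f i) := by
    intro i c₀ ⟨t₀, ht₀, hmem⟩
    set L := Ideal.span (f '' {j | j < i}) with hL
    have hLG : L.map G = Ideal.span ((fun j => G (f j)) '' {j | j < i}) := by
      rw [hL, Ideal.map_span, Set.image_image]
    have h1 : G (t₀ * (f i * c₀)) ∈ L.map G := by
      obtain ⟨u, hu, v, hv, huv⟩ := Submodule.mem_sup.mp hmem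
      rw [← huv, map_add, hGp u hu, zero_add]
      exact Ideal.mem_map_of_mem _ hv
    rw [map_mul, Ideal.unit_mul_mem_iff_mem _ (hGunit t₀ ht₀), map_mul, hLG] at h1
    have h2 := hreg i _ h1
    rw [← hLG] at h2
    exact hdesc L c₀ h2
  obtain ⟨g₁, hg₁, H₁⟩ := exists_away_isWeaklyRegular_of_nzdAt (A := A) f q hfq hNzd
  -- Nakayama
  letI algAO : Algebra A O := ((algebraMap B O).comp (algebraMap A B)).toAlgebra
  haveI : IsScalarTower A B O := IsScalarTower.of_algebraMap_eq (fun a => rfl)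
  set J : Ideal O := I.map (algebraMap B O) with hJ
  set N₀ : Ideal B := Ideal.span (Set.range f) with hN₀
  haveI flJ : Module.Flat A (O ⧸ J) := flat_quotient_map_of_isLocalization q.primeCompl I
  have hN₀I : N₀ ≤ I := Ideal.span_le.2 (by rintro _ ⟨i, rfl⟩; exact hfI i)
  have h𝔫' : 𝔫 = p.map (algebraMap A O) := by
    rw [h𝔫, Ideal.map_map]
    rfl
  have hJN : J ≤ N₀.map (algebraMap B O) ⊔ 𝔫 := by
    rw [hJ, Ideal.map_le_iff_le_comap]
    intro y hy
    rw [Ideal.mem_comap]
    have h1 : G y ∈ N₀.map G := by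
      have h2 : N₀.map G = Ideal.span (Set.range fun i => G (f i)) := by
        rw [hN₀, Ideal.map_span, ← Set.range_comp]
        rfl
      rw [h2, hspan, ← hIG]
      exact Ideal.mem_map_of_mem G hy
    have h3 : σ (G y) ∈ (N₀.map (algebraMap B O)).map (Ideal.Quotient.mk 𝔫) := by
      rw [← hmapσ]
      exact Ideal.mem_map_of_mem σ h1
    rwa [hG, Ideal.mem_quotient_iff_mem_sup] at h3
  have hJeq : J = N₀.map (algebraMap B O) := by
    refine eq_of_le_sup_map p ?_ J (hI.map _) _ (Ideal.map_mono hN₀I) ?_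
    · rw [← h𝔫', h𝔫]
      refine le_trans ?_ (IsLocalRing.maximalIdeal_le_jacobson _)
      rw [← IsLocalization.AtPrime.map_eq_maximalIdeal q O]
      exact Ideal.map_mono Ideal.map_comap_le
    · rw [← h𝔫']
      exact hJN
  obtain ⟨g₂, hg₂, H₂⟩ := exists_away_map_eq_map q I hI N₀ hN₀I (le_of_eq hJeq)
  refine ⟨f, g₁ * g₂, hfI, fun h => (Ideal.IsPrime.mem_or_mem inferInstance h).elim hg₁ hg₂, ?_⟩
  intro g' B' _ _ hloc
  constructor
  · haveI : IsLocalization.Away (g₂ * (g₁ * g')) B' := by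
      have : g₂ * (g₁ * g') = g₁ * g₂ * g' := by ring
      rw [this]
      exact hloc
    rw [H₂ (g₁ * g') B', hN₀, Ideal.map_span, ← Set.range_comp]
    rfl
  · haveI : IsLocalization.Away (g₁ * (g₂ * g')) B' := by
      rw [← mul_assoc]
      exact hloc
    exact H₁ (g₂ * g') B'

end Core

end Groth.Agent.R2.H40.FibQReg
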