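import Groth.Agent.R2.H40RelRegAlg
import Groth.Agent.R2.H40RegBC

/-!
# Relative `H₁`-regular / quasi-regular immersions are stable under arbitrary base change
(helper40; scheme-level part, built on the ring-level library `H40RelRegAlg`)

Main results:
* `data_of_isPullback_of_flat` : transport of local generating data of a regular immersion along a
  flat base change, for a CHOSEN affine open of the base-changed scheme;
* `exists_affine_le_of_isRegularImmersionAt` : the affine open of `IsRegularImmersionAt` may be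
  shrunk into any open neighbourhood;
* `flat_quotient_of_flat_comp` : if `Z ⟶ X ⟶ S` is flat, the local quotient ring of `Z` is flat
  over the ring of an affine open of `S`;
* `isRegularImmersionAt_of_isPullback_of_rel`, `isRelRegularImmersion_of_isPullback`.
-/

set_option autoImplicit false
set_option linter.style.haveILetI false
universe u
open CategoryTheory CategoryTheory.Limits AlgebraicGeometry TopologicalSpace

namespace Groth.Agent.R2.H40.RelReg

open Groth.Agent.R2.H40.RegBC Groth.Agent.R2.H40.RelRegAlg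

section Ring

/-- If `A → B → C` has flat composite and `B → C` is surjective with kernel `J`, then `B ⧸ J` is flat
over `A`. -/
theorem flat_quotient_of_flat_comp_ring {A B C : Type u} [CommRing A] [CommRing B] [CommRing C]
    (α : A →+* B) (π : B →+* C) (hπ : Function.Surjective π) (J : Ideal B)
    (hJ : RingHom.ker π = J) (hfl : (π.comp α).Flat) :
    letI := α.toAlgebra
    Module.Flat A (B ⧸ J) := by
  subst hJ
  letI := α.toAlgebra
  letI : Algebra A C := (π.comp α).toAlgebra
  haveI : Module.Flat A C := hfl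
  let e := RingHom.quotientKerEquivOfSurjective hπ
  let e' : (B ⧸ RingHom.ker π) ≃ₗ[A] C :=
    { e.toAddEquiv with
      map_smul' := fun a x => by
        obtain ⟨b, rfl⟩ := Ideal.Quotient.mk_surjective x
        change e (a • Ideal.Quotient.mk _ b) = a • e (Ideal.Quotient.mk _ b)
        have h0 : a • Ideal.Quotient.mk (RingHom.ker π) b = Ideal.Quotient.mk _ (a • b) := rfl
        rw [h0]
        have h1 : ∀ y : B, e (Ideal.Quotient.mk _ y) = π y := fun y => rfl
        rw [h1, h1, Algebra.smul_def, Algebra.smul_def, map_mul]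
        rfl }
  exact Module.Flat.of_linearEquiv e'

end Ring

section Restrict

variable {Z X X' Z' : Scheme.{u}} {i : Z ⟶ X} {g : X' ⟶ X} {i' : Z' ⟶ X'} {p : Z' ⟶ Z}

/-- Transport of local generating data of a regular immersion along a flat base change, for a chosen
affine open `U'` of the base-changed scheme lying over `U`. -/
theorem data_of_isPullback_of_flat (H : IsPullback p i' i g) [Flat g] (k : RegImm.Kind)
    {U : X.Opens} (hU : IsAffineOpen U) {U' : X'.Opens} (hU' : IsAffineOpen U')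
    (hle : U' ≤ g ⁻¹ᵁ U) [IsClosedImmersion (i ∣_ U)] (rs : List Γ(X, U))
    (hrs : k.Seq Γ(X, U) rs) (hker : RingHom.ker (i.app U).hom = Ideal.ofList rs)
    (z' : Z') (hz' : i' z' ∈ U') :
    IsClosedImmersion (i' ∣_ U') ∧ k.Seq Γ(X', U') (rs.map (g.appLE U U' hle).hom) ∧
      RingHom.ker (i'.app U').hom = Ideal.ofList (rs.map (g.appLE U U' hle).hom) := by
  have hφ : (g.appLE U U' hle).hom.Flat := Scheme.Hom.flat_appLE g hU hU' hle
  have hk := ker_app_of_isPullback H hle hU hU'
  rw [hker, Ideal.map_ofList] at hk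
  haveI : Nonempty ↥(i' ⁻¹ᵁ U') := ⟨⟨z', hz'⟩⟩
  have hne : Ideal.ofList (rs.map (g.appLE U U' hle).hom) ≠ ⊤ := by
    rw [← hk]
    exact RingHom.ker_ne_top _
  exact ⟨isClosedImmersion_restrict_of_isPullback H hle, seq_map_of_flat k _ hφ rs hrs hne, hk⟩

/-- The affine open in the definition of `IsRegularImmersionAt` can be chosen inside any given open
neighbourhood of the point. -/
theorem exists_affine_le_of_isRegularImmersionAt (k : RegImm.Kind) {z : Z}
    (h : RegImm.IsRegularImmersionAt k i z) (W : X.Opens) (hzW : i z ∈ W) :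
    ∃ U : X.Opens, IsAffineOpen U ∧ U ≤ W ∧ i z ∈ U ∧ IsClosedImmersion (i ∣_ U) ∧
      ∃ rs : List Γ(X, U), k.Seq Γ(X, U) rs ∧ RingHom.ker (i.app U).hom = Ideal.ofList rs := by
  obtain ⟨U, hzU, hcl, rs, hrs, hker⟩ := h
  haveI := hcl
  have hmem : i z ∈ U.1 ⊓ W := ⟨hzU, hzW⟩
  obtain ⟨U₁, hU₁, hxU₁, hle⟩ :=
    TopologicalSpace.Opens.isBasis_iff_nbhd.mp X.isBasis_affineOpens hmem
  have H : IsPullback (𝟙 Z) i i (𝟙 X) := IsPullback.of_horiz_isIso ⟨by simp⟩
  have hle' : U₁ ≤ (𝟙 X) ⁻¹ᵁ U.1 := fun x hx => (hle hx).1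
  obtain ⟨h1, h2, h3⟩ := data_of_isPullback_of_flat H k U.2 hU₁ hle' rs hrs hker z hxU₁
  exact ⟨U₁, hU₁, fun x hx => (hle hx).2, hxU₁, h1, _, h2, h3⟩

end Restrict

section Flat

variable {Z X S : Scheme.{u}}

/-- If `Z ⟶ X ⟶ S` is flat and `i : Z ⟶ X` is a closed immersion over the affine open `U` of `X`
lying over the affine open `V` of `S`, with ideal generated by `rs`, then `Γ(X, U) ⧸ (rs)` is flat over
`Γ(S, V)`. -/
theorem flat_quotient_of_flat_comp (f : X ⟶ S) (i : Z ⟶ X) [Flat (i ≫ f)]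
    {V : S.Opens} (hV : IsAffineOpen V) {U : X.Opens} (hU : IsAffineOpen U) (hUV : U ≤ f ⁻¹ᵁ V)
    [IsClosedImmersion (i ∣_ U)] (rs : List Γ(X, U))
    (hker : RingHom.ker (i.app U).hom = Ideal.ofList rs) :
    letI := (f.appLE V U hUV).hom.toAlgebra
    Module.Flat Γ(S, V) (Γ(X, U) ⧸ Ideal.span (Set.range rs.get)) := by
  have hZ : IsAffineOpen (i ⁻¹ᵁ U) := isAffineOpen_preimage_of_isClosedImmersion_restrict hU
  have hle : i ⁻¹ᵁ U ≤ (i ≫ f) ⁻¹ᵁ V := by
    rw [Scheme.Hom.comp_preimage]
    exact i.preimage_mono hUV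
  have hfl : ((i ≫ f).appLE V (i ⁻¹ᵁ U) hle).hom.Flat :=
    Scheme.Hom.flat_appLE (i ≫ f) hV hZ hle
  have hcomp : (i ≫ f).appLE V (i ⁻¹ᵁ U) hle = f.appLE V U hUV ≫ i.app U := by
    rw [← Scheme.Hom.appLE_eq_app, Scheme.Hom.appLE_comp_appLE]
  rw [hcomp] at hfl
  have hJ : RingHom.ker (i.app U).hom = Ideal.span (Set.range rs.get) := by
    rw [hker, Set.range_list_get]
  exact flat_quotient_of_flat_comp_ring (f.appLE V U hUV).hom (i.app U).hom
    (app_surjective_of_isClosedImmersion_restrict hU) _ hJ hfl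

end Flat

section Main

variable {Z X S S' X' Z' : Scheme.{u}} {f : X ⟶ S} {i : Z ⟶ X} {g : S' ⟶ S} {g' : X' ⟶ X}
  {f' : X' ⟶ S'} {p : Z' ⟶ Z} {i' : Z' ⟶ X'}

/-- **Base change of relative `H₁`-regular / quasi-regular immersions, pointwise form.** -/
theorem isRegularImmersionAt_of_isPullback_of_rel (H2 : IsPullback g' f' f g)
    (H1 : IsPullback p i' i g') [Flat (i ≫ f)] (k : RegImm.Kind)
    (hk : k = RegImm.Kind.h1 ∨ k = RegImm.Kind.quasi) (z' : Z')
    (h : RegImm.IsRegularImmersionAt k i (p z')) : RegImm.IsRegularImmersionAt k i' z' := by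
  -- an affine open `V` of `S` around the image of the point
  obtain ⟨V, hV, hsV, -⟩ := TopologicalSpace.Opens.isBasis_iff_nbhd.mp S.isBasis_affineOpens
    (show f (i (p z')) ∈ (⊤ : S.Opens) from trivial)
  -- shrink the affine open of `X`
  obtain ⟨U₁, hU₁, hU₁V, hzU₁, hcl, rs, hrs, hker⟩ :=
    exists_affine_le_of_isRegularImmersionAt k h (f ⁻¹ᵁ V) hsV
  haveI := hcl
  -- the point `i' z'` lies over `i (p z')`
  have hx : g' (i' z') = i (p z') := by
    have := congrArg (fun q : Z' ⟶ X => q z') H1.w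
    simpa using this.symm
  have hs : g (f' (i' z')) = f (i (p z')) := by
    have := congrArg (fun q : X' ⟶ S => q (i' z')) H2.w
    simp only [Scheme.Hom.comp_apply] at this
    rw [← this, hx]
  have hmem : f' (i' z') ∈ g ⁻¹ᵁ V := by
    change g (f' (i' z')) ∈ V
    rw [hs]
    exact hsV
  obtain ⟨V', hV', hsV', hV'V⟩ :=
    TopologicalSpace.Opens.isBasis_iff_nbhd.mp S'.isBasis_affineOpens hmem
  -- the affine open `U'` of `X'`
  set U' : X'.Opens := g' ⁻¹ᵁ U₁ ⊓ f' ⁻¹ᵁ V' with hU'def
  have hU' : IsAffineOpen U' := by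
    have : IsAffine (Scheme.Opens.toScheme V) := hV
    have : IsAffine (Scheme.Opens.toScheme V') := hV'
    have : IsAffine (Scheme.Opens.toScheme U₁) := hU₁
    exact .of_isIso (Scheme.Hom.isPullback_resLE H2 hV'V hU₁V hU'def).isoPullback.hom
  have hzU' : i' z' ∈ U' := by
    refine ⟨?_, hsV'⟩
    change g' (i' z') ∈ U₁
    rw [hx]
    exact hzU₁
  have hle : U' ≤ g' ⁻¹ᵁ U₁ := inf_le_left
  have hpo := (isIso_pushoutSection_iff H2 hV'V hU₁V hU'def).1
    (isIso_pushoutSection_of_isAffineOpen H2 hV'V hU₁V hU'def hV hV' hU₁)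
  have hfl := flat_quotient_of_flat_comp f i hV hU₁ hU₁V rs hker
  have hkind := kind_of_isPushout hpo rs.get hfl
  have hkk := ker_app_of_isPullback H1 hle hU₁ hU'
  rw [hker, Ideal.map_ofList] at hkk
  refine ⟨⟨U', hU'⟩, hzU', isClosedImmersion_restrict_of_isPullback H1 hle,
    rs.map (g'.appLE U₁ U' hle).hom, ?_, hkk⟩
  rcases hk with rfl | rfl
  · have h' : CAlgX.IsH1Regular rs.get := hrs
    exact isH1Regular_cast (List.length_map _).symm _ _ (get_map_cast _ rs) (hkind.1 h')
  · have h' : CAlgX.IsQuasiRegular rs.get := hrs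
    exact isQuasiRegular_cast (List.length_map _).symm _ _ (get_map_cast _ rs) (hkind.2 h')

/-- **Relative `H₁`-regular / quasi-regular immersions are stable under arbitrary base change**
(general cartesian squares). -/
theorem isRelRegularImmersion_of_isPullback (H2 : IsPullback g' f' f g)
    (H1 : IsPullback p i' i g') (k : RegImm.Kind)
    (hk : k = RegImm.Kind.h1 ∨ k = RegImm.Kind.quasi)
    (hi : RegImm.IsRelRegularImmersion k f i) : RegImm.IsRelRegularImmersion k f' i' := by
  obtain ⟨⟨himm, hat⟩, hflat⟩ := hi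
  haveI := hflat
  refine ⟨⟨MorphismProperty.of_isPullback (P := @IsImmersion) H1 himm, fun z' =>
    isRegularImmersionAt_of_isPullback_of_rel H2 H1 k hk z' (hat (p z'))⟩, ?_⟩
  exact MorphismProperty.of_isPullback (P := @Flat) (H1.paste_vert H2) hflat

end Main

end Groth.Agent.R2.H40.RelReg
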