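import Mathlib
import Groth.Agent.R2.H40RegSpread2
import Groth.Agent.R2.H40RelReg
import Groth.Agent.R2.H40RelFlat

/-!
# Relative quasi-regular immersions into flat, locally finitely presented schemes are regular
immersions, universally (helper40)
-/

set_option autoImplicit false
set_option linter.style.haveILetI false
universe u
open CategoryTheory CategoryTheory.Limits AlgebraicGeometry TopologicalSpace

namespace Groth.Agent.R2.H40.RegSpreadSch

open Groth.Agent.R2.H40.RegBC Groth.Agent.R2.H40.RelReg Groth.Agent.R2.H40.RelFlat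
  Groth.Agent.R2.H40.RegSpread

variable {Z X S : Scheme.{u}}

/-- Pointwise form: a relative quasi-regular immersion into a flat, locally finitely presented
`S`-scheme is a regular immersion at every point. -/
theorem isRegularImmersionAt_regular_of_rel_quasi (f : X ⟶ S) [Flat f]
    [LocallyOfFinitePresentation f] (i : Z ⟶ X)
    (hi : RegImm.IsRelRegularImmersion RegImm.Kind.quasi f i) (z : Z) :
    RegImm.IsRegularImmersionAt RegImm.Kind.regular i z := by
  obtain ⟨⟨himm, hat⟩, hflat⟩ := hi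
  haveI := hflat
  obtain ⟨V, hV, hsV, -⟩ := TopologicalSpace.Opens.isBasis_iff_nbhd.mp S.isBasis_affineOpens
    (show f (i z) ∈ (⊤ : S.Opens) from trivial)
  obtain ⟨U, hU, hUV, hzU, hcl, rs, hrs, hker⟩ :=
    exists_affine_le_of_isRegularImmersionAt RegImm.Kind.quasi (hat z) (f ⁻¹ᵁ V) hsV
  haveI := hcl
  have hflq := flat_quotient_of_flat_comp f i hV hU hUV rs hker
  letI algAB : Algebra Γ(S, V) Γ(X, U) := (f.appLE V U hUV).hom.toAlgebra
  haveI : Module.Flat Γ(S, V) Γ(X, U) := Scheme.Hom.flat_appLE f hV hU hUV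
  haveI : Algebra.FinitePresentation Γ(S, V) Γ(X, U) :=
    Scheme.Hom.finitePresentation_appLE f hV hU hUV
  haveI : Module.Flat Γ(S, V) (Γ(X, U) ⧸ Ideal.span (Set.range rs.get)) := hflq
  have hrs' : CAlgX.IsQuasiRegular rs.get := hrs
  -- the prime of the point
  let x : U := ⟨i z, hzU⟩
  let q : Ideal Γ(X, U) := (hU.primeIdealOf x).asIdeal
  haveI : q.IsPrime := (hU.primeIdealOf x).isPrime
  letI algBB' : Algebra Γ(X, U) (X.presheaf.stalk (i z)) := X.presheaf.algebra_section_stalk x
  haveI locB' : IsLocalization.AtPrime (X.presheaf.stalk (i z)) q := hU.isLocalization_stalk x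
  have hmemq : ∀ r : Γ(X, U), r ∈ q ↔
      X.presheaf.germ U (i z) hzU r ∈ IsLocalRing.maximalIdeal (X.presheaf.stalk (i z)) :=
    fun r => (IsLocalization.AtPrime.to_map_mem_maximal_iff (X.presheaf.stalk (i z)) q r).symm
  have hrsq : ∀ j, rs.get j ∈ q := fun j =>
    (hmemq _).2 (germ_mem_maximalIdeal_of_mem_ker i z hzU _ (by
      rw [hker]
      exact Ideal.subset_span (List.get_mem rs j)))
  obtain ⟨g, hg, H⟩ := exists_away_isWeaklyRegular (A := Γ(S, V)) rs.get hrs' q hrsq
  have hU' : IsAffineOpen (X.basicOpen g) := hU.basicOpen g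
  have hle : X.basicOpen g ≤ U := X.basicOpen_le g
  have hzU' : i z ∈ X.basicOpen g := by
    rw [Scheme.mem_basicOpen X g (i z) hzU]
    by_contra hnu
    exact hg ((hmemq g).2 (by rwa [IsLocalRing.mem_maximalIdeal, mem_nonunits_iff]))
  haveI : IsLocalization.Away (g * 1) Γ(X, X.basicOpen g) := by
    rw [mul_one]
    exact hU.isLocalization_basicOpen g
  have hwr := H 1 Γ(X, X.basicOpen g)
  have Hsq : IsPullback (𝟙 Z) i i (𝟙 X) := IsPullback.of_horiz_isIso ⟨by simp⟩
  have hle' : X.basicOpen g ≤ (𝟙 X) ⁻¹ᵁ U := hle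
  obtain ⟨h1, -, h3⟩ := data_of_isPullback_of_flat Hsq RegImm.Kind.quasi hU hU' hle' rs hrs hker
    z hzU'
  have hρ : (Scheme.Hom.appLE (𝟙 X) U (X.basicOpen g) hle').hom =
      algebraMap Γ(X, U) Γ(X, X.basicOpen g) := by
    simp only [Scheme.Hom.appLE, RingHom.algebraMap_toAlgebra]
    change (𝟙 _ ≫ X.presheaf.map (homOfLE hle').op).hom = _
    rw [Category.id_comp]
    rfl
  have hlist : rs.map (Scheme.Hom.appLE (𝟙 X) U (X.basicOpen g) hle').hom =
      List.ofFn (fun j => algebraMap Γ(X, U) Γ(X, X.basicOpen g) (rs.get j)) := by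
    rw [hρ]
    change _ = List.ofFn ((algebraMap Γ(X, U) Γ(X, X.basicOpen g)) ∘ rs.get)
    rw [← List.map_ofFn, List.ofFn_get]
  haveI : Nonempty ↥(i ⁻¹ᵁ X.basicOpen g) := ⟨⟨z, hzU'⟩⟩
  have hne : Ideal.ofList (rs.map (Scheme.Hom.appLE (𝟙 X) U (X.basicOpen g) hle').hom) ≠ ⊤ := by
    rw [← h3]
    exact RingHom.ker_ne_top _
  refine ⟨⟨X.basicOpen g, hU'⟩, hzU', h1, _, ⟨?_, ?_⟩, h3⟩
  · rw [hlist]
    exact hwr
  · rw [smul_eq_mul, Ideal.mul_top]
    exact hne.symm

/-- A relative quasi-regular immersion into a flat, locally finitely presented `S`-scheme is a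
regular immersion. -/
theorem isRegularImmersion_regular_of_rel_quasi (f : X ⟶ S) [Flat f]
    [LocallyOfFinitePresentation f] (i : Z ⟶ X)
    (hi : RegImm.IsRelRegularImmersion RegImm.Kind.quasi f i) :
    RegImm.IsRegularImmersion RegImm.Kind.regular i :=
  ⟨hi.1.1, fun z => isRegularImmersionAt_regular_of_rel_quasi f i hi z⟩

/-- ... and it remains one after every base change. -/
theorem isRegularImmersion_regular_baseChange (f : X ⟶ S) [Flat f]
    [LocallyOfFinitePresentation f] (i : Z ⟶ X)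
    (hi : RegImm.IsRelRegularImmersion RegImm.Kind.quasi f i) {S' : Scheme.{u}} (g : S' ⟶ S) :
    RegImm.IsRegularImmersion RegImm.Kind.regular (pullback.snd i (pullback.fst f g)) :=
  isRegularImmersion_regular_of_rel_quasi (pullback.snd f g) _
    (isRelRegularImmersion_of_isPullback (IsPullback.of_hasPullback f g)
      (IsPullback.of_hasPullback i (pullback.fst f g)) RegImm.Kind.quasi (Or.inr rfl) hi)

end Groth.Agent.R2.H40.RegSpreadSch
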