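import Groth.Agent.R2.H40FibQReg
import Groth.Agent.R2.H40RegSpreadSch

/-!
# Fibrewise criterion for relative quasi-regular immersions (helper40)

`φ : X ⟶ S` flat and locally of finite presentation, `T = V(𝓘)` flat and locally of finite
presentation over `S`; if all fibres `T_s ⟶ X_s` are quasi-regular immersions, then `T ⟶ X` is a
relative quasi-regular immersion (in fact a regular immersion).
-/

set_option autoImplicit false
set_option linter.style.haveILetI false
universe u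
open CategoryTheory CategoryTheory.Limits AlgebraicGeometry TopologicalSpace

namespace Groth.Agent.R2.H40.FibQRegSch

open Groth.Agent.Lib.Helper5.FiberStalk Groth.Agent.Lib.Helper2 Groth.Agent.Lib.Helper20
open Groth.Agent.R2.H40.FibCartier Groth.Agent.R2.H40.FibCartier2 Groth.Agent.R2.H40.FibQReg
open Groth.Agent.R2.H40.RegBC Groth.Agent.R2.H40.RelReg Groth.Agent.R2.H40.RelFlat

variable {X S : Scheme.{u}} (φ : X ⟶ S) [Flat φ] [LocallyOfFinitePresentation φ]

set_option backward.isDefEq.respectTransparency.types false in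
/-- Fibres of morphisms locally of finite type are locally Noetherian. -/
theorem isLocallyNoetherian_fiber {X Y : Scheme.{u}} (f : X ⟶ Y) [LocallyOfFiniteType f] (y : Y) :
    IsLocallyNoetherian (f.fiber y) := by
  have : LocallyOfFiniteType (f.fiberToSpecResidueField y) :=
    MorphismProperty.pullback_snd _ _ inferInstance
  exact LocallyOfFiniteType.isLocallyNoetherian (f.fiberToSpecResidueField y)

/-- Transport of membership in the maximal ideal of a stalk along an equality of points. -/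
theorem germ_mem_maximalIdeal_congr {Y : Scheme.{u}} {W : Y.Opens} (r : Γ(Y, W)) (z' z₀ : Y)
    (h : z' = z₀) (hz : z' ∈ W) (hz₀ : z₀ ∈ W)
    (hm : Y.presheaf.germ W z' hz r ∈ IsLocalRing.maximalIdeal (Y.presheaf.stalk z')) :
    Y.presheaf.germ W z₀ hz₀ r ∈ IsLocalRing.maximalIdeal (Y.presheaf.stalk z₀) := by
  subst h
  exact hm

/-- Pointwise form of the fibrewise criterion. -/
theorem isRegularImmersionAt_quasi_of_fibre (𝓘 : X.IdealSheafData) [Flat (𝓘.subschemeι ≫ φ)]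
    [LocallyOfFinitePresentation (𝓘.subschemeι ≫ φ)] (z : 𝓘.subscheme)
    (hfib : RegImm.IsRegularImmersion RegImm.Kind.quasi
      (pullback.snd 𝓘.subschemeι (φ.fiberι (φ (𝓘.subschemeι z))))) :
    RegImm.IsRegularImmersionAt RegImm.Kind.quasi 𝓘.subschemeι z := by
  set i := 𝓘.subschemeι with hi
  set x : X := i z with hx
  obtain ⟨V, hV, hsV, -⟩ := TopologicalSpace.Opens.isBasis_iff_nbhd.mp S.isBasis_affineOpens
    (show φ x ∈ (⊤ : S.Opens) from trivial)
  obtain ⟨U, hU, hxU, hUV⟩ := TopologicalSpace.Opens.isBasis_iff_nbhd.mp X.isBasis_affineOpens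
    (show x ∈ φ ⁻¹ᵁ V from hsV)
  letI algAB : Algebra Γ(S, V) Γ(X, U) := (φ.appLE V U hUV).hom.toAlgebra
  haveI : Module.Flat Γ(S, V) Γ(X, U) := Scheme.Hom.flat_appLE φ hV hU hUV
  haveI : Algebra.FinitePresentation Γ(S, V) Γ(X, U) :=
    Scheme.Hom.finitePresentation_appLE φ hV hU hUV
  set I : Ideal Γ(X, U) := 𝓘.ideal ⟨U, hU⟩ with hI
  haveI flQ : Module.Flat Γ(S, V) (Γ(X, U) ⧸ I) := RelCartier.flat_quotient_of_flat φ 𝓘 hV hU hUV
  have hIfg : I.FG := ideal_fg φ 𝓘 hV hU hUV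
  set q : Ideal Γ(X, U) := (hU.primeIdealOf ⟨x, hxU⟩).asIdeal with hq
  haveI : q.IsPrime := (hU.primeIdealOf ⟨x, hxU⟩).isPrime
  letI algBO : Algebra Γ(X, U) (X.presheaf.stalk x) := X.presheaf.algebra_section_stalk ⟨x, hxU⟩
  haveI locO : IsLocalization.AtPrime (X.presheaf.stalk x) q := hU.isLocalization_stalk ⟨x, hxU⟩
  have hgX : ∀ b : Γ(X, U), algebraMap Γ(X, U) (X.presheaf.stalk x) b =
      X.presheaf.germ U x hxU b := fun b => rfl
  have hmemq : ∀ r : Γ(X, U), r ∈ q ↔ ¬ IsUnit (X.presheaf.germ U x hxU r) := by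
    intro r
    rw [← IsLocalization.AtPrime.to_map_mem_maximal_iff (X.presheaf.stalk x) q r,
      IsLocalRing.mem_maximalIdeal, mem_nonunits_iff]
    rfl
  -- the prime of `φ x`
  set p' : Ideal Γ(S, V) := (hV.primeIdealOf ⟨φ x, hUV hxU⟩).asIdeal with hp'
  have hpp : p' = q.under Γ(S, V) := by
    have hsV' : φ x ∈ V := hUV hxU
    letI algAO : Algebra Γ(S, V) (S.presheaf.stalk (φ x)) :=
      S.presheaf.algebra_section_stalk ⟨φ x, hsV'⟩
    haveI locA : IsLocalization.AtPrime (S.presheaf.stalk (φ x)) p' :=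
      hV.isLocalization_stalk ⟨φ x, hsV'⟩
    have hgS : ∀ a : Γ(S, V), algebraMap Γ(S, V) (S.presheaf.stalk (φ x)) a =
        S.presheaf.germ V (φ x) hsV' a := fun a => rfl
    ext a
    rw [Ideal.under_def, Ideal.mem_comap,
      ← IsLocalization.AtPrime.to_map_mem_maximal_iff (S.presheaf.stalk (φ x)) p' a,
      ← IsLocalization.AtPrime.to_map_mem_maximal_iff (X.presheaf.stalk x) q _, hgX, hgS]
    change _ ↔ X.presheaf.germ U x hxU ((φ.appLE V U hUV).hom a) ∈ _
    rw [← FlatOver.stalkMap_germ_eq φ hUV x hxU a, IsLocalRing.mem_maximalIdeal,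
      IsLocalRing.mem_maximalIdeal, mem_nonunits_iff, mem_nonunits_iff,
      isUnit_map_iff (φ.stalkMap x).hom]
  have h𝔫 : fibIdeal φ x = ((q.under Γ(S, V)).map (algebraMap Γ(S, V) Γ(X, U))).map
      (algebraMap Γ(X, U) (X.presheaf.stalk x)) := by
    rw [fibIdeal_eq_map φ hV hUV x hxU, ← hpp]
    rfl
  -- the fibre
  set ι := φ.fiberι (φ x) with hι
  set z₀ := toFiber φ x (IsLocalRing.closedPoint (Q φ x)) with hz₀
  have hιz₀ : ι z₀ = x := fiberι_toFiber_closedPoint φ x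
  have hz₀U : z₀ ∈ ι ⁻¹ᵁ U := by
    change ι z₀ ∈ U
    rw [hιz₀]
    exact hxU
  haveI : IsLocallyNoetherian (φ.fiber (φ x)) := isLocallyNoetherian_fiber φ (φ x)
  -- a point of the fibre of `T` over `z₀`
  obtain ⟨w, hw1, hw2⟩ := Scheme.Pullback.exists_preimage_pullback (f := i) (g := ι) z z₀
    hιz₀.symm
  have hat := hfib.2 w
  obtain ⟨W, hW, hWle, hzW, hcl, rs, hrs, hker⟩ :=
    exists_affine_le_of_isRegularImmersionAt RegImm.Kind.quasi hat (ι ⁻¹ᵁ U)
      (by rw [hw2]; exact hz₀U)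
  have hz₀W : z₀ ∈ W := hw2 ▸ hzW
  have hk := ker_app_of_isPullback (IsPullback.of_hasPullback i ι) hWle hU hW
  rw [hker, 𝓘.ker_subschemeι_app ⟨U, hU⟩] at hk
  have hrs' : CAlgX.IsQuasiRegular rs.get := hrs
  -- the local ring of the fibre
  letI algWO : Algebra Γ(φ.fiber (φ x), W) ((φ.fiber (φ x)).presheaf.stalk z₀) :=
    (φ.fiber (φ x)).presheaf.algebra_section_stalk ⟨z₀, hz₀W⟩
  haveI locW : IsLocalization.AtPrime ((φ.fiber (φ x)).presheaf.stalk z₀)
      (hW.primeIdealOf ⟨z₀, hz₀W⟩).asIdeal := hW.isLocalization_stalk ⟨z₀, hz₀W⟩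
  have hgflat : ((φ.fiber (φ x)).presheaf.germ W z₀ hz₀W).hom.Flat := by
    have : Module.Flat Γ(φ.fiber (φ x), W) ((φ.fiber (φ x)).presheaf.stalk z₀) :=
      IsLocalization.flat _ (hW.primeIdealOf ⟨z₀, hz₀W⟩).asIdeal.primeCompl
    exact this
  set r : Fin rs.length → (φ.fiber (φ x)).presheaf.stalk z₀ :=
    fun j => ((φ.fiber (φ x)).presheaf.germ W z₀ hz₀W).hom (rs.get j) with hr
  have hrqr : CAlgX.IsQuasiRegular r := isQuasiRegular_map_of_flat _ hgflat rs.get hrs'
  have hrm : ∀ j, r j ∈ IsLocalRing.maximalIdeal ((φ.fiber (φ x)).presheaf.stalk z₀) := by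
    intro j
    refine germ_mem_maximalIdeal_congr (rs.get j) _ z₀ hw2 hzW hz₀W ?_
    exact germ_mem_maximalIdeal_of_mem_ker (pullback.snd i ι) w hzW (rs.get j)
      (by rw [hker]; exact Ideal.subset_span (List.get_mem rs j))
  set G : Γ(X, U) →+* (φ.fiber (φ x)).presheaf.stalk z₀ :=
    ((φ.fiber (φ x)).presheaf.germ W z₀ hz₀W).hom.comp (ι.appLE U W hWle).hom with hG
  have hIG : I.map G = Ideal.span (Set.range r) := by
    rw [hG, ← Ideal.map_map, ← hk, Ideal.map_span, hr, ← Set.range_list_get, ← Set.range_comp]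
    rfl
  have hgerm : ∀ t : Γ(X, U), G t =
      (φ.fiber (φ x)).presheaf.germ (ι ⁻¹ᵁ U) z₀ hz₀U ((ι.app U).hom t) := by
    intro t
    simp only [hG, RingHom.comp_apply, Scheme.Hom.appLE, CommRingCat.hom_comp]
    exact (φ.fiber (φ x)).presheaf.germ_res_apply (homOfLE hWle) z₀ hz₀W _
  have hσ : ∀ t : Γ(X, U), (Scheme.stalkClosedPointTo (toFiber φ x)).hom (G t) =
      Ideal.Quotient.mk (fibIdeal φ x) (algebraMap Γ(X, U) (X.presheaf.stalk x) t) := by
    intro t
    rw [hgerm t, hgX]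
    exact stalkClosedPointTo_toFiber_germ φ x U hxU t hz₀U
  obtain ⟨f, g, hfI, hg, H⟩ := exists_away_regular_of_fibre (A := Γ(S, V)) I hIfg q
    (fibIdeal φ x) h𝔫 (Scheme.stalkClosedPointTo (toFiber φ x)).hom
    ⟨stalkClosedPointTo_toFiber_injective φ x, stalkClosedPointTo_toFiber_surjective φ x⟩
    G hσ r hrqr hrm hIG
  -- the basic open
  have hU' : IsAffineOpen (X.basicOpen g) := hU.basicOpen g
  have hxg : x ∈ X.basicOpen g := by
    rw [Scheme.mem_basicOpen X g x hxU]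
    by_contra hnu
    exact hg ((hmemq g).2 hnu)
  haveI : IsLocalization.Away (g * 1) Γ(X, X.basicOpen g) := by
    rw [mul_one]
    exact hU.isLocalization_basicOpen g
  obtain ⟨hIg, hwr⟩ := H 1 Γ(X, X.basicOpen g)
  have key2 := 𝓘.map_ideal_basicOpen ⟨U, hU⟩ g
  refine ⟨⟨X.basicOpen g, hU'⟩, hxg, inferInstance,
    List.ofFn (fun j => algebraMap Γ(X, U) Γ(X, X.basicOpen g) (f j)), ?_, ?_⟩
  · have hq := Groth.Agent.S5802.result _ _ _ hwr
    exact isQuasiRegular_cast (List.length_ofFn).symm _ _ (fun j => by simp) hq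
  · rw [𝓘.ker_subschemeι_app ⟨X.basicOpen g, hU'⟩]
    have h1 : 𝓘.ideal ⟨X.basicOpen g, hU'⟩ = I.map (algebraMap Γ(X, U) Γ(X, X.basicOpen g)) :=
      key2.symm
    rw [h1, hIg]
    congr 1
    ext y
    simp [List.mem_ofFn]

/-- **Fibrewise criterion for relative quasi-regular immersions.** -/
theorem isRelRegularImmersion_quasi_of_fibres (𝓘 : X.IdealSheafData) [Flat (𝓘.subschemeι ≫ φ)]
    [LocallyOfFinitePresentation (𝓘.subschemeι ≫ φ)]
    (hfib : ∀ s : S, RegImm.IsRegularImmersion RegImm.Kind.quasi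
      (pullback.snd 𝓘.subschemeι (φ.fiberι s))) :
    RegImm.IsRelRegularImmersion RegImm.Kind.quasi φ 𝓘.subschemeι :=
  ⟨⟨inferInstance, fun z => isRegularImmersionAt_quasi_of_fibre φ 𝓘 z (hfib _)⟩, inferInstance⟩

end Groth.Agent.R2.H40.FibQRegSch
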