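import Groth.Prelude.Def_Frob
import Groth.Prelude.Def_Fitting
import Mathlib

/-!
# The Frobenius-lift norm on `X_red ⟶ X` (helper40)

For a Noetherian scheme `X` of characteristic `p`, the `e`-fold Frobenius `X ⟶ X` factors through
`X_red` for `e ≫ 0`; the factorisation is a norm of degree `p ^ e`.
-/

set_option autoImplicit false

universe u

open CategoryTheory CategoryTheory.Limits Opposite TopologicalSpace AlgebraicGeometry

namespace Groth.Agent.R2.H40.FrobNorm

/-- `r ↦ r ^ (p ^ e)` as a ring endomorphism of a ring in which `p = 0`. -/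
def powQ (p e : ℕ) [Fact p.Prime] (R : Type u) [CommRing R] (h : (p : R) = 0) : R →+* R :=
  { powMonoidHom (p ^ e) with
    map_zero' := zero_pow (pow_ne_zero _ (Fact.out : p.Prime).ne_zero)
    map_add' := fun a b => by
      rcases subsingleton_or_nontrivial R with hR | hR
      · exact Subsingleton.elim _ _
      · have : CharP R p := (CharP.charP_iff_prime_eq_zero Fact.out).2 h
        exact add_pow_char_pow (x := a) (y := b) (p := p) (n := e) }

@[simp] theorem powQ_apply (p e : ℕ) [Fact p.Prime] (R : Type u) [CommRing R] (h : (p : R) = 0)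
    (r : R) : powQ p e R h r = r ^ (p ^ e) := rfl

section

variable (X : Scheme.{u}) (p e : ℕ) [Fact p.Prime] [FrobSch.IsCharP X p]

/-- The `p ^ e`-th power map on the structure presheaf. -/
def frobQApp : X.presheaf ⟶ X.presheaf where
  app U := CommRingCat.ofHom (powQ p e Γ(X, U.unop) (FrobSch.natCast_eq_zero_app X p U.unop))
  naturality U V i := by
    ext s
    simp [map_pow]

/-- The `e`-fold Frobenius on the underlying sheafed space. -/
noncomputable def frobQSh : X.toSheafedSpace ⟶ X.toSheafedSpace :=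
  InducedCategory.homMk { base := 𝟙 _, c := frobQApp X p e }

theorem isLocalHom_frobQSh (x : X) : IsLocalHom ((frobQSh X p e).hom.stalkMap x).hom := by
  constructor
  intro t ht
  obtain ⟨U, hxU, s, rfl⟩ := X.presheaf.exists_germ_eq (x := x) t
  have h := PresheafedSpace.stalkMap_germ_apply (frobQSh X p e).hom U x hxU s
  erw [h] at ht
  change IsUnit (X.presheaf.germ U x hxU (s ^ (p ^ e))) at ht
  rw [map_pow] at ht
  exact (isUnit_pow_iff (pow_ne_zero _ (Fact.out : p.Prime).ne_zero)).mp ht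

/-- The `e`-fold absolute Frobenius `X ⟶ X`. -/
noncomputable def frobQ : X ⟶ X :=
  ⟨LocallyRingedSpace.homMk (frobQSh X p e) (isLocalHom_frobQSh X p e)⟩

@[simp] theorem frobQ_base : (frobQ X p e).base = 𝟙 _ := rfl

@[simp] theorem frobQ_apply (x : X) : frobQ X p e x = x := rfl

@[simp] theorem frobQ_preimage (U : X.Opens) : frobQ X p e ⁻¹ᵁ U = U := rfl

@[simp] theorem frobQ_app (U : X.Opens) (s : Γ(X, U)) : (frobQ X p e).app U s = s ^ (p ^ e) := rfl

end



/-- On a Noetherian scheme the nilradical ideal sheaf is nilpotent. -/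
theorem exists_nilradical_pow_eq_bot (X : Scheme.{u}) [IsNoetherian X] :
    ∃ n : ℕ, X.nilradical ^ n = ⊥ := by
  classical
  have hcov : (Set.univ : Set X) ⊆ ⋃ U : X.affineOpens, ((U : X.Opens) : Set X) := by
    intro x _
    have hx : x ∈ (⨆ i : X.affineOpens, (i : X.Opens)) := by
      rw [iSup_affineOpens_eq_top X]; trivial
    obtain ⟨U, hU⟩ := Opens.mem_iSup.mp hx
    exact Set.mem_iUnion.mpr ⟨U, hU⟩
  obtain ⟨t, ht⟩ := isCompact_univ.elim_finite_subcover
    (fun U : X.affineOpens => ((U : X.Opens) : Set X)) (fun U => U.1.2) hcov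
  have hnil : ∀ U : X.affineOpens, ∃ n : ℕ, (nilradical Γ(X, U)) ^ n = ⊥ := by
    intro U
    have : IsNoetherianRing Γ(X, U) := IsLocallyNoetherian.component_noetherian U
    obtain ⟨n, hn⟩ := IsNoetherianRing.isNilpotent_nilradical Γ(X, U)
    exact ⟨n, hn⟩
  choose n hn using hnil
  refine ⟨t.sup n, ?_⟩
  refine Scheme.IdealSheafData.ext_of_iSup_eq_top (fun i : t => i.1) ?_ ?_
  · apply top_le_iff.mp
    intro x _
    obtain ⟨U, hU⟩ := Set.mem_iUnion.mp (ht (Set.mem_univ x))
    obtain ⟨hUt, hxU⟩ := Set.mem_iUnion.mp hU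
    exact Opens.mem_iSup.mpr ⟨⟨U, hUt⟩, hxU⟩
  · rintro ⟨U, hUt⟩
    change (nilradical Γ(X, U)) ^ (t.sup n) = ⊥
    apply le_bot_iff.mp
    rw [← hn U]
    exact Ideal.pow_le_pow_right (Finset.le_sup hUt)

theorem pow_eq_zero_of_mem_nilradical (X : Scheme.{u}) {n : ℕ} (hn : X.nilradical ^ n = ⊥)
    (U : X.affineOpens) (s : Γ(X, U)) (hs : s ∈ nilradical Γ(X, U)) : s ^ n = 0 := by
  have h1 : s ^ n ∈ (nilradical Γ(X, U)) ^ n := Ideal.pow_mem_pow hs n
  have h2 : (nilradical Γ(X, U)) ^ n = (X.nilradical ^ n).ideal U := rfl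
  rw [h2, hn] at h1
  exact h1



section

variable (X : Scheme.{u}) (p e : ℕ) [Fact p.Prime] [FrobSch.IsCharP X p]

theorem ker_le_of_pow_eq_bot {n : ℕ} (hn : X.nilradical ^ n = ⊥) (hne : n ≤ p ^ e) :
    X.nilradical.subschemeι.ker ≤ (frobQ X p e).ker := by
  rw [Scheme.IdealSheafData.ker_subschemeι]
  refine Scheme.IdealSheafData.le_ofIdeals_iff.mpr ?_
  intro U s hs
  have h1 : s ^ n ∈ (X.nilradical.ideal U) ^ n := Ideal.pow_mem_pow hs n
  have h2 : (X.nilradical.ideal U) ^ n = (X.nilradical ^ n).ideal U := rfl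
  rw [h2, hn] at h1
  have h3 : s ^ n = 0 := h1
  rw [RingHom.mem_ker]
  change s ^ (p ^ e) = 0
  exact pow_eq_zero_of_le hne h3

variable (H : X.nilradical.subschemeι.ker ≤ (frobQ X p e).ker)

/-- The factorisation of the `e`-fold Frobenius through `X_red`. -/
noncomputable def nu : X ⟶ X.nilradical.subscheme :=
  IsClosedImmersion.lift X.nilradical.subschemeι (frobQ X p e) H

theorem nu_fac : nu X p e H ≫ X.nilradical.subschemeι = frobQ X p e :=
  IsClosedImmersion.lift_fac _ _ _

theorem nu_preimage (U : X.Opens) :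
    U = nu X p e H ⁻¹ᵁ (X.nilradical.subschemeι ⁻¹ᵁ U) := by
  rw [← Scheme.Hom.comp_preimage, nu_fac]
  rfl

theorem nu_apply (x : X.nilradical.subscheme) :
    nu X p e H (X.nilradical.subschemeι x) = x := by
  apply X.nilradical.subschemeι.isEmbedding.injective
  rw [← Scheme.Hom.comp_apply, nu_fac]
  rfl

/-- The norm of degree `p ^ e` for `X_red ⟶ X`. -/
noncomputable def normOfDegree :
    Nrm.NormOfDegree X.nilradical.subschemeι (p ^ e) where
  one_le := Nat.one_le_pow _ _ (Fact.out : p.Prime).pos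
  norm U := ((nu X p e H).app (X.nilradical.subschemeι ⁻¹ᵁ U) ≫
    X.presheaf.map (eqToHom (nu_preimage X p e H U)).op).hom
  norm_res := by
    intro U V i s
    change (((nu X p e H).app (X.nilradical.subschemeι ⁻¹ᵁ U) ≫
        X.presheaf.map (eqToHom (nu_preimage X p e H U)).op) ≫ X.presheaf.map i.op) s =
      (X.nilradical.subscheme.presheaf.map ((Opens.map X.nilradical.subschemeι.base).map i).op ≫
        (nu X p e H).app (X.nilradical.subschemeι ⁻¹ᵁ V) ≫
        X.presheaf.map (eqToHom (nu_preimage X p e H V)).op) s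
    congr 2
    rw [Scheme.Hom.naturality_assoc, Category.assoc, ← Functor.map_comp, ← Functor.map_comp]
    rfl
  norm_app := by
    intro U g
    change (X.nilradical.subschemeι.app U ≫ (nu X p e H).app (X.nilradical.subschemeι ⁻¹ᵁ U) ≫
        X.presheaf.map (eqToHom (nu_preimage X p e H U)).op) g = g ^ (p ^ e)
    have key0 : X.nilradical.subschemeι.app U ≫
        (nu X p e H).app (X.nilradical.subschemeι ⁻¹ᵁ U) =
        (frobQ X p e).app U ≫ X.presheaf.map (eqToHom (nu_preimage X p e H U).symm).op := by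
      rw [← Scheme.Hom.comp_app, Scheme.Hom.congr_app (nu_fac X p e H) U]
      rfl
    have key : ((nu X p e H).app (X.nilradical.subschemeι ⁻¹ᵁ U)).hom
        ((X.nilradical.subschemeι.app U).hom g) =
        (X.presheaf.map (eqToHom (nu_preimage X p e H U).symm).op).hom
          ((g ^ (p ^ e) : Γ(X, U))) := congr($key0 g)
    change (X.presheaf.map (eqToHom (nu_preimage X p e H U)).op).hom
      (((nu X p e H).app (X.nilradical.subschemeι ⁻¹ᵁ U)).hom
        ((X.nilradical.subschemeι.app U).hom g)) = g ^ (p ^ e)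
    rw [key, ← CommRingCat.comp_apply, ← Functor.map_comp]
    have h1 : ((eqToHom (nu_preimage X p e H U).symm).op ≫ (eqToHom (nu_preimage X p e H U)).op)
        = 𝟙 (op U) := Subsingleton.elim _ _
    rw [h1, X.presheaf.map_id]
    rfl
  norm_mem := by
    intro U s x hx hs
    rw [IsLocalRing.mem_maximalIdeal, mem_nonunits_iff] at hs ⊢
    intro hu
    apply hs
    rw [← Scheme.mem_basicOpen _ _ _ hx] at hu
    change X.nilradical.subschemeι x ∈ X.basicOpen (X.presheaf.map _
      ((nu X p e H).app (X.nilradical.subschemeι ⁻¹ᵁ U) s)) at hu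
    rw [Scheme.basicOpen_res_eq, ← Scheme.preimage_basicOpen] at hu
    have hu' : nu X p e H (X.nilradical.subschemeι x) ∈ X.nilradical.subscheme.basicOpen s := hu
    rw [nu_apply] at hu'
    exact (Scheme.mem_basicOpen X.nilradical.subscheme s x hx).mp hu'

end


/-- **S8882**: on a Noetherian scheme of characteristic `p`, the reduction `X_red ⟶ X` carries a
norm of degree `p ^ e` for some `e > 0`. -/
theorem hasNorm_reduction (X : Scheme.{u}) [IsNoetherian X] (p : ℕ) (hp : p.Prime)
    (hpX : (p : Γ(X, ⊤)) = 0) :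
    ∃ e : ℕ, 0 < e ∧ Nrm.HasNorm X.nilradical.subschemeι (p ^ e) := by
  have : Fact p.Prime := ⟨hp⟩
  have : FrobSch.IsCharP X p := ⟨hpX⟩
  obtain ⟨n, hn⟩ := exists_nilradical_pow_eq_bot X
  have hle : n ≤ p ^ (n + 1) :=
    (Nat.le_succ n).trans (Nat.lt_pow_self hp.one_lt).le
  exact ⟨n + 1, Nat.succ_pos n,
    ⟨normOfDegree X p (n + 1) (ker_le_of_pow_eq_bot X p (n + 1) hn hle)⟩⟩

end Groth.Agent.R2.H40.FrobNorm
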