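import Mathlib.RingTheory.MvPolynomial.Homogeneous
import Mathlib.RingTheory.Ideal.Operations
import Mathlib.Algebra.BigOperators.Fin

/-!
# The graded map `⊕ I^{nc} → A[T_1, …, T_r]` attached to maps `φ_j : I^c → A`

Pure algebra: given `A`-linear maps `φ_j : I^c → A` we build `Φ_n : A → A[T]` by the recursion
`Φ_0 g = C g`, `Φ_{n+1} g = ∑_j X_j * Φ_n (ψ_j g)`, where `ψ_j` is `φ_j` extended by zero.
-/

set_option autoImplicit false
universe u
open scoped BigOperators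

namespace Groth.Agent.R2.H40.GradedMap

variable {A : Type u} [CommRing A] {r : ℕ} (I : Ideal A) (c : ℕ)
  (φ : Fin r → (↥(I ^ c) →ₗ[A] A))

open Classical in
/-- `φ j` extended by zero to all of `A`. -/
noncomputable def psi (j : Fin r) (x : A) : A :=
  if h : x ∈ I ^ c then φ j ⟨x, h⟩ else 0

theorem psi_of_mem (j : Fin r) {x : A} (h : x ∈ I ^ c) : psi I c φ j x = φ j ⟨x, h⟩ := by
  unfold psi
  rw [dif_pos h]

theorem psi_add (j : Fin r) {x y : A} (hx : x ∈ I ^ c) (hy : y ∈ I ^ c) :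
    psi I c φ j (x + y) = psi I c φ j x + psi I c φ j y := by
  rw [psi_of_mem I c φ j hx, psi_of_mem I c φ j hy, psi_of_mem I c φ j (Ideal.add_mem _ hx hy),
    ← map_add]
  rfl

theorem psi_mul (j : Fin r) (a : A) {x : A} (hx : x ∈ I ^ c) :
    psi I c φ j (a * x) = a * psi I c φ j x := by
  rw [psi_of_mem I c φ j hx, psi_of_mem I c φ j (Ideal.mul_mem_left _ a hx)]
  have h : (⟨a * x, Ideal.mul_mem_left _ a hx⟩ : ↥(I ^ c)) = a • ⟨x, hx⟩ := rfl
  rw [h, map_smul, smul_eq_mul]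

theorem psi_mul' (j : Fin r) (a : A) {x : A} (hx : x ∈ I ^ c) :
    psi I c φ j (x * a) = psi I c φ j x * a := by
  rw [mul_comm, psi_mul I c φ j a hx, mul_comm]

theorem psi_zero (j : Fin r) : psi I c φ j 0 = 0 := by
  rw [psi_of_mem I c φ j (Ideal.zero_mem _)]
  exact map_zero (φ j)

/-- `ψ_j` maps `I^(m+c)` into `I^m`. -/
theorem psi_mem (j : Fin r) (m : ℕ) {x : A} (hx : x ∈ I ^ (m + c)) :
    psi I c φ j x ∈ I ^ m := by
  rw [pow_add] at hx
  have key : x ∈ I ^ c ∧ psi I c φ j x ∈ I ^ m := by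
    refine Submodule.mul_induction_on hx ?_ ?_
    · intro a ha b hb
      refine ⟨Ideal.mul_mem_left _ a hb, ?_⟩
      rw [psi_mul I c φ j a hb]
      exact Ideal.mul_mem_right _ _ ha
    · rintro x y ⟨hx', ihx⟩ ⟨hy', ihy⟩
      refine ⟨Ideal.add_mem _ hx' hy', ?_⟩
      rw [psi_add I c φ j hx' hy']
      exact Ideal.add_mem _ ihx ihy
  exact key.2

theorem pow_succ_mul_le (n : ℕ) : I ^ ((n + 1) * c) ≤ I ^ c :=
  Ideal.pow_le_pow_right (by rw [Nat.succ_mul]; exact Nat.le_add_left _ _)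

theorem psi_mem' (j : Fin r) (n : ℕ) {x : A} (hx : x ∈ I ^ ((n + 1) * c)) :
    psi I c φ j x ∈ I ^ (n * c) := by
  rw [Nat.succ_mul] at hx
  exact psi_mem I c φ j (n * c) hx

/-- The graded map, defined on all of `A` (meaningful on `I^(n*c)`). -/
noncomputable def Phi : ℕ → A → MvPolynomial (Fin r) A
  | 0, g => MvPolynomial.C g
  | n + 1, g => ∑ j, MvPolynomial.X j * Phi n (psi I c φ j g)

theorem Phi_zero (g : A) : Phi I c φ 0 g = MvPolynomial.C g := rfl

theorem Phi_succ (n : ℕ) (g : A) :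
    Phi I c φ (n + 1) g = ∑ j, MvPolynomial.X j * Phi I c φ n (psi I c φ j g) := rfl

theorem Phi_add (n : ℕ) : ∀ g ∈ I ^ (n * c), ∀ h ∈ I ^ (n * c),
    Phi I c φ n (g + h) = Phi I c φ n g + Phi I c φ n h := by
  induction n with
  | zero => intro g _ h _; simp [Phi_zero]
  | succ n ih =>
    intro g hg h hh
    rw [Phi_succ, Phi_succ, Phi_succ, ← Finset.sum_add_distrib]
    refine Finset.sum_congr rfl fun j _ => ?_
    rw [psi_add I c φ j (pow_succ_mul_le I c n hg) (pow_succ_mul_le I c n hh),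
      ih _ (psi_mem' I c φ j n hg) _ (psi_mem' I c φ j n hh), mul_add]

theorem Phi_smul (n : ℕ) : ∀ (a : A), ∀ g ∈ I ^ (n * c),
    Phi I c φ n (a * g) = a • Phi I c φ n g := by
  induction n with
  | zero => intro a g _; simp [Phi_zero, MvPolynomial.smul_eq_C_mul]
  | succ n ih =>
    intro a g hg
    rw [Phi_succ, Phi_succ, Finset.smul_sum]
    refine Finset.sum_congr rfl fun j _ => ?_
    rw [psi_mul I c φ j a (pow_succ_mul_le I c n hg), ih a _ (psi_mem' I c φ j n hg),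
      mul_smul_comm]

theorem Phi_isHomogeneous (n : ℕ) : ∀ g : A, (Phi I c φ n g).IsHomogeneous n := by
  induction n with
  | zero => intro g; exact MvPolynomial.isHomogeneous_C _ _
  | succ n ih =>
    intro g
    rw [Phi_succ]
    apply MvPolynomial.IsHomogeneous.sum
    intro j _
    have := (MvPolynomial.isHomogeneous_X A j).mul (ih (psi I c φ j g))
    rwa [Nat.add_comm] at this

theorem Phi_mul (n : ℕ) : ∀ (m : ℕ), ∀ g ∈ I ^ (n * c), ∀ h ∈ I ^ (m * c),
    Phi I c φ (n + m) (g * h) = Phi I c φ n g * Phi I c φ m h := by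
  induction n with
  | zero =>
    intro m g _ h hh
    rw [Nat.zero_add, Phi_smul I c φ m g h hh, Phi_zero, MvPolynomial.smul_eq_C_mul]
  | succ n ih =>
    intro m g hg h hh
    have e : n + 1 + m = (n + m) + 1 := by omega
    rw [e, Phi_succ, Phi_succ, Finset.sum_mul]
    refine Finset.sum_congr rfl fun j _ => ?_
    rw [psi_mul' I c φ j h (pow_succ_mul_le I c n hg),
      ih m _ (psi_mem' I c φ j n hg) h hh, mul_assoc]

theorem Phi_one {g : A} (hg : g ∈ I ^ c) :
    Phi I c φ 1 g = ∑ j, MvPolynomial.C (φ j ⟨g, hg⟩) * MvPolynomial.X j := by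
  rw [Phi_succ]
  refine Finset.sum_congr rfl fun j _ => ?_
  rw [Phi_zero, psi_of_mem I c φ j hg, mul_comm]

theorem aeval_Phi (f : Fin r → A) (hφ : ∀ x : ↥(I ^ c), (x : A) = ∑ j, f j * φ j x) (n : ℕ) :
    ∀ g ∈ I ^ (n * c), MvPolynomial.aeval f (Phi I c φ n g) = g := by
  induction n with
  | zero => intro g _; simp [Phi_zero]
  | succ n ih =>
    intro g hg
    have hgc : g ∈ I ^ c := pow_succ_mul_le I c n hg
    rw [Phi_succ, map_sum]
    have h1 : ∀ j, MvPolynomial.aeval f (MvPolynomial.X j * Phi I c φ n (psi I c φ j g)) =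
        f j * φ j ⟨g, hgc⟩ := by
      intro j
      rw [map_mul, MvPolynomial.aeval_X, ih _ (psi_mem' I c φ j n hg), psi_of_mem I c φ j hgc]
    rw [Finset.sum_congr rfl fun j _ => h1 j]
    exact (hφ ⟨g, hgc⟩).symm

/-- Uniqueness: any family with the same structural properties agrees with `Phi` on `I^(n*c)`. -/
theorem Phi_unique (Ψ : ℕ → A → MvPolynomial (Fin r) A)
    (hadd : ∀ n : ℕ, ∀ g ∈ I ^ (n * c), ∀ h ∈ I ^ (n * c), Ψ n (g + h) = Ψ n g + Ψ n h)
    (hmul : ∀ n m : ℕ, ∀ g ∈ I ^ (n * c), ∀ h ∈ I ^ (m * c), Ψ (n + m) (g * h) = Ψ n g * Ψ m h)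
    (hzero : ∀ a : A, Ψ 0 a = MvPolynomial.C a)
    (hone : ∀ (g : A) (hg : g ∈ I ^ c),
      Ψ 1 g = ∑ j, MvPolynomial.C (φ j ⟨g, hg⟩) * MvPolynomial.X j) (n : ℕ) :
    ∀ g ∈ I ^ (n * c), Ψ n g = Phi I c φ n g := by
  induction n with
  | zero => intro g _; rw [hzero, Phi_zero]
  | succ n ih =>
    intro g hg
    have hg' : g ∈ I ^ (n * c) * I ^ c := by rwa [← pow_add, ← Nat.succ_mul]
    have key : g ∈ I ^ ((n + 1) * c) ∧ Ψ (n + 1) g = Phi I c φ (n + 1) g := by
      refine Submodule.mul_induction_on hg' ?_ ?_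
      · intro a ha b hb
        have hb1 : b ∈ I ^ (1 * c) := by rwa [Nat.one_mul]
        refine ⟨?_, ?_⟩
        · rw [Nat.succ_mul, pow_add]
          exact Ideal.mul_mem_mul ha hb
        · rw [hmul n 1 a ha b hb1, Phi_mul I c φ n 1 a ha b hb1, ih a ha, hone b hb,
            Phi_one I c φ hb]
      · rintro x y ⟨hx, ihx⟩ ⟨hy, ihy⟩
        refine ⟨Ideal.add_mem _ hx hy, ?_⟩
        rw [hadd (n + 1) x hx y hy, Phi_add I c φ (n + 1) x hx y hy, ihx, ihy]
    exact key.2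

end Groth.Agent.R2.H40.GradedMap
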