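import Mathlib.RingTheory.MvPolynomial.Basic
import Mathlib.RingTheory.MvPolynomial.Tower
import Mathlib.RingTheory.Filtration
import Mathlib.LinearAlgebra.TensorProduct.Basis
import Mathlib.LinearAlgebra.Isomorphisms
import Mathlib.RingTheory.Noetherian.Basic
import Groth.Agent.R2.H40GradedMap

/-!
# Graded module maps `I^k N → N[T_1, …, T_r]`

Module-level companion of `H40GradedMap`: given a function `Φn : A → A[T]` which is symmetric
(`t • Φn g = g • Φn t` on `I^k`) and whose coefficients lie in a high power of `I`, the assignment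
`g • x ↦ Φn g ⊗ x` is a well-defined `B`-linear map on `I^k N`, by Artin–Rees.
-/

set_option autoImplicit false
universe u v w
open scoped TensorProduct

namespace Groth.Agent.R2.H40.GradedMap

variable {A : Type u} [CommRing A] {r : ℕ} (I : Ideal A) (c : ℕ)
  (φ : Fin r → (↥(I ^ c) →ₗ[A] A)) (d : ℕ)

/-- The maps `φ_j` restricted to the smaller ideal `I^(d+c)`. -/
noncomputable def restrictPhi (j : Fin r) : ↥(I ^ (d + c)) →ₗ[A] A :=
  (φ j).comp (Submodule.inclusion (Ideal.pow_le_pow_right (Nat.le_add_left c d)))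

theorem restrictPhi_apply (j : Fin r) {g : A} (hg : g ∈ I ^ (d + c)) :
    restrictPhi I c φ d j ⟨g, hg⟩ = φ j ⟨g, Ideal.pow_le_pow_right (Nat.le_add_left c d) hg⟩ := rfl

theorem psi_restrict (j : Fin r) {g : A} (hg : g ∈ I ^ (d + c)) :
    psi I (d + c) (restrictPhi I c φ d) j g = psi I c φ j g := by
  rw [psi_of_mem I (d + c) _ j hg, restrictPhi_apply,
    psi_of_mem I c φ j (Ideal.pow_le_pow_right (Nat.le_add_left c d) hg)]

/-- The coefficients of `Φ_n g` for the restricted maps lie in a high power of `I`. -/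
theorem coeff_Phi_restrict_mem (n : ℕ) : ∀ (m : ℕ) (g : A), g ∈ I ^ (n * (d + c) + m) →
    ∀ e : Fin r →₀ ℕ,
      (Phi I (d + c) (restrictPhi I c φ d) n g).coeff e ∈ I ^ (n * d + m) := by
  classical
  induction n with
  | zero =>
    intro m g hg e
    rw [Phi_zero, MvPolynomial.coeff_C]
    rw [Nat.zero_mul, Nat.zero_add] at hg
    rw [Nat.zero_mul, Nat.zero_add]
    split_ifs
    · exact hg
    · exact Ideal.zero_mem _
  | succ n ih =>
    intro m g hg e
    rw [Phi_succ, MvPolynomial.coeff_sum]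
    refine Ideal.sum_mem _ fun j _ => ?_
    rw [MvPolynomial.coeff_X_mul']
    split_ifs
    · have hgc : g ∈ I ^ (d + c) :=
        Ideal.pow_le_pow_right (by rw [Nat.succ_mul]; omega) hg
      have hg2 : g ∈ I ^ ((n * (d + c) + (d + m)) + c) := by
        have : (n + 1) * (d + c) + m = (n * (d + c) + (d + m)) + c := by ring
        rwa [this] at hg
      have hpsi : psi I (d + c) (restrictPhi I c φ d) j g ∈ I ^ (n * (d + c) + (d + m)) := by
        rw [psi_restrict I c φ d j hgc]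
        exact psi_mem I c φ j _ hg2
      have := ih (d + m) _ hpsi (e - Finsupp.single j 1)
      have e2 : (n + 1) * d + m = n * d + (d + m) := by ring
      rwa [e2]
    · exact Ideal.zero_mem _

end Groth.Agent.R2.H40.GradedMap

namespace Groth.Agent.R2.H40.GradedModule

variable {A : Type u} [CommRing A] {B : Type v} [CommRing B] [Algebra A B]
  {N : Type w} [AddCommGroup N] [Module B N] {r : ℕ}

/-- The `B`-submodule `I^m N` of `N`. -/
abbrev powSub (B : Type v) [CommRing B] [Algebra A B] (N : Type w) [AddCommGroup N] [Module B N]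
    (I : Ideal A) (m : ℕ) : Submodule B N :=
  Submodule.span B {y : N | ∃ g ∈ I ^ m, ∃ x : N, y = algebraMap A B g • x}

theorem powSub_le_smul_top (I : Ideal A) (m : ℕ) :
    powSub B N I m ≤ ((I.map (algebraMap A B)) ^ m • ⊤ : Submodule B N) := by
  rw [Submodule.span_le]
  rintro y ⟨g, hg, x, rfl⟩
  refine Submodule.smul_mem_smul ?_ Submodule.mem_top
  rw [← Ideal.map_pow]
  exact Ideal.mem_map_of_mem _ hg

theorem powSub_anti (I : Ideal A) {m m' : ℕ} (h : m ≤ m') : powSub B N I m' ≤ powSub B N I m := by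
  apply Submodule.span_mono
  rintro y ⟨g, hg, x, rfl⟩
  exact ⟨g, Ideal.pow_le_pow_right h hg, x, rfl⟩

/-- Elements killed by `J^k`. -/
def killedBy (J : Ideal B) (N : Type w) [AddCommGroup N] [Module B N] (k : ℕ) : Submodule B N where
  carrier := {y | ∀ t ∈ J ^ k, t • y = 0}
  zero_mem' := fun t _ => smul_zero t
  add_mem' := fun {a b} ha hb t ht => by rw [smul_add, ha t ht, hb t ht, add_zero]
  smul_mem' := fun c y hy t ht => by rw [smul_comm, hy t ht, smul_zero]

theorem killedBy_mono (J : Ideal B) : Monotone (killedBy J N) := by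
  intro k k' h y hy t ht
  exact hy t (Ideal.pow_le_pow_right h ht)

/-- Artin–Rees: a high power of `I` times `N` meets the `I`-power torsion trivially. -/
theorem exists_pow_torsion_free [IsNoetherianRing B] [Module.Finite B N] (I : Ideal A) :
    ∃ m0 : ℕ, ∀ y : N, y ∈ powSub B N I m0 →
      (∃ k : ℕ, ∀ t ∈ I ^ k, algebraMap A B t • y = 0) → y = 0 := by
  set J : Ideal B := I.map (algebraMap A B) with hJ
  have hNoeth : IsNoetherian B N := inferInstance
  obtain ⟨t0, ht0⟩ := (monotone_stabilizes_iff_noetherian (R := B) (M := N)).mpr hNoeth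
    ⟨killedBy J N, killedBy_mono J⟩
  obtain ⟨k0, hk0⟩ := Ideal.exists_pow_inf_eq_pow_smul J (killedBy J N t0)
  refine ⟨k0 + t0, ?_⟩
  rintro y hy ⟨k, hk⟩
  -- y is killed by J^k
  have hyk : y ∈ killedBy J N k := by
    intro t ht
    rw [hJ, ← Ideal.map_pow] at ht
    refine Submodule.span_induction (p := fun t _ => t • y = 0) ?_ ?_ ?_ ?_ ht
    · rintro _ ⟨s, hs, rfl⟩
      exact hk s hs
    · exact zero_smul _ _
    · intro a b _ _ ha hb
      rw [add_smul, ha, hb, add_zero]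
    · intro a b _ hb
      rw [smul_eq_mul, mul_smul, hb, smul_zero]
  have hyt0 : y ∈ killedBy J N t0 := by
    rcases le_total k t0 with h | h
    · exact killedBy_mono J h hyk
    · have := ht0 k h
      change killedBy J N t0 = killedBy J N k at this
      rw [this]
      exact hyk
  have hy' : y ∈ (J ^ (k0 + t0) • ⊤ ⊓ killedBy J N t0 : Submodule B N) :=
    ⟨powSub_le_smul_top I _ hy, hyt0⟩
  rw [hk0 (k0 + t0) (Nat.le_add_right _ _), Nat.add_sub_cancel_left] at hy'
  have hle : (J ^ t0 • (J ^ k0 • ⊤ ⊓ killedBy J N t0) : Submodule B N) ≤ ⊥ := by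
    rw [Submodule.smul_le]
    intro t ht n hn
    rw [Submodule.mem_bot]
    exact hn.2 t ht
  exact (Submodule.mem_bot B).mp (hle hy')

/-- Two linear maps on a span agreeing on generators are equal. -/
theorem linearMap_ext_span {Q : Type*} [AddCommGroup Q] [Module B Q] {S : Set N}
    (L1 L2 : ↥(Submodule.span B S) →ₗ[B] Q)
    (h : ∀ (s : N) (hs : s ∈ S), L1 ⟨s, Submodule.subset_span hs⟩ = L2 ⟨s, Submodule.subset_span hs⟩) :
    L1 = L2 := by
  ext ⟨y, hy⟩
  induction hy using Submodule.span_induction with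
  | mem x hx => exact h x hx
  | zero =>
    have : (⟨0, Submodule.zero_mem _⟩ : ↥(Submodule.span B S)) = 0 := rfl
    rw [this, map_zero, map_zero]
  | add x y hx hy ihx ihy =>
    have : (⟨x + y, Submodule.add_mem _ hx hy⟩ : ↥(Submodule.span B S)) = ⟨x, hx⟩ + ⟨y, hy⟩ := rfl
    rw [this, map_add, map_add, ihx, ihy]
  | smul a x hx ihx =>
    have : (⟨a • x, Submodule.smul_mem _ a hx⟩ : ↥(Submodule.span B S)) = a • ⟨x, hx⟩ := rfl
    rw [this, map_smul, map_smul, ihx]

/-- Descent of a linear map along a surjection. -/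
theorem exists_lift_of_surjective {M P Q : Type*} [AddCommGroup M] [Module B M] [AddCommGroup P]
    [Module B P] [AddCommGroup Q] [Module B Q] (σ : M →ₗ[B] P) (hσ : Function.Surjective σ)
    (τ : M →ₗ[B] Q) (h : ∀ z, σ z = 0 → τ z = 0) : ∃ Ψ : P →ₗ[B] Q, ∀ z, Ψ (σ z) = τ z := by
  have hker : LinearMap.ker σ ≤ LinearMap.ker τ := fun z hz => h z hz
  refine ⟨((LinearMap.ker σ).liftQ τ hker) ∘ₗ (σ.quotKerEquivOfSurjective hσ).symm.toLinearMap, ?_⟩
  intro z
  have : (σ.quotKerEquivOfSurjective hσ).symm (σ z) = Submodule.Quotient.mk z := by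
    rw [LinearEquiv.symm_apply_eq, LinearMap.quotKerEquivOfSurjective_apply_mk]
  simp only [LinearMap.coe_comp, LinearEquiv.coe_coe, Function.comp_apply]
  rw [this, Submodule.liftQ_apply]

section Existence

variable (B N) (I : Ideal A) (k : ℕ) (Φn : A → MvPolynomial (Fin r) A)

/-- `σ (∑ single g x) = ∑ g • x`. -/
noncomputable def sigma : (↥(I ^ k) →₀ N) →ₗ[B] N :=
  Finsupp.lsum ℕ (fun g : ↥(I ^ k) => (algebraMap A B (g : A)) • (LinearMap.id : N →ₗ[B] N))

/-- `τ (∑ single g x) = ∑ Φn g ⊗ x`. -/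
noncomputable def tau : (↥(I ^ k) →₀ N) →ₗ[B] (MvPolynomial (Fin r) B ⊗[B] N) :=
  Finsupp.lsum ℕ (fun g : ↥(I ^ k) =>
    TensorProduct.mk B (MvPolynomial (Fin r) B) N (MvPolynomial.map (algebraMap A B) (Φn (g : A))))

/-- `λ_e (∑ single g x) = ∑ coeff_e (Φn g) • x`. -/
noncomputable def lam (e : Fin r →₀ ℕ) : (↥(I ^ k) →₀ N) →ₗ[B] N :=
  Finsupp.lsum ℕ (fun g : ↥(I ^ k) =>
    (algebraMap A B ((Φn (g : A)).coeff e)) • (LinearMap.id : N →ₗ[B] N))

/-- the coefficient functional at the monomial `e` on `B[T] ⊗ N`. -/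
noncomputable def coeffFun (e : Fin r →₀ ℕ) : (MvPolynomial (Fin r) B ⊗[B] N) →ₗ[B] N :=
  (Finsupp.lapply e) ∘ₗ
    (TensorProduct.equivFinsuppOfBasisLeft (MvPolynomial.basisMonomials (Fin r) B)).toLinearMap

variable {B N}

theorem coeffFun_tmul (e : Fin r →₀ ℕ) (P : MvPolynomial (Fin r) B) (x : N) :
    coeffFun B N e (P ⊗ₜ[B] x) = P.coeff e • x := by
  unfold coeffFun
  simp only [LinearMap.coe_comp, LinearEquiv.coe_coe, Function.comp_apply, Finsupp.lapply_apply]
  rw [TensorProduct.equivFinsuppOfBasisLeft_apply_tmul_apply]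
  rfl

theorem eq_zero_of_coeffFun (w : MvPolynomial (Fin r) B ⊗[B] N)
    (h : ∀ e, coeffFun B N e w = 0) : w = 0 := by
  apply (TensorProduct.equivFinsuppOfBasisLeft (MvPolynomial.basisMonomials (Fin r) B)).injective
  rw [map_zero]
  ext e
  exact h e

theorem sigma_single (g : ↥(I ^ k)) (x : N) :
    sigma B N I k (Finsupp.single g x) = algebraMap A B (g : A) • x := by
  unfold sigma
  rw [Finsupp.lsum_single]
  rfl

theorem tau_single (g : ↥(I ^ k)) (x : N) :
    tau B N I k Φn (Finsupp.single g x) = MvPolynomial.map (algebraMap A B) (Φn (g : A)) ⊗ₜ[B] x := by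
  unfold tau
  rw [Finsupp.lsum_single]
  rfl

theorem lam_single (e : Fin r →₀ ℕ) (g : ↥(I ^ k)) (x : N) :
    lam B N I k Φn e (Finsupp.single g x) = algebraMap A B ((Φn (g : A)).coeff e) • x := by
  unfold lam
  rw [Finsupp.lsum_single]
  rfl

theorem coeffFun_tau (e : Fin r →₀ ℕ) (z : ↥(I ^ k) →₀ N) :
    coeffFun B N e (tau B N I k Φn z) = lam B N I k Φn e z := by
  induction z using Finsupp.induction_linear with
  | zero => simp
  | add z1 z2 h1 h2 => rw [map_add, map_add, map_add, h1, h2]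
  | single g x => rw [tau_single, lam_single, coeffFun_tmul, MvPolynomial.coeff_map]

theorem smul_lam (hsymm : ∀ g ∈ I ^ k, ∀ t ∈ I ^ k, t • Φn g = g • Φn t) (e : Fin r →₀ ℕ)
    (t : A) (ht : t ∈ I ^ k) (z : ↥(I ^ k) →₀ N) :
    algebraMap A B t • lam B N I k Φn e z =
      algebraMap A B ((Φn t).coeff e) • sigma B N I k z := by
  induction z using Finsupp.induction_linear with
  | zero => simp
  | add z1 z2 h1 h2 => rw [map_add, map_add, smul_add, smul_add, h1, h2]
  | single g x =>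
    rw [lam_single, sigma_single, smul_smul, smul_smul, ← map_mul, ← map_mul]
    have := congrArg (MvPolynomial.coeff e) (hsymm (g : A) g.2 t ht)
    rw [MvPolynomial.coeff_smul, MvPolynomial.coeff_smul, smul_eq_mul, smul_eq_mul] at this
    rw [this, mul_comm]

theorem lam_mem (d : ℕ) (hcoeff : ∀ g ∈ I ^ k, ∀ e, (Φn g).coeff e ∈ I ^ d) (e : Fin r →₀ ℕ)
    (z : ↥(I ^ k) →₀ N) : lam B N I k Φn e z ∈ powSub B N I d := by
  induction z using Finsupp.induction_linear with
  | zero => rw [map_zero]; exact Submodule.zero_mem _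
  | add z1 z2 h1 h2 => rw [map_add]; exact Submodule.add_mem _ h1 h2
  | single g x =>
    rw [lam_single]
    exact Submodule.subset_span ⟨_, hcoeff (g : A) g.2 e, x, rfl⟩

theorem sigma_mem (z : ↥(I ^ k) →₀ N) : sigma B N I k z ∈ powSub B N I k := by
  induction z using Finsupp.induction_linear with
  | zero => rw [map_zero]; exact Submodule.zero_mem _
  | add z1 z2 h1 h2 => rw [map_add]; exact Submodule.add_mem _ h1 h2
  | single g x =>
    rw [sigma_single]
    exact Submodule.subset_span ⟨_, g.2, x, rfl⟩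

theorem tau_eq_zero (hsymm : ∀ g ∈ I ^ k, ∀ t ∈ I ^ k, t • Φn g = g • Φn t) (d : ℕ)
    (hcoeff : ∀ g ∈ I ^ k, ∀ e, (Φn g).coeff e ∈ I ^ d)
    (hAR : k = 0 ∨ ∀ y : N, y ∈ powSub B N I d →
      (∃ k : ℕ, ∀ t ∈ I ^ k, algebraMap A B t • y = 0) → y = 0)
    (z : ↥(I ^ k) →₀ N) (hz : sigma B N I k z = 0) : tau B N I k Φn z = 0 := by
  apply eq_zero_of_coeffFun
  intro e
  rw [coeffFun_tau]
  have hkill : ∀ t ∈ I ^ k, algebraMap A B t • lam B N I k Φn e z = 0 := by
    intro t ht
    rw [smul_lam I k Φn hsymm e t ht z, hz, smul_zero]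
  rcases hAR with h0 | hAR
  · have h1 : (1 : A) ∈ I ^ k := by rw [h0, pow_zero, Ideal.one_eq_top]; exact Submodule.mem_top
    have := hkill 1 h1
    rwa [map_one, one_smul] at this
  · exact hAR _ (lam_mem I k Φn d hcoeff e z) ⟨k, hkill⟩

/-- Existence and uniqueness of the graded piece `Ψ : I^k N → B[T] ⊗ N`. -/
theorem exists_unique_Psi (hsymm : ∀ g ∈ I ^ k, ∀ t ∈ I ^ k, t • Φn g = g • Φn t) (d : ℕ)
    (hcoeff : ∀ g ∈ I ^ k, ∀ e, (Φn g).coeff e ∈ I ^ d)
    (hAR : k = 0 ∨ ∀ y : N, y ∈ powSub B N I d →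
      (∃ k : ℕ, ∀ t ∈ I ^ k, algebraMap A B t • y = 0) → y = 0) :
    ∃ Ψ : ↥(powSub B N I k) →ₗ[B] (MvPolynomial (Fin r) B ⊗[B] N),
      (∀ (g : A) (hg : g ∈ I ^ k) (x : N),
        Ψ ⟨algebraMap A B g • x, Submodule.subset_span ⟨g, hg, x, rfl⟩⟩ =
          MvPolynomial.map (algebraMap A B) (Φn g) ⊗ₜ[B] x) ∧
      ∀ Ψ' : ↥(powSub B N I k) →ₗ[B] (MvPolynomial (Fin r) B ⊗[B] N),
        (∀ (g : A) (hg : g ∈ I ^ k) (x : N),
          Ψ' ⟨algebraMap A B g • x, Submodule.subset_span ⟨g, hg, x, rfl⟩⟩ =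
            MvPolynomial.map (algebraMap A B) (Φn g) ⊗ₜ[B] x) → Ψ' = Ψ := by
  let σ' : (↥(I ^ k) →₀ N) →ₗ[B] ↥(powSub B N I k) :=
    LinearMap.codRestrict (powSub B N I k) (sigma B N I k) (sigma_mem I k)
  have hσ' : Function.Surjective σ' := by
    rintro ⟨y, hy⟩
    induction hy using Submodule.span_induction with
    | mem y hy =>
      obtain ⟨g, hg, x, rfl⟩ := hy
      refine ⟨Finsupp.single ⟨g, hg⟩ x, Subtype.ext ?_⟩
      exact sigma_single I k ⟨g, hg⟩ x
    | zero => exact ⟨0, map_zero _⟩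
    | add x y hx hy ihx ihy =>
      obtain ⟨a, ha⟩ := ihx
      obtain ⟨b, hb⟩ := ihy
      refine ⟨a + b, ?_⟩
      rw [map_add, ha, hb]
      rfl
    | smul c x hx ihx =>
      obtain ⟨a, ha⟩ := ihx
      refine ⟨c • a, ?_⟩
      rw [map_smul, ha]
      rfl
  obtain ⟨Ψ, hΨ⟩ := exists_lift_of_surjective σ' hσ' (tau B N I k Φn) (by
    intro z hz
    apply tau_eq_zero I k Φn hsymm d hcoeff hAR z
    exact congrArg Subtype.val hz)
  have hgen : ∀ (g : A) (hg : g ∈ I ^ k) (x : N),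
      Ψ ⟨algebraMap A B g • x, Submodule.subset_span ⟨g, hg, x, rfl⟩⟩ =
        MvPolynomial.map (algebraMap A B) (Φn g) ⊗ₜ[B] x := by
    intro g hg x
    have h1 : σ' (Finsupp.single ⟨g, hg⟩ x) =
        ⟨algebraMap A B g • x, Submodule.subset_span ⟨g, hg, x, rfl⟩⟩ :=
      Subtype.ext (sigma_single I k ⟨g, hg⟩ x)
    rw [← h1, hΨ, tau_single]
  refine ⟨Ψ, hgen, ?_⟩
  intro Ψ' hΨ'
  apply linearMap_ext_span
  rintro s ⟨g, hg, x, rfl⟩
  rw [hΨ' g hg x, hgen g hg x]

end Existence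

/-- Evaluating `T_j ↦ f_j` after `Ψ` gives back the inclusion. -/
theorem eval_Psi (I : Ideal A) (k : ℕ) (Φn : A → MvPolynomial (Fin r) A) (f : Fin r → A)
    (haeval : ∀ g ∈ I ^ k, MvPolynomial.aeval f (Φn g) = g)
    (Ψ : ↥(powSub B N I k) →ₗ[B] (MvPolynomial (Fin r) B ⊗[B] N))
    (hΨ : ∀ (g : A) (hg : g ∈ I ^ k) (x : N),
      Ψ ⟨algebraMap A B g • x, Submodule.subset_span ⟨g, hg, x, rfl⟩⟩ =
        MvPolynomial.map (algebraMap A B) (Φn g) ⊗ₜ[B] x)
    (y : ↥(powSub B N I k)) :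
    TensorProduct.lift ((LinearMap.lsmul B N).comp
      (MvPolynomial.aeval (fun j ↦ algebraMap A B (f j))).toLinearMap) (Ψ y) = (y : N) := by
  have key : (TensorProduct.lift ((LinearMap.lsmul B N).comp
      (MvPolynomial.aeval (fun j ↦ algebraMap A B (f j))).toLinearMap)) ∘ₗ Ψ =
      (powSub B N I k).subtype := by
    apply linearMap_ext_span
    rintro s ⟨g, hg, x, rfl⟩
    simp only [LinearMap.coe_comp, Function.comp_apply, Submodule.subtype_apply]
    rw [hΨ g hg x, TensorProduct.lift.tmul]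
    simp only [LinearMap.coe_comp, AlgHom.toLinearMap_apply, Function.comp_apply,
      LinearMap.lsmul_apply]
    congr 1
    have h2 : MvPolynomial.aeval (fun j ↦ algebraMap A B (f j))
        (MvPolynomial.map (algebraMap A B) (Φn g)) =
        algebraMap A B (MvPolynomial.aeval f (Φn g)) := by
      rw [MvPolynomial.aeval_map_algebraMap]
      exact (MvPolynomial.aeval_algebraMap_apply B f (Φn g))
    rw [h2, haeval g hg]
  exact congrArg (fun L => L y) key

end Groth.Agent.R2.H40.GradedModule
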