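import Mathlib
import Groth.Prelude.Def_HTop

/-!
# h coverings: a family versus the induced map from the coproduct (helper40)
-/

set_option autoImplicit false
set_option linter.unusedSectionVars false
set_option linter.style.haveILetI false
set_option linter.unusedVariables false
universe u

open CategoryTheory CategoryTheory.Limits AlgebraicGeometry

namespace Groth.Agent.R2.H40.HCover

/-- A clopen subscheme of an affine scheme is affine. -/
theorem isAffine_of_isClosed {X : Scheme.{u}} [IsAffine X] (W : X.Opens)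
    (hW : IsClosed (W : Set X)) : IsAffine (W : Scheme.{u}) := by
  haveI : IsClosedImmersion W.ι :=
    IsClosedImmersion.of_isPreimmersion _ (by rw [Scheme.Opens.range_ι]; exact hW)
  exact isAffine_of_isAffineHom W.ι

/-- A morphism from the spectrum of a local ring factors through any open containing the image of the
closed point. -/
theorem exists_lift_of_closedPoint_mem {R : CommRingCat.{u}} [IsLocalRing R] {X : Scheme.{u}}
    (g : Spec R ⟶ X) (O : X.Opens) (hc : g (IsLocalRing.closedPoint R) ∈ O) :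
    ∃ g' : Spec R ⟶ (O : Scheme.{u}), g' ≫ O.ι = g := by
  have hrange : Set.range g ⊆ Set.range O.ι := by
    rw [Scheme.Opens.range_ι]
    rintro _ ⟨p, rfl⟩
    exact ((IsLocalRing.specializes_closedPoint p).map g.continuous).mem_open O.2 hc
  exact ⟨IsOpenImmersion.lift O.ι g hrange, IsOpenImmersion.lift_fac _ _ _⟩

/-- If the induced morphism from the coproduct is a V covering, so is the family. -/
theorem isVCover_of_sigmaDesc {T : Scheme.{u}} (E : PreZeroHypercover.{u} T)
    (h : HTop.IsVCover (PreZeroHypercover.singleton.{0} (Sigma.desc E.f))) : HTop.IsVCover E := by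
  classical
  intro U
  obtain ⟨F, hF, href⟩ := h U
  haveI := hF.isAffine
  haveI := hF.finite_index
  have href' : ∀ j : F.I₀, ∃ hj : F.X j ⟶ ∐ E.X,
      hj ≫ Sigma.desc E.f = F.f j ≫ (U : T.Opens).ι := by
    intro j
    obtain ⟨_, hj, hhj⟩ := href j
    exact ⟨hj, hhj⟩
  choose hh hhh using href'
  let W : ∀ j : F.I₀, E.I₀ → (F.X j).Opens := fun j i => (hh j) ⁻¹ᵁ (Sigma.ι E.X i).opensRange
  have hWcov : ∀ j (x : F.X j), ∃ i, x ∈ W j i := by
    intro j x
    obtain ⟨i, y, hy⟩ := (sigmaOpenCover E.X).exists_eq (hh j x)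
    exact ⟨i, y, hy⟩
  have hWdisj : ∀ j i i' (x : F.X j), x ∈ W j i → x ∈ W j i' → i = i' := by
    intro j i i' x hx hx'
    by_contra hne
    have hd := disjoint_opensRange_sigmaι E.X i i' hne
    have hmem : (hh j x) ∈ (Sigma.ι E.X i).opensRange ⊓ (Sigma.ι E.X i').opensRange := ⟨hx, hx'⟩
    rw [disjoint_iff.mp hd] at hmem
    exact hmem
  have hfin : ∀ j, ∃ S : Finset E.I₀, ∀ x : F.X j, ∃ i ∈ S, x ∈ W j i := by
    intro j
    haveI : IsAffine (F.X j) := hF.isAffine_obj j
    obtain ⟨S, hS⟩ := isCompact_univ.elim_finite_subcover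
      (fun i => ((W j i : (F.X j).Opens) : Set (F.X j))) (fun i => (W j i).2)
      (fun x _ => Set.mem_iUnion.mpr (hWcov j x))
    refine ⟨S, fun x => ?_⟩
    have := hS (Set.mem_univ x)
    simpa using this
  choose S hS using hfin
  have hWclosed : ∀ j i, IsClosed ((W j i : (F.X j).Opens) : Set (F.X j)) := by
    intro j i
    rw [← isOpen_compl_iff]
    have : ((W j i : (F.X j).Opens) : Set (F.X j))ᶜ =
        ⋃ i' ∈ {i' | i' ≠ i}, ((W j i' : (F.X j).Opens) : Set (F.X j)) := by
      ext x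
      constructor
      · intro hx
        obtain ⟨i', hi'⟩ := hWcov j x
        refine Set.mem_iUnion₂.mpr ⟨i', ?_, hi'⟩
        rintro rfl
        exact hx hi'
      · intro hx
        obtain ⟨i', hne, hi'⟩ := Set.mem_iUnion₂.mp hx
        intro hxi
        exact hne (hWdisj j i i' x hxi hi').symm
    rw [this]
    exact isOpen_biUnion (fun i' _ => (W j i').2)
  let e : ∀ j, {i // i ∈ S j} ≃ Fin (S j).card := fun j => (S j).equivFin
  let idx : (Σ j : F.I₀, Fin (S j).card) → E.I₀ := fun p => ((e p.1).symm p.2).1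
  let F' : PreZeroHypercover.{0} ((U : T.Opens) : Scheme.{u}) :=
    { I₀ := Σ j : F.I₀, Fin (S j).card
      X := fun p => ((W p.1 (idx p) : (F.X p.1).Opens) : Scheme.{u})
      f := fun p => (W p.1 (idx p)).ι ≫ F.f p.1 }
  refine ⟨F', ⟨hF.isAffine, inferInstanceAs (Finite (Σ j : F.I₀, Fin (S j).card)),
    fun p => ?_, ?_⟩, ?_⟩
  · haveI : IsAffine (F.X p.1) := hF.isAffine_obj p.1
    exact isAffine_of_isClosed _ (hWclosed p.1 (idx p))
  · intro V _ _ g
    obtain ⟨W', hW'd, hW'v, φ, hφ, j, g', hg'⟩ := hF.lift V g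
    haveI := hW'd
    haveI := hW'v
    obtain ⟨i, hiS, hi⟩ := hS j (g' (IsLocalRing.closedPoint W'))
    let a : Fin (S j).card := e j ⟨i, hiS⟩
    have hidx : idx ⟨j, a⟩ = i := by simp [idx, a]
    have hi' : g' (IsLocalRing.closedPoint W') ∈ W j (idx ⟨j, a⟩) := by rw [hidx]; exact hi
    obtain ⟨g'', hg''⟩ := exists_lift_of_closedPoint_mem g' (W j (idx ⟨j, a⟩)) hi'
    refine ⟨W', hW'd, hW'v, φ, hφ, (⟨j, a⟩ : Σ j : F.I₀, Fin (S j).card), g'', ?_⟩
    change g'' ≫ (W j (idx ⟨j, a⟩)).ι ≫ F.f j = _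
    rw [← Category.assoc, hg'', hg']
  · intro p
    have hrange : Set.range ((W p.1 (idx p)).ι ≫ hh p.1) ⊆ Set.range (Sigma.ι E.X (idx p)) := by
      rintro _ ⟨x, rfl⟩
      exact x.2
    refine ⟨idx p, IsOpenImmersion.lift (Sigma.ι E.X (idx p)) _ hrange, ?_⟩
    change _ = ((W p.1 (idx p)).ι ≫ F.f p.1) ≫ (U : T.Opens).ι
    rw [← Sigma.ι_desc E.f (idx p), ← Category.assoc, IsOpenImmersion.lift_fac, Category.assoc,
      hhh, Category.assoc]

/-- If the family is a V covering, so is the induced morphism from the coproduct. -/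
theorem isVCover_sigmaDesc {T : Scheme.{u}} (E : PreZeroHypercover.{u} T)
    (h : HTop.IsVCover E) :
    HTop.IsVCover (PreZeroHypercover.singleton.{0} (Sigma.desc E.f)) := by
  intro U
  obtain ⟨F, hF, href⟩ := h U
  refine ⟨F, hF, fun j => ?_⟩
  obtain ⟨i, hj, hhj⟩ := href j
  refine ⟨PUnit.unit, (hj ≫ Sigma.ι E.X i : F.X j ⟶ ∐ E.X), ?_⟩
  change (hj ≫ Sigma.ι E.X i) ≫ Sigma.desc E.f = _
  rw [Category.assoc, Sigma.ι_desc, hhj]

end Groth.Agent.R2.H40.HCover
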