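import Mathlib
import Groth.Prelude.Def_Coh
import Groth.Prelude.Def_CohB1
import Groth.Prelude.Def_Twist2
import Groth.Agent.R2.H54AmpleSpec

/-!
# Euler characteristic of large twists and the sign of the leading coefficient (helper40)

`s5749_of`, `s5750_of`: the frozen statements S5749 / S5750 against the hypothesis
`AmpleSpec.PnSubVanishing` (Serre vanishing on closed subschemes of projective space).
-/

set_option autoImplicit false
set_option linter.style.haveILetI false
universe u

open CategoryTheory CategoryTheory.Limits AlgebraicGeometry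

namespace Groth.Agent.R2.H40.HilbLead

open Groth.Agent.R2.H54.AmpleSpec

/-- A rational polynomial which is nonnegative at all large integers has nonnegative leading
coefficient. -/
theorem leadingCoeff_nonneg_of_eventually_nonneg (P : Polynomial ℚ) (N : ℤ)
    (h : ∀ n : ℤ, N ≤ n → 0 ≤ P.eval (n : ℚ)) : 0 ≤ P.leadingCoeff := by
  by_contra hneg
  rw [not_le] at hneg
  by_cases hdeg : 0 < P.degree
  · -- `P` tends to `-∞`
    let Q : Polynomial ℝ := P.map (algebraMap ℚ ℝ)
    have hQdeg : 0 < Q.degree := by
      rw [Polynomial.degree_map]; exact hdeg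
    have hQlead : Q.leadingCoeff ≤ 0 := by
      rw [Polynomial.leadingCoeff_map]
      have : ((P.leadingCoeff : ℚ) : ℝ) < 0 := by exact_mod_cast hneg
      exact le_of_lt this
    have htend := Polynomial.tendsto_atBot_of_leadingCoeff_nonpos Q hQdeg hQlead
    have hev : ∀ᶠ x : ℝ in Filter.atTop, Q.eval x < 0 :=
      htend.eventually (Filter.eventually_lt_atBot 0)
    obtain ⟨x₀, hx₀⟩ := Filter.eventually_atTop.1 hev
    obtain ⟨n, hn⟩ := exists_int_gt (max x₀ (N : ℝ))
    have hn1 : x₀ ≤ (n : ℝ) := le_trans (le_max_left _ _) hn.le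
    have hn2 : N ≤ n := by
      have : (N : ℝ) < (n : ℝ) := lt_of_le_of_lt (le_max_right _ _) hn
      exact_mod_cast this.le
    have h1 := hx₀ (n : ℝ) hn1
    have h2 := h n hn2
    have h3 : Q.eval (n : ℝ) = ((P.eval (n : ℚ) : ℚ) : ℝ) := by
      simp only [Q]
      rw [Polynomial.eval_intCast_map]
      rfl
    rw [h3] at h1
    have : (0 : ℝ) ≤ ((P.eval (n : ℚ) : ℚ) : ℝ) := by exact_mod_cast h2
    linarith
  · -- `P` is constant
    have hle : P.degree ≤ 0 := not_lt.1 hdeg
    have hC := Polynomial.eq_C_of_degree_le_zero hle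
    have h0 := h N le_rfl
    rw [hC, Polynomial.eval_C] at h0
    have : P.leadingCoeff = P.coeff 0 := by
      conv_lhs => rw [hC, Polynomial.leadingCoeff_C]
    linarith

variable (A : Type u) [CommRing A] [IsArtinianRing A] (r : ℕ) (X : Scheme.{u})
  [X.Over (Spec (CommRingCat.of A))] (i : X ⟶ CohB1.ProjSpace r A) [IsClosedImmersion i]
  (F : X.Modules) (hF : Coh.IsCoh F)

include hF in
/-- `S5749` against Serre vanishing on closed subschemes of projective space. -/
theorem s5749_of (hvan : PnSubVanishing.{u}) :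
    ∃ N : ℤ, ∀ n : ℤ, N ≤ n →
      ((Finset.range (r + 1)).sum fun j => (-1 : ℤ) ^ j *
        ((Module.length A (Coh.HH X (CohB1.tensorMod F
          ((Scheme.Modules.pullback i).obj (Twist.twistProjSpace r A n))) j)).toNat : ℤ)) =
      ((Module.length A (Coh.HH X (CohB1.tensorMod F
          ((Scheme.Modules.pullback i).obj (Twist.twistProjSpace r A n))) 0)).toNat : ℤ) := by
  obtain ⟨m₀, hm₀⟩ := hvan r A X i F hF
  refine ⟨m₀, fun n hn => ?_⟩
  rw [Finset.sum_range_succ', Finset.sum_eq_zero]
  · simp
  · intro j _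
    haveI := hm₀ n hn (j + 1) (Nat.succ_pos j)
    rw [Module.length_eq_zero]
    simp

include hF in
/-- `S5750` against Serre vanishing on closed subschemes of projective space. -/
theorem s5750_of (hvan : PnSubVanishing.{u}) (P : Polynomial ℚ)
    (hP : ∀ n : ℤ, ((Finset.range (r + 1)).sum fun j => (-1 : ℚ) ^ j *
        ((Module.length A (Coh.HH X (CohB1.tensorMod F
          ((Scheme.Modules.pullback i).obj (Twist.twistProjSpace r A n))) j)).toNat : ℚ)) =
        P.eval (n : ℚ)) :
    0 ≤ P.leadingCoeff := by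
  obtain ⟨m₀, hm₀⟩ := hvan r A X i F hF
  refine leadingCoeff_nonneg_of_eventually_nonneg P m₀ (fun n hn => ?_)
  rw [← hP n, Finset.sum_range_succ', Finset.sum_eq_zero]
  · simp
  · intro j _
    haveI := hm₀ n hn (j + 1) (Nat.succ_pos j)
    rw [Module.length_eq_zero]
    simp

end Groth.Agent.R2.H40.HilbLead
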