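import Mathlib
import Groth.Agent.Lib.Helper28WeakKrull3

/-!
# Height-one primes in a Noetherian integrally closed domain (helper40)

A valuation-free toolkit: the "symbolic square" `sq q` of a prime `q`, uniformizers chosen by prime
avoidance, and the description of the minimal/associated primes of a nonzero principal ideal.
-/

set_option autoImplicit false
set_option linter.unusedSectionVars false
set_option linter.style.haveILetI false
set_option linter.unusedVariables false
universe u

namespace Groth.Agent.R2.H40.HtOne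

open IsLocalRing

variable {A : Type u} [CommRing A] [IsDomain A] [IsNoetherianRing A] [IsIntegrallyClosed A]

open Classical in
/-- The symbolic square `q^(2) = q² A_q ∩ A` of a prime ideal (and `⊤` if `q` is not prime). -/
noncomputable def sq (q : Ideal A) : Ideal A :=
  if h : q.IsPrime then
    haveI := h
    Ideal.comap (algebraMap A (Localization.AtPrime q))
      (maximalIdeal (Localization.AtPrime q) ^ 2)
  else ⊤

omit [IsDomain A] [IsNoetherianRing A] [IsIntegrallyClosed A] in
theorem mem_sq_iff (q : Ideal A) [hq : q.IsPrime] (a : A) :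
    a ∈ sq q ↔ algebraMap A (Localization.AtPrime q) a ∈
      maximalIdeal (Localization.AtPrime q) ^ 2 := by
  unfold sq
  rw [dif_pos hq, Ideal.mem_comap]

omit [IsDomain A] [IsNoetherianRing A] [IsIntegrallyClosed A] in
theorem sq_le (q : Ideal A) [hq : q.IsPrime] : sq q ≤ q := by
  intro a ha
  rw [mem_sq_iff] at ha
  have h1 : algebraMap A (Localization.AtPrime q) a ∈ maximalIdeal (Localization.AtPrime q) :=
    Ideal.pow_le_self (by norm_num) ha
  exact (IsLocalization.AtPrime.to_map_mem_maximal_iff (Localization.AtPrime q) q a).mp h1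

omit [IsDomain A] [IsNoetherianRing A] [IsIntegrallyClosed A] in
theorem mem_sq_of_mul_mem (q : Ideal A) [hq : q.IsPrime] {a b : A} (ha : a ∉ q)
    (hab : a * b ∈ sq q) : b ∈ sq q := by
  rw [mem_sq_iff] at hab ⊢
  rw [map_mul] at hab
  have hu : IsUnit (algebraMap A (Localization.AtPrime q) a) :=
    (IsLocalization.AtPrime.isUnit_to_map_iff (Localization.AtPrime q) q a).mpr ha
  exact (Ideal.unit_mul_mem_iff_mem _ hu).mp hab

omit [IsDomain A] [IsNoetherianRing A] [IsIntegrallyClosed A] in
theorem mul_mem_sq (q : Ideal A) [hq : q.IsPrime] {a b : A} (ha : a ∈ q) (hb : b ∈ q) :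
    a * b ∈ sq q := by
  rw [mem_sq_iff, map_mul, pow_two]
  exact Ideal.mul_mem_mul
    ((IsLocalization.AtPrime.to_map_mem_maximal_iff (Localization.AtPrime q) q a).mpr ha)
    ((IsLocalization.AtPrime.to_map_mem_maximal_iff (Localization.AtPrime q) q b).mpr hb)

omit [IsDomain A] [IsNoetherianRing A] [IsIntegrallyClosed A] in
theorem mul_mem_sq_left (q : Ideal A) [hq : q.IsPrime] {a : A} (b : A) (ha : a ∈ sq q) :
    a * b ∈ sq q := Ideal.mul_mem_right _ _ ha

/-- Two height one primes that are comparable are equal. -/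
theorem eq_of_le_of_height_one {q q' : Ideal A} [q.IsPrime] [hq'p : q'.IsPrime]
    (hq : q.height = 1) (hq' : q'.height = 1) (h : q ≤ q') : q = q' := by
  by_contra hne
  have hlt : q < q' := lt_of_le_of_ne h hne
  haveI : q'.FiniteHeight := ⟨Or.inr (by rw [hq']; exact ENat.one_ne_top)⟩
  have := Ideal.height_strict_mono_of_isPrime_of_isPrime hlt
  rw [hq, hq'] at this
  exact lt_irrefl _ this

/-- A height one prime is not contained in its symbolic square. -/
theorem exists_mem_notMem_sq (q : Ideal A) [hq : q.IsPrime] (h1 : q.height = 1) :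
    ∃ z ∈ q, z ∉ sq q := by
  haveI : IsDiscreteValuationRing (Localization.AtPrime q) :=
    Groth.Agent.Lib.Helper28.WeakKrull.isDiscreteValuationRing_localization_of_height_one A q h1
  obtain ⟨ϖ, hϖ⟩ := IsDiscreteValuationRing.exists_irreducible (Localization.AtPrime q)
  obtain ⟨a, s, rfl⟩ := IsLocalization.exists_mk'_eq q.primeCompl ϖ
  have hu : IsUnit (algebraMap A (Localization.AtPrime q) (s : A)) :=
    IsLocalization.map_units _ s
  have hassoc : Associated (IsLocalization.mk' (Localization.AtPrime q) a s)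
      (algebraMap A (Localization.AtPrime q) a) := by
    obtain ⟨v, hv⟩ := hu
    refine ⟨v, ?_⟩
    rw [hv, IsLocalization.mk'_spec]
  have hirr : Irreducible (algebraMap A (Localization.AtPrime q) a) := hassoc.irreducible hϖ
  have hmax : maximalIdeal (Localization.AtPrime q) =
      Ideal.span {algebraMap A (Localization.AtPrime q) a} :=
    (IsDiscreteValuationRing.irreducible_iff_uniformizer _).mp hirr
  refine ⟨a, ?_, ?_⟩
  · rw [← IsLocalization.AtPrime.to_map_mem_maximal_iff (Localization.AtPrime q) q a, hmax]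
    exact Ideal.mem_span_singleton_self _
  · rw [mem_sq_iff, hmax, Ideal.span_singleton_pow, Ideal.mem_span_singleton]
    rintro ⟨c, hc⟩
    have h0 : algebraMap A (Localization.AtPrime q) a ≠ 0 := hirr.ne_zero
    have h2 : algebraMap A (Localization.AtPrime q) a * 1 =
        algebraMap A (Localization.AtPrime q) a * (algebraMap A (Localization.AtPrime q) a * c) := by
      rw [mul_one, ← mul_assoc, ← pow_two, ← hc]
    have h3 := mul_left_cancel₀ h0 h2
    exact hirr.not_isUnit (IsUnit.of_mul_eq_one _ h3.symm)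

/-- An element of `q` outside the symbolic square generates the maximal ideal of `A_q`. -/
theorem maximalIdeal_eq_span_of_notMem_sq (q : Ideal A) [hq : q.IsPrime] (h1 : q.height = 1)
    {z : A} (hz : z ∈ q) (hz' : z ∉ sq q) :
    maximalIdeal (Localization.AtPrime q) =
      Ideal.span {algebraMap A (Localization.AtPrime q) z} := by
  haveI : IsDiscreteValuationRing (Localization.AtPrime q) :=
    Groth.Agent.Lib.Helper28.WeakKrull.isDiscreteValuationRing_localization_of_height_one A q h1
  obtain ⟨ϖ, hϖ⟩ := IsDiscreteValuationRing.exists_irreducible (Localization.AtPrime q)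
  have hmax : maximalIdeal (Localization.AtPrime q) = Ideal.span {ϖ} :=
    (IsDiscreteValuationRing.irreducible_iff_uniformizer _).mp hϖ
  have hzm : algebraMap A (Localization.AtPrime q) z ∈ maximalIdeal (Localization.AtPrime q) :=
    (IsLocalization.AtPrime.to_map_mem_maximal_iff (Localization.AtPrime q) q z).mpr hz
  rw [hmax, Ideal.mem_span_singleton] at hzm
  obtain ⟨c, hc⟩ := hzm
  have hcu : IsUnit c := by
    by_contra hcn
    have hcm : c ∈ maximalIdeal (Localization.AtPrime q) := hcn
    rw [hmax, Ideal.mem_span_singleton] at hcm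
    obtain ⟨d, hd⟩ := hcm
    apply hz'
    rw [mem_sq_iff, hmax, Ideal.span_singleton_pow, Ideal.mem_span_singleton]
    exact ⟨d, by rw [hc, hd]; ring⟩
  obtain ⟨v, rfl⟩ := hcu
  rw [hmax, hc]
  exact (Ideal.span_singleton_mul_right_unit v.isUnit ϖ).symm

/-- Uniformizers at finitely many height one primes, chosen by prime avoidance. -/
theorem exists_uniformizers (T : Finset (Ideal A)) (hT : ∀ q ∈ T, q.IsPrime ∧ q.height = 1) :
    ∃ z : Ideal A → A, ∀ q ∈ T, z q ∈ q ∧ z q ∉ sq q ∧ ∀ q' ∈ T, q' ≠ q → z q ∉ q' := by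
  classical
  have key : ∀ q ∈ T, ∃ z : A, z ∈ q ∧ z ∉ sq q ∧ ∀ q' ∈ T, q' ≠ q → z ∉ q' := by
    intro q hqT
    haveI : q.IsPrime := (hT q hqT).1
    have h1 := (hT q hqT).2
    by_contra hcon
    push Not at hcon
    have hsub : ((q : Ideal A) : Set A) ⊆ ⋃ i ∈ ((insert (sq q) (T.erase q) : Finset (Ideal A)) :
        Set (Ideal A)), ((id i : Ideal A) : Set A) := by
      intro z hz
      by_cases hzs : z ∈ sq q
      · exact Set.mem_biUnion (Finset.mem_coe.mpr (Finset.mem_insert_self _ _)) hzs
      · obtain ⟨q', hq'T, hne, hzq'⟩ := hcon z hz hzs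
        exact Set.mem_biUnion (Finset.mem_coe.mpr
          (Finset.mem_insert_of_mem (Finset.mem_erase.mpr ⟨hne, hq'T⟩))) hzq'
    rw [Ideal.subset_union_prime (sq q) (sq q)] at hsub
    · obtain ⟨i, hi, hqi⟩ := hsub
      rw [Finset.mem_insert] at hi
      rcases hi with rfl | hi
      · obtain ⟨z, hz, hz'⟩ := exists_mem_notMem_sq q h1
        exact hz' (hqi hz)
      · rw [Finset.mem_erase] at hi
        haveI : i.IsPrime := (hT i hi.2).1
        exact hi.1 (eq_of_le_of_height_one h1 (hT i hi.2).2 hqi).symm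
    · intro i hi hia _
      rw [Finset.mem_insert] at hi
      rcases hi with rfl | hi
      · exact absurd rfl hia
      · exact (hT i (Finset.mem_erase.mp hi).2).1
  choose! z hz using key
  exact ⟨z, hz⟩

/-- A height one prime containing `f ≠ 0` is minimal over `(f)`. -/
theorem mem_minimalPrimes_span_of_height_one {f : A} (hf : f ≠ 0) (q : Ideal A) [hq : q.IsPrime]
    (h1 : q.height = 1) (hfq : f ∈ q) : q ∈ (Ideal.span {f}).minimalPrimes := by
  refine ⟨⟨hq, (Ideal.span_singleton_le_iff_mem _).mpr hfq⟩, ?_⟩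
  rintro q'' ⟨hq''p, hq''f⟩ hle
  by_contra hnle
  have hlt : q'' < q := lt_of_le_not_ge hle hnle
  haveI := hq''p
  haveI : q.FiniteHeight := ⟨Or.inr (by rw [h1]; exact ENat.one_ne_top)⟩
  have h2 := Ideal.height_strict_mono_of_isPrime_of_isPrime hlt
  rw [h1, Order.lt_one_iff, Ideal.height_eq_zero_iff_eq_bot] at h2
  apply hf
  have : f ∈ q'' := (Ideal.span_singleton_le_iff_mem _).mp hq''f
  rw [h2] at this
  exact this

/-- A minimal prime over `(f)`, `f ≠ 0`, has height one (Krull's principal ideal theorem). -/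
theorem height_one_of_mem_minimalPrimes_span {f : A} (hf : f ≠ 0) {q : Ideal A}
    (hq : q ∈ (Ideal.span {f}).minimalPrimes) : q.height = 1 := by
  haveI := hq.1.1
  refine le_antisymm
    (Ideal.height_le_one_of_isPrincipal_of_mem_minimalPrimes (Ideal.span {f}) q hq) ?_
  rw [Order.one_le_iff_pos, pos_iff_ne_zero, Ne, Ideal.height_eq_zero_iff_eq_bot]
  intro hbot
  apply hf
  have : f ∈ q := (Ideal.span_singleton_le_iff_mem _).mp hq.1.2
  rw [hbot] at this
  exact this

/-- The associated primes of `A/(f)`, `f ≠ 0`, are minimal over `(f)`. -/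
theorem mem_minimalPrimes_of_mem_associatedPrimes {f : A} (hf : f ≠ 0) {Q : Ideal A}
    (hQ : Q ∈ associatedPrimes A (A ⧸ Ideal.span {f})) : Q ∈ (Ideal.span {f}).minimalPrimes := by
  have h1 := Groth.Agent.Lib.Helper22.AssHeightOne.height_eq_one_of_mem_associatedPrimes f hf Q hQ
  haveI : Q.IsPrime := hQ.isPrime
  refine mem_minimalPrimes_span_of_height_one hf Q h1 ?_
  obtain ⟨_, xbar, hx⟩ := (isAssociatedPrime_iff).mp hQ
  rw [hx, Submodule.mem_colon_singleton, Submodule.mem_bot]
  obtain ⟨x, rfl⟩ := Ideal.Quotient.mk_surjective xbar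
  change Ideal.Quotient.mk _ (f * x) = 0
  rw [Ideal.Quotient.eq_zero_iff_mem]
  exact Ideal.mul_mem_right _ _ (Ideal.mem_span_singleton_self f)

/-- Divisibility by `f ≠ 0` can be tested at the minimal primes over `(f)`. -/
theorem dvd_of_forall_minimalPrimes {f : A} (hf : f ≠ 0) (a : A)
    (h : ∀ (Q : Ideal A) [Q.IsPrime], Q ∈ (Ideal.span {f}).minimalPrimes →
      algebraMap A (Localization.AtPrime Q) f ∣ algebraMap A (Localization.AtPrime Q) a) :
    f ∣ a :=
  Groth.Agent.Lib.Helper28.WeakKrull.dvd_of_forall_associatedPrimes A f a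
    (fun Q _ hQ => h Q (mem_minimalPrimes_of_mem_associatedPrimes hf hQ))

end Groth.Agent.R2.H40.HtOne
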