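import Mathlib
import Groth.Agent.Lib.Helper13Kz
import Groth.Agent.R2.H7KosBasic

/-!
# Top Koszul homology and annihilators (helper40)

For the iterated-cone Koszul complex of a list `l` of length `n` with coefficients in `M`, the
submodule of `M` annihilated by all elements of `l` injects into the homology in degree `-n`.
Consequence: a Koszul-regular sequence of positive length has zero annihilator.
-/

set_option autoImplicit false
set_option linter.style.haveILetI false
universe u

namespace Groth.Agent.R2.H40.KosTop

open CategoryTheory CochainComplex CohIII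
open Groth.Agent.Helper13Kz Groth.Agent.R2.H7.KosBasic

variable {A : Type u} [CommRing A]

/-- The elements of `M` killed by every member of the list. -/
def annSub (M : Type u) [AddCommGroup M] [Module A M] (l : List A) : Submodule A M where
  carrier := {m | ∀ x ∈ l, x • m = 0}
  add_mem' := by
    intro a b ha hb x hx
    rw [smul_add, ha x hx, hb x hx, add_zero]
  zero_mem' := by
    intro x _
    exact smul_zero x
  smul_mem' := by
    intro c m hm x hx
    rw [smul_comm, hm x hx, smul_zero]

theorem mem_annSub {M : Type u} [AddCommGroup M] [Module A M] {l : List A} {m : M} :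
    m ∈ annSub M l ↔ ∀ x ∈ l, x • m = 0 := Iff.rfl

theorem annSub_cons_le (M : Type u) [AddCommGroup M] [Module A M] (x : A) (l : List A) :
    annSub M (x :: l) ≤ annSub M l := fun _ hm y hy => hm y (List.mem_cons_of_mem x hy)

/-- The annihilated submodule injects into the bottom Koszul cohomology. -/
theorem exists_injective_annSub (M : Type u) [AddCommGroup M] [Module A M] :
    ∀ (l : List A) (d : ℤ), d = -(l.length : ℤ) →
      ∃ φ : annSub M l →ₗ[A] KH l M d, Function.Injective φ := by
  intro l
  induction l with
  | nil =>
    intro d hd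
    have hd0 : d = 0 := by simpa using hd
    subst hd0
    refine ⟨(KHnilEquiv M).symm.toLinearMap ∘ₗ (annSub M ([] : List A)).subtype, ?_⟩
    exact (KHnilEquiv M).symm.injective.comp Subtype.val_injective
  | cons x l ih =>
    intro d hd
    have hd1 : d + 1 = -(l.length : ℤ) := by
      rw [hd, List.length_cons]
      push_cast
      ring
    obtain ⟨φl, hφl⟩ := ih (d + 1) hd1
    obtain ⟨g, δ, -, h2, h3⟩ := cone_les (koszulCx (ModuleCat.of A M) l) x d
    haveI : Subsingleton (KH l M d) := subsingleton_KH_of_lt M l d (by rw [← hd1]; omega)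
    have hδ : Function.Injective δ := by
      rw [injective_iff_map_eq_zero]
      intro c hc
      obtain ⟨b, rfl⟩ := (h2 c).1 hc
      rw [Subsingleton.elim b 0, map_zero]
    -- the map into the range of `δ`
    have hmem : ∀ m : annSub M (x :: l),
        φl ⟨m.1, annSub_cons_le M x l m.2⟩ ∈ LinearMap.range δ := by
      intro m
      apply (h3 _).1
      rw [LinearMap.smul_apply, LinearMap.id_apply, ← map_smul]
      have : x • (⟨m.1, annSub_cons_le M x l m.2⟩ : annSub M l) = 0 := by
        apply Subtype.ext
        exact m.2 x List.mem_cons_self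
      rw [this, map_zero]
    let ψ : annSub M (x :: l) →ₗ[A] LinearMap.range δ :=
      LinearMap.codRestrict (LinearMap.range δ)
        (φl ∘ₗ Submodule.inclusion (annSub_cons_le M x l)) hmem
    have hψ : Function.Injective ψ := by
      intro a b hab
      have h1 : φl ⟨a.1, annSub_cons_le M x l a.2⟩ = φl ⟨b.1, annSub_cons_le M x l b.2⟩ :=
        congrArg Subtype.val hab
      have h4 := hφl h1
      exact Subtype.ext (congrArg (fun t : annSub M l => t.1) h4)
    refine ⟨(LinearEquiv.ofInjective δ hδ).symm.toLinearMap ∘ₗ ψ, ?_⟩
    exact (LinearEquiv.ofInjective δ hδ).symm.injective.comp hψ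

/-- A Koszul-regular sequence of positive length has zero annihilator. -/
theorem eq_zero_of_kr {r : ℕ} (f : Fin (r + 1) → A)
    (hf : LCI.IsKoszulRegularSeq A (List.ofFn f)) (a : A) (ha : ∀ j, a * f j = 0) : a = 0 := by
  rw [kr_iff_acyc] at hf
  have hlen : (List.ofFn f).length = r + 1 := List.length_ofFn
  have hd : (-((r : ℤ) + 1)) = -((List.ofFn f).length : ℤ) := by
    rw [hlen]
    push_cast
    ring
  obtain ⟨φ, hφ⟩ := exists_injective_annSub A (List.ofFn f) _ hd
  have hz : Limits.IsZero
      ((koszulCx (ModuleCat.of A A) (List.ofFn f)).homology (-((r : ℤ) + 1))) :=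
    hf _ (by have : (0 : ℤ) ≤ r := Int.natCast_nonneg r; omega)
  haveI : Subsingleton (KH (List.ofFn f) A (-((r : ℤ) + 1))) :=
    ModuleCat.subsingleton_of_isZero hz
  have hmem : a ∈ annSub A (List.ofFn f) := by
    intro x hx
    obtain ⟨j, rfl⟩ := (List.mem_ofFn' f x).1 hx
    rw [smul_eq_mul, mul_comm]
    exact ha j
  have h0 : (⟨a, hmem⟩ : annSub A (List.ofFn f)) = 0 :=
    hφ (Subsingleton.elim _ _)
  exact congrArg Subtype.val h0

end Groth.Agent.R2.H40.KosTop
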