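import Mathlib
import Groth.Agent.R2.H7KosBasic

/-!
# Koszul complexes of concatenated sequences (Stacks 0669 and its converse) (helper7)

If `p` is Koszul-regular in `R`, then for every list `q` the Koszul complex of `q ++ p` over `R` is
quasi-isomorphic to the Koszul complex of the image of `q` over `R/(p)`; in particular the vanishing of
their homologies is equivalent.
-/

set_option autoImplicit false
set_option linter.style.haveILetI false
universe u

attribute [local instance] HasDerivedCategory.standard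

namespace Groth.Agent.R2.H7.KosK2

open CategoryTheory CategoryTheory.Limits CochainComplex CohIII Pretriangulated
open Groth.Agent.Helper13Kz Groth.Agent.Helper13KzLift Groth.Agent.R2.H7.KosBasic

variable {A : Type u} [CommRing A]

/-- iterated cones of multiplications on an arbitrary complex -/
noncomputable def Kz : List A → CochainComplex (ModuleCat.{u} A) ℤ →
    CochainComplex (ModuleCat.{u} A) ℤ
  | [], C => C
  | a :: q, C => mappingCone (a • 𝟙 (Kz q C))

/-- functoriality of `Kz` -/
noncomputable def KzMap : ∀ (q : List A) {C D : CochainComplex (ModuleCat.{u} A) ℤ} (_ : C ⟶ D),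
    Kz q C ⟶ Kz q D
  | [], _, _, ψ => ψ
  | a :: q, _, _, ψ => mappingCone.map (a • 𝟙 _) (a • 𝟙 _) (KzMap q ψ) (KzMap q ψ) (by simp)

lemma koszulCx_append (M : ModuleCat.{u} A) (q p : List A) :
    koszulCx M (q ++ p) = Kz q (koszulCx M p) := by
  induction q with
  | nil => rfl
  | cons a q ih =>
    change mappingCone (a • 𝟙 (koszulCx M (q ++ p))) = mappingCone (a • 𝟙 (Kz q (koszulCx M p)))
    rw [ih]

lemma koszulCx_eq_Kz (M : ModuleCat.{u} A) (q : List A) :
    koszulCx M q =
      Kz q ((HomologicalComplex.single (ModuleCat.{u} A) (ComplexShape.up ℤ) 0).obj M) := by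
  have := koszulCx_append M q []
  rwa [List.append_nil] at this

/-- the cone of a scalar on quasi-isomorphic complexes -/
lemma quasiIso_coneMap {C D : CochainComplex (ModuleCat.{u} A) ℤ} (ψ : C ⟶ D) [QuasiIso ψ] (a : A) :
    QuasiIso (mappingCone.map (a • 𝟙 C) (a • 𝟙 D) ψ ψ (by simp)) := by
  rw [← DerivedCategory.isIso_Q_map_iff_quasiIso]
  let φ := DerivedCategory.Q.mapTriangle.map
    (mappingCone.triangleMap (a • 𝟙 C) (a • 𝟙 D) ψ ψ (by simp))
  have h1 : IsIso φ.hom₁ := by
    change IsIso (DerivedCategory.Q.map ψ)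
    rw [DerivedCategory.isIso_Q_map_iff_quasiIso]
    infer_instance
  have h2 : IsIso φ.hom₂ := by
    change IsIso (DerivedCategory.Q.map ψ)
    rw [DerivedCategory.isIso_Q_map_iff_quasiIso]
    infer_instance
  exact isIso₃_of_isIso₁₂ φ (DerivedCategory.mappingCone_triangle_distinguished _)
    (DerivedCategory.mappingCone_triangle_distinguished _) h1 h2

lemma quasiIso_KzMap : ∀ (q : List A) {C D : CochainComplex (ModuleCat.{u} A) ℤ} (ψ : C ⟶ D)
    [QuasiIso ψ], QuasiIso (KzMap q ψ)
  | [], _, _, ψ, h => h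
  | a :: q, _, _, ψ, h => by
    haveI := quasiIso_KzMap q ψ
    exact quasiIso_coneMap (KzMap q ψ) a

/-- Koszul complexes live in non-positive degrees -/
lemma isStrictlyLE_koszulCx (M : ModuleCat.{u} A) : ∀ l : List A, (koszulCx M l).IsStrictlyLE 0
  | [] => by
    change CochainComplex.IsStrictlyLE
      ((HomologicalComplex.single (ModuleCat.{u} A) (ComplexShape.up ℤ) 0).obj M) 0
    infer_instance
  | a :: l => by
    haveI := isStrictlyLE_koszulCx M l
    rw [isStrictlyLE_iff]
    intro i hi
    change IsZero ((mappingCone (a • 𝟙 (koszulCx M l))).X i)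
    have h1 : IsZero ((koszulCx M l).X (i + 1)) := (koszulCx M l).isZero_of_isStrictlyLE 0 _
    have h2 : IsZero ((koszulCx M l).X i) := (koszulCx M l).isZero_of_isStrictlyLE 0 _
    rw [IsZero.iff_id_eq_zero]
    apply mappingCone.ext_to _ i (i + 1) rfl
    · exact h1.eq_of_tgt _ _
    · exact h2.eq_of_tgt _ _

/-- the quasi-isomorphism from the Koszul complex of a Koszul-regular sequence to its `H⁰` -/
theorem exists_quasiIso_single (p : List A) (hp : Acyc (ModuleCat.of A A) p) :
    ∃ (N : ModuleCat.{u} A) (ψ : koszulCx (ModuleCat.of A A) p ⟶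
      (HomologicalComplex.single (ModuleCat.{u} A) (ComplexShape.up ℤ) 0).obj N),
      QuasiIso ψ ∧ Nonempty (N ≅ ModuleCat.of A (A ⧸ Ideal.ofList p)) := by
  set K := koszulCx (ModuleCat.of A A) p with hK
  haveI : K.IsStrictlyLE 0 := isStrictlyLE_koszulCx _ p
  haveI : K.IsGE 0 := by
    rw [isGE_iff]
    intro i hi
    rw [HomologicalComplex.exactAt_iff_isZero_homology]
    exact hp i (by omega)
  obtain ⟨N, ⟨e⟩⟩ := (K.truncGE 0).exists_iso_single 0
  have hq : QuasiIso (K.πTruncGE 0 ≫ e.hom) := inferInstance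
  refine ⟨N, K.πTruncGE 0 ≫ e.hom, hq, ?_⟩
  let e1 : ((HomologicalComplex.single (ModuleCat.{u} A) (ComplexShape.up ℤ) 0).obj N).homology 0 ≅ N :=
    HomologicalComplex.singleObjHomologySelfIso (ComplexShape.up ℤ) 0 N
  let e2 : K.homology 0 ≅
      ((HomologicalComplex.single (ModuleCat.{u} A) (ComplexShape.up ℤ) 0).obj N).homology 0 :=
    asIso (HomologicalComplex.homologyMap (K.πTruncGE 0 ≫ e.hom) 0)
  obtain ⟨e3⟩ := Groth.Agent.S11917.main A p
  have h : Ideal.ofList p • (⊤ : Submodule A A) = Ideal.ofList p := by simp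
  exact ⟨e1.symm ≪≫ e2.symm ≪≫ (e3.trans (Submodule.quotEquivOfEq _ _ h)).toModuleIso⟩

/-- the regular module of the quotient, restricted to `A` -/
noncomputable def restrictQuotIso (I : Ideal A) :
    (ModuleCat.restrictScalars (Ideal.Quotient.mk I)).obj (ModuleCat.of (A ⧸ I) (A ⧸ I)) ≅
      ModuleCat.of A (A ⧸ I) :=
  LinearEquiv.toModuleIso
    { toFun := fun t => t
      invFun := fun t => t
      left_inv := fun _ => rfl
      right_inv := fun _ => rfl
      map_add' := fun _ _ => rfl
      map_smul' := fun _ _ => rfl }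

/-- **Stacks 0669 and converse.**  For `p` Koszul-regular in `A`, the Koszul homology of `q ++ p` over
`A` vanishes in degree `i` iff that of the image of `q` over `A/(p)` does. -/
theorem isZero_append_iff (p q : List A) (hp : LCI.IsKoszulRegularSeq A p) (i : ℤ) :
    IsZero ((koszulCx (ModuleCat.of A A) (q ++ p)).homology i) ↔
      IsZero ((koszulCx (ModuleCat.of (A ⧸ Ideal.ofList p) (A ⧸ Ideal.ofList p))
        (q.map (Ideal.Quotient.mk (Ideal.ofList p)))).homology i) := by
  obtain ⟨N, ψ, hψ, ⟨eN⟩⟩ := exists_quasiIso_single p ((kr_iff_acyc p).1 hp)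
  haveI := hψ
  haveI := quasiIso_KzMap q ψ
  let e : (Kz q (koszulCx (ModuleCat.of A A) p)).homology i ≅
      (Kz q ((HomologicalComplex.single (ModuleCat.{u} A) (ComplexShape.up ℤ) 0).obj N)).homology i :=
    asIso (HomologicalComplex.homologyMap (KzMap q ψ) i)
  rw [koszulCx_append, isZero_restrict_iff (Ideal.Quotient.mk (Ideal.ofList p)) _ q i,
    isZero_iff_of_iso (restrictQuotIso (Ideal.ofList p) ≪≫ eN.symm) q i, koszulCx_eq_Kz N q]
  exact ⟨fun h => h.of_iso e.symm, fun h => h.of_iso e⟩

/-- Stacks 0669: a Koszul-regular sequence followed by a sequence that is Koszul-regular modulo it -/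
theorem kr_append_iff (p q : List A) (hp : LCI.IsKoszulRegularSeq A p) :
    LCI.IsKoszulRegularSeq A (q ++ p) ↔
      LCI.IsKoszulRegularSeq (A ⧸ Ideal.ofList p) (q.map (Ideal.Quotient.mk (Ideal.ofList p))) := by
  rw [kr_iff_acyc, kr_iff_acyc]
  exact forall_congr' fun i => forall_congr' fun _ => isZero_append_iff p q hp i

end Groth.Agent.R2.H7.KosK2
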