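import Mathlib
import Groth.Agent.R2.H7KosCG
import Groth.Agent.R2.H7KosK2

/-!
# Koszul-regular ideals: localisation calculus and preimages (helper7)

* `GenKR I S`: the extension of `I` to the `A`-algebra `S` is generated by a Koszul-regular sequence.
* `isKRI_iff`: `LCI.IsKoszulRegularIdeal I` iff near every prime containing `I` some
  `GenKR I (Localization.Away g)` holds; the model of the localisation and further localisation do not
  matter (`GenKR.of_away`, `GenKR.mul_right`, `GenKR.mul_left`).
* `kr_append_iff_of_surjective`: Stacks 0669 and converse for a surjection with kernel generated by a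
  Koszul-regular sequence.
* `isKRI_comap_of_surjective`: the preimage of a Koszul-regular ideal under a surjection with
  Koszul-regular kernel is Koszul-regular.
* `isKRI_map_of_flat`: flat base change.
-/

set_option autoImplicit false
set_option linter.style.haveILetI false
universe u

namespace Groth.Agent.R2.H7.KosIdeal

open Groth.Agent.R2.H7.KosBasic Groth.Agent.R2.H7.KosCG Groth.Agent.R2.H7.KosK2

variable {A : Type u} [CommRing A]

/-- the extension of `I` to `S` is generated by a Koszul-regular sequence -/
def GenKR (I : Ideal A) (S : Type u) [CommRing S] [Algebra A S] : Prop :=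
  ∃ l : List S, LCI.IsKoszulRegularSeq S l ∧ I.map (algebraMap A S) = Ideal.ofList l

theorem GenKR.of_ringHom {I : Ideal A} {S S' : Type u} [CommRing S] [CommRing S'] [Algebra A S]
    [Algebra A S'] (φ : S →+* S') (hφ : φ.Flat)
    (hcomp : φ.comp (algebraMap A S) = algebraMap A S') (h : GenKR I S) : GenKR I S' := by
  obtain ⟨l, hl, hI⟩ := h
  refine ⟨l.map φ, kr_map_of_flat φ hφ l hl, ?_⟩
  rw [← hcomp, ← Ideal.map_map, hI, Ideal.map_ofList]

theorem GenKR.of_flat {I : Ideal A} {S S' : Type u} [CommRing S] [CommRing S'] [Algebra A S]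
    [Algebra A S'] [Algebra S S'] [IsScalarTower A S S'] [Module.Flat S S'] (h : GenKR I S) :
    GenKR I S' :=
  h.of_ringHom (algebraMap S S') ((RingHom.flat_algebraMap_iff).2 inferInstance)
    (IsScalarTower.algebraMap_eq A S S').symm

theorem GenKR.of_algEquiv {I : Ideal A} {S S' : Type u} [CommRing S] [CommRing S'] [Algebra A S]
    [Algebra A S'] (e : S ≃ₐ[A] S') (h : GenKR I S) : GenKR I S' :=
  h.of_ringHom (e : S →+* S') (RingHom.Flat.of_bijective e.bijective) (by ext x; simp)

/-- independence of the model of the localisation -/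
theorem GenKR.of_away {I : Ideal A} (g : A) {S S' : Type u} [CommRing S] [CommRing S'] [Algebra A S]
    [Algebra A S'] [IsLocalization.Away g S] [IsLocalization.Away g S'] (h : GenKR I S) :
    GenKR I S' :=
  h.of_algEquiv (IsLocalization.algEquiv (Submonoid.powers g) S S')

theorem GenKR.mul_right {I : Ideal A} {g : A} (g' : A) (h : GenKR I (Localization.Away g)) :
    GenKR I (Localization.Away (g * g')) := by
  have h1 : GenKR I (Localization.Away (algebraMap A (Localization.Away g) g')) := h.of_flat
  exact h1.of_away (g * g')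

theorem GenKR.mul_left {I : Ideal A} {g : A} (g' : A) (h : GenKR I (Localization.Away g)) :
    GenKR I (Localization.Away (g' * g)) := by
  have h1 : GenKR I (Localization.Away (algebraMap A (Localization.Away g) g')) := h.of_flat
  exact h1.of_away (g' * g)

theorem isKRI_iff (I : Ideal A) :
    LCI.IsKoszulRegularIdeal I ↔
      ∀ 𝔭 : Ideal A, 𝔭.IsPrime → I ≤ 𝔭 → ∃ g : A, g ∉ 𝔭 ∧ GenKR I (Localization.Away g) := by
  constructor
  · intro h 𝔭 h𝔭 hI
    exact h ⟨𝔭, h𝔭⟩ hI
  · intro h 𝔭 hI
    exact h 𝔭.asIdeal 𝔭.2 hI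

/-- a globally Koszul-regularly generated ideal is Koszul-regular -/
theorem isKRI_of_genKR {I : Ideal A} (h : GenKR I A) : LCI.IsKoszulRegularIdeal I := by
  rw [isKRI_iff]
  intro 𝔭 h𝔭 _
  refine ⟨1, fun h1 => h𝔭.ne_top (Ideal.eq_top_of_isUnit_mem _ h1 isUnit_one), ?_⟩
  exact h.of_flat

/-- **flat base change** of Koszul-regular ideals -/
theorem isKRI_map_of_flat {A' : Type u} [CommRing A'] (φ : A →+* A') (hφ : φ.Flat) {I : Ideal A}
    (hI : LCI.IsKoszulRegularIdeal I) : LCI.IsKoszulRegularIdeal (I.map φ) := by
  rw [isKRI_iff] at hI ⊢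
  intro 𝔭' h𝔭' hle
  obtain ⟨g, hg, hgen⟩ := hI (𝔭'.comap φ) inferInstance (Ideal.map_le_iff_le_comap.1 hle)
  refine ⟨φ g, hg, ?_⟩
  obtain ⟨l, hl, hIl⟩ := hgen
  let ψ : Localization.Away g →+* Localization.Away (φ g) := Localization.awayMap φ g
  letI : Algebra A A' := φ.toAlgebra
  letI : Algebra (Localization.Away g) (Localization.Away (φ g)) := ψ.toAlgebra
  haveI : IsScalarTower A (Localization.Away g) (Localization.Away (φ g)) :=
    IsScalarTower.of_algebraMap_eq (fun a => by
      change _ = ψ (algebraMap A (Localization.Away g) a)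
      rw [IsScalarTower.algebraMap_apply A A' (Localization.Away (φ g))]
      exact (IsLocalization.map_eq _ _).symm)
  haveI : IsLocalization (Algebra.algebraMapSubmonoid A' (Submonoid.powers g))
      (Localization.Away (φ g)) := by
    change IsLocalization ((Submonoid.powers g).map φ) (Localization.Away (φ g))
    rw [Submonoid.map_powers]
    infer_instance
  have hpo : Algebra.IsPushout A (Localization.Away g) A' (Localization.Away (φ g)) :=
    (Algebra.isPushout_of_isLocalization (Submonoid.powers g) (Localization.Away g) A'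
      (Localization.Away (φ g))).symm
  haveI : Module.Flat A A' := hφ
  have hψflat : ψ.Flat := by
    have : Module.Flat (Localization.Away g) (Localization.Away (φ g)) :=
      Module.Flat.isBaseChange A (Localization.Away g) A' _ (hpo.out)
    exact this
  refine ⟨l.map ψ, kr_map_of_flat ψ hψflat l hl, ?_⟩
  rw [← Ideal.map_ofList, ← hIl, Ideal.map_map, Ideal.map_map]
  congr 1
  exact (IsLocalization.map_comp _).symm

/-- Stacks 0669 and its converse for a surjection whose kernel is generated by a Koszul-regular
sequence -/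
theorem kr_append_iff_of_surjective {S S' : Type u} [CommRing S] [CommRing S'] (π : S →+* S')
    (hπ : Function.Surjective π) (p q : List S) (hp : LCI.IsKoszulRegularSeq S p)
    (hker : RingHom.ker π = Ideal.ofList p) :
    LCI.IsKoszulRegularSeq S (q ++ p) ↔ LCI.IsKoszulRegularSeq S' (q.map π) := by
  rw [kr_append_iff p q hp]
  let e : (S ⧸ Ideal.ofList p) ≃+* S' :=
    (Ideal.quotEquivOfEq hker.symm).trans (RingHom.quotientKerEquivOfSurjective hπ)
  have he : ∀ x, e (Ideal.Quotient.mk _ x) = π x := fun x => rfl
  have hmap : (q.map (Ideal.Quotient.mk (Ideal.ofList p))).map (e : _ →+* S') = q.map π := by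
    rw [List.map_map]
    exact List.map_congr_left fun x _ => he x
  constructor
  · intro h
    rw [← hmap]
    exact kr_map_of_flat (e : _ →+* S') (RingHom.Flat.of_bijective e.bijective) _ h
  · intro h
    let ei : S' →+* (S ⧸ Ideal.ofList p) := e.symm.toRingHom
    have hei : ei.Flat := RingHom.Flat.of_bijective e.symm.bijective
    have h1 := kr_map_of_flat ei hei _ h
    rw [← hmap, List.map_map] at h1
    have h2 : (q.map (Ideal.Quotient.mk (Ideal.ofList p))).map
        (ei ∘ (e : _ →+* S')) = q.map (Ideal.Quotient.mk (Ideal.ofList p)) := by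
      conv_rhs => rw [← List.map_id (q.map (Ideal.Quotient.mk (Ideal.ofList p)))]
      exact List.map_congr_left fun x _ => e.symm_apply_apply x
    rw [h2] at h1
    exact h1

section LocSurj

variable {R R' : Type u} [CommRing R] [CommRing R'] (π : R →+* R') (hπ : Function.Surjective π)
  (g : R) (S S' : Type u) [CommRing S] [CommRing S'] [Algebra R S] [Algebra R' S']
  [IsLocalization.Away g S] [IsLocalization.Away (π g) S']

include hπ in
lemma awayMap_surjective' : Function.Surjective (IsLocalization.Away.map S S' π g) := by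
  haveI : IsLocalization (Submonoid.map π (Submonoid.powers g)) S' := by
    rw [Submonoid.map_powers]; infer_instance
  exact IsLocalization.map_surjective_of_surjective _ _ _ hπ

lemma ker_awayMap' : RingHom.ker (IsLocalization.Away.map S S' π g) =
    (RingHom.ker π).map (algebraMap R S) :=
  IsLocalization.ker_map (S := S) S' π (Submonoid.map_powers π g)

lemma awayMap_comp' : (IsLocalization.Away.map S S' π g).comp (algebraMap R S) =
    (algebraMap R' S').comp π :=
  IsLocalization.map_comp _

include hπ in
lemma map_comap_awayMap' (J : Ideal R') :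
    (J.comap π).map (algebraMap R S) =
      (J.map (algebraMap R' S')).comap (IsLocalization.Away.map S S' π g) := by
  have h1 : ((J.comap π).map (algebraMap R S)).map (IsLocalization.Away.map S S' π g) =
      J.map (algebraMap R' S') := by
    rw [Ideal.map_map, awayMap_comp', ← Ideal.map_map, Ideal.map_comap_of_surjective π hπ]
  rw [← h1, Ideal.comap_map_of_surjective _ (awayMap_surjective' π hπ g S S'),
    ← RingHom.ker_eq_comap_bot, ker_awayMap']
  refine (sup_eq_left.2 (Ideal.map_mono ?_)).symm
  rw [RingHom.ker_eq_comap_bot]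
  exact Ideal.comap_mono bot_le

include hπ in
lemma awayMap_surjective : Function.Surjective (Localization.awayMap π g) :=
  awayMap_surjective' π hπ g _ _

lemma ker_awayMap : RingHom.ker (Localization.awayMap π g) =
    (RingHom.ker π).map (algebraMap R (Localization.Away g)) :=
  ker_awayMap' π g _ _

include hπ in
lemma map_comap_awayMap (J : Ideal R') :
    (J.comap π).map (algebraMap R (Localization.Away g)) =
      (J.map (algebraMap R' (Localization.Away (π g)))).comap (Localization.awayMap π g) :=
  map_comap_awayMap' π hπ g _ _ J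

end LocSurj

/-- **Preimages.**  The preimage of a Koszul-regular ideal under a surjection with Koszul-regular
kernel is Koszul-regular (the ideal form of Stacks 0669). -/
theorem isKRI_comap_of_surjective {R R' : Type u} [CommRing R] [CommRing R'] (π : R →+* R')
    (hπ : Function.Surjective π) (hker : LCI.IsKoszulRegularIdeal (RingHom.ker π)) {J : Ideal R'}
    (hJ : LCI.IsKoszulRegularIdeal J) : LCI.IsKoszulRegularIdeal (J.comap π) := by
  rw [isKRI_iff] at hker hJ ⊢
  intro 𝔮 h𝔮 hle
  have hker𝔮 : RingHom.ker π ≤ 𝔮 := by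
    refine le_trans ?_ hle
    rw [RingHom.ker_eq_comap_bot]
    exact Ideal.comap_mono bot_le
  haveI : (𝔮.map π).IsPrime := Ideal.map_isPrime_of_surjective hπ hker𝔮
  have hJ𝔮 : J ≤ 𝔮.map π := by
    rw [← Ideal.map_comap_of_surjective π hπ J]
    exact Ideal.map_mono hle
  obtain ⟨g₁, hg₁, h1⟩ := hker 𝔮 h𝔮 hker𝔮
  obtain ⟨g₂', hg₂, h2⟩ := hJ (𝔮.map π) inferInstance hJ𝔮
  obtain ⟨g₂, rfl⟩ := hπ g₂'
  have hg₂' : g₂ ∉ 𝔮 := fun h => hg₂ (Ideal.mem_map_of_mem π h)
  refine ⟨g₁ * g₂, fun h => (h𝔮.mem_or_mem h).elim hg₁ hg₂', ?_⟩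
  have h1' : GenKR (RingHom.ker π) (Localization.Away (g₁ * g₂)) := h1.mul_right g₂
  have h2' : GenKR J (Localization.Away (π (g₁ * g₂))) := by
    rw [map_mul]
    exact h2.mul_left (π g₁)
  obtain ⟨p, hp, hpI⟩ := h1'
  obtain ⟨q', hq, hqJ⟩ := h2'
  have hsurj := awayMap_surjective π hπ (g₁ * g₂)
  obtain ⟨q, rfl⟩ : ∃ q : List _, q.map (Localization.awayMap π (g₁ * g₂)) = q' :=
    (List.map_surjective_iff.2 hsurj) q'
  have hkerS : RingHom.ker (Localization.awayMap π (g₁ * g₂)) = Ideal.ofList p := by
    rw [ker_awayMap, hpI]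
  refine ⟨q ++ p, (kr_append_iff_of_surjective _ hsurj p q hp hkerS).2 hq, ?_⟩
  rw [map_comap_awayMap π hπ, hqJ, ← Ideal.map_ofList, Ideal.comap_map_of_surjective _ hsurj,
    ← RingHom.ker_eq_comap_bot, hkerS, Ideal.ofList_append]

end Groth.Agent.R2.H7.KosIdeal
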