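import Mathlib
import Groth.Agent.R2.H7KosIdeal

/-!
# The exchange lemma for Koszul-regular sequences (helper7)

If `u` is a Koszul-regular sequence and `ζ = ∑ c i * u i` with some coefficient `c i₀` a unit, then
`ζ` can be exchanged for `u i₀` and moved to the end: there is a list `q` with `q ++ [ζ]`
Koszul-regular generating the same ideal.
-/

set_option autoImplicit false
set_option linter.style.haveILetI false
universe u

namespace Groth.Agent.R2.H7.KosExch

open Groth.Agent.R2.H7.KosBasic Groth.Agent.R2.H7.KosCG Groth.Agent.R2.H7.KosK2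
open Groth.Agent.R2.H7.KosIdeal

variable {T : Type u} [CommRing T]

lemma span_range_mulVec_le {N : ℕ} (a : Matrix (Fin N) (Fin N) T) (u : Fin N → T) :
    Ideal.span (Set.range (a.mulVec u)) ≤ Ideal.span (Set.range u) := by
  apply Ideal.span_le.2
  rintro _ ⟨j, rfl⟩
  change (∑ i, a j i * u i) ∈ _
  exact Ideal.sum_mem _ fun i _ => Ideal.mul_mem_left _ _ (Ideal.subset_span ⟨i, rfl⟩)

lemma span_range_mulVec {N : ℕ} (a b : Matrix (Fin N) (Fin N) T) (hba : b * a = 1)
    (u : Fin N → T) :
    Ideal.span (Set.range (a.mulVec u)) = Ideal.span (Set.range u) := by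
  refine le_antisymm (span_range_mulVec_le a u) ?_
  have h : b.mulVec (a.mulVec u) = u := by
    rw [Matrix.mulVec_mulVec, hba, Matrix.one_mulVec]
  conv_lhs => rw [← h]
  exact span_range_mulVec_le b _

lemma ofList_ofFn {N : ℕ} (u : Fin N → T) :
    Ideal.ofList (List.ofFn u) = Ideal.span (Set.range u) := by
  change Ideal.span {x | x ∈ List.ofFn u} = _
  congr 1
  ext x
  simp [List.mem_ofFn]

/-- **Exchange lemma.** -/
theorem exists_kr_concat {N : ℕ} (u : Fin N → T) (hu : LCI.IsKoszulRegularSeq T (List.ofFn u))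
    (c : Fin N → T) (i₀ : Fin N) (hc : IsUnit (c i₀)) :
    ∃ q : List T, LCI.IsKoszulRegularSeq T (q ++ [∑ i, c i * u i]) ∧
      Ideal.ofList (q ++ [∑ i, c i * u i]) = Ideal.span (Set.range u) := by
  classical
  obtain ⟨N', rfl⟩ : ∃ N', N = N' + 1 := ⟨N - 1, by have := i₀.pos; omega⟩
  set ζ := ∑ i, c i * u i with hζ
  -- replace the `i₀`-th entry
  let a : Matrix (Fin (N' + 1)) (Fin (N' + 1)) T := Matrix.updateRow 1 i₀ c
  have hdet : a.det = c i₀ := by
    have h1 := Matrix.cramer_transpose_apply (1 : Matrix (Fin (N' + 1)) (Fin (N' + 1)) T) c i₀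
    rw [Matrix.transpose_one, Matrix.cramer_one] at h1
    exact h1.symm
  have hdu : IsUnit a.det := hdet ▸ hc
  have hab : a * a⁻¹ = 1 := Matrix.mul_nonsing_inv a hdu
  have hba : a⁻¹ * a = 1 := Matrix.nonsing_inv_mul a hdu
  set v := a.mulVec u with hv
  have hvi₀ : v i₀ = ζ := by
    change ∑ i, a i₀ i * u i = _
    simp [a, Matrix.updateRow_apply, hζ]
  have hkrv : LCI.IsKoszulRegularSeq T (List.ofFn v) := (kr_mulVec_iff u a a⁻¹ hab hba).2 hu
  have hspanv : Ideal.span (Set.range v) = Ideal.span (Set.range u) :=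
    span_range_mulVec a a⁻¹ hba u
  -- move it to the end
  let σ : Equiv.Perm (Fin (N' + 1)) := Equiv.swap i₀ (Fin.last N')
  set w := v ∘ σ with hw
  have hkrw : LCI.IsKoszulRegularSeq T (List.ofFn w) := (kr_comp_perm_iff v σ).2 hkrv
  have hspanw : Ideal.span (Set.range w) = Ideal.span (Set.range v) := by
    congr 1
    exact σ.surjective.range_comp v
  have hwlast : w (Fin.last N') = ζ := by
    change v (σ (Fin.last N')) = ζ
    rw [Equiv.swap_apply_right, hvi₀]
  have hlist : List.ofFn w = List.ofFn (fun i : Fin N' => w i.castSucc) ++ [ζ] := by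
    rw [List.ofFn_succ', List.concat_eq_append, hwlast]
  refine ⟨List.ofFn (fun i : Fin N' => w i.castSucc), hlist ▸ hkrw, ?_⟩
  rw [← hlist, ofList_ofFn, hspanw, hspanv]

end Groth.Agent.R2.H7.KosExch
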