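import Mathlib
import Groth.Agent.R2.H40KosTop
import Groth.Agent.R2.H7KosExch
import Groth.Agent.S15821
import Groth.Agent.Lib.Helper5DirLimReg

/-!
# Koszul-regular sequences become regular after a generic change of generators (helper40)

Stacks 0669-style: if `f_0, …, f_r` is Koszul-regular in `R`, then in `R[X]` the element
`ζ = ∑ X^j f_j` is a nonzerodivisor (McCoy + vanishing of the top Koszul homology), it can be
exchanged for `f_0`, and the remaining generators stay Koszul-regular modulo `ζ`.  Iterating, a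
smooth extension of `R` with a retraction carries a regular sequence generating the extended ideal.
-/

set_option autoImplicit false
set_option linter.style.haveILetI false
universe u

namespace Groth.Agent.R2.H40.KosGeneric

open Polynomial
open Groth.Agent.R2.H7.KosBasic Groth.Agent.R2.H7.KosCG Groth.Agent.R2.H7.KosK2
open Groth.Agent.R2.H7.KosExch Groth.Agent.R2.H40.KosTop

section Exchange

variable {T : Type u} [CommRing T]

/-- **Exchange lemma** (helper7's `exists_kr_concat`, keeping track of the length). -/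
theorem exists_kr_concat_fn {N' : ℕ} (u : Fin (N' + 1) → T)
    (hu : LCI.IsKoszulRegularSeq T (List.ofFn u))
    (c : Fin (N' + 1) → T) (i₀ : Fin (N' + 1)) (hc : IsUnit (c i₀)) :
    ∃ q : Fin N' → T, LCI.IsKoszulRegularSeq T (List.ofFn q ++ [∑ i, c i * u i]) ∧
      Ideal.ofList (List.ofFn q ++ [∑ i, c i * u i]) = Ideal.span (Set.range u) := by
  classical
  set ζ := ∑ i, c i * u i with hζ
  let a : Matrix (Fin (N' + 1)) (Fin (N' + 1)) T := Matrix.updateRow 1 i₀ c
  have hdet : a.det = c i₀ := by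
    have h1 := Matrix.cramer_transpose_apply (1 : Matrix (Fin (N' + 1)) (Fin (N' + 1)) T) c i₀
    rw [Matrix.transpose_one, Matrix.cramer_one] at h1
    exact h1.symm
  have hdu : IsUnit a.det := hdet ▸ hc
  have hab : a * a⁻¹ = 1 := Matrix.mul_nonsing_inv a hdu
  have hba : a⁻¹ * a = 1 := Matrix.nonsing_inv_mul a hdu
  set v := a.mulVec u with hv
  have hvi₀ : v i₀ = ζ := by
    change ∑ i, a i₀ i * u i = _
    simp [a, Matrix.updateRow_apply, hζ]
  have hkrv : LCI.IsKoszulRegularSeq T (List.ofFn v) := (kr_mulVec_iff u a a⁻¹ hab hba).2 hu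
  have hspanv : Ideal.span (Set.range v) = Ideal.span (Set.range u) :=
    span_range_mulVec a a⁻¹ hba u
  let σ : Equiv.Perm (Fin (N' + 1)) := Equiv.swap i₀ (Fin.last N')
  set w := v ∘ σ with hw
  have hkrw : LCI.IsKoszulRegularSeq T (List.ofFn w) := (kr_comp_perm_iff v σ).2 hkrv
  have hspanw : Ideal.span (Set.range w) = Ideal.span (Set.range v) := by
    congr 1
    exact σ.surjective.range_comp v
  have hwlast : w (Fin.last N') = ζ := by
    change v (σ (Fin.last N')) = ζ
    rw [Equiv.swap_apply_right, hvi₀]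
  have hlist : List.ofFn w = List.ofFn (fun i : Fin N' => w i.castSucc) ++ [ζ] := by
    rw [List.ofFn_succ', List.concat_eq_append, hwlast]
  refine ⟨fun i : Fin N' => w i.castSucc, hlist ▸ hkrw, ?_⟩
  rw [← hlist, ofList_ofFn, hspanw, hspanv]

end Exchange

section McCoy

variable {R : Type u} [CommRing R]

/-- The generic combination `∑ X^j f_j`. -/
noncomputable def zeta {n : ℕ} (f : Fin n → R) : R[X] := ∑ j : Fin n, X ^ (j : ℕ) * C (f j)

theorem coeff_zeta {n : ℕ} (f : Fin n → R) (j : Fin n) : (zeta f).coeff j = f j := by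
  classical
  unfold zeta
  rw [Polynomial.finsetSum_coeff]
  rw [Finset.sum_eq_single j]
  · rw [Polynomial.coeff_X_pow_mul', if_pos le_rfl, Nat.sub_self, Polynomial.coeff_C_zero]
  · intro b _ hb
    rw [Polynomial.coeff_X_pow_mul']
    split_ifs with h
    · rw [Polynomial.coeff_C]
      rw [if_neg]
      intro h0
      apply hb
      apply Fin.ext
      omega
    · rfl
  · intro h
    exact absurd (Finset.mem_univ j) h

/-- McCoy: if no nonzero element kills all `f_j`, then `∑ X^j f_j` is a nonzerodivisor. -/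
theorem zeta_mem_nonZeroDivisors {n : ℕ} (f : Fin n → R)
    (hann : ∀ a : R, (∀ j, a * f j = 0) → a = 0) : zeta f ∈ nonZeroDivisors R[X] := by
  by_contra hcon
  obtain ⟨a, ha0, ha⟩ := Polynomial.notMem_nonZeroDivisors_iff.1 hcon
  apply ha0
  apply hann
  intro j
  have h1 : (a • zeta f).coeff j = 0 := by rw [ha, Polynomial.coeff_zero]
  rwa [Polynomial.coeff_smul, coeff_zeta, smul_eq_mul] at h1

theorem map_zeta {R' : Type u} [CommRing R'] (φ : R →+* R') {n : ℕ} (f : Fin n → R) :
    Polynomial.map φ (zeta f) = zeta (fun j => φ (f j)) := by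
  unfold zeta
  rw [Polynomial.map_sum]
  apply Finset.sum_congr rfl
  intro j _
  rw [Polynomial.map_mul, Polynomial.map_pow, Polynomial.map_X, Polynomial.map_C]

end McCoy

section Step

open TensorProduct

variable {S : Type u} [CommRing S]

/-- Transport of Koszul-regularity along a bijective ring homomorphism. -/
theorem kr_map_of_bijective {T T' : Type u} [CommRing T] [CommRing T'] (ψ : T →+* T')
    (hψ : Function.Bijective ψ) (l : List T) (h : LCI.IsKoszulRegularSeq T l) :
    LCI.IsKoszulRegularSeq T' (l.map ψ) :=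
  kr_map_of_flat ψ (RingHom.Flat.of_bijective hψ) l h

/-- A nonzerodivisor is a Koszul-regular sequence of length one. -/
theorem kr_singleton {T : Type u} [CommRing T] (a : T) (ha : a ∈ nonZeroDivisors T) :
    LCI.IsKoszulRegularSeq T [a] := by
  refine (Groth.Agent.S15821.result T [a] ?_).1
  rw [RingTheory.Sequence.isWeaklyRegular_cons_iff]
  refine ⟨?_, RingTheory.Sequence.IsWeaklyRegular.nil _ _⟩
  exact (isRegular_iff_mem_nonZeroDivisors.2 ha).left.isSMulRegular

/-- **The generic exchange step.** -/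
theorem step (K : Ideal S) {r : ℕ} (f : Fin (r + 1) → S)
    (hf : LCI.IsKoszulRegularSeq (S ⧸ K) (List.ofFn fun i => Ideal.Quotient.mk K (f i))) :
    ∃ (g₀ : S[X]) (q : Fin r → S[X]),
      (Ideal.span {g₀} ⊔ Ideal.span (Set.range q) ⊔ K.map (C : S →+* S[X]) =
        (Ideal.span (Set.range f) ⊔ K).map (C : S →+* S[X])) ∧
      LCI.IsKoszulRegularSeq (S[X] ⧸ (K.map (C : S →+* S[X]) ⊔ Ideal.span {g₀}))
        (List.ofFn fun i => Ideal.Quotient.mk _ (q i)) ∧
      ∀ (S' : Type u) [CommRing S'] [Algebra S[X] S'] [Module.Flat S[X] S'] (s' : S'),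
        algebraMap S[X] S' g₀ * s' ∈ (K.map (C : S →+* S[X])).map (algebraMap S[X] S') →
          s' ∈ (K.map (C : S →+* S[X])).map (algebraMap S[X] S') := by
  classical
  set R := S ⧸ K with hR
  set mkK : S →+* R := Ideal.Quotient.mk K with hmkK
  set π : S[X] →+* R[X] := Polynomial.mapRingHom mkK with hπ
  have hπs : Function.Surjective π := Polynomial.map_surjective mkK Ideal.Quotient.mk_surjective
  set J : Ideal S[X] := K.map (C : S →+* S[X]) with hJ
  have hkerπ : RingHom.ker π = J := by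
    rw [hπ, Polynomial.ker_mapRingHom, hmkK, Ideal.mk_ker]
  set fbar : Fin (r + 1) → R := fun i => mkK (f i) with hfbar
  set u : Fin (r + 1) → R[X] := fun i => C (fbar i) with hu
  have hCflat : (C : R →+* R[X]).Flat := by
    rw [← Polynomial.algebraMap_eq]
    exact (RingHom.flat_algebraMap_iff).2 inferInstance
  have hukr : LCI.IsKoszulRegularSeq R[X] (List.ofFn u) := by
    have := kr_map_of_flat (C : R →+* R[X]) hCflat _ hf
    rwa [List.map_ofFn] at this
  set ζ : R[X] := zeta fbar with hζ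
  have hζsum : ζ = ∑ i : Fin (r + 1), (X : R[X]) ^ (i : ℕ) * u i := rfl
  obtain ⟨qbar, hqkr, hqspan⟩ := exists_kr_concat_fn u hukr (fun i : Fin (r + 1) => (X : R[X]) ^ (i : ℕ)) 0
    (by simp)
  rw [← hζsum] at hqkr hqspan
  have hζnzd : ζ ∈ nonZeroDivisors R[X] :=
    zeta_mem_nonZeroDivisors fbar (eq_zero_of_kr fbar hf)
  have hkrζ : LCI.IsKoszulRegularSeq R[X] [ζ] := kr_singleton ζ hζnzd
  have hqbar := (kr_append_iff [ζ] (List.ofFn qbar) hkrζ).1 hqkr
  -- lifts
  set g₀ : S[X] := zeta f with hg₀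
  have hπg₀ : π g₀ = ζ := by
    rw [hπ, Polynomial.coe_mapRingHom, hg₀, map_zeta]
  have hq : ∀ i, ∃ s : S[X], π s = qbar i := fun i => hπs (qbar i)
  choose q hq using hq
  refine ⟨g₀, q, ?_, ?_, ?_⟩
  · -- the ideals
    have hcm : ∀ L : Ideal S[X], J ≤ L → L = Ideal.comap π (Ideal.map π L) := by
      intro L hL
      rw [Ideal.comap_map_of_surjective π hπs, ← RingHom.ker_eq_comap_bot, hkerπ]
      exact (sup_eq_left.2 hL).symm
    rw [hcm _ le_sup_right, hcm ((Ideal.span (Set.range f) ⊔ K).map (C : S →+* S[X]))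
      (Ideal.map_mono le_sup_right)]
    congr 1
    have hJ0 : Ideal.map π J = ⊥ := by
      rw [← hkerπ]
      exact (Ideal.map_eq_bot_iff_le_ker π).2 le_rfl
    rw [Ideal.map_sup, Ideal.map_sup, hJ0, sup_bot_eq, Ideal.map_span, Ideal.map_span,
      Set.image_singleton, hπg₀, ← Set.range_comp, Ideal.map_map]
    have h1 : (π ∘ q) = qbar := funext hq
    rw [h1]
    have h2 : π.comp (C : S →+* S[X]) = (C : R →+* R[X]).comp mkK := by
      ext a
      simp [hπ]
    rw [h2, ← Ideal.map_map, Ideal.map_sup, Ideal.map_span, ← Set.range_comp]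
    have h3 : Ideal.map mkK K = ⊥ := by
      rw [hmkK, Ideal.map_quotient_self]
    rw [h3, sup_bot_eq, Ideal.map_span, ← Set.range_comp]
    have h4 : ((C : R →+* R[X]) ∘ (mkK ∘ f)) = u := rfl
    rw [h4, ← hqspan, Ideal.ofList_append, Ideal.ofList_singleton, ofList_ofFn, sup_comm]
  · -- Koszul-regularity modulo `g₀`
    set T := R[X] ⧸ Ideal.ofList [ζ] with hT
    set ρ : S[X] →+* T := (Ideal.Quotient.mk (Ideal.ofList [ζ])).comp π with hρ
    have hρs : Function.Surjective ρ := Ideal.Quotient.mk_surjective.comp hπs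
    have hkerρ : RingHom.ker ρ = J ⊔ Ideal.span {g₀} := by
      rw [hρ, ← RingHom.comap_ker, Ideal.mk_ker, Ideal.ofList_singleton, ← hπg₀,
        ← Set.image_singleton, ← Ideal.map_span, Ideal.comap_map_of_surjective π hπs,
        ← RingHom.ker_eq_comap_bot, hkerπ, sup_comm]
    let e : (S[X] ⧸ RingHom.ker ρ) ≃+* T := RingHom.quotientKerEquivOfSurjective hρs
    let e' : T ≃+* S[X] ⧸ (J ⊔ Ideal.span {g₀}) := e.symm.trans (Ideal.quotEquivOfEq hkerρ)
    have he' : ∀ s : S[X], e' (ρ s) = Ideal.Quotient.mk _ s := by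
      intro s
      have h1 : e (Ideal.Quotient.mk _ s) = ρ s := rfl
      change (Ideal.quotEquivOfEq hkerρ) (e.symm (ρ s)) = _
      rw [← h1, RingEquiv.symm_apply_apply, Ideal.quotEquivOfEq_mk]
    have h5 := kr_map_of_bijective e'.toRingHom e'.bijective _ hqbar
    rw [List.map_map, List.map_ofFn] at h5
    convert h5 using 2
    funext i
    change _ = e' (Ideal.Quotient.mk _ (qbar i))
    rw [← hq i]
    exact (he' (q i)).symm
  · -- regularity of `g₀` modulo `K` after flat base change
    intro S' _ _ _ s' hs'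
    have h1 : IsSMulRegular (S[X] ⧸ J) g₀ := by
      rw [isSMulRegular_quotient_iff_mem_of_smul_mem]
      intro s hs
      rw [smul_eq_mul, ← hkerπ, RingHom.mem_ker, map_mul, hπg₀] at hs
      rw [← hkerπ, RingHom.mem_ker]
      exact (mem_nonZeroDivisors_iff_right.mp hζnzd) _ (by rwa [mul_comm] at hs)
    have h2 : IsSMulRegular (S' ⊗[S[X]] (S[X] ⧸ J)) g₀ := IsSMulRegular.lTensor S' h1
    have h3 : IsSMulRegular (S' ⧸ (J • ⊤ : Submodule S[X] S')) g₀ :=
      (LinearEquiv.isSMulRegular_congr (TensorProduct.tensorQuotEquivQuotSMul S' J) g₀).1 h2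
    rw [isSMulRegular_quotient_iff_mem_of_smul_mem] at h3
    have h4 : ∀ t : S', t ∈ (J • ⊤ : Submodule S[X] S') ↔ t ∈ J.map (algebraMap S[X] S') := by
      intro t
      rw [Ideal.smul_top_eq_map]
      rfl
    rw [← h4]
    apply h3
    rw [h4, Algebra.smul_def]
    exact hs'

end Step

section Induction

/-- Elementwise weak regularity of `g` modulo the ideal `I`. -/
def WRel {S' : Type u} [CommRing S'] (I : Ideal S') {r : ℕ} (g : Fin r → S') : Prop :=
  ∀ (i : Fin r) (s : S'), g i * s ∈ I ⊔ Ideal.span (g '' {j | j < i}) →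
    s ∈ I ⊔ Ideal.span (g '' {j | j < i})

theorem WRel.congr {S' : Type u} [CommRing S'] {I I' : Ideal S'} (h : I = I') {r : ℕ}
    {g : Fin r → S'} (H : WRel I g) : WRel I' g := h ▸ H

theorem image_cons_lt_succ {α : Type*} {r : ℕ} (a : α) (g : Fin r → α) (k : Fin r) :
    (Fin.cons a g : Fin (r + 1) → α) '' {j | j < k.succ} = insert a (g '' {j | j < k}) := by
  ext x
  simp only [Set.mem_image, Set.mem_ofPred_eq, Set.mem_insert_iff]
  constructor
  · rintro ⟨j, hj, rfl⟩
    revert hj
    refine Fin.cases ?_ (fun j' => ?_) j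
    · intro _
      left
      rfl
    · intro hj
      right
      exact ⟨j', Fin.succ_lt_succ_iff.mp hj, rfl⟩
  · rintro (rfl | ⟨j', hj', rfl⟩)
    · exact ⟨0, Fin.succ_pos k, rfl⟩
    · exact ⟨j'.succ, Fin.succ_lt_succ_iff.mpr hj', rfl⟩

theorem WRel.cons {S' : Type u} [CommRing S'] (I : Ideal S') (a : S') {r : ℕ} (g : Fin r → S')
    (ha : ∀ s : S', a * s ∈ I → s ∈ I) (hg : WRel (I ⊔ Ideal.span {a}) g) :
    WRel I (Fin.cons a g : Fin (r + 1) → S') := by
  intro i
  refine Fin.cases ?_ (fun k => ?_) i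
  · intro s hs
    have h0 : (Fin.cons a g : Fin (r + 1) → S') '' {j | j < 0} = ∅ := by
      ext x
      simp
    rw [h0, Ideal.span_empty, sup_bot_eq] at hs ⊢
    exact ha s hs
  · intro s hs
    rw [image_cons_lt_succ, Ideal.span_insert, ← sup_assoc] at hs ⊢
    rw [Fin.cons_succ] at hs
    exact hg k s hs

/-- Elementwise weak regularity modulo `⊥` is weak regularity. -/
theorem WRel.isWeaklyRegular {S' : Type u} [CommRing S'] {r : ℕ} {g : Fin r → S'}
    (H : WRel (⊥ : Ideal S') g) : RingTheory.Sequence.IsWeaklyRegular S' (List.ofFn g) := by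
  apply Groth.Agent.Lib.Helper5.DirLimReg.isWeaklyRegular_ofFn_of_forall
  intro i hi a ha
  have hset : (Set.range fun j : Fin i => g (Fin.castLE hi.le j)) = g '' {j | j < ⟨i, hi⟩} := by
    ext x
    simp only [Set.mem_range, Set.mem_image, Set.mem_ofPred_eq]
    constructor
    · rintro ⟨j, rfl⟩
      exact ⟨Fin.castLE hi.le j, by
        change (Fin.castLE hi.le j : ℕ) < i
        simp, rfl⟩
    · rintro ⟨j, hj, rfl⟩
      exact ⟨⟨j, hj⟩, by congr 1⟩
  rw [hset] at ha ⊢
  have h1 := H ⟨i, hi⟩ a (by rw [bot_sup_eq, mul_comm]; exact ha)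
  rwa [bot_sup_eq] at h1

/-- **Koszul-regular sequences become regular after a smooth extension with a retraction**
(relative form, for the induction). -/
theorem exists_smooth_wrel : ∀ (r : ℕ) (S : Type u) [CommRing S] (K : Ideal S) (f : Fin r → S),
    LCI.IsKoszulRegularSeq (S ⧸ K) (List.ofFn fun i => Ideal.Quotient.mk K (f i)) →
    ∃ (S' : Type u) (_ : CommRing S') (_ : Algebra S S'), Algebra.Smooth S S' ∧
      Nonempty (S' →ₐ[S] S) ∧ ∃ g : Fin r → S',
        Ideal.span (Set.range g) ⊔ K.map (algebraMap S S') =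
          (Ideal.span (Set.range f) ⊔ K).map (algebraMap S S') ∧
        WRel (K.map (algebraMap S S')) g := by
  intro r
  induction r with
  | zero =>
    intro S _ K f _
    refine ⟨S, inferInstance, Algebra.id S, inferInstance, ⟨AlgHom.id S S⟩, f, ?_, ?_⟩
    · rw [Algebra.algebraMap_self, Ideal.map_id, Ideal.map_id]
    · intro i
      exact Fin.elim0 i
  | succ r ih =>
    intro S _ K f hf
    obtain ⟨g₀, q, ha, hb, hc⟩ := step K f hf
    obtain ⟨S', instCR, instAlg₁, hsm, ⟨ρ⟩, g', hg'1, hg'2⟩ :=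
      ih S[X] (K.map (C : S →+* S[X]) ⊔ Ideal.span {g₀}) q hb
    letI algSS' : Algebra S S' := ((algebraMap S[X] S').comp (algebraMap S S[X])).toAlgebra
    haveI : IsScalarTower S S[X] S' := IsScalarTower.of_algebraMap_eq (fun a => rfl)
    haveI : Algebra.Smooth S S[X] := ⟨inferInstance, inferInstance⟩
    haveI : Algebra.Smooth S S' := Algebra.Smooth.comp S S[X] S'
    set α₁ : S[X] →+* S' := algebraMap S[X] S' with hα₁
    have hKmap : K.map (algebraMap S S') = (K.map (C : S →+* S[X])).map α₁ := by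
      rw [Ideal.map_map]
      rfl
    have hK₁map : (K.map (C : S →+* S[X]) ⊔ Ideal.span {g₀}).map α₁ =
        K.map (algebraMap S S') ⊔ Ideal.span {α₁ g₀} := by
      rw [Ideal.map_sup, Ideal.map_span, Set.image_singleton, hKmap]
    refine ⟨S', instCR, algSS', inferInstance,
      ⟨(Polynomial.aeval (0 : S) : S[X] →ₐ[S] S).comp (ρ.restrictScalars S)⟩,
      Fin.cons (α₁ g₀) g', ?_, ?_⟩
    · rw [Fin.range_cons, Ideal.span_insert]
      have h1 : (Ideal.span (Set.range f) ⊔ K).map (algebraMap S S') =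
          ((Ideal.span (Set.range f) ⊔ K).map (C : S →+* S[X])).map α₁ := by
        rw [Ideal.map_map]
        rfl
      rw [h1, ← ha, Ideal.map_sup, Ideal.map_sup, Ideal.map_span, Set.image_singleton, ← hKmap]
      have h2 := hg'1
      rw [hK₁map, Ideal.map_sup, hK₁map] at h2
      calc Ideal.span {α₁ g₀} ⊔ Ideal.span (Set.range g') ⊔ K.map (algebraMap S S')
          = Ideal.span (Set.range g') ⊔ (K.map (algebraMap S S') ⊔ Ideal.span {α₁ g₀}) := by
            ac_rfl
        _ = (Ideal.span (Set.range q)).map α₁ ⊔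
              (K.map (algebraMap S S') ⊔ Ideal.span {α₁ g₀}) := h2
        _ = Ideal.span {α₁ g₀} ⊔ (Ideal.span (Set.range q)).map α₁ ⊔
              K.map (algebraMap S S') := by ac_rfl
    · apply WRel.cons
      · intro s hs
        rw [hKmap] at hs ⊢
        exact hc S' s hs
      · exact hg'2.congr hK₁map

/-- **Koszul-regular sequences become regular after a smooth extension with a retraction.** -/
theorem exists_smooth_isWeaklyRegular {R : Type u} [CommRing R] {r : ℕ} (f : Fin r → R)
    (hf : LCI.IsKoszulRegularSeq R (List.ofFn f)) :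
    ∃ (R' : Type u) (_ : CommRing R') (_ : Algebra R R'), Algebra.Smooth R R' ∧
      Nonempty (R' →ₐ[R] R) ∧ ∃ g : Fin r → R',
        Ideal.span (Set.range g) = (Ideal.span (Set.range f)).map (algebraMap R R') ∧
        RingTheory.Sequence.IsWeaklyRegular R' (List.ofFn g) := by
  have hbij : Function.Bijective (Ideal.Quotient.mk (⊥ : Ideal R)) :=
    ⟨(injective_iff_map_eq_zero _).2 (fun a ha => by
      rwa [Ideal.Quotient.eq_zero_iff_mem, Ideal.mem_bot] at ha), Ideal.Quotient.mk_surjective⟩
  have hf' : LCI.IsKoszulRegularSeq (R ⧸ (⊥ : Ideal R))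
      (List.ofFn fun i => Ideal.Quotient.mk (⊥ : Ideal R) (f i)) := by
    have := kr_map_of_bijective (Ideal.Quotient.mk (⊥ : Ideal R)) hbij _ hf
    rwa [List.map_ofFn] at this
  obtain ⟨R', instCR, instAlg, hsm, hρ, g, hg1, hg2⟩ := exists_smooth_wrel r R ⊥ f hf'
  refine ⟨R', instCR, instAlg, hsm, hρ, g, ?_, ?_⟩
  · rw [Ideal.map_bot, sup_bot_eq, sup_bot_eq] at hg1
    exact hg1
  · rw [Ideal.map_bot] at hg2
    exact hg2.isWeaklyRegular

end Induction

end Groth.Agent.R2.H40.KosGeneric
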