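import Mathlib
import Groth.Agent.R2.H40KosGeneric
import Groth.Agent.R2.H40RelReg
import Groth.Agent.Lib.Helper5RegImmComp

/-!
# Koszul-regular closed immersions become regular after a smooth surjective base change (helper40)
-/

set_option autoImplicit false
set_option linter.style.haveILetI false
universe u
open CategoryTheory CategoryTheory.Limits AlgebraicGeometry TopologicalSpace

namespace Groth.Agent.R2.H40.KosGenericSch

open Groth.Agent.R2.H40.RegBC Groth.Agent.R2.H40.RelReg Groth.Agent.R2.H40.KosGeneric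

section Affine

/-- Sections of `Spec B' ⟶ Spec Γ(X, U) ⟶ X` over `U`. -/
theorem appLE_spec_fromSpec {X : Scheme.{u}} {U : X.Opens} (hU : IsAffineOpen U)
    (B' : CommRingCat.{u}) (φ : Γ(X, U) ⟶ B')
    (hle : (⊤ : (Spec B').Opens) ≤ (Spec.map φ ≫ hU.fromSpec) ⁻¹ᵁ U) :
    (Spec.map φ ≫ hU.fromSpec).appLE U ⊤ hle ≫ (Scheme.ΓSpecIso B').hom = φ := by
  rw [← Scheme.Hom.appLE_comp_appLE _ _ U ⊤ ⊤ (by rw [hU.fromSpec_preimage_self]) le_top]
  have h1 : Scheme.Hom.appLE (Spec.map φ) ⊤ ⊤ le_top = (Spec.map φ).appTop := by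
    simp only [Scheme.Hom.appLE]
    change (Spec.map φ).app ⊤ ≫ (Spec B').presheaf.map (𝟙 _) = _
    rw [CategoryTheory.Functor.map_id, Category.comp_id]
  have h2 : hU.fromSpec.appLE U ⊤ (by rw [hU.fromSpec_preimage_self]) =
      (Scheme.ΓSpecIso Γ(X, U)).inv := by
    simp only [Scheme.Hom.appLE, hU.fromSpec_app_self, Category.assoc]
    rw [← Functor.map_comp]
    change _ ≫ (Spec Γ(X, U)).presheaf.map (𝟙 _) = _
    rw [CategoryTheory.Functor.map_id, Category.comp_id]
  rw [Category.assoc, h1, h2, Scheme.ΓSpecIso_naturality, Iso.inv_hom_id_assoc]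

variable {Z X P : Scheme.{u}}

/-- The affine computation: over `Spec B'`, the base change of a closed immersion whose extended
ideal is generated by a weakly regular sequence is a regular immersion. -/
theorem isRegularImmersionAt_of_isPullback_spec (i : Z ⟶ X) [IsClosedImmersion i]
    {U : X.Opens} (hU : IsAffineOpen U) (B' : Type u) [CommRing B'] [Algebra Γ(X, U) B']
    {r : ℕ} (g : Fin r → B') (hg : RingTheory.Sequence.IsWeaklyRegular B' (List.ofFn g))
    (hI : Ideal.span (Set.range g) = (RingHom.ker (i.app U).hom).map (algebraMap Γ(X, U) B'))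
    (h : Spec (CommRingCat.of B') ⟶ X)
    (hh : h = Spec.map (CommRingCat.ofHom (algebraMap Γ(X, U) B')) ≫ hU.fromSpec)
    {p : P ⟶ Z} {i' : P ⟶ Spec (CommRingCat.of B')} (H : IsPullback p i' i h) (z' : P) :
    RegImm.IsRegularImmersionAt RegImm.Kind.regular i' z' := by
  subst hh
  set φ : Γ(X, U) ⟶ CommRingCat.of B' := CommRingCat.ofHom (algebraMap Γ(X, U) B') with hφ
  have hle : (⊤ : (Spec (CommRingCat.of B')).Opens) ≤ (Spec.map φ ≫ hU.fromSpec) ⁻¹ᵁ U := by
    intro y _
    change (Spec.map φ ≫ hU.fromSpec) y ∈ U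
    rw [Scheme.Hom.comp_apply]
    have : hU.fromSpec (Spec.map φ y) ∈ Set.range hU.fromSpec := ⟨_, rfl⟩
    rw [hU.range_fromSpec] at this
    exact this
  haveI : IsClosedImmersion i' := MorphismProperty.of_isPullback (P := @IsClosedImmersion) H
    inferInstance
  have hk := ker_app_of_isPullback H hle hU (isAffineOpen_top _)
  have hfac := appLE_spec_fromSpec hU (CommRingCat.of B') φ hle
  -- the ring isomorphism `B' ≃ Γ(Spec B', ⊤)`
  let e : B' ≃+* Γ(Spec (CommRingCat.of B'), ⊤) :=
    (Scheme.ΓSpecIso (CommRingCat.of B')).symm.commRingCatIsoToRingEquiv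
  have he : ∀ b : Γ(X, U), ((Spec.map φ ≫ hU.fromSpec).appLE U ⊤ hle).hom b =
      e (algebraMap Γ(X, U) B' b) := by
    intro b
    have h1 : ((Spec.map φ ≫ hU.fromSpec).appLE U ⊤ hle) =
        φ ≫ (Scheme.ΓSpecIso (CommRingCat.of B')).inv :=
      (Iso.comp_inv_eq _).2 hfac.symm ▸ rfl
    rw [h1]
    rfl
  have hmap : (RingHom.ker (i.app U).hom).map ((Spec.map φ ≫ hU.fromSpec).appLE U ⊤ hle).hom =
      ((RingHom.ker (i.app U).hom).map (algebraMap Γ(X, U) B')).map e.toRingHom := by
    rw [Ideal.map_map]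
    congr 1
    ext b
    exact he b
  rw [hmap, ← hI, Ideal.map_span, ← Set.range_comp] at hk
  refine ⟨⟨⊤, isAffineOpen_top _⟩, trivial, inferInstance,
    List.ofFn (fun j => e (g j)), ⟨?_, ?_⟩, ?_⟩
  · have h1 := Groth.Agent.Lib.Helper5.RegImmComp.isWeaklyRegular_map_of_flat e.toRingHom
      (RingHom.Flat.of_bijective e.bijective) _ hg
    rw [List.map_ofFn] at h1
    exact h1
  · have hne : Ideal.ofList (List.ofFn fun j => e (g j)) ≠ ⊤ := by
      rw [Groth.Agent.R2.H7.KosExch.ofList_ofFn]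
      change Ideal.span (Set.range (e.toRingHom ∘ g)) ≠ ⊤
      rw [← hk]
      haveI : Nonempty ↥(i' ⁻¹ᵁ (⊤ : (Spec (CommRingCat.of B')).Opens)) := ⟨⟨z', trivial⟩⟩
      exact RingHom.ker_ne_top _
    rw [smul_eq_mul, Ideal.mul_top]
    exact hne.symm
  · rw [hk, Groth.Agent.R2.H7.KosExch.ofList_ofFn]
    rfl

end Affine

section Ascent

variable {Z X Z' X' : Scheme.{u}} {i : Z ⟶ X} {j : X' ⟶ X} {p : Z' ⟶ Z} {i' : Z' ⟶ X'}

/-- Regularity of an immersion at a point can be checked after base change along an open immersion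
through whose image the point passes. -/
theorem isRegularImmersionAt_of_isPullback_openImmersion (H : IsPullback p i' i j)
    [IsOpenImmersion j] [IsClosedImmersion i] (k : RegImm.Kind) (z' : Z')
    (h : RegImm.IsRegularImmersionAt k i' z') : RegImm.IsRegularImmersionAt k i (p z') := by
  obtain ⟨⟨U', hU'⟩, hzU', hcl, rs', hrs', hker'⟩ := h
  have hU : IsAffineOpen (j ''ᵁ U') := hU'.image_of_isOpenImmersion j
  have hx : i (p z') = j (i' z') := by
    have := congrArg (fun q : Z' ⟶ X => q z') H.w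
    simpa using this
  have hmem : i (p z') ∈ j ''ᵁ U' := by
    rw [hx]
    exact ⟨i' z', hzU', rfl⟩
  have hle : U' ≤ j ⁻¹ᵁ (j ''ᵁ U') := by
    rw [Scheme.Hom.preimage_image_eq]
  have hk := ker_app_of_isPullback H hle hU hU'
  -- `j.appLE` is bijective
  have hbij : Function.Bijective (j.appLE (j ''ᵁ U') U' hle).hom := by
    have h1 : j.appLE (j ''ᵁ U') U' hle = (j.appIso U').hom := by
      rw [Scheme.Hom.appIso_hom]
      rfl
    rw [h1]
    exact ConcreteCategory.bijective_of_isIso (j.appIso U').hom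
  let e : Γ(X, j ''ᵁ U') ≃+* Γ(X', U') := RingEquiv.ofBijective _ hbij
  have hker : RingHom.ker (i.app (j ''ᵁ U')).hom = Ideal.ofList (rs'.map e.symm.toRingHom) := by
    have h2 : (RingHom.ker (i'.app U').hom).map e.symm.toRingHom =
        RingHom.ker (i.app (j ''ᵁ U')).hom := by
      rw [hk]
      change ((RingHom.ker (i.app (j ''ᵁ U')).hom).map e.toRingHom).map e.symm.toRingHom = _
      rw [Ideal.map_map]
      have : e.symm.toRingHom.comp e.toRingHom = RingHom.id _ := by
        ext a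
        simp
      rw [this, Ideal.map_id]
    rw [← h2, hker', Ideal.map_ofList]
  haveI : Nonempty ↥(i ⁻¹ᵁ (j ''ᵁ U')) := ⟨⟨p z', hmem⟩⟩
  have hne : Ideal.ofList (rs'.map e.symm.toRingHom) ≠ ⊤ := by
    rw [← hker]
    exact RingHom.ker_ne_top _
  exact ⟨⟨j ''ᵁ U', hU⟩, hmem, inferInstance, rs'.map e.symm.toRingHom,
    seq_map_of_flat k e.symm.toRingHom (RingHom.Flat.of_bijective e.symm.bijective) rs' hrs' hne,
    hker⟩

end Ascent

section Main

variable {Z X : Scheme.{u}}

/-- Local Koszul-regular generators of the ideal of a Koszul-regular closed immersion, around every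
point of the target. -/
theorem exists_kr_generators (i : Z ⟶ X) [IsClosedImmersion i]
    (hi : RegImm.IsRegularImmersion RegImm.Kind.koszul i) (x : X) :
    ∃ (U : X.affineOpens) (_ : x ∈ U.1) (r : ℕ) (f : Fin r → Γ(X, U.1)),
      LCI.IsKoszulRegularSeq Γ(X, U.1) (List.ofFn f) ∧
        RingHom.ker (i.app U.1).hom = Ideal.span (Set.range f) := by
  by_cases hx : x ∈ Set.range i
  · obtain ⟨z, rfl⟩ := hx
    obtain ⟨U, hzU, -, rs, hrs, hker⟩ := hi.2 z
    refine ⟨U, hzU, rs.length, rs.get, ?_, ?_⟩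
    · rw [List.ofFn_get]
      exact hrs
    · rw [hker, Set.range_list_get]
  · have hcl : IsClosed (Set.range i) := i.isClosedEmbedding.isClosed_range
    let W : X.Opens := ⟨(Set.range i)ᶜ, hcl.isOpen_compl⟩
    obtain ⟨U, hU, hxU, hUW⟩ := TopologicalSpace.Opens.isBasis_iff_nbhd.mp X.isBasis_affineOpens
      (show x ∈ W from hx)
    refine ⟨⟨U, hU⟩, hxU, 1, fun _ => 1, ?_, ?_⟩
    · have h1 : (List.ofFn fun _ : Fin 1 => (1 : Γ(X, U))) = [1] := by simp
      rw [h1]
      exact kr_singleton 1 (one_mem _)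
    · have hempty : i ⁻¹ᵁ U = ⊥ := by
        ext z
        simp only [TopologicalSpace.Opens.coe_bot, Set.mem_empty_iff_false, iff_false]
        intro hz
        exact hUW hz ⟨z, rfl⟩
      have hsub : Subsingleton Γ(Z, i ⁻¹ᵁ U) := by
        rw [hempty]
        infer_instance
      have htop : RingHom.ker (i.app U).hom = ⊤ := by
        rw [Ideal.eq_top_iff_one, RingHom.mem_ker]
        exact Subsingleton.elim _ _
      rw [htop]
      symm
      rw [Ideal.eq_top_iff_one]
      exact Ideal.subset_span ⟨0, rfl⟩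

set_option backward.isDefEq.respectTransparency.types false in
/-- **A Koszul-regular closed immersion becomes a regular immersion after a smooth surjective base
change.** -/
theorem exists_smooth_cover_regular (i : Z ⟶ X) [IsClosedImmersion i]
    (hi : RegImm.IsRegularImmersion RegImm.Kind.koszul i) :
    ∃ (X' : Scheme.{u}) (g : X' ⟶ X), Smooth g ∧ Surjective g ∧
      RegImm.IsRegularImmersion RegImm.Kind.regular (pullback.snd i g) := by
  classical
  choose U hxU r f hkr hker using exists_kr_generators i hi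
  choose R' instCR instAlg hsm hρ gg hg1 hg2 using
    fun x => exists_smooth_isWeaklyRegular (f x) (hkr x)
  letI : ∀ x, CommRing (R' x) := instCR
  letI : ∀ x, Algebra Γ(X, (U x).1) (R' x) := instAlg
  let φ : ∀ x, Γ(X, (U x).1) ⟶ CommRingCat.of (R' x) := fun x =>
    CommRingCat.ofHom (algebraMap Γ(X, (U x).1) (R' x))
  let Y : X → Scheme.{u} := fun x => Spec (CommRingCat.of (R' x))
  let h : ∀ x, Y x ⟶ X := fun x => Spec.map (φ x) ≫ (U x).2.fromSpec
  have hsmooth : ∀ x, Smooth (h x) := by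
    intro x
    haveI : Smooth (Spec.map (φ x)) := by
      rw [HasRingHomProperty.Spec_iff (P := @Smooth)]
      exact (RingHom.smooth_algebraMap).2 (hsm x)
    change Smooth (Spec.map (φ x) ≫ (U x).2.fromSpec)
    infer_instance
  have hrange : ∀ x, x ∈ Set.range (h x) := by
    intro x
    obtain ⟨ρ⟩ := hρ x
    have hcomp : Spec.map (CommRingCat.ofHom ρ.toRingHom) ≫ Spec.map (φ x) = 𝟙 _ := by
      rw [← Spec.map_comp, ← Spec.map_id]
      congr 1
      ext a
      exact ρ.commutes a
    have hx' : x ∈ Set.range (U x).2.fromSpec := by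
      rw [(U x).2.range_fromSpec]
      exact hxU x
    obtain ⟨y, hy⟩ := hx'
    refine ⟨Spec.map (CommRingCat.ofHom ρ.toRingHom) y, ?_⟩
    change (Spec.map (φ x) ≫ (U x).2.fromSpec) (Spec.map (CommRingCat.ofHom ρ.toRingHom) y) = x
    rw [← Scheme.Hom.comp_apply, ← Category.assoc, hcomp, Category.id_comp]
    exact hy
  refine ⟨∐ Y, Sigma.desc h, IsZariskiLocalAtSource.sigmaDesc hsmooth,
    Surjective.sigmaDesc_of_union_range_eq_univ ?_, inferInstance, fun w => ?_⟩
  · rw [Set.eq_univ_iff_forall]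
    intro x
    exact Set.mem_iUnion.2 ⟨x, hrange x⟩
  · obtain ⟨⟨x₀, y⟩, hy⟩ := (sigmaMk Y).surjective (pullback.snd i (Sigma.desc h) w)
    rw [sigmaMk_mk] at hy
    have H₂ : IsPullback (pullback.fst (pullback.snd i (Sigma.desc h)) (Sigma.ι Y x₀))
        (pullback.snd (pullback.snd i (Sigma.desc h)) (Sigma.ι Y x₀))
        (pullback.snd i (Sigma.desc h)) (Sigma.ι Y x₀) :=
      IsPullback.of_hasPullback _ _
    have H₁ : IsPullback (pullback.fst i (Sigma.desc h)) (pullback.snd i (Sigma.desc h)) i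
        (Sigma.desc h) := IsPullback.of_hasPullback i _
    have H := H₂.paste_horiz H₁
    have hh : Sigma.ι Y x₀ ≫ Sigma.desc h =
        Spec.map (CommRingCat.ofHom (algebraMap Γ(X, (U x₀).1) (R' x₀))) ≫
          (U x₀).2.fromSpec := by
      rw [Sigma.ι_desc]
    obtain ⟨z'', hz1, hz2⟩ := Scheme.Pullback.exists_preimage_pullback
      (f := pullback.snd i (Sigma.desc h)) (g := Sigma.ι Y x₀) w y hy.symm
    have hreg := isRegularImmersionAt_of_isPullback_spec i (U x₀).2 (R' x₀) (gg x₀) (hg2 x₀)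
      (by rw [hg1 x₀, hker x₀]) (Sigma.ι Y x₀ ≫ Sigma.desc h) hh H z''
    have := isRegularImmersionAt_of_isPullback_openImmersion H₂ RegImm.Kind.regular z'' hreg
    rw [hz1] at this
    exact this

end Main

end Groth.Agent.R2.H40.KosGenericSch
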