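import Groth.Prelude.Def_Fitting
import Mathlib

/-!
# Norms and quasi-affineness (helper40)

A finite morphism `π : X ⟶ Y` carrying a norm of degree `d ≥ 1` is surjective, and if `X` is
quasi-affine then so is `Y`.
-/

set_option autoImplicit false

universe u

open CategoryTheory CategoryTheory.Limits Opposite TopologicalSpace AlgebraicGeometry

namespace Groth.Agent.R2.H40.NormQAff

variable {X Y : Scheme.{u}}

/-- A finite morphism carrying a norm is surjective. -/
theorem surjective_of_normOfDegree (π : X ⟶ Y) [IsFinite π] {d : ℕ}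
    (N : Nrm.NormOfDegree π d) : Function.Surjective π := by
  intro y
  by_contra hy
  have hcl : IsClosed (Set.range π) := π.isClosedMap.isClosed_range
  let U : Y.Opens := ⟨(Set.range π)ᶜ, hcl.isOpen_compl⟩
  have hyU : y ∈ U := fun ⟨x, hx⟩ => hy ⟨x, hx⟩
  have hemp : π ⁻¹ᵁ U = ⊥ := by
    ext x
    simp only [Opens.coe_bot, Set.mem_empty_iff_false, iff_false]
    exact fun h => h ⟨x, rfl⟩
  have hsub : Subsingleton Γ(X, π ⁻¹ᵁ U) := by
    rw [hemp]; infer_instance
  have h0 : N.norm U (π.app U 0) = 0 := by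
    rw [N.norm_app]; exact zero_pow (Nat.one_le_iff_ne_zero.mp N.one_le)
  have h1 : N.norm U (π.app U 1) = 1 := by
    rw [N.norm_app]; exact one_pow _
  have h01 : (0 : Γ(Y, U)) = 1 := by
    rw [← h0, ← h1]
    congr 1
    exact Subsingleton.elim _ _
  have hU : U = ⊥ := by
    rw [← Y.basicOpen_of_isUnit (U := U) isUnit_one, ← h01, Y.basicOpen_zero]
  rw [hU] at hyU
  exact hyU



set_option backward.isDefEq.respectTransparency.types false in
/-- In a quasi-affine scheme, a finite set of points inside an open `W` lies in an affine basic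
open `X_f ⊆ W` of a global section. -/
theorem exists_basicOpen_of_finite [X.IsQuasiAffine] (T : Set X) (hT : T.Finite) (W : X.Opens)
    (hTW : T ⊆ W) :
    ∃ f : Γ(X, ⊤), IsAffineOpen (X.basicOpen f) ∧ T ⊆ X.basicOpen f ∧ X.basicOpen f ≤ W := by
  classical
  rcases T.eq_empty_or_nonempty with rfl | ⟨x0, hx0⟩
  · refine ⟨0, ?_, Set.empty_subset _, ?_⟩
    · rw [X.basicOpen_zero]; exact isAffineOpen_bot X
    · rw [X.basicOpen_zero]; exact bot_le
  let jW : (Spec Γ(X, ⊤)).Opens := X.toSpecΓ ''ᵁ W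
  let I : Ideal Γ(X, ⊤) := PrimeSpectrum.vanishingIdeal ((jW : Set (Spec Γ(X, ⊤)))ᶜ)
  have hI : PrimeSpectrum.zeroLocus (I : Set Γ(X, ⊤)) = (jW : Set (Spec Γ(X, ⊤)))ᶜ := by
    rw [PrimeSpectrum.zeroLocus_vanishingIdeal_eq_closure]
    exact (jW.2.isClosed_compl).closure_eq
  have hnot : ¬ ((I : Set Γ(X, ⊤)) ⊆ ⋃ x ∈ (hT.toFinset : Set X), ((X.toSpecΓ x).asIdeal : Set Γ(X, ⊤))) := by
    intro hsub
    rw [Ideal.subset_union_prime (f := fun x : X => (X.toSpecΓ x).asIdeal) x0 x0
      (fun x _ _ _ => (X.toSpecΓ x).isPrime)] at hsub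
    obtain ⟨x, hxT, hIx⟩ := hsub
    have hxT' : x ∈ T := hT.mem_toFinset.mp hxT
    have h1 : X.toSpecΓ x ∈ PrimeSpectrum.zeroLocus (I : Set Γ(X, ⊤)) := hIx
    rw [hI] at h1
    exact h1 ⟨x, hTW hxT', rfl⟩
  obtain ⟨f, hfI, hf⟩ := Set.not_subset.mp hnot
  have hfT : ∀ x ∈ T, f ∉ (X.toSpecΓ x).asIdeal := by
    intro x hx hfx
    apply hf
    exact Set.mem_biUnion (hT.mem_toFinset.mpr hx) hfx
  let Df : (Spec Γ(X, ⊤)).Opens := PrimeSpectrum.basicOpen f
  have hDf : (Df : Set (Spec Γ(X, ⊤))) ⊆ (jW : Set (Spec Γ(X, ⊤))) := by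
    intro q hq
    by_contra hqW
    have h1 : q ∈ PrimeSpectrum.zeroLocus (I : Set Γ(X, ⊤)) := by rw [hI]; exact hqW
    exact hq (h1 hfI)
  refine ⟨f, ?_, ?_, ?_⟩
  · rw [← Scheme.toSpecΓ_preimage_basicOpen]
    rw [← Scheme.Hom.isAffineOpen_iff_of_isOpenImmersion X.toSpecΓ]
    convert! IsAffineOpen.Spec_basicOpen f
    exact SetLike.coe_injective (Set.image_preimage_eq_of_subset
      (hDf.trans (Set.image_subset_range _ _)))
  · intro x hx
    rw [← Scheme.toSpecΓ_preimage_basicOpen]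
    exact hfT x hx
  · intro x hx
    rw [← Scheme.toSpecΓ_preimage_basicOpen] at hx
    obtain ⟨x', hx'W, hx'⟩ := hDf hx
    rwa [← X.toSpecΓ.isEmbedding.injective hx']



/-- A finite morphism with a norm from a quasi-affine scheme has quasi-affine target. -/
theorem isQuasiAffine_of_normOfDegree (π : X ⟶ Y) [IsFinite π] {d : ℕ}
    (N : Nrm.NormOfDegree π d) [X.IsQuasiAffine] : Y.IsQuasiAffine := by
  have hsurj := surjective_of_normOfDegree π N
  have : CompactSpace Y := by
    constructor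
    rw [← Set.range_eq_univ.mpr hsurj]
    exact isCompact_range π.continuous
  refine .of_forall_exists_mem_basicOpen _ fun y => ?_
  obtain ⟨V, hV, hyV⟩ : ∃ V : Y.Opens, IsAffineOpen V ∧ y ∈ V := by
    obtain ⟨_, ⟨V, hV, rfl⟩, hyV, -⟩ := Y.isBasis_affineOpens.exists_subset_of_mem_open
      (Set.mem_univ y) isOpen_univ
    exact ⟨V, hV, hyV⟩
  obtain ⟨f, hfaff, hTf, hfW⟩ := exists_basicOpen_of_finite (π ⁻¹' {y})
    (Scheme.Hom.finite_preimage_singleton π y) (π ⁻¹ᵁ V)
    (fun x hx => by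
      have : π x = y := hx
      change π x ∈ V
      rw [this]; exact hyV)
  let g : Γ(Y, ⊤) := N.norm ⊤ f
  have hgV : Y.basicOpen g ≤ V := by
    intro y' hy'
    obtain ⟨x, rfl⟩ := hsurj y'
    have hx : x ∈ X.basicOpen f := by
      by_contra hx
      have h1 : X.presheaf.germ (π ⁻¹ᵁ ⊤) x trivial f ∈
          IsLocalRing.maximalIdeal (X.presheaf.stalk x) := by
        rw [IsLocalRing.mem_maximalIdeal, mem_nonunits_iff]
        intro hu
        exact hx ((X.mem_basicOpen f x trivial).mpr hu)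
      have h2 := N.norm_mem ⊤ f x trivial h1
      rw [IsLocalRing.mem_maximalIdeal, mem_nonunits_iff] at h2
      exact h2 ((Y.mem_basicOpen g (π x) trivial).mp hy')
    exact hfW hx
  have hyg : y ∈ Y.basicOpen g := by
    have hcl : IsClosed (π '' ((X.basicOpen f : Set X)ᶜ)) :=
      π.isClosedMap _ (X.basicOpen f).2.isClosed_compl
    let V' : Y.Opens := ⟨(π '' ((X.basicOpen f : Set X)ᶜ))ᶜ, hcl.isOpen_compl⟩
    have hyV' : y ∈ V' := by
      rintro ⟨x, hx, hxy⟩
      exact hx (hTf hxy)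
    have hle : π ⁻¹ᵁ V' ≤ X.basicOpen f := by
      intro x hx
      by_contra hxf
      exact hx ⟨x, hxf, rfl⟩
    have hunit : IsUnit (X.presheaf.map ((Opens.map π.base).map (homOfLE (le_top : V' ≤ ⊤))).op f) := by
      have h1 : IsUnit (X.presheaf.map (homOfLE (le_top : X.basicOpen f ≤ ⊤)).op f) :=
        RingedSpace.isUnit_res_basicOpen _ f
      have h2 := h1.map (X.presheaf.map (homOfLE hle).op).hom
      rw [← CommRingCat.comp_apply, ← Functor.map_comp] at h2
      exact h2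
    have hres := N.norm_res (homOfLE (le_top : V' ≤ ⊤)) f
    have hunit' : IsUnit (Y.presheaf.map (homOfLE (le_top : V' ≤ ⊤)).op g) := by
      rw [hres]
      exact hunit.map (N.norm V')
    have h3 := Y.basicOpen_of_isUnit hunit'
    rw [Y.basicOpen_res] at h3
    have : V' ≤ Y.basicOpen g := by
      rw [← h3]; exact inf_le_right
    exact this hyV'
  refine ⟨g, ?_, hyg⟩
  have h4 : Y.basicOpen g = Y.basicOpen (Y.presheaf.map (homOfLE (le_top : V ≤ ⊤)).op g) := by
    rw [Y.basicOpen_res]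
    exact (inf_eq_right.mpr hgV).symm
  rw [h4]
  exact hV.basicOpen _


/-- **S8880**. -/
theorem isQuasiAffine_of_hasNorm (π : X ⟶ Y) [IsFinite π] (d : ℕ) (hN : Nrm.HasNorm π d)
    (hX : X.IsQuasiAffine) : Y.IsQuasiAffine := by
  obtain ⟨N⟩ := hN
  exact isQuasiAffine_of_normOfDegree π N

end Groth.Agent.R2.H40.NormQAff
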