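import Mathlib

/-!
# Open immersions `Spec B → Spec B'` and intermediate rings (helper40)
-/

set_option autoImplicit false
set_option linter.unusedSectionVars false
set_option linter.style.haveILetI false
universe u

open CategoryTheory AlgebraicGeometry TensorProduct

namespace Groth.Agent.R2.H40.OpenImmFin

section Main

variable {R C S : Type u} [CommRing R] [CommRing C] [CommRing S] [Algebra R C] [Algebra C S]
  [Algebra R S] [IsScalarTower R C S]

/-- If `Spec S → Spec R` is an open immersion and `R → C → S` with `C → S` injective, then
`Spec S → Spec C` is an open immersion. -/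
theorem isOpenImmersion_of_injective
    (h : IsOpenImmersion (Spec.map (CommRingCat.ofHom (algebraMap R S))))
    (hinj : Function.Injective (algebraMap C S)) :
    IsOpenImmersion (Spec.map (CommRingCat.ofHom (algebraMap C S))) := by
  -- flatness
  haveI : Module.Flat R S := by
    have h1 : Flat (Spec.map (CommRingCat.ofHom (algebraMap R S))) := inferInstance
    exact RingHom.flat_algebraMap_iff.mp (Flat.SpecMap_iff.mp h1)
  -- epimorphism
  haveI : Algebra.IsEpi R S := by
    apply CommRingCat.epi_iff_epi.mp
    have h1 : Mono (Spec.map (CommRingCat.ofHom (algebraMap R S))) := inferInstance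
    have h2 : Mono (CommRingCat.ofHom (algebraMap R S)).op :=
      Functor.mono_of_mono_map Scheme.Spec h1
    exact unop_epi_of_mono (CommRingCat.ofHom (algebraMap R S)).op
  -- the multiplication map
  let μ : C ⊗[R] S →ₐ[R] S :=
    Algebra.TensorProduct.productMap (IsScalarTower.toAlgHom R C S) (AlgHom.id R S)
  have hμ : ∀ (c : C) (s : S), μ (c ⊗ₜ[R] s) = algebraMap C S c * s := fun c s => by
    change Algebra.TensorProduct.productMap _ _ (c ⊗ₜ[R] s) = _
    rw [Algebra.TensorProduct.productMap_apply_tmul]
    rfl
  let j : C →ₗ[R] S := (IsScalarTower.toAlgHom R C S).toLinearMap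
  have hj : Function.Injective j := hinj
  have hjS : Function.Injective (j.rTensor S) :=
    Module.Flat.rTensor_preserves_injective_linearMap j hj
  have hcomp : ∀ x : C ⊗[R] S, μ x = TensorProduct.lid' R S S (j.rTensor S x) := by
    intro x
    induction x with
    | zero => rw [map_zero, map_zero, map_zero]
    | add a b ha hb => rw [map_add, map_add, map_add, ha, hb]
    | tmul c s =>
      rw [hμ, LinearMap.rTensor_tmul, TensorProduct.lid'_apply_tmul]
      rfl
  have hμinj : Function.Injective μ := by
    intro x y hxy
    rw [hcomp, hcomp] at hxy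
    exact hjS ((TensorProduct.lid' R S S).injective hxy)
  have hμsurj : Function.Surjective μ := fun s => ⟨1 ⊗ₜ[R] s, by rw [hμ, map_one, one_mul]⟩
  let e : C ⊗[R] S ≃+* S := RingEquiv.ofBijective μ ⟨hμinj, hμsurj⟩
  -- the base change of the open immersion
  have hpb := (isPullback_SpecMap_of_isPushout _ _ _ _
    (CommRingCat.isPushout_tensorProduct R C S)).flip
  have hopen : IsOpenImmersion (Spec.map (CommRingCat.ofHom
      (Algebra.TensorProduct.includeLeftRingHom : C →+* C ⊗[R] S))) :=
    MorphismProperty.of_isPullback (P := @IsOpenImmersion) hpb h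
  -- factor the map
  have hfac : CommRingCat.ofHom (algebraMap C S) =
      CommRingCat.ofHom (Algebra.TensorProduct.includeLeftRingHom : C →+* C ⊗[R] S) ≫
        CommRingCat.ofHom e.toRingHom := by
    ext c
    change algebraMap C S c = μ (c ⊗ₜ[R] (1 : S))
    rw [hμ, mul_one]
  haveI : IsIso (CommRingCat.ofHom e.toRingHom) :=
    (e.toCommRingCatIso).isIso_hom
  rw [hfac, Spec.map_comp]
  infer_instance

end Main

end Groth.Agent.R2.H40.OpenImmFin
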