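import Mathlib
import Groth.Agent.R2.H40HtOne

/-!
# Principal radical ideals in two-dimensional normal local domains (helper40)

`exists_principal_radical`: in a Noetherian normal local domain of dimension 2, finitely many height
one primes contain a common nonzero `f` with `(f)` radical.
-/

set_option autoImplicit false
set_option linter.unusedSectionVars false
set_option linter.style.haveILetI false
set_option linter.unusedVariables false
universe u

namespace Groth.Agent.R2.H40.PrincRad

open IsLocalRing Groth.Agent.R2.H40.HtOne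

variable {R : Type u} [CommRing R] [IsDomain R] [IsNoetherianRing R] [IsLocalRing R]
  [IsIntegrallyClosed R]

theorem height_maximalIdeal (hdim : ringKrullDim R = 2) : (maximalIdeal R).height = 2 := by
  have h := IsLocalRing.maximalIdeal_height_eq_ringKrullDim (R := R)
  rw [hdim] at h
  have h2 : ((maximalIdeal R).height : WithBot ℕ∞) = ((2 : ℕ∞) : WithBot ℕ∞) := h
  exact WithBot.coe_injective h2

/-- A parameter avoiding the given height one primes. -/
theorem exists_param (hdim : ringKrullDim R = 2) (s : Finset (Ideal R))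
    (hs : ∀ p ∈ s, p.IsPrime ∧ p.height = 1) :
    ∃ x ∈ maximalIdeal R, x ≠ 0 ∧ ∀ p ∈ s, x ∉ p := by
  classical
  have hm := height_maximalIdeal hdim
  by_contra hcon
  push Not at hcon
  have hsub : ((maximalIdeal R : Ideal R) : Set R) ⊆ ⋃ i ∈ ((insert ⊥ s : Finset (Ideal R)) :
      Set (Ideal R)), ((id i : Ideal R) : Set R) := by
    intro x hx
    by_cases hx0 : x = 0
    · exact Set.mem_biUnion (Finset.mem_coe.mpr (Finset.mem_insert_self _ _))
        (by rw [hx0]; exact Ideal.zero_mem _)
    · obtain ⟨p, hp, hxp⟩ := hcon x hx hx0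
      exact Set.mem_biUnion (Finset.mem_coe.mpr (Finset.mem_insert_of_mem hp)) hxp
  rw [Ideal.subset_union_prime ⊥ ⊥] at hsub
  · obtain ⟨i, hi, hmi⟩ := hsub
    rw [Finset.mem_insert] at hi
    rcases hi with rfl | hi
    · have : maximalIdeal R = ⊥ := le_bot_iff.mp hmi
      rw [this, Ideal.height_bot] at hm
      exact absurd hm (by norm_num)
    · haveI := (hs i hi).1
      have : i = maximalIdeal R :=
        le_antisymm (IsLocalRing.le_maximalIdeal (hs i hi).1.ne_top) hmi
      rw [← this, (hs i hi).2] at hm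
      exact absurd hm (by norm_num)
  · intro i hi _ _
    rw [Finset.mem_insert] at hi
    rcases hi with rfl | hi
    · exact Ideal.isPrime_bot
    · exact (hs i hi).1

/-- The starting element. -/
theorem exists_start (s : Finset (Ideal R)) (hs : ∀ p ∈ s, p.IsPrime ∧ p.height = 1)
    (x : R) (hx0 : x ≠ 0) (hxs : ∀ p ∈ s, x ∉ p) :
    ∃ f : R, f ≠ 0 ∧ (∀ p ∈ s, f ∈ p) ∧
      ∀ q : Ideal R, q.IsPrime → q.height = 1 → f ∈ q → x ∉ q := by
  classical
  set Tx : Finset (Ideal R) :=
    (Ideal.finite_minimalPrimes_of_isNoetherianRing R (Ideal.span {x})).toFinset with hTx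
  have hTx_mem : ∀ q, q ∈ Tx ↔ q ∈ (Ideal.span {x}).minimalPrimes := by
    intro q; rw [hTx, Set.Finite.mem_toFinset]
  have key : ∃ f ∈ s.inf id, f ≠ 0 ∧ ∀ q ∈ Tx, f ∉ q := by
    by_contra hcon
    push Not at hcon
    have hsub : ((s.inf id : Ideal R) : Set R) ⊆ ⋃ i ∈ ((insert ⊥ Tx : Finset (Ideal R)) :
        Set (Ideal R)), ((id i : Ideal R) : Set R) := by
      intro f hf
      by_cases hf0 : f = 0
      · exact Set.mem_biUnion (Finset.mem_coe.mpr (Finset.mem_insert_self _ _))
          (by rw [hf0]; exact Ideal.zero_mem _)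
      · obtain ⟨q, hq, hfq⟩ := hcon f hf hf0
        exact Set.mem_biUnion (Finset.mem_coe.mpr (Finset.mem_insert_of_mem hq)) hfq
    rw [Ideal.subset_union_prime ⊥ ⊥] at hsub
    · obtain ⟨i, hi, hIi⟩ := hsub
      rw [Finset.mem_insert] at hi
      rcases hi with rfl | hi
      · obtain ⟨p, hp, hple⟩ := (Ideal.IsPrime.inf_le' (Ideal.isPrime_bot (α := R))).mp hIi
        have hpb : p = ⊥ := le_bot_iff.mp hple
        have h1 := (hs p hp).2
        rw [hpb, Ideal.height_bot] at h1
        exact absurd h1 (by norm_num)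
      · have hi' := (hTx_mem i).mp hi
        haveI : i.IsPrime := hi'.1.1
        obtain ⟨p, hp, hple⟩ := (Ideal.IsPrime.inf_le' ‹i.IsPrime›).mp hIi
        haveI := (hs p hp).1
        have hpi : p = i := eq_of_le_of_height_one (hs p hp).2
          (height_one_of_mem_minimalPrimes_span hx0 hi') hple
        apply hxs p hp
        rw [hpi]
        exact (Ideal.span_singleton_le_iff_mem _).mp hi'.1.2
    · intro i hi _ _
      rw [Finset.mem_insert] at hi
      rcases hi with rfl | hi
      · exact Ideal.isPrime_bot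
      · exact ((hTx_mem i).mp hi).1.1
  obtain ⟨f, hfI, hf0, hfT⟩ := key
  refine ⟨f, hf0, fun p hp => ?_, fun q hqp hq1 hfq hxq => ?_⟩
  · exact (Finset.inf_le hp : s.inf id ≤ id p) hfI
  · haveI := hqp
    exact hfT q ((hTx_mem q).mpr (mem_minimalPrimes_span_of_height_one hx0 q hq1 hxq)) hfq

/-- The invariant carried through the induction. -/
structure Good (s : Finset (Ideal R)) (x f₀ f : R) : Prop where
  ne : f ≠ 0
  mem : ∀ p ∈ s, f ∈ p
  sub : f - f₀ ∈ Ideal.span {x}
  avoid : ∀ q : Ideal R, q.IsPrime → q.height = 1 → f ∈ q → x ∉ q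

/-- One improvement step: all old minimal primes become simple. -/
theorem step (s : Finset (Ideal R)) (hs : ∀ p ∈ s, p.IsPrime ∧ p.height = 1)
    (x : R) (hxm : x ∈ maximalIdeal R) (f₀ f : R) (hf : Good s x f₀ f) :
    ∃ f', Good s x f₀ f' ∧ (Ideal.span {f'}).radical ≤ (Ideal.span {f}).radical ∧
      ((Ideal.span {f'}).radical = (Ideal.span {f}).radical → (Ideal.span {f'}).IsRadical) := by
  classical
  by_cases hfu : IsUnit f
  · refine ⟨f, hf, le_rfl, fun _ => ?_⟩
    rw [Ideal.span_singleton_eq_top.mpr hfu]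
    show (⊤ : Ideal R).radical ≤ ⊤
    exact le_top
  set T : Finset (Ideal R) :=
    (Ideal.finite_minimalPrimes_of_isNoetherianRing R (Ideal.span {f})).toFinset with hT
  have hT_mem : ∀ q, q ∈ T ↔ q ∈ (Ideal.span {f}).minimalPrimes := by
    intro q; rw [hT, Set.Finite.mem_toFinset]
  have hTp : ∀ q ∈ T, q.IsPrime ∧ q.height = 1 := fun q hq =>
    ⟨((hT_mem q).mp hq).1.1, height_one_of_mem_minimalPrimes_span hf.ne ((hT_mem q).mp hq)⟩
  have hTf : ∀ q ∈ T, f ∈ q := fun q hq =>
    (Ideal.span_singleton_le_iff_mem _).mp ((hT_mem q).mp hq).1.2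
  obtain ⟨z, hz⟩ := exists_uniformizers T hTp
  set e : Ideal R → ℕ := fun q => if f ∈ sq q then 1 else 2 with he_def
  have he_pos : ∀ q, 0 < e q := by
    intro q; simp only [he_def]; split_ifs <;> norm_num
  set g : R := ∏ q ∈ T, z q ^ e q with hg_def
  have hg_mem : ∀ q ∈ T, g ∈ q := fun q hq =>
    Ideal.prod_mem q hq (Ideal.pow_mem_of_mem q (hz q hq).1 _ (he_pos q))
  have hcof : ∀ q ∈ T, ∏ q' ∈ T.erase q, z q' ^ e q' ∉ q := by
    intro q hq hmem
    haveI := (hTp q hq).1
    rw [Ideal.IsPrime.prod_mem_iff] at hmem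
    obtain ⟨q', hq', hzq'⟩ := hmem
    rw [Finset.mem_erase] at hq'
    have := Ideal.IsPrime.mem_of_pow_mem ‹q.IsPrime› _ hzq'
    exact (hz q' hq'.2).2.2 q hq (Ne.symm hq'.1) this
  have hg_eq : ∀ q ∈ T, g = z q ^ e q * ∏ q' ∈ T.erase q, z q' ^ e q' := fun q hq =>
    (Finset.mul_prod_erase T _ hq).symm
  set f' := f + x * g with hf'_def
  have hb : ∀ q ∈ T, f' ∈ q ∧ f' ∉ sq q := by
    intro q hq
    haveI := (hTp q hq).1
    have hxq : x ∉ q := hf.avoid q (hTp q hq).1 (hTp q hq).2 (hTf q hq)
    refine ⟨Ideal.add_mem _ (hTf q hq) (Ideal.mul_mem_left _ _ (hg_mem q hq)), ?_⟩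
    by_cases hfs : f ∈ sq q
    · have he : e q = 1 := by simp only [he_def, if_pos hfs]
      intro hf's
      have hxg : x * g ∈ sq q := by
        have : x * g = f' - f := by rw [hf'_def]; ring
        rw [this]; exact Ideal.sub_mem _ hf's hfs
      rw [hg_eq q hq, he, pow_one] at hxg
      have h2 : (x * ∏ q' ∈ T.erase q, z q' ^ e q') * z q ∈ sq q := by
        have : (x * ∏ q' ∈ T.erase q, z q' ^ e q') * z q =
            x * (z q * ∏ q' ∈ T.erase q, z q' ^ e q') := by ring
        rw [this]; exact hxg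
      have h3 : x * ∏ q' ∈ T.erase q, z q' ^ e q' ∉ q := by
        intro h
        rcases Ideal.IsPrime.mem_or_mem ‹q.IsPrime› h with h | h
        · exact hxq h
        · exact hcof q hq h
      exact (hz q hq).2.1 (mem_sq_of_mul_mem q h3 h2)
    · have he : e q = 2 := by simp only [he_def, if_neg hfs]
      intro hf's
      apply hfs
      have hxg : x * g ∈ sq q := by
        rw [hg_eq q hq, he, pow_two]
        exact Ideal.mul_mem_left _ _
          (Ideal.mul_mem_right _ _ (mul_mem_sq q (hz q hq).1 (hz q hq).1))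
      have : f = f' - x * g := by rw [hf'_def]; ring
      rw [this]; exact Ideal.sub_mem _ hf's hxg
  have hTne : T.Nonempty := by
    have hne : Ideal.span {f} ≠ ⊤ := by rwa [Ne, Ideal.span_singleton_eq_top]
    obtain ⟨⟨q, hq⟩⟩ := Ideal.nonempty_minimalPrimes hne
    exact ⟨q, (hT_mem q).mpr hq⟩
  have hf'0 : f' ≠ 0 := by
    obtain ⟨q, hq⟩ := hTne
    intro h0
    apply (hb q hq).2
    rw [h0]; exact Ideal.zero_mem _
  have hgood : Good s x f₀ f' := by
    refine ⟨hf'0, fun p hp => ?_, ?_, fun q hqp hq1 hf'q hxq => ?_⟩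
    · haveI := (hs p hp).1
      have hpT : p ∈ T := (hT_mem p).mpr
        (mem_minimalPrimes_span_of_height_one hf.ne p (hs p hp).2 (hf.mem p hp))
      exact (hb p hpT).1
    · have : f' - f₀ = (f - f₀) + x * g := by rw [hf'_def]; ring
      rw [this]
      exact Ideal.add_mem _ hf.sub
        (Ideal.mul_mem_right _ _ (Ideal.mem_span_singleton_self x))
    · have : f = f' - x * g := by rw [hf'_def]; ring
      have hfq : f ∈ q := by
        rw [this]; exact Ideal.sub_mem _ hf'q (Ideal.mul_mem_right _ _ hxq)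
      exact hf.avoid q hqp hq1 hfq hxq
  have hrad : (Ideal.span {f'}).radical ≤ (Ideal.span {f}).radical := by
    rw [Ideal.radical_le_radical_iff, Ideal.span_singleton_le_iff_mem,
      ← Ideal.sInf_minimalPrimes, Ideal.mem_sInf]
    intro q hq
    exact (hb q ((hT_mem q).mpr hq)).1
  refine ⟨f', hgood, hrad, fun heq => ?_⟩
  have hmin : (Ideal.span {f'}).minimalPrimes = (Ideal.span {f}).minimalPrimes := by
    rw [← Ideal.radical_minimalPrimes, heq, Ideal.radical_minimalPrimes]
  intro a ha
  rw [Ideal.mem_span_singleton]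
  apply dvd_of_forall_minimalPrimes hf'0
  intro Q _ hQ
  rw [hmin] at hQ
  have hQT := (hT_mem Q).mpr hQ
  have hmax := maximalIdeal_eq_span_of_notMem_sq Q (hTp Q hQT).2 (hb Q hQT).1 (hb Q hQT).2
  have haQ : a ∈ Q := by
    have : (Ideal.span {f'}).radical ≤ Q := by
      rw [heq, ← Ideal.sInf_minimalPrimes]; exact sInf_le hQ
    exact this ha
  have := (IsLocalization.AtPrime.to_map_mem_maximal_iff (Localization.AtPrime Q) Q a).mpr haQ
  rw [hmax, Ideal.mem_span_singleton] at this
  exact this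

/-- The Nakayama step: the radical is determined by its image modulo `x`. -/
theorem radical_le_of_le_sup (s : Finset (Ideal R)) (x : R) (hxm : x ∈ maximalIdeal R)
    (f₀ f f' : R) (hf : Good s x f₀ f)
    (hle : (Ideal.span {f'}).radical ≤ (Ideal.span {f}).radical)
    (hsup : (Ideal.span {f}).radical ≤ (Ideal.span {f'}).radical ⊔ Ideal.span {x}) :
    (Ideal.span {f}).radical ≤ (Ideal.span {f'}).radical := by
  apply Submodule.le_of_le_smul_of_le_jacobson_bot (I := Ideal.span {x})
    (IsNoetherian.noetherian _)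
  · rw [Ideal.span_singleton_le_iff_mem]
    exact IsLocalRing.maximalIdeal_le_jacobson _ hxm
  · intro a ha
    obtain ⟨b, hb, c, hc, rfl⟩ := Submodule.mem_sup.mp (hsup ha)
    obtain ⟨r, rfl⟩ := Ideal.mem_span_singleton'.mp hc
    have hrN : r ∈ (Ideal.span {f}).radical := by
      have hrx : r * x ∈ (Ideal.span {f}).radical := by
        have : r * x = (b + r * x) - b := by ring
        rw [this]; exact Ideal.sub_mem _ ha (hle hb)
      rw [← Ideal.sInf_minimalPrimes, Ideal.mem_sInf] at hrx ⊢
      intro q hq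
      haveI := hq.1.1
      have hxq : x ∉ q := hf.avoid q hq.1.1 (height_one_of_mem_minimalPrimes_span hf.ne hq)
        ((Ideal.span_singleton_le_iff_mem _).mp hq.1.2)
      exact (Ideal.IsPrime.mem_or_mem ‹q.IsPrime› (hrx hq)).resolve_right hxq
    refine Submodule.add_mem_sup hb ?_
    rw [mul_comm]
    exact Submodule.smul_mem_smul (Ideal.mem_span_singleton_self x) hrN

/-- The induction: from a good element we reach a radical principal ideal. -/
theorem exists_of_good (hdim : ringKrullDim R = 2) (s : Finset (Ideal R))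
    (hs : ∀ p ∈ s, p.IsPrime ∧ p.height = 1)
    (x : R) (hxm : x ∈ maximalIdeal R) (f₀ : R) (hf₀ : Good s x f₀ f₀) :
    ∃ f : R, f ≠ 0 ∧ (∀ p ∈ s, f ∈ p) ∧ (Ideal.span {f}).IsRadical := by
  set 𝔞 : Ideal R := Ideal.span {f₀} ⊔ Ideal.span {x} with h𝔞
  have hprime : ∀ P' : Ideal R, P'.IsPrime → 𝔞 ≤ P' → P' = maximalIdeal R := by
    intro P' hP' h𝔞P
    by_contra hne
    have hlt : P' < maximalIdeal R :=
      lt_of_le_of_ne (IsLocalRing.le_maximalIdeal hP'.ne_top) hne
    have hm := height_maximalIdeal hdim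
    haveI : (maximalIdeal R).FiniteHeight := ⟨Or.inr (by rw [hm]; exact ENat.natCast_ne_top 2)⟩
    have h2 := Ideal.height_strict_mono_of_isPrime_of_isPrime hlt
    rw [hm] at h2
    have hf₀P : f₀ ∈ P' := h𝔞P (Ideal.mem_sup_left (Ideal.mem_span_singleton_self _))
    have hxP : x ∈ P' := h𝔞P (Ideal.mem_sup_right (Ideal.mem_span_singleton_self _))
    have h0 : P'.height ≠ 0 := by
      rw [Ne, Ideal.height_eq_zero_iff_eq_bot]
      intro hbot; apply hf₀.ne; rw [hbot] at hf₀P; exact hf₀P
    have h1 : P'.height = 1 := by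
      have hnt : P'.height ≠ ⊤ := ne_top_of_lt h2
      lift P'.height to ℕ using hnt with n hn
      norm_cast at h2 h0 ⊢
      omega
    exact hf₀.avoid P' hP' h1 hf₀P hxP
  haveI : IsArtinianRing (R ⧸ 𝔞) := by
    rw [isArtinianRing_iff_krullDimLE_zero, Ring.krullDimLE_zero_iff]
    intro P hP
    have hcomap : P.comap (Ideal.Quotient.mk 𝔞) = maximalIdeal R := by
      apply hprime _ (Ideal.comap_isPrime _ _)
      intro a ha
      rw [Ideal.mem_comap, Ideal.Quotient.eq_zero_iff_mem.mpr ha]
      exact Ideal.zero_mem _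
    have hPeq : P = (maximalIdeal R).map (Ideal.Quotient.mk 𝔞) := by
      rw [← hcomap, Ideal.map_comap_of_surjective _ Ideal.Quotient.mk_surjective]
    rcases Ideal.map_eq_top_or_isMaximal_of_surjective (Ideal.Quotient.mk 𝔞)
      Ideal.Quotient.mk_surjective
      (inferInstance : (maximalIdeal R).IsMaximal) with h | h
    · exfalso; rw [← hPeq] at h; exact hP.ne_top h
    · rw [hPeq]; exact h
  have hwf : WellFoundedLT (Ideal (R ⧸ 𝔞)) := inferInstance
  have h𝔞le : ∀ f, Good s x f₀ f → 𝔞 ≤ (Ideal.span {f}).radical ⊔ Ideal.span {x} := by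
    intro f hf
    rw [h𝔞]
    refine sup_le ?_ le_sup_right
    rw [Ideal.span_singleton_le_iff_mem]
    have : f₀ = f - (f - f₀) := by ring
    rw [this]
    exact Ideal.sub_mem _ (Ideal.mem_sup_left (Ideal.le_radical (Ideal.mem_span_singleton_self f)))
      (Ideal.mem_sup_right hf.sub)
  have main : ∀ J : Ideal (R ⧸ 𝔞), ∀ f, Good s x f₀ f →
      Ideal.map (Ideal.Quotient.mk 𝔞) ((Ideal.span {f}).radical ⊔ Ideal.span {x}) = J →
      ∃ f : R, f ≠ 0 ∧ (∀ p ∈ s, f ∈ p) ∧ (Ideal.span {f}).IsRadical := by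
    intro J
    induction J using hwf.induction with
    | _ J IH =>
      intro f hf hJ
      obtain ⟨f', hf', hrad, hrad'⟩ := step s hs x hxm f₀ f hf
      by_cases heq : (Ideal.span {f'}).radical = (Ideal.span {f}).radical
      · exact ⟨f', hf'.ne, hf'.mem, hrad' heq⟩
      · refine IH _ ?_ f' hf' rfl
        rw [← hJ]
        refine lt_of_le_of_ne (Ideal.map_mono (sup_le_sup_right hrad _)) ?_
        intro hmapeq
        apply heq
        refine le_antisymm hrad (radical_le_of_le_sup s x hxm f₀ f f' hf hrad ?_)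
        have hc := congrArg (Ideal.comap (Ideal.Quotient.mk 𝔞)) hmapeq
        rw [Ideal.comap_map_of_surjective _ Ideal.Quotient.mk_surjective,
          Ideal.comap_map_of_surjective _ Ideal.Quotient.mk_surjective,
          ← RingHom.ker_eq_comap_bot, Ideal.mk_ker, sup_eq_left.mpr (h𝔞le f' hf'),
          sup_eq_left.mpr (h𝔞le f hf)] at hc
        rw [hc]; exact le_sup_left
  exact main _ f₀ hf₀ rfl

/-- **Principal radical ideals**: in a Noetherian normal local domain of dimension 2, finitely many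
height one primes contain a common nonzero element generating a radical ideal. -/
theorem exists_principal_radical (hdim : ringKrullDim R = 2) (s : Finset (Ideal R))
    (hs : ∀ p ∈ s, p.IsPrime ∧ p.height = 1) :
    ∃ f : R, f ≠ 0 ∧ (∀ p ∈ s, f ∈ p) ∧ (Ideal.span {f}).IsRadical := by
  obtain ⟨x, hxm, hx0, hxs⟩ := exists_param hdim s hs
  obtain ⟨f₀, hf₀, hf₀s, hf₀x⟩ := exists_start s hs x hx0 hxs
  exact exists_of_good hdim s hs x hxm f₀ ⟨hf₀, hf₀s, by simp, hf₀x⟩

end Groth.Agent.R2.H40.PrincRad
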