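import Mathlib
import Groth.Agent.R2.H40HtOne
import Groth.Agent.Lib.Helper28Equidim
import Groth.Agent.S7117

/-!
# Principal radical ideals in catenary normal local domains (helper40)

`exists_principal_radical_of_catenary`: a nonzero radical ideal of a catenary Noetherian normal local
domain contains a nonzero `f` with `(f)` radical.
-/

set_option autoImplicit false
set_option linter.unusedSectionVars false
set_option linter.style.haveILetI false
set_option linter.unusedVariables false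
universe u

namespace Groth.Agent.R2.H40.PrincRad2

open IsLocalRing Groth.Agent.R2.H40.HtOne

variable {R : Type u} [CommRing R] [IsDomain R] [IsNoetherianRing R] [IsIntegrallyClosed R]

/-- One improvement step with a perturbation ideal `X`: all old minimal primes become simple. -/
theorem step' (J : Ideal R) (hJ : J.IsRadical) (X : Ideal R) (f : R) (hf0 : f ≠ 0) (hfJ : f ∈ J)
    (hfu : ¬ IsUnit f) (hX : ∀ q ∈ (Ideal.span {f}).minimalPrimes, ¬ X ≤ q) :
    ∃ f', f' ≠ 0 ∧ f' ∈ J ∧ f' - f ∈ X ∧ ¬ IsUnit f' ∧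
      (Ideal.span {f}).minimalPrimes ⊆ (Ideal.span {f'}).minimalPrimes ∧
      ((Ideal.span {f'}).minimalPrimes = (Ideal.span {f}).minimalPrimes →
        (Ideal.span {f'}).IsRadical) := by
  classical
  set T : Finset (Ideal R) :=
    (Ideal.finite_minimalPrimes_of_isNoetherianRing R (Ideal.span {f})).toFinset with hT
  have hT_mem : ∀ q, q ∈ T ↔ q ∈ (Ideal.span {f}).minimalPrimes := by
    intro q; rw [hT, Set.Finite.mem_toFinset]
  have hTp : ∀ q ∈ T, q.IsPrime ∧ q.height = 1 := fun q hq =>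
    ⟨((hT_mem q).mp hq).1.1, height_one_of_mem_minimalPrimes_span hf0 ((hT_mem q).mp hq)⟩
  have hTf : ∀ q ∈ T, f ∈ q := fun q hq =>
    (Ideal.span_singleton_le_iff_mem _).mp ((hT_mem q).mp hq).1.2
  -- the multiplier `y ∈ X` avoiding all of `T`
  obtain ⟨y, hyX, hyT⟩ : ∃ y ∈ X, ∀ q ∈ T, y ∉ q := by
    by_contra hcon
    push Not at hcon
    have hsub : ((X : Ideal R) : Set R) ⊆ ⋃ i ∈ ((T : Finset (Ideal R)) : Set (Ideal R)),
        ((id i : Ideal R) : Set R) := by
      intro y hy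
      obtain ⟨q, hq, hyq⟩ := hcon y hy
      exact Set.mem_biUnion (Finset.mem_coe.mpr hq) hyq
    rw [Ideal.subset_union_prime ⊥ ⊥] at hsub
    · obtain ⟨q, hq, hXq⟩ := hsub
      exact hX q ((hT_mem q).mp hq) hXq
    · intro i hi _ _
      exact (hTp i hi).1
  obtain ⟨z, hz⟩ := exists_uniformizers T hTp
  set e : Ideal R → ℕ := fun q => if f ∈ sq q then 1 else 2 with he_def
  have he_pos : ∀ q, 0 < e q := by
    intro q; simp only [he_def]; split_ifs <;> norm_num
  set g : R := ∏ q ∈ T, z q ^ e q with hg_def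
  have hg_mem : ∀ q ∈ T, g ∈ q := fun q hq =>
    Ideal.prod_mem q hq (Ideal.pow_mem_of_mem q (hz q hq).1 _ (he_pos q))
  have hcof : ∀ q ∈ T, ∏ q' ∈ T.erase q, z q' ^ e q' ∉ q := by
    intro q hq hmem
    haveI := (hTp q hq).1
    rw [Ideal.IsPrime.prod_mem_iff] at hmem
    obtain ⟨q', hq', hzq'⟩ := hmem
    rw [Finset.mem_erase] at hq'
    have := Ideal.IsPrime.mem_of_pow_mem ‹q.IsPrime› _ hzq'
    exact (hz q' hq'.2).2.2 q hq (Ne.symm hq'.1) this
  have hg_eq : ∀ q ∈ T, g = z q ^ e q * ∏ q' ∈ T.erase q, z q' ^ e q' := fun q hq =>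
    (Finset.mul_prod_erase T _ hq).symm
  set f' := f + y * g with hf'_def
  have hb : ∀ q ∈ T, f' ∈ q ∧ f' ∉ sq q := by
    intro q hq
    haveI := (hTp q hq).1
    have hxq : y ∉ q := hyT q hq
    refine ⟨Ideal.add_mem _ (hTf q hq) (Ideal.mul_mem_left _ _ (hg_mem q hq)), ?_⟩
    by_cases hfs : f ∈ sq q
    · have he : e q = 1 := by simp only [he_def, if_pos hfs]
      intro hf's
      have hxg : y * g ∈ sq q := by
        have : y * g = f' - f := by rw [hf'_def]; ring
        rw [this]; exact Ideal.sub_mem _ hf's hfs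
      rw [hg_eq q hq, he, pow_one] at hxg
      have h2 : (y * ∏ q' ∈ T.erase q, z q' ^ e q') * z q ∈ sq q := by
        have : (y * ∏ q' ∈ T.erase q, z q' ^ e q') * z q =
            y * (z q * ∏ q' ∈ T.erase q, z q' ^ e q') := by ring
        rw [this]; exact hxg
      have h3 : y * ∏ q' ∈ T.erase q, z q' ^ e q' ∉ q := by
        intro h
        rcases Ideal.IsPrime.mem_or_mem ‹q.IsPrime› h with h | h
        · exact hxq h
        · exact hcof q hq h
      exact (hz q hq).2.1 (mem_sq_of_mul_mem q h3 h2)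
    · have he : e q = 2 := by simp only [he_def, if_neg hfs]
      intro hf's
      apply hfs
      have hxg : y * g ∈ sq q := by
        rw [hg_eq q hq, he, pow_two]
        exact Ideal.mul_mem_left _ _
          (Ideal.mul_mem_right _ _ (mul_mem_sq q (hz q hq).1 (hz q hq).1))
      have : f = f' - y * g := by rw [hf'_def]; ring
      rw [this]; exact Ideal.sub_mem _ hf's hxg
  have hTne : T.Nonempty := by
    have hne : Ideal.span {f} ≠ ⊤ := by rwa [Ne, Ideal.span_singleton_eq_top]
    obtain ⟨⟨q, hq⟩⟩ := Ideal.nonempty_minimalPrimes hne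
    exact ⟨q, (hT_mem q).mpr hq⟩
  obtain ⟨q₀, hq₀⟩ := hTne
  have hf'0 : f' ≠ 0 := by
    intro h0
    apply (hb q₀ hq₀).2
    rw [h0]; exact Ideal.zero_mem _
  have hgrad : g ∈ (Ideal.span {f}).radical := by
    rw [← Ideal.sInf_minimalPrimes, Ideal.mem_sInf]
    intro q hq
    exact hg_mem q ((hT_mem q).mpr hq)
  have hgJ : g ∈ J := by
    have h1 : (Ideal.span {f}).radical ≤ J.radical :=
      Ideal.radical_mono ((Ideal.span_singleton_le_iff_mem _).mpr hfJ)
    rw [hJ.radical] at h1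
    exact h1 hgrad
  have hsub : (Ideal.span {f}).minimalPrimes ⊆ (Ideal.span {f'}).minimalPrimes := by
    intro q hq
    have hqT := (hT_mem q).mpr hq
    haveI := (hTp q hqT).1
    exact mem_minimalPrimes_span_of_height_one hf'0 q (hTp q hqT).2 (hb q hqT).1
  refine ⟨f', hf'0, J.add_mem hfJ (J.mul_mem_left _ hgJ), ?_, ?_, hsub, fun hmin => ?_⟩
  · have : f' - f = y * g := by rw [hf'_def]; ring
    rw [this]; exact X.mul_mem_right _ hyX
  · intro hu
    haveI := (hTp q₀ hq₀).1
    exact (hTp q₀ hq₀).1.ne_top (Ideal.eq_top_of_isUnit_mem _ (hb q₀ hq₀).1 hu)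
  · intro a ha
    rw [Ideal.mem_span_singleton]
    apply dvd_of_forall_minimalPrimes hf'0
    intro Q _ hQ
    have hQ' := hQ
    rw [hmin] at hQ'
    have hQT := (hT_mem Q).mpr hQ'
    have hmax := maximalIdeal_eq_span_of_notMem_sq Q (hTp Q hQT).2 (hb Q hQT).1 (hb Q hQT).2
    have haQ : a ∈ Q := by
      have : (Ideal.span {f'}).radical ≤ Q := by
        rw [← Ideal.sInf_minimalPrimes]; exact sInf_le hQ
      exact this ha
    have := (IsLocalization.AtPrime.to_map_mem_maximal_iff (Localization.AtPrime Q) Q a).mpr haQ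
    rw [hmax, Ideal.mem_span_singleton] at this
    exact this

section Local

variable [IsLocalRing R]

omit [IsNoetherianRing R] [IsIntegrallyClosed R] [IsLocalRing R] in
theorem isEquidim_of_isDomain : EGA4.IsEquidim R := by
  intro p hp
  rw [IsDomain.minimalPrimes_eq_singleton_bot, Set.mem_singleton_iff] at hp
  rw [hp]
  exact ringKrullDim_eq_of_ringEquiv (RingEquiv.quotientBot R)

omit [IsDomain R] [IsNoetherianRing R] [IsIntegrallyClosed R] [IsLocalRing R] in
theorem withBot_cancel {a : WithBot ℕ∞} {d : ℕ} (h : a + 1 = (d : WithBot ℕ∞)) :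
    a = ((d - 1 : ℕ) : WithBot ℕ∞) ∧ 1 ≤ d := by
  induction a with
  | bot => exact absurd h (by simp)
  | coe x =>
    induction x with
    | top =>
      exfalso
      have : ((⊤ : ℕ∞) : WithBot ℕ∞) + 1 = ((⊤ : ℕ∞) : WithBot ℕ∞) := rfl
      rw [this] at h
      have h2 : ((⊤ : ℕ∞) : WithBot ℕ∞) = (((d : ℕ∞)) : WithBot ℕ∞) := h
      exact ENat.top_ne_natCast d (WithBot.coe_injective h2)
    | coe n =>
      have h2 : (((n + 1 : ℕ) : ℕ∞) : WithBot ℕ∞) = (((d : ℕ) : ℕ∞) : WithBot ℕ∞) := by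
        have e1 : (((d : ℕ) : ℕ∞) : WithBot ℕ∞) = (d : WithBot ℕ∞) := rfl
        rw [e1, ← h]; push_cast; rfl
      have h3 : n + 1 = d := by exact_mod_cast WithBot.coe_injective h2
      subst h3
      exact ⟨rfl, by omega⟩

/-- `dim R/q = d - 1` for height one primes of a catenary local domain. -/
theorem ringKrullDim_quotient_of_height_one (hc : CAlg.IsCatenary R) {d : ℕ}
    (hd : ringKrullDim R = d) (q : Ideal R) [q.IsPrime] (hq : q.height = 1) :
    ringKrullDim (R ⧸ q) = ((d - 1 : ℕ) : WithBot ℕ∞) := by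
  have h := Groth.Agent.Lib.Helper28.height_add_ringKrullDim_quotient_eq_of_isEquidim
    (isEquidim_of_isDomain (R := R)) hc q
  rw [hq, hd, add_comm] at h
  exact (withBot_cancel h).1

/-- The number of minimal primes over `(f)` is bounded by the colength of a system of parameters
of `R/(f)`. -/
theorem ncard_minimalPrimes_le (hc : CAlg.IsCatenary R) {d : ℕ} (hd : ringKrullDim R = d)
    (f : R) (hf0 : f ≠ 0) (hfu : ¬ IsUnit f) (g : Fin (d - 1) → R)
    (hg : ∀ i, g i ∈ maximalIdeal R)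
    (hsop : maximalIdeal R ≤ (Ideal.span {f} ⊔ Ideal.span (Set.range g)).radical) :
    ((Ideal.span {f}).minimalPrimes.ncard : ℕ∞) ≤
      Module.length R (R ⧸ (Ideal.span {f} ⊔ Ideal.span (Set.range g))) := by
  classical
  set I : Ideal R := Ideal.span {f} with hI_def
  have hI : I ≠ ⊤ := by rwa [Ne, Ideal.span_singleton_eq_top]
  haveI : Nontrivial (R ⧸ I) := Ideal.Quotient.nontrivial_iff.mpr hI
  haveI : IsLocalRing (R ⧸ I) :=
    IsLocalRing.of_surjective' (Ideal.Quotient.mk I) Ideal.Quotient.mk_surjective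
  haveI : IsLocalHom (Ideal.Quotient.mk I) :=
    IsLocalHom.of_surjective _ Ideal.Quotient.mk_surjective
  have hfm : f ∈ maximalIdeal R := hfu
  have hd' : ringKrullDim (R ⧸ I) = ((d - 1 : ℕ) : WithBot ℕ∞) := by
    have h := ringKrullDim_quotient_span_singleton_succ_eq_ringKrullDim_of_mem_nonZeroDivisors
      (mem_nonZeroDivisors_of_ne_zero hf0) hfm
    rw [hd] at h
    exact (withBot_cancel h).1
  set g' : Fin (d - 1) → R ⧸ I := fun i => Ideal.Quotient.mk I (g i) with hg'_def
  have hg' : ∀ i, g' i ∈ maximalIdeal (R ⧸ I) := by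
    intro i
    exact (map_mem_nonunits_iff (Ideal.Quotient.mk I) (g i)).mpr (hg i)
  have hspan : Ideal.span (Set.range g') = (Ideal.span (Set.range g)).map (Ideal.Quotient.mk I) := by
    rw [Ideal.map_span, ← Set.range_comp]
    rfl
  have hsop' : maximalIdeal (R ⧸ I) ≤ (Ideal.span (Set.range g')).radical := by
    intro a' ha'
    obtain ⟨a, rfl⟩ := Ideal.Quotient.mk_surjective a'
    have ham : a ∈ maximalIdeal R := (map_mem_nonunits_iff (Ideal.Quotient.mk I) a).mp ha'
    obtain ⟨n, hn⟩ := hsop ham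
    refine ⟨n, ?_⟩
    rw [hspan, ← map_pow]
    obtain ⟨b, hb, c, hc', hbc⟩ := Submodule.mem_sup.mp hn
    rw [← hbc, map_add, Ideal.Quotient.eq_zero_iff_mem.mpr hb, zero_add]
    exact Ideal.mem_map_of_mem _ hc'
  have key := Groth.Agent.S7117.result (R ⧸ I) (d - 1) hd' g' hg' hsop'
  -- left side
  have hfinS : (minimalPrimes (R ⧸ I)).Finite := minimalPrimes.finite_of_isNoetherianRing _
  have hall : {p : Ideal (R ⧸ I) | p ∈ minimalPrimes (R ⧸ I) ∧
      ringKrullDim ((R ⧸ I) ⧸ p) = ((d - 1 : ℕ) : WithBot ℕ∞)} = minimalPrimes (R ⧸ I) := by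
    ext p
    refine ⟨fun h => h.1, fun hp => ⟨hp, ?_⟩⟩
    haveI : p.IsPrime := hp.1.1
    set q : Ideal R := p.comap (Ideal.Quotient.mk I) with hq_def
    haveI : q.IsPrime := Ideal.comap_isPrime _ _
    have hqmin : q ∈ I.minimalPrimes := by
      rw [Ideal.minimalPrimes_eq_comap]
      exact ⟨p, hp, rfl⟩
    have hq1 : q.height = 1 := height_one_of_mem_minimalPrimes_span hf0 hqmin
    have hIq : I ≤ q := hqmin.1.2
    have hpq : p = q.map (Ideal.Quotient.mk I) := by
      rw [hq_def, Ideal.map_comap_of_surjective _ Ideal.Quotient.mk_surjective]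
    rw [hpq, ringKrullDim_eq_of_ringEquiv (DoubleQuot.quotQuotEquivQuotOfLE hIq)]
    exact ringKrullDim_quotient_of_height_one hc hd q hq1
  rw [hall] at key
  have hcard : I.minimalPrimes.ncard ≤ (minimalPrimes (R ⧸ I)).ncard := by
    rw [Ideal.minimalPrimes_eq_comap]
    exact Set.ncard_image_le hfinS
  -- right side
  have hlen : Module.length (R ⧸ I) ((R ⧸ I) ⧸ Ideal.span (Set.range g')) =
      Module.length R (R ⧸ (I ⊔ Ideal.span (Set.range g))) := by
    rw [← Module.length_eq_of_surjective (S := R) (R := R ⧸ I)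
      (M := (R ⧸ I) ⧸ Ideal.span (Set.range g')) Ideal.Quotient.mk_surjective, hspan]
    exact LinearEquiv.length_eq
      (DoubleQuot.quotQuotEquivQuotSupₐ R I (Ideal.span (Set.range g))).toLinearEquiv
  rw [hlen] at key
  exact le_trans (by exact_mod_cast hcard) key


/-- The dimension of a Noetherian local ring is a natural number, equal to the height of the
maximal ideal. -/
theorem exists_dim_eq : ∃ d : ℕ, ringKrullDim R = d ∧ (maximalIdeal R).height = d := by
  have h1 : (maximalIdeal R).height ≠ ⊤ := Ideal.height_ne_top_of_isPrime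
  obtain ⟨d, hd⟩ := ENat.ne_top_iff_exists.mp h1
  refine ⟨d, ?_, hd.symm⟩
  rw [← IsLocalRing.maximalIdeal_height_eq_ringKrullDim, ← hd]
  rfl

/-- A height one prime in a local ring of dimension `≤ 1` is the maximal ideal. -/
theorem eq_maximalIdeal_of_height_one {d : ℕ} (hd : (maximalIdeal R).height = d) (hd1 : d ≤ 1)
    (q : Ideal R) [q.IsPrime] (hq : q.height = 1) : q = maximalIdeal R := by
  by_contra hne
  have hlt : q < maximalIdeal R := lt_of_le_of_ne (IsLocalRing.le_maximalIdeal Ideal.IsPrime.ne_top') hne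
  have := Ideal.height_strict_mono_of_isPrime_of_isPrime hlt
  rw [hq, hd] at this
  have h2 : (1 : ℕ∞) < 1 := lt_of_lt_of_le this (by exact_mod_cast hd1)
  exact lt_irrefl _ h2

/-- The low-dimensional case. -/
theorem exists_principal_radical_of_dim_le_one {d : ℕ} (hd : (maximalIdeal R).height = d)
    (hd1 : d ≤ 1) (J : Ideal R) (hJ : J.IsRadical) (f₀ : R) (hf₀0 : f₀ ≠ 0) (hf₀J : f₀ ∈ J)
    (hu : ¬ IsUnit f₀) : ∃ f ∈ J, f ≠ 0 ∧ (Ideal.span {f}).IsRadical := by
  obtain ⟨f', hf'0, hf'J, -, hf'u, hsub, hrad⟩ := step' J hJ ⊤ f₀ hf₀0 hf₀J hu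
    (fun q hq htop => hq.1.1.ne_top (top_le_iff.mp htop))
  refine ⟨f', hf'J, hf'0, hrad ?_⟩
  have hall : ∀ f : R, f ≠ 0 → ∀ q ∈ (Ideal.span {f}).minimalPrimes, q = maximalIdeal R := by
    intro f hf q hq
    haveI := hq.1.1
    exact eq_maximalIdeal_of_height_one hd hd1 q (height_one_of_mem_minimalPrimes_span hf hq)
  have hne : Ideal.span {f₀} ≠ ⊤ := by rwa [Ne, Ideal.span_singleton_eq_top]
  obtain ⟨⟨q, hq⟩⟩ := Ideal.nonempty_minimalPrimes hne
  have hqm := hall f₀ hf₀0 q hq
  apply Set.Subset.antisymm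
  · intro q' hq'
    rw [hall f' hf'0 q' hq', ← hqm]
    exact hq
  · exact hsub


/-- Extend a nonzero nonunit `f₀` by `d - 1` elements to a system of parameters. -/
theorem exists_sop {d : ℕ} (hd : ringKrullDim R = d) (f₀ : R) (hf₀0 : f₀ ≠ 0)
    (hu : ¬ IsUnit f₀) :
    ∃ g : Fin (d - 1) → R, (∀ i, g i ∈ maximalIdeal R) ∧
      maximalIdeal R ≤ (Ideal.span {f₀} ⊔ Ideal.span (Set.range g)).radical := by
  classical
  set I : Ideal R := Ideal.span {f₀} with hI_def
  have hI : I ≠ ⊤ := by rwa [Ne, Ideal.span_singleton_eq_top]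
  haveI : Nontrivial (R ⧸ I) := Ideal.Quotient.nontrivial_iff.mpr hI
  haveI : IsLocalRing (R ⧸ I) :=
    IsLocalRing.of_surjective' (Ideal.Quotient.mk I) Ideal.Quotient.mk_surjective
  haveI : IsLocalHom (Ideal.Quotient.mk I) :=
    IsLocalHom.of_surjective _ Ideal.Quotient.mk_surjective
  have hfm : f₀ ∈ maximalIdeal R := hu
  have hd' : ringKrullDim (R ⧸ I) = ((d - 1 : ℕ) : WithBot ℕ∞) := by
    have h := ringKrullDim_quotient_span_singleton_succ_eq_ringKrullDim_of_mem_nonZeroDivisors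
      (mem_nonZeroDivisors_of_ne_zero hf₀0) hfm
    rw [hd] at h
    exact (withBot_cancel h).1
  obtain ⟨s, hs, hcard⟩ :=
    Ideal.exists_finset_card_eq_height_of_isNoetherianRing (maximalIdeal (R ⧸ I))
  have hcard' : s.card = d - 1 := by
    have h2 := IsLocalRing.maximalIdeal_height_eq_ringKrullDim (R := R ⧸ I)
    rw [hd'] at h2
    have h3 : (maximalIdeal (R ⧸ I)).height = ((d - 1 : ℕ) : ℕ∞) := WithBot.coe_injective h2
    rw [h3] at hcard
    exact_mod_cast hcard
  let e : s ≃ Fin (d - 1) := Finset.equivFinOfCardEq hcard'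
  let g : Fin (d - 1) → R := fun i =>
    Function.surjInv (Ideal.Quotient.mk_surjective (I := I)) ((e.symm i : R ⧸ I))
  have hg_mk : ∀ i, Ideal.Quotient.mk I (g i) = (e.symm i : R ⧸ I) :=
    fun i => Function.surjInv_eq _ _
  refine ⟨g, ?_, ?_⟩
  · intro i
    have : Ideal.Quotient.mk I (g i) ∈ maximalIdeal (R ⧸ I) := by
      rw [hg_mk]
      exact hs.1.2 (Ideal.subset_span (e.symm i).2)
    exact (map_mem_nonunits_iff (Ideal.Quotient.mk I) (g i)).mp this
  · rw [Ideal.radical_eq_sInf]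
    refine le_sInf ?_
    rintro P ⟨hP, hPprime⟩
    haveI := hPprime
    have hIP : I ≤ P := le_trans le_sup_left hP
    have hXP : Ideal.span (Set.range g) ≤ P := le_trans le_sup_right hP
    set P₀ : Ideal (R ⧸ I) := P.map (Ideal.Quotient.mk I) with hP₀
    haveI : P₀.IsPrime :=
      Ideal.map_isPrime_of_surjective Ideal.Quotient.mk_surjective (by rwa [Ideal.mk_ker])
    have hcomap : P₀.comap (Ideal.Quotient.mk I) = P := by
      rw [hP₀, Ideal.comap_map_of_surjective _ Ideal.Quotient.mk_surjective,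
        ← RingHom.ker_eq_comap_bot, Ideal.mk_ker]
      exact sup_eq_left.mpr hIP
    have hsP₀ : Ideal.span (s : Set (R ⧸ I)) ≤ P₀ := by
      rw [Ideal.span_le]
      intro x hx
      have : x = Ideal.Quotient.mk I (g (e ⟨x, hx⟩)) := by rw [hg_mk]; simp
      rw [this]
      exact Ideal.mem_map_of_mem _ (hXP (Ideal.subset_span ⟨_, rfl⟩))
    have hm₀ : maximalIdeal (R ⧸ I) ≤ P₀ :=
      hs.2 ⟨inferInstance, hsP₀⟩ (IsLocalRing.le_maximalIdeal Ideal.IsPrime.ne_top')
    intro a ha
    rw [← hcomap]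
    exact hm₀ ((map_mem_nonunits_iff (Ideal.Quotient.mk I) a).mpr ha)

/-- **Main theorem**: a nonzero radical ideal of a catenary Noetherian normal local domain contains
a nonzero element generating a radical ideal. -/
theorem exists_principal_radical_of_catenary (hc : CAlg.IsCatenary R) (J : Ideal R)
    (hJ : J.IsRadical) (hJ0 : J ≠ ⊥) : ∃ f ∈ J, f ≠ 0 ∧ (Ideal.span {f}).IsRadical := by
  classical
  obtain ⟨f₀, hf₀J, hf₀0⟩ := Submodule.exists_mem_ne_zero_of_ne_bot hJ0
  by_cases hu : IsUnit f₀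
  · refine ⟨f₀, hf₀J, hf₀0, ?_⟩
    rw [Ideal.span_singleton_eq_top.mpr hu]
    exact fun a _ => Submodule.mem_top
  obtain ⟨d, hd, hdm⟩ := exists_dim_eq (R := R)
  rcases Nat.lt_or_ge d 2 with hd2 | hd2
  · exact exists_principal_radical_of_dim_le_one hdm (by omega) J hJ f₀ hf₀0 hf₀J hu
  obtain ⟨g, hg, hsop⟩ := exists_sop hd f₀ hf₀0 hu
  set X : Ideal R := Ideal.span (Set.range g) with hX_def
  set 𝔞 : Ideal R := Ideal.span {f₀} ⊔ X with h𝔞_def
  -- invariance of the ideal
  have hinv : ∀ f : R, f - f₀ ∈ X → Ideal.span {f} ⊔ X = 𝔞 := by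
    intro f hf
    apply le_antisymm
    · refine sup_le ?_ le_sup_right
      rw [Ideal.span_singleton_le_iff_mem]
      have : f = f₀ + (f - f₀) := by ring
      rw [this]
      exact Ideal.add_mem _ (Ideal.mem_sup_left (Ideal.mem_span_singleton_self _))
        (Ideal.mem_sup_right hf)
    · refine sup_le ?_ le_sup_right
      rw [Ideal.span_singleton_le_iff_mem]
      have : f₀ = f - (f - f₀) := by ring
      rw [this]
      exact Ideal.sub_mem _ (Ideal.mem_sup_left (Ideal.mem_span_singleton_self _))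
        (Ideal.mem_sup_right hf)
  -- finite length
  have h𝔞m : 𝔞 ≤ maximalIdeal R := by
    refine sup_le ?_ ?_
    · rw [Ideal.span_singleton_le_iff_mem]; exact hu
    · rw [hX_def, Ideal.span_le]; rintro _ ⟨i, rfl⟩; exact hg i
  have hmmin : maximalIdeal R ∈ 𝔞.minimalPrimes := by
    refine ⟨⟨inferInstance, h𝔞m⟩, ?_⟩
    rintro P ⟨hPp, hP⟩ _
    exact le_trans hsop (hPp.radical_le_iff.mpr hP)
  haveI : IsArtinianRing (R ⧸ 𝔞) :=
    IsLocalRing.quotient_artinian_of_mem_minimalPrimes_of_isLocalRing 𝔞 hmmin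
  have hlen : Module.length R (R ⧸ 𝔞) ≠ ⊤ := by
    rw [Module.length_eq_of_surjective (S := R) (R := R ⧸ 𝔞) (M := R ⧸ 𝔞)
      Ideal.Quotient.mk_surjective]
    exact Module.length_ne_top
  obtain ⟨L, hL⟩ := ENat.ne_top_iff_exists.mp hlen
  -- the bound on the number of minimal primes
  have hbound : ∀ f : R, f ≠ 0 → ¬ IsUnit f → f - f₀ ∈ X →
      (Ideal.span {f}).minimalPrimes.ncard ≤ L := by
    intro f hf0 hfu hfX
    have h := ncard_minimalPrimes_le hc hd f hf0 hfu g hg (by rw [← hX_def, hinv f hfX]; exact hsop)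
    rw [← hX_def, hinv f hfX, ← hL] at h
    exact_mod_cast h
  -- the perturbation ideal is not contained in a minimal prime of `(f)`
  have hXq : ∀ f : R, f ≠ 0 → f - f₀ ∈ X → ∀ q ∈ (Ideal.span {f}).minimalPrimes, ¬ X ≤ q := by
    intro f hf0 hfX q hq hXq
    haveI := hq.1.1
    have h1 : q.height = 1 := height_one_of_mem_minimalPrimes_span hf0 hq
    have h2 : 𝔞 ≤ q := by
      rw [← hinv f hfX]
      exact sup_le hq.1.2 hXq
    have h3 : maximalIdeal R ≤ q := le_trans hsop (hq.1.1.radical_le_iff.mpr h2)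
    have h4 : q = maximalIdeal R :=
      le_antisymm (IsLocalRing.le_maximalIdeal Ideal.IsPrime.ne_top') h3
    rw [h4, hdm] at h1
    have : d = 1 := by exact_mod_cast h1
    omega
  have key : ∀ n : ℕ, ∀ f : R, f ≠ 0 → f ∈ J → ¬ IsUnit f → f - f₀ ∈ X →
      L - (Ideal.span {f}).minimalPrimes.ncard = n →
      ∃ f' ∈ J, f' ≠ 0 ∧ (Ideal.span {f'}).IsRadical := by
    intro n
    induction n using Nat.strong_induction_on with
    | _ n ih =>
      intro f hf0 hfJ hfu hfX hn
      obtain ⟨f', hf'0, hf'J, hf'X, hf'u, hsub, hrad⟩ :=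
        step' J hJ X f hf0 hfJ hfu (hXq f hf0 hfX)
      by_cases heq : (Ideal.span {f'}).minimalPrimes = (Ideal.span {f}).minimalPrimes
      · exact ⟨f', hf'J, hf'0, hrad heq⟩
      · have hss : (Ideal.span {f}).minimalPrimes ⊂ (Ideal.span {f'}).minimalPrimes :=
          lt_of_le_of_ne hsub (Ne.symm heq)
        have hlt := Set.ncard_lt_ncard hss
          (Ideal.finite_minimalPrimes_of_isNoetherianRing R _)
        have hf'X' : f' - f₀ ∈ X := by
          have : f' - f₀ = (f' - f) + (f - f₀) := by ring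
          rw [this]; exact X.add_mem hf'X hfX
        have hle := hbound f' hf'0 hf'u hf'X'
        exact ih (L - (Ideal.span {f'}).minimalPrimes.ncard) (by omega) f' hf'0 hf'J hf'u
          hf'X' rfl
  exact key _ f₀ hf₀0 hf₀J hu (by simp) rfl

end Local

end Groth.Agent.R2.H40.PrincRad2
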