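import Mathlib
import Groth.Prelude.Def_RegImm
import Groth.Agent.S2104
import Groth.Agent.S15821
import Groth.Agent.R2.H13KoszulTor

/-!
# Implications between the kinds of regular sequences (helper40)
-/

set_option autoImplicit false
set_option linter.unusedSectionVars false
universe u

namespace Groth.Agent.R2.H40.RegKinds

variable {A : Type u} [CommRing A]

/-- The empty sequence is quasi-regular. -/
theorem isQuasiRegular_elim0 : CAlgX.IsQuasiRegular (Fin.elim0 : Fin 0 → A) := by
  intro n P _ hmem d
  have hd : d = 0 := Subsingleton.elim _ _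
  have hP : P = MvPolynomial.C (MvPolynomial.coeff 0 P) := MvPolynomial.eq_C_of_isEmpty P
  have h1 : MvPolynomial.eval (Fin.elim0 : Fin 0 → A) P = MvPolynomial.coeff 0 P := by
    conv_lhs => rw [hP]
    rw [MvPolynomial.eval_C]
  rw [h1] at hmem
  rw [hd]
  exact Ideal.pow_le_self (Nat.succ_ne_zero n) hmem

/-- `H_1`-regularity is invariant under ring isomorphisms. -/
theorem isH1Regular_map {B : Type u} [CommRing B] (e : A ≃+* B) {c : ℕ} (f : Fin c → A)
    (hf : CAlgX.IsH1Regular f) : CAlgX.IsH1Regular (fun i => e (f i)) := by
  intro b hb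
  have ha : ∑ i, (e.symm (b i)) * f i = 0 := by
    apply e.injective
    rw [map_sum, map_zero, ← hb]
    apply Finset.sum_congr rfl
    intro i _
    rw [map_mul, RingEquiv.apply_symm_apply]
  have hmem := hf (fun i => e.symm (b i)) ha
  have key : ∀ a : Fin c → A, a ∈ Submodule.span A {v : Fin c → A | ∃ i j : Fin c,
      v = Pi.single i (f j) - Pi.single j (f i)} →
      (fun i => e (a i)) ∈ Submodule.span B {v : Fin c → B | ∃ i j : Fin c,
        v = Pi.single i (e (f j)) - Pi.single j (e (f i))} := by
    intro a ha
    induction ha using Submodule.span_induction with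
    | mem v hv =>
      obtain ⟨i, j, rfl⟩ := hv
      apply Submodule.subset_span
      refine ⟨i, j, ?_⟩
      funext k
      simp only [Pi.sub_apply, map_sub]
      congr 1
      · by_cases h : k = i
        · subst h; simp
        · simp [Pi.single_eq_of_ne h]
      · by_cases h : k = j
        · subst h; simp
        · simp [Pi.single_eq_of_ne h]
    | zero =>
      have : (fun i => e ((0 : Fin c → A) i)) = 0 := by funext i; simp
      rw [this]
      exact Submodule.zero_mem _
    | add x y _ _ hx hy =>
      have : (fun i => e ((x + y) i)) = (fun i => e (x i)) + (fun i => e (y i)) := by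
        funext i; simp
      rw [this]
      exact Submodule.add_mem _ hx hy
    | smul r x _ hx =>
      have : (fun i => e ((r • x) i)) = e r • (fun i => e (x i)) := by
        funext i; simp
      rw [this]
      exact Submodule.smul_mem _ _ hx
  have := key _ hmem
  simpa using this

/-- Quasi-regularity does not depend on the presentation of the index type `Fin k`. -/
theorem isQuasiRegular_cast {m : ℕ} (g : Fin m → A) :
    ∀ (k : ℕ) (h : m = k) (f' : Fin k → A), (∀ i, f' (Fin.cast h i) = g i) →
      CAlgX.IsQuasiRegular f' → CAlgX.IsQuasiRegular g := by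
  intro k h f' hfg hq
  subst h
  have : f' = g := funext fun i => hfg i
  rw [← this]
  exact hq

/-- An `H_1`-regular sequence is quasi-regular. -/
theorem isQuasiRegular_of_isH1Regular {m : ℕ} (g : Fin m → A) (hg : CAlgX.IsH1Regular g) :
    CAlgX.IsQuasiRegular g := by
  have hbot : Ideal.span (Set.range (Fin.elim0 : Fin 0 → A)) = ⊥ := by
    rw [Set.range_eq_empty, Ideal.span_empty]
  have hg' : CAlgX.IsH1Regular (fun j => Ideal.Quotient.mk
      (Ideal.span (Set.range (Fin.elim0 : Fin 0 → A))) (g j)) := by
    rw [hbot]
    exact isH1Regular_map (RingEquiv.quotientBot A).symm g hg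
  have h1 := Groth.Agent.S2104.result (Fin.elim0 : Fin 0 → A) g isQuasiRegular_elim0 hg'
  refine isQuasiRegular_cast g (0 + m) (zero_add m).symm _ ?_ h1
  intro i
  have : Fin.cast (zero_add m).symm i = Fin.natAdd 0 i := by
    apply Fin.ext
    simp
  rw [this, Fin.append_right]

end Groth.Agent.R2.H40.RegKinds
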