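import Mathlib
import Groth.Agent.R2.H40RegSpread2

/-!
# Slicing a flat finitely presented algebra by a fibrewise regular sequence (helper40)

Ring-level list version of helper6's `exists_away_flat_slice`.
-/

set_option autoImplicit false
set_option linter.style.haveILetI false
universe u

open Polynomial TensorProduct
open Groth.Agent.R2.H40.RegSpread RingTheory.Sequence

namespace Groth.Agent.R2.H40.SliceList

/-- base change of a flat algebra to a quotient (as in helper19's `flat_quotient_map`). -/
theorem flat_quotient_map {P P' : Type u} [CommRing P] [CommRing P'] [Algebra P P']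
    [Module.Flat P P'] (I : Ideal P) :
    Module.Flat (P ⧸ I) (P' ⧸ I.map (algebraMap P P')) :=
  Module.Flat.of_linearEquiv
    (Algebra.TensorProduct.quotIdealMapEquivQuotTensor P' I).toLinearEquiv

section Quot

variable (A : Type u) [CommRing A] (n : ℕ)

/-- `A → A[X_1..X_n]/(X_1..X_n)` is bijective. -/
theorem bijective_algebraMap_quot_X :
    Function.Bijective (algebraMap A (MvPolynomial (Fin n) A ⧸
      Ideal.span (Set.range (MvPolynomial.X : Fin n → MvPolynomial (Fin n) A)))) := by
  constructor
  · intro a b hab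
    rw [IsScalarTower.algebraMap_apply A (MvPolynomial (Fin n) A),
      IsScalarTower.algebraMap_apply A (MvPolynomial (Fin n) A) (MvPolynomial (Fin n) A ⧸ _),
      Ideal.Quotient.algebraMap_eq, Ideal.Quotient.eq] at hab
    -- evaluate at zero
    have hker : Ideal.span (Set.range (MvPolynomial.X : Fin n → MvPolynomial (Fin n) A)) ≤
        RingHom.ker (MvPolynomial.eval (0 : Fin n → A)) := by
      rw [Ideal.span_le]
      rintro _ ⟨i, rfl⟩
      simp [RingHom.mem_ker]
    have := hker hab
    rw [RingHom.mem_ker, map_sub, MvPolynomial.algebraMap_eq, MvPolynomial.eval_C,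
      MvPolynomial.eval_C, sub_eq_zero] at this
    exact this
  · intro y
    obtain ⟨P, rfl⟩ := Ideal.Quotient.mk_surjective y
    refine ⟨MvPolynomial.eval (0 : Fin n → A) P, ?_⟩
    rw [IsScalarTower.algebraMap_apply A (MvPolynomial (Fin n) A), Ideal.Quotient.algebraMap_eq,
      Ideal.Quotient.eq]
    -- P - C (P(0)) ∈ (X)
    induction P using MvPolynomial.induction_on with
    | C a => simp
    | add p q hp hq =>
      simp only [map_add] at hp hq ⊢
      have := Ideal.add_mem _ hp hq
      convert this using 1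
      ring
    | mul_X p i _ =>
      simp only [map_mul, MvPolynomial.eval_X, Pi.zero_apply, mul_zero, map_zero, zero_sub]
      rw [neg_mem_iff]
      exact Ideal.mul_mem_left _ _ (Ideal.subset_span ⟨i, rfl⟩)

end Quot

section Main

variable {A C : Type u} [CommRing A] [CommRing C] [Algebra A C]
  [Algebra.FinitePresentation A C] [Module.Flat A C]

theorem exists_away_slice_list {n : ℕ} (q : Ideal C) [q.IsPrime] (f : Fin n → C)
    (hf : ∀ i, f i ∈ q)
    (hnzd : ∀ i : Fin n, NzdAt q ((q.under A).map (algebraMap A C) ⊔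
      Ideal.span (f '' {j | j < i})) (f i)) :
    ∃ g ∉ q, ∀ (C' : Type u) [CommRing C'] [Algebra C C'] [IsLocalization.Away g C'],
      RingTheory.Sequence.IsWeaklyRegular C' (List.ofFn fun i => algebraMap C C' (f i)) ∧
      ((Ideal.Quotient.mk (Ideal.ofList (List.ofFn fun i => algebraMap C C' (f i)))).comp
        ((algebraMap C C').comp (algebraMap A C))).Flat ∧
      ((Ideal.Quotient.mk (Ideal.ofList (List.ofFn fun i => algebraMap C C' (f i)))).comp
        ((algebraMap C C').comp (algebraMap A C))).FinitePresentation := by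
  obtain ⟨g, hg, H⟩ := exists_away_flat_mvPolynomial n q f hf hnzd
  refine ⟨g, hg, fun C' _ _ _ => ?_⟩
  have : IsLocalization.Away (g * 1) C' := by rwa [mul_one]
  have hfl := H 1 C'
  refine ⟨?_, ?_, ?_⟩
  · have h1 := Groth.Agent.Lib.Helper5.RegImmComp.isWeaklyRegular_map_of_flat _ hfl _
      (Groth.Agent.R2.H7.KosCG.isWeaklyRegular_X A n)
    rw [List.map_ofFn] at h1
    convert h1 using 2
    funext i
    simp
  · set φ : MvPolynomial (Fin n) A →+* C' := (algebraMap C C').comp
      ((MvPolynomial.aeval f : MvPolynomial (Fin n) A →ₐ[A] C) : MvPolynomial (Fin n) A →+* C)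
      with hφ
    letI : Algebra (MvPolynomial (Fin n) A) C' := φ.toAlgebra
    haveI : Module.Flat (MvPolynomial (Fin n) A) C' := hfl
    set I : Ideal (MvPolynomial (Fin n) A) :=
      Ideal.span (Set.range (MvPolynomial.X : Fin n → MvPolynomial (Fin n) A)) with hI
    have hIJ : I.map (algebraMap (MvPolynomial (Fin n) A) C') =
        Ideal.ofList (List.ofFn fun i => algebraMap C C' (f i)) := by
      rw [hI, Ideal.map_span, Ideal.ofList, ← Set.range_comp]
      congr 1
      ext y
      simp [RingHom.algebraMap_toAlgebra, hφ]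
    rw [← hIJ]
    have h2 : Module.Flat (MvPolynomial (Fin n) A ⧸ I)
        (C' ⧸ I.map (algebraMap (MvPolynomial (Fin n) A) C')) := flat_quotient_map I
    have h3 : (algebraMap A (MvPolynomial (Fin n) A ⧸ I)).Flat :=
      RingHom.Flat.of_bijective (bijective_algebraMap_quot_X A n)
    have h4 : (algebraMap (MvPolynomial (Fin n) A ⧸ I)
        (C' ⧸ I.map (algebraMap (MvPolynomial (Fin n) A) C'))).Flat := by
      rw [RingHom.flat_algebraMap_iff]; exact h2
    have h5 := RingHom.Flat.comp h3 h4
    convert h5 using 1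
    ext a
    have hC : φ (MvPolynomial.C a) = algebraMap C C' (algebraMap A C a) := by simp [hφ]
    change Ideal.Quotient.mk _ (algebraMap C C' (algebraMap A C a)) =
      Ideal.Quotient.mk _ (φ (MvPolynomial.C a))
    rw [hC]
  · have hιfp : (algebraMap C C').FinitePresentation :=
      RingHom.finitePresentation_algebraMap.mpr (IsLocalization.Away.finitePresentation g)
    have hmkfp : (Ideal.Quotient.mk
        (Ideal.ofList (List.ofFn fun i => algebraMap C C' (f i)))).FinitePresentation := by
      refine RingHom.FinitePresentation.of_surjective _ Ideal.Quotient.mk_surjective ?_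
      rw [Ideal.mk_ker]
      exact Submodule.fg_span (List.finite_toSet _)
    have hρfp : (algebraMap A C).FinitePresentation :=
      RingHom.finitePresentation_algebraMap.mpr inferInstance
    exact hmkfp.comp (hιfp.comp hρfp)

end Main


section FromRegular

/-- Membership in an extended ideal of a localization at a prime, pulled back. -/
theorem exists_mul_mem_of_map_mem {C R : Type*} [CommRing C] [CommRing R] [Algebra C R]
    (q : Ideal C) [q.IsPrime] [IsLocalization.AtPrime R q]
    (K : Ideal C) (c : C) (h : algebraMap C R c ∈ K.map (algebraMap C R)) :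
    ∃ t ∉ q, t * c ∈ K := by
  have := (IsLocalization.mem_map_algebraMap_iff q.primeCompl R).mp h
  obtain ⟨⟨⟨j, hj⟩, ⟨m, hm⟩⟩, hx⟩ := this
  simp only at hx
  have hx' : algebraMap C R (c * m) = algebraMap C R j := by rw [map_mul]; exact hx
  rw [IsLocalization.eq_iff_exists q.primeCompl] at hx'
  obtain ⟨⟨m', hm'⟩, hx⟩ := hx'
  simp only at hx
  refine ⟨m' * m, q.primeCompl.mul_mem hm' hm, ?_⟩
  have : m' * m * c = m' * j := by rw [← hx]; ring
  rw [this]
  exact Ideal.mul_mem_left _ _ hj

/-- Elementwise form of weak regularity of the images of `rs` in `R ⧸ I`. -/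
theorem mem_sup_of_mul_mem {R : Type*} [CommRing R] (I : Ideal R) (rs : List R)
    (h : IsWeaklyRegular (R ⧸ I) (rs.map (Ideal.Quotient.mk I))) (i : ℕ) (hi : i < rs.length)
    (c : R) (hc : rs[i] * c ∈ I ⊔ Ideal.ofList (rs.take i)) :
    c ∈ I ⊔ Ideal.ofList (rs.take i) := by
  have hi' : i < (rs.map (Ideal.Quotient.mk I)).length := by simpa using hi
  have h1 := h.regular_mod_prev i hi'
  have hN : ∀ y : R, Ideal.Quotient.mk I y ∈
      (Ideal.ofList ((rs.map (Ideal.Quotient.mk I)).take i) • ⊤ : Submodule (R ⧸ I) (R ⧸ I)) ↔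
      y ∈ I ⊔ Ideal.ofList (rs.take i) := by
    intro y
    rw [← List.map_take, ← Ideal.map_ofList, smul_eq_mul, Ideal.mul_top,
      Ideal.mem_quotient_iff_mem_sup, sup_comm]
  rw [← hN]
  have h2 : (rs.map (Ideal.Quotient.mk I))[i] •
      (Submodule.Quotient.mk (Ideal.Quotient.mk I c) :
        (R ⧸ I) ⧸ (Ideal.ofList ((rs.map (Ideal.Quotient.mk I)).take i) • ⊤ :
          Submodule (R ⧸ I) (R ⧸ I))) = 0 := by
    rw [← Submodule.Quotient.mk_smul, Submodule.Quotient.mk_eq_zero, List.getElem_map]
    have hmul : (Ideal.Quotient.mk I) rs[i] • (Ideal.Quotient.mk I) c =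
        Ideal.Quotient.mk I (rs[i] * c) := by rw [smul_eq_mul, map_mul]
    rw [hmul, hN]
    exact hc
  have h3 := (isSMulRegular_iff_right_eq_zero_of_smul.mp h1) _ h2
  rwa [Submodule.Quotient.mk_eq_zero] at h3

/-- From weak regularity in the quotient `R ⧸ I` of the local ring `R = C_q` to the elementwise
conditions `NzdAt` on `C`. -/
theorem nzdAt_of_isWeaklyRegular {C R : Type u} [CommRing C] [CommRing R] [Algebra C R]
    (q : Ideal C) [q.IsPrime] [IsLocalization.AtPrime R q] (J : Ideal C) (I : Ideal R)
    (hIJ : I = J.map (algebraMap C R)) {n : ℕ} (f : Fin n → C)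
    (hreg : IsWeaklyRegular (R ⧸ I)
      ((List.ofFn fun i => algebraMap C R (f i)).map (Ideal.Quotient.mk I))) (i : Fin n) :
    NzdAt q (J ⊔ Ideal.span (f '' {j | j < i})) (f i) := by
  set rs : List R := List.ofFn fun i => algebraMap C R (f i) with hrs
  have hlen : rs.length = n := by simp [hrs]
  have hget : rs[(i : ℕ)]'(by rw [hlen]; exact i.2) = algebraMap C R (f i) := by
    simp [hrs]
  have hmap : (J ⊔ Ideal.span (f '' {j | j < i})).map (algebraMap C R) =
      I ⊔ Ideal.ofList (rs.take i) := by
    rw [Ideal.map_sup, ← hIJ, Ideal.map_span]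
    congr 1
    rw [Ideal.ofList]
    congr 1
    ext y
    simp only [Set.mem_image, Set.mem_ofPred_eq, exists_exists_and_eq_and, hrs, List.mem_take_iff_getElem,
      List.getElem_ofFn, List.length_ofFn]
    constructor
    · rintro ⟨j, hj, rfl⟩
      exact ⟨j, by simp [Fin.lt_def.mp hj], rfl⟩
    · rintro ⟨j, hj, rfl⟩
      have hj1 : j < (i : ℕ) := (lt_min_iff.mp hj).1
      have hj2 : j < n := (lt_min_iff.mp hj).2
      exact ⟨⟨j, hj2⟩, Fin.lt_def.mpr hj1, rfl⟩
  intro c ⟨t, ht, hmem⟩
  have h1 : algebraMap C R t * (algebraMap C R (f i) * algebraMap C R c) ∈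
      I ⊔ Ideal.ofList (rs.take i) := by
    rw [← hmap, ← map_mul, ← map_mul]
    exact Ideal.mem_map_of_mem _ hmem
  have hunit : IsUnit (algebraMap C R t) :=
    IsLocalization.map_units (M := q.primeCompl) R ⟨t, ht⟩
  have h2 : rs[(i : ℕ)]'(by rw [hlen]; exact i.2) * algebraMap C R c ∈
      I ⊔ Ideal.ofList (rs.take i) := by
    rw [hget]
    exact (Ideal.unit_mul_mem_iff_mem _ hunit).mp h1
  have h3 := mem_sup_of_mul_mem I rs hreg i (by rw [hlen]; exact i.2) _ h2
  rw [← hmap] at h3
  exact exists_mul_mem_of_map_mem q _ c h3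

end FromRegular


end Groth.Agent.R2.H40.SliceList
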