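import Mathlib
import Groth.Prelude.Def_Mor2
import Groth.Agent.Lib.Helper5RegImm
import Groth.Agent.Lib.Helper6QFAff

/-!
# Scheme-level plumbing for slicing a Cohen–Macaulay morphism (helper6)

Pieces of S1349 (`FlatMor.slice_cohenMacaulay_to_quasiFinite`):

* `exists_lift_polynomial`, `exists_polynomial_of_algebraic`: clearing denominators.
* `mem_primeIdealOf_iff`, `exists_fraction_residueField`, `evaluation_comp_appLE`,
  `exists_polynomial_of_finite`: algebraicity of the residue field extension in ring terms.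
* `comap_primeIdealOf_res`, `mem_basicOpen_iff_notMem_primeIdealOf`.
* `exists_regular_slice`: the closed subscheme of an affine open cut out by a regular sequence.
* `exists_chart_ringHom`: a flat quasi-finite map to affine space gives a flat quasi-finite ring
  map from a polynomial ring.
-/

set_option autoImplicit false
universe u

open Polynomial AlgebraicGeometry CategoryTheory RingTheory.Sequence

namespace Groth.Agent.R2.H6.CMSliceB

section AlgRing

variable {R C K L : Type*} [CommRing R] [CommRing C] [Field K] [Field L]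

/-- Clearing denominators of a polynomial over a field `K` whose elements are fractions of
elements of the image of `R`. -/
theorem exists_lift_polynomial (evy : R →+* K)
    (hfrac : ∀ w : K, ∃ a s : R, evy s ≠ 0 ∧ w * evy s = evy a) (m : K[X]) :
    ∃ (P : R[X]) (s : R), evy s ≠ 0 ∧ P.map evy = Polynomial.C (evy s) * m ∧
      P.natDegree ≤ m.natDegree := by
  refine Polynomial.induction_with_natDegree_le
    (motive := fun f => ∃ (P : R[X]) (s : R), evy s ≠ 0 ∧ P.map evy = Polynomial.C (evy s) * f ∧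
      P.natDegree ≤ m.natDegree) m.natDegree ?_ ?_ ?_ m le_rfl
  · exact ⟨0, 1, by simp, by simp, by simp⟩
  · intro n w _ hn
    obtain ⟨a, s, hs, hws⟩ := hfrac w
    refine ⟨Polynomial.C a * Polynomial.X ^ n, s, hs, ?_, ?_⟩
    · rw [Polynomial.map_mul, Polynomial.map_pow, Polynomial.map_X, Polynomial.map_C, ← hws,
        ← mul_assoc, ← Polynomial.C_mul, mul_comm w]
    · exact (Polynomial.natDegree_C_mul_X_pow_le a n).trans hn
  · rintro f g - - ⟨P₁, s₁, hs₁, hP₁, hd₁⟩ ⟨P₂, s₂, hs₂, hP₂, hd₂⟩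
    refine ⟨Polynomial.C s₂ * P₁ + Polynomial.C s₁ * P₂, s₁ * s₂, ?_, ?_, ?_⟩
    · rw [map_mul]; exact mul_ne_zero hs₁ hs₂
    · rw [Polynomial.map_add, Polynomial.map_mul, Polynomial.map_mul, Polynomial.map_C,
        Polynomial.map_C, hP₁, hP₂, map_mul, Polynomial.C_mul]
      ring
    · refine (Polynomial.natDegree_add_le _ _).trans (max_le ?_ ?_)
      · exact (Polynomial.natDegree_C_mul_le _ _).trans hd₁
      · exact (Polynomial.natDegree_C_mul_le _ _).trans hd₂

/-- Ring-level algebraicity statement used for slicing. -/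
theorem exists_polynomial_of_algebraic (ρ : R →+* C) (evy : R →+* K) (evx : C →+* L) (φ : K →+* L)
    (hcomm : evx.comp ρ = φ.comp evy)
    (hfrac : ∀ w : K, ∃ a s : R, evy s ≠ 0 ∧ w * evy s = evy a)
    (halg : ∀ z : L, ∃ m : K[X], m.Monic ∧ Polynomial.eval₂ φ z m = 0) (c : C) :
    ∃ P : R[X], evy P.leadingCoeff ≠ 0 ∧ evx (Polynomial.eval₂ ρ c P) = 0 := by
  obtain ⟨m, hm, hmz⟩ := halg (evx c)
  obtain ⟨P, s, hs, hP, hd⟩ := exists_lift_polynomial evy hfrac m
  have hcoeff : evy (P.coeff m.natDegree) = evy s := by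
    have := congrArg (fun p => Polynomial.coeff p m.natDegree) hP
    simp only [Polynomial.coeff_map, Polynomial.coeff_C_mul] at this
    rw [this, hm.coeff_natDegree, mul_one]
  have hne : P.coeff m.natDegree ≠ 0 := by
    intro h0
    rw [h0, map_zero] at hcoeff
    exact hs hcoeff.symm
  have hdeg : P.natDegree = m.natDegree :=
    le_antisymm hd (Polynomial.le_natDegree_of_ne_zero hne)
  refine ⟨P, ?_, ?_⟩
  · rw [Polynomial.leadingCoeff, hdeg, hcoeff]
    exact hs
  · rw [Polynomial.hom_eval₂, hcomm, ← Polynomial.eval₂_map, hP, Polynomial.eval₂_mul,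
      hmz, mul_zero]

end AlgRing

section SchemeAlg

variable {X S : Scheme.{u}}

theorem mem_primeIdealOf_iff {W : X.Opens} (hW : IsAffineOpen W) (x : X) (hx : x ∈ W)
    (c : Γ(X, W)) :
    c ∈ (hW.primeIdealOf ⟨x, hx⟩).asIdeal ↔ (X.evaluation W x hx).hom c = 0 := by
  rw [hW.primeIdealOf_eq_map_closedPoint]
  change (X.presheaf.germ W x hx).hom c ∈ IsLocalRing.maximalIdeal _ ↔ _
  rw [← IsLocalRing.residue_eq_zero_iff]
  rfl

theorem exists_fraction_residueField {V : S.Opens} (hV : IsAffineOpen V) (y : S) (hy : y ∈ V)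
    (w : S.residueField y) :
    ∃ a s : Γ(S, V), (S.evaluation V y hy).hom s ≠ 0 ∧
      w * (S.evaluation V y hy).hom s = (S.evaluation V y hy).hom a := by
  obtain ⟨z, rfl⟩ := S.residue_surjective y w
  let _ : Algebra Γ(S, V) (S.presheaf.stalk y) :=
    TopCat.Presheaf.algebra_section_stalk S.presheaf (⟨y, hy⟩ : V)
  have hloc : IsLocalization.AtPrime (S.presheaf.stalk y) (hV.primeIdealOf ⟨y, hy⟩).asIdeal :=
    hV.isLocalization_stalk ⟨y, hy⟩
  obtain ⟨⟨a, s⟩, has⟩ := IsLocalization.surj (hV.primeIdealOf ⟨y, hy⟩).asIdeal.primeCompl z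
  refine ⟨a, s.1, ?_, ?_⟩
  · intro h0
    exact s.2 ((mem_primeIdealOf_iff hV y hy s.1).mpr h0)
  · have := congrArg (S.residue y).hom has
    rw [map_mul] at this
    exact this


theorem evaluation_comp_appLE (f : X ⟶ S) (x : X) {V : S.Opens} {W : X.Opens} (hx : x ∈ W)
    (e : W ≤ f ⁻¹ᵁ V) :
    (X.evaluation W x hx).hom.comp (f.appLE V W e).hom =
      (f.residueFieldMap x).hom.comp (S.evaluation V (f x) (e hx)).hom := by
  have h1 := Scheme.evaluation_naturality f x (V := V) (e hx)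
  have h2 : f.appLE V W e ≫ X.evaluation W x hx =
      S.evaluation V (f x) (e hx) ≫ f.residueFieldMap x := by
    rw [h1, Scheme.Hom.appLE, Category.assoc]
    congr 1
    rw [Scheme.evaluation, Scheme.evaluation, ← Category.assoc, TopCat.Presheaf.germ_res]
  rw [← CommRingCat.hom_comp, ← CommRingCat.hom_comp, h2]

theorem exists_polynomial_of_finite (f : X ⟶ S) (x : X) (hfin : (f.residueFieldMap x).hom.Finite)
    {V : S.Opens} (hV : IsAffineOpen V) {W : X.Opens} (hW : IsAffineOpen W) (hx : x ∈ W)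
    (e : W ≤ f ⁻¹ᵁ V) (c : Γ(X, W)) :
    ∃ P : Γ(S, V)[X],
      P.leadingCoeff ∉ (hW.primeIdealOf ⟨x, hx⟩).asIdeal.comap (f.appLE V W e).hom ∧
      Polynomial.eval₂ (f.appLE V W e).hom c P ∈ (hW.primeIdealOf ⟨x, hx⟩).asIdeal := by
  have hcomm := evaluation_comp_appLE f x hx e
  have halg : ∀ z : X.residueField x, ∃ m : (S.residueField (f x))[X], m.Monic ∧
      Polynomial.eval₂ (f.residueFieldMap x).hom z m = 0 :=
    fun z => (RingHom.Finite.to_isIntegral hfin) z
  obtain ⟨P, hP1, hP2⟩ := exists_polynomial_of_algebraic (f.appLE V W e).hom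
    (S.evaluation V (f x) (e hx)).hom (X.evaluation W x hx).hom (f.residueFieldMap x).hom hcomm
    (exists_fraction_residueField hV (f x) (e hx)) halg c
  refine ⟨P, ?_, (mem_primeIdealOf_iff hW x hx _).mpr hP2⟩
  intro hmem
  rw [Ideal.mem_comap, mem_primeIdealOf_iff hW x hx] at hmem
  have h3 := RingHom.congr_fun hcomm P.leadingCoeff
  rw [RingHom.comp_apply, hmem, RingHom.comp_apply] at h3
  exact hP1 ((map_eq_zero_iff _ (f.residueFieldMap x).hom.injective).mp h3.symm)

end SchemeAlg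

section Res

variable {X : Scheme.{u}}

/-- The prime of a point in a smaller affine open contracts to the prime of the point in a bigger
affine open. -/
theorem comap_primeIdealOf_res {W V : X.Opens} (hW : IsAffineOpen W) (hV : IsAffineOpen V)
    (hVW : V ≤ W) (x : X) (hx : x ∈ V) :
    (hV.primeIdealOf ⟨x, hx⟩).asIdeal.comap (X.presheaf.map (homOfLE hVW).op).hom =
      (hW.primeIdealOf ⟨x, hVW hx⟩).asIdeal := by
  ext c
  rw [Ideal.mem_comap, mem_primeIdealOf_iff hV x hx, mem_primeIdealOf_iff hW x (hVW hx)]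
  have : X.presheaf.map (homOfLE hVW).op ≫ X.evaluation V x hx = X.evaluation W x (hVW hx) := by
    rw [Scheme.evaluation, Scheme.evaluation, ← Category.assoc, TopCat.Presheaf.germ_res]
  rw [← this]
  rfl

theorem mem_basicOpen_iff_notMem_primeIdealOf {W : X.Opens} (hW : IsAffineOpen W) (x : X)
    (hx : x ∈ W) (h : Γ(X, W)) :
    x ∈ X.basicOpen h ↔ h ∉ (hW.primeIdealOf ⟨x, hx⟩).asIdeal := by
  rw [mem_primeIdealOf_iff hW x hx, ← X.evaluation_ne_zero_iff_mem_basicOpen x hx h]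

end Res

section Output

variable {X S : Scheme.{u}}

/-- The closed subscheme of an affine open `V` cut out by a regular sequence, as a regular closed
immersion into `V`, with a description of its points and of its structure map to an affine open of
the base. -/
theorem exists_regular_slice (f : X ⟶ S) {V₀ : S.Opens} (hV₀ : IsAffineOpen V₀) {V : X.Opens}
    (hV : IsAffineOpen V) (e : V ≤ f ⁻¹ᵁ V₀) (rs : List Γ(X, V)) (hreg : IsRegular Γ(X, V) rs)
    (hfl : ((Ideal.Quotient.mk (Ideal.ofList rs)).comp (f.appLE V₀ V e).hom).Flat)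
    (hfp : ((Ideal.Quotient.mk (Ideal.ofList rs)).comp (f.appLE V₀ V e).hom).FinitePresentation)
    (hqf : ((Ideal.Quotient.mk (Ideal.ofList rs)).comp (f.appLE V₀ V e).hom).QuasiFinite) :
    ∃ (Z : Scheme.{u}) (i : Z ⟶ (V : Scheme.{u})), Mor2.IsRegularClosedImmersion i ∧
      Flat (i ≫ V.ι ≫ f) ∧ LocallyOfFinitePresentation (i ≫ V.ι ≫ f) ∧
      LocallyQuasiFinite (i ≫ V.ι ≫ f) ∧
      (∀ (x' : X) (hx' : x' ∈ V), Ideal.ofList rs ≤ (hV.primeIdealOf ⟨x', hx'⟩).asIdeal →
        x' ∈ Set.range ⇑(i ≫ V.ι)) ∧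
      (∀ z : Z, Ideal.ofList rs ≤ (hV.primeIdealOf ⟨V.ι (i z), (i z).2⟩).asIdeal) := by
  let π : Γ(X, V) ⟶ CommRingCat.of (Γ(X, V) ⧸ Ideal.ofList rs) :=
    CommRingCat.ofHom (Ideal.Quotient.mk (Ideal.ofList rs))
  have hπsurj : Function.Surjective π.hom := Ideal.Quotient.mk_surjective
  let i : Spec (CommRingCat.of (Γ(X, V) ⧸ Ideal.ofList rs)) ⟶ (V : Scheme.{u}) :=
    Spec.map π ≫ hV.isoSpec.inv
  have hiι : i ≫ V.ι = Spec.map π ≫ hV.fromSpec := by
    rw [Category.assoc, IsAffineOpen.isoSpec_inv_ι]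
  have hcomp : i ≫ V.ι ≫ f = Spec.map (f.appLE V₀ V e ≫ π) ≫ hV₀.fromSpec := by
    rw [← Category.assoc, hiι, Category.assoc, ← IsAffineOpen.SpecMap_appLE_fromSpec f hV₀ hV e,
      ← Category.assoc, ← Spec.map_comp]
  have hhom : (f.appLE V₀ V e ≫ π).hom = (Ideal.Quotient.mk (Ideal.ofList rs)).comp (f.appLE V₀ V e).hom := rfl
  have : IsClosedImmersion (Spec.map π) := IsClosedImmersion.spec_of_surjective π hπsurj
  have : IsClosedImmersion i := inferInstance
  refine ⟨_, i, ⟨inferInstance, ?_⟩, ?_, ?_, ?_, ?_, ?_⟩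
  · intro z
    have hVaff : IsAffine (V : Scheme.{u}) := hV
    refine ⟨⊤, isAffineOpen_top _, trivial, ?_⟩
    rw [Scheme.Hom.ker_apply]
    let E₁ : Γ(X, V) ≅ Γ((V : Scheme.{u}), ⊤) :=
      (Scheme.ΓSpecIso Γ(X, V)).symm ≪≫ Scheme.Γ.mapIso hV.isoSpec.op
    let E₂ : CommRingCat.of (Γ(X, V) ⧸ Ideal.ofList rs) ≅
        Γ(Spec (CommRingCat.of (Γ(X, V) ⧸ Ideal.ofList rs)), ⊤) :=
      (Scheme.ΓSpecIso (CommRingCat.of (Γ(X, V) ⧸ Ideal.ofList rs))).symm
    have hsq : E₁.hom ≫ i.appTop = π ≫ E₂.hom := by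
      show ((Scheme.ΓSpecIso Γ(X, V)).inv ≫ hV.isoSpec.hom.appTop) ≫
        (Spec.map π ≫ hV.isoSpec.inv).appTop = π ≫ (Scheme.ΓSpecIso _).inv
      rw [Scheme.Hom.comp_appTop, Category.assoc, ← Category.assoc (hV.isoSpec.hom.appTop),
        ← Scheme.Hom.comp_appTop, Iso.inv_hom_id, Scheme.Hom.id_appTop, Category.id_comp,
        Scheme.ΓSpecIso_inv_naturality]
    have : Nonempty ↥(i ⁻¹ᵁ (⊤ : (V : Scheme.{u}).Opens)) := ⟨⟨z, trivial⟩⟩
    have hne : RingHom.ker (i.app ⊤).hom ≠ ⊤ := RingHom.ker_ne_top _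
    refine Groth.Agent.Lib.Helper5.RegImm.exists_regular_of_ringEquiv_square
      E₁.commRingCatIsoToRingEquiv E₂.commRingCatIsoToRingEquiv
      (Ideal.Quotient.mk (Ideal.ofList rs)) (i.app ⊤).hom hne (fun a => ?_)
      ⟨rs, hreg, Ideal.mk_ker⟩
    have := congrArg (fun φ => φ.hom a) hsq
    exact this.symm
  · rw [hcomp]
    have : Flat (Spec.map (f.appLE V₀ V e ≫ π)) := by
      rw [HasRingHomProperty.Spec_iff (P := @Flat), hhom]; exact hfl
    infer_instance
  · rw [hcomp]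
    have : LocallyOfFinitePresentation (Spec.map (f.appLE V₀ V e ≫ π)) := by
      rw [HasRingHomProperty.Spec_iff (P := @LocallyOfFinitePresentation), hhom]; exact hfp
    infer_instance
  · rw [hcomp]
    have : LocallyQuasiFinite (Spec.map (f.appLE V₀ V e ≫ π)) := by
      rw [HasRingHomProperty.Spec_iff (P := @LocallyQuasiFinite), hhom]; exact hqf
    infer_instance
  · intro x' hx' hle
    have hmem : hV.primeIdealOf ⟨x', hx'⟩ ∈ Set.range (PrimeSpectrum.comap π.hom) := by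
      rw [range_comap_of_surjective _ _ hπsurj]
      show RingHom.ker (Ideal.Quotient.mk (Ideal.ofList rs)) ≤ _
      rw [Ideal.mk_ker]
      exact hle
    obtain ⟨z, hz⟩ := hmem
    obtain ⟨z', hz'⟩ : ∃ z' : ↥(Spec (CommRingCat.of (Γ(X, V) ⧸ Ideal.ofList rs))),
        (Spec.map π) z' = hV.primeIdealOf ⟨x', hx'⟩ := ⟨z, hz⟩
    refine ⟨z', ?_⟩
    rw [hiι, Scheme.Hom.comp_apply, hz', hV.fromSpec_primeIdealOf]
  · intro z
    have h1 : hV.primeIdealOf ⟨V.ι (i z), (i z).2⟩ = (Spec.map π) z := by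
      apply hV.fromSpec.isOpenEmbedding.injective
      rw [hV.fromSpec_primeIdealOf]
      show V.ι (i z) = _
      rw [← Scheme.Hom.comp_apply, ← Scheme.Hom.comp_apply, hiι]
    rw [h1]
    intro a ha
    show π.hom a ∈ z.asIdeal
    have : π.hom a = 0 := Ideal.Quotient.eq_zero_iff_mem.mpr ha
    rw [this]
    exact Ideal.zero_mem _

end Output

section Chart

variable {X S : Scheme.{u}}

open Groth.Agent.Lib.Helper6.QFAff in
/-- From a flat, locally quasi-finite `S`-morphism `g : U ⟶ 𝔸^d_S` and affine opens `W ⊆ U`,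
`V₀ ⊆ S` with `f(W) ⊆ V₀`, a flat quasi-finite ring map `Γ(S,V₀)[T₁..T_d] → Γ(X,W)` extending
the structure map. -/
theorem exists_chart_ringHom (f : X ⟶ S) (d : ℕ) {U : X.Opens}
    (g : (U : Scheme.{u}) ⟶ 𝔸(ULift.{u} (Fin d); S))
    (hover : g ≫ (𝔸(ULift.{u} (Fin d); S) ↘ S) = U.ι ≫ f) [Flat g] [LocallyQuasiFinite g]
    {V₀ : S.Opens} (hV₀ : IsAffineOpen V₀) {W : X.Opens} (hW : IsAffineOpen W) (hWU : W ≤ U)
    (e : W ≤ f ⁻¹ᵁ V₀) :
    ∃ ψ : MvPolynomial (Fin d) Γ(S, V₀) →+* Γ(X, W), ψ.Flat ∧ ψ.QuasiFinite ∧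
      ψ.comp MvPolynomial.C = (f.appLE V₀ W e).hom := by
  -- the morphism from `Spec Γ(X, W)`
  let g' : Spec Γ(X, W) ⟶ 𝔸(ULift.{u} (Fin d); S) := hW.isoSpec.inv ≫ X.homOfLE hWU ≫ g
  have hg'fl : Flat g' := inferInstance
  have hg'qf : LocallyQuasiFinite g' := inferInstance
  have hg'over : g' ≫ (𝔸(ULift.{u} (Fin d); S) ↘ S) =
      Spec.map (f.appLE V₀ W e) ≫ hV₀.fromSpec := by
    rw [IsAffineOpen.SpecMap_appLE_fromSpec f hV₀ hW e, ← IsAffineOpen.isoSpec_inv_ι]
    simp only [g', Category.assoc, hover, Scheme.homOfLE_ι_assoc]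
  let ψ₀ : MvPolynomial (ULift.{u} (Fin d)) Γ(S, V₀) →+* Γ(X, W) :=
    MvPolynomial.eval₂Hom (f.appLE V₀ W e).hom
      (fun i => (Scheme.ΓSpecIso Γ(X, W)).hom (g'.appTop (AffineSpace.coord S i)))
  have hψ₀C : ψ₀.comp MvPolynomial.C = (f.appLE V₀ W e).hom := by
    refine RingHom.ext fun r => ?_
    simp [ψ₀]
  have hjopen : IsOpenImmersion (AffineSpace.map (ULift.{u} (Fin d)) hV₀.fromSpec) :=
    isOpenImmersion_affineSpace_map _ _
  have hstar : toAff ψ₀ ≫ AffineSpace.map (ULift.{u} (Fin d)) hV₀.fromSpec = g' := by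
    refine AffineSpace.hom_ext ?_ ?_
    · rw [Category.assoc, AffineSpace.map_over, ← Category.assoc, toAff_over, hg'over, hψ₀C]
      rfl
    · intro i
      rw [Scheme.Hom.comp_appTop, CommRingCat.comp_apply, AffineSpace.map_appTop_coord]
      unfold toAff
      rw [Scheme.Hom.comp_appTop, CommRingCat.comp_apply, AffineSpace.SpecIso_inv_appTop_coord,
        ← CommRingCat.comp_apply, ← Scheme.ΓSpecIso_inv_naturality, CommRingCat.comp_apply]
      simp [ψ₀]
  have hpost : MorphismProperty.HasOfPostcompProperty (@Flat.{u}) (@IsOpenImmersion.{u}) :=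
    instHasOfPostcompPropertySchemeIsOpenImmersionOfIsStableUnderBaseChange (@Flat)
  have h1fl : Flat (toAff ψ₀) :=
    MorphismProperty.of_postcomp (W := @Flat) (W' := @IsOpenImmersion) _ _ hjopen
      (by rw [hstar]; exact hg'fl)
  have h1qf : LocallyQuasiFinite (toAff ψ₀) := by
    have : LocallyQuasiFinite
        (toAff ψ₀ ≫ AffineSpace.map (ULift.{u} (Fin d)) hV₀.fromSpec) := by
      rw [hstar]; exact hg'qf
    exact LocallyQuasiFinite.of_comp _ (AffineSpace.map (ULift.{u} (Fin d)) hV₀.fromSpec)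
  have hspec : Spec.map (CommRingCat.ofHom ψ₀) =
      toAff ψ₀ ≫ (AffineSpace.SpecIso (ULift.{u} (Fin d)) Γ(S, V₀)).hom := by
    unfold toAff
    rw [Category.assoc, Iso.inv_hom_id, Category.comp_id]
  have h2fl : ψ₀.Flat := by
    have : Flat (Spec.map (CommRingCat.ofHom ψ₀)) := by rw [hspec]; infer_instance
    exact (HasRingHomProperty.Spec_iff (P := @Flat)).mp this
  have h2qf : ψ₀.QuasiFinite := by
    have : LocallyQuasiFinite (Spec.map (CommRingCat.ofHom ψ₀)) := by rw [hspec]; infer_instance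
    exact (HasRingHomProperty.Spec_iff (P := @LocallyQuasiFinite)).mp this
  -- reindex
  let ε : MvPolynomial (Fin d) Γ(S, V₀) ≃ₐ[Γ(S, V₀)] MvPolynomial (ULift.{u} (Fin d)) Γ(S, V₀) :=
    MvPolynomial.renameEquiv Γ(S, V₀) Equiv.ulift.symm
  refine ⟨ψ₀.comp ε.toAlgHom.toRingHom, ?_, ?_, ?_⟩
  · exact RingHom.Flat.comp (RingHom.Flat.of_bijective ε.bijective) h2fl
  · exact RingHom.QuasiFinite.comp h2qf
      (RingHom.QuasiFinite.of_finite (RingHom.Finite.of_surjective _ ε.surjective))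
  · rw [← hψ₀C]
    refine RingHom.ext fun r => ?_
    show ψ₀ (ε (MvPolynomial.C r)) = ψ₀ (MvPolynomial.C r)
    congr 1
    exact ε.commutes r

end Chart

end Groth.Agent.R2.H6.CMSliceB
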