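import Mathlib
import Groth.Agent.R2.H6NzdSlice
import Groth.Agent.R2.H6CMSliceB
import Groth.Agent.Lib.Helper2StalkFlat
import Groth.Agent.S0386

/-!
# Slicing a flat lfp morphism by a fibrewise nonzerodivisor, scheme level (helper6)
-/

set_option autoImplicit false
universe u

open AlgebraicGeometry CategoryTheory Limits

namespace Groth.Agent.R2.H6.NzdSliceSch

open Groth.Agent.R2.H6.NzdSlice Groth.Agent.R2.H6.CMSliceB

variable {X S : Scheme.{u}}

theorem mem_primeIdealOf_iff_germ {W : X.Opens} (hW : IsAffineOpen W) (x : X) (hx : x ∈ W)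
    (c : Γ(X, W)) :
    c ∈ (hW.primeIdealOf ⟨x, hx⟩).asIdeal ↔
      X.presheaf.germ W x hx c ∈ IsLocalRing.maximalIdeal (X.presheaf.stalk x) := by
  rw [hW.primeIdealOf_eq_map_closedPoint]
  rfl

/-- The elementwise form of "the germ of `h₀` is a nonzerodivisor on `O_{X,x}/m_s O_{X,x}`" on an
affine chart. -/
theorem fibre_condition (f : X ⟶ S) (x : X) {V : S.Opens} (hV : IsAffineOpen V) {W : X.Opens}
    (hW : IsAffineOpen W) (hxW : x ∈ W) (e : W ≤ f ⁻¹ᵁ V) (h₀ : Γ(X, W))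
    (hreg : Ideal.Quotient.mk (Ideal.map (f.stalkMap x).hom
        (IsLocalRing.maximalIdeal (S.presheaf.stalk (f x)))) (X.presheaf.germ W x hxW h₀) ∈
      nonZeroDivisors (X.presheaf.stalk x ⧸ Ideal.map (f.stalkMap x).hom
        (IsLocalRing.maximalIdeal (S.presheaf.stalk (f x)))))
    (c : Γ(X, W))
    (hc : ∃ t ∉ (hW.primeIdealOf ⟨x, hxW⟩).asIdeal, t * (h₀ * c) ∈
      (((hW.primeIdealOf ⟨x, hxW⟩).asIdeal.comap (f.appLE V W e).hom).map (f.appLE V W e).hom)) :
    ∃ t ∉ (hW.primeIdealOf ⟨x, hxW⟩).asIdeal, t * c ∈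
      (((hW.primeIdealOf ⟨x, hxW⟩).asIdeal.comap (f.appLE V W e).hom).map
        (f.appLE V W e).hom) := by
  set q := (hW.primeIdealOf ⟨x, hxW⟩).asIdeal with hq
  set ρ := (f.appLE V W e).hom with hρ
  set p := q.comap ρ with hp
  set I := Ideal.map (f.stalkMap x).hom (IsLocalRing.maximalIdeal (S.presheaf.stalk (f x))) with hI
  let gX := (X.presheaf.germ W x hxW).hom
  let gS := (S.presheaf.germ V (f x) (e hxW)).hom
  have hnat : gX.comp ρ = (f.stalkMap x).hom.comp gS := by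
    have : f.appLE V W e ≫ X.presheaf.germ W x hxW =
        S.presheaf.germ V (f x) (e hxW) ≫ f.stalkMap x := by
      rw [Scheme.Hom.appLE, Category.assoc, X.presheaf.germ_res', Scheme.Hom.germ_stalkMap]
    exact congrArg CommRingCat.Hom.hom this
  have hpS : p = (hV.primeIdealOf ⟨f x, e hxW⟩).asIdeal :=
    congrArg PrimeSpectrum.asIdeal
      (IsAffineOpen.comap_primeIdealOf_appLE (f := f) V hV W hW e hxW)
  let _ : Algebra Γ(S, V) (S.presheaf.stalk (f x)) :=
    TopCat.Presheaf.algebra_section_stalk S.presheaf (⟨f x, e hxW⟩ : V)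
  have hlocS : IsLocalization.AtPrime (S.presheaf.stalk (f x))
      (hV.primeIdealOf ⟨f x, e hxW⟩).asIdeal := hV.isLocalization_stalk ⟨f x, e hxW⟩
  let _ : Algebra Γ(X, W) (X.presheaf.stalk x) :=
    TopCat.Presheaf.algebra_section_stalk X.presheaf (⟨x, hxW⟩ : W)
  have hlocX : IsLocalization.AtPrime (X.presheaf.stalk x) q := hW.isLocalization_stalk ⟨x, hxW⟩
  have hms : IsLocalRing.maximalIdeal (S.presheaf.stalk (f x)) = p.map gS := by
    rw [hpS]
    exact (IsLocalization.AtPrime.map_eq_maximalIdeal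
      (hV.primeIdealOf ⟨f x, e hxW⟩).asIdeal (S.presheaf.stalk (f x))).symm
  have hImap : I = (p.map ρ).map gX := by
    rw [hI, hms, Ideal.map_map, Ideal.map_map, hnat]
  have keyb : ∀ c : Γ(X, W), gX c ∈ I → ∃ t ∉ q, t * c ∈ p.map ρ := by
    intro c hcI
    rw [hImap] at hcI
    have := (IsLocalization.mem_map_algebraMap_iff q.primeCompl (X.presheaf.stalk x)).mp hcI
    obtain ⟨⟨⟨j, hj⟩, ⟨m, hm⟩⟩, hx⟩ := this
    simp only at hx
    have hx' : algebraMap Γ(X, W) (X.presheaf.stalk x) (c * m) =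
        algebraMap Γ(X, W) (X.presheaf.stalk x) j := by
      rw [map_mul]
      exact hx
    rw [IsLocalization.eq_iff_exists q.primeCompl] at hx'
    obtain ⟨⟨m', hm'⟩, hx⟩ := hx'
    simp only at hx
    refine ⟨m' * m, q.primeCompl.mul_mem hm' hm, ?_⟩
    have : m' * m * c = m' * j := by rw [← hx]; ring
    rw [this]
    exact Ideal.mul_mem_left _ _ hj
  have keya : ∀ c : Γ(X, W), c ∈ p.map ρ → gX c ∈ I := by
    intro c hc
    rw [hImap]
    exact Ideal.mem_map_of_mem _ hc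
  obtain ⟨t, ht, htc⟩ := hc
  have h1 : gX t * (gX h₀ * gX c) ∈ I := by
    have := keya _ htc
    rwa [map_mul, map_mul] at this
  have hunit : IsUnit (gX t) :=
    IsLocalization.map_units (M := q.primeCompl) (X.presheaf.stalk x) ⟨t, ht⟩
  have h2 : gX h₀ * gX c ∈ I := (Ideal.unit_mul_mem_iff_mem I hunit).mp h1
  have h3 : Ideal.Quotient.mk I (gX c) = 0 := by
    have : Ideal.Quotient.mk I (gX c) * Ideal.Quotient.mk I (gX h₀) = 0 := by
      rw [← map_mul, Ideal.Quotient.eq_zero_iff_mem, mul_comm]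
      exact h2
    exact (mem_nonZeroDivisors_iff_right.mp hreg) _ this
  exact keyb c (Ideal.Quotient.eq_zero_iff_mem.mp h3)

/-- **Slicing by a fibrewise nonzerodivisor** (Stacks 00ME/046Z, spread out). -/
theorem main (f : X ⟶ S) [LocallyOfFinitePresentation f] (x : X)
    (hflat : (f.stalkMap x).hom.Flat) (h : X.presheaf.stalk x)
    (hm : h ∈ IsLocalRing.maximalIdeal (X.presheaf.stalk x))
    (hreg : Ideal.Quotient.mk (Ideal.map (f.stalkMap x).hom
        (IsLocalRing.maximalIdeal (S.presheaf.stalk (f x)))) h ∈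
      nonZeroDivisors (X.presheaf.stalk x ⧸ Ideal.map (f.stalkMap x).hom
        (IsLocalRing.maximalIdeal (S.presheaf.stalk (f x))))) :
    ∃ (U : X.Opens) (hU : IsAffineOpen U) (hx : x ∈ U) (h' : Γ(X, U)),
      X.presheaf.germ U x hx h' = h ∧ h' ∈ nonZeroDivisors Γ(X, U) ∧
      Flat (Spec.map (CommRingCat.ofHom (Ideal.Quotient.mk (Ideal.span {h'}))) ≫
        hU.fromSpec ≫ f) ∧
      LocallyOfFinitePresentation
        (Spec.map (CommRingCat.ofHom (Ideal.Quotient.mk (Ideal.span {h'}))) ≫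
          hU.fromSpec ≫ f) := by
  -- charts
  obtain ⟨V, hV, hfxV, -⟩ :=
    exists_isAffineOpen_mem_and_subset (x := f x) (U := (⊤ : S.Opens)) trivial
  obtain ⟨U₀, hxU₀, s₀, hs₀⟩ := TopCat.Presheaf.exists_germ_eq X.presheaf h
  let F : X.Opens := ⟨{x | (f.stalkMap x).hom.Flat}, Groth.Agent.S0386.result f⟩
  obtain ⟨W, hW, hxW, hWsub⟩ :=
    exists_isAffineOpen_mem_and_subset (x := x) (U := U₀ ⊓ f ⁻¹ᵁ V ⊓ F) ⟨⟨hxU₀, hfxV⟩, hflat⟩
  have hWU₀ : W ≤ U₀ := fun y hy => (hWsub hy).1.1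
  have e : W ≤ f ⁻¹ᵁ V := fun y hy => (hWsub hy).1.2
  have hWF : ∀ y : X, y ∈ W → (f.stalkMap y).hom.Flat := fun y hy => (hWsub hy).2
  let h₀ : Γ(X, W) := X.presheaf.map (homOfLE hWU₀).op s₀
  have hh₀ : X.presheaf.germ W x hxW h₀ = h := by
    rw [TopCat.Presheaf.germ_res_apply]
    exact hs₀
  subst hh₀
  -- ring structures
  let ρ := (f.appLE V W e).hom
  let _ : Algebra Γ(S, V) Γ(X, W) := ρ.toAlgebra
  have hfl : Module.Flat Γ(S, V) Γ(X, W) :=
    Groth.Agent.Lib.Helper2.StalkFlat.flat_appLE_of_flat_stalkMap f hW hV e hWF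
  have hfp : Algebra.FinitePresentation Γ(S, V) Γ(X, W) := f.finitePresentation_appLE hV hW e
  let q := (hW.primeIdealOf ⟨x, hxW⟩).asIdeal
  have hh₀q : h₀ ∈ q := (mem_primeIdealOf_iff_germ hW x hxW h₀).mpr hm
  obtain ⟨g, hg, H⟩ := exists_away_flat_slice q h₀ hh₀q
    (fun c hc => fibre_condition f x hV hW hxW e h₀ hreg c hc)
  -- output
  have hU : IsAffineOpen (X.basicOpen g) := hW.basicOpen g
  have hxU : x ∈ X.basicOpen g := (mem_basicOpen_iff_notMem_primeIdealOf hW x hxW g).mpr hg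
  have hloc : IsLocalization.Away g Γ(X, X.basicOpen g) := hW.isLocalization_basicOpen g
  obtain ⟨hnzd, hflq, hfpq⟩ := H Γ(X, X.basicOpen g)
  have e' : X.basicOpen g ≤ f ⁻¹ᵁ V := (X.basicOpen_le g).trans e
  set h' : Γ(X, X.basicOpen g) := algebraMap Γ(X, W) Γ(X, X.basicOpen g) h₀ with hh'
  have hmap : (algebraMap Γ(X, W) Γ(X, X.basicOpen g)).comp (algebraMap Γ(S, V) Γ(X, W)) =
      (f.appLE V (X.basicOpen g) e').hom := by
    have := Scheme.Hom.appLE_map f e (homOfLE (X.basicOpen_le g)).op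
    exact congrArg CommRingCat.Hom.hom this
  rw [hmap] at hflq hfpq
  have hcomp : Spec.map (CommRingCat.ofHom (Ideal.Quotient.mk (Ideal.span {h'}))) ≫
      hU.fromSpec ≫ f =
      Spec.map (f.appLE V (X.basicOpen g) e' ≫
        CommRingCat.ofHom (Ideal.Quotient.mk (Ideal.span {h'}))) ≫ hV.fromSpec := by
    rw [← IsAffineOpen.SpecMap_appLE_fromSpec f hV hU e', ← Category.assoc, ← Spec.map_comp]
  refine ⟨X.basicOpen g, hU, hxU, h', ?_, hnzd, ?_, ?_⟩
  · exact TopCat.Presheaf.germ_res_apply X.presheaf (homOfLE (X.basicOpen_le g)) x hxU h₀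
  · rw [hcomp]
    have : Flat (Spec.map (f.appLE V (X.basicOpen g) e' ≫
        CommRingCat.ofHom (Ideal.Quotient.mk (Ideal.span {h'})))) := by
      rw [HasRingHomProperty.Spec_iff (P := @Flat)]
      exact hflq
    infer_instance
  · rw [hcomp]
    have : LocallyOfFinitePresentation (Spec.map (f.appLE V (X.basicOpen g) e' ≫
        CommRingCat.ofHom (Ideal.Quotient.mk (Ideal.span {h'})))) := by
      rw [HasRingHomProperty.Spec_iff (P := @LocallyOfFinitePresentation)]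
      exact hfpq
    infer_instance

end Groth.Agent.R2.H6.NzdSliceSch
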