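import Mathlib
import Groth.Prelude.Def_RegImm
import Groth.Agent.R2.H7KosBasic

/-!
# Flat ring maps preserve `H_1`-regular and quasi-regular sequences (equational criterion)
-/

set_option autoImplicit false
universe u

open TensorProduct

namespace Groth.Agent.R2.H6.RegBCRing

/-- `H_1`-regular sequences are preserved by flat ring maps. -/
theorem isH1Regular_map_of_flat {R R' : Type u} [CommRing R] [CommRing R'] (φ : R →+* R')
    (hφ : φ.Flat) {c : ℕ} (f : Fin c → R) (hf : CAlgX.IsH1Regular f) :
    CAlgX.IsH1Regular (fun i => φ (f i)) := by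
  let alg : Algebra R R' := φ.toAlgebra
  have hflat : Module.Flat R R' := hφ
  intro a ha
  have hrel : ∑ i, f i • a i = 0 := by
    rw [← ha]
    refine Finset.sum_congr rfl fun i _ => ?_
    rw [Algebra.smul_def, mul_comm]
    rfl
  obtain ⟨k, b, y, hay, hb⟩ := Module.Flat.isTrivialRelation_of_sum_smul_eq_zero (R := R)
    (M := R') (f := f) (x := a) hrel
  -- each column of `b` is a relation in `R`
  have hcol : ∀ j : Fin k, (fun i => b i j) ∈ Submodule.span R
      {v : Fin c → R | ∃ i j : Fin c, v = Pi.single i (f j) - Pi.single j (f i)} := by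
    intro j
    apply hf
    rw [← hb j]
    exact Finset.sum_congr rfl fun i _ => mul_comm _ _
  -- the image of the span
  have himg : ∀ v ∈ Submodule.span R
      {v : Fin c → R | ∃ i j : Fin c, v = Pi.single i (f j) - Pi.single j (f i)},
      (fun i => φ (v i)) ∈ Submodule.span R'
        {v : Fin c → R' | ∃ i j : Fin c, v = Pi.single i (φ (f j)) - Pi.single j (φ (f i))} := by
    intro v hv
    induction hv using Submodule.span_induction with
    | mem v hv =>
      obtain ⟨i, j, rfl⟩ := hv
      apply Submodule.subset_span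
      refine ⟨i, j, ?_⟩
      funext l
      simp only [Pi.sub_apply, map_sub]
      congr 1
      · by_cases h : l = i
        · subst h; simp
        · simp [Pi.single_apply, h]
      · by_cases h : l = j
        · subst h; simp
        · simp [Pi.single_apply, h]
    | zero =>
      have : (fun i : Fin c => φ ((0 : Fin c → R) i)) = 0 := by funext i; simp
      rw [this]
      exact Submodule.zero_mem _
    | add v w _ _ hv hw =>
      have : (fun i : Fin c => φ ((v + w) i)) = (fun i => φ (v i)) + (fun i => φ (w i)) := by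
        funext i; simp
      rw [this]
      exact Submodule.add_mem _ hv hw
    | smul r v _ hv =>
      have : (fun i : Fin c => φ ((r • v) i)) = φ r • (fun i => φ (v i)) := by
        funext i; simp
      rw [this]
      exact Submodule.smul_mem _ _ hv
  have ha' : a = ∑ j, y j • (fun i => φ (b i j)) := by
    funext i
    rw [hay i, Finset.sum_apply]
    refine Finset.sum_congr rfl fun j _ => ?_
    rw [Pi.smul_apply, Algebra.smul_def, smul_eq_mul, mul_comm]
    rfl
  rw [ha']
  exact Submodule.sum_mem _ fun j _ => Submodule.smul_mem _ _ (himg _ (hcol j))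

/-- the polynomial with prescribed coefficients on a finite set of exponents. -/
private noncomputable def polyOf {R : Type u} [CommRing R] {c : ℕ} (T : Finset (Fin c →₀ ℕ))
    (a : {α // α ∈ T} → R) : MvPolynomial (Fin c) R :=
  ∑ α : {α // α ∈ T}, MvPolynomial.monomial α.1 (a α)

private lemma coeff_polyOf {R : Type u} [CommRing R] {c : ℕ} (T : Finset (Fin c →₀ ℕ))
    (a : {α // α ∈ T} → R) (α₀ : {α // α ∈ T}) : (polyOf T a).coeff α₀.1 = a α₀ := by
  classical
  unfold polyOf
  rw [MvPolynomial.coeff_sum]
  rw [Finset.sum_eq_single α₀]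
  · simp
  · intro b _ hb
    rw [MvPolynomial.coeff_monomial, if_neg]
    intro h
    exact hb (Subtype.ext h)
  · intro h
    exact absurd (Finset.mem_univ _) h

private lemma isHomogeneous_polyOf {R : Type u} [CommRing R] {c : ℕ} (T : Finset (Fin c →₀ ℕ))
    (a : {α // α ∈ T} → R) (n : ℕ) (hT : ∀ α ∈ T, α.degree = n) :
    (polyOf T a).IsHomogeneous n := by
  unfold polyOf
  exact MvPolynomial.IsHomogeneous.sum _ _ _ fun α _ =>
    MvPolynomial.isHomogeneous_monomial _ (hT α.1 α.2)

private lemma eval_polyOf {R : Type u} [CommRing R] {c : ℕ} (T : Finset (Fin c →₀ ℕ))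
    (a : {α // α ∈ T} → R) (f : Fin c → R) :
    MvPolynomial.eval f (polyOf T a) =
      ∑ α : {α // α ∈ T}, a α * α.1.prod fun i e => f i ^ e := by
  unfold polyOf
  rw [map_sum]
  exact Finset.sum_congr rfl fun α _ => MvPolynomial.eval_monomial

/-- quasi-regular sequences are preserved by flat ring maps. -/
theorem isQuasiRegular_map_of_flat {R R' : Type u} [CommRing R] [CommRing R'] (φ : R →+* R')
    (hφ : φ.Flat) {c : ℕ} (f : Fin c → R) (hf : CAlgX.IsQuasiRegular f) :
    CAlgX.IsQuasiRegular (fun i => φ (f i)) := by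
  classical
  let alg : Algebra R R' := φ.toAlgebra
  have hflat : Module.Flat R R' := hφ
  intro n P hP hev d
  have hJ' : Ideal.span (Set.range fun i => φ (f i)) = (Ideal.span (Set.range f)).map φ := by
    rw [Ideal.map_span, ← Set.range_comp]
    rfl
  by_cases hd : d ∈ P.support
  swap
  · rw [MvPolynomial.notMem_support_iff.mp hd]
    exact Ideal.zero_mem _
  obtain ⟨Q, hQ, hQev⟩ := (Ideal.mem_span_pow_iff_exists_isHomogeneous _ _).mp hev
  -- monomials
  let mon : (Fin c →₀ ℕ) → R := fun α => α.prod fun i e => f i ^ e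
  have hmon : ∀ α : Fin c →₀ ℕ, φ (mon α) = α.prod fun i e => φ (f i) ^ e := by
    intro α
    simp only [mon, Finsupp.prod, map_prod, map_pow]
  -- the relation
  let g : {α // α ∈ P.support} ⊕ {β // β ∈ Q.support} → R :=
    Sum.elim (fun α => mon α.1) (fun β => - mon β.1)
  let x : {α // α ∈ P.support} ⊕ {β // β ∈ Q.support} → R' :=
    Sum.elim (fun α => P.coeff α.1) (fun β => Q.coeff β.1)
  have hsumev : ∀ (p : MvPolynomial (Fin c) R'),
      ∑ α : {α // α ∈ p.support}, mon α.1 • p.coeff α.1 =
        MvPolynomial.eval (fun i => φ (f i)) p := by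
    intro p
    rw [MvPolynomial.eval_eq, ← Finset.sum_coe_sort p.support]
    refine Finset.sum_congr rfl fun α _ => ?_
    rw [Algebra.smul_def, mul_comm]
    congr 1
    exact hmon α.1
  have hrel : ∑ i, g i • x i = 0 := by
    rw [Fintype.sum_sum_type]
    simp only [g, x, Sum.elim_inl, Sum.elim_inr, neg_smul, Finset.sum_neg_distrib]
    rw [hsumev P, hsumev Q, hQev, add_neg_cancel]
  obtain ⟨k, a, y, hxy, ha⟩ := Module.Flat.isTrivialRelation_of_sum_smul_eq_zero (R := R)
    (M := R') (f := g) (x := x) hrel
  -- the polynomials over `R`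
  have hcoef : ∀ (j : Fin k) (α : {α // α ∈ P.support}), a (Sum.inl α) j ∈
      Ideal.span (Set.range f) := by
    intro j α
    have hPj : (polyOf P.support fun α => a (Sum.inl α) j).IsHomogeneous n :=
      isHomogeneous_polyOf _ _ n fun α hα => by
        rw [Finsupp.degree_eq_weight_one]
        exact hP (MvPolynomial.mem_support_iff.mp hα)
    have hQj : (polyOf Q.support fun β => a (Sum.inr β) j).IsHomogeneous (n + 1) :=
      isHomogeneous_polyOf _ _ (n + 1) fun β hβ => by
        rw [Finsupp.degree_eq_weight_one]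
        exact hQ (MvPolynomial.mem_support_iff.mp hβ)
    have hevj : MvPolynomial.eval f (polyOf P.support fun α => a (Sum.inl α) j) =
        MvPolynomial.eval f (polyOf Q.support fun β => a (Sum.inr β) j) := by
      rw [eval_polyOf, eval_polyOf]
      have h1 := ha j
      rw [Fintype.sum_sum_type] at h1
      simp only [g, Sum.elim_inl, Sum.elim_inr, neg_mul, Finset.sum_neg_distrib] at h1
      rw [add_neg_eq_zero] at h1
      calc _ = ∑ α : {α // α ∈ P.support}, mon α.1 * a (Sum.inl α) j :=
            Finset.sum_congr rfl fun α _ => mul_comm _ _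
        _ = ∑ β : {β // β ∈ Q.support}, mon β.1 * a (Sum.inr β) j := h1
        _ = _ := Finset.sum_congr rfl fun β _ => mul_comm _ _
    have hmem : MvPolynomial.eval f (polyOf P.support fun α => a (Sum.inl α) j) ∈
        Ideal.span (Set.range f) ^ (n + 1) := by
      rw [hevj]
      exact (Ideal.mem_span_pow_iff_exists_isHomogeneous _ _).mpr ⟨_, hQj, rfl⟩
    have := hf n _ hPj hmem α.1
    rwa [coeff_polyOf] at this
  have hfin : P.coeff d = ∑ j, a (Sum.inl ⟨d, hd⟩) j • y j := hxy (Sum.inl ⟨d, hd⟩)
  rw [hfin, hJ']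
  refine Ideal.sum_mem _ fun j _ => ?_
  rw [Algebra.smul_def]
  exact Ideal.mul_mem_right _ _ (Ideal.mem_map_of_mem φ (hcoef j ⟨d, hd⟩))

theorem transport_fin {α : Type*} (P : ∀ {c : ℕ}, (Fin c → α) → Prop) {c c' : ℕ} (h : c = c')
    (f : Fin c → α) (f' : Fin c' → α) (hff' : ∀ i, f' (Fin.cast h i) = f i) (hP : P f) :
    P f' := by
  subst h
  have : f' = f := funext fun i => by simpa using hff' i
  rw [this]
  exact hP

/-- flat ring maps preserve sequences of each of the four kinds (for the kind `regular`, as long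
as the extended ideal is proper). -/
theorem kindSeq_map_of_flat (k : RegImm.Kind) {R R' : Type u} [CommRing R] [CommRing R']
    (φ : R →+* R') (hφ : φ.Flat) (rs : List R) (h : k.Seq R rs)
    (hne : Ideal.ofList (rs.map φ) ≠ ⊤) : k.Seq R' (rs.map φ) := by
  cases k with
  | regular =>
    let alg : Algebra R R' := φ.toAlgebra
    have hflat : Module.Flat R R' := hφ
    have h1 : RingTheory.Sequence.IsWeaklyRegular R' (rs.map (algebraMap R R')) :=
      (h : RingTheory.Sequence.IsRegular R rs).toIsWeaklyRegular.of_flat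
    refine ⟨h1, ?_⟩
    rw [smul_eq_mul, Ideal.mul_top]
    exact hne.symm
  | koszul => exact Groth.Agent.R2.H7.KosBasic.kr_map_of_flat φ hφ rs h
  | h1 =>
    have h1 := isH1Regular_map_of_flat φ hφ rs.get h
    exact transport_fin (fun {c} (f : Fin c → R') => CAlgX.IsH1Regular f)
      (List.length_map φ).symm _ _ (fun i => by simp) h1
  | quasi =>
    have h1 := isQuasiRegular_map_of_flat φ hφ rs.get h
    exact transport_fin (fun {c} (f : Fin c → R') => CAlgX.IsQuasiRegular f)
      (List.length_map φ).symm _ _ (fun i => by simp) h1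

end Groth.Agent.R2.H6.RegBCRing
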