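import Mathlib
import Groth.Prelude.Def_RegImm
import Groth.Prelude.Def_Mor2
import Groth.Agent.R2.H6RegBCRing

/-!
# Flat base change of regular immersions of the four kinds (S2886, S8652, S8906)
-/

set_option autoImplicit false
universe u

open CategoryTheory CategoryTheory.Limits AlgebraicGeometry TensorProduct

namespace Groth.Agent.R2.H6.RegBCSch

/-- in a pushout square of commutative rings with one leg surjective, the kernel of the opposite
leg is the extension of the kernel. -/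
theorem ker_of_isPushout {A B C P : CommRingCat.{u}} {a : A ⟶ B} {b : A ⟶ C} {c : B ⟶ P}
    {d : C ⟶ P} (h : IsPushout a b c d) (ha : Function.Surjective a.hom) :
    RingHom.ker d.hom = (RingHom.ker a.hom).map b.hom := by
  apply le_antisymm
  · intro x hx
    set K := (RingHom.ker a.hom).map b.hom with hK
    let mk : C ⟶ CommRingCat.of (C ⧸ K) := CommRingCat.ofHom (Ideal.Quotient.mk K)
    have hle : RingHom.ker a.hom ≤ RingHom.ker ((Ideal.Quotient.mk K).comp b.hom) := by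
      intro z hz
      rw [RingHom.mem_ker, RingHom.comp_apply, Ideal.Quotient.eq_zero_iff_mem]
      exact Ideal.mem_map_of_mem _ hz
    let l : B ⟶ CommRingCat.of (C ⧸ K) := CommRingCat.ofHom
      (RingHom.liftOfSurjective a.hom ha ⟨(Ideal.Quotient.mk K).comp b.hom, hle⟩)
    have hl : a ≫ l = b ≫ mk := by
      ext z
      exact RingHom.liftOfSurjective_comp_apply a.hom ha
        ⟨(Ideal.Quotient.mk K).comp b.hom, hle⟩ z
    have hdesc : d ≫ h.desc l mk hl = mk := h.inr_desc _ _ _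
    have h0 : mk.hom x = 0 := by
      rw [← hdesc, CommRingCat.comp_apply, RingHom.mem_ker.mp hx, map_zero]
    exact Ideal.Quotient.eq_zero_iff_mem.mp h0
  · rw [Ideal.map_le_iff_le_comap]
    intro z hz
    rw [Ideal.mem_comap, RingHom.mem_ker]
    have h1 : d.hom (b.hom z) = c.hom (a.hom z) := by
      rw [← CommRingCat.comp_apply, ← CommRingCat.comp_apply, h.w]
    rw [h1, RingHom.mem_ker.mp hz, map_zero]

section restrict

variable {Z X Z' X' : Scheme.{u}} {i : Z ⟶ X} {g : X' ⟶ X} {i' : Z' ⟶ X'} {g' : Z' ⟶ Z}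

theorem preimage_le (sq : IsPullback g' i' i g) (U : X.Opens) (U' : X'.Opens)
    (hUU' : U' ≤ g ⁻¹ᵁ U) : i' ⁻¹ᵁ U' ≤ g' ⁻¹ᵁ (i ⁻¹ᵁ U) := by
  intro z hz
  change i (g' z) ∈ U
  rw [← Scheme.Hom.comp_apply, sq.w, Scheme.Hom.comp_apply]
  exact hUU' hz

/-- restriction of a cartesian square to opens `U' ≤ g⁻¹ U`. -/
theorem restrict_isPullback (sq : IsPullback g' i' i g) (U : X.Opens) (U' : X'.Opens)
    (hUU' : U' ≤ g ⁻¹ᵁ U) :
    IsPullback (g'.resLE (i ⁻¹ᵁ U) (i' ⁻¹ᵁ U') (preimage_le sq U U' hUU')) (i' ∣_ U') (i ∣_ U)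
      (g.resLE U U' hUU') := by
  have h1 : IsPullback (i' ⁻¹ᵁ U').ι (i' ∣_ U') i' U'.ι := (isPullback_morphismRestrict i' U').flip
  have h2 : IsPullback ((i' ⁻¹ᵁ U').ι ≫ g') (i' ∣_ U') i (U'.ι ≫ g) := h1.paste_horiz sq
  have h3 : IsPullback (i ⁻¹ᵁ U).ι (i ∣_ U) i U.ι := (isPullback_morphismRestrict i U).flip
  have e1 : (i' ⁻¹ᵁ U').ι ≫ g' =
      g'.resLE (i ⁻¹ᵁ U) (i' ⁻¹ᵁ U') (preimage_le sq U U' hUU') ≫ (i ⁻¹ᵁ U).ι :=
    (Scheme.Hom.resLE_comp_ι _ _).symm
  have e2 : U'.ι ≫ g = g.resLE U U' hUU' ≫ U.ι := (Scheme.Hom.resLE_comp_ι _ _).symm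
  rw [e1, e2] at h2
  refine h2.of_right ?_ h3
  rw [← cancel_mono U.ι, Category.assoc, Category.assoc, morphismRestrict_ι,
    Scheme.Hom.resLE_comp_ι, Scheme.Hom.resLE_comp_ι_assoc, morphismRestrict_ι_assoc, sq.w]

lemma morphismRestrict_appTop' {Z X : Scheme.{u}} (i : Z ⟶ X) (U : X.Opens) :
    (i ∣_ U).appTop = U.topIso.hom ≫ i.app U ≫ (i ⁻¹ᵁ U).topIso.inv := by
  rw [← Scheme.Hom.resLE_eq_morphismRestrict, Scheme.Hom.appTop, Scheme.Hom.resLE_app_top,
    Scheme.Hom.appLE_eq_app]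

lemma ker_morphismRestrict_appTop {Z X : Scheme.{u}} (i : Z ⟶ X) (U : X.Opens) :
    RingHom.ker (i ∣_ U).appTop.hom = (RingHom.ker (i.app U).hom).comap U.topIso.hom.hom := by
  rw [morphismRestrict_appTop', RingHom.comap_ker]
  simp only [CommRingCat.hom_comp]
  rw [RingHom.comp_assoc]
  exact RingHom.ker_comp_of_injective _
    (ConcreteCategory.bijective_of_isIso (i ⁻¹ᵁ U).topIso.inv).1

/-- base change of a (locally) closed immersion along `g`, on affine charts: the restriction stays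
a closed immersion and the kernel is the extended ideal. -/
theorem ker_app_of_isPullback (sq : IsPullback g' i' i g) {U : X.Opens} (hU : IsAffineOpen U)
    (hci : IsClosedImmersion (i ∣_ U)) {U' : X'.Opens} (hU' : IsAffineOpen U')
    (hUU' : U' ≤ g ⁻¹ᵁ U) :
    IsClosedImmersion (i' ∣_ U') ∧
      RingHom.ker (i'.app U').hom =
        (RingHom.ker (i.app U).hom).map (g.appLE U U' hUU').hom := by
  have sqR := restrict_isPullback sq U U' hUU'
  have hci' : IsClosedImmersion (i' ∣_ U') :=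
    MorphismProperty.of_isPullback (P := @IsClosedImmersion) sqR hci
  refine ⟨hci', ?_⟩
  have : IsAffine (U : Scheme.{u}) := hU
  have : IsAffine (U' : Scheme.{u}) := hU'
  have : IsAffine (i ⁻¹ᵁ U : Scheme.{u}) := isAffine_of_isAffineHom (i ∣_ U)
  have hpo := isPushout_appTop_of_isPullback sqR
  have hsurj : Function.Surjective (i ∣_ U).appTop.hom :=
    (i ∣_ U).app_surjective ⊤ (isAffineOpen_top _)
  have hk := ker_of_isPushout hpo hsurj
  rw [ker_morphismRestrict_appTop, ker_morphismRestrict_appTop] at hk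
  have hres : (g.resLE U U' hUU').appTop =
      U.topIso.hom ≫ g.appLE U U' hUU' ≫ U'.topIso.inv := by
    rw [Scheme.Hom.appTop, Scheme.Hom.resLE_app_top]
  rw [hres] at hk
  have hbij' : Function.Bijective U'.topIso.hom.hom :=
    ConcreteCategory.bijective_of_isIso U'.topIso.hom
  have hbij : Function.Bijective U.topIso.hom.hom :=
    ConcreteCategory.bijective_of_isIso U.topIso.hom
  have h2 := congrArg (Ideal.map U'.topIso.hom.hom) hk
  rw [Ideal.map_comap_of_surjective _ hbij'.2, Ideal.map_map] at h2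
  rw [h2]
  have hcomp : U'.topIso.hom.hom.comp (U.topIso.hom ≫ g.appLE U U' hUU' ≫ U'.topIso.inv).hom =
      (g.appLE U U' hUU').hom.comp U.topIso.hom.hom := by
    rw [← CommRingCat.hom_comp, ← CommRingCat.hom_comp]
    congr 1
    rw [Category.assoc, Category.assoc, Iso.inv_hom_id, Category.comp_id]
  rw [hcomp, ← Ideal.map_map, Ideal.map_comap_of_surjective _ hbij.2]

/-- properness of the kernel at a point of the source. -/
lemma ker_app_ne_top {Z X : Scheme.{u}} (i : Z ⟶ X) (U : X.Opens) (z : Z) (hz : i z ∈ U) :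
    RingHom.ker (i.app U).hom ≠ ⊤ := by
  intro htop
  have h1 : (1 : Γ(X, U)) ∈ RingHom.ker (i.app U).hom := by rw [htop]; trivial
  rw [RingHom.mem_ker, map_one] at h1
  have h2 : z ∈ Z.basicOpen (1 : Γ(Z, i ⁻¹ᵁ U)) := by
    rw [Scheme.basicOpen_of_isUnit _ isUnit_one]
    exact hz
  rw [h1, Scheme.basicOpen_zero] at h2
  exact h2

open Groth.Agent.R2.H6.RegBCRing in
/-- **flat base change of regular immersions** of any of the four kinds. -/
theorem isRegularImmersion_of_isPullback_flat (k : RegImm.Kind) (sq : IsPullback g' i' i g)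
    [Flat g] (hi : RegImm.IsRegularImmersion k i) : RegImm.IsRegularImmersion k i' := by
  obtain ⟨himm, hloc⟩ := hi
  refine ⟨MorphismProperty.of_isPullback (P := @IsImmersion) sq himm, fun z' => ?_⟩
  obtain ⟨⟨U, hU⟩, hzU, hci, rs, hrs, hker⟩ := hloc (g' z')
  have hz' : i' z' ∈ g ⁻¹ᵁ U := by
    change g (i' z') ∈ U
    rw [← Scheme.Hom.comp_apply, ← sq.w, Scheme.Hom.comp_apply]
    exact hzU
  obtain ⟨_, ⟨U', hU', rfl⟩, hz'U', hU'U⟩ :=
    X'.isBasis_affineOpens.exists_subset_of_mem_open hz' (g ⁻¹ᵁ U).2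
  replace hU' : IsAffineOpen U' := hU'
  replace hU'U : U' ≤ g ⁻¹ᵁ U := hU'U
  obtain ⟨hci', hker'⟩ := ker_app_of_isPullback sq hU hci hU' hU'U
  refine ⟨⟨U', hU'⟩, hz'U', hci', rs.map (g.appLE U U' hU'U).hom, ?_, ?_⟩
  · apply kindSeq_map_of_flat k _ (g.flat_appLE hU hU' hU'U) rs hrs
    rw [← Ideal.map_ofList, ← hker, ← hker']
    exact ker_app_ne_top i' U' z' hz'U'
  · rw [hker', hker, Ideal.map_ofList]

end restrict

/-- `Mor2.IsRegularClosedImmersion` in terms of `RegImm.IsRegularImmersion .regular`. -/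
theorem mor2_iff_regImm {Z X : Scheme.{u}} (i : Z ⟶ X) :
    Mor2.IsRegularClosedImmersion i ↔
      IsClosedImmersion i ∧ RegImm.IsRegularImmersion .regular i := by
  constructor
  · rintro ⟨hci, h⟩
    refine ⟨hci, inferInstance, fun z => ?_⟩
    obtain ⟨U, hU, hzU, rs, hrs, hker⟩ := h z
    rw [Scheme.Hom.ker_apply] at hker
    exact ⟨⟨U, hU⟩, hzU, inferInstance, rs, hrs, hker⟩
  · rintro ⟨hci, -, h⟩
    refine ⟨hci, fun z => ?_⟩
    obtain ⟨⟨U, hU⟩, hzU, -, rs, hrs, hker⟩ := h z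
    refine ⟨U, hU, hzU, rs, hrs, ?_⟩
    rw [Scheme.Hom.ker_apply]
    exact hker

/-- flat base change of a regular closed immersion (`Mor2` form). -/
theorem mor2_baseChange_flat {X X' Y : Scheme.{u}} (f : Y ⟶ X) (g : X' ⟶ X) [Flat g]
    (hf : Mor2.IsRegularClosedImmersion f) : Mor2.IsRegularClosedImmersion (pullback.snd f g) := by
  obtain ⟨hci, hreg⟩ := (mor2_iff_regImm f).mp hf
  exact (mor2_iff_regImm _).mpr ⟨inferInstance,
    isRegularImmersion_of_isPullback_flat .regular (IsPullback.of_hasPullback f g) hreg⟩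

end Groth.Agent.R2.H6.RegBCSch
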