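import Mathlib
import Groth.Agent.R2.H40SliceList
import Groth.Agent.R2.H6NzdSliceSch
import Groth.Agent.R2.H40RegSpreadSch
import Groth.Agent.R2.H6RegBCSch
import Groth.Agent.Lib.Helper5RegImm
import Groth.Agent.S5802

/-!
# Slicing a flat lfp morphism by a fibrewise regular sequence, scheme level (helper40)

List version of helper6's `H6NzdSliceSch.main`, with the base-change clause obtained from
`H40RegSpreadSch` (relative quasi-regular immersions are universally regular).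
-/

set_option autoImplicit false
set_option linter.style.haveILetI false
universe u

open AlgebraicGeometry CategoryTheory Limits RingTheory.Sequence

namespace Groth.Agent.R2.H40.SliceListSch

open Groth.Agent.R2.H6.NzdSliceSch Groth.Agent.R2.H6.CMSliceB Groth.Agent.R2.H40.SliceList
  Groth.Agent.R2.H40.RegSpread

variable {X S : Scheme.{u}}

/-- `m_s O_{X,x}` is the extension of `pC` along the germ map of an affine chart. -/
theorem map_maximalIdeal_eq (f : X ⟶ S) (x : X) {V : S.Opens} (hV : IsAffineOpen V) {W : X.Opens}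
    (hW : IsAffineOpen W) (hxW : x ∈ W) (e : W ≤ f ⁻¹ᵁ V) :
    Ideal.map (f.stalkMap x).hom (IsLocalRing.maximalIdeal (S.presheaf.stalk (f x))) =
      ((((hW.primeIdealOf ⟨x, hxW⟩).asIdeal.comap (f.appLE V W e).hom).map
        (f.appLE V W e).hom).map (X.presheaf.germ W x hxW).hom) := by
  set q := (hW.primeIdealOf ⟨x, hxW⟩).asIdeal with hq
  set ρ := (f.appLE V W e).hom with hρ
  set p := q.comap ρ with hp
  let gX := (X.presheaf.germ W x hxW).hom
  let gS := (S.presheaf.germ V (f x) (e hxW)).hom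
  have hnat : gX.comp ρ = (f.stalkMap x).hom.comp gS := by
    have : f.appLE V W e ≫ X.presheaf.germ W x hxW =
        S.presheaf.germ V (f x) (e hxW) ≫ f.stalkMap x := by
      rw [Scheme.Hom.appLE, Category.assoc, X.presheaf.germ_res']
      exact (Scheme.Hom.germ_stalkMap f V x (e hxW)).symm
    exact congrArg CommRingCat.Hom.hom this
  have hpS : p = (hV.primeIdealOf ⟨f x, e hxW⟩).asIdeal :=
    congrArg PrimeSpectrum.asIdeal
      (IsAffineOpen.comap_primeIdealOf_appLE (f := f) V hV W hW e hxW)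
  let _ : Algebra Γ(S, V) (S.presheaf.stalk (f x)) :=
    TopCat.Presheaf.algebra_section_stalk S.presheaf (⟨f x, e hxW⟩ : V)
  have hlocS : IsLocalization.AtPrime (S.presheaf.stalk (f x))
      (hV.primeIdealOf ⟨f x, e hxW⟩).asIdeal := hV.isLocalization_stalk ⟨f x, e hxW⟩
  have hms : IsLocalRing.maximalIdeal (S.presheaf.stalk (f x)) = p.map gS := by
    rw [hpS]
    exact (IsLocalization.AtPrime.map_eq_maximalIdeal
      (hV.primeIdealOf ⟨f x, e hxW⟩).asIdeal (S.presheaf.stalk (f x))).symm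
  change _ = (p.map ρ).map gX
  rw [hms, Ideal.map_map, Ideal.map_map, hnat]

/-- The closed subscheme of an affine open `V` cut out by a regular sequence (adapted from helper6's
`exists_regular_slice`, for the explicit morphism). -/
theorem regular_slice (f : X ⟶ S) {V₀ : S.Opens} (hV₀ : IsAffineOpen V₀) {V : X.Opens}
    (hV : IsAffineOpen V) (e : V ≤ f ⁻¹ᵁ V₀) (rs : List Γ(X, V)) (hreg : IsRegular Γ(X, V) rs)
    (hfl : ((Ideal.Quotient.mk (Ideal.ofList rs)).comp (f.appLE V₀ V e).hom).Flat)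
    (hfp : ((Ideal.Quotient.mk (Ideal.ofList rs)).comp (f.appLE V₀ V e).hom).FinitePresentation) :
    Mor2.IsRegularClosedImmersion
      (Spec.map (CommRingCat.ofHom (Ideal.Quotient.mk (Ideal.ofList rs))) ≫ hV.isoSpec.inv) ∧
    Flat (Spec.map (CommRingCat.ofHom (Ideal.Quotient.mk (Ideal.ofList rs))) ≫ hV.fromSpec ≫ f) ∧
    LocallyOfFinitePresentation
      (Spec.map (CommRingCat.ofHom (Ideal.Quotient.mk (Ideal.ofList rs))) ≫ hV.fromSpec ≫ f) ∧
    (∀ (x' : X) (hx' : x' ∈ V), Ideal.ofList rs ≤ (hV.primeIdealOf ⟨x', hx'⟩).asIdeal →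
      x' ∈ Set.range ⇑(Spec.map (CommRingCat.ofHom (Ideal.Quotient.mk (Ideal.ofList rs))) ≫
        hV.fromSpec)) := by
  let π : Γ(X, V) ⟶ CommRingCat.of (Γ(X, V) ⧸ Ideal.ofList rs) :=
    CommRingCat.ofHom (Ideal.Quotient.mk (Ideal.ofList rs))
  have hπsurj : Function.Surjective π.hom := Ideal.Quotient.mk_surjective
  let i : Spec (CommRingCat.of (Γ(X, V) ⧸ Ideal.ofList rs)) ⟶ (V : Scheme.{u}) :=
    Spec.map π ≫ hV.isoSpec.inv
  have hcomp : Spec.map π ≫ hV.fromSpec ≫ f = Spec.map (f.appLE V₀ V e ≫ π) ≫ hV₀.fromSpec := by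
    rw [← IsAffineOpen.SpecMap_appLE_fromSpec f hV₀ hV e, ← Category.assoc, ← Spec.map_comp]
  have hhom : (f.appLE V₀ V e ≫ π).hom =
      (Ideal.Quotient.mk (Ideal.ofList rs)).comp (f.appLE V₀ V e).hom := rfl
  have : IsClosedImmersion (Spec.map π) := IsClosedImmersion.spec_of_surjective π hπsurj
  have : IsClosedImmersion i := inferInstance
  refine ⟨⟨inferInstance, ?_⟩, ?_, ?_, ?_⟩
  · intro z
    have hVaff : IsAffine (V : Scheme.{u}) := hV
    refine ⟨⊤, isAffineOpen_top _, trivial, ?_⟩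
    rw [Scheme.Hom.ker_apply]
    let E₁ : Γ(X, V) ≅ Γ((V : Scheme.{u}), ⊤) :=
      (Scheme.ΓSpecIso Γ(X, V)).symm ≪≫ Scheme.Γ.mapIso hV.isoSpec.op
    let E₂ : CommRingCat.of (Γ(X, V) ⧸ Ideal.ofList rs) ≅
        Γ(Spec (CommRingCat.of (Γ(X, V) ⧸ Ideal.ofList rs)), ⊤) :=
      (Scheme.ΓSpecIso (CommRingCat.of (Γ(X, V) ⧸ Ideal.ofList rs))).symm
    have hsq : E₁.hom ≫ i.appTop = π ≫ E₂.hom := by
      show ((Scheme.ΓSpecIso Γ(X, V)).inv ≫ hV.isoSpec.hom.appTop) ≫
        (Spec.map π ≫ hV.isoSpec.inv).appTop = π ≫ (Scheme.ΓSpecIso _).inv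
      rw [Scheme.Hom.comp_appTop, Category.assoc, ← Category.assoc (hV.isoSpec.hom.appTop),
        ← Scheme.Hom.comp_appTop, Iso.inv_hom_id, Scheme.Hom.id_appTop, Category.id_comp,
        Scheme.ΓSpecIso_inv_naturality]
    have : Nonempty ↥(i ⁻¹ᵁ (⊤ : (V : Scheme.{u}).Opens)) := ⟨⟨z, trivial⟩⟩
    have hne : RingHom.ker (i.app ⊤).hom ≠ ⊤ := RingHom.ker_ne_top _
    refine Groth.Agent.Lib.Helper5.RegImm.exists_regular_of_ringEquiv_square
      E₁.commRingCatIsoToRingEquiv E₂.commRingCatIsoToRingEquiv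
      (Ideal.Quotient.mk (Ideal.ofList rs)) (i.app ⊤).hom hne (fun a => ?_)
      ⟨rs, hreg, Ideal.mk_ker⟩
    have := congrArg (fun φ => φ.hom a) hsq
    exact this.symm
  · rw [hcomp]
    have : Flat (Spec.map (f.appLE V₀ V e ≫ π)) := by
      rw [HasRingHomProperty.Spec_iff (P := @Flat), hhom]; exact hfl
    infer_instance
  · rw [hcomp]
    have : LocallyOfFinitePresentation (Spec.map (f.appLE V₀ V e ≫ π)) := by
      rw [HasRingHomProperty.Spec_iff (P := @LocallyOfFinitePresentation), hhom]; exact hfp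
    infer_instance
  · intro x' hx' hle
    have hmem : hV.primeIdealOf ⟨x', hx'⟩ ∈ Set.range (PrimeSpectrum.comap π.hom) := by
      rw [range_comap_of_surjective _ _ hπsurj]
      show RingHom.ker (Ideal.Quotient.mk (Ideal.ofList rs)) ≤ _
      rw [Ideal.mk_ker]
      exact hle
    obtain ⟨z, hz⟩ := hmem
    obtain ⟨z', hz'⟩ : ∃ z' : ↥(Spec (CommRingCat.of (Γ(X, V) ⧸ Ideal.ofList rs))),
        (Spec.map π) z' = hV.primeIdealOf ⟨x', hx'⟩ := ⟨z, hz⟩
    refine ⟨z', ?_⟩
    rw [Scheme.Hom.comp_apply, hz', hV.fromSpec_primeIdealOf]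

theorem isPullback_map {Z U S S' : Scheme.{u}} (f' : U ⟶ S) (i : Z ⟶ U) (a : Z ⟶ S) (g : S' ⟶ S)
    (w : a ≫ 𝟙 S = i ≫ f') (w' : g ≫ 𝟙 S = 𝟙 S' ≫ g) :
    IsPullback (pullback.fst a g) (pullback.map a g f' g i (𝟙 S') (𝟙 S) w w') i
      (pullback.fst f' g) := by
  have ha : i ≫ f' = a := by rw [← w, Category.comp_id]
  refine IsPullback.of_bot ?_ ?_ (IsPullback.of_hasPullback f' g)
  · have h1 : pullback.map a g f' g i (𝟙 S') (𝟙 S) w w' ≫ pullback.snd f' g = pullback.snd a g := by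
      rw [pullback.map, pullback.lift_snd, Category.comp_id]
    rw [h1, ha]
    exact IsPullback.of_hasPullback a g
  · rw [pullback.map, pullback.lift_fst]

/-- A regular closed immersion into a flat lfp `S`-scheme with `S`-flat source remains a regular
closed immersion after every base change `S' ⟶ S`. -/
theorem mor2_baseChange {Z U S S' : Scheme.{u}} (f' : U ⟶ S) [Flat f']
    [LocallyOfFinitePresentation f'] (i : Z ⟶ U) (hi : Mor2.IsRegularClosedImmersion i)
    (a : Z ⟶ S) (hflat : Flat a) (g : S' ⟶ S)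
    (w : a ≫ 𝟙 S = i ≫ f') (w' : g ≫ 𝟙 S = 𝟙 S' ≫ g) :
    Mor2.IsRegularClosedImmersion (pullback.map a g f' g i (𝟙 S') (𝟙 S) w w') := by
  have ha : i ≫ f' = a := by rw [← w, Category.comp_id]
  obtain ⟨hci, hreg⟩ := (Groth.Agent.R2.H6.RegBCSch.mor2_iff_regImm i).mp hi
  have hq : RegImm.IsRegularImmersion RegImm.Kind.quasi i := ⟨hreg.1, fun z => by
    obtain ⟨U', hz, hcl, rs, hrs, hker⟩ := hreg.2 z
    refine ⟨U', hz, hcl, rs, ?_, hker⟩
    have hrs' : IsRegular Γ(U, U'.1) rs := hrs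
    change CAlgX.IsQuasiRegular rs.get
    exact Groth.Agent.S5802.result _ _ rs.get (by rw [List.ofFn_get]; exact hrs'.toIsWeaklyRegular)⟩
  have hrel : RegImm.IsRelRegularImmersion RegImm.Kind.quasi f' i := ⟨hq, by rw [ha]; exact hflat⟩
  have H1 := isPullback_map f' i a g w w'
  have hrel' := Groth.Agent.R2.H40.RelReg.isRelRegularImmersion_of_isPullback
    (IsPullback.of_hasPullback f' g) H1 RegImm.Kind.quasi (Or.inr rfl) hrel
  have h2 := Groth.Agent.R2.H40.RegSpreadSch.isRegularImmersion_regular_of_rel_quasi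
    (pullback.snd f' g) _ hrel'
  exact (Groth.Agent.R2.H6.RegBCSch.mor2_iff_regImm _).mpr
    ⟨MorphismProperty.of_isPullback (P := @IsClosedImmersion) H1 hci, h2⟩

/-- The restriction of `f` to an open on which it is stalkwise flat is flat. -/
theorem flat_ι_comp (f : X ⟶ S) (U : X.Opens) (H : ∀ y : X, y ∈ U → (f.stalkMap y).hom.Flat) :
    Flat (U.ι ≫ f) := by
  rw [Flat.iff_flat_stalkMap]
  intro y
  rw [Scheme.Hom.stalkMap_comp]
  have h1 : (f.stalkMap (U.ι y)).hom.Flat := H _ y.2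
  have h2 : (U.ι.stalkMap y).hom.Flat :=
    RingHom.Flat.of_bijective (ConcreteCategory.bijective_of_isIso (U.ι.stalkMap y))
  exact RingHom.Flat.comp h1 h2

/-- **Slicing by a fibrewise regular sequence** (list version of helper6's `NzdSliceSch.main`). -/
theorem main (f : X ⟶ S) [LocallyOfFinitePresentation f] (x : X)
    (hflat : (f.stalkMap x).hom.Flat) (hs : List ↑(X.presheaf.stalk x))
    (hreg : IsRegular (↑(X.presheaf.stalk x) ⧸ Ideal.map (f.stalkMap x).hom
        (IsLocalRing.maximalIdeal ↑(S.presheaf.stalk (f x))))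
      (hs.map (Ideal.Quotient.mk (Ideal.map (f.stalkMap x).hom
        (IsLocalRing.maximalIdeal ↑(S.presheaf.stalk (f x))))))) :
    ∃ (U : X.Opens) (hU : IsAffineOpen U) (hx : x ∈ U) (hs' : List Γ(X, U)),
      hs'.map (X.presheaf.germ U x hx) = hs ∧
      Mor2.IsRegularClosedImmersion
        (Spec.map (CommRingCat.ofHom (Ideal.Quotient.mk (Ideal.ofList hs'))) ≫ hU.isoSpec.inv) ∧
      x ∈ Set.range ⇑(Spec.map (CommRingCat.ofHom (Ideal.Quotient.mk (Ideal.ofList hs'))) ≫
        hU.fromSpec) ∧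
      Flat (Spec.map (CommRingCat.ofHom (Ideal.Quotient.mk (Ideal.ofList hs'))) ≫
        hU.fromSpec ≫ f) ∧
      LocallyOfFinitePresentation
        (Spec.map (CommRingCat.ofHom (Ideal.Quotient.mk (Ideal.ofList hs'))) ≫ hU.fromSpec ≫ f) ∧
      ∀ (S' : Scheme.{u}) (g : S' ⟶ S), Mor2.IsRegularClosedImmersion
        (pullback.map
          (Spec.map (CommRingCat.ofHom (Ideal.Quotient.mk (Ideal.ofList hs'))) ≫
            hU.isoSpec.inv ≫ U.ι ≫ f) g (U.ι ≫ f) g
          (Spec.map (CommRingCat.ofHom (Ideal.Quotient.mk (Ideal.ofList hs'))) ≫ hU.isoSpec.inv)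
          (𝟙 S') (𝟙 S) (Category.comp_id _)
          ((Category.comp_id g).trans (Category.id_comp g).symm)) := by
  -- charts
  obtain ⟨V, hV, hfxV, -⟩ :=
    exists_isAffineOpen_mem_and_subset (x := f x) (U := (⊤ : S.Opens)) trivial
  obtain ⟨U₀, hU₀, hxU₀, as, has⟩ := Groth.Agent.Lib.Helper5.RegImm.exists_affine_lift X x hs
  let F : X.Opens := ⟨{x | (f.stalkMap x).hom.Flat}, Groth.Agent.S0386.result f⟩
  obtain ⟨W, hW, hxW, hWsub⟩ :=
    exists_isAffineOpen_mem_and_subset (x := x) (U := U₀ ⊓ f ⁻¹ᵁ V ⊓ F) ⟨⟨hxU₀, hfxV⟩, hflat⟩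
  have hWU₀ : W ≤ U₀ := fun y hy => (hWsub hy).1.1
  have e : W ≤ f ⁻¹ᵁ V := fun y hy => (hWsub hy).1.2
  have hWF : ∀ y : X, y ∈ W → (f.stalkMap y).hom.Flat := fun y hy => (hWsub hy).2
  -- the sections on `W`
  let fW : Fin as.length → Γ(X, W) := fun i => (X.presheaf.map (homOfLE hWU₀).op).hom (as.get i)
  have hhs : hs = List.ofFn (fun i : Fin as.length => (X.presheaf.germ W x hxW).hom (fW i)) := by
    rw [← has]
    conv_lhs => rw [← List.ofFn_get as]
    rw [List.map_ofFn]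
    congr 1
    funext i
    exact (TopCat.Presheaf.germ_res_apply X.presheaf (homOfLE hWU₀) x hxW (as.get i)).symm
  subst hhs
  -- ring structures
  let ρ := (f.appLE V W e).hom
  let _ : Algebra Γ(S, V) Γ(X, W) := ρ.toAlgebra
  have hfl : Module.Flat Γ(S, V) Γ(X, W) :=
    Groth.Agent.Lib.Helper2.StalkFlat.flat_appLE_of_flat_stalkMap f hW hV e hWF
  have hfp : Algebra.FinitePresentation Γ(S, V) Γ(X, W) := f.finitePresentation_appLE hV hW e
  let q := (hW.primeIdealOf ⟨x, hxW⟩).asIdeal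
  let _ : Algebra Γ(X, W) (X.presheaf.stalk x) :=
    TopCat.Presheaf.algebra_section_stalk X.presheaf (⟨x, hxW⟩ : W)
  have hlocX : IsLocalization.AtPrime (X.presheaf.stalk x) q := hW.isLocalization_stalk ⟨x, hxW⟩
  set I := Ideal.map (f.stalkMap x).hom (IsLocalRing.maximalIdeal (S.presheaf.stalk (f x)))
    with hI
  have hIJ : I = ((q.under Γ(S, V)).map (algebraMap Γ(S, V) Γ(X, W))).map
      (algebraMap Γ(X, W) (X.presheaf.stalk x)) := map_maximalIdeal_eq f x hV hW hxW e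
  -- the sections lie in `q`
  have hfq : ∀ i, fW i ∈ q := by
    intro i
    rw [mem_primeIdealOf_iff_germ hW x hxW]
    by_contra hnot
    have hu : IsUnit ((X.presheaf.germ W x hxW).hom (fW i)) := by
      rwa [IsLocalRing.mem_maximalIdeal, mem_nonunits_iff, not_not] at hnot
    apply hreg.top_ne_smul
    have hmem : Ideal.Quotient.mk I ((X.presheaf.germ W x hxW).hom (fW i)) ∈
        Ideal.ofList ((List.ofFn fun i : Fin as.length =>
          (X.presheaf.germ W x hxW).hom (fW i)).map (Ideal.Quotient.mk I)) := by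
      apply Ideal.subset_span
      exact List.mem_map.mpr ⟨_, (List.mem_ofFn' _ _).mpr ⟨i, rfl⟩, rfl⟩
    have htop : Ideal.ofList ((List.ofFn fun i : Fin as.length =>
          (X.presheaf.germ W x hxW).hom (fW i)).map (Ideal.Quotient.mk I)) = ⊤ :=
      Ideal.eq_top_of_isUnit_mem _ hmem (hu.map (Ideal.Quotient.mk I))
    rw [htop, smul_eq_mul, Ideal.mul_top]
  -- the fibrewise conditions
  have hnzd : ∀ i : Fin as.length, NzdAt q ((q.under Γ(S, V)).map (algebraMap Γ(S, V) Γ(X, W)) ⊔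
      Ideal.span (fW '' {j | j < i})) (fW i) :=
    fun i => nzdAt_of_isWeaklyRegular q _ I hIJ fW hreg.toIsWeaklyRegular i
  obtain ⟨g, hg, H⟩ := exists_away_slice_list q fW hfq hnzd
  -- output
  have hU : IsAffineOpen (X.basicOpen g) := hW.basicOpen g
  have hxU : x ∈ X.basicOpen g := (mem_basicOpen_iff_notMem_primeIdealOf hW x hxW g).mpr hg
  have hloc : IsLocalization.Away g Γ(X, X.basicOpen g) := hW.isLocalization_basicOpen g
  obtain ⟨hwreg, hflq, hfpq⟩ := H Γ(X, X.basicOpen g)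
  have e' : X.basicOpen g ≤ f ⁻¹ᵁ V := (X.basicOpen_le g).trans e
  set hs' : List Γ(X, X.basicOpen g) :=
    List.ofFn fun i => algebraMap Γ(X, W) Γ(X, X.basicOpen g) (fW i) with hhs'
  have hmap : (algebraMap Γ(X, W) Γ(X, X.basicOpen g)).comp (algebraMap Γ(S, V) Γ(X, W)) =
      (f.appLE V (X.basicOpen g) e').hom := by
    have := Scheme.Hom.appLE_map f e (homOfLE (X.basicOpen_le g)).op
    exact congrArg CommRingCat.Hom.hom this
  rw [hmap] at hflq hfpq
  have hgermU : ∀ i, (X.presheaf.germ (X.basicOpen g) x hxU).hom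
      (algebraMap Γ(X, W) Γ(X, X.basicOpen g) (fW i)) = (X.presheaf.germ W x hxW).hom (fW i) :=
    fun i => TopCat.Presheaf.germ_res_apply X.presheaf (homOfLE (X.basicOpen_le g)) x hxU (fW i)
  have hgerm' : hs'.map (X.presheaf.germ (X.basicOpen g) x hxU) =
      List.ofFn (fun i : Fin as.length => (X.presheaf.germ W x hxW).hom (fW i)) := by
    rw [hhs', List.map_ofFn]
    congr 1
    funext i
    exact hgermU i
  have hle : Ideal.ofList hs' ≤ (hU.primeIdealOf ⟨x, hxU⟩).asIdeal := by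
    rw [Ideal.ofList, Ideal.span_le]
    intro r hr
    obtain ⟨i, rfl⟩ := (List.mem_ofFn' _ _).mp hr
    rw [SetLike.mem_coe, mem_primeIdealOf_iff_germ hU x hxU]
    change (X.presheaf.germ (X.basicOpen g) x hxU).hom _ ∈ _
    rw [hgermU i]
    exact (mem_primeIdealOf_iff_germ hW x hxW (fW i)).mp (hfq i)
  have hregU : IsRegular Γ(X, X.basicOpen g) hs' := by
    refine ⟨hwreg, ?_⟩
    rw [smul_eq_mul, Ideal.mul_top]
    intro htop
    exact (hU.primeIdealOf ⟨x, hxU⟩).isPrime.ne_top (top_le_iff.mp (htop ▸ hle))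
  obtain ⟨h1, h2, h3, h4⟩ := regular_slice f hV hU e' hs' hregU hflq hfpq
  refine ⟨X.basicOpen g, hU, hxU, hs', hgerm', h1, h4 x hxU hle, h2, h3, ?_⟩
  intro S' g'
  have hUF : ∀ y : X, y ∈ X.basicOpen g → (f.stalkMap y).hom.Flat :=
    fun y hy => hWF y (X.basicOpen_le g hy)
  have : Flat ((X.basicOpen g).ι ≫ f) := flat_ι_comp f _ hUF
  have hZflat : Flat (Spec.map (CommRingCat.ofHom (Ideal.Quotient.mk (Ideal.ofList hs'))) ≫
      hU.isoSpec.inv ≫ (X.basicOpen g).ι ≫ f) := by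
    rw [← Category.assoc hU.isoSpec.inv, IsAffineOpen.isoSpec_inv_ι]
    exact h2
  exact mor2_baseChange ((X.basicOpen g).ι ≫ f) _ h1 _ hZflat g' _ _

end Groth.Agent.R2.H40.SliceListSch
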