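import Mathlib
import Groth.Agent.Lib.Helper23FLoc3
import Groth.Agent.Lib.Helper23FinType2
import Groth.Agent.Lib.Helper2Push

/-!
# Sections of a direct image over an affine open from `H^0` of the preimage (helper85)

* `h0Equiv M : H^0(X, M) ≃+ Γ(M, ⊤)`, semilinear for the action of global functions (`h0Equiv_smul`);
* `toSpecΓV π hV : π⁻¹V ⟶ Spec Γ(Z, V)` for an affine open `V` of the target of `π : Y ⟶ Z`, and
  `topIso_toGlobal`: the induced ring map `Γ(Z, V) → Γ(π⁻¹V, ⊤) ≅ Γ(Y, π⁻¹V)` is `π.app V`;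
* `finite_Γ_pushforward`: if `H^0(π⁻¹V, L)` is a finite `Γ(Z, V)`-module (structure through
  `toSpecΓV`), then `Γ(π_* L, V)` is a finite `Γ(Z, V)`-module.
-/

set_option autoImplicit false
set_option backward.isDefEq.respectTransparency false
set_option linter.style.haveILetI false
universe u
open CategoryTheory CategoryTheory.Limits AlgebraicGeometry TopologicalSpace Opposite

namespace Groth.Agent.R2.H85.PushFin

open Groth.Agent.Lib.Helper23.AffVanish Groth.Agent.Lib.Helper23.FLocSch Groth.Agent.Lib.Helper23.FLoc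
open Groth.Agent.Lib.Helper6

section H0

variable {X : Scheme.{u}} (M : X.Modules)

/-- `H^0(⊤, M) ≃ H^0(X, M)`, linearly -/
noncomputable def topLE : HM M 0 ⊤ ≃ₗ[Γ(X, ⊤)] Coh.HH X M 0 :=
  LinearEquiv.ofBijective (topL M 0) (topL_bijective M 0)

/-- `H^0(X, M) ≃ Γ(M, ⊤)` -/
noncomputable def h0Equiv : Coh.HH X M 0 ≃+ Γ(M, ⊤) :=
  (topLE M).symm.toAddEquiv.trans (sec M ⊤)

theorem h0Equiv_smul (r : Γ(X, ⊤)) (x : Coh.HH X M 0) :
    h0Equiv M (r • x) = r • h0Equiv M x := by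
  change sec M ⊤ ((topLE M).symm (r • x)) = r • sec M ⊤ ((topLE M).symm x)
  rw [LinearEquiv.map_smul, sec_smul]
  congr 1
  exact ConcreteCategory.congr_hom (X.presheaf.map_id _) r

end H0

section Fin

variable {Y Z : Scheme.{u}} (π : Y ⟶ Z) (L : Y.Modules) {V : Z.Opens} (hV : IsAffineOpen V)

/-- the structure morphism `π⁻¹V ⟶ Spec Γ(Z, V)` -/
noncomputable abbrev toSpecΓV : ((π ⁻¹ᵁ V : Y.Opens) : Scheme.{u}) ⟶ Spec (CommRingCat.of Γ(Z, V)) :=
  (π ∣_ V) ≫ hV.isoSpec.hom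

theorem toSpecΓV_appTop :
    (Scheme.ΓSpecIso Γ(Z, V)).inv ≫ (toSpecΓV π hV).appTop ≫ (π ⁻¹ᵁ V).topIso.hom = π.app V := by
  rw [toSpecΓV, Scheme.Hom.comp_appTop, IsAffineOpen.isoSpec_hom_appTop, morphismRestrict_appTop]
  simp only [Category.assoc, Iso.inv_hom_id_assoc, Scheme.Opens.topIso, Functor.mapIso_hom,
    Functor.mapIso_inv, Iso.op_hom, Iso.op_inv, eqToIso.hom, eqToIso.inv, eqToHom_op]
  rw [π.naturality_assoc, ← Functor.map_comp, ← Functor.map_comp]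
  convert Category.comp_id _
  exact Y.presheaf.map_id _

theorem topIso_toGlobal (b : Γ(Z, V)) :
    (π ⁻¹ᵁ V).topIso.hom (Coh.toGlobal (toSpecΓV π hV) b) = π.app V b :=
  ConcreteCategory.congr_hom (toSpecΓV_appTop π hV) b

/-- sections of the restriction to an open subscheme over `⊤` are the sections over the open -/
noncomputable def restrictTopEquiv (U : Y.Opens) : Γ(L.restrict U.ι, ⊤) ≃+ Γ(L, U) :=
  (asIso (L.presheaf.map (eqToHom U.ι_image_top.symm).op)).addCommGroupIsoToAddEquiv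

theorem restrictTopEquiv_smul (U : Y.Opens) (r : Γ((U : Scheme.{u}), ⊤)) (x : Γ(L.restrict U.ι, ⊤)) :
    restrictTopEquiv L U (r • x) = U.topIso.hom r • restrictTopEquiv L U x := by
  have h1 := Scheme.Modules.smul_restrictAppIso_hom_apply U.ι L ⊤ r x
  have h2 := Scheme.Modules.map_smul L (eqToHom U.ι_image_top.symm) ((U.ι.appIso ⊤).inv r)
    (show Γ(L, U.ι ''ᵁ ⊤) from x)
  have h3 : (show Γ(L, U.ι ''ᵁ ⊤) from (r • x)) =
      ((U.ι.appIso ⊤).inv r) • (show Γ(L, U.ι ''ᵁ ⊤) from x) := h1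
  change L.presheaf.map (eqToHom U.ι_image_top.symm).op (show Γ(L, U.ι ''ᵁ ⊤) from (r • x)) = _
  rw [h3, h2]
  congr 1
  simp [Scheme.Opens.topIso]
  rfl

/-- **finiteness of the sections of a direct image from finiteness of `H^0`** -/
theorem finite_Γ_pushforward
    (h : @Module.Finite Γ(Z, V)
      (Coh.HH ((π ⁻¹ᵁ V : Y.Opens) : Scheme.{u}) (L.restrict (π ⁻¹ᵁ V).ι) 0) _ _
      (Module.compHom _ (Coh.toGlobal (toSpecΓV π hV)))) :
    Module.Finite Γ(Z, V) Γ((Scheme.Modules.pushforward π).obj L, V) := by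
  letI : Module Γ(Z, V) (Coh.HH ((π ⁻¹ᵁ V : Y.Opens) : Scheme.{u}) (L.restrict (π ⁻¹ᵁ V).ι) 0) :=
    Module.compHom _ (Coh.toGlobal (toSpecΓV π hV))
  let e : Coh.HH ((π ⁻¹ᵁ V : Y.Opens) : Scheme.{u}) (L.restrict (π ⁻¹ᵁ V).ι) 0 ≃+
      Γ((Scheme.Modules.pushforward π).obj L, V) :=
    (h0Equiv (L.restrict (π ⁻¹ᵁ V).ι)).trans (restrictTopEquiv L (π ⁻¹ᵁ V))
  refine (Groth.Agent.Lib.Helper23.FinType.finite_iff_of_semilinear (RingHom.id Γ(Z, V))
    Function.surjective_id e ?_).1 h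
  intro b x
  change restrictTopEquiv L (π ⁻¹ᵁ V) (h0Equiv (L.restrict (π ⁻¹ᵁ V).ι)
    ((Coh.toGlobal (toSpecΓV π hV) b : Γ(((π ⁻¹ᵁ V : Y.Opens) : Scheme.{u}), ⊤)) • x)) = b • e x
  rw [h0Equiv_smul, restrictTopEquiv_smul, topIso_toGlobal]
  rfl

end Fin

end Groth.Agent.R2.H85.PushFin
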