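import Mathlib
import Groth.Prelude.Def_ega3
import Groth.Agent.S0002
import Groth.Agent.R2.H85PushFin
import Groth.Agent.R2.H5CohThick
import Groth.Agent.R2.H34SteinAsm

/-!
# helper40: Stein factorisation (PROJ:stein; S4463)

`Y' := f.normalization`, `f' := f.toNormalization`, `π := f.fromNormalization`.

* SF-1 `isIso_toNormalization_app_preimage`: `f` qcqs universally closed, `V ⊆ Y` affine open ⇒
  `O_{Y'}(π⁻¹V) ≅ O_X(f⁻¹V)`.
* SF-2 `isProper_toNormalization`.
* SF-3 `finite_app_of_isProper` (from S0002), `isFinite_fromNormalization`.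
* SF-4 `fiberMapOver_surjective_and_connectedComponent` (topology on fibres).
* `stein_fibre` : the shape of S4463, from helper64's ST-0 (in helper34's form `SteinAsm.ST0`).
-/

set_option autoImplicit false
set_option linter.style.haveILetI false
universe u

open CategoryTheory CategoryTheory.Limits AlgebraicGeometry

namespace Groth.Agent.R2.H40.SteinFact

open Groth.Agent.R2.H85.PushFin

section Normalization


variable {X Y : Scheme.{u}} (f : X ⟶ Y)

/-- For a universally closed morphism, `O_Y(V) → O_X(f⁻¹V)` is integral for every affine open `V`. -/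
theorem isIntegral_app_of_universallyClosed [UniversallyClosed f] (V : Y.Opens)
    (hV : IsAffineOpen V) : (f.app V).hom.IsIntegral := by
  haveI : IsAffine (V : Scheme.{u}) := hV
  have h := isIntegral_appTop_of_universallyClosed (f ∣_ V)
  rw [morphismRestrict_appTop] at h
  have hVV : V.ι ''ᵁ ⊤ = V := by simp
  have hnat := f.naturality (eqToHom hVV).op
  have h1 : (f.app (V.ι ''ᵁ ⊤)).hom.IsIntegral :=
    (RingHom.isIntegral_respectsIso.cancel_right_isIso _ _).mp h
  have h2 : (Y.presheaf.map (eqToHom hVV).op ≫ f.app (V.ι ''ᵁ ⊤)).hom.IsIntegral :=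
    (RingHom.isIntegral_respectsIso.cancel_left_isIso _ _).mpr h1
  rw [hnat] at h2
  exact (RingHom.isIntegral_respectsIso.cancel_right_isIso _ _).mp h2

/-- **SF-1.** For `f` qcqs and universally closed, `O_{Y'}(π⁻¹V) → O_X(f⁻¹V)` is an isomorphism for
every affine open `V` of `Y`, where `Y' = f.normalization`. -/
theorem isIso_toNormalization_app_preimage [QuasiCompact f] [QuasiSeparated f]
    [UniversallyClosed f] (V : Y.Opens) (hV : IsAffineOpen V) :
    IsIso (f.toNormalization.app (f.fromNormalization ⁻¹ᵁ V)) := by
  have h := f.toNormalization_app_preimage ⟨V, hV⟩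
  letI := (f.app V).hom.toAlgebra
  have hint : Algebra.IsIntegral Γ(Y, V) Γ(X, f ⁻¹ᵁ V) :=
    ⟨isIntegral_app_of_universallyClosed f V hV⟩
  have htop : integralClosure Γ(Y, V) Γ(X, f ⁻¹ᵁ V) = ⊤ := integralClosure_eq_top_iff.mpr hint
  dsimp only at h
  rw [h]
  refine @IsIso.comp_isIso _ _ _ _ _ _ _ inferInstance
    (@IsIso.comp_isIso _ _ _ _ _ _ _ ?_ inferInstance)
  rw [ConcreteCategory.isIso_iff_bijective]
  refine ⟨Subtype.val_injective, fun x => ⟨⟨x, ?_⟩, rfl⟩⟩
  rw [htop]
  trivial



/-- `f.app V` factors through the normalization. -/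
theorem fromNormalization_app_comp_toNormalization_app [QuasiCompact f] [QuasiSeparated f]
    (V : Y.Opens) :
    f.fromNormalization.app V ≫ f.toNormalization.app (f.fromNormalization ⁻¹ᵁ V) =
      f.app V ≫ X.presheaf.map (eqToHom (by
        rw [← Scheme.Hom.comp_preimage, f.toNormalization_fromNormalization])).op := by
  have h := Scheme.Hom.congr_app f.toNormalization_fromNormalization V
  rw [Scheme.Hom.comp_app] at h
  exact h

/-- **SF-3.** If `f` is qcqs universally closed and `O_Y(V) → O_X(f⁻¹V)` is finite for all affine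
opens `V`, then `Y' → Y` is finite. -/
theorem isFinite_fromNormalization [QuasiCompact f] [QuasiSeparated f] [UniversallyClosed f]
    (hfin : ∀ V : Y.Opens, IsAffineOpen V → (f.app V).hom.Finite) :
    IsFinite f.fromNormalization := by
  rw [isFinite_iff]
  refine ⟨inferInstance, fun V hV => ?_⟩
  have h : (f.app V ≫ X.presheaf.map (eqToHom (by
      rw [← Scheme.Hom.comp_preimage, f.toNormalization_fromNormalization] :
      f.toNormalization ⁻¹ᵁ f.fromNormalization ⁻¹ᵁ V = f ⁻¹ᵁ V)).op).hom.Finite :=
    (RingHom.finite_respectsIso.cancel_right_isIso (f.app V) _).mpr (hfin V hV)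
  rw [← fromNormalization_app_comp_toNormalization_app f V] at h
  haveI := isIso_toNormalization_app_preimage f V hV
  exact (RingHom.finite_respectsIso.cancel_right_isIso _
    (f.toNormalization.app (f.fromNormalization ⁻¹ᵁ V))).mp h

theorem isProper_toNormalization [IsProper f] : IsProper f.toNormalization := by
  haveI : IsProper (f.toNormalization ≫ f.fromNormalization) := by
    rw [f.toNormalization_fromNormalization]; infer_instance
  exact IsProper.of_comp f.toNormalization f.fromNormalization




/-- **SF-3'.** For `f` proper over a locally Noetherian `Y`, `O_Y(V) → O_X(f⁻¹V)` is finite for every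
affine open `V` (finiteness of `H^0`, from S0002). -/
theorem finite_app_of_isProper [IsProper f] [IsLocallyNoetherian Y] (V : Y.Opens)
    (hV : IsAffineOpen V) : (f.app V).hom.Finite := by
  haveI : IsNoetherianRing Γ(Y, V) := IsLocallyNoetherian.component_noetherian ⟨V, hV⟩
  let W : Scheme.{u} := ((f ⁻¹ᵁ V : X.Opens) : Scheme.{u})
  let g : W ⟶ Spec (CommRingCat.of Γ(Y, V)) := toSpecΓV f hV
  letI : W.Over (Spec (CommRingCat.of Γ(Y, V))) := ⟨g⟩
  haveI : IsProper (W ↘ Spec (CommRingCat.of Γ(Y, V))) := by
    change IsProper ((f ∣_ V) ≫ hV.isoSpec.hom)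
    infer_instance
  have hfin := Groth.Agent.S0002.result Γ(Y, V) W (Coh.structureModule W)
    (Groth.Agent.R2.H5.CohThick.isCoh_structureModule W) 0
  -- transport to `Γ(W, ⊤)`
  let ρ : Γ(Y, V) →+* Γ(W, ⊤) := ((Scheme.ΓSpecIso Γ(Y, V)).inv ≫ g.appTop).hom
  have h3 : ρ.Finite := by
    letI := ρ.toAlgebra
    change Module.Finite Γ(Y, V) Γ(W, ⊤)
    let e0 : Γ(Coh.structureModule W, ⊤) ≃+ Γ(W, ⊤) := AddEquiv.refl _
    refine (Groth.Agent.Lib.Helper23.FinType.finite_iff_of_semilinear (RingHom.id Γ(Y, V))
      Function.surjective_id ((h0Equiv (Coh.structureModule W)).trans e0) ?_).1 hfin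
    intro b x
    have := h0Equiv_smul (Coh.structureModule W) (ρ b) x
    exact this
  have h5 := toSpecΓV_appTop f hV
  rw [← h5, ← Category.assoc]
  exact (RingHom.finite_respectsIso.cancel_right_isIso _ _).mpr h3

end Normalization

section Fibres


variable {X Y Y' : Scheme.{u}} (f' : X ⟶ Y') (f : X ⟶ Y) (π : Y' ⟶ Y) (w : f' ≫ π = f) (y : Y)

theorem fiberMapOver_fiberι :
    CohIII.fiberMapOver f' f π w y ≫ π.fiberι y = f.fiberι y ≫ f' := by
  exact pullback.lift_fst _ _ _

theorem fiberMapOver_fiberι_apply (x : f.fiber y) :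
    π.fiberι y ((CohIII.fiberMapOver f' f π w y).base x) = f' (f.fiberι y x) := by
  have h := fiberMapOver_fiberι f' f π w y
  exact congrArg (fun g => g.base x) h

/-- **SF-4.** Topology of the Stein factorisation on fibres: if `f' : X ⟶ Y'` has connected (nonempty)
fibres and the fibre `Y'_y` is discrete, then `X_y → Y'_y` is surjective and its fibres are exactly
the connected components of `X_y`. -/
theorem fiberMapOver_surjective_and_connectedComponent
    [DiscreteTopology (π.fiber y)]
    (hconn : ∀ y' : Y', _root_.IsConnected (f' ⁻¹' {y'})) :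
    Function.Surjective (CohIII.fiberMapOver f' f π w y).base ∧
    ∀ x x' : ↥(f.fiber y),
      (CohIII.fiberMapOver f' f π w y).base x = (CohIII.fiberMapOver f' f π w y).base x' ↔
      connectedComponent x = connectedComponent x' := by
  set q := CohIII.fiberMapOver f' f π w y with hq
  have hιf := (f.fiberι y).isEmbedding
  have hιπ := (π.fiberι y).isEmbedding
  -- preimage description
  have hpre : ∀ y'' : π.fiber y, q.base ⁻¹' {y''} =
      (f.fiberι y) ⁻¹' (f' ⁻¹' {π.fiberι y y''}) := by
    intro y''
    ext x
    simp only [Set.mem_preimage, Set.mem_singleton_iff]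
    rw [← fiberMapOver_fiberι_apply f' f π w y x]
    exact ⟨fun h => by rw [← hq, h], fun h => hιπ.injective h⟩
  -- the fibre of `f'` over a point of `Y'_y` lies in `X_y`
  have hsub : ∀ y'' : π.fiber y, f' ⁻¹' {π.fiberι y y''} ⊆ Set.range (f.fiberι y) := by
    intro y'' x hx
    rw [Scheme.Hom.range_fiberι]
    simp only [Set.mem_preimage, Set.mem_singleton_iff] at hx ⊢
    have h1 : π (π.fiberι y y'') = y := by
      have : π.fiberι y y'' ∈ Set.range (π.fiberι y) := ⟨y'', rfl⟩
      rw [Scheme.Hom.range_fiberι] at this
      exact this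
    rw [← w]
    change π (f' x) = y
    rw [hx, h1]
  have himg : ∀ y'' : π.fiber y, (f.fiberι y) '' (q.base ⁻¹' {y''}) = f' ⁻¹' {π.fiberι y y''} := by
    intro y''
    rw [hpre, Set.image_preimage_eq_inter_range, Set.inter_eq_left.mpr (hsub y'')]
  have hconnq : ∀ y'' : π.fiber y, _root_.IsConnected (q.base ⁻¹' {y''}) := by
    intro y''
    have h1 := hconn (π.fiberι y y'')
    rw [← himg y''] at h1
    exact ⟨(Set.image_nonempty.mp h1.nonempty), (hιf.toIsInducing.isPreconnected_image).mp h1.isPreconnected⟩
  refine ⟨fun y'' => ?_, fun x x' => ⟨fun h => ?_, fun h => ?_⟩⟩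
  · obtain ⟨x, hx⟩ := (hconnq y'').nonempty
    exact ⟨x, hx⟩
  · have hc := hconnq (q.base x)
    have hx : x ∈ q.base ⁻¹' {q.base x} := rfl
    have hx' : x' ∈ q.base ⁻¹' {q.base x} := h.symm
    have := hc.isPreconnected.subset_connectedComponent hx hx'
    exact connectedComponent_eq this
  · have hcont : Continuous q.base := q.continuous
    have h1 := hcont.image_connectedComponent_eq_singleton x
    have hx' : x' ∈ connectedComponent x := by
      rw [h]; exact mem_connectedComponent
    have : q.base x' ∈ q.base '' connectedComponent x := ⟨x', hx', rfl⟩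
    rw [h1] at this
    exact this.symm

end Fibres

section Assembly

open Groth.Agent.R2.H34.SteinAsm

variable {X Y : Scheme.{u}} (f : X ⟶ Y)

/-- The fibres of the first Stein factor `X ⟶ Y'` are connected and nonempty (from ST-0). -/
theorem isConnected_toNormalization_preimage (h0 : ST0.{u}) [IsProper f] [IsLocallyNoetherian Y]
    (y' : f.normalization) : _root_.IsConnected (f.toNormalization ⁻¹' {y'}) := by
  haveI : IsFinite f.fromNormalization :=
    isFinite_fromNormalization f (finite_app_of_isProper f)
  haveI : IsLocallyNoetherian f.normalization :=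
    LocallyOfFiniteType.isLocallyNoetherian f.fromNormalization
  haveI : IsProper f.toNormalization := isProper_toNormalization f
  obtain ⟨_, ⟨V, hV, rfl⟩, hyV, -⟩ :=
    Y.isBasis_affineOpens.exists_subset_of_mem_open (Set.mem_univ (f.fromNormalization y'))
      isOpen_univ
  have hc := connectedSpace_fiber_of_isIso_app h0 f.toNormalization y'
    (f.fromNormalization ⁻¹ᵁ V) (hV.preimage f.fromNormalization) hyV
    (isIso_toNormalization_app_preimage f V hV)
  rw [isConnected_iff_connectedSpace]
  exact (f.toNormalization.fiberHomeo y').surjective.connectedSpace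
    (f.toNormalization.fiberHomeo y').continuous

/-- **Stein factorisation on fibres** (the shape of S4463), from ST-0. -/
theorem stein_fibre (h0 : ST0.{u}) [IsProper f] [IsLocallyNoetherian Y] (y : Y) :
    Finite ↥(f.fromNormalization.fiber y) ∧
    Function.Surjective (CohIII.fiberMapOver f.toNormalization f f.fromNormalization
        f.toNormalization_fromNormalization y).base ∧
    ∀ x x' : ↥(f.fiber y),
      (CohIII.fiberMapOver f.toNormalization f f.fromNormalization
        f.toNormalization_fromNormalization y).base x =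
        (CohIII.fiberMapOver f.toNormalization f f.fromNormalization
          f.toNormalization_fromNormalization y).base x' ↔
      connectedComponent x = connectedComponent x' := by
  haveI : IsFinite f.fromNormalization :=
    isFinite_fromNormalization f (finite_app_of_isProper f)
  refine ⟨inferInstance, ?_⟩
  exact fiberMapOver_surjective_and_connectedComponent f.toNormalization f f.fromNormalization
    f.toNormalization_fromNormalization y (isConnected_toNormalization_preimage f h0)

end Assembly

end Groth.Agent.R2.H40.SteinFact
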