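import Mathlib
import Groth.Prelude.Def_ega3
import Groth.Agent.S1340
import Groth.Agent.R2.H40SteinMax
import Groth.Agent.R2.H40SteinAsm2

/-!
# helper40: `O_Y → f_* O_X` near a normal point (PROJ:stein; S4480)
-/

set_option autoImplicit false
set_option linter.style.haveILetI false
universe u

open CategoryTheory CategoryTheory.Limits AlgebraicGeometry IsLocalRing

namespace Groth.Agent.R2.H40.SteinNormal

section Alg

variable {A B : Type*} [CommRing A] [CommRing B]

/-- uniform denominator for a finite ring map that is "surjective at a prime". -/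
theorem exists_uniform_denominator (φ : A →+* B) (hφ : φ.Finite) (p : Ideal A) [p.IsPrime]
    (H : ∀ b : B, ∃ s : A, s ∉ p ∧ ∃ a : A, φ a = φ s * b) :
    ∃ s : A, s ∉ p ∧ ∀ b : B, ∃ a : A, φ a = φ s * b := by
  classical
  letI := φ.toAlgebra
  obtain ⟨T, hT⟩ := (show Module.Finite A B from hφ).fg_top
  choose sb hsb ab hab using H
  refine ⟨∏ t ∈ T, sb t, ?_, ?_⟩
  · intro hmem
    obtain ⟨t, -, ht⟩ := (Ideal.IsPrime.prod_mem_iff).mp hmem
    exact hsb t ht
  · intro b
    have hb : b ∈ Submodule.span A (T : Set B) := by rw [hT]; trivial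
    induction hb using Submodule.span_induction with
    | mem x hx =>
      have hx' : x ∈ T := hx
      refine ⟨(∏ t ∈ T.erase x, sb t) * ab x, ?_⟩
      rw [map_mul, hab x, ← mul_assoc, ← map_mul, Finset.prod_erase_mul T sb hx']
    | zero => exact ⟨0, by simp⟩
    | add x y _ _ hx hy =>
      obtain ⟨a, ha⟩ := hx
      obtain ⟨a', ha'⟩ := hy
      exact ⟨a + a', by rw [map_add, ha, ha', mul_add]⟩
    | smul c x _ hx =>
      obtain ⟨a, ha⟩ := hx
      refine ⟨c * a, ?_⟩
      rw [map_mul, ha, Algebra.smul_def]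
      change φ c * _ = _ * (φ c * x)
      ring

/-- A ring map which is injective and "surjective up to `r`" becomes bijective after inverting `r`. -/
theorem bijective_of_localizations' {A' B' : Type*} [CommRing A'] [CommRing B'] [Algebra A A']
    [Algebra B B'] (e : A →+* B) (hinj : Function.Injective e) (r : A)
    (hsurj : ∀ b : B, ∃ a : A, e a = e r * b)
    [IsLocalization.Away r A'] [IsLocalization.Away (e r) B'] (e' : A' →+* B')
    (comm : e'.comp (algebraMap A A') = (algebraMap B B').comp e) : Function.Bijective e' := by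
  have hM : (Submonoid.powers r).map e = Submonoid.powers (e r) := Submonoid.map_powers _ _
  haveI : IsLocalization ((Submonoid.powers r).map e) B' := by rw [hM]; infer_instance
  have he' : e' = IsLocalization.map B' e (Submonoid.powers r).le_comap_map := by
    apply IsLocalization.ringHom_ext (Submonoid.powers r)
    rw [comm, IsLocalization.map_comp]
  refine ⟨?_, ?_⟩
  · rw [he']
    exact IsLocalization.map_injective_of_injective _ _ _ hinj
  · intro y
    obtain ⟨⟨b, ⟨_, n, rfl⟩⟩, hy⟩ := IsLocalization.surj (Submonoid.powers (e r)) y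
    obtain ⟨a, ha⟩ := hsurj b
    have hcomm : ∀ x : A, e' (algebraMap A A' x) = algebraMap B B' (e x) := fun x =>
      congrArg (fun ψ => ψ x) comm
    refine ⟨algebraMap A A' a * IsLocalization.Away.invSelf r ^ (n + 1), ?_⟩
    have hu : IsUnit (algebraMap B B' (e r) ^ (n + 1)) :=
      (IsLocalization.Away.algebraMap_isUnit (e r)).pow _
    apply hu.mul_left_injective
    simp only
    have h1 : e' (IsLocalization.Away.invSelf r) * algebraMap B B' (e r) = 1 := by
      rw [← hcomm, ← map_mul, mul_comm, IsLocalization.Away.mul_invSelf, map_one]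
    calc e' (algebraMap A A' a * IsLocalization.Away.invSelf r ^ (n + 1)) *
          algebraMap B B' (e r) ^ (n + 1)
        = e' (algebraMap A A' a) *
            (e' (IsLocalization.Away.invSelf r) * algebraMap B B' (e r)) ^ (n + 1) := by
          rw [map_mul, map_pow, mul_pow]; ring
      _ = algebraMap B B' (e r * b) := by rw [h1, one_pow, mul_one, hcomm, ha]
      _ = y * algebraMap B B' (e r) ^ (n + 1) := by
          rw [map_mul, pow_succ, ← mul_assoc, ← map_pow]
          have := hy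
          simp only at this
          rw [this]; ring

end Alg

section Geo

variable {X Y : Scheme.{u}}

/-- variant of `S1340.isIso_app_basicOpen`: injective and surjective up to `r` suffices. -/
lemma isIso_app_basicOpen' (g : X ⟶ Y) (W : Y.Opens) (hW : IsAffineOpen W)
    (hc : IsCompact (g ⁻¹ᵁ W).1) (hqs : IsQuasiSeparated (g ⁻¹ᵁ W).1) (r : Γ(Y, W))
    (hinj : Function.Injective (g.app W).hom)
    (hsurj : ∀ b : Γ(X, g ⁻¹ᵁ W), ∃ a : Γ(Y, W), (g.app W).hom a = (g.app W).hom r * b) :
    IsIso (g.app (Y.basicOpen r)) := by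
  have h1 : IsLocalization.Away r Γ(Y, Y.basicOpen r) := hW.isLocalization_basicOpen r
  have h2 : IsLocalization.Away (g.app W r) Γ(X, X.basicOpen (g.app W r)) :=
    isLocalization_basicOpen_of_qcqs hc hqs _
  have hpre : g ⁻¹ᵁ Y.basicOpen r = X.basicOpen (g.app W r) := g.preimage_basicOpen r
  refine @IsIso.of_isIso_comp_right _ _ _ _ _ _ (X.presheaf.map (eqToHom hpre.symm).op) _ ?_
  rw [ConcreteCategory.isIso_iff_bijective]
  refine bijective_of_localizations' (g.app W).hom hinj r hsurj _ ?_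
  ext x
  simp only [RingHom.algebraMap_toAlgebra, CommRingCat.hom_comp, RingHom.comp_apply]
  have := g.naturality (homOfLE (Y.basicOpen_le r)).op
  simp only [← CommRingCat.comp_apply]
  rw [this, Category.assoc, ← Functor.map_comp]
  rfl


open Groth.Agent.R2.H40.SteinMax Groth.Agent.R2.H40.SteinFact in
/-- **Key step of S4480**: near a normal point `y`, if `R(Y)` is algebraically closed in `R(X)`, there is an
affine open neighbourhood `U` of `y` with `O_Y(U) ≅ O_X(f⁻¹U)`. -/
theorem exists_affine_nhd_isIso_app [IsIntegral X] [IsIntegral Y] [IsLocallyNoetherian Y]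
    (f : X ⟶ Y) [IsProper f] (hdom : f.base (genericPoint X) ⤳ genericPoint Y)
    (halg : ∀ x : X.functionField,
      (∃ q : Polynomial Y.functionField, q ≠ 0 ∧
        Polynomial.eval₂ (CohIII.stalkToFunctionField f (genericPoint Y) hdom) x q = 0) →
      x ∈ Set.range (CohIII.stalkToFunctionField f (genericPoint Y) hdom))
    (y : Y) (hy : IsIntegrallyClosed (Y.presheaf.stalk y)) :
    ∃ U : Y.Opens, IsAffineOpen U ∧ y ∈ U ∧ IsIso (f.app U) := by
  obtain ⟨_, ⟨V₀, hV₀, rfl⟩, hyV₀, -⟩ :=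
    Y.isBasis_affineOpens.exists_subset_of_mem_open (Set.mem_univ y) isOpen_univ
  have hηY : genericPoint Y ∈ V₀ := (genericPoint_specializes y).mem_open V₀.2 hyV₀
  have hηX : genericPoint X ∈ f ⁻¹ᵁ V₀ := hdom.mem_open V₀.2 hηY
  set σ := CohIII.stalkToFunctionField f (genericPoint Y) hdom with hσ
  let γ : Γ(Y, V₀) →+* Y.functionField := (Y.presheaf.germ V₀ (genericPoint Y) hηY).hom
  let β : Γ(X, f ⁻¹ᵁ V₀) →+* X.functionField :=
    (X.presheaf.germ (f ⁻¹ᵁ V₀) (genericPoint X) hηX).hom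
  let φ : Γ(Y, V₀) →+* Γ(X, f ⁻¹ᵁ V₀) := (f.app V₀).hom
  have hφfin : φ.Finite := finite_app_of_isProper f V₀ hV₀
  have hσγ : ∀ a, σ (γ a) = β (φ a) := fun a =>
    stalkToFunctionField_germ f (genericPoint Y) hdom V₀ hηY a
  have hβinj : Function.Injective β := germ_injective_of_isIntegral X (genericPoint X) hηX
  have hγinj : Function.Injective γ := germ_injective_of_isIntegral Y (genericPoint Y) hηY
  have hσinj : Function.Injective σ := σ.injective
  have hφinj : Function.Injective φ := by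
    intro a a' h
    apply hγinj
    apply hσinj
    rw [hσγ, hσγ, h]
  -- `γ` through the stalk at `y`
  have hγy : ∀ a, algebraMap (Y.presheaf.stalk y) Y.functionField
      (Y.presheaf.germ V₀ y hyV₀ a) = γ a := by
    intro a
    rw [RingHom.algebraMap_toAlgebra]
    exact TopCat.Presheaf.germ_stalkSpecializes_apply _ _ _ _
  letI algst := Y.presheaf.algebra_section_stalk ⟨y, hyV₀⟩
  haveI hloc := hV₀.isLocalization_stalk ⟨y, hyV₀⟩
  set p := (hV₀.primeIdealOf ⟨y, hyV₀⟩).asIdeal with hp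
  have H : ∀ b : Γ(X, f ⁻¹ᵁ V₀), ∃ s : Γ(Y, V₀), s ∉ p ∧ ∃ a : Γ(Y, V₀), φ a = φ s * b := by
    intro b
    obtain ⟨P, hP, hPb⟩ := hφfin.to_isIntegral b
    have hcomp : σ.comp γ = β.comp φ := RingHom.ext hσγ
    have h0 : Polynomial.eval₂ (σ.comp γ) (β b) P = 0 := by
      rw [hcomp, ← Polynomial.hom_eval₂, hPb, map_zero]
    obtain ⟨t, ht⟩ := halg (β b) ⟨P.map γ, (hP.map γ).ne_zero, by
      rw [Polynomial.eval₂_map]; exact h0⟩
    have htP : Polynomial.eval₂ γ t P = 0 := by
      apply hσinj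
      rw [Polynomial.hom_eval₂, ht, h0, map_zero]
    have htint : IsIntegral (Y.presheaf.stalk y) t := by
      refine ⟨P.map (Y.presheaf.germ V₀ y hyV₀).hom, hP.map _, ?_⟩
      rw [Polynomial.eval₂_map]
      have : (algebraMap (Y.presheaf.stalk y) Y.functionField).comp
          (Y.presheaf.germ V₀ y hyV₀).hom = γ := RingHom.ext hγy
      rw [this]
      exact htP
    obtain ⟨u, hu⟩ := IsIntegrallyClosed.isIntegral_iff.mp htint
    obtain ⟨⟨a, s⟩, has⟩ := IsLocalization.surj p.primeCompl u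
    refine ⟨s.1, s.2, a, ?_⟩
    apply hβinj
    have has' : u * (Y.presheaf.germ V₀ y hyV₀ s.1) = Y.presheaf.germ V₀ y hyV₀ a := has
    have h1 : γ s.1 * t = γ a := by
      rw [← hγy, ← hγy, ← hu, ← map_mul, mul_comm, has']
    rw [map_mul, ← hσγ, ← hσγ, ← ht, ← map_mul, h1]
  obtain ⟨s, hs, hsurj⟩ := exists_uniform_denominator φ hφfin p H
  refine ⟨Y.basicOpen s, hV₀.basicOpen s, ?_, ?_⟩
  · rw [Y.mem_basicOpen s y hyV₀]
    exact IsLocalization.map_units (Y.presheaf.stalk y) (⟨s, hs⟩ : p.primeCompl)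
  · exact isIso_app_basicOpen' f V₀ hV₀ (f.isCompact_preimage hV₀.isCompact)
      (f.isQuasiSeparated_preimage hV₀.isQuasiSeparated) s hφinj hsurj


/-- If `f` is qcqs and `O_Y(U) ≅ O_X(f⁻¹U)` for an affine open `U`, the same holds for every open
`V ≤ U` (sheaf argument on the basis of basic opens of `U`). -/
theorem isIso_app_of_le_of_isAffineOpen (f : X ⟶ Y) [QuasiCompact f] [QuasiSeparated f]
    (U : Y.Opens) (hU : IsAffineOpen U) (hf : IsIso (f.app U)) (V : Y.Opens) (hVU : V ≤ U) :
    IsIso (f.app V) := by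
  haveI : IsAffine (U : Scheme.{u}) := hU
  let g := f ∣_ U
  have hUtop : U.ι ''ᵁ ⊤ = U := by simp
  have hgtop : IsIso (g.app ⊤) := by
    have h1 : g.app ⊤ = f.app (U.ι ''ᵁ ⊤) ≫
        X.presheaf.map (eqToHom (image_morphismRestrict_preimage f U ⊤)).op :=
      morphismRestrict_app f U ⊤
    rw [h1]
    have h0 : IsIso (f.app (U.ι ''ᵁ ⊤)) := by rw [hUtop]; exact hf
    exact @IsIso.comp_isIso _ _ _ _ _ (f.app (U.ι ''ᵁ ⊤))
      (X.presheaf.map (eqToHom (image_morphismRestrict_preimage f U ⊤)).op) h0 inferInstance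
  have hB := isBasis_basicOpen (U : Scheme.{u})
  have step2 : ∀ r : Γ((U : Scheme.{u}), ⊤), IsIso (g.app ((U : Scheme.{u}).basicOpen r)) := by
    intro r
    exact Groth.Agent.S1340.isIso_app_basicOpen g ⊤ (isAffineOpen_top _)
      (g.isCompact_preimage (isAffineOpen_top _).isCompact)
      (g.isQuasiSeparated_preimage (isAffineOpen_top _).isQuasiSeparated) hgtop r
  let F : TopCat.Sheaf CommRingCat (U : Scheme.{u}) := (U : Scheme.{u}).sheaf
  let G : TopCat.Sheaf CommRingCat (U : Scheme.{u}) :=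
    (TopCat.Sheaf.pushforward _ g.base).obj ((f ⁻¹ᵁ U : X.Opens) : Scheme.{u}).sheaf
  let φ : F ⟶ G := ⟨g.c⟩
  have hφ : IsIso φ := TopCat.Sheaf.isIso_iff_isIso_basis (B := fun r => (U : Scheme.{u}).basicOpen r)
    hB step2
  have hφ' : IsIso ((TopCat.Sheaf.forget _ _).map φ) := inferInstance
  have hall : ∀ V' : (U : Scheme.{u}).Opens, IsIso (g.app V') := fun V' =>
    NatIso.isIso_app_of_isIso ((TopCat.Sheaf.forget _ _).map φ) (Opposite.op V')
  have h2 := hall (U.ι ⁻¹ᵁ V)
  have h3 : g.app (U.ι ⁻¹ᵁ V) = f.app (U.ι ''ᵁ (U.ι ⁻¹ᵁ V)) ≫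
      X.presheaf.map (eqToHom (image_morphismRestrict_preimage f U (U.ι ⁻¹ᵁ V))).op :=
    morphismRestrict_app f U (U.ι ⁻¹ᵁ V)
  rw [h3] at h2
  have h4 : IsIso (f.app (U.ι ''ᵁ (U.ι ⁻¹ᵁ V))) :=
    @IsIso.of_isIso_comp_right _ _ _ _ _ (f.app (U.ι ''ᵁ (U.ι ⁻¹ᵁ V)))
      (X.presheaf.map (eqToHom (image_morphismRestrict_preimage f U (U.ι ⁻¹ᵁ V))).op)
      inferInstance h2
  have h5 : U.ι ''ᵁ (U.ι ⁻¹ᵁ V) = V := by
    rw [Scheme.Hom.image_preimage_eq_opensRange_inf, Scheme.Opens.opensRange_ι]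
    exact inf_eq_right.mpr hVU
  rw [h5] at h4
  exact h4

end Geo


section Final

open Groth.Agent.R2.H34.SteinAsm

variable {X Y : Scheme.{u}}

/-- **The shape of S4480**, from ST-0. -/
theorem normal_point (h0 : ST0.{u}) [IsIntegral X] [IsIntegral Y] [IsLocallyNoetherian Y]
    (f : X ⟶ Y) [IsProper f] (hdom : f.base (genericPoint X) ⤳ genericPoint Y)
    (halg : ∀ x : X.functionField,
      (∃ q : Polynomial Y.functionField, q ≠ 0 ∧
        Polynomial.eval₂ (CohIII.stalkToFunctionField f (genericPoint Y) hdom) x q = 0) →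
      x ∈ Set.range (CohIII.stalkToFunctionField f (genericPoint Y) hdom))
    (y : Y) (hy : IsIntegrallyClosed (Y.presheaf.stalk y)) :
    GeometricallyConnected (f.fiberToSpecResidueField y) ∧
      ∃ U : Y.Opens, y ∈ U ∧ ∀ V : Y.Opens, V ≤ U → IsIso (f.app V) := by
  obtain ⟨U, hU, hyU, hiso⟩ := exists_affine_nhd_isIso_app f hdom halg y hy
  refine ⟨?_, U, hyU, fun V hV => isIso_app_of_le_of_isAffineOpen f U hU hiso V hV⟩
  exact Groth.Agent.R2.H40.SteinAsm2.geometricallyConnected_fiber_of_isIso_app h0 f y U hU hyU hiso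

end Final

end Groth.Agent.R2.H40.SteinNormal
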