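import Mathlib
import Groth.Prelude.Def_CAlg2
import Groth.Prelude.Def_ega3
import Groth.Agent.R2.H40SteinMax

/-!
# helper40: connectedness of fibres at unibranch points (PROJ:stein; S4464)
-/

set_option autoImplicit false
set_option linter.style.haveILetI false
universe u

open CategoryTheory CategoryTheory.Limits AlgebraicGeometry IsLocalRing

namespace Groth.Agent.R2.H40.SteinUni

section Alg

variable {A K L : Type*} [CommRing A] [Field K] [Field L] [Algebra A K]

/-- If the integral closure `Ã` of `A` in `K` is local and every element of `L` algebraic over `K` has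
a positive power in `K`, then the integral closure of `A` in `L` has at most one maximal ideal. -/
theorem maximal_unique_of_radical (σ : K →+* L)
    [IsLocalRing (integralClosure A K)]
    (hrad : ∀ x : L, (∃ q : Polynomial K, q ≠ 0 ∧ Polynomial.eval₂ σ x q = 0) →
      ∃ N : ℕ, 0 < N ∧ x ^ N ∈ Set.range σ) :
    letI := (σ.comp (algebraMap A K)).toAlgebra
    ∀ Q₁ Q₂ : Ideal ↥(integralClosure A L).toSubring, Q₁.IsMaximal → Q₂.IsMaximal → Q₁ = Q₂ := by
  letI algL : Algebra A L := (σ.comp (algebraMap A K)).toAlgebra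
  -- the ring map `Ã → C`
  have hmapint : ∀ t : K, IsIntegral A t → IsIntegral A (σ t) := by
    rintro t ⟨p, hp, hpt⟩
    refine ⟨p, hp, ?_⟩
    have h1 := Polynomial.hom_eval₂ p (algebraMap A K) σ t
    rw [hpt, map_zero] at h1
    exact h1.symm
  have hint_of_map : ∀ t : K, IsIntegral A (σ t) → IsIntegral A t := by
    rintro t ⟨p, hp, hpt⟩
    refine ⟨p, hp, ?_⟩
    have h1 := Polynomial.hom_eval₂ p (algebraMap A K) σ t
    have h2 : Polynomial.eval₂ (σ.comp (algebraMap A K)) (σ t) p = 0 := hpt
    rw [h2] at h1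
    exact σ.injective (h1.trans (map_zero σ).symm)
  let τ : ↥(integralClosure A K) →+* ↥(integralClosure A L).toSubring :=
    { toFun := fun t => ⟨σ t.1, hmapint t.1 t.2⟩
      map_one' := Subtype.ext (map_one σ)
      map_mul' := fun a b => Subtype.ext (map_mul σ a.1 b.1)
      map_zero' := Subtype.ext (map_zero σ)
      map_add' := fun a b => Subtype.ext (map_add σ a.1 b.1) }
  have hτint : τ.IsIntegral := by
    intro x
    obtain ⟨p, hp, hpx⟩ := x.2
    refine ⟨p.map (algebraMap A (integralClosure A K)), hp.map _, ?_⟩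
    rw [Polynomial.eval₂_map]
    apply Subtype.ext
    have h3 := Polynomial.hom_eval₂ p (τ.comp (algebraMap A (integralClosure A K)))
      ((integralClosure A L).toSubring.subtype) x
    have h4 : ((integralClosure A L).toSubring.subtype).comp
        (τ.comp (algebraMap A (integralClosure A K))) = algebraMap A L := rfl
    rw [h4] at h3
    exact h3.trans hpx
  -- key: `Q₁ ≤ Q₂`
  have key : ∀ Q₁ Q₂ : Ideal ↥(integralClosure A L).toSubring, Q₁.IsMaximal → Q₂.IsMaximal →
      Q₁ ≤ Q₂ := by
    intro Q₁ Q₂ h₁ h₂ c hc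
    -- `c` is algebraic over `K`
    obtain ⟨p, hp, hpc⟩ := c.2
    have halg : ∃ q : Polynomial K, q ≠ 0 ∧ Polynomial.eval₂ σ c.1 q = 0 := by
      refine ⟨p.map (algebraMap A K), (hp.map _).ne_zero, ?_⟩
      rw [Polynomial.eval₂_map]
      exact hpc
    obtain ⟨N, hN, t, ht⟩ := hrad c.1 halg
    have htint : IsIntegral A t := by
      apply hint_of_map
      rw [ht]
      exact (c.2 : IsIntegral A c.1).pow N
    let t' : ↥(integralClosure A K) := ⟨t, htint⟩
    have hτt : τ t' = c ^ N := Subtype.ext ht
    -- `t'` is not a unit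
    have htnu : t' ∈ maximalIdeal ↥(integralClosure A K) := by
      rw [mem_maximalIdeal, mem_nonunits_iff]
      intro hu
      have hu' : IsUnit (c ^ N) := hτt ▸ hu.map τ
      have hcu : IsUnit c := (isUnit_pow_iff hN.ne').mp hu'
      exact h₁.ne_top (Ideal.eq_top_of_isUnit_mem _ hc hcu)
    -- the trace of `Q₂` on `Ã` is the maximal ideal
    haveI := h₂
    have hcomap : (Q₂.comap τ).IsMaximal :=
      Ideal.isMaximal_comap_of_isIntegral_of_isMaximal' τ hτint Q₂
    have hcm : Q₂.comap τ = maximalIdeal ↥(integralClosure A K) :=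
      IsLocalRing.eq_maximalIdeal hcomap
    have h5 : t' ∈ Q₂.comap τ := hcm ▸ htnu
    rw [Ideal.mem_comap, hτt] at h5
    haveI := h₂.isPrime
    exact Ideal.IsPrime.mem_of_pow_mem inferInstance N h5
  intro Q₁ Q₂ h₁ h₂
  exact le_antisymm (key Q₁ Q₂ h₁ h₂) (key Q₂ Q₁ h₂ h₁)

end Alg

section Uni

variable (A : Type u) [CommRing A] [IsDomain A] [IsLocalRing A] (K : Type u) [Field K] [Algebra A K]
  [IsFractionRing A K]

/-- A unibranch local domain has local integral closure in any fraction field. -/
theorem isLocalRing_integralClosure_of_isUnibranch (h : CAlg2.IsUnibranch A) :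
    IsLocalRing (integralClosure A K) := by
  obtain ⟨-, hloc⟩ := h
  -- `A ≃ A_red`
  have hnil : nilradical A = ⊥ := nilradical_eq_zero A
  let e₀ : A ≃+* CAlg2.red A :=
    RingEquiv.ofBijective (Ideal.Quotient.mk (nilradical A))
      ⟨by
        rw [injective_iff_map_eq_zero]
        intro a ha
        rw [Ideal.Quotient.eq_zero_iff_mem, hnil] at ha
        exact ha, Ideal.Quotient.mk_surjective⟩
  letI algR : Algebra (CAlg2.red A) K := ((algebraMap A K).comp e₀.symm.toRingHom).toAlgebra
  haveI : IsFractionRing (CAlg2.red A) K := by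
    have h1 := IsLocalization.isLocalization_of_base_ringEquiv (nonZeroDivisors A) K e₀
    have h2 : Submonoid.map e₀ (nonZeroDivisors A) = nonZeroDivisors (CAlg2.red A) :=
      MulEquivClass.map_nonZeroDivisors e₀
    change IsLocalization (nonZeroDivisors (CAlg2.red A)) K
    rw [← h2]
    exact h1
  let e₁ : FractionRing (CAlg2.red A) ≃ₐ[CAlg2.red A] K := FractionRing.algEquiv (CAlg2.red A) K
  let e₂ : CAlg2.normRed A ≃ₐ[CAlg2.red A] integralClosure (CAlg2.red A) K := e₁.mapIntegralClosure
  -- same subset of `K`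
  have hmem : ∀ x : K, x ∈ integralClosure (CAlg2.red A) K ↔ x ∈ integralClosure A K := by
    intro x
    constructor
    · rintro ⟨p, hp, hpx⟩
      refine ⟨p.map e₀.symm.toRingHom, hp.map _, ?_⟩
      rw [Polynomial.eval₂_map]
      exact hpx
    · rintro ⟨p, hp, hpx⟩
      refine ⟨p.map e₀.toRingHom, hp.map _, ?_⟩
      rw [Polynomial.eval₂_map]
      have : (algebraMap (CAlg2.red A) K).comp e₀.toRingHom = algebraMap A K := by
        ext a
        change algebraMap A K (e₀.symm (e₀ a)) = _
        rw [e₀.symm_apply_apply]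
      rw [this]
      exact hpx
  let e₃ : ↥(integralClosure (CAlg2.red A) K) ≃+* ↥(integralClosure A K) :=
    { toFun := fun x => ⟨x.1, (hmem x.1).mp x.2⟩
      invFun := fun x => ⟨x.1, (hmem x.1).mpr x.2⟩
      left_inv := fun _ => rfl
      right_inv := fun _ => rfl
      map_mul' := fun _ _ => rfl
      map_add' := fun _ _ => rfl }
  haveI : IsLocalRing (CAlg2.normRed A) := hloc
  exact (e₂.toRingEquiv.trans e₃).isLocalRing

end Uni


section Geo

open Groth.Agent.R2.H34.SteinAsm Groth.Agent.R2.H40.SteinMax

theorem preconnectedSpace_of_subsingleton_connectedComponents {α : Type*} [TopologicalSpace α]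
    [Subsingleton (_root_.ConnectedComponents α)] : PreconnectedSpace α := by
  constructor
  rcases isEmpty_or_nonempty α with h | ⟨⟨x⟩⟩
  · rw [Set.univ_eq_empty_iff.mpr h]
    exact isPreconnected_empty
  · have : (Set.univ : Set α) = connectedComponent x := by
      ext z
      simp only [Set.mem_univ, true_iff]
      have h1 := Subsingleton.elim (α := _root_.ConnectedComponents α) (z : _root_.ConnectedComponents α) x
      rw [ConnectedComponents.coe_eq_coe] at h1
      rw [← h1]
      exact mem_connectedComponent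
    rw [this]
    exact isPreconnected_connectedComponent

/-- variant of `maximal_unique_of_radical` with the algebra structure given by `θ`. -/
theorem maximal_unique_of_radical' {A K L : Type*} [CommRing A] [Field K] [Field L] [Algebra A K]
    (σ : K →+* L) (θ : A →+* L) (hθ : θ = σ.comp (algebraMap A K))
    [IsLocalRing (integralClosure A K)]
    (hrad : ∀ x : L, (∃ q : Polynomial K, q ≠ 0 ∧ Polynomial.eval₂ σ x q = 0) →
      ∃ N : ℕ, 0 < N ∧ x ^ N ∈ Set.range σ) :
    letI := θ.toAlgebra
    ∀ Q₁ Q₂ : Ideal ↥(integralClosure A L).toSubring, Q₁.IsMaximal → Q₂.IsMaximal → Q₁ = Q₂ := by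
  subst hθ
  exact maximal_unique_of_radical σ hrad

variable {X Y : Scheme.{u}} [IsIntegral X] [IsIntegral Y]

theorem stalkToFunctionField_eq_comp (f : X ⟶ Y)
    (hdom : f.base (genericPoint X) ⤳ genericPoint Y) (y : Y)
    (h : f.base (genericPoint X) ⤳ y) :
    CohIII.stalkToFunctionField f y h =
      (CohIII.stalkToFunctionField f (genericPoint Y) hdom).comp
        (algebraMap (Y.presheaf.stalk y) Y.functionField) := by
  unfold CohIII.stalkToFunctionField
  rw [RingHom.algebraMap_toAlgebra, RingHom.comp_assoc]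
  congr 1
  rw [← CommRingCat.hom_comp, TopCat.Presheaf.stalkSpecializes_comp]

/-- **The shape of S4464**, from ST-0. -/
theorem connectedSpace_fiber_of_isUnibranch (h0 : ST0.{u}) [IsLocallyNoetherian Y] (f : X ⟶ Y)
    [IsProper f] (hdom : f.base (genericPoint X) ⤳ genericPoint Y)
    (hrad : ∀ x : X.functionField,
      (∃ q : Polynomial Y.functionField, q ≠ 0 ∧
        Polynomial.eval₂ (CohIII.stalkToFunctionField f (genericPoint Y) hdom) x q = 0) →
      ∃ e : ℕ, x ^ (ringExpChar X.functionField ^ e) ∈
        Set.range (CohIII.stalkToFunctionField f (genericPoint Y) hdom))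
    (y : Y) (hy : CAlg2.IsUnibranch (Y.presheaf.stalk y)) :
    ConnectedSpace ↥(f.fiber y) := by
  have h : f.base (genericPoint X) ⤳ y := hdom.trans (genericPoint_specializes y)
  haveI : IsLocalRing (integralClosure (Y.presheaf.stalk y) Y.functionField) :=
    isLocalRing_integralClosure_of_isUnibranch (Y.presheaf.stalk y) Y.functionField hy
  have hrad' : ∀ x : X.functionField,
      (∃ q : Polynomial Y.functionField, q ≠ 0 ∧
        Polynomial.eval₂ (CohIII.stalkToFunctionField f (genericPoint Y) hdom) x q = 0) →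
      ∃ N : ℕ, 0 < N ∧ x ^ N ∈ Set.range (CohIII.stalkToFunctionField f (genericPoint Y) hdom) := by
    intro x hx
    obtain ⟨e, he⟩ := hrad x hx
    have hpos : 0 < ringExpChar X.functionField :=
      lt_of_lt_of_le Nat.one_pos (le_max_right _ _)
    exact ⟨_, pow_pos hpos e, he⟩
  have huniq := maximal_unique_of_radical' (CohIII.stalkToFunctionField f (genericPoint Y) hdom)
    (CohIII.stalkToFunctionField f y h) (stalkToFunctionField_eq_comp f hdom y h) hrad'
  haveI : Subsingleton (MaximalSpectrum (CohIII.integralClosureStalk f y h)) :=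
    ⟨fun Q₁ Q₂ => MaximalSpectrum.ext (huniq Q₁.asIdeal Q₂.asIdeal Q₁.isMaximal Q₂.isMaximal)⟩
  have hcard := card_connectedComponents_fiber_le h0 f y h
  haveI : Subsingleton (_root_.ConnectedComponents (f.fiber y)) := by
    rw [← Cardinal.le_one_iff_subsingleton]
    exact hcard.trans (Cardinal.le_one_iff_subsingleton.mpr inferInstance)
  haveI : PreconnectedSpace (f.fiber y) := preconnectedSpace_of_subsingleton_connectedComponents
  -- nonempty
  have hcl : IsClosed (Set.range f.base) := f.isClosedMap.isClosed_range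
  obtain ⟨x, hx⟩ : y ∈ Set.range f.base := h.mem_closed hcl ⟨_, rfl⟩
  exact ⟨⟨(f.fiberHomeo y).symm ⟨x, hx⟩⟩⟩

end Geo

end Groth.Agent.R2.H40.SteinUni
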