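import Mathlib
import Groth.Prelude.Def_W4stkdualitygroupp2Univ

/-!
# The universal algebra `Synt.UnivAlg n d` is a polynomial ring over `ℤ` (helper40)

Eliminating the constant coefficients `a_{i,0}` identifies `B = A[x]/(f_1, …, f_n)` with the polynomial
ring over `ℤ` in the variables `a_{i,E}` (`E ≠ 0`) and `x_j`.
-/

set_option autoImplicit false
set_option linter.unusedSectionVars false
set_option linter.style.haveILetI false
set_option linter.unusedVariables false

namespace Groth.Agent.R2.H40.UnivAlg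

open Synt MvPolynomial

variable (n d : ℕ)

/-- The zero exponent index. -/
def E0 : UnivIdx n d := ⟨fun _ => 0, by simp⟩

theorem exponent_E0 : (E0 n d).exponent = 0 := by
  ext i
  simp [UnivIdx.exponent, E0]

/-- The variables of the polynomial model. -/
abbrev Var : Type := {p : Fin n × UnivIdx n d // p.2 ≠ E0 n d} ⊕ Fin n

instance : Finite (Var n d) := by unfold Var; infer_instance

/-- The polynomial model. -/
abbrev Model : Type := MvPolynomial (Var n d) ℤ

/-- The monomial `x^E` in the model. -/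
noncomputable def xmon (E : UnivIdx n d) : Model n d :=
  ∏ j : Fin n, (X (Sum.inr j) : Model n d) ^ (E.1 j : ℕ)

/-- The nonconstant part of `f_i` in the model. -/
noncomputable def tail (i : Fin n) : Model n d :=
  ∑ E : UnivIdx n d, if h : E = E0 n d then 0 else X (Sum.inl ⟨(i, E), h⟩) * xmon n d E

/-- Images of the coefficient variables. -/
noncomputable def coeffImg (p : Fin n × UnivIdx n d) : Model n d :=
  if h : p.2 = E0 n d then - tail n d p.1 else X (Sum.inl ⟨p, h⟩)

/-- The map on the coefficient ring. -/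
noncomputable def φ₀ : UnivBase n d →+* Model n d :=
  (aeval (coeffImg n d) : UnivBase n d →ₐ[ℤ] Model n d).toRingHom

/-- The map on the polynomial ring. -/
noncomputable def φ : MvPolynomial (Fin n) (UnivBase n d) →+* Model n d :=
  eval₂Hom (φ₀ n d) (fun j => X (Sum.inr j))

theorem φ_monomial (E : UnivIdx n d) (a : UnivBase n d) :
    φ n d (monomial E.exponent a) = φ₀ n d a * xmon n d E := by
  rw [φ, coe_eval₂Hom, eval₂_monomial]
  congr 1
  rw [xmon, Finsupp.prod_fintype _ _ (fun _ => pow_zero _)]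
  rfl

theorem φ_univPoly (i : Fin n) : φ n d (univPoly n d i) = 0 := by
  rw [univPoly, map_sum]
  simp only [φ_monomial]
  rw [← Finset.add_sum_erase _ _ (Finset.mem_univ (E0 n d))]
  have h0 : φ₀ n d (X (i, E0 n d)) * xmon n d (E0 n d) = - tail n d i := by
    have h1 : xmon n d (E0 n d) = 1 := by simp [xmon, E0]
    rw [h1, mul_one, φ₀]
    change aeval (coeffImg n d) (X (i, E0 n d)) = _
    rw [aeval_X, coeffImg, dif_pos rfl]
  have h2 : ∑ E ∈ Finset.univ.erase (E0 n d), φ₀ n d (X (i, E)) * xmon n d E = tail n d i := by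
    rw [tail, ← Finset.add_sum_erase _ _ (Finset.mem_univ (E0 n d)), dif_pos rfl, zero_add]
    apply Finset.sum_congr rfl
    intro E hE
    have hne : E ≠ E0 n d := (Finset.mem_erase.mp hE).1
    rw [dif_neg hne, φ₀]
    change aeval (coeffImg n d) (X (i, E)) * _ = _
    rw [aeval_X, coeffImg, dif_neg (show (i, E).2 ≠ E0 n d from hne)]
  rw [h0, h2, neg_add_cancel]

theorem univIdeal_le_ker : univIdeal n d ≤ RingHom.ker (φ n d) := by
  rw [univIdeal, Ideal.span_le]
  rintro _ ⟨i, rfl⟩
  exact φ_univPoly n d i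

/-- The induced map from the universal algebra. -/
noncomputable def φbar : UnivAlg n d →+* Model n d :=
  Ideal.Quotient.lift (univIdeal n d) (φ n d) (fun a ha => univIdeal_le_ker n d ha)

/-- The quotient map as a ring hom. -/
noncomputable def mk' : MvPolynomial (Fin n) (UnivBase n d) →+* UnivAlg n d :=
  Ideal.Quotient.mk (univIdeal n d)

theorem φbar_mk' (a : MvPolynomial (Fin n) (UnivBase n d)) : φbar n d (mk' n d a) = φ n d a :=
  Ideal.Quotient.lift_mk _ _ _

/-- The inverse map. -/
noncomputable def ψ : Model n d →+* UnivAlg n d :=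
  (aeval (Sum.elim (fun p => mk' n d (C (X p.1))) (fun j => mk' n d (X j))) :
    Model n d →ₐ[ℤ] UnivAlg n d).toRingHom

theorem ψ_X_inl (p : {p : Fin n × UnivIdx n d // p.2 ≠ E0 n d}) :
    ψ n d (X (Sum.inl p)) = mk' n d (C (X p.1)) := by
  change aeval _ (X (Sum.inl p)) = _
  rw [aeval_X]; rfl

theorem ψ_X_inr (j : Fin n) : ψ n d (X (Sum.inr j)) = mk' n d (X j) := by
  change aeval _ (X (Sum.inr j)) = _
  rw [aeval_X]; rfl

theorem mk'_univPoly (i : Fin n) : mk' n d (univPoly n d i) = 0 :=
  Ideal.Quotient.eq_zero_iff_mem.mpr (Ideal.subset_span ⟨i, rfl⟩)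

theorem ψ_xmon (E : UnivIdx n d) : ψ n d (xmon n d E) = mk' n d (monomial E.exponent 1) := by
  rw [xmon, map_prod]
  have : (monomial E.exponent (1 : UnivBase n d) : MvPolynomial (Fin n) (UnivBase n d)) =
      ∏ j : Fin n, X j ^ (E.1 j : ℕ) := by
    rw [monomial_eq, C_1, one_mul, Finsupp.prod_fintype _ _ (fun _ => pow_zero _)]
    rfl
  rw [this, map_prod]
  apply Finset.prod_congr rfl
  intro j _
  rw [map_pow, map_pow, ψ_X_inr]

theorem ψ_tail (i : Fin n) :
    ψ n d (tail n d i) = - mk' n d (C (X (i, E0 n d))) := by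
  have h := mk'_univPoly n d i
  rw [univPoly, map_sum, ← Finset.add_sum_erase _ _ (Finset.mem_univ (E0 n d))] at h
  have h1 : mk' n d (monomial (E0 n d).exponent (X (i, E0 n d))) = mk' n d (C (X (i, E0 n d))) := by
    rw [exponent_E0]; rfl
  rw [h1] at h
  rw [eq_neg_iff_add_eq_zero, add_comm, ← h]
  congr 1
  rw [tail, map_sum, ← Finset.add_sum_erase _ _ (Finset.mem_univ (E0 n d)), dif_pos rfl, map_zero,
    zero_add]
  apply Finset.sum_congr rfl
  intro E hE
  have hne : E ≠ E0 n d := (Finset.mem_erase.mp hE).1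
  rw [dif_neg hne, map_mul, ψ_xmon]
  rw [ψ_X_inl, ← map_mul, C_mul_monomial, mul_one]

theorem ψ_coeffImg (p : Fin n × UnivIdx n d) : ψ n d (coeffImg n d p) = mk' n d (C (X p)) := by
  rw [coeffImg]
  split_ifs with h
  · rw [map_neg, ψ_tail, neg_neg]
    obtain ⟨i, E⟩ := p
    simp only at h
    subst h
    rfl
  · rw [ψ_X_inl]

theorem ψ_comp_φ : (ψ n d).comp (φ n d) = mk' n d := by
  apply MvPolynomial.ringHom_ext
  · intro a
    change ψ n d (φ n d (C a)) = mk' n d (C a)
    rw [φ, coe_eval₂Hom, eval₂_C]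
    -- both sides are ring homs in `a`
    have : (ψ n d).comp (φ₀ n d) = (mk' n d).comp C := by
      apply MvPolynomial.ringHom_ext
      · intro z
        change ψ n d (φ₀ n d (C z)) = mk' n d (C (C z))
        have e1 : (C z : UnivBase n d) = (z : UnivBase n d) := by simp
        rw [e1, map_intCast, map_intCast, map_intCast, map_intCast]
      · intro p
        change ψ n d (φ₀ n d (X p)) = mk' n d (C (X p))
        rw [φ₀]
        change ψ n d (aeval (coeffImg n d) (X p)) = _
        rw [aeval_X, ψ_coeffImg]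
    exact congrFun (congrArg DFunLike.coe this) a
  · intro j
    change ψ n d (φ n d (X j)) = mk' n d (X j)
    rw [φ, coe_eval₂Hom, eval₂_X, ψ_X_inr]

theorem ψ_comp_φbar : (ψ n d).comp (φbar n d) = RingHom.id _ := by
  apply Ideal.Quotient.ringHom_ext
  apply RingHom.ext
  intro a
  change ψ n d (φbar n d (mk' n d a)) = mk' n d a
  rw [φbar_mk']
  exact congrFun (congrArg DFunLike.coe (ψ_comp_φ n d)) a

theorem φbar_comp_ψ : (φbar n d).comp (ψ n d) = RingHom.id _ := by
  apply MvPolynomial.ringHom_ext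
  · intro z
    change φbar n d (ψ n d (C z)) = C z
    have e1 : (C z : Model n d) = (z : Model n d) := by simp
    rw [e1, map_intCast, map_intCast]
  · intro v
    change φbar n d (ψ n d (X v)) = X v
    rcases v with ⟨p, hp⟩ | j
    · rw [ψ_X_inl, φbar_mk', φ, coe_eval₂Hom, eval₂_C, φ₀]
      change aeval (coeffImg n d) (X p) = _
      rw [aeval_X, coeffImg, dif_neg hp]
    · rw [ψ_X_inr, φbar_mk', φ, coe_eval₂Hom, eval₂_X]

/-- The universal algebra is a polynomial ring over `ℤ`. -/
noncomputable def equiv : UnivAlg n d ≃+* Model n d :=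
  RingEquiv.ofRingHom (φbar n d) (ψ n d) (φbar_comp_ψ n d) (ψ_comp_φbar n d)

theorem isDomain_univAlg : IsDomain (UnivAlg n d) :=
  (equiv n d).toMulEquiv.isDomain (Model n d)

theorem isRegularRing_univAlg : IsRegularRing (UnivAlg n d) :=
  IsRegularRing.of_ringEquiv (equiv n d).symm

end Groth.Agent.R2.H40.UnivAlg
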