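import Mathlib
import Groth.Prelude.Def_W4stkdualitygroupp2Univ
import Groth.Agent.R2.H40UnivAlg

/-!
# The universal algebra is étale and quasi-finite at its generic point (helper40)
-/

set_option autoImplicit false
set_option linter.unusedSectionVars false
set_option linter.style.haveILetI false
set_option linter.unusedVariables false

namespace Groth.Agent.R2.H40.UnivEtale

open Synt MvPolynomial Algebra Groth.Agent.R2.H40

variable (n d : ℕ)

/-- The naive presentation of the universal algebra. -/
noncomputable def pres : PreSubmersivePresentation (UnivBase n d) (UnivAlg n d) (Fin n) (Fin n) :=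
  PreSubmersivePresentation.naive (v := univPoly n d) id Function.injective_id

variable {n d}

section

/-- The exponent index `e_i`. -/
def eIdx (hd : 1 ≤ d) (i : Fin n) : UnivIdx n d :=
  ⟨fun k => if k = i then ⟨1, by omega⟩ else ⟨0, by omega⟩, by
    have : ∀ k : Fin n, (((if k = i then (⟨1, by omega⟩ : Fin (d + 1)) else ⟨0, by omega⟩) :
        Fin (d + 1)) : ℕ) = if k = i then 1 else 0 := by
      intro k; split_ifs <;> rfl
    simp only [this, Finset.sum_ite_eq', Finset.mem_univ, if_true]
    exact hd⟩

theorem eIdx_exponent (hd : 1 ≤ d) (i : Fin n) : (eIdx hd i).exponent = Finsupp.single i 1 := by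
  ext k
  simp only [UnivIdx.exponent, eIdx, Finsupp.equivFunOnFinite_symm_apply_apply,
    Finsupp.single_apply]
  by_cases h : k = i
  · simp [h]
  · simp [h, Ne.symm h]

/-- The coefficient assignment. -/
noncomputable def cval (hd : 1 ≤ d) (p : Fin n × UnivIdx n d) : ℤ :=
  if p.2 = eIdx hd p.1 then 1 else 0

/-- The evaluation at the chosen point. -/
noncomputable def χ₀ (hd : 1 ≤ d) : MvPolynomial (Fin n) (UnivBase n d) →+* ℤ :=
  eval₂Hom (eval (cval hd)) (fun _ => (0 : ℤ))

theorem χ₀_monomial (hd : 1 ≤ d) (s : Fin n →₀ ℕ) (a : UnivBase n d) :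
    χ₀ hd (monomial s a) = if s = 0 then eval (cval hd) a else 0 := by
  rw [χ₀, coe_eval₂Hom, eval₂_monomial]
  split_ifs with h
  · subst h
    simp
  · obtain ⟨k, hk⟩ : ∃ k, s k ≠ 0 := by
      by_contra hcon
      push Not at hcon
      exact h (Finsupp.ext hcon)
    have : (s.prod fun k e => (0 : ℤ) ^ e) = 0 := by
      rw [Finsupp.prod]
      apply Finset.prod_eq_zero (Finsupp.mem_support_iff.mpr hk)
      exact zero_pow hk
    rw [this, mul_zero]

theorem χ₀_univPoly (hd : 1 ≤ d) (j : Fin n) : χ₀ hd (univPoly n d j) = 0 := by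
  rw [univPoly, map_sum]
  apply Finset.sum_eq_zero
  intro E _
  rw [χ₀_monomial hd]
  split_ifs with h
  · rw [eval_X, cval]
    simp only
    rw [if_neg]
    intro hE
    rw [hE, eIdx_exponent] at h
    have := congrArg (fun f => f j) h
    simp at this
  · rfl

theorem χ₀_pderiv (hd : 1 ≤ d) (i j : Fin n) :
    χ₀ hd (pderiv i (univPoly n d j)) = if i = j then 1 else 0 := by
  rw [univPoly, map_sum, map_sum]
  simp only [pderiv_monomial, χ₀_monomial hd]
  rw [Finset.sum_eq_single (eIdx hd j)]
  · rw [eIdx_exponent]
    by_cases hij : i = j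
    · subst hij
      simp [cval]
    · rw [if_neg hij, if_neg]
      intro h
      have := congrArg (fun f => f j) h
      simp [Finsupp.single_apply, hij] at this
  · intro E _ hE
    split_ifs with h
    · rw [map_mul, eval_X, cval]
      simp only
      rw [if_neg hE, zero_mul]
    · rfl
  · intro h
    exact absurd (Finset.mem_univ _) h

/-- The point of the universal algebra. -/
noncomputable def χ (hd : 1 ≤ d) : UnivAlg n d →+* ℤ :=
  Ideal.Quotient.lift (univIdeal n d) (χ₀ hd) (by
    intro a ha
    have hle : univIdeal n d ≤ RingHom.ker (χ₀ hd) := by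
      rw [univIdeal, Ideal.span_le]
      rintro _ ⟨j, rfl⟩
      exact χ₀_univPoly hd j
    exact hle ha)

theorem χ_mk (hd : 1 ≤ d) (a : MvPolynomial (Fin n) (UnivBase n d)) :
    χ hd (Ideal.Quotient.mk (univIdeal n d) a) = χ₀ hd a :=
  Ideal.Quotient.lift_mk _ _ _

theorem algebraMap_pres (a : MvPolynomial (Fin n) (UnivBase n d)) :
    algebraMap (pres n d).Ring (UnivAlg n d) a = UnivAlg.mk' n d a := by
  have h : (algebraMap (pres n d).Ring (UnivAlg n d)) = UnivAlg.mk' n d := by
    apply MvPolynomial.ringHom_ext
    · intro a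
      rfl
    · intro k
      refine (Generators.algebraMap_apply _ _).trans ?_
      refine (aeval_X _ _).trans ?_
      rfl
  rw [h]

theorem χ_mk' (hd : 1 ≤ d) (a : MvPolynomial (Fin n) (UnivBase n d)) :
    χ hd (UnivAlg.mk' n d a) = χ₀ hd a :=
  Ideal.Quotient.lift_mk _ _ _

theorem jacobiMatrix_pres [DecidableEq (Fin n)] (i j : Fin n) :
    (pres n d).jacobiMatrix i j = pderiv i (univPoly n d j) :=
  PreSubmersivePresentation.jacobiMatrix_apply _ _ _

theorem χ_jacobian (hd : 1 ≤ d) : χ hd (pres n d).jacobian = 1 := by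
  classical
  rw [PreSubmersivePresentation.jacobian_eq_jacobiMatrix_det]
  have h := algebraMap_pres (n := n) (d := d) (pres n d).jacobiMatrix.det
  refine (congrArg (χ hd) h).trans ?_
  rw [χ_mk' hd, RingHom.map_det]
  have : (χ₀ hd).mapMatrix (pres n d).jacobiMatrix = 1 := by
    ext i j
    rw [RingHom.mapMatrix_apply, Matrix.map_apply, jacobiMatrix_pres, χ₀_pderiv hd,
      Matrix.one_apply]
  rw [this, Matrix.det_one]

theorem jacobian_ne_zero (hd : 1 ≤ d) : (pres n d).jacobian ≠ 0 := by
  intro h
  have := χ_jacobian (n := n) (d := d) hd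
  rw [h, map_zero] at this
  exact zero_ne_one this


/-- The localization at the Jacobian is étale over the base. -/
theorem etale_away_jacobian :
    Algebra.Etale (UnivBase n d) (Localization.Away (pres n d).jacobian) := by
  classical
  set g := (pres n d).jacobian with hg
  let Q : PreSubmersivePresentation (UnivAlg n d) (Localization.Away g) Unit Unit :=
    PreSubmersivePresentation.localizationAway (Localization.Away g) g
  let QP : PreSubmersivePresentation (UnivBase n d) (Localization.Away g) (Unit ⊕ Fin n)
      (Unit ⊕ Fin n) := Q.comp (pres n d)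
  have hjac : IsUnit QP.jacobian := by
    change IsUnit (Q.comp (pres n d)).jacobian
    rw [PreSubmersivePresentation.comp_jacobian_eq_jacobian_smul_jacobian, Algebra.smul_def,
      PreSubmersivePresentation.localizationAway_jacobian, IsUnit.mul_iff]
    exact ⟨IsLocalization.Away.algebraMap_isUnit g, IsLocalization.Away.algebraMap_isUnit g⟩
  let SP : SubmersivePresentation (UnivBase n d) (Localization.Away g) (Unit ⊕ Fin n)
      (Unit ⊕ Fin n) := { QP with jacobian_isUnit := hjac }
  haveI : IsStandardSmoothOfRelativeDimension 0 (UnivBase n d) (Localization.Away g) :=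
    SP.isStandardSmoothOfRelativeDimension (by simp [Presentation.dimension])
  infer_instance

instance : Algebra.FiniteType (UnivBase n d) (UnivAlg n d) := by
  unfold UnivAlg; infer_instance

theorem main (hd : 1 ≤ d) :
    ∃ q : PrimeSpectrum (UnivAlg n d), Algebra.QuasiFiniteAt (UnivBase n d) q.asIdeal ∧
      Algebra.IsEtaleAt (UnivBase n d) q.asIdeal := by
  haveI := UnivAlg.isDomain_univAlg n d
  let q : PrimeSpectrum (UnivAlg n d) := ⟨⊥, Ideal.isPrime_bot⟩
  have hsub := (Algebra.basicOpen_subset_etaleLocus_iff (R := UnivBase n d)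
    (f := (pres n d).jacobian)).mpr (etale_away_jacobian (n := n) (d := d)).formallyEtale
  have hq : q ∈ (PrimeSpectrum.basicOpen (pres n d).jacobian : Set (PrimeSpectrum (UnivAlg n d))) := by
    change (pres n d).jacobian ∉ (⊥ : Ideal (UnivAlg n d))
    rw [Ideal.mem_bot]
    exact jacobian_ne_zero hd
  have het : Algebra.IsEtaleAt (UnivBase n d) q.asIdeal := hsub hq
  refine ⟨q, ?_, het⟩
  haveI : Algebra.FormallyEtale (UnivBase n d) (Localization.AtPrime q.asIdeal) := het
  change Algebra.QuasiFinite (UnivBase n d) (Localization.AtPrime q.asIdeal)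
  infer_instance

end

end Groth.Agent.R2.H40.UnivEtale
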