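import Mathlib
import Groth.Prelude.Def_FlatCA
import Groth.Agent.R2.H6WeakAss

/-!
# Weakly associated primes of `M[X]` contract to weakly associated primes of `M` (helper40)

* `nilpotent_coeff_smul` : a McCoy-type lemma.  If `s • w = 0` for a polynomial `s` and an element
  `w` of the polynomial module `M[X]`, then every coefficient of `s` is nilpotent on `w`.
* `comap_C_mem_weakAss` : if a prime `P` of `A[X]` is weakly associated to `M[X]`, then `P ∩ A` is
  weakly associated to `M`.
-/

set_option autoImplicit false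
universe u v

open Polynomial

namespace Groth.Agent.R2.H40.WAssPoly

variable {A : Type u} [CommRing A] {N : Type v} [AddCommGroup N] [Module A N]

/-- The degree of an element of the polynomial module. -/
noncomputable def pdeg (w : PolynomialModule A N) : ℕ := w.coeff.support.sup id

lemma coeff_smul' (c : A) (w : PolynomialModule A N) : (c • w).coeff = c • w.coeff := rfl

lemma coeff_eq_zero_of_pdeg_lt {w : PolynomialModule A N} {i : ℕ} (h : pdeg w < i) :
    w.coeff i = 0 := by
  by_contra hne
  have : i ∈ w.coeff.support := Finsupp.mem_support_iff.2 hne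
  have := Finset.le_sup (f := id) this
  simp only [id] at this
  exact absurd h (not_lt.2 this)

lemma pdeg_smul_le (c : A) (w : PolynomialModule A N) : pdeg (c • w) ≤ pdeg w := by
  unfold pdeg
  apply Finset.sup_mono
  rw [coeff_smul']
  exact Finsupp.support_smul

lemma coeff_pdeg_ne_zero {w : PolynomialModule A N} (hw : w ≠ 0) : w.coeff (pdeg w) ≠ 0 := by
  have hne : w.coeff.support.Nonempty := by
    rw [Finsupp.support_nonempty_iff]
    intro h
    exact hw (PolynomialModule.coeff_eq_zero.1 h)
  obtain ⟨i, hi, hsup⟩ := Finset.exists_mem_eq_sup w.coeff.support hne id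
  unfold pdeg
  rw [hsup]
  exact Finsupp.mem_support_iff.1 hi

lemma pdeg_lt_of_forall {w : PolynomialModule A N} (hw : w ≠ 0) {D : ℕ}
    (h : ∀ i, D ≤ i → w.coeff i = 0) : pdeg w < D := by
  by_contra hD
  exact coeff_pdeg_ne_zero hw (h _ (not_lt.1 hD))

lemma C_smul' (c : A) (w : PolynomialModule A N) : (C c : A[X]) • w = c • w := by
  rw [show (C c : A[X]) = c • (1 : A[X]) by rw [Polynomial.smul_eq_C_mul, mul_one], smul_assoc,
    one_smul]

lemma smul_comm' (s : A[X]) (c : A) (w : PolynomialModule A N) : s • (c • w) = c • (s • w) := by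
  rw [← C_smul', ← C_smul', ← mul_smul, ← mul_smul, mul_comm]

/-- The top coefficient of `s • w`. -/
lemma coeff_smul_top (s : A[X]) (w : PolynomialModule A N) :
    (s • w).coeff (s.natDegree + pdeg w) = s.leadingCoeff • w.coeff (pdeg w) := by
  rw [PolynomialModule.smul_apply]
  rw [Finset.sum_eq_single (s.natDegree, pdeg w)]
  · rfl
  · rintro ⟨a, b⟩ hab hne
    rw [Finset.HasAntidiagonal.mem_antidiagonal] at hab
    simp only at hab
    by_cases ha : s.natDegree < a
    · rw [Polynomial.coeff_eq_zero_of_natDegree_lt ha, zero_smul]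
    · have hb : pdeg w < b := by
        by_contra hb
        apply hne
        have h1 : a ≤ s.natDegree := not_lt.1 ha
        have h2 : b ≤ pdeg w := not_lt.1 hb
        have : a = s.natDegree ∧ b = pdeg w := by omega
        rw [this.1, this.2]
      rw [coeff_eq_zero_of_pdeg_lt hb, smul_zero]
  · intro h
    exact absurd (Finset.HasAntidiagonal.mem_antidiagonal.2 (rfl : (s.natDegree, pdeg w).1 + (s.natDegree, pdeg w).2 = s.natDegree + pdeg w)) h

/-- **McCoy-type lemma**: if `s • w = 0` then every coefficient of `s` acts nilpotently on `w`. -/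
theorem nilpotent_coeff_smul :
    ∀ (n : ℕ) (s : A[X]) (w : PolynomialModule A N), s.natDegree + pdeg w ≤ n → s • w = 0 →
      ∀ j : ℕ, ∃ k : ℕ, (s.coeff j) ^ k • w = 0 := by
  intro n
  induction n using Nat.strong_induction_on with
  | _ n ih =>
  intro s w hn hsw j
  by_cases hw : w = 0
  · exact ⟨0, by rw [hw, smul_zero]⟩
  set e := s.natDegree with he
  set c := s.leadingCoeff with hc
  -- the top coefficient
  have htop : c • w.coeff (pdeg w) = 0 := by
    rw [← coeff_smul_top, hsw]; rfl
  -- `w' = c • w` has smaller degree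
  have hw' : ∀ j' : ℕ, ∃ k : ℕ, (s.coeff j') ^ k • (c • w) = 0 := by
    intro j'
    by_cases hcw : c • w = 0
    · exact ⟨0, by rw [hcw, smul_zero]⟩
    have hlt : pdeg (c • w) < pdeg w := by
      apply pdeg_lt_of_forall hcw
      intro i hi
      rcases Nat.lt_or_ge (pdeg w) i with h | h
      · rw [coeff_smul', Finsupp.smul_apply, coeff_eq_zero_of_pdeg_lt h, smul_zero]
      · have : i = pdeg w := le_antisymm h hi
        rw [this, coeff_smul', Finsupp.smul_apply, htop]
    exact ih (e + pdeg (c • w)) (by omega) s (c • w) le_rfl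
      (by rw [smul_comm', hsw, smul_zero]) j'
  rcases lt_trichotomy j e with hj | hj | hj
  · -- `j < e`
    obtain ⟨k, hk⟩ := hw' j
    set w₁ := (s.coeff j) ^ k • w with hw₁
    have h1 : c • w₁ = 0 := by
      rw [hw₁, smul_comm (c) ((s.coeff j) ^ k) w, hk]
    have h2 : s • w₁ = 0 := by
      rw [hw₁, smul_comm', hsw, smul_zero]
    have h3 : s.eraseLead • w₁ = 0 := by
      have : s.eraseLead = s - monomial e c := by
        rw [eq_sub_iff_add_eq]; exact Polynomial.eraseLead_add_monomial_natDegree_leadingCoeff s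
      rw [this, sub_smul, h2, zero_sub, neg_eq_zero, ← Polynomial.C_mul_X_pow_eq_monomial,
        mul_comm, mul_smul, C_smul', h1, smul_zero]
    have h4 : s.eraseLead.natDegree < e := by
      have := Polynomial.eraseLead_natDegree_le s
      omega
    obtain ⟨k', hk'⟩ := ih (s.eraseLead.natDegree + pdeg w₁)
      (by have : pdeg w₁ ≤ pdeg w := pdeg_smul_le ((s.coeff j) ^ k) w
          omega) s.eraseLead w₁ le_rfl h3 j
    rw [Polynomial.eraseLead_coeff_of_ne j (ne_of_lt hj)] at hk'
    refine ⟨k' + k, ?_⟩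
    rw [pow_add, mul_smul]
    exact hk'
  · -- `j = e`
    obtain ⟨k, hk⟩ := hw' j
    refine ⟨k + 1, ?_⟩
    rw [pow_succ, mul_smul]
    have : s.coeff j = c := by rw [hj]; rfl
    rw [this] at hk ⊢
    exact hk
  · -- `e < j`
    refine ⟨1, ?_⟩
    rw [Polynomial.coeff_eq_zero_of_natDegree_lt hj, pow_one, zero_smul]

theorem nilpotent_coeff_smul' (s : A[X]) (w : PolynomialModule A N) (h : s • w = 0) (j : ℕ) :
    ∃ k : ℕ, (s.coeff j) ^ k • w = 0 :=
  nilpotent_coeff_smul _ s w le_rfl h j

/-- If a prime `P` of `A[X]` is weakly associated to the polynomial module `N[X]`, then `P ∩ A` is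
weakly associated to `N`. -/
theorem comap_C_mem_weakAss_polynomialModule (P : Ideal A[X]) [hP : P.IsPrime]
    (h : P ∈ FlatCA.weakAss A[X] (PolynomialModule A N)) :
    P.comap (C : A →+* A[X]) ∈ FlatCA.weakAss A N := by
  classical
  have : (P.comap (C : A →+* A[X])).IsPrime := Ideal.comap_isPrime _ _
  rw [Groth.Agent.R2.H6.WeakAss.mem_weakAss_iff_exists] at h ⊢
  obtain ⟨z, hz1, hz2⟩ := h
  set p := P.comap (C : A →+* A[X]) with hp
  -- a coefficient of `z` whose annihilator lies in `p`
  have hex : ∃ i ∈ z.coeff.support, ∀ a : A, a • z.coeff i = 0 → a ∈ p := by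
    by_contra hcon
    simp only [not_exists, not_and, not_forall] at hcon
    choose! a ha1 ha2 using hcon
    have hprod : (∏ i ∈ z.coeff.support, a i) ∉ p := by
      intro hmem
      obtain ⟨i, hi, hai⟩ := (Ideal.IsPrime.prod_mem_iff).1 hmem
      exact ha2 i hi hai
    apply hprod
    rw [hp, Ideal.mem_comap]
    apply hz1
    rw [C_smul']
    apply PolynomialModule.coeff_injective
    ext i
    rw [coeff_smul', Finsupp.smul_apply]
    by_cases hi : i ∈ z.coeff.support
    · rw [← Finset.mul_prod_erase _ _ hi, mul_comm, mul_smul, ha1 i hi, smul_zero]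
      rfl
    · rw [Finsupp.notMem_support_iff.1 hi, smul_zero]
      rfl
  obtain ⟨i, _, hi⟩ := hex
  refine ⟨z.coeff i, hi, fun x hx => ?_⟩
  have hxP : (C x : A[X]) ∈ P := hx
  obtain ⟨s, hs, k, hsk⟩ := hz2 (C x) hxP
  -- some coefficient of `s` is not in `p`
  have hcoef : ∃ j, s.coeff j ∉ p := by
    by_contra hcon
    simp only [not_exists, not_not] at hcon
    apply hs
    have : s ∈ Ideal.map (C : A →+* A[X]) p := Ideal.mem_map_C_iff.2 hcon
    exact Ideal.map_comap_le this
  obtain ⟨j, hj⟩ := hcoef
  have h1 : s • ((C x : A[X]) ^ k • z) = 0 := by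
    rw [← mul_smul]; exact hsk
  obtain ⟨k', hk'⟩ := nilpotent_coeff_smul' s _ h1 j
  refine ⟨(s.coeff j) ^ k', fun hmem => hj (Ideal.IsPrime.mem_of_pow_mem inferInstance _ hmem),
    k, ?_⟩
  have h2 : ((s.coeff j) ^ k' • ((C x : A[X]) ^ k • z)).coeff i = 0 := by rw [hk']; rfl
  rw [← Polynomial.C_pow, C_smul', coeff_smul', coeff_smul', Finsupp.smul_apply,
    Finsupp.smul_apply, ← mul_smul] at h2
  exact h2

end Groth.Agent.R2.H40.WAssPoly
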