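import Mathlib
import Groth.Prelude.Def_FlatCA
import Groth.Agent.R2.H6WeakAss
import Groth.Agent.R2.H40WAssPoly

/-!
# Descent of weakly associated primes along base change: formal framework (helper40)

`Desc A B`: for every `A`-module `M`, every prime of `B` weakly associated to `B ⊗[A] M` contracts
to a prime of `A` weakly associated to `M`.  We show `Desc` is transitive, invariant under
`A`-algebra isomorphisms, and holds for localizations, finite flat algebras and polynomial rings.
-/

set_option autoImplicit false
set_option linter.style.haveILetI false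
universe u

open TensorProduct Polynomial

namespace Groth.Agent.R2.H40.WAssBC

open Groth.Agent.R2.H6.WeakAss

section Basic

variable {A : Type u} [CommRing A]

theorem weakAss_congr {M N : Type*} [AddCommGroup M] [AddCommGroup N] [Module A M] [Module A N]
    (e : M ≃ₗ[A] N) : FlatCA.weakAss A M = FlatCA.weakAss A N := by
  ext p
  exact ⟨mem_weakAss_of_injective e.toLinearMap e.injective,
    mem_weakAss_of_injective e.symm.toLinearMap e.symm.injective⟩

end Basic

/-- Weakly associated primes descend along `A → B` for all base-changed modules. -/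
def Desc (A B : Type u) [CommRing A] [CommRing B] [Algebra A B] : Prop :=
  ∀ (M : Type u) [AddCommGroup M] [Module A M] (q : Ideal B) [q.IsPrime],
    q ∈ FlatCA.weakAss B (B ⊗[A] M) → q.comap (algebraMap A B) ∈ FlatCA.weakAss A M

namespace Desc

variable {A B C : Type u} [CommRing A] [CommRing B] [CommRing C] [Algebra A B]

/-- The abstract base change form. -/
theorem comap_mem (h : Desc A B) {M MB : Type u} [AddCommGroup M] [Module A M] [AddCommGroup MB]
    [Module B MB] [Module A MB] [IsScalarTower A B MB] (f : M →ₗ[A] MB) (hf : IsBaseChange B f)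
    (q : Ideal B) [q.IsPrime] (hq : q ∈ FlatCA.weakAss B MB) :
    q.comap (algebraMap A B) ∈ FlatCA.weakAss A M := by
  apply h M q
  rw [weakAss_congr hf.equiv]
  exact hq

theorem of_isLocalization (S : Submonoid A) [IsLocalization S B] : Desc A B := by
  intro M _ _ q _ hq
  exact (mem_weakAss_iff_comap_of_isLocalization S B (TensorProduct.mk A B M 1) q).1 hq

theorem of_bijective (h : Function.Bijective (algebraMap A B)) : Desc A B := by
  haveI : IsLocalization (⊥ : Submonoid A) A := IsLocalization.self bot_le
  haveI : IsLocalization (⊥ : Submonoid A) B :=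
    IsLocalization.isLocalization_of_algEquiv ⊥ (AlgEquiv.ofBijective (Algebra.ofId A B) h)
  exact of_isLocalization ⊥

theorem of_finite_flat [Module.Finite A B] [Module.Flat A B] : Desc A B := by
  intro M _ _ q _ hq
  have h1 := comap_mem_weakAss_of_finite (A := A) hq
  haveI : (q.comap (algebraMap A B)).IsPrime := Ideal.comap_isPrime _ _
  exact mem_weakAss_of_mem_weakAss_tensor_of_finite_flat B M _ h1

theorem trans [Algebra B C] [Algebra A C] [IsScalarTower A B C] (h1 : Desc A B) (h2 : Desc B C) :
    Desc A C := by
  intro M _ _ q _ hq
  have e : C ⊗[B] (B ⊗[A] M) ≃ₗ[C] C ⊗[A] M := AlgebraTensorModule.cancelBaseChange A B C C M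
  rw [← weakAss_congr e] at hq
  have h3 := h2 (B ⊗[A] M) q hq
  haveI : (q.comap (algebraMap B C)).IsPrime := Ideal.comap_isPrime _ _
  have h4 := h1 M _ h3
  rwa [Ideal.comap_comap, ← IsScalarTower.algebraMap_eq] at h4

theorem of_algEquiv {B' : Type u} [CommRing B'] [Algebra A B'] (e : B ≃ₐ[A] B') (h : Desc A B) :
    Desc A B' := by
  letI : Algebra B B' := e.toRingEquiv.toRingHom.toAlgebra
  haveI : IsScalarTower A B B' := IsScalarTower.of_algebraMap_eq (fun a => (e.commutes a).symm)
  exact h.trans (of_bijective e.bijective)

/-- The polynomial ring. -/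
theorem polynomial : Desc A A[X] := by
  intro M _ _ q _ hq
  rw [weakAss_congr (PolynomialModule.polynomialTensorProductLEquivPolynomialModule A M)] at hq
  exact Groth.Agent.R2.H40.WAssPoly.comap_C_mem_weakAss_polynomialModule q hq

end Desc

end Groth.Agent.R2.H40.WAssBC
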