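import Mathlib
import Groth.Prelude.Def_FlatCA
import Groth.Agent.R2.H6WeakAss
import Groth.Agent.R2.H40WAssBC

/-!
# Weakly associated primes descend along field base change (helper40; Stacks 0CUB)

`FieldDesc k K`: for every `k`-algebra `R` and `R`-module `M`, a prime of `R ⊗[k] K` weakly
associated to `(R ⊗[k] K) ⊗[R] M` contracts to a prime of `R` weakly associated to `M`.

* finite extensions (`of_finite`), the rational function field (`ratFunc`), towers (`trans`);
* finitely generated subextensions by induction on generators (`of_fg`);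
* the general case by writing `K` as the union of its finitely generated subextensions, flatness of
  `R ⊗ L → R ⊗ K` and going-down (`fieldDesc`).
* `comap_mem_weakAss_baseChange_field` : the statement for an arbitrary pushout `RK` and an
  arbitrary base change `MK` of `M`.
-/

set_option autoImplicit false
set_option linter.style.haveILetI false
universe u

open TensorProduct Polynomial

namespace Groth.Agent.R2.H40.WAssField

open Groth.Agent.R2.H40.WAssBC Groth.Agent.R2.H6.WeakAss

/-- Descent of weakly associated primes along the base change by a field extension. -/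
def FieldDesc (k K : Type u) [Field k] [Field K] [Algebra k K] : Prop :=
  ∀ (R : Type u) [CommRing R] [Algebra k R], Desc R (R ⊗[k] K)

namespace FieldDesc

variable {k K K' : Type u} [Field k] [Field K] [Field K'] [Algebra k K] [Algebra k K']

theorem of_algEquiv (e : K ≃ₐ[k] K') (h : FieldDesc k K) : FieldDesc k K' := by
  intro R _ _
  exact (h R).of_algEquiv (Algebra.TensorProduct.congr (AlgEquiv.refl (R := R) (A₁ := R)) e)

theorem of_finite [FiniteDimensional k K] : FieldDesc k K := by
  intro R _ _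
  exact Desc.of_finite_flat


attribute [local instance] Polynomial.algebra Algebra.TensorProduct.rightAlgebra

theorem ratFunc (k : Type u) [Field k] : FieldDesc k (RatFunc k) := by
  intro R _ _
  let B := R ⊗[k] RatFunc k
  let xB : B := (1 : R) ⊗ₜ[k] (RatFunc.X : RatFunc k)
  letI algRX : Algebra R[X] B := (Polynomial.aeval (R := R) xB).toRingHom.toAlgebra
  letI algkX : Algebra k[X] B :=
    ((algebraMap (RatFunc k) B).comp (algebraMap k[X] (RatFunc k))).toAlgebra
  haveI t1 : IsScalarTower k[X] (RatFunc k) B := IsScalarTower.of_algebraMap_eq (fun _ => rfl)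
  haveI t2 : IsScalarTower R R[X] B := IsScalarTower.of_algebraMap_eq (fun r => by
    change algebraMap R B r = Polynomial.aeval xB (C r)
    rw [aeval_C])
  have key : ((Algebra.TensorProduct.includeRight : RatFunc k →ₐ[k] B).comp
      (IsScalarTower.toAlgHom k k[X] (RatFunc k)) : k[X] →ₐ[k] B) = Polynomial.aeval xB := by
    apply Polynomial.algHom_ext
    simp [xB, RatFunc.algebraMap_X]
  haveI t3 : IsScalarTower k[X] R[X] B := IsScalarTower.of_algebraMap_eq (fun p => by
    change Algebra.TensorProduct.includeRight (algebraMap k[X] (RatFunc k) p) =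
      Polynomial.aeval xB (p.map (algebraMap k R))
    rw [Polynomial.aeval_map_algebraMap]
    exact DFunLike.congr_fun key p)
  haveI t4 : IsScalarTower k R[X] B := IsScalarTower.of_algebraMap_eq (fun c => by
    rw [IsScalarTower.algebraMap_apply k R B, IsScalarTower.algebraMap_apply R R[X] B,
      ← IsScalarTower.algebraMap_apply k R R[X]])
  have hpush : Algebra.IsPushout k[X] (RatFunc k) R[X] B :=
    (Algebra.IsPushout.comp_iff k k[X] R (S' := R[X]) (T := RatFunc k) (T' := B)).1 inferInstance
  haveI : IsLocalization (Algebra.algebraMapSubmonoid R[X] (nonZeroDivisors k[X])) B :=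
    (Algebra.isLocalization_iff_isPushout (nonZeroDivisors k[X]) (RatFunc k)).2 hpush.symm
  exact Desc.polynomial.trans
    (Desc.of_isLocalization (Algebra.algebraMapSubmonoid R[X] (nonZeroDivisors k[X])))


theorem trans (k L K : Type u) [Field k] [Field L] [Field K] [Algebra k L] [Algebra L K]
    [Algebra k K] [IsScalarTower k L K] (h1 : FieldDesc k L) (h2 : FieldDesc L K) :
    FieldDesc k K := by
  intro R _ _
  let A := R ⊗[k] L
  let B' := A ⊗[L] K
  have hd : Desc R B' := (h1 R).trans (h2 A)
  haveI : IsScalarTower k L B' := inferInstance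
  haveI t1 : IsScalarTower k K B' := IsScalarTower.of_algebraMap_eq (fun c => by
    rw [IsScalarTower.algebraMap_apply k L B', IsScalarTower.algebraMap_apply L K B',
      ← IsScalarTower.algebraMap_apply k L K])
  have hpush : Algebra.IsPushout k K R B' :=
    (Algebra.IsPushout.comp_iff k L R (S' := A) (T := K) (T' := B')).2 inferInstance
  exact hd.of_algEquiv (Algebra.IsPushout.equiv k R K B' (h := hpush.symm)).symm


open IntermediateField in
/-- A simple extension. -/
theorem simple (F E : Type u) [Field F] [Field E] [Algebra F E] (x : E) :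
    FieldDesc F F⟮x⟯ := by
  by_cases hx : IsIntegral F x
  · haveI := IntermediateField.adjoin.finiteDimensional hx
    exact of_finite
  · have ht : Transcendental F x := fun h => hx h.isIntegral
    exact (ratFunc F).of_algEquiv (RatFunc.algEquivOfTranscendental x ht)

open IntermediateField in
theorem of_fg (L : IntermediateField k K) (hL : L.FG) : FieldDesc k L := by
  refine IntermediateField.induction_on_adjoin_fg (fun L => FieldDesc k L) ?_ ?_ L hL
  · haveI : FiniteDimensional k (⊥ : IntermediateField k K) := inferInstance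
    exact of_finite
  · intro L x hLd
    have h2 : FieldDesc L L⟮x⟯ := simple L K x
    have h3 : FieldDesc k L⟮x⟯ := trans k L L⟮x⟯ hLd h2
    let e : L⟮x⟯ ≃ₐ[k] (L⟮x⟯.restrictScalars k) :=
      { toFun := fun y => ⟨y.1, y.2⟩
        invFun := fun y => ⟨y.1, y.2⟩
        left_inv := fun _ => rfl
        right_inv := fun _ => rfl
        map_mul' := fun _ _ => rfl
        map_add' := fun _ _ => rfl
        commutes' := fun _ => rfl }
    exact h3.of_algEquiv e


end FieldDesc

/-- For a flat ring map `A → B` and an element `z` of an `A`-module `N`: a prime of `B` minimal over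
the annihilator of `1 ⊗ z` contracts to a prime minimal over the annihilator of `z`. -/
theorem comap_mem_weakAss_of_flat_of_tmul {A B : Type u} [CommRing A] [CommRing B] [Algebra A B]
    [Module.Flat A B] {N : Type u} [AddCommGroup N] [Module A N] (z : N) (q : Ideal B) [q.IsPrime]
    (hq : q ∈ (Submodule.span B {(1 : B) ⊗ₜ[A] z}).annihilator.minimalPrimes) :
    q.comap (algebraMap A B) ∈ FlatCA.weakAss A N := by
  rw [ann_one_tmul_eq_map] at hq
  set I := (Submodule.span A {z}).annihilator with hI
  haveI hcp : (q.comap (algebraMap A B)).IsPrime := Ideal.comap_isPrime _ _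
  refine ⟨z, ⟨hcp, Ideal.map_le_iff_le_comap.1 hq.1.2⟩, ?_⟩
  rintro p' ⟨hp', hIp'⟩ hle
  haveI := hp'
  haveI : q.LiesOver (q.comap (algebraMap A B)) := ⟨rfl⟩
  obtain ⟨Q, hQq, hQ, hQp⟩ := Ideal.exists_ideal_le_liesOver_of_le (p := p')
    (q := q.comap (algebraMap A B)) q hle
  have h1 : I.map (algebraMap A B) ≤ Q := by
    rw [Ideal.map_le_iff_le_comap]
    have : Q.comap (algebraMap A B) = p' := (hQp.over).symm
    rw [this]
    exact hIp'
  have h2 : q ≤ Q := hq.2 ⟨hQ, h1⟩ hQq
  have : Q.comap (algebraMap A B) = p' := (hQp.over).symm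
  rw [← this]
  exact Ideal.comap_mono h2


section Union

variable (k K R M : Type u) [Field k] [Field K] [Algebra k K] [CommRing R] [Algebra k R]
  [AddCommGroup M] [Module R M]

/-- The map `R ⊗ L → R ⊗ K` for an intermediate field `L`. -/
noncomputable def phi (L : IntermediateField k K) : R ⊗[k] L →ₐ[R] R ⊗[k] K :=
  Algebra.TensorProduct.map (AlgHom.id R R) L.val

/-- The map `(R ⊗ L) ⊗ M → (R ⊗ K) ⊗ M`. -/
noncomputable def Phi (L : IntermediateField k K) :
    (R ⊗[k] L) ⊗[R] M →ₗ[R] (R ⊗[k] K) ⊗[R] M :=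
  LinearMap.rTensor M (phi k K R L).toLinearMap

lemma Phi_tmul (L : IntermediateField k K) (b : R ⊗[k] L) (m : M) :
    Phi k K R M L (b ⊗ₜ m) = (phi k K R L b) ⊗ₜ m := rfl

lemma phi_tmul (L : IntermediateField k K) (r : R) (a : L) :
    phi k K R L (r ⊗ₜ a) = r ⊗ₜ (a : K) := rfl

lemma Phi_mono {L L' : IntermediateField k K} (h : L ≤ L') :
    LinearMap.range (Phi k K R M L) ≤ LinearMap.range (Phi k K R M L') := by
  rintro _ ⟨y, rfl⟩
  induction y using TensorProduct.induction_on with
  | zero => rw [map_zero]; exact Submodule.zero_mem _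
  | add y₁ y₂ h₁ h₂ => rw [map_add]; exact Submodule.add_mem _ h₁ h₂
  | tmul b m =>
    refine ⟨(Algebra.TensorProduct.map (AlgHom.id R R) (IntermediateField.inclusion h) b) ⊗ₜ m, ?_⟩
    rw [Phi_tmul, Phi_tmul]
    congr 1
    induction b using TensorProduct.induction_on with
    | zero => simp
    | add b₁ b₂ h₁ h₂ => rw [map_add, map_add, map_add, h₁, h₂]
    | tmul r a => rfl

lemma exists_fg_mem_range (z : (R ⊗[k] K) ⊗[R] M) :
    ∃ L : IntermediateField k K, L.FG ∧ z ∈ LinearMap.range (Phi k K R M L) := by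
  have hadd : ∀ z₁ z₂ : (R ⊗[k] K) ⊗[R] M,
      (∃ L : IntermediateField k K, L.FG ∧ z₁ ∈ LinearMap.range (Phi k K R M L)) →
      (∃ L : IntermediateField k K, L.FG ∧ z₂ ∈ LinearMap.range (Phi k K R M L)) →
      ∃ L : IntermediateField k K, L.FG ∧ z₁ + z₂ ∈ LinearMap.range (Phi k K R M L) := by
    rintro z₁ z₂ ⟨L₁, hL₁, h₁⟩ ⟨L₂, hL₂, h₂⟩
    exact ⟨L₁ ⊔ L₂, IntermediateField.fg_sup hL₁ hL₂,
      Submodule.add_mem _ (Phi_mono k K R M le_sup_left h₁) (Phi_mono k K R M le_sup_right h₂)⟩
  induction z using TensorProduct.induction_on with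
  | zero => exact ⟨⊥, IntermediateField.fg_bot, Submodule.zero_mem _⟩
  | add z₁ z₂ h₁ h₂ => exact hadd z₁ z₂ h₁ h₂
  | tmul c m =>
    induction c using TensorProduct.induction_on with
    | zero => exact ⟨⊥, IntermediateField.fg_bot, by rw [zero_tmul]; exact Submodule.zero_mem _⟩
    | add c₁ c₂ h₁ h₂ => rw [add_tmul]; exact hadd _ _ h₁ h₂
    | tmul r a =>
      refine ⟨IntermediateField.adjoin k {a}, ⟨{a}, by simp⟩,
        ⟨(r ⊗ₜ ⟨a, IntermediateField.mem_adjoin_simple_self k a⟩) ⊗ₜ m, rfl⟩⟩


attribute [local instance] Algebra.TensorProduct.rightAlgebra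

variable {k K R M} in
/-- The key step: descent for `K` from descent for a subextension `L` through which the element
is defined. -/
theorem comap_mem_of_mem_range (L : IntermediateField k K) (hL : FieldDesc k L)
    (y : (R ⊗[k] L) ⊗[R] M) (q : Ideal (R ⊗[k] K)) [q.IsPrime]
    (hq : q ∈ (Submodule.span (R ⊗[k] K) {Phi k K R M L y}).annihilator.minimalPrimes) :
    q.comap (algebraMap R (R ⊗[k] K)) ∈ FlatCA.weakAss R M := by
  letI algLK : Algebra (R ⊗[k] L) (R ⊗[k] K) := (phi k K R L).toRingHom.toAlgebra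
  haveI t1 : IsScalarTower R (R ⊗[k] L) (R ⊗[k] K) :=
    IsScalarTower.of_algebraMap_eq (R := R) (S := R ⊗[k] L) (A := R ⊗[k] K) (fun r => by
    change algebraMap R (R ⊗[k] K) r = phi k K R L (algebraMap R (R ⊗[k] L) r)
    rw [AlgHom.commutes])
  haveI t3 : IsScalarTower L (R ⊗[k] L) (R ⊗[k] K) :=
    IsScalarTower.of_algebraMap_eq (R := L) (S := R ⊗[k] L) (A := R ⊗[k] K) (fun a => by
    change (1 : R) ⊗ₜ[k] ((a : L) : K) = phi k K R L ((1 : R) ⊗ₜ[k] a)
    rfl)
  haveI t4 : IsScalarTower k (R ⊗[k] L) (R ⊗[k] K) :=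
    IsScalarTower.of_algebraMap_eq (R := k) (S := R ⊗[k] L) (A := R ⊗[k] K) (fun c => by
    rw [IsScalarTower.algebraMap_apply k R (R ⊗[k] K), IsScalarTower.algebraMap_apply R (R ⊗[k] L) (R ⊗[k] K),
      ← IsScalarTower.algebraMap_apply k R (R ⊗[k] L)])
  have hpush : Algebra.IsPushout L K (R ⊗[k] L) (R ⊗[k] K) :=
    (Algebra.IsPushout.comp_iff k L R (S' := (R ⊗[k] L)) (T := K) (T' := (R ⊗[k] K))).1 inferInstance
  haveI : Module.Free L K := Module.Free.of_divisionRing L K
  haveI : Module.Flat L K := Module.Flat.of_free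
  haveI : Module.Flat (R ⊗[k] L) (R ⊗[k] K) :=
    Module.Flat.isBaseChange L (R ⊗[k] L) K (R ⊗[k] K) hpush.symm.out
  -- the comparison isomorphism
  let e : (R ⊗[k] K) ⊗[(R ⊗[k] L)] ((R ⊗[k] L) ⊗[R] M) ≃ₗ[(R ⊗[k] K)] (R ⊗[k] K) ⊗[R] M :=
    AlgebraTensorModule.cancelBaseChange R (R ⊗[k] L) (R ⊗[k] K) (R ⊗[k] K) M
  have he : ∀ y : (R ⊗[k] L) ⊗[R] M,
      e ((1 : (R ⊗[k] K)) ⊗ₜ[(R ⊗[k] L)] y) = Phi k K R M L y := by
    intro y
    induction y using TensorProduct.induction_on with
    | zero => rw [tmul_zero, map_zero, map_zero]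
    | add y₁ y₂ h₁ h₂ => rw [tmul_add, map_add, map_add, h₁, h₂]
    | tmul b m =>
      rw [AlgebraTensorModule.cancelBaseChange_tmul, Phi_tmul, Algebra.smul_def, mul_one]
      rfl
  have hann : (Submodule.span (R ⊗[k] K) {Phi k K R M L y}).annihilator =
      (Submodule.span (R ⊗[k] K) {(1 : (R ⊗[k] K)) ⊗ₜ[(R ⊗[k] L)] y}).annihilator := by
    ext b
    rw [mem_ann_iff, mem_ann_iff, ← he y, ← map_smul, LinearEquiv.map_eq_zero_iff]
  rw [hann] at hq
  have h1 := comap_mem_weakAss_of_flat_of_tmul (A := (R ⊗[k] L)) (B := (R ⊗[k] K)) y q hq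
  haveI := (show ∀ p' : Ideal (R ⊗[k] ↥L),
    p' ∈ FlatCA.weakAss (R ⊗[k] ↥L) ((R ⊗[k] ↥L) ⊗[R] M) → p'.IsPrime from
      fun p' ⟨m, hm⟩ => hm.1.1) _ h1
  have h2 := hL R M _ h1
  rwa [Ideal.comap_comap, ← IsScalarTower.algebraMap_eq] at h2


end Union

/-- **Descent of weakly associated primes along an arbitrary field extension.** -/
theorem fieldDesc (k K : Type u) [Field k] [Field K] [Algebra k K] : FieldDesc k K := by
  intro R _ _ M _ _ q _ hq
  obtain ⟨z, hz⟩ := hq
  obtain ⟨L, hL, y, rfl⟩ := exists_fg_mem_range k K R M z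
  exact comap_mem_of_mem_range L (FieldDesc.of_fg L hL) y q hz

/-- The statement for an arbitrary pushout `RK` of `k → K` along `k → R` and an arbitrary base
change `MK` of `M` (Stacks 0CUB). -/
theorem comap_mem_weakAss_baseChange_field {k K R : Type u} [Field k] [Field K] [Algebra k K]
    [CommRing R] [Algebra k R] (RK : Type u) [CommRing RK] [Algebra k RK] [Algebra K RK]
    [Algebra R RK] [IsScalarTower k K RK] [IsScalarTower k R RK] [Algebra.IsPushout k K R RK]
    (M : Type u) [AddCommGroup M] [Module R M] (MK : Type u) [AddCommGroup MK] [Module RK MK]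
    [Module R MK] [IsScalarTower R RK MK] (f : M →ₗ[R] MK) (hf : IsBaseChange RK f)
    (q : Ideal RK) [q.IsPrime] (hq : q ∈ FlatCA.weakAss RK MK) :
    q.comap (algebraMap R RK) ∈ FlatCA.weakAss R M := by
  haveI h : Algebra.IsPushout k R K RK := Algebra.IsPushout.symm inferInstance
  have hd : Desc R RK := (fieldDesc k K R).of_algEquiv (Algebra.IsPushout.equiv k R K RK)
  exact hd.comap_mem f hf q hq

end Groth.Agent.R2.H40.WAssField
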