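import Mathlib
import Groth.Agent.R2.H40WAssBC
import Groth.Agent.R2.H40WAssField
import Groth.Prelude.Def_CurvBase
import Groth.Agent.R2.H9PullStalk

/-!
# Weakly associated points descend along `X_K ⟶ X` (helper40)

Scheme version of Stacks 0CUB: for `X` over a field `k`, `K/k` a field extension, `F` an
`O_X`-module and `y ∈ X_K` weakly associated to the pullback of `F`, the image of `y` in `X` is
weakly associated to `F`.  Ingredients: `Desc` for `R → R ⊗[k] K` (`H40WAssField.fieldDesc`),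
Mathlib's `isIso_pushoutSection_of_isAffineOpen` (sections over an affine open of `X_K`), passage of
`Desc` to localizations, and the stalk formula for pullbacks (`H9PullStalk`).
-/

set_option autoImplicit false
set_option linter.style.haveILetI false
universe u

open TensorProduct CategoryTheory CategoryTheory.Limits AlgebraicGeometry

namespace Groth.Agent.R2.H40.WAssScheme

open Groth.Agent.R2.H6.WeakAss Groth.Agent.R2.H40.WAssBC

/-- `Desc` passes to localizations of source and target. -/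
theorem desc_of_localizations {R C A B : Type u} [CommRing R] [CommRing C] [CommRing A] [CommRing B]
    [Algebra R C] [Algebra R A] [Algebra C B] [Algebra A B] [Algebra R B]
    [IsScalarTower R A B] [IsScalarTower R C B]
    (S : Submonoid R) [IsLocalization S A] (T : Submonoid C) [IsLocalization T B]
    (h : Desc R C) : Desc A B := by
  intro N _ _ q _ hq
  have hRB : Desc R B := h.trans (Desc.of_isLocalization T)
  letI : Module R N := Module.compHom N (algebraMap R A)
  haveI : IsScalarTower R A N := IsScalarTower.of_compHom R A N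
  haveI : IsLocalizedModule S (LinearMap.id : N →ₗ[R] N) := isLocalizedModule_id S N A
  have hb1 : IsBaseChange A (LinearMap.id : N →ₗ[R] N) :=
    IsLocalizedModule.isBaseChange S A _
  have hb2 : IsBaseChange B (TensorProduct.mk A B N 1) := TensorProduct.isBaseChange A N B
  have hb := IsBaseChange.comp hb1 hb2
  have h1 := Desc.comap_mem hRB _ hb q hq
  rw [mem_weakAss_iff_comap_of_isLocalization S A (LinearMap.id : N →ₗ[R] N)]
  rwa [Ideal.comap_comap, ← IsScalarTower.algebraMap_eq]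

variable (k : Type u) [Field k] (K : Type u) [Field K] [Algebra k K] (X : Scheme.{u})
    [X.Over (Spec (CommRingCat.of k))]

theorem isPushout_sections (U : X.Opens) (hU : IsAffineOpen U) :
    IsPushout ((X ↘ Spec (CommRingCat.of k)).appLE ⊤ U le_top)
      ((Spec.map (CommRingCat.ofHom (algebraMap k K))).appLE ⊤ ⊤ le_top)
      ((Curv2.bcFst k X K).appLE U ((Curv2.bcFst k X K) ⁻¹ᵁ U) le_rfl)
      ((Curv2.bcSnd k X K).appLE ⊤ ((Curv2.bcFst k X K) ⁻¹ᵁ U) le_top) := by
  have H : IsPullback (Curv2.bcFst k X K) (Curv2.bcSnd k X K) (X ↘ Spec (CommRingCat.of k))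
      (Spec.map (CommRingCat.ofHom (algebraMap k K))) := IsPullback.of_hasPullback _ _
  have hUY : (Curv2.bcFst k X K) ⁻¹ᵁ U =
      (Curv2.bcFst k X K) ⁻¹ᵁ U ⊓ (Curv2.bcSnd k X K) ⁻¹ᵁ ⊤ := by simp
  have := isIso_pushoutSection_of_isAffineOpen H (US := ⊤) (UT := ⊤) (UX := U) le_top le_top hUY
    (isAffineOpen_top _) (isAffineOpen_top _) hU
  exact (isIso_pushoutSection_iff H le_top le_top hUY).mp this

theorem isPushout_sections' (U : X.Opens) (hU : IsAffineOpen U) :
    IsPushout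
      ((Scheme.ΓSpecIso (CommRingCat.of k)).inv ≫ (X ↘ Spec (CommRingCat.of k)).appLE ⊤ U le_top)
      (CommRingCat.ofHom (algebraMap k K))
      ((Curv2.bcFst k X K).appLE U ((Curv2.bcFst k X K) ⁻¹ᵁ U) le_rfl)
      ((Scheme.ΓSpecIso (CommRingCat.of K)).inv ≫
        (Curv2.bcSnd k X K).appLE ⊤ ((Curv2.bcFst k X K) ⁻¹ᵁ U) le_top) := by
  refine (isPushout_sections k K X U hU).of_iso (Scheme.ΓSpecIso (CommRingCat.of k)) (Iso.refl _)
    (Scheme.ΓSpecIso (CommRingCat.of K)) (Iso.refl _) (by simp) ?_ (by simp) (by simp)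
  rw [← Scheme.ΓSpecIso_naturality]
  congr 1

/-- Weakly associated primes descend from `Γ(X_K, pr⁻¹ U)` to `Γ(X, U)`, for `U` affine. -/
theorem desc_sections (U : X.Opens) (hU : IsAffineOpen U) :
    letI : Algebra Γ(X, U) Γ(Curv2.bc k X K, (Curv2.bcFst k X K) ⁻¹ᵁ U) :=
      ((Curv2.bcFst k X K).appLE U ((Curv2.bcFst k X K) ⁻¹ᵁ U) le_rfl).hom.toAlgebra
    Desc Γ(X, U) Γ(Curv2.bc k X K, (Curv2.bcFst k X K) ⁻¹ᵁ U) := by
  letI : Algebra Γ(X, U) Γ(Curv2.bc k X K, (Curv2.bcFst k X K) ⁻¹ᵁ U) :=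
      ((Curv2.bcFst k X K).appLE U ((Curv2.bcFst k X K) ⁻¹ᵁ U) le_rfl).hom.toAlgebra
  letI : Algebra k Γ(X, U) :=
    ((Scheme.ΓSpecIso (CommRingCat.of k)).inv ≫
      (X ↘ Spec (CommRingCat.of k)).appLE ⊤ U le_top).hom.toAlgebra
  letI : Algebra K Γ(Curv2.bc k X K, (Curv2.bcFst k X K) ⁻¹ᵁ U) :=
    ((Scheme.ΓSpecIso (CommRingCat.of K)).inv ≫
        (Curv2.bcSnd k X K).appLE ⊤ ((Curv2.bcFst k X K) ⁻¹ᵁ U) le_top).hom.toAlgebra
  letI : Algebra k Γ(Curv2.bc k X K, (Curv2.bcFst k X K) ⁻¹ᵁ U) :=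
    ((algebraMap Γ(X, U) Γ(Curv2.bc k X K, (Curv2.bcFst k X K) ⁻¹ᵁ U)).comp
      (algebraMap k Γ(X, U))).toAlgebra
  haveI : IsScalarTower k Γ(X, U) Γ(Curv2.bc k X K, (Curv2.bcFst k X K) ⁻¹ᵁ U) :=
    IsScalarTower.of_algebraMap_eq (fun _ => rfl)
  have hP := isPushout_sections' k K X U hU
  haveI : IsScalarTower k K Γ(Curv2.bc k X K, (Curv2.bcFst k X K) ⁻¹ᵁ U) :=
    IsScalarTower.of_algebraMap_eq (fun c => by
      have := congrArg (fun f => f.hom c) hP.w
      exact this)
  haveI : Algebra.IsPushout k Γ(X, U) K Γ(Curv2.bc k X K, (Curv2.bcFst k X K) ⁻¹ᵁ U) :=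
    CommRingCat.isPushout_iff_isPushout.mp hP
  exact Desc.of_algEquiv
    (Algebra.IsPushout.equiv k Γ(X, U) K Γ(Curv2.bc k X K, (Curv2.bcFst k X K) ⁻¹ᵁ U))
    (Groth.Agent.R2.H40.WAssField.fieldDesc k K Γ(X, U))

set_option backward.isDefEq.respectTransparency.types false in
theorem isAffineHom_bcFst : IsAffineHom (Curv2.bcFst k X K) :=
  MorphismProperty.pullback_fst (P := @IsAffineHom) _ _ (inferInstanceAs
    (IsAffineHom (Spec.map (CommRingCat.ofHom (algebraMap k K)))))

/-- Weakly associated primes descend along the stalk map of `X_K ⟶ X`. -/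
theorem desc_stalk (y : Curv2.bc k X K) :
    letI : Algebra (X.presheaf.stalk (Curv2.bcFst k X K y))
        ((Curv2.bc k X K).presheaf.stalk y) := ((Curv2.bcFst k X K).stalkMap y).hom.toAlgebra
    Desc (X.presheaf.stalk (Curv2.bcFst k X K y)) ((Curv2.bc k X K).presheaf.stalk y) := by
  letI : Algebra (X.presheaf.stalk (Curv2.bcFst k X K y))
      ((Curv2.bc k X K).presheaf.stalk y) := ((Curv2.bcFst k X K).stalkMap y).hom.toAlgebra
  obtain ⟨_, ⟨U, hU, rfl⟩, hxU, -⟩ := X.isBasis_affineOpens.exists_subset_of_mem_open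
    (Set.mem_univ (Curv2.bcFst k X K y)) isOpen_univ
  haveI : IsAffineHom (Curv2.bcFst k X K) := isAffineHom_bcFst k K X
  have hW : IsAffineOpen ((Curv2.bcFst k X K) ⁻¹ᵁ U) := hU.preimage _
  have hyW : y ∈ (Curv2.bcFst k X K) ⁻¹ᵁ U := hxU
  letI : Algebra Γ(X, U) Γ(Curv2.bc k X K, (Curv2.bcFst k X K) ⁻¹ᵁ U) :=
      ((Curv2.bcFst k X K).appLE U ((Curv2.bcFst k X K) ⁻¹ᵁ U) le_rfl).hom.toAlgebra
  letI : Algebra Γ(X, U) (X.presheaf.stalk (Curv2.bcFst k X K y)) :=
    X.presheaf.algebra_section_stalk ⟨Curv2.bcFst k X K y, hxU⟩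
  letI : Algebra Γ(Curv2.bc k X K, (Curv2.bcFst k X K) ⁻¹ᵁ U)
      ((Curv2.bc k X K).presheaf.stalk y) :=
    (Curv2.bc k X K).presheaf.algebra_section_stalk ⟨y, hyW⟩
  haveI := hU.isLocalization_stalk ⟨Curv2.bcFst k X K y, hxU⟩
  haveI := hW.isLocalization_stalk ⟨y, hyW⟩
  letI : Algebra Γ(X, U) ((Curv2.bc k X K).presheaf.stalk y) :=
    ((algebraMap (X.presheaf.stalk (Curv2.bcFst k X K y))
      ((Curv2.bc k X K).presheaf.stalk y)).comp
      (algebraMap Γ(X, U) (X.presheaf.stalk (Curv2.bcFst k X K y)))).toAlgebra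
  haveI : IsScalarTower Γ(X, U) (X.presheaf.stalk (Curv2.bcFst k X K y))
      ((Curv2.bc k X K).presheaf.stalk y) := IsScalarTower.of_algebraMap_eq (fun _ => rfl)
  haveI : IsScalarTower Γ(X, U) Γ(Curv2.bc k X K, (Curv2.bcFst k X K) ⁻¹ᵁ U)
      ((Curv2.bc k X K).presheaf.stalk y) := IsScalarTower.of_algebraMap_eq (fun c => by
    have := congrArg (fun f => f.hom c)
      (Scheme.Hom.germ_stalkMap (Curv2.bcFst k X K) U y hxU)
    rw [Scheme.Hom.app_eq_appLE] at this
    exact this)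
  exact desc_of_localizations (hU.primeIdealOf ⟨Curv2.bcFst k X K y, hxU⟩).asIdeal.primeCompl
    (hW.primeIdealOf ⟨y, hyW⟩).asIdeal.primeCompl (desc_sections k K X U hU)

section Local

variable {A : Type u} [CommRing A] [IsLocalRing A]

theorem maximalIdeal_mem_minimalPrimes_iff (I : Ideal A) :
    IsLocalRing.maximalIdeal A ∈ I.minimalPrimes ↔ I.radical = IsLocalRing.maximalIdeal A := by
  constructor
  · intro h
    apply le_antisymm
    · exact (Ideal.radical_mono h.1.2).trans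
        (Ideal.IsPrime.radical (IsLocalRing.maximalIdeal.isMaximal A).isPrime).le
    · rw [Ideal.radical_eq_sInf]
      apply le_sInf
      rintro P ⟨hIP, hP⟩
      exact h.2 ⟨hP, hIP⟩ (IsLocalRing.le_maximalIdeal hP.ne_top)
  · intro h
    refine ⟨⟨(IsLocalRing.maximalIdeal.isMaximal A).isPrime, h ▸ Ideal.le_radical⟩, ?_⟩
    rintro Q ⟨hQ, hIQ⟩ _
    rw [← h]
    exact (Ideal.IsPrime.radical_le_iff hQ).mpr hIQ

theorem maximalIdeal_mem_weakAss_iff {M : Type*} [AddCommGroup M] [Module A M] :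
    IsLocalRing.maximalIdeal A ∈ FlatCA.weakAss A M ↔
      ∃ m : M, Ideal.radical (LinearMap.ker (LinearMap.toSpanSingleton A M m)) =
        IsLocalRing.maximalIdeal A := by
  have key : ∀ m : M, (Submodule.span A {m}).annihilator =
      LinearMap.ker (LinearMap.toSpanSingleton A M m) := by
    intro m
    ext a
    rw [mem_ann_iff, LinearMap.mem_ker, LinearMap.toSpanSingleton_apply]
  constructor
  · rintro ⟨m, hm⟩
    exact ⟨m, by rw [← key, ← maximalIdeal_mem_minimalPrimes_iff]; exact hm⟩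
  · rintro ⟨m, hm⟩
    exact ⟨m, by rw [maximalIdeal_mem_minimalPrimes_iff, key]; exact hm⟩

end Local

/-- **S8900 shape.** -/
theorem isWeakAssPoint_of_baseChange_field (F : X.Modules) (y : ↥(Curv2.bc k X K))
    (hy : Curv2.IsWeakAssPoint ((Scheme.Modules.pullback (Curv2.bcFst k X K)).obj F) y) :
    Curv2.IsWeakAssPoint F (Curv2.bcFst k X K y) := by
  letI : Algebra (X.presheaf.stalk (Curv2.bcFst k X K y))
      ((Curv2.bc k X K).presheaf.stalk y) := ((Curv2.bcFst k X K).stalkMap y).hom.toAlgebra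
  haveI : IsLocalHom (algebraMap (X.presheaf.stalk (Curv2.bcFst k X K y))
      ((Curv2.bc k X K).presheaf.stalk y)) :=
    inferInstanceAs (IsLocalHom ((Curv2.bcFst k X K).stalkMap y).hom)
  have hD := desc_stalk k K X y
  let e := Groth.Agent.R2.H9.PullStalk.stalkPullbackEquiv (Curv2.bcFst k X K) F y
  have h1 : IsLocalRing.maximalIdeal ((Curv2.bc k X K).presheaf.stalk y) ∈
      FlatCA.weakAss ((Curv2.bc k X K).presheaf.stalk y)
        (((Curv2.bc k X K).presheaf.stalk y) ⊗[X.presheaf.stalk (Curv2.bcFst k X K y)]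
          (F.presheaf.stalk (Curv2.bcFst k X K y))) := by
    rw [← weakAss_congr e]
    exact maximalIdeal_mem_weakAss_iff.mpr hy
  have h2 := hD _ _ h1
  have h3 : Ideal.comap (algebraMap (X.presheaf.stalk (Curv2.bcFst k X K y))
      ((Curv2.bc k X K).presheaf.stalk y))
      (IsLocalRing.maximalIdeal ((Curv2.bc k X K).presheaf.stalk y)) =
      IsLocalRing.maximalIdeal (X.presheaf.stalk (Curv2.bcFst k X K y)) :=
    ((IsLocalRing.local_hom_TFAE (algebraMap (X.presheaf.stalk (Curv2.bcFst k X K y))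
      ((Curv2.bc k X K).presheaf.stalk y))).out 0 4).mp this
  rw [h3] at h2
  exact maximalIdeal_mem_weakAss_iff.mp h2

end Groth.Agent.R2.H40.WAssScheme
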