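import Mathlib
import Groth.Agent.R2.H9PullStalk
import Groth.Prelude.Def_CurvBase

/-!
# Weakly associated points and flat pullback (helper40)
-/

set_option autoImplicit false
set_option linter.unusedSectionVars false
set_option linter.style.haveILetI false
universe u

open CategoryTheory AlgebraicGeometry TensorProduct IsLocalRing

namespace Groth.Agent.R2.H40.WeakAss

section Alg

variable {A B : Type u} [CommRing A] [CommRing B] [Algebra A B] [Module.Flat A B]
  (M : Type u) [AddCommGroup M] [Module A M]

/-- For `B` flat over `A`, the annihilator of `1 ⊗ m` is the extension of the annihilator of `m`. -/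
theorem ker_toSpanSingleton_tmul (m : M) :
    LinearMap.ker (LinearMap.toSpanSingleton B (B ⊗[A] M) ((1 : B) ⊗ₜ[A] m)) =
      Ideal.map (algebraMap A B) (LinearMap.ker (LinearMap.toSpanSingleton A M m)) := by
  set J : Ideal A := LinearMap.ker (LinearMap.toSpanSingleton A M m) with hJ
  apply le_antisymm
  · intro b hb
    rw [LinearMap.mem_ker, LinearMap.toSpanSingleton_apply, TensorProduct.smul_tmul',
      smul_eq_mul, mul_one] at hb
    -- the injective map `A/J → M`
    let g : (A ⧸ J) →ₗ[A] M := Submodule.liftQ J (LinearMap.toSpanSingleton A M m) le_rfl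
    have hg : Function.Injective g := by
      rw [← LinearMap.ker_eq_bot]
      exact Submodule.ker_liftQ_eq_bot _ _ _ le_rfl
    have hg' : Function.Injective (g.lTensor B) :=
      Module.Flat.lTensor_preserves_injective_linearMap g hg
    have h1 : (g.lTensor B) (b ⊗ₜ[A] (Ideal.Quotient.mk J 1)) = 0 := by
      rw [LinearMap.lTensor_tmul]
      change b ⊗ₜ[A] (LinearMap.toSpanSingleton A M m 1) = 0
      rw [LinearMap.toSpanSingleton_apply, one_smul]
      exact hb
    have h2 : b ⊗ₜ[A] (Ideal.Quotient.mk J 1) = (0 : B ⊗[A] (A ⧸ J)) :=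
      hg' (h1.trans (map_zero _).symm)
    have h3 := congrArg (Algebra.TensorProduct.quotIdealMapEquivTensorQuot B J).symm h2
    rw [Algebra.TensorProduct.quotIdealMapEquivTensorQuot_symm_tmul, map_zero, one_smul] at h3
    exact (Submodule.Quotient.mk_eq_zero _).mp h3
  · rw [Ideal.map_le_iff_le_comap]
    intro a ha
    rw [Ideal.mem_comap, LinearMap.mem_ker, LinearMap.toSpanSingleton_apply,
      TensorProduct.smul_tmul', smul_eq_mul, mul_one, Algebra.algebraMap_eq_smul_one,
      TensorProduct.smul_tmul]
    rw [LinearMap.mem_ker, LinearMap.toSpanSingleton_apply] at ha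
    rw [ha, TensorProduct.tmul_zero]

end Alg

section Local

variable {A B : Type u} [CommRing A] [CommRing B] [IsLocalRing A] [IsLocalRing B] [Algebra A B]
  [Module.Flat A B] [IsLocalHom (algebraMap A B)] (M : Type u) [AddCommGroup M] [Module A M]

/-- If the closed fibre of the flat local map `A → B` is a point and `𝔪_A` is weakly associated to
`M` through `m`, then `𝔪_B` is weakly associated to `B ⊗ M` through `1 ⊗ m`. -/
theorem radical_ker_tmul
    (hfib : ∀ P : Ideal B, P.IsPrime → (maximalIdeal A).map (algebraMap A B) ≤ P →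
      P = maximalIdeal B)
    (m : M)
    (hm : Ideal.radical (LinearMap.ker (LinearMap.toSpanSingleton A M m)) = maximalIdeal A) :
    Ideal.radical (LinearMap.ker (LinearMap.toSpanSingleton B (B ⊗[A] M) ((1 : B) ⊗ₜ[A] m))) =
      maximalIdeal B := by
  rw [ker_toSpanSingleton_tmul]
  set J : Ideal A := LinearMap.ker (LinearMap.toSpanSingleton A M m) with hJ
  have hJm : J ≤ maximalIdeal A := by rw [← hm]; exact Ideal.le_radical
  have hJB : J.map (algebraMap A B) ≤ maximalIdeal B :=
    (Ideal.map_mono hJm).trans (IsLocalRing.map_maximalIdeal_le (algebraMap A B))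
  apply le_antisymm
  · exact (Ideal.radical_mono hJB).trans
      (Ideal.IsPrime.radical (maximalIdeal.isMaximal B).isPrime).le
  · rw [Ideal.radical_eq_sInf]
    apply le_sInf
    rintro P ⟨hJP, hP⟩
    have h1 : maximalIdeal A ≤ P.comap (algebraMap A B) := by
      rw [← hm]
      haveI : (P.comap (algebraMap A B)).IsPrime := Ideal.IsPrime.comap _
      exact (Ideal.IsPrime.radical_le_iff inferInstance).mpr (Ideal.map_le_iff_le_comap.mp hJP)
    rw [hfib P hP (Ideal.map_le_iff_le_comap.mpr h1)]

end Local

section Scheme

variable {X S : Scheme.{u}} (f : X ⟶ S)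

/-- If no other point of the fibre specialises to `x`, the closed fibre of the stalk map at `x` is a
point. -/
theorem eq_maximalIdeal_of_generic (x : X) (hgen : ∀ y : ↥X, f y = f x → y ⤳ x → y = x)
    (P : Ideal (X.presheaf.stalk x)) (hP : P.IsPrime)
    (hle : (maximalIdeal (S.presheaf.stalk (f x))).map (f.stalkMap x).hom ≤ P) :
    P = maximalIdeal (X.presheaf.stalk x) := by
  let p : ↥(Spec (X.presheaf.stalk x)) := (⟨P, hP⟩ : PrimeSpectrum (X.presheaf.stalk x))
  let y : X := X.fromSpecStalk x p
  have hyx : y ⤳ x := by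
    have : y ∈ Set.range (X.fromSpecStalk x) := ⟨p, rfl⟩
    rw [Scheme.range_fromSpecStalk] at this
    exact this
  have hcomap : (Spec.map (f.stalkMap x)) p = closedPoint (S.presheaf.stalk (f x)) := by
    apply PrimeSpectrum.ext
    change P.comap (f.stalkMap x).hom = maximalIdeal _
    apply le_antisymm
    · exact IsLocalRing.le_maximalIdeal (Ideal.IsPrime.comap (f.stalkMap x).hom).ne_top
    · exact Ideal.map_le_iff_le_comap.mp hle
  have hfy : f y = f x := by
    have h1 : (X.fromSpecStalk x ≫ f) p =
        (Spec.map (f.stalkMap x) ≫ S.fromSpecStalk (f x)) p := by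
      rw [Scheme.SpecMap_stalkMap_fromSpecStalk]
    rw [Scheme.Hom.comp_apply, Scheme.Hom.comp_apply, hcomap,
      Scheme.fromSpecStalk_closedPoint] at h1
    exact h1
  have hy : y = x := hgen y hfy hyx
  have hinj : Function.Injective (X.fromSpecStalk x) :=
    (X.fromSpecStalk x).isEmbedding.injective
  have h2 : p = closedPoint (X.presheaf.stalk x) :=
    hinj (hy.trans Scheme.fromSpecStalk_closedPoint.symm)
  exact congrArg PrimeSpectrum.asIdeal h2

end Scheme

end Groth.Agent.R2.H40.WeakAss
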