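import Mathlib
import Groth.Agent.R2.H40HtOne

/-!
# `n`-th powers descend along flat local maps weakly unramified in codimension one (helper40)
-/

set_option autoImplicit false
set_option linter.unusedSectionVars false
set_option linter.style.haveILetI false
set_option linter.unusedVariables false
universe u

namespace Groth.Agent.R2.H40.WeakUnram

open IsLocalRing Groth.Agent.R2.H40.HtOne

variable {A B : Type u} [CommRing A] [IsDomain A] [IsNoetherianRing A] [IsIntegrallyClosed A]
  [CommRing B] [IsDomain B] [IsNoetherianRing B] [IsIntegrallyClosed B] [Algebra A B]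

/-- The valuation of `f` at a weakly unramified height one prime is divisible by `n`. -/
theorem exists_val_data (hinj : Function.Injective (algebraMap A B))
    (f : A) (hf0 : f ≠ 0) (h : B) (n : ℕ) (hn : 0 < n) (w : Bˣ)
    (hf : algebraMap A B f = (w : B) * h ^ n)
    (p : Ideal A) [hp : p.IsPrime] (hp1 : p.height = 1)
    (q : Ideal B) [hq : q.IsPrime] (hq1 : q.height = 1)
    (hqp : q.comap (algebraMap A B) = p)
    (hmax : Ideal.map (algebraMap B (Localization.AtPrime q)) (Ideal.map (algebraMap A B) p) =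
      maximalIdeal (Localization.AtPrime q))
    (z : A) (hz : z ∈ p) (hz' : z ∉ sq p) :
    ∃ k : ℕ, ∃ s t : A, s ∉ p ∧ t ∉ p ∧ s * f = t * z ^ (n * k) := by
  haveI : IsDiscreteValuationRing (Localization.AtPrime p) :=
    Groth.Agent.Lib.Helper28.WeakKrull.isDiscreteValuationRing_localization_of_height_one A p hp1
  haveI : IsDiscreteValuationRing (Localization.AtPrime q) :=
    Groth.Agent.Lib.Helper28.WeakKrull.isDiscreteValuationRing_localization_of_height_one B q hq1
  set ϖ := algebraMap A (Localization.AtPrime p) z with hϖ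
  have hmaxA : maximalIdeal (Localization.AtPrime p) = Ideal.span {ϖ} :=
    maximalIdeal_eq_span_of_notMem_sq p hp1 hz hz'
  have hirr : Irreducible ϖ := (IsDiscreteValuationRing.irreducible_iff_uniformizer ϖ).mpr hmaxA
  set φ := Localization.localRingHom p q (algebraMap A B) hqp.symm with hφ
  have hφalg : ∀ a : A, φ (algebraMap A (Localization.AtPrime p) a) =
      algebraMap B (Localization.AtPrime q) (algebraMap A B a) := fun a =>
    Localization.localRingHom_to_map p q (algebraMap A B) hqp.symm a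
  have hmaxB : maximalIdeal (Localization.AtPrime q) = Ideal.span {φ ϖ} := by
    have hcomp : (algebraMap B (Localization.AtPrime q)).comp (algebraMap A B) =
        φ.comp (algebraMap A (Localization.AtPrime p)) := by
      ext a; simp only [RingHom.comp_apply]; exact (hφalg a).symm
    rw [← hmax, Ideal.map_map, hcomp, ← Ideal.map_map, Localization.AtPrime.map_eq_maximalIdeal,
      hmaxA, Ideal.map_span, Set.image_singleton]
  have hirrB : Irreducible (φ ϖ) :=
    (IsDiscreteValuationRing.irreducible_iff_uniformizer _).mpr hmaxB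
  have hfA : algebraMap A (Localization.AtPrime p) f ≠ 0 := by
    intro h0
    exact hf0 ((IsLocalization.injective (Localization.AtPrime p)
      p.primeCompl_le_nonZeroDivisors) (by rw [h0, map_zero]))
  have hh0 : h ≠ 0 := by
    intro h0
    apply hf0
    apply hinj
    rw [hf, h0, zero_pow hn.ne', mul_zero, map_zero]
  have hhB : algebraMap B (Localization.AtPrime q) h ≠ 0 := by
    intro h0
    exact hh0 ((IsLocalization.injective (Localization.AtPrime q)
      q.primeCompl_le_nonZeroDivisors) (by rw [h0, map_zero]))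
  obtain ⟨m, hm⟩ := IsDiscreteValuationRing.associated_pow_irreducible hfA hirr
  obtain ⟨k, hk⟩ := IsDiscreteValuationRing.associated_pow_irreducible hhB hirrB
  have hm' : Associated (φ (algebraMap A (Localization.AtPrime p) f)) (φ ϖ ^ m) := by
    have := Associated.map φ hm
    rwa [map_pow] at this
  have hv1 : IsDiscreteValuationRing.addVal (Localization.AtPrime q)
      (φ (algebraMap A (Localization.AtPrime p) f)) = m := by
    rw [(IsDiscreteValuationRing.addVal_eq_iff_associated _ _).mpr hm', hirrB.addVal_pow]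
  have hv2 : IsDiscreteValuationRing.addVal (Localization.AtPrime q)
      (algebraMap B (Localization.AtPrime q) h) = k := by
    rw [(IsDiscreteValuationRing.addVal_eq_iff_associated _ _).mpr hk, hirrB.addVal_pow]
  have hv3 : IsDiscreteValuationRing.addVal (Localization.AtPrime q)
      (φ (algebraMap A (Localization.AtPrime p) f)) = ((n * k : ℕ) : ℕ∞) := by
    rw [hφalg, hf, map_mul, map_pow, IsDiscreteValuationRing.addVal_mul,
      IsDiscreteValuationRing.addVal_pow, hv2]
    have hu : IsUnit (algebraMap B (Localization.AtPrime q) (w : B)) := w.isUnit.map _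
    rw [IsDiscreteValuationRing.addVal_eq_zero_iff.mpr hu, zero_add]
    simp
  have hmk : m = n * k := by
    rw [hv1] at hv3
    exact_mod_cast hv3
  subst hmk
  obtain ⟨u, hu⟩ := hm
  obtain ⟨a, b, hab⟩ := IsLocalization.exists_mk'_eq p.primeCompl (u : Localization.AtPrime p)
  have ha : a ∉ p := by
    have : IsUnit (IsLocalization.mk' (Localization.AtPrime p) a b) := by rw [hab]; exact u.isUnit
    exact (IsLocalization.AtPrime.isUnit_mk'_iff (Localization.AtPrime p) p a b).mp this
  refine ⟨k, a, b, ha, b.2, ?_⟩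
  apply IsLocalization.injective (Localization.AtPrime p) p.primeCompl_le_nonZeroDivisors
  rw [map_mul, map_mul, map_pow, ← hϖ, ← hu, ← hab]
  rw [mul_comm (algebraMap A (Localization.AtPrime p) (b : A)), mul_assoc,
    IsLocalization.mk'_spec, mul_comm]

/-- An `n`-th root of `f` up to a factor `y` which is a unit at all height one primes over `f`. -/
theorem exists_root_data (hinj : Function.Injective (algebraMap A B))
    (f : A) (hf0 : f ≠ 0) (h : B) (n : ℕ) (hn : 0 < n) (w : Bˣ)
    (hf : algebraMap A B f = (w : B) * h ^ n)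
    (hram : ∀ (p : Ideal A) [p.IsPrime], p.height = 1 →
      ∃ (q : Ideal B) (_ : q.IsPrime), q.height = 1 ∧ q.comap (algebraMap A B) = p ∧
        Ideal.map (algebraMap B (Localization.AtPrime q)) (Ideal.map (algebraMap A B) p) =
          IsLocalRing.maximalIdeal (Localization.AtPrime q)) :
    ∃ x y : A, x ^ n = f * y ∧ ∀ P ∈ (Ideal.span {f}).minimalPrimes, y ∉ P := by
  classical
  set T : Finset (Ideal A) :=
    (Ideal.finite_minimalPrimes_of_isNoetherianRing A (Ideal.span {f})).toFinset with hT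
  have hT_mem : ∀ q, q ∈ T ↔ q ∈ (Ideal.span {f}).minimalPrimes := by
    intro q; rw [hT, Set.Finite.mem_toFinset]
  have hTp : ∀ q ∈ T, q.IsPrime ∧ q.height = 1 := fun q hq =>
    ⟨((hT_mem q).mp hq).1.1, height_one_of_mem_minimalPrimes_span hf0 ((hT_mem q).mp hq)⟩
  obtain ⟨z, hz⟩ := exists_uniformizers T hTp
  have hzne : ∀ p ∈ T, z p ≠ 0 := by
    intro p hp h0
    apply (hz p hp).2.1
    rw [h0]; exact Ideal.zero_mem _
  have hk : ∀ p ∈ T, ∃ k : ℕ, ∃ s t : A, s ∉ p ∧ t ∉ p ∧ s * f = t * z p ^ (n * k) := by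
    intro p hp
    haveI := (hTp p hp).1
    obtain ⟨q, hqprime, hq1, hqp, hmax⟩ := hram p (hTp p hp).2
    haveI := hqprime
    exact exists_val_data hinj f hf0 h n hn w hf p (hTp p hp).2 q hq1 hqp hmax (z p)
      (hz p hp).1 (hz p hp).2.1
  choose! k s t hst using hk
  set x : A := ∏ p ∈ T, z p ^ k p with hx_def
  have hcof : ∀ p ∈ T, ∏ p' ∈ T.erase p, z p' ^ k p' ∉ p := by
    intro p hp hmem
    haveI := (hTp p hp).1
    rw [Ideal.IsPrime.prod_mem_iff] at hmem
    obtain ⟨p', hp', hzp'⟩ := hmem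
    rw [Finset.mem_erase] at hp'
    have := Ideal.IsPrime.mem_of_pow_mem ‹p.IsPrime› _ hzp'
    exact (hz p' hp'.2).2.2 p hp (Ne.symm hp'.1) this
  have hx_eq : ∀ p ∈ T, x = z p ^ k p * ∏ p' ∈ T.erase p, z p' ^ k p' := fun p hp =>
    (Finset.mul_prod_erase T _ hp).symm
  have hdvd : f ∣ x ^ n := by
    apply dvd_of_forall_minimalPrimes hf0
    intro Q _ hQ
    have hQT := (hT_mem Q).mpr hQ
    obtain ⟨hs, ht, hstQ⟩ := hst Q hQT
    have h1 : algebraMap A (Localization.AtPrime Q) f ∣
        algebraMap A (Localization.AtPrime Q) (z Q ^ (n * k Q)) := by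
      have hu : IsUnit (algebraMap A (Localization.AtPrime Q) (t Q)) :=
        (IsLocalization.AtPrime.isUnit_to_map_iff (Localization.AtPrime Q) Q (t Q)).mpr ht
      rw [← hu.dvd_mul_left, ← map_mul, ← hstQ, map_mul]
      exact Dvd.intro_left _ rfl
    refine h1.trans (map_dvd _ ?_)
    rw [hx_eq Q hQT, mul_pow, ← pow_mul, mul_comm (k Q) n]
    exact Dvd.intro _ rfl
  obtain ⟨y, hy⟩ := hdvd
  refine ⟨x, y, hy, ?_⟩
  intro P hP hyP
  have hPT := (hT_mem P).mpr hP
  haveI := (hTp P hPT).1
  obtain ⟨hs, ht, hstP⟩ := hst P hPT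
  -- s * cof^n = t * y
  have hkey : z P ^ (n * k P) * (s P * (∏ p' ∈ T.erase P, z p' ^ k p') ^ n) =
      z P ^ (n * k P) * (t P * y) := by
    have h1 : x ^ n = z P ^ (n * k P) * (∏ p' ∈ T.erase P, z p' ^ k p') ^ n := by
      rw [hx_eq P hPT, mul_pow, ← pow_mul, mul_comm (k P) n]
    calc z P ^ (n * k P) * (s P * (∏ p' ∈ T.erase P, z p' ^ k p') ^ n)
        = s P * (z P ^ (n * k P) * (∏ p' ∈ T.erase P, z p' ^ k p') ^ n) := by ring
      _ = s P * (f * y) := by rw [← h1, hy]
      _ = (s P * f) * y := by ring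
      _ = (t P * z P ^ (n * k P)) * y := by rw [hstP]
      _ = z P ^ (n * k P) * (t P * y) := by ring
  have hcancel := mul_left_cancel₀ (pow_ne_zero _ (hzne P hPT)) hkey
  have hmem : s P * (∏ p' ∈ T.erase P, z p' ^ k p') ^ n ∈ P := by
    rw [hcancel]; exact Ideal.mul_mem_left _ _ hyP
  rcases Ideal.IsPrime.mem_or_mem ‹P.IsPrime› hmem with h1 | h1
  · exact hs h1
  · exact hcof P hPT (Ideal.IsPrime.mem_of_pow_mem ‹P.IsPrime› _ h1)

/-- Local analysis: `x ∣ c * y` in `A` forces `h ∣ c` in `B`. -/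
theorem dvd_of_dvd_mul [Module.Flat A B] (hinj : Function.Injective (algebraMap A B))
    (f : A) (hf0 : f ≠ 0) (h : B) (hh0 : h ≠ 0) (n : ℕ) (hn : 0 < n) (w : Bˣ)
    (hf : algebraMap A B f = (w : B) * h ^ n) (x y : A) (hxy : x ^ n = f * y)
    (hy : ∀ P ∈ (Ideal.span {f}).minimalPrimes, y ∉ P)
    (c : A) (hc : x ∣ c * y) : h ∣ algebraMap A B c := by
  have hhx : h ∣ algebraMap A B x := by
    rw [← IsIntegrallyClosed.pow_dvd_pow_iff hn.ne', ← map_pow, hxy, map_mul, hf]
    exact ⟨(w : B) * algebraMap A B y, by ring⟩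
  obtain ⟨t', ht'⟩ := hhx
  obtain ⟨t, ht⟩ := hc
  apply dvd_of_forall_minimalPrimes hh0
  intro Q _ hQ
  have hQ1 : Q.height = 1 := height_one_of_mem_minimalPrimes_span hh0 hQ
  have hhQ : h ∈ Q := (Ideal.span_singleton_le_iff_mem _).mp hQ.1.2
  set P : Ideal A := Q.comap (algebraMap A B) with hP
  haveI : P.IsPrime := Ideal.comap_isPrime _ _
  haveI : Q.LiesOver P := ⟨rfl⟩
  have hfP : f ∈ P := by
    rw [hP, Ideal.mem_comap, hf]
    exact Ideal.mul_mem_left _ _ (Ideal.pow_mem_of_mem _ hhQ _ hn)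
  have hP1 : P.height = 1 := by
    have hle : P.height ≤ 1 := by
      have := Ideal.height_eq_height_add_of_liesOver_of_hasGoingDown P Q
      rw [hQ1] at this
      rw [this]; exact le_self_add
    refine le_antisymm hle ?_
    rw [Order.one_le_iff_pos, pos_iff_ne_zero, Ne, Ideal.height_eq_zero_iff_eq_bot]
    intro hbot
    apply hf0
    rw [hbot] at hfP
    exact hfP
  have hyP : y ∉ P := hy P (mem_minimalPrimes_span_of_height_one hf0 P hP1 hfP)
  have hyQ : algebraMap A B y ∉ Q := fun hmem => hyP (by rw [hP, Ideal.mem_comap]; exact hmem)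
  have hu : IsUnit (algebraMap B (Localization.AtPrime Q) (algebraMap A B y)) :=
    (IsLocalization.AtPrime.isUnit_to_map_iff (Localization.AtPrime Q) Q _).mpr hyQ
  rw [← hu.dvd_mul_right, ← map_mul, ← map_mul, ht, map_mul, ht']
  exact map_dvd _ ⟨t' * algebraMap A B t, by ring⟩

/-- The flatness argument (equational criterion): produce `g ∈ A` generating `hB`. -/
theorem exists_eq_mul_unit [IsLocalRing B] [Module.Flat A B] (x y : A) (h : B) (hh0 : h ≠ 0)
    (hxy : algebraMap A B x ∣ h * algebraMap A B y)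
    (hloc : ∀ c : A, x ∣ c * y → h ∣ algebraMap A B c) :
    ∃ (g : A) (v : Bˣ), algebraMap A B g = h * v := by
  obtain ⟨b', hb'⟩ := hxy
  obtain ⟨k, a, yy, hx, ha⟩ := Module.Flat.isTrivialRelation_of_sum_smul_eq_zero
    (R := A) (M := B) (f := ![y, -x]) (x := ![h, b']) (by
      rw [Fin.sum_univ_two]
      simp only [Matrix.cons_val_zero, Matrix.cons_val_one, Algebra.smul_def, map_neg]
      rw [mul_comm, hb']; ring)
  have hdj : ∀ j : Fin k, ∃ d : B, algebraMap A B (a 0 j) = h * d := by
    intro j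
    apply hloc
    have := ha j
    rw [Fin.sum_univ_two] at this
    simp only [Matrix.cons_val_zero, Matrix.cons_val_one] at this
    exact ⟨a 1 j, by linear_combination this⟩
  choose d hd using hdj
  have hsum : h * 1 = h * ∑ j, d j * yy j := by
    have h0 := hx 0
    simp only [Matrix.cons_val_zero, Algebra.smul_def] at h0
    rw [mul_one, Finset.mul_sum]
    conv_lhs => rw [h0]
    apply Finset.sum_congr rfl
    intro j _
    rw [hd j, mul_assoc]
  have hone : ∑ j, d j * yy j = 1 := (mul_left_cancel₀ hh0 hsum).symm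
  have hex : ∃ j, IsUnit (d j * yy j) := by
    by_contra hcon
    push Not at hcon
    have hmem : ∑ j, d j * yy j ∈ maximalIdeal B :=
      Ideal.sum_mem _ (fun j _ => hcon j)
    rw [hone] at hmem
    exact (Ideal.ne_top_iff_one _).mp (IsLocalRing.maximalIdeal.isMaximal B).ne_top hmem
  obtain ⟨j, hj⟩ := hex
  have hdu : IsUnit (d j) := isUnit_of_mul_isUnit_left hj
  obtain ⟨v, hv⟩ := hdu
  exact ⟨a 0 j, v, by rw [hd j, hv]⟩

/-- **Main theorem**: `f = w hⁿ` in `B` descends to `f = u gⁿ` in `A`. -/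
theorem main [IsLocalRing A] [IsLocalRing B] [IsLocalHom (algebraMap A B)] [Module.Flat A B]
    (f : A) (h : B) (n : ℕ) (hn : 1 < n) (w : Bˣ) (hf : algebraMap A B f = (w : B) * h ^ n)
    (hram : ∀ (p : Ideal A) [p.IsPrime], p.height = 1 →
      ∃ (q : Ideal B) (_ : q.IsPrime), q.height = 1 ∧ q.comap (algebraMap A B) = p ∧
        Ideal.map (algebraMap B (Localization.AtPrime q)) (Ideal.map (algebraMap A B) p) =
          IsLocalRing.maximalIdeal (Localization.AtPrime q)) :
    ∃ (g : A) (u : Aˣ), f = (u : A) * g ^ n := by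
  have hn0 : 0 < n := by omega
  by_cases hf0 : f = 0
  · exact ⟨0, 1, by rw [hf0, zero_pow hn0.ne', mul_zero]⟩
  haveI : Module.FaithfullyFlat A B := Module.FaithfullyFlat.of_flat_of_isLocalHom
  have hinj : Function.Injective (algebraMap A B) := FaithfulSMul.algebraMap_injective A B
  have hh0 : h ≠ 0 := by
    intro h0
    apply hf0
    apply hinj
    rw [hf, h0, zero_pow hn0.ne', mul_zero, map_zero]
  obtain ⟨x, y, hxy, hy⟩ := exists_root_data hinj f hf0 h n hn0 w hf hram
  have hxB : algebraMap A B x ∣ h * algebraMap A B y := by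
    rw [← IsIntegrallyClosed.pow_dvd_pow_iff hn0.ne', ← map_pow, hxy, map_mul, hf]
    refine ⟨(↑w⁻¹ : B) * algebraMap A B y ^ (n - 1), ?_⟩
    have hy' : algebraMap A B y ^ n = algebraMap A B y * algebraMap A B y ^ (n - 1) := by
      rw [← pow_succ', Nat.sub_add_cancel (by omega)]
    rw [mul_pow, hy']
    have : (w : B) * (↑w⁻¹ : B) = 1 := Units.mul_inv w
    linear_combination (-(h ^ n * algebraMap A B y * algebraMap A B y ^ (n - 1))) * this
  obtain ⟨g, v, hg⟩ := exists_eq_mul_unit x y h hh0 hxB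
    (dvd_of_dvd_mul hinj f hf0 h hh0 n hn0 w hf x y hxy hy)
  -- compare `f` and `g ^ n`
  have h1 : algebraMap A B f = algebraMap A B (g ^ n) * ((w : B) * (↑(v⁻¹ ^ n) : B)) := by
    rw [map_pow, hg, hf, mul_pow]
    have : ((v : B)) ^ n * (↑(v⁻¹ ^ n) : B) = 1 := by
      rw [← Units.val_pow_eq_pow_val, ← Units.val_mul, ← mul_pow, mul_inv_cancel, one_pow,
        Units.val_one]
    linear_combination (-(w : B) * h ^ n) * this
  have h2 : algebraMap A B (g ^ n) = algebraMap A B f * ((↑w⁻¹ : B) * (v : B) ^ n) := by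
    rw [map_pow, hg, hf, mul_pow]
    have : (w : B) * (↑w⁻¹ : B) = 1 := Units.mul_inv w
    linear_combination (-(h ^ n * (v : B) ^ n)) * this
  have hdvd1 : g ^ n ∣ f := by
    have hmem : f ∈ ((Ideal.span {g ^ n}).map (algebraMap A B)).comap (algebraMap A B) := by
      rw [Ideal.mem_comap, Ideal.map_span, Set.image_singleton, Ideal.mem_span_singleton]
      exact ⟨_, h1⟩
    rw [Ideal.comap_map_eq_self_of_faithfullyFlat, Ideal.mem_span_singleton] at hmem
    exact hmem
  have hdvd2 : f ∣ g ^ n := by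
    have hmem : g ^ n ∈ ((Ideal.span {f}).map (algebraMap A B)).comap (algebraMap A B) := by
      rw [Ideal.mem_comap, Ideal.map_span, Set.image_singleton, Ideal.mem_span_singleton]
      exact ⟨_, h2⟩
    rw [Ideal.comap_map_eq_self_of_faithfullyFlat, Ideal.mem_span_singleton] at hmem
    exact hmem
  obtain ⟨u, hu⟩ := associated_of_dvd_dvd hdvd1 hdvd2
  exact ⟨g, u, by rw [← hu, mul_comm]⟩

end Groth.Agent.R2.H40.WeakUnram
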