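import Mathlib

/-!
# helper41: abelian-category lemmas for PROJ:typeA

* `shortExact_kerComp p q` : `0 → ker p → ker (p ≫ q) → ker q → 0` is short exact for `p` epi;
* `shortExact_schanuel` : `0 → ker π' → P' ⊞ ker p → P → 0` for `b ≫ p = π'`, `p`, `π'` epi;
* `epi_hsMap`, `shortExact_horseshoe` : for `S` short exact, `π₁ : A₁ ↠ X₁`, `π : A₃ ↠ X₃`,
  `b ≫ S.g = π`: `q = (π₁ ≫ f, b) : A₁ ⊞ A₃ → X₂` is epi and `0 → ker π₁ → ker q → ker π → 0`.
-/

set_option autoImplicit false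
universe v u
open CategoryTheory CategoryTheory.Limits

namespace Groth.Agent.R2.H41.AbLemmas

variable {𝒜 : Type u} [Category.{v} 𝒜] [Abelian 𝒜]

section KerComp

variable {P G Q : 𝒜} (p : P ⟶ G) (q : G ⟶ Q)

noncomputable def kcF : kernel p ⟶ kernel (p ≫ q) := kernel.lift (p ≫ q) (kernel.ι p) (by simp)

noncomputable def kcG : kernel (p ≫ q) ⟶ kernel q :=
  kernel.lift q (kernel.ι (p ≫ q) ≫ p) (by simp)

@[reassoc (attr := simp)]
lemma kcF_ι : kcF p q ≫ kernel.ι (p ≫ q) = kernel.ι p := kernel.lift_ι _ _ _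

@[reassoc (attr := simp)]
lemma kcG_ι : kcG p q ≫ kernel.ι q = kernel.ι (p ≫ q) ≫ p := kernel.lift_ι _ _ _

@[reassoc (attr := simp)]
lemma kcF_kcG : kcF p q ≫ kcG p q = 0 := by
  apply (cancel_mono (kernel.ι q)).mp
  simp

instance : Mono (kcF p q) := mono_of_mono_fac (kcF_ι p q)

lemma epi_kcG [Epi p] : Epi (kcG p q) := by
  rw [epi_iff_surjective_up_to_refinements]
  intro A y
  obtain ⟨A', π, hπ, x, hx⟩ := surjective_up_to_refinements_of_epi p (y ≫ kernel.ι q)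
  have h0 : x ≫ p ≫ q = 0 := by
    rw [← Category.assoc, ← hx]
    simp
  refine ⟨A', π, hπ, kernel.lift (p ≫ q) x h0, ?_⟩
  apply (cancel_mono (kernel.ι q)).mp
  rw [Category.assoc, Category.assoc, kcG_ι, kernel.lift_ι_assoc, hx]

/-- `ker p ⟶ ker (p ≫ q) ⟶ ker q`. -/
noncomputable def kerCompSC : ShortComplex 𝒜 := ShortComplex.mk (kcF p q) (kcG p q) (kcF_kcG p q)

theorem shortExact_kerComp [Epi p] : (kerCompSC p q).ShortExact := by
  have hex : (kerCompSC p q).Exact := by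
    rw [ShortComplex.exact_iff_exact_up_to_refinements]
    intro A (x₂ : A ⟶ kernel (p ≫ q)) (hx₂ : x₂ ≫ kcG p q = 0)
    have h1 : (x₂ ≫ kernel.ι (p ≫ q)) ≫ p = 0 := by
      have := hx₂ =≫ kernel.ι q
      rw [Category.assoc, kcG_ι, zero_comp, ← Category.assoc] at this
      exact this
    refine ⟨A, 𝟙 A, inferInstance, kernel.lift p (x₂ ≫ kernel.ι (p ≫ q)) h1, ?_⟩
    change 𝟙 A ≫ x₂ = kernel.lift p (x₂ ≫ kernel.ι (p ≫ q)) h1 ≫ kcF p q
    apply (cancel_mono (kernel.ι (p ≫ q))).mp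
    rw [Category.id_comp, Category.assoc, kcF_ι, kernel.lift_ι]
  exact ShortComplex.ShortExact.mk' hex (inferInstanceAs (Mono (kcF p q))) (epi_kcG p q)

end KerComp

section Schanuel

variable {P P' F : 𝒜} (p : P ⟶ F) (π' : P' ⟶ F) (b : P' ⟶ P) (hb : b ≫ p = π')

noncomputable def scL : kernel π' ⟶ kernel p :=
  kernel.lift p (kernel.ι π' ≫ b) (by rw [Category.assoc, hb, kernel.condition])

@[reassoc (attr := simp)]
lemma scL_ι : scL p π' b hb ≫ kernel.ι p = kernel.ι π' ≫ b := kernel.lift_ι _ _ _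

noncomputable def scF : kernel π' ⟶ P' ⊞ kernel p :=
  biprod.lift (kernel.ι π') (-scL p π' b hb)

noncomputable def scG : P' ⊞ kernel p ⟶ P := biprod.desc b (kernel.ι p)

lemma scF_scG : scF p π' b hb ≫ scG p b = 0 := by
  simp [scF, scG]

lemma comp_scG {A : 𝒜} (x : A ⟶ P' ⊞ kernel p) :
    x ≫ scG p b = (x ≫ biprod.fst) ≫ b + (x ≫ biprod.snd) ≫ kernel.ι p := by
  have : x = biprod.lift (x ≫ biprod.fst) (x ≫ biprod.snd) := by ext <;> simp
  conv_lhs => rw [this]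
  simp [scG]

instance : Mono (scF p π' b hb) :=
  mono_of_mono_fac (show scF p π' b hb ≫ biprod.fst = kernel.ι π' by simp [scF])

include hb in
lemma epi_scG [Epi p] [Epi π'] : Epi (scG p b) := by
  rw [epi_iff_surjective_up_to_refinements]
  intro A y
  obtain ⟨A', π, hπ, x, hx⟩ := surjective_up_to_refinements_of_epi π' (y ≫ p)
  have h1 : (π ≫ y - x ≫ b) ≫ p = 0 := by
    rw [Preadditive.sub_comp, Category.assoc, Category.assoc, hb, hx, sub_self]
  refine ⟨A', π, hπ, biprod.lift x (kernel.lift p _ h1), ?_⟩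
  rw [comp_scG, biprod.lift_fst, biprod.lift_snd, kernel.lift_ι]
  abel

/-- `ker π' ⟶ P' ⊞ ker p ⟶ P`. -/
noncomputable def schanuelSC : ShortComplex 𝒜 :=
  ShortComplex.mk (scF p π' b hb) (scG p b) (scF_scG p π' b hb)

theorem shortExact_schanuel [Epi p] [Epi π'] : (schanuelSC p π' b hb).ShortExact := by
  have hex : (schanuelSC p π' b hb).Exact := by
    rw [ShortComplex.exact_iff_exact_up_to_refinements]
    intro A (x₂ : A ⟶ P' ⊞ kernel p) (hx₂ : x₂ ≫ scG p b = 0)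
    rw [comp_scG] at hx₂
    have h1 : (x₂ ≫ biprod.fst) ≫ π' = 0 := by
      have e1 : (x₂ ≫ biprod.fst) ≫ b = -((x₂ ≫ biprod.snd) ≫ kernel.ι p) :=
        eq_neg_of_add_eq_zero_left hx₂
      rw [← hb, ← Category.assoc, e1, Preadditive.neg_comp, Category.assoc, kernel.condition,
        comp_zero, neg_zero]
    refine ⟨A, 𝟙 A, inferInstance, kernel.lift π' (x₂ ≫ biprod.fst) h1, ?_⟩
    change 𝟙 A ≫ x₂ = kernel.lift π' (x₂ ≫ biprod.fst) h1 ≫ scF p π' b hb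
    rw [Category.id_comp]
    dsimp only [scF]
    apply biprod.hom_ext
    · simp
    · apply (cancel_mono (kernel.ι p)).mp
      simp only [Category.assoc, biprod.lift_snd, Preadditive.comp_neg, Preadditive.neg_comp,
        scL_ι, kernel.lift_ι_assoc]
      rw [eq_neg_iff_add_eq_zero, add_comm]
      simpa only [Category.assoc] using hx₂
  exact ShortComplex.ShortExact.mk' hex (inferInstanceAs (Mono (scF p π' b hb))) (epi_scG p π' b hb)

end Schanuel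

section Horseshoe

variable (S : ShortComplex 𝒜) {A₁ A₃ : 𝒜} (π₁ : A₁ ⟶ S.X₁) (π : A₃ ⟶ S.X₃)
  (b : A₃ ⟶ S.X₂) (hb : b ≫ S.g = π)

/-- `q = (π₁ ≫ f, b) : A₁ ⊞ A₃ ⟶ X₂`. -/
noncomputable def hsMap : A₁ ⊞ A₃ ⟶ S.X₂ := biprod.desc (π₁ ≫ S.f) b

lemma comp_hsMap {A : 𝒜} (x : A ⟶ A₁ ⊞ A₃) :
    x ≫ hsMap S π₁ b = (x ≫ biprod.fst) ≫ π₁ ≫ S.f + (x ≫ biprod.snd) ≫ b := by
  have : x = biprod.lift (x ≫ biprod.fst) (x ≫ biprod.snd) := by ext <;> simp
  conv_lhs => rw [this]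
  simp [hsMap]

include hb in
lemma hsMap_comp_g : hsMap S π₁ b ≫ S.g = biprod.snd ≫ π := by
  dsimp only [hsMap]
  ext
  · simp
  · simp [hb]

include hb in
theorem epi_hsMap (hS : S.ShortExact) [Epi π₁] [Epi π] : Epi (hsMap S π₁ b) := by
  rw [epi_iff_surjective_up_to_refinements]
  intro A y
  obtain ⟨A', ρ, hρ, x₃, hx₃⟩ := surjective_up_to_refinements_of_epi π (y ≫ S.g)
  have h1 : (ρ ≫ y - x₃ ≫ b) ≫ S.g = 0 := by
    rw [Preadditive.sub_comp, Category.assoc, Category.assoc, hb, hx₃, sub_self]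
  obtain ⟨A'', ρ', hρ', x₁, hx₁⟩ := hS.exact.exact_up_to_refinements _ h1
  obtain ⟨A''', ρ'', hρ'', a₁, ha₁⟩ := surjective_up_to_refinements_of_epi π₁ x₁
  refine ⟨A''', ρ'' ≫ ρ' ≫ ρ, inferInstance, biprod.lift a₁ (ρ'' ≫ ρ' ≫ x₃), ?_⟩
  have key : a₁ ≫ π₁ ≫ S.f = ρ'' ≫ ρ' ≫ (ρ ≫ y - x₃ ≫ b) := by
    rw [← Category.assoc a₁, ← ha₁, Category.assoc, hx₁]
  rw [comp_hsMap, biprod.lift_fst, biprod.lift_snd, key]
  simp only [Category.assoc, Preadditive.comp_sub]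
  abel

noncomputable def hsF : kernel π₁ ⟶ kernel (hsMap S π₁ b) :=
  kernel.lift (hsMap S π₁ b) (kernel.ι π₁ ≫ biprod.inl) (by simp [hsMap])

noncomputable def hsG : kernel (hsMap S π₁ b) ⟶ kernel π :=
  kernel.lift π (kernel.ι (hsMap S π₁ b) ≫ biprod.snd) (by
    rw [Category.assoc, ← hsMap_comp_g S π₁ π b hb, kernel.condition_assoc, zero_comp])

@[reassoc (attr := simp)]
lemma hsF_ι : hsF S π₁ b ≫ kernel.ι (hsMap S π₁ b) = kernel.ι π₁ ≫ biprod.inl :=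
  kernel.lift_ι _ _ _

@[reassoc (attr := simp)]
lemma hsG_ι : hsG S π₁ π b hb ≫ kernel.ι π = kernel.ι (hsMap S π₁ b) ≫ biprod.snd :=
  kernel.lift_ι _ _ _

lemma hsF_hsG : hsF S π₁ b ≫ hsG S π₁ π b hb = 0 := by
  apply (cancel_mono (kernel.ι π)).mp
  simp

instance : Mono (hsF S π₁ b) := by
  have : Mono (kernel.ι π₁ ≫ (biprod.inl : A₁ ⟶ A₁ ⊞ A₃)) := mono_comp _ _
  exact mono_of_mono_fac (hsF_ι S π₁ b)

lemma epi_hsG (hS : S.ShortExact) [Epi π₁] : Epi (hsG S π₁ π b hb) := by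
  rw [epi_iff_surjective_up_to_refinements]
  intro A x
  have h1 : (x ≫ kernel.ι π ≫ b) ≫ S.g = 0 := by
    simp only [Category.assoc]
    rw [hb, kernel.condition, comp_zero]
  obtain ⟨A', ρ, hρ, x₁, hx₁⟩ := hS.exact.exact_up_to_refinements _ h1
  obtain ⟨A'', ρ', hρ', a₁, ha₁⟩ := surjective_up_to_refinements_of_epi π₁ x₁
  have h2 : biprod.lift (-a₁) (ρ' ≫ ρ ≫ x ≫ kernel.ι π) ≫ hsMap S π₁ b = 0 := by
    rw [comp_hsMap, biprod.lift_fst, biprod.lift_snd, Preadditive.neg_comp, ← Category.assoc a₁,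
      ← ha₁, Category.assoc, ← hx₁]
    simp only [Category.assoc]
    abel
  refine ⟨A'', ρ' ≫ ρ, inferInstance, kernel.lift _ _ h2, ?_⟩
  apply (cancel_mono (kernel.ι π)).mp
  simp only [Category.assoc, hsG_ι, kernel.lift_ι_assoc, biprod.lift_snd]

/-- `ker π₁ ⟶ ker q ⟶ ker π`. -/
noncomputable def horseshoeSC : ShortComplex 𝒜 :=
  ShortComplex.mk (hsF S π₁ b) (hsG S π₁ π b hb) (hsF_hsG S π₁ π b hb)

theorem shortExact_horseshoe (hS : S.ShortExact) [Epi π₁] :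
    (horseshoeSC S π₁ π b hb).ShortExact := by
  have := hS.mono_f
  have hex : (horseshoeSC S π₁ π b hb).Exact := by
    rw [ShortComplex.exact_iff_exact_up_to_refinements]
    intro A (x₂ : A ⟶ kernel (hsMap S π₁ b)) (hx₂ : x₂ ≫ hsG S π₁ π b hb = 0)
    have h3 : (x₂ ≫ kernel.ι (hsMap S π₁ b)) ≫ biprod.snd = 0 := by
      have := hx₂ =≫ kernel.ι π
      rw [Category.assoc, hsG_ι, zero_comp, ← Category.assoc] at this
      exact this
    have h4 : x₂ ≫ kernel.ι (hsMap S π₁ b) =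
        ((x₂ ≫ kernel.ι (hsMap S π₁ b)) ≫ biprod.fst) ≫ biprod.inl := by
      ext
      · simp
      · simp only [Category.assoc, biprod.inl_snd, comp_zero]
        simpa only [Category.assoc] using h3
    have h5 : ((x₂ ≫ kernel.ι (hsMap S π₁ b)) ≫ biprod.fst) ≫ π₁ = 0 := by
      apply (cancel_mono S.f).mp
      have h6 : (x₂ ≫ kernel.ι (hsMap S π₁ b)) ≫ hsMap S π₁ b = 0 := by
        rw [Category.assoc, kernel.condition, comp_zero]
      rw [comp_hsMap, h3, zero_comp, add_zero] at h6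
      rw [zero_comp, Category.assoc]
      exact h6
    refine ⟨A, 𝟙 A, inferInstance, kernel.lift π₁ _ h5, ?_⟩
    change 𝟙 A ≫ x₂ = kernel.lift π₁ _ h5 ≫ hsF S π₁ b
    apply (cancel_mono (kernel.ι (hsMap S π₁ b))).mp
    rw [Category.id_comp, Category.assoc, hsF_ι, kernel.lift_ι_assoc]
    exact h4
  exact ShortComplex.ShortExact.mk' hex (inferInstanceAs (Mono (hsF S π₁ b)))
    (epi_hsG S π₁ π b hb hS)

end Horseshoe

end Groth.Agent.R2.H41.AbLemmas
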