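import Mathlib

/-!
# helper41: split exactness of adic completions (for S9131)

`exists_section`: a surjection onto a flat module `M` with `M/IM` projective over `R/I`, whose kernel is
killed by `I`, splits.  `exists_lift`: the corresponding lifting property.  `map_injective`, `map_exact`,
`exists_section_map`: the three parts of Stacks-style "completion of a short exact sequence with flat
cokernel and projective reduction is split exact".
-/
set_option autoImplicit false
universe u v w

namespace Groth.Agent.R2.H41.AdicSplit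

variable {R : Type u} [CommRing R] (I : Ideal R)

/-- Lemma A: a surjection `p : E → M` onto a flat module with `M/IM` projective over `R/I`
whose kernel is killed by `I` has a section. -/
theorem exists_section {E : Type v} {M : Type w} [AddCommGroup E] [Module R E]
    [AddCommGroup M] [Module R M] [Module.Flat R M]
    [Module.Projective (R ⧸ I) (M ⧸ (I • ⊤ : Submodule R M))]
    (p : E →ₗ[R] M) (hp : Function.Surjective p)
    (hker : ∀ r ∈ I, ∀ x : E, p x = 0 → r • x = 0) :
    ∃ σ : M →ₗ[R] E, p ∘ₗ σ = LinearMap.id := by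
  classical
  -- `ker p ∩ IE = I • ker p = 0`
  have hinf : ∀ x : E, p x = 0 → x ∈ (I • ⊤ : Submodule R E) → x = 0 := by
    intro x hx hxI
    have h1 : x ∈ LinearMap.ker p ⊓ (I • ⊤ : Submodule R E) := ⟨hx, hxI⟩
    rw [LinearMap.ker_inf_smul_top_eq_smul_of_flat I p hp] at h1
    have h2 : I • LinearMap.ker p ≤ (⊥ : Submodule R E) := by
      rw [Submodule.smul_le]
      intro r hr n hn
      rw [Submodule.mem_bot]
      exact hker r hr n hn
    simpa using h2 h1
  -- the section mod `I`
  have hpbar : Function.Surjective (p.reduceModIdeal I) := by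
    intro y
    obtain ⟨m, rfl⟩ := Submodule.Quotient.mk_surjective _ y
    obtain ⟨e, rfl⟩ := hp m
    exact ⟨Submodule.Quotient.mk e, rfl⟩
  obtain ⟨σb, hσb⟩ := Module.projective_lifting_property (p.reduceModIdeal I)
    (LinearMap.id) hpbar
  have hσb' : ∀ y, p.reduceModIdeal I (σb y) = y := fun y ↦ LinearMap.congr_fun hσb y
  let σR : (M ⧸ (I • ⊤ : Submodule R M)) →ₗ[R] (E ⧸ (I • ⊤ : Submodule R E)) :=
    σb.restrictScalars R
  let E' : Submodule R E := (LinearMap.range σR).comap (I • ⊤ : Submodule R E).mkQ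
  let q : E' →ₗ[R] M := p.domRestrict E'
  have hqinj : Function.Injective q := by
    rw [injective_iff_map_eq_zero]
    rintro ⟨e, he⟩ h0
    have h0' : p e = 0 := h0
    obtain ⟨y, hy⟩ := he
    have hy' : σb y = Submodule.Quotient.mk e := hy
    have : y = 0 := by
      rw [← hσb' y, hy', LinearMap.reduceModIdeal_apply, h0', Submodule.Quotient.mk_zero]
    rw [this, map_zero] at hy'
    have hmem : e ∈ (I • ⊤ : Submodule R E) := by
      rw [← Submodule.Quotient.mk_eq_zero]; exact hy'.symm
    exact Subtype.ext (hinf e h0' hmem)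
  have hqsurj : Function.Surjective q := by
    intro m
    obtain ⟨e, rfl⟩ := hp m
    -- `mk e - σb (mk (p e))` is killed by `pbar`
    obtain ⟨d, hd⟩ := Submodule.Quotient.mk_surjective _
      (σb (Submodule.Quotient.mk (p e)) : E ⧸ (I • ⊤ : Submodule R E))
    have h1 : (Submodule.Quotient.mk (p d) : M ⧸ (I • ⊤ : Submodule R M))
        = Submodule.Quotient.mk (p e) := by
      rw [← LinearMap.reduceModIdeal_apply, hd, hσb']
    have h2 : p (d - e) ∈ (I • ⊤ : Submodule R M) := by
      rw [map_sub, ← Submodule.Quotient.eq]; exact h1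
    have h3 : (I • ⊤ : Submodule R M) = Submodule.map p (I • ⊤ : Submodule R E) := by
      rw [Submodule.map_smul'', Submodule.map_top, LinearMap.range_eq_top.mpr hp]
    rw [h3] at h2
    obtain ⟨c, hc, hc'⟩ := h2
    refine ⟨⟨d - c, ?_⟩, ?_⟩
    · refine ⟨Submodule.Quotient.mk (p e), ?_⟩
      change σb _ = Submodule.Quotient.mk (d - c)
      rw [← hd, Submodule.Quotient.mk_sub, (Submodule.Quotient.mk_eq_zero _).mpr hc, sub_zero]
    · change p (d - c) = p e
      rw [map_sub, hc', map_sub]; abel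
  let eq : E' ≃ₗ[R] M := LinearEquiv.ofBijective q ⟨hqinj, hqsurj⟩
  refine ⟨E'.subtype ∘ₗ eq.symm.toLinearMap, ?_⟩
  ext m
  change q (eq.symm m) = m
  exact eq.apply_symm_apply m

/-- Lemma L: lifting through a surjection-onto-the-image whose kernel is killed by `I`. -/
theorem exists_lift {X : Type v} {Z : Type v} {M : Type w} [AddCommGroup X] [Module R X]
    [AddCommGroup Z] [Module R Z]
    [AddCommGroup M] [Module R M] [Module.Flat R M]
    [Module.Projective (R ⧸ I) (M ⧸ (I • ⊤ : Submodule R M))]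
    (q : X →ₗ[R] Z) (φ : M →ₗ[R] Z) (hsurj : ∀ m, ∃ x, q x = φ m)
    (hker : ∀ r ∈ I, ∀ x : X, q x = 0 → r • x = 0) :
    ∃ ψ : M →ₗ[R] X, q ∘ₗ ψ = φ := by
  let E : Submodule R (X × M) :=
    LinearMap.eqLocus (q ∘ₗ LinearMap.fst R X M) (φ ∘ₗ LinearMap.snd R X M)
  let p : E →ₗ[R] M := (LinearMap.snd R X M) ∘ₗ E.subtype
  have hp : Function.Surjective p := by
    intro m
    obtain ⟨x, hx⟩ := hsurj m
    exact ⟨⟨(x, m), hx⟩, rfl⟩
  have hk : ∀ r ∈ I, ∀ e : E, p e = 0 → r • e = 0 := by
    rintro r hr ⟨⟨x, m⟩, he⟩ h0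
    have hm : m = 0 := h0
    subst hm
    have hx : q x = 0 := by
      have : q x = φ 0 := he
      rw [this, map_zero]
    apply Subtype.ext
    change (r • x, r • (0 : M)) = (0, 0)
    rw [hker r hr x hx, smul_zero]
  obtain ⟨σ, hσ⟩ := exists_section I p hp hk
  refine ⟨(LinearMap.fst R X M) ∘ₗ E.subtype ∘ₗ σ, ?_⟩
  ext m
  have h1 : q (σ m).1.1 = φ (σ m).1.2 := (σ m).2
  have h2 : (σ m).1.2 = m := LinearMap.congr_fun hσ m
  change q (σ m).1.1 = φ m
  rw [h1, h2]

section Levels

variable {K P M : Type u} [AddCommGroup K] [Module R K] [AddCommGroup P] [Module R P]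
    [AddCommGroup M] [Module R M] (f : K →ₗ[R] P) (g : P →ₗ[R] M)

/-- level-`J` injectivity -/
theorem mem_smul_top_of_map_mem (hf : Function.Injective f) (hg : Function.Surjective g)
    (hfg : Function.Exact f g) [Module.Flat R M] (J : Ideal R) (k : K)
    (hk : f k ∈ (J • ⊤ : Submodule R P)) : k ∈ (J • ⊤ : Submodule R K) := by
  have h1 : f k ∈ LinearMap.ker g ⊓ (J • ⊤ : Submodule R P) :=
    ⟨LinearMap.mem_ker.mpr ((hfg (f k)).mpr ⟨k, rfl⟩), hk⟩
  rw [LinearMap.ker_inf_smul_top_eq_smul_of_flat J g hg] at h1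
  have h2 : LinearMap.ker g = Submodule.map f ⊤ := by
    rw [Submodule.map_top]; exact (LinearMap.exact_iff.mp hfg)
  rw [h2, ← Submodule.map_smul''] at h1
  obtain ⟨k', hk', hkk⟩ := h1
  rw [← hf hkk]; exact hk'

/-- level-`J` exactness -/
theorem exists_sub_mem_smul_top (hg : Function.Surjective g)
    (hfg : Function.Exact f g) (J : Ideal R) (y : P)
    (hy : g y ∈ (J • ⊤ : Submodule R M)) : ∃ k : K, y - f k ∈ (J • ⊤ : Submodule R P) := by
  have h3 : (J • ⊤ : Submodule R M) = Submodule.map g (J • ⊤ : Submodule R P) := by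
    rw [Submodule.map_smul'', Submodule.map_top, LinearMap.range_eq_top.mpr hg]
  rw [h3] at hy
  obtain ⟨c, hc, hc'⟩ := hy
  have : g (y - c) = 0 := by rw [map_sub, hc', sub_self]
  obtain ⟨k, hk⟩ := (hfg (y - c)).mp this
  refine ⟨k, ?_⟩
  rw [hk]; simpa using hc

end Levels

section Seq

variable {P M : Type u} [AddCommGroup P] [Module R P] [AddCommGroup M] [Module R M]
  (g : P →ₗ[R] M)

/-- `s` is a section of `g` modulo `I ^ n`. -/
def IsSec (n : ℕ) (s : M →ₗ[R] P ⧸ (I ^ n • ⊤ : Submodule R P)) : Prop :=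
  ∀ m, g.reduceModIdeal (I ^ n) (s m) = Submodule.Quotient.mk m

variable [Module.Flat R M] [Module.Projective (R ⧸ I) (M ⧸ (I • ⊤ : Submodule R M))]

theorem step (hg : Function.Surjective g) (n : ℕ)
    (s : M →ₗ[R] P ⧸ (I ^ n • ⊤ : Submodule R P)) (hs : IsSec I g n s) :
    ∃ s' : M →ₗ[R] P ⧸ (I ^ (n + 1) • ⊤ : Submodule R P), IsSec I g (n + 1) s' ∧
      AdicCompletion.transitionMap I P (Nat.le_succ n) ∘ₗ s' = s := by
  let q : (P ⧸ (I ^ (n + 1) • ⊤ : Submodule R P)) →ₗ[R]
      (P ⧸ (I ^ n • ⊤ : Submodule R P)) × (M ⧸ (I ^ (n + 1) • ⊤ : Submodule R M)) :=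
    (AdicCompletion.transitionMap I P (Nat.le_succ n)).prod
      ((g.reduceModIdeal (I ^ (n + 1))).restrictScalars R)
  let φ : M →ₗ[R]
      (P ⧸ (I ^ n • ⊤ : Submodule R P)) × (M ⧸ (I ^ (n + 1) • ⊤ : Submodule R M)) :=
    s.prod (I ^ (n + 1) • ⊤ : Submodule R M).mkQ
  have hsurj : ∀ m, ∃ x, q x = φ m := by
    intro m
    obtain ⟨y, hy⟩ := Submodule.Quotient.mk_surjective _ (s m)
    have h1 := hs m
    rw [← hy, LinearMap.reduceModIdeal_apply] at h1
    have h2 : g y - m ∈ (I ^ n • ⊤ : Submodule R M) := (Submodule.Quotient.eq _).mp h1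
    have h3 : (I ^ n • ⊤ : Submodule R M) = Submodule.map g (I ^ n • ⊤ : Submodule R P) := by
      rw [Submodule.map_smul'', Submodule.map_top, LinearMap.range_eq_top.mpr hg]
    rw [h3] at h2
    obtain ⟨c, hc, hc'⟩ := h2
    refine ⟨Submodule.Quotient.mk (y - c), ?_⟩
    refine Prod.ext ?_ ?_
    · change (Submodule.Quotient.mk (y - c) : P ⧸ (I ^ n • ⊤ : Submodule R P)) = s m
      rw [← hy, Submodule.Quotient.mk_sub, (Submodule.Quotient.mk_eq_zero _).mpr hc, sub_zero]
    · change (Submodule.Quotient.mk (g (y - c)) : M ⧸ (I ^ (n + 1) • ⊤ : Submodule R M))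
        = Submodule.Quotient.mk m
      rw [map_sub, hc']; congr 1; abel
  have hker : ∀ r ∈ I, ∀ x, q x = 0 → r • x = 0 := by
    intro r hr x hx
    obtain ⟨y, rfl⟩ := Submodule.Quotient.mk_surjective _ x
    have h1 : (Submodule.Quotient.mk y : P ⧸ (I ^ n • ⊤ : Submodule R P)) = 0 :=
      congrArg Prod.fst hx
    rw [Submodule.Quotient.mk_eq_zero] at h1
    rw [← Submodule.Quotient.mk_smul, Submodule.Quotient.mk_eq_zero, pow_succ', ← smul_eq_mul,
      smul_assoc]
    exact Submodule.smul_mem_smul hr h1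
  obtain ⟨ψ, hψ⟩ := exists_lift I q φ hsurj hker
  refine ⟨ψ, ?_, ?_⟩
  · intro m
    exact congrArg Prod.snd (LinearMap.congr_fun hψ m)
  · ext m
    exact congrArg Prod.fst (LinearMap.congr_fun hψ m)

omit [Module.Flat R M] [Module.Projective (R ⧸ I) (M ⧸ (I • ⊤ : Submodule R M))] in
theorem isSec_zero : IsSec I g 0 0 := by
  intro m
  have : (I ^ 0 • ⊤ : Submodule R M) = ⊤ := by
    rw [pow_zero, Ideal.one_eq_top, Submodule.top_smul]
  rw [LinearMap.zero_apply, map_zero, eq_comm, Submodule.Quotient.mk_eq_zero, this]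
  exact Submodule.mem_top

/-- The compatible sequence of sections. -/
noncomputable def secSeq (hg : Function.Surjective g) :
    ∀ n : ℕ, {s : M →ₗ[R] P ⧸ (I ^ n • ⊤ : Submodule R P) // IsSec I g n s}
  | 0 => ⟨0, isSec_zero I g⟩
  | n + 1 => ⟨(step I g hg n (secSeq hg n).1 (secSeq hg n).2).choose,
      (step I g hg n (secSeq hg n).1 (secSeq hg n).2).choose_spec.1⟩

theorem secSeq_succ (hg : Function.Surjective g) (n : ℕ) :
    AdicCompletion.transitionMap I P (Nat.le_succ n) ∘ₗ (secSeq I g hg (n + 1)).1 =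
      (secSeq I g hg n).1 :=
  (step I g hg n (secSeq I g hg n).1 (secSeq I g hg n).2).choose_spec.2

theorem secSeq_le (hg : Function.Surjective g) {m n : ℕ} (h : m ≤ n) :
    AdicCompletion.transitionMap I P h ∘ₗ (secSeq I g hg n).1 = (secSeq I g hg m).1 := by
  induction n, h using Nat.le_induction with
  | base =>
    ext x
    obtain ⟨y, hy⟩ := Submodule.Quotient.mk_surjective _ ((secSeq I g hg m).1 x)
    change AdicCompletion.transitionMap I P (le_refl m) ((secSeq I g hg m).1 x) = _
    rw [← hy]; rfl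
  | succ n hmn ih =>
    rw [← ih, ← secSeq_succ I g hg n, ← LinearMap.comp_assoc]
    congr 1
    ext x
    rfl

end Seq

section Main

variable {K P M : Type u} [AddCommGroup K] [Module R K] [AddCommGroup P] [Module R P]
    [AddCommGroup M] [Module R M] (f : K →ₗ[R] P) (g : P →ₗ[R] M)

theorem reduceModIdeal_injective (hf : Function.Injective f) (hg : Function.Surjective g)
    (hfg : Function.Exact f g) [Module.Flat R M] (J : Ideal R) :
    Function.Injective (f.reduceModIdeal J) := by
  rw [injective_iff_map_eq_zero]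
  intro x hx
  obtain ⟨k, rfl⟩ := Submodule.Quotient.mk_surjective _ x
  rw [LinearMap.reduceModIdeal_apply, Submodule.Quotient.mk_eq_zero] at hx
  rw [Submodule.Quotient.mk_eq_zero]
  exact mem_smul_top_of_map_mem f g hf hg hfg J k hx

theorem map_injective (hf : Function.Injective f) (hg : Function.Surjective g)
    (hfg : Function.Exact f g) [Module.Flat R M] :
    Function.Injective (AdicCompletion.map I f) := by
  rw [injective_iff_map_eq_zero]
  intro x hx
  apply AdicCompletion.ext
  intro n
  have h1 : (AdicCompletion.map I f x).val n = 0 := by rw [hx]; rfl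
  rw [AdicCompletion.map_val_apply] at h1
  rw [AdicCompletion.val_zero_apply]
  exact (injective_iff_map_eq_zero _).mp (reduceModIdeal_injective f g hf hg hfg (I ^ n)) _ h1

theorem map_exact (hf : Function.Injective f) (hg : Function.Surjective g)
    (hfg : Function.Exact f g) [Module.Flat R M] :
    Function.Exact (AdicCompletion.map I f) (AdicCompletion.map I g) := by
  intro y
  constructor
  · intro hy
    have hlev : ∀ n, ∃ x : K ⧸ (I ^ n • ⊤ : Submodule R K),
        f.reduceModIdeal (I ^ n) x = y.val n := by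
      intro n
      obtain ⟨p, hp⟩ := Submodule.Quotient.mk_surjective _ (y.val n)
      have h1 : (AdicCompletion.map I g y).val n = 0 := by rw [hy]; rfl
      rw [AdicCompletion.map_val_apply, ← hp, LinearMap.reduceModIdeal_apply,
        Submodule.Quotient.mk_eq_zero] at h1
      obtain ⟨k, hk⟩ := exists_sub_mem_smul_top f g hg hfg (I ^ n) p h1
      refine ⟨Submodule.Quotient.mk k, ?_⟩
      rw [LinearMap.reduceModIdeal_apply, ← hp, eq_comm]
      exact (Submodule.Quotient.eq _).mpr hk
    choose x hx using hlev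
    refine ⟨⟨x, ?_⟩, ?_⟩
    · intro m n hmn
      apply reduceModIdeal_injective f g hf hg hfg (I ^ m)
      rw [hx m]
      have := LinearMap.congr_fun (AdicCompletion.transitionMap_comp_reduceModIdeal I f hmn) (x n)
      simp only [LinearMap.coe_comp, Function.comp_apply, LinearMap.coe_restrictScalars] at this
      rw [← this, hx n]
      exact y.2 hmn
    · apply AdicCompletion.ext
      intro n
      exact hx n
  · rintro ⟨x, rfl⟩
    rw [AdicCompletion.map_comp_apply]
    have : g ∘ₗ f = 0 := hfg.linearMap_comp_eq_zero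
    rw [this, AdicCompletion.map_zero]; rfl

variable [Module.Flat R M] [Module.Projective (R ⧸ I) (M ⧸ (I • ⊤ : Submodule R M))]

theorem le_ker_secSeq (hg : Function.Surjective g) (n : ℕ) :
    (I ^ n • ⊤ : Submodule R M) ≤ LinearMap.ker (secSeq I g hg n).1 := by
  rw [Submodule.smul_le]
  intro r hr m _
  rw [LinearMap.mem_ker, map_smul]
  obtain ⟨y, hy⟩ := Submodule.Quotient.mk_surjective _ ((secSeq I g hg n).1 m)
  rw [← hy, ← Submodule.Quotient.mk_smul, Submodule.Quotient.mk_eq_zero]
  exact Submodule.smul_mem_smul hr Submodule.mem_top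

/-- the level-`n` section `M/IⁿM → P/IⁿP`, linear over `R/Iⁿ`. -/
noncomputable def secBar (hg : Function.Surjective g) (n : ℕ) :
    (M ⧸ (I ^ n • ⊤ : Submodule R M)) →ₗ[R ⧸ I ^ n] (P ⧸ (I ^ n • ⊤ : Submodule R P)) :=
  LinearMap.extendScalarsOfSurjective Ideal.Quotient.mk_surjective <|
    (I ^ n • ⊤ : Submodule R M).liftQ (secSeq I g hg n).1 (le_ker_secSeq I g hg n)

theorem secBar_mk (hg : Function.Surjective g) (n : ℕ) (m : M) :
    secBar I g hg n (Submodule.Quotient.mk m) = (secSeq I g hg n).1 m := rfl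

theorem exists_section_map (hg : Function.Surjective g) :
    ∃ s : AdicCompletion I M →ₗ[AdicCompletion I R] AdicCompletion I P,
      AdicCompletion.map I g ∘ₗ s = LinearMap.id := by
  let s0 : AdicCompletion I M →ₗ[R] AdicCompletion I P :=
    AdicCompletion.lift I
      (fun n ↦ ((secBar I g hg n).restrictScalars R) ∘ₗ AdicCompletion.eval I M n)
      (fun {m n} hmn ↦ by
        refine LinearMap.ext fun x ↦ ?_
        obtain ⟨y, hy⟩ := Submodule.Quotient.mk_surjective _ (x.val n)
        have hy' : x.val m = Submodule.Quotient.mk y := by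
          rw [← x.2 hmn, ← hy]; rfl
        change AdicCompletion.transitionMap I P hmn (secBar I g hg n (x.val n)) =
          secBar I g hg m (x.val m)
        rw [hy', ← hy, secBar_mk, secBar_mk]
        exact LinearMap.congr_fun (secSeq_le I g hg hmn) y)
  have hs0 : ∀ x n, (s0 x).val n = secBar I g hg n (x.val n) := fun x n ↦ rfl
  refine ⟨{ s0 with
    map_smul' := fun r x ↦ by
      apply AdicCompletion.ext
      intro n
      change (s0 (r • x)).val n = (r • s0 x).val n
      rw [hs0, AdicCompletion.smul_eval, AdicCompletion.smul_eval, hs0,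
        AdicCompletion.val_smul_eq_evalₐ_smul, AdicCompletion.val_smul_eq_evalₐ_smul, map_smul] },
    ?_⟩
  refine LinearMap.ext fun x ↦ ?_
  apply AdicCompletion.ext
  intro n
  change (AdicCompletion.map I g (s0 x)).val n = _
  rw [AdicCompletion.map_val_apply, hs0]
  obtain ⟨y, hy⟩ := Submodule.Quotient.mk_surjective _ (x.val n)
  rw [LinearMap.id_apply, ← hy, secBar_mk]
  exact (secSeq I g hg n).2 y

end Main

end Groth.Agent.R2.H41.AdicSplit
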