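import Mathlib
import Groth.Prelude.Def_HTop
import Groth.Agent.R2.H33PhSheaf

/-!
# ph coverings from proper surjective morphisms (helper41)

* `isPhCover_of_isPhLike`: a family which is the restriction of a proper surjective morphism to the
  members of an open covering of its source is a ph covering.
* `isProper_coprodDesc`: the cotuple of two proper morphisms is proper.
* `mem_phTopology_of_proper_pair`: a sieve containing two proper jointly surjective morphisms is
  covering for the ph topology.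
* `mem_Jph_of_proper_pair`: the same in `Over S`.
* `pair_sep`, `pair_glue`: separatedness / gluing of sections of a sheaf along a covering pair.
-/

set_option autoImplicit false
set_option linter.style.haveILetI false
universe w v u

open CategoryTheory CategoryTheory.Limits AlgebraicGeometry Opposite HTop

namespace Groth.Agent.R2.H41.PhCov

open Groth.Agent.R2.H33.PhSheaf

theorem isPhCover_of_isPhLike {T : Scheme.{u}} (E : PreZeroHypercover.{w} T)
    (hE : IsPhLike E) : IsPhCover E := by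
  obtain ⟨P, f, ι, hfp, hfs, hι, hιf, hcov⟩ := hE
  refine ⟨fun i => ?_, fun V => ?_⟩
  · rw [← hιf i]
    haveI := hι i
    infer_instance
  · have hVaff : IsAffineOpen (V : T.Opens) := V.2
    haveI : IsAffine ((V : T.Opens) : Scheme.{u}) := hVaff
    let f' : ((f ⁻¹ᵁ (V : T.Opens) : P.Opens) : Scheme.{u}) ⟶ ((V : T.Opens) : Scheme.{u}) :=
      f ∣_ (V : T.Opens)
    haveI : IsProper f' := IsZariskiLocalAtTarget.restrict ‹IsProper f› _
    haveI : Surjective f' := IsZariskiLocalAtTarget.restrict ‹Surjective f› _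
    have hc : IsCompact ((f ⁻¹ᵁ (V : T.Opens) : P.Opens) : Set P) :=
      f.isCompact_preimage hVaff.isCompact
    have key : ∀ x : (f ⁻¹ᵁ (V : T.Opens) : P.Opens), ∃ (j : E.I₀) (W : P.Opens),
        IsAffineOpen W ∧ x.1 ∈ W ∧ W ≤ f ⁻¹ᵁ (V : T.Opens) ∧ W ≤ (ι j).opensRange (H := hι j) := by
      intro x
      obtain ⟨j, hj⟩ := hcov x.1
      haveI := hι j
      have hx : x.1 ∈ (f ⁻¹ᵁ (V : T.Opens)) ⊓ (ι j).opensRange := ⟨x.2, hj⟩
      obtain ⟨W, hW, hxW, hWsub⟩ := exists_isAffineOpen_mem_and_subset hx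
      exact ⟨j, W, hW, hxW, fun y hy => (hWsub hy).1, fun y hy => (hWsub hy).2⟩
    choose j W hWaff hxW hWV hWι using key
    obtain ⟨t, ht⟩ := hc.elim_finite_subcover (fun x => (W x : Set P)) (fun x => (W x).2)
      (fun x hx => Set.mem_iUnion.mpr ⟨⟨x, hx⟩, hxW ⟨x, hx⟩⟩)
    let pt : Fin t.card → (f ⁻¹ᵁ (V : T.Opens) : P.Opens) := fun k => (t.equivFin.symm k).1
    have hpt : ∀ k, pt k ∈ t := fun k => (t.equivFin.symm k).2
    let F : PreZeroHypercover.{0} ((V : T.Opens) : Scheme.{u}) :=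
      { I₀ := Fin t.card
        X := fun k => ((W (pt k) : P.Opens) : Scheme.{u})
        f := fun k => P.homOfLE (hWV (pt k)) ≫ f' }
    refine ⟨F, ⟨inferInstance, inferInstanceAs (Finite (Fin _)), fun k => hWaff (pt k), ?_⟩, ?_⟩
    · refine ⟨_, f', fun k => P.homOfLE (hWV (pt k)), inferInstance, inferInstance,
        fun k => inferInstance, fun k => rfl, fun x => ?_⟩
      have hx := ht x.2
      simp only [Set.mem_iUnion] at hx
      obtain ⟨y, hyt, hxy⟩ := hx
      have hmem : x.1 ∈ W (pt (t.equivFin ⟨y, hyt⟩)) := by simpa [pt] using hxy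
      refine ⟨t.equivFin ⟨y, hyt⟩, ⟨⟨x.1, hmem⟩, ?_⟩⟩
      exact Scheme.homOfLE_apply' (hWV (pt (t.equivFin ⟨y, hyt⟩))) x.1 hmem
    · intro k
      haveI := hι (j (pt k))
      have hr : Set.range (W (pt k)).ι ⊆ Set.range (ι (j (pt k))) := by
        rw [Scheme.Opens.range_ι]
        exact hWι (pt k)
      refine ⟨j (pt k), IsOpenImmersion.lift (ι (j (pt k))) (W (pt k)).ι hr, ?_⟩
      change _ = (P.homOfLE (hWV (pt k)) ≫ f') ≫ (V : T.Opens).ι
      rw [← hιf, ← Category.assoc, IsOpenImmersion.lift_fac]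
      simp only [Category.assoc, f', morphismRestrict_ι]
      rw [← Category.assoc, Scheme.homOfLE_ι]

theorem isProper_coprodDesc {X Y T : Scheme.{u}} (f : X ⟶ T) (g : Y ⟶ T) [IsProper f]
    [IsProper g] : IsProper (coprod.desc f g) := by
  have h1 : IsProper (coprod.map f g) :=
    IsZariskiLocalAtTarget.coprodMap (P := @IsProper) f g inferInstance inferInstance
  have h2 : IsFinite (coprod.desc (𝟙 T) (𝟙 T)) := inferInstance
  have h3 : coprod.desc f g = coprod.map f g ≫ coprod.desc (𝟙 T) (𝟙 T) := by simp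
  rw [h3]
  infer_instance

/-- A sieve containing two proper, jointly surjective morphisms is a covering sieve for the ph
topology. -/
theorem mem_phTopology_of_proper_pair {X Y T : Scheme.{u}} (f : X ⟶ T) (g : Y ⟶ T) [IsProper f]
    [IsProper g] (hsurj : ∀ t : T, t ∈ Set.range f ∨ t ∈ Set.range g) (R : Sieve T)
    (hf : R f) (hg : R g) : R ∈ phTopology T := by
  let 𝒲 := coprodOpenCover.{u, 0} X Y
  let E : PreZeroHypercover.{0} T :=
    { I₀ := 𝒲.I₀
      X := 𝒲.X
      f := fun k => 𝒲.f k ≫ coprod.desc f g }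
  have hE : IsPhLike E := by
    refine ⟨X ⨿ Y, coprod.desc f g, 𝒲.f, isProper_coprodDesc f g, ⟨fun t => ?_⟩,
      fun k => 𝒲.map_prop k, fun k => rfl, fun x => ?_⟩
    · rcases hsurj t with ⟨x, rfl⟩ | ⟨y, rfl⟩
      · refine ⟨(coprod.inl : X ⟶ X ⨿ Y) x, ?_⟩
        rw [← Scheme.Hom.comp_apply, coprod.inl_desc]
      · refine ⟨(coprod.inr : Y ⟶ X ⨿ Y) y, ?_⟩
        rw [← Scheme.Hom.comp_apply, coprod.inr_desc]
    · obtain ⟨k, y, hy⟩ := 𝒲.exists_eq x
      exact ⟨k, y, hy⟩
  have hmem : Sieve.generate E.presieve₀ ∈ phTopology T := by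
    apply Precoverage.generate_mem_toGrothendieck
    rw [presieve₀_mem_phPrecoverage_iff]
    exact isPhCover_of_isPhLike E hE
  refine phTopology.superset_covering ?_ hmem
  rw [Sieve.generate_le_iff]
  rintro W k' ⟨k⟩
  rcases k with ⟨⟨⟩⟩ | ⟨⟨⟩⟩
  · change R (coprod.inl ≫ coprod.desc f g)
    rw [coprod.inl_desc]
    exact hf
  · change R (coprod.inr ≫ coprod.desc f g)
    rw [coprod.inr_desc]
    exact hg

/-- The same in the big ph site of `S`. -/
theorem mem_Jph_of_proper_pair {S : Scheme.{u}} {A B T : Over S} (f : A ⟶ T) (g : B ⟶ T)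
    [IsProper f.left] [IsProper g.left]
    (hsurj : ∀ t : T.left, t ∈ Set.range f.left ∨ t ∈ Set.range g.left) (R : Sieve T)
    (hf : R f) (hg : R g) : R ∈ Jph S T := by
  rw [GrothendieckTopology.mem_over_iff]
  refine mem_phTopology_of_proper_pair f.left g.left hsurj _ ?_ ?_
  · rw [Sieve.overEquiv_iff]
    have : (Over.homMk f.left : Over.mk (f.left ≫ T.hom) ⟶ T) =
        (Over.homMk (𝟙 A.left) (by simp) : Over.mk (f.left ≫ T.hom) ⟶ A) ≫ f := by
      ext
      simp
    rw [this]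
    exact R.downward_closed hf _
  · rw [Sieve.overEquiv_iff]
    have : (Over.homMk g.left : Over.mk (g.left ≫ T.hom) ⟶ T) =
        (Over.homMk (𝟙 B.left) (by simp) : Over.mk (g.left ≫ T.hom) ⟶ B) ≫ g := by
      ext
      simp
    rw [this]
    exact R.downward_closed hg _

section Pair

variable {C : Type*} [Category C] {J : GrothendieckTopology C} (P : Sheaf J (Type v))
  {A B T : C} (f : A ⟶ T) (g : B ⟶ T)

/-- The sieve of morphisms factoring through `f` or through `g`. -/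
def pairSieve : Sieve T where
  arrows W k := (∃ l : W ⟶ A, l ≫ f = k) ∨ (∃ l : W ⟶ B, l ≫ g = k)
  downward_closed := by
    rintro W W' k (⟨l, rfl⟩ | ⟨l, rfl⟩) m
    · exact Or.inl ⟨m ≫ l, by simp⟩
    · exact Or.inr ⟨m ≫ l, by simp⟩

theorem pairSieve_left : pairSieve f g f := Or.inl ⟨𝟙 _, by simp⟩

theorem pairSieve_right : pairSieve f g g := Or.inr ⟨𝟙 _, by simp⟩

/-- Sections of a sheaf agreeing on both members of a covering pair are equal. -/
theorem pair_sep (hcov : pairSieve f g ∈ J T) (s₁ s₂ : P.obj.obj (op T))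
    (hf : P.obj.map f.op s₁ = P.obj.map f.op s₂) (hg : P.obj.map g.op s₁ = P.obj.map g.op s₂) :
    s₁ = s₂ := by
  have hsh := ((isSheaf_iff_isSheaf_of_type _ _).mp P.2) _ hcov
  refine hsh.isSeparatedFor.ext ?_
  rintro W k (⟨l, rfl⟩ | ⟨l, rfl⟩)
  · simp only [op_comp, Functor.map_comp, types_comp_apply, hf]
  · simp only [op_comp, Functor.map_comp, types_comp_apply, hg]

/-- Gluing sections of a sheaf along a covering pair. -/
theorem pair_glue (hcov : pairSieve f g ∈ J T) (a : P.obj.obj (op A)) (b : P.obj.obj (op B))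
    (haa : ∀ (W : C) (u v : W ⟶ A), u ≫ f = v ≫ f → P.obj.map u.op a = P.obj.map v.op a)
    (hbb : ∀ (W : C) (u v : W ⟶ B), u ≫ g = v ≫ g → P.obj.map u.op b = P.obj.map v.op b)
    (hab : ∀ (W : C) (u : W ⟶ A) (v : W ⟶ B), u ≫ f = v ≫ g →
      P.obj.map u.op a = P.obj.map v.op b) :
    ∃ s : P.obj.obj (op T), P.obj.map f.op s = a ∧ P.obj.map g.op s = b := by
  classical
  have hsh := ((isSheaf_iff_isSheaf_of_type _ _).mp P.2) _ hcov
  let x : Presieve.FamilyOfElements P.obj (pairSieve f g).arrows := fun W k hk =>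
    if h : ∃ l : W ⟶ A, l ≫ f = k then P.obj.map h.choose.op a
    else P.obj.map (hk.resolve_left h).choose.op b
  have hxA : ∀ (W : C) (l : W ⟶ A) (hk : pairSieve f g (l ≫ f)),
      x (l ≫ f) hk = P.obj.map l.op a := by
    intro W l hk
    have h : ∃ l' : W ⟶ A, l' ≫ f = l ≫ f := ⟨l, rfl⟩
    simp only [x, dif_pos h]
    exact haa W _ _ h.choose_spec
  have hxB : ∀ (W : C) (l : W ⟶ B) (hk : pairSieve f g (l ≫ g)),
      x (l ≫ g) hk = P.obj.map l.op b := by
    intro W l hk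
    by_cases h : ∃ l' : W ⟶ A, l' ≫ f = l ≫ g
    · simp only [x, dif_pos h]
      exact hab W _ _ h.choose_spec
    · simp only [x, dif_neg h]
      exact hbb W _ _ (hk.resolve_left h).choose_spec
  have hxcongr : ∀ (W : C) (k k' : W ⟶ T) (_ : k = k') (hk : pairSieve f g k)
      (hk' : pairSieve f g k'), x k hk = x k' hk' := by
    intro W k k' e hk hk'
    subst e
    rfl
  have hcompat : x.Compatible := by
    rw [Presieve.compatible_iff_sieveCompatible]
    intro W W' k m hk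
    rcases hk with ⟨l, rfl⟩ | ⟨l, rfl⟩
    · rw [hxcongr _ (m ≫ l ≫ f) ((m ≫ l) ≫ f) (Category.assoc _ _ _).symm
        ((pairSieve f g).downward_closed (Or.inl ⟨l, rfl⟩) m) (Or.inl ⟨m ≫ l, rfl⟩), hxA _ (m ≫ l) (Or.inl ⟨m ≫ l, rfl⟩), hxA _ l (Or.inl ⟨l, rfl⟩)]
      simp
    · rw [hxcongr _ (m ≫ l ≫ g) ((m ≫ l) ≫ g) (Category.assoc _ _ _).symm
        ((pairSieve f g).downward_closed (Or.inr ⟨l, rfl⟩) m) (Or.inr ⟨m ≫ l, rfl⟩), hxB _ (m ≫ l) (Or.inr ⟨m ≫ l, rfl⟩), hxB _ l (Or.inr ⟨l, rfl⟩)]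
      simp
  obtain ⟨s, hs, -⟩ := hsh x hcompat
  refine ⟨s, ?_, ?_⟩
  · rw [hs f (pairSieve_left f g),
      hxcongr _ f (𝟙 A ≫ f) (Category.id_comp _).symm (pairSieve_left f g) (Or.inl ⟨𝟙 A, rfl⟩),
      hxA _ (𝟙 A) (Or.inl ⟨𝟙 A, rfl⟩)]
    simp
  · rw [hs g (pairSieve_right f g),
      hxcongr _ g (𝟙 B ≫ g) (Category.id_comp _).symm (pairSieve_right f g) (Or.inr ⟨𝟙 B, rfl⟩),
      hxB _ (𝟙 B) (Or.inr ⟨𝟙 B, rfl⟩)]
    simp

end Pair

end Groth.Agent.R2.H41.PhCov
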