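import Mathlib
import Groth.Prelude.Def_Rees
import Groth.Agent.R2.H86ReesChart

/-!
# helper86: the charts `D₊(aX)`, `a ∈ I`, cover `Proj` of the Rees algebra (PROJ:blowup I1 (c))
-/

set_option autoImplicit false
universe u

open Polynomial HomogeneousLocalization AlgebraicGeometry

namespace Groth.Agent.R2.H86.ReesChart

variable {A : Type u} [CommRing A] (I : Ideal A)

theorem mon_add (n : ℕ) (c c' : A) (hc : c ∈ I ^ n) (hc' : c' ∈ I ^ n) :
    mon I n (c + c') (add_mem hc hc') = mon I n c hc + mon I n c' hc' := by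
  apply Subtype.ext
  rw [Subalgebra.coe_add, coe_mon, coe_mon, coe_mon, map_add]

theorem mon_succ_mul (n : ℕ) (d a : A) (hd : d ∈ I ^ n) (ha : a ∈ I) :
    mon I (n + 1) (d * a) (by rw [pow_succ]; exact Ideal.mul_mem_mul hd ha) =
      mon I n d hd * aX I a ha := by
  apply Subtype.ext
  rw [Subalgebra.coe_mul, coe_mon, coe_mon, coe_aX, monomial_mul_monomial]

/-- The degree-one elements `aX`, `a ∈ I`, generate the Rees algebra over its degree-zero part. -/
theorem adjoin_range_aX_eq_top :
    Algebra.adjoin (Rees.deg (reesAlgebra I) 0) (Set.range fun a : I => aX I a.1 a.2) = ⊤ := by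
  rw [eq_top_iff]
  rintro p -
  have key : ∀ (n : ℕ) (c : A) (hc : c ∈ I ^ n), mon I n c hc ∈
      Algebra.adjoin (Rees.deg (reesAlgebra I) 0) (Set.range fun a : I => aX I a.1 a.2) := by
    intro n
    induction n with
    | zero =>
      intro c hc
      exact Subalgebra.algebraMap_mem _ (⟨mon I 0 c hc, mon_mem_deg I 0 c hc⟩ : Rees.deg (reesAlgebra I) 0)
    | succ n ih =>
      intro c hc
      have hc' : c ∈ I ^ n * I := by rwa [pow_succ] at hc
      have : ∃ hc : c ∈ I ^ (n + 1), mon I (n + 1) c hc ∈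
          Algebra.adjoin (Rees.deg (reesAlgebra I) 0) (Set.range fun a : I => aX I a.1 a.2) := by
        refine Submodule.mul_induction_on hc' ?_ ?_
        · intro d hd a ha
          refine ⟨by rw [pow_succ]; exact Ideal.mul_mem_mul hd ha, ?_⟩
          rw [mon_succ_mul I n d a hd ha]
          exact mul_mem (ih d hd) (Algebra.subset_adjoin ⟨⟨a, ha⟩, rfl⟩)
        · rintro x y ⟨hx, hx'⟩ ⟨hy, hy'⟩
          refine ⟨add_mem hx hy, ?_⟩
          rw [mon_add I (n + 1) x y hx hy]
          exact add_mem hx' hy'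
      exact this.2
  rw [eq_sum_mon I p]
  exact Subalgebra.sum_mem _ fun i _ => key i _ _

/-- (c) The charts `D₊(aX)`, `a ∈ I`, cover `Proj` of the Rees algebra. -/
theorem iSup_basicOpen_aX_eq_top :
    ⨆ a : I, Proj.basicOpen (Rees.deg (reesAlgebra I)) (aX I a.1 a.2) = ⊤ :=
  Proj.iSup_basicOpen_eq_top' (Rees.deg (reesAlgebra I)) (fun a : I => aX I a.1 a.2)
    (fun a => ⟨1, aX_mem_deg I a.1 a.2⟩) (adjoin_range_aX_eq_top I)

end Groth.Agent.R2.H86.ReesChart
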