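import Mathlib
import Groth.Prelude.Def_HTop
import Groth.Prelude.Def_BlowUp2
import Groth.Agent.R2.H41PhCov
import Groth.Agent.R2.H86BlowProper2
import Groth.Agent.Lib.Helper20BlowUp

/-!
# Blow-up squares and ph sheaves (helper41)

Geometry of a blow-up square needed for Stacks-style "ph sheaves turn blow-up squares into cartesian
squares".
-/

set_option autoImplicit false
set_option linter.style.haveILetI false
universe v u

open CategoryTheory CategoryTheory.Limits AlgebraicGeometry Opposite HTop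

namespace Groth.Agent.R2.H41.BlowSq

/-- The ideal sheaf of a closed immersion locally of finite presentation is of finite type. -/
theorem isFiniteTypeIdeal_ker {Z X : Scheme.{u}} (i : Z ⟶ X) [IsClosedImmersion i]
    [LocallyOfFinitePresentation i] : BlowUp.IsFiniteTypeIdeal i.ker := by
  intro U
  rw [Scheme.Hom.ker_apply]
  have hsurj : Function.Surjective (i.app U.1).hom := i.app_surjective U.1 U.2
  have hfp : (i.app U.1).hom.FinitePresentation := by
    have := i.finitePresentation_appLE U.2 (U.2.preimage i) le_rfl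
    rwa [← Scheme.Hom.app_eq_appLE] at this
  algebraize [(i.app U.1).hom]
  exact Algebra.FinitePresentation.ker_fG_of_surjective (Algebra.ofId _ _) hsurj

theorem mem_compl_of_notMem_range {Z X : Scheme.{u}} (i : Z ⟶ X) [IsClosedImmersion i] (x : X)
    (hx : x ∉ Set.range i) : x ∈ Groth.Agent.Lib.Helper20.BlowUpBasic.compl i.ker := by
  change x ∈ ((i.ker.support : Set X))ᶜ
  rw [Scheme.Hom.support_ker, i.isClosedEmbedding.isClosed_range.closure_eq]
  exact hx

open Groth.Agent.Lib.Helper20.BlowUpBasic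

section Square

variable {E Z X' X : Scheme.{u}} {e : E ⟶ X'} {π : E ⟶ Z} {b : X' ⟶ X} {i : Z ⟶ X}

/-- The centre and the blow-up jointly cover the base. -/
theorem mem_range_or_mem_range' [IsClosedImmersion i] (hiso : IsIso (b ∣_ compl i.ker)) (x : X) :
    x ∈ Set.range i ∨ x ∈ Set.range b := by
  by_cases hx : x ∈ Set.range i
  · exact Or.inl hx
  · right
    have hxU := mem_compl_of_notMem_range i x hx
    haveI := hiso
    obtain ⟨y, hy⟩ := (b ∣_ compl i.ker).surjective ⟨x, hxU⟩
    refine ⟨(b ⁻¹ᵁ compl i.ker).ι y, ?_⟩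
    rw [← Scheme.Hom.comp_apply, ← morphismRestrict_ι, Scheme.Hom.comp_apply, hy]
    rfl

/-- The diagonal of the blow-up and the "square" of the exceptional divisor jointly cover
`X' ×_X X'`. -/
theorem mem_range_diagonal_or_mem_range' (hE : IsPullback e π b i) [IsClosedImmersion i]
    (hiso : IsIso (b ∣_ compl i.ker)) (m : pullback π π ⟶ pullback b b)
    (hm₁ : m ≫ pullback.fst b b = pullback.fst π π ≫ e)
    (hm₂ : m ≫ pullback.snd b b = pullback.snd π π ≫ e) (p : ↥(pullback b b)) :
    p ∈ Set.range (pullback.diagonal b) ∨ p ∈ Set.range m := by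
  by_cases hx : (pullback.fst b b ≫ b) p ∈ Set.range i
  · right
    obtain ⟨z, hz⟩ := hx
    obtain ⟨w, hw, -⟩ := Scheme.Pullback.exists_preimage_pullback (f := pullback.fst b b ≫ b)
      (g := i) p z hz.symm
    let f₁ : pullback (pullback.fst b b ≫ b) i ⟶ pullback b b := pullback.fst _ _
    let f₂ : pullback (pullback.fst b b ≫ b) i ⟶ Z := pullback.snd _ _
    have hc : f₁ ≫ pullback.fst b b ≫ b = f₂ ≫ i := pullback.condition
    have hc' : f₁ ≫ pullback.snd b b ≫ b = f₂ ≫ i := by
      rw [← pullback.condition (f := b) (g := b)]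
      exact hc
    let l₁ : pullback (pullback.fst b b ≫ b) i ⟶ E :=
      hE.lift (f₁ ≫ pullback.fst b b) f₂ (by rw [Category.assoc, hc])
    let l₂ : pullback (pullback.fst b b ≫ b) i ⟶ E :=
      hE.lift (f₁ ≫ pullback.snd b b) f₂ (by rw [Category.assoc, hc'])
    let k : pullback (pullback.fst b b ≫ b) i ⟶ pullback π π :=
      pullback.lift l₁ l₂ (by simp [l₁, l₂])
    have hk : k ≫ m = f₁ := by
      apply pullback.hom_ext
      · rw [Category.assoc, hm₁, ← Category.assoc, pullback.lift_fst]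
        exact hE.lift_fst _ _ _
      · rw [Category.assoc, hm₂, ← Category.assoc, pullback.lift_snd]
        exact hE.lift_fst _ _ _
    refine ⟨k w, ?_⟩
    rw [← Scheme.Hom.comp_apply, hk, hw]
  · left
    have hxU := mem_compl_of_notMem_range i _ hx
    haveI := hiso
    set U := compl i.ker with hU
    let V : (pullback b b).Opens := (pullback.fst b b ≫ b) ⁻¹ᵁ U
    have hpV : p ∈ V := hxU
    let r₁ : (V : Scheme.{u}) ⟶ X' := V.ι ≫ pullback.fst b b
    let r₂ : (V : Scheme.{u}) ⟶ X' := V.ι ≫ pullback.snd b b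
    have hr : r₁ ≫ b = r₂ ≫ b := by
      simp only [r₁, r₂, Category.assoc, pullback.condition]
    have hr₁ : Set.range r₁ ⊆ Set.range (b ⁻¹ᵁ U).ι := by
      rintro _ ⟨y, rfl⟩
      rw [Scheme.Opens.range_ι]
      change b (r₁ y) ∈ U
      rw [← Scheme.Hom.comp_apply]
      exact y.2
    have hr₂ : Set.range r₂ ⊆ Set.range (b ⁻¹ᵁ U).ι := by
      rintro _ ⟨y, rfl⟩
      rw [Scheme.Opens.range_ι]
      change b (r₂ y) ∈ U
      rw [← Scheme.Hom.comp_apply, ← hr]
      exact y.2
    let r₁' := IsOpenImmersion.lift (b ⁻¹ᵁ U).ι r₁ hr₁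
    let r₂' := IsOpenImmersion.lift (b ⁻¹ᵁ U).ι r₂ hr₂
    have h₁ : r₁' ≫ (b ⁻¹ᵁ U).ι = r₁ := IsOpenImmersion.lift_fac _ _ _
    have h₂ : r₂' ≫ (b ⁻¹ᵁ U).ι = r₂ := IsOpenImmersion.lift_fac _ _ _
    have h' : r₁' = r₂' := by
      rw [← cancel_mono (b ∣_ U), ← cancel_mono U.ι, Category.assoc, Category.assoc,
        morphismRestrict_ι, ← Category.assoc, ← Category.assoc, h₁, h₂, hr]
    have hrr : r₁ = r₂ := by rw [← h₁, ← h₂, h']
    have hV : V.ι = r₁ ≫ pullback.diagonal b := by
      apply pullback.hom_ext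
      · simp [r₁]
      · rw [Category.assoc, pullback.diagonal_snd, Category.comp_id, hrr]
    have h3 : (r₁ ≫ pullback.diagonal b) ⟨p, hpV⟩ = p := by
      rw [← hV]
      rfl
    exact ⟨r₁ ⟨p, hpV⟩, h3⟩

/-- The centre and the blow-up jointly cover the base. -/
theorem mem_range_or_mem_range [IsClosedImmersion i] (hb : BlowUp.IsBlowUp b i.ker) (x : X) :
    x ∈ Set.range i ∨ x ∈ Set.range b :=
  mem_range_or_mem_range' (isIso_morphismRestrict i.ker b hb) x

/-- The diagonal of the blow-up and the "square" of the exceptional divisor jointly cover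
`X' ×_X X'`. -/
theorem mem_range_diagonal_or_mem_range (hE : IsPullback e π b i) [IsClosedImmersion i]
    (hb : BlowUp.IsBlowUp b i.ker) (m : pullback π π ⟶ pullback b b)
    (hm₁ : m ≫ pullback.fst b b = pullback.fst π π ≫ e)
    (hm₂ : m ≫ pullback.snd b b = pullback.snd π π ≫ e) (p : ↥(pullback b b)) :
    p ∈ Set.range (pullback.diagonal b) ∨ p ∈ Set.range m :=
  mem_range_diagonal_or_mem_range' hE (isIso_morphismRestrict i.ker b hb) m hm₁ hm₂ p

end Square

end Groth.Agent.R2.H41.BlowSq
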