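import Mathlib
import Groth.Prelude.Def_HTop3
import Groth.Agent.R2.H41BlowSq

/-!
# Almost blow-up squares: the modification is an isomorphism away from the centre (helper41)
-/

set_option autoImplicit false
set_option linter.style.haveILetI false
universe v u

open CategoryTheory CategoryTheory.Limits AlgebraicGeometry Opposite HTop

namespace Groth.Agent.R2.H41.AlmostBlow

open Groth.Agent.Lib.Helper20.BlowUpBasic

set_option backward.isDefEq.respectTransparency.types false in
/-- The complement of the support of a locally principal ideal sheaf has quasi-compact inclusion. -/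
theorem quasiCompact_awayFrom_ι {X : Scheme.{u}} (𝓙 : X.IdealSheafData) (h𝓙 : IsLocPrincipal 𝓙) :
    QuasiCompact (awayFrom 𝓙).ι := by
  apply IsZariskiLocalAtTarget.of_forall_exists_morphismRestrict (P := @QuasiCompact)
  intro x
  obtain ⟨W, hxW, f, hf⟩ := h𝓙 x
  refine ⟨W.1, hxW, ?_⟩
  haveI : IsAffine (W.1 : Scheme.{u}) := W.2
  rw [HasAffineProperty.iff_of_isAffine (P := @QuasiCompact)]
  rw [← isCompact_univ_iff, ((awayFrom 𝓙).ι ⁻¹ᵁ W.1).ι.isEmbedding.isCompact_iff,
    Set.image_univ, Scheme.Opens.range_ι,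
    (awayFrom 𝓙).ι.isEmbedding.isCompact_iff]
  have hset : (awayFrom 𝓙).ι '' (((awayFrom 𝓙).ι ⁻¹ᵁ W.1 : (awayFrom 𝓙).toScheme.Opens) : Set _) =
      (X.basicOpen f : Set X) := by
    rw [Scheme.Hom.coe_preimage, Set.image_preimage_eq_inter_range, Scheme.Opens.range_ι]
    ext y
    constructor
    · rintro ⟨hyW, hyV⟩
      by_contra hy
      apply hyV
      refine ((𝓙.coe_support_inter W).ge ⟨?_, hyW⟩).1
      rw [hf, Scheme.zeroLocus_span, Scheme.zeroLocus_singleton]
      exact hy
    · intro hy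
      have hyW : y ∈ W.1 := X.basicOpen_le f hy
      refine ⟨hyW, fun hyS => ?_⟩
      have := ((𝓙.coe_support_inter W).le ⟨hyS, hyW⟩).1
      rw [hf, Scheme.zeroLocus_span, Scheme.zeroLocus_singleton] at this
      exact this hy
  rw [hset]
  exact (W.2.basicOpen f).isCompact

/-- The closed subscheme cut out by the sections supported on the support of `𝓙` agrees with the
ambient scheme away from that support. -/
theorem isIso_subschemeι_restrict {X : Scheme.{u}} (𝓙 : X.IdealSheafData)
    [QuasiCompact (awayFrom 𝓙).ι] (V : X.Opens) (hV : V ≤ awayFrom 𝓙) :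
    IsIso ((supportedOn 𝓙).subschemeι ∣_ V) := by
  rw [IsClosedImmersion.isIso_iff_ker_eq_bot]
  apply Scheme.IdealSheafData.ext
  funext W
  rw [Scheme.ker_morphismRestrict_ideal, Scheme.IdealSheafData.ker_subschemeι,
    Scheme.IdealSheafData.ideal_bot]
  unfold supportedOn
  rw [Scheme.Hom.ker_apply]
  have hle : V.ι ''ᵁ W.1 ≤ (awayFrom 𝓙).ι.opensRange := by
    rw [Scheme.Opens.opensRange_ι]
    refine le_trans ?_ hV
    rintro _ ⟨y, -, rfl⟩
    exact y.2
  haveI : IsIso ((awayFrom 𝓙).ι.app (V.ι ''ᵁ W.1)) := Scheme.Hom.isIso_app _ _ hle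
  exact (RingHom.injective_iff_ker_eq_bot _).mp
    (ConcreteCategory.bijective_of_isIso ((awayFrom 𝓙).ι.app (V.ι ''ᵁ W.1))).1

/-- In an almost blow up square, the modification `b` is an isomorphism over the complement of the
centre. -/
theorem isIso_morphismRestrict_of_isAlmostBlowUpSquare {E Z X' X : Scheme.{u}} {e : E ⟶ X'}
    {π : E ⟶ Z} {b : X' ⟶ X} {i : Z ⟶ X} (h : IsAlmostBlowUpSquare e π b i) :
    IsIso (b ∣_ compl i.ker) := by
  haveI := quasiCompact_awayFrom_ι _ h.locPrincipal
  have hV : b ⁻¹ᵁ compl i.ker ≤ awayFrom (i.ker.comap b) := by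
    intro y hy
    change y ∈ ((i.ker.comap b).support : Set X')ᶜ
    rw [Scheme.IdealSheafData.support_comap]
    exact hy
  haveI h1 := isIso_subschemeι_restrict (i.ker.comap b) (b ⁻¹ᵁ compl i.ker) hV
  haveI h2 : IsIso (((supportedOn (i.ker.comap b)).subschemeι ≫ b) ∣_ compl i.ker) :=
    isIso_morphismRestrict i.ker _ h.isBlowUp
  rw [morphismRestrict_comp] at h2
  exact @IsIso.of_isIso_comp_left _ _ _ _ _
    ((supportedOn (i.ker.comap b)).subschemeι ∣_ b ⁻¹ᵁ compl i.ker) (b ∣_ compl i.ker) h1 h2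

end Groth.Agent.R2.H41.AlmostBlow
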