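import Mathlib
import Groth.Prelude.Def_FSch3
import Groth.Agent.Lib.Helper19ComplFlatMap
import Groth.Agent.Lib.Helper7ComplKaehler

/-!
# helper41: completions along a local homomorphism with finite closed fibre

* `complMap_id_bijective`: ideals `I ≤ K` with `K ^ k ≤ I` define isomorphic completions.
* `exists_pow_le`, `exists_generators`: consequences of `κ(m) ⊗ S` finite over `κ(m)`.
* `complMap_finite`: the map of completions is finite (complete Nakayama, Lib Helper7).
-/

set_option autoImplicit false
set_option linter.unusedSectionVars false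
universe u
open TensorProduct

namespace Groth.Agent.R2.H41.ComplFin

open Groth.Agent.Lib.Helper19

section EquivTop

variable {S : Type u} [CommRing S] (I K : Ideal S)

theorem mem_pow_iff_smul_top (a : S) (j : ℕ) :
    a ∈ (I ^ j • ⊤ : Submodule S S) ↔ a ∈ I ^ j := by
  simp

/-- equivalent adic topologies have isomorphic completions -/
theorem complMap_id_bijective (h' : I.map (RingHom.id S) ≤ K) (k : ℕ) (hk : K ^ k ≤ I) :
    Function.Bijective (FSch.complMap I K (RingHom.id S) h') := by
  have hIK : I ≤ K := by simpa using h'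
  -- WLOG k ≥ 1
  have hk1 : K ^ (k + 1) ≤ I := (Ideal.pow_le_pow_right (Nat.le_succ k)).trans hk
  have hpow : ∀ j, K ^ ((k + 1) * j) ≤ I ^ j := by
    intro j
    rw [pow_mul]
    exact Ideal.pow_right_mono hk1 j
  have hle : ∀ j, j ≤ (k + 1) * j := fun j => Nat.le_mul_of_pos_left j (Nat.succ_pos k)
  constructor
  · rw [injective_iff_map_eq_zero]
    intro x hx
    obtain ⟨y, rfl⟩ := AdicCompletion.mk_surjective I S x
    have hy : ∀ j, y.val j ∈ K ^ j := by
      intro j
      have := congrArg (AdicCompletion.evalₐ K j) hx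
      rw [evalₐ_complMap, AdicCompletion.evalₐ_mk, Ideal.quotientMap_mk, map_zero,
        Ideal.Quotient.eq_zero_iff_mem] at this
      simpa using this
    apply AdicCompletion.ext_evalₐ
    intro j
    rw [AdicCompletion.evalₐ_mk, map_zero, Ideal.Quotient.eq_zero_iff_mem]
    have h1 : y.val j ≡ y.val ((k + 1) * j) [SMOD (I ^ j • ⊤ : Submodule S S)] :=
      y.property (hle j)
    rw [SModEq.sub_mem, mem_pow_iff_smul_top] at h1
    have h2 : y.val ((k + 1) * j) ∈ I ^ j := hpow j (hy _)
    have := (I ^ j).add_mem h1 h2
    simpa using this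
  · intro z
    obtain ⟨w, rfl⟩ := AdicCompletion.mk_surjective K S z
    let y : AdicCompletion.AdicCauchySequence I S :=
      ⟨fun j => w.val ((k + 1) * j), by
        intro a b hab
        have h1 : w.val ((k + 1) * a) ≡ w.val ((k + 1) * b)
            [SMOD (K ^ ((k + 1) * a) • ⊤ : Submodule S S)] :=
          w.property (Nat.mul_le_mul_left _ hab)
        rw [SModEq.sub_mem, mem_pow_iff_smul_top] at h1 ⊢
        exact hpow a h1⟩
    refine ⟨AdicCompletion.mk I S y, ?_⟩
    apply AdicCompletion.ext_evalₐ
    intro j
    rw [evalₐ_complMap, AdicCompletion.evalₐ_mk, AdicCompletion.evalₐ_mk, Ideal.quotientMap_mk,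
      RingHom.id_apply, Ideal.Quotient.eq]
    have h1 : w.val j ≡ w.val ((k + 1) * j) [SMOD (K ^ j • ⊤ : Submodule S S)] :=
      w.property (hle j)
    rw [SModEq.sub_mem, mem_pow_iff_smul_top] at h1
    have := (K ^ j).neg_mem h1
    simpa using this

end EquivTop

section Fibre

variable (R S : Type u) [CommRing R] [CommRing S] [Algebra R S] (m : Ideal R) [m.IsMaximal]

/-- `s ↦ 1 ⊗ s` -/
noncomputable abbrev φ : S →ₐ[R] m.Fiber S := Algebra.TensorProduct.includeRight

theorem φ_surjective : Function.Surjective (φ R S m) := by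
  intro b
  induction b using TensorProduct.induction_on with
  | zero => exact ⟨0, map_zero _⟩
  | tmul x s =>
    obtain ⟨r, rfl⟩ := m.algebraMap_residueField_surjective x
    refine ⟨r • s, ?_⟩
    change (1 : m.ResidueField) ⊗ₜ[R] (r • s) = _
    rw [TensorProduct.tmul_smul, TensorProduct.smul_tmul', Algebra.smul_def, mul_one]
  | add x y hx hy =>
    obtain ⟨a, ha⟩ := hx
    obtain ⟨b, hb⟩ := hy
    exact ⟨a + b, by rw [map_add, ha, hb]⟩

theorem ker_φ : RingHom.ker (φ R S m).toRingHom = m.map (algebraMap R S) := by
  apply le_antisymm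
  · intro s hs
    rw [RingHom.mem_ker] at hs
    have hs' : (1 : m.ResidueField) ⊗ₜ[R] s = 0 := hs
    have hex : Function.Exact (m.subtype : m →ₗ[R] R) (Algebra.linearMap R m.ResidueField) := by
      intro r
      constructor
      · intro hr
        have : r ∈ RingHom.ker (algebraMap R m.ResidueField) := hr
        rw [Ideal.ker_algebraMap_residueField] at this
        exact ⟨⟨r, this⟩, rfl⟩
      · rintro ⟨x, rfl⟩
        have : (x : R) ∈ RingHom.ker (algebraMap R m.ResidueField) := by
          rw [Ideal.ker_algebraMap_residueField]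
          exact x.2
        exact this
    have hsurj : Function.Surjective (Algebra.linearMap R m.ResidueField) :=
      m.algebraMap_residueField_surjective
    have hex2 := rTensor_exact S hex hsurj
    have h1 : (LinearMap.rTensor S (Algebra.linearMap R m.ResidueField)) ((1 : R) ⊗ₜ[R] s) = 0 := by
      rw [LinearMap.rTensor_tmul, Algebra.linearMap_apply, map_one]
      exact hs'
    obtain ⟨z, hz⟩ := (hex2 _).mp h1
    have h2 : ∀ z : m ⊗[R] S, TensorProduct.lid R S (LinearMap.rTensor S m.subtype z) ∈
        m.map (algebraMap R S) := by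
      intro z
      induction z using TensorProduct.induction_on with
      | zero => simp
      | tmul x s' =>
        rw [LinearMap.rTensor_tmul, TensorProduct.lid_tmul, Submodule.subtype_apply,
          Algebra.smul_def]
        exact Ideal.mul_mem_right _ _ (Ideal.mem_map_of_mem _ x.2)
      | add x y hx hy =>
        rw [map_add, map_add]
        exact Ideal.add_mem _ hx hy
    have := h2 z
    rw [hz, TensorProduct.lid_tmul, one_smul] at this
    exact this
  · rw [Ideal.map_le_iff_le_comap]
    intro r hr
    rw [Ideal.mem_comap, RingHom.mem_ker]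
    change (φ R S m) (algebraMap R S r) = 0
    rw [AlgHom.commutes, IsScalarTower.algebraMap_apply R m.ResidueField (m.Fiber S)]
    have : algebraMap R m.ResidueField r = 0 := by
      have : r ∈ RingHom.ker (algebraMap R m.ResidueField) := by
        rw [Ideal.ker_algebraMap_residueField]; exact hr
      exact this
    rw [this, map_zero]

end Fibre

section Local

variable (R S : Type u) [CommRing R] [CommRing S] [IsLocalRing R] [IsLocalRing S] [Algebra R S]

open IsLocalRing

theorem exists_pow_le
    (hfib : Module.Finite (maximalIdeal R).ResidueField ((maximalIdeal R).Fiber S))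
    (h : (maximalIdeal R).map (algebraMap R S) ≤ maximalIdeal S) :
    ∃ k : ℕ, maximalIdeal S ^ k ≤ (maximalIdeal R).map (algebraMap R S) := by
  set m := maximalIdeal R with hm
  set B := m.Fiber S
  have hsurj := φ_surjective R S m
  have hker := ker_φ R S m
  have hnt : Nontrivial B := by
    by_contra hcon
    rw [not_nontrivial_iff_subsingleton] at hcon
    have : (1 : S) ∈ RingHom.ker (φ R S m).toRingHom := by
      rw [RingHom.mem_ker]
      exact Subsingleton.elim _ _
    rw [hker] at this
    exact (maximalIdeal.isMaximal S).ne_top ((Ideal.eq_top_iff_one _).2 (h this))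
  have hloc : IsLocalRing B := IsLocalRing.of_surjective' (φ R S m).toRingHom hsurj
  have hart : IsArtinianRing B := IsArtinianRing.of_finite m.ResidueField B
  obtain ⟨k, hk⟩ := IsArtinianRing.isNilpotent_jacobson_bot (R := B)
  rw [IsLocalRing.jacobson_eq_maximalIdeal ⊥ bot_ne_top] at hk
  refine ⟨k, ?_⟩
  have hn : (maximalIdeal S).map (φ R S m).toRingHom ≤ maximalIdeal B := by
    rw [Ideal.map_le_iff_le_comap]
    intro x hx
    rw [Ideal.mem_comap, IsLocalRing.mem_maximalIdeal, mem_nonunits_iff]
    intro hu
    obtain ⟨b, hb⟩ := hu.exists_right_inv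
    obtain ⟨y, rfl⟩ := hsurj b
    have h1 : x * y - 1 ∈ RingHom.ker (φ R S m).toRingHom := by
      rw [RingHom.mem_ker, map_sub, map_mul, map_one]
      exact sub_eq_zero.mpr hb
    rw [hker] at h1
    have h2 : x * y - 1 ∈ maximalIdeal S := h h1
    have h3 : x * y ∈ maximalIdeal S := Ideal.mul_mem_right _ _ hx
    have h4 : (1 : S) ∈ maximalIdeal S := by
      have := (maximalIdeal S).sub_mem h3 h2
      rwa [sub_sub_cancel] at this
    exact (maximalIdeal.isMaximal S).ne_top ((Ideal.eq_top_iff_one _).2 h4)
  have h5 : (maximalIdeal S ^ k).map (φ R S m).toRingHom ≤ ⊥ := by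
    rw [Ideal.map_pow]
    exact (Ideal.pow_right_mono hn k).trans (le_of_eq hk)
  rw [← hker]
  intro x hx
  rw [RingHom.mem_ker]
  exact Ideal.mem_bot.mp (h5 (Ideal.mem_map_of_mem _ hx))

theorem exists_generators
    (hfib : Module.Finite (maximalIdeal R).ResidueField ((maximalIdeal R).Fiber S)) :
    ∃ (r : ℕ) (s : Fin r → S), ∀ t : S, ∃ a : Fin r → R,
      t - ∑ i, algebraMap R S (a i) * s i ∈ (maximalIdeal R).map (algebraMap R S) := by
  set m := maximalIdeal R with hm
  set B := m.Fiber S
  have hsurj := φ_surjective R S m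
  have hker := ker_φ R S m
  have hfin : Module.Finite R B := Module.Finite.trans m.ResidueField B
  obtain ⟨r, b, hb⟩ := Module.Finite.exists_fin (R := R) (M := B)
  choose s hs using fun i => hsurj (b i)
  refine ⟨r, s, fun t => ?_⟩
  have ht : φ R S m t ∈ Submodule.span R (Set.range b) := by rw [hb]; trivial
  obtain ⟨a, ha⟩ := (Submodule.mem_span_range_iff_exists_fun R).1 ht
  refine ⟨a, ?_⟩
  rw [← hker, RingHom.mem_ker]
  change φ R S m (t - ∑ i, algebraMap R S (a i) * s i) = 0
  rw [map_sub, map_sum, ← ha, sub_eq_zero]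
  refine (Finset.sum_congr rfl fun i _ => ?_).symm
  rw [map_mul, AlgHom.commutes, hs, Algebra.smul_def]

end Local

open Groth.Agent.Lib.Helper19 Groth.Agent.Lib.Helper7.ComplKaehler

section Fin

variable {R S : Type u} [CommRing R] [CommRing S] [Algebra R S] (m : Ideal R) (n : Ideal S)
  (h : m.map (algebraMap R S) ≤ n)

theorem complMap_algebraMap' (a : R) :
    FSch.complMap m n (algebraMap R S) h (algebraMap R (AdicCompletion m R) a) =
      algebraMap S (AdicCompletion n S) (algebraMap R S a) := by
  apply AdicCompletion.ext_evalₐ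
  intro j
  rw [evalₐ_complMap]
  simp only [AlgHom.commutes]
  rfl

theorem evalₐ_algebraMap_eq_zero (j : ℕ) (w : S) (hw : w ∈ n ^ j) :
    AdicCompletion.evalₐ n j (algebraMap S (AdicCompletion n S) w) = 0 := by
  rw [AlgHom.commutes]
  exact Ideal.Quotient.eq_zero_iff_mem.mpr hw

theorem complMap_finite (hm : m.FG) (hn : n.FG)
    (k : ℕ) (hk : n ^ k ≤ m.map (algebraMap R S))
    (r : ℕ) (s : Fin r → S) (hs : ∀ t : S, ∃ a : Fin r → R,
      t - ∑ i, algebraMap R S (a i) * s i ∈ m.map (algebraMap R S)) :
    (FSch.complMap m n (algebraMap R S) h).Finite := by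
  let alg : Algebra (AdicCompletion m R) (AdicCompletion n S) :=
    (FSch.complMap m n (algebraMap R S) h).toAlgebra
  change Module.Finite (AdicCompletion m R) (AdicCompletion n S)
  set mh : Ideal (AdicCompletion m R) := m.map (algebraMap R (AdicCompletion m R)) with hmh
  have hcompl : IsAdicComplete mh (AdicCompletion m R) := AdicCompletion.isAdicComplete_self m hm
  have hsmul : ∀ (a : AdicCompletion m R) (y : AdicCompletion n S),
      a • y = FSch.complMap m n (algebraMap R S) h a * y := fun a y => rfl
  -- key: elements of `m S` times anything lie in `mh • ⊤`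
  have key : ∀ w ∈ m.map (algebraMap R S), ∀ z : AdicCompletion n S,
      algebraMap S (AdicCompletion n S) w * z ∈
        (mh • ⊤ : Submodule (AdicCompletion m R) (AdicCompletion n S)) := by
    intro w hw
    refine Submodule.span_induction (p := fun w _ => ∀ z : AdicCompletion n S,
      algebraMap S (AdicCompletion n S) w * z ∈
        (mh • ⊤ : Submodule (AdicCompletion m R) (AdicCompletion n S))) ?_ ?_ ?_ ?_ hw
    · rintro _ ⟨a, ha, rfl⟩ z
      rw [← complMap_algebraMap' m n h a, ← hsmul]
      exact Submodule.smul_mem_smul (Ideal.mem_map_of_mem _ ha) trivial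
    · intro z
      rw [map_zero, zero_mul]
      exact Submodule.zero_mem _
    · intro x y _ _ hx hy z
      rw [map_add, add_mul]
      exact Submodule.add_mem _ (hx z) (hy z)
    · intro c x _ hx z
      rw [smul_eq_mul, map_mul, mul_comm (algebraMap S _ c), mul_assoc]
      exact hx _
  -- Hausdorff
  have hpow_le : ∀ j, (m ^ j).map (algebraMap R S) ≤ n ^ j := by
    intro j
    rw [Ideal.map_pow]
    exact Ideal.pow_right_mono h j
  have key2 : ∀ j, ∀ a ∈ mh ^ j, ∀ z : AdicCompletion n S,
      AdicCompletion.evalₐ n j (a • z) = 0 := by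
    intro j a ha
    rw [hmh, ← Ideal.map_pow] at ha
    refine Submodule.span_induction (p := fun a _ => ∀ z : AdicCompletion n S,
      AdicCompletion.evalₐ n j (a • z) = 0) ?_ ?_ ?_ ?_ ha
    · rintro _ ⟨b, hb, rfl⟩ z
      rw [hsmul, complMap_algebraMap', map_mul,
        evalₐ_algebraMap_eq_zero n j _ (hpow_le j (Ideal.mem_map_of_mem _ hb)), zero_mul]
    · intro z
      rw [zero_smul, map_zero]
    · intro x y _ _ hx hy z
      rw [add_smul, map_add, hx, hy, add_zero]
    · intro c x _ hx z
      rw [smul_eq_mul, mul_comm, mul_smul]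
      exact hx _
  have hhaus : IsHausdorff mh (AdicCompletion n S) := by
    refine ⟨fun x hx => ?_⟩
    apply AdicCompletion.ext_evalₐ
    intro j
    rw [map_zero]
    have hxj := hx j
    rw [SModEq.zero] at hxj
    refine Submodule.smul_induction_on hxj ?_ ?_
    · intro a ha z _
      exact key2 j a ha z
    · intro x y hx hy
      rw [map_add, hx, hy, add_zero]
  refine finite_of_isHausdorff_of_finite_quotient mh
    (fun i => algebraMap S (AdicCompletion n S) (s i)) (fun y => ?_)
  obtain ⟨t, ht⟩ := Ideal.Quotient.mk_surjective (AdicCompletion.evalₐ n k y)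
  obtain ⟨a, ha⟩ := hs t
  refine ⟨fun i => algebraMap R (AdicCompletion m R) (a i), ?_⟩
  set w := t - ∑ i, algebraMap R S (a i) * s i with hw
  have hsum : ∑ i, algebraMap R (AdicCompletion m R) (a i) •
      algebraMap S (AdicCompletion n S) (s i) = algebraMap S (AdicCompletion n S) (t - w) := by
    rw [hw, sub_sub_cancel, map_sum]
    refine Finset.sum_congr rfl fun i _ => ?_
    rw [hsmul, complMap_algebraMap', map_mul]
  rw [hsum]
  have hdecomp : y - algebraMap S (AdicCompletion n S) (t - w) =
      (y - algebraMap S (AdicCompletion n S) t) + algebraMap S (AdicCompletion n S) w := by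
    rw [map_sub]; ring
  rw [hdecomp]
  refine Submodule.add_mem _ ?_ ?_
  · -- y - ι t ∈ ker eval_k = n^k • ⊤
    have h0 : AdicCompletion.evalₐ n k (y - algebraMap S (AdicCompletion n S) t) = 0 := by
      rw [map_sub, AlgHom.commutes, ← ht]
      exact sub_self _
    have h1 : y - algebraMap S (AdicCompletion n S) t ∈
        (n ^ k • ⊤ : Submodule S (AdicCompletion n S)) := by
      rw [AdicCompletion.pow_smul_top_eq_ker_eval hn, LinearMap.mem_ker]
      have h2 : (n ^ k • ⊤ : Ideal S) = n ^ k := by ext x; simp
      exact (Ideal.quotientEquivAlgOfEq S h2).injective (by rw [map_zero]; exact h0)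
    refine Submodule.smul_induction_on h1 ?_ ?_
    · intro b hb z _
      rw [Algebra.smul_def]
      exact key b (hk hb) z
    · intro x y hx hy
      exact Submodule.add_mem _ hx hy
  · have := key w ha 1
    rwa [mul_one] at this

end Fin

end Groth.Agent.R2.H41.ComplFin
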