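import Mathlib

/-!
# helper41: lifting through a morphism up to homotopy, from a null-homotopy into the mapping cone
-/

set_option autoImplicit false
universe v u v' u'
open CategoryTheory CategoryTheory.Limits

namespace Groth.Agent.R2.H41.ConeLift

variable {A : Type u} [Category.{v} A] [Preadditive A] [HasZeroObject A] [HasBinaryBiproducts A]

/-- If `α ≫ inr f` is null-homotopic, then `α` lifts through `f` up to homotopy. -/
theorem exists_lift_of_nullHomotopy {E F G : CochainComplex A ℤ} (α : E ⟶ F) (f : G ⟶ F)
    (H : Homotopy (α ≫ CochainComplex.mappingCone.inr f) 0) :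
    ∃ β : E ⟶ G, Nonempty (Homotopy (β ≫ f) α) := by
  have hT := HomotopyCategory.mappingCone_triangleh_distinguished f
  have h0 : (HomotopyCategory.quotient A (ComplexShape.up ℤ)).map α ≫
      (CochainComplex.mappingCone.triangleh f).mor₂ = 0 := by
    have := HomotopyCategory.eq_of_homotopy _ _ H
    rw [Functor.map_comp, Functor.map_zero] at this
    exact this
  obtain ⟨g, hg⟩ := Pretriangulated.Triangle.coyoneda_exact₂ _ hT
    ((HomotopyCategory.quotient A (ComplexShape.up ℤ)).map α) h0
  obtain ⟨β, rfl⟩ : ∃ β : E ⟶ G, (HomotopyCategory.quotient A (ComplexShape.up ℤ)).map β = g :=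
    (HomotopyCategory.quotient A (ComplexShape.up ℤ)).map_surjective g
  refine ⟨β, ⟨HomotopyCategory.homotopyOfEq _ _ ?_⟩⟩
  exact ((HomotopyCategory.quotient A (ComplexShape.up ℤ)).map_comp β f).trans hg.symm

/-- Version after applying an additive functor `Φ`: if `Φ(α ≫ inr f)` is null-homotopic, then
`Φ α` lifts through `Φ f` up to homotopy. -/
theorem exists_lift_of_nullHomotopy_map {B : Type u'} [Category.{v'} B] [Preadditive B]
    [HasZeroObject B] [HasBinaryBiproducts B] (Φ : A ⥤ B) [Φ.Additive]
    {E F G : CochainComplex A ℤ} (α : E ⟶ F) (f : G ⟶ F)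
    (H : Homotopy ((Φ.mapHomologicalComplex (ComplexShape.up ℤ)).map
      (α ≫ CochainComplex.mappingCone.inr f)) 0) :
    ∃ β : (Φ.mapHomologicalComplex (ComplexShape.up ℤ)).obj E ⟶
        (Φ.mapHomologicalComplex (ComplexShape.up ℤ)).obj G,
      Nonempty (Homotopy (β ≫ (Φ.mapHomologicalComplex (ComplexShape.up ℤ)).map f)
        ((Φ.mapHomologicalComplex (ComplexShape.up ℤ)).map α)) := by
  apply exists_lift_of_nullHomotopy
  have h1 : (Φ.mapHomologicalComplex (ComplexShape.up ℤ)).map α ≫
      CochainComplex.mappingCone.inr ((Φ.mapHomologicalComplex (ComplexShape.up ℤ)).map f) =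
      (Φ.mapHomologicalComplex (ComplexShape.up ℤ)).map (α ≫ CochainComplex.mappingCone.inr f) ≫
        (CochainComplex.mappingCone.mapHomologicalComplexIso f Φ).hom := by
    rw [Functor.map_comp, Category.assoc, CochainComplex.mappingCone.map_inr]
  rw [h1]
  exact (H.compRight _).trans (Homotopy.ofEq (by simp))

end Groth.Agent.R2.H41.ConeLift
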