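import Mathlib

/-!
# helper41: sections of constant sheaves of modules

`G J Λ U : ModuleCat Λ ⥤ ModuleCat Λ`, `M ↦ M̲(U)`, is exact (`preservesFiniteLimits`,
`preservesFiniteColimits`) and `Λ`-linear; the comparison `M̲(U) ⊗ Q → (M ⊗ Q)̲(U)` is an
isomorphism for `Q` finitely presented.
-/

set_option autoImplicit false
set_option linter.style.haveILetI false
set_option linter.unusedSectionVars false
universe u
open CategoryTheory CategoryTheory.Limits Opposite TensorProduct

namespace Groth.Agent.R2.H41.ConstSec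

variable {C : Type u} [SmallCategory C] (J : GrothendieckTopology C) (Λ : Type u) [CommRing Λ]
  (U : C)

/-- sections over `U` of the constant sheaf -/
noncomputable abbrev G : ModuleCat.{u} Λ ⥤ ModuleCat.{u} Λ :=
  constantSheaf J (ModuleCat.{u} Λ) ⋙ (sheafSections J (ModuleCat.{u} Λ)).obj (op U)

instance : PreservesFiniteLimits (constantSheaf J (ModuleCat.{u} Λ)) :=
  inferInstanceAs (PreservesFiniteLimits (Functor.const Cᵒᵖ ⋙ presheafToSheaf J (ModuleCat.{u} Λ)))

instance : PreservesFiniteLimits ((sheafSections J (ModuleCat.{u} Λ)).obj (op U)) :=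
  inferInstanceAs (PreservesFiniteLimits
    (sheafToPresheaf J (ModuleCat.{u} Λ) ⋙ (evaluation _ _).obj (op U)))

instance : PreservesFiniteLimits (G J Λ U) := comp_preservesFiniteLimits _ _

instance : (G J Λ U).Additive := Functor.additive_of_preserves_binary_products _


/-- the map of sheaves of sets induced by a map of sets -/
noncomputable def setMap {B' C' : ModuleCat.{u} Λ} (σ : C' → B') :
    (sheafCompose J (forget (ModuleCat.{u} Λ))).obj ((constantSheaf J (ModuleCat.{u} Λ)).obj C') ⟶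
      (sheafCompose J (forget (ModuleCat.{u} Λ))).obj ((constantSheaf J (ModuleCat.{u} Λ)).obj B') :=
  (constantCommuteCompose J (forget (ModuleCat.{u} Λ))).hom.app C' ≫
    (constantSheaf J (Type u)).map (TypeCat.ofHom σ) ≫
      (constantCommuteCompose J (forget (ModuleCat.{u} Λ))).inv.app B'

lemma setMap_comp {B' C' : ModuleCat.{u} Λ} (g : B' ⟶ C') (σ : C' → B') (hσ : ∀ c, g.hom (σ c) = c) :
    setMap J Λ σ ≫ (sheafCompose J (forget (ModuleCat.{u} Λ))).map
      ((constantSheaf J (ModuleCat.{u} Λ)).map g) = 𝟙 _ := by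
  have hnat := (constantCommuteCompose J (forget (ModuleCat.{u} Λ))).inv.naturality g
  change (constantSheaf J (Type u)).map ((forget (ModuleCat.{u} Λ)).map g) ≫ _ =
    _ ≫ (sheafCompose J (forget (ModuleCat.{u} Λ))).map
      ((constantSheaf J (ModuleCat.{u} Λ)).map g) at hnat
  rw [setMap, Category.assoc, Category.assoc, ← hnat,
    ← Category.assoc ((constantSheaf J (Type u)).map _), ← Functor.map_comp]
  have h1 : TypeCat.ofHom σ ≫ (forget (ModuleCat.{u} Λ)).map g = 𝟙 _ := by
    ext c
    exact hσ c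
  rw [h1]
  have h2 : (constantSheaf J (Type u)).map (𝟙 ((forget (ModuleCat.{u} Λ)).obj C')) = 𝟙 _ :=
    CategoryTheory.Functor.map_id _ _
  erw [h2, Category.id_comp]
  exact (constantCommuteCompose J (forget (ModuleCat.{u} Λ))).hom_inv_id_app C'

/-- sections of constant sheaves are surjective along surjections -/
lemma surjective_sections {B' C' : ModuleCat.{u} Λ} (g : B' ⟶ C')
    (hg : Function.Surjective g.hom) :
    Function.Surjective (((constantSheaf J (ModuleCat.{u} Λ)).map g).hom.app (op U)).hom := by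
  intro t
  have hσ : ∀ c, g.hom (Function.surjInv hg c) = c := Function.surjInv_eq hg
  refine ⟨(setMap J Λ (Function.surjInv hg)).hom.app (op U) t, ?_⟩
  have := congrArg (fun m => m.hom.app (op U) t) (setMap_comp J Λ g _ hσ)
  exact this


instance : PreservesFiniteColimits (G J Λ U) := by
  rw [Functor.preservesFiniteColimits_iff_forall_exact_map_and_epi]
  intro S hS
  haveI := hS.mono_f
  haveI := hS.epi_g
  have hepi : Epi ((G J Λ U).map S.g) := by
    rw [ModuleCat.epi_iff_surjective]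
    exact surjective_sections J Λ U S.g ((ModuleCat.epi_iff_surjective _).1 hS.epi_g)
  exact ⟨hS.exact.map_of_mono_of_preservesKernel _ hS.mono_f inferInstance, hepi⟩

section Part3

variable {C : Type u} [SmallCategory C] (J : GrothendieckTopology C) (Λ : Type u) [CommRing Λ]
  (U : C)

lemma sheafifyMap_smul_id (P : Cᵒᵖ ⥤ ModuleCat.{u} Λ) (l : Λ) :
    sheafifyMap J (l • 𝟙 P) = l • 𝟙 (sheafify J P) := by
  apply sheafify_hom_ext J _ _ ((presheafToSheaf J (ModuleCat.{u} Λ)).obj P).property
  rw [← toSheafify_naturality, Linear.smul_comp, Category.id_comp, Linear.comp_smul,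
    Category.comp_id]

lemma constantSheaf_map_smul_id (N : ModuleCat.{u} Λ) (l : Λ) :
    ((constantSheaf J (ModuleCat.{u} Λ)).map (l • 𝟙 N)).hom =
      l • 𝟙 ((constantSheaf J (ModuleCat.{u} Λ)).obj N).obj := by
  have h1 : (Functor.const Cᵒᵖ).map (l • 𝟙 N) = l • 𝟙 ((Functor.const Cᵒᵖ).obj N) := by
    ext V
    rfl
  change sheafifyMap J ((Functor.const Cᵒᵖ).map (l • 𝟙 N)) = _
  rw [h1]
  exact sheafifyMap_smul_id J Λ _ l

lemma G_map_smul_id_apply (N : ModuleCat.{u} Λ) (l : Λ) (t : (G J Λ U).obj N) :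
    ((G J Λ U).map (l • 𝟙 N)).hom t = l • t := by
  change (((constantSheaf J (ModuleCat.{u} Λ)).map (l • 𝟙 N)).hom.app (op U)).hom t = _
  rw [constantSheaf_map_smul_id]
  rfl

lemma G_map_smul {M N : ModuleCat.{u} Λ} (l : Λ) (f : M ⟶ N) :
    (G J Λ U).map (l • f) = l • (G J Λ U).map f := by
  have h : l • f = f ≫ (l • 𝟙 N) := by rw [Linear.comp_smul, Category.comp_id]
  rw [h, Functor.map_comp]
  ext s
  rw [ModuleCat.comp_apply, G_map_smul_id_apply]
  rfl

end Part3

section Part4

variable {C : Type u} [SmallCategory C] (J : GrothendieckTopology C) (Λ : Type u) [CommRing Λ]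
  (U : C)

section Comp

variable (M : Type u) [AddCommGroup M] [Module Λ M]

/-- the map `m ↦ m ⊗ q` -/
noncomputable def tmulRight {Q : Type u} [AddCommGroup Q] [Module Λ Q] (q : Q) :
    ModuleCat.of Λ M ⟶ ModuleCat.of Λ (M ⊗[Λ] Q) :=
  ModuleCat.ofHom ((TensorProduct.mk Λ M Q).flip q)

/-- the map `M ⊗ u` -/
noncomputable def tmap {Q Q' : Type u} [AddCommGroup Q] [Module Λ Q] [AddCommGroup Q'] [Module Λ Q']
    (u : Q →ₗ[Λ] Q') : ModuleCat.of Λ (M ⊗[Λ] Q) ⟶ ModuleCat.of Λ (M ⊗[Λ] Q') :=
  ModuleCat.ofHom (LinearMap.lTensor M u)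

variable {Q Q' : Type u} [AddCommGroup Q] [Module Λ Q] [AddCommGroup Q'] [Module Λ Q']

lemma tmulRight_add (q q' : Q) : tmulRight Λ M (q + q') = tmulRight Λ M q + tmulRight Λ M q' := by
  unfold tmulRight
  rw [map_add]
  rfl

lemma tmulRight_smul (l : Λ) (q : Q) : tmulRight Λ M (l • q) = l • tmulRight Λ M q := by
  unfold tmulRight
  rw [map_smul]
  rfl

lemma tmulRight_tmap (u : Q →ₗ[Λ] Q') (q : Q) :
    tmulRight Λ M q ≫ tmap Λ M u = tmulRight Λ M (u q) := by
  ext m
  simp [tmulRight, tmap]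

/-- auxiliary bilinear map -/
noncomputable def compAux (Q : Type u) [AddCommGroup Q] [Module Λ Q] :
    Q →ₗ[Λ] ((G J Λ U).obj (ModuleCat.of Λ M) →ₗ[Λ] (G J Λ U).obj (ModuleCat.of Λ (M ⊗[Λ] Q))) where
  toFun q := ((G J Λ U).map (tmulRight Λ M q)).hom
  map_add' q q' := by
    rw [tmulRight_add, Functor.map_add]
    rfl
  map_smul' l q := by
    rw [tmulRight_smul, G_map_smul]
    rfl

/-- the comparison map `M̲(U) ⊗ Q → (M ⊗ Q)̲(U)` -/
noncomputable def comp (Q : Type u) [AddCommGroup Q] [Module Λ Q] :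
    ((G J Λ U).obj (ModuleCat.of Λ M)) ⊗[Λ] Q →ₗ[Λ]
      (G J Λ U).obj (ModuleCat.of Λ (M ⊗[Λ] Q)) :=
  TensorProduct.lift (compAux J Λ U M Q).flip

lemma comp_tmul (s : (G J Λ U).obj (ModuleCat.of Λ M)) (q : Q) :
    comp J Λ U M Q (s ⊗ₜ q) = ((G J Λ U).map (tmulRight Λ M q)).hom s := rfl

lemma comp_natural (u : Q →ₗ[Λ] Q') :
    (comp J Λ U M Q').comp (LinearMap.lTensor _ u) =
      ((G J Λ U).map (tmap Λ M u)).hom.comp (comp J Λ U M Q) := by
  apply TensorProduct.ext'
  intro s q
  rw [LinearMap.comp_apply, LinearMap.comp_apply, LinearMap.lTensor_tmul, comp_tmul, comp_tmul,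
    ← tmulRight_tmap, Functor.map_comp]
  rfl

end Comp

end Part4

section Part5

variable {C : Type u} [SmallCategory C] (J : GrothendieckTopology C) (Λ : Type u) [CommRing Λ]
  (U : C)

section Bij

variable (M : Type u) [AddCommGroup M] [Module Λ M]

lemma comp_bijective_self : Function.Bijective (comp J Λ U M Λ) := by
  let e : ModuleCat.of Λ M ≅ ModuleCat.of Λ (M ⊗[Λ] Λ) := (TensorProduct.rid Λ M).symm.toModuleIso
  have he : e.hom = tmulRight Λ M (1 : Λ) := by
    ext m
    rfl
  have hiso : IsIso ((G J Λ U).map (tmulRight Λ M (1 : Λ))) := by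
    rw [← he]
    infer_instance
  have hb : Function.Bijective ((G J Λ U).map (tmulRight Λ M (1 : Λ))).hom :=
    ConcreteCategory.bijective_of_isIso _
  have hc : comp J Λ U M Λ = ((G J Λ U).map (tmulRight Λ M (1 : Λ))).hom.comp
      (TensorProduct.rid Λ ((G J Λ U).obj (ModuleCat.of Λ M))).toLinearMap := by
    apply TensorProduct.ext'
    intro s l
    rw [comp_tmul, LinearMap.comp_apply]
    have : tmulRight Λ M l = l • tmulRight Λ M (1 : Λ) := by
      rw [← tmulRight_smul, smul_eq_mul, mul_one]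
    rw [this, G_map_smul]
    simp
  rw [hc]
  exact hb.comp (LinearEquiv.bijective _)

variable {ι : Type} [Fintype ι] (Q : Type u) [AddCommGroup Q] [Module Λ Q]
  (Qi : ι → Type u) [∀ i, AddCommGroup (Qi i)] [∀ i, Module Λ (Qi i)]

lemma lTensor_finset_sum (N : Type u) [AddCommGroup N] [Module Λ N]
    {Q Q' : Type u} [AddCommGroup Q] [Module Λ Q] [AddCommGroup Q'] [Module Λ Q']
    (s : Finset ι) (u : ι → (Q →ₗ[Λ] Q')) :
    LinearMap.lTensor N (∑ i ∈ s, u i) = ∑ i ∈ s, LinearMap.lTensor N (u i) :=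
  map_sum (LinearMap.lTensorHom N) u s

lemma tmap_sum {Q Q' : Type u} [AddCommGroup Q] [Module Λ Q] [AddCommGroup Q'] [Module Λ Q']
    (s : Finset ι) (u : ι → (Q →ₗ[Λ] Q')) :
    tmap Λ M (∑ i ∈ s, u i) = ∑ i ∈ s, tmap Λ M (u i) := by
  classical
  induction s using Finset.induction_on with
  | empty =>
    simp only [Finset.sum_empty]
    unfold tmap
    rw [LinearMap.lTensor_zero]
    rfl
  | insert a s ha ih =>
    rw [Finset.sum_insert ha, Finset.sum_insert ha, ← ih]
    unfold tmap
    rw [LinearMap.lTensor_add]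
    rfl

lemma tmap_id {Q : Type u} [AddCommGroup Q] [Module Λ Q] :
    tmap Λ M (LinearMap.id : Q →ₗ[Λ] Q) = 𝟙 _ := by
  unfold tmap
  rw [LinearMap.lTensor_id]
  rfl

lemma tmap_comp {Q Q' Q'' : Type u} [AddCommGroup Q] [Module Λ Q] [AddCommGroup Q'] [Module Λ Q']
    [AddCommGroup Q''] [Module Λ Q''] (u : Q →ₗ[Λ] Q') (v : Q' →ₗ[Λ] Q'') :
    tmap Λ M (v.comp u) = tmap Λ M u ≫ tmap Λ M v := by
  unfold tmap
  rw [LinearMap.lTensor_comp]
  rfl

lemma comp_bijective_of_decomp (inc : ∀ i, Qi i →ₗ[Λ] Q) (pr : ∀ i, Q →ₗ[Λ] Qi i)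
    (h1 : ∑ i, (inc i).comp (pr i) = LinearMap.id)
    (hb : ∀ i, Function.Bijective (comp J Λ U M (Qi i))) :
    Function.Bijective (comp J Λ U M Q) := by
  constructor
  · rw [injective_iff_map_eq_zero]
    intro x hx
    have h2 : ∀ i, LinearMap.lTensor ((G J Λ U).obj (ModuleCat.of Λ M)) (pr i) x = 0 := by
      intro i
      apply (hb i).1
      have := LinearMap.congr_fun (comp_natural J Λ U M (pr i)) x
      rw [LinearMap.comp_apply, LinearMap.comp_apply, hx, map_zero] at this
      rw [this, map_zero]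
    have h3 : x = ∑ i, LinearMap.lTensor ((G J Λ U).obj (ModuleCat.of Λ M)) (inc i)
        (LinearMap.lTensor ((G J Λ U).obj (ModuleCat.of Λ M)) (pr i) x) := by
      have : (LinearMap.lTensor ((G J Λ U).obj (ModuleCat.of Λ M))
          (∑ i, (inc i).comp (pr i))) x = x := by
        rw [h1, LinearMap.lTensor_id]
        rfl
      conv_lhs => rw [← this]
      rw [lTensor_finset_sum, LinearMap.sum_apply]
      refine Finset.sum_congr rfl fun i _ => ?_
      rw [LinearMap.lTensor_comp]
      rfl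
    rw [h3]
    refine Finset.sum_eq_zero fun i _ => ?_
    rw [h2 i, map_zero]
  · intro y
    have hy : y = ∑ i, ((G J Λ U).map (tmap Λ M (inc i))).hom
        (((G J Λ U).map (tmap Λ M (pr i))).hom y) := by
      have : ((G J Λ U).map (tmap Λ M (∑ i, (inc i).comp (pr i)))).hom y = y := by
        rw [h1, tmap_id, CategoryTheory.Functor.map_id]
        rfl
      conv_lhs => rw [← this]
      rw [tmap_sum, Functor.map_sum, ModuleCat.hom_sum, LinearMap.sum_apply]
      refine Finset.sum_congr rfl fun i _ => ?_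
      rw [tmap_comp, Functor.map_comp]
      rfl
    choose x hx using fun i => (hb i).2 (((G J Λ U).map (tmap Λ M (pr i))).hom y)
    refine ⟨∑ i, LinearMap.lTensor ((G J Λ U).obj (ModuleCat.of Λ M)) (inc i) (x i), ?_⟩
    rw [map_sum, hy]
    refine Finset.sum_congr rfl fun i _ => ?_
    have := LinearMap.congr_fun (comp_natural J Λ U M (inc i)) (x i)
    rw [LinearMap.comp_apply, LinearMap.comp_apply] at this
    rw [this, hx i]

end Bij

end Part5

section Part6

variable {C : Type u} [SmallCategory C] (J : GrothendieckTopology C) (Λ : Type u) [CommRing Λ]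
  (U : C)

section Bij2

variable (M : Type u) [AddCommGroup M] [Module Λ M]

lemma comp_bijective_free (n : ℕ) : Function.Bijective (comp J Λ U M (Fin n → Λ)) := by
  classical
  refine comp_bijective_of_decomp J Λ U M (ι := Fin n) (Fin n → Λ) (fun _ => Λ)
    (fun i => LinearMap.single Λ (fun _ => Λ) i) (fun i => LinearMap.proj i) ?_
    (fun _ => comp_bijective_self J Λ U M)
  ext j k
  simp [Finset.sum_apply, Pi.single_apply]

lemma G_exact {A B D : Type u} [AddCommGroup A] [Module Λ A] [AddCommGroup B] [Module Λ B]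
    [AddCommGroup D] [Module Λ D] (f : A →ₗ[Λ] B) (g : B →ₗ[Λ] D) (h : Function.Exact f g) :
    Function.Exact ((G J Λ U).map (ModuleCat.ofHom f)).hom ((G J Λ U).map (ModuleCat.ofHom g)).hom := by
  let S : ShortComplex (ModuleCat.{u} Λ) := ShortComplex.mk (ModuleCat.ofHom f) (ModuleCat.ofHom g)
    (by ext x; exact h.apply_apply_eq_zero x)
  have hS : S.Exact := (ShortComplex.ShortExact.moduleCat_exact_iff_function_exact S).mpr h
  have h31 := (Functor.exact_tfae (G J Λ U)).out 3 1
  have hS' : (S.map (G J Λ U)).Exact := h31.mp ⟨inferInstance, inferInstance⟩ S hS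
  exact (ShortComplex.ShortExact.moduleCat_exact_iff_function_exact _).mp hS'

theorem comp_bijective (Q : Type u) [AddCommGroup Q] [Module Λ Q] [Module.FinitePresentation Λ Q] :
    Function.Bijective (comp J Λ U M Q) := by
  obtain ⟨n, K, e, hK⟩ := Module.FinitePresentation.exists_fin Λ Q
  haveI : Module.Finite Λ K := Module.Finite.iff_fg.mpr hK
  obtain ⟨m, f, hf⟩ := Module.Finite.exists_fin' Λ K
  let u : (Fin m → Λ) →ₗ[Λ] (Fin n → Λ) := K.subtype.comp f
  let v : (Fin n → Λ) →ₗ[Λ] Q := e.symm.toLinearMap.comp K.mkQ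
  have hv : Function.Surjective v := e.symm.surjective.comp (Submodule.mkQ_surjective K)
  have huv : Function.Exact u v := by
    intro y
    constructor
    · intro hy
      have : K.mkQ y = 0 := by
        have := congrArg e hy
        simpa [v] using this
      rw [Submodule.mkQ_apply, Submodule.Quotient.mk_eq_zero] at this
      obtain ⟨x, hx⟩ := hf ⟨y, this⟩
      exact ⟨x, by simp [u, hx]⟩
    · rintro ⟨x, rfl⟩
      simp [u, v]
  have hnat₁ := comp_natural J Λ U M u
  have hnat₂ := comp_natural J Λ U M v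
  refine LinearMap.bijective_of_surjective_of_bijective_of_right_exact
    (LinearMap.lTensor _ u) (LinearMap.lTensor _ v)
    ((G J Λ U).map (tmap Λ M u)).hom ((G J Λ U).map (tmap Λ M v)).hom
    (comp J Λ U M (Fin m → Λ)) (comp J Λ U M (Fin n → Λ)) (comp J Λ U M Q)
    hnat₁.symm hnat₂.symm (lTensor_exact _ huv hv)
    (G_exact J Λ U _ _ (lTensor_exact M huv hv))
    (comp_bijective_free J Λ U M m).2 (comp_bijective_free J Λ U M n)
    (LinearMap.lTensor_surjective _ hv) ?_
  exact surjective_sections J Λ U (tmap Λ M v) (LinearMap.lTensor_surjective M hv)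

end Bij2

end Part6

end Groth.Agent.R2.H41.ConstSec
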