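import Groth.Prelude.Def_W4stkflatp2Cpct
import Mathlib

/-!
# helper41: the category of compactifications — right calculus of fractions for `Cpct.isoOpen`
-/

set_option autoImplicit false
universe u

open CategoryTheory CategoryTheory.Limits AlgebraicGeometry

namespace Groth.Agent.R2.H41.Cpct

open _root_.Cpct

variable {S : Scheme.{u}}

theorem restr_comp_ι {A B : Pair S} (f : A ⟶ B) :
    restr f ≫ B.U.ι = A.U.ι ≫ f.bar.left := by
  exact Scheme.Hom.resLE_comp_ι _ _

theorem restr_id (A : Pair S) : restr (𝟙 A) = 𝟙 _ := by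
  exact congrArg (fun g => g.left) (openOver.map_id A)

theorem restr_comp {A B C : Pair S} (f : A ⟶ B) (g : B ⟶ C) :
    restr (f ≫ g) = restr f ≫ restr g := by
  exact congrArg (fun g => g.left) (openOver.map_comp f g)

instance isoOpen_isMultiplicative : (isoOpen S).IsMultiplicative where
  id_mem A := by
    show IsIso (restr (𝟙 A))
    rw [restr_id]; infer_instance
  comp_mem f g hf hg := by
    show IsIso (restr (f ≫ g))
    rw [restr_comp]
    have : IsIso (restr f) := hf
    have : IsIso (restr g) := hg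
    infer_instance

/-- A restriction `W ⟶ U` of `p : T ⟶ Ā` is an isomorphism as soon as there is a section `σ : U ⟶ T`
through `W` with `W.ι = r ≫ σ`. -/
theorem isIso_resLE_of_section {T A : Scheme.{u}} (p : T ⟶ A) (U : A.Opens) (W : T.Opens)
    (hW : W ≤ p ⁻¹ᵁ U) (σ : (U : Scheme.{u}) ⟶ T) (hσ : σ ≫ p = U.ι)
    (hσW : ∀ x, σ.base x ∈ W) (h : W.ι = p.resLE U W hW ≫ σ) : IsIso (p.resLE U W hW) := by
  have hr : Set.range σ.base ⊆ Set.range W.ι.base := by
    rintro _ ⟨x, rfl⟩
    simpa using hσW x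
  refine ⟨IsOpenImmersion.lift W.ι σ hr, ?_, ?_⟩
  · rw [← cancel_mono W.ι, Category.assoc, IsOpenImmersion.lift_fac, Category.id_comp, ← h]
  · rw [← cancel_mono U.ι, Category.assoc, Scheme.Hom.resLE_comp_ι, IsOpenImmersion.lift_fac_assoc,
      hσ, Category.id_comp]

/-- A new pair over an old one. -/
noncomputable def mkPair (A : Pair S) (T : Over S) (p : T ⟶ A.bar) [IsProper p.left]
    (W : T.left.Opens) (hc : IsCompact (W : Set T.left)) : Pair S where
  bar := T
  U := W
  isProper := by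
    rw [← Over.w p]
    have := A.isProper
    infer_instance
  isCompact := hc

noncomputable def mkHom (A : Pair S) (T : Over S) (p : T ⟶ A.bar) [IsProper p.left]
    (W : T.left.Opens) (hc : IsCompact (W : Set T.left)) (hW : W ≤ p.left ⁻¹ᵁ A.U) :
    mkPair A T p W hc ⟶ A :=
  ⟨p, fun _ hx => hW hx⟩

theorem restr_mkHom (A : Pair S) (T : Over S) (p : T ⟶ A.bar) [IsProper p.left]
    (W : T.left.Opens) (hc : IsCompact (W : Set T.left)) (hW : W ≤ p.left ⁻¹ᵁ A.U) :
    restr (mkHom A T p W hc hW) = p.left.resLE A.U W hW := rfl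

theorem isProper_left_of_pair {A B : Pair S} (f : A ⟶ B) : IsProper f.bar.left := by
  have := B.isProper
  have : IsProper (f.bar.left ≫ B.bar.hom) := by
    rw [Over.w]; exact A.isProper
  exact IsProper.of_comp f.bar.left B.bar.hom

theorem restr_eq_of_comp_eq {X Y Z : Pair S} (f₁ f₂ : X ⟶ Y) (s : Y ⟶ Z) (hs : IsIso (restr s))
    (h : f₁ ≫ s = f₂ ≫ s) : restr f₁ = restr f₂ := by
  rw [← cancel_mono (restr s), ← restr_comp, ← restr_comp, h]

/-- Two morphisms of compactifications with the same open part are equalized by a morphism of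
`isoOpen`. -/
theorem exists_equalizing_of_restr_eq {X Y : Pair S} (f₁ f₂ : X ⟶ Y)
    (hr : restr f₁ = restr f₂) :
    ∃ (X' : Pair S) (s' : X' ⟶ X) (_ : isoOpen S s'), s' ≫ f₁ = s' ≫ f₂ := by
  have := Y.isProper
  let T : Over S := equalizer f₁.bar f₂.bar
  let p : T ⟶ X.bar := equalizer.ι f₁.bar f₂.bar
  have hci : IsClosedImmersion p.left := isClosedImmersion_equalizer_ι_left f₁.bar f₂.bar
  have hpp : IsProper p.left := inferInstance
  let W : T.left.Opens := p.left ⁻¹ᵁ X.U
  have hc : IsCompact (W : Set T.left) := p.left.isCompact_preimage X.isCompact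
  -- the section
  let j : openOver.obj X ⟶ X.bar := Over.homMk X.U.ι rfl
  have hj : j ≫ f₁.bar = j ≫ f₂.bar := by
    ext1
    show X.U.ι ≫ f₁.bar.left = X.U.ι ≫ f₂.bar.left
    rw [← restr_comp_ι, ← restr_comp_ι, hr]
  let σ' : openOver.obj X ⟶ T := equalizer.lift j hj
  have hσ' : σ' ≫ p = j := equalizer.lift_ι j hj
  let σ : (X.U : Scheme.{u}) ⟶ T.left := σ'.left
  have hσ : σ ≫ p.left = X.U.ι := congrArg (fun g => g.left) hσ'
  refine ⟨mkPair X T p W hc, mkHom X T p W hc le_rfl, ?_, ?_⟩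
  · show IsIso (restr (mkHom X T p W hc le_rfl))
    rw [restr_mkHom]
    refine isIso_resLE_of_section p.left X.U W le_rfl σ hσ ?_ ?_
    · intro x
      show p.left.base (σ.base x) ∈ X.U
      rw [← Scheme.Hom.comp_apply, hσ]
      exact x.2
    · rw [← cancel_mono p.left, Category.assoc, hσ, Scheme.Hom.resLE_comp_ι]
  · apply Pair.Hom.ext
    exact equalizer.condition f₁.bar f₂.bar

/-- The `ext` axiom of the right calculus of fractions. -/
theorem exists_equalizing [QuasiSeparatedSpace S] {X Y Z : Pair S} (f₁ f₂ : X ⟶ Y) (s : Y ⟶ Z)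
    (hs : isoOpen S s) (h : f₁ ≫ s = f₂ ≫ s) :
    ∃ (X' : Pair S) (s' : X' ⟶ X) (_ : isoOpen S s'), s' ≫ f₁ = s' ≫ f₂ :=
  exists_equalizing_of_restr_eq f₁ f₂ (restr_eq_of_comp_eq f₁ f₂ s hs h)

/-- The right Ore condition. -/
theorem exists_rightFraction [QuasiSeparatedSpace S] {X Y Y' : Pair S} (f : X ⟶ Y') (s : Y ⟶ Y')
    (hs : isoOpen S s) :
    ∃ (X' : Pair S) (s' : X' ⟶ X) (_ : isoOpen S s') (f' : X' ⟶ Y), s' ≫ f = f' ≫ s := by
  have hs' : IsIso (restr s) := hs
  have := X.isProper
  have := Y.isProper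
  have := Y'.isProper
  have hfp : IsProper f.bar.left := isProper_left_of_pair f
  have hsp : IsProper s.bar.left := isProper_left_of_pair s
  let T : Over S := pullback f.bar s.bar
  let p : T ⟶ X.bar := pullback.fst f.bar s.bar
  let q : T ⟶ Y.bar := pullback.snd f.bar s.bar
  have sq : IsPullback p.left q.left f.bar.left s.bar.left :=
    (IsPullback.of_hasPullback f.bar s.bar).map (Over.forget S)
  have hpp : IsProper p.left := MorphismProperty.of_isPullback sq.flip hsp
  have hqp : IsProper q.left := MorphismProperty.of_isPullback sq hfp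
  have hTp : IsProper T.hom := by
    rw [← Over.w p]; infer_instance
  have : QuasiSeparatedSpace T.left := quasiSeparatedSpace_of_quasiSeparated T.hom
  let W : T.left.Opens := p.left ⁻¹ᵁ X.U ⊓ q.left ⁻¹ᵁ Y.U
  have hc : IsCompact (W : Set T.left) :=
    QuasiSeparatedSpace.inter_isCompact _ _ (p.left ⁻¹ᵁ X.U).2 (p.left.isCompact_preimage X.isCompact)
      (q.left ⁻¹ᵁ Y.U).2 (q.left.isCompact_preimage Y.isCompact)
  have hW : W ≤ p.left ⁻¹ᵁ X.U := inf_le_left
  have hW' : W ≤ q.left ⁻¹ᵁ Y.U := inf_le_right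
  -- the section
  let b : (X.U : Scheme.{u}) ⟶ Y.bar.left := restr f ≫ inv (restr s) ≫ Y.U.ι
  have hb : X.U.ι ≫ f.bar.left = b ≫ s.bar.left := by
    simp only [b, Category.assoc]
    rw [← restr_comp_ι s, IsIso.inv_hom_id_assoc, restr_comp_ι]
  let σ : (X.U : Scheme.{u}) ⟶ T.left := sq.lift X.U.ι b hb
  have hσ : σ ≫ p.left = X.U.ι := sq.lift_fst _ _ _
  have hσq : σ ≫ q.left = b := sq.lift_snd _ _ _
  refine ⟨mkPair X T p W hc, mkHom X T p W hc hW, ?_, ⟨q, fun x hx => hW' hx⟩, ?_⟩
  · show IsIso (restr (mkHom X T p W hc hW))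
    rw [restr_mkHom]
    refine isIso_resLE_of_section p.left X.U W hW σ hσ ?_ ?_
    · intro x
      refine ⟨?_, ?_⟩
      · show p.left.base (σ.base x) ∈ X.U
        rw [← Scheme.Hom.comp_apply, hσ]
        exact x.2
      · show q.left.base (σ.base x) ∈ Y.U
        rw [← Scheme.Hom.comp_apply, hσq]
        simp only [b, Scheme.Hom.comp_apply]
        exact Subtype.property _
    · apply sq.hom_ext
      · rw [Category.assoc, hσ, Scheme.Hom.resLE_comp_ι]
      · rw [Category.assoc, hσq]
        have key : q.left.resLE Y.U W hW' = p.left.resLE X.U W hW ≫ restr f ≫ inv (restr s) := by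
          rw [← Category.assoc, IsIso.eq_comp_inv, ← cancel_mono Y'.U.ι]
          simp only [Category.assoc]
          rw [restr_comp_ι, restr_comp_ι, Scheme.Hom.resLE_comp_ι_assoc,
            Scheme.Hom.resLE_comp_ι_assoc, sq.w]
        simp only [b]
        rw [← Category.assoc, ← Category.assoc, Category.assoc _ (restr f), ← key,
          Scheme.Hom.resLE_comp_ι]
  · apply Pair.Hom.ext
    exact pullback.condition

theorem hasRightCalculusOfFractions [QuasiSeparatedSpace S] :
    (isoOpen S).HasRightCalculusOfFractions where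
  exists_rightFraction _ _ φ := by
    obtain ⟨X', s', hs', f', h⟩ := exists_rightFraction φ.f φ.s φ.hs
    exact ⟨⟨s', hs', f'⟩, h⟩
  ext _ _ _ f₁ f₂ s hs h := exists_equalizing f₁ f₂ s hs h

end Groth.Agent.R2.H41.Cpct
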