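import Mathlib

/-!
# helper41: a criterion for a functor to be a localization, for a class with a right calculus of fractions
-/

set_option autoImplicit false
universe v₁ v₂ u₁ u₂

open CategoryTheory

namespace Groth.Agent.R2.H41.LocCrit

variable {C : Type u₁} {D : Type u₂} [Category.{v₁} C] [Category.{v₂} D]

/-- If `W` has a right calculus of fractions, `L` inverts `W`, is essentially surjective, every
morphism `L X ⟶ L Y` is a right fraction and two morphisms identified by `L` are equalized by a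
morphism of `W`, then `L` is a localization functor for `W`. -/
theorem isLocalization_of_rightFractions (W : MorphismProperty C) [W.HasRightCalculusOfFractions]
    (L : C ⥤ D) (hL : W.IsInvertedBy L) [L.EssSurj]
    (hfull : ∀ {X Y : C} (φ : L.obj X ⟶ L.obj Y),
      ∃ (X' : C) (s : X' ⟶ X) (_ : W s) (f : X' ⟶ Y), L.map f = L.map s ≫ φ)
    (hfaith : ∀ {X Y : C} (f₁ f₂ : X ⟶ Y), L.map f₁ = L.map f₂ →
      ∃ (X' : C) (s : X' ⟶ X) (_ : W s), s ≫ f₁ = s ≫ f₂) :
    L.IsLocalization W := by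
  let G : W.Localization ⥤ D := Localization.Construction.lift L hL
  obtain ⟨e⟩ : Nonempty (W.Q ⋙ G ≅ L) := ⟨eqToIso (Localization.Construction.fac L hL)⟩
  have hQ : W.IsInvertedBy W.Q := Localization.inverts W.Q W
  have hnat : ∀ {A B : C} (f : A ⟶ B),
      G.map (W.Q.map f) = e.hom.app A ≫ L.map f ≫ e.inv.app B := by
    intro A B f
    have := e.hom.naturality f
    simp only [Functor.comp_map] at this
    rw [← Category.assoc, ← this, Category.assoc, Iso.hom_inv_id_app, Category.comp_id]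
  have hLmap : ∀ {A B : C} (f : A ⟶ B),
      L.map f = e.inv.app A ≫ G.map (W.Q.map f) ≫ e.hom.app B := by
    intro A B f
    have := e.hom.naturality f
    simp only [Functor.comp_map] at this
    rw [this, Iso.inv_hom_id_app_assoc]
  have hess : W.Q.EssSurj := Localization.essSurj W.Q W
  -- essential surjectivity
  have hGess : G.EssSurj := ⟨fun d =>
    ⟨W.Q.obj (L.objPreimage d), ⟨e.app _ ≪≫ L.objObjPreimageIso d⟩⟩⟩
  -- fullness on objects of the form `Q A`
  have hfull' : ∀ (A B : C) (ψ : G.obj (W.Q.obj A) ⟶ G.obj (W.Q.obj B)),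
      ∃ θ : W.Q.obj A ⟶ W.Q.obj B, G.map θ = ψ := by
    intro A B ψ
    obtain ⟨X', s, hs, f, hf⟩ := hfull (e.inv.app A ≫ ψ ≫ e.hom.app B)
    have : IsIso (W.Q.map s) := hQ s hs
    refine ⟨inv (W.Q.map s) ≫ W.Q.map f, ?_⟩
    have h1 : IsIso (G.map (W.Q.map s)) := inferInstance
    rw [← cancel_epi (G.map (W.Q.map s)), ← G.map_comp, IsIso.hom_inv_id_assoc, hnat, hnat, hf]
    simp
  have hGfull : G.Full := ⟨by
    intro X Y ψ
    let a : W.Q.obj (W.Q.objPreimage X) ≅ X := W.Q.objObjPreimageIso X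
    let b : W.Q.obj (W.Q.objPreimage Y) ≅ Y := W.Q.objObjPreimageIso Y
    obtain ⟨θ, hθ⟩ := hfull' _ _ (G.map a.hom ≫ ψ ≫ G.map b.inv)
    refine ⟨a.inv ≫ θ ≫ b.hom, ?_⟩
    rw [G.map_comp, G.map_comp, hθ]
    simp only [Category.assoc, ← G.map_comp, Iso.inv_hom_id, G.map_id, Category.comp_id]
    rw [← Category.assoc, ← G.map_comp, Iso.inv_hom_id, G.map_id, Category.id_comp]⟩
  -- faithfulness on objects of the form `Q A`
  have hfaith' : ∀ (A B : C) (α β : W.Q.obj A ⟶ W.Q.obj B), G.map α = G.map β → α = β := by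
    intro A B α β hαβ
    obtain ⟨φ, hφ⟩ := Localization.exists_rightFraction W.Q W α
    obtain ⟨ψ, hψ⟩ := Localization.exists_rightFraction W.Q W β
    have hα : W.Q.map φ.s ≫ α = W.Q.map φ.f := by
      rw [hφ]; exact φ.map_s_comp_map W.Q hQ
    have hβ : W.Q.map ψ.s ≫ β = W.Q.map ψ.f := by
      rw [hψ]; exact ψ.map_s_comp_map W.Q hQ
    -- common denominator
    obtain ⟨ρ, hρ⟩ := (MorphismProperty.LeftFraction.mk φ.s ψ.s ψ.hs).exists_rightFraction
    dsimp at hρ
    -- hρ : ρ.s ≫ φ.s = ρ.f ≫ ψ.s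
    have h2 : L.map (ρ.s ≫ φ.f) = L.map (ρ.f ≫ ψ.f) := by
      rw [hLmap, hLmap]
      congr 1
      congr 1
      rw [W.Q.map_comp, W.Q.map_comp, ← hα, ← hβ, ← Category.assoc, ← Category.assoc,
        ← W.Q.map_comp, ← W.Q.map_comp, hρ, G.map_comp, G.map_comp, hαβ]
    obtain ⟨Z, u, hu, huu⟩ := hfaith _ _ h2
    have hW : W (u ≫ ρ.s ≫ φ.s) := W.comp_mem _ _ hu (W.comp_mem _ _ ρ.hs φ.hs)
    have : IsIso (W.Q.map (u ≫ ρ.s ≫ φ.s)) := hQ _ hW
    rw [← cancel_epi (W.Q.map (u ≫ ρ.s ≫ φ.s))]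
    calc W.Q.map (u ≫ ρ.s ≫ φ.s) ≫ α
        = W.Q.map (u ≫ ρ.s ≫ φ.f) := by
          simp only [Functor.map_comp, Category.assoc, hα]
      _ = W.Q.map (u ≫ ρ.f ≫ ψ.f) := by rw [huu]
      _ = W.Q.map (u ≫ ρ.f ≫ ψ.s) ≫ β := by
          simp only [Functor.map_comp, Category.assoc, hβ]
      _ = W.Q.map (u ≫ ρ.s ≫ φ.s) ≫ β := by rw [hρ]
  have hGfaith : G.Faithful := ⟨by
    intro X Y α β hαβ
    let a : W.Q.obj (W.Q.objPreimage X) ≅ X := W.Q.objObjPreimageIso X
    let b : W.Q.obj (W.Q.objPreimage Y) ≅ Y := W.Q.objObjPreimageIso Y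
    have := hfaith' _ _ (a.hom ≫ α ≫ b.inv) (a.hom ≫ β ≫ b.inv) (by
      simp only [G.map_comp, hαβ])
    rw [cancel_epi, cancel_mono] at this
    exact this⟩
  exact { inverts := hL, isEquivalence := { } }

end Groth.Agent.R2.H41.LocCrit
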