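import Groth.Prelude.Def_Neron
import Mathlib.AlgebraicGeometry.Morphisms.Flat
import Mathlib.AlgebraicGeometry.Morphisms.Separated
import Mathlib.AlgebraicGeometry.Morphisms.SchemeTheoreticallyDominant

/-!
# Faithfulness of the generic fibre (helper84)

* `ext_of_isSchemeTheoreticallyDominant`: morphisms into a separated scheme agreeing on a
  scheme-theoretically dominant morphism are equal.
* `isSchemeTheoreticallyDominant_Spec_map`: `Spec` of an injective ring map.
* `genericFibre_map_injective`: over a domain `R`, base change to the fraction field is faithful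
  on morphisms from a flat `R`-scheme to a separated `R`-scheme.
-/

set_option autoImplicit false
universe u
open CategoryTheory CategoryTheory.Limits AlgebraicGeometry

namespace Groth.Agent.R2.H84.GenFib

/-- Two morphisms into a separated `Z`-scheme that agree on a scheme-theoretically dominant
morphism are equal. -/
theorem ext_of_isSchemeTheoreticallyDominant {W X Y Z : Scheme.{u}} {f g : X ⟶ Y}
    (s : Y ⟶ Z) [IsSeparated s] (h : f ≫ s = g ≫ s)
    (j : W ⟶ X) [IsSchemeTheoreticallyDominant j] (hU : j ≫ f = j ≫ g) : f = g := by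
  let X' : Over Z := Over.mk (f ≫ s)
  let Y' : Over Z := Over.mk s
  let U' : Over Z := Over.mk (j ≫ f ≫ s)
  let f' : X' ⟶ Y' := Over.homMk f
  let g' : X' ⟶ Y' := Over.homMk g
  let j' : U' ⟶ X' := Over.homMk j
  have : IsSeparated Y'.hom := ‹_›
  have hj : j' ≫ f' = j' ≫ g' := by ext1; exact hU
  have hfac : (equalizer.lift j' hj).left ≫ (equalizer.ι f' g').left = j := by
    rw [← Over.comp_left, equalizer.lift_ι]; rfl
  have hker : (equalizer.ι f' g').left.ker = ⊥ := by
    have h1 := Scheme.Hom.le_ker_comp (equalizer.lift j' hj).left (equalizer.ι f' g').left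
    rw [hfac, IsSchemeTheoreticallyDominant.ker_eq_bot j] at h1
    exact le_bot_iff.mp h1
  have : IsIso (equalizer.ι f' g').left := IsClosedImmersion.isIso_iff_ker_eq_bot.mpr hker
  rw [← cancel_epi (equalizer.ι f' g').left]
  exact congr($(equalizer.condition f' g').left)

theorem isSchemeTheoreticallyDominant_Spec_map {A B : CommRingCat.{u}} (φ : A ⟶ B)
    (hφ : Function.Injective φ.hom) : IsSchemeTheoreticallyDominant (Spec.map φ) := by
  rw [isSchemeTheoreticallyDominant_iff, Scheme.ker_of_isAffine]
  have h1 : RingHom.ker (Spec.map φ).appTop.hom = ⊥ := by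
    rw [← RingHom.injective_iff_ker_eq_bot]
    have h2 : (Spec.map φ).appTop = (Scheme.ΓSpecIso A).hom ≫ φ ≫ (Scheme.ΓSpecIso B).inv := by
      rw [← Scheme.ΓSpecIso_naturality_assoc, Iso.hom_inv_id, Category.comp_id]
    rw [h2]
    simp only [CommRingCat.hom_comp, RingHom.coe_comp]
    exact ((ConcreteCategory.bijective_of_isIso (Scheme.ΓSpecIso B).inv).1.comp hφ).comp
      (ConcreteCategory.bijective_of_isIso (Scheme.ΓSpecIso A).hom).1
  rw [h1]
  exact map_bot (Scheme.IdealSheafData.equivOfIsAffine (X := Spec A)).symm.toOrderIso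

/-- Base change along the generic point of a domain is faithful on morphisms from a flat
scheme to a separated scheme. -/
theorem genericFibre_map_injective (R : Type u) [CommRing R] [IsDomain R]
    {U V : Over (Spec (CommRingCat.of R))} [Flat U.hom] [IsSeparated V.hom]
    {a b : U ⟶ V}
    (h : (Over.pullback (Neron.genPt R)).map a = (Over.pullback (Neron.genPt R)).map b) :
    a = b := by
  have h0 : IsSchemeTheoreticallyDominant (Neron.genPt R) :=
    isSchemeTheoreticallyDominant_Spec_map _ (IsFractionRing.injective R (FractionRing R))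
  have h1 : IsSchemeTheoreticallyDominant (pullback.fst U.hom (Neron.genPt R)) := inferInstance
  ext1
  apply ext_of_isSchemeTheoreticallyDominant V.hom (by rw [Over.w, Over.w])
    (pullback.fst U.hom (Neron.genPt R))
  have h' := congr(($h).left ≫ pullback.fst V.hom (Neron.genPt R))
  simp only [Over.pullback, Over.homMk_left] at h'
  rw [pullback.lift_fst, pullback.lift_fst] at h'
  exact h'

end Groth.Agent.R2.H84.GenFib
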