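import Mathlib

/-!
# Scheme-theoretically dominant morphisms: locality on the target, the affine case, extension of identities along
them into separated schemes and factorisation through closed subschemes (helper89, round 2).
Namespace `Groth.Agent.R2.H89.SchDom`.
-/

set_option autoImplicit false
universe u
open CategoryTheory CategoryTheory.Limits AlgebraicGeometry Opposite

namespace Groth.Agent.R2.H89.SchDom

/-- `Spec` of an injective ring map is scheme-theoretically dominant. -/
theorem isSchemeTheoreticallyDominant_SpecMap {A B : CommRingCat.{u}} (φ : A ⟶ B)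
    (hφ : Function.Injective φ.hom) : IsSchemeTheoreticallyDominant (Spec.map φ) := by
  rw [isSchemeTheoreticallyDominant_iff, Scheme.ker_of_isAffine]
  have h : RingHom.ker (Spec.map φ).appTop.hom = ⊥ := by
    rw [eq_bot_iff]
    intro x hx
    rw [RingHom.mem_ker] at hx
    rw [Ideal.mem_bot]
    have hnat := Scheme.ΓSpecIso_naturality φ
    have h1 : (Scheme.ΓSpecIso B).hom.hom ((Spec.map φ).appTop.hom x) = 0 := by rw [hx, map_zero]
    have h2 : φ.hom ((Scheme.ΓSpecIso A).hom.hom x) = 0 := by
      have := congr($hnat x)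
      simp only [CommRingCat.comp_apply] at this
      rw [← this]
      exact h1
    have h3 : (Scheme.ΓSpecIso A).hom.hom x = 0 := hφ (h2.trans (map_zero _).symm)
    exact (ConcreteCategory.bijective_of_isIso (Scheme.ΓSpecIso A).hom).injective (h3.trans (map_zero _).symm)
  rw [h]
  exact Scheme.IdealSheafData.ext_of_isAffine (by simp)

/-- Scheme-theoretic dominance of a quasi-compact morphism is local on the target (with arbitrary cartesian squares over the
members of an open cover of the target). -/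
theorem isSchemeTheoreticallyDominant_of_openCover' {X Y : Scheme.{u}} (f : X ⟶ Y) [QuasiCompact f]
    (𝒰 : Y.OpenCover) (U : 𝒰.I₀ → Scheme.{u}) (f' : ∀ j, U j ⟶ 𝒰.X j) (g : ∀ j, U j ⟶ X)
    (hpb : ∀ j, IsPullback (f' j) (g j) (𝒰.f j) f)
    (H : ∀ j, IsSchemeTheoreticallyDominant (f' j)) :
    IsSchemeTheoreticallyDominant f := by
  rw [isSchemeTheoreticallyDominant_iff]
  let V : (Σ j, (𝒰.X j).affineOpens) → Y.affineOpens := fun p =>
    ⟨(𝒰.f p.1) ''ᵁ p.2.1, p.2.2.image_of_isOpenImmersion _⟩
  refine Scheme.IdealSheafData.ext_of_iSup_eq_top V ?_ ?_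
  · rw [eq_top_iff]
    intro y _
    obtain ⟨j, z, rfl⟩ := 𝒰.exists_eq y
    obtain ⟨_, ⟨W, hW, rfl⟩, hzW, -⟩ :=
      (𝒰.X j).isBasis_affineOpens.exists_subset_of_mem_open (Set.mem_univ z) isOpen_univ
    refine TopologicalSpace.Opens.mem_iSup.2 ⟨⟨j, ⟨W, hW⟩⟩, ?_⟩
    exact ⟨z, hzW, rfl⟩
  · rintro ⟨j, W⟩
    have h1 := Scheme.ker_ideal_of_isPullback_of_isOpenImmersion f (f' j) (g j) (𝒰.f j) (hpb j) W
    rw [(H j).ker_eq_bot] at h1
    change f.ker.ideal ⟨(𝒰.f j) ''ᵁ W.1, _⟩ = ⊥
    rw [eq_bot_iff]
    intro x hx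
    obtain ⟨y, rfl⟩ := (ConcreteCategory.bijective_of_isIso ((𝒰.f j).appIso W.1).inv).surjective x
    have hy : y ∈ (⊥ : (𝒰.X j).IdealSheafData).ideal W := by
      rw [h1]
      exact hx
    have hy0 : y = 0 := by simpa using hy
    rw [hy0, map_zero]
    exact Ideal.zero_mem _

/-- Scheme-theoretic dominance of a quasi-compact morphism is local on the target. -/
theorem isSchemeTheoreticallyDominant_of_openCover {X Y : Scheme.{u}} (f : X ⟶ Y) [QuasiCompact f]
    (𝒰 : Y.OpenCover) (H : ∀ j, IsSchemeTheoreticallyDominant (pullback.snd f (𝒰.f j))) :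
    IsSchemeTheoreticallyDominant f :=
  isSchemeTheoreticallyDominant_of_openCover' f 𝒰 _ _ _
    (fun j => (IsPullback.of_hasPullback f (𝒰.f j)).flip) H

/-- Scheme-theoretic dominance is invariant under isomorphisms of arrows. -/
theorem isSchemeTheoreticallyDominant_of_arrow_iso {X Y X' Y' : Scheme.{u}} (f : X ⟶ Y) (f' : X' ⟶ Y')
    (e₁ : X' ≅ X) (e₂ : Y ≅ Y') (hf : IsSchemeTheoreticallyDominant f) (h : f' = e₁.hom ≫ f ≫ e₂.hom) :
    IsSchemeTheoreticallyDominant f' := by
  rw [h]
  infer_instance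

/-- Variant of `isSchemeTheoreticallyDominant_of_arrow_iso` with the commutative square as hypothesis. -/
theorem isSchemeTheoreticallyDominant_of_comm_sq {X Y X' Y' : Scheme.{u}} (f : X ⟶ Y) (f' : X' ⟶ Y')
    (e₁ : X' ≅ X) (e₂ : Y' ≅ Y) (hf : IsSchemeTheoreticallyDominant f) (h : f' ≫ e₂.hom = e₁.hom ≫ f) :
    IsSchemeTheoreticallyDominant f' := by
  refine isSchemeTheoreticallyDominant_of_arrow_iso f f' e₁ e₂.symm hf ?_
  rw [Iso.symm_hom, ← Category.assoc, ← h, Category.assoc, Iso.hom_inv_id, Category.comp_id]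

/-- Two morphisms over `S` into a separated `S`-scheme that agree after precomposition with a scheme-theoretically dominant
morphism are equal. -/
theorem ext_of_dominant_of_isSeparated {S : Scheme.{u}} {W' W X : Over S} [IsSeparated X.hom] (h : W' ⟶ W)
    [IsSchemeTheoreticallyDominant h.left] {φ₁ φ₂ : W ⟶ X} (H : h ≫ φ₁ = h ≫ φ₂) : φ₁ = φ₂ := by
  have hl : equalizer.lift h H ≫ equalizer.ι φ₁ φ₂ = h := equalizer.lift_ι _ _
  have hker : (equalizer.ι φ₁ φ₂).left.ker = ⊥ := by
    have h1 : ((equalizer.lift h H).left ≫ (equalizer.ι φ₁ φ₂).left).ker = ⊥ := by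
      rw [← Over.comp_left, hl]
      exact h.left.ker_eq_bot
    rw [← le_bot_iff, ← h1]
    exact Scheme.Hom.le_ker_comp _ _
  have hiso : IsIso (equalizer.ι φ₁ φ₂).left := IsClosedImmersion.isIso_iff_ker_eq_bot.mpr hker
  have hepi : Epi (equalizer.ι φ₁ φ₂).left := inferInstance
  ext1
  rw [← cancel_epi (equalizer.ι φ₁ φ₂).left, ← Over.comp_left, ← Over.comp_left, equalizer.condition]

/-- A morphism `φ : W ⟶ X` over `S` whose restriction along a scheme-theoretically dominant `h : W' ⟶ W` factors through a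
closed immersion `j : Z ⟶ X` factors through `j`. -/
theorem exists_factor_of_dominant_of_isClosedImmersion {S : Scheme.{u}} {W' W X Z : Over S} (h : W' ⟶ W)
    [IsSchemeTheoreticallyDominant h.left] (j : Z ⟶ X) [IsClosedImmersion j.left] (φ : W ⟶ X) (ψ : W' ⟶ Z)
    (H : h ≫ φ = ψ ≫ j) : ∃ χ : W ⟶ Z, χ ≫ j = φ := by
  have hcond : h.left ≫ φ.left = ψ.left ≫ j.left := by
    rw [← Over.comp_left, ← Over.comp_left, H]
  let l := pullback.lift h.left ψ.left hcond
  have hl : l ≫ pullback.fst φ.left j.left = h.left := pullback.lift_fst _ _ _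
  have hker : (pullback.fst φ.left j.left).ker = ⊥ := by
    have h1 : (l ≫ pullback.fst φ.left j.left).ker = ⊥ := by
      rw [hl]; exact h.left.ker_eq_bot
    rw [← le_bot_iff, ← h1]
    exact Scheme.Hom.le_ker_comp _ _
  have hiso : IsIso (pullback.fst φ.left j.left) := IsClosedImmersion.isIso_iff_ker_eq_bot.mpr hker
  have hw : (inv (pullback.fst φ.left j.left) ≫ pullback.snd φ.left j.left) ≫ Z.hom = W.hom := by
    rw [Category.assoc, ← Over.w j, ← pullback.condition_assoc, IsIso.inv_hom_id_assoc, Over.w φ]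
  refine ⟨Over.homMk (inv (pullback.fst φ.left j.left) ≫ pullback.snd φ.left j.left) hw, ?_⟩
  ext1
  change (inv (pullback.fst φ.left j.left) ≫ pullback.snd φ.left j.left) ≫ j.left = φ.left
  rw [Category.assoc, ← pullback.condition, IsIso.inv_hom_id_assoc]

/-- For `a : X ⟶ Z`, `g : Y ⟶ Z` and `i : Y' ⟶ Y` the canonical square `X ×_Z Y' ⟶ X ×_Z Y` over `i` is cartesian. -/
theorem isPullback_map_snd {X Y Y' Z : Scheme.{u}} (a : X ⟶ Z) (g : Y ⟶ Z) (i : Y' ⟶ Y) :
    IsPullback (pullback.map a (i ≫ g) a g (𝟙 X) i (𝟙 Z) (by simp) (by simp)) (pullback.snd a (i ≫ g))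
      (pullback.snd a g) i := by
  refine IsPullback.of_right (h₁₂ := pullback.fst a g) (h₂₂ := g) (v₁₃ := a) ?_ (pullback.lift_snd _ _ _)
    (IsPullback.of_hasPullback a g)
  rw [pullback.lift_fst, Category.comp_id]
  exact IsPullback.of_hasPullback a (i ≫ g)

open TensorProduct in
theorem tensor_map_injective_of_retraction (R A A' B : Type u) [CommRing R] [CommRing A] [CommRing A'] [CommRing B]
    [Algebra R A] [Algebra R A'] [Algebra R B] (φ : A →ₐ[R] A') (r : A' →ₗ[R] A) (hr : ∀ a, r (φ a) = a) :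
    Function.Injective (Algebra.TensorProduct.map φ (AlgHom.id R B)) := by
  have h : Function.LeftInverse (LinearMap.rTensor B r) (Algebra.TensorProduct.map φ (AlgHom.id R B)) := by
    intro x
    induction x using TensorProduct.induction_on with
    | zero => simp
    | tmul a b => simp [hr]
    | add x y hx hy => simp only [map_add, hx, hy]
  exact h.injective

open TensorProduct in
/-- Affine case, algebra form: for an `R`-algebra map `φ : A → A'` with an `R`-linear retraction and an `R`-algebra `B`, the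
base change `Spec A' ×_R Spec B ⟶ Spec A ×_R Spec B` is scheme-theoretically dominant. -/
theorem dominant_pullback_map_SpecMap_algebra (R A A' B : Type u) [CommRing R] [CommRing A] [CommRing A'] [CommRing B]
    [Algebra R A] [Algebra R A'] [Algebra R B] (φ : A →ₐ[R] A') (r : A' →ₗ[R] A) (hr : ∀ a, r (φ a) = a) :
    IsSchemeTheoreticallyDominant
      (pullback.map (Spec.map (CommRingCat.ofHom (algebraMap R A'))) (Spec.map (CommRingCat.ofHom (algebraMap R B)))
        (Spec.map (CommRingCat.ofHom (algebraMap R A))) (Spec.map (CommRingCat.ofHom (algebraMap R B)))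
        (Spec.map (CommRingCat.ofHom φ.toRingHom)) (𝟙 _) (𝟙 _)
        (by rw [Category.comp_id, ← Spec.map_comp, ← CommRingCat.ofHom_comp]; congr 2; exact φ.comp_algebraMap.symm)
        (by simp)) := by
  let τ : A ⊗[R] B →ₐ[R] A' ⊗[R] B := Algebra.TensorProduct.map φ (AlgHom.id R B)
  have hτ : Function.Injective τ := tensor_map_injective_of_retraction R A A' B φ r hr
  have hdom : IsSchemeTheoreticallyDominant (Spec.map (CommRingCat.ofHom τ.toRingHom)) :=
    isSchemeTheoreticallyDominant_SpecMap _ hτ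
  have key : pullback.map (Spec.map (CommRingCat.ofHom (algebraMap R A'))) (Spec.map (CommRingCat.ofHom (algebraMap R B)))
      (Spec.map (CommRingCat.ofHom (algebraMap R A))) (Spec.map (CommRingCat.ofHom (algebraMap R B)))
        (Spec.map (CommRingCat.ofHom φ.toRingHom)) (𝟙 _) (𝟙 _)
        (by rw [Category.comp_id, ← Spec.map_comp, ← CommRingCat.ofHom_comp]; congr 2; exact φ.comp_algebraMap.symm)
        (by simp) =
      (pullbackSpecIso R A' B).hom ≫ Spec.map (CommRingCat.ofHom τ.toRingHom) ≫ (pullbackSpecIso R A B).inv := by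
    apply pullback.hom_ext
    · rw [pullback.lift_fst, Category.assoc, Category.assoc, pullbackSpecIso_inv_fst, ← Spec.map_comp,
        ← pullbackSpecIso_hom_fst, Category.assoc, ← Spec.map_comp]
      congr 2
    · rw [pullback.lift_snd, Category.assoc, Category.assoc, pullbackSpecIso_inv_snd, ← Spec.map_comp,
        Category.comp_id, ← pullbackSpecIso_hom_snd]
      congr 2
      ext b
      simp [τ]
  rw [key]
  infer_instance

/-- Affine case: for an `R`-algebra map `φ : A → A'` with an `R`-linear retraction, the base change of `Spec A' ⟶ Spec A` to an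
affine scheme over `Spec R` is scheme-theoretically dominant. -/
theorem dominant_pullback_map_SpecMap_affine (R A A' : Type u) [CommRing R] [CommRing A] [CommRing A']
    [Algebra R A] [Algebra R A'] (φ : A →ₐ[R] A') (r : A' →ₗ[R] A) (hr : ∀ a, r (φ a) = a)
    (B : CommRingCat.{u}) (q : Spec B ⟶ Spec (CommRingCat.of R)) :
    IsSchemeTheoreticallyDominant
      (pullback.map (Spec.map (CommRingCat.ofHom (algebraMap R A'))) q (Spec.map (CommRingCat.ofHom (algebraMap R A))) q
        (Spec.map (CommRingCat.ofHom φ.toRingHom)) (𝟙 _) (𝟙 _)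
        (by rw [Category.comp_id, ← Spec.map_comp, ← CommRingCat.ofHom_comp]; congr 2; exact φ.comp_algebraMap.symm)
        (by simp)) := by
  obtain ⟨ψ, rfl⟩ := Spec.map_surjective q
  let _ : Algebra R B := ψ.hom.toAlgebra
  exact dominant_pullback_map_SpecMap_algebra R A A' B φ r hr

/-- Reduction to affine test schemes: if the base change of `c : X' ⟶ X` (a morphism of schemes affine over `Z`) to every
affine scheme over `Z` is scheme-theoretically dominant, then so is its base change to any scheme over `Z`. -/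
theorem dominant_pullback_map_of_affine {X X' Z : Scheme.{u}} (a : X ⟶ Z) (a' : X' ⟶ Z) [IsAffineHom a] [IsAffineHom a']
    (c : X' ⟶ X) (hc : a' ≫ 𝟙 Z = c ≫ a)
    (H : ∀ (B : CommRingCat.{u}) (q : Spec B ⟶ Z),
      IsSchemeTheoreticallyDominant (pullback.map a' q a q c (𝟙 _) (𝟙 _) hc (by simp)))
    {T : Scheme.{u}} (q : T ⟶ Z) :
    IsSchemeTheoreticallyDominant (pullback.map a' q a q c (𝟙 _) (𝟙 _) hc (by simp)) := by
  have haff : IsAffineHom (pullback.map a' q a q c (𝟙 _) (𝟙 _) hc (by simp) ≫ pullback.snd a q) := by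
    rw [pullback.lift_snd, Category.comp_id]
    exact MorphismProperty.IsStableUnderBaseChange.of_isPullback (IsPullback.of_hasPullback a' q) ‹_›
  have hsnd : IsAffineHom (pullback.snd a q) :=
    MorphismProperty.IsStableUnderBaseChange.of_isPullback (IsPullback.of_hasPullback a q) ‹_›
  have haff' : IsAffineHom (pullback.map a' q a q c (𝟙 _) (𝟙 _) hc (by simp)) :=
    IsAffineHom.of_comp _ (pullback.snd a q)
  let 𝒱 := T.affineOpenCover.openCover
  refine isSchemeTheoreticallyDominant_of_openCover' _ (Scheme.Pullback.openCoverOfRight 𝒱 a q)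
    (fun j => pullback a' (𝒱.f j ≫ q))
    (fun j => pullback.map a' (𝒱.f j ≫ q) a (𝒱.f j ≫ q) c (𝟙 _) (𝟙 _) hc (by simp))
    (fun j => pullback.map a' (𝒱.f j ≫ q) a' q (𝟙 _) (𝒱.f j) (𝟙 _) (by simp) (by simp)) ?_ ?_
  · intro j
    have hf : (Scheme.Pullback.openCoverOfRight 𝒱 a q).f j =
        pullback.map a (𝒱.f j ≫ q) a q (𝟙 _) (𝒱.f j) (𝟙 _) (by simp) (by simp) := rfl
    rw [hf]
    refine IsPullback.of_right (h₁₂ := pullback.snd a (𝒱.f j ≫ q)) (h₂₂ := pullback.snd a q) (v₁₃ := 𝒱.f j) ?_ ?_
      (isPullback_map_snd a q (𝒱.f j)).flip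
    · have e1 : pullback.map a' (𝒱.f j ≫ q) a (𝒱.f j ≫ q) c (𝟙 _) (𝟙 _) hc
          (by simp) ≫ pullback.snd a (𝒱.f j ≫ q) = pullback.snd a' (𝒱.f j ≫ q) := by
        rw [pullback.lift_snd, Category.comp_id]
      have e2 : pullback.map a' q a q c (𝟙 _) (𝟙 _) hc (by simp) ≫ pullback.snd a q = pullback.snd a' q := by
        rw [pullback.lift_snd, Category.comp_id]
      rw [e1, e2]
      exact (isPullback_map_snd a' q (𝒱.f j)).flip
    · apply pullback.hom_ext
      · simp only [pullback.map, Category.assoc, pullback.lift_fst, pullback.lift_fst_assoc, Category.comp_id]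
      · simp only [pullback.map, Category.assoc, pullback.lift_snd, pullback.lift_snd_assoc, Category.comp_id]
  · intro j
    exact H (T.affineOpenCover.X j) (𝒱.f j ≫ q)

/-- **Universal scheme-theoretic dominance.** For an `R`-algebra map `φ : A → A'` admitting an `R`-linear retraction and ANY
scheme `T` over `Spec R`, the base change `Spec A' ×_R T ⟶ Spec A ×_R T` of `Spec φ` is scheme-theoretically dominant. -/
theorem dominant_pullback_map_SpecMap (R A A' : Type u) [CommRing R] [CommRing A] [CommRing A']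
    [Algebra R A] [Algebra R A'] (φ : A →ₐ[R] A') (r : A' →ₗ[R] A) (hr : ∀ a, r (φ a) = a)
    {T : Scheme.{u}} (q : T ⟶ Spec (CommRingCat.of R)) :
    IsSchemeTheoreticallyDominant
      (pullback.map (Spec.map (CommRingCat.ofHom (algebraMap R A'))) q (Spec.map (CommRingCat.ofHom (algebraMap R A))) q
        (Spec.map (CommRingCat.ofHom φ.toRingHom)) (𝟙 _) (𝟙 _)
        (by rw [Category.comp_id, ← Spec.map_comp, ← CommRingCat.ofHom_comp]; congr 2; exact φ.comp_algebraMap.symm)
        (by simp)) :=
  dominant_pullback_map_of_affine _ _ _ _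
    (fun B q' => dominant_pullback_map_SpecMap_affine R A A' φ r hr B q') q

end Groth.Agent.R2.H89.SchDom
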