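import Groth.Agent.R2.LeadChowA
import Groth.Agent.R2.H84GenFib
import Groth.Agent.R2.H89SchDom

/-!
# Chow's lemma, abstract core, part B (lead): the closure of a graph

Setting: `f : X ⟶ S`, `p : P ⟶ S`, an open `U ⊆ X` and an `S`-morphism `g : U ⟶ P`.
`gr : U ⟶ X ×_S P` is the graph-like immersion, `X' = closure of U` its scheme-theoretic image with the two projections
`π : X' ⟶ X` and `φ : X' ⟶ P`, and `t : U ⟶ X'` the canonical open immersion.
-/

set_option autoImplicit false
universe u
open CategoryTheory CategoryTheory.Limits AlgebraicGeometry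

namespace Groth.Agent.R2.Lead.ChowB

open Groth.Agent.R2.Lead.ChowA

variable {X S P : Scheme.{u}} (f : X ⟶ S) (p : P ⟶ S) (U : X.Opens) (g : (U : Scheme.{u}) ⟶ P)
  (hg : g ≫ p = U.ι ≫ f)

/-- The graph-like morphism `U ⟶ X ×_S P`. -/
noncomputable def gr : (U : Scheme.{u}) ⟶ pullback f p := pullback.lift U.ι g hg.symm

@[reassoc (attr := simp)]
lemma gr_fst : gr f p U g hg ≫ pullback.fst f p = U.ι := pullback.lift_fst _ _ _

@[reassoc (attr := simp)]
lemma gr_snd : gr f p U g hg ≫ pullback.snd f p = g := pullback.lift_snd _ _ _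

instance : IsImmersion (gr f p U g hg) := by
  have : IsImmersion (gr f p U g hg ≫ pullback.fst f p) := by rw [gr_fst]; infer_instance
  exact IsImmersion.of_comp _ (pullback.fst f p)

/-- The closure `X'` of `U` in `X ×_S P`. -/
noncomputable abbrev X' : Scheme.{u} := (gr f p U g hg).image

/-- The closed immersion `X' ⟶ X ×_S P`. -/
noncomputable abbrev c : X' f p U g hg ⟶ pullback f p := (gr f p U g hg).imageι

/-- The projection `π : X' ⟶ X`. -/
noncomputable def π : X' f p U g hg ⟶ X := c f p U g hg ≫ pullback.fst f p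

/-- The projection `φ : X' ⟶ P`. -/
noncomputable def φ : X' f p U g hg ⟶ P := c f p U g hg ≫ pullback.snd f p

/-- The canonical morphism `t : U ⟶ X'`. -/
noncomputable abbrev t : (U : Scheme.{u}) ⟶ X' f p U g hg := (gr f p U g hg).toImage

@[reassoc (attr := simp)]
lemma t_π : t f p U g hg ≫ π f p U g hg = U.ι := by
  simp [π, t, c]

@[reassoc (attr := simp)]
lemma t_φ : t f p U g hg ≫ φ f p U g hg = g := by
  simp [φ, t, c]

@[reassoc]
lemma π_f : π f p U g hg ≫ f = φ f p U g hg ≫ p := by
  simp [π, φ, pullback.condition]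

instance [IsProper p] : IsProper (π f p U g hg) := by
  unfold π; infer_instance

instance [IsSeparated p] : IsSeparated (π f p U g hg) := by
  unfold π; infer_instance

variable [QuasiCompact (gr f p U g hg)]

instance : IsOpenImmersion (t f p U g hg) := inferInstance

instance : IsSchemeTheoreticallyDominant (t f p U g hg) := toImage_std _

instance : QuasiCompact (t f p U g hg) := inferInstance

/-- `t` lifted to an open `W` of `X'` containing its range. -/
noncomputable def tW (W : (X' f p U g hg).Opens) (hW : Set.range (t f p U g hg).base ⊆ W) :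
    (U : Scheme.{u}) ⟶ W :=
  IsOpenImmersion.lift W.ι (t f p U g hg) (by simpa using hW)

@[reassoc (attr := simp)]
lemma tW_ι (W : (X' f p U g hg).Opens) (hW : Set.range (t f p U g hg).base ⊆ W) :
    tW f p U g hg W hW ≫ W.ι = t f p U g hg :=
  IsOpenImmersion.lift_fac _ _ _

instance (W : (X' f p U g hg).Opens) (hW : Set.range (t f p U g hg).base ⊆ W) :
    IsSchemeTheoreticallyDominant (tW f p U g hg W hW) :=
  lift_std (t f p U g hg) W _ (tW_ι f p U g hg W hW)

lemma range_t_subset_preimage (V : X.Opens) (hV : U ≤ V) :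
    Set.range (t f p U g hg).base ⊆ ((π f p U g hg) ⁻¹ᵁ V : (X' f p U g hg).Opens) := by
  rintro _ ⟨x, rfl⟩
  change (π f p U g hg).base ((t f p U g hg).base x) ∈ V
  have : (π f p U g hg).base ((t f p U g hg).base x) = (U.ι).base x := by
    rw [← t_π f p U g hg]; rfl
  rw [this]
  exact hV x.2

/-- `π` is an isomorphism over `U`. -/
theorem isIso_π_restrict [IsSeparated p] : IsIso (π f p U g hg ∣_ U) := by
  set W : (X' f p U g hg).Opens := (π f p U g hg) ⁻¹ᵁ U with hWdef
  have hW := range_t_subset_preimage f p U g hg U le_rfl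
  set tw := tW f p U g hg W hW with htw
  have h1 : tw ≫ (π f p U g hg ∣_ U) = 𝟙 _ := by
    rw [← cancel_mono U.ι, Category.assoc, morphismRestrict_ι, Category.id_comp]
    rw [tW_ι_assoc, t_π]
  have h2 : (π f p U g hg ∣_ U) ≫ tw = 𝟙 _ := by
    refine Groth.Agent.R2.H84.GenFib.ext_of_isSchemeTheoreticallyDominant (π f p U g hg ∣_ U) ?_ tw ?_
    · rw [Category.assoc, h1, Category.comp_id, Category.id_comp]
    · rw [reassoc_of% h1, Category.comp_id]
  exact ⟨tw, h2, h1⟩

end Groth.Agent.R2.Lead.ChowB
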