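import Groth.Agent.R2.H41Cpct
import Groth.Agent.R2.H41LocCrit
import Groth.Agent.R2.LeadChowB

/-!
# helper41: `Cpct.openFunctor` is a localization functor for `Cpct.isoOpen`
-/

set_option autoImplicit false
universe u

open CategoryTheory CategoryTheory.Limits AlgebraicGeometry

namespace Groth.Agent.R2.H41.Cpct

open _root_.Cpct Groth.Agent.R2.Lead

variable {S : Scheme.{u}}

theorem openFunctor_map_hom_left {A B : Pair S} (f : A ⟶ B) :
    ((openFunctor S).map f).hom.left = restr f := rfl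

theorem isInvertedBy_openFunctor : (isoOpen S).IsInvertedBy (openFunctor S) := by
  intro A B s hs
  have h1 : IsIso (restr s) := hs
  have h2 : IsIso (((openFunctor S).map s).hom.left) := h1
  have h2' : IsIso ((Over.forget S).map ((openFunctor S).map s).hom) := h2
  have h3 : IsIso ((openFunctor S).map s).hom :=
    isIso_of_reflects_iso _ (Over.forget S)
  have h3' : IsIso ((ObjectProperty.ι (IsCompactifyable S)).map ((openFunctor S).map s)) := h3
  exact isIso_of_reflects_iso _ (ObjectProperty.ι _)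

instance essSurj_openFunctor : (openFunctor S).EssSurj where
  mem_essImage X := by
    obtain ⟨A, ⟨e⟩⟩ := X.property
    exact ⟨A, ⟨ObjectProperty.isoMk _ e⟩⟩

theorem openFunctor_map_eq_iff {A B : Pair S} (f₁ f₂ : A ⟶ B) :
    (openFunctor S).map f₁ = (openFunctor S).map f₂ ↔ restr f₁ = restr f₂ := by
  constructor
  · intro h
    exact congrArg (fun g => g.hom.left) h
  · intro h
    apply ObjectProperty.hom_ext
    apply Over.OverMorphism.ext
    exact h

/-- Every morphism between open parts is a right fraction (closure of the graph). -/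
theorem exists_fraction [QuasiSeparatedSpace S] {A B : Pair S}
    (φ : (openFunctor S).obj A ⟶ (openFunctor S).obj B) :
    ∃ (A' : Pair S) (s : A' ⟶ A) (_ : isoOpen S s) (f : A' ⟶ B),
      (openFunctor S).map f = (openFunctor S).map s ≫ φ := by
  have := A.isProper
  have := B.isProper
  let φ₀ : (A.U : Scheme.{u}) ⟶ (B.U : Scheme.{u}) := φ.hom.left
  have hφ₀ : φ₀ ≫ B.U.ι ≫ B.bar.hom = A.U.ι ≫ A.bar.hom := Over.w φ.hom
  let g : (A.U : Scheme.{u}) ⟶ B.bar.left := φ₀ ≫ B.U.ι
  have hg : g ≫ B.bar.hom = A.U.ι ≫ A.bar.hom := by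
    simp only [g, Category.assoc]; exact hφ₀
  have : CompactSpace (A.U : Scheme.{u}) := isCompact_iff_compactSpace.mp A.isCompact
  have : IsProper (pullback.fst A.bar.hom B.bar.hom ≫ A.bar.hom) := inferInstance
  have : QuasiSeparatedSpace ↥(pullback A.bar.hom B.bar.hom) :=
    quasiSeparatedSpace_of_quasiSeparated (pullback.fst A.bar.hom B.bar.hom ≫ A.bar.hom)
  have : QuasiCompact (ChowB.gr A.bar.hom B.bar.hom A.U g hg) := quasiCompact_of_compactSpace _
  let π := ChowB.π A.bar.hom B.bar.hom A.U g hg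
  let ψ := ChowB.φ A.bar.hom B.bar.hom A.U g hg
  let t := ChowB.t A.bar.hom B.bar.hom A.U g hg
  have hπ : IsProper π := inferInstance
  let T : Over S := Over.mk (π ≫ A.bar.hom)
  let pT : T ⟶ A.bar := Over.homMk π rfl
  have hpT : IsProper pT.left := hπ
  let W : T.left.Opens := π ⁻¹ᵁ A.U
  have hc : IsCompact (W : Set T.left) := π.isCompact_preimage A.isCompact
  have hiso : IsIso (π ∣_ A.U) := ChowB.isIso_π_restrict A.bar.hom B.bar.hom A.U g hg
  have hW := ChowB.range_t_subset_preimage A.bar.hom B.bar.hom A.U g hg A.U le_rfl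
  let tw : (A.U : Scheme.{u}) ⟶ W := ChowB.tW A.bar.hom B.bar.hom A.U g hg W hW
  have htw : tw ≫ W.ι = t := ChowB.tW_ι A.bar.hom B.bar.hom A.U g hg W hW
  have h1 : tw ≫ (π ∣_ A.U) = 𝟙 _ := by
    rw [← cancel_mono A.U.ι, Category.assoc, morphismRestrict_ι, Category.id_comp,
      ← Category.assoc, htw]
    exact ChowB.t_π A.bar.hom B.bar.hom A.U g hg
  have h2 : (π ∣_ A.U) ≫ tw = 𝟙 _ := by
    rw [← cancel_mono (π ∣_ A.U), Category.assoc, h1, Category.comp_id, Category.id_comp]
  have key : W.ι ≫ ψ = (π ∣_ A.U) ≫ φ₀ ≫ B.U.ι := by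
    calc W.ι ≫ ψ = ((π ∣_ A.U) ≫ tw) ≫ W.ι ≫ ψ := by rw [h2, Category.id_comp]
      _ = (π ∣_ A.U) ≫ (tw ≫ W.ι) ≫ ψ := by simp only [Category.assoc]
      _ = (π ∣_ A.U) ≫ g := by
        rw [htw]; congr 1; exact ChowB.t_φ A.bar.hom B.bar.hom A.U g hg
  let fbar : T ⟶ B.bar := Over.homMk ψ (by
    show ψ ≫ B.bar.hom = π ≫ A.bar.hom
    exact (ChowB.π_f A.bar.hom B.bar.hom A.U g hg).symm)
  have hle : ∀ x, x ∈ W → ψ.base x ∈ B.U := by
    intro x hx
    have hx' : (W.ι ≫ ψ).base ⟨x, hx⟩ ∈ B.U := by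
      rw [key]
      exact Subtype.property _
    exact hx'
  have hres : restr (mkHom A T pT W hc le_rfl) = π ∣_ A.U :=
    Scheme.Hom.resLE_eq_morphismRestrict π
  refine ⟨mkPair A T pT W hc, mkHom A T pT W hc le_rfl, ?_, ⟨fbar, hle⟩, ?_⟩
  · show IsIso (restr (mkHom A T pT W hc le_rfl))
    rw [hres]; exact hiso
  · apply ObjectProperty.hom_ext
    apply Over.OverMorphism.ext
    show restr _ = restr (mkHom A T pT W hc le_rfl) ≫ φ₀
    rw [hres, ← cancel_mono B.U.ι]
    exact (restr_comp_ι _).trans (key.trans (Category.assoc _ _ _).symm)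

theorem openFunctor_isLocalization [QuasiSeparatedSpace S] :
    (openFunctor S).IsLocalization (isoOpen S) := by
  have := hasRightCalculusOfFractions (S := S)
  refine LocCrit.isLocalization_of_rightFractions (isoOpen S) (openFunctor S)
    isInvertedBy_openFunctor (fun φ => exists_fraction φ) ?_
  intro X Y f₁ f₂ h
  exact exists_equalizing_of_restr_eq f₁ f₂ ((openFunctor_map_eq_iff f₁ f₂).mp h)

end Groth.Agent.R2.H41.Cpct
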