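import Groth.Agent.R2.H41CptSpec

/-!
# helper41: assembly of S9035 from the packages of `H41CptSpec` (+ `H41ResSpec`)
-/

set_option autoImplicit false
universe v u
open CategoryTheory CategoryTheory.Limits Opposite

namespace Groth.Agent.R2.H41.CptAsm

open Groth.Agent.R2.H41.ResSpec Groth.Agent.R2.H41.CptSpec

theorem s9035_of (good : PkgGoodSum.{v, u}) (tower : PkgTower.{v, u}) (col : PkgColim.{v, u})
    (lift : PkgLift.{v, u}) (stupid : PkgStupid.{v, u}) (fin : PkgFin.{v, u})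
    {A : Type u} [Category.{v} A] [Abelian A] [IsGrothendieckAbelian.{v} A] [HasCoproducts.{v} A]
    [HasFiniteBiproducts A]
    [HasDerivedCategory.{v} A] [HasCoproducts.{v} (DerivedCategory A)]
    (S : Set A)
    (h1 : ∀ X : A, ∃ (ι : Type v) (E : ι → A) (π : ∐ E ⟶ X), (∀ i, E i ∈ S) ∧ Epi π)
    (h2 : ∀ E ∈ S, ∀ ι : Type v,
      PreservesColimitsOfShape (Discrete ι) (preadditiveCoyoneda.obj (op E)))
    (K : DerivedCategory A) (hK : CohDer.IsCompactObject K) :
    ∃ (L : CochainComplex A ℤ) (a b : ℤ),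
      (∀ i : ℤ, i < a ∨ b < i → IsZero (L.X i)) ∧
      (∀ i : ℤ, ∃ (n : ℕ) (E : Fin n → A), (∀ j, E j ∈ S) ∧ Nonempty (L.X i ≅ ⨁ E)) ∧
      Nonempty (Retract K (DerivedCategory.Q.obj L)) := by
  haveI : HasExactColimitsOfShape ℕ A := by
    haveI : AB5OfSize.{0, 0} A := AB5OfSize_shrink.{0, 0, v, v} A
    infer_instance
  have hgood : Good (IsSum S) := good S h1
  -- a complex representing `K`
  let G : CochainComplex A ℤ := DerivedCategory.Q.objPreimage K
  let eG : DerivedCategory.Q.obj G ≅ K := DerivedCategory.Q.objObjPreimageIso K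
  obtain ⟨Kc, π, t1, t2, t3, t4, -⟩ := tower (IsSum S) hgood G
  obtain ⟨c, -, hc⟩ := col G Kc π t1 (fun n => (t2 n).1)
  haveI : IsIso (DerivedCategory.Q.map c) := by
    rw [DerivedCategory.isIso_Q_map_iff_quasiIso]
    exact hc
  -- first lift
  obtain ⟨n, u, hu⟩ := lift Kc K hK (eG.inv ≫ inv (DerivedCategory.Q.map c))
  let r1 : DerivedCategory.Q.obj (Kc.obj n) ⟶ K :=
    DerivedCategory.Q.map (colimit.ι Kc n) ≫ DerivedCategory.Q.map c ≫ eG.hom
  have hr1 : u ≫ r1 = 𝟙 K := by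
    simp only [r1]
    rw [reassoc_of% hu]
    simp
  -- stupid truncations
  haveI := t3 n
  obtain ⟨F, e, hF⟩ := stupid ((n : ℤ) + 1) (Kc.obj n)
  obtain ⟨m, u2, hu2⟩ := lift F K hK (u ≫ DerivedCategory.Q.map e.inv)
  let r2 : DerivedCategory.Q.obj (F.obj m) ⟶ K :=
    DerivedCategory.Q.map (colimit.ι F m ≫ e.hom) ≫ r1
  have hr2 : u2 ≫ r2 = 𝟙 K := by
    simp only [r2]
    rw [Functor.map_comp, Category.assoc, reassoc_of% hu2, ← Functor.map_comp_assoc,
      Iso.inv_hom_id, CategoryTheory.Functor.map_id, Category.id_comp, hr1]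
  have hsum : ∀ i, IsSum S ((F.obj m).X i) := by
    intro i
    rcases (hF m).2 i with h | ⟨⟨h⟩⟩
    · exact hgood.zero _ h
    · exact hgood.iso h.symm (t4 n i)
  have hbd : ∀ i : ℤ, i < (n : ℤ) + 1 - m ∨ (n : ℤ) + 1 < i → IsZero ((F.obj m).X i) := by
    intro i hi
    rcases hi with hi | hi
    · exact (hF m).1 i hi
    · rcases (hF m).2 i with h | ⟨⟨h⟩⟩
      · exact h
      · exact ((Kc.obj n).isZero_of_isStrictlyLE ((n : ℤ) + 1) i hi).of_iso h
  obtain ⟨L', hL'1, hL'2, hL'3⟩ := fin S h2 K hK (F.obj m) _ _ hsum hbd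
    ⟨⟨u2, r2, hr2⟩⟩
  exact ⟨L', _, _, hL'1, hL'2, hL'3⟩

end Groth.Agent.R2.H41.CptAsm

namespace Groth.Agent.R2.H41.CptAsm

open Groth.Agent.R2.H41.ResSpec Groth.Agent.R2.H41.CptSpec

section site

variable {C : Type u} [SmallCategory C] {J : GrothendieckTopology C}
  (O : Sheaf J CommRingCat.{u})

theorem s9103_of (coyo : PkgCoyo.{u, u + 1}) (qc : PkgQcCompact.{u}) (U : C)
    (hU : CohCx.IsQcObject ((presheafToSheaf J (Type u)).obj (yoneda.obj U))) (ι : Type u) :
    PreservesColimitsOfShape (Discrete ι) (preadditiveCoyoneda.obj (op (ModSite.freeOn O U))) :=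
  (coyo (ModSite.freeOn O U)).1 (qc O U hU) ι

theorem s9102_of (coyo : PkgCoyo.{u, u + 1}) (qc : PkgQcCompact.{u}) (sec : PkgSecIso.{u}) (W : C)
    (hW : CohCx.IsQcObject ((presheafToSheaf J (Type u)).obj (yoneda.obj W))) (ι : Type u) :
    PreservesColimitsOfShape (Discrete ι)
      (SheafOfModules.toSheaf (ModSite.ringSh O) ⋙ (sheafSections J AddCommGrpCat.{u}).obj (op W)) := by
  haveI := s9103_of O coyo qc W hW ι
  exact preservesColimitsOfShape_of_natIso (sec O W).some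

end site

end Groth.Agent.R2.H41.CptAsm
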