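import Groth.Agent.R2.H41CptAsm
import Groth.Agent.Lib.Helper17DBrown3
import Groth.Agent.Lib.Helper21ModTensor3

/-!
# helper41: assembly of S9036, S9037 from the packages of `H41CptSpec`
-/

set_option autoImplicit false
universe u
open CategoryTheory CategoryTheory.Limits Opposite

namespace Groth.Agent.R2.H41.CptAsm2

open Groth.Agent.R2.H41.ResSpec Groth.Agent.R2.H41.CptSpec

variable {C : Type u} [SmallCategory C] {J : GrothendieckTopology C}
  (O : Sheaf J CommRingCat.{u})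

theorem s9037_of (qc : PkgQcCompact.{u}) (wc : PkgWcProj.{u})
    [HasDerivedCategory.{u} (ModSite.Mod O)] [HasCoproducts.{u} (DerivedCategory (ModSite.Mod O))]
    (U : C) (hqc : CohCx.IsQcObject ((presheafToSheaf J (Type u)).obj (yoneda.obj U)))
    (hwc : CohSite.IsWeaklyContractible J U) :
    CohDer.IsCompactObject
      ((DerivedCategory.singleFunctor (ModSite.Mod O) 0).obj (ModSite.freeOn O U)) := by
  haveI : IsGrothendieckAbelian.{u} (ModSite.Mod O) :=
    Groth.Agent.Lib.Helper21.ModTensor3.isGrothendieckAbelian O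
  haveI : Projective (ModSite.freeOn O U) := wc O U hwc
  exact Groth.Agent.Lib.Helper17.DBrown.isCompactObject_Q_single (qc O U hqc) 0

theorem s9036_of (good : PkgGoodSum.{u, u + 1}) (tower : PkgTower.{u, u + 1})
    (col : PkgColim.{u, u + 1}) (lift : PkgLift.{u, u + 1}) (stupid : PkgStupid.{u, u + 1})
    (fin : PkgFin.{u, u + 1}) (coyo : PkgCoyo.{u, u + 1}) (qc : PkgQcCompact.{u})
    (gen : PkgQcGen.{u})
    [HasFiniteBiproducts (ModSite.Mod O)]
    [HasDerivedCategory.{u} (ModSite.Mod O)] [HasCoproducts.{u} (DerivedCategory (ModSite.Mod O))]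
    (hC : ∀ V : C, ∃ R ∈ J V, ∀ ⦃W : C⦄ (g : W ⟶ V), R g →
      ∃ (U : C) (a : W ⟶ U) (b : U ⟶ V),
        CohCx.IsQcObject ((presheafToSheaf J (Type u)).obj (yoneda.obj U)) ∧ a ≫ b = g)
    (K : DerivedCategory (ModSite.Mod O)) (hK : CohDer.IsCompactObject K) :
    ∃ (L : CochainComplex (ModSite.Mod O) ℤ) (a b : ℤ),
      (∀ i : ℤ, i < a ∨ b < i → IsZero (L.X i)) ∧
      (∀ i : ℤ, ∃ (n : ℕ) (U : Fin n → C),
        (∀ j, CohCx.IsQcObject ((presheafToSheaf J (Type u)).obj (yoneda.obj (U j)))) ∧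
        Nonempty (L.X i ≅ ⨁ fun j => ModSite.freeOn O (U j))) ∧
      Nonempty (Retract K (DerivedCategory.Q.obj L)) := by
  haveI : IsGrothendieckAbelian.{u} (ModSite.Mod O) :=
    Groth.Agent.Lib.Helper21.ModTensor3.isGrothendieckAbelian O
  let S : Set (ModSite.Mod O) := fun M =>
    ∃ U : C, CohCx.IsQcObject ((presheafToSheaf J (Type u)).obj (yoneda.obj U)) ∧
      M = ModSite.freeOn O U
  have h1 : ∀ X : ModSite.Mod O, ∃ (ι : Type u) (E : ι → ModSite.Mod O) (π : ∐ E ⟶ X),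
      (∀ i, E i ∈ S) ∧ Epi π := gen O hC
  have h2 : ∀ E ∈ S, ∀ ι : Type u,
      PreservesColimitsOfShape (Discrete ι) (preadditiveCoyoneda.obj (op E)) := by
    rintro E ⟨U, hU, rfl⟩ ι
    exact CptAsm.s9103_of O coyo qc U hU ι
  obtain ⟨L, a, b, hL1, hL2, hL3⟩ :=
    CptAsm.s9035_of good tower col lift stupid fin S h1 h2 K hK
  refine ⟨L, a, b, hL1, ?_, hL3⟩
  intro i
  obtain ⟨n, E, hE, ⟨e⟩⟩ := hL2 i
  choose U hU hEU using hE
  refine ⟨n, U, hU, ⟨e ≪≫ ?_⟩⟩
  exact biproduct.mapIso (fun j => eqToIso (hEU j))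

end Groth.Agent.R2.H41.CptAsm2
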