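import Groth.Agent.R2.H41CptSpec
import Groth.Agent.Lib.Helper21DCoprod
import Mathlib.Algebra.Homology.DerivedCategory.ShortExact
import Mathlib.Algebra.Homology.HomologicalComplexLimits

/-!
# helper41: PkgFinStep of PROJ:compact (from PkgCoyo)
-/

set_option autoImplicit false
universe v u
open CategoryTheory CategoryTheory.Limits Opposite

namespace Groth.Agent.R2.H41.CptFinStep

open Groth.Agent.R2.H41.CptSpec Groth.Agent.Lib.Helper1.Compact

section kill

variable {D : Type u} [Category.{v} D] [Preadditive D] {ι : Type v} (X : ι → D) [HasCoproduct X]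

lemma kill_idem (s : Finset ι) : kill X s ≫ kill X s = kill X s := by
  classical
  rw [kill_comp_kill, Finset.union_self]

/-- transfer of `exists_kill` to an arbitrary colimit cofan. -/
lemma exists_kill_of_isColimit [HasCoproducts.{v} D] {K : D} (hK : CohDer.IsCompactObject K)
    (c : Cofan X) (hc : IsColimit c) (κ : Finset ι → (c.pt ⟶ c.pt))
    (hκ₁ : ∀ (s : Finset ι) (k : ι), k ∈ s → c.inj k ≫ κ s = 0)
    (hκ₂ : ∀ (s : Finset ι) (k : ι), k ∉ s → c.inj k ≫ κ s = c.inj k)
    (x : K ⟶ c.pt) : ∃ s : Finset ι, x ≫ κ s = 0 := by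
  classical
  let α : ∐ X ≅ c.pt := IsColimit.coconePointUniqueUpToIso (coproductIsCoproduct X) hc
  have hα : ∀ k, Sigma.ι X k ≫ α.hom = c.inj k := fun k =>
    IsColimit.comp_coconePointUniqueUpToIso_hom (coproductIsCoproduct X) hc ⟨k⟩
  obtain ⟨s, hs⟩ := IsCompactObject.exists_kill hK X (x ≫ α.inv)
  refine ⟨s, ?_⟩
  have h : κ s = α.inv ≫ kill X s ≫ α.hom := by
    rw [← cancel_epi α.hom]
    refine Sigma.hom_ext _ _ (fun k => ?_)
    rw [reassoc_of% (hα k), Iso.hom_inv_id_assoc]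
    by_cases hk : k ∈ s
    · rw [hκ₁ s k hk, ι_kill_of_mem_assoc X hk, zero_comp]
    · rw [hκ₂ s k hk, ι_kill_of_notMem_assoc X hk, hα]
  rw [h, ← Category.assoc, ← Category.assoc, hs, zero_comp]

end kill

section kernelKill

variable {A : Type u} [Category.{v} A] [Abelian A] [HasFiniteBiproducts A] {ι : Type v}
  (E : ι → A) [HasCoproduct E]

lemma isFinSum_kernel_kill (S : Set A) (hE : ∀ i, E i ∈ S) (s : Finset ι) :
    IsFinSum S (kernel (kill E s)) := by
  classical
  let n := s.card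
  let e : Fin n ≃ s := s.equivFin.symm
  let E' : Fin n → A := fun j => E (e j).1
  let j : ⨁ E' ⟶ ∐ E := biproduct.desc (fun j => Sigma.ι E (e j).1)
  let r : ∐ E ⟶ ⨁ E' := biproduct.lift (fun j => Sigma.π E (e j).1)
  have hjr : j ≫ r = 𝟙 _ := by
    refine biproduct.hom_ext' _ _ (fun a => ?_)
    refine biproduct.hom_ext _ _ (fun b => ?_)
    simp only [j, r, biproduct.ι_desc_assoc, Category.assoc, biproduct.lift_π, Category.comp_id]
    by_cases hab : a = b
    · subst hab
      rw [Sigma.ι_π_eq_id, biproduct.ι_π_self]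
    · have : (e a).1 ≠ (e b).1 := fun h => hab (e.injective (Subtype.ext h))
      rw [Sigma.ι_π_of_ne _ this, biproduct.ι_π_ne _ hab]
  have hjk : j ≫ kill E s = 0 := by
    refine biproduct.hom_ext' _ _ (fun a => ?_)
    simp only [j, biproduct.ι_desc_assoc, comp_zero]
    exact ι_kill_of_mem E (e a).2
  have hrj : ∀ {W : A} (x : W ⟶ ∐ E), x ≫ kill E s = 0 → (x ≫ r) ≫ j = x := by
    intro W x hx
    have h1 := eq_sum_of_comp_kill_eq_zero E x s hx
    have h2 : r ≫ j = ∑ a : Fin n, Sigma.π E (e a).1 ≫ Sigma.ι E (e a).1 := by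
      simp only [r, j]
      rw [biproduct.lift_desc]
    rw [Category.assoc, h2, Preadditive.comp_sum]
    conv_rhs => rw [h1]
    rw [← Finset.sum_coe_sort s (fun k => (x ≫ Sigma.π E k) ≫ Sigma.ι E k),
      ← Equiv.sum_comp e (fun i : s => (x ≫ Sigma.π E i.1) ≫ Sigma.ι E i.1)]
    simp only [Category.assoc]
  haveI : Mono j := mono_of_mono_fac hjr
  have hlim : IsLimit (KernelFork.ofι j hjk) :=
    KernelFork.IsLimit.ofι j hjk (fun x _ => x ≫ r) (fun x hx => hrj x hx)
      (fun x hx m hm => by rw [← cancel_mono j, hm, hrj x hx])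
  exact ⟨n, E', fun a => hE _, ⟨(limit.isLimit _).conePointUniqueUpToIso hlim⟩⟩

end kernelKill

section basic

variable {A : Type u} [Category.{v} A] [Abelian A]

lemma isFinSum_of_iso [HasFiniteBiproducts A] {S : Set A} {M N : A} (e : M ≅ N)
    (h : IsFinSum S M) : IsFinSum S N := by
  obtain ⟨n, E, hE, ⟨i⟩⟩ := h
  exact ⟨n, E, hE, ⟨e.symm ≪≫ i⟩⟩

lemma isSum_of_iso [HasCoproducts.{v} A] {S : Set A} {M N : A} (e : M ≅ N)
    (h : IsSum S M) : IsSum S N := by
  obtain ⟨ι, E, hE, ⟨i⟩⟩ := h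
  exact ⟨ι, E, hE, ⟨e.symm ≪≫ i⟩⟩

lemma isSum_of_isFinSum [HasFiniteBiproducts A] [HasCoproducts.{v} A] {S : Set A} {M : A}
    (h : IsFinSum S M) : IsSum S M := by
  obtain ⟨n, E, hE, ⟨i⟩⟩ := h
  refine ⟨ULift.{v} (Fin n), fun k => E k.down, fun k => hE _, ⟨i ≪≫ biproduct.isoCoproduct E ≪≫
    (Sigma.reindex (Equiv.ulift.{v, 0} : ULift.{v} (Fin n) ≃ Fin n) E).symm⟩⟩

variable [HasDerivedCategory.{v} A]

open DerivedCategory in
/-- lifting through the kernel of an epimorphism of complexes -/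
lemma exists_lift_kernel {L T : CochainComplex A ℤ} (π : L ⟶ T) [Epi π] {K : DerivedCategory A}
    (φ : K ⟶ Q.obj L) (h : φ ≫ Q.map π = 0) :
    ∃ φ' : K ⟶ Q.obj (kernel π), φ' ≫ Q.map (kernel.ι π) = φ := by
  let S : ShortComplex (CochainComplex A ℤ) := ShortComplex.mk (kernel.ι π) π (kernel.condition π)
  have hS : S.ShortExact :=
    { exact := ShortComplex.exact_of_f_is_kernel _ (kernelIsKernel π)
      mono_f := inferInstanceAs (Mono (kernel.ι π))
      epi_g := inferInstanceAs (Epi π) }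
  obtain ⟨g, hg⟩ := Pretriangulated.Triangle.coyoneda_exact₂ _ (triangleOfSES_distinguished hS) φ h
  exact ⟨g, hg.symm⟩

end basic

section kernelCx

variable {A : Type u} [Category.{v} A] [Abelian A] {L : CochainComplex A ℤ} {c : ℤ} {T : A}
  (q : L.X c ⟶ T) (hq : ∀ i : ℤ, (ComplexShape.up ℤ).Rel i c → L.d i c ≫ q = 0)

/-- the map to the single complex -/
noncomputable abbrev toSingle : L ⟶ (HomologicalComplex.single A (ComplexShape.up ℤ) c).obj T :=
  HomologicalComplex.mkHomToSingle q hq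

lemma epi_toSingle [Epi q] : Epi (toSingle q hq) := by
  apply HomologicalComplex.epi_of_epi_f
  intro i
  by_cases hi : i = c
  · subst hi
    rw [HomologicalComplex.mkHomToSingle_f]
    infer_instance
  · exact ⟨fun _ _ _ =>
      (HomologicalComplex.isZero_single_obj_X (ComplexShape.up ℤ) c T i hi).eq_of_src _ _⟩

/-- the terms of the kernel -/
noncomputable def kernelXIso (i : ℤ) :
    (kernel (toSingle q hq)).X i ≅ kernel ((toSingle q hq).f i) :=
  PreservesKernel.iso (HomologicalComplex.eval A (ComplexShape.up ℤ) i) (toSingle q hq)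

noncomputable def kernelXIsoOfNe (i : ℤ) (hi : i ≠ c) : (kernel (toSingle q hq)).X i ≅ L.X i :=
  kernelXIso q hq i ≪≫ kernelIsoOfEq
    ((HomologicalComplex.isZero_single_obj_X (ComplexShape.up ℤ) c T i hi).eq_of_tgt _ 0) ≪≫
    kernelZeroIsoSource

noncomputable def kernelXIsoSelf : (kernel (toSingle q hq)).X c ≅ kernel q :=
  kernelXIso q hq c ≪≫ kernelIsoOfEq (HomologicalComplex.mkHomToSingle_f q hq) ≪≫
    kernelCompMono q _

instance mono_kernel_ι_f (i : ℤ) : Mono ((kernel.ι (toSingle q hq)).f i) :=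
  inferInstanceAs (Mono ((HomologicalComplex.eval A (ComplexShape.up ℤ) i).map
    (kernel.ι (toSingle q hq))))

end kernelCx

end Groth.Agent.R2.H41.CptFinStep

namespace Groth.Agent.R2.H41.CptFinStep

open Groth.Agent.R2.H41.CptSpec Groth.Agent.Lib.Helper1.Compact DerivedCategory

theorem pkgFinStep (coyo : PkgCoyo.{v, u}) : PkgFinStep.{v, u} := by
  intro A _ _ _ _ _ _ S h2 K hK L c hL hfin ⟨ρ⟩
  classical
  obtain ⟨Λ, E, hE, ⟨e⟩⟩ := hL c
  -- Step 1: the differential into degree `c` lands in a finite subsum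
  have step1 : ∃ Λ₀ : Finset Λ, ∀ i : ℤ, (ComplexShape.up ℤ).Rel i c →
      L.d i c ≫ e.hom ≫ kill E Λ₀ = 0 := by
    obtain ⟨n, E', hE', ⟨e'⟩⟩ := hfin (c - 1) (by omega)
    have hcpt : ∀ j, CohDer.IsCompactObject (E' j) := fun j => (coyo (E' j)).2 (h2 _ (hE' j))
    choose s hs using fun j => IsCompactObject.exists_kill (hcpt j) E
      (biproduct.ι E' j ≫ e'.inv ≫ L.d (c - 1) c ≫ e.hom)
    refine ⟨Finset.univ.biUnion s, ?_⟩
    intro i hi
    obtain rfl : i = c - 1 := by
      have : i + 1 = c := hi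
      omega
    rw [← cancel_epi e'.inv]
    refine biproduct.hom_ext' _ _ (fun j => ?_)
    rw [comp_zero, comp_zero]
    have := comp_kill_eq_zero_of_subset E _
      (Finset.subset_biUnion_of_mem s (Finset.mem_univ j)) (hs j)
    simpa only [Category.assoc] using this
  obtain ⟨Λ₀, hΛ₀⟩ := step1
  -- Step 2: compactness of `K` in `D(A)`
  have hq₀ : ∀ i : ℤ, (ComplexShape.up ℤ).Rel i c → L.d i c ≫ (e.hom ≫ kill E Λ₀) = 0 := hΛ₀
  let π₀ := toSingle (e.hom ≫ kill E Λ₀) hq₀
  let sg := HomologicalComplex.single A (ComplexShape.up ℤ) c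
  have hcol : IsColimit (Cofan.mk (Q.obj (sg.obj (∐ E)))
      (fun l => Q.map (sg.map (Sigma.ι E l)))) :=
    Groth.Agent.Lib.Helper21.DCoprod.isColimitQMapCofan _
      (isColimitCofanMkObjOfIsColimit sg _ _ (coproductIsCoproduct E))
  obtain ⟨Λ₂, hΛ₂⟩ := exists_kill_of_isColimit (fun l => Q.obj (sg.obj (E l))) hK _ hcol
    (fun s => Q.map (sg.map (kill E s)))
    (fun s k hk => by
      change Q.map (sg.map (Sigma.ι E k)) ≫ Q.map (sg.map (kill E s)) = 0
      rw [← Functor.map_comp, ← Functor.map_comp, ι_kill_of_mem E hk, Functor.map_zero,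
        Functor.map_zero])
    (fun s k hk => by
      change Q.map (sg.map (Sigma.ι E k)) ≫ Q.map (sg.map (kill E s)) =
        Q.map (sg.map (Sigma.ι E k))
      rw [← Functor.map_comp, ← Functor.map_comp, ι_kill_of_notMem E hk])
    (ρ.i ≫ Q.map π₀)
  -- Step 3: the new complex
  let κ := kill E (Λ₀ ∪ Λ₂)
  have hκ : κ = kill E Λ₀ ≫ kill E Λ₂ := (kill_comp_kill E Λ₀ Λ₂).symm
  let p := Abelian.coimage.π κ
  let m := Abelian.factorThruCoimage κ
  have hpm : p ≫ m = κ := Abelian.coimage.fac κ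
  have hmp : m ≫ p = 𝟙 _ := by
    rw [← cancel_epi p, ← cancel_mono m]
    simp only [Category.assoc, Category.id_comp]
    rw [hpm, reassoc_of% hpm]
    exact kill_idem E _
  have hq : ∀ i : ℤ, (ComplexShape.up ℤ).Rel i c → L.d i c ≫ (e.hom ≫ p) = 0 := by
    intro i hi
    rw [← cancel_mono m, zero_comp]
    simp only [Category.assoc]
    rw [hpm, hκ]
    rw [← Category.assoc e.hom, ← Category.assoc (L.d i c), ← Category.assoc (L.d i c),
      Category.assoc (L.d i c), hΛ₀ i hi, zero_comp]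
  let π' := toSingle (e.hom ≫ p) hq
  haveI : Epi π' := epi_toSingle _ hq
  have hππ : π' ≫ sg.map m = π₀ ≫ sg.map (kill E Λ₂) := by
    apply HomologicalComplex.to_single_hom_ext
    simp only [π', π₀, sg, HomologicalComplex.comp_f, HomologicalComplex.mkHomToSingle_f,
      HomologicalComplex.single_map_f_self, Category.assoc, Iso.inv_hom_id_assoc]
    rw [reassoc_of% hpm, hκ]
    simp only [Category.assoc]
  have hzero : ρ.i ≫ Q.map π' = 0 := by
    have h1 : ρ.i ≫ Q.map π' ≫ Q.map (sg.map m) = 0 := by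
      rw [← Functor.map_comp, hππ, Functor.map_comp]
      simpa only [Category.assoc] using hΛ₂
    have h2 : Q.map (sg.map m) ≫ Q.map (sg.map p) = 𝟙 _ := by
      rw [← Functor.map_comp, ← Functor.map_comp, hmp, CategoryTheory.Functor.map_id,
        CategoryTheory.Functor.map_id]
    calc ρ.i ≫ Q.map π' = (ρ.i ≫ Q.map π' ≫ Q.map (sg.map m)) ≫ Q.map (sg.map p) := by
          simp only [Category.assoc]
          rw [h2, Category.comp_id]
      _ = 0 := by rw [h1, zero_comp]
  obtain ⟨φ', hφ'⟩ := exists_lift_kernel π' ρ.i hzero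
  -- terms
  have hc : IsFinSum S ((kernel π').X c) := by
    have i1 : (kernel π').X c ≅ kernel (e.hom ≫ p) := kernelXIsoSelf _ hq
    have i2 : kernel (e.hom ≫ p) ≅ kernel p := kernelIsIsoComp e.hom p
    have i3 : kernel p ≅ kernel κ := (kernelCompMono p m).symm ≪≫ kernelIsoOfEq hpm
    exact isFinSum_of_iso (i1 ≪≫ i2 ≪≫ i3).symm (isFinSum_kernel_kill E S hE _)
  refine ⟨kernel π', ?_, ?_, ?_, ⟨⟨φ', Q.map (kernel.ι π') ≫ ρ.r, ?_⟩⟩⟩
  · intro i
    by_cases hi : i = c
    · subst hi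
      exact isSum_of_isFinSum hc
    · exact isSum_of_iso (kernelXIsoOfNe _ hq i hi).symm (hL i)
  · intro i hi
    by_cases hic : i = c
    · subst hic
      exact hc
    · exact isFinSum_of_iso (kernelXIsoOfNe _ hq i hic).symm (hfin i (by omega))
  · intro i hz
    exact IsZero.of_mono ((kernel.ι π').f i) hz
  · rw [reassoc_of% hφ', ρ.retract]

end Groth.Agent.R2.H41.CptFinStep
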