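import Groth.Agent.R2.H41CptSpec
import Mathlib.CategoryTheory.Sites.Limits
import Mathlib.CategoryTheory.Sites.LocallySurjective

/-!
# helper41: PkgLocFin of PROJ:compact — sections of a direct sum of sheaves of modules are locally
in a finite subsum
-/

set_option autoImplicit false
universe u
open CategoryTheory CategoryTheory.Limits Opposite

namespace Groth.Agent.R2.H41.CptLocFin

section Ab

variable {ι : Type u} {G : Discrete ι ⥤ AddCommGrpCat.{u}} (c : Cocone G) (hc : IsColimit c)

/-- the injections, as additive maps -/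
def inj (i : ι) : G.obj ⟨i⟩ →+ c.pt := (c.ι.app ⟨i⟩).hom

open Classical in
/-- the canonical map from the direct sum -/
noncomputable def ρ : (DirectSum ι fun i => G.obj ⟨i⟩) →+ c.pt :=
  DirectSum.toAddMonoid (inj c)

open Classical in
lemma ρ_of (i : ι) (a : G.obj ⟨i⟩) :
    ρ c (DirectSum.of (fun i => G.obj ⟨i⟩) i a) = inj c i a := by
  unfold ρ
  exact DirectSum.toAddMonoid_of (inj c) i a

include hc in
lemma ρ_surjective : Function.Surjective (ρ c) := by
  classical
  let N : AddSubgroup c.pt := (ρ c).range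
  let q : c.pt ⟶ AddCommGrpCat.of (c.pt ⧸ N) := AddCommGrpCat.ofHom (QuotientAddGroup.mk' N)
  have h : q = 0 := by
    apply hc.hom_ext
    rintro ⟨i⟩
    ext a
    change (QuotientAddGroup.mk' N) (inj c i a) = 0
    rw [QuotientAddGroup.mk'_apply, QuotientAddGroup.eq_zero_iff]
    exact ⟨DirectSum.of (fun i => G.obj ⟨i⟩) i a, ρ_of c i a⟩
  intro s
  have hs : (QuotientAddGroup.mk' N) s = 0 := by
    have := ConcreteCategory.congr_hom h s
    exact this
  rw [QuotientAddGroup.mk'_apply, QuotientAddGroup.eq_zero_iff] at hs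
  exact hs

include hc in
lemma exists_finsum (s : c.pt) : ∃ (t : Finset ι) (y : ∀ i, G.obj ⟨i⟩),
    s = ∑ i ∈ t, inj c i (y i) := by
  classical
  obtain ⟨z, rfl⟩ := ρ_surjective c hc s
  refine ⟨DFinsupp.support z, fun i => z i, ?_⟩
  conv_lhs => rw [← DirectSum.sum_support_of z]
  rw [map_sum]
  refine Finset.sum_congr rfl (fun i _ => ?_)
  exact ρ_of c i (z i)

end Ab

section Sheaf

variable {C : Type u} [SmallCategory C] (J : GrothendieckTopology C) {ι : Type u}
  {G : Discrete ι ⥤ Sheaf J AddCommGrpCat.{u}} (c : Cocone G) (hc : IsColimit c)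

include hc in
lemma exists_local_finsum (W : C) (x : c.pt.obj.obj (op W)) :
    ∃ R ∈ J W, ∀ ⦃V : C⦄ (g : V ⟶ W), R g →
      ∃ (t : Finset ι) (y : ∀ i, (G.obj ⟨i⟩).obj.obj (op V)),
        (c.pt.obj.map g.op).hom x = ∑ i ∈ t, ((c.ι.app ⟨i⟩).hom.app (op V)).hom (y i) := by
  let E := colimit.cocone (G ⋙ sheafToPresheaf J AddCommGrpCat.{u})
  have hE : IsColimit E := colimit.isColimit _
  let sc := Sheaf.sheafifyCocone E
  have hsc : IsColimit sc := Sheaf.isColimitSheafifyCocone E hE
  let α : c.pt ≅ sc.pt := hc.coconePointUniqueUpToIso hsc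
  have hα : ∀ k, c.ι.app k ≫ α.hom = sc.ι.app k := fun k =>
    IsColimit.comp_coconePointUniqueUpToIso_hom hc hsc k
  let x' : (sheafify J E.pt).obj (op W) := (α.hom.hom.app (op W)).hom x
  refine ⟨Presheaf.imageSieve (toSheafify J E.pt) x', Presheaf.imageSieve_mem J _ x', ?_⟩
  intro V g hg
  obtain ⟨s', hs'⟩ := hg
  let cV := ((evaluation Cᵒᵖ AddCommGrpCat.{u}).obj (op V)).mapCocone E
  have hcV : IsColimit cV := isColimitOfPreserves _ hE
  obtain ⟨t, y, hy⟩ := exists_finsum cV hcV s'
  refine ⟨t, y, ?_⟩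
  -- injectivity of `α` on sections over `V`
  have hinj : Function.Injective (α.hom.hom.app (op V)).hom := by
    intro a b hab
    have h1 : ∀ z, (α.inv.hom.app (op V)).hom ((α.hom.hom.app (op V)).hom z) = z := by
      intro z
      have := congrArg (fun f => (f.hom.app (op V)).hom z) α.hom_inv_id
      exact this
    rw [← h1 a, ← h1 b, hab]
  apply hinj
  rw [map_sum]
  have h2 : (α.hom.hom.app (op V)).hom ((c.pt.obj.map g.op).hom x) =
      ((sheafify J E.pt).map g.op).hom x' :=
    ConcreteCategory.congr_hom (α.hom.hom.naturality g.op) x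
  rw [h2, ← hs', hy, map_sum]
  refine Finset.sum_congr rfl (fun i _ => ?_)
  have h3 := congrArg (fun f => (f.hom.app (op V)).hom (y i)) (hα ⟨i⟩)
  have h4 := congrArg (fun f => (f.app (op V)).hom (y i)) (Sheaf.sheafifyCocone_ι_app_val E ⟨i⟩)
  exact h4.symm.trans h3.symm

end Sheaf

end Groth.Agent.R2.H41.CptLocFin

namespace Groth.Agent.R2.H41.CptLocFin

open Groth.Agent.R2.H41.TypeASpec Groth.Agent.Lib.Helper1.Compact Groth.Agent.Lib.Helper17.Hyp
  Groth.Agent.R2.H41.CptSpec Groth.Agent.Lib.Helper21 Groth.Agent.Lib.Helper21.FreeAb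

variable {C : Type u} [SmallCategory C] {J : GrothendieckTopology C}
  (O : Sheaf J CommRingCat.{u})

/-- sections of the underlying abelian sheaf -/
noncomputable abbrev sec (M : ModSite.Mod O) (X : C) (h : (fr O).obj X ⟶ M) :
    (ModSite.toAb M).obj.obj (op X) := secEquiv O M X h

lemma sec_comp {M N : ModSite.Mod O} {X : C} (h : (fr O).obj X ⟶ M) (p : M ⟶ N) :
    sec O N X (h ≫ p) =
      (((SheafOfModules.toSheaf (ModSite.ringSh O)).map p).hom.app (op X)).hom (sec O M X h) :=
  secEquiv_comp O h p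

lemma sec_map {M : ModSite.Mod O} {W V : C} (g : V ⟶ W) (h : (fr O).obj W ⟶ M) :
    sec O M V ((fr O).map g ≫ h) = ((ModSite.toAb M).obj.map g.op).hom (sec O M W h) := by
  change CohFree.evalGen J V (ModSite.toAb M)
      ((freeShRAdj (ModSite.ringSh O)).homEquiv ((frSh J).obj V) M
        ((freeShR (ModSite.ringSh O)).map ((frSh J).map g) ≫ h)) = _
  rw [Adjunction.homEquiv_naturality_left]
  exact CohFree.evalGen_freeSheafMap_comp J g (ModSite.toAb M) _

lemma sec_injective (M : ModSite.Mod O) (X : C) : Function.Injective (sec O M X) :=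
  (secEquiv O M X).injective

lemma sec_zero (M : ModSite.Mod O) (X : C) : sec O M X 0 = 0 := by
  have h := sec_comp O (0 : (fr O).obj X ⟶ M) (0 : M ⟶ M)
  rw [comp_zero] at h
  rw [h, Functor.map_zero]
  rfl

theorem pkgLocFin : PkgLocFin.{u} := by
  intro C _ J O ι F W φ
  classical
  let T := SheafOfModules.toSheaf (ModSite.ringSh O)
  let c₀ : Cocone (Discrete.functor F) := Cofan.mk (∐ F) (Sigma.ι F)
  have hc₀ : IsColimit c₀ := coproductIsCoproduct F
  have hc : IsColimit (T.mapCocone c₀) := isColimitOfPreserves T hc₀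
  obtain ⟨S, hS, h⟩ := exists_local_finsum J (T.mapCocone c₀) hc W (sec O (∐ F) W φ)
  refine ⟨S, hS, fun V g hg => ?_⟩
  obtain ⟨t, y, hy⟩ := h g hg
  refine ⟨t, ?_⟩
  apply sec_injective
  rw [sec_zero, ← Category.assoc, sec_comp, sec_map]
  have hy' : ((ModSite.toAb (∐ F)).obj.map g.op).hom (sec O (∐ F) W φ) =
      ∑ i ∈ t, ((T.map (Sigma.ι F i)).hom.app (op V)).hom (y i) := hy
  rw [hy', map_sum]
  refine Finset.sum_eq_zero (fun i hi => ?_)
  have h1 : T.map (Sigma.ι F i) ≫ T.map (kill F t) = 0 := by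
    rw [← Functor.map_comp, ι_kill_of_mem F hi, Functor.map_zero]
  have h2 := congrArg (fun f => (f.hom.app (op V)).hom (y i)) h1
  exact h2

end Groth.Agent.R2.H41.CptLocFin
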