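import Groth.Prelude.Def_ModSite
import Groth.Prelude.Def_CohCx
import Groth.Agent.Lib.Helper17Hyp26

/-!
# helper41: interface (Spec) for the mini-project PROJ:typeA -> S9115, S9116, S9117

Setting: `(C, J, O)` small ringed site, `B` a set of objects with
* `HB1`: every object has a covering family by members of `B`,
* `HB2`: every `U ∈ B` is quasi-compact (`h_U^#` is a quasi-compact object of the topos),
* `HB3`: `C` has pullbacks and `U₁ ×_U U₂` is quasi-compact for `U, U₁, U₂ ∈ B`.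

A module is of *type A* if it is `Coker(⊕_{j≤m} j_{V_j!}O → ⊕_{i≤n} j_{U_i!}O)`, `U_i, V_j ∈ B`.
We work with the FUNCTOR `fr O = frModR (ringSh O) : C ⥤ Mod O` (`fr U ≅ freeOn O U = j_{U!}O`, Lib
`Helper17Hyp26.nonempty_frModR_iso_freeOn`; `LocFr J (fr O)` is Lib `Helper17Hyp14.locFr_frModR`;
`secEquiv O M X : (fr X ⟶ M) ≃ M(X)` is Lib `Helper17Hyp26.secEquiv`), and with index types any
`Fintype` in `Type`:

* `IsFG O B F`: there is an epi `∐_{i ∈ ι} fr (U i) ⟶ F`, `ι` finite, `U i ∈ B`;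
* `IsFP O B F`: there is such an epi whose kernel is `IsFG`.

Each package is a closed `Prop`; a package file proves `theorem pkgX : TypeASpec.PkgX`
(it may take other packages as hypotheses, e.g. `pkgR (q : PkgQ) : PkgR`).
-/

set_option autoImplicit false
universe u
open CategoryTheory CategoryTheory.Limits Opposite

namespace Groth.Agent.R2.H41.TypeASpec

open Groth.Agent.Lib.Helper17.Hyp

variable {C : Type u} [SmallCategory C]

/-- `U ↦ O ⊗ ℤ_U ≅ j_{U!} O_U`, as a functor. -/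
noncomputable abbrev fr {J : GrothendieckTopology C} (O : Sheaf J CommRingCat.{u}) :
    C ⥤ ModSite.Mod O := frModR (ModSite.ringSh O)

/-- every object has a covering family by members of `B`. -/
def HB1 (J : GrothendieckTopology C) (B : Set C) : Prop :=
  ∀ X : C, ∃ (κ : Type u) (Y : κ → C) (g : ∀ k, Y k ⟶ X), Sieve.ofArrows Y g ∈ J X ∧ ∀ k, Y k ∈ B

/-- every member of `B` is quasi-compact. -/
def HB2 (J : GrothendieckTopology C) (B : Set C) : Prop :=
  ∀ U ∈ B, CohCx.IsQcObject ((presheafToSheaf J (Type u)).obj (yoneda.obj U))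

/-- fibre products of members of `B` over members of `B` are quasi-compact. -/
def HB3 (J : GrothendieckTopology C) (B : Set C) [HasPullbacks C] : Prop :=
  ∀ (U U₁ U₂ : C) (f₁ : U₁ ⟶ U) (f₂ : U₂ ⟶ U), U ∈ B → U₁ ∈ B → U₂ ∈ B →
    CohCx.IsQcObject ((presheafToSheaf J (Type u)).obj (yoneda.obj (pullback f₁ f₂)))

/-- type A, verbatim as in the statements S9114-S9117. -/
def IsTypeA {J : GrothendieckTopology C} (O : Sheaf J CommRingCat.{u}) (B : Set C)
    (F : ModSite.Mod O) : Prop :=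
  ∃ (m' n' : ℕ) (V' : Fin m' → C) (U' : Fin n' → C)
    (ψ : (∐ fun j => ModSite.freeOn O (V' j)) ⟶ ∐ fun i => ModSite.freeOn O (U' i)),
    (∀ j, V' j ∈ B) ∧ (∀ i, U' i ∈ B) ∧ Nonempty (F ≅ cokernel ψ)

/-- finitely generated by sections over members of `B`. -/
def IsFG {J : GrothendieckTopology C} (O : Sheaf J CommRingCat.{u}) (B : Set C)
    (F : ModSite.Mod O) : Prop :=
  ∃ (ι : Type) (_ : Fintype ι) (U : ι → C) (p : (∐ fun i => (fr O).obj (U i)) ⟶ F),
    (∀ i, U i ∈ B) ∧ Epi p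

/-- finitely presented by sections over members of `B`. -/
def IsFP {J : GrothendieckTopology C} (O : Sheaf J CommRingCat.{u}) (B : Set C)
    (F : ModSite.Mod O) : Prop :=
  ∃ (ι : Type) (_ : Fintype ι) (U : ι → C) (p : (∐ fun i => (fr O).obj (U i)) ⟶ F),
    (∀ i, U i ∈ B) ∧ Epi p ∧ IsFG O B (kernel p)

/-! ### Site-level packages -/

/-- PkgQ (sites only): a covering family of a quasi-compact object has a finite covering
subfamily. -/
def PkgQ : Prop :=
  ∀ {C : Type u} [SmallCategory C] (J : GrothendieckTopology C) (U : C),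
    CohCx.IsQcObject ((presheafToSheaf J (Type u)).obj (yoneda.obj U)) →
    ∀ (κ : Type u) (W : κ → C) (g : ∀ k, W k ⟶ U), Sieve.ofArrows W g ∈ J U →
      ∃ t : Finset κ, Sieve.ofArrows (fun k : t => W k.1) (fun k => g k.1) ∈ J U

/-- PkgN (naturality of `secEquiv` in the object):
`secEquiv (fr.map g ≫ h) = restriction along g of secEquiv h`. -/
def PkgN : Prop :=
  ∀ {C : Type u} [SmallCategory C] {J : GrothendieckTopology C} (O : Sheaf J CommRingCat.{u})
    (M : ModSite.Mod O) {X Y : C} (g : Y ⟶ X) (h : (fr O).obj X ⟶ M),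
    secEquiv O M Y ((fr O).map g ≫ h) = (M.val.map g.op).hom (secEquiv O M X h)

/-- PkgG (gluing): maps `t k : fr (W k) ⟶ M` on a covering family which agree on all overlaps glue
to a map `fr U ⟶ M`. -/
def PkgG : Prop :=
  ∀ {C : Type u} [SmallCategory C] {J : GrothendieckTopology C} (O : Sheaf J CommRingCat.{u})
    (M : ModSite.Mod O) (U : C) (κ : Type) (W : κ → C) (g : ∀ k, W k ⟶ U),
    Sieve.ofArrows W g ∈ J U → ∀ (t : ∀ k, (fr O).obj (W k) ⟶ M),
    (∀ (k k' : κ) (Z : C) (a : Z ⟶ W k) (b : Z ⟶ W k'), a ≫ g k = b ≫ g k' →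
      (fr O).map a ≫ t k = (fr O).map b ≫ t k') →
    ∃ s : (fr O).obj U ⟶ M, ∀ k, (fr O).map (g k) ≫ s = t k

/-- PkgR (local lifting with finite refinement). -/
def PkgR : Prop :=
  ∀ {C : Type u} [SmallCategory C] {J : GrothendieckTopology C} (O : Sheaf J CommRingCat.{u})
    (B : Set C), HB1 J B → HB2 J B →
    ∀ {G' G : ModSite.Mod O} (p : G' ⟶ G) [Epi p] (U : C), U ∈ B → ∀ (s : (fr O).obj U ⟶ G),
      ∃ (N : ℕ) (W : Fin N → C) (g : ∀ k, W k ⟶ U) (b : ∀ k, (fr O).obj (W k) ⟶ G'),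
        (∀ k, W k ∈ B) ∧ Sieve.ofArrows W g ∈ J U ∧ ∀ k, b k ≫ p = (fr O).map (g k) ≫ s

/-- PkgC (finite covers of quasi-compact objects by members of `B`). -/
def PkgC : Prop :=
  ∀ {C : Type u} [SmallCategory C] (J : GrothendieckTopology C) (B : Set C), HB1 J B →
    ∀ X : C, CohCx.IsQcObject ((presheafToSheaf J (Type u)).obj (yoneda.obj X)) →
      ∃ (N : ℕ) (W : Fin N → C) (g : ∀ k, W k ⟶ X), (∀ k, W k ∈ B) ∧ Sieve.ofArrows W g ∈ J X

/-! ### Module-level packages -/

/-- PkgX (extensions of finitely generated modules are finitely generated). -/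
def PkgX : Prop :=
  ∀ {C : Type u} [SmallCategory C] {J : GrothendieckTopology C} (O : Sheaf J CommRingCat.{u})
    (B : Set C), HB1 J B → HB2 J B →
    ∀ S : ShortComplex (ModSite.Mod O), S.ShortExact → IsFG O B S.X₁ → IsFG O B S.X₃ →
      IsFG O B S.X₂

/-- PkgK (Čech): the kernel of a refinement map `⊕_{i,k} fr (W i k) ⟶ ⊕_i fr (U i)` attached to
finite covering families `W i k ⟶ U i` (all objects in `B`) is finitely generated. -/
def PkgK : Prop :=
  ∀ {C : Type u} [SmallCategory C] [HasPullbacks C] {J : GrothendieckTopology C}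
    (O : Sheaf J CommRingCat.{u}) (B : Set C), HB1 J B → HB2 J B → HB3 J B →
    ∀ (ι : Type) [Fintype ι] (U : ι → C) (N : ι → ℕ) (W : ∀ i, Fin (N i) → C)
      (g : ∀ i k, W i k ⟶ U i), (∀ i, U i ∈ B) → (∀ i k, W i k ∈ B) →
      (∀ i, Sieve.ofArrows (W i) (g i) ∈ J (U i)) →
      IsFG O B (kernel (Sigma.desc (fun x : (Σ i, Fin (N i)) =>
        (fr O).map (g x.1 x.2) ≫ Sigma.ι (fun i => (fr O).obj (U i)) x.1) :
        (∐ fun x : (Σ i, Fin (N i)) => (fr O).obj (W x.1 x.2)) ⟶ ∐ fun i => (fr O).obj (U i)))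

/-- PkgS (Schanuel): for `F` finitely presented, the kernel of ANY epi from a finite free module
on members of `B` is finitely generated. -/
def PkgS : Prop :=
  ∀ {C : Type u} [SmallCategory C] [HasPullbacks C] {J : GrothendieckTopology C}
    (O : Sheaf J CommRingCat.{u}) (B : Set C), HB1 J B → HB2 J B → HB3 J B →
    ∀ (F : ModSite.Mod O), IsFP O B F →
    ∀ (ι : Type) [Fintype ι] (U : ι → C) (p : (∐ fun i => (fr O).obj (U i)) ⟶ F),
      (∀ i, U i ∈ B) → Epi p → IsFG O B (kernel p)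

/-- PkgConv: type A (statement form, `freeOn`, `Fin`) ⇔ finitely presented (`fr`, `Fintype`). -/
def PkgConv : Prop :=
  ∀ {C : Type u} [SmallCategory C] {J : GrothendieckTopology C} (O : Sheaf J CommRingCat.{u})
    (B : Set C) (F : ModSite.Mod O), IsTypeA O B F ↔ IsFP O B F

/-- Pkg15 (S9115 in `IsFP` form): cokernels. -/
def Pkg15 : Prop :=
  ∀ {C : Type u} [SmallCategory C] {J : GrothendieckTopology C} (O : Sheaf J CommRingCat.{u})
    (B : Set C), HB1 J B → HB2 J B →
    ∀ {F G : ModSite.Mod O} (α : F ⟶ G), IsFP O B F → IsFP O B G → IsFP O B (cokernel α)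

/-- Pkg16 (S9116 in `IsFP` form): extensions. -/
def Pkg16 : Prop :=
  ∀ {C : Type u} [SmallCategory C] [HasPullbacks C] {J : GrothendieckTopology C}
    (O : Sheaf J CommRingCat.{u}) (B : Set C), HB1 J B → HB2 J B → HB3 J B →
    ∀ S : ShortComplex (ModSite.Mod O), S.ShortExact → IsFP O B S.X₁ → IsFP O B S.X₃ →
      IsFP O B S.X₂

/-- Pkg17 (S9117 in `IsFP` form): kernels, assuming kernels of maps between finite free modules
on members of `B` are finitely presented. -/
def Pkg17 : Prop :=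
  ∀ {C : Type u} [SmallCategory C] [HasPullbacks C] {J : GrothendieckTopology C}
    (O : Sheaf J CommRingCat.{u}) (B : Set C), HB1 J B → HB2 J B → HB3 J B →
    (∀ (ι κ : Type) [Fintype ι] [Fintype κ] (V : κ → C) (U : ι → C)
      (φ : (∐ fun j => (fr O).obj (V j)) ⟶ ∐ fun i => (fr O).obj (U i)),
      (∀ j, V j ∈ B) → (∀ i, U i ∈ B) → IsFP O B (kernel φ)) →
    ∀ {F G : ModSite.Mod O} (α : F ⟶ G), IsFP O B F → IsFP O B G → IsFP O B (kernel α)

/-- PkgH (conversion of the kernel hypothesis of S9117 to `fr`/`Fintype` form). -/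
def PkgH : Prop :=
  ∀ {C : Type u} [SmallCategory C] {J : GrothendieckTopology C} (O : Sheaf J CommRingCat.{u})
    (B : Set C),
    (∀ (m n : ℕ) (V : Fin m → C) (U : Fin n → C)
      (φ : (∐ fun j => ModSite.freeOn O (V j)) ⟶ ∐ fun i => ModSite.freeOn O (U i)),
      (∀ j, V j ∈ B) → (∀ i, U i ∈ B) → IsTypeA O B (kernel φ)) →
    (∀ (ι κ : Type) [Fintype ι] [Fintype κ] (V : κ → C) (U : ι → C)
      (φ : (∐ fun j => (fr O).obj (V j)) ⟶ ∐ fun i => (fr O).obj (U i)),
      (∀ j, V j ∈ B) → (∀ i, U i ∈ B) → IsFP O B (kernel φ))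

end Groth.Agent.R2.H41.TypeASpec
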