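import Mathlib
import Groth.Agent.R2.H41TypeASpec

/-!
# helper94: PROJ:typeA, PkgQ

A covering family of an object `U` whose sheafified representable `h_U^#` is a quasi-compact object
of the topos has a finite covering subfamily.
-/

set_option autoImplicit false
universe u
open CategoryTheory CategoryTheory.Limits Opposite

namespace Groth.Agent.R2.H94.TypeAQ

variable {C : Type u} [SmallCategory C] (J : GrothendieckTopology C)

/-- the sheafified representable. -/
noncomputable abbrev hS (X : C) : Sheaf J (Type u) := (presheafToSheaf J (Type u)).obj (yoneda.obj X)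

/-- the unit `h_X → h_X^#`. -/
noncomputable abbrev η (X : C) : yoneda.obj X ⟶ (hS J X).obj := toSheafify J (yoneda.obj X)

/-- the map `h_Y^# → h_X^#` induced by `g : Y ⟶ X`. -/
noncomputable abbrev hMap {Y X : C} (g : Y ⟶ X) : hS J Y ⟶ hS J X :=
  (presheafToSheaf J (Type u)).map (yoneda.map g)

lemma hMap_η {Y X : C} (g : Y ⟶ X) (V : C) (c : V ⟶ Y) :
    (hMap J g).hom.app (op V) ((η J Y).app (op V) c) = (η J X).app (op V) (c ≫ g) := by
  have h := toSheafify_naturality J (yoneda.map g)
  have h2 := congrFun (congrArg (fun t => t.app (op V)) h) c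
  exact h2.symm

lemma η_map (X : C) {V V' : C} (a : V' ⟶ V) (c : V ⟶ X) :
    (hS J X).obj.map a.op ((η J X).app (op V) c) = (η J X).app (op V') (a ≫ c) := by
  exact (NatTrans.naturality_apply (η J X) a.op c).symm

theorem jointlySurjective_of_covering (U : C) (κ : Type u) (W : κ → C) (g : ∀ k, W k ⟶ U)
    (hcov : Sieve.ofArrows W g ∈ J U) :
    CohCx.JointlySurjective (fun k => hMap J (g k)) := by
  intro V s
  have h1 : Presheaf.imageSieve (η J U) s ∈ J V := Presheaf.imageSieve_mem J (η J U) s
  let S : Sieve V :=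
    { arrows := fun V' a => ∃ (k : κ) (x : (hS J (W k)).obj.obj (op V')),
        (hMap J (g k)).hom.app (op V') x = (hS J U).obj.map a.op s
      downward_closed := by
        rintro V' V'' a ⟨k, x, hx⟩ b
        refine ⟨k, (hS J (W k)).obj.map b.op x, ?_⟩
        have hn := NatTrans.naturality_apply (hMap J (g k)).hom b.op x
        rw [op_comp, Functor.map_comp]
        refine hn.trans ?_
        exact congrArg _ hx }
  refine ⟨S, ?_, fun V' a ha => ha⟩
  apply J.transitive h1
  rintro V' a ⟨c, hc⟩
  have h2 : (Sieve.ofArrows W g).pullback c ∈ J V' := J.pullback_stable c hcov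
  apply J.superset_covering _ h2
  intro V'' b hb
  obtain ⟨k, d, hd⟩ := (Sieve.mem_ofArrows_iff W g (b ≫ c)).1 hb
  refine ⟨k, (η J (W k)).app (op V'') d, ?_⟩
  rw [hMap_η, ← hd, op_comp, Functor.map_comp]
  change _ = (hS J U).obj.map b.op ((hS J U).obj.map a.op s)
  rw [← hc, η_map]

theorem pkgQ : Groth.Agent.R2.H41.TypeASpec.PkgQ.{u} := by
  intro C _ J U hqc κ W g hcov
  obtain ⟨t, ht⟩ := hqc κ (fun k => hS J (W k)) (fun k => hMap J (g k))
    (jointlySurjective_of_covering J U κ W g hcov)
  refine ⟨t, ?_⟩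
  set T : Sieve U := Sieve.ofArrows (fun k : t => W k.1) (fun k => g k.1) with hT
  obtain ⟨S, hS, hSs⟩ := ht U ((η J U).app (op U) (𝟙 U))
  apply J.transitive hS
  intro V g' hg'
  obtain ⟨i, x, hx⟩ := hSs V g' hg'
  -- `x` is locally representable
  have h1 : Presheaf.imageSieve (η J (W i.1)) x ∈ J V := Presheaf.imageSieve_mem J (η J (W i.1)) x
  apply J.transitive h1
  rintro V' a ⟨c, hc⟩
  -- compare the two elements of `h_U(V')`
  have heq : (η J U).app (op V') (c ≫ g i.1) = (η J U).app (op V') (a ≫ g') := by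
    rw [← hMap_η, hc]
    have hn := NatTrans.naturality_apply (hMap J (g i.1)).hom a.op x
    refine hn.trans ?_
    refine (congrArg _ hx).trans ?_
    rw [η_map, η_map, Category.comp_id]
  have h2 : Presheaf.equalizerSieve (F := yoneda.obj U) (X := op V') (c ≫ g i.1) (a ≫ g') ∈ J V' :=
    Presheaf.equalizerSieve_mem J (η J U) _ _ heq
  apply J.superset_covering _ h2
  intro V'' d hd
  change T ((d ≫ a) ≫ g')
  have hd' : d ≫ c ≫ g i.1 = d ≫ a ≫ g' := hd
  rw [Category.assoc, ← hd', hT, Sieve.mem_ofArrows_iff]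
  exact ⟨i, d ≫ c, by rw [Category.assoc]⟩

end Groth.Agent.R2.H94.TypeAQ
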