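import Groth.Agent.R2.H41CptLocFin
import Groth.Agent.R2.H94TypeAQ
import Groth.Agent.R2.H32TypeAConv

/-!
# helper41: PkgQcCompact of PROJ:compact — `j_{W!}O` is a compact object of `Mod O` for
quasi-compact `W`
-/

set_option autoImplicit false
universe u
open CategoryTheory CategoryTheory.Limits Opposite

namespace Groth.Agent.R2.H41.CptQcCompact

open Groth.Agent.R2.H41.TypeASpec Groth.Agent.Lib.Helper1.Compact Groth.Agent.Lib.Helper17.Hyp
  Groth.Agent.R2.H41.CptSpec Groth.Agent.R2.H32.TypeAConv

theorem pkgQcCompact : PkgQcCompact.{u} := by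
  intro C _ J O W hW
  classical
  rw [isCompactObject_iff]
  intro ι X φ
  let φ' : (fr O).obj W ⟶ ∐ X := (frIso O W).hom ≫ φ
  obtain ⟨R, hR, hloc⟩ := CptLocFin.pkgLocFin O ι X W φ'
  -- the family of all arrows of `R`
  let κ : Type u := Σ V : C, { g : V ⟶ W // R g }
  have hcov : Sieve.ofArrows (fun k : κ => k.1) (fun k => k.2.1) ∈ J W := by
    refine J.superset_covering ?_ hR
    intro V g hg
    exact Sieve.ofArrows_mk (fun k : κ => k.1) (fun k => k.2.1) ⟨V, g, hg⟩
  obtain ⟨t, ht⟩ := Groth.Agent.R2.H94.TypeAQ.pkgQ J W hW κ (fun k => k.1) (fun k => k.2.1) hcov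
  choose s hs using fun k : κ => hloc k.2.1 k.2.2
  refine ⟨t.biUnion s, ?_⟩
  have hzero : φ' ≫ kill X (t.biUnion s) = 0 := by
    apply (locFr_frModR (J := J) (ModSite.ringSh O)).sep W _ _ ht
    intro V f hf
    cases hf with
    | intro Y hY =>
      obtain ⟨a, b', hb', hab⟩ := hY
      cases hb' with
      | mk k =>
        rw [← hab, Functor.map_comp, Category.assoc]
        have h1 : (fr O).map k.1.2.1 ≫ φ' ≫ kill X (t.biUnion s) = 0 := by
          have := comp_kill_eq_zero_of_subset X ((fr O).map k.1.2.1 ≫ φ')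
            (Finset.subset_biUnion_of_mem s k.2) (by
              rw [Category.assoc]
              exact hs k.1)
          rw [Category.assoc] at this
          exact this
        rw [h1, comp_zero]
  have : φ = (frIso O W).inv ≫ φ' := by simp [φ']
  rw [this, Category.assoc, hzero, comp_zero]

end Groth.Agent.R2.H41.CptQcCompact
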