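import Groth.Agent.R2.H41ResSpec
import Groth.Agent.R2.H41TypeASpec
import Groth.Agent.Lib.Helper1Compact
import Groth.Prelude.Def_CohDer
import Groth.Prelude.Def_CohSite
import Mathlib.Algebra.Homology.DerivedCategory.Basic
import Mathlib.CategoryTheory.Abelian.GrothendieckCategory.Basic

/-!
# helper41: interface (Spec) for the mini-project PROJ:compact -> S9035, S9036, S9037, S9102, S9103

Compact objects of `D(A)` (`A` Grothendieck abelian, generated by a set `S` of objects with
`Hom(E, -)` commuting with direct sums) are retracts of bounded complexes of finite sums of members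
of `S`; on a ringed site `j_{U!}O` for quasi-compact `U` is such a family.

Each package is a closed `Prop`; a package file proves `theorem pkgX : CptSpec.PkgX` (possibly from
other packages as hypotheses).
-/

set_option autoImplicit false
universe v u
open CategoryTheory CategoryTheory.Limits Opposite

namespace Groth.Agent.R2.H41.CptSpec

open Groth.Agent.R2.H41.ResSpec

section abstract

variable {A : Type u} [Category.{v} A] [Abelian A]

/-- isomorphic to a (small) coproduct of members of `S`. -/
def IsSum [HasCoproducts.{v} A] (S : Set A) (M : A) : Prop :=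
  ∃ (ι : Type v) (E : ι → A), (∀ i, E i ∈ S) ∧ Nonempty (M ≅ ∐ E)

/-- isomorphic to a finite direct sum of members of `S`. -/
def IsFinSum [HasFiniteBiproducts A] (S : Set A) (M : A) : Prop :=
  ∃ (n : ℕ) (E : Fin n → A), (∀ j, E j ∈ S) ∧ Nonempty (M ≅ ⨁ E)

end abstract

/-- PkgGoodSum: if every object is a quotient of a coproduct of members of `S`, then `IsSum S` is a
good class (`ResSpec.Good`). -/
def PkgGoodSum : Prop :=
  ∀ {A : Type u} [Category.{v} A] [Abelian A] [HasCoproducts.{v} A] (S : Set A),
    (∀ X : A, ∃ (ι : Type v) (E : ι → A) (π : ∐ E ⟶ X), (∀ i, E i ∈ S) ∧ Epi π) →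
    Good (IsSum S)

/-- PkgLift: a map from a compact object of `D(A)` to the image of a sequential colimit of complexes
lifts to a finite stage.  (S0985: `Q(colim F)` is a homotopy colimit of the `Q(F n)`;
Lib `Helper21.DCoprod.isColimitQMapCofan`: `Q` preserves coproducts;
Lib `Helper1CompactHocolim`: `IsHocolim.exists_lift`.) -/
def PkgLift : Prop :=
  ∀ {A : Type u} [Category.{v} A] [Abelian A] [IsGrothendieckAbelian.{v} A]
    [HasDerivedCategory.{v} A] [HasCoproducts.{v} (DerivedCategory A)]
    (F : ℕ ⥤ CochainComplex A ℤ) (K : DerivedCategory A), CohDer.IsCompactObject K →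
    ∀ t : K ⟶ DerivedCategory.Q.obj (colimit F),
      ∃ (n : ℕ) (u : K ⟶ DerivedCategory.Q.obj (F.obj n)),
        u ≫ DerivedCategory.Q.map (colimit.ι F n) = t

/-- PkgStupid: a complex which is strictly `≤ b` is the colimit of its stupid truncations
`σ_{≥ b - m}`. -/
def PkgStupid : Prop :=
  ∀ {A : Type u} [Category.{v} A] [Abelian A] [HasColimitsOfShape ℕ A] (b : ℤ)
    (L : CochainComplex A ℤ) [L.IsStrictlyLE b],
    ∃ (F : ℕ ⥤ CochainComplex A ℤ) (_ : colimit F ≅ L),
      ∀ m : ℕ, (∀ i : ℤ, i < b - m → IsZero ((F.obj m).X i)) ∧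
        ∀ i : ℤ, IsZero ((F.obj m).X i) ∨ Nonempty ((F.obj m).X i ≅ L.X i)

/-- PkgFinStep: the inductive step making the term in degree `c` a finite sum. -/
def PkgFinStep : Prop :=
  ∀ {A : Type u} [Category.{v} A] [Abelian A] [IsGrothendieckAbelian.{v} A]
    [HasFiniteBiproducts A]
    [HasDerivedCategory.{v} A] [HasCoproducts.{v} (DerivedCategory A)] (S : Set A),
    (∀ E ∈ S, ∀ ι : Type v,
      PreservesColimitsOfShape (Discrete ι) (preadditiveCoyoneda.obj (op E))) →
    ∀ (K : DerivedCategory A), CohDer.IsCompactObject K →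
    ∀ (L : CochainComplex A ℤ) (c : ℤ), (∀ i, IsSum S (L.X i)) →
      (∀ i, i < c → IsFinSum S (L.X i)) → Nonempty (Retract K (DerivedCategory.Q.obj L)) →
      ∃ L' : CochainComplex A ℤ, (∀ i, IsSum S (L'.X i)) ∧ (∀ i, i ≤ c → IsFinSum S (L'.X i)) ∧
        (∀ i, IsZero (L.X i) → IsZero (L'.X i)) ∧ Nonempty (Retract K (DerivedCategory.Q.obj L'))

/-- PkgFin: a compact retract of a bounded complex of sums of members of `S` is a retract of a
bounded complex of finite sums. -/
def PkgFin : Prop :=
  ∀ {A : Type u} [Category.{v} A] [Abelian A] [IsGrothendieckAbelian.{v} A]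
    [HasFiniteBiproducts A]
    [HasDerivedCategory.{v} A] [HasCoproducts.{v} (DerivedCategory A)] (S : Set A),
    (∀ E ∈ S, ∀ ι : Type v,
      PreservesColimitsOfShape (Discrete ι) (preadditiveCoyoneda.obj (op E))) →
    ∀ (K : DerivedCategory A), CohDer.IsCompactObject K →
    ∀ (L : CochainComplex A ℤ) (a b : ℤ), (∀ i, IsSum S (L.X i)) →
      (∀ i : ℤ, i < a ∨ b < i → IsZero (L.X i)) → Nonempty (Retract K (DerivedCategory.Q.obj L)) →
      ∃ L' : CochainComplex A ℤ, (∀ i : ℤ, i < a ∨ b < i → IsZero (L'.X i)) ∧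
        (∀ i, IsFinSum S (L'.X i)) ∧ Nonempty (Retract K (DerivedCategory.Q.obj L'))

/-- PkgCoyo: compactness in a preadditive category with coproducts, in terms of the
abelian-group-valued `Hom` functor. -/
def PkgCoyo : Prop :=
  ∀ {D : Type u} [Category.{v} D] [Preadditive D] [HasCoproducts.{v} D] (X : D),
    CohDer.IsCompactObject X ↔
      ∀ ι : Type v, PreservesColimitsOfShape (Discrete ι) (preadditiveCoyoneda.obj (op X))

section site

open Groth.Agent.R2.H41.TypeASpec Groth.Agent.Lib.Helper1.Compact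

/-- PkgLocFin: a section over `W` of a direct sum of modules is locally contained in a finite
subsum.  (The direct sum is the sheafification of the presheaf direct sum.) -/
def PkgLocFin : Prop :=
  ∀ {C : Type u} [SmallCategory C] {J : GrothendieckTopology C} (O : Sheaf J CommRingCat.{u})
    (ι : Type u) (F : ι → ModSite.Mod O) (W : C) (φ : (fr O).obj W ⟶ ∐ F),
    ∃ R ∈ J W, ∀ ⦃V : C⦄ (g : V ⟶ W), R g → ∃ t : Finset ι, (fr O).map g ≫ φ ≫ kill F t = 0

/-- PkgQcCompact: `j_{W!}O` is a compact object of `Mod O` for quasi-compact `W`. -/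
def PkgQcCompact : Prop :=
  ∀ {C : Type u} [SmallCategory C] {J : GrothendieckTopology C} (O : Sheaf J CommRingCat.{u})
    (W : C), CohCx.IsQcObject ((presheafToSheaf J (Type u)).obj (yoneda.obj W)) →
    CohDer.IsCompactObject (ModSite.freeOn O W)

/-- PkgWcProj: `j_{U!}O` is projective for weakly contractible `U`. -/
def PkgWcProj : Prop :=
  ∀ {C : Type u} [SmallCategory C] {J : GrothendieckTopology C} (O : Sheaf J CommRingCat.{u})
    (U : C), CohSite.IsWeaklyContractible J U → Projective (ModSite.freeOn O U)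

/-- PkgSecIso: sections over `W` as `Hom(j_{W!}O, -)`, naturally and additively. -/
def PkgSecIso : Prop :=
  ∀ {C : Type u} [SmallCategory C] {J : GrothendieckTopology C} (O : Sheaf J CommRingCat.{u})
    (W : C), Nonempty (preadditiveCoyoneda.obj (op (ModSite.freeOn O W)) ≅
      SheafOfModules.toSheaf (ModSite.ringSh O) ⋙ (sheafSections J AddCommGrpCat.{u}).obj (op W))

/-- PkgQcGen: if every object is covered by quasi-compact objects, every module is a quotient of a
direct sum of `j_{U!}O` with `U` quasi-compact. -/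
def PkgQcGen : Prop :=
  ∀ {C : Type u} [SmallCategory C] {J : GrothendieckTopology C} (O : Sheaf J CommRingCat.{u}),
    (∀ V : C, ∃ R ∈ J V, ∀ ⦃W : C⦄ (g : W ⟶ V), R g →
      ∃ (U : C) (a : W ⟶ U) (b : U ⟶ V),
        CohCx.IsQcObject ((presheafToSheaf J (Type u)).obj (yoneda.obj U)) ∧ a ≫ b = g) →
    ∀ X : ModSite.Mod O, ∃ (ι : Type u) (E : ι → ModSite.Mod O) (π : ∐ E ⟶ X),
      (∀ i, ∃ U : C, CohCx.IsQcObject ((presheafToSheaf J (Type u)).obj (yoneda.obj U)) ∧
        E i = ModSite.freeOn O U) ∧ Epi π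

end site

end Groth.Agent.R2.H41.CptSpec
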