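import Groth.Agent.R2.H41EpsSpec
import Groth.Agent.Lib.Helper17Hyp27

/-!
# helper41: Pkg2 of PROJ:eps-serre (S9071): `ε_*` preserves epimorphisms with kernel in `A`
-/

set_option autoImplicit false
set_option linter.style.haveILetI false
universe u
open CategoryTheory CategoryTheory.Limits Opposite

namespace Groth.Agent.R2.H41.Eps2

open Groth.Agent.Lib.Helper17.Hyp
open Groth.Agent.Lib.Helper21 Groth.Agent.Lib.Helper21.FreeAb Groth.Agent.Lib.Helper21.TorsFree

variable {C : Type u} [SmallCategory C] {J : GrothendieckTopology C} (O : Sheaf J CommRingCat.{u})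

/-- If `H^1(V, S.X₁) = 0` then every map `O ⊗ ℤ_V ⟶ S.X₃` lifts through `S.g`. -/
theorem exists_lift_of_HU (S : ShortComplex (ModSite.Mod O)) (hS : S.ShortExact) (V : C)
    (hV : Subsingleton (ModSite.HU O S.X₁ 1 V))
    (t : (frModR (ModSite.ringSh O)).obj V ⟶ S.X₃) :
    ∃ s : (frModR (ModSite.ringSh O)).obj V ⟶ S.X₂, s ≫ S.g = t := by
  haveI := Groth.Agent.S0484.result J (ModSite.ringSh O)
  haveI : HasExt.{u} (ModSite.Mod O) := hasExt_of_enoughInjectives _
  obtain ⟨e⟩ := nonempty_ext_freeShR_iso (ModSite.ringSh O) (CohCx.freeSheaf J V)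
    (TF_freeSheaf V) S.X₁ 1
  have h1 : Subsingleton (Abelian.Ext.{u}
      ((freeShR (ModSite.ringSh O)).obj (CohCx.freeSheaf J V)) S.X₁ 1) :=
    @Equiv.subsingleton _ _ e.addCommGroupIsoToAddEquiv.toEquiv hV
  have h1' : Subsingleton (Abelian.Ext.{u} ((frModR (ModSite.ringSh O)).obj V) S.X₁ 1) := h1
  obtain ⟨x₂, hx₂⟩ := Abelian.Ext.covariant_sequence_exact₃ _ hS (Abelian.Ext.mk₀ t) (n₁ := 1) rfl
    (Subsingleton.elim _ _)
  obtain ⟨s, rfl⟩ := (Abelian.Ext.mk₀_bijective _ _).2 x₂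
  refine ⟨s, ?_⟩
  rw [Abelian.Ext.mk₀_comp_mk₀] at hx₂
  exact (Abelian.Ext.mk₀_bijective _ _).1 hx₂

/-- Pkg2 of `H41EpsSpec`. -/
theorem pkg2 : EpsSpec.Pkg2.{u} := by
  intro C _ J J' h O A B h3 h4 S hS hA
  let O' := SiteCmp.epsRing h O
  let ε := SiteCmp.eps h O
  have hfr := locFr_frModR (ModSite.ringSh O')
  apply epi_of_local_lift hfr
  intro U t
  obtain ⟨ι, Y, g, hcov, hY⟩ := h3 U
  refine ⟨Presieve.ofArrows Y g, hcov, ?_⟩
  intro V g' hg'
  cases hg' with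
  | mk i =>
    -- the section of `X₃` over `Y i`
    let x' : (ε.push.obj S.X₃).val.obj (op (Y i)) :=
      secEquiv O' (ε.push.obj S.X₃) (Y i) ((frModR (ModSite.ringSh O')).map (g i) ≫ t)
    let x : S.X₃.val.obj (op (Y i)) := x'
    obtain ⟨s₀, hs₀⟩ := exists_lift_of_HU O S hS (Y i) (h4 _ (hY i) _ hA)
      ((secEquiv O S.X₃ (Y i)).symm x)
    let y : S.X₂.val.obj (op (Y i)) := secEquiv O S.X₂ (Y i) s₀
    have hy : S.g.val.app (op (Y i)) y = x := by
      have := secEquiv_comp O s₀ S.g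
      rw [hs₀, Equiv.apply_symm_apply] at this
      exact this.symm
    let y' : (ε.push.obj S.X₂).val.obj (op (Y i)) := y
    refine ⟨(secEquiv O' (ε.push.obj S.X₂) (Y i)).symm y', ?_⟩
    apply (secEquiv O' (ε.push.obj S.X₃) (Y i)).injective
    rw [secEquiv_comp, Equiv.apply_symm_apply]
    exact hy

end Groth.Agent.R2.H41.Eps2
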