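import Groth.Agent.R2.H41EpsSpec
import Groth.Agent.S9080

/-!
# helper41: assembly of S9071 from the packages of `H41EpsSpec` and prior `S9080`
-/

set_option autoImplicit false
set_option linter.style.haveILetI false
universe u
open CategoryTheory CategoryTheory.Limits Opposite
attribute [local instance] HasDerivedCategory.standard
open SiteCmp

namespace Groth.Agent.R2.H41.EpsAsm

open Groth.Agent.R2.H41.EpsSpec

/-- refine a covering sieve by members of a covering class `B`. -/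
theorem exists_refinement {C : Type u} [SmallCategory C] (K : GrothendieckTopology C) (B : Set C)
    (hB : ∀ U : C, ∃ (ι : Type u) (Y : ι → C) (g : ∀ i, Y i ⟶ U),
      Sieve.ofArrows Y g ∈ K U ∧ ∀ i, Y i ∈ B)
    (V : C) (T : Sieve V) (hT : T ∈ K V) :
    ∃ (ι : Type u) (Y : ι → C) (g : ∀ i, Y i ⟶ V),
      (∀ i, T.arrows (g i)) ∧ Sieve.ofArrows Y g ∈ K V ∧ ∀ i, Y i ∈ B := by
  choose ι Y g hcov hYB using hB
  refine ⟨Σ (W : C) (f : W ⟶ V) (_ : PLift (T f)), ι W, fun i => Y i.1 i.2.2.2,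
    fun i => g i.1 i.2.2.2 ≫ i.2.1, fun i => T.downward_closed i.2.2.1.down _, ?_, fun i => hYB _ _⟩
  refine K.transitive hT _ (fun W f hf => ?_)
  refine K.superset_covering ?_ (hcov W)
  rintro Z _ ⟨_, a, _, ⟨i⟩, rfl⟩
  rw [Sieve.pullback_apply, Category.assoc]
  apply Sieve.downward_closed
  exact ⟨_, 𝟙 _, _, Presieve.ofArrows.mk (⟨W, f, ⟨hf⟩, i⟩ : Σ (W : C) (f : W ⟶ V) (_ : PLift (T f)), ι W),
    by simp⟩

theorem s9071_of (p1 : Pkg1.{u}) (p2 : Pkg2.{u}) (p3 : Pkg3.{u}) (p4 : Pkg4.{u})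
    {C : Type u} [SmallCategory C] {J J' : GrothendieckTopology C} (h : J' ≤ J) (O : Sheaf J CommRingCat.{u})
    [PreservesFiniteLimits (SiteCmp.eps h O).pull] [SiteCmp.HasRpushD (SiteCmp.eps h O)]
    (adj : SiteCmp.pullD (SiteCmp.eps h O) ⊣ SiteCmp.RpushD (SiteCmp.eps h O))
    (A : ObjectProperty (ModSite.Mod O)) [WSerre.IsWeakSerre A] (B : Set C)
    (h3 : ∀ U : C, ∃ (ι : Type u) (Y : ι → C) (g : ∀ i, Y i ⟶ U), Sieve.ofArrows Y g ∈ J' U ∧ ∀ i, Y i ∈ B)
    (h4 : ∀ U ∈ B, ∀ F : ModSite.Mod O, A F → ∀ p : ℕ, 0 < p → Subsingleton (ModSite.HU O F p U)) :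
    WSerre.IsWeakSerre (A.map (SiteCmp.eps h O).push) ∧
    (∀ Y : DerivedCategory (ModSite.Mod (SiteCmp.epsRing h O)), WSerre.cohIn (A.map (SiteCmp.eps h O).push) Y →
      WSerre.cohIn A ((SiteCmp.pullD (SiteCmp.eps h O)).obj Y) ∧ IsIso (adj.unit.app Y)) ∧
    (∀ X : DerivedCategory (ModSite.Mod O), WSerre.cohIn A X →
      WSerre.cohIn (A.map (SiteCmp.eps h O).push) ((SiteCmp.RpushD (SiteCmp.eps h O)).obj X) ∧
      IsIso (adj.counit.app X)) := by
  obtain ⟨hfull, hfaith⟩ := p1 h O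
  haveI := hfull
  haveI := hfaith
  let madj := (SiteCmp.eps h O).adj
  have hws : WSerre.IsWeakSerre (A.map (SiteCmp.eps h O).push) :=
    p3 (SiteCmp.eps h O).pull (SiteCmp.eps h O).push madj A
      (fun S hS hA => p2 h O A B h3 (fun U hU F hF => h4 U hU F hF 1 one_pos) S hS hA)
  haveI := hws
  haveI : IsIso madj.counit := madj.counit_isIso_of_R_fully_faithful
  have hunit : ∀ F : ModSite.Mod O, IsIso (madj.unit.app ((SiteCmp.eps h O).push.obj F)) := by
    intro F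
    have h1 := madj.right_triangle_components F
    exact ⟨⟨_, h1, by
      rw [← cancel_mono ((SiteCmp.eps h O).push.map (madj.counit.app F)), Category.assoc, h1]
      simp⟩⟩
  have hunit' : ∀ F' : ModSite.Mod (SiteCmp.epsRing h O), (A.map (SiteCmp.eps h O).push) F' →
      IsIso (madj.unit.app F') := by
    rintro F' ⟨F, _, ⟨e⟩⟩
    rw [← NatTrans.isIso_app_iff_of_iso madj.unit e]
    exact hunit F
  refine ⟨hws, ?_⟩
  refine Groth.Agent.S9080.result (SiteCmp.eps h O) adj A (A.map (SiteCmp.eps h O).push)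
    ?_ ?_ ?_ ?_ B B ?_ ?_ h3 ?_
  · -- h2a
    rintro F' ⟨F, hF, ⟨e⟩⟩
    exact A.prop_of_iso ((asIso (madj.counit.app F)).symm ≪≫ (SiteCmp.eps h O).pull.mapIso e) hF
  · -- h2b
    intro F' G' _ hG'
    haveI := hunit' G' hG'
    have key : ∀ φ : F' ⟶ G', (SiteCmp.eps h O).pull.map φ =
        (madj.homEquiv _ _).symm (φ ≫ madj.unit.app G') := by
      intro φ
      rw [Adjunction.homEquiv_counit, Functor.map_comp, Category.assoc,
        madj.left_triangle_components, Category.comp_id]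
    constructor
    · intro φ ψ hφψ
      simp only [key] at hφψ
      have := (madj.homEquiv _ _).symm.injective hφψ
      exact (cancel_mono _).mp this
    · intro ψ
      refine ⟨madj.homEquiv _ _ ψ ≫ inv (madj.unit.app G'), ?_⟩
      simp only [key]
      rw [Category.assoc, IsIso.inv_hom_id, Category.comp_id, Equiv.symm_apply_apply]
  · -- h2c
    intro F hF
    exact ⟨(SiteCmp.eps h O).push.obj F, A.prop_map_obj _ hF, ⟨asIso (madj.counit.app F)⟩⟩
  · -- h3
    rintro F' ⟨F, hF, ⟨e⟩⟩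
    rw [← NatTrans.isIso_app_iff_of_iso adj.unit
      ((DerivedCategory.singleFunctor (ModSite.Mod (SiteCmp.epsRing h O)) 0).mapIso e)]
    exact p4 h O adj A B h3 h4 F hF
  · -- hB
    intro U
    obtain ⟨ι, Y, g, hcov, hY⟩ := h3 U
    exact ⟨ι, Y, g, h _ hcov, hY⟩
  · -- hA
    intro V _
    refine ⟨0, fun T hT => ?_⟩
    obtain ⟨ι, Y, g, hT', hcov, hY⟩ := exists_refinement J B (fun U => by
      obtain ⟨ι, Y, g, hcov, hY⟩ := h3 U
      exact ⟨ι, Y, g, h _ hcov, hY⟩) V T hT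
    exact ⟨ι, Y, g, hT', hcov, fun i F hF k hk => h4 _ (hY i) F hF k hk⟩
  · -- hA'
    intro V _
    refine ⟨0, fun T hT => ?_⟩
    obtain ⟨ι, Y, g, hT', hcov, hY⟩ := exists_refinement J' B h3 V T hT
    exact ⟨ι, Y, g, hT', hcov, fun i F hF k hk => h4 _ (hY i) F hF k hk⟩

end Groth.Agent.R2.H41.EpsAsm
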