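import Groth.Agent.R2.H41EpsSpec
import Groth.Agent.R2.H41EpsAsm
import Groth.Agent.Lib.Helper17Hyp27

/-!
# helper41: Pkg4 of PROJ:eps-serre (S9071)

`isIso_unit_single_push`: for a flat morphism of ringed sites `f`, a module `F` upstairs with
invertible counit `f^* f_* F → F`, and a covering class `B` downstairs with `H^p(u(W), F) = 0`
(`W ∈ B`, `p > 0`), the derived unit `(f_*F)[0] → Rf_* f^* (f_*F)[0]` is an isomorphism.
-/

set_option autoImplicit false
set_option linter.style.haveILetI false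
universe u
open CategoryTheory CategoryTheory.Limits Opposite
attribute [local instance] HasDerivedCategory.standard

namespace Groth.Agent.R2.H41.Eps4

open Groth.Agent.Lib.Helper17.Hyp DerivedCategory

variable {C : Type u} [SmallCategory C] {J : GrothendieckTopology C} {O_C : Sheaf J CommRingCat.{u}}
  {D : Type u} [SmallCategory D] {K : GrothendieckTopology D} {O_D : Sheaf K CommRingCat.{u}}
  (f : ModSite.RMor O_C O_D)

/-- module level: `f^*` is bijective on `Hom(P, f_* F)` when the counit at `F` is invertible. -/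
theorem bijective_pull_map (P : ModSite.Mod O_D) (F : ModSite.Mod O_C)
    [IsIso (f.adj.counit.app F)] :
    Function.Bijective (fun s : P ⟶ f.push.obj F => f.pull.map s) := by
  have h1 := f.adj.right_triangle_components F
  haveI : IsIso (f.adj.unit.app (f.push.obj F)) := ⟨⟨_, h1, by
    rw [← cancel_mono (f.push.map (f.adj.counit.app F)), Category.assoc, h1]
    simp⟩⟩
  have key : ∀ φ : P ⟶ f.push.obj F, f.pull.map φ =
      (f.adj.homEquiv _ _).symm (φ ≫ f.adj.unit.app (f.push.obj F)) := by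
    intro φ
    rw [Adjunction.homEquiv_counit, Functor.map_comp, Category.assoc,
      f.adj.left_triangle_components, Category.comp_id]
  constructor
  · intro φ ψ hφψ
    simp only [key] at hφψ
    have := (f.adj.homEquiv _ _).symm.injective hφψ
    exact (cancel_mono _).mp this
  · intro ψ
    refine ⟨f.adj.homEquiv _ _ ψ ≫ inv (f.adj.unit.app (f.push.obj F)), ?_⟩
    simp only [key]
    rw [Category.assoc, IsIso.inv_hom_id, Category.comp_id, Equiv.symm_apply_apply]

variable [PreservesFiniteLimits f.pull]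

/-- derived level: `f^*` is bijective on `Hom(P[0], (f_* F)[0])`. -/
theorem bijective_pullD_map_single (P : ModSite.Mod O_D) (F : ModSite.Mod O_C)
    [IsIso (f.adj.counit.app F)] :
    Function.Bijective (fun s : P ⟶ f.push.obj F =>
      (SiteCmp.pullD f).map ((singleFunctor (ModSite.Mod O_D) 0).map s)) := by
  let ι := f.pull.mapDerivedCategorySingleFunctor 0
  have key : ∀ s : P ⟶ f.push.obj F,
      (SiteCmp.pullD f).map ((singleFunctor (ModSite.Mod O_D) 0).map s) =
        ι.hom.app P ≫ (singleFunctor (ModSite.Mod O_C) 0).map (f.pull.map s) ≫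
          ι.inv.app (f.push.obj F) := by
    intro s
    have := ι.hom.naturality s
    simp only [Functor.comp_map] at this
    rw [← Category.assoc, ← this, Category.assoc, Iso.hom_inv_id_app, Category.comp_id]
  have hb := bijective_pull_map f P F
  constructor
  · intro s t hst
    simp only [key] at hst
    rw [cancel_epi, cancel_mono] at hst
    exact hb.1 ((singleFunctor (ModSite.Mod O_C) 0).map_injective hst)
  · intro ζ
    obtain ⟨t, ht⟩ := (singleFunctor (ModSite.Mod O_C) 0).map_surjective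
      (ι.inv.app P ≫ ζ ≫ ι.hom.app (f.push.obj F))
    obtain ⟨s, hs⟩ := hb.2 t
    refine ⟨s, ?_⟩
    simp only [key]
    dsimp only at hs
    rw [hs, ht]
    simp

variable [SiteCmp.HasRpushD f] (adj : SiteCmp.pullD f ⊣ SiteCmp.RpushD f)

/-- `Hom(dsgl (fr W), (inD F)[m]) = 0` for `m < 0`. -/
theorem subsingleton_hom_single_neg (P F : ModSite.Mod O_C) (m : ℤ) (hm : m < 0) :
    Subsingleton (dsgl P ⟶ ((singleFunctor (ModSite.Mod O_C) 0).obj F)⟦m⟧) := by
  haveI : (dsgl P).IsLE 0 := inferInstanceAs (((singleFunctor (ModSite.Mod O_C) 0).obj P).IsLE 0)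
  haveI : TStructure.t.IsGE (((singleFunctor (ModSite.Mod O_C) 0).obj F)⟦m⟧) (-m) :=
    TStructure.t.isGE_shift _ 0 m (-m) (by omega)
  haveI : TStructure.t.IsGE (((singleFunctor (ModSite.Mod O_C) 0).obj F)⟦m⟧) 1 :=
    TStructure.t.isGE_of_ge _ 1 (-m) (by omega)
  exact ⟨fun y y' => by
    rw [TStructure.t.zero y 0 1 (by omega), TStructure.t.zero y' 0 1 (by omega)]⟩

include adj in
/-- Step A: no maps from `dsgl (fr' W)` to shifts of `Rf_* f^* (f_*F)[0]` for `W ∈ B`, `m ≠ 0`. -/
theorem subsingleton_hom_rpush (F : ModSite.Mod O_C) [IsIso (f.adj.counit.app F)] (W : D)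
    (hvan : ∀ p : ℕ, 0 < p → Subsingleton (ModSite.HU O_C F p (f.fn.obj W)))
    (m : ℤ) (hm : m ≠ 0) :
    Subsingleton (dsgl ((frModR (ModSite.ringSh O_D)).obj W) ⟶
      ((SiteCmp.RpushD f).obj ((SiteCmp.pullD f).obj
        ((singleFunctor (ModSite.Mod O_D) 0).obj (f.push.obj F))))⟦m⟧) := by
  letI : (SiteCmp.RpushD f).CommShift ℤ := adj.rightAdjointCommShift ℤ
  obtain ⟨e⟩ := nonempty_pull_frModR_iso f W
  let eP : (SiteCmp.pullD f).obj (dsgl ((frModR (ModSite.ringSh O_D)).obj W)) ≅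
      dsgl ((frModR (ModSite.ringSh O_C)).obj (f.fn.obj W)) :=
    (f.pull.mapDerivedCategorySingleFunctor 0).app _ ≪≫
      (singleFunctor (ModSite.Mod O_C) 0).mapIso e
  let eX : (SiteCmp.pullD f).obj ((singleFunctor (ModSite.Mod O_D) 0).obj (f.push.obj F)) ≅
      (singleFunctor (ModSite.Mod O_C) 0).obj F :=
    (f.pull.mapDerivedCategorySingleFunctor 0).app _ ≪≫
      (singleFunctor (ModSite.Mod O_C) 0).mapIso (asIso (f.adj.counit.app F))
  have h0 : Subsingleton (dsgl ((frModR (ModSite.ringSh O_C)).obj (f.fn.obj W)) ⟶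
      ((singleFunctor (ModSite.Mod O_C) 0).obj F)⟦m⟧) := by
    rcases lt_or_gt_of_ne hm with hlt | hgt
    · exact subsingleton_hom_single_neg _ _ m hlt
    · obtain ⟨k, rfl⟩ : ∃ k : ℕ, m = (k : ℤ) := ⟨m.toNat, by omega⟩
      exact subsingleton_hom_of_HU' O_C (f.fn.obj W) F k (hvan k (by omega))
  have h1 : Subsingleton ((SiteCmp.pullD f).obj (dsgl ((frModR (ModSite.ringSh O_D)).obj W)) ⟶
      ((SiteCmp.pullD f).obj ((singleFunctor (ModSite.Mod O_D) 0).obj (f.push.obj F)))⟦m⟧) := by
    refine ⟨fun y y' => ?_⟩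
    have := h0.elim (eP.inv ≫ y ≫ eX.hom⟦m⟧') (eP.inv ≫ y' ≫ eX.hom⟦m⟧')
    rw [cancel_epi, cancel_mono] at this
    exact this
  exact (adjShiftEquiv adj _ _ m).subsingleton

include adj in
/-- Step B: `H^m(Rf_* f^* (f_*F)[0]) = 0` for `m ≠ 0`. -/
theorem isZero_homology_rpush (B : Set D)
    (hB : ∀ U : D, ∃ (ι : Type u) (Y : ι → D) (g : ∀ i, Y i ⟶ U),
      Sieve.ofArrows Y g ∈ K U ∧ ∀ i, Y i ∈ B)
    (F : ModSite.Mod O_C) [IsIso (f.adj.counit.app F)]
    (hvan : ∀ W ∈ B, ∀ p : ℕ, 0 < p → Subsingleton (ModSite.HU O_C F p (f.fn.obj W)))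
    (m : ℤ) (hm : m ≠ 0) :
    IsZero ((homologyFunctor (ModSite.Mod O_D) m).obj
      ((SiteCmp.RpushD f).obj ((SiteCmp.pullD f).obj
        ((singleFunctor (ModSite.Mod O_D) 0).obj (f.push.obj F))))) := by
  have hfr := locFr_frModR (ModSite.ringSh O_D)
  rw [IsZero.iff_id_eq_zero]
  apply hfr.gen
  intro U s
  rw [Category.comp_id]
  obtain ⟨T, hT, hT'⟩ := exists_lift_cm hfr _ m U s
  obtain ⟨ι, Y, g, hTg, hcov, hY⟩ := EpsAsm.exists_refinement K B hB U T hT
  refine hfr.zero_of_generate U s (Presieve.ofArrows Y g) hcov ?_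
  intro V g' hg'
  cases hg' with
  | mk i =>
    obtain ⟨ξ, hξ⟩ := hT' (g i) (hTg i)
    haveI := subsingleton_hom_rpush f adj F (Y i) (hvan _ (hY i)) m hm
    rw [← hξ, Subsingleton.elim ξ 0, cm_zero]

/-- the map `P[0] ⟶ P'[0]` induced by `s : P ⟶ P'`. -/
noncomputable abbrev sm {A : Type (u + 1)} [Category.{u} A] [Abelian A] {P P' : A} (s : P ⟶ P') :
    dsgl P ⟶ dsgl P' :=
  Q.map ((HomologicalComplex.single A (ComplexShape.up ℤ) 0).map s)

omit [SiteCmp.HasRpushD f] in
theorem bijective_pullD_map_sm (P : ModSite.Mod O_D) (F : ModSite.Mod O_C)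
    [IsIso (f.adj.counit.app F)] :
    Function.Bijective (fun s : P ⟶ f.push.obj F => (SiteCmp.pullD f).map (sm s)) :=
  bijective_pullD_map_single f P F

include adj in
/-- `a ≫ η = homEquiv (f^* a)`. -/
theorem comp_unit_eq {X' X : DerivedCategory (ModSite.Mod O_D)} (a : X' ⟶ X) :
    a ≫ adj.unit.app X = adj.homEquiv _ _ ((SiteCmp.pullD f).map a) := by
  rw [Adjunction.homEquiv_unit]
  exact (adj.unit.naturality a)

include adj in
/-- The derived unit at `(f_* F)[0]` is an isomorphism. -/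
theorem isIso_unit_single_push (B : Set D)
    (hB : ∀ U : D, ∃ (ι : Type u) (Y : ι → D) (g : ∀ i, Y i ⟶ U),
      Sieve.ofArrows Y g ∈ K U ∧ ∀ i, Y i ∈ B)
    (F : ModSite.Mod O_C) [IsIso (f.adj.counit.app F)]
    (hvan : ∀ W ∈ B, ∀ p : ℕ, 0 < p → Subsingleton (ModSite.HU O_C F p (f.fn.obj W))) :
    IsIso (adj.unit.app ((singleFunctor (ModSite.Mod O_D) 0).obj (f.push.obj F))) := by
  haveI := Groth.Agent.S0484.result K (ModSite.ringSh O_D)
  have hfr := locFr_frModR (ModSite.ringSh O_D)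
  let F' := f.push.obj F
  let Z := (SiteCmp.RpushD f).obj ((SiteCmp.pullD f).obj (dsgl F'))
  let η : dsgl F' ⟶ Z := adj.unit.app (dsgl F')
  have hη : ∀ {P : ModSite.Mod O_D} (s : P ⟶ F'),
      sm s ≫ η = adj.homEquiv (dsgl P) ((SiteCmp.pullD f).obj (dsgl F'))
        ((SiteCmp.pullD f).map (sm s)) := fun s => comp_unit_eq f adj (sm s)
  have hb := fun P => bijective_pullD_map_sm f P F
  change IsIso η
  rw [DerivedCategory.isIso_iff]
  intro n
  by_cases hn : n = 0
  · subst hn
    suffices IsIso (c₀ η) by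
      have h1 : (homologyFunctor (ModSite.Mod O_D) 0).map η = (e₀ F').hom ≫ c₀ η := by
        dsimp only [c₀]
        rw [Iso.hom_inv_id_assoc]
      rw [h1]; infer_instance
    -- injectivity on generators
    have hinj : ∀ (U : D) (s : (frModR (ModSite.ringSh O_D)).obj U ⟶ F'),
        s ≫ c₀ η = 0 → s = 0 := by
      intro U s hs
      have h1 : c₀ (sm s ≫ η) = 0 := by
        rw [c₀_precomp, hs]
      obtain ⟨T, hT, hT'⟩ := exists_cover_eq_zero.{_, u} hfr Z U _ h1
      refine hfr.sep U s T hT (fun V g hg => ?_)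
      have h2 : sm ((frModR (ModSite.ringSh O_D)).map g ≫ s) ≫ η = 0 := by
        have := hT' g hg
        dsimp only [res] at this
        rw [← this, ← Category.assoc, ← Functor.map_comp, ← Functor.map_comp]
      have h2' : sm ((frModR (ModSite.ringSh O_D)).map g ≫ s) ≫ η =
          sm (0 : (frModR (ModSite.ringSh O_D)).obj V ⟶ F') ≫ η := by
        rw [h2]
        dsimp only [sm]
        rw [Functor.map_zero, Functor.map_zero, zero_comp]
      rw [hη, hη] at h2'
      exact (hb _).1 ((adj.homEquiv _ _).injective h2')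
    haveI : Mono (c₀ η) := by
      apply Abelian.mono_of_kernel_ι_eq_zero
      apply hfr.gen
      intro U s
      apply hinj
      rw [Category.assoc, kernel.condition, comp_zero]
    haveI : Epi (c₀ η) := by
      apply epi_of_local_lift hfr
      intro U t
      obtain ⟨T, hT, hT'⟩ := exists_lift_c₀ hfr Z U t
      refine ⟨T.arrows, by rwa [Sieve.generate_sieve], fun V g hg => ?_⟩
      obtain ⟨ξ, hξ⟩ := hT' g hg
      obtain ⟨s', hs'⟩ := (hb _).2 ((adj.homEquiv _ _).symm ξ)
      dsimp only at hs'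
      refine ⟨s', ?_⟩
      rw [← hξ, ← c₀_precomp, hη, hs', Equiv.apply_symm_apply]
    exact isIso_of_mono_of_epi _
  · have h1 : IsZero ((homologyFunctor (ModSite.Mod O_D) n).obj (dsgl F')) := by
      haveI : (dsgl F').IsGE 0 :=
        inferInstanceAs (((singleFunctor (ModSite.Mod O_D) 0).obj F').IsGE 0)
      haveI : (dsgl F').IsLE 0 :=
        inferInstanceAs (((singleFunctor (ModSite.Mod O_D) 0).obj F').IsLE 0)
      rcases lt_or_gt_of_ne hn with hlt | hgt
      · exact isZero_of_isGE (dsgl F') 0 n hlt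
      · exact isZero_of_isLE (dsgl F') 0 n hgt
    have h2 : IsZero ((homologyFunctor (ModSite.Mod O_D) n).obj Z) :=
      isZero_homology_rpush f adj B hB F hvan n hn
    exact ⟨⟨0, h1.eq_of_src _ _, h2.eq_of_src _ _⟩⟩

/-- Pkg4 of `H41EpsSpec`, given Pkg1 (full faithfulness of `ε_*`). -/
theorem pkg4 (p1 : EpsSpec.Pkg1.{u}) : EpsSpec.Pkg4.{u} := by
  intro C _ J J' h O _ _ adj A B h3 h4 F hF
  obtain ⟨hfull, hfaith⟩ := p1 h O
  haveI := hfull
  haveI := hfaith
  haveI : IsIso (SiteCmp.eps h O).adj.counit :=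
    (SiteCmp.eps h O).adj.counit_isIso_of_R_fully_faithful
  exact isIso_unit_single_push (SiteCmp.eps h O) adj B h3 F
    (fun W hW p hp => h4 W hW F hF p hp)

end Groth.Agent.R2.H41.Eps4
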