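import Groth.Prelude.Def_SiteCmp
import Groth.Prelude.Def_WeakSerre

/-!
# helper41: interface (Spec) for the mini-project PROJ:eps-serre -> S9071

`S9071` (top tier): for topologies `J' ≤ J` on `C`, `ε = SiteCmp.eps h O : (C,J,O) → (C,J',O)`,
`A ⊂ Mod(O_J)` weak Serre, `B` a set of objects `J'`-covering everything with `H^p_J(U,F) = 0`
(`U ∈ B`, `F ∈ A`, `p > 0`): `ε_* A` is weak Serre and `ε^*`, `Rε_*` are inverse equivalences
`D_{ε_*A}(O_{J'}) ≃ D_A(O_J)`.

The assembly (`Groth/Agent/S9071.lean`, helper41) is `S9080` (prior) + the four packages below.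
Each package is a closed `Prop`; a package file proves `theorem pkgN : EpsSpec.PkgN`.
-/

set_option autoImplicit false
universe u
open CategoryTheory CategoryTheory.Limits Opposite
attribute [local instance] HasDerivedCategory.standard

namespace Groth.Agent.R2.H41.EpsSpec

/-- Pkg1: `ε_*` on modules is fully faithful (same underlying presheaf of modules). -/
def Pkg1 : Prop :=
  ∀ {C : Type u} [SmallCategory C] {J J' : GrothendieckTopology C} (h : J' ≤ J)
    (O : Sheaf J CommRingCat.{u}),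
    (SiteCmp.eps h O).push.Full ∧ (SiteCmp.eps h O).push.Faithful

/-- Pkg2: `ε_*` preserves epimorphisms whose kernel is in `A`
(sections over `V ∈ B` lift since `H^1_J(V, kernel) = 0`, and `B` is `J'`-covering). -/
def Pkg2 : Prop :=
  ∀ {C : Type u} [SmallCategory C] {J J' : GrothendieckTopology C} (h : J' ≤ J)
    (O : Sheaf J CommRingCat.{u}) (A : ObjectProperty (ModSite.Mod O)) (B : Set C)
    (_h3 : ∀ U : C, ∃ (ι : Type u) (Y : ι → C) (g : ∀ i, Y i ⟶ U),
      Sieve.ofArrows Y g ∈ J' U ∧ ∀ i, Y i ∈ B)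
    (_h4 : ∀ U ∈ B, ∀ F : ModSite.Mod O, A F → Subsingleton (ModSite.HU O F 1 U))
    (S : ShortComplex (ModSite.Mod O)), S.ShortExact → A S.X₁ →
      Epi ((SiteCmp.eps h O).push.map S.g)

/-- Pkg3 (pure category theory): for an adjunction `L ⊣ R` of abelian categories with `R` fully
faithful and `L` left exact, if `R` preserves epimorphisms with kernel in the weak Serre class `A`
then the essential image `A.map R` is a weak Serre class. -/
def Pkg3 : Prop :=
  ∀ {𝒜 : Type (u + 1)} [Category.{u} 𝒜] [Abelian 𝒜] {ℬ : Type (u + 1)} [Category.{u} ℬ] [Abelian ℬ]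
    (L : ℬ ⥤ 𝒜) (R : 𝒜 ⥤ ℬ) (_adj : L ⊣ R) [R.Full] [R.Faithful] [PreservesFiniteLimits L]
    (A : ObjectProperty 𝒜) [WSerre.IsWeakSerre A],
    (∀ S : ShortComplex 𝒜, S.ShortExact → A S.X₁ → Epi (R.map S.g)) →
      WSerre.IsWeakSerre (A.map R)

/-- Pkg4: for `F ∈ A` the derived unit `ε_*F → Rε_* ε^* ε_*F` is an isomorphism
(i.e. `R^p ε_* F = 0` for `p > 0`). -/
def Pkg4 : Prop :=
  ∀ {C : Type u} [SmallCategory C] {J J' : GrothendieckTopology C} (h : J' ≤ J)
    (O : Sheaf J CommRingCat.{u})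
    [PreservesFiniteLimits (SiteCmp.eps h O).pull] [SiteCmp.HasRpushD (SiteCmp.eps h O)]
    (adj : SiteCmp.pullD (SiteCmp.eps h O) ⊣ SiteCmp.RpushD (SiteCmp.eps h O))
    (A : ObjectProperty (ModSite.Mod O)) (B : Set C)
    (_h3 : ∀ U : C, ∃ (ι : Type u) (Y : ι → C) (g : ∀ i, Y i ⟶ U),
      Sieve.ofArrows Y g ∈ J' U ∧ ∀ i, Y i ∈ B)
    (_h4 : ∀ U ∈ B, ∀ F : ModSite.Mod O, A F → ∀ p : ℕ, 0 < p →
      Subsingleton (ModSite.HU O F p U))
    (F : ModSite.Mod O), A F →
      IsIso (adj.unit.app (SiteCmp.inD (SiteCmp.epsRing h O) ((SiteCmp.eps h O).push.obj F)))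

end Groth.Agent.R2.H41.EpsSpec
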