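import Mathlib

/-!
# helper41: every object is the filtered colimit of the "small" objects over it

Abstract setting: `𝒜` abelian (AB5), `G : ob → 𝒜` a (small) family of objects closed (up to iso)
under binary biproducts and cokernels, containing (up to iso) a family `gen` of generators.
Then for every `F : 𝒜` the category `Idx G F` of pairs `(x, a : G x ⟶ F)` is small and filtered,
and `F` is the colimit of the tautological diagram `Idx G F ⥤ 𝒜`.
-/

set_option autoImplicit false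
universe w v u
open CategoryTheory CategoryTheory.Limits

namespace Groth.Agent.R2.H41.FiltColim

variable {𝒜 : Type u} [Category.{v} 𝒜] {ob : Type w} (G : ob → 𝒜) (F : 𝒜)

/-- pairs `(x, a : G x ⟶ F)`. -/
structure Idx where
  x : ob
  a : G x ⟶ F

namespace Idx

variable {G F}

/-- morphisms over `F`. -/
@[ext]
structure Hom (p q : Idx G F) where
  f : G p.x ⟶ G q.x
  w : f ≫ q.a = p.a

attribute [reassoc (attr := simp)] Hom.w

instance : Category (Idx G F) where
  Hom := Hom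
  id p := ⟨𝟙 _, by simp⟩
  comp f g := ⟨f.f ≫ g.f, by simp⟩

@[ext]
lemma hom_ext' {p q : Idx G F} (f g : p ⟶ q) (h : f.f = g.f) : f = g := Hom.ext h

@[simp] lemma id_f (p : Idx G F) : (𝟙 p : p ⟶ p).f = 𝟙 _ := rfl

@[simp, reassoc] lemma comp_f {p q r : Idx G F} (f : p ⟶ q) (g : q ⟶ r) :
    (f ≫ g).f = f.f ≫ g.f := rfl

end Idx

/-- the tautological diagram. -/
@[simps, reducible]
def diag : Idx G F ⥤ 𝒜 where
  obj p := G p.x
  map f := f.f

/-- the tautological cocone. -/
@[simps]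
def cocone : Cocone (diag G F) where
  pt := F
  ι :=
    { app := fun p => p.a
      naturality := fun p q f => by
        dsimp
        rw [Category.comp_id]
        exact f.w }

section Filtered

variable [Abelian 𝒜]

theorem isFiltered [Nonempty ob]
    (hsum : ∀ x y : ob, ∃ z : ob, Nonempty (G z ≅ G x ⊞ G y))
    (hcok : ∀ (x y : ob) (f : G x ⟶ G y), ∃ z : ob, Nonempty (G z ≅ cokernel f)) :
    IsFiltered (Idx G F) := by
  haveI : Nonempty (Idx G F) := ⟨⟨Classical.arbitrary ob, 0⟩⟩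
  haveI : IsFilteredOrEmpty (Idx G F) := by
    constructor
    · intro p q
      obtain ⟨z, ⟨e⟩⟩ := hsum p.x q.x
      refine ⟨⟨z, e.hom ≫ biprod.desc p.a q.a⟩, ⟨biprod.inl ≫ e.inv, by simp⟩,
        ⟨biprod.inr ≫ e.inv, by simp⟩, trivial⟩
    · intro p q f g
      obtain ⟨z, ⟨e⟩⟩ := hcok p.x q.x (f.f - g.f)
      refine ⟨⟨z, e.hom ≫ cokernel.desc (f.f - g.f) q.a (by simp [Preadditive.sub_comp])⟩,
        ⟨cokernel.π (f.f - g.f) ≫ e.inv, by simp⟩, ?_⟩
      apply Idx.hom_ext'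
      rw [Idx.comp_f, Idx.comp_f, ← sub_eq_zero]
      change f.f ≫ (cokernel.π (f.f - g.f) ≫ e.inv) - g.f ≫ (cokernel.π (f.f - g.f) ≫ e.inv) = 0
      rw [← Preadditive.sub_comp, cokernel.condition_assoc, zero_comp]
  constructor

end Filtered

section Colimit

variable [Abelian 𝒜] {κ : Type*} (gen : κ → 𝒜)
  (hgen : ∀ {X Y : 𝒜} (h : X ⟶ Y), (∀ (k : κ) (s : gen k ⟶ X), s ≫ h = 0) → h = 0)
  (hgenG : ∀ k, ∃ x : ob, Nonempty (G x ≅ gen k))
  (hcok : ∀ (x y : ob) (f : G x ⟶ G y), ∃ z : ob, Nonempty (G z ≅ cokernel f))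

include hgen hgenG in
lemma epi_of_fac {L : 𝒜} (ι : ∀ p : Idx G F, G p.x ⟶ L) (c : L ⟶ F)
    (hc : ∀ p : Idx G F, ι p ≫ c = p.a) : Epi c := by
  apply Preadditive.epi_of_cancel_zero
  intro Z h hh
  apply hgen
  intro k s
  obtain ⟨x, ⟨e⟩⟩ := hgenG k
  have : s = e.inv ≫ ι ⟨x, e.hom ≫ s⟩ ≫ c := by
    rw [hc]
    simp
  rw [this, Category.assoc, Category.assoc, hh, comp_zero, comp_zero]

include hgen hgenG hcok in
lemma kernel_ι_comp_eq_zero {L : 𝒜} (ι : ∀ p : Idx G F, G p.x ⟶ L)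
    (hι : ∀ (p q : Idx G F) (f : p ⟶ q), f.f ≫ ι q = ι p) (p : Idx G F) :
    kernel.ι p.a ≫ ι p = 0 := by
  apply hgen
  intro k s
  obtain ⟨x₀, ⟨e⟩⟩ := hgenG k
  obtain ⟨φ, hφ⟩ : ∃ φ : G x₀ ⟶ G p.x, φ = e.hom ≫ s ≫ kernel.ι p.a := ⟨_, rfl⟩
  have hφa : φ ≫ p.a = 0 := by rw [hφ]; simp
  obtain ⟨z, ⟨e'⟩⟩ := hcok x₀ p.x φ
  let r : Idx G F := ⟨z, e'.hom ≫ cokernel.desc φ p.a hφa⟩
  let h : p ⟶ r := ⟨cokernel.π φ ≫ e'.inv, by simp [r]⟩
  have h1 : φ ≫ ι p = 0 := by
    rw [← hι p r h]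
    change φ ≫ (cokernel.π φ ≫ e'.inv) ≫ ι r = 0
    rw [Category.assoc, cokernel.condition_assoc, zero_comp]
  have h2 : s ≫ kernel.ι p.a ≫ ι p = e.inv ≫ φ ≫ ι p := by rw [hφ]; simp
  rw [h2, h1, comp_zero]

attribute [local instance] IsFiltered.isConnected

include hgen hgenG hcok in
/-- `F` is the colimit of the tautological diagram. -/
theorem isColimit_cocone [IsFiltered (Idx G F)] [HasColimitsOfShape (Idx G F) 𝒜]
    [HasExactColimitsOfShape (Idx G F) 𝒜] : Nonempty (IsColimit (cocone G F)) := by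
  let c : colimit (diag G F) ⟶ F := colimit.desc (diag G F) (cocone G F)
  have hc : ∀ p : Idx G F, colimit.ι (diag G F) p ≫ c = p.a := fun p => colimit.ι_desc _ _
  haveI hepi : Epi c := epi_of_fac G F gen hgen hgenG (fun p => colimit.ι (diag G F) p) c hc
  have hker : ∀ p : Idx G F, kernel.ι p.a ≫ colimit.ι (diag G F) p = 0 :=
    kernel_ι_comp_eq_zero G F gen hgen hgenG hcok (fun p => colimit.ι (diag G F) p)
      (fun p q f => colimit.w (diag G F) f)
  -- exactness of colimits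
  let S : ShortComplex (Idx G F ⥤ 𝒜) :=
    ShortComplex.mk (kernel.ι (cocone G F).ι) (cocone G F).ι (kernel.condition _)
  have hS : S.Exact := ShortComplex.exact_kernel _
  have hf0 : colimMap (kernel.ι (cocone G F).ι) = 0 := by
    apply colimit.hom_ext
    intro p
    rw [ι_colimMap, comp_zero]
    have h0 : (kernel.ι (cocone G F).ι).app p ≫ p.a = 0 := by
      have := congr_app (kernel.condition (cocone G F).ι) p
      rw [NatTrans.comp_app] at this
      exact this
    have h1 : (kernel.ι (cocone G F).ι).app p = kernel.lift p.a _ h0 ≫ kernel.ι p.a :=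
      (kernel.lift_ι _ _ _).symm
    rw [h1]
    exact (Category.assoc _ _ _).trans (by rw [hker]; exact comp_zero)
  have hex := colim.exact_mapShortComplex (S := S) hS (colimit.isColimit S.X₁)
    (colimit.isColimit (diag G F)) (isColimitConstCocone (Idx G F) F)
    (colimMap (kernel.ι (cocone G F).ι)) c (fun p => by simp [S])
    (fun p => by
      change colimit.ι (diag G F) p ≫ c = p.a ≫ 𝟙 F
      rw [hc, Category.comp_id])
  haveI hmono : Mono c := hex.mono_g hf0
  haveI hiso : IsIso c := isIso_of_mono_of_epi c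
  haveI : IsIso ((colimit.isColimit (diag G F)).desc (cocone G F)) := hiso
  exact ⟨IsColimit.ofPointIso (colimit.isColimit (diag G F))⟩

end Colimit

end Groth.Agent.R2.H41.FiltColim
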