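import Mathlib
import Groth.Agent.Lib.Helper2GenFree

/-!
# Generic freeness over a reduced ring (helper41)

Gröbner-basis argument of `Helper2GenFree` generalised from domains to reduced rings: the element
`f` to be inverted is chosen so that the ideal of leading exponents (with leading coefficient
invertible after inverting `f`) is maximal among multiples of a given nonzero element.
-/

set_option autoImplicit false
set_option linter.style.haveILetI false
universe u v

namespace Groth.Agent.R2.H41.GenFreeRed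

open MvPolynomial MonomialOrder TrivSqZeroExt TensorProduct
open scoped MonomialOrder
open Groth.Agent.Lib.Helper24GB Groth.Agent.Lib.Helper2.GenFree

section lm
variable {σ : Type*} (m : MonomialOrder σ) {R : Type*} [CommRing R]

/-- exponents above the leading exponent of an element of `I` whose leading coefficient divides a
power of `f`. -/
def LMideal (I : Ideal (MvPolynomial σ R)) (f : R) : AddSemigroupIdeal (σ →₀ ℕ) where
  carrier := {d | ∃ h ∈ I, (∃ k : ℕ, m.leadingCoeff h ∣ f ^ k) ∧ m.degree h ≤ d}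
  vadd_mem' := by
    rintro c d ⟨h, hI, hk, hle⟩
    exact ⟨h, hI, hk, le_trans hle (by simp)⟩

theorem mem_LMideal {I : Ideal (MvPolynomial σ R)} {f : R} {d : σ →₀ ℕ} :
    d ∈ LMideal m I f ↔ ∃ h ∈ I, (∃ k : ℕ, m.leadingCoeff h ∣ f ^ k) ∧ m.degree h ≤ d := Iff.rfl

theorem LMideal_mono (I : Ideal (MvPolynomial σ R)) {f f' : R} (hff' : f ∣ f') :
    LMideal m I f ≤ LMideal m I f' := by
  rintro d ⟨h, hI, ⟨k, hk⟩, hle⟩
  exact ⟨h, hI, ⟨k, hk.trans (pow_dvd_pow_of_dvd hff' k)⟩, hle⟩

variable [Finite σ]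

/-- a multiple `f` of `g₀` (not nilpotent) for which `LMideal` is maximal -/
theorem exists_maximal (I : Ideal (MvPolynomial σ R)) (g₀ : R) (hg₀ : ¬ IsNilpotent g₀) :
    ∃ f : R, g₀ ∣ f ∧ ¬ IsNilpotent f ∧
      ∀ f' : R, f ∣ f' → ¬ IsNilpotent f' → LMideal m I f' = LMideal m I f := by
  let 𝒮 : Set (AddSemigroupIdeal (σ →₀ ℕ)) :=
    {J | ∃ f : R, g₀ ∣ f ∧ ¬ IsNilpotent f ∧ J = LMideal m I f}
  have hne : 𝒮.Nonempty := ⟨_, g₀, dvd_rfl, hg₀, rfl⟩
  obtain ⟨J, ⟨f, hf1, hf2, rfl⟩, hmax⟩ :=
    WellFounded.has_min (wellFounded_gt (α := AddSemigroupIdeal (σ →₀ ℕ))) 𝒮 hne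
  refine ⟨f, hf1, hf2, fun f' hff' hf' => ?_⟩
  have hle := LMideal_mono m I hff'
  have hnot := hmax (LMideal m I f') ⟨f', hf1.trans hff', hf', rfl⟩
  by_contra hne'
  exact hnot (lt_of_le_of_ne hle (Ne.symm hne'))

end lm

section key
variable {σ : Type*} (m : MonomialOrder σ) {R : Type*} [CommRing R]

theorem mem_LMideal_of_leading [IsReduced R] (I : Ideal (MvPolynomial σ R)) {f : R}
    (hmax : ∀ f' : R, f ∣ f' → ¬ IsNilpotent f' → LMideal m I f' = LMideal m I f)
    {h : MvPolynomial σ R} (hI : h ∈ I) {d : σ →₀ ℕ}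
    (hd : ∀ j : ℕ, f ^ j * h.coeff d ≠ 0)
    (hhigh : ∀ e ∈ h.support, d ≺[m] e → ∃ j : ℕ, f ^ j * h.coeff e = 0) :
    d ∈ LMideal m I f := by
  classical
  set c := h.coeff d with hc
  have hf' : ¬ IsNilpotent (f * c) := by
    intro hn
    have := hn.eq_zero
    exact hd 1 (by rw [pow_one]; exact this)
  -- a uniform exponent
  have hJ : ∃ J : ℕ, ∀ e ∈ h.support, d ≺[m] e → f ^ J * h.coeff e = 0 := by
    choose! j hj using hhigh
    refine ⟨h.support.sup j, fun e he hde => ?_⟩
    have hle : j e ≤ h.support.sup j := Finset.le_sup he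
    obtain ⟨t, ht⟩ := Nat.exists_eq_add_of_le hle
    rw [ht, pow_add, mul_right_comm, hj e he hde, zero_mul]
  obtain ⟨J, hJ⟩ := hJ
  set h' : MvPolynomial σ R := C (f ^ J) * h with hh'
  have hcoeff : ∀ e, h'.coeff e = f ^ J * h.coeff e := fun e => by rw [hh', coeff_C_mul]
  have hh'I : h' ∈ I := Ideal.mul_mem_left _ _ hI
  have hdeg : m.degree h' = d := by
    apply m.toSyn.injective
    apply le_antisymm
    · rw [m.degree_le_iff]
      intro e he
      rw [mem_support_iff, hcoeff] at he
      by_contra hlt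
      rw [not_le] at hlt
      have hesupp : e ∈ h.support := by
        rw [mem_support_iff]
        intro h0
        exact he (by rw [h0, mul_zero])
      exact he (hJ e hesupp hlt)
    · apply m.le_degree
      rw [mem_support_iff, hcoeff]
      exact hd J
  have hlc : m.leadingCoeff h' = f ^ J * c := by
    rw [MonomialOrder.leadingCoeff, hdeg, hcoeff]
  rw [← hmax (f * c) (Dvd.intro _ rfl) hf']
  refine ⟨h', hh'I, ⟨J + 1, ?_⟩, hdeg.le⟩
  rw [hlc]
  exact ⟨f * c ^ J, by ring⟩

end key
section fin
variable {σ : Type*} [Finite σ] (m : MonomialOrder σ) {R : Type*} [CommRing R]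

theorem exists_finite_gens (I : Ideal (MvPolynomial σ R)) (f : R) :
    ∃ (G : Finset (MvPolynomial σ R)) (K : ℕ), (∀ g ∈ G, g ∈ I ∧ m.leadingCoeff g ∣ f ^ K) ∧
      ∀ d ∈ LMideal m I f, ∃ g ∈ G, m.degree g ≤ d := by
  classical
  set D : Set (σ →₀ ℕ) := {d | d ∈ LMideal m I f} with hD
  set Dmin : Set (σ →₀ ℕ) := {d | Minimal (· ∈ D) d} with hDmin
  have hanti : IsAntichain (· ≤ ·) Dmin := by
    intro a ha b hb hab hle
    exact hab (le_antisymm hle (hb.2 ha.1 hle))
  have hfin : Dmin.Finite := WellQuasiOrderedLE.finite_of_isAntichain hanti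
  have hch : ∀ d : Dmin, ∃ h ∈ I, (∃ k : ℕ, m.leadingCoeff h ∣ f ^ k) ∧ m.degree h ≤ d.1 :=
    fun d => d.2.1
  choose x hxI hxk hxd using hch
  choose k hk using hxk
  haveI := hfin.fintype
  refine ⟨Finset.univ.image x, Finset.univ.sup k, ?_, ?_⟩
  · intro g hg
    obtain ⟨d, -, rfl⟩ := Finset.mem_image.mp hg
    exact ⟨hxI d, (hk d).trans (pow_dvd_pow f (Finset.le_sup (Finset.mem_univ d)))⟩
  · intro d hd
    obtain ⟨b, hb, hbmin⟩ := (Set.isPWO_of_wellQuasiOrderedLE D).exists_le_minimal hd
    refine ⟨x ⟨b, hbmin⟩, ?_, (hxd _).trans hb⟩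
    simp

end fin
section tors
variable {σ : Type*} (m : MonomialOrder σ) {R : Type*} [CommRing R]

theorem reduced_torsion [IsReduced R] (I : Ideal (MvPolynomial σ R)) {f : R}
    (hmax : ∀ f' : R, f ∣ f' → ¬ IsNilpotent f' → LMideal m I f' = LMideal m I f)
    {G : Set (MvPolynomial σ R)} (hG : ∀ d ∈ LMideal m I f, ∃ g ∈ G, m.degree g ≤ d)
    {r : MvPolynomial σ R} (hrI : r ∈ I) (hr : Reduced m G r) (e : σ →₀ ℕ) :
    ∃ k : ℕ, f ^ k * r.coeff e = 0 := by
  classical
  by_contra hcon
  push Not at hcon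
  set B' : Finset (σ →₀ ℕ) := r.support.filter (fun e => ∀ k : ℕ, f ^ k * r.coeff e ≠ 0) with hB'
  have hne : B'.Nonempty := by
    refine ⟨e, ?_⟩
    rw [hB', Finset.mem_filter, mem_support_iff]
    exact ⟨fun h0 => hcon 0 (by rw [h0, mul_zero]), hcon⟩
  obtain ⟨d, hdB, hdmax⟩ := Finset.exists_max_image B' m.toSyn hne
  rw [hB', Finset.mem_filter] at hdB
  have hmem : d ∈ LMideal m I f := by
    refine mem_LMideal_of_leading m I hmax hrI hdB.2 fun e' he' hlt => ?_
    by_contra hno
    push Not at hno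
    have : e' ∈ B' := by
      rw [hB', Finset.mem_filter]
      exact ⟨he', hno⟩
    exact absurd (hdmax e' this) (not_le.mpr hlt)
  obtain ⟨g, hg, hle⟩ := hG d hmem
  exact hr d hdB.1 g hg hle

theorem reduced_torsion' [IsReduced R] (I : Ideal (MvPolynomial σ R)) {f : R}
    (hmax : ∀ f' : R, f ∣ f' → ¬ IsNilpotent f' → LMideal m I f' = LMideal m I f)
    {G : Set (MvPolynomial σ R)} (hG : ∀ d ∈ LMideal m I f, ∃ g ∈ G, m.degree g ≤ d)
    {r : MvPolynomial σ R} (hrI : r ∈ I) (hr : Reduced m G r) :
    ∃ N : ℕ, f ^ N • r = 0 := by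
  classical
  choose k hk using fun e => reduced_torsion m I hmax hG hrI hr e
  refine ⟨r.support.sup k, ?_⟩
  ext e
  rw [coeff_smul, coeff_zero, smul_eq_mul]
  by_cases he : e ∈ r.support
  · obtain ⟨t, ht⟩ := Nat.exists_eq_add_of_le (Finset.le_sup (f := k) he)
    rw [ht, pow_add, mul_right_comm, hk e, zero_mul]
  · rw [notMem_support_iff.mp he, mul_zero]

end tors
section data
variable {σ : Type*} [Finite σ] (m : MonomialOrder σ) {R : Type*} [CommRing R]

omit [Finite σ] in
theorem coeff_linearCombination_std (G : Set (MvPolynomial σ R)) (l : Std m G →₀ R) (b : Std m G) :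
    (Finsupp.linearCombination R (fun b : Std m G => monomial b.1 (1 : R)) l).coeff b.1 = l b := by
  classical
  rw [Finsupp.linearCombination_apply, Finsupp.sum, coeff_sum]
  simp only [coeff_smul, coeff_monomial, smul_eq_mul]
  rw [Finset.sum_eq_single b]
  · simp
  · intro b' _ hne
    rw [if_neg (fun h => hne (Subtype.ext h)), mul_zero]
  · intro hb
    rw [Finsupp.notMem_support_iff.mp hb, zero_mul]

theorem exists_data_reduced [IsReduced R] {T : Type*} [CommRing T] [Module R T]
    (φ : MvPolynomial σ R →+* T) (hlin : ∀ (c : R) (p : MvPolynomial σ R), φ (c • p) = c • φ p)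
    (g₀ : R) (hg₀ : g₀ ≠ 0) :
    ∃ (f : R) (G : Finset (MvPolynomial σ R)), f ≠ 0 ∧ g₀ ∣ f ∧ (∀ g ∈ G, φ g = 0) ∧
      (∀ l : Std m (G : Set (MvPolynomial σ R)) →₀ R,
        Finsupp.linearCombination R
          (fun b : Std m (G : Set (MvPolynomial σ R)) => φ (monomial b.1 1)) l = 0 →
          ∀ b, ∃ k : ℕ, f ^ k * l b = 0) ∧
      (∀ p, ∃ n : ℕ, f ^ n • φ p ∈ Submodule.span R
        (Set.range fun b : Std m (G : Set (MvPolynomial σ R)) => φ (monomial b.1 1))) ∧
      (∀ p, φ p = 0 → ∃ n : ℕ, f ^ n • p ∈ Ideal.span (G : Set (MvPolynomial σ R))) := by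
  classical
  have hg₀' : ¬ IsNilpotent g₀ := fun h => hg₀ h.eq_zero
  obtain ⟨f, hg₀f, hfnil, hmax⟩ := exists_maximal m (RingHom.ker φ) g₀ hg₀'
  obtain ⟨G, K, hGI, hGLM⟩ := exists_finite_gens m (RingHom.ker φ) f
  have hGLM' : ∀ d ∈ LMideal m (RingHom.ker φ) f,
      ∃ g ∈ (G : Set (MvPolynomial σ R)), m.degree g ≤ d := fun d hd => by
    obtain ⟨g, hg, hle⟩ := hGLM d hd
    exact ⟨g, Finset.mem_coe.mpr hg, hle⟩
  have hf0 : f ≠ 0 := fun h => hfnil (h ▸ IsNilpotent.zero)
  let φL : MvPolynomial σ R →ₗ[R] T :=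
    { toFun := φ, map_add' := map_add φ, map_smul' := fun c p => hlin c p }
  have hspanle : Ideal.span (G : Set (MvPolynomial σ R)) ≤ RingHom.ker φ :=
    Ideal.span_le.mpr fun g hg => (hGI g hg).1
  have hdiv : ∀ p, ∃ (n : ℕ) (r : MvPolynomial σ R), Reduced m (G : Set (MvPolynomial σ R)) r ∧
      (f ^ K) ^ n • p - r ∈ Ideal.span (G : Set (MvPolynomial σ R)) := fun p =>
    exists_pseudo_reduced m _ _ (fun g hg => (hGI g hg).2) p
  refine ⟨f, G, hf0, hg₀f, fun g hg => (RingHom.mem_ker).mp (hGI g hg).1, ?_, ?_, ?_⟩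
  · intro l hl b
    set r : MvPolynomial σ R :=
      Finsupp.linearCombination R
        (fun b : Std m (G : Set (MvPolynomial σ R)) => monomial b.1 (1 : R)) l with hr
    have hφr : φL r = 0 := by
      rw [hr, Finsupp.apply_linearCombination]
      exact hl
    have hred : Reduced m (G : Set (MvPolynomial σ R)) r := by
      intro e he g hg
      rw [hr, Finsupp.linearCombination_apply, Finsupp.sum] at he
      obtain ⟨b, -, hb⟩ := Finset.mem_biUnion.mp (MvPolynomial.support_sum he)
      have hb' := MvPolynomial.support_smul hb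
      have : e = b.1 := by
        have := support_monomial_subset hb'
        simpa using this
      subst this
      exact b.2 g hg
    obtain ⟨k, hk⟩ := reduced_torsion m (RingHom.ker φ) hmax hGLM'
      ((RingHom.mem_ker).mpr hφr) hred b.1
    rw [hr, coeff_linearCombination_std] at hk
    exact ⟨k, hk⟩
  · intro p
    obtain ⟨n, r, hr, hmem⟩ := hdiv p
    refine ⟨K * n, ?_⟩
    have h0 : φ ((f ^ K) ^ n • p - r) = 0 := (RingHom.mem_ker).mp (hspanle hmem)
    rw [map_sub, sub_eq_zero, hlin] at h0
    rw [pow_mul, h0]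
    exact reduced_mem_span m φL hr
  · intro p hp
    obtain ⟨n, r, hr, hmem⟩ := hdiv p
    have hrI : r ∈ RingHom.ker φ := by
      have h0 : φ ((f ^ K) ^ n • p - r) = 0 := (RingHom.mem_ker).mp (hspanle hmem)
      rw [map_sub, hlin, hp, smul_zero, zero_sub, neg_eq_zero] at h0
      exact (RingHom.mem_ker).mpr h0
    obtain ⟨N, hN⟩ := reduced_torsion' m (RingHom.ker φ) hmax hGLM' hrI hr
    refine ⟨N + K * n, ?_⟩
    have : f ^ (N + K * n) • p = C (f ^ N) * ((f ^ K) ^ n • p - r) := by
      rw [mul_sub, ← smul_eq_C_mul, ← smul_eq_C_mul, hN, sub_zero, smul_smul, pow_add, pow_mul]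
    rw [this]
    exact Ideal.mul_mem_left _ _ hmem

end data
section basisAway
variable (R : Type*) [CommRing R]

/-- `v` becomes a basis after inverting `f`: independent up to `f`-power torsion and spanning up to
powers of `f`. -/
def IsBasisAway (f : R) {M : Type*} [AddCommGroup M] [Module R M] {ι : Type*} (v : ι → M) : Prop :=
  (∀ l : ι →₀ R, Finsupp.linearCombination R v l = 0 → ∀ i, ∃ k : ℕ, f ^ k * l i = 0) ∧
    ∀ x : M, ∃ n : ℕ, f ^ n • x ∈ Submodule.span R (Set.range v)

variable {R} {M : Type*} [AddCommGroup M] [Module R M] {ι : Type*}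

theorem IsBasisAway.of_dvd {f f' : R} {v : ι → M} (h : IsBasisAway R f v) (hff' : f ∣ f') :
    IsBasisAway R f' v := by
  obtain ⟨c, rfl⟩ := hff'
  refine ⟨fun l hl i => ?_, fun x => ?_⟩
  · obtain ⟨k, hk⟩ := h.1 l hl i
    exact ⟨k, by rw [mul_pow, mul_right_comm, hk, zero_mul]⟩
  · obtain ⟨n, hn⟩ := h.2 x
    refine ⟨n, ?_⟩
    rw [mul_pow, mul_comm, mul_smul]
    exact Submodule.smul_mem _ _ hn

/-- A family which is a basis away from `f` becomes a basis over `R_f` after localization. -/
theorem IsBasisAway.free {f : R} {v : ι → M} (h : IsBasisAway R f v) (A : Type*) [CommRing A]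
    [Algebra R A] [IsLocalization.Away f A] {M' : Type*} [AddCommGroup M'] [Module R M']
    [Module A M'] [IsScalarTower R A M'] (g : M →ₗ[R] M')
    [IsLocalizedModule (Submonoid.powers f) g] : Module.Free A M' := by
  classical
  obtain ⟨hind, hs⟩ := h
  have hli : LinearIndependent A (g ∘ v) := by
    rw [linearIndependent_iff'']
    intro s c hcs hsum i
    by_cases his : i ∈ s
    swap
    · exact hcs i his
    obtain ⟨b, hb⟩ := IsLocalization.exist_integer_multiples (Submonoid.powers f) s c
    choose! a ha using hb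
    -- `a j` maps to `b • c j`
    have hbu : IsUnit (algebraMap R A (b : R)) := IsLocalization.map_units A b
    have h1 : g (∑ j ∈ s, a j • v j) = 0 := by
      rw [map_sum]
      have : ∀ j ∈ s, g (a j • v j) = algebraMap R A (b : R) • (c j • (g ∘ v) j) := by
        intro j hj
        rw [map_smul, ← algebraMap_smul A (a j), ha j hj, Function.comp_apply, smul_smul,
          Algebra.smul_def]
      rw [Finset.sum_congr rfl this, ← Finset.smul_sum, hsum, smul_zero]
    rw [IsLocalizedModule.eq_zero_iff (Submonoid.powers f)] at h1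
    obtain ⟨t, ht⟩ := h1
    -- the relation in `M`
    let l : ι →₀ R := Finsupp.onFinset s (fun j => if j ∈ s then (t : R) * a j else 0)
      (fun j hj => by
        by_contra hjs
        exact hj (if_neg hjs))
    have hl : Finsupp.linearCombination R v l = 0 := by
      rw [Finsupp.linearCombination_apply, Finsupp.sum_of_support_subset l
        (Finsupp.support_onFinset_subset) _ (fun j _ => zero_smul R (v j))]
      have : ∀ j ∈ s, l j • v j = (t : R) • (a j • v j) := by
        intro j hj
        simp only [l, Finsupp.onFinset_apply, if_pos hj, mul_smul]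
      rw [Finset.sum_congr rfl this, ← Finset.smul_sum]
      exact ht
    obtain ⟨k, hk⟩ := hind l hl i
    have hli' : l i = (t : R) * a i := by simp only [l, Finsupp.onFinset_apply, if_pos his]
    rw [hli', ← mul_assoc] at hk
    have h2 : algebraMap R A (a i) = 0 := by
      rw [IsLocalization.map_eq_zero_iff (Submonoid.powers f)]
      exact ⟨⟨f ^ k, k, rfl⟩ * t, by simpa using hk⟩
    rw [ha i his] at h2
    have h3 : algebraMap R A (b : R) * c i = 0 := by
      rw [← Algebra.smul_def]
      exact h2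
    exact (hbu.mul_right_eq_zero).mp h3
  have hspan : ⊤ ≤ Submodule.span A (Set.range (g ∘ v)) := by
    intro x' _
    obtain ⟨⟨x, s⟩, hxs⟩ := IsLocalizedModule.surj (Submonoid.powers f) g x'
    obtain ⟨n, hn⟩ := hs x
    have h1 : g (f ^ n • x) ∈ Submodule.span A (Set.range (g ∘ v)) := by
      have : g (f ^ n • x) ∈ (Submodule.span R (Set.range v)).map g := Submodule.mem_map_of_mem hn
      rw [Submodule.map_span] at this
      have hle : Submodule.span R (g '' Set.range v) ≤
          (Submodule.span A (Set.range (g ∘ v))).restrictScalars R := by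
        rw [Submodule.span_le]
        rintro _ ⟨_, ⟨b, rfl⟩, rfl⟩
        exact Submodule.subset_span ⟨b, rfl⟩
      exact hle this
    have hu : IsUnit (algebraMap R A (f ^ n * (s : R))) := by
      rw [map_mul]
      exact (IsLocalization.map_units A (⟨f ^ n, n, rfl⟩ : Submonoid.powers f)).mul
        (IsLocalization.map_units A s)
    have h2 : algebraMap R A (f ^ n * (s : R)) • x' = g (f ^ n • x) := by
      rw [algebraMap_smul, mul_smul, map_smul, ← hxs]
      rfl
    rw [← h2] at h1
    have := Submodule.smul_mem _ (↑hu.unit⁻¹ : A) h1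
    rwa [smul_smul, IsUnit.val_inv_mul, one_smul] at this
  exact Module.Free.of_basis (Module.Basis.mk hli hspan)

end basisAway

section retract
variable {R : Type*} [CommRing R]

/-- Splitting lemma: if `v` is a basis of `T` away from `f` each of whose members lies in the image
of `i` or is killed by the retraction `π`, then the members in the image of `i` give a basis of `Q`
away from `f`. -/
theorem IsBasisAway.of_retract {f : R} {T Q : Type*} [AddCommGroup T] [Module R T] [AddCommGroup Q]
    [Module R Q] {ι : Type*} {v : ι → T} (h : IsBasisAway R f v)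
    (i : Q →ₗ[R] T) (π : T →ₗ[R] Q) (hπi : ∀ q, π (i q) = q)
    (hcase : ∀ b, v b ∈ Set.range i ∨ π (v b) = 0) :
    IsBasisAway R f (fun b : {b : ι // v b ∈ Set.range i} => π (v b.1)) := by
  classical
  obtain ⟨hind, hs⟩ := h
  have hiw : ∀ b : {b : ι // v b ∈ Set.range i}, i (π (v b.1)) = v b.1 := by
    rintro ⟨b, q, hq⟩
    rw [← hq, hπi]
  refine ⟨fun l hl b => ?_, fun x => ?_⟩
  · have h1 : Finsupp.linearCombination R v (Finsupp.mapDomain Subtype.val l) = 0 := by
      rw [Finsupp.linearCombination_mapDomain]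
      have : Finsupp.linearCombination R (v ∘ Subtype.val) l =
          i (Finsupp.linearCombination R (fun b : {b : ι // v b ∈ Set.range i} => π (v b.1)) l) := by
        rw [Finsupp.apply_linearCombination]
        have hfun : (v ∘ Subtype.val : {b : ι // v b ∈ Set.range i} → T) =
            (⇑i ∘ fun b : {b : ι // v b ∈ Set.range i} => π (v b.1)) := by
          funext b
          exact (hiw b).symm
        rw [hfun]
      rw [this, hl, map_zero]
    obtain ⟨k, hk⟩ := hind _ h1 b.1
    rw [Finsupp.mapDomain_apply Subtype.val_injective] at hk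
    exact ⟨k, hk⟩
  · obtain ⟨n, hn⟩ := hs (i x)
    refine ⟨n, ?_⟩
    have h1 : π (f ^ n • i x) ∈ (Submodule.span R (Set.range v)).map π :=
      Submodule.mem_map_of_mem hn
    rw [map_smul, hπi, Submodule.map_span] at h1
    refine (Submodule.span_le.mpr ?_) h1
    rintro _ ⟨_, ⟨b, rfl⟩, rfl⟩
    rcases hcase b with hb | h0
    · exact Submodule.subset_span ⟨⟨b, hb⟩, rfl⟩
    · rw [h0]; exact Submodule.zero_mem _

end retract
section module

variable {R : Type*} [CommRing R] [IsReduced R] {S : Type*} [CommRing S] [Algebra R S]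
  {M : Type*} [AddCommGroup M] [Module S M] [Module R M] [IsScalarTower R S M]
  [Module Sᵐᵒᵖ M] [IsCentralScalar S M]

theorem exists_module_data_reduced {n r : ℕ} (φS : MvPolynomial (Fin n) R →ₐ[R] S)
    (hφS : Function.Surjective φS) (mgen : Fin r → M)
    (hgen : Submodule.span S (Set.range mgen) = ⊤) (g₀ : R) (hg₀ : g₀ ≠ 0) :
    ∃ f : R, f ≠ 0 ∧ g₀ ∣ f ∧ (∃ (ι : Type) (v : ι → S), IsBasisAway R f v) ∧
      (∃ (ι : Type) (v : ι → M), IsBasisAway R f v) ∧
      ∃ V : Finset (Fin r → S), (∀ a ∈ V, ∑ j, a j • mgen j = 0) ∧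
        ∀ a : Fin r → S, ∑ j, a j • mgen j = 0 →
          ∃ k : ℕ, f ^ k • a ∈ Submodule.span S (V : Set (Fin r → S)) := by
  classical
  -- the universal and the actual trivial square zero extensions
  let π : (Fin r → S) →ₗ[S] M := Fintype.linearCombination S mgen
  have hπ : ∀ a, π a = ∑ j, a j • mgen j := fun a => Fintype.linearCombination_apply S mgen a
  have hπsurj : Function.Surjective π := by
    rw [← LinearMap.range_eq_top, Fintype.range_linearCombination, hgen]
  let ρ : TrivSqZeroExt S (Fin r → S) →ₐ[S] TrivSqZeroExt S M := TrivSqZeroExt.map π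
  let c₀ : R →+* TrivSqZeroExt S (Fin r → S) := (inlHom S (Fin r → S)).comp (algebraMap R S)
  let gens : Fin (n + r) → TrivSqZeroExt S (Fin r → S) :=
    Fin.addCases (fun i => inl (φS (X i))) (fun j => inr (Pi.single j 1))
  let φu : MvPolynomial (Fin (n + r)) R →+* TrivSqZeroExt S (Fin r → S) := eval₂Hom c₀ gens
  let φ' : MvPolynomial (Fin (n + r)) R →+* TrivSqZeroExt S M := (ρ : _ →+* _).comp φu
  have hφuC : ∀ c : R, φu (C c) = inl (algebraMap R S c) := fun c => by
    simp [φu, c₀]
  have hφuXl : ∀ i : Fin n, φu (X (Fin.castAdd r i)) = inl (φS (X i)) := fun i => by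
    simp [φu, gens]
  have hφuXr : ∀ j : Fin r, φu (X (Fin.natAdd n j)) = inr (Pi.single j 1) := fun j => by
    simp [φu, gens]
  have hlinu : ∀ (c : R) (p : MvPolynomial (Fin (n + r)) R), φu (c • p) = c • φu p := by
    intro c p
    rw [smul_eq_C_mul, map_mul, hφuC, inl_mul_eq_smul, tsze_algebraMap_smul]
  have hρlin : ∀ (c : R) (z : TrivSqZeroExt S (Fin r → S)), ρ (c • z) = c • ρ z := by
    intro c z
    rw [← tsze_algebraMap_smul, map_smul, tsze_algebraMap_smul]
  have hlin' : ∀ (c : R) (p : MvPolynomial (Fin (n + r)) R), φ' (c • p) = c • φ' p := by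
    intro c p
    change ρ (φu (c • p)) = c • ρ (φu p)
    rw [hlinu, hρlin]
  -- `φu` restricted to the first block of variables
  have h_inl : ∀ p : MvPolynomial (Fin n) R, φu (rename (Fin.castAdd r) p) = inl (φS p) := by
    intro p
    have : (φu.comp (rename (Fin.castAdd r) : MvPolynomial (Fin n) R →ₐ[R] _).toRingHom) =
        (inlHom S (Fin r → S)).comp φS.toRingHom := by
      apply MvPolynomial.ringHom_ext
      · intro c
        simp only [RingHom.coe_comp, Function.comp_apply, AlgHom.toRingHom_eq_coe, RingHom.coe_coe,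
          rename_C, hφuC, inlHom_apply]
        rw [← MvPolynomial.algebraMap_eq, AlgHom.commutes]
      · intro i
        simp only [RingHom.coe_comp, Function.comp_apply, AlgHom.toRingHom_eq_coe, RingHom.coe_coe,
          rename_X, hφuXl, inlHom_apply]
    exact congrArg (fun h => h p) this
  have hφusurj : Function.Surjective φu := by
    intro z
    obtain ⟨p, hp⟩ := hφS z.fst
    choose q hq using fun j => hφS (z.snd j)
    refine ⟨rename (Fin.castAdd r) p + ∑ j, rename (Fin.castAdd r) (q j) * X (Fin.natAdd n j), ?_⟩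
    rw [map_add, map_sum, h_inl, hp]
    have : ∀ j, φu (rename (Fin.castAdd r) (q j) * X (Fin.natAdd n j)) =
        inr (Pi.single j (z.snd j)) := by
      intro j
      rw [map_mul, h_inl, hφuXr, hq, inl_mul_inr]
      congr 1
      ext k
      simp [Pi.single_apply]
    simp_rw [this]
    rw [← inr_sum]
    apply TrivSqZeroExt.ext
    · simp
    · simp only [snd_add, snd_inl, snd_inr, zero_add]
      ext k
      simp [Finset.sum_apply, Pi.single_apply]
  have hρsurj : Function.Surjective ρ := by
    intro z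
    obtain ⟨a, ha⟩ := hπsurj z.snd
    refine ⟨inl z.fst + inr a, ?_⟩
    apply TrivSqZeroExt.ext
    · simp [ρ]
    · simp [ρ, ha]
  have hφ'surj : Function.Surjective φ' := hρsurj.comp hφusurj
  -- Gröbner data
  obtain ⟨f, G, hf, hg₀f, hG0, hLI, hspan, hker⟩ :=
    exists_data_reduced (MonomialOrder.lex) φ' hlin' g₀ hg₀
  -- each standard monomial lands in `inl S` or `inr M`
  have hcases : ∀ b : Fin (n + r) →₀ ℕ, (∃ s : S, φ' (monomial b 1) = inl s) ∨
      (∃ x : M, φ' (monomial b 1) = inr x) := by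
    intro b
    by_cases h : ∃ j : Fin r, b (Fin.natAdd n j) ≠ 0
    · right
      obtain ⟨j, hj⟩ := h
      have hle : Finsupp.single (Fin.natAdd n j) 1 ≤ b := by
        rw [Finsupp.single_le_iff]
        exact Nat.one_le_iff_ne_zero.mpr hj
      have hb : b = Finsupp.single (Fin.natAdd n j) 1 + (b - Finsupp.single (Fin.natAdd n j) 1) :=
        (add_tsub_cancel_of_le hle).symm
      rw [hb, monomial_single_add, pow_one, map_mul]
      change ∃ x, ρ (φu (X (Fin.natAdd n j))) * _ = inr x
      rw [hφuXr]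
      simp only [ρ, map_inr]
      rw [tsze_inr_mul]
      exact ⟨_, rfl⟩
    · left
      push Not at h
      have hmem : φ' (monomial b 1) ∈ (inlHom S M).range := by
        rw [monomial_eq, map_mul, map_finsuppProd]
        refine Subring.mul_mem _ ?_ (Subring.prod_mem _ fun k _ => ?_)
        · rw [C_1, map_one]; exact Subring.one_mem _
        · change φ' (X k ^ b k) ∈ _
          refine Fin.addCases (fun i => ?_) (fun j => ?_) k
          · rw [map_pow]
            refine Subring.pow_mem _ ?_ _
            refine ⟨φS (X i), ?_⟩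
            change _ = ρ (φu (X (Fin.castAdd r i)))
            rw [hφuXl]
            simp [ρ, map_inl]
          · rw [h j, pow_zero, map_one]
            exact Subring.one_mem _
      obtain ⟨s, hs⟩ := hmem
      exact ⟨s, hs.symm⟩
  have hsT : ∀ x : TrivSqZeroExt S M, ∃ k : ℕ, f ^ k • x ∈ Submodule.span R
      (Set.range fun b : Std MonomialOrder.lex (G : Set (MvPolynomial (Fin (n + r)) R)) =>
        φ' (monomial b.1 1)) := by
    intro x
    obtain ⟨p, rfl⟩ := hφ'surj x
    exact hspan p
  -- linear maps in and out of the extension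
  let iS : S →ₗ[R] TrivSqZeroExt S M :=
    { toFun := inl, map_add' := inl_add M, map_smul' := fun c s => inl_smul M c s }
  let pS : TrivSqZeroExt S M →ₗ[R] S :=
    { toFun := fst, map_add' := fst_add, map_smul' := fun c z => fst_smul c z }
  let iM : M →ₗ[R] TrivSqZeroExt S M :=
    { toFun := inr, map_add' := inr_add S, map_smul' := fun c x => inr_smul S c x }
  let pM : TrivSqZeroExt S M →ₗ[R] M :=
    { toFun := snd, map_add' := snd_add, map_smul' := fun c z => snd_smul c z }
  have hBT : IsBasisAway R f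
      (fun b : Std MonomialOrder.lex (G : Set (MvPolynomial (Fin (n + r)) R)) =>
        φ' (monomial b.1 1)) := ⟨hLI, hsT⟩
  have hFS := hBT.of_retract iS pS (fun s => fst_inl M s) fun b => by
    rcases hcases b.1 with ⟨s, hs⟩ | ⟨x, hx⟩
    · exact Or.inl ⟨s, hs.symm⟩
    · right
      change (φ' (monomial b.1 1)).fst = 0
      rw [hx, fst_inr]
  have hFM := hBT.of_retract iM pM (fun x => snd_inr S x) fun b => by
    rcases hcases b.1 with ⟨s, hs⟩ | ⟨x, hx⟩
    · right
      change (φ' (monomial b.1 1)).snd = 0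
      rw [hs, snd_inl]
    · exact Or.inl ⟨x, hx.symm⟩
  refine ⟨f, hf, hg₀f, ⟨_, _, hFS⟩, ⟨_, _, hFM⟩, G.image (fun g => (φu g).snd), ?_, ?_⟩
  · intro a ha
    obtain ⟨g, hg, rfl⟩ := Finset.mem_image.mp ha
    have h0 : ρ (φu g) = 0 := hG0 g hg
    have := congrArg snd h0
    rw [snd_map, snd_zero, hπ] at this
    exact this
  · intro a ha
    obtain ⟨y, hy⟩ := hφusurj (inr a)
    have hy' : φ' y = 0 := by
      change ρ (φu y) = 0
      rw [hy]
      simp only [ρ, map_inr]
      rw [hπ, ha, inr_zero]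
    obtain ⟨k, hk⟩ := hker y hy'
    refine ⟨k, ?_⟩
    -- the set of polynomials with `fst = 0` and `snd` in the span of `V`
    have key : ∀ p ∈ Ideal.span (G : Set (MvPolynomial (Fin (n + r)) R)),
        (φu p).fst = 0 ∧ (φu p).snd ∈ Submodule.span S
          ((G.image (fun g => (φu g).snd) : Finset (Fin r → S)) : Set (Fin r → S)) := by
      intro p hp
      induction hp using Submodule.span_induction with
      | mem g hg =>
        refine ⟨?_, Submodule.subset_span (Finset.mem_coe.mpr (Finset.mem_image_of_mem _ hg))⟩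
        have h0 : ρ (φu g) = 0 := hG0 g hg
        have := congrArg fst h0
        rwa [fst_map, fst_zero] at this
      | zero => simp
      | add p q _ _ hp hq =>
        refine ⟨by rw [map_add, fst_add, hp.1, hq.1, add_zero], ?_⟩
        rw [map_add, snd_add]
        exact Submodule.add_mem _ hp.2 hq.2
      | smul q p _ hp =>
        rw [smul_eq_mul, map_mul]
        refine ⟨by rw [fst_mul, hp.1, mul_zero], ?_⟩
        rw [tsze_snd_mul, hp.1, zero_smul, add_zero]
        exact Submodule.smul_mem _ _ hp.2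
    have := (key _ hk).2
    rwa [hlinu, snd_smul, hy, snd_inr] at this

end module

section wrap

/-- **Generic freeness over a reduced ring** (witness form): for a reduced ring `R`, a finite type
`R`-algebra `S`, a finite `S`-module `M` and a nonzero `g₀ : R` there is a nonzero multiple `f` of
`g₀` such that `S` and `M` have bases away from `f`; moreover the kernel of a presentation of `S`
(resp. of `M`) is finitely generated up to powers of `f`. -/
theorem exists_basisAway (R : Type*) [CommRing R] [IsReduced R] (S : Type*) [CommRing S]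
    [Algebra R S] [Algebra.FiniteType R S] (M : Type*) [AddCommGroup M] [Module S M] [Module R M]
    [IsScalarTower R S M] [Module.Finite S M] (g₀ : R) (hg₀ : g₀ ≠ 0) :
    ∃ f : R, f ≠ 0 ∧ g₀ ∣ f ∧ (∃ (ι : Type) (v : ι → S), IsBasisAway R f v) ∧
      (∃ (ι : Type) (v : ι → M), IsBasisAway R f v) ∧
      (∃ (n : ℕ) (φ : MvPolynomial (Fin n) R →ₐ[R] S) (G : Finset (MvPolynomial (Fin n) R)),
        Function.Surjective φ ∧ (∀ g ∈ G, φ g = 0) ∧
        ∀ p, φ p = 0 → ∃ k : ℕ, f ^ k • p ∈ Ideal.span (G : Set (MvPolynomial (Fin n) R))) ∧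
      (∃ (r : ℕ) (mgen : Fin r → M) (V : Finset (Fin r → S)),
        Submodule.span S (Set.range mgen) = ⊤ ∧ (∀ a ∈ V, ∑ j, a j • mgen j = 0) ∧
        ∀ a : Fin r → S, ∑ j, a j • mgen j = 0 →
          ∃ k : ℕ, f ^ k • a ∈ Submodule.span S (V : Set (Fin r → S))) := by
  classical
  letI : Module Sᵐᵒᵖ M := Module.compHom M ((RingHom.id S).fromOpposite fun _ _ => mul_comm _ _)
  haveI : IsCentralScalar S M := ⟨fun s m => rfl⟩
  obtain ⟨n, φ, hφ⟩ := Algebra.FiniteType.iff_quotient_mvPolynomial''.mp
    (inferInstance : Algebra.FiniteType R S)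
  obtain ⟨r, mgen, hgen⟩ := Module.Finite.exists_fin (R := S) (M := M)
  obtain ⟨f₂, hf₂, hg₀f₂, ⟨ι₁, v₁, hS⟩, ⟨ι₂, v₂, hM⟩, V, hV0, hV⟩ :=
    exists_module_data_reduced φ hφ mgen hgen g₀ hg₀
  obtain ⟨f₁, G, hf₁, hf₂f₁, hG0, -, -, hker⟩ := exists_data_reduced (MonomialOrder.lex) φ.toRingHom
    (fun c p => map_smul φ c p) f₂ hf₂
  refine ⟨f₁, hf₁, hg₀f₂.trans hf₂f₁, ⟨ι₁, v₁, hS.of_dvd hf₂f₁⟩, ⟨ι₂, v₂, hM.of_dvd hf₂f₁⟩,
    ⟨n, φ, G, hφ, hG0, hker⟩, ⟨r, mgen, V, hgen, hV0, fun a ha => ?_⟩⟩
  obtain ⟨k, hk⟩ := hV a ha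
  obtain ⟨c, rfl⟩ := hf₂f₁
  refine ⟨k, ?_⟩
  rw [mul_pow, mul_comm, mul_smul, ← algebraMap_smul S (c ^ k)]
  exact Submodule.smul_mem _ _ hk

end wrap

section glue

attribute [local instance] Algebra.TensorProduct.rightAlgebra in
theorem awayMap_finitePresentation {R S : Type*} [CommRing R] [CommRing S] [Algebra R S] (f : R)
    (h : Algebra.FinitePresentation (Localization.Away f) (Localization.Away f ⊗[R] S)) :
    (Localization.awayMap (algebraMap R S) f).FinitePresentation := by
  haveI h1 : IsLocalization (Algebra.algebraMapSubmonoid S (Submonoid.powers f))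
      (Localization.Away f ⊗[R] S) := IsLocalization.tensorRight (Localization.Away f) (Submonoid.powers f)
  have hsub : Algebra.algebraMapSubmonoid S (Submonoid.powers f) =
      Submonoid.powers (algebraMap R S f) := Submonoid.map_powers _ _
  haveI h2 : IsLocalization (Algebra.algebraMapSubmonoid S (Submonoid.powers f))
      (Localization.Away (algebraMap R S f)) := by
    rw [hsub]; infer_instance
  let e : (Localization.Away f ⊗[R] S) ≃ₐ[S] Localization.Away (algebraMap R S f) :=
    IsLocalization.algEquiv (Algebra.algebraMapSubmonoid S (Submonoid.powers f)) _ _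
  have hcomp : Localization.awayMap (algebraMap R S) f =
      (e : (Localization.Away f ⊗[R] S) →+* Localization.Away (algebraMap R S f)).comp
        (algebraMap (Localization.Away f) (Localization.Away f ⊗[R] S)) := by
    apply IsLocalization.ringHom_ext (Submonoid.powers f)
    ext r
    simp only [RingHom.comp_apply]
    have h3 : algebraMap (Localization.Away f) (Localization.Away f ⊗[R] S)
        (algebraMap R (Localization.Away f) r) =
        algebraMap S (Localization.Away f ⊗[R] S) (algebraMap R S r) := by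
      rw [Algebra.TensorProduct.algebraMap_apply]
      change _ = (1 : Localization.Away f) ⊗ₜ[R] (algebraMap R S r)
      rw [Algebra.algebraMap_self, RingHom.id_apply, Algebra.algebraMap_eq_smul_one,
        Algebra.algebraMap_eq_smul_one, TensorProduct.smul_tmul]
    rw [h3]
    have h4 : (e : (Localization.Away f ⊗[R] S) →+* Localization.Away (algebraMap R S f))
        (algebraMap S (Localization.Away f ⊗[R] S) (algebraMap R S r)) =
        algebraMap S (Localization.Away (algebraMap R S f)) (algebraMap R S r) := e.commutes _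
    rw [h4, Localization.awayMap, IsLocalization.Away.map, IsLocalization.map_eq]
  rw [hcomp]
  exact RingHom.FinitePresentation.comp (RingHom.FinitePresentation.of_bijective e.bijective)
    (RingHom.finitePresentation_algebraMap.mpr h)

end glue

end Groth.Agent.R2.H41.GenFreeRed
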