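import Mathlib
import Groth.Prelude.Def_HTop
import Groth.Agent.R2.H41PhCov
import Groth.Agent.S7468

/-!
# h coverings from proper surjective morphisms of finite presentation (helper41)

* `isVCover_of_isPhCover`: every ph covering is a V covering.
* `mem_hTopology_of_proper_pair` / `mem_Jh_of_proper_pair`: a sieve containing two proper, finitely
  presented, jointly surjective morphisms is covering for the h topology.
-/

set_option autoImplicit false
set_option linter.style.haveILetI false
universe w v u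

open CategoryTheory CategoryTheory.Limits AlgebraicGeometry Opposite HTop

namespace Groth.Agent.R2.H41.HCov

open Groth.Agent.R2.H33.PhSheaf Groth.Agent.R2.H41.PhCov

theorem isVCover_of_isPhCover {T : Scheme.{u}} (E : PreZeroHypercover.{w} T) (hE : IsPhCover E) :
    IsVCover E := by
  intro U
  obtain ⟨F, hF, hFE⟩ := hE.2 U
  exact ⟨F, Groth.Agent.S7468.result F hF, hFE⟩

/-- A sieve containing two proper, finitely presented, jointly surjective morphisms is a covering
sieve for the h topology. -/
theorem mem_hTopology_of_proper_pair {X Y T : Scheme.{u}} (f : X ⟶ T) (g : Y ⟶ T) [IsProper f]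
    [IsProper g] [LocallyOfFinitePresentation f] [LocallyOfFinitePresentation g]
    (hsurj : ∀ t : T, t ∈ Set.range f ∨ t ∈ Set.range g) (R : Sieve T)
    (hf : R f) (hg : R g) : R ∈ hTopology T := by
  let 𝒲 := coprodOpenCover.{u, 0} X Y
  let E : PreZeroHypercover.{0} T :=
    { I₀ := 𝒲.I₀
      X := 𝒲.X
      f := fun k => 𝒲.f k ≫ coprod.desc f g }
  have hE : IsPhLike E := by
    refine ⟨X ⨿ Y, coprod.desc f g, 𝒲.f, isProper_coprodDesc f g, ⟨fun t => ?_⟩,
      fun k => 𝒲.map_prop k, fun k => rfl, fun x => ?_⟩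
    · rcases hsurj t with ⟨x, rfl⟩ | ⟨y, rfl⟩
      · refine ⟨(coprod.inl : X ⟶ X ⨿ Y) x, ?_⟩
        rw [← Scheme.Hom.comp_apply, coprod.inl_desc]
      · refine ⟨(coprod.inr : Y ⟶ X ⨿ Y) y, ?_⟩
        rw [← Scheme.Hom.comp_apply, coprod.inr_desc]
    · obtain ⟨k, y, hy⟩ := 𝒲.exists_eq x
      exact ⟨k, y, hy⟩
  have hlfp : ∀ k, LocallyOfFinitePresentation (E.f k) := by
    intro k
    rcases k with ⟨⟨⟩⟩ | ⟨⟨⟩⟩
    · change LocallyOfFinitePresentation (coprod.inl ≫ coprod.desc f g)
      rw [coprod.inl_desc]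
      infer_instance
    · change LocallyOfFinitePresentation (coprod.inr ≫ coprod.desc f g)
      rw [coprod.inr_desc]
      infer_instance
  have hmem : Sieve.generate E.presieve₀ ∈ hTopology T := by
    apply Precoverage.generate_mem_toGrothendieck
    rw [presieve₀_mem_hPrecoverage_iff]
    exact ⟨hlfp, isVCover_of_isPhCover E (isPhCover_of_isPhLike E hE)⟩
  refine hTopology.superset_covering ?_ hmem
  rw [Sieve.generate_le_iff]
  rintro W k' ⟨k⟩
  rcases k with ⟨⟨⟩⟩ | ⟨⟨⟩⟩
  · change R (coprod.inl ≫ coprod.desc f g)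
    rw [coprod.inl_desc]
    exact hf
  · change R (coprod.inr ≫ coprod.desc f g)
    rw [coprod.inr_desc]
    exact hg

/-- The same in the big h site of `S`. -/
theorem mem_Jh_of_proper_pair {S : Scheme.{u}} {A B T : Over S} (f : A ⟶ T) (g : B ⟶ T)
    [IsProper f.left] [IsProper g.left] [LocallyOfFinitePresentation f.left]
    [LocallyOfFinitePresentation g.left]
    (hsurj : ∀ t : T.left, t ∈ Set.range f.left ∨ t ∈ Set.range g.left) (R : Sieve T)
    (hf : R f) (hg : R g) : R ∈ Jh S T := by
  rw [GrothendieckTopology.mem_over_iff]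
  refine mem_hTopology_of_proper_pair f.left g.left hsurj _ ?_ ?_
  · rw [Sieve.overEquiv_iff]
    have : (Over.homMk f.left : Over.mk (f.left ≫ T.hom) ⟶ T) =
        (Over.homMk (𝟙 A.left) (by simp) : Over.mk (f.left ≫ T.hom) ⟶ A) ≫ f := by
      ext
      simp
    rw [this]
    exact R.downward_closed hf _
  · rw [Sieve.overEquiv_iff]
    have : (Over.homMk g.left : Over.mk (g.left ≫ T.hom) ⟶ T) =
        (Over.homMk (𝟙 B.left) (by simp) : Over.mk (g.left ≫ T.hom) ⟶ B) ≫ g := by
      ext
      simp
    rw [this]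
    exact R.downward_closed hg _

end Groth.Agent.R2.H41.HCov
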