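import Mathlib
import Groth.Agent.Lib.Helper4ModEpi
import Groth.Agent.Lib.Helper21RetractFreeSite

/-!
# helper41: restriction of local homomorphisms of sheaves of modules, and local lifting

For a sheaf of rings `R` on a small site, `M N : SheafOfModules R`, a morphism `g : W ⟶ V` and a
"local" morphism `φ : M|_V ⟶ N|_V`, we define its restriction `res g φ : M|_W ⟶ N|_W`, and we prove
that local morphisms from a direct summand of a finite free module lift locally through
epimorphisms.
-/

set_option autoImplicit false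
universe u
open CategoryTheory CategoryTheory.Limits Opposite

namespace Groth.Agent.R2.H41.LocHom

variable {C : Type u} [SmallCategory C] {J : GrothendieckTopology C} (R : Sheaf J RingCat.{u})

/-- `M|_V`. -/
noncomputable abbrev ov (V : C) : SheafOfModules.{u} R ⥤ SheafOfModules.{u} (R.over V) :=
  SheafOfModules.overFunctor R V

instance ov_additive (V : C) : (ov R V).Additive where
  map_add {M N f g} := by
    ext Y x
    rfl

/-- Restriction of local homomorphisms along `g : W ⟶ V`. -/
noncomputable def res {V W : C} (g : W ⟶ V) {M N : SheafOfModules.{u} R}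
    (φ : (ov R V).obj M ⟶ (ov R V).obj N) : (ov R W).obj M ⟶ (ov R W).obj N :=
  (SheafOfModules.overFunctorMap R g).inv.app M ≫
    (SheafOfModules.overMap R g).map φ ≫
    (SheafOfModules.overFunctorMap R g).hom.app N

variable {R}

theorem res_map {V W : C} (g : W ⟶ V) {M N : SheafOfModules.{u} R} (f : M ⟶ N) :
    res R g ((ov R V).map f) = (ov R W).map f := by
  unfold res
  have := (SheafOfModules.overFunctorMap R g).hom.naturality f
  simp only [Functor.comp_map] at this
  rw [this, Iso.inv_hom_id_app_assoc]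

theorem res_comp {V W : C} (g : W ⟶ V) {M N P : SheafOfModules.{u} R}
    (φ : (ov R V).obj M ⟶ (ov R V).obj N) (ψ : (ov R V).obj N ⟶ (ov R V).obj P) :
    res R g (φ ≫ ψ) = res R g φ ≫ res R g ψ := by
  unfold res
  simp

theorem res_id {V W : C} (g : W ⟶ V) (M : SheafOfModules.{u} R) :
    res R g (𝟙 ((ov R V).obj M)) = 𝟙 _ := by
  unfold res
  simp

theorem res_app {V W : C} (g : W ⟶ V) {M N : SheafOfModules.{u} R}
    (φ : (ov R V).obj M ⟶ (ov R V).obj N) (Y : Over W) (x : M.val.obj (op Y.left)) :
    (res R g φ).val.app (op Y) x = φ.val.app (op ((Over.map g).obj Y)) x := rfl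

theorem res_add {V W : C} (g : W ⟶ V) {M N : SheafOfModules.{u} R}
    (φ ψ : (ov R V).obj M ⟶ (ov R V).obj N) :
    res R g (φ + ψ) = res R g φ + res R g ψ := by
  ext Y x
  rfl

/-- `res g` as an additive map. -/
noncomputable def resHom {V W : C} (g : W ⟶ V) (M N : SheafOfModules.{u} R) :
    ((ov R V).obj M ⟶ (ov R V).obj N) →+ ((ov R W).obj M ⟶ (ov R W).obj N) where
  toFun := res R g
  map_zero' := by
    ext Y x
    rfl
  map_add' := res_add g

theorem res_zero {V W : C} (g : W ⟶ V) (M N : SheafOfModules.{u} R) :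
    res R g (0 : (ov R V).obj M ⟶ (ov R V).obj N) = 0 := (resHom g M N).map_zero

theorem res_sub {V W : C} (g : W ⟶ V) {M N : SheafOfModules.{u} R}
    (φ ψ : (ov R V).obj M ⟶ (ov R V).obj N) :
    res R g (φ - ψ) = res R g φ - res R g ψ := (resHom g M N).map_sub φ ψ

theorem res_sum {V W : C} (g : W ⟶ V) {M N : SheafOfModules.{u} R} {ι : Type*} (s : Finset ι)
    (φ : ι → ((ov R V).obj M ⟶ (ov R V).obj N)) :
    res R g (∑ j ∈ s, φ j) = ∑ j ∈ s, res R g (φ j) := map_sum (resHom g M N) φ s

section Lift

open Groth.Agent.Lib.Helper21.RetractFreeSite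

variable (R)

/-- The `j`-th projection `O^n ⟶ O` (no terminal object needed). -/
noncomputable def proj (n : ℕ) (j : ULift.{u} (Fin n)) : F R n ⟶ O R :=
  Sigma.desc (fun k => if k = j then 𝟙 (O R) else 0)

theorem ι_proj (n : ℕ) (k j : ULift.{u} (Fin n)) :
    ι R n k ≫ proj R n j = if k = j then 𝟙 (O R) else 0 := by
  unfold proj
  exact Sigma.ι_desc _ _

theorem sum_proj_ι (n : ℕ) : ∑ j : ULift.{u} (Fin n), proj R n j ≫ ι R n j = 𝟙 (F R n) := by
  apply Sigma.hom_ext
  intro k
  change ι R n k ≫ _ = ι R n k ≫ _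
  rw [Preadditive.comp_sum, Category.comp_id]
  rw [Finset.sum_eq_single k]
  · rw [← Category.assoc, ι_proj, if_pos rfl, Category.id_comp]
  · intro j _ hj
    rw [← Category.assoc, ι_proj, if_neg (Ne.symm hj), zero_comp]
  · intro h
    exact absurd (Finset.mem_univ k) h

variable {R}

theorem finset_inf_mem {ι : Type*} (V : C) (t : Finset ι) (f : ι → Sieve V)
    (h : ∀ j, f j ∈ J V) : t.inf f ∈ J V := by
  classical
  induction t using Finset.induction_on with
  | empty => rw [Finset.inf_empty]; exact J.top_mem V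
  | insert a t _ ih => rw [Finset.inf_insert]; exact J.intersection_covering (h a) ih

/-- Local homomorphisms out of a direct summand of a finite free module lift locally through
(global) epimorphisms. -/
theorem exists_local_lift {E N G : SheafOfModules.{u} R} (n : ℕ) (i : E ⟶ F R n)
    (r : F R n ⟶ E) (hir : i ≫ r = 𝟙 E) (p : G ⟶ N) [Epi p] (W : C)
    (θ : (ov R W).obj E ⟶ (ov R W).obj N) :
    ∃ S ∈ J W, ∀ ⦃W' : C⦄ (h : W' ⟶ W), S h →
      ∃ l : (ov R W').obj E ⟶ (ov R W').obj G, l ≫ (ov R W').map p = res R h θ := by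
  classical
  have hp := Groth.Agent.Lib.Helper4.ModEpi.isLocallySurjective_of_epi p
  let TW : Over W := Over.mk (𝟙 W)
  let ψ : (ov R W).obj (F R n) ⟶ (ov R W).obj N := (ov R W).map r ≫ θ
  let ψj : ∀ j : ULift.{u} (Fin n), (ov R W).obj (O R) ⟶ (ov R W).obj N :=
    fun j => (ov R W).map (ι R n j) ≫ ψ
  let s : ULift.{u} (Fin n) → N.val.obj (op W) := fun j =>
    (ψj j).val.app (op TW) (1 : R.obj.obj (op W))
  let S : Sieve W := Finset.univ.inf (fun j : ULift.{u} (Fin n) =>
    Presheaf.imageSieve ((PresheafOfModules.toPresheaf R.obj).map p.val) (s j))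
  refine ⟨S, finset_inf_mem W _ _ (fun j => hp.imageSieve_mem (s j)), ?_⟩
  intro W' h hh
  have hlift : ∀ j : ULift.{u} (Fin n), ∃ t : G.val.obj (op W'),
      p.val.app (op W') t = N.val.map h.op (s j) := by
    intro j
    have h1 : Presheaf.imageSieve
      ((PresheafOfModules.toPresheaf R.obj).map p.val) (s j) h :=
      (Finset.inf_le (Finset.mem_univ j) : S ≤ _) _ hh
    obtain ⟨t, ht⟩ := h1
    exact ⟨t, ht⟩
  choose t ht using hlift
  let TW' : Over W' := Over.mk (𝟙 W')
  have hTW' : IsTerminal TW' := Over.mkIdTerminal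
  let τ : ∀ j : ULift.{u} (Fin n), (ov R W').obj (O R) ⟶ (ov R W').obj G := fun j =>
    (unitEquiv (R.over W') hTW' ((ov R W').obj G)).symm (t j)
  have hτ : ∀ j, (τ j).val.app (op TW') (1 : R.obj.obj (op W')) = t j := fun j =>
    (unitEquiv (R.over W') hTW' ((ov R W').obj G)).apply_symm_apply (t j)
  have key : ∀ j, τ j ≫ (ov R W').map p = res R h (ψj j) := by
    intro j
    apply (unitEquiv (R.over W') hTW' ((ov R W').obj N)).injective
    change p.val.app (op W') ((τ j).val.app (op TW') (1 : R.obj.obj (op W'))) =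
      (ψj j).val.app (op ((Over.map h).obj TW')) (1 : R.obj.obj (op W'))
    rw [hτ, ht]
    -- naturality of `ψj j` along `(Over.map h).obj TW' ⟶ TW`
    let a : (Over.map h).obj TW' ⟶ TW := Over.homMk h (by simp [TW', TW])
    have n1 := PresheafOfModules.naturality_apply (ψj j).val a.op (1 : R.obj.obj (op W))
    refine n1.symm.trans ?_
    refine congrArg _ ?_
    exact map_one (R.obj.map h.op).hom
  let l' : (ov R W').obj (F R n) ⟶ (ov R W').obj G :=
    ∑ j : ULift.{u} (Fin n), (ov R W').map (proj R n j) ≫ τ j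
  refine ⟨(ov R W').map i ≫ l', ?_⟩
  have h1 : l' ≫ (ov R W').map p = res R h ψ := by
    simp only [l', Preadditive.sum_comp, Category.assoc, key]
    have h2 : ∀ j : ULift.{u} (Fin n), (ov R W').map (proj R n j) ≫ res R h (ψj j) =
        res R h ((ov R W).map (proj R n j ≫ ι R n j) ≫ ψ) := by
      intro j
      rw [← res_map h (proj R n j), ← res_comp]
      simp only [ψj, Functor.map_comp, Category.assoc]
    simp only [h2]
    rw [← res_sum, ← Preadditive.sum_comp, ← Functor.map_sum, sum_proj_ι, CategoryTheory.Functor.map_id,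
      Category.id_comp]
  rw [Category.assoc, h1, ← res_map h i, ← res_comp]
  simp only [ψ]
  rw [← Category.assoc, ← Functor.map_comp, hir, CategoryTheory.Functor.map_id, Category.id_comp]

end Lift

end Groth.Agent.R2.H41.LocHom
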