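import Groth.Agent.R2.H41LocHom
import Groth.Agent.Lib.Helper21SPerf

/-!
# helper41: maps from strictly perfect complexes into complexes acyclic in high degrees are locally
null-homotopic
-/

set_option autoImplicit false
universe u
open CategoryTheory CategoryTheory.Limits Opposite

namespace Groth.Agent.R2.H41.LocHtpy

open Groth.Agent.R2.H41.LocHom

variable {C : Type u} [SmallCategory C] {J : GrothendieckTopology C} {R : Sheaf J RingCat.{u}}

set_option backward.isDefEq.respectTransparency.types false in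
instance ov_isRightAdjoint (W : C) : (ov R W).IsRightAdjoint :=
  inferInstanceAs (SheafOfModules.pushforward.{u} (𝟙 (R.over W))).IsRightAdjoint

/-- A local prehomotopy over `W`: maps `E^p|_W ⟶ K^q|_W` for `q + 1 = p`. -/
abbrev PreH (W : C) (E K : CochainComplex (SheafOfModules.{u} R) ℤ) : Type _ :=
  ∀ p q : ℤ, q + 1 = p → ((ov R W).obj (E.X p) ⟶ (ov R W).obj (K.X q))

variable {E K : CochainComplex (SheafOfModules.{u} R) ℤ}

/-- `d h + h d` in degree `i`. -/
noncomputable def dPre {W : C} (z : PreH W E K) (i : ℤ) :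
    (ov R W).obj (E.X i) ⟶ (ov R W).obj (K.X i) :=
  z i (i - 1) (by omega) ≫ (ov R W).map (K.d (i - 1) i) +
    (ov R W).map (E.d i (i + 1)) ≫ z (i + 1) i rfl

/-- Restriction of local prehomotopies. -/
noncomputable def resP {V W : C} (g : W ⟶ V) (z : PreH V E K) : PreH W E K :=
  fun p q h => res R g (z p q h)

theorem dPre_resP {V W : C} (g : W ⟶ V) (z : PreH V E K) (i : ℤ) :
    dPre (resP g z) i = res R g (dPre z i) := by
  unfold dPre resP
  rw [res_add, res_comp, res_comp, res_map, res_map]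

/-- Replace the entry at `(k, k - 1)`. -/
noncomputable def upd {W : C} (z : PreH W E K) (k : ℤ)
    (m : (ov R W).obj (E.X k) ⟶ (ov R W).obj (K.X (k - 1))) : PreH W E K :=
  fun p q h => if hp : p = k then
    eqToHom (by rw [hp]) ≫ m ≫ eqToHom (by congr 2; omega) else z p q h

theorem upd_self {W : C} (z : PreH W E K) (k : ℤ)
    (m : (ov R W).obj (E.X k) ⟶ (ov R W).obj (K.X (k - 1))) (h : k - 1 + 1 = k) :
    upd z k m k (k - 1) h = m := by
  unfold upd
  rw [dif_pos rfl]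
  simp

theorem upd_ne {W : C} (z : PreH W E K) (k : ℤ)
    (m : (ov R W).obj (E.X k) ⟶ (ov R W).obj (K.X (k - 1))) (p q : ℤ) (h : q + 1 = p)
    (hp : p ≠ k) : upd z k m p q h = z p q h := by
  unfold upd
  rw [dif_neg hp]

theorem dPre_upd_of_lt {W : C} (z : PreH W E K) (k : ℤ)
    (m : (ov R W).obj (E.X k) ⟶ (ov R W).obj (K.X (k - 1))) (i : ℤ) (hi : k < i) :
    dPre (upd z k m) i = dPre z i := by
  unfold dPre
  rw [upd_ne _ _ _ _ _ _ (by omega), upd_ne _ _ _ _ _ _ (by omega)]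

theorem dPre_upd_self {W : C} (z : PreH W E K) (k : ℤ)
    (m : (ov R W).obj (E.X k) ⟶ (ov R W).obj (K.X (k - 1))) :
    dPre (upd z k m) k =
      m ≫ (ov R W).map (K.d (k - 1) k) + (ov R W).map (E.d k (k + 1)) ≫ z (k + 1) k rfl := by
  unfold dPre
  rw [upd_self, upd_ne _ _ _ _ _ _ (by omega)]

/-- The stage condition: `κ = d h + h d` in degrees `≥ k`. -/
def StageOK (κ : E ⟶ K) (k : ℤ) (W : C) (z : PreH W E K) : Prop :=
  ∀ i : ℤ, k ≤ i → (ov R W).map (κ.f i) = dPre z i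

theorem dPre_eq {W : C} (z : PreH W E K) (i j l : ℤ) (hj : j + 1 = i) (hl : i + 1 = l) :
    dPre z i = z i j hj ≫ (ov R W).map (K.d j i) + (ov R W).map (E.d i l) ≫ z l i hl := by
  obtain rfl : j = i - 1 := by omega
  subst hl
  rfl

theorem epi_toCycles' (L : CochainComplex (SheafOfModules.{u} R) ℤ) (i j : ℤ) (hij : i + 1 = j)
    (h : IsZero (L.homology j)) : Epi (L.toCycles i j) := by
  subst hij
  exact Groth.Agent.Lib.Helper21.SPerf.epi_toCycles_of_isZero_homology L i h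

open Groth.Agent.Lib.Helper21.RetractFreeSite in
/-- One step of the downward induction. -/
theorem step (κ : E ⟶ K) (k : ℤ) (n : ℕ) (i₀ : E.X k ⟶ F R n) (r₀ : F R n ⟶ E.X k)
    (hir : i₀ ≫ r₀ = 𝟙 (E.X k)) (hK : IsZero (K.homology k)) (W : C) (z : PreH W E K)
    (hz : StageOK κ (k + 1) W z) :
    ∃ S ∈ J W, ∀ ⦃W' : C⦄ (h : W' ⟶ W), S h → ∃ z' : PreH W' E K, StageOK κ k W' z' := by
  let θ : (ov R W).obj (E.X k) ⟶ (ov R W).obj (K.X k) :=
    (ov R W).map (κ.f k) - (ov R W).map (E.d k (k + 1)) ≫ z (k + 1) k rfl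
  have hθ : θ ≫ (ov R W).map (K.d k (k + 1)) = 0 := by
    have h1 : (ov R W).map (κ.f k) ≫ (ov R W).map (K.d k (k + 1)) =
        (ov R W).map (E.d k (k + 1)) ≫ (ov R W).map (κ.f (k + 1)) := by
      rw [← Functor.map_comp, ← Functor.map_comp, κ.comm]
    have h2 := hz (k + 1) le_rfl
    rw [dPre_eq z (k + 1) k (k + 1 + 1) rfl rfl] at h2
    simp only [θ, Preadditive.sub_comp, Category.assoc, h1, h2, Preadditive.comp_add]
    rw [← Category.assoc ((ov R W).map (E.d k (k + 1))) ((ov R W).map (E.d (k + 1) (k + 1 + 1))),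
      ← Functor.map_comp, E.d_comp_d, Functor.map_zero, zero_comp, add_zero, sub_self]
  have hker := K.cyclesIsKernel k (k + 1) (by simp)
  have hker' := KernelFork.mapIsLimit _ hker (ov R W)
  obtain ⟨θ', hθ''⟩ : ∃ θ' : (ov R W).obj (E.X k) ⟶ (ov R W).obj (K.cycles k),
      θ' ≫ (ov R W).map (K.iCycles k) = θ :=
    ⟨_, (KernelFork.IsLimit.lift' hker' θ hθ).2⟩
  have hepi : Epi (K.toCycles (k - 1) k) := epi_toCycles' K (k - 1) k (by omega) hK
  obtain ⟨S, hS, hlift⟩ := exists_local_lift n i₀ r₀ hir (K.toCycles (k - 1) k) W θ'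
  refine ⟨S, hS, ?_⟩
  intro W' h hh
  obtain ⟨l, hl⟩ := hlift h hh
  refine ⟨upd (resP h z) k l, ?_⟩
  intro i hi
  rcases eq_or_lt_of_le hi with rfl | hlt
  · rw [dPre_upd_self]
    have h3 : l ≫ (ov R W').map (K.d (k - 1) k) = res R h θ := by
      rw [← K.toCycles_i (k - 1) k, Functor.map_comp, ← Category.assoc, hl,
        ← res_map h (K.iCycles k), ← res_comp, hθ'']
    rw [h3]
    simp only [θ, res_sub, res_comp, res_map, resP]
    abel
  · rw [dPre_upd_of_lt _ _ _ _ hlt, dPre_resP, ← hz i (by omega), res_map]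

open Groth.Agent.Lib.Helper21.RetractFreeSite in
/-- The predicate of the downward induction. -/
def Good (κ : E ⟶ K) (k : ℤ) (V : C) : Prop :=
  ∃ S ∈ J V, ∀ ⦃W : C⦄ (g : W ⟶ V), S g → ∃ z : PreH W E K, StageOK κ k W z

theorem good_of_isZero (κ : E ⟶ K) (k : ℤ) (hE : ∀ i, k ≤ i → IsZero (E.X i)) (V : C) :
    Good κ k V :=
  ⟨⊤, J.top_mem V, fun W _ _ => ⟨fun _ _ _ => 0, fun i hi =>
    ((ov R W).map_isZero (hE i hi)).eq_of_src _ _⟩⟩

open Groth.Agent.Lib.Helper21.RetractFreeSite in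
theorem good_step (κ : E ⟶ K) (k : ℤ)
    (hfree : ∃ (n : ℕ) (i₀ : E.X k ⟶ F R n) (r₀ : F R n ⟶ E.X k), i₀ ≫ r₀ = 𝟙 (E.X k))
    (hK : IsZero (K.homology k)) (V : C) (h : Good κ (k + 1) V) : Good κ k V := by
  obtain ⟨S, hS, hz⟩ := h
  choose z hz using hz
  obtain ⟨n, i₀, r₀, hir⟩ := hfree
  have hstep := fun (W : C) (g : W ⟶ V) (hg : S g) =>
    step κ k n i₀ r₀ hir hK W (z g hg) (hz g hg)
  choose S' hS' hz' using hstep
  refine ⟨Sieve.bind S (fun W g hg => S' W g hg),
    J.bind_covering hS (fun W g hg => hS' W g hg), ?_⟩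
  rintro W f ⟨W₁, g', g, hg, hg', rfl⟩
  exact hz' W₁ g hg g' hg'

open Groth.Agent.Lib.Helper21.RetractFreeSite in
theorem good_of_bounded (κ : E ⟶ K) (a b : ℤ) (hE : ∀ i, b < i → IsZero (E.X i))
    (hfree : ∀ k, ∃ (n : ℕ) (i₀ : E.X k ⟶ F R n) (r₀ : F R n ⟶ E.X k), i₀ ≫ r₀ = 𝟙 (E.X k))
    (hK : ∀ j, a ≤ j → IsZero (K.homology j)) (V : C) :
    ∀ (m : ℕ) (k : ℤ), a ≤ k → b + 1 - k ≤ m → Good κ k V := by
  intro m
  induction m with
  | zero =>
    intro k _ hk
    exact good_of_isZero κ k (fun i hi => hE i (by omega)) V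
  | succ m ih =>
    intro k hak hk
    by_cases hkb : b < k
    · exact good_of_isZero κ k (fun i hi => hE i (by omega)) V
    · exact good_step κ k (hfree k) (hK k hak) V (ih (k + 1) (by omega) (by push_cast at hk; omega))

/-- The components of the homotopy attached to a local prehomotopy. -/
noncomputable def homOf {W : C} (z : PreH W E K) (i j : ℤ) :
    (((ov R W).mapHomologicalComplex (ComplexShape.up ℤ)).obj E).X i ⟶
      (((ov R W).mapHomologicalComplex (ComplexShape.up ℤ)).obj K).X j :=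
  if h : j + 1 = i then z i j h else 0

theorem homOf_eq {W : C} (z : PreH W E K) (i j : ℤ) (h : j + 1 = i) : homOf z i j = z i j h :=
  dif_pos h

theorem homOf_zero {W : C} (z : PreH W E K) (i j : ℤ) (h : ¬ j + 1 = i) : homOf z i j = 0 :=
  dif_neg h

/-- A total local prehomotopy gives a homotopy of the restricted complexes. -/
noncomputable def toHomotopy {W : C} (κ : E ⟶ K) (z : PreH W E K)
    (hz : ∀ i, (ov R W).map (κ.f i) = dPre z i) :
    Homotopy (((ov R W).mapHomologicalComplex (ComplexShape.up ℤ)).map κ) 0 where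
  hom i j := homOf z i j
  zero i j hij := homOf_zero z i j hij
  comm i := by
    rw [dNext_eq _ (show (ComplexShape.up ℤ).Rel i (i + 1) from rfl),
      prevD_eq _ (show (ComplexShape.up ℤ).Rel (i - 1) i from by simp)]
    rw [homOf_eq z (i + 1) i rfl, homOf_eq z i (i - 1) (by omega)]
    refine Eq.trans ?_ (add_zero _).symm
    refine Eq.trans ?_ (add_comm _ _)
    exact (hz i).trans (dPre_eq z i (i - 1) (i + 1) (by omega) rfl)

open Groth.Agent.Lib.Helper21.RetractFreeSite in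
/-- **Local null-homotopy.** A morphism from a strictly perfect complex `E` (zero below `a`) to a
complex `K` with `H^j(K) = 0` for `j ≥ a` is locally null-homotopic. -/
theorem exists_local_nullHomotopy (κ : E ⟶ K) (a b : ℤ) (hEa : ∀ i, i < a → IsZero (E.X i))
    (hEb : ∀ i, b < i → IsZero (E.X i))
    (hfree : ∀ k, ∃ (n : ℕ) (i₀ : E.X k ⟶ F R n) (r₀ : F R n ⟶ E.X k), i₀ ≫ r₀ = 𝟙 (E.X k))
    (hK : ∀ j, a ≤ j → IsZero (K.homology j)) (V : C) :
    ∃ S ∈ J V, ∀ ⦃W : C⦄ (g : W ⟶ V), S g →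
      Nonempty (Homotopy (((ov R W).mapHomologicalComplex (ComplexShape.up ℤ)).map κ) 0) := by
  obtain ⟨S, hS, hz⟩ := good_of_bounded κ a b hEb hfree hK V (b + 1 - a).toNat a le_rfl
    (Int.self_le_toNat _)
  refine ⟨S, hS, fun W g hg => ?_⟩
  obtain ⟨z, hz⟩ := hz g hg
  refine ⟨toHomotopy κ z (fun i => ?_)⟩
  by_cases hi : a ≤ i
  · exact hz i hi
  · exact ((ov R W).map_isZero (hEa i (by omega))).eq_of_src _ _

end Groth.Agent.R2.H41.LocHtpy
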