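import Mathlib

/-!
# Finite after localizing at a minimal prime with finite fibre (helper41)

`exists_finite_awayMap_of_finite_primesOver_minimal`: for `R → S` of finite type and a minimal prime
`p` of `R` with finitely many primes of `S` above it, `R_g → S_g` is finite for some `g ∉ p`.
-/

set_option autoImplicit false
set_option linter.style.haveILetI false
universe u

namespace Groth.Agent.R2.H41.MinFinite

open TensorProduct

/-- Integrality can be checked modulo a nil ideal. -/
theorem isIntegral_of_ker_le_nilradical {A B F : Type*} [CommRing A] [CommRing B] [CommRing F]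
    [Algebra A B] [Algebra A F] (π : B →ₐ[A] F) (hker : RingHom.ker π ≤ nilradical B) (b : B)
    (h : IsIntegral A (π b)) : IsIntegral A b := by
  obtain ⟨P, hP, hPb⟩ := h
  have h0 : π (Polynomial.aeval b P) = 0 := by
    rw [← Polynomial.aeval_algHom_apply]; exact hPb
  have hnil : IsNilpotent (Polynomial.aeval b P) := hker h0
  obtain ⟨N, hN⟩ := hnil
  exact ⟨P ^ N, hP.pow N, by rw [← Polynomial.aeval_def, map_pow, hN]⟩

/-- The fibre over a prime with finitely many primes above it is finite over the residue field. -/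
theorem finite_fiber_of_finite_primesOver (R S : Type u) [CommRing R] [CommRing S] [Algebra R S]
    [Algebra.FiniteType R S] (p : Ideal R) [p.IsPrime] (hfin : (p.primesOver S).Finite) :
    Module.Finite p.ResidueField (p.Fiber S) := by
  have H : (PrimeSpectrum.comap (algebraMap R S) ⁻¹' {⟨p, inferInstance⟩}).Finite := by
    have hinj : Set.InjOn (fun q : PrimeSpectrum S => q.asIdeal)
        (PrimeSpectrum.comap (algebraMap R S) ⁻¹' {⟨p, inferInstance⟩}) :=
      Function.Injective.injOn fun _ _ => PrimeSpectrum.ext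
    rw [← Set.finite_image_iff hinj]
    refine hfin.subset ?_
    rintro _ ⟨q, hq, rfl⟩
    refine ⟨q.isPrime, ⟨?_⟩⟩
    have : PrimeSpectrum.comap (algebraMap R S) q = ⟨p, inferInstance⟩ := hq
    exact congrArg PrimeSpectrum.asIdeal this.symm
  rw [Module.finite_iff_isArtinianRing, isArtinianRing_iff_isNoetherianRing_krullDimLE_zero]
  have : IsJacobsonRing (p.Fiber S) := isJacobsonRing_of_finiteType (A := p.ResidueField)
  have : Finite (PrimeSpectrum (p.Fiber S)) :=
    (PrimeSpectrum.preimageEquivFiber R S ⟨p, inferInstance⟩).finite_iff.mp H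
  exact ⟨Algebra.FiniteType.isNoetherianRing p.ResidueField _,
    (PrimeSpectrum.discreteTopology_iff_finite_and_krullDimLE_zero.mp inferInstance).right⟩

theorem isIntegral_tensor_atPrime (R S : Type u) [CommRing R] [CommRing S] [Algebra R S]
    [Algebra.FiniteType R S] (p : Ideal R) [p.IsPrime] (hp : p ∈ minimalPrimes R)
    (hfin : (p.primesOver S).Finite) (b : Localization.AtPrime p ⊗[R] S) :
    IsIntegral (Localization.AtPrime p) b := by
  haveI : Module.Finite p.ResidueField (p.Fiber S) := finite_fiber_of_finite_primesOver R S p hfin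
  haveI : Ring.KrullDimLE 0 (Localization.AtPrime p) :=
    Ring.KrullDimLE.of_isLocalization p hp (Localization.AtPrime p)
  let f : Localization.AtPrime p →ₐ[Localization.AtPrime p] p.ResidueField :=
    Algebra.ofId _ _
  have hf : Function.Surjective f := IsLocalRing.residue_surjective
  let π : Localization.AtPrime p ⊗[R] S →ₐ[Localization.AtPrime p] p.Fiber S :=
    Algebra.TensorProduct.map f (AlgHom.id R S)
  have hker : RingHom.ker π ≤ nilradical (Localization.AtPrime p ⊗[R] S) := by
    have h1 : RingHom.ker π = (RingHom.ker f).map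
        (Algebra.TensorProduct.includeLeft : Localization.AtPrime p →ₐ[R] _) :=
      Algebra.TensorProduct.rTensor_ker f hf
    rw [h1, Ideal.map_le_iff_le_comap]
    intro a ha
    have ha' : a ∈ IsLocalRing.maximalIdeal (Localization.AtPrime p) := by
      rw [← IsLocalRing.residue_eq_zero_iff]
      exact ha
    rw [← Ring.KrullDimLE.nilradical_eq_maximalIdeal] at ha'
    rw [Ideal.mem_comap]
    exact IsNilpotent.map ha' _
  refine isIntegral_of_ker_le_nilradical π hker b ?_
  haveI : Algebra.IsIntegral (Localization.AtPrime p) p.ResidueField :=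
    Algebra.IsIntegral.of_surjective f hf
  haveI : Algebra.IsIntegral p.ResidueField (p.Fiber S) := inferInstance
  haveI : Algebra.IsIntegral (Localization.AtPrime p) (p.Fiber S) :=
    Algebra.IsIntegral.trans p.ResidueField
  exact Algebra.IsIntegral.isIntegral _

theorem exists_smul_isIntegral (R S : Type u) [CommRing R] [CommRing S] [Algebra R S]
    [Algebra.FiniteType R S] (p : Ideal R) [p.IsPrime] (hp : p ∈ minimalPrimes R)
    (hfin : (p.primesOver S).Finite) (x : S) :
    ∃ c : R, c ∉ p ∧ IsIntegral R (c • x) := by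
  have h1 : IsIntegral (Localization.AtPrime p) ((1 : Localization.AtPrime p) ⊗ₜ[R] x) :=
    isIntegral_tensor_atPrime R S p hp hfin _
  obtain ⟨m, hm⟩ := IsIntegral.exists_multiple_integral_of_isLocalization p.primeCompl
    ((1 : Localization.AtPrime p) ⊗ₜ[R] x) h1
  have hm' : m • ((1 : Localization.AtPrime p) ⊗ₜ[R] x) = 1 ⊗ₜ[R] ((m : R) • x) := by
    rw [Submonoid.smul_def, TensorProduct.tmul_smul]
  rw [hm'] at hm
  obtain ⟨Q, hQ, hQx⟩ := hm
  have h2 : (Algebra.TensorProduct.includeRight : S →ₐ[R] Localization.AtPrime p ⊗[R] S)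
      (Polynomial.aeval ((m : R) • x) Q) = 0 := by
    rw [← Polynomial.aeval_algHom_apply]
    exact hQx
  have h3 : (TensorProduct.mk R (Localization.AtPrime p) S 1) (Polynomial.aeval ((m : R) • x) Q) = 0 :=
    h2
  rw [IsLocalizedModule.eq_zero_iff p.primeCompl] at h3
  obtain ⟨c, hc⟩ := h3
  have h4 : Polynomial.aeval ((m : R) • x) (Polynomial.C (c : R) * Q) = 0 := by
    rw [map_mul, Polynomial.aeval_C, ← Algebra.smul_def]
    exact hc
  have h5 := isIntegral_leadingCoeff_smul _ _ h4
  rw [Polynomial.leadingCoeff_mul_monic hQ, Polynomial.leadingCoeff_C, smul_smul] at h5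
  exact ⟨(c : R) * (m : R), p.primeCompl.mul_mem c.2 m.2, h5⟩

theorem exists_finite_awayMap_of_finite_primesOver_minimal (R S : Type u) [CommRing R] [CommRing S]
    [Algebra R S] [Algebra.FiniteType R S] (p : Ideal R) (hp : p ∈ minimalPrimes R)
    (hfin : (p.primesOver S).Finite) :
    ∃ g : R, g ∉ p ∧ (Localization.awayMap (algebraMap R S) g).Finite := by
  classical
  haveI : p.IsPrime := hp.1.1
  have hall : ∀ t : Finset S, ∃ c : R, c ∉ p ∧ ∀ x ∈ t, IsIntegral R (c • x) := by
    intro t
    induction t using Finset.induction_on with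
    | empty => exact ⟨1, fun h => (inferInstance : p.IsPrime).ne_top ((Ideal.eq_top_iff_one _).mpr h), by simp⟩
    | insert a t _ ih =>
      obtain ⟨c, hc, hct⟩ := ih
      obtain ⟨d, hd, hda⟩ := exists_smul_isIntegral R S p hp hfin a
      refine ⟨d * c, p.primeCompl.mul_mem hd hc, fun x hx => ?_⟩
      rcases Finset.mem_insert.mp hx with rfl | hx
      · rw [mul_comm, mul_smul]
        exact hda.smul c
      · rw [mul_smul]
        exact (hct x hx).smul d
  obtain ⟨s, hs⟩ := (inferInstance : Algebra.FiniteType R S).out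
  obtain ⟨c, hc, hcs⟩ := hall s
  let S' : Subalgebra R S := Algebra.adjoin R ((fun x => c • x) '' (s : Set S))
  haveI : Algebra.IsIntegral R S' := Algebra.IsIntegral.adjoin (by
    rintro _ ⟨x, hx, rfl⟩
    exact hcs x hx)
  have hg : Function.Surjective (Localization.awayMapₐ S'.val (algebraMap R S' c)) := by
    change Function.Surjective (Localization.awayMap (S'.val : S' →+* S) (algebraMap R S' c))
    rw [Localization.awayMap_surjective_iff]
    intro a
    have ha : a ∈ Algebra.adjoin R (s : Set S) := by rw [hs]; trivial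
    induction ha using Algebra.adjoin_induction with
    | mem x hx =>
      refine ⟨⟨c • x, Algebra.subset_adjoin ⟨x, hx, rfl⟩⟩, 1, ?_⟩
      simp [Algebra.smul_def]
    | algebraMap r => exact ⟨algebraMap R S' r, 0, by simp⟩
    | add x y _ _ hx hy =>
      obtain ⟨b₁, m₁, h₁⟩ := hx
      obtain ⟨b₂, m₂, h₂⟩ := hy
      refine ⟨algebraMap R S' c ^ m₂ * b₁ + algebraMap R S' c ^ m₁ * b₂, m₁ + m₂, ?_⟩
      rw [map_add, map_mul, map_mul, h₁, h₂, map_pow, map_pow]
      ring
    | mul x y _ _ hx hy =>
      obtain ⟨b₁, m₁, h₁⟩ := hx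
      obtain ⟨b₂, m₂, h₂⟩ := hy
      refine ⟨b₁ * b₂, m₁ + m₂, ?_⟩
      rw [map_mul, h₁, h₂]
      ring
  have hgp : IsUnit (M := p.Fiber S') (1 ⊗ₜ algebraMap R S' c) := by
    have h1 : ((1 : p.ResidueField) ⊗ₜ[R] algebraMap R S' c : p.Fiber S') =
        algebraMap p.ResidueField (p.Fiber S') (algebraMap R p.ResidueField c) := by
      rw [Algebra.TensorProduct.algebraMap_apply, Algebra.algebraMap_eq_smul_one,
        TensorProduct.tmul_smul, TensorProduct.smul_tmul']
      simp [Algebra.smul_def]
    rw [h1]
    refine IsUnit.map _ (IsUnit.mk0 _ ?_)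
    rw [Ne, Ideal.algebraMap_residueField_eq_zero]
    exact hc
  obtain ⟨r, hr, hfinite⟩ := Localization.exists_finite_awayMapₐ_of_surjective_awayMapₐ
    S'.val (algebraMap R S' c) hg p hgp
  exact ⟨r, hr, hfinite⟩

end Groth.Agent.R2.H41.MinFinite
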