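import Groth.Agent.R2.H41TwoTerm
import Mathlib

/-!
# helper41: the naive cotangent complex of a principal localization, up to homotopy
-/

set_option autoImplicit false
universe u

open Algebra Algebra.Extension TensorProduct MvPolynomial

namespace Groth.Agent.R2.H41.NLLoc

open Groth.Agent.R2.H41.TwoTerm

section Homs

variable {R S : Type u} [CommRing R] [CommRing S] [Algebra R S]

/-- Two extensions of the same algebra with homs both ways have homotopy equivalent naive cotangent
complexes. -/
noncomputable def hequivOfHoms (P P' : Algebra.Extension.{u} R S) (f : P.Hom P') (g : P'.Hom P) :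
    HEquiv P.cotangentComplex P'.cotangentComplex where
  φ₁ := Cotangent.map f
  φ₀ := CotangentSpace.map f
  ψ₁ := Cotangent.map g
  ψ₀ := CotangentSpace.map g
  hφ := (CotangentSpace.map_comp_cotangentComplex f).symm
  hψ := (CotangentSpace.map_comp_cotangentComplex g).symm
  h := (Hom.id P).sub (g.comp f)
  hh₁ := by
    have := Cotangent.map_sub_map (Hom.id P) (g.comp f)
    rw [Cotangent.map_id, Cotangent.map_comp] at this
    exact this
  hh₀ := by
    have := CotangentSpace.map_sub_map (Hom.id P) (g.comp f)
    rw [CotangentSpace.map_id, CotangentSpace.map_comp] at this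
    exact this
  h' := (Hom.id P').sub (f.comp g)
  hh'₁ := by
    have := Cotangent.map_sub_map (Hom.id P') (f.comp g)
    rw [Cotangent.map_id, Cotangent.map_comp] at this
    exact this
  hh'₀ := by
    have := CotangentSpace.map_sub_map (Hom.id P') (f.comp g)
    rw [CotangentSpace.map_id, CotangentSpace.map_comp] at this
    exact this

variable {ι : Type} (f : MvPolynomial ι R →ₐ[R] S) (hf : Function.Surjective f)

/-- The identity as a hom from `ofSurjective f` to `(ofAlgHom f).toExtension`. -/
noncomputable def homTo :
    (Algebra.Extension.ofSurjective f hf).Hom (Generators.ofAlgHom f hf).toExtension where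
  toRingHom := RingHom.id (MvPolynomial ι R)
  toRingHom_algebraMap x := rfl
  algebraMap_toRingHom x := by
    show (aeval (f ∘ X)) x = f x
    have : (aeval (f ∘ X) : MvPolynomial ι R →ₐ[R] S) = f := by ext; simp
    rw [this]

/-- The identity as a hom from `(ofAlgHom f).toExtension` to `ofSurjective f`. -/
noncomputable def homFrom :
    (Generators.ofAlgHom f hf).toExtension.Hom (Algebra.Extension.ofSurjective f hf) where
  toRingHom := RingHom.id (MvPolynomial ι R)
  toRingHom_algebraMap x := rfl
  algebraMap_toRingHom x := by
    show f x = (aeval (f ∘ X)) x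
    have : (aeval (f ∘ X) : MvPolynomial ι R →ₐ[R] S) = f := by ext; simp
    rw [this]

/-- The cotangent modules of `ofSurjective f` and of `(ofAlgHom f).toExtension` agree. -/
noncomputable def cotEquiv :
    (Algebra.Extension.ofSurjective f hf).Cotangent ≃ₗ[S]
      (Generators.ofAlgHom f hf).toExtension.Cotangent :=
  LinearEquiv.ofLinearMap (Cotangent.map (homTo f hf)) (Cotangent.map (homFrom f hf))
    (by
      have h : (homTo f hf).comp (homFrom f hf) = Hom.id _ := by
        ext x; rfl
      have := Cotangent.map_comp (f := homFrom f hf) (g := homTo f hf)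
      rw [h, Cotangent.map_id] at this
      exact this.symm)
    (by
      have h : (homFrom f hf).comp (homTo f hf) = Hom.id _ := by
        ext x; rfl
      have := Cotangent.map_comp (f := homTo f hf) (g := homFrom f hf)
      rw [h, Cotangent.map_id] at this
      exact this.symm)

end Homs

section Loc

variable {R S : Type u} [CommRing R] [CommRing S] [Algebra R S] (g : S)
  (T : Type u) [CommRing T] [Algebra R T] [Algebra S T] [IsScalarTower R S T]
  [IsLocalization.Away g T]

theorem cotangentComplex_cMulXSubOne :
    (Generators.localizationAway T g).toExtension.cotangentComplex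
        (Generators.cMulXSubOneCotangent T g) =
      algebraMap S T g • (Generators.localizationAway T g).cotangentSpaceBasis () := by
  apply (Generators.localizationAway T g).cotangentSpaceBasis.repr.injective
  ext
  rw [Generators.cMulXSubOneCotangent_eq, Extension.cotangentComplex_mk]
  refine (Generators.cotangentSpaceBasis_repr_tmul (Generators.localizationAway T g) 1
    (C g * X () - 1) ()).trans ?_
  have hR : ((Generators.localizationAway T g).cotangentSpaceBasis.repr
      (algebraMap S T g • (Generators.localizationAway T g).cotangentSpaceBasis ())) () =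
      algebraMap S T g := by
    rw [LinearEquiv.map_smul, Module.Basis.repr_self]; simp [Algebra.smul_def]
  rw [hR]
  simp [pderiv_X]

variable {ι : Type} (P : Generators R S ι)

/-- `T ⊗ NL(P)` is homotopy equivalent to `NL` of the composed presentation of `T = S_g`. -/
theorem nonempty_hequivComp :
    Nonempty (HEquiv (P.toExtension.cotangentComplex.baseChange T)
      ((Generators.localizationAway T g).comp P).toExtension.cotangentComplex) := by
  classical
  have hex₁ := Generators.Cotangent.exact (Generators.localizationAway T g) P
  have hex₀ := Generators.CotangentSpace.exact (Generators.localizationAway T g) P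
  have hi₁ := Generators.liftBaseChange_injective_of_isLocalizationAway (T := T) g P
  have hi₀ := Generators.CotangentSpace.map_toComp_injective (Generators.localizationAway T g) P
  have hsurj := Generators.Cotangent.surjective_map_ofComp (Generators.localizationAway T g) P
  obtain ⟨s₁, hs₁⟩ := Module.projective_lifting_property
    (Extension.Cotangent.map ((Generators.localizationAway T g).ofComp P).toExtensionHom)
    LinearMap.id hsurj
  let bC₀ := (Generators.localizationAway T g).cotangentSpaceBasis
  let bC₁ := Generators.basisCotangentAway T g
  let a : T := algebraMap S T g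
  let v : T := IsLocalization.Away.invSelf g
  have hav : a * v = 1 := IsLocalization.Away.mul_invSelf g
  have hdC : (Generators.localizationAway T g).toExtension.cotangentComplex (bC₁ ()) =
      a • bC₀ () := by
    rw [Generators.basisCotangentAway_apply]
    exact cotangentComplex_cMulXSubOne g T
  let dCinv : (Generators.localizationAway T g).toExtension.CotangentSpace →ₗ[T]
      (Generators.localizationAway T g).toExtension.Cotangent :=
    bC₀.constr T (fun _ => v • bC₁ ())
  have hdCinv : dCinv (bC₀ ()) = v • bC₁ () := Module.Basis.constr_basis _ _ _ _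
  have h1 : dCinv ∘ₗ (Generators.localizationAway T g).toExtension.cotangentComplex =
      LinearMap.id := by
    apply bC₁.ext
    intro i
    cases i
    simp only [LinearMap.comp_apply, LinearMap.id_apply]
    rw [hdC, map_smul, hdCinv, smul_smul, hav, one_smul]
  have h2 : (Generators.localizationAway T g).toExtension.cotangentComplex ∘ₗ dCinv =
      LinearMap.id := by
    apply bC₀.ext
    intro i
    cases i
    simp only [LinearMap.comp_apply, LinearMap.id_apply]
    rw [hdCinv, map_smul, hdC, smul_smul, mul_comm, hav, one_smul]
  exact ⟨HEquiv.ofSplitExact _ _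
    (Generators.localizationAway T g).toExtension.cotangentComplex
    _ _ _ _
    (Generators.H1Cotangent.map_comp_cotangentComplex_baseChange
      (Generators.localizationAway T g) P).symm
    (Extension.CotangentSpace.map_comp_cotangentComplex
      ((Generators.localizationAway T g).ofComp P).toExtensionHom).symm
    hi₁ hi₀ hex₁ hex₀ s₁ hs₁ dCinv h1 h2⟩

end Loc

/-- Stacks 00S1-type statement: `(I/I²)_g ⊕ S_g^m ≃ J/J² ⊕ S_g^n`. -/
theorem main (R S : Type u) [CommRing R] [CommRing S] [Algebra R S]
    (g : S) (n m : ℕ) (α : MvPolynomial (Fin n) R →ₐ[R] S) (hα : Function.Surjective α)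
    (β : MvPolynomial (Fin m) R →ₐ[R] Localization.Away g) (hβ : Function.Surjective β) :
    Nonempty ((LocalizedModule (Submonoid.powers g)
        (Algebra.Extension.ofSurjective α hα).Cotangent ×
        (Fin m → Localization.Away g)) ≃ₗ[Localization.Away g]
      ((Algebra.Extension.ofSurjective β hβ).Cotangent × (Fin n → Localization.Away g))) := by
  obtain ⟨e₁⟩ := nonempty_hequivComp g (Localization.Away g) (Generators.ofAlgHom α hα)
  let e₂ := hequivOfHoms
    ((Generators.localizationAway (Localization.Away g) g).comp
      (Generators.ofAlgHom α hα)).toExtension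
    (Generators.ofAlgHom β hβ).toExtension
    (Generators.defaultHom _ _).toExtensionHom (Generators.defaultHom _ _).toExtensionHom
  obtain ⟨e⟩ := (e₁.trans e₂).nonempty_prodEquiv
  let a₁ : LocalizedModule (Submonoid.powers g) (Algebra.Extension.ofSurjective α hα).Cotangent
      ≃ₗ[Localization.Away g]
      Localization.Away g ⊗[S] (Generators.ofAlgHom α hα).toExtension.Cotangent :=
    (LocalizedModule.equivTensorProduct (Submonoid.powers g) _) ≪≫ₗ
      (TensorProduct.AlgebraTensorModule.congr (LinearEquiv.refl _ _) (cotEquiv α hα))
  let a₂ : (Fin m → Localization.Away g) ≃ₗ[Localization.Away g]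
      (Generators.ofAlgHom β hβ).toExtension.CotangentSpace :=
    (Generators.ofAlgHom β hβ).cotangentSpaceBasis.equivFun.symm
  let b₁ : (Generators.ofAlgHom β hβ).toExtension.Cotangent ≃ₗ[Localization.Away g]
      (Algebra.Extension.ofSurjective β hβ).Cotangent := (cotEquiv β hβ).symm
  let b₂ : Localization.Away g ⊗[S] (Generators.ofAlgHom α hα).toExtension.CotangentSpace
      ≃ₗ[Localization.Away g] (Fin n → Localization.Away g) :=
    ((Generators.ofAlgHom α hα).cotangentSpaceBasis.baseChange (Localization.Away g)).equivFun
  exact ⟨(LinearEquiv.prodCongr a₁ a₂) ≪≫ₗ e ≪≫ₗ (LinearEquiv.prodCongr b₁ b₂)⟩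

end Groth.Agent.R2.H41.NLLoc
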