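import Mathlib
import Groth.Prelude.Def_ModSite

/-!
# Module pullback along a morphism of ringed sites sends free modules to free modules (helper41)

Mathlib proves `SheafOfModules.pullbackObjFreeIso` for a *final* underlying functor.  For a morphism
of ringed sites `f : RMor O_C O_D` the underlying functor need not be final, but the pullback of
sheaves of sets preserves the terminal object, which is enough: global sections of `M` and of
`f_* M` agree.
-/

set_option autoImplicit false
universe u

open CategoryTheory CategoryTheory.Limits Opposite

namespace Groth.Agent.R2.H41.PullFree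

section Sites

variable {C : Type u} [SmallCategory C] (J : GrothendieckTopology C)

/-- The terminal sheaf of sets: the constant presheaf with value `PUnit`. -/
def termSheaf : Sheaf J (Type u) where
  obj := (Functor.const Cᵒᵖ).obj PUnit.{u + 1}
  property := by
    rw [isSheaf_iff_isSheaf_of_type]
    intro X S _ x _
    exact ⟨PUnit.unit, fun _ _ _ => rfl, fun _ _ => rfl⟩

/-- `termSheaf` is terminal. -/
def isTerminalTermSheaf : IsTerminal (termSheaf J) :=
  IsTerminal.ofUniqueHom (fun N => ⟨{ app := fun _ => ↾fun _ => PUnit.unit }⟩)
    (fun N m => by
      ext V x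
      rfl)

variable {J}

/-- Sections of the underlying presheaf of a sheaf of sets are the morphisms from the terminal
sheaf. -/
def sectionsEquiv (N : Sheaf J (Type u)) : N.obj.sections ≃ (termSheaf J ⟶ N) where
  toFun s := ⟨(N.obj.sectionsEquivHom PUnit) s⟩
  invFun τ := (N.obj.sectionsEquivHom PUnit).symm τ.hom
  left_inv s := (N.obj.sectionsEquivHom PUnit).left_inv s
  right_inv τ := by
    ext : 1
    exact (N.obj.sectionsEquivHom PUnit).right_inv τ.hom

section Restrict

variable {C D : Type u} [SmallCategory C] [SmallCategory D] {J : GrothendieckTopology C}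
  {K : GrothendieckTopology D} (F : D ⥤ C) [F.IsContinuous K J]

/-- Restriction of sections along `F`. -/
def restrictSections (N : Sheaf J (Type u)) (s : N.obj.sections) :
    ((F.sheafPushforwardContinuous (Type u) K J).obj N).obj.sections :=
  ⟨fun V => s.1 (F.op.obj V), fun g => s.2 (F.op.map g)⟩

variable [(F.sheafPushforwardContinuous (Type u) K J).IsRightAdjoint]

/-- If the pullback of sheaves of sets along a continuous functor preserves the terminal object,
then restriction of global sections along the functor is bijective. -/
theorem bijective_restrictSections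
    (hT : IsTerminal ((F.sheafPullback (Type u) K J).obj (termSheaf K))) (N : Sheaf J (Type u)) :
    Function.Bijective (restrictSections (K := K) F N) := by
  let adj := F.sheafAdjunctionContinuous (Type u) K J
  let G := F.sheafPushforwardContinuous (Type u) K J
  let θ : (F.sheafPullback (Type u) K J).obj (termSheaf K) ⟶ termSheaf J :=
    (isTerminalTermSheaf J).from _
  have : IsIso θ := isIso_of_isTerminal hT (isTerminalTermSheaf J) θ
  let Φ : (termSheaf J ⟶ N) → (termSheaf K ⟶ G.obj N) := fun τ => adj.homEquiv _ _ (θ ≫ τ)
  have hΦ : Function.Bijective Φ := by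
    refine (adj.homEquiv _ _).bijective.comp ?_
    constructor
    · intro a b hab
      exact (cancel_epi θ).mp hab
    · intro b
      exact ⟨inv θ ≫ b, by simp⟩
  have hsq : ∀ s : N.obj.sections,
      sectionsEquiv (G.obj N) (restrictSections (K := K) F N s) = Φ (sectionsEquiv N s) := by
    intro s
    ext V x
    change s.1 (F.op.obj V) = _
    simp only [Φ, Adjunction.homEquiv_unit, Functor.map_comp]
    rfl
  have : restrictSections (K := K) F N = (sectionsEquiv (G.obj N)).symm ∘ Φ ∘ sectionsEquiv N := by
    funext s
    rw [Function.comp_apply, Function.comp_apply, ← hsq]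
    exact (Equiv.symm_apply_apply _ _).symm
  rw [this]
  exact (sectionsEquiv (G.obj N)).symm.bijective.comp (hΦ.comp (sectionsEquiv N).bijective)

end Restrict

end Sites

section Modules

variable {C D : Type u} [SmallCategory C] [SmallCategory D] {J : GrothendieckTopology C}
  {K : GrothendieckTopology D} {O_C : Sheaf J CommRingCat.{u}} {O_D : Sheaf K CommRingCat.{u}}
  (f : ModSite.RMor O_C O_D)

/-- Global sections of `M` and of `f_* M` agree, for a morphism of ringed sites `f`. -/
theorem bijective_pushforwardSections (M : ModSite.Mod O_C) :
    Function.Bijective (SheafOfModules.pushforwardSections f.sharpR (M := M)) := by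
  let N : Sheaf J (Type u) := ⟨M.val.presheaf ⋙ forget _,
    (Presheaf.isSheaf_iff_isSheaf_forget J M.val.presheaf (forget AddCommGrpCat)).mp M.isSheaf⟩
  have hT : IsTerminal ((f.fn.sheafPullback (Type u) K J).obj (termSheaf K)) :=
    (isTerminalTermSheaf K).isTerminalObj _ _
  exact bijective_restrictSections f.fn hT N

instance isIso_pullbackObjUnitToUnit : IsIso (SheafOfModules.pullbackObjUnitToUnit f.sharpR) := by
  rw [isIso_iff_coyoneda_map_bijective]
  intro M
  rw [← ((SheafOfModules.pullbackPushforwardAdjunction.{u} f.sharpR).homEquiv _ _).bijective.of_comp_iff',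
    ← (SheafOfModules.unitHomEquiv _).bijective.of_comp_iff']
  convert! (bijective_pushforwardSections f M).comp (SheafOfModules.unitHomEquiv _).bijective
  ext g : 1
  dsimp
  rw [SheafOfModules.pushforwardSections_unitHomEquiv, EmbeddingLike.apply_eq_iff_eq,
    Adjunction.homEquiv_naturality_right,
    SheafOfModules.pullbackPushforwardAdjunction_homEquiv_pullbackObjUnitToUnit]

/-- The module pullback of a free module along a morphism of ringed sites is free. -/
noncomputable def pullObjFreeIso (I : Type u) :
    f.pull.obj (SheafOfModules.free I) ≅ SheafOfModules.free I :=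
  (asIso (sigmaComparison _ _)).symm ≪≫
    Sigma.mapIso (fun _ ↦ asIso (SheafOfModules.pullbackObjUnitToUnit f.sharpR))

end Modules

end Groth.Agent.R2.H41.PullFree
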