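import Mathlib.Algebra.Homology.QuasiIso
import Mathlib.CategoryTheory.Abelian.Refinements

/-!
# helper41: criterion "up to refinements" for `QuasiIsoAt` (Mathlib only)
-/

set_option autoImplicit false
universe v u
open CategoryTheory CategoryTheory.Limits

namespace Groth.Agent.R2.H41.QIsoCrit

variable {𝒜 : Type u} [Category.{v} 𝒜] [Abelian 𝒜]

/-- A map of short complexes is a quasi-isomorphism if it is injective and surjective on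
homology "up to refinements". -/
theorem shortComplex_quasiIso_of_refinements {S₁ S₂ : ShortComplex 𝒜} (φ : S₁ ⟶ S₂)
    (hmono : ∀ ⦃A : 𝒜⦄ (x₂ : A ⟶ S₁.X₂) (_ : x₂ ≫ S₁.g = 0) (y₁ : A ⟶ S₂.X₁)
      (_ : x₂ ≫ φ.τ₂ = y₁ ≫ S₂.f),
      ∃ (A' : 𝒜) (π : A' ⟶ A) (_ : Epi π) (x₁ : A' ⟶ S₁.X₁), π ≫ x₂ = x₁ ≫ S₁.f)
    (hepi : ∀ ⦃A : 𝒜⦄ (y₂ : A ⟶ S₂.X₂) (_ : y₂ ≫ S₂.g = 0),
      ∃ (A' : 𝒜) (π : A' ⟶ A) (_ : Epi π) (x₂ : A' ⟶ S₁.X₂) (_ : x₂ ≫ S₁.g = 0)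
        (y₁ : A' ⟶ S₂.X₁), π ≫ y₂ = x₂ ≫ φ.τ₂ + y₁ ≫ S₂.f) :
    ShortComplex.QuasiIso φ := by
  rw [ShortComplex.quasiIso_iff]
  have : Mono (ShortComplex.homologyMap φ) :=
    (ShortComplex.mono_homologyMap_iff_up_to_refinements φ).2 hmono
  have : Epi (ShortComplex.homologyMap φ) :=
    (ShortComplex.epi_homologyMap_iff_up_to_refinements φ).2 hepi
  exact isIso_of_mono_of_epi _

/-- Criterion for `QuasiIsoAt f j` in terms of generalized elements. -/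
theorem quasiIsoAt_of_refinements {ι : Type*} {c : ComplexShape ι}
    {K L : HomologicalComplex 𝒜 c} (f : K ⟶ L) (i j k : ι) (hi : c.prev j = i)
    (hk : c.next j = k)
    (hmono : ∀ ⦃A : 𝒜⦄ (x₂ : A ⟶ K.X j) (_ : x₂ ≫ K.d j k = 0) (y₁ : A ⟶ L.X i)
      (_ : x₂ ≫ f.f j = y₁ ≫ L.d i j),
      ∃ (A' : 𝒜) (π : A' ⟶ A) (_ : Epi π) (x₁ : A' ⟶ K.X i), π ≫ x₂ = x₁ ≫ K.d i j)
    (hepi : ∀ ⦃A : 𝒜⦄ (y₂ : A ⟶ L.X j) (_ : y₂ ≫ L.d j k = 0),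
      ∃ (A' : 𝒜) (π : A' ⟶ A) (_ : Epi π) (x₂ : A' ⟶ K.X j) (_ : x₂ ≫ K.d j k = 0)
        (y₁ : A' ⟶ L.X i), π ≫ y₂ = x₂ ≫ f.f j + y₁ ≫ L.d i j) :
    QuasiIsoAt f j := by
  rw [_root_.quasiIsoAt_iff' f i j k hi hk]
  exact shortComplex_quasiIso_of_refinements _ hmono hepi

/-- Conversely, a quasi-isomorphism at `j` satisfies the two lifting properties. -/
theorem mono_of_quasiIsoAt {ι : Type*} {c : ComplexShape ι}
    {K L : HomologicalComplex 𝒜 c} (f : K ⟶ L) (i j k : ι) (hi : c.prev j = i)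
    (hk : c.next j = k) [QuasiIsoAt f j] ⦃A : 𝒜⦄ (x₂ : A ⟶ K.X j) (h : x₂ ≫ K.d j k = 0)
    (y₁ : A ⟶ L.X i) (h' : x₂ ≫ f.f j = y₁ ≫ L.d i j) :
    ∃ (A' : 𝒜) (π : A' ⟶ A) (_ : Epi π) (x₁ : A' ⟶ K.X i), π ≫ x₂ = x₁ ≫ K.d i j := by
  have hq := (_root_.quasiIsoAt_iff' f i j k hi hk).1 inferInstance
  rw [ShortComplex.quasiIso_iff] at hq
  haveI := hq
  exact (ShortComplex.mono_homologyMap_iff_up_to_refinements
    ((HomologicalComplex.shortComplexFunctor' 𝒜 c i j k).map f)).1 inferInstance x₂ h y₁ h'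

theorem epi_of_quasiIsoAt {ι : Type*} {c : ComplexShape ι}
    {K L : HomologicalComplex 𝒜 c} (f : K ⟶ L) (i j k : ι) (hi : c.prev j = i)
    (hk : c.next j = k) [QuasiIsoAt f j] ⦃A : 𝒜⦄ (y₂ : A ⟶ L.X j) (h : y₂ ≫ L.d j k = 0) :
    ∃ (A' : 𝒜) (π : A' ⟶ A) (_ : Epi π) (x₂ : A' ⟶ K.X j) (_ : x₂ ≫ K.d j k = 0)
      (y₁ : A' ⟶ L.X i), π ≫ y₂ = x₂ ≫ f.f j + y₁ ≫ L.d i j := by
  have hq := (_root_.quasiIsoAt_iff' f i j k hi hk).1 inferInstance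
  rw [ShortComplex.quasiIso_iff] at hq
  haveI := hq
  exact (ShortComplex.epi_homologyMap_iff_up_to_refinements
    ((HomologicalComplex.shortComplexFunctor' 𝒜 c i j k).map f)).1 inferInstance y₂ h

end Groth.Agent.R2.H41.QIsoCrit
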