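import Groth.Agent.R2.H41TypeAS

/-!
# helper41: PROJ:typeA — `pkg16` (extensions of finitely presented modules)
-/

set_option autoImplicit false
universe w v u
open CategoryTheory CategoryTheory.Limits Opposite

namespace Groth.Agent.R2.H41.TypeA16

section SumIso

variable {𝒜 : Type u} [Category.{v} 𝒜] [Preadditive 𝒜] [HasBinaryBiproducts 𝒜]
  {ι₁ ι₂ : Type w} (f : ι₁ ⊕ ι₂ → 𝒜) [HasCoproduct f] [HasCoproduct (fun i => f (.inl i))]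
  [HasCoproduct (fun j => f (.inr j))]

/-- `∐_{ι₁ ⊕ ι₂} f ≅ (∐_{ι₁} f ∘ inl) ⊞ (∐_{ι₂} f ∘ inr)`. -/
noncomputable def sumIso : (∐ f) ≅ (∐ fun i => f (.inl i)) ⊞ (∐ fun j => f (.inr j)) where
  hom := Sigma.desc (fun z => match z with
    | .inl i => Sigma.ι (fun i => f (.inl i)) i ≫ biprod.inl
    | .inr j => Sigma.ι (fun j => f (.inr j)) j ≫ biprod.inr)
  inv := biprod.desc (Sigma.desc fun i => Sigma.ι f (.inl i)) (Sigma.desc fun j => Sigma.ι f (.inr j))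
  hom_inv_id := by
    apply Sigma.hom_ext
    rintro (i | j) <;> simp
  inv_hom_id := by
    apply biprod.hom_ext'
    · apply Sigma.hom_ext
      intro i
      simp
    · apply Sigma.hom_ext
      intro j
      simp

@[reassoc (attr := simp)]
lemma ι_inl_sumIso_hom (i : ι₁) :
    Sigma.ι f (.inl i) ≫ (sumIso f).hom = Sigma.ι (fun i => f (.inl i)) i ≫ biprod.inl := by
  simp [sumIso]

@[reassoc (attr := simp)]
lemma ι_inr_sumIso_hom (j : ι₂) :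
    Sigma.ι f (.inr j) ≫ (sumIso f).hom = Sigma.ι (fun j => f (.inr j)) j ≫ biprod.inr := by
  simp [sumIso]

end SumIso

section Pkg16

open Groth.Agent.Lib.Helper17.Hyp Groth.Agent.R2.H41.TypeASpec Groth.Agent.R2.H41.AbLemmas
  Groth.Agent.R2.H41.TypeAS

/-- **Pkg16**: extensions of finitely presented modules are finitely presented. -/
theorem pkg16 (r : PkgR.{u}) (s : PkgS.{u}) (x : PkgX.{u}) : Pkg16.{u} := by
  intro C _ _ J O B hB₁ hB₂ hB₃ S hS h₁ h₃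
  obtain ⟨ι₁, hι₁, U₁, π₁, hU₁, hπ₁, hk₁⟩ := h₁
  obtain ⟨ι₃, hι₃, U₃, π₃, hU₃, hπ₃, -⟩ := id h₃
  haveI := hι₁
  haveI := hι₃
  haveI : Epi S.g := hS.epi_g
  have hR : ∀ j : ι₃, ∃ (N : ℕ) (W : Fin N → C) (g : ∀ k, W k ⟶ U₃ j)
      (b : ∀ k, (fr O).obj (W k) ⟶ S.X₂),
      (∀ k, W k ∈ B) ∧ Sieve.ofArrows W g ∈ J (U₃ j) ∧
        ∀ k, b k ≫ S.g = (fr O).map (g k) ≫ Sigma.ι (fun i => (fr O).obj (U₃ i)) j ≫ π₃ :=
    fun j => r O B hB₁ hB₂ S.g (U₃ j) (hU₃ j) (Sigma.ι (fun i => (fr O).obj (U₃ i)) j ≫ π₃)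
  choose N W g b hW hg hb using hR
  haveI hc : Epi (refMap O ι₃ U₃ N W g) := epi_refMap O ι₃ U₃ N W g hg
  let bb : (∐ fun y : (Σ i, Fin (N i)) => (fr O).obj (W y.1 y.2)) ⟶ S.X₂ :=
    Sigma.desc (fun y => b y.1 y.2)
  have hbb : bb ≫ S.g = refMap O ι₃ U₃ N W g ≫ π₃ := by
    apply Sigma.hom_ext
    intro y
    dsimp only [bb, refMap]
    rw [Sigma.ι_desc_assoc, Sigma.ι_desc_assoc, hb, Category.assoc]
  haveI : Epi (refMap O ι₃ U₃ N W g ≫ π₃) := epi_comp _ _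
  have hk₃ : IsFG O B (kernel (refMap O ι₃ U₃ N W g ≫ π₃)) :=
    s O B hB₁ hB₂ hB₃ S.X₃ h₃ (Σ i, Fin (N i)) (fun y => W y.1 y.2) _ (fun y => hW y.1 y.2)
      inferInstance
  have hq : Epi (hsMap S π₁ bb) := epi_hsMap S π₁ _ bb hbb hS
  have hkq : IsFG O B (kernel (hsMap S π₁ bb)) :=
    x O B hB₁ hB₂ (horseshoeSC S π₁ _ bb hbb) (shortExact_horseshoe S π₁ _ bb hbb hS) hk₁ hk₃
  -- reindex by `ι₁ ⊕ Σ i, Fin (N i)`
  let V : ι₁ ⊕ (Σ i, Fin (N i)) → C := Sum.elim U₁ (fun y => W y.1 y.2)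
  have hV : ∀ z, V z ∈ B := by
    rintro (i | y)
    · exact hU₁ i
    · exact hW y.1 y.2
  let e : (∐ fun z => (fr O).obj (V z)) ≅
      (∐ fun i => (fr O).obj (U₁ i)) ⊞ (∐ fun y : (Σ i, Fin (N i)) => (fr O).obj (W y.1 y.2)) :=
    sumIso (fun z => (fr O).obj (V z))
  refine ⟨ι₁ ⊕ (Σ i, Fin (N i)), inferInstance, V, e.hom ≫ hsMap S π₁ bb, hV, epi_comp _ _, ?_⟩
  exact isFG_of_iso O B (kernelIsIsoComp e.hom (hsMap S π₁ bb)).symm hkq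

end Pkg16

end Groth.Agent.R2.H41.TypeA16
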