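import Groth.Agent.R2.H41ResSpec
import Groth.Agent.R2.H41TypeA16
import Groth.Agent.R2.H32TypeAConv

/-!
# helper41: PkgInst — `IsFreeSum O` is a good class in `Mod O`
-/

set_option autoImplicit false
universe u
open CategoryTheory CategoryTheory.Limits Opposite

namespace Groth.Agent.R2.H41.ResInst

open Groth.Agent.R2.H41.ResSpec Groth.Agent.R2.H41.TypeASpec Groth.Agent.Lib.Helper17.Hyp
  Groth.Agent.R2.H32.TypeAConv

variable {C : Type u} [SmallCategory C] {J : GrothendieckTopology C}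
  (O : Sheaf J CommRingCat.{u})

lemma isFreeSum_iso {X Y : ModSite.Mod O} (e : X ≅ Y) (h : IsFreeSum O X) : IsFreeSum O Y := by
  obtain ⟨ι, U, ⟨i⟩⟩ := h
  exact ⟨ι, U, ⟨e.symm ≪≫ i⟩⟩

lemma isFreeSum_zero (X : ModSite.Mod O) (h : IsZero X) : IsFreeSum O X := by
  refine ⟨PEmpty, fun i => i.elim, ⟨h.iso ?_⟩⟩
  have : IsInitial (∐ fun j : PEmpty.{u + 1} => ModSite.freeOn O (PEmpty.elim j : C)) := by
    refine IsInitial.ofUniqueHom (fun Y => Sigma.desc (fun j => j.elim)) ?_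
    intro Y m
    exact Sigma.hom_ext _ _ (fun j => j.elim)
  exact (isZero_zero _).of_iso (this.uniqueUpToIso (isZero_zero _).isInitial)

lemma isFreeSum_biprod (X Y : ModSite.Mod O) (hX : IsFreeSum O X) (hY : IsFreeSum O Y) :
    IsFreeSum O (X ⊞ Y) := by
  obtain ⟨ι₁, U₁, ⟨i₁⟩⟩ := hX
  obtain ⟨ι₂, U₂, ⟨i₂⟩⟩ := hY
  refine ⟨ι₁ ⊕ ι₂, Sum.elim U₁ U₂, ⟨?_⟩⟩
  exact biprod.mapIso i₁ i₂ ≪≫
    (TypeA16.sumIso (f := fun k : ι₁ ⊕ ι₂ => ModSite.freeOn O (Sum.elim U₁ U₂ k))).symm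

lemma isFreeSum_cover (M : ModSite.Mod O) :
    ∃ (Q : ModSite.Mod O) (π : Q ⟶ M), IsFreeSum O Q ∧ Epi π := by
  let ι : Type u := Σ U : C, ((fr O).obj U ⟶ M)
  let π : (∐ fun k : ι => (fr O).obj k.1) ⟶ M := Sigma.desc (fun k => k.2)
  refine ⟨_, π, ⟨ι, fun k => k.1, ⟨Sigma.mapIso (fun k => frIso O k.1)⟩⟩, ?_⟩
  apply Abelian.epi_of_cokernel_π_eq_zero
  apply (locFr_frModR (J := J) (ModSite.ringSh O)).gen
  intro U s
  have h : s = Sigma.ι (fun k : ι => (fr O).obj k.1) ⟨U, s⟩ ≫ π := by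
    simp [π]
  rw [h, Category.assoc, cokernel.condition, comp_zero]

theorem pkgInst : PkgInst.{u} := by
  intro C _ J O
  exact ⟨fun e h => isFreeSum_iso O e h, isFreeSum_zero O, isFreeSum_biprod O, isFreeSum_cover O⟩

end Groth.Agent.R2.H41.ResInst
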