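import Groth.Agent.R2.H41ResSpec
import Groth.Agent.R2.H41QIsoCrit

/-!
# helper41: PkgResN — resolutions of `ℕ`-indexed chain complexes by a good class of objects
-/

set_option autoImplicit false
universe v u
open CategoryTheory CategoryTheory.Limits

namespace Groth.Agent.R2.H41.ResN

open Groth.Agent.R2.H41.ResSpec

variable {𝒜 : Type u} [Category.{v} 𝒜] [Abelian 𝒜] {P : 𝒜 → Prop} (hP : Good P)

/-- chosen cover -/
noncomputable def cov (M : 𝒜) : 𝒜 := (hP.cover M).choose

noncomputable def covπ (M : 𝒜) : cov hP M ⟶ M := (hP.cover M).choose_spec.choose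

lemma cov_P (M : 𝒜) : P (cov hP M) := (hP.cover M).choose_spec.choose_spec.1

instance covπ_epi (M : 𝒜) : Epi (covπ hP M) := (hP.cover M).choose_spec.choose_spec.2

variable (C : ChainComplex 𝒜 ℕ)

variable (P) in
/-- the data at stage `k` of the construction -/
structure Stage (k : ℕ) where
  X : 𝒜
  r : X ⟶ C.X k
  Z : 𝒜
  j : Z ⟶ X
  ζ : Z ⟶ C.cycles k
  hζ : ζ ≫ C.iCycles k = j ≫ r
  mono_j : Mono j
  epi_ζ : Epi ζ
  epi_r : Epi r
  hPX : P X

attribute [instance] Stage.mono_j Stage.epi_ζ Stage.epi_r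

lemma d00 : C.d 0 0 = 0 := C.shape 0 0 (by simp)

noncomputable def stage0 : Stage P C 0 where
  X := cov hP (C.X 0)
  r := covπ hP (C.X 0)
  Z := cov hP (C.X 0)
  j := 𝟙 _
  ζ := C.liftCycles (covπ hP (C.X 0)) 0 (by simp) (by rw [d00, comp_zero])
  hζ := by simp
  mono_j := inferInstance
  epi_ζ := by
    rw [epi_iff_surjective_up_to_refinements]
    intro A y
    obtain ⟨A', π, hπ, x, hx⟩ := surjective_up_to_refinements_of_epi (covπ hP (C.X 0))
      (y ≫ C.iCycles 0)
    refine ⟨A', π, hπ, x, ?_⟩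
    rw [← cancel_mono (C.iCycles 0)]
    simp [hx]
  epi_r := inferInstance
  hPX := cov_P hP _

variable {C}

section next
variable {k : ℕ} (s : Stage P C k)

/-- the fibre product `C_{k+1} ×_{Z_k(C)} Z_k` -/
noncomputable abbrev T : 𝒜 := pullback (C.toCycles (k + 1) k) s.ζ

/-- the map `X_{k+1} ⟶ Z_k` -/
noncomputable def e : cov hP (T s) ⟶ s.Z := covπ hP (T s) ≫ pullback.snd _ _

lemma iCycles_toCycles : C.iCycles (k + 1) ≫ C.toCycles (k + 1) k = 0 := by
  rw [← cancel_mono (C.iCycles k)]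
  simp

lemma e_ζ : e hP s ≫ s.ζ = (covπ hP (T s) ≫ pullback.fst _ _) ≫ C.toCycles (k + 1) k := by
  simp [e, pullback.condition]

noncomputable def next : Stage P C (k + 1) where
  X := cov hP (T s)
  r := covπ hP (T s) ≫ pullback.fst _ _
  Z := kernel (e hP s)
  j := kernel.ι _
  ζ := C.liftCycles (kernel.ι (e hP s) ≫ covπ hP (T s) ≫ pullback.fst _ _) k (by simp) (by
    have h : C.d (k + 1) k = C.toCycles (k + 1) k ≫ C.iCycles k := by simp
    rw [h]
    have := e_ζ hP s
    simp only [Category.assoc] at this ⊢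
    rw [← reassoc_of% this]
    simp)
  hζ := by simp
  mono_j := inferInstance
  epi_ζ := by
    rw [epi_iff_surjective_up_to_refinements]
    intro A y
    obtain ⟨A', π, hπ, x, hx⟩ := surjective_up_to_refinements_of_epi (covπ hP (T s))
      (pullback.lift (y ≫ C.iCycles (k + 1)) (0 : A ⟶ s.Z)
        (by rw [Category.assoc, iCycles_toCycles, comp_zero, zero_comp]))
    have hx0 : x ≫ e hP s = 0 := by
      rw [e, ← Category.assoc, ← hx]
      simp [pullback.lift_snd]
    refine ⟨A', π, hπ, kernel.lift _ x hx0, ?_⟩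
    rw [← cancel_mono (C.iCycles (k + 1))]
    simp only [Category.assoc, HomologicalComplex.liftCycles_i, kernel.lift_ι_assoc]
    rw [← Category.assoc x, ← hx]
    simp [pullback.lift_fst]
  epi_r := inferInstance
  hPX := cov_P hP _

/-- the differential `X_{k+1} ⟶ X_k` -/
noncomputable def dnext : (next hP s).X ⟶ s.X := e hP s ≫ s.j

lemma next_j_dnext : (next hP s).j ≫ dnext hP s = 0 := by
  change kernel.ι (e hP s) ≫ e hP s ≫ s.j = 0
  rw [kernel.condition_assoc, zero_comp]

lemma next_lift {A : 𝒜} (x : A ⟶ (next hP s).X) (hx : x ≫ dnext hP s = 0) :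
    ∃ z : A ⟶ (next hP s).Z, z ≫ (next hP s).j = x := by
  have hx0 : x ≫ e hP s = 0 := by
    rw [← cancel_mono s.j, Category.assoc, zero_comp]
    exact hx
  exact ⟨kernel.lift _ x hx0, kernel.lift_ι _ _ _⟩

lemma dnext_r : dnext hP s ≫ s.r = (next hP s).r ≫ C.d (k + 1) k := by
  have h : C.d (k + 1) k = C.toCycles (k + 1) k ≫ C.iCycles k := by simp
  change (e hP s ≫ s.j) ≫ s.r = (covπ hP (T s) ≫ pullback.fst _ _) ≫ C.d (k + 1) k
  rw [h, Category.assoc, ← s.hζ, ← Category.assoc, e_ζ, Category.assoc]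

lemma dnext_surj {A : 𝒜} (z : A ⟶ s.Z) (y : A ⟶ C.X (k + 1))
    (h : z ≫ s.ζ = y ≫ C.toCycles (k + 1) k) :
    ∃ (A' : 𝒜) (π : A' ⟶ A) (_ : Epi π) (x : A' ⟶ (next hP s).X),
      x ≫ dnext hP s = π ≫ z ≫ s.j := by
  obtain ⟨A', π, hπ, x, hx⟩ := surjective_up_to_refinements_of_epi (covπ hP (T s))
    (pullback.lift y z h.symm)
  refine ⟨A', π, hπ, x, ?_⟩
  change x ≫ (covπ hP (T s) ≫ pullback.snd _ _) ≫ s.j = _
  rw [← Category.assoc, ← Category.assoc, ← hx]
  simp [pullback.lift_snd_assoc]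

lemma dnext_dnext : dnext hP (next hP s) ≫ dnext hP s = 0 := by
  change (e hP (next hP s) ≫ (next hP s).j) ≫ dnext hP s = 0
  rw [Category.assoc, next_j_dnext, comp_zero]

end next

variable (C)

/-- all the stages -/
noncomputable def stage : ∀ k : ℕ, Stage P C k
  | 0 => stage0 hP C
  | k + 1 => next hP (stage k)

/-- the resolution -/
noncomputable def Q : ChainComplex 𝒜 ℕ :=
  ChainComplex.of (fun k => (stage hP C k).X) (fun k => dnext hP (stage hP C k))
    (fun k => dnext_dnext hP (stage hP C k))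

lemma Q_d (k : ℕ) : (Q hP C).d (k + 1) k = dnext hP (stage hP C k) := by
  exact ChainComplex.of_d (fun k => (stage hP C k).X) (fun k => dnext hP (stage hP C k)) k

/-- the map to `C` -/
noncomputable def rr : Q hP C ⟶ C where
  f k := (stage hP C k).r
  comm' := by
    rintro i j (rfl : j + 1 = i)
    rw [Q_d]
    exact (dnext_r hP (stage hP C j)).symm

lemma j_d (k : ℕ) : (stage hP C k).j ≫ (Q hP C).d k ((ComplexShape.down ℕ).next k) = 0 := by
  cases k with
  | zero =>
    have h0 : (Q hP C).d 0 ((ComplexShape.down ℕ).next 0) = 0 :=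
      HomologicalComplex.shape _ _ _ (by simp)
    rw [h0]
    exact comp_zero
  | succ k =>
    rw [ChainComplex.next_nat_succ, Q_d]
    exact next_j_dnext hP (stage hP C k)

lemma cyc_lift (k : ℕ) {A : 𝒜} (x : A ⟶ (Q hP C).X k)
    (hx : x ≫ (Q hP C).d k ((ComplexShape.down ℕ).next k) = 0) :
    ∃ z : A ⟶ (stage hP C k).Z, z ≫ (stage hP C k).j = x := by
  cases k with
  | zero => exact ⟨x, Category.comp_id x⟩
  | succ k =>
    rw [ChainComplex.next_nat_succ, Q_d] at hx
    exact next_lift hP (stage hP C k) x hx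

theorem quasiIso_rr : QuasiIso (rr hP C) := by
  rw [quasiIso_iff]
  intro k
  refine QIsoCrit.quasiIsoAt_of_refinements (rr hP C) (k + 1) k ((ComplexShape.down ℕ).next k)
    (by simp) rfl ?_ ?_
  · intro A x₂ hx₂ y₁ h
    obtain ⟨z, rfl⟩ := cyc_lift hP C k x₂ hx₂
    have hz : z ≫ (stage hP C k).ζ = y₁ ≫ C.toCycles (k + 1) k := by
      rw [← cancel_mono (C.iCycles k)]
      rw [Category.assoc, (stage hP C k).hζ, Category.assoc, HomologicalComplex.toCycles_i]
      change (z ≫ (stage hP C k).j) ≫ (stage hP C k).r = _ at h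
      rw [Category.assoc] at h
      exact h
    obtain ⟨A', π, hπ, x, hx⟩ := dnext_surj hP (stage hP C k) z y₁ hz
    exact ⟨A', π, hπ, x, by rw [Q_d]; exact hx.symm⟩
  · intro A y₂ hy₂
    obtain ⟨A', π, hπ, z, hz⟩ := surjective_up_to_refinements_of_epi (stage hP C k).ζ
      (C.liftCycles y₂ _ rfl hy₂)
    refine ⟨A', π, hπ, z ≫ (stage hP C k).j, ?_, 0, ?_⟩
    · change (z ≫ (stage hP C k).j) ≫ (Q hP C).d k ((ComplexShape.down ℕ).next k) = 0
      rw [Category.assoc]
      have := j_d hP C k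
      rw [this, comp_zero]
    · rw [zero_comp, add_zero]
      have := hz =≫ C.iCycles k
      simp only [Category.assoc, HomologicalComplex.liftCycles_i] at this
      rw [this, (stage hP C k).hζ]
      exact (Category.assoc _ _ _).symm

end Groth.Agent.R2.H41.ResN

namespace Groth.Agent.R2.H41.ResN

open Groth.Agent.R2.H41.ResSpec

theorem pkgResN : PkgResN.{v, u} := by
  intro 𝒜 _ _ P hP C
  refine ⟨Q hP C, rr hP C, ?_, quasiIso_rr hP C, ?_⟩
  · intro k
    exact (stage hP C k).hPX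
  · intro k
    exact (stage hP C k).epi_r

end Groth.Agent.R2.H41.ResN
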