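import Groth.Agent.R2.H41StepN
import Mathlib.Algebra.Homology.Embedding.HomEquiv
import Mathlib.Algebra.Homology.Embedding.ExtendHomology

/-!
# helper41: PkgStep and PkgResZ (transport of PkgStepN along `embeddingUpIntLE b`)
-/

set_option autoImplicit false
universe v u
open CategoryTheory CategoryTheory.Limits HomologicalComplex ZeroObject

namespace Groth.Agent.R2.H41.Step

open Groth.Agent.R2.H41.ResSpec Groth.Agent.R2.H41.StepN

section general

variable {𝒜 : Type u} [Category.{v} 𝒜] [Abelian 𝒜]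

lemma isIso_of_isZero {X Y : 𝒜} (hX : IsZero X) (hY : IsZero Y) (f : X ⟶ Y) : IsIso f :=
  ⟨0, hX.eq_of_src _ _, hY.eq_of_src _ _⟩

lemma epi_of_isZero_tgt {X Y : 𝒜} (hY : IsZero Y) (f : X ⟶ Y) : Epi f :=
  ⟨fun _ _ _ => hY.eq_of_src _ _⟩

variable {ι ι' : Type*} {c : ComplexShape ι} {c' : ComplexShape ι'} (e : c.Embedding c')
  [e.IsRelIff] (hB : ∀ j, ¬ e.BoundaryGE j)

/-- the canonical map `K ⟶ (K.restriction e).extend e` when `e` has no lower boundary. -/
noncomputable def Φ (K : HomologicalComplex 𝒜 c') : K ⟶ (K.restriction e).extend e :=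
  e.liftExtend (𝟙 _) (fun j hj => (hB j hj).elim)

lemma Φ_f (K : HomologicalComplex 𝒜 c') {i : ι} {i' : ι'} (hi : e.f i = i') :
    (Φ e hB K).f i' = (K.restrictionXIso e hi).inv ≫ ((K.restriction e).extendXIso e hi).inv := by
  rw [Φ, e.liftExtend_f _ _ hi]
  simp

lemma Φ_naturality {K L : HomologicalComplex 𝒜 c'} (g : K ⟶ L) :
    Φ e hB K ≫ extendMap (restrictionMap g e) e = g ≫ Φ e hB L := by
  apply (e.homEquiv _ _).injective
  apply Subtype.ext
  change e.homRestrict _ = e.homRestrict _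
  rw [ComplexShape.Embedding.homRestrict_comp_extendMap,
    ComplexShape.Embedding.homRestrict_precomp, Φ, Φ,
    ComplexShape.Embedding.homRestrict_liftExtend,
    ComplexShape.Embedding.homRestrict_liftExtend, Category.id_comp, Category.comp_id]

lemma isIso_Φ (K : HomologicalComplex 𝒜 c') [K.IsStrictlySupported e] : IsIso (Φ e hB K) := by
  have : ∀ n, IsIso ((Φ e hB K).f n) := by
    intro i'
    by_cases h : ∃ i, e.f i = i'
    · obtain ⟨i, hi⟩ := h
      rw [Φ_f e hB K hi]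
      infer_instance
    · have h' : ∀ i, e.f i ≠ i' := by simpa using h
      exact isIso_of_isZero (K.isZero_X_of_isStrictlySupported e i' h')
        (isZero_extend_X _ e i' h') _
  exact HomologicalComplex.Hom.isIso_of_components _

end general

section split

variable {𝒜 : Type u} [Category.{v} 𝒜] [Abelian 𝒜] {P : 𝒜 → Prop} (hP : Good P)

include hP in
lemma split_of_biprod {A B : 𝒜} (f : A ⟶ B) (F : 𝒜) (φ : B ≅ A ⊞ F) (hF : P F)
    (h : f ≫ φ.hom = biprod.inl) : ∃ r : B ⟶ A, f ≫ r = 𝟙 _ ∧ P (cokernel f) := by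
  refine ⟨φ.hom ≫ biprod.fst, by rw [reassoc_of% h, biprod.inl_fst], ?_⟩
  have i1 : cokernel f ≅ cokernel (biprod.inl : A ⟶ A ⊞ F) :=
    cokernel.mapIso f biprod.inl (Iso.refl A) φ (by simp [h])
  have i2 : cokernel (biprod.inl : A ⟶ A ⊞ F) ≅ F :=
    IsColimit.coconePointUniqueUpToIso (colimit.isColimit _) (biprod.isCokernelInlCokernelFork A F)
  exact hP.iso (i1 ≪≫ i2).symm hF

include hP in
lemma split_of_iso {A B A' B' : 𝒜} (f : A ⟶ B) (f' : A' ⟶ B') (a : A ≅ A') (b : B ≅ B')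
    (w : f ≫ b.hom = a.hom ≫ f') (h : ∃ r : B' ⟶ A', f' ≫ r = 𝟙 _ ∧ P (cokernel f')) :
    ∃ r : B ⟶ A, f ≫ r = 𝟙 _ ∧ P (cokernel f) := by
  obtain ⟨r', hr', hc⟩ := h
  refine ⟨b.hom ≫ r' ≫ a.inv, ?_, hP.iso (cokernel.mapIso f f' a b w).symm hc⟩
  rw [reassoc_of% w, reassoc_of% hr', Iso.hom_inv_id]

end split

theorem pkgStep : PkgStep.{v, u} := by
  intro 𝒜 _ _ P hP b K T _ _ g hK
  let e := ComplexShape.embeddingUpIntLE b
  have hB : ∀ j, ¬ e.BoundaryGE j := by
    intro j hj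
    refine hj.2 (j + 1) ?_
    change (b - ((j + 1 : ℕ) : ℤ)) + 1 = b - (j : ℤ)
    push_cast
    ring
  obtain ⟨K'₀, i₀, g'₀, h₁, hqi, hepi, hsplit⟩ :=
    pkgStepN.{v, u} P hP (K.restriction e) (T.restriction e) (restrictionMap g e)
  have := isIso_Φ e hB K
  have := isIso_Φ e hB T
  have : ∀ j, IsIso ((inv (Φ e hB T)).f j) := fun j =>
    inferInstanceAs (IsIso ((HomologicalComplex.eval 𝒜 _ j).map (inv (Φ e hB T))))
  refine ⟨K'₀.extend e, Φ e hB K ≫ extendMap i₀ e, extendMap g'₀ e ≫ inv (Φ e hB T),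
    inferInstance, ?_, ?_, ?_, ?_, ?_⟩
  · -- terms in P
    intro j
    by_cases h : ∃ k, e.f k = j
    · obtain ⟨k, hk⟩ := h
      obtain ⟨F, φ, hF, -⟩ := hsplit k
      refine hP.iso ((K'₀.extendXIso e hk) ≪≫ φ).symm (hP.biprod _ _ ?_ hF)
      exact hK (e.f k)
    · have h' : ∀ i, e.f i ≠ j := by simpa using h
      exact hP.zero _ (isZero_extend_X _ e j h')
  · -- factorisation
    rw [Category.assoc, ← Category.assoc (extendMap i₀ e), ← extendMap_comp, h₁,
      ← Category.assoc, Φ_naturality, Category.assoc, IsIso.hom_inv_id, Category.comp_id]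
  · -- quasi-iso
    have := hqi
    infer_instance
  · -- termwise epi
    intro j
    rw [HomologicalComplex.comp_f]
    by_cases h : ∃ k, e.f k = j
    · obtain ⟨k, hk⟩ := h
      have := hepi k
      rw [extendMap_f g'₀ e hk]
      infer_instance
    · have h' : ∀ i, e.f i ≠ j := by simpa using h
      exact epi_of_isZero_tgt (T.isZero_X_of_isStrictlySupported e j h') _
  · -- splitting
    intro j
    by_cases h : ∃ k, e.f k = j
    · obtain ⟨k, hk⟩ := h
      obtain ⟨F, φ, hF, hφ⟩ := hsplit k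
      refine split_of_iso hP _ (i₀.f k) (K.restrictionXIso e hk).symm (K'₀.extendXIso e hk) ?_
        (split_of_biprod hP _ F φ hF hφ)
      rw [HomologicalComplex.comp_f, Φ_f e hB K hk, extendMap_f i₀ e hk]
      simp
    · have h' : ∀ i, e.f i ≠ j := by simpa using h
      have hz : IsZero (K.X j) := K.isZero_X_of_isStrictlySupported e j h'
      have hz' : IsZero ((K'₀.extend e).X j) := isZero_extend_X _ e j h'
      exact ⟨0, hz.eq_of_src _ _, hP.zero _ (IsZero.of_epi (cokernel.π _) hz')⟩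

theorem pkgResZ : PkgResZ.{v, u} := by
  intro 𝒜 _ _ P hP b C _
  have h0 : ∀ i, IsZero ((0 : CochainComplex 𝒜 ℤ).X i) := fun i =>
    (HomologicalComplex.eval 𝒜 _ i).map_isZero (isZero_zero _)
  obtain ⟨K', -, g', h1, h2, -, h3, h4, -⟩ :=
    pkgStep.{v, u} P hP b (0 : CochainComplex 𝒜 ℤ) C (0 : 0 ⟶ C) (fun i => hP.zero _ (h0 i))
  exact ⟨K', g', h1, h2, h3, h4⟩

end Groth.Agent.R2.H41.Step
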