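import Groth.Agent.R2.H41ResSpec
import Groth.Agent.R2.H41QIsoCrit

/-!
# helper41: PkgStepN — factorisation of a map of `ℕ`-indexed chain complexes `g : K ⟶ C` as
`K ⟶ K' ⟶ C` with `K'_k = K_k ⊞ F_k`, `F_k` in a good class, `K' ⟶ C` a termwise epimorphic
quasi-isomorphism.
-/

set_option autoImplicit false
universe v u
open CategoryTheory CategoryTheory.Limits

namespace Groth.Agent.R2.H41.StepN

open Groth.Agent.R2.H41.ResSpec

/-- the relative version of `PkgResN`. -/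
def PkgStepN : Prop :=
  ∀ {𝒜 : Type u} [Category.{v} 𝒜] [Abelian 𝒜] (P : 𝒜 → Prop), Good P →
    ∀ (K C : ChainComplex 𝒜 ℕ) (g : K ⟶ C),
      ∃ (K' : ChainComplex 𝒜 ℕ) (i : K ⟶ K') (g' : K' ⟶ C), i ≫ g' = g ∧ QuasiIso g' ∧
        (∀ k, Epi (g'.f k)) ∧
        ∀ k, ∃ (F : 𝒜) (φ : K'.X k ≅ K.X k ⊞ F), P F ∧ i.f k ≫ φ.hom = biprod.inl

variable {𝒜 : Type u} [Category.{v} 𝒜] [Abelian 𝒜] {P : 𝒜 → Prop} (hP : Good P)

/-- chosen cover -/
noncomputable def cov (M : 𝒜) : 𝒜 := (hP.cover M).choose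

noncomputable def covπ (M : 𝒜) : cov hP M ⟶ M := (hP.cover M).choose_spec.choose

lemma cov_P (M : 𝒜) : P (cov hP M) := (hP.cover M).choose_spec.choose_spec.1

instance covπ_epi (M : 𝒜) : Epi (covπ hP M) := (hP.cover M).choose_spec.choose_spec.2

variable {K C : ChainComplex 𝒜 ℕ} (g : K ⟶ C)

variable (P) in
/-- the data at stage `k` of the construction -/
structure Stage (k : ℕ) where
  F : 𝒜
  hPF : P F
  r : K.X k ⊞ F ⟶ C.X k
  hr : biprod.inl ≫ r = g.f k
  Z : 𝒜
  j : Z ⟶ K.X k ⊞ F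
  ζ : Z ⟶ C.cycles k
  hζ : ζ ≫ C.iCycles k = j ≫ r
  w : K.X (k + 1) ⟶ Z
  hw : w ≫ j = K.d (k + 1) k ≫ biprod.inl
  mono_j : Mono j
  epi_ζ : Epi ζ
  epi_r : Epi r

attribute [instance] Stage.mono_j Stage.epi_ζ Stage.epi_r

lemma d00 (C : ChainComplex 𝒜 ℕ) : C.d 0 0 = 0 := C.shape 0 0 (by simp)

noncomputable def stage0 : Stage P g 0 where
  F := cov hP (C.X 0)
  hPF := cov_P hP _
  r := biprod.desc (g.f 0) (covπ hP (C.X 0))
  hr := by simp
  Z := K.X 0 ⊞ cov hP (C.X 0)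
  j := 𝟙 _
  ζ := C.liftCycles (biprod.desc (g.f 0) (covπ hP (C.X 0))) 0 (by simp) (by rw [d00, comp_zero])
  hζ := by simp
  w := K.d 1 0 ≫ biprod.inl
  hw := by simp
  mono_j := inferInstance
  epi_ζ := by
    rw [epi_iff_surjective_up_to_refinements]
    intro A y
    obtain ⟨A', π, hπ, x, hx⟩ := surjective_up_to_refinements_of_epi (covπ hP (C.X 0))
      (y ≫ C.iCycles 0)
    refine ⟨A', π, hπ, x ≫ biprod.inr, ?_⟩
    rw [← cancel_mono (C.iCycles 0)]
    simp [hx]
  epi_r := by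
    have h : biprod.inr ≫ biprod.desc (g.f 0) (covπ hP (C.X 0)) = covπ hP (C.X 0) := by simp
    exact epi_of_epi_fac h

variable {g}

section next
variable {k : ℕ} (s : Stage P g k)

/-- the fibre product `C_{k+1} ×_{Z_k(C)} Z_k` -/
noncomputable abbrev T : 𝒜 := pullback (C.toCycles (k + 1) k) s.ζ

/-- the map `r_{k+1}` -/
noncomputable def r' : K.X (k + 1) ⊞ cov hP (T s) ⟶ C.X (k + 1) :=
  biprod.desc (g.f (k + 1)) (covπ hP (T s) ≫ pullback.fst _ _)

/-- the map `X_{k+1} ⟶ Z_k` -/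
noncomputable def e : K.X (k + 1) ⊞ cov hP (T s) ⟶ s.Z :=
  biprod.desc s.w (covπ hP (T s) ≫ pullback.snd _ _)

lemma iCycles_toCycles : C.iCycles (k + 1) ≫ C.toCycles (k + 1) k = 0 := by
  rw [← cancel_mono (C.iCycles k)]
  simp

lemma w_ζ : s.w ≫ s.ζ = g.f (k + 1) ≫ C.toCycles (k + 1) k := by
  rw [← cancel_mono (C.iCycles k)]
  simp only [Category.assoc, s.hζ, HomologicalComplex.toCycles_i]
  rw [reassoc_of% s.hw, s.hr]
  simp

lemma e_ζ : e hP s ≫ s.ζ = r' hP s ≫ C.toCycles (k + 1) k := by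
  apply biprod.hom_ext'
  · simp [e, r', w_ζ]
  · simp [e, r', pullback.condition]

lemma inr_e : biprod.inr ≫ e hP s = covπ hP (T s) ≫ pullback.snd _ _ := by simp [e]

lemma inl_e : biprod.inl ≫ e hP s = s.w := by simp [e]

lemma inr_r' : biprod.inr ≫ r' hP s = covπ hP (T s) ≫ pullback.fst _ _ := by simp [r']

lemma inl_r' : biprod.inl ≫ r' hP s = g.f (k + 1) := by simp [r']

lemma d_inl_e : K.d (k + 1 + 1) (k + 1) ≫ biprod.inl ≫ e hP s = 0 := by
  rw [inl_e, ← cancel_mono s.j, Category.assoc, s.hw, zero_comp,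
    HomologicalComplex.d_comp_d_assoc, zero_comp]

noncomputable def next : Stage P g (k + 1) where
  F := cov hP (T s)
  hPF := cov_P hP _
  r := r' hP s
  hr := inl_r' hP s
  Z := kernel (e hP s)
  j := kernel.ι _
  ζ := C.liftCycles (kernel.ι (e hP s) ≫ r' hP s) k (by simp) (by
    have h : C.d (k + 1) k = C.toCycles (k + 1) k ≫ C.iCycles k := by simp
    rw [h, Category.assoc, ← reassoc_of% (e_ζ hP s), kernel.condition_assoc, zero_comp])
  hζ := by simp
  w := kernel.lift _ (K.d (k + 1 + 1) (k + 1) ≫ biprod.inl) (by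
    rw [Category.assoc]
    exact d_inl_e hP s)
  hw := by simp
  mono_j := inferInstance
  epi_ζ := by
    rw [epi_iff_surjective_up_to_refinements]
    intro A y
    obtain ⟨A', π, hπ, x, hx⟩ := surjective_up_to_refinements_of_epi (covπ hP (T s))
      (pullback.lift (y ≫ C.iCycles (k + 1)) (0 : A ⟶ s.Z)
        (by rw [Category.assoc, iCycles_toCycles, comp_zero, zero_comp]))
    have hx0 : (x ≫ biprod.inr) ≫ e hP s = 0 := by
      rw [Category.assoc, inr_e, ← Category.assoc, ← hx]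
      simp [pullback.lift_snd]
    refine ⟨A', π, hπ, kernel.lift _ (x ≫ biprod.inr) hx0, ?_⟩
    rw [← cancel_mono (C.iCycles (k + 1))]
    simp only [Category.assoc, HomologicalComplex.liftCycles_i, kernel.lift_ι_assoc]
    rw [inr_r', ← Category.assoc x, ← hx]
    simp [pullback.lift_fst]
  epi_r := by
    have h := inr_r' hP s
    exact epi_of_epi_fac h

/-- the differential `X_{k+1} ⟶ X_k` -/
noncomputable def dnext : K.X (k + 1) ⊞ (next hP s).F ⟶ K.X k ⊞ s.F := e hP s ≫ s.j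

lemma next_j_dnext : (next hP s).j ≫ dnext hP s = 0 := by
  change kernel.ι (e hP s) ≫ e hP s ≫ s.j = 0
  rw [kernel.condition_assoc, zero_comp]

lemma next_lift {A : 𝒜} (x : A ⟶ K.X (k + 1) ⊞ (next hP s).F) (hx : x ≫ dnext hP s = 0) :
    ∃ z : A ⟶ (next hP s).Z, z ≫ (next hP s).j = x := by
  have hx0 : x ≫ e hP s = 0 := by
    rw [← cancel_mono s.j, Category.assoc, zero_comp]
    exact hx
  exact ⟨kernel.lift _ x hx0, kernel.lift_ι _ _ _⟩

lemma dnext_r : dnext hP s ≫ s.r = (next hP s).r ≫ C.d (k + 1) k := by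
  have h : C.d (k + 1) k = C.toCycles (k + 1) k ≫ C.iCycles k := by simp
  change (e hP s ≫ s.j) ≫ s.r = r' hP s ≫ C.d (k + 1) k
  rw [h, Category.assoc, ← s.hζ, ← Category.assoc, e_ζ, Category.assoc]

lemma dnext_surj {A : 𝒜} (z : A ⟶ s.Z) (y : A ⟶ C.X (k + 1))
    (h : z ≫ s.ζ = y ≫ C.toCycles (k + 1) k) :
    ∃ (A' : 𝒜) (π : A' ⟶ A) (_ : Epi π) (x : A' ⟶ K.X (k + 1) ⊞ (next hP s).F),
      x ≫ dnext hP s = π ≫ z ≫ s.j := by
  obtain ⟨A', π, hπ, x, hx⟩ := surjective_up_to_refinements_of_epi (covπ hP (T s))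
    (pullback.lift y z h.symm)
  refine ⟨A', π, hπ, x ≫ biprod.inr, ?_⟩
  change (x ≫ biprod.inr) ≫ e hP s ≫ s.j = _
  rw [Category.assoc, reassoc_of% (inr_e hP s), ← Category.assoc, ← Category.assoc, ← hx]
  simp [pullback.lift_snd_assoc]

lemma dnext_dnext : dnext hP (next hP s) ≫ dnext hP s = 0 := by
  change (e hP (next hP s) ≫ (next hP s).j) ≫ dnext hP s = 0
  rw [Category.assoc, next_j_dnext, comp_zero]

lemma inl_dnext : biprod.inl ≫ dnext hP s = K.d (k + 1) k ≫ biprod.inl := by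
  change biprod.inl ≫ e hP s ≫ s.j = _
  rw [reassoc_of% (inl_e hP s), s.hw]

end next

variable (g)

/-- all the stages -/
noncomputable def stage : ∀ k : ℕ, Stage P g k
  | 0 => stage0 hP g
  | k + 1 => next hP (stage k)

/-- the factorisation -/
noncomputable def Q : ChainComplex 𝒜 ℕ :=
  ChainComplex.of (fun k => K.X k ⊞ (stage hP g k).F) (fun k => dnext hP (stage hP g k))
    (fun k => dnext_dnext hP (stage hP g k))

lemma Q_d (k : ℕ) : (Q hP g).d (k + 1) k = dnext hP (stage hP g k) :=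
  ChainComplex.of_d (fun k => K.X k ⊞ (stage hP g k).F) (fun k => dnext hP (stage hP g k)) k

/-- the map to `C` -/
noncomputable def rr : Q hP g ⟶ C where
  f k := (stage hP g k).r
  comm' := by
    rintro i j (rfl : j + 1 = i)
    rw [Q_d]
    exact (dnext_r hP (stage hP g j)).symm

/-- the map from `K` -/
noncomputable def ii : K ⟶ Q hP g where
  f k := biprod.inl
  comm' := by
    rintro i j (rfl : j + 1 = i)
    rw [Q_d]
    exact inl_dnext hP (stage hP g j)

lemma ii_rr : ii hP g ≫ rr hP g = g := by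
  ext k
  exact (stage hP g k).hr

lemma j_d (k : ℕ) : (stage hP g k).j ≫ (Q hP g).d k ((ComplexShape.down ℕ).next k) = 0 := by
  cases k with
  | zero =>
    have h0 : (Q hP g).d 0 ((ComplexShape.down ℕ).next 0) = 0 :=
      HomologicalComplex.shape _ _ _ (by simp)
    rw [h0]
    exact comp_zero
  | succ k =>
    rw [ChainComplex.next_nat_succ, Q_d]
    exact next_j_dnext hP (stage hP g k)

lemma cyc_lift (k : ℕ) {A : 𝒜} (x : A ⟶ (Q hP g).X k)
    (hx : x ≫ (Q hP g).d k ((ComplexShape.down ℕ).next k) = 0) :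
    ∃ z : A ⟶ (stage hP g k).Z, z ≫ (stage hP g k).j = x := by
  cases k with
  | zero => exact ⟨x, Category.comp_id x⟩
  | succ k =>
    rw [ChainComplex.next_nat_succ, Q_d] at hx
    exact next_lift hP (stage hP g k) x hx

theorem quasiIso_rr : QuasiIso (rr hP g) := by
  rw [quasiIso_iff]
  intro k
  refine QIsoCrit.quasiIsoAt_of_refinements (rr hP g) (k + 1) k ((ComplexShape.down ℕ).next k)
    (by simp) rfl ?_ ?_
  · intro A x₂ hx₂ y₁ h
    obtain ⟨z, rfl⟩ := cyc_lift hP g k x₂ hx₂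
    have hz : z ≫ (stage hP g k).ζ = y₁ ≫ C.toCycles (k + 1) k := by
      rw [← cancel_mono (C.iCycles k)]
      rw [Category.assoc, (stage hP g k).hζ, Category.assoc, HomologicalComplex.toCycles_i]
      change (z ≫ (stage hP g k).j) ≫ (stage hP g k).r = _ at h
      rw [Category.assoc] at h
      exact h
    obtain ⟨A', π, hπ, x, hx⟩ := dnext_surj hP (stage hP g k) z y₁ hz
    exact ⟨A', π, hπ, x, by rw [Q_d]; exact hx.symm⟩
  · intro A y₂ hy₂
    obtain ⟨A', π, hπ, z, hz⟩ := surjective_up_to_refinements_of_epi (stage hP g k).ζ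
      (C.liftCycles y₂ _ rfl hy₂)
    refine ⟨A', π, hπ, z ≫ (stage hP g k).j, ?_, 0, ?_⟩
    · change (z ≫ (stage hP g k).j) ≫ (Q hP g).d k ((ComplexShape.down ℕ).next k) = 0
      rw [Category.assoc]
      have := j_d hP g k
      rw [this, comp_zero]
    · rw [zero_comp, add_zero]
      have := hz =≫ C.iCycles k
      simp only [Category.assoc, HomologicalComplex.liftCycles_i] at this
      rw [this, (stage hP g k).hζ]
      exact (Category.assoc _ _ _).symm

theorem pkgStepN : PkgStepN.{v, u} := by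
  intro 𝒜 _ _ P hP K C g
  refine ⟨Q hP g, ii hP g, rr hP g, ii_rr hP g, quasiIso_rr hP g, ?_, ?_⟩
  · intro k
    exact (stage hP g k).epi_r
  · intro k
    exact ⟨(stage hP g k).F, Iso.refl _, (stage hP g k).hPF, Category.comp_id _⟩

end Groth.Agent.R2.H41.StepN
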