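import Mathlib
import Groth.Prelude.Def_RegImm

set_option autoImplicit false
universe u
open TensorProduct

namespace Groth.Agent.R2.H41.SyntLoc

theorem isGlobalCI_of_algEquiv {k T T' : Type u} [Field k] [CommRing T] [CommRing T']
    [Algebra k T] [Algebra k T'] (e : T ≃ₐ[k] T') (h : Synt.IsGlobalCI k T) :
    Synt.IsGlobalCI k T' := by
  rcases h with h | ⟨n, c, hcn, φ, r, hsurj, hker, hdim⟩
  · exact Or.inl (e.symm.injective.subsingleton)
  · refine Or.inr ⟨n, c, hcn, e.toAlgHom.comp φ, r, e.surjective.comp hsurj, ?_, ?_⟩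
    · rw [← hker]
      ext x
      simp [RingHom.mem_ker]
    · rw [← hdim]
      exact (ringKrullDim_eq_of_ringEquiv e.toRingEquiv).symm

/-- key transfer lemma along a localization `F → F₁ = F_a`. -/
theorem exists_isGlobalCI_away_of_isLCIOver {k F F₁ : Type u} [Field k] [CommRing F] [CommRing F₁]
    [Algebra k F] [Algebra k F₁] [Algebra F F₁] [IsScalarTower k F F₁] (a : F)
    [IsLocalization.Away a F₁] (h : Synt.IsLCIOver k F₁) (q : Ideal F) [q.IsPrime] (ha : a ∉ q) :
    ∃ b : F, b ∉ q ∧ Synt.IsGlobalCI k (Localization.Away b) := by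
  have hdisj : Disjoint (Submonoid.powers a : Set F) (q : Set F) := by
    rw [Set.disjoint_left]
    rintro x ⟨n, rfl⟩ hx
    exact ha (Ideal.IsPrime.mem_of_pow_mem inferInstance n hx)
  have hq₁ : (q.map (algebraMap F F₁)).IsPrime :=
    IsLocalization.isPrime_of_isPrime_disjoint (Submonoid.powers a) F₁ q inferInstance hdisj
  have hcomap : (q.map (algebraMap F F₁)).comap (algebraMap F F₁) = q :=
    IsLocalization.under_map_of_isPrime_disjoint (Submonoid.powers a) F₁ inferInstance hdisj
  obtain ⟨h₁, hh₁, hCI⟩ := h.2 ⟨q.map (algebraMap F F₁), hq₁⟩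
  let z : F := (IsLocalization.Away.sec a h₁).1
  have hz : Associated (algebraMap F F₁ z) h₁ := IsLocalization.Away.associated_sec_fst a h₁
  let T := Localization.Away h₁
  have : IsScalarTower F F₁ T := inferInstance
  have : IsScalarTower k F T := inferInstance
  have : IsLocalization.Away (a * z) T := IsLocalization.Away.mul_of_associated a z h₁ hz
  refine ⟨a * z, ?_, ?_⟩
  · intro hmem
    rcases Ideal.IsPrime.mem_or_mem inferInstance hmem with h' | h'
    · exact ha h'
    · apply hh₁
      obtain ⟨u, hu⟩ := hz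
      rw [← hu]
      exact Ideal.mul_mem_right _ _ (Ideal.mem_map_of_mem _ h')
  · let e : T ≃ₐ[F] Localization.Away (a * z) :=
      IsLocalization.algEquiv (Submonoid.powers (a * z)) T (Localization.Away (a * z))
    exact isGlobalCI_of_algEquiv (e.restrictScalars k) hCI

end Groth.Agent.R2.H41.SyntLoc
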