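import Mathlib
import Groth.Prelude.Def_RegImm
import Groth.Agent.Lib.Helper28FGDim
import Groth.Agent.R2.H41SyntLoc

set_option autoImplicit false
universe u

namespace Groth.Agent.R2.H41.SyntAway

open Groth.Agent.Lib.Helper28

theorem ringKrullDim_localization_le {S : Type u} [CommRing S] (M : Submonoid S) (T : Type u)
    [CommRing T] [Algebra S T] [IsLocalization M T] : ringKrullDim T ≤ ringKrullDim S := by
  unfold ringKrullDim
  refine Order.krullDim_le_of_strictMono (PrimeSpectrum.comap (algebraMap S T)) ?_
  have hmono : Monotone (PrimeSpectrum.comap (algebraMap S T)) := fun a b hab =>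
    Ideal.comap_mono hab
  exact hmono.strictMono_of_injective (PrimeSpectrum.localization_comap_injective T M)

/-- turn the data of `IsGlobalCI` into a presentation -/
noncomputable def presOfData {k S : Type u} [Field k] [CommRing S] [Algebra k S] {n c : ℕ}
    (φ : MvPolynomial (Fin n) k →ₐ[k] S) (r : Fin c → MvPolynomial (Fin n) k)
    (hsurj : Function.Surjective φ) (hker : RingHom.ker φ.toRingHom = Ideal.span (Set.range r)) :
    Algebra.Presentation k S (Fin n) (Fin c) where
  __ := Algebra.Generators.ofSurjective (fun i => φ (MvPolynomial.X i)) (by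
    have : (MvPolynomial.aeval fun i => φ (MvPolynomial.X i)) = φ := by
      ext i
      simp
    rw [this]
    exact hsurj)
  relation := r
  span_range_relation_eq_ker := by
    rw [← hker]
    ext x
    have h2 : (MvPolynomial.aeval fun i => φ (MvPolynomial.X i)) = φ := by
      ext i
      simp
    change φ x = 0 ↔ (MvPolynomial.aeval fun i => φ (MvPolynomial.X i)) x = 0
    rw [h2]

/-- A nontrivial algebra with `N` generators, `C ≤ N` relations and dimension `≤ N - C` is a
global complete intersection. -/
theorem ker_aeval_eq {k T : Type u} [Field k] [CommRing T] [Algebra k T] {N C : ℕ}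
    (Q : Algebra.Presentation k T (Fin N) (Fin C)) :
    RingHom.ker (MvPolynomial.aeval (R := k) Q.val).toRingHom = Ideal.span (Set.range Q.relation) := by
  rw [Q.span_range_relation_eq_ker]
  ext x
  rw [RingHom.mem_ker]
  change MvPolynomial.aeval Q.val x = 0 ↔ x ∈ RingHom.ker (algebraMap Q.Ring T)
  rw [RingHom.mem_ker, Algebra.Generators.algebraMap_apply]

theorem isGlobalCI_of_presentation_of_dim_le {k T : Type u} [Field k] [CommRing T] [Algebra k T]
    [Nontrivial T] {N C : ℕ} (hCN : C ≤ N) (Q : Algebra.Presentation k T (Fin N) (Fin C))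
    (hdim : ringKrullDim T ≤ ((N - C : ℕ) : WithBot ℕ∞)) : Synt.IsGlobalCI k T := by
  refine Or.inr ⟨N, C, hCN, MvPolynomial.aeval Q.val, Q.relation, Q.aeval_val_surjective,
    ker_aeval_eq Q, ?_⟩
  · have hk : LocCoh.IsCohenMacaulayRing k := isCohenMacaulayRing_of_field k
    have hS : LocCoh.IsCohenMacaulayRing (MvPolynomial (Fin N) k) :=
      isCohenMacaulayRing_mvPolynomial_fin N
    let φ : MvPolynomial (Fin N) k →ₐ[k] T := MvPolynomial.aeval Q.val
    have hφ : Function.Surjective φ := Q.aeval_val_surjective
    have hker : RingHom.ker φ.toRingHom = Ideal.span (Set.range Q.relation) := ker_aeval_eq Q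
    set xs : List (MvPolynomial (Fin N) k) := List.ofFn Q.relation with hxs
    have hof : RingHom.ker φ.toRingHom = Ideal.ofList xs := by
      rw [hker]
      unfold Ideal.ofList
      congr 1
      ext x
      simp [hxs, List.mem_ofFn]
    have hlen : xs.length = C := by simp [hxs]
    have hKtop : RingHom.ker φ.toRingHom ≠ ⊤ := RingHom.ker_ne_top _
    let e : (MvPolynomial (Fin N) k ⧸ RingHom.ker φ.toRingHom) ≃+* T :=
      RingHom.quotientKerEquivOfSurjective (f := φ.toRingHom) hφ
    have h1 := height_add_ringKrullDim_quotient_eq_of_forall_isMaximal_height_eq' N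
      (height_eq_of_isMaximal_mvPolynomial_fin k N) _ hKtop
    rw [ringKrullDim_eq_of_ringEquiv e] at h1
    have h2 : (RingHom.ker φ.toRingHom).height ≤ C := by
      have := height_ofList_le_length xs (by rw [← hof]; exact hKtop)
      rw [← hof, hlen] at this
      exact this
    -- now arithmetic
    obtain ⟨a, ha⟩ := ENat.ne_top_iff_exists.mp (Ideal.height_ne_top hKtop)
    rw [← ha] at h1 h2
    have haC : a ≤ C := by exact_mod_cast h2
    have hnn : (0 : WithBot ℕ∞) ≤ ringKrullDim T := ringKrullDim_nonneg_of_nontrivial
    -- write dim T as a natural number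
    have hle : ringKrullDim T ≤ ((N - C : ℕ) : WithBot ℕ∞) := hdim
    obtain ⟨d, hd⟩ : ∃ d : ℕ, ringKrullDim T = ((d : ℕ) : WithBot ℕ∞) := by
      cases hT : ringKrullDim T with
      | bot => rw [hT] at hnn; exact absurd hnn (by simp)
      | coe x =>
        rw [hT] at hle
        have hx : x ≤ ((N - C : ℕ) : ℕ∞) := WithBot.coe_le_coe.mp hle
        obtain ⟨d, rfl⟩ := ENat.ne_top_iff_exists.mp
          (ne_top_of_le_ne_top (ENat.natCast_ne_top _) hx)
        exact ⟨d, rfl⟩
    rw [hd] at h1 hle ⊢
    have h3 : a + d = N := by exact_mod_cast h1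
    have h4 : d ≤ N - C := by exact_mod_cast hle
    have : d = N - C := by omega
    rw [this]

theorem isGlobalCI_away {k S : Type u} [Field k] [CommRing S] [Algebra k S] (g : S)
    (h : Synt.IsGlobalCI k S) : Synt.IsGlobalCI k (Localization.Away g) := by
  rcases subsingleton_or_nontrivial (Localization.Away g) with hs | hnt
  · exact Or.inl hs
  rcases h with h | ⟨n, c, hcn, φ, r, hsurj, hker, hdim⟩
  · exfalso
    have h01 : (0 : S) = 1 := Subsingleton.elim _ _
    have := congrArg (algebraMap S (Localization.Away g)) h01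
    rw [map_zero, map_one] at this
    exact zero_ne_one this
  let P := presOfData φ r hsurj hker
  let Q0 := (Algebra.Presentation.localizationAway (Localization.Away g) g).comp P
  let eι : Fin (n + 1) ≃ Unit ⊕ Fin n :=
    (finSuccEquiv n).trans ((Equiv.optionEquivSumPUnit _).trans (Equiv.sumComm _ _))
  let eσ : Fin (c + 1) ≃ Unit ⊕ Fin c :=
    (finSuccEquiv c).trans ((Equiv.optionEquivSumPUnit _).trans (Equiv.sumComm _ _))
  let Q := Q0.reindex eι eσ
  refine isGlobalCI_of_presentation_of_dim_le (by omega) Q ?_
  calc ringKrullDim (Localization.Away g) ≤ ringKrullDim S :=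
        ringKrullDim_localization_le (Submonoid.powers g) _
    _ = ((n - c : ℕ) : WithBot ℕ∞) := hdim
    _ = ((n + 1 - (c + 1) : ℕ) : WithBot ℕ∞) := by simp

open Groth.Agent.R2.H41.SyntLoc in
theorem isLCIOver_away {k S : Type u} [Field k] [CommRing S] [Algebra k S] (g : S)
    (h : Synt.IsLCIOver k S) : Synt.IsLCIOver k (Localization.Away g) := by
  obtain ⟨hft, hloc⟩ := h
  refine ⟨inferInstance, fun q' => ?_⟩
  obtain ⟨h, hhq, hCI⟩ := hloc (PrimeSpectrum.comap (algebraMap S (Localization.Away g)) q')
  refine ⟨algebraMap S _ h, hhq, ?_⟩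
  have h1 := isGlobalCI_away (algebraMap S (Localization.Away h) g) hCI
  have i1 : IsLocalization.Away (g * h)
      (Localization.Away (algebraMap S (Localization.Away h) g)) :=
    IsLocalization.Away.mul (Localization.Away h) _ h g
  have i2 : IsLocalization.Away (g * h)
      (Localization.Away (algebraMap S (Localization.Away g) h)) :=
    IsLocalization.Away.mul' (Localization.Away g) _ g h
  let e : Localization.Away (algebraMap S (Localization.Away h) g) ≃ₐ[S]
      Localization.Away (algebraMap S (Localization.Away g) h) :=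
    IsLocalization.algEquiv (Submonoid.powers (g * h)) _ _
  exact isGlobalCI_of_algEquiv (e.restrictScalars k) h1

end Groth.Agent.R2.H41.SyntAway
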