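import Mathlib
import Groth.Prelude.Def_RegImm

/-!
# helper41: finite free "complete intersection" algebras are syntomic; splitting monic polynomials

`Good A A'`: `A'` is finite free and faithfully flat over `A` and has a presentation with as many
relations as generators.  Such algebras are syntomic (`Good.isSyntomic`), closed under composition
(`Good.trans`), and `AdjoinRoot P` for `P` monic (non-unit) is one (`good_adjoinRoot`).
`exists_good_splits`: a monic polynomial splits over a `Good` algebra.
-/

set_option autoImplicit false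
universe u
open Polynomial

namespace Groth.Agent.R2.H41.SyntSplit

/-- finite free, faithfully flat, presented by as many relations as generators -/
structure Good (A A' : Type u) [CommRing A] [CommRing A'] [Algebra A A'] : Prop where
  finite : Module.Finite A A'
  free : Module.Free A A'
  ff : Module.FaithfullyFlat A A'
  pres : ∃ (ι : Type) (_ : Finite ι), Nonempty (Algebra.Presentation A A' ι ι)

theorem Good.refl (A : Type u) [CommRing A] : Good A A where
  finite := inferInstance
  free := inferInstance
  ff := inferInstance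
  pres := ⟨PEmpty, inferInstance, ⟨Algebra.Presentation.id A⟩⟩

theorem Good.trans {A B C : Type u} [CommRing A] [CommRing B] [CommRing C] [Algebra A B]
    [Algebra B C] [Algebra A C] [IsScalarTower A B C] (h1 : Good A B) (h2 : Good B C) :
    Good A C := by
  obtain ⟨f1, fr1, ff1, ι, hι, ⟨P⟩⟩ := h1
  obtain ⟨f2, fr2, ff2, ι', hι', ⟨Q⟩⟩ := h2
  exact ⟨.trans B C, .trans (S := B), .trans A B C, ι' ⊕ ι, inferInstance, ⟨Q.comp P⟩⟩

variable {A : Type u} [CommRing A]

/-- the relation -/
noncomputable def relP (P : A[X]) : Unit → MvPolynomial Unit A :=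
  fun _ => (MvPolynomial.uniqueAlgEquiv A Unit).symm P

noncomputable def adjoinRootEquiv (P : A[X]) :
    (MvPolynomial Unit A ⧸ Ideal.span (Set.range (relP P))) ≃ₐ[A] AdjoinRoot P :=
  Ideal.quotientEquivAlg _ _ (MvPolynomial.uniqueAlgEquiv A Unit) (by
    have h : Set.range (relP P) = {(MvPolynomial.uniqueAlgEquiv A Unit).symm P} := by
      ext x
      simp [relP, eq_comm]
    rw [Ideal.map_span, h, Set.image_singleton]
    congr 2
    exact ((MvPolynomial.uniqueAlgEquiv A Unit).apply_symm_apply P).symm)

noncomputable def presAdjoinRoot (P : A[X]) : Algebra.Presentation A (AdjoinRoot P) Unit Unit :=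
  (Algebra.Presentation.naive (v := relP P)).ofAlgEquiv (adjoinRootEquiv P)

theorem good_adjoinRoot [Nontrivial A] (P : A[X]) (hP : P.Monic) (hu : ¬ IsUnit P) :
    Good A (AdjoinRoot P) := by
  have := hP.free_adjoinRoot
  have := hP.finite_adjoinRoot
  have : Nontrivial (AdjoinRoot P) := Ideal.Quotient.nontrivial_iff.mpr (by simpa)
  exact ⟨inferInstance, inferInstance, inferInstance, Unit, inferInstance, ⟨presAdjoinRoot P⟩⟩

/-- a monic polynomial splits over a `Good` algebra -/
theorem exists_good_splits {R : Type u} [CommRing R] [Nontrivial R] {p : R[X]} (hp : p.Monic) :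
    ∃ (S : Type u) (_ : CommRing S) (_ : Algebra R S) (_ : Nontrivial S), Good R S ∧
      (p.map (algebraMap R S)).Splits := by
  induction hn : p.natDegree using Nat.strong_induction_on generalizing R with | h n IH =>
  by_cases hpu : IsUnit p
  · obtain rfl := hp.eq_one_of_isUnit hpu
    exact ⟨R, inferInstance, inferInstance, inferInstance, Good.refl R, by simp⟩
  obtain ⟨q, hq⟩ : X - C (AdjoinRoot.root p) ∣ p.map (algebraMap _ _) := by
    simp [dvd_iff_isRoot, -AdjoinRoot.algebraMap_eq]
  have hqm : q.Monic := .of_mul_monic_left (monic_X_sub_C (.root _)) (hq ▸ hp.map _)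
  have hg := good_adjoinRoot p hp hpu
  have : Nontrivial (AdjoinRoot p) := Ideal.Quotient.nontrivial_iff.mpr (by simpa)
  obtain ⟨S, _, _, _, hgS, hS⟩ := IH _
    (by rw [← hn, ← hp.natDegree_map (algebraMap R (AdjoinRoot p)), hq,
      Monic.natDegree_mul (monic_X_sub_C _) hqm]; simp) hqm rfl
  algebraize [(algebraMap (AdjoinRoot p) S).comp (algebraMap R (AdjoinRoot p))]
  refine ⟨S, ‹_›, ‹_›, ‹_›, hg.trans hgS, ?_⟩
  rw [IsScalarTower.algebraMap_eq R (AdjoinRoot p), ← Polynomial.map_map, hq, Polynomial.map_mul]
  exact .mul (by simp) hS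

theorem isGlobalCI_of_presentation (k T : Type u) [Field k] [CommRing T] [Algebra k T]
    [Module.Finite k T] {ι : Type} [Finite ι] (Q : Algebra.Presentation k T ι ι) :
    Synt.IsGlobalCI k T := by
  rcases subsingleton_or_nontrivial T with hT | hT
  · exact Or.inl hT
  right
  let n := Nat.card ι
  let e : Fin n ≃ ι := (Finite.equivFin ι).symm
  let Q' : Algebra.Presentation k T (Fin n) (Fin n) := Q.reindex e e
  refine ⟨n, n, le_rfl, MvPolynomial.aeval Q'.val, Q'.relation, Q'.aeval_val_surjective, ?_, ?_⟩
  · rw [Q'.span_range_relation_eq_ker]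
    rfl
  · have : IsArtinianRing T := IsArtinianRing.of_finite k T
    have h0 : Ring.KrullDimLE 0 T :=
      (isArtinianRing_iff_isNoetherianRing_krullDimLE_zero.mp this).2
    rw [Nat.sub_self]
    exact ringKrullDimZero_iff_ringKrullDim_eq_zero.mp h0

theorem isLCIOver_of_presentation (k T : Type u) [Field k] [CommRing T] [Algebra k T]
    [Module.Finite k T] {ι : Type} [Finite ι] (Q : Algebra.Presentation k T ι ι) :
    Synt.IsLCIOver k T := by
  refine ⟨inferInstance, fun q => ⟨1, fun h => q.2.ne_top ((Ideal.eq_top_iff_one _).2 h), ?_⟩⟩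
  let e : T ≃ₐ[T] Localization.Away (1 : T) :=
    IsLocalization.atUnits T (Submonoid.powers (1 : T)) (by
      rintro x ⟨n, rfl⟩
      simp)
  let e' : T ≃ₐ[k] Localization.Away (1 : T) := e.restrictScalars k
  have : Module.Finite k (Localization.Away (1 : T)) := Module.Finite.equiv e'.toLinearEquiv
  exact isGlobalCI_of_presentation k _ (Q.ofAlgEquiv e')

theorem Good.isSyntomic {A A' : Type u} [CommRing A] [CommRing A'] [Algebra A A']
    (h : Good A A') : Synt.IsSyntomic A A' := by
  obtain ⟨hfin, hfree, hff, ι, hι, ⟨P⟩⟩ := h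
  refine ⟨inferInstance, P.finitePresentation_of_isFinite, fun p => ?_⟩
  exact isLCIOver_of_presentation _ _ (P.baseChange p.asIdeal.ResidueField)

end Groth.Agent.R2.H41.SyntSplit
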