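import Mathlib
import Groth.Prelude.Def_HTop
import Groth.Agent.R2.H33VCover
import Groth.Agent.R2.H33ValLiftPh

/-!
# Sheaves for the ph and h topologies do not see thickenings (helper41)
-/

set_option autoImplicit false
set_option linter.style.haveILetI false
universe w v u

open CategoryTheory CategoryTheory.Limits AlgebraicGeometry Opposite HTop

namespace Groth.Agent.R2.H41.Thick

/-- If the sieve generated by a monomorphism `f.left` covers, a sheaf for the over topology takes
`f` to a bijection. -/
theorem bijective_map_of_generate_mem {S : Scheme.{u}} (J : GrothendieckTopology Scheme.{u})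
    (F : Sheaf (J.over S) (Type v)) {X X' : Over S} (f : X ⟶ X') [Mono f.left]
    (hcov : Sieve.generate (Presieve.singleton f.left) ∈ J X'.left) :
    Function.Bijective (F.obj.map f.op) := by
  have hmem : Sieve.generate (Presieve.singleton f) ∈ (J.over S) X' := by
    rw [GrothendieckTopology.mem_over_iff]
    refine J.superset_covering ?_ hcov
    rw [Sieve.generate_le_iff]
    rintro _ _ ⟨⟩
    rw [Sieve.overEquiv_iff]
    refine ⟨X, Over.homMk (𝟙 X.left) (by simp), f, Presieve.singleton.mk, ?_⟩
    ext
    simp
  have hsheaf : Presieve.IsSheafFor F.obj (Presieve.singleton f) := by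
    rw [Presieve.isSheafFor_iff_generate]
    exact ((isSheaf_iff_isSheaf_of_type _ _).mp F.2) _ hmem
  haveI : Mono f := (Over.forget S).mono_of_mono_map (inferInstanceAs (Mono f.left))
  rw [Presieve.isSheafFor_singleton] at hsheaf
  have key : ∀ x, ∃! y, F.obj.map f.op y = x := fun x =>
    hsheaf x fun p₁ p₂ h => by rw [(cancel_mono f).mp h]
  constructor
  · intro a b hab
    exact (key (F.obj.map f.op a)).unique rfl hab.symm
  · intro x
    obtain ⟨y, hy, -⟩ := key x
    exact ⟨y, hy⟩



theorem isVCover_singleton_of_thickening {X X' : Scheme.{u}} (g : X ⟶ X') [IsClosedImmersion g]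
    [Surjective g] : IsVCover (PreZeroHypercover.singleton.{w} g) := by
  apply Groth.Agent.R2.H33.VCover.isVCover_singleton_of_hasValLift
  exact Groth.Agent.R2.H33.ValLiftPh.hasValLift_of_proper_surjective
    (PreZeroHypercover.singleton g) g (fun _ => 𝟙 X) (fun _ => (inferInstance : IsOpenImmersion (𝟙 X)))
    (fun _ => Category.id_comp _) (fun x => ⟨PUnit.unit, x, rfl⟩)

theorem generate_singleton_mem_hTopology {X X' : Scheme.{u}} (g : X ⟶ X') [IsClosedImmersion g]
    [Surjective g] [LocallyOfFinitePresentation g] :
    Sieve.generate (Presieve.singleton g) ∈ hTopology X' := by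
  apply Precoverage.generate_mem_toGrothendieck
  rw [← PreZeroHypercover.presieve₀_singleton.{_, _, 0}, presieve₀_mem_hPrecoverage_iff]
  exact ⟨fun _ => inferInstanceAs (LocallyOfFinitePresentation g), isVCover_singleton_of_thickening g⟩



theorem isPhCover_singleton_of_thickening {X X' : Scheme.{u}} (g : X ⟶ X') [IsClosedImmersion g]
    [Surjective g] : IsPhCover (PreZeroHypercover.singleton.{w} g) := by
  refine ⟨fun _ => inferInstanceAs (LocallyOfFiniteType g), fun U => ?_⟩
  haveI : Surjective (g ∣_ U.1) :=
    IsZariskiLocalAtTarget.restrict (P := @Surjective) inferInstance U.1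
  refine ⟨PreZeroHypercover.singleton.{0} (g ∣_ U.1), ⟨U.2, inferInstanceAs (Finite PUnit),
    fun _ => U.2.preimage g, ⟨_, g ∣_ U.1, fun _ => 𝟙 _, inferInstance, inferInstance,
      fun _ => (inferInstance : IsOpenImmersion (𝟙 ((g ⁻¹ᵁ U.1 : X.Opens) : Scheme.{u}))),
      fun _ => Category.id_comp _, fun x => ⟨PUnit.unit, x, rfl⟩⟩⟩, fun _ => ?_⟩
  exact ⟨PUnit.unit, (g ⁻¹ᵁ U.1).ι, (morphismRestrict_ι g U.1).symm⟩

theorem generate_singleton_mem_phTopology {X X' : Scheme.{u}} (g : X ⟶ X') [IsClosedImmersion g]
    [Surjective g] : Sieve.generate (Presieve.singleton g) ∈ phTopology X' := by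
  apply Precoverage.generate_mem_toGrothendieck
  rw [← PreZeroHypercover.presieve₀_singleton.{_, _, 0}, presieve₀_mem_phPrecoverage_iff]
  exact isPhCover_singleton_of_thickening g

end Groth.Agent.R2.H41.Thick
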