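import Groth.Agent.S9161

/-!
# helper41: homotopy equivalences of two-term complexes of modules
-/

set_option autoImplicit false
universe u

namespace Groth.Agent.R2.H41.TwoTerm

variable {R : Type u} [CommRing R]

/-- A homotopy equivalence between the two-term complexes `dA : A₁ → A₀` and `dB : B₁ → B₀`. -/
structure HEquiv {A₁ A₀ B₁ B₀ : Type u} [AddCommGroup A₁] [Module R A₁] [AddCommGroup A₀]
    [Module R A₀] [AddCommGroup B₁] [Module R B₁] [AddCommGroup B₀] [Module R B₀]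
    (dA : A₁ →ₗ[R] A₀) (dB : B₁ →ₗ[R] B₀) where
  φ₁ : A₁ →ₗ[R] B₁
  φ₀ : A₀ →ₗ[R] B₀
  ψ₁ : B₁ →ₗ[R] A₁
  ψ₀ : B₀ →ₗ[R] A₀
  hφ : dB ∘ₗ φ₁ = φ₀ ∘ₗ dA
  hψ : dA ∘ₗ ψ₁ = ψ₀ ∘ₗ dB
  h : A₀ →ₗ[R] A₁
  hh₁ : LinearMap.id - ψ₁ ∘ₗ φ₁ = h ∘ₗ dA
  hh₀ : LinearMap.id - ψ₀ ∘ₗ φ₀ = dA ∘ₗ h
  h' : B₀ →ₗ[R] B₁
  hh'₁ : LinearMap.id - φ₁ ∘ₗ ψ₁ = h' ∘ₗ dB
  hh'₀ : LinearMap.id - φ₀ ∘ₗ ψ₀ = dB ∘ₗ h'

namespace HEquiv

variable {A₁ A₀ B₁ B₀ C₁ C₀ : Type u} [AddCommGroup A₁] [Module R A₁] [AddCommGroup A₀]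
    [Module R A₀] [AddCommGroup B₁] [Module R B₁] [AddCommGroup B₀] [Module R B₀]
    [AddCommGroup C₁] [Module R C₁] [AddCommGroup C₀] [Module R C₀]
    {dA : A₁ →ₗ[R] A₀} {dB : B₁ →ₗ[R] B₀} {dC : C₁ →ₗ[R] C₀}

theorem nonempty_prodEquiv (e : HEquiv dA dB) : Nonempty ((A₁ × B₀) ≃ₗ[R] (B₁ × A₀)) :=
  Groth.Agent.S9161.result R A₁ A₀ B₁ B₀ dA dB e.φ₁ e.φ₀ e.ψ₁ e.ψ₀ e.hφ e.hψ e.h e.hh₁ e.hh₀
    e.h' e.hh'₁ e.hh'₀

/-- The inverse homotopy equivalence. -/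
def symm (e : HEquiv dA dB) : HEquiv dB dA where
  φ₁ := e.ψ₁
  φ₀ := e.ψ₀
  ψ₁ := e.φ₁
  ψ₀ := e.φ₀
  hφ := e.hψ
  hψ := e.hφ
  h := e.h'
  hh₁ := e.hh'₁
  hh₀ := e.hh'₀
  h' := e.h
  hh'₁ := e.hh₁
  hh'₀ := e.hh₀

/-- Composition of homotopy equivalences. -/
def trans (e : HEquiv dA dB) (e' : HEquiv dB dC) : HEquiv dA dC where
  φ₁ := e'.φ₁ ∘ₗ e.φ₁
  φ₀ := e'.φ₀ ∘ₗ e.φ₀
  ψ₁ := e.ψ₁ ∘ₗ e'.ψ₁
  ψ₀ := e.ψ₀ ∘ₗ e'.ψ₀
  hφ := by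
    rw [← LinearMap.comp_assoc, e'.hφ, LinearMap.comp_assoc, e.hφ, LinearMap.comp_assoc]
  hψ := by
    rw [← LinearMap.comp_assoc, e.hψ, LinearMap.comp_assoc, e'.hψ, LinearMap.comp_assoc]
  h := e.h + e.ψ₁ ∘ₗ e'.h ∘ₗ e.φ₀
  hh₁ := by
    ext a
    have h1 := LinearMap.congr_fun e.hh₁ a
    have h2 := LinearMap.congr_fun e'.hh₁ (e.φ₁ a)
    have h3 := LinearMap.congr_fun e.hφ a
    simp only [LinearMap.sub_apply, LinearMap.id_apply, LinearMap.comp_apply,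
      LinearMap.add_apply] at h1 h2 h3 ⊢
    rw [← h3, ← h2, ← h1, map_sub]
    abel
  hh₀ := by
    ext a
    have h1 := LinearMap.congr_fun e.hh₀ a
    have h2 := LinearMap.congr_fun e'.hh₀ (e.φ₀ a)
    have h3 := LinearMap.congr_fun e.hψ (e'.h (e.φ₀ a))
    simp only [LinearMap.sub_apply, LinearMap.id_apply, LinearMap.comp_apply,
      LinearMap.add_apply] at h1 h2 h3 ⊢
    rw [map_add, h3, ← h2, ← h1, map_sub]
    abel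
  h' := e'.h' + e'.φ₁ ∘ₗ e.h' ∘ₗ e'.ψ₀
  hh'₁ := by
    ext a
    have h1 := LinearMap.congr_fun e'.hh'₁ a
    have h2 := LinearMap.congr_fun e.hh'₁ (e'.ψ₁ a)
    have h3 := LinearMap.congr_fun e'.hψ a
    simp only [LinearMap.sub_apply, LinearMap.id_apply, LinearMap.comp_apply,
      LinearMap.add_apply] at h1 h2 h3 ⊢
    rw [← h3, ← h2, ← h1, map_sub]
    abel
  hh'₀ := by
    ext a
    have h1 := LinearMap.congr_fun e'.hh'₀ a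
    have h2 := LinearMap.congr_fun e.hh'₀ (e'.ψ₀ a)
    have h3 := LinearMap.congr_fun e'.hφ (e.h' (e'.ψ₀ a))
    simp only [LinearMap.sub_apply, LinearMap.id_apply, LinearMap.comp_apply,
      LinearMap.add_apply] at h1 h2 h3 ⊢
    rw [map_add, h3, ← h2, ← h1, map_sub]
    abel

section ofSplitExact

variable {Q₁ Q₀ : Type u} [AddCommGroup Q₁] [Module R Q₁] [AddCommGroup Q₀] [Module R Q₀]

/-- An injective chain map `i : A → Q` of two-term complexes whose (degreewise) cokernel complex `C`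
has an invertible differential, together with a section of `π₁`, is a homotopy equivalence. -/
noncomputable def ofSplitExact (dA : A₁ →ₗ[R] A₀) (dQ : Q₁ →ₗ[R] Q₀) (dC : C₁ →ₗ[R] C₀)
    (i₁ : A₁ →ₗ[R] Q₁) (i₀ : A₀ →ₗ[R] Q₀) (π₁ : Q₁ →ₗ[R] C₁) (π₀ : Q₀ →ₗ[R] C₀)
    (hi : dQ ∘ₗ i₁ = i₀ ∘ₗ dA) (hπ : dC ∘ₗ π₁ = π₀ ∘ₗ dQ)
    (hi₁ : Function.Injective i₁) (hi₀ : Function.Injective i₀)
    (hex₁ : Function.Exact i₁ π₁) (hex₀ : Function.Exact i₀ π₀)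
    (s₁ : C₁ →ₗ[R] Q₁) (hs₁ : π₁ ∘ₗ s₁ = LinearMap.id)
    (dCinv : C₀ →ₗ[R] C₁) (h1 : dCinv ∘ₗ dC = LinearMap.id) (h2 : dC ∘ₗ dCinv = LinearMap.id) :
    HEquiv dA dQ := by
  have ci : ∀ a, dQ (i₁ a) = i₀ (dA a) := fun a => LinearMap.congr_fun hi a
  have cπ : ∀ q, dC (π₁ q) = π₀ (dQ q) := fun q => LinearMap.congr_fun hπ q
  have cs : ∀ c, π₁ (s₁ c) = c := fun c => LinearMap.congr_fun hs₁ c
  have c1 : ∀ c, dCinv (dC c) = c := fun c => LinearMap.congr_fun h1 c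
  have c2 : ∀ c, dC (dCinv c) = c := fun c => LinearMap.congr_fun h2 c
  have z₁ : ∀ a, π₁ (i₁ a) = 0 := fun a => hex₁.apply_apply_eq_zero a
  have z₀ : ∀ a, π₀ (i₀ a) = 0 := fun a => hex₀.apply_apply_eq_zero a
  let h' : Q₀ →ₗ[R] Q₁ := s₁ ∘ₗ dCinv ∘ₗ π₀
  have hh' : ∀ q, h' q = s₁ (dCinv (π₀ q)) := fun q => rfl
  let p₁ : Q₁ →ₗ[R] Q₁ := LinearMap.id - h' ∘ₗ dQ
  let p₀ : Q₀ →ₗ[R] Q₀ := LinearMap.id - dQ ∘ₗ h'
  have hp₁ : ∀ q, p₁ q = q - h' (dQ q) := fun q => rfl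
  have hp₀ : ∀ q, p₀ q = q - dQ (h' q) := fun q => rfl
  have hr₁ : ∀ q, p₁ q ∈ LinearMap.range i₁ := by
    intro q
    rw [LinearMap.mem_range]
    apply (hex₁ (p₁ q)).mp
    rw [hp₁, map_sub, hh', cs, ← cπ, c1, sub_self]
  have hr₀ : ∀ q, p₀ q ∈ LinearMap.range i₀ := by
    intro q
    rw [LinearMap.mem_range]
    apply (hex₀ (p₀ q)).mp
    rw [hp₀, map_sub, ← cπ, hh', cs, c2, sub_self]
  let r₁ : Q₁ →ₗ[R] A₁ :=
    (LinearEquiv.ofInjective i₁ hi₁).symm.toLinearMap ∘ₗ p₁.codRestrict (LinearMap.range i₁) hr₁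
  let r₀ : Q₀ →ₗ[R] A₀ :=
    (LinearEquiv.ofInjective i₀ hi₀).symm.toLinearMap ∘ₗ p₀.codRestrict (LinearMap.range i₀) hr₀
  have ir₁ : ∀ q, i₁ (r₁ q) = p₁ q := by
    intro q
    have := (LinearEquiv.ofInjective i₁ hi₁).apply_symm_apply
      (p₁.codRestrict (LinearMap.range i₁) hr₁ q)
    exact congrArg Subtype.val this
  have ir₀ : ∀ q, i₀ (r₀ q) = p₀ q := by
    intro q
    have := (LinearEquiv.ofInjective i₀ hi₀).apply_symm_apply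
      (p₀.codRestrict (LinearMap.range i₀) hr₀ q)
    exact congrArg Subtype.val this
  refine
    { φ₁ := i₁, φ₀ := i₀, ψ₁ := r₁, ψ₀ := r₀, hφ := hi, hψ := ?_, h := 0, hh₁ := ?_, hh₀ := ?_,
      h' := h', hh'₁ := ?_, hh'₀ := ?_ }
  · ext q
    apply hi₀
    simp only [LinearMap.comp_apply]
    rw [← ci, ir₁, ir₀, hp₁, hp₀, map_sub]
  · ext a
    simp only [LinearMap.sub_apply, LinearMap.id_apply, LinearMap.comp_apply, LinearMap.zero_apply]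
    rw [sub_eq_zero]
    apply hi₁
    rw [ir₁, hp₁, ci, hh', z₀, map_zero, map_zero, sub_zero]
  · ext a
    simp only [LinearMap.sub_apply, LinearMap.id_apply, LinearMap.comp_apply, LinearMap.zero_apply,
      map_zero]
    rw [sub_eq_zero]
    apply hi₀
    rw [ir₀, hp₀, hh', z₀, map_zero, map_zero, map_zero, sub_zero]
  · ext q
    simp only [LinearMap.sub_apply, LinearMap.id_apply, LinearMap.comp_apply]
    rw [ir₁, hp₁, sub_sub_cancel]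
  · ext q
    simp only [LinearMap.sub_apply, LinearMap.id_apply, LinearMap.comp_apply]
    rw [ir₀, hp₀, sub_sub_cancel]

end ofSplitExact

end HEquiv

end Groth.Agent.R2.H41.TwoTerm
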