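import Mathlib
import Groth.Prelude.Def_SiteCmp
import Groth.Prelude.Def_WeakSerre
import Groth.Prelude.Def_CohSite

/-!
# helper41: interface (Spec) for the mini-project PROJ:twotop
(comparing two topologies, Stacks "Cohomology on Sites", section "Comparing two topologies II")

Rows: S9073, S9074, S9075, S9077, S9079 (all top tier, owner helper41).
Every package below is a closed `Prop`; a package file proves `theorem pkgX : TwoTopSpec.PkgX`.
-/

set_option autoImplicit false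
universe u
open CategoryTheory CategoryTheory.Limits Opposite

namespace Groth.Agent.R2.H41.TwoTopSpec

/-- The situation (hypotheses (1)–(5) of the five statements, verbatim), bundled. -/
structure Sit {C : Type u} [SmallCategory C] (J J' : GrothendieckTopology C) where
  h : J' ≤ J
  P : MorphismProperty C
  A' : ∀ X : C, ObjectProperty (Sheaf (J'.over X) AddCommGrpCat.{u})
  ws : ∀ X : C, WSerre.IsWeakSerre (A' X)
  h1 : ∀ ⦃X Y : C⦄ (f : X ⟶ Y), P f → ∀ ⦃Y' : C⦄ (g : Y' ⟶ Y),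
      ∃ (W : C) (p : W ⟶ Y') (q : W ⟶ X), IsPullback p q g f ∧ P p
  h2 : ∀ ⦃X Y : C⦄ (f : X ⟶ Y) (F' : Sheaf (J'.over Y) AddCommGrpCat.{u}), A' Y F' →
      A' X ((CohSite.push (J'.over Y) (J'.over X) (Over.map f)).obj F')
  h3 : ∀ (X : C) (F' : Sheaf (J'.over X) AddCommGrpCat.{u}), A' X F' →
      Presheaf.IsSheaf (J.over X) F'.obj
  h4 : ∀ ⦃X Y : C⦄ (f : X ⟶ Y)
      [((Over.map f).sheafPushforwardCocontinuous AddCommGrpCat.{u} (J'.over X) (J'.over Y)).Additive],
      P f → ∀ (F' : Sheaf (J'.over X) AddCommGrpCat.{u}), A' X F' → ∀ i : ℕ,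
        A' Y ((((Over.map f).sheafPushforwardCocontinuous AddCommGrpCat.{u} (J'.over X)
          (J'.over Y)).rightDerived i).obj F')
  h5 : ∀ (U : C) (S : Sieve U), S ∈ J U → ∃ (ι : Type u) (V : ι → C) (v : ∀ j, V j ⟶ U),
      Sieve.ofArrows V v ∈ J' U ∧ ∀ j, ∃ (W : C) (w : W ⟶ V j), P w ∧
        Sieve.ofArrows (fun _ : PUnit.{u + 1} => W) (fun _ => w) ∈ J (V j) ∧
        ∃ (κ : Type u) (Wk : κ → C) (wk : ∀ k, Wk k ⟶ W), Sieve.ofArrows Wk wk ∈ J' W ∧
          ∀ k, S.arrows (wk k ≫ w ≫ v j)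

attribute [instance] Sit.ws

variable {C : Type u} [SmallCategory C] {J J' : GrothendieckTopology C}

/-- `ε_{X,*}` for abelian sheaves on `C/X`. -/
abbrev Sit.eps (S : Sit J J') (X : C) :
    Sheaf (J.over X) AddCommGrpCat.{u} ⥤ Sheaf (J'.over X) AddCommGrpCat.{u} :=
  SiteCmp.epsSh (SiteCmp.over_le S.h X) AddCommGrpCat.{u}

/-- The class `A_X` of abelian `τ`-sheaves `F` on `C/X` with `ε_{X,*} F ∈ A'_X`. -/
abbrev Sit.A (S : Sit J J') (X : C) : ObjectProperty (Sheaf (J.over X) AddCommGrpCat.{u}) :=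
  (S.A' X).inverseImage (S.eps X)

/-- `(V_n)`: for all `Z` and all `G ∈ A_Z`, `R^i ε_{Z,*} G = 0` for `1 ≤ i ≤ n`
(verbatim the hypothesis `hV` of S9079). -/
def Sit.Vn (S : Sit J J') (n : ℕ) : Prop :=
  ∀ (Z : C) (G : Sheaf (J.over Z) AddCommGrpCat.{u}), S.A' Z ((S.eps Z).obj G) →
    ∀ i : ℕ, 1 ≤ i → i ≤ n → IsZero (((S.eps Z).rightDerived i).obj G)

/-- a cohomology class is `K'`-locally zero -/
def LZ {D : Type u} [SmallCategory D] {K : GrothendieckTopology D} (K' : GrothendieckTopology D)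
    (F : Sheaf K AddCommGrpCat.{u}) (m : ℕ) (U : D) (ξ : CohSite.HU F m U) : Prop :=
  ∃ S : Sieve U, S ∈ K' U ∧ ∀ ⦃V : D⦄ (g : V ⟶ U), S g → CohSite.res F m g ξ = 0

/-! ## Layer A: generic packages on a small category `D` with two topologies `K' ≤ K` -/

/-- **(VZ)** `R^i ε_* F = 0` iff all degree-`i` classes of `F` are `K'`-locally zero (`i ≥ 1`).
Route: Lib `Helper16.RpushNat.natIso K K' (𝟭 D) i` (`R^i ε_* F ≅ (U ↦ H^i_K(U,F))^{#K'}`;
`epsSh hK _ = CohSite.push K K' (𝟭 D)` under `haveI := SiteCmp.idContinuous hK`) + a sheafification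
is zero iff every section of the presheaf is locally zero (`Presheaf.isLocallyInjective_toSheafify`). -/
def PkgVZ : Prop :=
  ∀ {D : Type u} [SmallCategory D] {K K' : GrothendieckTopology D} (hK : K' ≤ K)
    (F : Sheaf K AddCommGrpCat.{u}) (i : ℕ), 1 ≤ i →
    (IsZero (((SiteCmp.epsSh hK AddCommGrpCat.{u}).rightDerived i).obj F) ↔
      ∀ (U : D) (ξ : CohSite.HU F i U), LZ K' F i U ξ)

/-- **(Loc)** cohomology over an object of `C/Z` lying over `V` = cohomology of the restriction to `C/V`,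
compatibly with pull-back of classes. Route: imitate Lib `Helper9.ExtZero` (`ext_bijective`/`extEquiv`
= `Helper16.ExtCompare.cmp_bijective` for the exact functor `j^* = push (Over.map h)`, which preserves
injectives by Lib `Helper9.ExtZero.preservesFiniteLimits_of_adj_overMap`), with the natural bijection
`Hom(ℤ_{(Over.map h) W}, G) ≃ G((Over.map h) W) = (j^*G)(W) ≃ Hom(ℤ_W, j^* G)`. -/
def PkgLoc : Prop :=
  ∀ {C : Type u} [SmallCategory C] (J : GrothendieckTopology C) {V Z : C} (h : V ⟶ Z)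
    (G : Sheaf (J.over Z) AddCommGrpCat.{u}) (m : ℕ),
    ∃ e : ∀ W : Over V, CohSite.HU G m ((Over.map h).obj W) ≃+
        CohSite.HU ((CohSite.push (J.over Z) (J.over V) (Over.map h)).obj G) m W,
      ∀ ⦃W W' : Over V⦄ (g : W' ⟶ W) (ξ : CohSite.HU G m ((Over.map h).obj W)),
        e W' (CohSite.res G m ((Over.map h).map g) ξ) =
          CohSite.res ((CohSite.push (J.over Z) (J.over V) (Over.map h)).obj G) m g (e W ξ)

/-- **(Cmp)** the comparison maps `c : H^m_{K'}(U, ε_* F) → H^m_K(U, F)` (apply the exact functor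
`ε^{-1}`, then the counit; `ε^{-1} ℤ'_U ≅ ℤ_U`): natural in `U`; if `R^i ε_* F = 0` for `1 ≤ i ≤ n`
they are bijective for `m ≤ n`, injective for `m = n+1`, and every `K'`-locally zero class of degree
`n+1` is in the image. Route: dimension shifting on `F` (`0 → F → I → Q → 0`, `ε_* I` injective,
`R^i ε_* Q = R^{i+1} ε_* F`), cf. Lib `Helper16.ExtCompare`. -/
def PkgCmp : Prop :=
  ∀ {D : Type u} [SmallCategory D] {K K' : GrothendieckTopology D} (hK : K' ≤ K)
    (F : Sheaf K AddCommGrpCat.{u}) (n : ℕ),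
    (∀ i : ℕ, 1 ≤ i → i ≤ n →
      IsZero (((SiteCmp.epsSh hK AddCommGrpCat.{u}).rightDerived i).obj F)) →
    ∃ c : ∀ (m : ℕ) (U : D),
        CohSite.HU ((SiteCmp.epsSh hK AddCommGrpCat.{u}).obj F) m U →+ CohSite.HU F m U,
      (∀ (m : ℕ) ⦃U V : D⦄ (g : V ⟶ U)
          (θ : CohSite.HU ((SiteCmp.epsSh hK AddCommGrpCat.{u}).obj F) m U),
          c m V (CohSite.res _ m g θ) = CohSite.res F m g (c m U θ)) ∧
      (∀ (m : ℕ) (U : D), m ≤ n → Function.Bijective (c m U)) ∧
      (∀ U : D, Function.Injective (c (n + 1) U)) ∧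
      (∀ (U : D) (ξ : CohSite.HU F (n + 1) U), LZ K' F (n + 1) U ξ → ∃ θ, c (n + 1) U θ = ξ)

/-- **(SH)** Let `P` be an abelian presheaf whose `K'`-sheafification is a `K`-sheaf (`K' ≤ K`).
If `x ∈ P(U)` is `K'`-locally zero after restriction to every member of a `K`-covering sieve of `U`,
then `x` is `K'`-locally zero. -/
def PkgSH : Prop :=
  ∀ {D : Type u} [SmallCategory D] {K K' : GrothendieckTopology D} (_hK : K' ≤ K)
    (P : Dᵒᵖ ⥤ AddCommGrpCat.{u}),
    Presheaf.IsSheaf K ((presheafToSheaf K' AddCommGrpCat.{u}).obj P).obj →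
    ∀ (U : D) (R : Sieve U), R ∈ K U → ∀ x : P.obj (op U),
      (∀ ⦃V : D⦄ (g : V ⟶ U), R g → ∃ S : Sieve V, S ∈ K' V ∧
        ∀ ⦃W : D⦄ (a : W ⟶ V), S a → (P.map a.op).hom ((P.map g.op).hom x) = 0) →
      ∃ S : Sieve U, S ∈ K' U ∧ ∀ ⦃W : D⦄ (a : W ⟶ U), S a → (P.map a.op).hom x = 0

/-- **(DV)** dévissage: let `Cx` be a cochain complex of injective `K`-sheaves, `n ≥ 1`, such that all
classes in `H^p_K(U, H^q(Cx))` are `K'`-locally zero for `q < n`, `p ≥ 1`, `p + q ≤ n`. Then an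
`n`-cocycle over `U` whose class in `Γ(U, H^n(Cx))` vanishes is `K'`-locally a coboundary.
Route: with `Z^q = Cx.cycles q`, `B^q = ker (homologyπ q)`: `0 → Z^q → Cx^q → B^{q+1} → 0`,
`0 → B^q → Z^q → H^q → 0`; show by induction on `q` that classes in `H^p(U, Z^q)` are `K'`-locally
zero for `p ≥ 1`, `p + q ≤ n` (`H^p(U,B^q) ≅ H^{p+1}(U, Z^{q-1})` as `Cx^{q-1}` is injective); then
`γ ∈ B^n(U)` lifts to `Cx^{n-1}` where its obstruction in `H^1(U, Z^{n-1})` dies. -/
def PkgDV : Prop :=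
  ∀ {D : Type u} [SmallCategory D] {K K' : GrothendieckTopology D} (_hK : K' ≤ K)
    (Cx : CochainComplex (Sheaf K AddCommGrpCat.{u}) ℕ), (∀ j, Injective (Cx.X j)) →
    ∀ n : ℕ, 1 ≤ n →
    (∀ q p : ℕ, q < n → 1 ≤ p → p + q ≤ n → ∀ (U : D) (ζ : CohSite.HU (Cx.homology q) p U),
      LZ K' (Cx.homology q) p U ζ) →
    ∀ (U : D) (γ : (Cx.cycles n).obj.obj (op U)),
      ((Cx.homologyπ n).hom.app (op U)).hom γ = 0 →
      ∃ S : Sieve U, S ∈ K' U ∧ ∀ ⦃V : D⦄ (g : V ⟶ U), S g →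
        ∃ c : (Cx.X (n - 1)).obj.obj (op V),
          ((Cx.toCycles (n - 1) n).hom.app (op V)).hom c = ((Cx.cycles n).obj.map g.op).hom γ

/-- **(TR)** truncated resolutions compute derived functors in low degrees: let `Ψ` be left exact,
`L` a cochain complex of injectives with `M = ker (L⁰ → L¹)` and `L` exact in degrees `1..n`.
Then `R^q Ψ (M) ≅ H^q(Ψ L)` for `q ≤ n`. (Pure homological algebra.) -/
def PkgTR : Prop :=
  ∀ {𝒜 ℬ : Type (u + 1)} [Category.{u} 𝒜] [Category.{u} ℬ] [Abelian 𝒜] [Abelian ℬ]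
    [HasInjectiveResolutions 𝒜] (Ψ : 𝒜 ⥤ ℬ) [Ψ.Additive] [PreservesFiniteLimits Ψ]
    (M : 𝒜) (L : CochainComplex 𝒜 ℕ), (∀ j, Injective (L.X j)) →
    ∀ (ι : M ⟶ L.X 0) (hι : ι ≫ L.d 0 1 = 0), Mono ι → (ShortComplex.mk ι (L.d 0 1) hι).Exact →
    ∀ n : ℕ, (∀ i : ℕ, 1 ≤ i → i ≤ n → L.ExactAt i) →
    ∀ q : ℕ, q ≤ n →
      Nonempty ((Ψ.rightDerived q).obj M ≅
        ((Ψ.mapHomologicalComplex (ComplexShape.up ℕ)).obj L).homology q)

/-- **(CMPH)** for a short complex `S` of `K`-sheaves: if the homology of `ε_* S` (taken in `K'`-sheaves)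
has an underlying presheaf which is a `K`-sheaf, then it is `ε_*` of the homology of `S`, and every
section of the homology of `S` lifts `K'`-locally to a section of the cycles of `S`.
(The `K`-homology is the `K`-sheafification of the presheaf homology, the `K'`-homology its
`K'`-sheafification.) -/
def PkgCMPH : Prop :=
  ∀ {D : Type u} [SmallCategory D] {K K' : GrothendieckTopology D} (hK : K' ≤ K)
    (S : ShortComplex (Sheaf K AddCommGrpCat.{u})),
    Presheaf.IsSheaf K (S.map (SiteCmp.epsSh hK AddCommGrpCat.{u})).homology.obj →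
    Nonempty ((S.map (SiteCmp.epsSh hK AddCommGrpCat.{u})).homology ≅
        (SiteCmp.epsSh hK AddCommGrpCat.{u}).obj S.homology) ∧
      ∀ (U : D) (s : S.homology.obj.obj (op U)), ∃ R : Sieve U, R ∈ K' U ∧
        ∀ ⦃V : D⦄ (g : V ⟶ U), R g → ∃ z : S.cycles.obj.obj (op V),
          (S.homologyπ.hom.app (op V)).hom z = (S.homology.obj.map g.op).hom s

/-! ## Layer B: the functor `T = w_* : M ↦ (U ↦ M(w U))` attached to `w : D ⥤ D`, `π : w ⟶ 𝟭` -/

section Tw

variable {D : Type u} [SmallCategory D]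

/-- `T M = (U ↦ M(w U))` on `K`-sheaves, for a continuous endofunctor `w` of the site. -/
abbrev Tw (K : GrothendieckTopology D) (w : D ⥤ D) [w.IsContinuous K K] :
    Sheaf K AddCommGrpCat.{u} ⥤ Sheaf K AddCommGrpCat.{u} :=
  w.sheafPushforwardContinuous AddCommGrpCat.{u} K K

/-- `T` applied termwise to (the cocomplex of) an injective resolution. -/
noncomputable abbrev KK (K : GrothendieckTopology D) (w : D ⥤ D) [w.IsContinuous K K]
    {F : Sheaf K AddCommGrpCat.{u}} (I : InjectiveResolution F) :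
    CochainComplex (Sheaf K AddCommGrpCat.{u}) ℕ :=
  ((Tw K w).mapHomologicalComplex (ComplexShape.up ℕ)).obj I.cocomplex

/-- `η_M : M ⟶ T M`, restriction along `π_U : w U ⟶ U`. -/
def etaT (K : GrothendieckTopology D) (w : D ⥤ D) [w.IsContinuous K K] (π : w ⟶ 𝟭 D)
    (M : Sheaf K AddCommGrpCat.{u}) : M ⟶ (Tw K w).obj M where
  hom :=
    { app := fun U => M.obj.map (π.app U.unop).op
      naturality := fun U V g => by
        change M.obj.map g ≫ M.obj.map (π.app V.unop).op =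
          M.obj.map (π.app U.unop).op ≫ M.obj.map (w.map g.unop).op
        rw [← M.obj.map_comp, ← M.obj.map_comp]
        congr 1
        have := π.naturality g.unop
        simp only [Functor.id_obj, Functor.id_map] at this
        rw [← op_comp, this, op_comp]
        rfl }

end Tw

/-- **(BAbs)** the abstract key lemma. `w : D ⥤ D` continuous, `π : w ⟶ 𝟭` with every `π_U` generating a
`K`-covering sieve, `T = Tw K w` preserving injectives, `I` an injective resolution of `F`,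
`𝕂 = T I` (`KK K w I`), `Q = coker (η_F : F → T F)`. Assume
(a) classes in `H^p_K(U, H^q 𝕂)` are `K'`-locally zero for `1 ≤ q < n`, `p ≥ 1`, `p + q ≤ n`;
(a0) classes in `H^p_K(U, Q)` are `K'`-locally zero for `1 ≤ p ≤ n`;
(a0') if `n = 0`: sections of `Q` lift `K'`-locally to `T F`;
(b) if `n ≥ 1`: sections of `H^n 𝕂` lift `K'`-locally to `n`-cocycles of `𝕂`.
Then every `ξ ∈ H^{n+1}_K(U, F)` with `ξ|_{w U} = 0` is `K'`-locally zero.
Route: write `ξ = [z]`, `z ∈ Z^{n+1}(I)(U)` (Lib `Helper16.RpushSh.τapp_cls_surjective/_eq_zero_iff`), so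
`η(z) = d k`, `k ∈ 𝕂^n(U) = I^n(w U)`; `Cx := 𝕂 / I` (termwise split, so a complex of injectives,
`H^0 Cx ≅ Q`, `H^q Cx ≅ H^q 𝕂` for `q ≥ 1`); `γ := [k] ∈ Z^n(Cx)(U)`; by (b) and `PkgDV` for `Cx`
(resp. (a0') if `n = 0`), `K'`-locally `γ = [κ] + d c'` with `κ ∈ Z^n(𝕂)`; then `k - κ - d(lift c') ∈ I^n`
has coboundary `z`. -/
def PkgBAbs : Prop :=
  ∀ {D : Type u} [SmallCategory D] {K K' : GrothendieckTopology D} (_hK : K' ≤ K)
    (w : D ⥤ D) [w.IsContinuous K K] (π : w ⟶ 𝟭 D),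
    (∀ U : D, Sieve.generate (Presieve.singleton (π.app U)) ∈ K U) →
    (∀ M : Sheaf K AddCommGrpCat.{u}, Injective M → Injective ((Tw K w).obj M)) →
    ∀ (F : Sheaf K AddCommGrpCat.{u}) (I : InjectiveResolution F) (n : ℕ),
    (∀ q p : ℕ, 1 ≤ q → q < n → 1 ≤ p → p + q ≤ n →
      ∀ (U : D) (ζ : CohSite.HU ((KK K w I).homology q) p U),
        LZ K' ((KK K w I).homology q) p U ζ) →
    (∀ p : ℕ, 1 ≤ p → p ≤ n → ∀ (U : D) (ζ : CohSite.HU (cokernel (etaT K w π F)) p U),
        LZ K' (cokernel (etaT K w π F)) p U ζ) →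
    (n = 0 → ∀ (U : D) (s : (cokernel (etaT K w π F)).obj.obj (op U)),
      ∃ S : Sieve U, S ∈ K' U ∧ ∀ ⦃V : D⦄ (g : V ⟶ U), S g →
        ∃ t : ((Tw K w).obj F).obj.obj (op V),
          ((cokernel.π (etaT K w π F)).hom.app (op V)).hom t =
            ((cokernel (etaT K w π F)).obj.map g.op).hom s) →
    (1 ≤ n → ∀ (U : D) (s : ((KK K w I).homology n).obj.obj (op U)),
      ∃ S : Sieve U, S ∈ K' U ∧ ∀ ⦃V : D⦄ (g : V ⟶ U), S g →
        ∃ z : ((KK K w I).cycles n).obj.obj (op V),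
          (((KK K w I).homologyπ n).hom.app (op V)).hom z =
            (((KK K w I).homology n).obj.map g.op).hom s) →
    ∀ (U : D) (ξ : CohSite.HU F (n + 1) U), CohSite.res F (n + 1) (π.app U) ξ = 0 →
      LZ K' F (n + 1) U ξ

/-! ## Layer B': geometric plumbing for `f : X ⟶ Y` admitting pullbacks -/

section Geo

variable {C : Type u} [SmallCategory C]

/-- `U ↦ (U ×_Y X → Y)` on `C/Y`. -/
noncomputable abbrev wF {X Y : C} (f : X ⟶ Y) [HasPullbacksAlong f] : Over Y ⥤ Over Y :=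
  Over.pullback f ⋙ Over.map f

/-- the projection `U ×_Y X → U`. -/
noncomputable abbrev wπ {X Y : C} (f : X ⟶ Y) [HasPullbacksAlong f] : wF f ⟶ 𝟭 (Over Y) :=
  (Over.mapPullbackAdj f).counit

theorem pullback_isContinuous (J : GrothendieckTopology C) {X Y : C} (f : X ⟶ Y)
    [HasPullbacksAlong f] : (Over.pullback f).IsContinuous (J.over Y) (J.over X) :=
  Adjunction.isContinuous_of_isCocontinuous _ _ (Over.mapPullbackAdj f)

theorem wF_isContinuous (J : GrothendieckTopology C) {X Y : C} (f : X ⟶ Y)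
    [HasPullbacksAlong f] : (wF f).IsContinuous (J.over Y) (J.over Y) := by
  have := pullback_isContinuous J f
  exact Functor.isContinuous_comp _ _ (J.over Y) (J.over X) (J.over Y)

/-- **(TInst)** the two structural hypotheses of `PkgBAbs` for `w = wF f`, `π = wπ f`:
(1) if `{f}` is a `J`-covering then every `π_U : U ×_Y X → U` generates a `J.over Y`-covering sieve
(pull-back of the covering sieve along `U.hom`); (2) `T = f_* f^*` preserves injectives
(`f^* = push (Over.map f)` does by Lib `Helper9.ExtZero.preservesFiniteLimits_of_adj_overMap`, and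
`(Over.pullback f)`-push-forward is right adjoint to the exact `f^*` by
`Adjunction.sheafPushforwardContinuous (Over.mapPullbackAdj f)`; `Functor.sheafPushforwardContinuousComp`). -/
def PkgTInst : Prop :=
  ∀ {C : Type u} [SmallCategory C] (J : GrothendieckTopology C) {X Y : C} (f : X ⟶ Y)
    [HasPullbacksAlong f],
    haveI := wF_isContinuous J f
    (Sieve.ofArrows (fun _ : PUnit.{u + 1} => X) (fun _ => f) ∈ J Y →
      ∀ U : Over Y, Sieve.generate (Presieve.singleton ((wπ f).app U)) ∈ (J.over Y) U) ∧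
    (∀ M : Sheaf (J.over Y) AddCommGrpCat.{u}, Injective M →
      Injective ((Tw (J.over Y) (wF f)).obj M))

/-- **(Key)** for `F` on `C/Y` with injective resolution `I`, and `f : X ⟶ Y` admitting pullbacks:
if `R^i ε_{X,*}(f^*F) = 0` for `1 ≤ i ≤ n` then for `q ≤ n`
`H^q(ε_{Y,*} (T I)) ≅ R^q f'_*(f'^* ε_{Y,*}F)` (`f'_*` the cocontinuous push-forward on `J'`-sheaves).
Route: `ε_Y (T I) = T' (ε_Y I)` (rfl), `T' ≅ f'^* ⋙ (Over.pullback f)_*` (`sheafPushforwardContinuousComp`),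
`(Over.pullback f)_* ≅ f'_*` (both right adjoint to `f'^*`), `f'^* ε_Y = ε_X f^*` (rfl); `ε_X f^* I` is a
complex of `J'`-injectives (`ε^{-1}`, `f_!` exact), with `H^0 = ε_X f^* F`, exact in degrees `1..n`
(`InjectiveResolution.isoRightDerivedObj` for the resolution `f^* I` of `f^*F`); then `PkgTR`. -/
def PkgKey : Prop :=
  ∀ {C : Type u} [SmallCategory C] {J J' : GrothendieckTopology C} (h : J' ≤ J) {X Y : C}
    (f : X ⟶ Y) [HasPullbacksAlong f]
    [((Over.map f).sheafPushforwardCocontinuous AddCommGrpCat.{u} (J'.over X) (J'.over Y)).Additive]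
    (F : Sheaf (J.over Y) AddCommGrpCat.{u}) (I : InjectiveResolution F) (n : ℕ),
    haveI := wF_isContinuous J f
    (∀ i : ℕ, 1 ≤ i → i ≤ n →
      IsZero (((SiteCmp.epsSh (SiteCmp.over_le h X) AddCommGrpCat.{u}).rightDerived i).obj
        ((CohSite.push (J.over Y) (J.over X) (Over.map f)).obj F))) →
    ∀ q : ℕ, q ≤ n →
      Nonempty ((((SiteCmp.epsSh (SiteCmp.over_le h Y) AddCommGrpCat.{u}).mapHomologicalComplex
            (ComplexShape.up ℕ)).obj (KK (J.over Y) (wF f) I)).homology q ≅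
        (((Over.map f).sheafPushforwardCocontinuous AddCommGrpCat.{u} (J'.over X)
            (J'.over Y)).rightDerived q).obj
          ((CohSite.push (J'.over Y) (J'.over X) (Over.map f)).obj
            ((SiteCmp.epsSh (SiteCmp.over_le h Y) AddCommGrpCat.{u}).obj F)))

/-- **(Rv)** `R^m f_*` (cocontinuous push-forward along `Over.map f`) is the sheafification of
`U ↦ H^m(U ×_Y X → X, E)`. Route: `f_* ≅ (Over.pullback f).sheafPushforwardContinuous` (both right
adjoint to restriction), Lib `Helper23LocSS.rightDerivedIso`, Lib `Helper16.RpushNat.natIso`. -/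
def PkgRv : Prop :=
  ∀ {C : Type u} [SmallCategory C] (J : GrothendieckTopology C) {X Y : C} (f : X ⟶ Y)
    [HasPullbacksAlong f]
    [((Over.map f).sheafPushforwardCocontinuous AddCommGrpCat.{u} (J.over X) (J.over Y)).Additive]
    (E : Sheaf (J.over X) AddCommGrpCat.{u}) (m : ℕ),
    Nonempty ((((Over.map f).sheafPushforwardCocontinuous AddCommGrpCat.{u} (J.over X)
          (J.over Y)).rightDerived m).obj E ≅
      (presheafToSheaf (J.over Y) AddCommGrpCat.{u}).obj
        ((Over.pullback f).op ⋙ Sheaf.cohomologyPresheaf.{u} E m))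

end Geo

/-! ## Layer C: statements in the situation `Sit` -/

section Stmts

/-- S9075 in bundled form. -/
def Stmt9075 : Prop :=
  ∀ {C : Type u} [SmallCategory C] {J J' : GrothendieckTopology C} (S : Sit J J')
    {X Y : C} (f : X ⟶ Y) (_hf : S.P f)
    (_hcov : Sieve.ofArrows (fun _ : PUnit.{u + 1} => X) (fun _ => f) ∈ J Y)
    (F' : Sheaf (J'.over Y) AddCommGrpCat.{u}) (_hF' : S.A' Y F') (n : ℕ)
    (θ : CohSite.HU F' (n + 1) (Over.mk f))
    (_hθ : ∀ (W : C) (p q : W ⟶ X) (hW : IsPullback p q f f),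
      CohSite.res F' (n + 1) (Over.homMk p rfl : Over.mk (p ≫ f) ⟶ Over.mk f) θ =
        CohSite.res F' (n + 1) (Over.homMk q hW.w.symm : Over.mk (p ≫ f) ⟶ Over.mk f) θ),
    ∃ (ι : Type u) (Z : ι → C) (g : ∀ i, Z i ⟶ Y), Sieve.ofArrows Z g ∈ J' Y ∧
      ∀ (i : ι) (W : C) (p : W ⟶ Z i) (q : W ⟶ X), IsPullback p q (g i) f →
        CohSite.res F' (n + 1) (Over.homMk q rfl : Over.mk (q ≫ f) ⟶ Over.mk f) θ = 0

/-- S9079 in bundled form. -/
def Stmt9079 : Prop :=
  ∀ {C : Type u} [SmallCategory C] {J J' : GrothendieckTopology C} (S : Sit J J') (n : ℕ)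
    (_hV : S.Vn n) {X Y : C} (f : X ⟶ Y) (_hf : S.P f)
    [((Over.map f).sheafPushforwardCocontinuous AddCommGrpCat.{u} (J'.over X) (J'.over Y)).Additive]
    [((Over.map f).sheafPushforwardCocontinuous AddCommGrpCat.{u} (J.over X) (J.over Y)).Additive]
    (F : Sheaf (J.over X) AddCommGrpCat.{u}) (_hF : S.A' X ((S.eps X).obj F)) (i : ℕ) (_hi : i ≤ n),
    Nonempty ((((Over.map f).sheafPushforwardCocontinuous AddCommGrpCat.{u} (J'.over X)
          (J'.over Y)).rightDerived i).obj ((S.eps X).obj F) ≅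
      (S.eps Y).obj ((((Over.map f).sheafPushforwardCocontinuous AddCommGrpCat.{u} (J.over X)
          (J.over Y)).rightDerived i).obj F))

/-- the key step (B): for `f ∈ P` a `J`-covering, `F ∈ A_Y`, `U` over `Y`: a class of degree `n+1` over `U`
which dies on `U ×_Y X` is `J'`-locally zero (under `(V_n)`). -/
def StmtB : Prop :=
  ∀ {C : Type u} [SmallCategory C] {J J' : GrothendieckTopology C} (S : Sit J J') (n : ℕ),
    S.Vn n → ∀ {X Y : C} (f : X ⟶ Y), S.P f →
    Sieve.ofArrows (fun _ : PUnit.{u + 1} => X) (fun _ => f) ∈ J Y →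
    ∀ F : Sheaf (J.over Y) AddCommGrpCat.{u}, S.A' Y ((S.eps Y).obj F) →
    ∀ (U : Over Y) (W : C) (p : W ⟶ U.left) (q : W ⟶ X), IsPullback p q U.hom f →
    ∀ ξ : CohSite.HU F (n + 1) U,
      CohSite.res F (n + 1) (Over.homMk p rfl : Over.mk (p ≫ U.hom) ⟶ U) ξ = 0 →
      LZ (J'.over Y) F (n + 1) U ξ

/-- S9073 in bundled form: `(V_n)` for all `n`. -/
def Stmt9073 : Prop :=
  ∀ {C : Type u} [SmallCategory C] {J J' : GrothendieckTopology C} (S : Sit J J') (n : ℕ), S.Vn n

/-- S9074 in bundled form. -/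
def Stmt9074 : Prop :=
  ∀ {C : Type u} [SmallCategory C] {J J' : GrothendieckTopology C} (S : Sit J J') (X : C),
    WSerre.IsWeakSerre (S.A X)

/-- S9077 in bundled form. -/
def Stmt9077 : Prop :=
  ∀ {C : Type u} [SmallCategory C] {J J' : GrothendieckTopology C} (S : Sit J J') (X : C)
    (F' : Sheaf (J'.over X) AddCommGrpCat.{u}) (_hF' : S.A' X F') (n : ℕ),
    Nonempty (CohSite.HU F' n (Over.mk (𝟙 X)) ≃+
      CohSite.HU ((SiteCmp.epsShInv (SiteCmp.over_le S.h X) AddCommGrpCat.{u}).obj F') n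
        (Over.mk (𝟙 X)))

end Stmts

end Groth.Agent.R2.H41.TwoTopSpec
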