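import Groth.Agent.R2.H41TypeA17
import Groth.Agent.R2.H41FiltColim
import Groth.Agent.Lib.Helper21ModTensor3

/-!
# helper41: PROJ:typeA — S9114 (every module is a filtered colimit of modules of type A)
from the packages `PkgConv`, `Pkg15`, `PkgX`.
-/

set_option autoImplicit false
universe u
open CategoryTheory CategoryTheory.Limits Opposite

namespace Groth.Agent.R2.H41.TypeA14

open Groth.Agent.Lib.Helper17.Hyp Groth.Agent.R2.H41.TypeASpec Groth.Agent.R2.H41.AbLemmas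
  Groth.Agent.R2.H41.TypeAS Groth.Agent.R2.H41.TypeA16 Groth.Agent.R2.H41.TypeA17
  Groth.Agent.R2.H41.FiltColim

variable {C : Type u} [SmallCategory C] {J : GrothendieckTopology C}
  (O : Sheaf J CommRingCat.{u}) (B : Set C)

/-- a map of modules vanishing on all sections over members of `B` vanishes. -/
lemma eq_zero_of_B (hB₁ : HB1 J B) {X Y : ModSite.Mod O} (h : X ⟶ Y)
    (hh : ∀ (k : {U : C // U ∈ B}) (s : (fr O).obj k.1 ⟶ X), s ≫ h = 0) : h = 0 := by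
  apply (locFr_frModR (J := J) (ModSite.ringSh O)).gen
  intro U s
  obtain ⟨κ, Y', g, hg, hY'⟩ := hB₁ U
  apply (locFr_frModR (J := J) (ModSite.ringSh O)).sep U _ _ hg
  intro V f hf
  cases hf with
  | intro W hW =>
    obtain ⟨a, b', hb', hab⟩ := hW
    cases hb' with
    | mk k =>
      rw [← hab, Functor.map_comp, Category.assoc, ← Category.assoc _ s h,
        hh ⟨Y' k, hY' k⟩ ((fr O).map (g k) ≫ s), comp_zero]

/-- finite presentation is stable under binary biproducts. -/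
lemma isFP_biprod (x : PkgX.{u}) (hB₁ : HB1 J B) (hB₂ : HB2 J B) {M₁ M₂ : ModSite.Mod O}
    (h₁ : IsFP O B M₁) (h₂ : IsFP O B M₂) : IsFP O B (M₁ ⊞ M₂) := by
  obtain ⟨ι₁, hι₁, U₁, π₁, hU₁, hπ₁, hk₁⟩ := h₁
  obtain ⟨ι₂, hι₂, U₂, π₂, hU₂, hπ₂, hk₂⟩ := h₂
  haveI := hι₁
  haveI := hι₂
  let S : ShortComplex (ModSite.Mod O) :=
    ShortComplex.mk (biprod.inl : M₁ ⟶ M₁ ⊞ M₂) biprod.snd (by simp)
  have hS : S.ShortExact := by
    have hsp : S.Splitting :=
      { r := biprod.fst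
        s := biprod.inr
        f_r := by simp [S]
        s_g := by simp [S]
        id := by simp [S] }
    exact hsp.shortExact
  have hb : (π₂ ≫ (biprod.inr : M₂ ⟶ M₁ ⊞ M₂)) ≫ S.g = π₂ := by simp [S]
  have hq : Epi (hsMap S π₁ (π₂ ≫ biprod.inr)) := epi_hsMap S π₁ π₂ _ hb hS
  have hkq : IsFG O B (kernel (hsMap S π₁ (π₂ ≫ biprod.inr))) :=
    x O B hB₁ hB₂ (horseshoeSC S π₁ π₂ _ hb) (shortExact_horseshoe S π₁ π₂ _ hb hS) hk₁ hk₂
  let V : ι₁ ⊕ ι₂ → C := Sum.elim U₁ U₂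
  have hV : ∀ z, V z ∈ B := by
    rintro (i | j)
    · exact hU₁ i
    · exact hU₂ j
  let e : (∐ fun z => (fr O).obj (V z)) ≅
      (∐ fun i => (fr O).obj (U₁ i)) ⊞ (∐ fun j => (fr O).obj (U₂ j)) :=
    sumIso (fun z => (fr O).obj (V z))
  refine ⟨ι₁ ⊕ ι₂, inferInstance, V, e.hom ≫ hsMap S π₁ (π₂ ≫ biprod.inr), hV, epi_comp _ _, ?_⟩
  exact isFG_of_iso O B (kernelIsIsoComp e.hom (hsMap S π₁ (π₂ ≫ biprod.inr))).symm hkq

/-- presentations of modules of type A. -/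
structure Pres where
  m : ℕ
  n : ℕ
  V : Fin m → C
  U : Fin n → C
  ψ : (∐ fun j => ModSite.freeOn O (V j)) ⟶ ∐ fun i => ModSite.freeOn O (U i)
  hV : ∀ j, V j ∈ B
  hU : ∀ i, U i ∈ B

/-- the module presented. -/
noncomputable def Pres.obj (x : Pres O B) : ModSite.Mod O := cokernel x.ψ

lemma Pres.isTypeA (x : Pres O B) : IsTypeA O B (Pres.obj O B x) :=
  ⟨x.m, x.n, x.V, x.U, x.ψ, x.hV, x.hU, ⟨Iso.refl _⟩⟩

lemma exists_pres {M : ModSite.Mod O} (h : IsTypeA O B M) :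
    ∃ z : Pres O B, Nonempty (Pres.obj O B z ≅ M) := by
  obtain ⟨m, n, V, U, ψ, hV, hU, ⟨e⟩⟩ := h
  exact ⟨⟨m, n, V, U, ψ, hV, hU⟩, ⟨e.symm⟩⟩

instance : Nonempty (Pres O B) :=
  ⟨⟨0, 0, Fin.elim0, Fin.elim0, 0, fun j => j.elim0, fun i => i.elim0⟩⟩

theorem s9114_of (conv : PkgConv.{u}) (p15 : Pkg15.{u}) (x : PkgX.{u})
    (hB₁ : ∀ X : C, ∃ (κ : Type u) (Y : κ → C) (g : ∀ k, Y k ⟶ X),
      Sieve.ofArrows Y g ∈ J X ∧ ∀ k, Y k ∈ B)
    (hB₂ : ∀ U ∈ B, CohCx.IsQcObject ((presheafToSheaf J (Type u)).obj (yoneda.obj U)))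
    (F : ModSite.Mod O) :
    ∃ (Λ : Type u) (_ : SmallCategory Λ) (_ : IsFiltered Λ) (D : Λ ⥤ ModSite.Mod O)
      (ι : D ⟶ (Functor.const Λ).obj F),
      (∀ l, (∃ (m' n' : ℕ) (V' : Fin m' → C) (U' : Fin n' → C)
        (ψ : (∐ fun j => ModSite.freeOn O (V' j)) ⟶ ∐ fun i => ModSite.freeOn O (U' i)),
        (∀ j, V' j ∈ B) ∧ (∀ i, U' i ∈ B) ∧ Nonempty (D.obj l ≅ cokernel ψ))) ∧
      Nonempty (IsColimit (Cocone.mk F ι)) := by
  have hsum : ∀ x' y' : Pres O B, ∃ z : Pres O B,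
      Nonempty (Pres.obj O B z ≅ Pres.obj O B x' ⊞ Pres.obj O B y') := fun x' y' =>
    exists_pres O B ((conv O B _).mpr (isFP_biprod O B x hB₁ hB₂
      ((conv O B _).mp (Pres.isTypeA O B x')) ((conv O B _).mp (Pres.isTypeA O B y'))))
  have hcok : ∀ (x' y' : Pres O B) (f : Pres.obj O B x' ⟶ Pres.obj O B y'), ∃ z : Pres O B,
      Nonempty (Pres.obj O B z ≅ cokernel f) := fun x' y' f =>
    exists_pres O B ((conv O B _).mpr (p15 O B hB₁ hB₂ f
      ((conv O B _).mp (Pres.isTypeA O B x')) ((conv O B _).mp (Pres.isTypeA O B y'))))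
  have hgenG : ∀ k : {U : C // U ∈ B}, ∃ z : Pres O B,
      Nonempty (Pres.obj O B z ≅ (fr O).obj k.1) := fun k => by
    apply exists_pres O B
    apply (conv O B _).mpr
    have h := isFP_free O B PUnit.{1} (fun _ => k.1) (fun _ => k.2)
    refine isFP_of_iso O B ?_ h
    exact
      { hom := Sigma.desc (fun _ => 𝟙 _)
        inv := Sigma.ι (fun _ : PUnit.{1} => (fr O).obj k.1) PUnit.unit
        hom_inv_id := by
          apply Sigma.hom_ext
          rintro ⟨⟩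
          simp
        inv_hom_id := by simp }
  haveI : IsFiltered (Idx (Pres.obj O B) F) := isFiltered (Pres.obj O B) F hsum hcok
  haveI : IsGrothendieckAbelian.{u} (ModSite.Mod O) :=
    Groth.Agent.Lib.Helper21.ModTensor3.isGrothendieckAbelian O
  have hcolim := isColimit_cocone (Pres.obj O B) F (fun k : {U : C // U ∈ B} => (fr O).obj k.1)
    (fun h hh => eq_zero_of_B O B hB₁ h hh) hgenG hcok
  exact ⟨Idx (Pres.obj O B) F, inferInstance, inferInstance, diag (Pres.obj O B) F,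
    (cocone (Pres.obj O B) F).ι, fun l => Pres.isTypeA O B l.x, hcolim⟩

end Groth.Agent.R2.H41.TypeA14
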