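import Groth.Agent.R2.H41TypeA16

/-!
# helper41: PROJ:typeA — `pkg17` (kernels of maps of finitely presented modules)
-/

set_option autoImplicit false
universe w v u
open CategoryTheory CategoryTheory.Limits Opposite

namespace Groth.Agent.R2.H41.TypeA17

section KerPair

variable {𝒜 : Type u} [Category.{v} 𝒜] [Abelian 𝒜] {A Q P G : 𝒜}
  (β : A ⟶ P) (γ : Q ⟶ P) (π : P ⟶ G)

lemma exact_of_epi_to_kernel (ε : Q ⟶ kernel π) [Epi ε] :
    (ShortComplex.mk (ε ≫ kernel.ι π) π (by simp)).Exact := by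
  rw [ShortComplex.exact_iff_exact_up_to_refinements]
  intro T (x : T ⟶ P) (hx : x ≫ π = 0)
  obtain ⟨T', ρ, hρ, z, hz⟩ := surjective_up_to_refinements_of_epi ε (kernel.lift π x hx)
  refine ⟨T', ρ, hρ, z, ?_⟩
  change ρ ≫ x = z ≫ ε ≫ kernel.ι π
  rw [← Category.assoc, ← hz, Category.assoc, kernel.lift_ι]

/-- `φ = (β, γ) : A ⊞ Q ⟶ P`. -/
noncomputable def kpMap : A ⊞ Q ⟶ P := biprod.desc β γ

lemma comp_kpMap {T : 𝒜} (x : T ⟶ A ⊞ Q) :
    x ≫ kpMap β γ = (x ≫ biprod.fst) ≫ β + (x ≫ biprod.snd) ≫ γ := by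
  have : x = biprod.lift (x ≫ biprod.fst) (x ≫ biprod.snd) := by ext <;> simp
  conv_lhs => rw [this]
  simp [kpMap]

noncomputable def kpF : kernel γ ⟶ kernel (kpMap β γ) :=
  kernel.lift _ (kernel.ι γ ≫ biprod.inr) (by simp [kpMap])

@[reassoc (attr := simp)]
lemma kpF_ι : kpF β γ ≫ kernel.ι (kpMap β γ) = kernel.ι γ ≫ biprod.inr := kernel.lift_ι _ _ _

variable (hγπ : γ ≫ π = 0)

include hγπ in
lemma kpG_aux : (kernel.ι (kpMap β γ) ≫ biprod.fst) ≫ β ≫ π = 0 := by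
  have h := kernel.condition (kpMap β γ)
  rw [comp_kpMap] at h
  have e1 : (kernel.ι (kpMap β γ) ≫ biprod.fst) ≫ β =
      -((kernel.ι (kpMap β γ) ≫ biprod.snd) ≫ γ) := eq_neg_of_add_eq_zero_left h
  rw [← Category.assoc, e1, Preadditive.neg_comp, Category.assoc, hγπ, comp_zero, neg_zero]

noncomputable def kpG : kernel (kpMap β γ) ⟶ kernel (β ≫ π) :=
  kernel.lift _ (kernel.ι (kpMap β γ) ≫ biprod.fst) (kpG_aux β γ π hγπ)

@[reassoc (attr := simp)]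
lemma kpG_ι : kpG β γ π hγπ ≫ kernel.ι (β ≫ π) = kernel.ι (kpMap β γ) ≫ biprod.fst :=
  kernel.lift_ι _ _ _

lemma kpF_kpG : kpF β γ ≫ kpG β γ π hγπ = 0 := by
  apply (cancel_mono (kernel.ι (β ≫ π))).mp
  simp

instance : Mono (kpF β γ) := by
  have : Mono (kernel.ι γ ≫ (biprod.inr : Q ⟶ A ⊞ Q)) := mono_comp _ _
  exact mono_of_mono_fac (kpF_ι β γ)

lemma epi_kpG (hex : (ShortComplex.mk γ π hγπ).Exact) : Epi (kpG β γ π hγπ) := by
  rw [epi_iff_surjective_up_to_refinements]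
  intro T y
  have h1 : (y ≫ kernel.ι (β ≫ π) ≫ β) ≫ π = 0 := by
    simp only [Category.assoc]
    rw [kernel.condition, comp_zero]
  obtain ⟨T', ρ, hρ, z, hz⟩ := hex.exact_up_to_refinements _ h1
  change ρ ≫ y ≫ kernel.ι (β ≫ π) ≫ β = z ≫ γ at hz
  have h2 : biprod.lift (ρ ≫ y ≫ kernel.ι (β ≫ π)) (-z) ≫ kpMap β γ = 0 := by
    rw [comp_kpMap, biprod.lift_fst, biprod.lift_snd, Preadditive.neg_comp]
    simp only [Category.assoc]
    rw [hz, add_neg_cancel]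
  refine ⟨T', ρ, hρ, kernel.lift _ _ h2, ?_⟩
  apply (cancel_mono (kernel.ι (β ≫ π))).mp
  simp only [Category.assoc, kpG_ι, kernel.lift_ι_assoc, biprod.lift_fst]

/-- `ker γ ⟶ ker (β, γ) ⟶ ker (β ≫ π)`. -/
noncomputable def kerPairSC : ShortComplex 𝒜 :=
  ShortComplex.mk (kpF β γ) (kpG β γ π hγπ) (kpF_kpG β γ π hγπ)

theorem shortExact_kerPair (hex : (ShortComplex.mk γ π hγπ).Exact) :
    (kerPairSC β γ π hγπ).ShortExact := by
  have hex' : (kerPairSC β γ π hγπ).Exact := by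
    rw [ShortComplex.exact_iff_exact_up_to_refinements]
    intro T (x₂ : T ⟶ kernel (kpMap β γ)) (hx₂ : x₂ ≫ kpG β γ π hγπ = 0)
    have h3 : (x₂ ≫ kernel.ι (kpMap β γ)) ≫ biprod.fst = 0 := by
      have := hx₂ =≫ kernel.ι (β ≫ π)
      rw [Category.assoc, kpG_ι, zero_comp, ← Category.assoc] at this
      exact this
    have h4 : x₂ ≫ kernel.ι (kpMap β γ) =
        ((x₂ ≫ kernel.ι (kpMap β γ)) ≫ biprod.snd) ≫ biprod.inr := by
      ext
      · simp only [Category.assoc, biprod.inr_fst, comp_zero]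
        simpa only [Category.assoc] using h3
      · simp
    have h5 : ((x₂ ≫ kernel.ι (kpMap β γ)) ≫ biprod.snd) ≫ γ = 0 := by
      have h6 : (x₂ ≫ kernel.ι (kpMap β γ)) ≫ kpMap β γ = 0 := by
        rw [Category.assoc, kernel.condition, comp_zero]
      rw [comp_kpMap, h3, zero_comp, zero_add] at h6
      exact h6
    refine ⟨T, 𝟙 T, inferInstance, kernel.lift γ _ h5, ?_⟩
    change 𝟙 T ≫ x₂ = kernel.lift γ _ h5 ≫ kpF β γ
    apply (cancel_mono (kernel.ι (kpMap β γ))).mp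
    rw [Category.id_comp, Category.assoc, kpF_ι, kernel.lift_ι_assoc]
    exact h4
  exact ShortComplex.ShortExact.mk' hex' (inferInstanceAs (Mono (kpF β γ)))
    (epi_kpG β γ π hγπ hex)

end KerPair

section Mod

open Groth.Agent.Lib.Helper17.Hyp Groth.Agent.R2.H41.TypeASpec Groth.Agent.R2.H41.AbLemmas
  Groth.Agent.R2.H41.TypeAS Groth.Agent.R2.H41.TypeA16

variable {C : Type u} [SmallCategory C] {J : GrothendieckTopology C}
  (O : Sheaf J CommRingCat.{u}) (B : Set C)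

lemma isFG_of_isZero {Z : ModSite.Mod O} (hZ : IsZero Z) : IsFG O B Z := by
  refine ⟨Empty, inferInstance, Empty.elim, 0, fun i => i.elim, ?_⟩
  constructor
  intro W a b _
  exact hZ.eq_of_src _ _

lemma isFG_of_isFP {F : ModSite.Mod O} (hF : IsFP O B F) : IsFG O B F := by
  obtain ⟨ι, hι, U, p, hU, hp, -⟩ := hF
  exact ⟨ι, hι, U, p, hU, hp⟩

lemma isFP_of_iso {F G : ModSite.Mod O} (e : F ≅ G) (hF : IsFP O B F) : IsFP O B G := by
  obtain ⟨ι, hι, U, p, hU, hp, hk⟩ := hF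
  exact ⟨ι, hι, U, p ≫ e.hom, hU, epi_comp _ _,
    isFG_of_iso O B (kernelCompMono p e.hom).symm hk⟩

lemma isFP_free (ι : Type) [hι : Fintype ι] (U : ι → C) (hU : ∀ i, U i ∈ B) :
    IsFP O B (∐ fun i => (fr O).obj (U i)) :=
  ⟨ι, hι, U, 𝟙 _, hU, inferInstance,
    isFG_of_isZero O B (isZero_kernel_of_mono (𝟙 (∐ fun i => (fr O).obj (U i))))⟩

/-- the quotient of a finitely presented module by a finitely generated one is finitely
presented. -/
lemma isFP_quot (p15 : Pkg15.{u}) (hB₁ : HB1 J B) (hB₂ : HB2 J B)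
    (S : ShortComplex (ModSite.Mod O)) (hS : S.ShortExact) (h₂ : IsFP O B S.X₂)
    (h₁ : IsFG O B S.X₁) : IsFP O B S.X₃ := by
  obtain ⟨ι, hι, U, p, hU, hp⟩ := h₁
  haveI := hι
  haveI := hp
  have h := p15 O B hB₁ hB₂ (p ≫ S.f) (isFP_free O B ι U hU) h₂
  haveI := hS.epi_g
  have e : cokernel (p ≫ S.f) ≅ S.X₃ :=
    cokernelEpiComp p S.f ≪≫
      IsColimit.coconePointUniqueUpToIso (colimit.isColimit _) hS.exact.gIsCokernel
  exact isFP_of_iso O B e h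

/-- **Pkg17**: kernels of maps of finitely presented modules, assuming kernels of maps of finite
free modules are finitely presented. -/
theorem pkg17 (r : PkgR.{u}) (s : PkgS.{u}) (p15 : Pkg15.{u}) : Pkg17.{u} := by
  intro C _ _ J O B hB₁ hB₂ hB₃ H F G α hF hG
  obtain ⟨ιF, hιF, UF, πF, hUF, hπF, -⟩ := id hF
  obtain ⟨ιG, hιG, UG, πG, hUG, hπG, hkG⟩ := hG
  haveI := hιF
  haveI := hιG
  obtain ⟨ιQ, hιQ, VQ, ε, hVQ, hε⟩ := hkG
  haveI := hιQ
  have hR : ∀ i : ιF, ∃ (N : ℕ) (W : Fin N → C) (g : ∀ k, W k ⟶ UF i)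
      (b : ∀ k, (fr O).obj (W k) ⟶ ∐ fun i => (fr O).obj (UG i)),
      (∀ k, W k ∈ B) ∧ Sieve.ofArrows W g ∈ J (UF i) ∧
        ∀ k, b k ≫ πG = (fr O).map (g k) ≫ Sigma.ι (fun i => (fr O).obj (UF i)) i ≫ πF ≫ α :=
    fun i => r O B hB₁ hB₂ πG (UF i) (hUF i) (Sigma.ι (fun i => (fr O).obj (UF i)) i ≫ πF ≫ α)
  choose N W g b hW hg hb using hR
  haveI hc : Epi (refMap O ιF UF N W g) := epi_refMap O ιF UF N W g hg
  haveI hcπ : Epi (refMap O ιF UF N W g ≫ πF) := epi_comp _ _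
  let β : (∐ fun y : (Σ i, Fin (N i)) => (fr O).obj (W y.1 y.2)) ⟶ ∐ fun i => (fr O).obj (UG i) :=
    Sigma.desc (fun y => b y.1 y.2)
  have hβ : β ≫ πG = (refMap O ιF UF N W g ≫ πF) ≫ α := by
    apply Sigma.hom_ext
    intro y
    dsimp only [β, refMap]
    rw [Sigma.ι_desc_assoc, Category.assoc, Sigma.ι_desc_assoc, hb, Category.assoc]
  have hγπ : (ε ≫ kernel.ι πG) ≫ πG = 0 := by simp
  have SES1 := shortExact_kerPair β (ε ≫ kernel.ι πG) πG hγπ (exact_of_epi_to_kernel πG ε)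
  have hFGγ : IsFG O B (kernel (ε ≫ kernel.ι πG)) :=
    isFG_of_isFP O B (H ιG ιQ VQ UG (ε ≫ kernel.ι πG) hVQ hUG)
  -- `ker (β, γ)` is finitely presented
  let V : (Σ i, Fin (N i)) ⊕ ιQ → C := Sum.elim (fun y => W y.1 y.2) VQ
  have hV : ∀ z, V z ∈ B := by
    rintro (y | j)
    · exact hW y.1 y.2
    · exact hVQ j
  let e : (∐ fun z => (fr O).obj (V z)) ≅
      (∐ fun y : (Σ i, Fin (N i)) => (fr O).obj (W y.1 y.2)) ⊞ (∐ fun j => (fr O).obj (VQ j)) :=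
    sumIso (fun z => (fr O).obj (V z))
  have hFPφ : IsFP O B (kernel (kpMap β (ε ≫ kernel.ι πG))) :=
    isFP_of_iso O B (kernelIsIsoComp e.hom (kpMap β (ε ≫ kernel.ι πG)))
      (H ιG _ V UG (e.hom ≫ kpMap β (ε ≫ kernel.ι πG)) hV hUG)
  have h3 : IsFP O B (kernel (β ≫ πG)) := isFP_quot O B p15 hB₁ hB₂ _ SES1 hFPφ hFGγ
  rw [hβ] at h3
  have SES2 := shortExact_kerComp (refMap O ιF UF N W g ≫ πF) α
  have hFG2 : IsFG O B (kernel (refMap O ιF UF N W g ≫ πF)) :=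
    s O B hB₁ hB₂ hB₃ F hF (Σ i, Fin (N i)) (fun y => W y.1 y.2) _ (fun y => hW y.1 y.2)
      inferInstance
  exact isFP_quot O B p15 hB₁ hB₂ _ SES2 h3 hFG2

end Mod

end Groth.Agent.R2.H41.TypeA17
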