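import Groth.Agent.R2.H41TypeAS

/-!
# helper41: PROJ:typeA — `pkgK` (Čech: the kernel of a refinement map is finitely generated)
-/

set_option autoImplicit false
universe w v u
open CategoryTheory CategoryTheory.Limits Opposite

namespace Groth.Agent.R2.H41.TypeAK

section Ab

variable {𝒜 : Type u} [Category.{v} 𝒜] [Abelian 𝒜] {D A P : 𝒜} (d : D ⟶ A) (c : A ⟶ P)

/-- if every `t` killing `d` factors through `c`, then `D ⟶ ker c` is epi. -/
lemma epi_kernel_lift_of_factor (hdc : d ≫ c = 0)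
    (hfac : ∃ s : P ⟶ cokernel d, c ≫ s = cokernel.π d) : Epi (kernel.lift c d hdc) := by
  obtain ⟨s, hs⟩ := hfac
  rw [epi_iff_surjective_up_to_refinements]
  intro T y
  have h1 : (y ≫ kernel.ι c) ≫ cokernel.π d = 0 := by
    rw [← hs, Category.assoc, kernel.condition_assoc, zero_comp, comp_zero]
  obtain ⟨T', ρ, hρ, x, hx⟩ := (ShortComplex.exact_cokernel d).exact_up_to_refinements _ h1
  change ρ ≫ y ≫ kernel.ι c = x ≫ d at hx
  refine ⟨T', ρ, hρ, x, ?_⟩
  apply (cancel_mono (kernel.ι c)).mp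
  rw [Category.assoc, Category.assoc, kernel.lift_ι, hx]

end Ab

section K

open Groth.Agent.Lib.Helper17.Hyp Groth.Agent.R2.H41.TypeASpec Groth.Agent.R2.H41.TypeAS

/-- **PkgK** (Čech). -/
theorem pkgK (gl : PkgG.{u}) (cv : PkgC.{u}) : PkgK.{u} := by
  intro C _ _ J O B hB₁ hB₂ hB₃ ι _ U N W g hU hW hg
  change IsFG O B (kernel (refMap O ι U N W g))
  have hP : ∀ (i : ι) (kk : Fin (N i) × Fin (N i)), ∃ (M : ℕ) (Z : Fin M → C)
      (z : ∀ l, Z l ⟶ pullback (g i kk.1) (g i kk.2)), (∀ l, Z l ∈ B) ∧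
        Sieve.ofArrows Z z ∈ J (pullback (g i kk.1) (g i kk.2)) :=
    fun i kk => cv J B hB₁ _ (hB₃ (U i) (W i kk.1) (W i kk.2) (g i kk.1) (g i kk.2) (hU i)
      (hW i kk.1) (hW i kk.2))
  choose M Z z hZ hz using hP
  let T : Type := Σ i, Σ kk : Fin (N i) × Fin (N i), Fin (M i kk)
  let ZT : T → C := fun t => Z t.1 t.2.1 t.2.2
  let d : (∐ fun t : T => (fr O).obj (ZT t)) ⟶
      ∐ fun x : (Σ i, Fin (N i)) => (fr O).obj (W x.1 x.2) :=
    Sigma.desc (fun t : T =>
      (fr O).map (z t.1 t.2.1 t.2.2 ≫ pullback.fst _ _) ≫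
        Sigma.ι (fun x : (Σ i, Fin (N i)) => (fr O).obj (W x.1 x.2)) ⟨t.1, t.2.1.1⟩ -
      (fr O).map (z t.1 t.2.1 t.2.2 ≫ pullback.snd _ _) ≫
        Sigma.ι (fun x : (Σ i, Fin (N i)) => (fr O).obj (W x.1 x.2)) ⟨t.1, t.2.1.2⟩)
  have hdι : ∀ t : T, Sigma.ι (fun t : T => (fr O).obj (ZT t)) t ≫ d =
      (fr O).map (z t.1 t.2.1 t.2.2 ≫ pullback.fst _ _) ≫
        Sigma.ι (fun x : (Σ i, Fin (N i)) => (fr O).obj (W x.1 x.2)) ⟨t.1, t.2.1.1⟩ -
      (fr O).map (z t.1 t.2.1 t.2.2 ≫ pullback.snd _ _) ≫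
        Sigma.ι (fun x : (Σ i, Fin (N i)) => (fr O).obj (W x.1 x.2)) ⟨t.1, t.2.1.2⟩ := by
    intro t
    dsimp only [d]
    rw [Sigma.ι_desc]
  have hcι : ∀ x : (Σ i, Fin (N i)),
      Sigma.ι (fun x : (Σ i, Fin (N i)) => (fr O).obj (W x.1 x.2)) x ≫ refMap O ι U N W g =
        (fr O).map (g x.1 x.2) ≫ Sigma.ι (fun i => (fr O).obj (U i)) x.1 := by
    intro x
    dsimp only [refMap]
    rw [Sigma.ι_desc]
  have hdc : d ≫ refMap O ι U N W g = 0 := by
    apply Sigma.hom_ext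
    intro t
    rw [← Category.assoc, hdι, Preadditive.sub_comp, Category.assoc, Category.assoc, hcι, hcι,
      comp_zero, ← Functor.map_comp_assoc, ← Functor.map_comp_assoc, Category.assoc,
      Category.assoc, pullback.condition, sub_self]
  have hfac : ∀ (Mo : ModSite.Mod O)
      (t : (∐ fun x : (Σ i, Fin (N i)) => (fr O).obj (W x.1 x.2)) ⟶ Mo), d ≫ t = 0 →
      ∃ s : (∐ fun i => (fr O).obj (U i)) ⟶ Mo, refMap O ι U N W g ≫ s = t := by
    intro Mo t ht
    have hs : ∀ i, ∃ s : (fr O).obj (U i) ⟶ Mo, ∀ k, (fr O).map (g i k) ≫ s =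
        Sigma.ι (fun x : (Σ i, Fin (N i)) => (fr O).obj (W x.1 x.2)) ⟨i, k⟩ ≫ t := by
      intro i
      apply gl O Mo (U i) (Fin (N i)) (W i) (g i) (hg i)
        (fun k => Sigma.ι (fun x : (Σ i, Fin (N i)) => (fr O).obj (W x.1 x.2)) ⟨i, k⟩ ≫ t)
      intro k k' Y a b hab
      rw [← sub_eq_zero]
      apply (locFr_frModR (J := J) (ModSite.ringSh O)).sep Y _
        ((Sieve.ofArrows (Z i (k, k')) (z i (k, k'))).pullback (pullback.lift a b hab))
        (J.pullback_stable _ (hz i (k, k')))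
      intro V f hf
      change Sieve.ofArrows (Z i (k, k')) (z i (k, k')) (f ≫ pullback.lift a b hab) at hf
      cases hf with
      | intro Y' hY' =>
        obtain ⟨e, b', hb', hab'⟩ := hY'
        cases hb' with
        | mk l =>
          have ha : f ≫ a = e ≫ z i (k, k') l ≫ pullback.fst _ _ := by
            rw [← Category.assoc e, hab', Category.assoc, pullback.lift_fst]
          have hb : f ≫ b = e ≫ z i (k, k') l ≫ pullback.snd _ _ := by
            rw [← Category.assoc e, hab', Category.assoc, pullback.lift_snd]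
          have key := hdι ⟨i, ⟨(k, k'), l⟩⟩
          have h0 : (fr O).map e ≫ (Sigma.ι (fun t : T => (fr O).obj (ZT t)) ⟨i, ⟨(k, k'), l⟩⟩ ≫ d)
              ≫ t = 0 := by
            rw [Category.assoc, ht, comp_zero, comp_zero]
          rw [key, Preadditive.sub_comp, Preadditive.comp_sub] at h0
          rw [Preadditive.comp_sub, ← Functor.map_comp_assoc, ← Functor.map_comp_assoc, ha, hb]
          simpa only [Functor.map_comp, Category.assoc] using h0
    choose s hs using hs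
    refine ⟨Sigma.desc s, ?_⟩
    apply Sigma.hom_ext
    intro x
    rw [← Category.assoc, hcι, Category.assoc, Sigma.ι_desc, hs]
  haveI : Epi (kernel.lift (refMap O ι U N W g) d hdc) :=
    epi_kernel_lift_of_factor d _ hdc (hfac _ (cokernel.π d) (cokernel.condition d))
  exact isFG_of_epi O B (kernel.lift (refMap O ι U N W g) d hdc)
    (isFG_free O B T ZT (fun t => hZ t.1 t.2.1 t.2.2))

end K

end Groth.Agent.R2.H41.TypeAK
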