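import Groth.Agent.R2.H86TypeAX

/-!
# PROJ:typeA — package Pkg15 (helper86): cokernels of maps of finitely presented modules are f.p.
-/

set_option autoImplicit false
universe u v w
open CategoryTheory CategoryTheory.Limits Opposite

namespace Groth.Agent.R2.H86.TypeA15

open Groth.Agent.R2.H41.TypeASpec Groth.Agent.Lib.Helper17.Hyp

section Abelian

variable {A : Type v} [Category.{w} A] [Abelian A] {P G Q : A} (p : P ⟶ G) (q : G ⟶ Q)

/-- `ker p ⟶ ker (p ≫ q)` -/
noncomputable def kf : kernel p ⟶ kernel (p ≫ q) :=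
  kernel.lift (p ≫ q) (kernel.ι p) (by rw [← Category.assoc, kernel.condition, zero_comp])

/-- `ker (p ≫ q) ⟶ ker q` -/
noncomputable def kg : kernel (p ≫ q) ⟶ kernel q :=
  kernel.lift q (kernel.ι (p ≫ q) ≫ p) (by rw [Category.assoc, kernel.condition])

@[reassoc (attr := simp)]
lemma kf_ι : kf p q ≫ kernel.ι (p ≫ q) = kernel.ι p := kernel.lift_ι _ _ _

@[reassoc (attr := simp)]
lemma kg_ι : kg p q ≫ kernel.ι q = kernel.ι (p ≫ q) ≫ p := kernel.lift_ι _ _ _

lemma kf_kg : kf p q ≫ kg p q = 0 := by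
  rw [← cancel_mono (kernel.ι q), Category.assoc, kg_ι, kf_ι_assoc, kernel.condition, zero_comp]

/-- `0 ⟶ ker p ⟶ ker (p ≫ q) ⟶ ker q ⟶ 0` is short exact for `p` epi. -/
theorem shortExact_kernel_comp [Epi p] :
    (ShortComplex.mk (kf p q) (kg p q) (kf_kg p q)).ShortExact := by
  have hmono : Mono (kf p q) := mono_of_mono_fac (kf_ι p q)
  have hepi : Epi (kg p q) := by
    rw [epi_iff_surjective_up_to_refinements]
    intro T y
    obtain ⟨T', π, hπ, x, hx⟩ := surjective_up_to_refinements_of_epi p (y ≫ kernel.ι q)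
    have hx0 : x ≫ p ≫ q = 0 := by
      rw [← Category.assoc, ← hx, Category.assoc, Category.assoc, kernel.condition, comp_zero,
        comp_zero]
    refine ⟨T', π, hπ, kernel.lift (p ≫ q) x hx0, ?_⟩
    rw [← cancel_mono (kernel.ι q), Category.assoc, Category.assoc, kg_ι, kernel.lift_ι_assoc, hx]
  have hex : (ShortComplex.mk (kf p q) (kg p q) (kf_kg p q)).Exact := by
    rw [ShortComplex.exact_iff_exact_up_to_refinements]
    intro T x₂ hx₂
    have h0 : (x₂ ≫ kernel.ι (p ≫ q)) ≫ p = 0 := by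
      have := congrArg (fun t => t ≫ kernel.ι q) hx₂
      simpa using this
    refine ⟨T, 𝟙 T, inferInstance, kernel.lift p (x₂ ≫ kernel.ι (p ≫ q)) h0, ?_⟩
    rw [Category.id_comp, ← cancel_mono (kernel.ι (p ≫ q))]
    simp
  exact ShortComplex.ShortExact.mk' hex hmono hepi

end Abelian

theorem pkg15 (x : PkgX.{u}) : Pkg15.{u} := by
  intro C _ J O B hB₁ hB₂ F G α hF hG
  obtain ⟨ιF, hιF, UF, pF, hUF, hpF, _⟩ := hF
  obtain ⟨ιG, hιG, UG, pG, hUG, hpG, hKG⟩ := hG
  refine ⟨ιG, hιG, UG, pG ≫ cokernel.π α, hUG, epi_comp _ _, ?_⟩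
  have hS := shortExact_kernel_comp pG (cokernel.π α)
  refine x O B hB₁ hB₂ _ hS hKG ?_
  -- `ker (coker.π α) = image α` is a quotient of `F`
  have : Epi (Abelian.factorThruImage α) := inferInstance
  exact Groth.Agent.R2.H86.TypeAX.isFG_of_epi O B (Abelian.factorThruImage α)
    ⟨ιF, hιF, UF, pF, hUF, hpF⟩

end Groth.Agent.R2.H86.TypeA15
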