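import Groth.Agent.R2.H41TypeASpec

/-!
# PROJ:typeA — package PkgC (helper86): a quasi-compact object has a finite covering family by
members of `B`.
-/

set_option autoImplicit false
universe u
open CategoryTheory CategoryTheory.Limits Opposite

namespace Groth.Agent.R2.H86.TypeAC

open Groth.Agent.R2.H41.TypeASpec

/-- reindexing a family of arrows along a surjection does not change the generated sieve. -/
theorem ofArrows_reindex {C : Type u} [SmallCategory C] {X : C} {κ κ' : Type*} (Yf : κ → C)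
    (gf : ∀ k, Yf k ⟶ X) (σ : κ' → κ) (hσ : Function.Surjective σ) :
    Sieve.ofArrows (fun k' => Yf (σ k')) (fun k' => gf (σ k')) = Sieve.ofArrows Yf gf := by
  ext V f
  constructor
  · rintro ⟨Z, a, _, ⟨k'⟩, hak⟩
    exact ⟨_, a, _, ⟨σ k'⟩, hak⟩
  · rintro ⟨Z, a, _, ⟨k⟩, hak⟩
    obtain ⟨k', rfl⟩ := hσ k
    exact ⟨_, a, _, (Presieve.ofArrows.mk k' :
      Presieve.ofArrows (fun k' => Yf (σ k')) (fun k' => gf (σ k')) (gf (σ k'))), hak⟩

theorem pkgC (q : PkgQ.{u}) : PkgC.{u} := by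
  intro C _ J B hB₁ X hX
  obtain ⟨κ, Y, g, hcov, hYB⟩ := hB₁ X
  obtain ⟨t, ht⟩ := q J X hX κ Y g hcov
  let e : t ≃ Fin t.card := t.equivFin
  refine ⟨t.card, fun k => Y (e.symm k).1, fun k => g (e.symm k).1, fun k => hYB _, ?_⟩
  have := ofArrows_reindex (fun k : t => Y k.1) (fun k : t => g k.1) e.symm e.symm.surjective
  rw [this]
  exact ht

end Groth.Agent.R2.H86.TypeAC
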