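import Groth.Agent.R2.H41TypeASpec

/-!
# PROJ:typeA — package PkgG (helper86): gluing maps `fr (W k) ⟶ M` along a covering family.
-/

set_option autoImplicit false
universe u
open CategoryTheory CategoryTheory.Limits Opposite

namespace Groth.Agent.R2.H86.TypeAG

open Groth.Agent.R2.H41.TypeASpec Groth.Agent.Lib.Helper17.Hyp

variable {C : Type u} [SmallCategory C] {J : GrothendieckTopology C}

/-- gluing sections of a sheaf of modules along a covering family. -/
theorem exists_glue (O : Sheaf J CommRingCat.{u}) (M : ModSite.Mod O) (U : C) (κ : Type)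
    (W : κ → C) (g : ∀ k, W k ⟶ U) (hcov : Sieve.ofArrows W g ∈ J U)
    (m : ∀ k, M.val.obj (op (W k)))
    (hm : ∀ (k k' : κ) (Z : C) (a : Z ⟶ W k) (b : Z ⟶ W k'), a ≫ g k = b ≫ g k' →
      (M.val.map a.op).hom (m k) = (M.val.map b.op).hom (m k')) :
    ∃ x : M.val.obj (op U), ∀ k, (M.val.map (g k).op).hom x = m k := by
  have h1 : Presheaf.IsSheaf J (M.val.presheaf ⋙ forget AddCommGrpCat.{u}) :=
    (Presheaf.isSheaf_iff_isSheaf_forget J M.val.presheaf (forget AddCommGrpCat.{u})).mp M.isSheaf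
  have h2 : Presieve.IsSheaf J (M.val.presheaf ⋙ forget AddCommGrpCat.{u}) :=
    (isSheaf_iff_isSheaf_of_type J _).mp h1
  have h3 : Presieve.IsSheafFor (M.val.presheaf ⋙ forget AddCommGrpCat.{u})
      (Presieve.ofArrows W g) := by
    rw [Presieve.isSheafFor_iff_generate]
    exact h2 _ hcov
  rw [Presieve.isSheafFor_arrows_iff] at h3
  obtain ⟨x, hx, -⟩ := h3 (fun k => m k) (fun k k' Z a b hab => hm k k' Z a b hab)
  exact ⟨x, hx⟩

theorem pkgG (n : PkgN.{u}) : PkgG.{u} := by
  intro C _ J O M U κ W g hcov t ht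
  obtain ⟨x, hx⟩ := exists_glue O M U κ W g hcov (fun k => secEquiv O M (W k) (t k)) (by
    intro k k' Z a b hab
    rw [← n O M a (t k), ← n O M b (t k'), ht k k' Z a b hab])
  refine ⟨(secEquiv O M U).symm x, fun k => ?_⟩
  apply (secEquiv O M (W k)).injective
  rw [n O M (g k), Equiv.apply_symm_apply]
  exact hx k

end Groth.Agent.R2.H86.TypeAG
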