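import Groth.Agent.R2.H41TypeASpec
import Groth.Agent.Lib.Helper17Hyp14

/-!
# PROJ:typeA — package PkgX (helper86): extensions of finitely generated modules are f.g.
-/

set_option autoImplicit false
universe u
open CategoryTheory CategoryTheory.Limits Opposite

namespace Groth.Agent.R2.H86.TypeAX

open Groth.Agent.R2.H41.TypeASpec Groth.Agent.Lib.Helper17.Hyp

/-- a quotient of a finitely generated module is finitely generated. -/
theorem isFG_of_epi {C : Type u} [SmallCategory C] {J : GrothendieckTopology C}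
    (O : Sheaf J CommRingCat.{u}) (B : Set C) {F F' : ModSite.Mod O} (e : F ⟶ F') [Epi e]
    (hF : IsFG O B F) : IsFG O B F' := by
  obtain ⟨ι, hι, U, p, hU, hp⟩ := hF
  exact ⟨ι, hι, U, p ≫ e, hU, epi_comp p e⟩

theorem pkgX (r : PkgR.{u}) : PkgX.{u} := by
  intro C _ J O B hB₁ hB₂ S hS h₁ h₃
  obtain ⟨ι₁, hι₁, U₁, p₁, hU₁, hp₁⟩ := h₁
  obtain ⟨ι₃, hι₃, U₃, p₃, hU₃, hp₃⟩ := h₃
  have : Epi S.g := hS.epi_g
  -- local lifts of the generators of `X₃`
  have hlift := fun i : ι₃ => r O B hB₁ hB₂ S.g (U₃ i) (hU₃ i) (Sigma.ι (fun i => (fr O).obj (U₃ i)) i ≫ p₃)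
  choose N W g b hWB hcov hb using hlift
  let κ : Type := ι₁ ⊕ (Σ i : ι₃, Fin (N i))
  let U : κ → C := Sum.elim U₁ (fun x => W x.1 x.2)
  let q : ∀ j : κ, (fr O).obj (U j) ⟶ S.X₂ := fun j =>
    match j with
    | Sum.inl i => Sigma.ι (fun i => (fr O).obj (U₁ i)) i ≫ p₁ ≫ S.f
    | Sum.inr x => b x.1 x.2
  let p : (∐ fun j => (fr O).obj (U j)) ⟶ S.X₂ := Sigma.desc q
  have hUB : ∀ j, U j ∈ B := by
    rintro (i | x)
    · exact hU₁ i
    · exact hWB x.1 x.2
  refine ⟨κ, inferInstance, U, p, hUB, ?_⟩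
  -- `p` is an epimorphism: its cokernel projection vanishes
  apply Abelian.epi_of_cokernel_π_eq_zero
  have hpc : ∀ j : κ, q j ≫ cokernel.π p = 0 := by
    intro j
    have h1 : Sigma.ι (fun j => (fr O).obj (U j)) j ≫ p = q j := Sigma.ι_desc _ _
    rw [← h1, Category.assoc, cokernel.condition, comp_zero]
  -- `S.f ≫ c = 0`
  have hf : S.f ≫ cokernel.π p = 0 := by
    rw [← cancel_epi p₁]
    apply Sigma.hom_ext
    intro i
    have h2 := hpc (Sum.inl i)
    change (Sigma.ι (fun i => (fr O).obj (U₁ i)) i ≫ p₁ ≫ S.f) ≫ cokernel.π p = 0 at h2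
    simp only [comp_zero]
    simpa only [Category.assoc] using h2
  -- factor through `S.g`
  have hex : S.Exact := hS.exact
  obtain ⟨c', hc'⟩ : ∃ c' : S.X₃ ⟶ cokernel p, S.g ≫ c' = cokernel.π p :=
    ⟨hex.desc (cokernel.π p) hf, hex.g_desc _ _⟩
  have hc'0 : c' = 0 := by
    rw [← cancel_epi p₃]
    apply Sigma.hom_ext
    intro i
    simp only [comp_zero]
    rw [← Category.assoc]
    apply (locFr_frModR (ModSite.ringSh O)).sep (U₃ i) _ _ (hcov i)
    intro V f hf'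
    obtain ⟨Z, a, _, ⟨k⟩, hak⟩ := hf'
    rw [← hak, Functor.map_comp, Category.assoc, ← Category.assoc ((fr O).map (g i k)),
      ← hb i k, Category.assoc, hc']
    have := hpc (Sum.inr ⟨i, k⟩)
    change b i k ≫ cokernel.π p = 0 at this
    rw [this, comp_zero]
  rw [← hc', hc'0, comp_zero]

end Groth.Agent.R2.H86.TypeAX
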