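import Groth.Agent.R2.H41TypeASpec

/-!
# helper88: PROJ:typeA package `PkgR` (local lifting with finite refinement by members of `B`)

`pkgR (q : PkgQ) : PkgR`: for an epi `p : G' ⟶ G`, `U ∈ B` and `s : fr U ⟶ G` there is a FINITE
covering family `W k ⟶ U` by members of `B` together with lifts `b k : fr (W k) ⟶ G'` of the
restrictions of `s`.  Route: `LocFr.lift` gives a covering sieve of local lifts, refine every arrow
of that sieve by a `B`-cover (`HB1`), transitivity, then `PkgQ` (quasi-compactness of `U`).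
-/

set_option autoImplicit false
universe u
open CategoryTheory CategoryTheory.Limits Opposite

namespace Groth.Agent.R2.H88.TypeAR

open Groth.Agent.R2.H41.TypeASpec Groth.Agent.Lib.Helper17.Hyp

variable {C : Type u} [SmallCategory C]

/-- a sieve generated by a family is below `S` iff all members of the family are in `S`. -/
lemma ofArrows_le_iff {U : C} {ι : Type*} (W : ι → C) (g : ∀ k, W k ⟶ U) (S : Sieve U) :
    Sieve.ofArrows W g ≤ S ↔ ∀ k, S (g k) := by
  constructor
  · intro h k
    exact h _ (Sieve.ofArrows_mk W g k)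
  · intro h
    rw [Sieve.ofArrows, Sieve.generate_le_iff]
    rintro Z f ⟨k⟩
    exact h k

/-- reindexing a covering family along a surjection keeps it covering. -/
lemma ofArrows_comp_mem {J : GrothendieckTopology C} {U : C} {ι ι' : Type*} (W : ι → C)
    (g : ∀ k, W k ⟶ U) (e : ι' → ι) (he : Function.Surjective e)
    (h : Sieve.ofArrows W g ∈ J U) :
    Sieve.ofArrows (fun k => W (e k)) (fun k => g (e k)) ∈ J U := by
  refine J.superset_covering ?_ h
  rw [ofArrows_le_iff]
  intro k
  obtain ⟨k', rfl⟩ := he k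
  exact Sieve.ofArrows_mk (fun k => W (e k)) (fun k => g (e k)) k'

theorem pkgR (q : PkgQ.{u}) : PkgR.{u} := by
  intro C _ J O B hB1 hB2 G' G p _ U hU s
  obtain ⟨T, hT, hlift⟩ := (locFr_frModR (ModSite.ringSh O)).lift p U s
  choose κ Y gY hcov hYB using hB1
  choose s' hs' using hlift
  -- the big index type
  let K : Type u := Σ (V : C) (f : V ⟶ U), PLift (T f) × κ V
  let W' : K → C := fun x => Y x.1 x.2.2.2
  let g' : ∀ x : K, W' x ⟶ U := fun x => gY x.1 x.2.2.2 ≫ x.2.1
  have hcov' : Sieve.ofArrows W' g' ∈ J U := by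
    refine J.transitive hT _ ?_
    intro V f hf
    refine J.superset_covering ?_ (hcov V)
    rw [ofArrows_le_iff]
    intro k
    change (Sieve.ofArrows W' g') (gY V k ≫ f)
    exact Sieve.ofArrows_mk W' g' (⟨V, f, ⟨hf⟩, k⟩ : K)
  obtain ⟨t, ht⟩ := q J U (hB2 U hU) K W' g' hcov'
  let e : Fin (Fintype.card t) ≃ t := (Fintype.equivFin t).symm
  refine ⟨Fintype.card t, fun k => W' (e k).1, fun k => g' (e k).1,
    fun k => (fr O).map (gY (e k).1.1 (e k).1.2.2.2) ≫ s' (e k).1.2.1 (e k).1.2.2.1.down,
    fun k => hYB _ _, ?_, ?_⟩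
  · exact ofArrows_comp_mem (fun k : t => W' k.1) (fun k => g' k.1) e e.surjective ht
  · intro k
    rw [Category.assoc, hs', ← Category.assoc, ← Functor.map_comp]

end Groth.Agent.R2.H88.TypeAR
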