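import Mathlib
import Groth.Agent.R2.H41TypeASpec

/-!
# helper94: PROJ:typeA, PkgN

Naturality of `Helper17Hyp26.secEquiv` in the object.
-/

set_option autoImplicit false
universe u
open CategoryTheory CategoryTheory.Limits Opposite

namespace Groth.Agent.R2.H94.TypeAN

open Groth.Agent.Lib.Helper17.Hyp Groth.Agent.R2.H41.TypeASpec
open Groth.Agent.Lib.Helper21 Groth.Agent.Lib.Helper21.FreeAb Groth.Agent.Lib.Helper21.TorsFree

theorem pkgN : Groth.Agent.R2.H41.TypeASpec.PkgN.{u} := by
  intro C _ J O M X Y g h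
  change CohFree.evalGen J Y (ModSite.toAb M)
      ((freeShRAdj (ModSite.ringSh O)).homEquiv ((frSh J).obj Y) M
        ((freeShR (ModSite.ringSh O)).map ((frSh J).map g) ≫ h)) = _
  rw [Adjunction.homEquiv_naturality_left]
  exact CohFree.evalGen_freeSheafMap_comp J g (ModSite.toAb M) _

end Groth.Agent.R2.H94.TypeAN
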