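import Groth.Agent.R2.H41TypeAAsm
import Groth.Agent.R2.H41TypeA14
import Groth.Agent.R2.H41TypeA17
import Groth.Agent.R2.H41TypeAK
import Groth.Agent.R2.H86TypeAX
import Groth.Agent.R2.H86TypeA15
import Groth.Agent.R2.H86TypeAC
import Groth.Agent.R2.H86TypeAG
import Groth.Agent.R2.H94TypeAQ
import Groth.Agent.R2.H94TypeAN
import Groth.Agent.R2.H88TypeAR
import Groth.Agent.R2.H32TypeAConv

/-!
# helper41: PROJ:typeA — all packages assembled
-/

set_option autoImplicit false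
universe u

namespace Groth.Agent.R2.H41.TypeAFinal

open Groth.Agent.R2.H41.TypeASpec

theorem q : PkgQ.{u} := Groth.Agent.R2.H94.TypeAQ.pkgQ
theorem n : PkgN.{u} := Groth.Agent.R2.H94.TypeAN.pkgN
theorem r : PkgR.{u} := Groth.Agent.R2.H88.TypeAR.pkgR q
theorem g : PkgG.{u} := Groth.Agent.R2.H86.TypeAG.pkgG n
theorem c : PkgC.{u} := Groth.Agent.R2.H86.TypeAC.pkgC q
theorem x : PkgX.{u} := Groth.Agent.R2.H86.TypeAX.pkgX r
theorem k : PkgK.{u} := Groth.Agent.R2.H41.TypeAK.pkgK g c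
theorem s : PkgS.{u} := Groth.Agent.R2.H41.TypeAS.pkgS r k x
theorem p15 : Pkg15.{u} := Groth.Agent.R2.H86.TypeA15.pkg15 x
theorem p16 : Pkg16.{u} := Groth.Agent.R2.H41.TypeA16.pkg16 r s x
theorem p17 : Pkg17.{u} := Groth.Agent.R2.H41.TypeA17.pkg17 r s p15
theorem conv : PkgConv.{u} := Groth.Agent.R2.H32.TypeAConv.pkgConv
theorem pH : PkgH.{u} := Groth.Agent.R2.H32.TypeAConv.pkgH

end Groth.Agent.R2.H41.TypeAFinal
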