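import Groth.Agent.R2.H41TypeASpec
import Groth.Agent.R2.H41AbLemmas

/-!
# helper41: PROJ:typeA — basic `IsFG` lemmas and `pkgS` (Schanuel)
-/

set_option autoImplicit false
universe u
open CategoryTheory CategoryTheory.Limits Opposite

namespace Groth.Agent.R2.H41.TypeAS

open Groth.Agent.Lib.Helper17.Hyp Groth.Agent.R2.H41.TypeASpec Groth.Agent.R2.H41.AbLemmas

variable {C : Type u} [SmallCategory C] {J : GrothendieckTopology C}
  (O : Sheaf J CommRingCat.{u}) (B : Set C)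

lemma isFG_of_epi {F G : ModSite.Mod O} (q : F ⟶ G) [Epi q] (hF : IsFG O B F) : IsFG O B G := by
  obtain ⟨ι, hι, U, p, hU, hp⟩ := hF
  exact ⟨ι, hι, U, p ≫ q, hU, epi_comp _ _⟩

lemma isFG_of_iso {F G : ModSite.Mod O} (e : F ≅ G) (hF : IsFG O B F) : IsFG O B G :=
  isFG_of_epi O B e.hom hF

lemma isFG_free (ι : Type) [hι : Fintype ι] (U : ι → C) (hU : ∀ i, U i ∈ B) :
    IsFG O B (∐ fun i => (fr O).obj (U i)) :=
  ⟨ι, hι, U, 𝟙 _, hU, inferInstance⟩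

/-- the refinement map `⊕_{i,k} fr (W i k) ⟶ ⊕_i fr (U i)`. -/
noncomputable def refMap (ι : Type) (U : ι → C) (N : ι → ℕ) (W : ∀ i, Fin (N i) → C)
    (g : ∀ i k, W i k ⟶ U i) :
    (∐ fun x : (Σ i, Fin (N i)) => (fr O).obj (W x.1 x.2)) ⟶ ∐ fun i => (fr O).obj (U i) :=
  Sigma.desc (fun x : (Σ i, Fin (N i)) =>
    (fr O).map (g x.1 x.2) ≫ Sigma.ι (fun i => (fr O).obj (U i)) x.1)

lemma epi_refMap (ι : Type) (U : ι → C) (N : ι → ℕ) (W : ∀ i, Fin (N i) → C)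
    (g : ∀ i k, W i k ⟶ U i) (hg : ∀ i, Sieve.ofArrows (W i) (g i) ∈ J (U i)) :
    Epi (refMap O ι U N W g) := by
  constructor
  intro Z h₁ h₂ h
  rw [← sub_eq_zero]
  have h0 : refMap O ι U N W g ≫ (h₁ - h₂) = 0 := by
    rw [Preadditive.comp_sub, h, sub_self]
  generalize h₁ - h₂ = d at h0
  apply Sigma.hom_ext
  intro i
  rw [comp_zero]
  apply (locFr_frModR (J := J) (ModSite.ringSh O)).sep (U i) _ _ (hg i)
  intro V f hf
  cases hf with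
  | intro Y hY =>
    obtain ⟨a, b', hb', hab⟩ := hY
    cases hb' with
    | mk k =>
      rw [← hab, Functor.map_comp, Category.assoc]
      have : (fr O).map (g i k) ≫ Sigma.ι (fun i => (fr O).obj (U i)) i ≫ d =
          Sigma.ι (fun x : (Σ i, Fin (N i)) => (fr O).obj (W x.1 x.2)) ⟨i, k⟩ ≫
            refMap O ι U N W g ≫ d := by
        dsimp only [refMap]
        rw [Sigma.ι_desc_assoc, Category.assoc]
      erw [this, h0, comp_zero]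

/-- **PkgS** (Schanuel). -/
theorem pkgS (r : PkgR.{u}) (k : PkgK.{u}) (x : PkgX.{u}) : PkgS.{u} := by
  intro C _ _ J O B hB₁ hB₂ hB₃ F hF ι _ U p hU hp
  obtain ⟨ι₀, hι₀, U₀, π, hU₀, hπ, hker⟩ := hF
  haveI := hι₀
  have hR : ∀ i : ι₀, ∃ (N : ℕ) (W : Fin N → C) (g : ∀ k, W k ⟶ U₀ i)
      (b : ∀ k, (fr O).obj (W k) ⟶ ∐ fun i => (fr O).obj (U i)),
      (∀ k, W k ∈ B) ∧ Sieve.ofArrows W g ∈ J (U₀ i) ∧
        ∀ k, b k ≫ p = (fr O).map (g k) ≫ Sigma.ι (fun i => (fr O).obj (U₀ i)) i ≫ π :=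
    fun i => r O B hB₁ hB₂ p (U₀ i) (hU₀ i) (Sigma.ι (fun i => (fr O).obj (U₀ i)) i ≫ π)
  choose N W g b hW hg hb using hR
  haveI hc : Epi (refMap O ι₀ U₀ N W g) := epi_refMap O ι₀ U₀ N W g hg
  let bb : (∐ fun x : (Σ i, Fin (N i)) => (fr O).obj (W x.1 x.2)) ⟶ ∐ fun i => (fr O).obj (U i) :=
    Sigma.desc (fun x => b x.1 x.2)
  have hbb : bb ≫ p = refMap O ι₀ U₀ N W g ≫ π := by
    apply Sigma.hom_ext
    intro y
    dsimp only [bb, refMap]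
    rw [Sigma.ι_desc_assoc, Sigma.ι_desc_assoc, hb, Category.assoc]
  have h1 : IsFG O B (kernel (refMap O ι₀ U₀ N W g ≫ π)) :=
    x O B hB₁ hB₂ (kerCompSC (refMap O ι₀ U₀ N W g) π) (shortExact_kerComp _ π)
      (k O B hB₁ hB₂ hB₃ ι₀ U₀ N W g hU₀ hW hg) hker
  haveI : Epi (refMap O ι₀ U₀ N W g ≫ π) := epi_comp _ _
  have h2 : IsFG O B ((∐ fun x : (Σ i, Fin (N i)) => (fr O).obj (W x.1 x.2)) ⊞ kernel p) :=
    x O B hB₁ hB₂ (schanuelSC p (refMap O ι₀ U₀ N W g ≫ π) bb hbb)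
      (shortExact_schanuel p _ bb hbb) h1 (isFG_free O B ι U hU)
  exact isFG_of_epi O B biprod.snd h2

end Groth.Agent.R2.H41.TypeAS
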