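import Mathlib

/-!
Helper library (helper42): local structure of unramified / etale local homomorphisms that are
essentially of finite type, reduced to Mathlib's `Algebra.IsUnramifiedAt.exists_hasStandardEtaleSurjectionOn`
and `Algebra.IsEtaleAt.exists_isStandardEtale`.
-/

set_option autoImplicit false
set_option linter.unusedSectionVars false
universe u

namespace Groth.Agent.R2.H42.EtLocal

open IsLocalRing TensorProduct

section

variable (A B : Type u) [CommRing A] [CommRing B] [Algebra A B] [IsLocalRing B]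
  [Algebra.EssFiniteType A B]

/-- The prime of the chosen finite-type subalgebra lying under the maximal ideal. -/
noncomputable abbrev q0 : Ideal (Algebra.EssFiniteType.subalgebra A B) :=
  (maximalIdeal B).comap (algebraMap (Algebra.EssFiniteType.subalgebra A B) B)

instance : (q0 A B).IsPrime := Ideal.comap_isPrime _ _

theorem primeCompl_q0 : (q0 A B).primeCompl = Algebra.EssFiniteType.submonoid A B := by
  ext x
  simp only [Ideal.mem_primeCompl_iff, Ideal.mem_comap, mem_maximalIdeal, mem_nonunits_iff,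
    not_not, Algebra.EssFiniteType.submonoid, Submonoid.mem_comap]
  rfl

instance isLocalizationAtPrime_q0 : IsLocalization.AtPrime B (q0 A B) := by
  unfold IsLocalization.AtPrime
  rw [primeCompl_q0]
  infer_instance

end

section General

variable {A : Type u} [CommRing A] {T : Type u} [CommRing T] [Algebra A T]
  {B : Type u} [CommRing B] [Algebra A B] [IsLocalRing B] (ψ : T →ₐ[A] B)

/-- the prime of `T` under the maximal ideal of the local ring `B`. -/
noncomputable def primeUnder : Ideal T := (maximalIdeal B).comap ψ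

instance primeUnder_isPrime : (primeUnder ψ).IsPrime := Ideal.comap_isPrime _ _

theorem mem_primeCompl_primeUnder_iff (t : T) :
    t ∈ (primeUnder ψ).primeCompl ↔ IsUnit (ψ t) := by
  simp [primeUnder, Ideal.mem_primeCompl_iff]

/-- the induced map from the localization at `primeUnder ψ`. -/
noncomputable def locHom : Localization.AtPrime (primeUnder ψ) →ₐ[A] B :=
  IsLocalization.liftAlgHom (M := (primeUnder ψ).primeCompl) (f := ψ)
    (by
      rintro ⟨x, hx⟩
      exact (mem_primeCompl_primeUnder_iff ψ x).mp hx)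

theorem locHom_mk' (t : T) (s : (primeUnder ψ).primeCompl) :
    locHom ψ (IsLocalization.mk' _ t s) * ψ s = ψ t := by
  have := (IsLocalization.lift_mk'_spec (M := (primeUnder ψ).primeCompl)
    (S := Localization.AtPrime (primeUnder ψ)) (g := (ψ : T →+* B))
    (hg := fun y => (mem_primeCompl_primeUnder_iff ψ y).mp y.2) t
    (locHom ψ (IsLocalization.mk' _ t s)) s).mp (by simp [locHom, IsLocalization.liftAlgHom_apply])
  rw [mul_comm]
  exact this.symm

theorem locHom_surjective
    (h : ∀ b : B, ∃ t₁ t₂ : T, IsUnit (ψ t₂) ∧ b * ψ t₂ = ψ t₁) :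
    Function.Surjective (locHom ψ) := by
  intro b
  obtain ⟨t₁, t₂, hu, hb⟩ := h b
  refine ⟨IsLocalization.mk' _ t₁ ⟨t₂, (mem_primeCompl_primeUnder_iff ψ t₂).mpr hu⟩, ?_⟩
  have := locHom_mk' ψ t₁ ⟨t₂, (mem_primeCompl_primeUnder_iff ψ t₂).mpr hu⟩
  exact hu.mul_right_cancel (this.trans hb.symm)

theorem locHom_injective
    (h : ∀ t : T, ψ t = 0 → ∃ t' : T, IsUnit (ψ t') ∧ t' * t = 0) :
    Function.Injective (locHom ψ) := by
  rw [injective_iff_map_eq_zero]
  intro x hx
  obtain ⟨t, s, rfl⟩ := IsLocalization.exists_mk'_eq (primeUnder ψ).primeCompl x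
  have h1 := locHom_mk' ψ t s
  rw [hx, zero_mul] at h1
  obtain ⟨t', hu, ht'⟩ := h t h1.symm
  rw [IsLocalization.mk'_eq_zero_iff]
  exact ⟨⟨t', (mem_primeCompl_primeUnder_iff ψ t').mpr hu⟩, ht'⟩

end General

section Away

variable {A : Type u} [CommRing A] {S₀ : Type u} [CommRing S₀] [Algebra A S₀]
  (B : Type u) [CommRing B] [Algebra A B] [Algebra S₀ B] [IsScalarTower A S₀ B]
  (q₀ : Ideal S₀) [q₀.IsPrime] [IsLocalization.AtPrime B q₀]
  (f : S₀) (hf : f ∉ q₀)

include hf in
theorem isUnit_algebraMap_of_notMem : IsUnit (algebraMap S₀ B f) :=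
  IsLocalization.map_units B (⟨f, hf⟩ : q₀.primeCompl)

/-- `S₀[1/f] → B`. -/
noncomputable def awayToB : Localization.Away f →ₐ[A] B :=
  IsLocalization.liftAlgHom (M := Submonoid.powers f) (f := IsScalarTower.toAlgHom A S₀ B)
    (by
      rintro ⟨_, n, rfl⟩
      simpa using (isUnit_algebraMap_of_notMem B q₀ f hf).pow n)

@[simp]
theorem awayToB_algebraMap (x : S₀) :
    awayToB B q₀ f hf (A := A) (algebraMap S₀ (Localization.Away f) x) = algebraMap S₀ B x := by
  simp [awayToB]

theorem awayToB_surj_cond (b : B) :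
    ∃ y₁ y₂ : Localization.Away f, IsUnit (awayToB B q₀ f hf (A := A) y₂) ∧
      b * awayToB B q₀ f hf (A := A) y₂ = awayToB B q₀ f hf (A := A) y₁ := by
  obtain ⟨x, ⟨s, hs⟩, rfl⟩ := IsLocalization.exists_mk'_eq q₀.primeCompl b
  refine ⟨algebraMap _ _ x, algebraMap _ _ s, ?_, ?_⟩
  · rw [awayToB_algebraMap]
    exact IsLocalization.map_units B (⟨s, hs⟩ : q₀.primeCompl)
  · rw [awayToB_algebraMap, awayToB_algebraMap]
    exact IsLocalization.mk'_spec B x ⟨s, hs⟩

theorem awayToB_inj_cond (y : Localization.Away f) (hy : awayToB B q₀ f hf (A := A) y = 0) :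
    ∃ y' : Localization.Away f, IsUnit (awayToB B q₀ f hf (A := A) y') ∧ y' * y = 0 := by
  obtain ⟨x, ⟨_, n, rfl⟩, rfl⟩ := IsLocalization.exists_mk'_eq (Submonoid.powers f) y
  have h1 : algebraMap S₀ B x = 0 := by
    have := IsLocalization.mk'_spec (M := Submonoid.powers f) (Localization.Away f) x
      ⟨f ^ n, n, rfl⟩
    have h2 := congrArg (awayToB B q₀ f hf (A := A)) this
    rw [map_mul, hy, zero_mul, awayToB_algebraMap] at h2
    exact h2.symm
  obtain ⟨⟨s, hs⟩, hsx⟩ := (IsLocalization.map_eq_zero_iff q₀.primeCompl B x).mp h1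
  refine ⟨algebraMap _ _ s, ?_, ?_⟩
  · rw [awayToB_algebraMap]
    exact IsLocalization.map_units B (⟨s, hs⟩ : q₀.primeCompl)
  · rw [← IsLocalization.mk'_one (M := Submonoid.powers f) (Localization.Away f) s,
      ← IsLocalization.mk'_mul, IsLocalization.mk'_eq_zero_iff]
    exact ⟨1, by simpa using hsx⟩

end Away


section Main

variable (A B : Type u) [CommRing A] [CommRing B] [IsLocalRing A] [IsLocalRing B] [Algebra A B]
  [IsLocalHom (algebraMap A B)] [Algebra.EssFiniteType A B]

theorem isUnramifiedAt_q0 [Algebra.FormallyUnramified A B] : Algebra.IsUnramifiedAt A (q0 A B) := by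
  unfold Algebra.IsUnramifiedAt
  exact Algebra.FormallyUnramified.of_equiv
    ((IsLocalization.algEquiv (q0 A B).primeCompl B (Localization.AtPrime (q0 A B))).restrictScalars A)

theorem exists_quotient_of_formallyUnramified [Algebra.FormallyUnramified A B] :
    ∃ (P : StandardEtalePair A) (𝔮 : Ideal P.Ring) (_ : 𝔮.IsPrime) (I : Ideal (Localization.AtPrime 𝔮)),
      Nonempty (B ≃ₐ[A] (Localization.AtPrime 𝔮 ⧸ I)) := by
  have := isUnramifiedAt_q0 A B
  obtain ⟨f, hf, P, φ, hφ⟩ :=
    Algebra.IsUnramifiedAt.exists_hasStandardEtaleSurjectionOn (R := A) (q0 A B)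
  let ψ : P.Ring →ₐ[A] B := (awayToB B (q0 A B) f hf).comp φ
  have hsurj : Function.Surjective (locHom ψ) := by
    apply locHom_surjective
    intro b
    obtain ⟨y₁, y₂, hu, hb⟩ := awayToB_surj_cond (A := A) B (q0 A B) f hf b
    obtain ⟨t₁, rfl⟩ := hφ y₁
    obtain ⟨t₂, rfl⟩ := hφ y₂
    exact ⟨t₁, t₂, hu, hb⟩
  exact ⟨P, primeUnder ψ, inferInstance, RingHom.ker (locHom ψ),
    ⟨(Ideal.quotientKerAlgEquivOfSurjective hsurj).symm⟩⟩

end Main

section MainEtale

variable (A B : Type u) [CommRing A] [CommRing B] [IsLocalRing A] [IsLocalRing B] [Algebra A B]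
  [IsLocalHom (algebraMap A B)] [Algebra.EssFiniteType A B]

theorem formallyEtale_of_flat [IsNoetherianRing A] [Module.Flat A B] [Algebra.FormallyUnramified A B] :
    Algebra.FormallyEtale A B := by
  have : Algebra.FinitePresentation A (Algebra.EssFiniteType.subalgebra A B) :=
    Algebra.FinitePresentation.of_finiteType.mp inferInstance
  have : Algebra.FormallyEtale (ResidueField A) (ResidueField A ⊗[A] B) :=
    Algebra.FormallyEtale.of_formallyUnramified_of_field _ _
  have : Algebra.FormallySmooth A B :=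
    Algebra.FormallySmooth.of_formallySmooth_residueField_tensor (R := A) (S := B)
      (P := Algebra.EssFiniteType.subalgebra A B) (Algebra.EssFiniteType.submonoid A B)
  exact Algebra.FormallyEtale.of_formallyUnramified_and_formallySmooth

theorem exists_equiv_of_formallyEtale [IsNoetherianRing A] [Algebra.FormallyEtale A B] :
    ∃ (P : StandardEtalePair A) (𝔮 : Ideal P.Ring) (_ : 𝔮.IsPrime),
      Nonempty (B ≃ₐ[A] Localization.AtPrime 𝔮) := by
  have : Algebra.FinitePresentation A (Algebra.EssFiniteType.subalgebra A B) :=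
    Algebra.FinitePresentation.of_finiteType.mp inferInstance
  have : Algebra.IsEtaleAt A (q0 A B) := by
    unfold Algebra.IsEtaleAt
    exact Algebra.FormallyEtale.of_equiv
      ((IsLocalization.algEquiv (q0 A B).primeCompl B (Localization.AtPrime (q0 A B))).restrictScalars A)
  obtain ⟨f, hf, hstd⟩ := Algebra.IsEtaleAt.exists_isStandardEtale (R := A) (q0 A B)
  obtain ⟨Pr⟩ := hstd.nonempty_standardEtalePresentation
  let φ : Pr.P.Ring →ₐ[A] Localization.Away f := Pr.equivRing.symm.toAlgHom
  have hφs : Function.Surjective φ := Pr.equivRing.symm.surjective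
  have hφi : Function.Injective φ := Pr.equivRing.symm.injective
  let ψ : Pr.P.Ring →ₐ[A] B := (awayToB B (q0 A B) f hf).comp φ
  have hsurj : Function.Surjective (locHom ψ) := by
    apply locHom_surjective
    intro b
    obtain ⟨y₁, y₂, hu, hb⟩ := awayToB_surj_cond (A := A) B (q0 A B) f hf b
    obtain ⟨t₁, rfl⟩ := hφs y₁
    obtain ⟨t₂, rfl⟩ := hφs y₂
    exact ⟨t₁, t₂, hu, hb⟩
  have hinj : Function.Injective (locHom ψ) := by
    apply locHom_injective
    intro t ht
    obtain ⟨y', hu, hy'⟩ := awayToB_inj_cond (A := A) B (q0 A B) f hf (φ t) ht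
    obtain ⟨t', rfl⟩ := hφs y'
    refine ⟨t', hu, hφi ?_⟩
    rw [map_mul, hy', map_zero]
  exact ⟨Pr.P, primeUnder ψ, inferInstance, ⟨(AlgEquiv.ofBijective (locHom ψ) ⟨hinj, hsurj⟩).symm⟩⟩

end MainEtale


end Groth.Agent.R2.H42.EtLocal
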