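import Mathlib
import Groth.Prelude.Def_KZero
import Groth.Agent.Lib.Helper5HilbertSerre

/-!
# `K'₀`-valued Hilbert–Serre (helper42)

For a graded module over a graded ring generated in degree one by finitely many elements, the class
`[M_n]` in the Grothendieck group of finite modules over the base ring is eventually a numerical
polynomial.  Adapted from `Lib/Helper5HilbertSerre` (which treats lengths).
-/

set_option autoImplicit false
set_option linter.style.haveILetI false
universe u v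

namespace Groth.Agent.R2.H42.K0Hilb

open CategoryTheory KZero

section K0

variable (A : Type u) [CommRing A]

/-- finite modules -/
abbrev FP : ObjectProperty (ModuleCat.{u} A) := fun X => Module.Finite A X

/-- the class of a module in `K'₀(A)`. -/
noncomputable def cls (X : Type u) [AddCommGroup X] [Module A X] : K0sub (FP A) :=
  clSub (FP A) (ModuleCat.of A X)

variable {A}

lemma FP_of (X : Type u) [AddCommGroup X] [Module A X] [Module.Finite A X] :
    FP A (ModuleCat.of A X) := (inferInstance : Module.Finite A X)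

lemma cls_of (X : Type u) [AddCommGroup X] [Module A X] [Module.Finite A X] :
    cls A X = QuotientAddGroup.mk (FreeAbelianGroup.of ⟨ModuleCat.of A X, FP_of X⟩) := by
  unfold cls clSub
  rw [dif_pos (FP_of X)]

lemma cls_add {X₁ X₂ X₃ : Type u} [AddCommGroup X₁] [Module A X₁] [AddCommGroup X₂] [Module A X₂]
    [AddCommGroup X₃] [Module A X₃] [Module.Finite A X₁] [Module.Finite A X₂] [Module.Finite A X₃]
    (f : X₁ →ₗ[A] X₂) (g : X₂ →ₗ[A] X₃) (hf : Function.Injective f) (hg : Function.Surjective g)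
    (hex : Function.Exact f g) :
    cls A X₂ = cls A X₁ + cls A X₃ := by
  rw [cls_of, cls_of, cls_of, ← sub_eq_zero, ← sub_sub, ← QuotientAddGroup.mk_sub,
    ← QuotientAddGroup.mk_sub, QuotientAddGroup.eq_zero_iff]
  apply AddSubgroup.subset_closure
  have eq0 : g.comp f = 0 := hex.linearMap_comp_eq_zero
  refine ⟨ModuleCat.shortComplexOfCompEqZero f g eq0, FP_of X₁, FP_of X₂, FP_of X₃, ?_, rfl⟩
  exact ModuleCat.shortComplex_shortExact _ hex hf hg

lemma cls_subsingleton (X : Type u) [AddCommGroup X] [Module A X] [Subsingleton X] :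
    cls A X = 0 := by
  have : Finite X := Finite.of_subsingleton
  have : Module.Finite A X := Module.Finite.of_finite
  have h := cls_add (A := A) (LinearMap.id : X →ₗ[A] X) (0 : X →ₗ[A] X) Function.injective_id
    (fun y => ⟨y, Subsingleton.elim _ _⟩)
    (fun y => ⟨fun _ => ⟨y, rfl⟩, fun _ => Subsingleton.elim _ _⟩)
  exact (add_eq_left.mp h.symm)

lemma cls_equiv {X Y : Type u} [AddCommGroup X] [Module A X] [AddCommGroup Y] [Module A Y]
    [Module.Finite A X] [Module.Finite A Y]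
    (e : X ≃ₗ[A] Y) : cls A X = cls A Y := by
  have h := cls_add (A := A) (0 : PUnit.{u+1} →ₗ[A] X) e.toLinearMap
    (fun a b _ => Subsingleton.elim _ _) e.surjective
    (fun y => ⟨fun hy => ⟨0, by
      have : y = 0 := e.injective (by rw [map_zero]; exact hy)
      rw [this]; rfl⟩, fun ⟨a, ha⟩ => by
      rw [← ha]; simp⟩)
  rw [cls_subsingleton PUnit.{u+1}, zero_add] at h
  exact h

end K0

section NumPoly

variable {K : Type*} [AddCommGroup K]

/-- eventually a numerical polynomial of degree `< j`. -/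
def IsNumPoly (j : ℕ) (a : ℕ → K) : Prop :=
  ∃ (c : ℕ → K) (N : ℕ), ∀ n, N ≤ n → a n = ∑ i ∈ Finset.range j, ((n.choose i : ℕ) : ℤ) • c i

lemma IsNumPoly.of_eventually_zero {a : ℕ → K} (N : ℕ) (h : ∀ n, N ≤ n → a n = 0) :
    IsNumPoly 0 a :=
  ⟨fun _ => 0, N, fun n hn => by simp [h n hn]⟩

lemma IsNumPoly.sub {j : ℕ} {a b : ℕ → K} (ha : IsNumPoly j a) (hb : IsNumPoly j b) :
    IsNumPoly j (fun n => a n - b n) := by
  obtain ⟨c, N, hc⟩ := ha
  obtain ⟨c', N', hc'⟩ := hb
  refine ⟨fun i => c i - c' i, max N N', fun n hn => ?_⟩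
  change a n - b n = _
  rw [hc n (le_trans (le_max_left _ _) hn), hc' n (le_trans (le_max_right _ _) hn),
    ← Finset.sum_sub_distrib]
  exact Finset.sum_congr rfl fun i _ => (smul_sub _ _ _).symm

lemma IsNumPoly.shift {j : ℕ} {a : ℕ → K} (ha : IsNumPoly j a) :
    IsNumPoly j (fun n => a (n + 1)) := by
  obtain ⟨c, N, hc⟩ := ha
  refine ⟨fun i => c i + (if i + 1 < j then c (i + 1) else 0), N, fun n hn => ?_⟩
  change a (n + 1) = _
  rw [hc (n + 1) (by omega)]
  simp only [smul_add, Finset.sum_add_distrib]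
  -- ∑_{i<j} C(n+1,i) c_i = ∑_{i<j} C(n,i) c_i + ∑_{i<j, i+1<j} C(n,i) c_{i+1}
  induction j with
  | zero => simp
  | succ j ih =>
    cases j with
    | zero => simp
    | succ j =>
      rw [Finset.sum_range_succ' (fun i => ((((n + 1).choose i : ℕ) : ℤ) • c i))]
      rw [Finset.sum_range_succ' (fun i => (((n.choose i : ℕ) : ℤ) • c i))]
      rw [Finset.sum_range_succ (fun i => ((n.choose i : ℕ) : ℤ) • if i + 1 < j + 1 + 1 then c (i + 1) else 0)]
      simp only [Nat.choose_zero_right, lt_self_iff_false, if_false, smul_zero, add_zero]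
      have h1 : ∀ i ∈ Finset.range (j + 1), (((n + 1).choose (i + 1) : ℕ) : ℤ) • c (i + 1)
          = ((n.choose i : ℕ) : ℤ) • c (i + 1) + ((n.choose (i + 1) : ℕ) : ℤ) • c (i + 1) := by
        intro i _
        rw [Nat.choose_succ_succ']
        push_cast
        rw [add_smul]
      rw [Finset.sum_congr rfl h1, Finset.sum_add_distrib]
      have h2 : ∀ i ∈ Finset.range (j + 1),
          (((n.choose i : ℕ) : ℤ) • if i + 1 < j + 1 + 1 then c (i + 1) else 0)
            = ((n.choose i : ℕ) : ℤ) • c (i + 1) := by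
        intro i hi
        rw [if_pos (by have := Finset.mem_range.mp hi; omega)]
      rw [Finset.sum_congr rfl h2]
      abel

lemma IsNumPoly.of_diff {j : ℕ} {a : ℕ → K} (h : IsNumPoly j (fun n => a (n + 1) - a n)) :
    IsNumPoly (j + 1) a := by
  obtain ⟨b, N, hb⟩ := h
  refine ⟨fun i => if i = 0 then a N - ∑ i ∈ Finset.range j, ((N.choose (i + 1) : ℕ) : ℤ) • b i
    else b (i - 1), N, ?_⟩
  have key : ∀ n, N ≤ n → a n = (a N - ∑ i ∈ Finset.range j, ((N.choose (i + 1) : ℕ) : ℤ) • b i)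
      + ∑ i ∈ Finset.range j, ((n.choose (i + 1) : ℕ) : ℤ) • b i := by
    intro n hn
    induction n, hn using Nat.le_induction with
    | base => abel
    | succ n hn ih =>
      have h1 : a (n + 1) = a n + (a (n + 1) - a n) := by abel
      have h2 := hb n hn
      simp only at h2
      rw [h1, h2, ih, add_assoc, ← Finset.sum_add_distrib]
      congr 1
      refine Finset.sum_congr rfl fun i _ => ?_
      rw [Nat.choose_succ_succ' n i]
      push_cast
      rw [add_smul, add_comm]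
  intro n hn
  rw [key n hn, Finset.sum_range_succ']
  simp only [Nat.add_eq_zero_iff, one_ne_zero, and_false, if_false, Nat.add_sub_cancel, if_true,
    Nat.choose_zero_right, Nat.cast_one, one_smul]
  abel

end NumPoly

section main

open Groth.Agent.Lib.Helper5.HilbertSerre

variable (A₀ : Type u) [CommRing A₀] (S : Type v) [CommRing S] [Algebra A₀ S] {d : ℕ}
  (x : Fin d → S)

/-- Hypotheses on a graded module killed by the variables of index `≥ j`. -/
structure GrHyp' (M : Type u) [AddCommGroup M] [Module S M] [Module A₀ M]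
    (ℳ : ℕ → Submodule A₀ M) (j : ℕ) : Prop where
  smul_mem : ∀ (i : Fin d) (n : ℕ) (v : M), v ∈ ℳ n → x i • v ∈ ℳ (n + 1)
  indep : iSupIndep ℳ
  top : (⨆ n, ℳ n) = ⊤
  kill : ∀ i : Fin d, j ≤ i.val → ∀ v : M, x i • v = 0

variable {A₀ S x}

theorem base (hgen : Algebra.adjoin A₀ (Set.range x) = ⊤)
    (M : Type u) [AddCommGroup M] [Module S M] [Module A₀ M] [IsScalarTower A₀ S M]
    [IsNoetherian S M] (ℳ : ℕ → Submodule A₀ M) (h : GrHyp' A₀ S x M ℳ 0) :
    (∀ n, IsNoetherian A₀ ↥(ℳ n)) ∧ IsNumPoly 0 (fun n => cls A₀ ↥(ℳ n)) := by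
  have hact : ∀ s : S, ∃ a : A₀, ∀ m : M, s • m = a • m := by
    intro s
    have hs : s ∈ Algebra.adjoin A₀ (Set.range x) := by rw [hgen]; trivial
    induction hs using Algebra.adjoin_induction with
    | mem y hy =>
      obtain ⟨i, rfl⟩ := hy
      exact ⟨0, fun m => by rw [h.kill i (Nat.zero_le _) m, zero_smul]⟩
    | algebraMap r => exact ⟨r, fun m => algebraMap_smul S r m⟩
    | add y z _ _ hy hz =>
      obtain ⟨a, ha⟩ := hy
      obtain ⟨b, hb⟩ := hz
      exact ⟨a + b, fun m => by rw [add_smul, add_smul, ha, hb]⟩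
    | mul y z _ _ hy hz =>
      obtain ⟨a, ha⟩ := hy
      obtain ⟨b, hb⟩ := hz
      exact ⟨a * b, fun m => by rw [mul_smul, mul_smul, hb, ha]⟩
  have hnoeth : IsNoetherian A₀ M := by
    rw [isNoetherian_def]
    intro N
    let N' : Submodule S M :=
      { carrier := N
        add_mem' := N.add_mem
        zero_mem' := N.zero_mem
        smul_mem' := by
          intro s v hv
          obtain ⟨a, ha⟩ := hact s
          rw [ha]
          exact N.smul_mem a hv }
    obtain ⟨F, hF⟩ := (isNoetherian_def.mp (inferInstance : IsNoetherian S M)) N'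
    refine ⟨F, le_antisymm ?_ ?_⟩
    · rw [Submodule.span_le]
      intro v hv
      have : v ∈ N' := by rw [← hF]; exact Submodule.subset_span hv
      exact this
    · intro v hv
      have hv' : v ∈ Submodule.span S (F : Set M) := by rw [hF]; exact hv
      induction hv' using Submodule.span_induction with
      | mem y hy => exact Submodule.subset_span hy
      | zero => exact Submodule.zero_mem _
      | add y z _ _ hy hz =>
        -- we cannot use membership in N here; redo with a stronger statement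
        exact Submodule.add_mem _ (hy (by
          have : y ∈ N' := by rw [← hF]; assumption
          exact this)) (hz (by
          have : z ∈ N' := by rw [← hF]; assumption
          exact this))
      | smul s y _ hy =>
        obtain ⟨a, ha⟩ := hact s
        rw [ha]
        exact Submodule.smul_mem _ _ (hy (by
          have : y ∈ N' := by rw [← hF]; assumption
          exact this))
  refine ⟨fun n => inferInstance, ?_⟩
  have hfinite : {n | ℳ n ≠ ⊥}.Finite := Submodule.finite_ne_bot_of_iSupIndep h.indep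
  obtain ⟨b, hb⟩ := hfinite.bddAbove
  refine IsNumPoly.of_eventually_zero (b + 1) fun n hn => ?_
  have hbot : ℳ n = ⊥ := by
    by_contra hne
    have : n ≤ b := hb hne
    omega
  have : Subsingleton ↥(ℳ n) := by rw [hbot]; infer_instance
  exact cls_subsingleton _

section step

variable {M : Type u} [AddCommGroup M] [Module S M] [Module A₀ M] [IsScalarTower A₀ S M]
  {ℳ : ℕ → Submodule A₀ M} {j : ℕ} (h : GrHyp' A₀ S x M ℳ (j + 1))
  {π : ℕ → M →ₗ[A₀] M} (hπ : IsProj ℳ π)
  (i₀ : Fin d) (hi₀ : i₀.val = j) (φ : M →ₗ[S] M) (hφ : ∀ v, φ v = x i₀ • v)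

include h hφ in
theorem phi_mem (n : ℕ) (v : M) (hv : v ∈ ℳ n) : (φ.restrictScalars A₀) v ∈ ℳ (n + 1) := by
  change φ v ∈ ℳ (n + 1)
  rw [hφ]
  exact h.smul_mem i₀ n v hv

include h hπ hφ in
theorem proj_mem_range (u : M) (hu : u ∈ LinearMap.range φ) (n : ℕ) :
    π n u ∈ LinearMap.range φ := by
  obtain ⟨t, rfl⟩ := hu
  have := proj_map_succ hπ (φ.restrictScalars A₀) (phi_mem h i₀ φ hφ) t
  cases n with
  | zero =>
    rw [show π 0 (φ t) = 0 from this.2]
    exact Submodule.zero_mem _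
  | succ n =>
    rw [show π (n + 1) (φ t) = φ (π n t) from this.1 n]
    exact ⟨_, rfl⟩

include h hπ hi₀ hφ in
theorem grHyp_ker :
    GrHyp' A₀ S x ↥(LinearMap.ker φ)
      (fun n => (ℳ n).comap ((LinearMap.ker φ).subtype.restrictScalars A₀)) j where
  smul_mem := by
    intro i n v hv
    exact h.smul_mem i n _ hv
  indep := by
    rw [iSupIndep_def]
    intro n
    rw [Submodule.disjoint_def]
    intro v hv1 hv2
    have h1 : (v : M) ∈ ℳ n := hv1
    have h2 : (v : M) ∈ ⨆ (m : ℕ) (_ : m ≠ n), ℳ m := by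
      have hm := Submodule.mem_map_of_mem
        (f := (LinearMap.ker φ).subtype.restrictScalars A₀) hv2
      simp_rw [Submodule.map_iSup] at hm
      exact (iSup₂_mono fun m _ => Submodule.map_comap_le _ _) hm
    have := Submodule.disjoint_def.1 ((iSupIndep_def.1 h.indep) n) (v : M) h1 h2
    exact Subtype.ext this
  top := by
    rw [eq_top_iff]
    intro v _
    obtain ⟨s, hs⟩ := hπ.sum (v : M)
    have hker : ∀ n, π n (v : M) ∈ LinearMap.ker φ := by
      intro n
      rw [LinearMap.mem_ker]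
      have := (proj_map_succ hπ (φ.restrictScalars A₀) (phi_mem h i₀ φ hφ) (v : M)).1 n
      have h0 : (φ.restrictScalars A₀) (v : M) = 0 := LinearMap.mem_ker.1 v.2
      rw [h0, map_zero] at this
      exact this.symm
    have hv : v = ∑ n ∈ s, (⟨π n (v : M), hker n⟩ : LinearMap.ker φ) := by
      apply Subtype.ext
      rw [Submodule.coe_sum]
      exact hs
    have hmem : (∑ n ∈ s, (⟨π n (v : M), hker n⟩ : LinearMap.ker φ)) ∈
        ⨆ n, (ℳ n).comap ((LinearMap.ker φ).subtype.restrictScalars A₀) := by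
      refine Submodule.sum_mem _ (fun n _ => ?_)
      refine Submodule.mem_iSup_of_mem n ?_
      exact hπ.mem n _
    rwa [← hv] at hmem
  kill := by
    intro i hji v
    apply Subtype.ext
    change x i • (v : M) = 0
    by_cases hi : i = i₀
    · rw [hi, ← hφ]
      exact LinearMap.mem_ker.1 v.2
    · have hne : i.val ≠ j := fun h' => hi (Fin.ext (h'.trans hi₀.symm))
      exact h.kill i (by omega) _

include h hπ hi₀ hφ in
theorem grHyp_coker :
    GrHyp' A₀ S x (M ⧸ LinearMap.range φ)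
      (fun n => (ℳ n).map ((LinearMap.range φ).mkQ.restrictScalars A₀)) j where
  smul_mem := by
    intro i n y hy
    obtain ⟨v, hv, rfl⟩ := hy
    exact ⟨x i • v, h.smul_mem i n v hv, rfl⟩
  indep := by
    rw [iSupIndep_def]
    intro n
    rw [Submodule.disjoint_def]
    intro y hy1 hy2
    obtain ⟨v, hv, rfl⟩ := hy1
    have hy2' : ((LinearMap.range φ).mkQ.restrictScalars A₀) v ∈
        (⨆ (m : ℕ) (_ : m ≠ n), ℳ m).map ((LinearMap.range φ).mkQ.restrictScalars A₀) := by
      simp_rw [Submodule.map_iSup]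
      exact hy2
    obtain ⟨w, hw, hwv⟩ := hy2'
    have hπw : π n w = 0 := by
      have hle : (⨆ (m : ℕ) (_ : m ≠ n), ℳ m) ≤ LinearMap.ker (π n) :=
        iSup₂_le fun m hm u hu => LinearMap.mem_ker.2 (hπ.ne n m u hu hm)
      exact LinearMap.mem_ker.1 (hle hw)
    have hsub : v - w ∈ LinearMap.range φ := by
      rw [← Submodule.Quotient.eq]
      exact hwv.symm
    have h3 : π n (v - w) ∈ LinearMap.range φ := proj_mem_range h hπ i₀ φ hφ _ hsub n
    rw [map_sub, hπw, sub_zero, hπ.same n v hv] at h3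
    exact (Submodule.Quotient.mk_eq_zero _).2 h3
  top := by
    rw [eq_top_iff]
    intro y hy0
    clear hy0
    obtain ⟨v, rfl⟩ := Submodule.mkQ_surjective _ y
    have hv : v ∈ ⨆ n, ℳ n := by rw [h.top]; trivial
    have := Submodule.mem_map_of_mem (f := (LinearMap.range φ).mkQ.restrictScalars A₀) hv
    rw [Submodule.map_iSup] at this
    exact this
  kill := by
    intro i hji y
    obtain ⟨v, rfl⟩ := Submodule.mkQ_surjective _ y
    by_cases hi : i = i₀
    · rw [← map_smul, hi, ← hφ]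
      exact (Submodule.Quotient.mk_eq_zero _).2 ⟨v, rfl⟩
    · have hne : i.val ≠ j := fun h' => hi (Fin.ext (h'.trans hi₀.symm))
      rw [← map_smul, h.kill i (by omega) v, map_zero]


include h hπ hφ in
theorem exists_maps :
    ∃ (ψ : ∀ n, ↥(ℳ n) →ₗ[A₀] ↥(ℳ (n + 1)))
      (γ : ∀ n, ↥(ℳ n) →ₗ[A₀] ↥((ℳ n).map ((LinearMap.range φ).mkQ.restrictScalars A₀)))
      (α : ∀ n, ↥((ℳ n).comap ((LinearMap.ker φ).subtype.restrictScalars A₀)) →ₗ[A₀] ↥(ℳ n)),
      (∀ n, Function.Surjective (γ n)) ∧ (∀ n, Function.Exact (ψ n) (γ (n + 1))) ∧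
      Function.Injective (γ 0) ∧ (∀ n, Function.Injective (α n)) ∧
      (∀ n, Function.Exact (α n) (ψ n)) := by
  have hφ' := phi_mem h i₀ φ hφ
  obtain ⟨ψ, hψ⟩ : ∃ ψ : ∀ n, ↥(ℳ n) →ₗ[A₀] ↥(ℳ (n + 1)),
      ∀ n (v : ↥(ℳ n)), ((ψ n v : ↥(ℳ (n + 1))) : M) = φ (v : M) :=
    ⟨fun n => (φ.restrictScalars A₀).restrict (hφ' n), fun n v => rfl⟩
  obtain ⟨γ, hγ⟩ : ∃ γ : ∀ n, ↥(ℳ n) →ₗ[A₀]
      ↥((ℳ n).map ((LinearMap.range φ).mkQ.restrictScalars A₀)),
      ∀ n (v : ↥(ℳ n)), ((γ n v : ↥((ℳ n).map ((LinearMap.range φ).mkQ.restrictScalars A₀))) :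
        M ⧸ LinearMap.range φ) = (LinearMap.range φ).mkQ (v : M) :=
    ⟨fun n => ((LinearMap.range φ).mkQ.restrictScalars A₀).restrict
      (fun v hv => Submodule.mem_map_of_mem hv), fun n v => rfl⟩
  obtain ⟨α, hα⟩ : ∃ α : ∀ n, ↥((ℳ n).comap ((LinearMap.ker φ).subtype.restrictScalars A₀)) →ₗ[A₀]
      ↥(ℳ n), ∀ n v, ((α n v : ↥(ℳ n)) : M) = ((v : LinearMap.ker φ) : M) :=
    ⟨fun n => LinearMap.codRestrict (ℳ n) (((LinearMap.ker φ).subtype.restrictScalars A₀) ∘ₗ
      ((ℳ n).comap ((LinearMap.ker φ).subtype.restrictScalars A₀)).subtype) (fun v => v.2),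
      fun n v => rfl⟩
  have hγsurj : ∀ n, Function.Surjective (γ n) := by
    intro n
    rintro ⟨y, v, hv, rfl⟩
    exact ⟨⟨v, hv⟩, Subtype.ext (hγ n _)⟩
  refine ⟨ψ, γ, α, hγsurj, ?_, ?_, ?_, ?_⟩
  · intro n y
    constructor
    · intro hy
      have h1 : (y : M) ∈ LinearMap.range φ := by
        have := congrArg Subtype.val hy
        rw [hγ] at this
        exact (Submodule.Quotient.mk_eq_zero _).1 this
      obtain ⟨t, ht⟩ := h1
      have h2 := (proj_map_succ hπ (φ.restrictScalars A₀) hφ' t).1 n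
      have h3 : (y : M) = φ (π n t) := by
        rw [← hπ.same (n + 1) (y : M) y.2, ← ht]
        exact h2
      refine ⟨⟨π n t, hπ.mem n t⟩, Subtype.ext ?_⟩
      rw [hψ, h3]
    · rintro ⟨t, rfl⟩
      apply Subtype.ext
      rw [hγ]
      change (LinearMap.range φ).mkQ ((ψ n t : ↥(ℳ (n + 1))) : M) = 0
      rw [hψ]
      exact (Submodule.Quotient.mk_eq_zero _).2 ⟨(t : M), rfl⟩
  · rw [injective_iff_map_eq_zero]
    intro y hy
    have h1 : (y : M) ∈ LinearMap.range φ := by
      have := congrArg Subtype.val hy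
      rw [hγ] at this
      exact (Submodule.Quotient.mk_eq_zero _).1 this
    obtain ⟨t, ht⟩ := h1
    have h2 := (proj_map_succ hπ (φ.restrictScalars A₀) hφ' t).2
    apply Subtype.ext
    rw [← hπ.same 0 (y : M) y.2, ← ht]
    exact h2
  · intro n a b hab
    have : ((a : LinearMap.ker φ) : M) = ((b : LinearMap.ker φ) : M) := by
      rw [← hα n a, ← hα n b, hab]
    exact Subtype.ext (Subtype.ext this)
  · intro n y
    constructor
    · intro hy
      have h1 : φ (y : M) = 0 := by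
        rw [← hψ n y, hy]
        rfl
      refine ⟨⟨⟨(y : M), LinearMap.mem_ker.2 h1⟩, y.2⟩, Subtype.ext ?_⟩
      rw [hα]
    · rintro ⟨v, rfl⟩
      apply Subtype.ext
      change ((ψ n (α n v) : ↥(ℳ (n + 1))) : M) = 0
      rw [hψ, hα]
      exact LinearMap.mem_ker.1 (v : LinearMap.ker φ).2

end step

/-- abstract consequence of the maps: Noetherianity and the `K₀`-relations. -/
theorem rel_of_maps {X K Q : ℕ → Type u} [∀ n, AddCommGroup (X n)] [∀ n, Module A₀ (X n)]
    [∀ n, AddCommGroup (K n)] [∀ n, Module A₀ (K n)] [∀ n, AddCommGroup (Q n)]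
    [∀ n, Module A₀ (Q n)]
    (ψ : ∀ n, X n →ₗ[A₀] X (n + 1)) (γ : ∀ n, X n →ₗ[A₀] Q n) (α : ∀ n, K n →ₗ[A₀] X n)
    (hγ : ∀ n, Function.Surjective (γ n)) (hex : ∀ n, Function.Exact (ψ n) (γ (n + 1)))
    (hγ0 : Function.Injective (γ 0)) (hα : ∀ n, Function.Injective (α n))
    (hex' : ∀ n, Function.Exact (α n) (ψ n))
    (hK : ∀ n, IsNoetherian A₀ (K n)) (hQ : ∀ n, IsNoetherian A₀ (Q n)) :
    (∀ n, IsNoetherian A₀ (X n)) ∧
      ∀ n, cls A₀ (X (n + 1)) - cls A₀ (X n) = cls A₀ (Q (n + 1)) - cls A₀ (K n) := by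
  have hX : ∀ n, IsNoetherian A₀ (X n) := by
    intro n
    induction n with
    | zero => exact isNoetherian_of_injective (γ 0) hγ0
    | succ n ih =>
      exact isNoetherian_of_range_eq_ker (ψ n) (γ (n + 1))
        ((LinearMap.exact_iff.mp (hex n)).symm)
  refine ⟨hX, fun n => ?_⟩
  have h1 : cls A₀ (X n) = cls A₀ (K n) + cls A₀ ↥(LinearMap.range (ψ n)) := by
    refine cls_add (α n) (ψ n).rangeRestrict (hα n) (LinearMap.surjective_rangeRestrict _) ?_
    intro y
    rw [← hex' n y]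
    constructor
    · intro hy
      exact congrArg Subtype.val hy
    · intro hy
      exact Subtype.ext hy
  have h2 : cls A₀ (X (n + 1)) = cls A₀ ↥(LinearMap.range (ψ n)) + cls A₀ (Q (n + 1)) := by
    refine cls_add (LinearMap.range (ψ n)).subtype (γ (n + 1)) (Submodule.subtype_injective _)
      (hγ (n + 1)) ?_
    intro y
    rw [hex n y]
    constructor
    · rintro ⟨t, rfl⟩
      exact ⟨⟨ψ n t, ⟨t, rfl⟩⟩, rfl⟩
    · rintro ⟨⟨_, ⟨t, rfl⟩⟩, rfl⟩
      exact ⟨t, rfl⟩
  rw [h1, h2]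
  abel

theorem step (j : ℕ) (hj : j < d)
    (IH : ∀ (M : Type u) [AddCommGroup M] [Module S M] [Module A₀ M] [IsScalarTower A₀ S M]
      [IsNoetherian S M] (ℳ : ℕ → Submodule A₀ M), GrHyp' A₀ S x M ℳ j →
      (∀ n, IsNoetherian A₀ ↥(ℳ n)) ∧ IsNumPoly j (fun n => cls A₀ ↥(ℳ n)))
    (M : Type u) [AddCommGroup M] [Module S M] [Module A₀ M] [IsScalarTower A₀ S M]
    [IsNoetherian S M] (ℳ : ℕ → Submodule A₀ M) (h : GrHyp' A₀ S x M ℳ (j + 1)) :
    (∀ n, IsNoetherian A₀ ↥(ℳ n)) ∧ IsNumPoly (j + 1) (fun n => cls A₀ ↥(ℳ n)) := by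
  obtain ⟨π, hπ⟩ := exists_proj ℳ h.indep h.top
  obtain ⟨φ, hφ⟩ : ∃ φ : M →ₗ[S] M, ∀ v, φ v = x ⟨j, hj⟩ • v :=
    ⟨LinearMap.lsmul S M (x ⟨j, hj⟩), fun v => rfl⟩
  have hK := grHyp_ker h hπ ⟨j, hj⟩ rfl φ hφ
  have hC := grHyp_coker h hπ ⟨j, hj⟩ rfl φ hφ
  obtain ⟨finK, polyK⟩ := IH ↥(LinearMap.ker φ) _ hK
  obtain ⟨finC, polyC⟩ := IH (M ⧸ LinearMap.range φ) _ hC
  obtain ⟨ψ, γ, α, h1, h2, h3, h4, h5⟩ := exists_maps h hπ ⟨j, hj⟩ φ hφ
  obtain ⟨hX, hrel⟩ := rel_of_maps ψ γ α h1 h2 h3 h4 h5 finK finC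
  refine ⟨hX, IsNumPoly.of_diff ?_⟩
  have : (fun n => cls A₀ ↥(ℳ (n + 1)) - cls A₀ ↥(ℳ n)) = fun n =>
      cls A₀ ↥((ℳ (n + 1)).map ((LinearMap.range φ).mkQ.restrictScalars A₀)) -
      cls A₀ ↥((ℳ n).comap ((LinearMap.ker φ).subtype.restrictScalars A₀)) := funext hrel
  rw [this]
  exact polyC.shift.sub polyK

/-- **Hilbert–Serre with values in `K'₀`**. -/
theorem main (hgen : Algebra.adjoin A₀ (Set.range x) = ⊤) :
    ∀ j, j ≤ d → ∀ (M : Type u) [AddCommGroup M] [Module S M] [Module A₀ M]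
      [IsScalarTower A₀ S M] [IsNoetherian S M] (ℳ : ℕ → Submodule A₀ M),
      GrHyp' A₀ S x M ℳ j →
      (∀ n, IsNoetherian A₀ ↥(ℳ n)) ∧ IsNumPoly j (fun n => cls A₀ ↥(ℳ n)) := by
  intro j
  induction j with
  | zero =>
    intro _ M _ _ _ _ _ ℳ h
    exact base hgen M ℳ h
  | succ j ih =>
    intro hj M _ _ _ _ _ ℳ h
    exact step j (by omega) (fun M' _ _ _ _ _ ℳ' h' => ih (by omega) M' ℳ' h') M ℳ h

end main

end Groth.Agent.R2.H42.K0Hilb
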