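import Mathlib
import Groth.Prelude.Def_RegImm
import Groth.Agent.S9366

set_option autoImplicit false
set_option linter.style.haveILetI false
universe u
open MvPolynomial TensorProduct

/-!
# Localising a presentation `R[x]/(F)` at an element: `S_g = R[x,y]/(F, hy - 1)`

`awayEquiv : Localization.Away (mk h) ≃ₐ[R] R[x_1..x_{n+1}]/(F, h x_{n+1} - 1)` and
`isRelGCI_plus`: the latter presentation is a relative global complete intersection as soon as the
fibres of `R[x]/(F)` have local dimension `≤ n - c` along `D(g)` (helper42).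
-/

namespace Groth.Agent.R2.H42.RelGCIAway

variable (R : Type u) [CommRing R] (n c : ℕ) (F : Fin c → MvPolynomial (Fin n) R)
  (h : MvPolynomial (Fin n) R)

/-- the extended family of relations `(F_1, …, F_c, h·x_{n+1} − 1)`. -/
noncomputable abbrev Fplus : Fin (c + 1) → MvPolynomial (Fin (n + 1)) R :=
  Fin.snoc (fun i => rename Fin.castSucc (F i)) (rename Fin.castSucc h * X (Fin.last n) - 1)

local notation "SS" => (MvPolynomial (Fin n) R ⧸ Ideal.span (Set.range F))
local notation "SP" => (MvPolynomial (Fin (n + 1)) R ⧸ Ideal.span (Set.range (Fplus R n c F h)))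
local notation "gg" => (Ideal.Quotient.mk (Ideal.span (Set.range F)) h)

theorem Fplus_castSucc (i : Fin c) : Fplus R n c F h i.castSucc = rename Fin.castSucc (F i) := by
  simp [Fplus]

theorem Fplus_last : Fplus R n c F h (Fin.last c) = rename Fin.castSucc h * X (Fin.last n) - 1 := by
  simp [Fplus]

/-- `S → S⁺` -/
noncomputable def toPlus : SS →ₐ[R] SP :=
  Ideal.Quotient.liftₐ (Ideal.span (Set.range F))
    ((Ideal.Quotient.mkₐ R (Ideal.span (Set.range (Fplus R n c F h)))).comp
      (rename Fin.castSucc : MvPolynomial (Fin n) R →ₐ[R] MvPolynomial (Fin (n + 1)) R))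
    (by
      intro a ha
      have hle : Ideal.span (Set.range F) ≤ RingHom.ker
          ((Ideal.Quotient.mkₐ R (Ideal.span (Set.range (Fplus R n c F h)))).comp
            (rename Fin.castSucc : MvPolynomial (Fin n) R →ₐ[R] MvPolynomial (Fin (n + 1)) R)) := by
        rw [Ideal.span_le]
        rintro _ ⟨i, rfl⟩
        rw [SetLike.mem_coe, RingHom.mem_ker]
        change Ideal.Quotient.mk _ (rename Fin.castSucc (F i)) = 0
        rw [Ideal.Quotient.eq_zero_iff_mem, ← Fplus_castSucc R n c F h i]
        exact Ideal.subset_span ⟨_, rfl⟩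
      exact hle ha)

theorem toPlus_mk (p : MvPolynomial (Fin n) R) :
    toPlus R n c F h (Ideal.Quotient.mk _ p) = Ideal.Quotient.mk _ (rename Fin.castSucc p) := rfl

theorem toPlus_g_mul : toPlus R n c F h gg * Ideal.Quotient.mk _ (X (Fin.last n)) = 1 := by
  rw [toPlus_mk, ← map_mul, ← sub_eq_zero, ← map_one (Ideal.Quotient.mk _), ← map_sub,
    Ideal.Quotient.eq_zero_iff_mem, ← Fplus_last R n c F h]
  exact Ideal.subset_span ⟨_, rfl⟩

theorem isUnit_toPlus_g : IsUnit (toPlus R n c F h gg) :=
  IsUnit.of_mul_eq_one _ (toPlus_g_mul R n c F h)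

/-- `S_g → S⁺` -/
noncomputable def fromAway : Localization.Away gg →ₐ[R] SP :=
  IsLocalization.Away.liftAlgHom gg (f := toPlus R n c F h) (isUnit_toPlus_g R n c F h)

theorem fromAway_algebraMap (s : SS) :
    fromAway R n c F h (algebraMap SS (Localization.Away gg) s) = toPlus R n c F h s :=
  IsLocalization.Away.lift_eq _ (isUnit_toPlus_g R n c F h) s


/-- the images of the variables in `S_g`. -/
noncomputable def varsAway : Fin (n + 1) → Localization.Away gg :=
  Fin.snoc (fun i => algebraMap SS (Localization.Away gg) (Ideal.Quotient.mk _ (X i)))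
    (IsLocalization.Away.invSelf gg)

theorem aeval_varsAway_rename (p : MvPolynomial (Fin n) R) :
    aeval (varsAway R n c F h) (rename Fin.castSucc p) =
      algebraMap SS (Localization.Away gg) (Ideal.Quotient.mk _ p) := by
  rw [aeval_rename]
  have h1 : (varsAway R n c F h) ∘ Fin.castSucc =
      fun i => algebraMap SS (Localization.Away gg) (Ideal.Quotient.mk _ (X i)) := by
    funext i
    simp [varsAway]
  rw [h1]
  have h2 : (aeval fun i => algebraMap SS (Localization.Away gg) (Ideal.Quotient.mk _ (X i))) =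
      ((IsScalarTower.toAlgHom R SS (Localization.Away gg)).comp
        (Ideal.Quotient.mkₐ R (Ideal.span (Set.range F)))) := by
    apply MvPolynomial.algHom_ext
    intro i
    simp
  rw [h2]
  rfl

/-- `S⁺ → S_g` -/
noncomputable def toAway : SP →ₐ[R] Localization.Away gg :=
  Ideal.Quotient.liftₐ (Ideal.span (Set.range (Fplus R n c F h))) (aeval (varsAway R n c F h))
    (by
      intro a ha
      have hle : Ideal.span (Set.range (Fplus R n c F h)) ≤
          RingHom.ker (aeval (varsAway R n c F h) : MvPolynomial (Fin (n + 1)) R →ₐ[R] _) := by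
        rw [Ideal.span_le]
        rintro _ ⟨k, rfl⟩
        rw [SetLike.mem_coe, RingHom.mem_ker]
        refine Fin.lastCases ?_ (fun i => ?_) k
        · rw [Fplus_last, map_sub, map_mul, map_one, aeval_varsAway_rename, aeval_X]
          have : varsAway R n c F h (Fin.last n) = IsLocalization.Away.invSelf gg := by
            simp [varsAway]
          rw [this, IsLocalization.Away.mul_invSelf, sub_self]
        · rw [Fplus_castSucc, aeval_varsAway_rename]
          have : Ideal.Quotient.mk (Ideal.span (Set.range F)) (F i) = 0 :=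
            Ideal.Quotient.eq_zero_iff_mem.mpr (Ideal.subset_span ⟨i, rfl⟩)
          rw [this, map_zero]
      exact hle ha)

theorem toAway_mk (p : MvPolynomial (Fin (n + 1)) R) :
    toAway R n c F h (Ideal.Quotient.mk _ p) = aeval (varsAway R n c F h) p := rfl

theorem toAway_toPlus (s : SS) :
    toAway R n c F h (toPlus R n c F h s) = algebraMap SS (Localization.Away gg) s := by
  obtain ⟨p, rfl⟩ := Ideal.Quotient.mk_surjective s
  rw [toPlus_mk, toAway_mk, aeval_varsAway_rename]

/-- `S_g ≃ S⁺` -/
noncomputable def awayEquiv : Localization.Away gg ≃ₐ[R] SP :=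
  AlgEquiv.ofAlgHom (fromAway R n c F h) (toAway R n c F h)
    (by
      apply Ideal.Quotient.algHom_ext
      apply MvPolynomial.algHom_ext
      intro k
      change fromAway R n c F h (toAway R n c F h (Ideal.Quotient.mk _ (X k))) =
        Ideal.Quotient.mk _ (X k)
      rw [toAway_mk, aeval_X]
      refine Fin.lastCases ?_ (fun i => ?_) k
      · have : varsAway R n c F h (Fin.last n) = IsLocalization.Away.invSelf gg := by
          simp [varsAway]
        rw [this]
        -- the image of the inverse of g is the inverse of the image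
        have h1 : fromAway R n c F h (IsLocalization.Away.invSelf gg) * toPlus R n c F h gg = 1 := by
          rw [← fromAway_algebraMap, ← map_mul, mul_comm, IsLocalization.Away.mul_invSelf, map_one]
        have h2 := toPlus_g_mul R n c F h
        calc fromAway R n c F h (IsLocalization.Away.invSelf gg)
            = fromAway R n c F h (IsLocalization.Away.invSelf gg) *
                (toPlus R n c F h gg * Ideal.Quotient.mk _ (X (Fin.last n))) := by rw [h2, mul_one]
          _ = Ideal.Quotient.mk _ (X (Fin.last n)) := by rw [← mul_assoc, h1, one_mul]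
      · have : varsAway R n c F h i.castSucc =
            algebraMap SS (Localization.Away gg) (Ideal.Quotient.mk _ (X i)) := by
          simp [varsAway]
        rw [this, fromAway_algebraMap, toPlus_mk, rename_X])
    (by
      apply AlgHom.coe_ringHom_injective
      apply IsLocalization.ringHom_ext (Submonoid.powers gg)
      refine RingHom.ext fun s => ?_
      change toAway R n c F h (fromAway R n c F h (algebraMap SS _ s)) = algebraMap SS _ s
      rw [fromAway_algebraMap, toAway_toPlus])

theorem awayEquiv_algebraMap (s : SS) :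
    awayEquiv R n c F h (algebraMap SS (Localization.Away gg) s) = toPlus R n c F h s :=
  fromAway_algebraMap R n c F h s


/-- a nontrivial quotient of `κ[x_1..x_n]` by `c` equations has dimension at least `n - c`. -/
theorem le_dim_of_presentation (κ : Type u) [Field κ] (n c : ℕ)
    (G : Fin c → MvPolynomial (Fin n) κ) (B : Type u) [CommRing B] [Algebra κ B] [Nontrivial B]
    (π : MvPolynomial (Fin n) κ →ₐ[κ] B) (hπ : Function.Surjective π)
    (hker : RingHom.ker π = Ideal.span (Set.range G)) :
    ((n - c : ℕ) : WithBot ℕ∞) ≤ ringKrullDim B := by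
  obtain ⟨z⟩ : Nonempty (PrimeSpectrum B) := inferInstance
  haveI : z.asIdeal.IsPrime := z.2
  obtain ⟨𝔮, h𝔮, -⟩ := Ideal.exists_minimalPrimes_le (bot_le : (⊥ : Ideal B) ≤ z.asIdeal)
  have h1 := Groth.Agent.S9366.le_dim_quotient_minimalPrimes κ n c G B π hπ hker 𝔮 h𝔮
  exact h1.trans (ringKrullDim_quotient_le 𝔮)

open Groth.Agent.Lib.Helper4.FibDim Groth.Agent.Lib.Helper7.TopDim in
/-- the localisation `S_g`, presented with one more variable and one more relation, is a relative
global complete intersection as soon as the fibres of `S` have dimension `≤ n - c` along `D(g)`. -/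
theorem isRelGCI_plus (hcn : c ≤ n)
    (hW : ∀ q : PrimeSpectrum SS, gg ∉ q.asIdeal →
      fibLD (PrimeSpectrum.comap (algebraMap R SS)) q ≤ ((n - c : ℕ) : WithBot ℕ∞)) :
    Synt.IsRelGCI R (n + 1) (c + 1) (Fplus R n c F h) := by
  intro p hnt
  refine ⟨by omega, ?_⟩
  obtain ⟨π, hπ, hker⟩ := Groth.Agent.S9366.fibre_presentation R p.asIdeal.ResidueField
    (n + 1) (c + 1) (Fplus R n c F h)
  have hnc : (n + 1) - (c + 1) = n - c := by omega
  rw [hnc]
  apply le_antisymm
  · -- upper bound via local dimensions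
    rw [← PrimeSpectrum.topologicalKrullDim_eq_ringKrullDim, topologicalKrullDim_eq_iSup_localDim]
    refine iSup_le fun z => ?_
    obtain ⟨⟨q, hq⟩, hz⟩ : ∃ x, PrimeSpectrum.preimageHomeomorphFiber R SP p x = z :=
      (PrimeSpectrum.preimageHomeomorphFiber R SP p).surjective z
    have hq' : PrimeSpectrum.comap (algebraMap R SP) q = p := hq
    subst hq'
    subst hz
    rw [← fibLD_comap_eq]
    -- factor through Spec S
    have hcomp : (PrimeSpectrum.comap (algebraMap R SP) : PrimeSpectrum SP → PrimeSpectrum R) =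
        (PrimeSpectrum.comap (algebraMap R SS)) ∘
          (PrimeSpectrum.comap ((toPlus R n c F h : SS →ₐ[R] SP) : SS →+* SP)) := by
      funext x
      rw [Function.comp_apply, ← PrimeSpectrum.comap_comp_apply]
      congr 1
      exact ((toPlus R n c F h).comp_algebraMap).symm
    have hj : Topology.IsOpenEmbedding
        (PrimeSpectrum.comap ((toPlus R n c F h : SS →ₐ[R] SP) : SS →+* SP)) := by
      have h1 : ((toPlus R n c F h : SS →ₐ[R] SP) : SS →+* SP) =
          ((awayEquiv R n c F h : Localization.Away gg ≃ₐ[R] SP) : Localization.Away gg →+* SP).comp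
            (algebraMap SS (Localization.Away gg)) := by
        refine RingHom.ext fun s => ?_
        exact (awayEquiv_algebraMap R n c F h s).symm
      rw [h1]
      have h2 : (PrimeSpectrum.comap (((awayEquiv R n c F h : Localization.Away gg ≃ₐ[R] SP) :
          Localization.Away gg →+* SP).comp (algebraMap SS (Localization.Away gg))) :
            PrimeSpectrum SP → PrimeSpectrum SS) =
          (PrimeSpectrum.comap (algebraMap SS (Localization.Away gg))) ∘
            (PrimeSpectrum.homeomorphOfRingEquiv (awayEquiv R n c F h).symm.toRingEquiv) := by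
        funext x
        rfl
      rw [h2]
      exact (PrimeSpectrum.localization_away_isOpenEmbedding (Localization.Away gg) gg).comp
        (PrimeSpectrum.homeomorphOfRingEquiv (awayEquiv R n c F h).symm.toRingEquiv).isOpenEmbedding
    rw [hcomp, fibLD_comp_isOpenEmbedding _ _ hj]
    apply hW
    intro hmem
    have : toPlus R n c F h gg ∈ q.asIdeal := hmem
    exact q.isPrime.ne_top (Ideal.eq_top_of_isUnit_mem _ this (isUnit_toPlus_g R n c F h))
  · -- lower bound: every component has dimension ≥ n - c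
    have h1 := le_dim_of_presentation p.asIdeal.ResidueField
      (n + 1) (c + 1) _ (p.asIdeal.Fiber SP) π hπ hker
    rw [hnc] at h1
    exact h1

section generic

open Groth.Agent.Lib.Helper4.FibDim Groth.Agent.Lib.Helper7.TopDim

variable (R S : Type u) [CommRing R] [CommRing S] [Algebra R S]

/-- the locus of `Spec S` where the fibre dimension is at most `d`. -/
def fibLocus (d : ℕ) : Set (PrimeSpectrum S) :=
  {q | fibLD (PrimeSpectrum.comap (algebraMap R S)) q ≤ (d : WithBot ℕ∞)}

/-- the radical ideal cutting out the complement of `fibLocus`. -/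
noncomputable def badIdeal (d : ℕ) : Ideal S :=
  PrimeSpectrum.vanishingIdeal (fibLocus R S d)ᶜ

theorem zeroLocus_badIdeal [Algebra.FiniteType R S] (d : ℕ) :
    PrimeSpectrum.zeroLocus (badIdeal R S d : Set S) = (fibLocus R S d)ᶜ := by
  rw [badIdeal, PrimeSpectrum.zeroLocus_vanishingIdeal_eq_closure]
  exact (isOpen_setOf_fibLD_comap_le R S d).isClosed_compl.closure_eq

theorem fibLD_le_of_notMem [Algebra.FiniteType R S] (d : ℕ) (g : S) (hg : g ∈ badIdeal R S d)
    (q : PrimeSpectrum S) (hq : g ∉ q.asIdeal) :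
    fibLD (PrimeSpectrum.comap (algebraMap R S)) q ≤ (d : WithBot ℕ∞) := by
  by_contra hcon
  have h1 : q ∈ (fibLocus R S d)ᶜ := hcon
  rw [← zeroLocus_badIdeal] at h1
  exact hq (h1 hg)

theorem not_badIdeal_le [Algebra.FiniteType R S] (d : ℕ) (q : PrimeSpectrum S)
    (hq : fibLD (PrimeSpectrum.comap (algebraMap R S)) q ≤ (d : WithBot ℕ∞)) :
    ¬ (badIdeal R S d ≤ q.asIdeal) := by
  intro hle
  have h1 : q ∈ PrimeSpectrum.zeroLocus (badIdeal R S d : Set S) := hle
  rw [zeroLocus_badIdeal] at h1
  exact h1 hq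

end generic

section generic

open Groth.Agent.Lib.Helper4.FibDim Groth.Agent.Lib.Helper7.TopDim

variable {R S : Type u} [CommRing R] [CommRing S] [Algebra R S]



/-- an ideal of `S` which generates the unit ideal of the fibre ring `κ(p) ⊗ S` contains an element
which becomes a unit there. -/
theorem exists_isUnit_one_tmul_of_map_eq_top (p : Ideal R) [p.IsPrime] (J : Ideal S)
    (hJ : J.map (Algebra.TensorProduct.includeRight : S →ₐ[R] p.Fiber S) = ⊤) :
    ∃ g ∈ J, IsUnit ((1 : p.ResidueField) ⊗ₜ[R] g : p.Fiber S) := by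
  have h1 : (1 : p.Fiber S) ∈ J.map (Algebra.TensorProduct.includeRight : S →ₐ[R] p.Fiber S) := by
    rw [hJ]; trivial
  have key : ∀ x ∈ J.map (Algebra.TensorProduct.includeRight : S →ₐ[R] p.Fiber S),
      ∃ r ∉ p, ∃ g ∈ J, r • x = (1 : p.ResidueField) ⊗ₜ[R] g := by
    intro x hx
    rw [Ideal.map] at hx
    induction hx using Submodule.span_induction with
    | mem x hx =>
      obtain ⟨g, hg, rfl⟩ := hx
      exact ⟨1, fun h => (Ideal.IsPrime.ne_top inferInstance) ((Ideal.eq_top_iff_one p).mpr h),
        g, hg, by rw [one_smul]; rfl⟩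
    | zero =>
      exact ⟨1, fun h => (Ideal.IsPrime.ne_top inferInstance) ((Ideal.eq_top_iff_one p).mpr h),
        0, J.zero_mem, by rw [smul_zero, tmul_zero]⟩
    | add x y _ _ hx hy =>
      obtain ⟨r₁, hr₁, g₁, hg₁, e₁⟩ := hx
      obtain ⟨r₂, hr₂, g₂, hg₂, e₂⟩ := hy
      refine ⟨r₁ * r₂, fun h => ((Ideal.IsPrime.mem_or_mem inferInstance h).elim hr₁ hr₂),
        r₂ • g₁ + r₁ • g₂, J.add_mem (J.smul_of_tower_mem r₂ hg₁) (J.smul_of_tower_mem r₁ hg₂), ?_⟩
      rw [smul_add, mul_comm r₁ r₂, mul_smul, e₁, mul_comm r₂ r₁, mul_smul, e₂, tmul_add,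
        tmul_smul, tmul_smul]
    | smul a x _ hx =>
      obtain ⟨r, hr, g, hg, e⟩ := hx
      obtain ⟨r', hr', s, e'⟩ := Ideal.Fiber.exists_smul_eq_one_tmul p a
      refine ⟨r' * r, fun h => ((Ideal.IsPrime.mem_or_mem inferInstance h).elim hr' hr),
        s * g, J.mul_mem_left s hg, ?_⟩
      rw [smul_eq_mul, mul_smul_mul_comm, e, e', Algebra.TensorProduct.tmul_mul_tmul, one_mul]
  obtain ⟨r, hr, g, hg, e⟩ := key 1 h1
  refine ⟨g, hg, ?_⟩
  rw [← e, ← Algebra.algebraMap_eq_smul_one]
  exact isUnit_algebraMap_fiber p hr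

end generic

section generic

open Groth.Agent.Lib.Helper4.FibDim Groth.Agent.Lib.Helper7.TopDim

variable {R S : Type u} [CommRing R] [CommRing S] [Algebra R S]

/-- if no prime of `V(J)` lies over `p` then `J` generates the unit ideal in the fibre over `p`. -/
theorem map_includeRight_eq_top (p : Ideal R) [p.IsPrime] (J : Ideal S)
    (hJ : ∀ q : PrimeSpectrum S, PrimeSpectrum.comap (algebraMap R S) q = ⟨p, inferInstance⟩ →
      ¬ (J ≤ q.asIdeal)) :
    J.map (Algebra.TensorProduct.includeRight : S →ₐ[R] p.Fiber S) = ⊤ := by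
  by_contra hne
  obtain ⟨m, hm, hle⟩ := Ideal.exists_le_maximal _ hne
  let Q : PrimeSpectrum (p.Fiber S) := ⟨m, hm.isPrime⟩
  let t := (PrimeSpectrum.preimageHomeomorphFiber R S ⟨p, inferInstance⟩).symm Q
  have ht : (t : PrimeSpectrum S) =
      PrimeSpectrum.comap Algebra.TensorProduct.includeRight.toRingHom Q :=
    preimageHomeomorphFiber_symm_coe p Q
  refine hJ t.1 t.2 ?_
  rw [ht]
  intro x hx
  change (Algebra.TensorProduct.includeRight : S →ₐ[R] p.Fiber S) x ∈ m
  exact hle (Ideal.mem_map_of_mem _ hx)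

theorem dim_fiber_congr (p p' : Ideal R) [p.IsPrime] [p'.IsPrime] (h : p = p') :
    ringKrullDim (p.Fiber S) = ringKrullDim (p'.Fiber S) := by
  subst h; rfl

/-- the fibre dimension at a point is bounded by the dimension of the fibre ring. -/
theorem fibLD_le_of_dim_fiber_le (p : Ideal R) [p.IsPrime] (d : WithBot ℕ∞)
    (hd : ringKrullDim (p.Fiber S) ≤ d) (q : PrimeSpectrum S)
    (hq : PrimeSpectrum.comap (algebraMap R S) q = ⟨p, inferInstance⟩) :
    fibLD (PrimeSpectrum.comap (algebraMap R S)) q ≤ d := by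
  rw [fibLD_comap_eq]
  refine (localDim_le_dim _).trans ?_
  rw [PrimeSpectrum.topologicalKrullDim_eq_ringKrullDim]
  have h1 : (PrimeSpectrum.comap (algebraMap R S) q).asIdeal = p := by rw [hq]
  rw [dim_fiber_congr _ p h1]
  exact hd

end generic


theorem exists_of_mem_badIdeal (hcn : c ≤ n) (hh : gg ∈ badIdeal R SS (n - c)) :
    Synt.IsRelGCI R (n + 1) (c + 1) (Fplus R n c F h) ∧
      Nonempty (Localization.Away gg ≃ₐ[R] SP) :=
  ⟨isRelGCI_plus R n c F h hcn (fun q hq => fibLD_le_of_notMem R SS (n - c) gg hh q hq),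
    ⟨awayEquiv R n c F h⟩⟩

section top

open Groth.Agent.Lib.Helper4.FibDim Groth.Agent.Lib.Helper7.TopDim
open Groth.Agent.Lib.Helper4.VarDim (localDim_eq_of_isOpenEmbedding)

theorem fibLD_comp_isEmbedding {X Y U : Type*} [TopologicalSpace X] [TopologicalSpace U]
    (φ : X → Y) (ι : U → X) (hι : Topology.IsEmbedding ι) (u : U)
    (hr : φ ⁻¹' {φ (ι u)} ⊆ Set.range ι) : fibLD (φ ∘ ι) u = fibLD φ (ι u) := by
  unfold fibLD
  have h : (φ ∘ ι) ⁻¹' {(φ ∘ ι) u} = ι ⁻¹' (φ ⁻¹' {φ (ι u)}) := rfl
  rw [localDim_congr_set h u rfl]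
  have hemb := (φ ⁻¹' {φ (ι u)}).restrictPreimage_isEmbedding hι
  have hsurj : Function.Surjective ((φ ⁻¹' {φ (ι u)}).restrictPreimage ι) := by
    rintro ⟨x, hx⟩
    obtain ⟨v, rfl⟩ := hr hx
    exact ⟨⟨v, hx⟩, rfl⟩
  exact localDim_eq_of_isOpenEmbedding (hemb.isOpenEmbedding_of_surjective hsurj) ⟨u, rfl⟩

end top

section redgen

open Groth.Agent.Lib.Helper4.FibDim Groth.Agent.Lib.Helper7.TopDim

variable {R A B : Type u} [CommRing R] [CommRing A] [CommRing B] (I : Ideal R) [Algebra R A]
  [Algebra (R ⧸ I) B] (ρ : A →+* B) (hρ : Function.Surjective ρ)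
  (hker : RingHom.ker ρ = I.map (algebraMap R A))
  (hcomm : ∀ r, ρ (algebraMap R A r) = algebraMap (R ⧸ I) B (Ideal.Quotient.mk I r))

omit [Algebra (R ⧸ I) B] in
include hρ hker in
theorem range_comap_red :
    Set.range (PrimeSpectrum.comap ρ) = PrimeSpectrum.zeroLocus (I.map (algebraMap R A) : Set A) := by
  rw [range_comap_of_surjective _ _ hρ, hker]

include hρ hker hcomm in
/-- for `A → B` reducing `R → R/I` with kernel `IA`, fibre dimensions of `A/R` along `V(IA)` are those
of `B/(R/I)`. -/
theorem fibLD_comap_red (qb : PrimeSpectrum B) :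
    fibLD (PrimeSpectrum.comap (algebraMap R A)) (PrimeSpectrum.comap ρ qb) =
      fibLD (PrimeSpectrum.comap (algebraMap (R ⧸ I) B)) qb := by
  have hemb : Topology.IsEmbedding (PrimeSpectrum.comap ρ) :=
    (PrimeSpectrum.isClosedEmbedding_comap_of_surjective _ _ hρ).isEmbedding
  rw [← fibLD_comp_isEmbedding _ _ hemb]
  · have hfun : (PrimeSpectrum.comap (algebraMap R A)) ∘ (PrimeSpectrum.comap ρ) =
        (PrimeSpectrum.comap (Ideal.Quotient.mk I)) ∘
          (PrimeSpectrum.comap (algebraMap (R ⧸ I) B)) := by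
      funext x
      rw [Function.comp_apply, Function.comp_apply, ← PrimeSpectrum.comap_comp_apply,
        ← PrimeSpectrum.comap_comp_apply]
      congr 1
      exact RingHom.ext fun r => hcomm r
    rw [hfun, fibLD_comp_injective _ _
      (PrimeSpectrum.comap_injective_of_surjective _ Ideal.Quotient.mk_surjective)]
  · intro q' hq'
    rw [range_comap_red I ρ hρ hker]
    have hq'' : PrimeSpectrum.comap (algebraMap R A) q' =
        PrimeSpectrum.comap (algebraMap R A) (PrimeSpectrum.comap ρ qb) := hq'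
    change I.map (algebraMap R A) ≤ q'.asIdeal
    rw [Ideal.map_le_iff_le_comap]
    intro r hr
    have h2 : r ∈ (PrimeSpectrum.comap (algebraMap R A) q').asIdeal := by
      rw [hq'']
      change ρ (algebraMap R A r) ∈ qb.asIdeal
      rw [hcomm, Ideal.Quotient.eq_zero_iff_mem.mpr hr, map_zero]
      exact qb.asIdeal.zero_mem
    exact h2

include hρ hker hcomm in
theorem exists_fibLD_eq_red (q : PrimeSpectrum A) (hq : I.map (algebraMap R A) ≤ q.asIdeal) :
    ∃ qb : PrimeSpectrum B, fibLD (PrimeSpectrum.comap (algebraMap R A)) q =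
      fibLD (PrimeSpectrum.comap (algebraMap (R ⧸ I) B)) qb := by
  have hqr : q ∈ Set.range (PrimeSpectrum.comap ρ) := by
    rw [range_comap_red I ρ hρ hker]
    exact hq
  obtain ⟨qb, rfl⟩ := hqr
  exact ⟨qb, fibLD_comap_red I ρ hρ hker hcomm qb⟩

end redgen

section degenerate

/-- a relative global complete intersection presentation with more relations than variables presents
the zero ring. -/
theorem subsingleton_of_not_le (R₀ : Type u) [CommRing R₀] (n c : ℕ)
    (F₀ : Fin c → MvPolynomial (Fin n) R₀) (h : Synt.IsRelGCI R₀ n c F₀) (hcn : ¬ c ≤ n) :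
    Subsingleton (Synt.RelGCIRing R₀ n c F₀) := by
  by_contra hns
  rw [not_subsingleton_iff_nontrivial] at hns
  obtain ⟨qb⟩ : Nonempty (PrimeSpectrum (Synt.RelGCIRing R₀ n c F₀)) := inferInstance
  obtain ⟨pb, hpb⟩ : ∃ pb, PrimeSpectrum.comap
    (algebraMap R₀ (Synt.RelGCIRing R₀ n c F₀)) qb = pb := ⟨_, rfl⟩
  have hnt : Nontrivial (pb.asIdeal.Fiber (Synt.RelGCIRing R₀ n c F₀)) :=
    (PrimeSpectrum.preimageHomeomorphFiber R₀ (Synt.RelGCIRing R₀ n c F₀) pb ⟨qb, hpb⟩).nontrivial
  exact hcn (h pb hnt).1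

end degenerate

section modI

variable (R : Type u) [CommRing R] (n c : ℕ) (F : Fin c → MvPolynomial (Fin n) R) (I : Ideal R)

/-- the reduced family of relations. -/
noncomputable abbrev Fbar : Fin c → MvPolynomial (Fin n) (R ⧸ I) :=
  fun i => MvPolynomial.map (Ideal.Quotient.mk I) (F i)

local notation "SSm" => (MvPolynomial (Fin n) R ⧸ Ideal.span (Set.range F))
local notation "SBm" => (MvPolynomial (Fin n) (R ⧸ I) ⧸ Ideal.span (Set.range (Fbar R n c F I)))

theorem span_Fbar : Ideal.span (Set.range (Fbar R n c F I)) =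
    (Ideal.span (Set.range F)).map (MvPolynomial.map (Ideal.Quotient.mk I)) := by
  rw [Ideal.map_span, ← Set.range_comp]
  rfl

/-- the reduction map `S → S̄`. -/
noncomputable def red : SSm →+* SBm :=
  Ideal.Quotient.lift (Ideal.span (Set.range F))
    ((Ideal.Quotient.mk (Ideal.span (Set.range (Fbar R n c F I)))).comp
      (MvPolynomial.map (Ideal.Quotient.mk I)))
    (by
      intro a ha
      rw [RingHom.comp_apply, Ideal.Quotient.eq_zero_iff_mem, span_Fbar]
      exact Ideal.mem_map_of_mem _ ha)

theorem red_mk (f : MvPolynomial (Fin n) R) :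
    red R n c F I (Ideal.Quotient.mk _ f) =
      Ideal.Quotient.mk _ (MvPolynomial.map (Ideal.Quotient.mk I) f) := rfl

theorem red_surjective : Function.Surjective (red R n c F I) := by
  intro y
  obtain ⟨f', rfl⟩ := Ideal.Quotient.mk_surjective y
  obtain ⟨f, rfl⟩ := MvPolynomial.map_surjective _ Ideal.Quotient.mk_surjective f'
  exact ⟨Ideal.Quotient.mk _ f, rfl⟩

theorem red_algebraMap (r : R) :
    red R n c F I (algebraMap R SSm r) = algebraMap (R ⧸ I) SBm (Ideal.Quotient.mk I r) := by
  change red R n c F I (Ideal.Quotient.mk _ (C r)) = Ideal.Quotient.mk _ (C (Ideal.Quotient.mk I r))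
  rw [red_mk, MvPolynomial.map_C]

theorem ker_red : RingHom.ker (red R n c F I) = I.map (algebraMap R SSm) := by
  apply le_antisymm
  · intro x hx
    obtain ⟨f, rfl⟩ := Ideal.Quotient.mk_surjective x
    rw [RingHom.mem_ker, red_mk, Ideal.Quotient.eq_zero_iff_mem, span_Fbar,
      Ideal.mem_map_iff_of_surjective _ (MvPolynomial.map_surjective _ Ideal.Quotient.mk_surjective)]
      at hx
    obtain ⟨f', hf', e⟩ := hx
    have h1 : f - f' ∈ RingHom.ker (MvPolynomial.map (Ideal.Quotient.mk I) :
        MvPolynomial (Fin n) R →+* _) := by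
      rw [RingHom.mem_ker, map_sub, e, sub_self]
    rw [MvPolynomial.ker_map, Ideal.mk_ker] at h1
    have h2 : Ideal.Quotient.mk (Ideal.span (Set.range F)) f =
        Ideal.Quotient.mk (Ideal.span (Set.range F)) (f - f') := by
      rw [map_sub, Ideal.Quotient.eq_zero_iff_mem.mpr hf', sub_zero]
    rw [h2]
    have h3 : I.map (algebraMap R SSm) =
        (I.map (C : R →+* MvPolynomial (Fin n) R)).map
          (Ideal.Quotient.mk (Ideal.span (Set.range F))) := by
      rw [Ideal.map_map]
      rfl
    rw [h3]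
    exact Ideal.mem_map_of_mem _ h1
  · rw [Ideal.map_le_iff_le_comap]
    intro r hr
    rw [Ideal.mem_comap, RingHom.mem_ker, red_algebraMap, Ideal.Quotient.eq_zero_iff_mem.mpr hr,
      map_zero]

open Groth.Agent.Lib.Helper4.FibDim Groth.Agent.Lib.Helper7.TopDim in
/-- along `V(IS)` the fibre dimension of `S/R` is that of `S̄/(R/I)`. -/
theorem fibLD_eq_of_isRelGCI_mod (hI : Synt.IsRelGCI (R ⧸ I) n c (Fbar R n c F I))
    (q : PrimeSpectrum SSm) (hq : I.map (algebraMap R SSm) ≤ q.asIdeal) :
    fibLD (PrimeSpectrum.comap (algebraMap R SSm)) q = ((n - c : ℕ) : WithBot ℕ∞) := by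
  obtain ⟨qb, e⟩ := exists_fibLD_eq_red (A := SSm) (B := SBm) I (red R n c F I)
    (red_surjective R n c F I) (ker_red R n c F I) (red_algebraMap R n c F I) q hq
  rw [e]
  have h1 := Groth.Agent.S9366.result (R ⧸ I) n c (Fbar R n c F I) hI qb
  rw [fibreDimAt_eq_fibLD] at h1
  exact h1

/-- under the hypothesis of S9172 the bad ideal is comaximal with `IS`. -/
theorem exists_mem_badIdeal_of_isRelGCI_mod (hI : Synt.IsRelGCI (R ⧸ I) n c (Fbar R n c F I)) :
    ∃ g ∈ badIdeal R SSm (n - c), Ideal.Quotient.mk (I.map (algebraMap R SSm)) g = 1 := by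
  have htop : badIdeal R SSm (n - c) ⊔ I.map (algebraMap R SSm) = ⊤ := by
    rw [← PrimeSpectrum.zeroLocus_empty_iff_eq_top, PrimeSpectrum.zeroLocus_sup, zeroLocus_badIdeal]
    ext q
    simp only [Set.mem_inter_iff, Set.mem_compl_iff, Set.mem_empty_iff_false, iff_false, not_and]
    intro hq hq2
    exact hq (fibLD_eq_of_isRelGCI_mod R n c F I hI q hq2).le
  have h1 : (1 : SSm) ∈ badIdeal R SSm (n - c) ⊔ I.map (algebraMap R SSm) := by
    rw [htop]; trivial
  obtain ⟨g, hg, t, ht, e⟩ := Submodule.mem_sup.mp h1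
  refine ⟨g, hg, ?_⟩
  have h2 : g = 1 - t := by rw [← e]; ring
  rw [h2, map_sub, map_one, Ideal.Quotient.eq_zero_iff_mem.mpr ht, sub_zero]

/-- degenerate case: more relations than variables forces `IS = S`. -/
theorem map_eq_top_of_not_le (hcn : ¬ c ≤ n)
    (hI : Synt.IsRelGCI (R ⧸ I) n c (Fbar R n c F I)) : I.map (algebraMap R SSm) = ⊤ := by
  rw [← ker_red]
  have hsub : Subsingleton SBm := subsingleton_of_not_le (R ⧸ I) n c (Fbar R n c F I) hI hcn
  rw [Ideal.eq_top_iff_one, RingHom.mem_ker]
  exact Subsingleton.elim _ _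

end modI

section zero

variable (R : Type u) [CommRing R] (n c : ℕ) (F : Fin c → MvPolynomial (Fin n) R)

/-- localising at `0`: the presentation `(F, 0·y - 1)` has empty spectrum, so is trivially a relative
global complete intersection. -/
theorem isRelGCI_plus_zero : Synt.IsRelGCI R (n + 1) (c + 1) (Fplus R n c F 0) := by
  intro p hnt
  exfalso
  have h0 : Subsingleton (Localization.Away
      (Ideal.Quotient.mk (Ideal.span (Set.range F)) (0 : MvPolynomial (Fin n) R))) := by
    rw [map_zero]
    exact IsLocalization.subsingleton (M := Submonoid.powers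
      (0 : MvPolynomial (Fin n) R ⧸ Ideal.span (Set.range F))) ⟨1, pow_one 0⟩
  have h1 : Subsingleton (MvPolynomial (Fin (n + 1)) R ⧸
      Ideal.span (Set.range (Fplus R n c F 0))) :=
    (awayEquiv R n c F 0).symm.injective.subsingleton
  exact not_subsingleton _ (inferInstance : Subsingleton (p.asIdeal.Fiber
    (MvPolynomial (Fin (n + 1)) R ⧸ Ideal.span (Set.range (Fplus R n c F 0)))))

end zero

end Groth.Agent.R2.H42.RelGCIAway
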