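import Mathlib
import Groth.Agent.R2.H42FibReg

set_option autoImplicit false
set_option linter.style.haveILetI false
universe u

/-!
# Regularity upstairs from regularity on the fibre (helper42)

Companion of `R2/H42FibReg`: for `A → B` of finite presentation (no Noetherian hypothesis), `q` a prime
of `B` with `B_q` flat over `A`, and `f_1..f_r ∈ q` a regular sequence at the point of the fibre
(`FibReg.RegAt Q (1 ⊗ f)`), the sequence `f` is regular at `q` (`FibReg.RegAt q f`), i.e. a weakly
regular sequence in `B_q`.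

* `regular_localized_singleton_of_fiber`: one element.
* `regAt_of_fiber_regAt`: the induction.
* `isWeaklyRegular_of_regAt`: `RegAt Q t` gives a weakly regular sequence in `Localization.AtPrime Q`.
-/

namespace Groth.Agent.R2.H42.RelGCIReg

open Polynomial TensorProduct
open Groth.Agent.Lib.Helper3.FibCritA Groth.Agent.Lib.Helper3.FibCritD
open Groth.Agent.R2.H42.FibReg

lemma eq_zero_of_X_smul {A : Type*} [CommRing A] {M : Type*} [AddCommGroup M] [Module A[X] M]
    [Module.Flat A[X] M] (m : M) (h : (X : A[X]) • m = 0) : m = 0 :=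
  (Module.Flat.isSMulRegular_of_isRegular (M := M) Polynomial.isRegular_X)
    (h.trans (smul_zero _).symm)

section R1

variable {A B : Type u} [CommRing A] [CommRing B] [Algebra A B] [Algebra.FinitePresentation A B]

/-- companion of `flat_localized_quotient_singleton_of_fiber`: `f` is a nonzerodivisor on `B_q`. -/
theorem regular_localized_singleton_of_fiber
    (p : Ideal A) [p.IsPrime] (q : Ideal B) [q.IsPrime] (hq : q.under A = p)
    (h1 : Module.Flat A (LocalizedModule q.primeCompl B)) (f g : B) (hg : g ∉ q)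
    (htf : ∀ h : p.ResidueField[X], h ≠ 0 → ∀ x : p.Fiber B,
      aeval ((1 : p.ResidueField) ⊗ₜ[A] f) h * x = 0 →
        ∃ n : ℕ, ((1 : p.ResidueField) ⊗ₜ[A] g) ^ n * x = 0) :
    ∀ d : B, f * d = 0 → ∃ s ∉ q, s * d = 0 := by
  letI : Algebra A[X] B := (Polynomial.aeval f : A[X] →ₐ[A] B).toRingHom.toAlgebra
  haveI : IsScalarTower A A[X] B := IsScalarTower.of_algebraMap_eq (fun a => by
    simp [RingHom.algebraMap_toAlgebra])
  have hX : algebraMap A[X] B X = f := by simp [RingHom.algebraMap_toAlgebra]
  have hX' : algebraMap A[X] (Localization.Away g) X = algebraMap B (Localization.Away g) f := by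
    rw [IsScalarTower.algebraMap_apply A[X] B (Localization.Away g), hX]
  have hflat := fiberMap_flat_of_torsionFree (A := A) (C := Localization.Away g) p
    (algebraMap B (Localization.Away g) f) hX' (torsionFree_fiber_away p f g htf)
  haveI := flat_of_fiberMap_flat_away (A := A) (B := A[X]) (C := B) p q hq g hg hflat h1
  intro d hd
  have h2 : (X : A[X]) • (LocalizedModule.mkLinearMap q.primeCompl B d) = 0 := by
    rw [← algebraMap_smul B (X : A[X]), hX, ← map_smul, smul_eq_mul, hd, map_zero]
  have h0 : LocalizedModule.mkLinearMap q.primeCompl B d = 0 := eq_zero_of_X_smul _ h2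
  rw [IsLocalizedModule.eq_zero_iff q.primeCompl] at h0
  obtain ⟨s, hs⟩ := h0
  exact ⟨s.1, s.2, hs⟩

end R1


section Ind

/-- **Regularity upstairs from regularity on the fibre** (finite presentation, no Noetherian
hypothesis): companion of `FibReg.flat_localized_quotient_of_regAt`. -/
theorem regAt_of_fiber_regAt : ∀ (r : ℕ) {A B : Type u} [CommRing A] [CommRing B]
    [Algebra A B] [Algebra.FinitePresentation A B] (p : Ideal A) [p.IsPrime] (q : Ideal B)
    [q.IsPrime] (_hq : q.under A = p) (Q : Ideal (p.Fiber B)) [Q.IsPrime]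
    (_hQ : Q.comap (Algebra.TensorProduct.includeRight : B →ₐ[A] p.Fiber B) = q)
    (f : Fin r → B) (_hf : ∀ i, f i ∈ q)
    (_h1 : Module.Flat A (LocalizedModule q.primeCompl B))
    (_hreg : RegAt Q (fun i => (1 : p.ResidueField) ⊗ₜ[A] f i)),
    RegAt q f := by
  intro r
  induction r with
  | zero =>
    intro A B _ _ _ _ p _ q _ hq Q _ hQ f hf h1 hreg i
    exact Fin.elim0 i
  | succ r ih =>
    intro A B _ _ _ _ p _ q _ hq Q _ hQ f hf h1 hreg
    set κ := p.ResidueField
    set t : Fin (r + 1) → p.Fiber B := fun i => (1 : κ) ⊗ₜ[A] f i with ht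
    -- Step A
    haveI : IsNoetherianRing (κ ⊗[A] B) := Algebra.FiniteType.isNoetherianRing κ (κ ⊗[A] B)
    have ht0 : t 0 ∈ Q := (one_tmul_mem_iff q Q hQ (f 0)).mpr (hf 0)
    have hreg0 : ∀ d : p.Fiber B, t 0 * d = 0 → ∃ s ∉ Q, s * d = 0 := by
      intro d hd
      have hempty : t '' {j | j < (0 : Fin (r + 1))} = ∅ := by
        rw [Set.image_eq_empty]
        ext j
        simp
      have := hreg 0 d (by rw [hd]; exact Ideal.zero_mem _)
      rw [hempty, Ideal.span_empty] at this
      obtain ⟨s, hs, hsd⟩ := this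
      exact ⟨s, hs, by simpa using hsd⟩
    obtain ⟨s, hs, hkill⟩ := exists_kill_torsion (κ := κ) Q (t 0) ht0 hreg0
    obtain ⟨a, ha, g, hag⟩ := Ideal.Fiber.exists_smul_eq_one_tmul p s
    have hau : IsUnit (algebraMap A (p.Fiber B) a) := by
      rw [IsScalarTower.algebraMap_apply A κ (p.Fiber B)]
      apply IsUnit.map
      rw [isUnit_iff_ne_zero, Ne, Ideal.algebraMap_residueField_eq_zero]
      exact ha
    have hg : g ∉ q := by
      intro hgq
      have h2 : (1 : κ) ⊗ₜ[A] g ∈ Q := (one_tmul_mem_iff q Q hQ g).mpr hgq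
      rw [← hag, Algebra.smul_def, Ideal.unit_mul_mem_iff_mem _ hau] at h2
      exact hs h2
    have htf : ∀ h : κ[X], h ≠ 0 → ∀ x : p.Fiber B,
        aeval ((1 : κ) ⊗ₜ[A] f 0) h * x = 0 → ∃ n : ℕ, ((1 : κ) ⊗ₜ[A] g) ^ n * x = 0 := by
      intro h hh x hx
      refine ⟨1, ?_⟩
      rw [pow_one, ← hag, smul_mul_assoc, hkill h hh x hx, smul_zero]
    have stepA := flat_localized_quotient_singleton_of_fiber p q hq h1 (f 0) g hg htf
    have reg0 := regular_localized_singleton_of_fiber p q hq h1 (f 0) g hg htf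
    -- Step B
    set I : Ideal B := Ideal.span {f 0} with hIdef
    have hI : I ≤ q := by
      rw [hIdef, Ideal.span_le, Set.singleton_subset_iff]
      exact hf 0
    haveI : Algebra.FinitePresentation A (B ⧸ I) :=
      Algebra.FinitePresentation.quotient ⟨{f 0}, by simp [hIdef]⟩
    have hkermk : RingHom.ker (Ideal.Quotient.mk I) ≤ q := by rw [Ideal.mk_ker]; exact hI
    haveI hq₁prime : (q.map (Ideal.Quotient.mk I)).IsPrime :=
      Ideal.map_isPrime_of_surjective Ideal.Quotient.mk_surjective hkermk
    have hq₁comap : (q.map (Ideal.Quotient.mk I)).comap (algebraMap B (B ⧸ I)) = q := by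
      change (q.map (Ideal.Quotient.mk I)).comap (Ideal.Quotient.mk I) = q
      rw [Ideal.comap_map_of_surjective _ Ideal.Quotient.mk_surjective]
      apply le_antisymm
      · refine sup_le le_rfl ?_
        rw [← RingHom.ker_eq_comap_bot]
        exact hkermk
      · exact le_sup_left
    have hq₁ : (q.map (Ideal.Quotient.mk I)).under A = p := by
      rw [← hq, Ideal.under, Ideal.under, IsScalarTower.algebraMap_eq A B (B ⧸ I),
        ← Ideal.comap_comap, hq₁comap]
    have h1₁ : Module.Flat A (LocalizedModule (q.map (Ideal.Quotient.mk I)).primeCompl (B ⧸ I)) := by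
      let e := localizedEquivOfSurjective (B := B) (B₁ := B ⧸ I) (M₁ := B ⧸ I) (M := B ⧸ I)
        Ideal.Quotient.mk_surjective q (q.map (Ideal.Quotient.mk I)) hq₁comap
        (LinearEquiv.refl B (B ⧸ I))
      exact Module.Flat.of_linearEquiv (e.restrictScalars A).symm
    set π := fiberQuot p I with hπ
    haveI hQ₁prime : (Q.map π).IsPrime := map_fiberQuot_isPrime I q Q hQ hI
    have hQ₁ := comap_map_fiberQuot I q Q hQ hI
    set f₁ : Fin r → B ⧸ I := fun i => Ideal.Quotient.mk I (f i.succ) with hf₁def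
    have hf₁ : ∀ i, f₁ i ∈ q.map (Ideal.Quotient.mk I) := fun i => Ideal.mem_map_of_mem _ (hf _)
    have hπt : ∀ j, π (t j) = (1 : κ) ⊗ₜ[A] Ideal.Quotient.mk I (f j) := fun j => by
      simp [hπ, ht]
    have hπt0 : π (t 0) = 0 := by
      rw [hπt, Ideal.Quotient.eq_zero_iff_mem.mpr (Ideal.mem_span_singleton_self (f 0)), tmul_zero]
    have hreg₁ : RegAt (Q.map π) (fun i => (1 : κ) ⊗ₜ[A] f₁ i) := by
      intro i x hx
      obtain ⟨d, rfl⟩ := fiberQuot_surjective p I x
      set T := Ideal.span (t '' {j | j < i.succ}) with hT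
      have hTmap : T.map π =
          Ideal.span ((fun j => (1 : κ) ⊗ₜ[A] f₁ j) '' {j | j < i}) := by
        rw [hT, Ideal.map_span]
        apply le_antisymm
        · rw [Ideal.span_le]
          rintro _ ⟨_, ⟨j, hj, rfl⟩, rfl⟩
          refine Fin.cases ?_ (fun k hk => ?_) j hj
          · intro _
            rw [hπt0]
            exact Ideal.zero_mem _
          · apply Ideal.subset_span
            refine ⟨k, ?_, ?_⟩
            · simpa using hk
            · exact (hπt k.succ).symm
        · rw [Ideal.span_le]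
          rintro _ ⟨k, hk, rfl⟩
          apply Ideal.subset_span
          refine ⟨t k.succ, ⟨k.succ, ?_, rfl⟩, hπt k.succ⟩
          simpa using hk
      have hkerT : RingHom.ker π ≤ T := by
        rw [hπ, fiberQuot_ker, hIdef, Ideal.map_span, Ideal.span_le]
        rintro _ ⟨_, rfl, rfl⟩
        apply Ideal.subset_span
        exact ⟨0, by simp, rfl⟩
      have h2 : t i.succ * d ∈ T := by
        have h3 : π (t i.succ * d) ∈ T.map π := by
          rw [hTmap, map_mul, hπt]
          exact hx
        have h4 : t i.succ * d ∈ (T.map π).comap π := h3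
        rw [Ideal.comap_map_of_surjective _ (fiberQuot_surjective p I)] at h4
        have h5 : T ⊔ Ideal.comap π ⊥ ≤ T :=
          sup_le le_rfl (by rw [← RingHom.ker_eq_comap_bot]; exact hkerT)
        exact h5 h4
      obtain ⟨s', hs', hsd⟩ := hreg i.succ d h2
      refine ⟨π s', fun h => hs' (mem_of_fiberQuot_mem_map I q Q hQ hI s' h), ?_⟩
      rw [← map_mul, ← hTmap]
      exact Ideal.mem_map_of_mem _ hsd
    -- Step C
    have stepC := ih p (q.map (Ideal.Quotient.mk I)) hq₁ (Q.map π) hQ₁ f₁ hf₁ h1₁ hreg₁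
    -- Step D : assemble
    intro i
    refine Fin.cases ?_ (fun k => ?_) i
    · intro d hd
      have hempty : f '' {j | j < (0 : Fin (r + 1))} = ∅ := by
        rw [Set.image_eq_empty]
        ext j
        simp
      rw [hempty, Ideal.span_empty] at hd ⊢
      obtain ⟨s', hs', hsd⟩ := reg0 d hd
      exact ⟨s', hs', by rw [hsd]; exact Ideal.zero_mem _⟩
    · intro d hd
      set T := Ideal.span (f '' {j | j < k.succ}) with hT
      have hTmap : T.map (Ideal.Quotient.mk I) = Ideal.span (f₁ '' {j | j < k}) := by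
        rw [hT, Ideal.map_span]
        apply le_antisymm
        · rw [Ideal.span_le]
          rintro _ ⟨_, ⟨j, hj, rfl⟩, rfl⟩
          refine Fin.cases ?_ (fun k' hk' => ?_) j hj
          · intro _
            rw [Ideal.Quotient.eq_zero_iff_mem.mpr (Ideal.mem_span_singleton_self (f 0))]
            exact Ideal.zero_mem _
          · apply Ideal.subset_span
            refine ⟨k', ?_, rfl⟩
            simpa using hk'
        · rw [Ideal.span_le]
          rintro _ ⟨k', hk', rfl⟩
          apply Ideal.subset_span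
          refine ⟨f k'.succ, ⟨k'.succ, ?_, rfl⟩, rfl⟩
          simpa using hk'
      have hIT : I ≤ T := by
        rw [hIdef, Ideal.span_le, Set.singleton_subset_iff]
        apply Ideal.subset_span
        exact ⟨0, by simp, rfl⟩
      have h2 : f₁ k * Ideal.Quotient.mk I d ∈ Ideal.span (f₁ '' {j | j < k}) := by
        rw [← hTmap, hf₁def, ← map_mul]
        exact Ideal.mem_map_of_mem _ hd
      obtain ⟨sb, hsb, hsd⟩ := stepC k (Ideal.Quotient.mk I d) h2
      obtain ⟨s', rfl⟩ := Ideal.Quotient.mk_surjective sb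
      refine ⟨s', fun h => hsb (Ideal.mem_map_of_mem _ h), ?_⟩
      rw [← hTmap, ← map_mul] at hsd
      have h4 : s' * d ∈ (T.map (Ideal.Quotient.mk I)).comap (Ideal.Quotient.mk I) := hsd
      rw [Ideal.comap_map_of_surjective _ Ideal.Quotient.mk_surjective] at h4
      have h5 : T ⊔ Ideal.comap (Ideal.Quotient.mk I) ⊥ ≤ T :=
        sup_le le_rfl (by rw [← RingHom.ker_eq_comap_bot, Ideal.mk_ker]; exact hIT)
      exact h5 h4

end Ind


section Conv

open RingTheory.Sequence

/-- converse of `FibReg.regular_at_of_isWeaklyRegular`. -/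
theorem isWeaklyRegular_of_regAt {D : Type u} [CommRing D] (Q : Ideal D) [Q.IsPrime] {r : ℕ}
    (t : Fin r → D) (h : RegAt Q t) :
    IsWeaklyRegular (Localization.AtPrime Q)
      (List.ofFn fun i => algebraMap D (Localization.AtPrime Q) (t i)) := by
  set L := Localization.AtPrime Q
  set rs := List.ofFn fun i => algebraMap D L (t i) with hrs
  have hlen : rs.length = r := by simp [hrs]
  refine ⟨fun i hi => ?_⟩
  have hir : i < r := hlen ▸ hi
  have hget : rs[i] = algebraMap D L (t ⟨i, hir⟩) := by
    simp [hrs]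
  have hI : Ideal.ofList (rs.take i) =
      (Ideal.span (t '' {j | j < (⟨i, hir⟩ : Fin r)})).map (algebraMap D L) := by
    rw [Ideal.map_span, Ideal.ofList]
    congr 1
    ext x
    simp only [Set.mem_ofPred_eq, Set.mem_image]
    constructor
    · intro hx
      rw [List.mem_take_iff_getElem] at hx
      obtain ⟨k, hk, rfl⟩ := hx
      have hk' : k < r := by
        have := lt_min_iff.mp hk
        omega
      refine ⟨t ⟨k, hk'⟩, ⟨⟨k, hk'⟩, ?_, rfl⟩, ?_⟩
      · rw [Fin.lt_def]
        exact (lt_min_iff.mp hk).1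
      · simp [hrs]
    · rintro ⟨_, ⟨j, hj, rfl⟩, rfl⟩
      rw [List.mem_take_iff_getElem]
      refine ⟨j, ?_, ?_⟩
      · rw [lt_min_iff]
        exact ⟨hj, by rw [hlen]; exact j.2⟩
      · simp [hrs]
  have hsub : (Ideal.ofList (rs.take i) • (⊤ : Submodule L L)) = Ideal.ofList (rs.take i) := by
    rw [smul_eq_mul, Ideal.mul_top]
  rw [isSMulRegular_iff_right_eq_zero_of_smul]
  intro m hm
  obtain ⟨x, rfl⟩ := Submodule.Quotient.mk_surjective _ m
  rw [← Submodule.Quotient.mk_smul, Submodule.Quotient.mk_eq_zero, hsub, hI, hget, smul_eq_mul]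
    at hm
  rw [Submodule.Quotient.mk_eq_zero, hsub, hI]
  obtain ⟨d, u, rfl⟩ := IsLocalization.exists_mk'_eq Q.primeCompl x
  -- clear the denominator
  have h1 : algebraMap D L (t ⟨i, hir⟩ * d) ∈
      (Ideal.span (t '' {j | j < (⟨i, hir⟩ : Fin r)})).map (algebraMap D L) := by
    have := Ideal.mul_mem_left _ (algebraMap D L u) hm
    rwa [mul_left_comm, IsLocalization.mul_mk'_eq_mk'_of_mul, IsLocalization.mk'_mul_cancel_left,
      ← map_mul] at this
  rw [IsLocalization.algebraMap_mem_map_algebraMap_iff Q.primeCompl] at h1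
  obtain ⟨m', hm', h3⟩ := h1
  have h4 : t ⟨i, hir⟩ * (m' * d) ∈ Ideal.span (t '' {j | j < (⟨i, hir⟩ : Fin r)}) := by
    rw [mul_left_comm]; exact h3
  obtain ⟨s, hs, h5⟩ := h ⟨i, hir⟩ (m' * d) h4
  have h6 : algebraMap D L (s * m' * d) ∈
      (Ideal.span (t '' {j | j < (⟨i, hir⟩ : Fin r)})).map (algebraMap D L) := by
    rw [mul_assoc]
    exact Ideal.mem_map_of_mem _ h5
  have hunit : IsUnit (algebraMap D L (s * m') * algebraMap D L u) := by
    rw [← map_mul]
    exact IsLocalization.map_units L (⟨s * m' * u, Q.primeCompl.mul_mem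
      (Q.primeCompl.mul_mem hs hm') u.2⟩ : Q.primeCompl)
  have h7 : IsLocalization.mk' L d u * (algebraMap D L (s * m') * algebraMap D L u) =
      algebraMap D L (s * m' * d) := by
    rw [mul_comm (algebraMap D L (s * m')), ← mul_assoc, IsLocalization.mk'_spec, ← map_mul]
    congr 1
    ring
  rw [← Ideal.mul_unit_mem_iff_mem _ hunit, h7]
  exact h6

end Conv

end Groth.Agent.R2.H42.RelGCIReg
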