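import Mathlib
import Groth.Agent.Lib.Helper28DepthCM2
import Groth.Agent.Lib.Helper28PolyCM
import Groth.Agent.Lib.Helper28Unmixed
import Groth.Agent.Lib.Helper14FTDimB
import Groth.Agent.R2.H42FibReg
import Groth.Agent.R2.H42RelGCIReg
import Groth.Agent.S9366
import Groth.Agent.S5802

set_option autoImplicit false
set_option linter.style.haveILetI false
universe u
open MvPolynomial TensorProduct

/-!
# A relative global complete intersection is flat (helper42)

`S = R[x_1..x_n]/(F_1..F_c)` with all nonempty fibres of dimension `n - c`, over an ARBITRARY ring `R`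
(no Noetherian hypothesis).

* `height_add_le_height_comap`, `le_height_of_dim_quotient_le`: height bookkeeping.
* `isWeaklyRegular_localization`: field level — in a Cohen–Macaulay finite type domain of dimension
  `n`, `c` elements with quotient of dimension `≤ n - c` form a regular sequence in every
  localization at a prime containing them.
* `regAt_of_algEquiv`: the same in the elementwise form `FibReg.RegAt`, for an algebra isomorphic to
  a polynomial ring.
* `dim_fiber_quotient`: `(κ(p) ⊗ R[x])/(1 ⊗ F) ` has the dimension of `κ(p) ⊗ S`.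
* `flat_localized_quotient`: `(R[x]/(F_1..F_r))_q` is `R`-flat for `r ≤ c`, `q ⊇ (F)`.
* `flat_of_isRelGCI`: `S` is flat over `R`.
-/

namespace Groth.Agent.R2.H42.RelGCIFlat

section height

/-- heights in a quotient `R/I`, when every prime over `I` has height at least `c`. -/
theorem height_add_le_height_comap {R : Type*} [CommRing R] (I : Ideal R) (c : ℕ)
    (hI : ∀ 𝔮 : Ideal R, 𝔮.IsPrime → I ≤ 𝔮 → (c : ℕ∞) ≤ 𝔮.height) :
    ∀ (k : ℕ) (Q : Ideal (R ⧸ I)) [Q.IsPrime], (k : ℕ∞) ≤ Q.height →
      ((k + c : ℕ) : ℕ∞) ≤ (Q.comap (Ideal.Quotient.mk I)).height := by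
  intro k
  induction k with
  | zero =>
    intro Q _ _
    rw [zero_add]
    refine hI _ (Ideal.comap_isPrime _ _) ?_
    intro x hx
    rw [Ideal.mem_comap, Ideal.Quotient.eq_zero_iff_mem.mpr hx]
    exact Q.zero_mem
  | succ k ih =>
    intro Q _ hQ
    have h1 : ¬ Q.height ≤ (k : ℕ) := by
      intro h
      have := hQ.trans h
      have h2 : (k + 1 : ℕ) ≤ k := by exact_mod_cast this
      omega
    rw [Ideal.height_le_iff] at h1
    push Not at h1
    obtain ⟨q, hq, hqQ, hk⟩ := h1
    haveI := hq
    have h2 := ih q hk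
    have hlt : q.comap (Ideal.Quotient.mk I) < Q.comap (Ideal.Quotient.mk I) := by
      refine lt_of_le_of_ne (Ideal.comap_mono hqQ.le) ?_
      intro h
      exact hqQ.ne (Ideal.comap_injective_of_surjective _ Ideal.Quotient.mk_surjective h)
    have h3 := Ideal.height_add_one_le_of_lt_of_isPrime hlt
    calc ((k + 1 + c : ℕ) : ℕ∞) = ((k + c : ℕ) : ℕ∞) + 1 := by push_cast; ring
      _ ≤ (q.comap (Ideal.Quotient.mk I)).height + 1 := add_le_add_left h2 1
      _ ≤ _ := h3

open Groth.Agent.Lib.Helper14.FTDim in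
/-- in a finite type domain of dimension `n` over a field, primes containing an ideal with quotient
of dimension `≤ n - c` have height `≥ c`. -/
theorem le_height_of_dim_quotient_le (κ : Type u) [Field κ] (D : Type u) [CommRing D] [IsDomain D]
    [Algebra κ D] [Algebra.FiniteType κ D] (n c : ℕ) (hcn : c ≤ n)
    (hD : ringKrullDim D = (n : WithBot ℕ∞)) (I : Ideal D)
    (hI : ringKrullDim (D ⧸ I) ≤ ((n - c : ℕ) : WithBot ℕ∞)) (𝔮 : Ideal D) [𝔮.IsPrime]
    (h𝔮 : I ≤ 𝔮) : (c : ℕ∞) ≤ 𝔮.height := by
  obtain ⟨m, c', hc'm, hm, hc', hq⟩ := exists_dim_height (k := κ) D 𝔮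
  have hmn : m = n := by
    rw [hD] at hm
    exact_mod_cast hm.symm
  subst hmn
  have hsurj : Function.Surjective (Ideal.Quotient.factor h𝔮) :=
    Ideal.Quotient.factor_surjective h𝔮
  have h1 := ringKrullDim_le_of_surjective _ hsurj
  rw [hq] at h1
  have h2 := h1.trans hI
  have h3 : m - c' ≤ m - c := by exact_mod_cast h2
  rw [hc']
  have : c ≤ c' := by omega
  exact_mod_cast this

end height

section fieldlevel

open Groth.Agent.Lib.Helper28 RingTheory.Sequence

theorem dim_quotient_add_le (κ : Type u) [Field κ] (D : Type u) [CommRing D] [IsDomain D]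
    [Algebra κ D] [Algebra.FiniteType κ D] [IsNoetherianRing D] (n c : ℕ)
    (hcn : c ≤ n) (hD : ringKrullDim D = (n : WithBot ℕ∞)) (t : Fin c → D)
    (hdim : ringKrullDim (D ⧸ Ideal.span (Set.range t)) ≤ ((n - c : ℕ) : WithBot ℕ∞))
    (Q : Ideal D) [Q.IsPrime] (hQ : Ideal.span (Set.range t) ≤ Q) :
    ringKrullDim (Localization.AtPrime Q ⧸
        Ideal.ofList (List.ofFn fun i => algebraMap D (Localization.AtPrime Q) (t i))) +
      ((c : ℕ) : WithBot ℕ∞) ≤ ringKrullDim (Localization.AtPrime Q) := by
  have hJle : Ideal.ofList (List.ofFn fun i => algebraMap D (Localization.AtPrime Q) (t i)) ≤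
      IsLocalRing.maximalIdeal (Localization.AtPrime Q) := by
    rw [Ideal.span_le]
    intro x hx
    rw [Set.mem_ofPred_eq, List.mem_ofFn] at hx
    obtain ⟨i, rfl⟩ := hx
    rw [SetLike.mem_coe,
      IsLocalization.AtPrime.to_map_mem_maximal_iff (Localization.AtPrime Q) Q]
    exact hQ (Ideal.subset_span ⟨i, rfl⟩)
  have hJne : Ideal.ofList (List.ofFn fun i => algebraMap D (Localization.AtPrime Q) (t i)) ≠ ⊤ :=
    fun h => (IsLocalRing.maximalIdeal.isMaximal _).ne_top (top_le_iff.mp (h ▸ hJle))
  haveI : Nontrivial (Localization.AtPrime Q ⧸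
      Ideal.ofList (List.ofFn fun i => algebraMap D (Localization.AtPrime Q) (t i))) :=
    Ideal.Quotient.nontrivial_iff.mpr hJne
  haveI : IsLocalRing (Localization.AtPrime Q ⧸
      Ideal.ofList (List.ofFn fun i => algebraMap D (Localization.AtPrime Q) (t i))) :=
    IsLocalRing.of_surjective' (Ideal.Quotient.mk _) Ideal.Quotient.mk_surjective
  rw [← IsLocalRing.maximalIdeal_height_eq_ringKrullDim]
  obtain ⟨k, hk⟩ := ENat.ne_top_iff_exists.mp (Ideal.height_ne_top_of_isPrime
    (I := IsLocalRing.maximalIdeal (Localization.AtPrime Q ⧸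
      Ideal.ofList (List.ofFn fun i => algebraMap D (Localization.AtPrime Q) (t i)))))
  have hprimes : ∀ 𝔭 : Ideal (Localization.AtPrime Q), 𝔭.IsPrime →
      Ideal.ofList (List.ofFn fun i => algebraMap D (Localization.AtPrime Q) (t i)) ≤ 𝔭 →
      (c : ℕ∞) ≤ 𝔭.height := by
    intro 𝔭 h𝔭 hle
    haveI := h𝔭
    rw [← IsLocalization.height_under Q.primeCompl 𝔭]
    apply le_height_of_dim_quotient_le κ D n c hcn hD _ hdim
    rw [Ideal.span_le]
    rintro _ ⟨i, rfl⟩
    rw [SetLike.mem_coe, Ideal.under_def, Ideal.mem_comap]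
    apply hle
    apply Ideal.subset_span
    rw [Set.mem_ofPred_eq, List.mem_ofFn]
    exact ⟨i, rfl⟩
  have h1 := height_add_le_height_comap _ c hprimes k
    (IsLocalRing.maximalIdeal (Localization.AtPrime Q ⧸
      Ideal.ofList (List.ofFn fun i => algebraMap D (Localization.AtPrime Q) (t i)))) hk.le
  have h2 := Ideal.height_le_ringKrullDim_of_isPrime
    (I := (IsLocalRing.maximalIdeal (Localization.AtPrime Q ⧸
      Ideal.ofList (List.ofFn fun i => algebraMap D (Localization.AtPrime Q) (t i)))).comap
        (Ideal.Quotient.mk _))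
  rw [← hk]
  refine le_trans ?_ h2
  have h3 : (((k + c : ℕ) : ℕ∞) : WithBot ℕ∞) ≤ _ := WithBot.coe_le_coe.mpr h1
  refine le_trans (le_of_eq ?_) h3
  push_cast
  rfl

/-- **Field level core**: in a Cohen–Macaulay finite type domain `D` of dimension `n` over a field, a
family of `c` elements whose quotient has dimension `≤ n - c` is a regular sequence in every
localization at a prime containing it. -/
theorem isWeaklyRegular_localization (κ : Type u) [Field κ] (D : Type u) [CommRing D] [IsDomain D]
    [Algebra κ D] [Algebra.FiniteType κ D] [hCM : LocCoh.IsCohenMacaulayRing D] (n c : ℕ)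
    (hcn : c ≤ n) (hD : ringKrullDim D = (n : WithBot ℕ∞)) (t : Fin c → D)
    (hdim : ringKrullDim (D ⧸ Ideal.span (Set.range t)) ≤ ((n - c : ℕ) : WithBot ℕ∞))
    (Q : Ideal D) [Q.IsPrime] (hQ : Ideal.span (Set.range t) ≤ Q) :
    IsWeaklyRegular (Localization.AtPrime Q)
      (List.ofFn fun i => algebraMap D (Localization.AtPrime Q) (t i)) := by
  haveI hloc : LocCoh.IsCohenMacaulayLocalRing (Localization.AtPrime Q) :=
    hCM.isCohenMacaulayLocalRing_localization Q
  have hM : LocCoh.IsCohenMacaulayModule (Localization.AtPrime Q) (Localization.AtPrime Q) :=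
    hloc.supportDim_eq_depth
  have hmem : ∀ x ∈ (List.ofFn fun i => algebraMap D (Localization.AtPrime Q) (t i)),
      x ∈ IsLocalRing.maximalIdeal (Localization.AtPrime Q) := by
    intro x hx
    rw [List.mem_ofFn] at hx
    obtain ⟨i, rfl⟩ := hx
    rw [IsLocalization.AtPrime.to_map_mem_maximal_iff (Localization.AtPrime Q) Q]
    exact hQ (Ideal.subset_span ⟨i, rfl⟩)
  apply isWeaklyRegular_of_supportDim_add_length_eq _ _ hM hmem
  apply le_antisymm
  · -- the quotient has dimension ≤ dim - c
    rw [Module.supportDim_eq_of_equiv (Submodule.quotEquivOfEq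
        (Ideal.ofList (List.ofFn fun i => algebraMap D (Localization.AtPrime Q) (t i)) • ⊤ :
          Submodule (Localization.AtPrime Q) (Localization.AtPrime Q))
        (Ideal.ofList (List.ofFn fun i => algebraMap D (Localization.AtPrime Q) (t i)))
        (by rw [smul_eq_mul, Ideal.mul_top])),
      Module.supportDim_quotient_eq_ringKrullDim, Module.supportDim_self_eq_ringKrullDim,
      List.length_ofFn]
    exact dim_quotient_add_le κ D n c hcn hD t hdim Q hQ
  · exact supportDim_le_supportDim_quot_ofList_add_length_local _ _ hmem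

end fieldlevel


section generic

open Groth.Agent.R2.H42.FibReg

variable (A B : Type u) [CommRing A] [CommRing B] [Algebra A B]

/-- `(B/I)_q` is flat over `A`.  A wrapper: its instance arguments are those of a generic `A`-algebra
`B`, which keeps unification cheap when `B` is specialised to a polynomial ring. -/
def FlatLocQuot (q : Ideal B) [q.IsPrime] (I : Ideal B) : Prop :=
  Module.Flat A (LocalizedModule q.primeCompl (B ⧸ I))

/-- `B/I` is flat over `A` (wrapper with generic instance arguments). -/
def FlatQuot (I : Ideal B) : Prop := Module.Flat A (B ⧸ I)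

theorem flatQuot_of_flatLocQuot (I : Ideal B)
    (h : ∀ (q : Ideal B) [q.IsPrime], I ≤ q → FlatLocQuot A B q I) : FlatQuot A B I := by
  unfold FlatQuot
  apply flat_of_forall_localized_maximal (A := A) (B := B) (M := B ⧸ I)
  intro q hqm
  haveI : q.IsPrime := hqm.isPrime
  by_cases hq : I ≤ q
  · exact h q hq
  · obtain ⟨x, hxI, hxq⟩ := SetLike.not_le_iff_exists.mp hq
    haveI : Subsingleton (LocalizedModule q.primeCompl (B ⧸ I)) := by
      rw [IsLocalizedModule.subsingleton_iff q.primeCompl
        (LocalizedModule.mkLinearMap q.primeCompl (B ⧸ I))]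
      intro m
      refine ⟨x, hxq, ?_⟩
      obtain ⟨m, rfl⟩ := Ideal.Quotient.mk_surjective m
      rw [← Ideal.Quotient.mk_eq_mk, ← Submodule.Quotient.mk_smul, Ideal.Quotient.mk_eq_mk,
        Ideal.Quotient.eq_zero_iff_mem, smul_eq_mul]
      exact Ideal.mul_mem_right _ _ hxI
    infer_instance

end generic

section relative

open Groth.Agent.R2.H42.FibReg Groth.Agent.Lib.Helper28

variable (R : Type u) [CommRing R] (n c : ℕ) (F : Fin c → MvPolynomial (Fin n) R)

/-- generic form: a `κ`-algebra isomorphic to a polynomial ring in `n` variables. -/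
theorem regAt_of_algEquiv (κ : Type u) [Field κ] (D : Type u) [CommRing D] [Algebra κ D]
    (e : D ≃ₐ[κ] MvPolynomial (Fin n) κ) (hcn : c ≤ n) (t : Fin c → D)
    (hdim : ringKrullDim (D ⧸ Ideal.span (Set.range t)) ≤ ((n - c : ℕ) : WithBot ℕ∞))
    (Q : Ideal D) [Q.IsPrime] (hQ : Ideal.span (Set.range t) ≤ Q) : RegAt Q t := by
  haveI : IsDomain D := e.toMulEquiv.isDomain (MvPolynomial (Fin n) κ)
  haveI : Algebra.FiniteType κ D :=
    Algebra.FiniteType.equiv (inferInstance : Algebra.FiniteType κ (MvPolynomial (Fin n) κ)) e.symm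
  haveI hCMf : LocCoh.IsCohenMacaulayRing κ := isCohenMacaulayRing_of_field κ
  haveI hCMP : LocCoh.IsCohenMacaulayRing (MvPolynomial (Fin n) κ) :=
    isCohenMacaulayRing_mvPolynomial_fin n
  haveI : LocCoh.IsCohenMacaulayRing D := isCohenMacaulayRing_of_ringEquiv e.symm.toRingEquiv
  have hD : ringKrullDim D = (n : WithBot ℕ∞) := by
    rw [ringKrullDim_eq_of_ringEquiv e.toRingEquiv, MvPolynomial.ringKrullDim_of_isNoetherianRing,
      ringKrullDim_eq_zero_of_field]
    simp
  exact regular_at_of_isWeaklyRegular Q t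
    (isWeaklyRegular_localization κ D n c hcn hD t hdim Q hQ)

/-- the dimension of the quotient of the fibre of `R[x]` by the fibre relations. -/
theorem dim_fiber_quotient (p : Ideal R) [p.IsPrime] :
    ringKrullDim (p.Fiber (MvPolynomial (Fin n) R) ⧸
        Ideal.span (Set.range fun i => ((1 : p.ResidueField) ⊗ₜ[R] F i :
          p.Fiber (MvPolynomial (Fin n) R)))) =
      ringKrullDim (p.Fiber (MvPolynomial (Fin n) R ⧸ Ideal.span (Set.range F))) := by
  have hker := fiberQuot_ker p (Ideal.span (Set.range F))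
  have hspan : (Ideal.span (Set.range F)).map (Algebra.TensorProduct.includeRight :
      MvPolynomial (Fin n) R →ₐ[R] p.Fiber (MvPolynomial (Fin n) R)) =
      Ideal.span (Set.range fun i => ((1 : p.ResidueField) ⊗ₜ[R] F i :
          p.Fiber (MvPolynomial (Fin n) R))) := by
    rw [Ideal.map_span, ← Set.range_comp]
    rfl
  rw [hspan] at hker
  rw [← hker]
  exact ringKrullDim_eq_of_ringEquiv (RingHom.quotientKerEquivOfSurjective
    (f := (fiberQuot p (Ideal.span (Set.range F))).toRingHom)
    (fiberQuot_surjective p (Ideal.span (Set.range F))))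

theorem regAt_castLE {D : Type u} [CommRing D] (Q : Ideal D) {c r : ℕ} (hr : r ≤ c)
    (t : Fin c → D) (h : RegAt Q t) : RegAt Q (fun i : Fin r => t (Fin.castLE hr i)) := by
  intro i d hd
  have himg : (fun i : Fin r => t (Fin.castLE hr i)) '' {j | j < i} =
      t '' {j | j < Fin.castLE hr i} := by
    ext x
    constructor
    · rintro ⟨j, hj, rfl⟩
      exact ⟨Fin.castLE hr j, hj, rfl⟩
    · rintro ⟨j, hj, rfl⟩
      have hj' : (j : ℕ) < i := hj
      exact ⟨⟨j, hj'.trans i.2⟩, hj', rfl⟩
  rw [himg] at hd ⊢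
  exact h (Fin.castLE hr i) d hd

open Groth.Agent.Lib.Helper4.FibDim in
/-- the point of the fibre over `p` corresponding to a prime `q ⊇ (F)` of `R[x]`, at which the fibre
relations form a regular sequence. -/
theorem exists_fiber_regAt (h : Synt.IsRelGCI R n c F) (q : Ideal (MvPolynomial (Fin n) R))
    [q.IsPrime] (hq : Ideal.span (Set.range F) ≤ q) (p : Ideal R) [p.IsPrime]
    (hp : q.under R = p) :
    ∃ Qs : Ideal (p.Fiber (MvPolynomial (Fin n) R)), Qs.IsPrime ∧
      Qs.comap (Algebra.TensorProduct.includeRight :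
        MvPolynomial (Fin n) R →ₐ[R] p.Fiber (MvPolynomial (Fin n) R)) = q ∧
      RegAt Qs (fun i => ((1 : p.ResidueField) ⊗ₜ[R] F i :
        p.Fiber (MvPolynomial (Fin n) R))) := by
  obtain ⟨Qs, hQs⟩ : ∃ Qs : PrimeSpectrum (p.Fiber (MvPolynomial (Fin n) R)),
      Qs.asIdeal.comap (Algebra.TensorProduct.includeRight :
        MvPolynomial (Fin n) R →ₐ[R] p.Fiber (MvPolynomial (Fin n) R)) = q := by
    have hmem : (⟨q, inferInstance⟩ : PrimeSpectrum (MvPolynomial (Fin n) R)) ∈
        PrimeSpectrum.comap (algebraMap R (MvPolynomial (Fin n) R)) ⁻¹'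
          {(⟨p, inferInstance⟩ : PrimeSpectrum R)} := by
      rw [Set.mem_preimage, Set.mem_singleton_iff]
      exact PrimeSpectrum.ext hp
    refine ⟨PrimeSpectrum.preimageHomeomorphFiber R (MvPolynomial (Fin n) R) ⟨p, inferInstance⟩
      ⟨⟨q, inferInstance⟩, hmem⟩, ?_⟩
    exact congrArg PrimeSpectrum.asIdeal
      (comap_includeRight_preimageHomeomorphFiber p ⟨⟨q, inferInstance⟩, hmem⟩)
  haveI : Qs.asIdeal.IsPrime := Qs.2
  -- the fibre relations lie in `Qs`
  have hle : Ideal.span (Set.range fun i => ((1 : p.ResidueField) ⊗ₜ[R] F i :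
      p.Fiber (MvPolynomial (Fin n) R))) ≤ Qs.asIdeal := by
    rw [Ideal.span_le]
    rintro _ ⟨i, rfl⟩
    have : F i ∈ Qs.asIdeal.comap (Algebra.TensorProduct.includeRight :
        MvPolynomial (Fin n) R →ₐ[R] p.Fiber (MvPolynomial (Fin n) R)) := by
      rw [hQs]
      exact hq (Ideal.subset_span ⟨i, rfl⟩)
    exact this
  -- nontriviality of the fibre of `S`
  have hnt : Nontrivial (p.Fiber (MvPolynomial (Fin n) R ⧸ Ideal.span (Set.range F))) := by
    by_contra hns
    rw [not_nontrivial_iff_subsingleton] at hns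
    have h1 := dim_fiber_quotient R n c F p
    have h0 : ringKrullDim (p.Fiber (MvPolynomial (Fin n) R ⧸ Ideal.span (Set.range F))) = ⊥ :=
      ringKrullDim_eq_bot_of_subsingleton
    rw [h0] at h1
    haveI : Nontrivial (p.Fiber (MvPolynomial (Fin n) R) ⧸
        Ideal.span (Set.range fun i => ((1 : p.ResidueField) ⊗ₜ[R] F i :
          p.Fiber (MvPolynomial (Fin n) R)))) :=
      Ideal.Quotient.nontrivial_iff.mpr (fun htop => Qs.2.ne_top (top_le_iff.mp (htop ▸ hle)))
    have h2 := ringKrullDim_nonneg_of_nontrivial (R := p.Fiber (MvPolynomial (Fin n) R) ⧸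
        Ideal.span (Set.range fun i => ((1 : p.ResidueField) ⊗ₜ[R] F i :
          p.Fiber (MvPolynomial (Fin n) R))))
    rw [h1] at h2
    exact absurd h2 (by simp)
  obtain ⟨hcn, hdim⟩ := h ⟨p, inferInstance⟩ hnt
  have hdim' : ringKrullDim (p.Fiber (MvPolynomial (Fin n) R) ⧸
      Ideal.span (Set.range fun i => ((1 : p.ResidueField) ⊗ₜ[R] F i :
        p.Fiber (MvPolynomial (Fin n) R)))) ≤ ((n - c : ℕ) : WithBot ℕ∞) := by
    rw [dim_fiber_quotient R n c F p]
    exact hdim.le
  exact ⟨Qs.asIdeal, Qs.2, hQs, regAt_of_algEquiv n c p.ResidueField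
    (p.Fiber (MvPolynomial (Fin n) R)) (MvPolynomial.algebraTensorAlgEquiv R p.ResidueField) hcn
    (fun i => ((1 : p.ResidueField) ⊗ₜ[R] F i : p.Fiber (MvPolynomial (Fin n) R))) hdim'
    Qs.asIdeal hle⟩

/-- **Flatness of the truncated quotients** of a relative global complete intersection, localized at
a prime of the polynomial ring containing all relations. -/
theorem flat_localized_quotient (h : Synt.IsRelGCI R n c F) (q : Ideal (MvPolynomial (Fin n) R))
    [q.IsPrime] (hq : Ideal.span (Set.range F) ≤ q) (r : ℕ) (hr : r ≤ c) :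
    FlatLocQuot R (MvPolynomial (Fin n) R) q
      (Ideal.span (Set.range fun i : Fin r => F (Fin.castLE hr i))) := by
  obtain ⟨p, hp⟩ : ∃ p, q.under R = p := ⟨_, rfl⟩
  haveI : p.IsPrime := hp ▸ inferInstance
  obtain ⟨Qs, hQsp, hQs, hreg⟩ := exists_fiber_regAt R n c F h q hq p hp
  haveI := hQsp
  have h1 : Module.Flat R (LocalizedModule q.primeCompl (MvPolynomial (Fin n) R)) :=
    flat_localizedModule_of_flat q.primeCompl (MvPolynomial (Fin n) R)
  have hreg' : RegAt Qs (fun i : Fin r => ((1 : p.ResidueField) ⊗ₜ[R] F (Fin.castLE hr i) :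
      p.Fiber (MvPolynomial (Fin n) R))) :=
    regAt_castLE Qs hr (fun i => ((1 : p.ResidueField) ⊗ₜ[R] F i :
      p.Fiber (MvPolynomial (Fin n) R))) hreg
  have hf : ∀ i : Fin r, F (Fin.castLE hr i) ∈ q := fun i => hq (Ideal.subset_span ⟨_, rfl⟩)
  have key := flat_localized_quotient_of_regAt r p q hp Qs hQs
    (fun i : Fin r => F (Fin.castLE hr i)) hf h1 hreg'
  exact key

/-- **Regularity**: the relations of a relative global complete intersection form a regular sequence
at every prime of the polynomial ring containing them (elementwise form). -/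
theorem regAt_of_isRelGCI (h : Synt.IsRelGCI R n c F) (q : Ideal (MvPolynomial (Fin n) R))
    [q.IsPrime] (hq : Ideal.span (Set.range F) ≤ q) : RegAt q F := by
  obtain ⟨p, hp⟩ : ∃ p, q.under R = p := ⟨_, rfl⟩
  haveI : p.IsPrime := hp ▸ inferInstance
  obtain ⟨Qs, hQsp, hQs, hreg⟩ := exists_fiber_regAt R n c F h q hq p hp
  haveI := hQsp
  have h1 : Module.Flat R (LocalizedModule q.primeCompl (MvPolynomial (Fin n) R)) :=
    flat_localizedModule_of_flat q.primeCompl (MvPolynomial (Fin n) R)
  exact Groth.Agent.R2.H42.RelGCIReg.regAt_of_fiber_regAt c p q hp Qs hQs F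
    (fun i => hq (Ideal.subset_span ⟨_, rfl⟩)) h1 hreg

/-- **A relative global complete intersection is flat** (Stacks 00SV / 00SW), wrapper form. -/
theorem flatQuot_of_isRelGCI (h : Synt.IsRelGCI R n c F) :
    FlatQuot R (MvPolynomial (Fin n) R) (Ideal.span (Set.range F)) := by
  apply flatQuot_of_flatLocQuot
  intro q _ hq
  have h1 := flat_localized_quotient R n c F h q hq c le_rfl
  have h2 : (fun i : Fin c => F (Fin.castLE (le_refl c) i)) = F := by
    funext i
    simp
  rw [h2] at h1
  exact h1

/-- **A relative global complete intersection is flat** (Stacks 00SV / 00SW). -/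
theorem flat_of_isRelGCI (h : Synt.IsRelGCI R n c F) :
    Module.Flat R (Synt.RelGCIRing R n c F) :=
  flatQuot_of_isRelGCI R n c F h

end relative

section generic2

variable (A B : Type u) [CommRing A] [CommRing B] [Algebra A B]

/-- from `(B/I)_q` flat to `B_q / I B_q` flat. -/
theorem flat_localization_quotient_of_flatLocQuot (q : Ideal B) [q.IsPrime] (I : Ideal B)
    (h : FlatLocQuot A B q I) :
    Module.Flat A (Localization.AtPrime q ⧸ I.map (algebraMap B (Localization.AtPrime q))) := by
  unfold FlatLocQuot at h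
  have e1 : (Localization.AtPrime q ⧸ Submodule.localized' (Localization.AtPrime q) q.primeCompl
      (Algebra.linearMap B (Localization.AtPrime q)) I) ≃ₗ[B]
      LocalizedModule q.primeCompl (B ⧸ I) :=
    IsLocalizedModule.linearEquiv q.primeCompl
      (Submodule.toLocalizedQuotient' (Localization.AtPrime q) q.primeCompl
        (Algebra.linearMap B (Localization.AtPrime q)) I)
      (LocalizedModule.mkLinearMap q.primeCompl (B ⧸ I))
  have e2 : (Localization.AtPrime q ⧸ I.map (algebraMap B (Localization.AtPrime q))) ≃ₗ[B]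
      LocalizedModule q.primeCompl (B ⧸ I) :=
    (Submodule.quotEquivOfEq _ _
      (Ideal.localized'_eq_map (Localization.AtPrime q) q.primeCompl I).symm).restrictScalars B
      ≪≫ₗ e1
  exact Module.Flat.of_linearEquiv (e2.restrictScalars A)

end generic2

section conormal

open Groth.Agent.R2.H42.FibReg Groth.Agent.R2.H42.RelGCIReg

/-- a family which is a regular sequence at every prime containing it is "quasi-regular in degree
one": a linear relation modulo `I²` has its coefficients in `I`. -/
theorem coeff_mem_of_sum_mem_sq {D : Type u} [CommRing D] {c : ℕ} (f : Fin c → D)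
    (hreg : ∀ (Q : Ideal D) [Q.IsPrime], Ideal.span (Set.range f) ≤ Q → RegAt Q f)
    (a : Fin c → D) (ha : ∑ j, a j * f j ∈ Ideal.span (Set.range f) ^ 2) (i : Fin c) :
    a i ∈ Ideal.span (Set.range f) := by
  apply Ideal.mem_of_localization_maximal
  intro P hP
  haveI : P.IsPrime := hP.isPrime
  by_cases hle : Ideal.span (Set.range f) ≤ P
  · have hw := isWeaklyRegular_of_regAt P f (hreg P hle)
    have hq := Groth.Agent.S5802.result (Localization.AtPrime P) c
      (fun i => algebraMap D (Localization.AtPrime P) (f i)) hw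
    have hspan : Ideal.span (Set.range fun i => algebraMap D (Localization.AtPrime P) (f i)) =
        (Ideal.span (Set.range f)).map (algebraMap D (Localization.AtPrime P)) := by
      rw [Ideal.map_span, ← Set.range_comp]
      rfl
    rw [← hspan]
    have h1 := hq 1 (∑ j, MvPolynomial.C (algebraMap D (Localization.AtPrime P) (a j)) *
      MvPolynomial.X j) ?_ ?_ (Finsupp.single i 1)
    · rw [MvPolynomial.coeff_sum] at h1
      simp only [MvPolynomial.coeff_C_mul, MvPolynomial.coeff_X] at h1
      have h2 : (∑ x : Fin c, algebraMap D (Localization.AtPrime P) (a x) *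
          (if Finsupp.single x 1 = Finsupp.single i 1 then (1 : Localization.AtPrime P) else 0)) =
          algebraMap D (Localization.AtPrime P) (a i) := by
        rw [Finset.sum_eq_single i]
        · simp
        · intro b _ hb
          have : Finsupp.single b 1 ≠ Finsupp.single i 1 := by
            intro h
            exact hb ((Finsupp.single_left_inj one_ne_zero).mp h)
          simp [this]
        · simp
      rw [h2] at h1
      exact h1
    · apply MvPolynomial.IsHomogeneous.sum
      intro j _
      have := (MvPolynomial.isHomogeneous_C (Fin c)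
        (algebraMap D (Localization.AtPrime P) (a j))).mul (MvPolynomial.isHomogeneous_X _ j)
      simpa using this
    · rw [map_sum]
      simp only [map_mul, MvPolynomial.eval_C, MvPolynomial.eval_X]
      rw [hspan, ← Ideal.map_pow]
      have : ∑ x : Fin c, algebraMap D (Localization.AtPrime P) (a x) *
          algebraMap D (Localization.AtPrime P) (f x) =
          algebraMap D (Localization.AtPrime P) (∑ j, a j * f j) := by
        rw [map_sum]
        simp
      rw [this]
      exact Ideal.mem_map_of_mem _ ha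
  · obtain ⟨x, hxI, hxP⟩ := SetLike.not_le_iff_exists.mp hle
    have htop : (Ideal.span (Set.range f)).map (algebraMap D (Localization.AtPrime P)) = ⊤ := by
      apply Ideal.eq_top_of_isUnit_mem _ (Ideal.mem_map_of_mem _ hxI)
      exact IsLocalization.map_units (Localization.AtPrime P) (⟨x, hxP⟩ : P.primeCompl)
    rw [htop]
    trivial

end conormal

end Groth.Agent.R2.H42.RelGCIFlat
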