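import Mathlib

/-!
# helper43: composite valuation rings

`B` a valuation subring of `K`, `ρ : B → k` a local homomorphism to a field (the residue map) and
`A` a valuation subring of `k`.  The composite `comp B ρ A = ρ⁻¹(A)` is a valuation subring of `K`
contained in `B`.  Given a valuation ring `C'` dominating the composite (in a field extension
`ψ : K → K'`), `loc … : ValuationSubring K'` is the localisation of `C'` at the image of the
complement of `ker (ρ|C)`; it dominates `B`.
-/

set_option autoImplicit false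
set_option linter.style.haveILetI false
set_option linter.unusedSectionVars false

universe u

namespace Groth.Agent.R2.H43.CompVal

variable {K k : Type u} [Field K] [Field k] (B : ValuationSubring K) (ρ : B →+* k) [IsLocalHom ρ]
  (A : ValuationSubring k)

lemma map_eq_zero_iff (b : B) : ρ b = 0 ↔ ¬ IsUnit b := by
  constructor
  · intro h hb
    have := hb.map ρ
    rw [h] at this
    exact not_isUnit_zero this
  · intro h
    by_contra h0
    exact h (IsUnit.of_map ρ b (isUnit_iff_ne_zero.2 h0))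

/-- the composite valuation ring `ρ⁻¹(A) ⊆ B ⊆ K`. -/
def comp : ValuationSubring K where
  carrier := {x | ∃ hx : x ∈ B, ρ ⟨x, hx⟩ ∈ A}
  mul_mem' := by
    rintro x y ⟨hx, hx'⟩ ⟨hy, hy'⟩
    refine ⟨B.mul_mem _ _ hx hy, ?_⟩
    have : (⟨x * y, B.mul_mem _ _ hx hy⟩ : B) = ⟨x, hx⟩ * ⟨y, hy⟩ := rfl
    rw [this, map_mul]
    exact A.mul_mem _ _ hx' hy'
  one_mem' := ⟨B.one_mem, by
    have : (⟨1, B.one_mem⟩ : B) = 1 := rfl
    rw [this, map_one]; exact A.one_mem⟩
  add_mem' := by
    rintro x y ⟨hx, hx'⟩ ⟨hy, hy'⟩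
    refine ⟨B.add_mem _ _ hx hy, ?_⟩
    have : (⟨x + y, B.add_mem _ _ hx hy⟩ : B) = ⟨x, hx⟩ + ⟨y, hy⟩ := rfl
    rw [this, map_add]
    exact A.add_mem _ _ hx' hy'
  zero_mem' := ⟨B.zero_mem, by
    have : (⟨0, B.zero_mem⟩ : B) = 0 := rfl
    rw [this, map_zero]; exact A.zero_mem⟩
  neg_mem' := by
    rintro x ⟨hx, hx'⟩
    refine ⟨B.neg_mem _ hx, ?_⟩
    have : (⟨-x, B.neg_mem _ hx⟩ : B) = -⟨x, hx⟩ := rfl
    rw [this, map_neg]
    exact A.neg_mem _ hx'
  mem_or_inv_mem' := by
    intro x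
    rcases B.mem_or_inv_mem x with hx | hx
    · by_cases hu : IsUnit (⟨x, hx⟩ : B)
      · -- a unit of `B`
        obtain ⟨u, hu'⟩ := hu
        have hxinv : x⁻¹ ∈ B := by
          have h1 : ((u⁻¹ : Bˣ) : B).1 = x⁻¹ := by
            have h2 : (u : B).1 * ((u⁻¹ : Bˣ) : B).1 = 1 := by
              have := congrArg Subtype.val (u.mul_inv)
              exact this
            rw [hu'] at h2
            exact eq_inv_of_mul_eq_one_right h2
          rw [← h1]
          exact ((u⁻¹ : Bˣ) : B).2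
        have hmul : (⟨x, hx⟩ : B) * ⟨x⁻¹, hxinv⟩ = 1 := by
          apply Subtype.ext
          change x * x⁻¹ = 1
          have hx0 : x ≠ 0 := by
            rintro rfl
            have : (u : B) = 0 := by rw [hu']; rfl
            exact u.ne_zero this
          exact mul_inv_cancel₀ hx0
        have hρ : ρ ⟨x, hx⟩ * ρ ⟨x⁻¹, hxinv⟩ = 1 := by rw [← map_mul, hmul, map_one]
        rcases A.mem_or_inv_mem (ρ ⟨x, hx⟩) with h | h
        · exact Or.inl ⟨hx, h⟩
        · refine Or.inr ⟨hxinv, ?_⟩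
          rw [eq_inv_of_mul_eq_one_right hρ]
          exact h
      · exact Or.inl ⟨hx, by rw [(map_eq_zero_iff B ρ _).2 hu]; exact A.zero_mem⟩
    · by_cases hu : IsUnit (⟨x⁻¹, hx⟩ : B)
      · -- then `x ∈ B` as well; reduce to the first case by symmetry
        obtain ⟨u, hu'⟩ := hu
        have hxB : x ∈ B := by
          have h1 : ((u⁻¹ : Bˣ) : B).1 = x := by
            have h2 : (u : B).1 * ((u⁻¹ : Bˣ) : B).1 = 1 := by
              have := congrArg Subtype.val (u.mul_inv)
              exact this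
            rw [hu'] at h2
            have := eq_inv_of_mul_eq_one_right h2
            rw [this, inv_inv]
          rw [← h1]
          exact ((u⁻¹ : Bˣ) : B).2
        have hx0 : x ≠ 0 := by
          rintro rfl
          have : (u : B) = 0 := by rw [hu']; apply Subtype.ext; simp
          exact u.ne_zero this
        have hmul : (⟨x, hxB⟩ : B) * ⟨x⁻¹, hx⟩ = 1 := by
          apply Subtype.ext
          change x * x⁻¹ = 1
          exact mul_inv_cancel₀ hx0
        have hρ : ρ ⟨x, hxB⟩ * ρ ⟨x⁻¹, hx⟩ = 1 := by rw [← map_mul, hmul, map_one]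
        rcases A.mem_or_inv_mem (ρ ⟨x, hxB⟩) with h | h
        · exact Or.inl ⟨hxB, h⟩
        · refine Or.inr ⟨hx, ?_⟩
          rw [eq_inv_of_mul_eq_one_right hρ]
          exact h
      · exact Or.inr ⟨hx, by rw [(map_eq_zero_iff B ρ _).2 hu]; exact A.zero_mem⟩

lemma mem_comp {x : K} : x ∈ comp B ρ A ↔ ∃ hx : x ∈ B, ρ ⟨x, hx⟩ ∈ A := Iff.rfl

lemma comp_le : comp B ρ A ≤ B := fun _ hx => hx.1

/-- the inclusion of the composite into `B`. -/
def incl : comp B ρ A →+* B := Subring.inclusion (comp_le B ρ A)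

@[simp] lemma incl_coe (c : comp B ρ A) : ((incl B ρ A c : B) : K) = (c : K) := rfl

/-- the residue map of the composite, `comp → A`. -/
def res : comp B ρ A →+* A :=
  (ρ.comp (incl B ρ A)).codRestrict A.toSubring (fun c => by
    obtain ⟨hx, h⟩ := c.2
    exact h)

@[simp] lemma res_coe (c : comp B ρ A) : ((res B ρ A c : A) : k) = ρ (incl B ρ A c) := rfl

instance isLocalHom_res : IsLocalHom (res B ρ A) := by
  refine ⟨fun c hc => ?_⟩
  -- `ρ c` is a unit of `A`, so `c` is a unit of `B` whose inverse lies in the composite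
  obtain ⟨v, hv⟩ := hc
  have hne : ρ (incl B ρ A c) ≠ 0 := by
    intro h0
    have h1 : ((v : A) : k) = 0 := by rw [hv, res_coe, h0]
    have h2 : (v : A) = 0 := Subtype.ext h1
    exact v.ne_zero h2
  have hu : IsUnit (incl B ρ A c) := by
    by_contra hnu
    exact hne ((map_eq_zero_iff B ρ _).2 hnu)
  obtain ⟨w, hw⟩ := hu
  have hmul : (w : B) * ((w⁻¹ : Bˣ) : B) = 1 := w.mul_inv
  have hρ : ρ (w : B) * ρ ((w⁻¹ : Bˣ) : B) = 1 := by rw [← map_mul, hmul, map_one]
  have hvinv : ((v⁻¹ : Aˣ) : A).1 = ρ ((w⁻¹ : Bˣ) : B) := by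
    have h3 : ((v : A) : k) * ((v⁻¹ : Aˣ) : A).1 = 1 := by
      have := congrArg Subtype.val v.mul_inv
      exact this
    rw [hv, res_coe, ← hw] at h3
    rw [eq_inv_of_mul_eq_one_right h3, eq_inv_of_mul_eq_one_right hρ]
  have hmem : (((w⁻¹ : Bˣ) : B) : K) ∈ comp B ρ A :=
    ⟨((w⁻¹ : Bˣ) : B).2, by
      have : (⟨(((w⁻¹ : Bˣ) : B) : K), ((w⁻¹ : Bˣ) : B).2⟩ : B) = ((w⁻¹ : Bˣ) : B) := rfl
      rw [this, ← hvinv]
      exact ((v⁻¹ : Aˣ) : A).2⟩
  refine ⟨⟨c, ⟨_, hmem⟩, ?_, ?_⟩, rfl⟩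
  · apply Subtype.ext
    have := congrArg Subtype.val hmul
    rw [hw] at this
    exact this
  · apply Subtype.ext
    have := congrArg Subtype.val hmul
    rw [hw] at this
    change (((w⁻¹ : Bˣ) : B) : K) * (c : K) = 1
    rw [mul_comm]
    exact this

/-- a ring map to `B` whose residues lie in `A` factors through the composite. -/
def lift {R : Type u} [CommRing R] (r : R →+* B) (hr : ∀ x, ρ (r x) ∈ A) : R →+* comp B ρ A :=
  ((B.subtype).comp r).codRestrict (comp B ρ A).toSubring (fun x => ⟨(r x).2, hr x⟩)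

@[simp] lemma incl_lift {R : Type u} [CommRing R] (r : R →+* B) (hr : ∀ x, ρ (r x) ∈ A) (x : R) :
    incl B ρ A (lift B ρ A r hr x) = r x := rfl

/-- given a ring map `r : R₀ → B` and a prime `p` of `R₀` containing the kernel of `ρ ∘ r`, there is
a valuation ring `A` of `k` such that `r` factors through the composite and the closed point of
the composite lies over `p`. -/
theorem exists_valuationSubring_lift {R₀ : Type u} [CommRing R₀] (r : R₀ →+* B) (p : Ideal R₀)
    [p.IsPrime] (hp : RingHom.ker (ρ.comp r) ≤ p) :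
    ∃ (A : ValuationSubring k) (hr : ∀ x, ρ (r x) ∈ A),
      Ideal.comap (lift B ρ A r hr) (IsLocalRing.maximalIdeal (comp B ρ A)) = p := by
  have hu : ∀ s : p.primeCompl, IsUnit ((ρ.comp r) (s : R₀)) := by
    intro s
    rw [isUnit_iff_ne_zero]
    intro h0
    exact s.2 (hp ((RingHom.mem_ker).2 h0))
  let φy : Localization.AtPrime p →+* k := IsLocalization.lift (M := p.primeCompl) hu
  have hφy : ∀ x : R₀, φy (algebraMap R₀ (Localization.AtPrime p) x) = ρ (r x) := fun x =>
    IsLocalization.lift_eq hu x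
  obtain ⟨A, hA, hloc⟩ := IsLocalRing.exists_factor_valuationRing φy
  have hr : ∀ x, ρ (r x) ∈ A := fun x => by rw [← hφy]; exact hA _
  refine ⟨A, hr, ?_⟩
  have hres : ∀ x : R₀, res B ρ A (lift B ρ A r hr x) =
      φy.codRestrict A.toSubring hA (algebraMap R₀ (Localization.AtPrime p) x) := by
    intro x
    apply Subtype.ext
    change ρ (r x) = φy (algebraMap R₀ (Localization.AtPrime p) x)
    rw [hφy]
  ext x
  rw [Ideal.mem_comap, IsLocalRing.mem_maximalIdeal, mem_nonunits_iff]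
  constructor
  · intro hx
    by_contra hxp
    apply hx
    have h1 : IsUnit (algebraMap R₀ (Localization.AtPrime p) x) :=
      (IsLocalization.AtPrime.isUnit_to_map_iff (Localization.AtPrime p) p x).2 hxp
    have h2 := h1.map (φy.codRestrict A.toSubring hA)
    rw [← hres] at h2
    exact IsUnit.of_map (res B ρ A) _ h2
  · intro hxp hx
    have h2 := hx.map (res B ρ A)
    rw [hres] at h2
    have h1 : IsUnit (algebraMap R₀ (Localization.AtPrime p) x) :=
      IsUnit.of_map (φy.codRestrict A.toSubring hA) _ h2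
    exact (IsLocalization.AtPrime.isUnit_to_map_iff (Localization.AtPrime p) p x).1 h1 hxp

section loc

variable {C' K' : Type u} [CommRing C'] [IsDomain C'] [ValuationRing C'] [Field K'] [Algebra C' K']
  [IsFractionRing C' K'] (φ : comp B ρ A →+* C') (ψ : K →+* K') [IsLocalHom φ]
  (hcomm : (algebraMap C' K').comp φ = ψ.comp (algebraMap (comp B ρ A) K))

omit [IsDomain C'] [ValuationRing C'] [IsFractionRing C' K'] [IsLocalHom φ] in
include hcomm in
lemma psi_coe (c : comp B ρ A) : ψ (c : K) = algebraMap C' K' (φ c) :=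
  (congrArg (fun f => f c) hcomm).symm

include hcomm in
/-- an element of `K` whose image in `K'` lies in `C'` lies in the composite (domination). -/
lemma mem_comp_of_psi_mem {x : K} (hx : ∃ c' : C', algebraMap C' K' c' = ψ x) :
    x ∈ comp B ρ A := by
  rcases (comp B ρ A).mem_or_inv_mem x with h | h
  · exact h
  · by_contra hx'
    have hx0 : x ≠ 0 := by
      rintro rfl
      exact hx' (comp B ρ A).zero_mem
    obtain ⟨c', hc'⟩ := hx
    let y : comp B ρ A := ⟨x⁻¹, h⟩
    have hy : ¬ IsUnit y := by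
      rintro ⟨u, hu⟩
      apply hx'
      have h1 : (((u⁻¹ : (comp B ρ A)ˣ) : comp B ρ A) : K) = x := by
        have h2 : ((u : comp B ρ A) : K) * (((u⁻¹ : (comp B ρ A)ˣ) : comp B ρ A) : K) = 1 := by
          have := congrArg Subtype.val u.mul_inv
          exact this
        rw [hu] at h2
        have := eq_inv_of_mul_eq_one_right h2
        rw [this]
        change (x⁻¹)⁻¹ = x
        rw [inv_inv]
      rw [← h1]
      exact ((u⁻¹ : (comp B ρ A)ˣ) : comp B ρ A).2
    apply hy
    apply IsUnit.of_map φ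
    have h3 : algebraMap C' K' (φ y * c') = 1 := by
      rw [map_mul, ← psi_coe B ρ A φ ψ hcomm, hc']
      change ψ x⁻¹ * ψ x = 1
      rw [← map_mul, inv_mul_cancel₀ hx0, map_one]
    have h4 : φ y * c' = 1 := by
      apply IsFractionRing.injective C' K'
      rw [h3, map_one]
    exact IsUnit.of_mul_eq_one _ h4

/-- the localisation of `C'` at the image of the complement of the kernel of the residue map of the
composite, as a valuation subring of `K'`. -/
def loc : ValuationSubring K' where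
  carrier := {x | ∃ s : comp B ρ A, res B ρ A s ≠ 0 ∧ ∃ c' : C', algebraMap C' K' c' = ψ (s : K) * x}
  mul_mem' := by
    rintro x y ⟨s, hs, c, hc⟩ ⟨t, ht, d, hd⟩
    refine ⟨s * t, by rw [map_mul]; exact mul_ne_zero hs ht, c * d, ?_⟩
    rw [map_mul, hc, hd]
    change _ = ψ ((s : K) * (t : K)) * _
    rw [map_mul]
    ring
  one_mem' := ⟨1, by rw [map_one]; exact one_ne_zero, 1, by simp⟩
  add_mem' := by
    rintro x y ⟨s, hs, c, hc⟩ ⟨t, ht, d, hd⟩
    refine ⟨s * t, by rw [map_mul]; exact mul_ne_zero hs ht, φ t * c + φ s * d, ?_⟩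
    rw [map_add, map_mul, map_mul, hc, hd, ← psi_coe B ρ A φ ψ hcomm, ← psi_coe B ρ A φ ψ hcomm]
    change _ = ψ ((s : K) * (t : K)) * _
    rw [map_mul]
    ring
  zero_mem' := ⟨1, by rw [map_one]; exact one_ne_zero, 0, by simp⟩
  neg_mem' := by
    rintro x ⟨s, hs, c, hc⟩
    exact ⟨s, hs, -c, by rw [map_neg, hc]; ring⟩
  mem_or_inv_mem' := by
    intro x
    rcases ValuationRing.isInteger_or_isInteger C' x with ⟨c, hc⟩ | ⟨c, hc⟩
    · exact Or.inl ⟨1, by rw [map_one]; exact one_ne_zero, c, by simp [hc]⟩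
    · exact Or.inr ⟨1, by rw [map_one]; exact one_ne_zero, c, by simp [hc]⟩

include hcomm in
lemma psi_mem_loc (b : B) : ψ (b : K) ∈ loc B ρ A φ ψ hcomm := by
  by_cases hb : (b : K) ∈ comp B ρ A
  · exact ⟨1, by rw [map_one]; exact one_ne_zero, φ ⟨b, hb⟩, by
      rw [← psi_coe B ρ A φ ψ hcomm]; simp⟩
  · -- `b` is a unit of `B` whose inverse lies in the composite
    have hu : IsUnit b := by
      by_contra hnu
      apply hb
      refine ⟨b.2, ?_⟩
      have : (⟨(b : K), b.2⟩ : B) = b := rfl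
      rw [this, (map_eq_zero_iff B ρ b).2 hnu]
      exact A.zero_mem
    obtain ⟨w, hw⟩ := hu
    have hmul : (w : B) * ((w⁻¹ : Bˣ) : B) = 1 := w.mul_inv
    have hρ : ρ (w : B) * ρ ((w⁻¹ : Bˣ) : B) = 1 := by rw [← map_mul, hmul, map_one]
    have hρb : ρ b ∉ A := by
      intro h
      apply hb
      exact ⟨b.2, h⟩
    have hinvA : ρ ((w⁻¹ : Bˣ) : B) ∈ A := by
      rcases A.mem_or_inv_mem (ρ b) with h | h
      · exact absurd h hρb
      · rw [← hw] at h
        rw [eq_inv_of_mul_eq_one_right hρ]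
        exact h
    let s : comp B ρ A := ⟨(((w⁻¹ : Bˣ) : B) : K), ((w⁻¹ : Bˣ) : B).2, hinvA⟩
    have hs : res B ρ A s ≠ 0 := by
      intro h0
      have h1 : ρ ((w⁻¹ : Bˣ) : B) = 0 := by
        have := congrArg Subtype.val h0
        exact this
      rw [h1, mul_zero] at hρ
      exact zero_ne_one hρ
    refine ⟨s, hs, 1, ?_⟩
    rw [map_one, ← map_mul]
    have h5 : (s : K) * (b : K) = 1 := by
      have := congrArg Subtype.val hmul
      rw [hw] at this
      change (((w⁻¹ : Bˣ) : B) : K) * (b : K) = 1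
      rw [mul_comm]
      exact this
    rw [h5, map_one]

/-- the map `B → loc`. -/
def toLoc : B →+* loc B ρ A φ ψ hcomm :=
  (ψ.comp B.subtype).codRestrict (loc B ρ A φ ψ hcomm).toSubring
    (fun b => psi_mem_loc B ρ A φ ψ hcomm b)

@[simp] lemma toLoc_coe (b : B) : ((toLoc B ρ A φ ψ hcomm b : loc B ρ A φ ψ hcomm) : K') = ψ (b : K) :=
  rfl

/-- the map `C' → loc`. -/
def ofC' : C' →+* loc B ρ A φ ψ hcomm :=
  (algebraMap C' K').codRestrict (loc B ρ A φ ψ hcomm).toSubring
    (fun c => ⟨1, by rw [map_one]; exact one_ne_zero, c, by simp⟩)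

@[simp] lemma ofC'_coe (c : C') : ((ofC' B ρ A φ ψ hcomm c : loc B ρ A φ ψ hcomm) : K') =
    algebraMap C' K' c := rfl

lemma ofC'_comp_phi : (ofC' B ρ A φ ψ hcomm).comp φ = (toLoc B ρ A φ ψ hcomm).comp (incl B ρ A) := by
  ext c
  change algebraMap C' K' (φ c) = ψ (c : K)
  exact (psi_coe B ρ A φ ψ hcomm c).symm

instance isLocalHom_toLoc : IsLocalHom (toLoc B ρ A φ ψ hcomm) := by
  refine ⟨fun b hb => ?_⟩
  by_contra hnu
  obtain ⟨v, hv⟩ := hb
  -- the inverse of `ψ b` lies in `loc`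
  have hb0 : (b : K) ≠ 0 := by
    intro h0
    have h1 : ((v : loc B ρ A φ ψ hcomm) : K') = 0 := by rw [hv, toLoc_coe, h0, map_zero]
    exact v.ne_zero (Subtype.ext h1)
  have hinv : (ψ (b : K))⁻¹ ∈ loc B ρ A φ ψ hcomm := by
    have h2 : ((v : loc B ρ A φ ψ hcomm) : K') *
        (((v⁻¹ : (loc B ρ A φ ψ hcomm)ˣ) : loc B ρ A φ ψ hcomm) : K') = 1 := by
      have := congrArg Subtype.val v.mul_inv
      exact this
    rw [hv, toLoc_coe] at h2
    rw [← eq_inv_of_mul_eq_one_right h2]
    exact ((v⁻¹ : (loc B ρ A φ ψ hcomm)ˣ) : loc B ρ A φ ψ hcomm).2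
  obtain ⟨s, hs, c', hc'⟩ := hinv
  have hsb : (s : K) * (b : K)⁻¹ ∈ comp B ρ A := by
    apply mem_comp_of_psi_mem B ρ A φ ψ hcomm
    refine ⟨c', ?_⟩
    rw [hc', map_mul, map_inv₀]
  -- hence `s = b * (s / b)` is a non-unit of `B`
  apply hs
  apply Subtype.ext
  change ρ (incl B ρ A s) = 0
  rw [map_eq_zero_iff]
  have heq : incl B ρ A s = b * incl B ρ A ⟨_, hsb⟩ := by
    apply Subtype.ext
    change (s : K) = (b : K) * ((s : K) * (b : K)⁻¹)
    field_simp
  rw [heq]
  intro hu
  exact hnu (isUnit_of_mul_isUnit_left hu)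

end loc

end Groth.Agent.R2.H43.CompVal
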