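import Mathlib
import Groth.Agent.R2.H45Dim

set_option autoImplicit false
set_option linter.style.haveILetI false
universe u
open CategoryTheory CategoryTheory.Limits AlgebraicGeometry

namespace Groth.Agent.R2.H43.DimZero

/-- a nonempty scheme has a point whose local ring has dimension zero. -/
theorem exists_stalk_dim_zero (V : Scheme.{u}) [Nonempty V] :
    ∃ η : V, ringKrullDim (V.presheaf.stalk η) = 0 := by
  obtain ⟨v₀⟩ := ‹Nonempty V›
  obtain ⟨W, hW, hvW, -⟩ := exists_isAffineOpen_mem_and_subset (x := v₀) (U := ⊤) trivial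
  let p₀ := hW.primeIdealOf ⟨v₀, hvW⟩
  obtain ⟨P, hP, hPle⟩ := Ideal.exists_minimalPrimes_le (bot_le : (⊥ : Ideal Γ(V, W)) ≤ p₀.asIdeal)
  haveI : P.IsPrime := hP.1.1
  let y : PrimeSpectrum Γ(V, W) := ⟨P, inferInstance⟩
  have hy : hW.fromSpec y ∈ W := by
    have : hW.fromSpec y ∈ Set.range hW.fromSpec := ⟨y, rfl⟩
    rw [hW.range_fromSpec] at this
    exact this
  refine ⟨hW.fromSpec y, ?_⟩
  have hloc := hW.isLocalization_stalk' y hy
  have h1 := @IsLocalization.AtPrime.ringKrullDim_eq_height _ _ y.asIdeal _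
    (V.presheaf.stalk (hW.fromSpec y)) _
    (TopCat.Presheaf.algebra_section_stalk V.presheaf ⟨hW.fromSpec y, hy⟩) hloc
  rw [h1, Ideal.height_eq_zero_iff.2 hP]
  rfl

/-- a reduced locally Noetherian scheme all of whose local rings have dimension zero is covered by
open spectra of fields. -/
theorem exists_field_chart_of_dim_zero {V : Scheme.{u}} [IsLocallyNoetherian V] [IsReduced V]
    (h0 : ∀ v : V, ringKrullDim (V.presheaf.stalk v) = 0) (v : V) :
    ∃ (F : CommRingCat.{u}) (_ : IsField F) (j : Spec F ⟶ V), IsOpenImmersion j ∧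
      v ∈ Set.range j := by
  have hdim : topologicalKrullDim V ≤ 0 := by
    rw [Groth.Agent.R2.H45.Dim.topologicalKrullDim_eq_iSup_stalk]
    exact iSup_le fun x => (h0 x).le
  haveI := IsLocallyArtinian.of_topologicalKrullDim_le_zero hdim
  haveI : DiscreteTopology V := inferInstance
  let O : V.Opens := ⟨{v}, isOpen_discrete _⟩
  obtain ⟨W, hW, hvW, hWO⟩ := exists_isAffineOpen_mem_and_subset (x := v) (U := O) rfl
  refine ⟨Γ(V, W), ?_, hW.fromSpec, inferInstance, ?_⟩
  · haveI : Nonempty W := ⟨⟨v, hvW⟩⟩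
    haveI : Nontrivial Γ(V, W) := inferInstance
    rw [← PrimeSpectrum.subsingleton_iff_isField_of_isReduced]
    constructor
    intro a b
    have ha : hW.fromSpec a = v := by
      have : hW.fromSpec a ∈ Set.range hW.fromSpec := ⟨a, rfl⟩
      rw [hW.range_fromSpec] at this
      exact hWO this
    have hb : hW.fromSpec b = v := by
      have : hW.fromSpec b ∈ Set.range hW.fromSpec := ⟨b, rfl⟩
      rw [hW.range_fromSpec] at this
      exact hWO this
    exact hW.fromSpec.isOpenEmbedding.injective (ha.trans hb.symm)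
  · rw [hW.range_fromSpec]
    exact hvW

end Groth.Agent.R2.H43.DimZero
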