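import Mathlib

/-!
# helper43: the finite-variable reduction behind "universally closed iff closed after `𝔸ⁿ`"

Pure commutative algebra. `Γ` is a ring generated by the images of `A` and `B` (think
`Γ = A ⊗[R] B`), `I` an ideal of `Γ` and `p` a prime of `A` not in the image of `V(I)`.  Then
finitely many elements `v₁, …, vₙ` of `A` suffice to see this: with `ψ : B[x₁..xₙ] → Γ` and
`θ : R[x₁..xₙ] → A` the evaluation maps, `θ⁻¹ p` is not in the image of `V(ψ⁻¹ I)` under
`Spec B[x] → Spec R[x]`.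
-/

set_option autoImplicit false
set_option linter.style.haveILetI false

universe u

namespace Groth.Agent.R2.H43.UCAlg

open MvPolynomial

variable {R A B Γ : Type u} [CommRing R] [CommRing A] [CommRing B] [CommRing Γ]

/-- if `p ∉ image of V(I)` then some `g ∉ p` lies in `I + pΓ`. -/
lemma exists_not_mem_of_not_mem_image (α : A →+* Γ) (I : Ideal Γ) (p : PrimeSpectrum A)
    (hp : p ∉ PrimeSpectrum.comap α '' PrimeSpectrum.zeroLocus (I : Set Γ)) :
    ∃ g : A, g ∉ p.asIdeal ∧ α g ∈ I ⊔ p.asIdeal.map α := by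
  let f : A →+* Γ ⧸ I := (Ideal.Quotient.mk I).comp α
  have hne : (p.asIdeal.map f).comap f ≠ p.asIdeal := by
    intro h
    obtain ⟨q, hq, hqp⟩ := (Ideal.comap_map_eq_self_iff_of_isPrime p.asIdeal).1 h
    apply hp
    refine ⟨⟨q.comap (Ideal.Quotient.mk I), inferInstance⟩, ?_, ?_⟩
    · intro x hx
      change Ideal.Quotient.mk I x ∈ q
      rw [Ideal.Quotient.eq_zero_iff_mem.2 hx]
      exact q.zero_mem
    · apply PrimeSpectrum.ext
      change (q.comap (Ideal.Quotient.mk I)).comap α = p.asIdeal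
      rw [Ideal.comap_comap]
      exact hqp
  have hle : p.asIdeal ≤ (p.asIdeal.map f).comap f := Ideal.le_comap_map
  obtain ⟨g, hg1, hg2⟩ := SetLike.exists_of_lt (lt_of_le_of_ne hle hne.symm)
  refine ⟨g, hg2, ?_⟩
  have h1 : f g ∈ (p.asIdeal.map α).map (Ideal.Quotient.mk I) := by
    rw [Ideal.map_map]
    exact hg1
  rw [sup_comm]
  exact Ideal.mem_quotient_iff_mem_sup.1 h1

/-- the evaluation `B[x_a : a ∈ A] → Γ` is surjective when `Γ` is generated by `A` and `B`. -/
lemma eval₂Hom_surjective (α : A →+* Γ) (β : B →+* Γ)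
    (hgen : Subring.closure (Set.range α ∪ Set.range β) = ⊤) :
    Function.Surjective (eval₂Hom β α : MvPolynomial A B →+* Γ) := by
  rw [← RingHom.range_eq_top, eq_top_iff, ← hgen, Subring.closure_le]
  rintro x (⟨a, rfl⟩ | ⟨b, rfl⟩)
  · exact ⟨X a, by simp⟩
  · exact ⟨C b, by simp⟩

theorem exists_finite_vars (ρA : R →+* A) (ρB : R →+* B) (α : A →+* Γ) (β : B →+* Γ)
    (hgen : Subring.closure (Set.range α ∪ Set.range β) = ⊤)
    (I : Ideal Γ) (p : PrimeSpectrum A)
    (hp : p ∉ PrimeSpectrum.comap α '' PrimeSpectrum.zeroLocus (I : Set Γ)) :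
    ∃ (n : ℕ) (v : ULift.{u} (Fin n) → A),
      PrimeSpectrum.comap (eval₂Hom ρA v) p ∉
        PrimeSpectrum.comap (MvPolynomial.map ρB) ''
          PrimeSpectrum.zeroLocus
            ((I.comap (eval₂Hom β (α ∘ v)) : Ideal (MvPolynomial (ULift.{u} (Fin n)) B)) :
              Set (MvPolynomial (ULift.{u} (Fin n)) B)) := by
  classical
  obtain ⟨g, hgp, hgI⟩ := exists_not_mem_of_not_mem_image α I p hp
  obtain ⟨i, hi, y, hy, hgy⟩ := Submodule.mem_sup.1 hgI
  rw [Ideal.map, Ideal.span, Finsupp.mem_span_image_iff_linearCombination] at hy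
  obtain ⟨l, hl, rfl⟩ := hy
  have hΨ := eval₂Hom_surjective α β hgen
  set Ψ : MvPolynomial A B →+* Γ := eval₂Hom β α with hΨdef
  obtain ⟨Pi, hPi⟩ := hΨ i
  choose Q hQ using fun a : A => hΨ (l a)
  let s : Finset A := {g} ∪ l.support ∪ Pi.vars ∪ l.support.biUnion fun a => (Q a).vars
  let n := s.card
  let v : ULift.{u} (Fin n) → A := fun j => (s.equivFin.symm j.down).1
  have hvinj : Function.Injective v := by
    intro j j' h
    have := s.equivFin.symm.injective (Subtype.ext h)
    exact ULift.ext _ _ this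
  have hvrange : Set.range v = ↑s := by
    ext a
    constructor
    · rintro ⟨j, rfl⟩
      exact (s.equivFin.symm j.down).2
    · intro ha
      exact ⟨ULift.up (s.equivFin ⟨a, ha⟩), by simp [v]⟩
  have hidx : ∀ a ∈ s, ∃ j, v j = a := fun a ha => by
    have : a ∈ Set.range v := by rw [hvrange]; exact ha
    exact this
  have hgs : g ∈ s := by simp [s]
  have hls : ∀ a ∈ l.support, a ∈ s := fun a ha => by
    simp only [s, Finset.mem_union]
    exact Or.inl (Or.inl (Or.inr ha))
  obtain ⟨Pi', hPi'⟩ := exists_rename_eq_of_vars_subset_range Pi v hvinj (by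
    rw [hvrange]
    intro a ha
    simp only [s, Finset.coe_union, Set.mem_union]
    exact Or.inl (Or.inr ha))
  have hQ' : ∀ a ∈ l.support, ∃ q : MvPolynomial (ULift.{u} (Fin n)) B, rename v q = Q a :=
    fun a ha => exists_rename_eq_of_vars_subset_range (Q a) v hvinj (by
      rw [hvrange]
      intro a' ha'
      simp only [s, Finset.coe_union, Set.mem_union]
      refine Or.inr ?_
      simp only [Finset.coe_biUnion, Set.mem_iUnion]
      exact ⟨a, ha, ha'⟩)
  refine ⟨n, v, ?_⟩
  rintro ⟨q', hq', hqeq⟩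
  have hψ : (eval₂Hom β (α ∘ v) : MvPolynomial (ULift.{u} (Fin n)) B →+* Γ) =
      Ψ.comp (rename v : MvPolynomial (ULift.{u} (Fin n)) B →ₐ[B] MvPolynomial A B).toRingHom := by
    ext x
    · simp [Ψ]
    · simp [Ψ]
  have hJ : ∀ x : MvPolynomial (ULift.{u} (Fin n)) B, Ψ (rename v x) ∈ I → x ∈ q'.asIdeal := by
    intro x hx
    apply hq'
    change x ∈ I.comap (eval₂Hom β (α ∘ v))
    rw [Ideal.mem_comap, hψ]
    exact hx
  -- variables indexed by elements of `p` lie in `q'`
  have hvar : ∀ j, v j ∈ p.asIdeal → (X j : MvPolynomial (ULift.{u} (Fin n)) B) ∈ q'.asIdeal := by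
    intro j hj
    have h1 : (X j : MvPolynomial (ULift.{u} (Fin n)) R) ∈
        (PrimeSpectrum.comap (eval₂Hom ρA v) p).asIdeal := by
      change eval₂Hom ρA v (X j) ∈ p.asIdeal
      simpa using hj
    rw [← hqeq] at h1
    change MvPolynomial.map ρB (X j) ∈ q'.asIdeal at h1
    simpa using h1
  obtain ⟨jg, hjg⟩ := hidx g hgs
  -- the variable of `g` lies in `q'`
  have hXg : (X jg : MvPolynomial (ULift.{u} (Fin n)) B) ∈ q'.asIdeal := by
    haveI : Nonempty (ULift.{u} (Fin n)) := ⟨jg⟩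
    choose! Q' hQ'' using hQ'
    choose! jj hjj using hidx
    have hdecomp : (X jg : MvPolynomial (ULift.{u} (Fin n)) B) =
        (X jg - Pi' - ∑ a ∈ l.support, Q' a * X (jj a)) + Pi' +
          ∑ a ∈ l.support, Q' a * X (jj a) := by ring
    rw [hdecomp]
    refine q'.asIdeal.add_mem (q'.asIdeal.add_mem (hJ _ ?_) (hJ _ ?_)) ?_
    · have : Ψ (rename v (X jg - Pi' - ∑ a ∈ l.support, Q' a * X (jj a))) = 0 := by
        simp only [map_sub, map_sum, map_mul, rename_X, hPi', hPi]
        have h2 : ∀ a ∈ l.support, Ψ (rename v (Q' a)) * Ψ (X (v (jj a))) = l a * α a := by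
          intro a ha
          rw [hQ'' a ha, hQ a, hjj a (hls a ha)]
          simp [Ψ]
        rw [Finset.sum_congr rfl h2, hjg]
        have h3 : Ψ (X g) = α g := by simp [Ψ]
        rw [h3, ← hgy, Finsupp.linearCombination_apply, Finsupp.sum]
        simp only [smul_eq_mul]
        ring
      rw [this]
      exact I.zero_mem
    · rw [hPi', hPi]
      exact hi
    · refine q'.asIdeal.sum_mem fun a ha => q'.asIdeal.mul_mem_left _ (hvar _ ?_)
      rw [hjj a (hls a ha)]
      exact hl ha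
  -- hence `g ∈ p`
  have h4 : MvPolynomial.map ρB (X jg : MvPolynomial (ULift.{u} (Fin n)) R) ∈ q'.asIdeal := by
    simpa using hXg
  have h5 : (X jg : MvPolynomial (ULift.{u} (Fin n)) R) ∈
      (PrimeSpectrum.comap (MvPolynomial.map ρB) q').asIdeal := h4
  rw [hqeq] at h5
  change eval₂Hom ρA v (X jg) ∈ p.asIdeal at h5
  rw [eval₂Hom_X', hjg] at h5
  exact hgp h5

end Groth.Agent.R2.H43.UCAlg
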