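import Mathlib
import Groth.Agent.R2.H84FibCritSch
import Groth.Agent.Lib.Helper12LocPCases
import Groth.Agent.Lib.Helper12FibreSpec
import Groth.Agent.Lib.Helper15SmLoc
import Groth.Agent.S9874
import Groth.Agent.S9906

/-!
helper84: reduction of the fibrewise flatness criterion for algebraic spaces to a criterion for
towers of étale charts `U' ⟶ V' ⟶ W` of schemes.
-/

set_option autoImplicit false
set_option linter.unusedVariables false
set_option linter.unusedSectionVars false
set_option linter.style.haveILetI false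

open CategoryTheory CategoryTheory.Limits AlgebraicGeometry

universe u

namespace Groth.Agent.R2.H84.FibCritSp

variable {S : Scheme.{u}}

/-- a square of schemes over `S` whose underlying square of schemes is cartesian gives a cartesian
square of representable sheaves. -/
lemma isPullback_yon_of_left {A B C D : Over S} {f : A ⟶ B} {g : A ⟶ C} {h : B ⟶ D} {i : C ⟶ D}
    (H : IsPullback f.left g.left h.left i.left) :
    IsPullback ((AlgSp.yon S).map f) ((AlgSp.yon S).map g) ((AlgSp.yon S).map h)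
      ((AlgSp.yon S).map i) := by
  have hOver : IsPullback f g h i := by
    refine IsPullback.of_map (Over.forget S) ?_ H
    apply Over.OverMorphism.ext
    exact H.w
  exact hOver.map (AlgSp.yon S)

section Fibres

/-- the residue field point of `W` at `w`, as a scheme over `S`. -/
noncomputable def kpt (W : Over S) (w : W.left) : Over S :=
  Over.mk (W.left.fromSpecResidueField w ≫ W.hom)

/-- the inclusion of the point. -/
noncomputable def kptι (W : Over S) (w : W.left) : kpt W w ⟶ W :=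
  Over.homMk (W.left.fromSpecResidueField w) rfl

/-- the scheme-theoretic fibre of `φ` over `w`, as a scheme over `S`. -/
noncomputable def fib {A W : Over S} (φ : A ⟶ W) (w : W.left) : Over S :=
  Over.mk (φ.left.fiberι w ≫ A.hom)

noncomputable def fibι {A W : Over S} (φ : A ⟶ W) (w : W.left) : fib φ w ⟶ A :=
  Over.homMk (φ.left.fiberι w) rfl

noncomputable def fibπ {A W : Over S} (φ : A ⟶ W) (w : W.left) : fib φ w ⟶ kpt W w :=
  Over.homMk (φ.left.fiberToSpecResidueField w) (by
    change φ.left.fiberToSpecResidueField w ≫ W.left.fromSpecResidueField w ≫ W.hom =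
      φ.left.fiberι w ≫ A.hom
    rw [← Over.w φ, ← Category.assoc, ← Category.assoc]
    congr 1
    exact (pullback.condition (f := φ.left) (g := W.left.fromSpecResidueField w)).symm)

lemma isPullback_fib {A W : Over S} (φ : A ⟶ W) (w : W.left) :
    IsPullback ((AlgSp.yon S).map (fibι φ w)) ((AlgSp.yon S).map (fibπ φ w))
      ((AlgSp.yon S).map φ) ((AlgSp.yon S).map (kptι W w)) :=
  isPullback_yon_of_left (IsPullback.of_hasPullback φ.left (W.left.fromSpecResidueField w))

/-- the map of fibres, as a morphism of schemes over `S`. -/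
noncomputable def fibMap {A B W : Over S} (k : A ⟶ B) (g : B ⟶ W) (w : W.left) :
    fib (k ≫ g) w ⟶ fib g w :=
  Over.homMk (CohIII.fiberMapOver k.left (k.left ≫ g.left) g.left rfl w) (by
    change CohIII.fiberMapOver k.left (k.left ≫ g.left) g.left rfl w ≫ g.left.fiberι w ≫ B.hom =
      (k.left ≫ g.left).fiberι w ≫ A.hom
    rw [← Over.w k, ← Category.assoc, ← Category.assoc]
    congr 1
    exact pullback.lift_fst _ _ _)

lemma fibMap_ι {A B W : Over S} (k : A ⟶ B) (g : B ⟶ W) (w : W.left) :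
    fibMap k g w ≫ fibι g w = fibι (k ≫ g) w ≫ k := by
  apply Over.OverMorphism.ext
  exact pullback.lift_fst _ _ _

lemma fibMap_π {A B W : Over S} (k : A ⟶ B) (g : B ⟶ W) (w : W.left) :
    fibMap k g w ≫ fibπ g w = fibπ (k ≫ g) w := by
  apply Over.OverMorphism.ext
  exact (pullback.lift_snd _ _ _).trans (Category.comp_id _)

end Fibres

section Main

/-- The criterion for towers of étale charts: what the scheme-level theorem has to provide. -/
def Crit {X Y Z : AlgSp.Space S} (f : X ⟶ Y) (h : Y ⟶ Z) : Prop :=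
  ∀ (U' V' W : Over S) (k' : U' ⟶ V') (g' : V' ⟶ W) (a' : (AlgSp.yon S).obj U' ⟶ X.obj)
    (b' : (AlgSp.yon S).obj V' ⟶ Y.obj) (c : (AlgSp.yon S).obj W ⟶ Z.obj),
    AlgSp.RepWith @Etale a' → AlgSp.RepWith @Etale b' → AlgSp.RepWith @Etale c →
    a' ≫ f.hom = (AlgSp.yon S).map k' ≫ b' → b' ≫ h.hom = (AlgSp.yon S).map g' ≫ c →
    Flat (k'.left ≫ g'.left) →
    (∀ w : W.left, Flat (CohIII.fiberMapOver k'.left (k'.left ≫ g'.left) g'.left rfl w)) →
    Flat k'.left

/-- The hypothesis on fibres of the statements. -/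
def FibHyp {X Y Z : AlgSp.Space S} (f : X ⟶ Y) (h : Y ⟶ Z) : Prop :=
  ∀ (K : Type u) [Field K] (sK : Spec (CommRingCat.of K) ⟶ S)
      (z : (AlgSp.yon S).obj (Over.mk sK) ⟶ Z.obj) (Xz Yz : AlgSp.Sp S)
      (pX : Xz ⟶ X.obj) (qX : Xz ⟶ (AlgSp.yon S).obj (Over.mk sK))
      (pY : Yz ⟶ Y.obj) (qY : Yz ⟶ (AlgSp.yon S).obj (Over.mk sK)) (fz : Xz ⟶ Yz),
      IsPullback pX qX (f ≫ h).hom z → IsPullback pY qY h.hom z → fz ≫ pY = pX ≫ f.hom → fz ≫ qY = qX →
      AlgSp.LocP @Flat fz

variable {X Y Z : AlgSp.Space S} (f : X ⟶ Y) (h : Y ⟶ Z)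

/-- the fibre hypothesis, applied at a point of an étale chart of `Z`. -/
lemma locP_flat_fibre_at (hfib : FibHyp f h) {W : Over S} (c : (AlgSp.yon S).obj W ⟶ Z.obj)
    (w : W.left) :
    AlgSp.LocP @Flat (pullback.lift (pullback.fst (f ≫ h).hom ((AlgSp.yon S).map (kptι W w) ≫ c) ≫ f.hom)
      (pullback.snd (f ≫ h).hom ((AlgSp.yon S).map (kptι W w) ≫ c))
      (by rw [Category.assoc]; exact pullback.condition) :
      pullback (f ≫ h).hom ((AlgSp.yon S).map (kptι W w) ≫ c) ⟶
        pullback h.hom ((AlgSp.yon S).map (kptι W w) ≫ c)) := by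
  refine hfib (W.left.residueField w) (W.left.fromSpecResidueField w ≫ W.hom)
    ((AlgSp.yon S).map (kptι W w) ≫ c) _ _ _ _ _ _ _
    (IsPullback.of_hasPullback _ _) (IsPullback.of_hasPullback _ _) ?_ ?_
  · exact pullback.lift_fst _ _ _
  · exact pullback.lift_snd _ _ _

/-- the chart of the fibre `X_z` coming from a chart tower whose top is a base change. -/
lemma isPullback_fib_chart {F G : AlgSp.Sp S} (φ : F ⟶ G) {A A' W : Over S}
    (a : (AlgSp.yon S).obj A ⟶ F) (e : A' ⟶ A) (r : A' ⟶ W) (c : (AlgSp.yon S).obj W ⟶ G)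
    (sq : IsPullback ((AlgSp.yon S).map e) ((AlgSp.yon S).map r) (a ≫ φ) c) (w : W.left)
    (α : (AlgSp.yon S).obj (fib r w) ⟶ pullback φ ((AlgSp.yon S).map (kptι W w) ≫ c))
    (hα₁ : α ≫ pullback.fst _ _ = (AlgSp.yon S).map (fibι r w ≫ e) ≫ a)
    (hα₂ : α ≫ pullback.snd _ _ = (AlgSp.yon S).map (fibπ r w)) :
    IsPullback ((AlgSp.yon S).map (fibι r w ≫ e)) α a
      (pullback.fst φ ((AlgSp.yon S).map (kptι W w) ≫ c)) := by
  have h1 := (isPullback_fib r w).paste_horiz sq
  -- h1 : IsPullback (yon ι ≫ yon e) (yon π) (a ≫ φ) (yon kptι ≫ c)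
  have t : IsPullback (pullback.snd φ ((AlgSp.yon S).map (kptι W w) ≫ c))
      (pullback.fst φ ((AlgSp.yon S).map (kptι W w) ≫ c)) ((AlgSp.yon S).map (kptι W w) ≫ c) φ :=
    (IsPullback.of_hasPullback _ _).flip
  have s : IsPullback (α ≫ pullback.snd φ ((AlgSp.yon S).map (kptι W w) ≫ c))
      ((AlgSp.yon S).map (fibι r w ≫ e)) ((AlgSp.yon S).map (kptι W w) ≫ c) (a ≫ φ) := by
    rw [hα₂, Functor.map_comp]
    exact h1.flip
  exact (IsPullback.of_right s hα₁ t).flip

/-- the map of fibres of a tower of charts is flat. -/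
lemma flat_fiberMapOver_of_fibHyp (hfib : FibHyp f h) {U U' V V' W : Over S}
    (a : (AlgSp.yon S).obj U ⟶ X.obj) (b : (AlgSp.yon S).obj V ⟶ Y.obj)
    (c : (AlgSp.yon S).obj W ⟶ Z.obj) (ha : AlgSp.RepWith @Etale a) (hb : AlgSp.RepWith @Etale b)
    (eU : U' ⟶ U) (eV : V' ⟶ V) (k' : U' ⟶ V') (g' : V' ⟶ W)
    (sqX : IsPullback ((AlgSp.yon S).map eU) ((AlgSp.yon S).map (k' ≫ g')) (a ≫ (f ≫ h).hom) c)
    (sqY : IsPullback ((AlgSp.yon S).map eV) ((AlgSp.yon S).map g') (b ≫ h.hom) c)
    (hcomm : ((AlgSp.yon S).map eU ≫ a) ≫ f.hom = (AlgSp.yon S).map k' ≫ (AlgSp.yon S).map eV ≫ b)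
    (w : W.left) :
    Flat (CohIII.fiberMapOver k'.left (k'.left ≫ g'.left) g'.left rfl w) := by
  have hz := locP_flat_fibre_at f h hfib c w
  -- the chart of `X_z`
  have eα : ((AlgSp.yon S).map (fibι (k' ≫ g') w ≫ eU) ≫ a) ≫ (f ≫ h).hom =
      (AlgSp.yon S).map (fibπ (k' ≫ g') w) ≫ (AlgSp.yon S).map (kptι W w) ≫ c := by
    rw [Functor.map_comp, Category.assoc, Category.assoc, sqX.w, ← Category.assoc,
      (isPullback_fib (k' ≫ g') w).w, Category.assoc]
  have hα₁ : pullback.lift ((AlgSp.yon S).map (fibι (k' ≫ g') w ≫ eU) ≫ a)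
      ((AlgSp.yon S).map (fibπ (k' ≫ g') w)) eα ≫ pullback.fst _ _ =
      (AlgSp.yon S).map (fibι (k' ≫ g') w ≫ eU) ≫ a :=
    pullback.lift_fst _ _ _
  have hα₂ : pullback.lift ((AlgSp.yon S).map (fibι (k' ≫ g') w ≫ eU) ≫ a)
      ((AlgSp.yon S).map (fibπ (k' ≫ g') w)) eα ≫ pullback.snd _ _ =
      (AlgSp.yon S).map (fibπ (k' ≫ g') w) :=
    pullback.lift_snd _ _ _
  have sqα := isPullback_fib_chart (f ≫ h).hom a eU (k' ≫ g') c sqX w _ hα₁ hα₂
  have hαe := MorphismProperty.of_isPullback (P := AlgSp.RepWith @Etale) sqα ha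
  -- the chart of `Y_z`
  have eβ : ((AlgSp.yon S).map (fibι g' w ≫ eV) ≫ b) ≫ h.hom =
      (AlgSp.yon S).map (fibπ g' w) ≫ (AlgSp.yon S).map (kptι W w) ≫ c := by
    rw [Functor.map_comp, Category.assoc, Category.assoc, sqY.w, ← Category.assoc,
      (isPullback_fib g' w).w, Category.assoc]
  have hβ₁ : pullback.lift ((AlgSp.yon S).map (fibι g' w ≫ eV) ≫ b)
      ((AlgSp.yon S).map (fibπ g' w)) eβ ≫ pullback.fst _ _ =
      (AlgSp.yon S).map (fibι g' w ≫ eV) ≫ b :=
    pullback.lift_fst _ _ _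
  have hβ₂ : pullback.lift ((AlgSp.yon S).map (fibι g' w ≫ eV) ≫ b)
      ((AlgSp.yon S).map (fibπ g' w)) eβ ≫ pullback.snd _ _ =
      (AlgSp.yon S).map (fibπ g' w) :=
    pullback.lift_snd _ _ _
  have sqβ := isPullback_fib_chart h.hom b eV g' c sqY w _ hβ₁ hβ₂
  have hβe := MorphismProperty.of_isPullback (P := AlgSp.RepWith @Etale) sqβ hb
  -- compatibility
  refine hz _ _ (fibMap k' g' w) hαe hβe ?_
  apply pullback.hom_ext
  · have e := congrArg (fun m => (AlgSp.yon S).map m) (fibMap_ι k' g' w)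
    simp only [Functor.map_comp] at e
    have hc := hcomm
    simp only [Category.assoc] at hc
    calc _ = (AlgSp.yon S).map (fibι (k' ≫ g') w) ≫ (AlgSp.yon S).map eU ≫ a ≫ f.hom := by
            rw [Category.assoc, pullback.lift_fst, ← Category.assoc, hα₁]
            simp only [Functor.map_comp, Category.assoc]
      _ = (AlgSp.yon S).map (fibι (k' ≫ g') w) ≫ (AlgSp.yon S).map k' ≫
            (AlgSp.yon S).map eV ≫ b := by rw [hc]
      _ = ((AlgSp.yon S).map (fibMap k' g' w) ≫ (AlgSp.yon S).map (fibι g' w)) ≫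
            (AlgSp.yon S).map eV ≫ b := by rw [e, Category.assoc]
      _ = _ := by
            rw [Category.assoc, Category.assoc, hβ₁]
            simp only [Functor.map_comp, Category.assoc]
  · rw [Category.assoc, pullback.lift_snd, hα₂, Category.assoc, hβ₂, ← Functor.map_comp, fibMap_π]

/-- **Reduction, first half**: the tower criterion gives flatness of `f`. -/
theorem locP_flat_of_crit (hcrit : Crit f h) (hfl : AlgSp.LocP @Flat (f ≫ h).hom)
    (hfib : FibHyp f h) : AlgSp.LocP @Flat f.hom := by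
  intro U V a b k ha hb hcomm
  obtain ⟨W, c, hce, hcs⟩ := Z.property.atlas
  have hcr := hce.rep
  have sqV : IsPullback ((AlgSp.yon S).map (hcr.fst' (b ≫ h.hom)))
      ((AlgSp.yon S).map (hcr.snd (b ≫ h.hom))) c (b ≫ h.hom) := hcr.isPullback' (b ≫ h.hom)
  have heVe : Etale (hcr.snd (b ≫ h.hom)).left := hce.property_snd (b ≫ h.hom)
  have heVs : Surjective (hcr.snd (b ≫ h.hom)).left := hcs.property_snd (b ≫ h.hom)
  generalize hcr.snd (b ≫ h.hom) = eV at sqV heVe heVs
  generalize hcr.fst' (b ≫ h.hom) = g' at sqV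
  generalize hcr.pullback (b ≫ h.hom) = V' at eV g'
  have sqU : IsPullback (pullback.fst k eV) (pullback.snd k eV) k eV := IsPullback.of_hasPullback k eV
  generalize pullback.fst k eV = eU at sqU
  generalize pullback.snd k eV = k' at sqU
  generalize pullback k eV = U' at eU k'
  have sqUl : IsPullback eU.left k'.left k.left eV.left := sqU.map (Over.forget S)
  haveI := heVe
  haveI := heVs
  haveI heUe : Etale eU.left := MorphismProperty.of_isPullback (P := @Etale) sqUl.flip heVe
  haveI heUs : Surjective eU.left :=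
    MorphismProperty.of_isPullback (P := @Surjective) sqUl.flip heVs
  have sqUy := sqU.map (AlgSp.yon S)
  have hfh : (f ≫ h).hom = f.hom ≫ h.hom := rfl
  -- the two big squares
  have sqX : IsPullback ((AlgSp.yon S).map eU) ((AlgSp.yon S).map (k' ≫ g'))
      (a ≫ (f ≫ h).hom) c := by
    have := (sqUy.flip.paste_horiz sqV).flip
    rw [← Functor.map_comp] at this
    have e : (AlgSp.yon S).map k ≫ b ≫ h.hom = a ≫ (f ≫ h).hom := by
      rw [hfh, ← Category.assoc, ← hcomm, Category.assoc]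
    rwa [e] at this
  have sqY : IsPullback ((AlgSp.yon S).map eV) ((AlgSp.yon S).map g') (b ≫ h.hom) c := sqV.flip
  have hcomm' : ((AlgSp.yon S).map eU ≫ a) ≫ f.hom =
      (AlgSp.yon S).map k' ≫ (AlgSp.yon S).map eV ≫ b := by
    rw [Category.assoc, hcomm, ← Category.assoc, sqUy.w, Category.assoc]
  -- the new charts
  have ha' : AlgSp.RepWith @Etale ((AlgSp.yon S).map eU ≫ a) :=
    (AlgSp.RepWith @Etale).comp_mem _ _ ((AlgSp.repWith_yon_map_iff _ _).2 heUe) ha
  have hb' : AlgSp.RepWith @Etale ((AlgSp.yon S).map eV ≫ b) :=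
    (AlgSp.RepWith @Etale).comp_mem _ _ ((AlgSp.repWith_yon_map_iff _ _).2 heVe) hb
  have hflat : Flat (k'.left ≫ g'.left) :=
    hfl ((AlgSp.yon S).map eU ≫ a) c (k' ≫ g') ha' hce (by rw [Category.assoc]; exact sqX.w)
  have hfibres : ∀ w : W.left,
      Flat (CohIII.fiberMapOver k'.left (k'.left ≫ g'.left) g'.left rfl w) :=
    fun w => flat_fiberMapOver_of_fibHyp f h hfib a b c ha hb eU eV k' g' sqX sqY hcomm' w
  haveI hk' : Flat k'.left :=
    hcrit U' V' W k' g' ((AlgSp.yon S).map eU ≫ a) ((AlgSp.yon S).map eV ≫ b) c ha' hb' hce hcomm'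
      (by rw [Category.assoc]; exact sqY.w) hflat hfibres
  -- descend flatness along the étale surjective `eU`
  haveI : Flat (eU.left ≫ k.left) := by
    rw [sqUl.w]
    infer_instance
  exact Groth.Agent.Lib.Helper12.flat_of_comp_of_flat_of_surjective eU.left k.left

/-- **Reduction, second half**: if `f` is flat and surjective and `f ≫ h` is flat then `h` is
flat. -/
theorem locP_flat_of_surjective (hf : AlgSp.LocP @Flat f.hom)
    (hfl : AlgSp.LocP @Flat (f ≫ h).hom) (hs : AlgSp.IsSurjectiveMor f.hom) :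
    AlgSp.LocP @Flat h.hom := by
  intro V W₀ b c₀ g hb hc₀ hcomm
  -- an atlas of `X ×_Y V`
  have hP : AlgSp.IsAlgSpace (pullback f.hom b) :=
    Groth.Agent.S9874.isAlgSpace_of_isPullback Y.property.diag X.property
      (AlgSp.IsAlgSpace.yon_obj V) (IsPullback.of_hasPullback f.hom b)
  obtain ⟨U, u, hue, hus⟩ := hP.atlas
  obtain ⟨k, hk⟩ := (AlgSp.yon S).map_surjective (u ≫ pullback.snd f.hom b)
  have hfst : AlgSp.RepWith @Etale (pullback.fst f.hom b) :=
    MorphismProperty.of_isPullback (P := AlgSp.RepWith @Etale)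
      (IsPullback.of_hasPullback f.hom b).flip hb
  have ha : AlgSp.RepWith @Etale (u ≫ pullback.fst f.hom b) :=
    (AlgSp.RepWith @Etale).comp_mem _ _ hue hfst
  have hcomm₁ : (u ≫ pullback.fst f.hom b) ≫ f.hom = (AlgSp.yon S).map k ≫ b := by
    rw [Category.assoc, pullback.condition, ← Category.assoc, hk]
  haveI hkf : Flat k.left := hf (u ≫ pullback.fst f.hom b) b k ha hb hcomm₁
  haveI hks : Surjective k.left := by
    constructor
    apply Groth.Agent.Lib.Helper15SmLoc.surjective_of_isSurjectiveMor_yon_map k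
    rw [hk]
    have h1 : Function.Surjective (AlgSp.Points.map u) :=
      Groth.Agent.S9906.surjective_map_of_repWith u hus
    have h2 : AlgSp.IsSurjectiveMor (pullback.snd f.hom b) :=
      Groth.Agent.Lib.Helper15SmLoc.bcStable_isSurjectiveMor X.property Y.property hP
        (AlgSp.IsAlgSpace.yon_obj V) f.hom b (pullback.snd f.hom b) (pullback.fst f.hom b)
        (IsPullback.of_hasPullback f.hom b) hs
    intro x
    obtain ⟨y, hy⟩ := h2 x
    obtain ⟨t, ht⟩ := h1 y
    exact ⟨t, by rw [AlgSp.Points.map_comp, ht, hy]⟩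
  haveI : Flat (k.left ≫ g.left) :=
    hfl (u ≫ pullback.fst f.hom b) c₀ (k ≫ g) ha hc₀ (by
      have hfh : (f ≫ h).hom = f.hom ≫ h.hom := rfl
      rw [hfh, ← Category.assoc, hcomm₁, Category.assoc, hcomm, Functor.map_comp, Category.assoc])
  exact Groth.Agent.Lib.Helper12.flat_of_comp_of_flat_of_surjective k.left g.left

end Main

end Groth.Agent.R2.H84.FibCritSp
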