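import Mathlib
import Groth.Agent.R2.H43UCAlg
import Groth.Agent.R2.H84FibCritSp
import Groth.Agent.Lib.Helper12OpenSub2
import Groth.Agent.S9906
import Groth.Agent.S9908
import Groth.Agent.S9909
import Groth.Agent.S10176
import Groth.Agent.S10177

/-!
# helper43: closedness after all `𝔸ⁿ` base changes implies closedness after every affine base change

Namespace `Groth.Agent.R2.H43.UCCore`.

* `isClosedMap_of_isPullback_open`: closedness on points restricts to opens of the target.
* `isClosedMap_of_local`: closedness on points over a scheme is local on the scheme.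
* `exists_chart_baseChange`: base change of a chart diagram.
* `closure_range_eq_top_of_isPushout`: a pushout of commutative rings is generated by the two images.
* `isClosedMap_of_affineSpace`: the core: over `Spec R`, with an affine etale chart `Spec B` of the
  source, closedness after base change to all `Spec R[x₁..xₙ]` gives closedness after base change
  to every `Spec A`.
-/

set_option autoImplicit false
set_option backward.isDefEq.respectTransparency false
set_option linter.style.haveILetI false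
universe u

open CategoryTheory CategoryTheory.Limits AlgebraicGeometry

namespace Groth.Agent.R2.H43.UCCore

variable {S : Scheme.{u}}

/-- closedness on points passes to the restriction over an open of the target. -/
lemma isClosedMap_of_isPullback_open {P Q P' Q' : AlgSp.Sp S} {snd : P ⟶ Q} {j : Q' ⟶ Q}
    {pr : P' ⟶ P} {snd' : P' ⟶ Q'} (sq : IsPullback pr snd' snd j)
    (hj : AlgSp.RepWith @IsOpenImmersion j) (h : IsClosedMap (AlgSp.Points.map snd)) :
    IsClosedMap (AlgSp.Points.map snd') := by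
  have hpr : AlgSp.RepWith @IsOpenImmersion pr :=
    MorphismProperty.of_isPullback (P := AlgSp.RepWith @IsOpenImmersion) sq.flip hj
  have hemb : Topology.IsInducing (AlgSp.Points.map pr) :=
    (Topology.IsOpenEmbedding.of_continuous_injective_isOpenMap (AlgSp.Points.continuous_map _)
      (Groth.Agent.Lib.Helper12.LargestOpen.injective_map_of_open pr hpr)
      (Groth.Agent.Lib.Helper12.OpenSub.isOpenMap_map_of_open pr hpr)).isInducing
  intro C hC
  have hCeq : C = AlgSp.Points.map pr ⁻¹' closure (AlgSp.Points.map pr '' C) := by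
    rw [← hemb.closure_eq_preimage_closure_image, hC.closure_eq]
  rw [hCeq, ← Groth.Agent.S9909.preimage_map_image sq]
  exact (h _ isClosed_closure).preimage (AlgSp.Points.continuous_map _)

/-- closedness on points over a scheme is local on the scheme. -/
lemma isClosedMap_of_local {P : AlgSp.Sp S} {T : Over S} (snd : P ⟶ (AlgSp.yon S).obj T)
    (h : ∀ z : T.left, ∃ (T' : Over S) (ι : T' ⟶ T), IsOpenImmersion ι.left ∧ z ∈ Set.range ι.left ∧
      ∃ (P' : AlgSp.Sp S) (pr : P' ⟶ P) (snd' : P' ⟶ (AlgSp.yon S).obj T'),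
        IsPullback pr snd' snd ((AlgSp.yon S).map ι) ∧ IsClosedMap (AlgSp.Points.map snd')) :
    IsClosedMap (AlgSp.Points.map snd) := by
  intro C hC
  rw [← closure_subset_iff_isClosed]
  intro zpt hz
  obtain ⟨z, rfl⟩ := (AlgSp.Points.schemeHomeo T).surjective zpt
  obtain ⟨T', ι, hι, ⟨z', rfl⟩, P', pr, snd', sq, hcl⟩ := h z
  have hop : IsOpenMap (AlgSp.Points.map ((AlgSp.yon S).map ι)) := by
    rw [AlgSp.Points.map_yon_map_eq]
    exact (AlgSp.Points.schemeHomeo T).isOpenMap.comp
      (ι.left.isOpenEmbedding.isOpenMap.comp (AlgSp.Points.schemeHomeo T').symm.isOpenMap)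
  have h1 : AlgSp.Points.schemeHomeo T' z' ∈
      AlgSp.Points.map ((AlgSp.yon S).map ι) ⁻¹' closure (AlgSp.Points.map snd '' C) := by
    rw [Set.mem_preimage, AlgSp.Points.map_yon_map_apply]
    exact hz
  have h2 := hop.preimage_closure_subset_closure_preimage h1
  rw [Groth.Agent.S9909.preimage_map_image sq,
    (hcl _ (hC.preimage (AlgSp.Points.continuous_map _))).closure_eq] at h2
  obtain ⟨c', hc', hc'z⟩ := h2
  refine ⟨AlgSp.Points.map pr c', hc', ?_⟩
  rw [← AlgSp.Points.map_comp, sq.w, AlgSp.Points.map_comp, hc'z,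
    AlgSp.Points.map_yon_map_apply]

/-- base change of a chart diagram: for `P = X' ×_V T` and a chart `a : U ⟶ X'` over `h : U ⟶ V`,
a pullback `UT = U ×_V T` of schemes gives a chart `UT ⟶ P` which is a base change of `a`. -/
lemma exists_chart_baseChange {X' P : AlgSp.Sp S} {V T U UT : Over S}
    {φ : X' ⟶ (AlgSp.yon S).obj V} {g : T ⟶ V} {fst : P ⟶ X'} {snd : P ⟶ (AlgSp.yon S).obj T}
    (sq : IsPullback fst snd φ ((AlgSp.yon S).map g))
    {a : (AlgSp.yon S).obj U ⟶ X'} {h : U ⟶ V} (comm : a ≫ φ = (AlgSp.yon S).map h)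
    {pU : UT ⟶ U} {pT : UT ⟶ T} (hpb : IsPullback pU.left pT.left h.left g.left) :
    ∃ aT : (AlgSp.yon S).obj UT ⟶ P, aT ≫ snd = (AlgSp.yon S).map pT ∧
      IsPullback aT ((AlgSp.yon S).map pU) fst a := by
  have hy := Groth.Agent.R2.H84.FibCritSp.isPullback_yon_of_left hpb
  have hw : ((AlgSp.yon S).map pU ≫ a) ≫ φ = (AlgSp.yon S).map pT ≫ (AlgSp.yon S).map g := by
    rw [Category.assoc, comm]
    exact hy.w
  refine ⟨sq.lift _ _ hw, sq.lift_snd _ _ _, ?_⟩
  refine IsPullback.of_right ?_ (sq.lift_fst _ _ hw) sq.flip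
  rw [sq.lift_snd, comm]
  exact hy.flip

/-- a pushout of commutative rings is generated by the images of the two legs. -/
lemma closure_range_eq_top_of_isPushout {R A B Γ : CommRingCat.{u}} {f : R ⟶ A} {g : R ⟶ B}
    {inl : A ⟶ Γ} {inr : B ⟶ Γ} (h : IsPushout f g inl inr) :
    Subring.closure (Set.range inl.hom ∪ Set.range inr.hom) = ⊤ := by
  set Γ' : Subring Γ := Subring.closure (Set.range inl.hom ∪ Set.range inr.hom) with hΓ'
  let inl' : A ⟶ CommRingCat.of Γ' := CommRingCat.ofHom (inl.hom.codRestrict Γ' fun x =>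
    Subring.subset_closure (Or.inl ⟨x, rfl⟩))
  let inr' : B ⟶ CommRingCat.of Γ' := CommRingCat.ofHom (inr.hom.codRestrict Γ' fun x =>
    Subring.subset_closure (Or.inr ⟨x, rfl⟩))
  let incl : CommRingCat.of Γ' ⟶ Γ := CommRingCat.ofHom Γ'.subtype
  have hinl : inl' ≫ incl = inl := by ext x; rfl
  have hinr : inr' ≫ incl = inr := by ext x; rfl
  have hw : f ≫ inl' = g ≫ inr' := by
    ext x
    exact congrArg (fun k => k.hom x) h.w
  have hid : h.desc inl' inr' hw ≫ incl = 𝟙 Γ := by
    apply h.hom_ext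
    · rw [← Category.assoc, h.inl_desc, hinl, Category.comp_id]
    · rw [← Category.assoc, h.inr_desc, hinr, Category.comp_id]
  rw [eq_top_iff]
  intro x _
  have : x = incl.hom ((h.desc inl' inr' hw).hom x) := by
    have := congrArg (fun k => k.hom x) hid
    simpa using this.symm
  rw [this]
  exact ((h.desc inl' inr' hw).hom x).2

section Core

open MvPolynomial

variable {R : CommRingCat.{u}} (sR : Spec R ⟶ S)

/-- `Spec A` as a scheme over `S`, for an `R`-algebra `A`. -/
noncomputable abbrev ov {A : CommRingCat.{u}} (ρ : R ⟶ A) : Over S := Over.mk (Spec.map ρ ≫ sR)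

/-- the structure morphism `Spec A ⟶ Spec R` over `S`. -/
noncomputable abbrev ovHom {A : CommRingCat.{u}} (ρ : R ⟶ A) : ov sR ρ ⟶ Over.mk sR :=
  Over.homMk (Spec.map ρ) rfl

/-- a morphism of `R`-algebras gives a morphism over `S`. -/
noncomputable abbrev ovMap {A A' : CommRingCat.{u}} {ρ : R ⟶ A} {ρ' : R ⟶ A'} (σ : A ⟶ A') (h : ρ ≫ σ = ρ') :
    ov sR ρ' ⟶ ov sR ρ :=
  Over.homMk (Spec.map σ) (by
    change Spec.map σ ≫ Spec.map ρ ≫ sR = Spec.map ρ' ≫ sR
    rw [← Category.assoc, ← Spec.map_comp, h])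

lemma ovMap_comp_ovHom {A A' : CommRingCat.{u}} {ρ : R ⟶ A} {ρ' : R ⟶ A'} (σ : A ⟶ A')
    (h : ρ ≫ σ = ρ') : ovMap sR σ h ≫ ovHom sR ρ = ovHom sR ρ' := by
  apply Over.OverMorphism.ext
  change Spec.map σ ≫ Spec.map ρ = Spec.map ρ'
  rw [← Spec.map_comp, h]

attribute [local instance] MvPolynomial.algebraMvPolynomial in
/-- `Spec B[x] = Spec B ×_{Spec R} Spec R[x]`. -/
lemma isPullback_Spec_mvPolynomial {B : CommRingCat.{u}} (ρB : R ⟶ B) (σ : Type u) :
    IsPullback (Spec.map (CommRingCat.ofHom (C : B →+* MvPolynomial σ B)))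
      (Spec.map (CommRingCat.ofHom (MvPolynomial.map (σ := σ) ρB.hom)))
      (Spec.map ρB) (Spec.map (CommRingCat.ofHom (C : R →+* MvPolynomial σ R))) := by
  letI : Algebra R B := ρB.hom.toAlgebra
  apply isPullback_SpecMap_of_isPushout
  exact CommRingCat.isPushout_of_isPushout R B (MvPolynomial σ R) (MvPolynomial σ B)

/-- **Core.** Over `Spec R`, let `φ : X' ⟶ Spec R` have an affine etale surjective chart
`Spec B ⟶ X'`.  If the base changes of `φ` to all `Spec R[x₁, …, xₙ]` are closed on points, then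
so is the base change of `φ` to any `Spec A`. -/
theorem isClosedMap_of_affineSpace {B : CommRingCat.{u}} (ρB : R ⟶ B)
    {X' : AlgSp.Sp S} (φ : X' ⟶ (AlgSp.yon S).obj (Over.mk sR))
    (a : (AlgSp.yon S).obj (ov sR ρB) ⟶ X')
    (hae : AlgSp.RepWith @Etale a) (has : AlgSp.RepWith @Surjective a)
    (comm : a ≫ φ = (AlgSp.yon S).map (ovHom sR ρB))
    (H : ∀ (n : ℕ) (P : AlgSp.Sp S) (fst : P ⟶ X')
        (snd : P ⟶ (AlgSp.yon S).obj
          (ov sR (CommRingCat.ofHom (C : R →+* MvPolynomial (ULift.{u} (Fin n)) R)))),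
        IsPullback fst snd φ ((AlgSp.yon S).map (ovHom sR _)) →
          IsClosedMap (AlgSp.Points.map snd))
    {A : CommRingCat.{u}} (ρA : R ⟶ A) {P : AlgSp.Sp S} (fst : P ⟶ X')
    (snd : P ⟶ (AlgSp.yon S).obj (ov sR ρA))
    (sq : IsPullback fst snd φ ((AlgSp.yon S).map (ovHom sR ρA))) :
    IsClosedMap (AlgSp.Points.map snd) := by
  intro Cset hC
  rw [← closure_subset_iff_isClosed]
  intro zpt hz
  obtain ⟨z, rfl⟩ := (AlgSp.Points.schemeHomeo (ov sR ρA)).surjective zpt
  by_contra hzn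
  -- the fibre product of the chart with `Spec A`
  have hpo : IsPushout ρB ρA (pushout.inl ρB ρA) (pushout.inr ρB ρA) := IsPushout.of_hasPushout _ _
  set Γ : CommRingCat.{u} := pushout ρB ρA with hΓ
  set ιB : B ⟶ Γ := pushout.inl ρB ρA with hιB
  set ιA : A ⟶ Γ := pushout.inr ρB ρA with hιA
  have hpbUT : IsPullback (Spec.map ιB) (Spec.map ιA) (Spec.map ρB) (Spec.map ρA) :=
    isPullback_SpecMap_of_isPushout _ _ _ _ hpo
  have hgen : Subring.closure (Set.range ιA.hom ∪ Set.range ιB.hom) = ⊤ := by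
    rw [Set.union_comm]
    exact closure_range_eq_top_of_isPushout hpo
  let UT : Over S := ov sR (ρA ≫ ιA)
  let pT : UT ⟶ ov sR ρA := ovMap sR ιA rfl
  let pU : UT ⟶ ov sR ρB := ovMap sR ιB hpo.w
  obtain ⟨aT, haT1, haT2⟩ := exists_chart_baseChange sq comm (pU := pU) (pT := pT) hpbUT
  -- the closed subset of the chart
  let D : Set (PrimeSpectrum Γ) := AlgSp.Points.ofPt aT ⁻¹' Cset
  have hD : IsClosed D := hC.preimage (AlgSp.Points.continuous_ofPt aT)
  let I : Ideal Γ := PrimeSpectrum.vanishingIdeal D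
  have hDI : PrimeSpectrum.zeroLocus (I : Set Γ) = D := by
    rw [PrimeSpectrum.zeroLocus_vanishingIdeal_eq_closure, hD.closure_eq]
  have hzD : (z : PrimeSpectrum A) ∉ PrimeSpectrum.comap ιA.hom '' PrimeSpectrum.zeroLocus (I : Set Γ) := by
    rw [hDI]
    rintro ⟨d, hd, hdz⟩
    apply hzn
    refine ⟨AlgSp.Points.ofPt aT d, hd, ?_⟩
    rw [AlgSp.Points.map_ofPt, haT1]
    have := Groth.Agent.S10176.ofPt_map_comp pT (𝟙 _) d
    rw [Category.comp_id] at this
    rw [this]
    exact congrArg (AlgSp.Points.ofPt (𝟙 _)) hdz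
  obtain ⟨n, v, hnot⟩ := Groth.Agent.R2.H43.UCAlg.exists_finite_vars ρA.hom ρB.hom ιA.hom ιB.hom
    hgen I z hzD
  apply hnot
  -- the polynomial rings
  let cR : R ⟶ CommRingCat.of (MvPolynomial (ULift.{u} (Fin n)) R) := CommRingCat.ofHom C
  let cB : B ⟶ CommRingCat.of (MvPolynomial (ULift.{u} (Fin n)) B) := CommRingCat.ofHom C
  let mB : CommRingCat.of (MvPolynomial (ULift.{u} (Fin n)) R) ⟶
      CommRingCat.of (MvPolynomial (ULift.{u} (Fin n)) B) := CommRingCat.ofHom (MvPolynomial.map ρB.hom)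
  let θ : CommRingCat.of (MvPolynomial (ULift.{u} (Fin n)) R) ⟶ A :=
    CommRingCat.ofHom (eval₂Hom ρA.hom v)
  let ψ : CommRingCat.of (MvPolynomial (ULift.{u} (Fin n)) B) ⟶ Γ :=
    CommRingCat.ofHom (eval₂Hom ιB.hom (ιA.hom ∘ v))
  have hθ : cR ≫ θ = ρA := by
    ext x
    simp [cR, θ]
  have hcB : ρB ≫ cB = cR ≫ mB := by
    ext x
    simp [cR, cB, mB]
  have hψ : (cR ≫ mB) ≫ ψ = ρA ≫ ιA := by
    ext x
    change eval₂Hom ιB.hom (ιA.hom ∘ v) (MvPolynomial.map ρB.hom (C x)) = ιA.hom (ρA.hom x)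
    rw [MvPolynomial.map_C, MvPolynomial.eval₂Hom_C]
    exact congrArg (fun k => k.hom x) hpo.w
  have hψB : cB ≫ ψ = ιB := by
    ext x
    simp [cB, ψ]
  have hψA : mB ≫ ψ = θ ≫ ιA := by
    ext x
    · change eval₂Hom ιB.hom (ιA.hom ∘ v) (MvPolynomial.map ρB.hom (C x)) =
        ιA.hom (eval₂Hom ρA.hom v (C x))
      rw [MvPolynomial.map_C, MvPolynomial.eval₂Hom_C, MvPolynomial.eval₂Hom_C]
      exact congrArg (fun k => k.hom x) hpo.w
    · change eval₂Hom ιB.hom (ιA.hom ∘ v) (MvPolynomial.map ρB.hom (X x)) =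
        ιA.hom (eval₂Hom ρA.hom v (X x))
      rw [MvPolynomial.map_X, MvPolynomial.eval₂Hom_X', MvPolynomial.eval₂Hom_X']
      rfl
  let N : Over S := ov sR cR
  let τ : ov sR ρA ⟶ N := ovMap sR θ hθ
  let UN : Over S := ov sR (cR ≫ mB)
  let qN : UN ⟶ N := ovMap sR mB rfl
  let qU : UN ⟶ ov sR ρB := ovMap sR cB hcB
  let uu : UT ⟶ UN := ovMap sR ψ hψ
  have hpbUN : IsPullback qU.left qN.left (ovHom sR ρB).left (ovHom sR cR).left :=
    isPullback_Spec_mvPolynomial ρB (ULift.{u} (Fin n))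
  -- the base change to the polynomial ring
  have sqN := IsPullback.of_hasPullback φ ((AlgSp.yon S).map (ovHom sR cR))
  set PN := pullback φ ((AlgSp.yon S).map (ovHom sR cR)) with hPN
  set fstN : PN ⟶ X' := pullback.fst _ _ with hfstN
  set sndN : PN ⟶ (AlgSp.yon S).obj N := pullback.snd _ _ with hsndN
  have hclN : IsClosedMap (AlgSp.Points.map sndN) := H n PN fstN sndN sqN
  obtain ⟨aN, haN1, haN2⟩ := exists_chart_baseChange sqN comm (pU := qU) (pT := qN) hpbUN
  have haNe : AlgSp.RepWith @Etale aN :=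
    MorphismProperty.of_isPullback (P := AlgSp.RepWith @Etale) haN2.flip hae
  have haNs : AlgSp.RepWith @Surjective aN :=
    MorphismProperty.of_isPullback (P := AlgSp.RepWith @Surjective) haN2.flip has
  have hτ : τ ≫ ovHom sR cR = ovHom sR ρA := ovMap_comp_ovHom sR θ hθ
  let m : P ⟶ PN := sqN.lift fst (snd ≫ (AlgSp.yon S).map τ) (by
    rw [sq.w, Category.assoc, ← Functor.map_comp, hτ])
  have hm1 : m ≫ fstN = fst := sqN.lift_fst _ _ _
  have hm2 : m ≫ sndN = snd ≫ (AlgSp.yon S).map τ := sqN.lift_snd _ _ _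
  have huU : uu ≫ qU = pU := by
    apply Over.OverMorphism.ext
    change Spec.map ψ ≫ Spec.map cB = Spec.map ιB
    rw [← Spec.map_comp, hψB]
  have huN : uu ≫ qN = pT ≫ τ := by
    apply Over.OverMorphism.ext
    change Spec.map ψ ≫ Spec.map mB = Spec.map ιA ≫ Spec.map θ
    rw [← Spec.map_comp, ← Spec.map_comp, hψA]
  have hcomm : (AlgSp.yon S).map uu ≫ aN = aT ≫ m := by
    apply sqN.hom_ext
    · rw [Category.assoc, haN2.w, ← Category.assoc, ← Functor.map_comp, huU, Category.assoc, hm1,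
        haT2.w]
    · rw [Category.assoc, haN1, ← Functor.map_comp, huN, Category.assoc, hm2, ← Category.assoc,
        haT1, Functor.map_comp]
  have sqL : IsPullback aT ((AlgSp.yon S).map uu) m aN := by
    refine (IsPullback.of_right ?_ hcomm haN2.flip).flip
    rw [← Functor.map_comp, huU, hm1]
    exact haT2.flip
  -- the point over `τ z` in the closure
  let E : Set (AlgSp.Points PN) := closure (AlgSp.Points.map m '' Cset)
  have hE : IsClosed (AlgSp.Points.map sndN '' E) := hclN _ isClosed_closure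
  have hzN : AlgSp.Points.schemeHomeo N (τ.left z) ∈ AlgSp.Points.map sndN '' E := by
    rw [← hE.closure_eq, ← AlgSp.Points.map_yon_map_apply]
    have h1 := map_mem_closure (AlgSp.Points.continuous_map ((AlgSp.yon S).map τ)) hz
      (t := AlgSp.Points.map sndN '' E) (by
        rintro _ ⟨c, hc, rfl⟩
        refine ⟨AlgSp.Points.map m c, subset_closure ⟨c, hc, rfl⟩, ?_⟩
        rw [← AlgSp.Points.map_comp, hm2, AlgSp.Points.map_comp])
    exact h1
  obtain ⟨e, heE, hez⟩ := hzN
  obtain ⟨y, rfl⟩ := Groth.Agent.S10177.surjective_ofPt aN haNs e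
  have hy1 : y ∈ closure (AlgSp.Points.ofPt aN ⁻¹' (AlgSp.Points.map m '' Cset)) :=
    (Groth.Agent.S10176.isOpenMap_ofPt aN haNe).preimage_closure_subset_closure_preimage heE
  rw [Groth.Agent.S9908.preimage_ofPt_map_image sqL] at hy1
  have hy2 : qN.left y = τ.left z := by
    apply (AlgSp.Points.schemeHomeo N).injective
    rw [← hez, AlgSp.Points.map_ofPt, haN1]
    have := Groth.Agent.S10176.ofPt_map_comp qN (𝟙 _) y
    rw [Category.comp_id] at this
    rw [this]
    rfl
  refine ⟨y, ?_, hy2⟩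
  have hcl : closure (PrimeSpectrum.comap ψ.hom '' PrimeSpectrum.zeroLocus (I : Set Γ)) =
      PrimeSpectrum.zeroLocus ((I.comap ψ.hom : Ideal _) : Set _) :=
    PrimeSpectrum.closure_image_comap_zeroLocus (f := ψ.hom) I
  rw [hDI] at hcl
  have hfin : y ∈ PrimeSpectrum.zeroLocus ((I.comap ψ.hom : Ideal _) : Set _) := by
    rw [← hcl]
    exact hy1
  exact hfin

end Core

end Groth.Agent.R2.H43.UCCore
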