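import Mathlib
import Groth.Agent.Lib.Helper4DVRSch

set_option autoImplicit false
set_option linter.style.haveILetI false
universe u
open CategoryTheory CategoryTheory.Limits AlgebraicGeometry IsLocalRing

namespace Groth.Agent.R2.H43.DvrSpec

open Groth.Agent.Lib.Helper4

/-- a specialization `h w ⤳ v` (for `h` locally of finite type with locally Noetherian target) is
realised by a discrete valuation ring whose generic point lifts to the source. -/
theorem exists_dvr_of_specializes {W V : Scheme.{u}} [IsLocallyNoetherian V] (h : W ⟶ V)
    [LocallyOfFiniteType h] (w : W) (v : V) (hs : h w ⤳ v) :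
    ∃ (A : Type u) (_ : CommRing A) (_ : IsDomain A) (_ : IsDiscreteValuationRing A)
      (g : Spec (.of A) ⟶ V) (gK : Spec (.of (FractionRing A)) ⟶ W),
      g (closedPoint A) = v ∧
      gK ≫ h = Spec.map (CommRingCat.ofHom (algebraMap A (FractionRing A))) ≫ g := by
  by_cases hne : h w = v
  · -- the constant arc
    subst hne
    let A := PowerSeries (W.residueField w)
    let π : Spec (.of A) ⟶ Spec (W.residueField w) :=
      Spec.map (CommRingCat.ofHom (PowerSeries.C : W.residueField w →+* A))
    refine ⟨A, inferInstance, inferInstance, inferInstance, π ≫ W.fromSpecResidueField w ≫ h,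
      Spec.map (CommRingCat.ofHom (algebraMap A (FractionRing A))) ≫ π ≫
        W.fromSpecResidueField w, ?_, ?_⟩
    · rw [Scheme.Hom.comp_apply, Scheme.Hom.comp_apply, Scheme.fromSpecResidueField_apply]
    · simp only [Category.assoc]
  · let φ : V.residueField (h w) ⟶ CommRingCat.of (W.residueField w) := h.residueFieldMap w
    have hφ : φ.hom.EssFiniteType :=
      RingHom.EssFiniteType.residueFieldMap (LocallyOfFiniteType.stalkMap h w)
    obtain ⟨A, hA, g, hg1, hg2⟩ := DVRSch.exists_dvr_hom hs hne φ hφ
    haveI := hA
    let e : FractionRing A ≃ₐ[A] W.residueField w := FractionRing.algEquiv A (W.residueField w)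
    let gK : Spec (.of (FractionRing A)) ⟶ W :=
      Spec.map (CommRingCat.ofHom (e.symm : W.residueField w →+* FractionRing A)) ≫
        W.fromSpecResidueField w
    refine ⟨A, inferInstance, inferInstance, hA, g, gK, hg2, ?_⟩
    have h1 : W.fromSpecResidueField w ≫ h =
        Spec.map (CommRingCat.ofHom A.subtype) ≫ g := by
      rw [hg1]
      exact (Scheme.Hom.SpecMap_residueFieldMap_fromSpecResidueField h w).symm
    change (_ ≫ _) ≫ _ = _
    rw [Category.assoc, h1, ← Spec.map_comp_assoc]
    congr 2
    ext a
    change e.symm (algebraMap A (W.residueField w) a) = algebraMap A (FractionRing A) a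
    exact e.symm.commutes a

end Groth.Agent.R2.H43.DvrSpec
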