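import Mathlib

set_option autoImplicit false
universe u
open CategoryTheory CategoryTheory.Limits AlgebraicGeometry

namespace Groth.Agent.R2.H43.ValSpec

/-- for a quasi-compact morphism, every point in the closure of the image is a specialization of a
point of the image. -/
theorem exists_specializes_of_mem_closure_range {W U : Scheme.{u}} (h : W ⟶ U) [QuasiCompact h]
    (x : U) (hx : x ∈ closure (Set.range h)) : ∃ w : W, h w ⤳ x := by
  obtain ⟨_, ⟨V, hV : IsAffineOpen V, rfl⟩, hxV, -⟩ :=
    U.isBasis_affineOpens.exists_subset_of_mem_open (Set.mem_univ x) isOpen_univ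
  have hc : IsCompact ((h ⁻¹ᵁ V : W.Opens) : Set W) :=
    QuasiCompact.isCompact_preimage (f := h) _ V.isOpen hV.isCompact
  obtain ⟨R, g, hg⟩ := isCompact_iff_exists.mp hc
  have hr : Set.range (g ≫ h) ⊆ Set.range hV.fromSpec := by
    rw [hV.range_fromSpec]
    rintro _ ⟨r, rfl⟩
    have : g r ∈ ((h ⁻¹ᵁ V : W.Opens) : Set W) := hg ▸ Set.mem_range_self r
    exact this
  let k : Spec R ⟶ Spec Γ(U, V) := IsOpenImmersion.lift hV.fromSpec (g ≫ h) hr
  have hk : k ≫ hV.fromSpec = g ≫ h := IsOpenImmersion.lift_fac _ _ _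
  obtain ⟨φ, hφ⟩ : ∃ φ : Γ(U, V) ⟶ R, Spec.map φ = k := ⟨Spec.preimage k, Spec.map_preimage k⟩
  let p : Spec Γ(U, V) := hV.primeIdealOf ⟨x, hxV⟩
  have hp : hV.fromSpec p = x := hV.fromSpec_primeIdealOf ⟨x, hxV⟩
  -- `x` lies in the closure of the range of `g ≫ h`
  have h1 : x ∈ closure (Set.range (g ≫ h)) := by
    have h2 : x ∈ (V : Set U) ∩ closure (Set.range h) := ⟨hxV, hx⟩
    have h2' : x ∈ closure ((V : Set U) ∩ Set.range h) := V.isOpen.inter_closure h2
    refine closure_mono ?_ h2'
    rintro _ ⟨hyV, w, rfl⟩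
    have hw : w ∈ Set.range g := by rw [hg]; exact hyV
    obtain ⟨r, rfl⟩ := hw
    exact ⟨r, rfl⟩
  have h3 : p ∈ closure (Set.range k) := by
    rw [hV.fromSpec.isOpenEmbedding.isInducing.closure_eq_preimage_closure_image]
    change hV.fromSpec p ∈ closure (hV.fromSpec '' Set.range k)
    rw [hp, ← Set.range_comp]
    have : (⇑hV.fromSpec) ∘ (⇑k) = ⇑(g ≫ h) := by
      rw [← hk]; rfl
    rw [this]
    exact h1
  have h4 : RingHom.ker φ.hom ≤ p.asIdeal := by
    have h3' : (show PrimeSpectrum Γ(U, V) from p) ∈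
        closure (Set.range (PrimeSpectrum.comap φ.hom)) := by
      rw [← hφ] at h3; exact h3
    rw [PrimeSpectrum.closure_range_comap] at h3'
    exact h3'
  obtain ⟨Q, -, hQ, hQle⟩ := p.asIdeal.exists_ideal_comap_le_prime (f := φ.hom) ⊥ (by
    rw [← RingHom.ker_eq_comap_bot]; exact h4)
  let q : Spec R := ⟨Q, hQ⟩
  refine ⟨g q, ?_⟩
  have h5 : k q ⤳ p := by
    rw [← hφ]
    exact (PrimeSpectrum.le_iff_specializes _ _).1 hQle
  have h6 := h5.map hV.fromSpec.continuous
  rw [hp] at h6
  have h7 : hV.fromSpec (k q) = h (g q) := by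
    rw [← Scheme.Hom.comp_apply, hk, Scheme.Hom.comp_apply]
  rwa [h7] at h6

/-- `Spec` of an injective ring map is scheme theoretically dominant. -/
theorem ker_specMap_eq_bot {R T : CommRingCat.{u}} (φ : R ⟶ T) (hφ : Function.Injective φ.hom) :
    (Spec.map φ).ker = ⊥ := by
  have hinj : Function.Injective (Spec.map φ).appTop := by
    have h1 : (Spec.map φ).appTop ≫ (Scheme.ΓSpecIso T).hom = (Scheme.ΓSpecIso R).hom ≫ φ :=
      Scheme.ΓSpecIso_naturality φ
    have h2 : (Spec.map φ).appTop =
        (Scheme.ΓSpecIso R).hom ≫ φ ≫ (Scheme.ΓSpecIso T).inv := by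
      rw [← Category.assoc, ← h1, Category.assoc, Iso.hom_inv_id, Category.comp_id]
    rw [h2]
    intro a b hab
    have h3 := (ConcreteCategory.bijective_of_isIso (Scheme.ΓSpecIso T).inv).1 hab
    have h4 := hφ h3
    exact (ConcreteCategory.bijective_of_isIso (Scheme.ΓSpecIso R).hom).1 h4
  refine Scheme.IdealSheafData.ext_of_isAffine ?_
  rw [(Spec.map φ).ker_apply ⟨⊤, isAffineOpen_top _⟩, Scheme.IdealSheafData.ideal_bot]
  exact (RingHom.injective_iff_ker_eq_bot _).1 hinj

open IsLocalRing in
/-- a specialization `h w ⤳ x` is realised by a valuation ring of the residue field of `w`. -/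
theorem exists_valuationSubring_of_specializes {W U : Scheme.{u}} (h : W ⟶ U) (w : W) (x : U)
    (hs : h w ⤳ x) :
    ∃ (A : ValuationSubring (W.residueField w)) (gA : Spec (.of A) ⟶ U),
      gA (closedPoint A) = x ∧
      W.fromSpecResidueField w ≫ h =
        Spec.map (CommRingCat.ofHom (algebraMap A (W.residueField w))) ≫ gA := by
  let ψ : U.presheaf.stalk x ⟶ W.residueField w :=
    U.presheaf.stalkSpecializes hs ≫ h.stalkMap w ≫ W.residue w
  obtain ⟨A, hA, hA_local⟩ := exists_factor_valuationRing ψ.hom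
  let ψA : U.presheaf.stalk x ⟶ .of A := CommRingCat.ofHom (ψ.hom.codRestrict _ hA)
  have hw : W.fromSpecResidueField w ≫ h =
      Spec.map (CommRingCat.ofHom (algebraMap A (W.residueField w))) ≫
        Spec.map ψA ≫ U.fromSpecStalk x := by
    rw [Scheme.fromSpecResidueField, Category.assoc, ← Scheme.SpecMap_stalkMap_fromSpecStalk,
      ← Scheme.SpecMap_stalkSpecializes_fromSpecStalk hs]
    simp_rw [← Spec.map_comp_assoc]
    rfl
  refine ⟨A, Spec.map ψA ≫ U.fromSpecStalk x, ?_, hw⟩
  have : Spec.map ψA (closedPoint A) = closedPoint (U.presheaf.stalk x) :=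
    comap_closedPoint (S := A) (ψ.hom.codRestrict A.toSubring hA)
  rw [Scheme.Hom.comp_apply, this, U.fromSpecStalk_closedPoint]

open IsLocalRing in
/-- **valuation rings reach every point of the closure of the image of a quasi-compact morphism**:
the closed point goes to the given point, the generic point lifts to the source. -/
theorem exists_valuationRing_of_mem_closure_range {W U : Scheme.{u}} (h : W ⟶ U) [QuasiCompact h]
    (x : U) (hx : x ∈ closure (Set.range h)) :
    ∃ (A : Type u) (_ : CommRing A) (_ : IsDomain A) (_ : ValuationRing A)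
      (gA : Spec (.of A) ⟶ U) (gK : Spec (.of (FractionRing A)) ⟶ W),
      gA (closedPoint A) = x ∧
      gK ≫ h = Spec.map (CommRingCat.ofHom (algebraMap A (FractionRing A))) ≫ gA ∧
      h.ker ≤ gA.ker := by
  obtain ⟨w, hs⟩ := exists_specializes_of_mem_closure_range h x hx
  obtain ⟨A, gA, h1, h2⟩ := exists_valuationSubring_of_specializes h w x hs
  let e : FractionRing A ≃ₐ[A] W.residueField w := FractionRing.algEquiv A (W.residueField w)
  let gK : Spec (.of (FractionRing A)) ⟶ W :=
    Spec.map (CommRingCat.ofHom (e.symm : W.residueField w →+* FractionRing A)) ≫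
      W.fromSpecResidueField w
  have h3 : gK ≫ h = Spec.map (CommRingCat.ofHom (algebraMap A (FractionRing A))) ≫ gA := by
    change (_ ≫ _) ≫ _ = _
    rw [Category.assoc, h2, ← Spec.map_comp_assoc]
    congr 2
    ext a
    change e.symm (algebraMap A (W.residueField w) a) = algebraMap A (FractionRing A) a
    exact e.symm.commutes a
  refine ⟨A, inferInstance, inferInstance, inferInstance, gA, gK, h1, h3, ?_⟩
  have h4 := Scheme.Hom.le_ker_comp gK h
  rw [h3, Scheme.Hom.ker_comp, ker_specMap_eq_bot _ (by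
    change Function.Injective (algebraMap A (FractionRing A))
    exact IsFractionRing.injective A (FractionRing A)), Scheme.IdealSheafData.map_bot] at h4
  exact h4

end Groth.Agent.R2.H43.ValSpec
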