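import Mathlib
import Groth.Agent.S10053
import Groth.Agent.S10054
import Groth.Agent.R2.H48RedInduced
import Groth.Agent.Lib.Helper12Proper
import Groth.Agent.S9874
import Groth.Agent.S10176

/-!
# helper43: the discrete valuative criterion for universal closedness (existence part)

Namespace `Groth.Agent.R2.H43.DvrClosed`.

* `isClosedMap_of_dvr`: a finite type morphism to a locally Noetherian algebraic space all of whose
  valuative squares over discrete valuation rings lift after an extension is closed on points.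
* `hasLiftExt_dvr_baseChange`: that lifting property is stable under base change.
* `isUnivClosedMor_of_dvr`: such a morphism is universally closed.
-/

set_option autoImplicit false
set_option backward.isDefEq.respectTransparency false
set_option linter.style.haveILetI false
universe u

open CategoryTheory CategoryTheory.Limits AlgebraicGeometry

namespace Groth.Agent.R2.H43.DvrClosed

variable {S : Scheme.{u}}

/-- a finite type morphism to a locally Noetherian algebraic space whose valuative squares over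
discrete valuation rings lift after an extension is closed on points. -/
theorem isClosedMap_of_dvr {X Y : AlgSp.Space S} (g : X ⟶ Y) (hft : AlgSp.IsFiniteTypeMor g.hom)
    (hY : AlgSp.IsLocNoethSp Y.obj)
    (hv : ∀ sq : AlgSp.ValSq g.hom, IsDiscreteValuationRing sq.A → sq.HasLiftExt) :
    IsClosedMap (AlgSp.Points.map g.hom) := by
  intro C hC
  rw [← closure_subset_iff_isClosed]
  intro y hy
  obtain ⟨Z, i, hZ, hicl, hrange, -⟩ :=
    Groth.Agent.R2.H48.RedInduced.exists_isRedInduced X.property C hC
  let Z' : AlgSp.Space S := ⟨Z, hZ⟩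
  let i' : Z' ⟶ X := ObjectProperty.homMk i
  have hgift : AlgSp.IsFiniteTypeMor (i' ≫ g).hom :=
    ⟨Groth.Agent.Lib.Helper12.Proper.locP_lft_comp X.property Y.property i g.hom
        (Groth.Agent.Lib.Helper12.Proper.locP_lft_of_isClosedImmersion X.property i hicl) hft.1,
      Groth.Agent.Lib.Helper12.Proper.isQuasiCompactMor_comp X.property Y.property i g.hom
        (Groth.Agent.Lib.Helper12.Proper.isQuasiCompactMor_of_isClosedImmersion i hicl) hft.2⟩
  have hy' : y ∈ closure (Set.range (AlgSp.Points.map (i' ≫ g).hom)) := by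
    have : Set.range (AlgSp.Points.map (i' ≫ g).hom) = AlgSp.Points.map g.hom '' C := by
      rw [← hrange]
      ext w
      constructor
      · rintro ⟨z, rfl⟩
        exact ⟨AlgSp.Points.map i z, ⟨z, rfl⟩, (AlgSp.Points.map_comp i g.hom z).symm⟩
      · rintro ⟨_, ⟨z, rfl⟩, rfl⟩
        exact ⟨z, AlgSp.Points.map_comp i g.hom z⟩
    rw [this]
    exact hy
  obtain ⟨A, iA, iD, iV, a, α, κ, hκ, hcp⟩ := Groth.Agent.S10054.result S (i' ≫ g) hgift hY y hy'
  let sq : AlgSp.ValSq g.hom :=
    { A := A, K := FractionRing A, str := a, top := κ ≫ i, bot := α,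
      comm := by rw [Category.assoc]; exact hκ }
  obtain ⟨e, l, hl1, hl2⟩ := hv sq iV
  refine ⟨AlgSp.Points.ofPt l (IsLocalRing.closedPoint e.A'), ?_, ?_⟩
  · -- the closed point lies in `C`, being a specialization of the generic point
    have hspec : (Spec.map (CommRingCat.ofHom (algebraMap e.A' e.K'))
        (IsLocalRing.closedPoint e.K') : Spec (CommRingCat.of e.A')) ⤳
        IsLocalRing.closedPoint e.A' := IsLocalRing.specializes_closedPoint _
    have hspec' := hspec.map (AlgSp.Points.continuous_ofPt l)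
    refine hspec'.mem_closed hC ?_
    rw [← hrange]
    have h1 := Groth.Agent.S10176.ofPt_map_comp
      (Over.homMk (Spec.map (CommRingCat.ofHom (algebraMap e.A' e.K'))) rfl : e.ptK' ⟶ e.ptA') l
      (IsLocalRing.closedPoint e.K')
    rw [hl1] at h1
    refine ⟨AlgSp.Points.ofPt ((AlgSp.yon S).map (Over.homMk (Spec.map (CommRingCat.ofHom e.ψ)) (by
          change Spec.map _ ≫ Spec.map _ ≫ _ = Spec.map _ ≫ Spec.map _ ≫ _
          rw [← Spec.map_comp_assoc, ← Spec.map_comp_assoc, ← CommRingCat.ofHom_comp,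
            ← CommRingCat.ofHom_comp, e.comm]) : e.ptK' ⟶ sq.ptK) ≫ κ)
        (IsLocalRing.closedPoint e.K'), ?_⟩
    rw [AlgSp.Points.map_ofPt, Category.assoc]
    exact h1
  · rw [AlgSp.Points.map_ofPt, hl2, Groth.Agent.S10176.ofPt_map_comp]
    haveI : IsLocalHom (CommRingCat.ofHom e.φ).hom := e.isLocalHom
    have hcl : (Spec.map (CommRingCat.ofHom e.φ)) (IsLocalRing.closedPoint e.A') =
        IsLocalRing.closedPoint A := IsLocalRing.comap_closedPoint e.φ
    change AlgSp.Points.ofPt α ((Spec.map (CommRingCat.ofHom e.φ)) (IsLocalRing.closedPoint e.A')) = y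
    rw [hcl, AlgSp.Points.ofPt_eq_map_ofScheme]
    exact hcp

/-- lifting after an extension, for valuative squares over discrete valuation rings, is stable
under base change. -/
theorem hasLiftExt_dvr_baseChange {X Y Z P : AlgSp.Sp S} {f : X ⟶ Y} {g : Z ⟶ Y} {fst : P ⟶ X}
    {snd : P ⟶ Z} (hpb : IsPullback fst snd f g)
    (hv : ∀ sq : AlgSp.ValSq f, IsDiscreteValuationRing sq.A → sq.HasLiftExt)
    (sq : AlgSp.ValSq snd) (hd : IsDiscreteValuationRing sq.A) : sq.HasLiftExt := by
  let sq' : AlgSp.ValSq f :=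
    { A := sq.A, K := sq.K, str := sq.str, top := sq.top ≫ fst, bot := sq.bot ≫ g,
      comm := by rw [Category.assoc, hpb.w, ← Category.assoc, sq.comm, Category.assoc] }
  obtain ⟨e', l, hl1, hl2⟩ := hv sq' hd
  let e : sq.DomExt :=
    { A' := e'.A', K' := e'.K', φ := e'.φ, ψ := e'.ψ, comm := e'.comm,
      isLocalHom := e'.isLocalHom }
  have hw : l ≫ f = ((AlgSp.yon S).map (Over.homMk (Spec.map (CommRingCat.ofHom e.φ)) rfl :
      e.ptA' ⟶ sq.ptA) ≫ sq.bot) ≫ g := by
    rw [hl2, Category.assoc]
  refine ⟨e, hpb.lift l _ hw, ?_, hpb.lift_snd _ _ _⟩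
  apply hpb.hom_ext
  · rw [Category.assoc, hpb.lift_fst, Category.assoc]
    exact hl1
  · rw [Category.assoc, hpb.lift_snd, Category.assoc, sq.comm, ← Category.assoc,
      ← Category.assoc, ← Functor.map_comp, ← Functor.map_comp]
    congr 2
    ext
    change Spec.map _ ≫ Spec.map _ = Spec.map _ ≫ Spec.map _
    rw [← Spec.map_comp, ← Spec.map_comp, ← CommRingCat.ofHom_comp, ← CommRingCat.ofHom_comp,
      e.comm]

/-- **the discrete valuative criterion, existence part**: a finite type morphism to a locally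
Noetherian algebraic space all of whose valuative squares over discrete valuation rings lift
after an extension is universally closed. -/
theorem isUnivClosedMor_of_dvr {X Y : AlgSp.Space S} (f : X ⟶ Y) (hft : AlgSp.IsFiniteTypeMor f.hom)
    (hY : AlgSp.IsLocNoethSp Y.obj)
    (hv : ∀ sq : AlgSp.ValSq f.hom, IsDiscreteValuationRing sq.A → sq.HasLiftExt) :
    AlgSp.IsUnivClosedMor f.hom := by
  obtain ⟨V, p, hpe, hps, hVN⟩ := hY
  haveI : IsLocallyNoetherian V.left := hVN
  refine (Groth.Agent.S10053.result S f hft.2).2.2 ⟨V, p, hpe, hps, fun n P fst snd sq => ?_⟩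
  let An : Over S := Over.mk ((𝔸(ULift.{u} (Fin n); V.left) ↘ V.left) ≫ V.hom)
  have hAnN : AlgSp.IsLocNoethSp ((AlgSp.yon S).obj An) :=
    ⟨An, 𝟙 _, AlgSp.repWith_id _ _, AlgSp.repWith_id _ _,
      LocallyOfFiniteType.isLocallyNoetherian (𝔸(ULift.{u} (Fin n); V.left) ↘ V.left)⟩
  have hP : AlgSp.IsAlgSpace P :=
    Groth.Agent.S9874.isAlgSpace_of_isPullback Y.property.diag X.property
      (AlgSp.IsAlgSpace.yon_obj An) sq
  let P' : AlgSp.Space S := ⟨P, hP⟩
  let Y' : AlgSp.Space S := ⟨(AlgSp.yon S).obj An, AlgSp.IsAlgSpace.yon_obj An⟩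
  let snd' : P' ⟶ Y' := ObjectProperty.homMk snd
  have hsndft : AlgSp.IsFiniteTypeMor snd'.hom :=
    ⟨Groth.Agent.Lib.Helper12.Proper.locP_lft_baseChange X.property Y.property
        (AlgSp.IsAlgSpace.yon_obj An) sq hft.1,
      Groth.Agent.Lib.Helper12.Proper.isQuasiCompactMor_baseChange sq hft.2⟩
  exact isClosedMap_of_dvr snd' hsndft hAnN
    (fun sq' hd => hasLiftExt_dvr_baseChange sq hv sq' hd)

end Groth.Agent.R2.H43.DvrClosed
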