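import Mathlib
import Groth.Agent.Lib.Helper4DVRSch

/-!
# helper43: properness near a point from arcs (EGA IV 15.7)

Namespace `Groth.Agent.R2.H43.DvrProper`.

* `exists_lift_of_universallyClosed`, `lift_unique_of_isSeparated`: the valuative criteria as
  statements about morphisms.
* `exists_isProper_nhd_of_boundary`: if `X' ⟶ X` is surjective, `X' ⟶ P` is a quasi-compact
  immersion into a scheme proper over `Y` and no point of the boundary of `X'` in its closure lies
  over `y`, then `f : X ⟶ Y` is proper over a neighbourhood of `y`.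
-/

set_option autoImplicit false
set_option linter.style.haveILetI false
universe u

open CategoryTheory CategoryTheory.Limits AlgebraicGeometry IsLocalRing

namespace Groth.Agent.R2.H43.DvrProper

/-- existence part of the valuative criterion for a universally closed morphism. -/
lemma exists_lift_of_universallyClosed {X Y : Scheme.{u}} (f : X ⟶ Y) [UniversallyClosed f]
    {A K : Type u} [CommRing A] [IsDomain A] [ValuationRing A] [Field K] [Algebra A K]
    [IsFractionRing A K] (τ : Spec (.of K) ⟶ X) (g : Spec (.of A) ⟶ Y)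
    (w : τ ≫ f = Spec.map (CommRingCat.ofHom (algebraMap A K)) ≫ g) :
    ∃ l : Spec (.of A) ⟶ X, Spec.map (CommRingCat.ofHom (algebraMap A K)) ≫ l = τ ∧ l ≫ f = g := by
  have hE : ValuativeCriterion.Existence f := by
    have h1 : (ValuativeCriterion.Existence ⊓ @QuasiCompact) f := by
      rw [← UniversallyClosed.eq_valuativeCriterion]
      infer_instance
    exact h1.1
  let S : ValuativeCommSq f := { R := A, K := K, i₁ := τ, i₂ := g, commSq := ⟨w⟩ }
  obtain ⟨⟨l, h1, h2⟩⟩ := hE S
  exact ⟨l, h1, h2⟩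

/-- uniqueness part of the valuative criterion for a separated morphism. -/
lemma lift_unique_of_isSeparated {X Y : Scheme.{u}} (f : X ⟶ Y) [IsSeparated f]
    {A K : Type u} [CommRing A] [IsDomain A] [ValuationRing A] [Field K] [Algebra A K]
    [IsFractionRing A K] (l₁ l₂ : Spec (.of A) ⟶ X)
    (h1 : Spec.map (CommRingCat.ofHom (algebraMap A K)) ≫ l₁ =
      Spec.map (CommRingCat.ofHom (algebraMap A K)) ≫ l₂) (h2 : l₁ ≫ f = l₂ ≫ f) : l₁ = l₂ := by
  have hU : ValuativeCriterion.Uniqueness f := IsSeparated.valuativeCriterion f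
  let S : ValuativeCommSq f :=
    { R := A, K := K, i₁ := Spec.map (CommRingCat.ofHom (algebraMap A K)) ≫ l₁, i₂ := l₁ ≫ f,
      commSq := ⟨by rw [Category.assoc]⟩ }
  have := hU S
  have h3 : (⟨l₁, rfl, rfl⟩ : S.commSq.LiftStruct) = ⟨l₂, h1.symm, h2.symm⟩ := Subsingleton.elim _ _
  exact congrArg CommSq.LiftStruct.l h3

/-- **properness near a point from the boundary**: `π : X' ⟶ X` surjective, `j : X' ⟶ P` a
quasi-compact immersion into a scheme proper over `Y`, compatible with `f : X ⟶ Y`.  If every point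
of the closure of `X'` in `P` lying over `y` belongs to `X'`, then `f` is proper over a
neighbourhood of `y`. -/
theorem exists_isProper_nhd_of_boundary {X Y X' P : Scheme.{u}} (f : X ⟶ Y) [IsSeparated f]
    [LocallyOfFiniteType f] [QuasiCompact f] (π : X' ⟶ X) [Surjective π] (j : X' ⟶ P)
    [IsImmersion j] [QuasiCompact j] (p : P ⟶ Y) [IsProper p] (hj : j ≫ p = π ≫ f) (y : Y)
    (hb : ∀ b : j.image, (j.imageι ≫ p) b = y → b ∈ Set.range j.toImage) :
    ∃ U : Y.Opens, y ∈ U ∧ IsProper (f ∣_ U) := by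
  let pbar : j.image ⟶ Y := j.imageι ≫ p
  haveI : IsProper pbar := inferInstance
  haveI : IsOpenImmersion j.toImage := inferInstance
  have hbd : IsClosed ((Set.range j.toImage)ᶜ : Set j.image) :=
    j.toImage.isOpenEmbedding.isOpen_range.isClosed_compl
  have hD : IsClosed (pbar '' (Set.range j.toImage)ᶜ) := pbar.isClosedMap _ hbd
  let U : Y.Opens := ⟨(pbar '' (Set.range j.toImage)ᶜ)ᶜ, hD.isOpen_compl⟩
  have hyU : y ∈ U := by
    rintro ⟨b, hb1, hby⟩
    exact hb1 (hb b hby)
  refine ⟨U, hyU, ?_⟩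
  have hj' : π ≫ f = j.toImage ≫ pbar := by
    rw [← hj, ← Category.assoc, Scheme.Hom.toImage_imageι]
  haveI : IsProper (pbar ∣_ U) := IsZariskiLocalAtTarget.restrict (P := @IsProper) inferInstance U
  haveI : IsOpenImmersion (j.toImage ∣_ (pbar ⁻¹ᵁ U)) :=
    IsZariskiLocalAtTarget.restrict (P := @IsOpenImmersion) inferInstance _
  haveI : Surjective (j.toImage ∣_ (pbar ⁻¹ᵁ U)) := by
    constructor
    rintro ⟨z, hz⟩
    have hz' : z ∈ Set.range j.toImage := by
      by_contra hcon
      exact hz ⟨z, hcon, rfl⟩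
    obtain ⟨x', rfl⟩ := hz'
    refine ⟨⟨x', hz⟩, ?_⟩
    apply Subtype.ext
    rw [morphismRestrict_base_coe]
  haveI : IsIso (j.toImage ∣_ (pbar ⁻¹ᵁ U)) := by
    apply (config := { allowSynthFailures := true }) IsOpenImmersion.isIso
  have key : UniversallyClosed ((π ≫ f) ∣_ U) := by
    rw [hj', morphismRestrict_comp]
    have h1 : UniversallyClosed (j.toImage ∣_ (pbar ⁻¹ᵁ U)) := inferInstance
    have h2 : UniversallyClosed (pbar ∣_ U) := inferInstance
    exact MorphismProperty.comp_mem _ _ _ h1 h2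
  rw [morphismRestrict_comp] at key
  haveI := key
  haveI : Surjective (π ∣_ (f ⁻¹ᵁ U)) :=
    IsZariskiLocalAtTarget.restrict (P := @Surjective) inferInstance _
  haveI : UniversallyClosed (f ∣_ U) :=
    @UniversallyClosed.of_comp_surjective _ _ _ (π ∣_ (f ⁻¹ᵁ U)) (f ∣_ U) key inferInstance
  haveI : IsSeparated (f ∣_ U) := IsZariskiLocalAtTarget.restrict (P := @IsSeparated) inferInstance U
  haveI : LocallyOfFiniteType (f ∣_ U) :=
    IsZariskiLocalAtTarget.restrict (P := @LocallyOfFiniteType) inferInstance U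
  exact {}

/-- the arc hypothesis at `y`: every valuative square over a discrete valuation ring whose closed
point goes to `y` has a lift. -/
def ArcLift {X Y : Scheme.{u}} (f : X ⟶ Y) (y : Y) : Prop :=
  ∀ (A K : Type u) [CommRing A] [IsDomain A] [IsDiscreteValuationRing A] [Field K] [Algebra A K]
    [IsFractionRing A K] (g : Spec (.of A) ⟶ Y) (τ : Spec (.of K) ⟶ X),
    g (closedPoint A) = y → τ ≫ f = Spec.map (CommRingCat.ofHom (algebraMap A K)) ≫ g →
    ∃ l : Spec (.of A) ⟶ X, Spec.map (CommRingCat.ofHom (algebraMap A K)) ≫ l = τ ∧ l ≫ f = g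

/-- an arc in the closure of `X'` whose generic point lies in `X'` and whose closed point lies over
`y` has its closed point in `X'`, under the arc hypothesis. -/
theorem closedPoint_mem_range_toImage {X Y X' P : Scheme.{u}} (f : X ⟶ Y)
    (π : X' ⟶ X) [IsProper π] (j : X' ⟶ P) [IsImmersion j] [QuasiCompact j] (p : P ⟶ Y)
    [IsProper p] (hj : j ≫ p = π ≫ f) (y : Y) (h : ArcLift f y)
    {L : Type u} [Field L] (V : ValuationSubring L) [IsDiscreteValuationRing V]
    (g : Spec (.of V) ⟶ j.image) (τ' : Spec (.of L) ⟶ X')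
    (hτ' : τ' ≫ j.toImage = Spec.map (CommRingCat.ofHom (algebraMap V L)) ≫ g)
    (hgy : (j.imageι ≫ p) (g (closedPoint V)) = y) :
    g (closedPoint V) ∈ Set.range j.toImage := by
  have hj' : π ≫ f = j.toImage ≫ j.imageι ≫ p := by
    rw [← hj, ← Category.assoc, Scheme.Hom.toImage_imageι]
  have hw : (τ' ≫ π) ≫ f = Spec.map (CommRingCat.ofHom (algebraMap V L)) ≫ g ≫ j.imageι ≫ p := by
    rw [Category.assoc, hj', ← Category.assoc, hτ', Category.assoc]
  obtain ⟨l, hl1, hl2⟩ := h V L (g ≫ j.imageι ≫ p) (τ' ≫ π)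
    (by rw [Scheme.Hom.comp_apply]; exact hgy) hw
  obtain ⟨l', hl'1, hl'2⟩ := exists_lift_of_universallyClosed π τ' l hl1.symm
  have heq : l' ≫ j.toImage = g := by
    apply lift_unique_of_isSeparated (j.imageι ≫ p) (K := L)
    · rw [← Category.assoc, hl'1, hτ']
    · rw [Category.assoc, ← hj', ← Category.assoc, hl'2, hl2]
  refine ⟨l' (closedPoint V), ?_⟩
  rw [← Scheme.Hom.comp_apply, heq]

/-- under the arc hypothesis, the closure of `X'` in `P` has no boundary point over `y`. -/
theorem mem_range_toImage_of_arcLift {X Y X' P : Scheme.{u}} [IsLocallyNoetherian Y] (f : X ⟶ Y)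
    (π : X' ⟶ X) [IsProper π] (j : X' ⟶ P) [IsImmersion j] [QuasiCompact j] (p : P ⟶ Y)
    [IsProper p] (hj : j ≫ p = π ≫ f) (y : Y) (h : ArcLift f y) (b : j.image)
    (hby : (j.imageι ≫ p) b = y) : b ∈ Set.range j.toImage := by
  haveI : IsLocallyNoetherian P := LocallyOfFiniteType.isLocallyNoetherian p
  haveI : IsLocallyNoetherian j.image := LocallyOfFiniteType.isLocallyNoetherian j.imageι
  haveI : IsLocallyNoetherian X' := LocallyOfFiniteType.isLocallyNoetherian j.toImage
  by_contra hb
  have hcl : b ∈ closure (Set.range j.toImage) := by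
    rw [(inferInstance : IsDominant j.toImage).denseRange.closure_eq]
    trivial
  obtain ⟨x', hx'⟩ :=
    Groth.Agent.Lib.Helper4.DVRSch.exists_specializes_of_mem_closure_range j.toImage hcl
  have hne : j.toImage x' ≠ b := fun h0 => hb ⟨x', h0⟩
  obtain ⟨V, hV, g, hg1, hg2⟩ := Groth.Agent.Lib.Helper4.DVRSch.exists_dvr_hom hx' hne
    (L := j.image.residueField (j.toImage x')) (𝟙 _) (RingHom.FiniteType.id _).essFiniteType
  haveI : IsDiscreteValuationRing V := hV
  -- the generic point lifts to `X'`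
  have hrange : Set.range (Spec.map (CommRingCat.ofHom V.subtype) ≫ g) ⊆ Set.range j.toImage := by
    rintro _ ⟨pt, rfl⟩
    rw [hg1, Scheme.Hom.comp_apply, Scheme.fromSpecResidueField_apply]
    exact ⟨x', rfl⟩
  have hmem := closedPoint_mem_range_toImage f π j p hj y h V g
    (IsOpenImmersion.lift j.toImage (Spec.map (CommRingCat.ofHom V.subtype) ≫ g) hrange)
    (IsOpenImmersion.lift_fac _ _ _) (by rw [hg2]; exact hby)
  rw [hg2] at hmem
  exact hb hmem

end Groth.Agent.R2.H43.DvrProper
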