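import Mathlib
import Groth.Agent.R2.H43DvrProper
import Groth.Agent.S0025
import Groth.Agent.S9705

/-!
# helper43: properness near a point from arcs, via Chow's lemma

Namespace `Groth.Agent.R2.H43.DvrProper`.

* `exists_isProper_nhd_of_arcLift_noetherian`: Noetherian base.
* `arcLift_restrict`: the arc hypothesis passes to the restriction over an open.
* `exists_isProper_nhd_of_arcLift`: locally Noetherian base.
-/

set_option autoImplicit false
set_option linter.style.haveILetI false
universe u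

open CategoryTheory CategoryTheory.Limits AlgebraicGeometry IsLocalRing

namespace Groth.Agent.R2.H43.DvrProper

/-- over a Noetherian base, the arc hypothesis at `y` implies properness near `y`. -/
theorem exists_isProper_nhd_of_arcLift_noetherian {X Y : Scheme.{u}} [IsNoetherian Y] (f : X ⟶ Y)
    [IsSeparated f] [LocallyOfFiniteType f] [QuasiCompact f] (y : Y) (h : ArcLift f y) :
    ∃ U : Y.Opens, y ∈ U ∧ IsProper (f ∣_ U) := by
  obtain ⟨n, X', π, j, hjimm, hjw, hπ, hπs, -⟩ := Groth.Agent.S0025.result f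
  haveI := hjimm
  haveI := hπ
  haveI := hπs
  haveI : IsProper (CohB1.ProjSpaceOver.toBase n Y) := Groth.Agent.S9705.isProper_toBase n Y
  haveI : QuasiCompact (j ≫ CohB1.ProjSpaceOver.toBase n Y) := by
    rw [hjw]
    infer_instance
  haveI : QuasiCompact j := QuasiCompact.of_comp j (CohB1.ProjSpaceOver.toBase n Y)
  exact exists_isProper_nhd_of_boundary f π j _ hjw y
    (fun b hb => mem_range_toImage_of_arcLift f π j _ hjw y h b hb)

/-- the arc hypothesis passes to the restriction over an open subscheme. -/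
lemma arcLift_restrict {X Y : Scheme.{u}} (f : X ⟶ Y) (V : Y.Opens) (y : V) (h : ArcLift f y.1) :
    ArcLift (f ∣_ V) y := by
  intro A K _ _ _ _ _ _ g τ hg hw
  have hw' : (τ ≫ (f ⁻¹ᵁ V).ι) ≫ f =
      Spec.map (CommRingCat.ofHom (algebraMap A K)) ≫ g ≫ V.ι := by
    rw [Category.assoc, ← morphismRestrict_ι, ← Category.assoc, hw, Category.assoc]
  obtain ⟨l, hl1, hl2⟩ := h A K (g ≫ V.ι) (τ ≫ (f ⁻¹ᵁ V).ι)
    (by rw [Scheme.Hom.comp_apply, hg]; rfl) hw'
  have hrange : Set.range l ⊆ Set.range (f ⁻¹ᵁ V).ι := by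
    rintro _ ⟨a, rfl⟩
    rw [Scheme.Opens.range_ι]
    change f (l a) ∈ V
    rw [← Scheme.Hom.comp_apply, hl2, Scheme.Hom.comp_apply]
    exact (g a).2
  refine ⟨IsOpenImmersion.lift (f ⁻¹ᵁ V).ι l hrange, ?_, ?_⟩
  · rw [← cancel_mono (f ⁻¹ᵁ V).ι, Category.assoc, IsOpenImmersion.lift_fac, hl1]
  · rw [← cancel_mono V.ι, Category.assoc, morphismRestrict_ι, ← Category.assoc,
      IsOpenImmersion.lift_fac, hl2]

/-- **EGA IV 15.7, existence form**: over a locally Noetherian base, a separated morphism of finite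
type satisfying the arc hypothesis at `y` is proper over a neighbourhood of `y`. -/
theorem exists_isProper_nhd_of_arcLift {X Y : Scheme.{u}} [IsLocallyNoetherian Y] (f : X ⟶ Y)
    [IsSeparated f] [LocallyOfFiniteType f] [QuasiCompact f] (y : Y) (h : ArcLift f y) :
    ∃ U : Y.Opens, y ∈ U ∧ IsProper (f ∣_ U) := by
  obtain ⟨V, hV, hyV, -⟩ := exists_isAffineOpen_mem_and_subset (x := y) (U := (⊤ : Y.Opens)) trivial
  haveI : IsAffine (V : Scheme.{u}) := hV
  haveI : IsNoetherian (V : Scheme.{u}) := { }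
  haveI : IsSeparated (f ∣_ V) := IsZariskiLocalAtTarget.restrict (P := @IsSeparated) inferInstance V
  haveI : LocallyOfFiniteType (f ∣_ V) :=
    IsZariskiLocalAtTarget.restrict (P := @LocallyOfFiniteType) inferInstance V
  haveI : QuasiCompact (f ∣_ V) :=
    IsZariskiLocalAtTarget.restrict (P := @QuasiCompact) inferInstance V
  obtain ⟨U', hyU', hU'⟩ := exists_isProper_nhd_of_arcLift_noetherian (f ∣_ V) ⟨y, hyV⟩
    (arcLift_restrict f V ⟨y, hyV⟩ h)
  refine ⟨V.ι ''ᵁ U', ⟨⟨y, hyV⟩, hyU', rfl⟩, ?_⟩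
  exact (MorphismProperty.arrow_mk_iso_iff @IsProper (morphismRestrictRestrict f V U')).1 hU'

end Groth.Agent.R2.H43.DvrProper
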