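import Mathlib
import Groth.Agent.R2.H43DvrProper2

/-!
# helper43: properness near a point from arcs in the function field (EGA IV 15.7.5 style)

Namespace `Groth.Agent.R2.H43.DvrProper`.

* `arc_ext`: two arcs agreeing generically and at the closed point agree.
* `valuation_of_factor`, `exists_arc_of_valuation`: arcs centred at a point versus domination of
  the local ring.
* `exists_lift_of_restrict`: lifting arcs centred in an open over which `f` is universally closed.
* `GenArcLift f y c`, `GenEssFT f c`: arc lifting for discrete valuation rings of a fixed field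
  `K` through a fixed dominant point `c : Spec K ⟶ X`.
* `exists_isProper_nhd_of_genArcLift`: these imply properness near `y`.
-/

set_option autoImplicit false
set_option linter.style.haveILetI false
universe u

open CategoryTheory CategoryTheory.Limits AlgebraicGeometry IsLocalRing

namespace Groth.Agent.R2.H43.DvrProper


/-- two arcs which agree generically and at the closed point agree. -/
lemma arc_ext {Y : Scheme.{u}} {A K : Type u} [CommRing A] [IsDomain A] [ValuationRing A]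
    [Field K] [Algebra A K] [IsFractionRing A K] (l₁ l₂ : Spec (.of A) ⟶ Y)
    (h1 : Spec.map (CommRingCat.ofHom (algebraMap A K)) ≫ l₁ =
      Spec.map (CommRingCat.ofHom (algebraMap A K)) ≫ l₂)
    (hc : l₁ (closedPoint A) = l₂ (closedPoint A)) : l₁ = l₂ := by
  obtain ⟨W, hW, hyW, -⟩ := exists_isAffineOpen_mem_and_subset (x := l₁ (closedPoint A))
    (U := (⊤ : Y.Opens)) trivial
  haveI : IsAffine (W : Scheme.{u}) := hW
  have hr : ∀ l : Spec (.of A) ⟶ Y, l (closedPoint A) ∈ W → Set.range l ⊆ Set.range W.ι := by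
    rintro l hl _ ⟨a, rfl⟩
    rw [Scheme.Opens.range_ι]
    exact ((IsLocalRing.specializes_closedPoint a).map l.continuous).mem_open W.isOpen hl
  have hr₁ := hr l₁ hyW
  have hr₂ := hr l₂ (hc ▸ hyW)
  have key : IsOpenImmersion.lift W.ι l₁ hr₁ = IsOpenImmersion.lift W.ι l₂ hr₂ := by
    apply lift_unique_of_isSeparated (terminal.from (W : Scheme.{u})) (K := K)
    · rw [← cancel_mono W.ι, Category.assoc, Category.assoc, IsOpenImmersion.lift_fac,
        IsOpenImmersion.lift_fac, h1]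
    · exact Subsingleton.elim _ _
  rw [← IsOpenImmersion.lift_fac W.ι l₁ hr₁, key, IsOpenImmersion.lift_fac]



/-- an arc `g : Spec V ⟶ Y` centred at `y`, generically given by `φ : 𝒪_{Y,y} ⟶ K`: then `V`
dominates the image of `𝒪_{Y,y}`. -/
lemma valuation_of_factor {Y : Scheme.{u}} (y : Y) {K : Type u} [Field K] (V : ValuationSubring K)
    (φ : Y.presheaf.stalk y ⟶ .of K) (g : Spec (.of V) ⟶ Y) (hg : g (closedPoint V) = y)
    (hw : Spec.map φ ≫ Y.fromSpecStalk y = Spec.map (CommRingCat.ofHom V.subtype) ≫ g) :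
    (∀ r : Y.presheaf.stalk y, V.valuation (φ r) ≤ 1) ∧
      (∀ r ∈ maximalIdeal (Y.presheaf.stalk y), V.valuation (φ r) < 1) := by
  subst hg
  have h1 : Spec.map φ ≫ Y.fromSpecStalk (g (closedPoint V)) =
      Spec.map (Scheme.stalkClosedPointTo g ≫ CommRingCat.ofHom V.subtype) ≫
        Y.fromSpecStalk (g (closedPoint V)) := by
    rw [hw, Spec.map_comp, Category.assoc, Scheme.Spec_stalkClosedPointTo_fromSpecStalk]
  have h2 : φ = Scheme.stalkClosedPointTo g ≫ CommRingCat.ofHom V.subtype :=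
    Spec.map_injective ((cancel_mono _).1 h1)
  have h3 : ∀ r, φ r = ((Scheme.stalkClosedPointTo g r : V) : K) := fun r => by rw [h2]; rfl
  refine ⟨fun r => ?_, fun r hr => ?_⟩
  · rw [h3]
    exact V.valuation_le_one _
  · rw [h3, ← V.valuation_lt_one_iff]
    rw [mem_maximalIdeal, mem_nonunits_iff] at hr ⊢
    exact fun hu => hr (isUnit_of_map_unit (Scheme.stalkClosedPointTo g).hom r hu)

/-- conversely, if `V` dominates the image of `𝒪_{X,x}` under `ψ`, we get an arc centred at `x`. -/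
lemma exists_arc_of_valuation {X : Scheme.{u}} (x : X) {K : Type u} [Field K]
    (V : ValuationSubring K) (ψ : X.presheaf.stalk x ⟶ .of K)
    (h1 : ∀ r : X.presheaf.stalk x, V.valuation (ψ r) ≤ 1)
    (h2 : ∀ r ∈ maximalIdeal (X.presheaf.stalk x), V.valuation (ψ r) < 1) :
    ∃ l : Spec (.of V) ⟶ X, l (closedPoint V) = x ∧
      Spec.map (CommRingCat.ofHom V.subtype) ≫ l = Spec.map ψ ≫ X.fromSpecStalk x := by
  let ρ : X.presheaf.stalk x →+* V :=
    ψ.hom.codRestrict V.toSubring (fun r => (V.valuation_le_one_iff _).1 (h1 r))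
  have hρ : IsLocalHom ρ := by
    constructor
    intro r hr
    by_contra hnu
    have hm : r ∈ maximalIdeal (X.presheaf.stalk x) := by
      rwa [mem_maximalIdeal, mem_nonunits_iff]
    have h3 := h2 r hm
    have h4 : V.valuation ((ρ r : V) : K) = 1 := (V.valuation_eq_one_iff _).1 hr
    have h5 : ((ρ r : V) : K) = ψ r := rfl
    rw [h5] at h4
    exact absurd h4 (ne_of_lt h3)
  refine ⟨Spec.map (CommRingCat.ofHom ρ) ≫ X.fromSpecStalk x, ?_, ?_⟩
  · rw [Scheme.Hom.comp_apply]
    have : Spec.map (CommRingCat.ofHom ρ) (closedPoint V) = closedPoint (X.presheaf.stalk x) :=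
      comap_closedPoint ρ
    rw [this, Scheme.fromSpecStalk_closedPoint]
  · rw [← Category.assoc, ← Spec.map_comp]
    rfl

/-- lifting arcs centred in an open over which the morphism is universally closed. -/
lemma exists_lift_of_restrict {X Y : Scheme.{u}} (f : X ⟶ Y) (U : Y.Opens)
    [UniversallyClosed (f ∣_ U)]
    {A K : Type u} [CommRing A] [IsDomain A] [ValuationRing A] [Field K] [Algebra A K]
    [IsFractionRing A K] (τ : Spec (.of K) ⟶ X) (g : Spec (.of A) ⟶ Y)
    (hg : g (closedPoint A) ∈ U)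
    (w : τ ≫ f = Spec.map (CommRingCat.ofHom (algebraMap A K)) ≫ g) :
    ∃ l : Spec (.of A) ⟶ X, Spec.map (CommRingCat.ofHom (algebraMap A K)) ≫ l = τ ∧ l ≫ f = g := by
  have hrg : Set.range g ⊆ Set.range U.ι := by
    rintro _ ⟨a, rfl⟩
    rw [Scheme.Opens.range_ι]
    exact ((IsLocalRing.specializes_closedPoint a).map g.continuous).mem_open U.isOpen hg
  have hrτ : Set.range τ ⊆ Set.range (f ⁻¹ᵁ U).ι := by
    rintro _ ⟨a, rfl⟩
    rw [Scheme.Opens.range_ι]
    change f (τ a) ∈ U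
    rw [← Scheme.Hom.comp_apply, w, Scheme.Hom.comp_apply]
    have := hrg (Set.mem_range_self (Spec.map (CommRingCat.ofHom (algebraMap A K)) a))
    rwa [Scheme.Opens.range_ι] at this
  have w' : IsOpenImmersion.lift (f ⁻¹ᵁ U).ι τ hrτ ≫ f ∣_ U =
      Spec.map (CommRingCat.ofHom (algebraMap A K)) ≫ IsOpenImmersion.lift U.ι g hrg := by
    rw [← cancel_mono U.ι, Category.assoc, morphismRestrict_ι, ← Category.assoc,
      IsOpenImmersion.lift_fac, w, Category.assoc, IsOpenImmersion.lift_fac]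
  obtain ⟨l, hl1, hl2⟩ := exists_lift_of_universallyClosed (f ∣_ U) _ _ w'
  refine ⟨l ≫ (f ⁻¹ᵁ U).ι, ?_, ?_⟩
  · rw [← Category.assoc, hl1, IsOpenImmersion.lift_fac]
  · rw [Category.assoc, ← morphismRestrict_ι, ← Category.assoc, hl2, IsOpenImmersion.lift_fac]



/-- the arc hypothesis at `y` for arcs in a fixed field `K` with a fixed generic point `c`. -/
def GenArcLift {X Y : Scheme.{u}} (f : X ⟶ Y) (y : Y) {K : Type u} [Field K]
    (c : Spec (.of K) ⟶ X) : Prop :=
  ∀ V : ValuationSubring K, IsDiscreteValuationRing V → ∀ g : Spec (.of V) ⟶ Y,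
    g (closedPoint V) = y → c ≫ f = Spec.map (CommRingCat.ofHom V.subtype) ≫ g →
    ∃ l : Spec (.of V) ⟶ X, Spec.map (CommRingCat.ofHom V.subtype) ≫ l = c ∧ l ≫ f = g

/-- the generic point is essentially of finite type over everything of finite type over `Y`. -/
def GenEssFT {X Y : Scheme.{u}} (f : X ⟶ Y) {K : Type u} [Field K]
    (c : Spec (.of K) ⟶ X) : Prop :=
  ∀ (Z : Scheme.{u}) (t : Spec (.of K) ⟶ Z) (q : Z ⟶ Y), LocallyOfFiniteType q →
    t ≫ q = c ≫ f → (Scheme.stalkClosedPointTo t).hom.EssFiniteType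

/-- an arc in the closure of `X'` whose generic point lies in `X'` and which lifts to `X` has its
closed point in `X'`. -/
theorem closedPoint_mem_range_toImage_of_lift {X Y X' P : Scheme.{u}} (f : X ⟶ Y)
    (π : X' ⟶ X) [IsProper π] (j : X' ⟶ P) [IsImmersion j] [QuasiCompact j] (p : P ⟶ Y)
    [IsProper p] (hj : j ≫ p = π ≫ f)
    {L : Type u} [Field L] (V : ValuationSubring L)
    (g : Spec (.of V) ⟶ j.image) (τ' : Spec (.of L) ⟶ X')
    (hτ' : τ' ≫ j.toImage = Spec.map (CommRingCat.ofHom (algebraMap V L)) ≫ g)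
    (l : Spec (.of V) ⟶ X)
    (hl1 : Spec.map (CommRingCat.ofHom (algebraMap V L)) ≫ l = τ' ≫ π)
    (hl2 : l ≫ f = g ≫ j.imageι ≫ p) :
    g (closedPoint V) ∈ Set.range j.toImage := by
  have hj' : π ≫ f = j.toImage ≫ j.imageι ≫ p := by
    rw [← hj, ← Category.assoc, Scheme.Hom.toImage_imageι]
  obtain ⟨l', hl'1, hl'2⟩ := exists_lift_of_universallyClosed π τ' l hl1.symm
  have heq : l' ≫ j.toImage = g := by
    apply lift_unique_of_isSeparated (j.imageι ≫ p) (K := L)
    · rw [← Category.assoc, hl'1, hτ']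
    · rw [Category.assoc, ← hj', ← Category.assoc, hl'2, hl2]
  refine ⟨l' (closedPoint V), ?_⟩
  rw [← Scheme.Hom.comp_apply, heq]

/-- over a Noetherian base: generic arc lifting at `y` implies properness near `y`. -/
theorem exists_isProper_nhd_of_genArcLift_noetherian {X Y : Scheme.{u}} [IsNoetherian Y]
    (f : X ⟶ Y) [IsSeparated f] [LocallyOfFiniteType f] [QuasiCompact f] (y : Y)
    {K : Type u} [Field K] (c : Spec (.of K) ⟶ X) [IsDominant c] (hc : GenEssFT f c)
    (h : GenArcLift f y c) :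
    ∃ U : Y.Opens, y ∈ U ∧ IsProper (f ∣_ U) := by
  obtain ⟨n, X', π, j, hjimm, hjw, hπ, hπs, U₀, hU₀d, hU₀i⟩ := Groth.Agent.S0025.result f
  haveI := hjimm
  haveI := hπ
  haveI := hπs
  haveI := hU₀i
  haveI : IsProper (CohB1.ProjSpaceOver.toBase n Y) := Groth.Agent.S9705.isProper_toBase n Y
  haveI : QuasiCompact (j ≫ CohB1.ProjSpaceOver.toBase n Y) := by
    rw [hjw]
    infer_instance
  haveI : QuasiCompact j := QuasiCompact.of_comp j (CohB1.ProjSpaceOver.toBase n Y)
  -- `c` lands in `U₀`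
  have hcU : Set.range c ⊆ Set.range U₀.ι := by
    rw [Scheme.Opens.range_ι]
    rintro _ ⟨a, rfl⟩
    haveI : Nonempty X := ⟨c a⟩
    obtain ⟨b, hb⟩ :=
      (inferInstance : IsDominant c).denseRange.exists_mem_open U₀.isOpen (hU₀d.nonempty)
    rwa [Subsingleton.elim a b]
  let c₀ : Spec (.of K) ⟶ U₀ := IsOpenImmersion.lift U₀.ι c hcU
  let τ₀ : Spec (.of K) ⟶ X' := c₀ ≫ inv (π ∣_ U₀) ≫ (π ⁻¹ᵁ U₀).ι
  have hτ₀ : τ₀ ≫ π = c := by
    simp only [τ₀, Category.assoc]
    rw [← morphismRestrict_ι, IsIso.inv_hom_id_assoc]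
    exact IsOpenImmersion.lift_fac _ _ _
  -- the closure of the generic point in `X'`
  haveI : IsLocallyNoetherian X := LocallyOfFiniteType.isLocallyNoetherian f
  haveI : IsLocallyNoetherian X' := LocallyOfFiniteType.isLocallyNoetherian π
  haveI : QuasiCompact τ₀ := inferInstance
  let π₂ : τ₀.image ⟶ X := τ₀.imageι ≫ π
  let j₂ : τ₀.image ⟶ CohB1.ProjSpaceOver n Y := τ₀.imageι ≫ j
  haveI : IsProper π₂ := inferInstance
  haveI : IsImmersion j₂ := inferInstance
  haveI : QuasiCompact j₂ := inferInstance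
  have hτ₂ : τ₀.toImage ≫ π₂ = c := by
    simp only [π₂]
    rw [← Category.assoc, Scheme.Hom.toImage_imageι, hτ₀]
  haveI : Surjective π₂ := by
    rw [surjective_iff, ← Set.range_eq_univ]
    have h1 : IsClosed (Set.range π₂) := π₂.isClosedMap.isClosed_range
    have h2 : Set.range c ⊆ Set.range π₂ := by
      rw [← hτ₂]
      rintro _ ⟨a, rfl⟩
      exact ⟨τ₀.toImage a, rfl⟩
    have h3 : closure (Set.range c) = Set.univ := (inferInstance : IsDominant c).denseRange.closure_eq
    exact Set.eq_univ_of_univ_subset (h3 ▸ closure_minimal h2 h1)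
  have hjw₂ : j₂ ≫ CohB1.ProjSpaceOver.toBase n Y = π₂ ≫ f := by
    simp only [j₂, π₂, Category.assoc, hjw]
  refine exists_isProper_nhd_of_boundary f π₂ j₂ _ hjw₂ y (fun b hby => ?_)
  haveI : IsLocallyNoetherian (CohB1.ProjSpaceOver n Y) :=
    LocallyOfFiniteType.isLocallyNoetherian (CohB1.ProjSpaceOver.toBase n Y)
  haveI : IsLocallyNoetherian j₂.image := LocallyOfFiniteType.isLocallyNoetherian j₂.imageι
  let t : Spec (.of K) ⟶ j₂.image := τ₀.toImage ≫ j₂.toImage
  haveI : IsDominant t := inferInstance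
  have ht : t ≫ j₂.imageι ≫ CohB1.ProjSpaceOver.toBase n Y = c ≫ f := by
    simp only [t, Category.assoc]
    rw [Scheme.Hom.toImage_imageι_assoc, hjw₂, ← Category.assoc, hτ₂]
  by_cases hne : t (closedPoint K) = b
  · exact ⟨τ₀.toImage (closedPoint K), hne⟩
  have hspec : t (closedPoint K) ⤳ b := by
    rw [specializes_iff_mem_closure]
    have h1 : Set.range t = {t (closedPoint K)} := by
      ext z
      constructor
      · rintro ⟨a, rfl⟩
        rw [Subsingleton.elim a (closedPoint K)]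
        rfl
      · rintro rfl
        exact ⟨_, rfl⟩
    rw [← h1, (inferInstance : IsDominant t).denseRange.closure_eq]
    trivial
  let φ : j₂.image.residueField (t (closedPoint K)) ⟶ .of K :=
    Scheme.descResidueField (Scheme.stalkClosedPointTo t)
  have hφ : Spec.map φ ≫ j₂.image.fromSpecResidueField (t (closedPoint K)) = t :=
    Scheme.descResidueField_stalkClosedPointTo_fromSpecResidueField K _ t
  have hφe : φ.hom.EssFiniteType := by
    have h1 := hc _ t (j₂.imageι ≫ CohB1.ProjSpaceOver.toBase n Y) inferInstance ht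
    have h2 : j₂.image.residue (t (closedPoint K)) ≫ φ = Scheme.stalkClosedPointTo t :=
      Scheme.residue_descResidueField _
    rw [← h2] at h1
    exact RingHom.EssFiniteType.of_comp _ h1
  obtain ⟨V, hV, g, hg1, hg2⟩ := Groth.Agent.Lib.Helper4.DVRSch.exists_dvr_hom hspec hne φ hφe
  haveI : IsDiscreteValuationRing V := hV
  rw [hφ] at hg1
  have hgy : (g ≫ j₂.imageι ≫ CohB1.ProjSpaceOver.toBase n Y) (closedPoint V) = y := by
    rw [Scheme.Hom.comp_apply, hg2]
    exact hby
  have hw : c ≫ f = Spec.map (CommRingCat.ofHom V.subtype) ≫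
      g ≫ j₂.imageι ≫ CohB1.ProjSpaceOver.toBase n Y := by
    rw [← Category.assoc, hg1, ht]
  obtain ⟨l, hl1, hl2⟩ := h V hV _ hgy hw
  have hmem := closedPoint_mem_range_toImage_of_lift f π₂ j₂ _ hjw₂ V g τ₀.toImage hg1.symm l
    (hl1.trans hτ₂.symm) hl2
  rwa [hg2] at hmem

/-- generic arc lifting passes to the restriction over an open subscheme. -/
lemma genArcLift_restrict {X Y : Scheme.{u}} (f : X ⟶ Y) (W : Y.Opens) (y : W) {K : Type u}
    [Field K] (c : Spec (.of K) ⟶ X) (cW : Spec (.of K) ⟶ f ⁻¹ᵁ W) (hcW : cW ≫ (f ⁻¹ᵁ W).ι = c)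
    (h : GenArcLift f y.1 c) : GenArcLift (f ∣_ W) y cW := by
  intro V hV g hg hw
  have hw' : c ≫ f = Spec.map (CommRingCat.ofHom V.subtype) ≫ g ≫ W.ι := by
    rw [← hcW, Category.assoc, ← morphismRestrict_ι, ← Category.assoc, hw, Category.assoc]
  obtain ⟨l, hl1, hl2⟩ := h V hV (g ≫ W.ι) (by rw [Scheme.Hom.comp_apply, hg]; rfl) hw'
  have hrange : Set.range l ⊆ Set.range (f ⁻¹ᵁ W).ι := by
    rintro _ ⟨a, rfl⟩
    rw [Scheme.Opens.range_ι]
    change f (l a) ∈ W
    rw [← Scheme.Hom.comp_apply, hl2, Scheme.Hom.comp_apply]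
    exact (g a).2
  refine ⟨IsOpenImmersion.lift (f ⁻¹ᵁ W).ι l hrange, ?_, ?_⟩
  · rw [← cancel_mono (f ⁻¹ᵁ W).ι, Category.assoc, IsOpenImmersion.lift_fac, hl1, hcW]
  · rw [← cancel_mono W.ι, Category.assoc, morphismRestrict_ι, ← Category.assoc,
      IsOpenImmersion.lift_fac, hl2]

lemma genEssFT_restrict {X Y : Scheme.{u}} (f : X ⟶ Y) (W : Y.Opens) {K : Type u}
    [Field K] (c : Spec (.of K) ⟶ X) (cW : Spec (.of K) ⟶ f ⁻¹ᵁ W) (hcW : cW ≫ (f ⁻¹ᵁ W).ι = c)
    (h : GenEssFT f c) : GenEssFT (f ∣_ W) cW := by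
  intro Z t q hq hw
  haveI := hq
  refine h Z t (q ≫ W.ι) inferInstance ?_
  rw [← Category.assoc, hw, Category.assoc, morphismRestrict_ι, ← Category.assoc, hcW]

/-- **EGA IV 15.7, generic form**: locally Noetherian base. -/
theorem exists_isProper_nhd_of_genArcLift {X Y : Scheme.{u}} [IsLocallyNoetherian Y]
    (f : X ⟶ Y) [IsSeparated f] [LocallyOfFiniteType f] [QuasiCompact f] (y : Y)
    {K : Type u} [Field K] (c : Spec (.of K) ⟶ X) [IsDominant c] (hc : GenEssFT f c)
    (hξ : f (c (closedPoint K)) ⤳ y) (h : GenArcLift f y c) :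
    ∃ U : Y.Opens, y ∈ U ∧ IsProper (f ∣_ U) := by
  obtain ⟨W, hW, hyW, -⟩ := exists_isAffineOpen_mem_and_subset (x := y) (U := (⊤ : Y.Opens)) trivial
  haveI : IsAffine (W : Scheme.{u}) := hW
  haveI : IsNoetherian (W : Scheme.{u}) := { }
  haveI : IsSeparated (f ∣_ W) := IsZariskiLocalAtTarget.restrict (P := @IsSeparated) inferInstance W
  haveI : LocallyOfFiniteType (f ∣_ W) :=
    IsZariskiLocalAtTarget.restrict (P := @LocallyOfFiniteType) inferInstance W
  haveI : QuasiCompact (f ∣_ W) :=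
    IsZariskiLocalAtTarget.restrict (P := @QuasiCompact) inferInstance W
  have hrc : Set.range c ⊆ Set.range (f ⁻¹ᵁ W).ι := by
    rintro _ ⟨a, rfl⟩
    rw [Scheme.Opens.range_ι, Subsingleton.elim a (closedPoint K)]
    exact hξ.mem_open W.isOpen hyW
  let cW : Spec (.of K) ⟶ f ⁻¹ᵁ W := IsOpenImmersion.lift (f ⁻¹ᵁ W).ι c hrc
  have hcW : cW ≫ (f ⁻¹ᵁ W).ι = c := IsOpenImmersion.lift_fac _ _ _
  haveI : IsDominant cW := by
    constructor
    have h1 : Dense ((f ⁻¹ᵁ W).ι ⁻¹' Set.range c) :=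
      (inferInstance : IsDominant c).denseRange.preimage (f ⁻¹ᵁ W).ι.isOpenEmbedding.isOpenMap
    have h2 : (f ⁻¹ᵁ W).ι ⁻¹' Set.range c = Set.range cW := by
      ext z
      constructor
      · rintro ⟨a, ha⟩
        refine ⟨a, (f ⁻¹ᵁ W).ι.isOpenEmbedding.injective ?_⟩
        rw [← Scheme.Hom.comp_apply, hcW, ha]
      · rintro ⟨a, rfl⟩
        exact ⟨a, by rw [← hcW]; rfl⟩
    rwa [h2] at h1
  obtain ⟨U', hyU', hU'⟩ := exists_isProper_nhd_of_genArcLift_noetherian (f ∣_ W) ⟨y, hyW⟩ cW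
    (genEssFT_restrict f W c cW hcW hc) (genArcLift_restrict f W ⟨y, hyW⟩ c cW hcW h)
  refine ⟨W.ι ''ᵁ U', ⟨⟨y, hyW⟩, hyU', rfl⟩, ?_⟩
  exact (MorphismProperty.arrow_mk_iso_iff @IsProper (morphismRestrictRestrict f W U')).1 hU'

end Groth.Agent.R2.H43.DvrProper
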