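import Mathlib
import Groth.Prelude.Def_AlgSpModX
import Groth.Agent.Lib.Helper14FtPts

/-!
# helper48: weakly associated points of the structure sheaf on affine etale charts
-/

set_option autoImplicit false
set_option backward.isDefEq.respectTransparency false
universe u
open CategoryTheory CategoryTheory.Limits AlgebraicGeometry Opposite

namespace Groth.Agent.R2.H48.WeakAss

/-- A global function lies in the prime of the point `u` iff `u` is not in its basic open. -/
theorem mem_primeAtPt_iff (E : Scheme.{u}) (u : E) (a : Γ(E, ⊤)) :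
    a ∈ AlgSp.primeAtPt E u ↔ u ∉ E.basicOpen a := by
  unfold AlgSp.primeAtPt
  rw [Ideal.mem_comap, IsLocalRing.mem_maximalIdeal, mem_nonunits_iff, Scheme.mem_basicOpen_top]

/-- On an affine scheme every prime of the ring of global functions is the prime of a point. -/
theorem exists_primeAtPt_eq (E : Scheme.{u}) [IsAffine E] (𝔭 : Ideal Γ(E, ⊤)) [𝔭.IsPrime] :
    ∃ u : E, AlgSp.primeAtPt E u = 𝔭 := by
  have hU := isAffineOpen_top E
  refine ⟨hU.fromSpec ⟨𝔭, inferInstance⟩, ?_⟩
  ext a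
  have hx : hU.fromSpec ⟨𝔭, inferInstance⟩ ∈ (⊤ : E.Opens) := trivial
  have h1 : hU.primeIdealOf ⟨hU.fromSpec ⟨𝔭, inferInstance⟩, hx⟩ = ⟨𝔭, inferInstance⟩ := by
    apply hU.fromSpec.isOpenEmbedding.injective
    exact hU.fromSpec_primeIdealOf ⟨hU.fromSpec ⟨𝔭, inferInstance⟩, hx⟩
  rw [mem_primeAtPt_iff,
    Groth.Agent.Lib.Helper14.mem_basicOpen_iff_notMem_primeIdealOf hU _ hx a, h1, not_not]

/-- On an affine scheme, a zero divisor relation `y * β = 0`, `y ≠ 0` produces a point whose prime contains `β` and is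
minimal over the annihilator of `y`. -/
theorem exists_point_minimalPrimes (E : Scheme.{u}) [IsAffine E] (y β : Γ(E, ⊤)) (hy : y * β = 0) (hy0 : y ≠ 0)
    (J : Ideal Γ(E, ⊤)) (hJ : ∀ a, a ∈ J ↔ a * y = 0) :
    ∃ u : E, u ∉ E.basicOpen β ∧ AlgSp.primeAtPt E u ∈ J.minimalPrimes := by
  have hJne : J ≠ ⊤ := by
    intro htop
    have h1 : (1 : Γ(E, ⊤)) ∈ J := by rw [htop]; trivial
    rw [hJ, one_mul] at h1
    exact hy0 h1
  obtain ⟨𝔭, h𝔭⟩ := Ideal.nonempty_minimalPrimes hJne
  haveI : 𝔭.IsPrime := h𝔭.1.1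
  obtain ⟨u, hu⟩ := exists_primeAtPt_eq E 𝔭
  refine ⟨u, ?_, by rw [hu]; exact h𝔭⟩
  rw [← mem_primeAtPt_iff, hu]
  exact h𝔭.1.2 ((hJ β).2 (by rw [mul_comm]; exact hy))

variable {S : Scheme.{u}} {X : AlgSp.Sp S}

/-- The annihilator of a section of the structure sheaf (as a module) over an object of the small etale site. -/
theorem mem_annSect_unit_iff (E : AlgSp.EtOver X) (y a : Γ(E.obj.left.left, ⊤)) :
    a ∈ AlgSp.annSect (M := AlgSp.unitModEt X) (E := E) (AlgSp.upΓ E y : (AlgSp.OEtRing X).obj.obj (op E)) ↔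
      a * y = 0 := by
  rw [AlgSp.mem_annSect_iff]
  change (AlgSp.upΓ E (a * y) : (AlgSp.OEtRing X).obj.obj (op E)) = 0 ↔ _
  constructor
  · intro h
    exact congrArg ULift.down h
  · intro h
    rw [h, map_zero]

/-- A zero divisor relation on an affine etale chart produces a weakly associated point of the structure sheaf. -/
theorem exists_mem_weakAssEt_unit (E : AlgSp.EtOver X) [IsAffine E.obj.left.left]
    (y β : Γ(E.obj.left.left, ⊤)) (hy : y * β = 0) (hy0 : y ≠ 0) :
    ∃ u : E.obj.left.left, u ∉ E.obj.left.left.basicOpen β ∧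
      AlgSp.Points.ofPt E.obj.hom u ∈ AlgSp.WeakAssEt (AlgSp.unitModEt X) := by
  obtain ⟨u, hu1, hu2⟩ := exists_point_minimalPrimes E.obj.left.left y β hy hy0
    (AlgSp.annSect (M := AlgSp.unitModEt X) (E := E) (AlgSp.upΓ E y : (AlgSp.OEtRing X).obj.obj (op E)))
    (fun a => mem_annSect_unit_iff E y a)
  exact ⟨u, hu1, E, inferInstance, u, rfl, _, hu2⟩

end Groth.Agent.R2.H48.WeakAss
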