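import Mathlib
import Groth.Prelude.Def_AlgSpModX
import Groth.Agent.R2.H48WeakAss

/-!
# helper48: sections of modules on the small etale site of a sheaf: locality, vanishing

* `openSub E W`, `openSubι E W`: an open subscheme of an object of the site as an object of the site.
* `section_eq_zero_of_affine_cover`: a section vanishing on all affine opens vanishes.
* `annSect_eq_top_iff`: the annihilator of a section is the unit ideal iff the section is zero.
* `exists_mem_weakAssEt_of_ne_zero`: a non-zero section over an affine object produces a weakly associated point.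
-/

set_option autoImplicit false
set_option backward.isDefEq.respectTransparency false
universe u
open CategoryTheory CategoryTheory.Limits AlgebraicGeometry Opposite

namespace Groth.Agent.R2.H48.ModEt

variable {S : Scheme.{u}} {X : AlgSp.Sp S}

/-- An open subscheme of the scheme of an object of the small etale site, as an object of the site. -/
noncomputable def openSub (E : AlgSp.EtOver X) (W : E.obj.left.left.Opens) : AlgSp.EtOver X :=
  AlgSp.EtOver.mk (U := Over.mk (W.ι ≫ E.obj.left.hom))
    ((AlgSp.yon S).map (Over.homMk W.ι rfl : Over.mk (W.ι ≫ E.obj.left.hom) ⟶ E.obj.left) ≫ E.obj.hom)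
    ((AlgSp.RepWith @Etale).comp_mem _ _
      ((AlgSp.repWith_yon_map_iff _ _).2 (inferInstanceAs (Etale W.ι))) E.property)

/-- The inclusion of an open subscheme, as a morphism of the site. -/
noncomputable def openSubι (E : AlgSp.EtOver X) (W : E.obj.left.left.Opens) : openSub E W ⟶ E :=
  AlgSp.EtOver.homMk (Over.homMk W.ι rfl : Over.mk (W.ι ≫ E.obj.left.hom) ⟶ E.obj.left) rfl

theorem openSubι_left (E : AlgSp.EtOver X) (W : E.obj.left.left.Opens) :
    (openSubι E W).hom.left.left = W.ι := rfl

/-- the affine opens cover an object of the site. -/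
theorem affine_cover_mem (E : AlgSp.EtOver X) :
    Sieve.ofArrows (fun W : E.obj.left.left.affineOpens => openSub E W.1)
      (fun W => openSubι E W.1) ∈ AlgSp.etTop X E := by
  apply AlgSp.ofArrows_mem_etTop
  intro x
  obtain ⟨_, ⟨W, hW, rfl⟩, hxW, -⟩ := E.obj.left.left.isBasis_affineOpens.exists_subset_of_mem_open
    (Set.mem_univ x) isOpen_univ
  refine ⟨⟨W, hW⟩, ?_⟩
  show x ∈ Set.range (Scheme.Opens.ι (X := E.obj.left.left) W)
  rw [Scheme.Opens.range_ι]
  exact hxW

/-- sections of a module on the site are determined by their restrictions to a covering sieve. -/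
theorem section_ext_of_mem (M : AlgSp.ModEt X) {E : AlgSp.EtOver X} (R : Sieve E)
    (hR : R ∈ AlgSp.etTop X E) (s t : AlgSp.sectModEt M E)
    (h : ∀ ⦃E' : AlgSp.EtOver X⦄ (g : E' ⟶ E), R g → M.val.map g.op s = M.val.map g.op t) : s = t := by
  have hsep := Presheaf.IsSheaf.isSeparated M.isSheaf
  exact hsep E R hR s t (fun Y f hf => h f hf)

/-- a section vanishing on all affine opens vanishes. -/
theorem section_eq_zero_of_affine_cover (M : AlgSp.ModEt X) {E : AlgSp.EtOver X}
    (s : AlgSp.sectModEt M E)
    (h : ∀ W : E.obj.left.left.affineOpens, M.val.map (openSubι E W.1).op s = 0) : s = 0 := by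
  refine section_ext_of_mem M _ (affine_cover_mem E) s 0 ?_
  rintro E' g ⟨E'', g', _, ⟨W⟩, rfl⟩
  rw [op_comp, PresheafOfModules.map_comp_apply, PresheafOfModules.map_comp_apply, h W, map_zero,
    map_zero, map_zero]

/-- the annihilator of a section is the unit ideal iff the section is zero. -/
theorem annSect_eq_top_iff {M : AlgSp.ModEt X} {E : AlgSp.EtOver X} (s : AlgSp.sectModEt M E) :
    AlgSp.annSect s = ⊤ ↔ s = 0 := by
  rw [Ideal.eq_top_iff_one, AlgSp.mem_annSect_iff, map_one, one_smul]

/-- a non-zero section over an affine object produces a weakly associated point. -/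
theorem exists_mem_weakAssEt_of_ne_zero (M : AlgSp.ModEt X) (E : AlgSp.EtOver X)
    [IsAffine E.obj.left.left] (s : AlgSp.sectModEt M E) (hs : s ≠ 0) :
    ∃ u : E.obj.left.left, AlgSp.Points.ofPt E.obj.hom u ∈ AlgSp.WeakAssEt M := by
  have hne : AlgSp.annSect s ≠ ⊤ := fun h => hs ((annSect_eq_top_iff s).1 h)
  obtain ⟨𝔭, h𝔭⟩ := Ideal.nonempty_minimalPrimes hne
  haveI : 𝔭.IsPrime := h𝔭.1.1
  obtain ⟨u, hu⟩ := Groth.Agent.R2.H48.WeakAss.exists_primeAtPt_eq E.obj.left.left 𝔭
  exact ⟨u, E, inferInstance, u, rfl, s, by rw [hu]; exact h𝔭⟩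

/-- a module all of whose sections vanish is zero. -/
theorem isZero_of_forall_section_eq_zero (M : AlgSp.ModEt X)
    (h : ∀ (E : AlgSp.EtOver X) (s : AlgSp.sectModEt M E), s = 0) : IsZero M := by
  rw [IsZero.iff_id_eq_zero]
  apply SheafOfModules.hom_ext
  apply PresheafOfModules.hom_ext
  intro E
  ext s
  exact (h E.unop s).trans (h E.unop _).symm

/-- sections of a zero module vanish. -/
theorem section_eq_zero_of_isZero (M : AlgSp.ModEt X) (hM : IsZero M) (E : AlgSp.EtOver X)
    (s : AlgSp.sectModEt M E) : s = 0 := by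
  have h1 : 𝟙 M = 0 := (IsZero.iff_id_eq_zero M).1 hM
  have h2 : (𝟙 M : M ⟶ M).val.app (op E) s = (0 : M ⟶ M).val.app (op E) s := by rw [h1]
  exact h2

end Groth.Agent.R2.H48.ModEt
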