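import Mathlib
import Groth.Prelude.Def_AlgSpModX
import Groth.Agent.R2.H48Chart
import Groth.Agent.R2.H48ModEt
import Groth.Agent.Lib.Helper20EffCartier

/-!
# helper48: the ideal sheaf `idealOfRep` of a closed subspace on affine etale charts versus chart ideals

* `idealOfRep_ideal_eq`: on an affine object `E`, the value of `idealOfRep hi` is the ideal of global sections of any
  ideal sheaf on the chart whose closed subscheme is the inverse image.
* `idealOfRep_openSub`: the value on an affine open of a chart.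
-/

set_option autoImplicit false
set_option backward.isDefEq.respectTransparency false
universe u
open CategoryTheory CategoryTheory.Limits AlgebraicGeometry Opposite

namespace Groth.Agent.R2.H48.IdealEt

open Groth.Agent.R2.H48.Chart Groth.Agent.R2.H48.ModEt

variable {S : Scheme.{u}} {X Z : AlgSp.Sp S} {i : Z ⟶ X}

/-- on an affine object `E`, the value of `idealOfRep hi` is the ideal of global sections of any ideal sheaf on the chart
whose closed subscheme is the inverse image. -/
theorem idealOfRep_ideal_eq (hi : AlgSp.Representable i) (E : AlgSp.EtOver X)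
    (hE : IsAffine E.obj.left.left) (I : E.obj.left.left.IdealSheafData)
    (fst : (AlgSp.yon S).obj (subOver I) ⟶ Z)
    (sq : IsPullback fst ((AlgSp.yon S).map (subι I)) i E.obj.hom) :
    (AlgSp.idealOfRep hi).ideal E hE = I.ideal ⟨⊤, isAffineOpen_top _⟩ := by
  have P := AlgSp.EtOver.isPullback_bcObj hi E
  obtain ⟨e, he⟩ := (AlgSp.yon S).map_surjective (P.isoIsPullback _ _ sq).hom
  have he1 : e ≫ subι I = AlgSp.EtOver.bcπ hi E := by
    apply (AlgSp.yon S).map_injective
    rw [Functor.map_comp, he]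
    exact IsPullback.isoIsPullback_hom_snd _ _ P sq
  haveI : IsIso ((AlgSp.yon S).map e) := by rw [he]; infer_instance
  haveI : IsIso e := isIso_of_fully_faithful (AlgSp.yon S) e
  haveI : IsIso e.left := inferInstanceAs (IsIso ((Over.forget S).map e))
  have he2 : (AlgSp.EtOver.bcπ hi E).left = e.left ≫ I.subschemeι := by
    rw [← he1]; rfl
  ext a
  rw [AlgSp.mem_idealOfRep_iff, he2, Scheme.Hom.comp_appTop, CommRingCat.hom_comp, RingHom.comp_apply,
    ← I.ker_subschemeι_app ⟨⊤, isAffineOpen_top _⟩, RingHom.mem_ker]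
  have hinj : Function.Injective e.left.appTop.hom :=
    (ConcreteCategory.bijective_of_isIso e.left.appTop).1
  constructor
  · intro h
    apply hinj
    rw [map_zero]
    exact h
  · intro h
    have h' : I.subschemeι.appTop.hom a = 0 := h
    exact (congrArg e.left.appTop.hom h').trans (map_zero _)

/-- the value of `idealOfRep hi` on an affine open of a chart, in terms of a chart ideal. -/
theorem idealOfRep_openSub (hi : AlgSp.Representable i) (E₀ : AlgSp.EtOver X)
    (I : E₀.obj.left.left.IdealSheafData) (fst : (AlgSp.yon S).obj (subOver I) ⟶ Z)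
    (sq : IsPullback fst ((AlgSp.yon S).map (subι I)) i E₀.obj.hom)
    (W : E₀.obj.left.left.Opens) (hW : IsAffineOpen W) :
    (AlgSp.idealOfRep hi).ideal (openSub E₀ W) hW =
      (I.ideal ⟨W, hW⟩).map (W.ι.appLE W ⊤ W.ι_preimage_self.ge).hom := by
  haveI : IsAffine W.toScheme := hW
  have h1 := isPullback_chart_comap sq
    (Over.homMk W.ι rfl : Over.mk (W.ι ≫ E₀.obj.left.hom) ⟶ E₀.obj.left)
  have h2 := idealOfRep_ideal_eq hi (openSub E₀ W) hW (I.comap W.ι) _ h1
  rw [h2]
  exact Groth.Agent.Lib.Helper20.EffCartier.ideal_comap_eq_map W.ι I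
    (isAffineOpen_top _) hW W.ι_preimage_self.ge

/-- chart ideals of a closed subspace cut out by a product of two ideal sheaves. -/
theorem chart_ideal_eq_mul {Z₁ Z₂ : AlgSp.Sp S} {i₁ : Z₁ ⟶ X} {i₂ : Z₂ ⟶ X}
    (hi : AlgSp.Representable i) (hi₁ : AlgSp.Representable i₁) (hi₂ : AlgSp.Representable i₂)
    (h : AlgSp.idealOfRep hi = AlgSp.idealOfRep hi₁ * AlgSp.idealOfRep hi₂)
    (E₀ : AlgSp.EtOver X) (I I₁ I₂ : E₀.obj.left.left.IdealSheafData)
    (fst : (AlgSp.yon S).obj (subOver I) ⟶ Z) (fst₁ : (AlgSp.yon S).obj (subOver I₁) ⟶ Z₁)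
    (fst₂ : (AlgSp.yon S).obj (subOver I₂) ⟶ Z₂)
    (sq : IsPullback fst ((AlgSp.yon S).map (subι I)) i E₀.obj.hom)
    (sq₁ : IsPullback fst₁ ((AlgSp.yon S).map (subι I₁)) i₁ E₀.obj.hom)
    (sq₂ : IsPullback fst₂ ((AlgSp.yon S).map (subι I₂)) i₂ E₀.obj.hom) : I = I₁ * I₂ := by
  ext W : 2
  rw [Scheme.IdealSheafData.ideal_mul, Pi.mul_apply]
  have hW : IsAffineOpen W.1 := W.2
  have e1 := idealOfRep_openSub hi E₀ I fst sq W.1 hW
  have e2 := idealOfRep_openSub hi₁ E₀ I₁ fst₁ sq₁ W.1 hW
  have e3 := idealOfRep_openSub hi₂ E₀ I₂ fst₂ sq₂ W.1 hW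
  rw [h, AlgSp.IdealEt.mul_ideal, e2, e3, ← Ideal.map_mul] at e1
  have hbij : Function.Bijective (W.1.ι.appLE W.1 ⊤ W.1.ι_preimage_self.ge).hom :=
    ConcreteCategory.bijective_of_isIso (W.1.ι.appLE W.1 ⊤ W.1.ι_preimage_self.ge)
  have := congrArg (Ideal.comap (W.1.ι.appLE W.1 ⊤ W.1.ι_preimage_self.ge).hom) e1
  rw [Ideal.comap_map_of_bijective _ hbij, Ideal.comap_map_of_bijective _ hbij] at this
  exact this.symm

end Groth.Agent.R2.H48.IdealEt
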