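import Mathlib
import Groth.Prelude.Def_AlgSpModX
import Groth.Agent.R2.H48IdealEt
import Groth.Agent.R2.H48ClosedSub
import Groth.Agent.Lib.Helper22IdealComap

/-!
# Closed subspaces cut out by quasi-coherent families of ideals on the small etale site (helper43)

Namespace `Groth.Agent.R2.H43.IdealCut`.  `X` an fppf sheaf, `I : AlgSp.IdealEt X` with `hI : I.IsQCoh`.

* `resMap g W W' h : openSub E' W' ⟶ openSub E W`, `ideal_openSub_eq` (quasi-coherence as an equality).
* `idealOn I E W hW : Ideal Γ(E, W)`, `idealOn_map`, `idealOn_res`, `idealOn_top`.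
* `chartI I hI E : E.obj.left.left.IdealSheafData`, `chartI_comap` (compatible with morphisms of the site),
  `chartI_comap_eq` (two points with the same image in `X` pull the chart ideals back to the same ideal sheaf),
  `invariant_chartI` (helper48's `ClosedSub.Invariant`).
* `ker_eq_bot_of_flat_surjective`, `le_bot_of_comap_le_bot`, `le_ker_iff_comap_le` (scheme level).
* `isPullback_chartI` : `V(chartI E) = E ×_X Z` for every object `E`, `Z` the closed subsheaf built on one atlas.
* `exists_isCutOutBy` : every quasi-coherent `I` on an algebraic space is cut out by a closed subspace.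
-/

set_option autoImplicit false
set_option linter.style.haveILetI false
set_option backward.isDefEq.respectTransparency false
universe u
open CategoryTheory CategoryTheory.Limits AlgebraicGeometry Opposite

namespace Groth.Agent.R2.H43.IdealCut

open Groth.Agent.R2.H48.Chart Groth.Agent.R2.H48.ModEt

variable {S : Scheme.{u}} {X : AlgSp.Sp S}

/-- the restriction of a morphism of the site to open subschemes, as a morphism of the site. -/
noncomputable def resMap {E' E : AlgSp.EtOver X} (g : E' ⟶ E) (W : E.obj.left.left.Opens)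
    (W' : E'.obj.left.left.Opens) (h : W' ≤ g.hom.left.left ⁻¹ᵁ W) : openSub E' W' ⟶ openSub E W :=
  AlgSp.EtOver.homMk
    (Over.homMk (g.hom.left.left.resLE W W' h) (by
      change g.hom.left.left.resLE W W' h ≫ W.ι ≫ E.obj.left.hom = W'.ι ≫ E'.obj.left.hom
      rw [← Category.assoc, Scheme.Hom.resLE_comp_ι, Category.assoc, Over.w g.hom.left]) :
      (openSub E' W').obj.left ⟶ (openSub E W).obj.left) (by
    change (AlgSp.yon S).map _ ≫ (AlgSp.yon S).map _ ≫ E.obj.hom =
      (AlgSp.yon S).map _ ≫ E'.obj.hom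
    rw [← AlgSp.EtOver.w g, ← Functor.map_comp_assoc, ← Functor.map_comp_assoc]
    congr 2
    ext
    exact Scheme.Hom.resLE_comp_ι _ _)

lemma resMap_left {E' E : AlgSp.EtOver X} (g : E' ⟶ E) (W : E.obj.left.left.Opens)
    (W' : E'.obj.left.left.Opens) (h : W' ≤ g.hom.left.left ⁻¹ᵁ W) :
    (resMap g W W' h).hom.left.left = g.hom.left.left.resLE W W' h := rfl

variable (I : AlgSp.IdealEt X)

/-- quasi-coherence as an equality, for open subschemes of objects of the site. -/
lemma ideal_openSub_eq (hI : I.IsQCoh) {E' E : AlgSp.EtOver X} (g : E' ⟶ E)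
    (W : E.obj.left.left.Opens) (hW : IsAffineOpen W)
    (W' : E'.obj.left.left.Opens) (hW' : IsAffineOpen W') (h : W' ≤ g.hom.left.left ⁻¹ᵁ W) :
    I.ideal (openSub E' W') hW' =
      (I.ideal (openSub E W) hW).map (g.hom.left.left.resLE W W' h).appTop.hom :=
  le_antisymm (hI (resMap g W W' h) hW hW') (I.map_le (resMap g W W' h) hW hW')

lemma ideal_square {A A₁ B B₁ : Type*} [CommRing A] [CommRing A₁] [CommRing B] [CommRing B₁]
    (α : A →+* A₁) (hα : Function.Bijective α) (β : B →+* B₁) (hβ : Function.Bijective β)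
    (φ : A →+* B) (ψ : A₁ →+* B₁) (h : β.comp φ = ψ.comp α) (𝔞 : Ideal A₁) :
    (𝔞.map ψ).comap β = (𝔞.comap α).map φ := by
  apply le_antisymm
  · have h1 : 𝔞.map ψ ≤ ((𝔞.comap α).map φ).map β := by
      rw [Ideal.map_map, h, ← Ideal.map_map, Ideal.map_comap_of_surjective α hα.2]
    calc (𝔞.map ψ).comap β ≤ (((𝔞.comap α).map φ).map β).comap β := Ideal.comap_mono h1
      _ = (𝔞.comap α).map φ := Ideal.comap_map_of_bijective β hβ
  · rw [Ideal.map_le_iff_le_comap, Ideal.comap_comap, h, ← Ideal.comap_comap]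
    exact Ideal.comap_mono Ideal.le_comap_map

/-- the isomorphism `Γ(U, W) ≅ Γ(↑W, ⊤)`. -/
noncomputable abbrev topMap {U : Scheme.{u}} (W : U.Opens) : Γ(U, W) ⟶ Γ(W, ⊤) :=
  W.ι.appLE W ⊤ W.ι_preimage_self.ge

lemma topMap_bijective {U : Scheme.{u}} (W : U.Opens) : Function.Bijective (topMap W).hom :=
  ConcreteCategory.bijective_of_isIso (topMap W)

lemma topMap_square {U' U : Scheme.{u}} (g : U' ⟶ U) (W : U.Opens) (W' : U'.Opens)
    (h : W' ≤ g ⁻¹ᵁ W) :
    g.appLE W W' h ≫ topMap W' = topMap W ≫ (g.resLE W W' h).appTop := by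
  unfold topMap
  rw [Scheme.Hom.appLE_comp_appLE, Scheme.Hom.appTop, Scheme.Hom.app_eq_appLE,
    Scheme.Hom.appLE_comp_appLE]
  exact (Groth.Agent.Lib.Helper22.IdealComap.appLE_congr_hom
    (Scheme.Hom.resLE_comp_ι g h) W ⊤ _).symm

/-- the ideal of `I` over an affine open of an object, as an ideal of sections over that open. -/
noncomputable def idealOn (E : AlgSp.EtOver X) (W : E.obj.left.left.Opens) (hW : IsAffineOpen W) :
    Ideal Γ(E.obj.left.left, W) :=
  (I.ideal (openSub E W) hW).comap (topMap W).hom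

lemma idealOn_map (hI : I.IsQCoh) {E' E : AlgSp.EtOver X} (g : E' ⟶ E)
    (W : E.obj.left.left.Opens) (hW : IsAffineOpen W)
    (W' : E'.obj.left.left.Opens) (hW' : IsAffineOpen W') (h : W' ≤ g.hom.left.left ⁻¹ᵁ W) :
    idealOn I E' W' hW' = (idealOn I E W hW).map (g.hom.left.left.appLE W W' h).hom := by
  unfold idealOn
  rw [ideal_openSub_eq I hI g W hW W' hW' h]
  refine ideal_square (topMap W).hom (topMap_bijective W) (topMap W').hom (topMap_bijective W')
    _ _ ?_ _
  have := congrArg (fun k => k.hom) (topMap_square g.hom.left.left W W' h)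
  simpa only [CommRingCat.hom_comp] using this

lemma idealOn_res (hI : I.IsQCoh) (E : AlgSp.EtOver X)
    (W : E.obj.left.left.Opens) (hW : IsAffineOpen W)
    (W' : E.obj.left.left.Opens) (hW' : IsAffineOpen W') (h : W' ≤ W) :
    idealOn I E W' hW' =
      (idealOn I E W hW).map (E.obj.left.left.presheaf.map (homOfLE h).op).hom := by
  have h1 := idealOn_map I hI (𝟙 E) W hW W' hW' h
  rw [h1]
  congr 2

/-- the ideal sheaf on the scheme of an object of the site defined by a quasi-coherent family. -/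
noncomputable def chartI (hI : I.IsQCoh) (E : AlgSp.EtOver X) : E.obj.left.left.IdealSheafData where
  ideal W := idealOn I E W.1 W.2
  map_ideal_basicOpen W f :=
    (idealOn_res I hI E W.1 W.2 _ (W.2.basicOpen f) (E.obj.left.left.basicOpen_le f)).symm

lemma chartI_ideal (hI : I.IsQCoh) (E : AlgSp.EtOver X) (W : E.obj.left.left.affineOpens) :
    (chartI I hI E).ideal W = idealOn I E W.1 W.2 := rfl

/-- compatibility of the chart ideal sheaves with morphisms of the site. -/
theorem chartI_comap (hI : I.IsQCoh) {E' E : AlgSp.EtOver X} (g : E' ⟶ E) :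
    (chartI I hI E).comap g.hom.left.left = chartI I hI E' := by
  let ι := {P : E'.obj.left.left.affineOpens × E.obj.left.left.affineOpens //
    P.1.1 ≤ g.hom.left.left ⁻¹ᵁ P.2.1}
  refine Scheme.IdealSheafData.ext_of_iSup_eq_top (ι := ι) (fun P => P.1.1) ?_ ?_
  · rw [eq_top_iff]
    rintro x -
    obtain ⟨_, ⟨W, hW, rfl⟩, hxW, -⟩ := E.obj.left.left.isBasis_affineOpens.exists_subset_of_mem_open
      (Set.mem_univ (g.hom.left.left x)) isOpen_univ
    obtain ⟨_, ⟨W', hW', rfl⟩, hxW', hW'W⟩ :=
      E'.obj.left.left.isBasis_affineOpens.exists_subset_of_mem_open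
        (show x ∈ (g.hom.left.left ⁻¹ᵁ W : Set _) from hxW) (g.hom.left.left ⁻¹ᵁ W).isOpen
    exact TopologicalSpace.Opens.mem_iSup.mpr ⟨⟨(⟨W', hW'⟩, ⟨W, hW⟩), hW'W⟩, hxW'⟩
  · rintro ⟨⟨W', W⟩, h⟩
    rw [Groth.Agent.Lib.Helper22.IdealComap.ideal_comap_eq_map g.hom.left.left (chartI I hI E) W' W h,
      chartI_ideal, chartI_ideal]
    exact (idealOn_map I hI g W.1 W.2 W'.1 W'.2 h).symm

open Groth.Agent.S13210 in
/-- two points of objects of the site with the same image in `X` pull the chart ideals back to the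
same ideal sheaf. -/
theorem chartI_comap_eq (hI : I.IsQCoh) (E E' : AlgSp.EtOver X) {T : Over S}
    (b : T ⟶ E.obj.left) (b' : T ⟶ E'.obj.left)
    (h : (AlgSp.yon S).map b ≫ E.obj.hom = (AlgSp.yon S).map b' ≫ E'.obj.hom) :
    (chartI I hI E).comap b.left = (chartI I hI E').comap b'.left := by
  obtain ⟨R, e', fstR, sq⟩ := E.property.1 E'.obj.hom
  obtain ⟨e, rfl⟩ := (AlgSp.yon S).map_surjective fstR
  have he' : AlgSp.RepWith @Etale ((AlgSp.yon S).map e') :=
    MorphismProperty.of_isPullback (P := AlgSp.RepWith @Etale) sq E.property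
  let ER : AlgSp.EtOver X := AlgSp.EtOver.mk ((AlgSp.yon S).map e' ≫ E'.obj.hom)
    ((AlgSp.RepWith @Etale).comp_mem _ _ he' E'.property)
  let ge : ER ⟶ E := AlgSp.EtOver.homMk e sq.w
  let ge' : ER ⟶ E' := AlgSp.EtOver.homMk e' rfl
  obtain ⟨d, hd⟩ := (AlgSp.yon S).map_surjective (sq.lift _ _ h)
  have hd1 : d ≫ e = b := (AlgSp.yon S).map_injective (by rw [Functor.map_comp, hd, sq.lift_fst])
  have hd2 : d ≫ e' = b' := (AlgSp.yon S).map_injective (by rw [Functor.map_comp, hd, sq.lift_snd])
  have h1 : (chartI I hI E).comap e.left = chartI I hI ER := chartI_comap I hI ge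
  have h2 : (chartI I hI E').comap e'.left = chartI I hI ER := chartI_comap I hI ge'
  have hb : b.left = d.left ≫ e.left := by rw [← hd1]; rfl
  have hb' : b'.left = d.left ≫ e'.left := by rw [← hd2]; rfl
  rw [hb, hb', Scheme.IdealSheafData.comap_comp, Scheme.IdealSheafData.comap_comp, h1, h2]

lemma le_ker_iff_comap_le {T U : Scheme.{u}} (J : U.IdealSheafData) (b : T ⟶ U) :
    J ≤ b.ker ↔ J.comap b ≤ ⊥ := by
  rw [← Scheme.IdealSheafData.map_bot, Scheme.IdealSheafData.le_map_iff_comap_le]

lemma comap_subschemeι_le {U : Scheme.{u}} (J : U.IdealSheafData) : J.comap J.subschemeι ≤ ⊥ := by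
  rw [← le_ker_iff_comap_le, Scheme.IdealSheafData.ker_subschemeι]

/-- the chart ideal sheaf is invariant. -/
theorem invariant_chartI (hI : I.IsQCoh) (E₀ : AlgSp.EtOver X) :
    Groth.Agent.R2.H48.ClosedSub.Invariant E₀.obj.hom (chartI I hI E₀) := by
  intro T b₁ b₂ h h1
  rw [le_ker_iff_comap_le] at h1 ⊢
  rwa [← chartI_comap_eq I hI E₀ E₀ b₁ b₂ h]

lemma app_injective_of_flat_surjective {T' T : Scheme.{u}} (c : T' ⟶ T) [Flat c] [Surjective c]
    (U : T.Opens) : Function.Injective (c.app U).hom := by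
  intro s t hst
  refine TopCat.Presheaf.section_ext T.sheaf U s t (fun x hx => ?_)
  obtain ⟨y, rfl⟩ := c.surjective x
  have hinj : Function.Injective (c.stalkMap y) := by
    algebraize [(c.stalkMap y).hom]
    have : Module.FaithfullyFlat (T.presheaf.stalk (c y)) (T'.presheaf.stalk y) :=
      @Module.FaithfullyFlat.of_flat_of_isLocalHom _ _ _ _ _ _ _
        (Flat.stalkMap c y) (c.toLRSHom.prop y)
    exact ‹RingHom.FaithfullyFlat _›.injective
  apply hinj
  have h1 := Scheme.Hom.germ_stalkMap_apply c U y hx s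
  have h2 := Scheme.Hom.germ_stalkMap_apply c U y hx t
  change c.stalkMap y (T.presheaf.germ U (c y) hx s) = c.stalkMap y (T.presheaf.germ U (c y) hx t)
  rw [h1, h2]
  exact congrArg _ hst

lemma ker_eq_bot_of_flat_surjective {T' T : Scheme.{u}} (c : T' ⟶ T) [Flat c] [Surjective c] :
    c.ker = ⊥ := by
  rw [eq_bot_iff]
  intro U
  refine (c.ideal_ker_le U).trans ?_
  rw [(RingHom.injective_iff_ker_eq_bot _).1 (app_injective_of_flat_surjective c U.1)]
  exact bot_le

lemma le_bot_of_comap_le_bot {T' T : Scheme.{u}} (c : T' ⟶ T) [Flat c] [Surjective c]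
    (J : T.IdealSheafData) (h : J.comap c ≤ ⊥) : J ≤ ⊥ := by
  rw [← le_ker_iff_comap_le, ker_eq_bot_of_flat_surjective] at h
  exact h

open Groth.Agent.S13210 Groth.Agent.R2.H48.ClosedSub in
/-- the closed subscheme of the chart ideal of any object of the site is the inverse image of the closed
subsheaf defined on one covering chart. -/
theorem isPullback_chartI (hI : I.IsQCoh) (E₀ : AlgSp.EtOver X)
    (hps : AlgSp.RepWith @Surjective E₀.obj.hom) (E : AlgSp.EtOver X) :
    ∃ fst : (AlgSp.yon S).obj (subOver (chartI I hI E)) ⟶ obj E₀.obj.hom (chartI I hI E₀),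
      IsPullback fst ((AlgSp.yon S).map (subι (chartI I hI E)))
        (incl E₀.obj.hom (chartI I hI E₀)) E.obj.hom := by
  have hfac : ∃ fst : (AlgSp.yon S).obj (subOver (chartI I hI E)) ⟶ obj E₀.obj.hom (chartI I hI E₀),
      fst ≫ incl E₀.obj.hom (chartI I hI E₀) =
        (AlgSp.yon S).map (subι (chartI I hI E)) ≫ E.obj.hom := by
    rw [factor_iff]
    intro T' c b' hcb
    rw [le_ker_iff_comap_le]
    have h1 := chartI_comap_eq I hI E E₀ (c ≫ subι (chartI I hI E)) b'
      (by rw [Functor.map_comp, Category.assoc]; exact hcb)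
    rw [← h1]
    have hl : (c ≫ subι (chartI I hI E)).left = c.left ≫ (chartI I hI E).subschemeι := rfl
    rw [hl, Scheme.IdealSheafData.comap_comp]
    refine (Scheme.IdealSheafData.comap_mono _ (comap_subschemeι_le (chartI I hI E))).trans ?_
    change Scheme.IdealSheafData.comap ⊥ c.left ≤ ⊥
    rw [Scheme.IdealSheafData.comap_bot]
  obtain ⟨fst, hfst⟩ := hfac
  refine ⟨fst, isPullback_of_yon hfst (fun T f g hfg => ?_)⟩
  obtain ⟨g₀, rfl⟩ := (AlgSp.yon S).map_surjective g
  have hK : chartI I hI E ≤ g₀.left.ker := by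
    obtain ⟨T', c, fstT, sqT⟩ := E₀.property.1 ((AlgSp.yon S).map g₀ ≫ E.obj.hom)
    obtain ⟨b', rfl⟩ := (AlgSp.yon S).map_surjective fstT
    haveI : Etale c.left := E₀.property.2 _ _ _ sqT
    haveI : Surjective c.left := hps.2 _ _ _ sqT
    have h1 : chartI I hI E₀ ≤ b'.left.ker :=
      (factor_iff E₀.obj.hom (chartI I hI E₀) (f ≫ incl E₀.obj.hom (chartI I hI E₀))).1 ⟨f, rfl⟩
        T' c b' (by rw [hfg]; exact sqT.w.symm)
    rw [le_ker_iff_comap_le] at h1 ⊢
    have h2 := chartI_comap_eq I hI E₀ E b' (c ≫ g₀)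
      (by rw [Functor.map_comp, Category.assoc]; exact sqT.w)
    rw [h2] at h1
    have hl : (c ≫ g₀).left = c.left ≫ g₀.left := rfl
    rw [hl, Scheme.IdealSheafData.comap_comp] at h1
    exact le_bot_of_comap_le_bot c.left _ h1
  have hle : (chartI I hI E).subschemeι.ker ≤ g₀.left.ker := by
    rwa [Scheme.IdealSheafData.ker_subschemeι]
  let l : T.left ⟶ (subOver (chartI I hI E)).left :=
    IsClosedImmersion.lift (chartI I hI E).subschemeι g₀.left hle
  have hl : l ≫ (chartI I hI E).subschemeι = g₀.left := IsClosedImmersion.lift_fac _ _ _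
  let lo : T ⟶ subOver (chartI I hI E) := Over.homMk l (by
    change l ≫ (chartI I hI E).subschemeι ≫ E.obj.left.hom = T.hom
    rw [← Category.assoc, hl, Over.w g₀])
  have hlo : lo ≫ subι (chartI I hI E) = g₀ := by
    ext
    exact hl
  haveI : Mono (subι (chartI I hI E)) := by
    haveI : Mono (subι (chartI I hI E)).left :=
      inferInstanceAs (Mono (chartI I hI E).subschemeι)
    exact Over.mono_of_mono_left _
  refine ⟨(AlgSp.yon S).map lo, ⟨?_, ?_⟩, ?_⟩
  · rw [← cancel_mono (incl E₀.obj.hom (chartI I hI E₀)), Category.assoc, hfst,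
      ← Functor.map_comp_assoc, hlo, hfg]
  · rw [← Functor.map_comp, hlo]
  · rintro m ⟨-, hm2⟩
    obtain ⟨m', rfl⟩ := (AlgSp.yon S).map_surjective m
    rw [← Functor.map_comp] at hm2
    have := (AlgSp.yon S).map_injective hm2
    congr 1
    rw [← cancel_mono (subι (chartI I hI E)), this, hlo]

lemma idealOn_top (hI : I.IsQCoh) (E : AlgSp.EtOver X) (hE : IsAffine E.obj.left.left) :
    idealOn I E ⊤ (isAffineOpen_top _) = I.ideal E hE := by
  unfold idealOn
  have h1 : I.ideal (openSub E ⊤) (isAffineOpen_top _) =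
      (I.ideal E hE).map (openSubι E ⊤).hom.left.left.appTop.hom :=
    le_antisymm (hI (openSubι E ⊤) hE (isAffineOpen_top _))
      (I.map_le (openSubι E ⊤) hE (isAffineOpen_top _))
  rw [h1, openSubι_left]
  have h2 : (topMap (⊤ : E.obj.left.left.Opens)).hom =
      (Scheme.Opens.ι (⊤ : E.obj.left.left.Opens)).appTop.hom := by
    unfold topMap
    rw [Scheme.Hom.appTop, Scheme.Hom.app_eq_appLE]
    rfl
  rw [← h2]
  exact Ideal.comap_map_of_bijective _ (topMap_bijective ⊤)

open Groth.Agent.R2.H48.ClosedSub Groth.Agent.R2.H48.IdealEt in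
/-- every quasi-coherent family of ideals on the affine etale charts of an algebraic space is the
ideal of a closed subspace. -/
theorem exists_isCutOutBy (X : AlgSp.Space S) (I : AlgSp.IdealEt X.obj) (hI : I.IsQCoh) :
    ∃ (Z : AlgSp.Space S) (i : Z ⟶ X), AlgSp.IsCutOutBy I i.hom := by
  obtain ⟨U, p, hpe, hps⟩ := X.property.atlas
  let E₀ : AlgSp.EtOver X.obj := AlgSp.EtOver.mk p hpe
  have hinv : Invariant p (chartI I hI E₀) := invariant_chartI I hI E₀
  have hi : AlgSp.RepWith @IsClosedImmersion (incl p (chartI I hI E₀)) :=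
    repWith_incl hinv hpe hps
  refine ⟨⟨obj p (chartI I hI E₀), isAlgSpace_obj X.property hinv hpe hps⟩,
    ObjectProperty.homMk (incl p (chartI I hI E₀)), hi, ?_⟩
  apply AlgSp.IdealEt.ext
  funext E hE
  obtain ⟨fst, sq⟩ := isPullback_chartI I hI E₀ hps E
  rw [idealOfRep_ideal_eq hi.1 E hE (chartI I hI E) fst sq]
  exact idealOn_top I hI E hE

end Groth.Agent.R2.H43.IdealCut
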