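import Mathlib
import Groth.Prelude.Def_AlgSp
import Groth.Agent.S13210
import Groth.Agent.Lib.Helper12ZarGlue

/-!
# Restriction of fppf sheaves along `Over.map g` and algebraic spaces (helper43)

Namespace `Groth.Agent.R2.H43.OverBC`.  For `g : S ⟶ S'`, `Φ g = Scheme.fppfTopology.overMapPullback _ g`
is the restriction functor `j⁻¹` from fppf sheaves over `S'` to fppf sheaves over `S`.

* `repBy`: `j⁻¹ h_{X'}` is represented by `X' ×_{S'} S`.
* `adj`: the bijection `Hom(h_T, j⁻¹ F') ≃ Hom(h_{jT}, F')` with its naturality lemmas.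
* `isPullback_Φ`: a represented base change of `f'` along `adj c` gives a represented base change of `j⁻¹ f'` along `c`.
* `representable_Φ`, `repWith_Φ`: `j⁻¹` preserves representable morphisms (with property `P`).
* `isAlgSpace_Φ`: `j⁻¹` preserves algebraic spaces.
-/

set_option autoImplicit false
universe u
open CategoryTheory CategoryTheory.Limits AlgebraicGeometry Opposite
open AlgSp

namespace Groth.Agent.R2.H43.OverBC

open Groth.Agent.S13210 Groth.Agent.Lib.Helper12.ZarGlue

variable {S S' : Scheme.{u}} (g : S ⟶ S')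

/-- the restriction functor `j⁻¹`. -/
noncomputable abbrev Φ : AlgSp.Sp S' ⥤ AlgSp.Sp S :=
  Scheme.fppfTopology.overMapPullback (Type (u + 1)) g

/-- `j⁻¹ h_{X'}` is represented by `X' ×_{S'} S`. -/
noncomputable def repBy (X' : Over S') :
    ((Φ g).obj ((AlgSp.yon S').obj X')).obj.RepresentableBy (Over.mk (pullback.snd X'.hom g)) where
  homEquiv {T} := (((Over.mapPullbackAdj g).homEquiv T X').symm).trans Equiv.ulift.symm
  homEquiv_comp {T T'} t f := by
    apply ULift.ext
    exact (Over.mapPullbackAdj g).homEquiv_naturality_left_symm t f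

variable {g}

/-- the bijection `Hom(h_T, j⁻¹ F') ≃ Hom(h_{jT}, F')`. -/
noncomputable def adj (T : Over S) (F' : AlgSp.Sp S') :
    ((AlgSp.yon S).obj T ⟶ (Φ g).obj F') ≃ ((AlgSp.yon S').obj ((Over.map g).obj T) ⟶ F') :=
  (yEquiv T ((Φ g).obj F')).trans (yEquiv ((Over.map g).obj T) F').symm

lemma adj_comp {T : Over S} {F' G' : AlgSp.Sp S'} (a : (AlgSp.yon S).obj T ⟶ (Φ g).obj F')
    (m : F' ⟶ G') : adj T G' (a ≫ (Φ g).map m) = adj T F' a ≫ m := by
  have h1 := yEquiv_comp a ((Φ g).map m)
  have h2 := yEquiv_symm_comp m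
    (yEquiv T ((Φ g).obj F') a : F'.obj.obj (op ((Over.map g).obj T)))
  exact (congrArg (yEquiv ((Over.map g).obj T) G').symm h1).trans h2.symm

lemma adj_map {T T' : Over S} (t : T' ⟶ T) {F' : AlgSp.Sp S'}
    (a : (AlgSp.yon S).obj T ⟶ (Φ g).obj F') :
    adj T' F' ((AlgSp.yon S).map t ≫ a) = (AlgSp.yon S').map ((Over.map g).map t) ≫ adj T F' a := by
  have h1 := map_yEquiv t a
  have h2 := map_yEquiv ((Over.map g).map t) (adj T F' a)
  apply (yEquiv _ F').injective
  refine Eq.trans ?_ h2
  have h3 : yEquiv ((Over.map g).obj T) F' (adj T F' a) = yEquiv T ((Φ g).obj F') a :=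
    Equiv.apply_symm_apply _ _
  have h4 : yEquiv ((Over.map g).obj T') F' (adj T' F' ((AlgSp.yon S).map t ≫ a)) =
      yEquiv T' ((Φ g).obj F') ((AlgSp.yon S).map t ≫ a) := Equiv.apply_symm_apply _ _
  rw [h4, h3]
  exact h1.symm

section Lift

variable (g) in
/-- a scheme over `jU` viewed as a scheme over `S`. -/
abbrev liftOver {U : Over S} {V' : Over S'} (snd' : V' ⟶ (Over.map g).obj U) : Over S :=
  Over.mk (snd'.left ≫ U.hom)

/-- its structure map to `U`. -/
abbrev liftSnd {U : Over S} {V' : Over S'} (snd' : V' ⟶ (Over.map g).obj U) :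
    liftOver g snd' ⟶ U := Over.homMk snd'.left rfl

/-- viewed back over `S'` it is the original scheme. -/
def liftIso {U : Over S} {V' : Over S'} (snd' : V' ⟶ (Over.map g).obj U) :
    (Over.map g).obj (liftOver g snd') ≅ V' :=
  Over.isoMk (Iso.refl _) (by
    have := Over.w snd'
    simp only [Over.map_obj_hom, Over.mk_hom, Over.mk_left, Iso.refl_hom, Category.id_comp,
      Category.assoc] at this ⊢
    exact this.symm)

lemma liftIso_hom_comp {U : Over S} {V' : Over S'} (snd' : V' ⟶ (Over.map g).obj U) :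
    (liftIso snd').hom ≫ snd' = (Over.map g).map (liftSnd snd') := by
  apply Over.OverMorphism.ext
  simp [liftIso]

/-- a represented base change of `f'` along `adj c` gives a represented base change of `j⁻¹ f'` along `c`. -/
theorem isPullback_Φ {F' G' : AlgSp.Sp S'} (f' : F' ⟶ G') {U : Over S}
    (c : (AlgSp.yon S).obj U ⟶ (Φ g).obj G') {V' : Over S'} (snd' : V' ⟶ (Over.map g).obj U)
    (fst' : (AlgSp.yon S').obj V' ⟶ F')
    (sq' : IsPullback fst' ((AlgSp.yon S').map snd') f' (adj U G' c)) :
    IsPullback ((adj (liftOver g snd') F').symm ((AlgSp.yon S').map (liftIso snd').hom ≫ fst'))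
      ((AlgSp.yon S).map (liftSnd snd')) ((Φ g).map f') c := by
  set fst := (adj (liftOver g snd') F').symm ((AlgSp.yon S').map (liftIso snd').hom ≫ fst') with hfst
  have hadjfst : adj _ F' fst = (AlgSp.yon S').map (liftIso snd').hom ≫ fst' :=
    Equiv.apply_symm_apply _ _
  have w : fst ≫ (Φ g).map f' = (AlgSp.yon S).map (liftSnd snd') ≫ c := by
    apply (adj _ G').injective
    rw [adj_comp, adj_map, hadjfst, Category.assoc, sq'.w, ← Category.assoc, ← Functor.map_comp,
      liftIso_hom_comp]
  refine isPullback_of_yon w ?_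
  intro T b y' hby
  obtain ⟨y, rfl⟩ := (AlgSp.yon S).map_surjective y'
  have h1 : adj T F' b ≫ f' = (AlgSp.yon S').map ((Over.map g).map y) ≫ adj U G' c := by
    rw [← adj_comp, hby, adj_map]
  obtain ⟨z', hz'⟩ := (AlgSp.yon S').map_surjective (sq'.lift _ _ h1)
  have hz1 : (AlgSp.yon S').map z' ≫ fst' = adj T F' b := by rw [hz', sq'.lift_fst]
  have hz2 : z' ≫ snd' = (Over.map g).map y := by
    apply (AlgSp.yon S').map_injective
    rw [Functor.map_comp, hz', sq'.lift_snd]
  have hz2l : z'.left ≫ snd'.left = y.left := by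
    have := congrArg CommaMorphism.left hz2
    simpa using this
  let z : T ⟶ liftOver g snd' := Over.homMk z'.left (by
    simp only [Over.mk_hom]
    rw [← Category.assoc, hz2l, Over.w])
  have hz : (Over.map g).map z ≫ (liftIso snd').hom = z' := by
    apply Over.OverMorphism.ext
    simp [liftIso, z]
  refine ⟨(AlgSp.yon S).map z, ⟨?_, ?_⟩, ?_⟩
  · apply (adj _ F').injective
    rw [adj_map, hadjfst, ← Category.assoc, ← Functor.map_comp, hz, hz1]
  · rw [← Functor.map_comp]
    congr 1
    apply Over.OverMorphism.ext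
    simpa [z] using hz2l
  · rintro a ⟨ha1, ha2⟩
    obtain ⟨z₁, rfl⟩ := (AlgSp.yon S).map_surjective a
    congr 1
    have hz₁ : (Over.map g).map z₁ ≫ (liftIso snd').hom = z' := by
      apply (AlgSp.yon S').map_injective
      apply sq'.hom_ext
      · rw [hz1, Functor.map_comp, Category.assoc, ← hadjfst, ← adj_map, ha1]
      · rw [← Functor.map_comp, ← Functor.map_comp, Category.assoc, liftIso_hom_comp,
          ← Functor.map_comp, hz2]
        congr 2
        apply (AlgSp.yon S).map_injective
        rw [Functor.map_comp, ha2]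
    apply Over.OverMorphism.ext
    have := congrArg CommaMorphism.left hz₁
    simpa [liftIso, z] using this

end Lift

/-- `j⁻¹` preserves representable morphisms. -/
theorem representable_Φ {F' G' : AlgSp.Sp S'} (f' : F' ⟶ G') (hf' : AlgSp.Representable f') :
    AlgSp.Representable ((Φ g).map f') := by
  intro U c
  obtain ⟨V', snd', fst', sq'⟩ := hf' (adj U G' c)
  exact ⟨liftOver g snd', liftSnd snd', _, isPullback_Φ f' c snd' fst' sq'⟩

/-- `j⁻¹` preserves representable morphisms with a property stable under base change. -/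
theorem repWith_Φ (P : MorphismProperty Scheme.{u}) [P.IsStableUnderBaseChange]
    {F' G' : AlgSp.Sp S'} (f' : F' ⟶ G') (hf' : AlgSp.RepWith P f') :
    AlgSp.RepWith P ((Φ g).map f') := by
  refine MorphismProperty.relative.of_exists (fun U c => ?_)
  obtain ⟨V', snd', fst', sq'⟩ := hf'.1 (adj U G' c)
  exact ⟨liftOver g snd', _, liftSnd snd', isPullback_Φ f' c snd' fst' sq', hf'.2 _ _ _ sq'⟩

instance : PreservesLimits (Φ g) :=
  (Functor.sheafAdjunctionContinuous (Over.map g) (Type (u + 1)) (AlgSp.J S) (AlgSp.J S')).rightAdjoint_preservesLimits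

/-- `j⁻¹` preserves algebraic spaces. -/
theorem isAlgSpace_Φ {F' : AlgSp.Sp S'} (hF' : AlgSp.IsAlgSpace F') :
    AlgSp.IsAlgSpace ((Φ g).obj F') where
  diag := by
    have h : Limits.diag ((Φ g).obj F') =
        (Φ g).map (Limits.diag F') ≫ prodComparison (Φ g) F' F' := by
      apply Limits.prod.hom_ext
      · rw [Category.assoc, prodComparison_fst, ← Functor.map_comp]
        simp only [Limits.diag, prod.lift_fst]
        exact ((Φ g).map_id F').symm
      · rw [Category.assoc, prodComparison_snd, ← Functor.map_comp]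
        simp only [Limits.diag, prod.lift_snd]
        exact ((Φ g).map_id F').symm
    rw [h]
    exact MorphismProperty.RespectsIso.postcomp _ _ _ (representable_Φ _ hF'.diag)
  atlas := by
    obtain ⟨U', p', hpe, hps⟩ := hF'.atlas
    let ε := AlgSp.isoOfRepresentableBy (repBy g U')
    exact ⟨_, ε.hom ≫ (Φ g).map p',
      MorphismProperty.RespectsIso.precomp _ _ _ (repWith_Φ _ p' hpe),
      MorphismProperty.RespectsIso.precomp _ _ _ (repWith_Φ _ p' hps)⟩

end Groth.Agent.R2.H43.OverBC
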