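import Mathlib
import Groth.Agent.R2.H43CompVal
import Groth.Agent.R2.H43ValSpec
import Groth.Agent.S10288
import Groth.Agent.S9909
import Groth.Agent.S9913
import Groth.Agent.S9874
import Groth.Agent.S10175
import Groth.Agent.S10176
import Groth.Agent.S10177
import Groth.Agent.S10180
import Groth.Agent.S10053
import Groth.Agent.S9947
import Groth.Agent.S9962
import Groth.Agent.R2.H55AffSp
import Groth.Agent.Lib.Helper12Proper

/-!
# helper43: the refined valuative criterion (core)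

Namespace `Groth.Agent.R2.H43.Refined`.

* `Hyp f h`: valuative squares of `f` whose top arrow factors through `h : U ⟶ X` have at most one
  lift, and a lift after a dominating extension.
* `hyp_baseChange`, `denseRange_baseChange`: stability under base change.
* `isClosedMap_of_refined`: over an affine base, `f` and `h` quasi-compact, `|U|` dense in `|X|`
  and `Hyp f h` imply that `f` is closed on points.
-/

set_option autoImplicit false
set_option backward.isDefEq.respectTransparency false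
set_option linter.style.haveILetI false
universe u

open CategoryTheory CategoryTheory.Limits AlgebraicGeometry

namespace Groth.Agent.R2.H43.Refined

variable {S : Scheme.{u}}

/-- the refined valuative hypothesis: squares whose top arrow factors through `h` have at most one
lift and a lift after a dominating extension. -/
def Hyp {U X Y : AlgSp.Sp S} (f : X ⟶ Y) (h : U ⟶ X) : Prop :=
  ∀ sq : AlgSp.ValSq f, (∃ t : (AlgSp.yon S).obj sq.ptK ⟶ U, t ≫ h = sq.top) →
    sq.HasUniq ∧ sq.HasLiftExt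

/-- the refined hypothesis is stable under base change. -/
lemma hyp_baseChange {U X Y Z P UP : AlgSp.Sp S} {f : X ⟶ Y} {h : U ⟶ X} {g : Z ⟶ Y}
    {fst : P ⟶ X} {snd : P ⟶ Z} (hpb : IsPullback fst snd f g) {hU : UP ⟶ U} {h' : UP ⟶ P}
    (hw : h' ≫ fst = hU ≫ h) (hv : Hyp f h) : Hyp snd h' := by
  rintro sq ⟨t, ht⟩
  let sq₀ : AlgSp.ValSq f :=
    { A := sq.A, K := sq.K, str := sq.str, top := sq.top ≫ fst, bot := sq.bot ≫ g,
      comm := by rw [Category.assoc, hpb.w, ← Category.assoc, sq.comm, Category.assoc] }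
  obtain ⟨hu, e, l, hl1, hl2⟩ := hv sq₀ ⟨t ≫ hU, by
    change (t ≫ hU) ≫ h = sq.top ≫ fst
    rw [Category.assoc, ← hw, ← Category.assoc, ht]⟩
  constructor
  · intro l l' h1 h2 h1' h2'
    apply hpb.hom_ext
    · refine hu (l ≫ fst) (l' ≫ fst) ?_ ?_ ?_ ?_
      · rw [← Category.assoc]
        exact congrArg (· ≫ fst) h1
      · rw [Category.assoc, hpb.w, ← Category.assoc]
        exact congrArg (· ≫ g) h2
      · rw [← Category.assoc]
        exact congrArg (· ≫ fst) h1'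
      · rw [Category.assoc, hpb.w, ← Category.assoc]
        exact congrArg (· ≫ g) h2'
    · rw [h2, h2']
  · let e' : sq.DomExt :=
      { A' := e.A', K' := e.K', φ := e.φ, ψ := e.ψ, comm := e.comm, isLocalHom := e.isLocalHom }
    refine ⟨e', ?_⟩
    have hw' : l ≫ f = ((AlgSp.yon S).map (Over.homMk (Spec.map (CommRingCat.ofHom e'.φ)) rfl :
        e'.ptA' ⟶ sq.ptA) ≫ sq.bot) ≫ g := by
      rw [Category.assoc]
      exact hl2
    refine ⟨hpb.lift l _ hw', ?_, ?_⟩
    · apply hpb.hom_ext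
      · rw [Category.assoc, hpb.lift_fst, Category.assoc]
        exact hl1
      · rw [Category.assoc, hpb.lift_snd, Category.assoc, sq.comm]
        rw [← Category.assoc, ← Category.assoc, ← Functor.map_comp, ← Functor.map_comp]
        congr 2
        ext1
        simp only [Over.comp_left, Over.homMk_left]
        rw [← Spec.map_comp, ← Spec.map_comp, ← CommRingCat.ofHom_comp, ← CommRingCat.ofHom_comp,
          e.comm]
    · exact hpb.lift_snd _ _ _

/-- density of the image on points is stable under base change along a morphism which is open on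
points. -/
lemma denseRange_baseChange {U X P UP : AlgSp.Sp S} {h : U ⟶ X} {fst : P ⟶ X} {hU : UP ⟶ U}
    {h' : UP ⟶ P} (hpb : IsPullback hU h' h fst) (hop : IsOpenMap (AlgSp.Points.map fst))
    (hd : DenseRange (AlgSp.Points.map h)) : DenseRange (AlgSp.Points.map h') := by
  have h1 := Groth.Agent.S9909.preimage_map_image hpb Set.univ
  rw [Set.image_univ, Set.preimage_univ, Set.image_univ] at h1
  change Dense (Set.range _)
  rw [← h1]
  exact hd.preimage hop

/-- the structure morphisms of a dominating extension are compatible. -/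
lemma domExt_w {F G : AlgSp.Sp S} {f : F ⟶ G} (sq : AlgSp.ValSq f) (e : sq.DomExt) :
    Spec.map (CommRingCat.ofHom e.ψ) ≫ sq.ptK.hom = e.ptK'.hom := by
  change Spec.map _ ≫ Spec.map _ ≫ _ = Spec.map _ ≫ Spec.map _ ≫ _
  rw [← Spec.map_comp_assoc, ← Spec.map_comp_assoc, ← CommRingCat.ofHom_comp,
    ← CommRingCat.ofHom_comp, e.comm]

open IsLocalRing in
/-- **the core of the refined valuative criterion**: over an affine base, if `f` and `h : U ⟶ X` are
quasi-compact, `|U|` is dense in `|X|` and the refined valuative hypothesis holds, then `f` is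
closed on points. -/
theorem isClosedMap_of_refined {R₀ : CommRingCat.{u}} (sR : Spec R₀ ⟶ S) {U X : AlgSp.Space S}
    (f : X.obj ⟶ (AlgSp.yon S).obj (Over.mk sR)) (h : U ⟶ X)
    (hf : AlgSp.IsQuasiCompactMor f) (hh : AlgSp.IsQuasiCompactMor h.hom)
    (hd : DenseRange (AlgSp.Points.map h.hom)) (hv : Hyp f h.hom) :
    IsClosedMap (AlgSp.Points.map f) := by
  let T : Over S := Over.mk sR
  haveI : CompactSpace ↥T.left := (inferInstance : CompactSpace (Spec R₀))
  haveI : IsAffine T.left := (inferInstance : IsAffine (Spec R₀))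
  have hXqc : AlgSp.IsQuasiCompactSp X.obj :=
    hf (AlgSp.IsAlgSpace.yon_obj T) (Groth.Agent.S9913.isQuasiCompactSp_yon_of_compact T) (𝟙 _)
      (𝟙 _) f (IsPullback.id_horiz f)
  obtain ⟨W, a₀, hWaff, ha₀e, ha₀s⟩ := Groth.Agent.S10180.exists_affine_chart hXqc
  haveI : IsAffine W.left := hWaff
  obtain ⟨f₀, hf₀⟩ := (AlgSp.yon S).map_surjective (a₀ ≫ f)
  -- the fibre product `Q = U ×_X W` and an affine chart of it
  have sqQ := IsPullback.of_hasPullback h.hom a₀
  set Q := pullback h.hom a₀ with hQ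
  set qU : Q ⟶ U.obj := pullback.fst _ _ with hqU
  set qW : Q ⟶ (AlgSp.yon S).obj W := pullback.snd _ _ with hqW
  have hQqc : AlgSp.IsQuasiCompactSp Q :=
    hh (AlgSp.IsAlgSpace.yon_obj W) (Groth.Agent.S9913.isQuasiCompactSp_yon_of_compact W) a₀ qU qW
      sqQ
  obtain ⟨Q₀, c₀, hQ₀aff, hc₀e, hc₀s⟩ := Groth.Agent.S10180.exists_affine_chart hQqc
  haveI : IsAffine Q₀.left := hQ₀aff
  obtain ⟨ε, hε⟩ := (AlgSp.yon S).map_surjective (c₀ ≫ qW)
  -- the image of `ε` is dense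
  have hεpt : ∀ q : Q₀.left, AlgSp.Points.map qW (AlgSp.Points.ofPt c₀ q) =
      AlgSp.Points.schemeHomeo W (ε.left q) := by
    intro q
    rw [AlgSp.Points.map_ofPt, ← hε, Groth.Agent.S10288.ofPt_yon_map]
  have hrange : Set.range ε.left =
      AlgSp.Points.ofPt a₀ ⁻¹' Set.range (AlgSp.Points.map h.hom) := by
    ext w'
    constructor
    · rintro ⟨q, rfl⟩
      refine ⟨AlgSp.Points.map qU (AlgSp.Points.ofPt c₀ q), ?_⟩
      rw [← AlgSp.Points.map_comp, sqQ.w, AlgSp.Points.map_comp, hεpt,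
        AlgSp.Points.ofPt_eq_map_ofScheme a₀]
      rfl
    · rintro ⟨u, hu⟩
      have hu' : AlgSp.Points.map h.hom u = AlgSp.Points.map a₀ (AlgSp.Points.schemeHomeo W w') := by
        rw [hu, AlgSp.Points.ofPt_eq_map_ofScheme a₀]
        rfl
      obtain ⟨p, -, hp2⟩ := Groth.Agent.S10175.exists_point_of_isPullback sqQ u _ hu'
      obtain ⟨q, rfl⟩ := Groth.Agent.S10177.surjective_ofPt c₀ hc₀s p
      rw [hεpt] at hp2
      exact ⟨q, (AlgSp.Points.schemeHomeo W).injective hp2⟩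
  have hdense : Dense (Set.range ε.left) := by
    rw [hrange]
    exact hd.preimage (Groth.Agent.S10176.isOpenMap_ofPt a₀ ha₀e)
  haveI : QuasiCompact ε.left :=
    (HasAffineProperty.iff_of_isAffine (P := @QuasiCompact)).2 inferInstance
  -- reduction to stability under specialization
  have hmapf : ∀ w : W.left, AlgSp.Points.map f (AlgSp.Points.ofPt a₀ w) =
      AlgSp.Points.schemeHomeo T (f₀.left w) := by
    intro w
    rw [AlgSp.Points.map_ofPt, ← hf₀, Groth.Agent.S10288.ofPt_yon_map]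
  intro Cl hCl
  have hE : IsClosed (AlgSp.Points.ofPt a₀ ⁻¹' Cl) := hCl.preimage (AlgSp.Points.continuous_ofPt a₀)
  have himg : AlgSp.Points.map f '' Cl =
      AlgSp.Points.schemeHomeo T '' (f₀.left '' (AlgSp.Points.ofPt a₀ ⁻¹' Cl)) := by
    ext y
    constructor
    · rintro ⟨x, hx, rfl⟩
      obtain ⟨w, rfl⟩ := Groth.Agent.S10177.surjective_ofPt a₀ ha₀s x
      exact ⟨f₀.left w, ⟨w, hx, rfl⟩, (hmapf w).symm⟩
    · rintro ⟨z, ⟨w, hw, rfl⟩, rfl⟩
      exact ⟨AlgSp.Points.ofPt a₀ w, hw, hmapf w⟩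
  rw [himg, (AlgSp.Points.schemeHomeo T).isClosed_image]
  refine Groth.Agent.S10288.isClosed_image_of_affine f₀.left _ hE ?_
  rintro y₁ y hspec ⟨w, hw, rfl⟩
  -- a point of `Q₀` whose image specializes to `w`, and a valuation ring realising this
  obtain ⟨q₀, hq₀⟩ := ValSpec.exists_specializes_of_mem_closure_range ε.left w
    (by rw [hdense.closure_eq]; trivial)
  obtain ⟨B₁, i₂, hi₂cl, hi₂⟩ := ValSpec.exists_valuationSubring_of_specializes ε.left q₀ w hq₀
  let r₁ : R₀ ⟶ CommRingCat.of B₁ := Spec.preimage (i₂ ≫ f₀.left)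
  have hr₁ : Spec.map r₁ = i₂ ≫ f₀.left := Spec.map_preimage _
  let ρ₁ : B₁ →+* ResidueField B₁ := residue B₁
  have hker : RingHom.ker (ρ₁.comp r₁.hom) ≤ (y : PrimeSpectrum R₀).asIdeal := by
    intro x hx
    have h1 : x ∈ (f₀.left w : PrimeSpectrum R₀).asIdeal := by
      rw [← hi₂cl, ← Scheme.Hom.comp_apply, ← hr₁]
      change x ∈ Ideal.comap r₁.hom (maximalIdeal B₁)
      rw [Ideal.mem_comap, ← residue_eq_zero_iff]
      exact hx
    exact (PrimeSpectrum.le_iff_specializes (f₀.left w : PrimeSpectrum R₀) y).2 hspec h1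
  obtain ⟨A₁, hr, hcomap⟩ :=
    CompVal.exists_valuationSubring_lift B₁ ρ₁ r₁.hom (y : PrimeSpectrum R₀).asIdeal hker
  let L := Q₀.left.residueField q₀
  let C : ValuationSubring L := CompVal.comp B₁ ρ₁ A₁
  let rC : R₀ →+* C := CompVal.lift B₁ ρ₁ A₁ r₁.hom hr
  have hrCcl : Spec.map (CommRingCat.ofHom rC) (closedPoint C) = y := PrimeSpectrum.ext hcomap
  -- the valuative square over the composite valuation ring
  let str : Spec (CommRingCat.of C) ⟶ S := Spec.map (CommRingCat.ofHom rC) ≫ sR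
  have hspecC : Spec.map (CommRingCat.ofHom (algebraMap C L)) ≫ Spec.map (CommRingCat.ofHom rC) =
      Spec.map (CommRingCat.ofHom (algebraMap B₁ L)) ≫ Spec.map r₁ := by
    rw [← Spec.map_comp, ← Spec.map_comp]
    rfl
  have hκ₀ : Q₀.left.fromSpecResidueField q₀ ≫ Q₀.hom =
      Spec.map (CommRingCat.ofHom (algebraMap C L)) ≫ str := by
    have e1 : Q₀.hom = ε.left ≫ f₀.left ≫ sR := by
      rw [← Over.w ε, ← Over.w f₀]
      rfl
    rw [e1, ← Category.assoc, hi₂, Category.assoc, ← Category.assoc i₂, ← hr₁, ← Category.assoc,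
      ← hspecC, Category.assoc]
  let ptK : Over S := Over.mk (Spec.map (CommRingCat.ofHom (algebraMap C L)) ≫ str)
  let κ₀ : ptK ⟶ Q₀ := Over.homMk (Q₀.left.fromSpecResidueField q₀) hκ₀
  let botm : Over.mk str ⟶ T := Over.homMk (Spec.map (CommRingCat.ofHom rC)) rfl
  let t₀ : (AlgSp.yon S).obj ptK ⟶ U.obj := (AlgSp.yon S).map κ₀ ≫ c₀ ≫ qU
  have ht₀ : t₀ ≫ h.hom = (AlgSp.yon S).map (κ₀ ≫ ε) ≫ a₀ := by
    simp only [t₀, Category.assoc, Functor.map_comp]
    rw [sqQ.w, ← Category.assoc c₀, ← hε]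
  have hcomm : (t₀ ≫ h.hom) ≫ f =
      (AlgSp.yon S).map (Over.homMk (Spec.map (CommRingCat.ofHom (algebraMap C L))) rfl :
        ptK ⟶ Over.mk str) ≫ (AlgSp.yon S).map botm := by
    rw [ht₀, Category.assoc, ← hf₀, ← Functor.map_comp, ← Functor.map_comp]
    congr 1
    apply Over.OverMorphism.ext
    change (Q₀.left.fromSpecResidueField q₀ ≫ ε.left) ≫ f₀.left =
      Spec.map (CommRingCat.ofHom (algebraMap C L)) ≫ Spec.map (CommRingCat.ofHom rC)
    rw [hi₂, Category.assoc, ← hr₁, hspecC]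
  let sq : AlgSp.ValSq f :=
    { A := C, K := L, str := str, top := t₀ ≫ h.hom, bot := (AlgSp.yon S).map botm,
      comm := hcomm }
  obtain ⟨-, e, l, hl1, hl2⟩ := hv sq ⟨t₀, rfl⟩
  haveI : IsLocalHom e.φ := e.isLocalHom
  -- the localisation of `e.A'` dominating `B₁`
  let B' : ValuationSubring e.K' := CompVal.loc B₁ ρ₁ A₁ e.φ e.ψ e.comm
  let toLoc : B₁ →+* B' := CompVal.toLoc B₁ ρ₁ A₁ e.φ e.ψ e.comm
  haveI : IsLocalHom toLoc := CompVal.isLocalHom_toLoc B₁ ρ₁ A₁ e.φ e.ψ e.comm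
  let ofC' : e.A' →+* B' := CompVal.ofC' B₁ ρ₁ A₁ e.φ e.ψ e.comm
  have hofC : ofC'.comp e.φ = toLoc.comp (CompVal.incl B₁ ρ₁ A₁) :=
    CompVal.ofC'_comp_phi B₁ ρ₁ A₁ e.φ e.ψ e.comm
  have hring : Spec.map (CommRingCat.ofHom ofC') ≫ Spec.map (CommRingCat.ofHom e.φ) ≫
      Spec.map (CommRingCat.ofHom rC) = Spec.map (CommRingCat.ofHom toLoc) ≫ Spec.map r₁ := by
    rw [← Spec.map_comp, ← Spec.map_comp, ← Spec.map_comp]
    congr 1
    ext x
    exact congrArg Subtype.val (congrArg (fun g => g (rC x)) hofC)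
  let str₂ : Spec (CommRingCat.of B') ⟶ S := Spec.map (CommRingCat.ofHom ofC') ≫ e.ptA'.hom
  let mC' : Over.mk str₂ ⟶ e.ptA' := Over.homMk (Spec.map (CommRingCat.ofHom ofC')) rfl
  have hm₂ : (Spec.map (CommRingCat.ofHom toLoc) ≫ i₂) ≫ W.hom = str₂ := by
    change _ = Spec.map (CommRingCat.ofHom ofC') ≫ Spec.map (CommRingCat.ofHom e.φ) ≫
      Spec.map (CommRingCat.ofHom rC) ≫ sR
    rw [← Over.w f₀, Category.assoc, ← Category.assoc i₂, ← hr₁, ← Category.assoc,
      ← hring]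
    simp only [Category.assoc]
    rfl
  let m₂ : Over.mk str₂ ⟶ W := Over.homMk (Spec.map (CommRingCat.ofHom toLoc) ≫ i₂) hm₂
  let l₁ : (AlgSp.yon S).obj (Over.mk str₂) ⟶ X.obj := (AlgSp.yon S).map mC' ≫ l
  let l₂ : (AlgSp.yon S).obj (Over.mk str₂) ⟶ X.obj := (AlgSp.yon S).map m₂ ≫ a₀
  let ptK₂ : Over S := Over.mk (Spec.map (CommRingCat.ofHom (algebraMap B' e.K')) ≫ str₂)
  have hBC : Spec.map (CommRingCat.ofHom (algebraMap B' e.K')) ≫ Spec.map (CommRingCat.ofHom ofC') =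
      Spec.map (CommRingCat.ofHom (algebraMap e.A' e.K')) := by
    rw [← Spec.map_comp]
    rfl
  have hι : 𝟙 _ ≫ e.ptK'.hom = ptK₂.hom := by
    rw [Category.id_comp]
    change Spec.map _ ≫ Spec.map _ ≫ sq.str = Spec.map _ ≫ Spec.map _ ≫ Spec.map _ ≫ sq.str
    rw [← Category.assoc (Spec.map (CommRingCat.ofHom (algebraMap B' e.K'))), hBC]
  let ι : ptK₂ ⟶ e.ptK' := Over.homMk (𝟙 _) hι
  have hΨw : Spec.map (CommRingCat.ofHom e.ψ) ≫ sq.ptK.hom = e.ptK'.hom := domExt_w sq e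
  let Ψ : e.ptK' ⟶ sq.ptK := Over.homMk (Spec.map (CommRingCat.ofHom e.ψ)) hΨw
  let Ψ₂ : ptK₂ ⟶ sq.ptK := ι ≫ Ψ
  let j₂ : ptK₂ ⟶ Over.mk str₂ :=
    Over.homMk (Spec.map (CommRingCat.ofHom (algebraMap B' e.K'))) rfl
  let kk : e.ptK' ⟶ e.ptA' := Over.homMk (Spec.map (CommRingCat.ofHom (algebraMap e.A' e.K'))) rfl
  let φ' : e.ptA' ⟶ sq.ptA := Over.homMk (Spec.map (CommRingCat.ofHom e.φ)) rfl
  have hl1' : (AlgSp.yon S).map kk ≫ l = (AlgSp.yon S).map Ψ ≫ t₀ ≫ h.hom := hl1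
  have hl2' : l ≫ f = (AlgSp.yon S).map (φ' ≫ botm) := by
    rw [Functor.map_comp]
    exact hl2
  -- both `l₁` and `l₂` restrict to the same generic point
  have hl₁top : (AlgSp.yon S).map j₂ ≫ l₁ = ((AlgSp.yon S).map Ψ₂ ≫ t₀) ≫ h.hom := by
    have e1 : j₂ ≫ mC' = ι ≫ kk := by
      apply Over.OverMorphism.ext
      change Spec.map _ ≫ Spec.map _ = 𝟙 _ ≫ Spec.map _
      rw [Category.id_comp, hBC]
    change (AlgSp.yon S).map j₂ ≫ (AlgSp.yon S).map mC' ≫ l = _
    rw [← Category.assoc, ← Functor.map_comp, e1, Functor.map_comp, Category.assoc, hl1',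
      Functor.map_comp]
    simp only [Category.assoc]
  have hl₂top : (AlgSp.yon S).map j₂ ≫ l₂ = ((AlgSp.yon S).map Ψ₂ ≫ t₀) ≫ h.hom := by
    have e1 : j₂ ≫ m₂ = Ψ₂ ≫ κ₀ ≫ ε := by
      apply Over.OverMorphism.ext
      change Spec.map (CommRingCat.ofHom (algebraMap B' e.K')) ≫
          Spec.map (CommRingCat.ofHom toLoc) ≫ i₂ =
        (𝟙 _ ≫ Spec.map (CommRingCat.ofHom e.ψ)) ≫ Q₀.left.fromSpecResidueField q₀ ≫ ε.left
      rw [Category.id_comp, hi₂, ← Spec.map_comp_assoc, ← Spec.map_comp_assoc]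
      rfl
    change (AlgSp.yon S).map j₂ ≫ (AlgSp.yon S).map m₂ ≫ a₀ = _
    rw [← Category.assoc, ← Functor.map_comp, e1,
      Category.assoc ((AlgSp.yon S).map Ψ₂) t₀ h.hom, ht₀]
    simp only [Functor.map_comp, Category.assoc]
  have hl₁bot : l₁ ≫ f = l₂ ≫ f := by
    change ((AlgSp.yon S).map mC' ≫ l) ≫ f = ((AlgSp.yon S).map m₂ ≫ a₀) ≫ f
    rw [Category.assoc, hl2', Category.assoc, ← hf₀, ← Functor.map_comp, ← Functor.map_comp]
    congr 1
    apply Over.OverMorphism.ext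
    change Spec.map (CommRingCat.ofHom ofC') ≫ Spec.map (CommRingCat.ofHom e.φ) ≫
      Spec.map (CommRingCat.ofHom rC) = (Spec.map (CommRingCat.ofHom toLoc) ≫ i₂) ≫ f₀.left
    rw [hring, Category.assoc, hr₁]
  let sq₂ : AlgSp.ValSq f :=
    { A := B', K := e.K', str := str₂, top := ((AlgSp.yon S).map Ψ₂ ≫ t₀) ≫ h.hom,
      bot := l₂ ≫ f,
      comm := by rw [← hl₂top, Category.assoc] }
  have hl₁₂ : l₁ = l₂ :=
    (hv sq₂ ⟨(AlgSp.yon S).map Ψ₂ ≫ t₀, rfl⟩).1 l₁ l₂ hl₁top hl₁bot hl₂top rfl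
  -- conclusion
  have hcp : AlgSp.Points.ofPt l₁ (closedPoint B') = AlgSp.Points.ofPt a₀ w := by
    rw [hl₁₂]
    change AlgSp.Points.ofPt ((AlgSp.yon S).map m₂ ≫ a₀) _ = _
    rw [Groth.Agent.S10176.ofPt_map_comp]
    congr 1
    change (Spec.map (CommRingCat.ofHom toLoc) ≫ i₂) (closedPoint B') = w
    rw [Scheme.Hom.comp_apply]
    have h3 : Spec.map (CommRingCat.ofHom toLoc) (closedPoint B') = closedPoint B₁ :=
      comap_closedPoint toLoc
    rw [h3, hi₂cl]
  have hx₀ : AlgSp.Points.ofPt l (mC'.left (closedPoint B')) ∈ Cl := by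
    rw [← Groth.Agent.S10176.ofPt_map_comp mC' l]
    change AlgSp.Points.ofPt l₁ _ ∈ Cl
    rw [hcp]
    exact hw
  have hspec' : AlgSp.Points.ofPt l (mC'.left (closedPoint B')) ⤳
      AlgSp.Points.ofPt l (closedPoint e.A') :=
    (specializes_closedPoint (mC'.left (closedPoint B'))).map (AlgSp.Points.continuous_ofPt l)
  have hx₁ : AlgSp.Points.ofPt l (closedPoint e.A') ∈ Cl :=
    hCl.stableUnderSpecialization hspec' hx₀
  obtain ⟨w₁, hw₁⟩ := Groth.Agent.S10177.surjective_ofPt a₀ ha₀s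
    (AlgSp.Points.ofPt l (closedPoint e.A'))
  refine ⟨w₁, by rw [Set.mem_preimage, hw₁]; exact hx₁, ?_⟩
  apply (AlgSp.Points.schemeHomeo T).injective
  rw [← hmapf w₁, hw₁, AlgSp.Points.map_ofPt, hl2', Groth.Agent.S10288.ofPt_yon_map]
  congr 1
  change Spec.map (CommRingCat.ofHom rC) (Spec.map (CommRingCat.ofHom e.φ) (closedPoint e.A')) = y
  have h3 : Spec.map (CommRingCat.ofHom e.φ) (closedPoint e.A') = closedPoint C :=
    comap_closedPoint e.φ
  rw [h3, hrCcl]

/-- **the refined valuative criterion, universal closedness**. -/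
theorem isUnivClosedMor_of_refined {U X Y : AlgSp.Space S} (f : X ⟶ Y) (h : U ⟶ X)
    (hf : AlgSp.IsQuasiCompactMor f.hom) (hh : AlgSp.IsQuasiCompactMor h.hom)
    (hd : DenseRange (AlgSp.Points.map h.hom)) (hv : Hyp f.hom h.hom) :
    AlgSp.IsUnivClosedMor f.hom := by
  obtain ⟨V, p, hpe, hps⟩ := Y.property.atlas
  refine (Groth.Agent.S10053.result S f hf).2.2 ⟨V, p, hpe, hps, fun n P fst snd sq => ?_⟩
  let An : Over S := Over.mk ((𝔸(ULift.{u} (Fin n); V.left) ↘ V.left) ≫ V.hom)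
  let πn : An ⟶ V := Over.homMk (𝔸(ULift.{u} (Fin n); V.left) ↘ V.left)
  refine UCCore.isClosedMap_of_local snd fun z => ?_
  obtain ⟨T₀, hT₀, hzT₀, -⟩ := exists_isAffineOpen_mem_and_subset (x := z)
    (U := (⊤ : An.left.Opens)) trivial
  let R₀ : CommRingCat.{u} := Γ(An.left, T₀)
  let ιT : Spec R₀ ⟶ An.left := hT₀.fromSpec
  let sR : Spec R₀ ⟶ S := ιT ≫ An.hom
  let ι : Over.mk sR ⟶ An := Over.homMk ιT rfl
  have sq' := IsPullback.of_hasPullback snd ((AlgSp.yon S).map ι)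
  set P' := pullback snd ((AlgSp.yon S).map ι) with hP'
  set pr : P' ⟶ P := pullback.fst _ _ with hpr
  set snd' : P' ⟶ (AlgSp.yon S).obj (Over.mk sR) := pullback.snd _ _ with hsnd'
  refine ⟨Over.mk sR, ι, (inferInstance : IsOpenImmersion ιT), ?_, P', pr, snd', sq', ?_⟩
  · change z ∈ Set.range ιT
    rw [hT₀.range_fromSpec]
    exact hzT₀
  have big := sq'.paste_horiz sq
  -- `g` is flat and locally of finite presentation, hence universally open
  let T : AlgSp.Space S := ⟨(AlgSp.yon S).obj (Over.mk sR), AlgSp.IsAlgSpace.yon_obj _⟩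
  let g : T ⟶ Y := ObjectProperty.homMk ((AlgSp.yon S).map ι ≫ (AlgSp.yon S).map πn ≫ p)
  have hcomm : 𝟙 _ ≫ g.hom = (AlgSp.yon S).map (ι ≫ πn) ≫ p := by
    rw [Category.id_comp, Functor.map_comp, Category.assoc]
    rfl
  haveI : Flat (𝔸(ULift.{u} (Fin n); V.left) ↘ V.left) := Groth.Agent.R2.H55.AffSp.flat_over _ _
  have hgfl : AlgSp.LocP @Flat g.hom :=
    Groth.Agent.S9947.result _ (Or.inr (Or.inr (Or.inl rfl))) g (𝟙 _) p (ι ≫ πn)
      (AlgSp.repWith_id _ _) (AlgSp.repWith_id _ _) hpe hcomm (by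
        change Flat (ιT ≫ (𝔸(ULift.{u} (Fin n); V.left) ↘ V.left))
        infer_instance)
  have hgfp : AlgSp.LocP @LocallyOfFinitePresentation g.hom :=
    Groth.Agent.S9947.result _ (Or.inr (Or.inl rfl)) g (𝟙 _) p (ι ≫ πn)
      (AlgSp.repWith_id _ _) (AlgSp.repWith_id _ _) hpe hcomm (by
        change LocallyOfFinitePresentation (ιT ≫ (𝔸(ULift.{u} (Fin n); V.left) ↘ V.left))
        infer_instance)
  have hgop : AlgSp.IsUnivOpenMor g.hom := Groth.Agent.S9962.result g hgfl hgfp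
  have hopen : IsOpenMap (AlgSp.Points.map (pr ≫ fst)) :=
    hgop X.property f.hom snd' (pr ≫ fst) big.flip
  -- the base changes as algebraic spaces
  have hP'alg : AlgSp.IsAlgSpace P' :=
    Groth.Agent.S9874.isAlgSpace_of_isPullback Y.property.diag X.property T.property big
  have sqU := IsPullback.of_hasPullback h.hom (pr ≫ fst)
  have hU'alg : AlgSp.IsAlgSpace (pullback h.hom (pr ≫ fst)) :=
    Groth.Agent.S9874.isAlgSpace_of_isPullback X.property.diag U.property hP'alg sqU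
  let X' : AlgSp.Space S := ⟨P', hP'alg⟩
  let U' : AlgSp.Space S := ⟨pullback h.hom (pr ≫ fst), hU'alg⟩
  let h' : U' ⟶ X' := ObjectProperty.homMk (pullback.snd h.hom (pr ≫ fst))
  exact isClosedMap_of_refined sR (X := X') (U := U') snd' h'
    (Groth.Agent.Lib.Helper12.Proper.isQuasiCompactMor_baseChange big hf)
    (Groth.Agent.Lib.Helper12.Proper.isQuasiCompactMor_baseChange sqU hh)
    (denseRange_baseChange sqU hopen hd)
    (hyp_baseChange big sqU.w.symm hv)

end Groth.Agent.R2.H43.Refined
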