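import Mathlib

set_option autoImplicit false
universe u
open CategoryTheory CategoryTheory.Limits

namespace Groth.Agent.R2.H43.SchSection

section Cat

variable {C : Type*} [Category C]

/-- a pullback square stays a pullback square after composing both legs with a monomorphism. -/
lemma isPullback_comp_mono {P A B D D' : C} {fst : P ⟶ A} {snd : P ⟶ B} {a : A ⟶ D} {b : B ⟶ D}
    (h : IsPullback fst snd a b) (m : D ⟶ D') [Mono m] : IsPullback fst snd (a ≫ m) (b ≫ m) := by
  refine ⟨⟨by rw [← Category.assoc, h.w, Category.assoc]⟩, ⟨PullbackCone.IsLimit.mk _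
    (fun c => h.lift c.fst c.snd (by
      have := c.condition
      rw [← Category.assoc, ← Category.assoc] at this
      exact (cancel_mono m).1 this))
    (fun c => h.lift_fst _ _ _) (fun c => h.lift_snd _ _ _)
    (fun c l h1 h2 => h.hom_ext (by rw [h1, h.lift_fst]) (by rw [h2, h.lift_snd]))⟩⟩

variable [HasPullbacks C]

/-- a section over `j : V ⟶ Y` of `f : X ⟶ Y` is a base change of the diagonal of `f`. -/
lemma isPullback_section {X Y V : C} (f : X ⟶ Y) (j : V ⟶ Y) (s : V ⟶ X)
    (hs : s ≫ f = j) :
    IsPullback s (pullback.lift s (𝟙 V) (by rw [hs, Category.id_comp]) : V ⟶ pullback f j)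
      (pullback.diagonal f)
      (pullback.lift (pullback.fst f j) (pullback.snd f j ≫ s)
        (by rw [Category.assoc, hs, pullback.condition]) : pullback f j ⟶ pullback f f) := by
  have hw : s ≫ pullback.diagonal f =
      (pullback.lift s (𝟙 V) (by rw [hs, Category.id_comp]) : V ⟶ pullback f j) ≫
        (pullback.lift (pullback.fst f j) (pullback.snd f j ≫ s)
          (by rw [Category.assoc, hs, pullback.condition]) : pullback f j ⟶ pullback f f) := by
    apply pullback.hom_ext
    · rw [Category.assoc, Category.assoc, pullback.diagonal_fst, pullback.lift_fst,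
        pullback.lift_fst, Category.comp_id]
    · rw [Category.assoc, Category.assoc, pullback.diagonal_snd, pullback.lift_snd,
        pullback.lift_snd_assoc, Category.comp_id, Category.id_comp]
  refine ⟨⟨hw⟩, ⟨PullbackCone.IsLimit.mk _ (fun c => c.snd ≫ pullback.snd f j) ?_ ?_ ?_⟩⟩
  · intro c
    have h1 := congrArg (fun k => k ≫ pullback.fst f f) c.condition
    have h2 := congrArg (fun k => k ≫ pullback.snd f f) c.condition
    simp only [Category.assoc, pullback.diagonal_fst, pullback.diagonal_snd, pullback.lift_fst,
      pullback.lift_snd, Category.comp_id] at h1 h2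
    exact (Category.assoc _ _ _).trans h2.symm
  · intro c
    have h1 := congrArg (fun k => k ≫ pullback.fst f f) c.condition
    have h2 := congrArg (fun k => k ≫ pullback.snd f f) c.condition
    simp only [Category.assoc, pullback.diagonal_fst, pullback.diagonal_snd, pullback.lift_fst,
      pullback.lift_snd, Category.comp_id] at h1 h2
    apply pullback.hom_ext
    · simp only [Category.assoc, pullback.lift_fst]
      exact h2.symm.trans h1
    · simp only [Category.assoc, pullback.lift_snd, Category.comp_id]
  · intro c l h1 h2
    have := congrArg (fun k => k ≫ pullback.snd f j) h2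
    simp only [Category.assoc, pullback.lift_snd, Category.comp_id] at this
    exact this

end Cat

end Groth.Agent.R2.H43.SchSection
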