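import Mathlib
import Groth.Prelude.Def_AlgSp
import Groth.Agent.R2.H43OverBC
import Groth.Agent.S9874

/-!
# The dictionary between sheaves over `S` and sheaves over `S'` above `h_S` (helper43)

Namespace `Groth.Agent.R2.H43.Slice`.  For `g : S ⟶ S'`, `j = Over.map g`, `H = h_S ⨯ F'`.

* `σ T : jT ⟶ Over.mk g`, `lo s`, `loIso s`, `desc m h` : the equivalence `Over S ≃ Over (Over.mk g)` by hand.
* `γ c : h_{jT} ⟶ h_S ⨯ F'` for `c : h_T ⟶ j⁻¹ F'`, with `γ_map`, `γ_injective`, `exists_γ`.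
* `isPullback_γ`, `isPullback_of_γ` : represented pullback squares correspond.
* `repWith_γ_iff` : `γ p` is representable with `P` iff `p` is.
* `isEqLocus_lift`, `exists_isEqLocus_prod` : equalizer loci correspond.
-/

set_option autoImplicit false
set_option linter.style.haveILetI false
universe u
open CategoryTheory CategoryTheory.Limits AlgebraicGeometry Opposite
open AlgSp

namespace Groth.Agent.R2.H43.Slice

open Groth.Agent.S13210 Groth.Agent.S9900 Groth.Agent.S9874 Groth.Agent.R2.H43.OverBC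

variable {S S' : Scheme.{u}} (g : S ⟶ S')

/-- the structure map of `T` as a morphism `jT ⟶ S` of schemes over `S'`. -/
def σ (T : Over S) : (Over.map g).obj T ⟶ Over.mk g := Over.homMk T.hom rfl

@[simp] lemma σ_left (T : Over S) : (σ g T).left = T.hom := rfl

lemma map_σ {T₁ T : Over S} (t : T₁ ⟶ T) : (Over.map g).map t ≫ σ g T = σ g T₁ := by
  apply Over.OverMorphism.ext
  simp [σ]

lemma map_injective {T₁ T : Over S} {t t' : T₁ ⟶ T} (h : (Over.map g).map t = (Over.map g).map t') :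
    t = t' := by
  apply Over.OverMorphism.ext
  have := congrArg CommaMorphism.left h
  simpa using this

/-- a scheme over `S'` with a map to `S` as a scheme over `S`. -/
abbrev lo {T' : Over S'} (s : T' ⟶ Over.mk g) : Over S := Over.mk s.left

/-- viewed back over `S'` it is the original one. -/
def loIso {T' : Over S'} (s : T' ⟶ Over.mk g) : (Over.map g).obj (lo g s) ≅ T' :=
  Over.isoMk (Iso.refl _) (by
    have := Over.w s
    simp only [Over.mk_hom] at this
    simp only [Over.map_obj_hom, Over.mk_hom, Over.mk_left, Iso.refl_hom, Category.id_comp]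
    exact this.symm)

variable {g}

lemma loIso_hom_comp {T' : Over S'} (s : T' ⟶ Over.mk g) : (loIso g s).hom ≫ s = σ g (lo g s) := by
  apply Over.OverMorphism.ext
  simp [loIso, σ]

lemma loIso_inv_comp {T' : Over S'} (s : T' ⟶ Over.mk g) : (loIso g s).inv ≫ σ g (lo g s) = s := by
  rw [← loIso_hom_comp, Iso.inv_hom_id_assoc]

/-- a morphism `jT₁ ⟶ jU` over `S'` compatible with the maps to `S` comes from a morphism over `S`. -/
def desc {T₁ U : Over S} (m : (Over.map g).obj T₁ ⟶ (Over.map g).obj U) (h : m ≫ σ g U = σ g T₁) :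
    T₁ ⟶ U :=
  Over.homMk m.left (by
    have := congrArg CommaMorphism.left h
    simpa using this)

lemma map_desc {T₁ U : Over S} (m : (Over.map g).obj T₁ ⟶ (Over.map g).obj U)
    (h : m ≫ σ g U = σ g T₁) : (Over.map g).map (desc m h) = m := by
  apply Over.OverMorphism.ext
  simp [desc]

/-- the point of `h_S ⨯ F'` over `jT` given by a point of `j⁻¹ F'` over `T`. -/
noncomputable def γ {T : Over S} {F' : AlgSp.Sp S'} (c : (AlgSp.yon S).obj T ⟶ (Φ g).obj F') :
    (AlgSp.yon S').obj ((Over.map g).obj T) ⟶ (AlgSp.yon S').obj (Over.mk g) ⨯ F' :=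
  prod.lift ((AlgSp.yon S').map (σ g T)) (adj T F' c)

@[simp] lemma γ_fst {T : Over S} {F' : AlgSp.Sp S'} (c : (AlgSp.yon S).obj T ⟶ (Φ g).obj F') :
    γ c ≫ prod.fst = (AlgSp.yon S').map (σ g T) := prod.lift_fst _ _

@[simp] lemma γ_snd {T : Over S} {F' : AlgSp.Sp S'} (c : (AlgSp.yon S).obj T ⟶ (Φ g).obj F') :
    γ c ≫ prod.snd = adj T F' c := prod.lift_snd _ _

lemma γ_map {T₁ T : Over S} (t : T₁ ⟶ T) {F' : AlgSp.Sp S'}
    (c : (AlgSp.yon S).obj T ⟶ (Φ g).obj F') :
    (AlgSp.yon S').map ((Over.map g).map t) ≫ γ c = γ ((AlgSp.yon S).map t ≫ c) := by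
  apply Limits.prod.hom_ext
  · rw [Category.assoc, γ_fst, γ_fst, ← Functor.map_comp, map_σ]
  · rw [Category.assoc, γ_snd, γ_snd, adj_map]

lemma γ_injective {T : Over S} {F' : AlgSp.Sp S'} {c c' : (AlgSp.yon S).obj T ⟶ (Φ g).obj F'}
    (h : γ c = γ c') : c = c' := by
  have := congrArg (fun m => m ≫ prod.snd) h
  simp only [γ_snd] at this
  exact (adj T F').injective this

/-- every point of `h_S ⨯ F'` is of the form `γ c` up to an isomorphism of the source. -/
lemma γ_lo {T' : Over S'} {F' : AlgSp.Sp S'}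
    (c' : (AlgSp.yon S').obj T' ⟶ (AlgSp.yon S').obj (Over.mk g) ⨯ F') (s : T' ⟶ Over.mk g)
    (hs : (AlgSp.yon S').map s = c' ≫ prod.fst) :
    γ ((adj (lo g s) F').symm ((AlgSp.yon S').map (loIso g s).hom ≫ c' ≫ prod.snd)) =
      (AlgSp.yon S').map (loIso g s).hom ≫ c' := by
  apply Limits.prod.hom_ext
  · rw [γ_fst, Category.assoc, ← hs, ← Functor.map_comp, loIso_hom_comp]
  · rw [γ_snd, Equiv.apply_symm_apply, Category.assoc]

lemma exists_γ {T' : Over S'} {F' : AlgSp.Sp S'}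
    (c' : (AlgSp.yon S').obj T' ⟶ (AlgSp.yon S').obj (Over.mk g) ⨯ F') :
    ∃ (T : Over S) (i : (Over.map g).obj T ≅ T') (c : (AlgSp.yon S).obj T ⟶ (Φ g).obj F'),
      γ c = (AlgSp.yon S').map i.hom ≫ c' := by
  obtain ⟨s, hs⟩ := (AlgSp.yon S').map_surjective (c' ≫ prod.fst)
  exact ⟨lo g s, loIso g s, _, γ_lo c' s hs⟩

/-- represented pullback squares over `S` give represented pullback squares over `S'`. -/
theorem isPullback_γ {F' : AlgSp.Sp S'} {V U T : Over S} (φ : V ⟶ U) (ψ : V ⟶ T)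
    (p : (AlgSp.yon S).obj U ⟶ (Φ g).obj F') (c : (AlgSp.yon S).obj T ⟶ (Φ g).obj F')
    (sq : IsPullback ((AlgSp.yon S).map φ) ((AlgSp.yon S).map ψ) p c) :
    IsPullback ((AlgSp.yon S').map ((Over.map g).map φ)) ((AlgSp.yon S').map ((Over.map g).map ψ))
      (γ p) (γ c) := by
  have hw : (AlgSp.yon S').map ((Over.map g).map φ) ≫ γ p =
      (AlgSp.yon S').map ((Over.map g).map ψ) ≫ γ c := by
    rw [γ_map, γ_map, sq.w]
  refine isPullback_of_yon hw ?_
  intro T₁' b d hbd
  obtain ⟨β, rfl⟩ := (AlgSp.yon S').map_surjective b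
  obtain ⟨θ, rfl⟩ := (AlgSp.yon S').map_surjective d
  have h1 : β ≫ σ g U = θ ≫ σ g T := by
    apply (AlgSp.yon S').map_injective
    have := congrArg (fun m => m ≫ prod.fst) hbd
    simpa only [Category.assoc, γ_fst, ← Functor.map_comp] using this
  have hβ : ((loIso g (β ≫ σ g U)).hom ≫ β) ≫ σ g U = σ g (lo g (β ≫ σ g U)) := by
    rw [Category.assoc]; exact loIso_hom_comp _
  have hθ : ((loIso g (β ≫ σ g U)).hom ≫ θ) ≫ σ g T = σ g (lo g (β ≫ σ g U)) := by
    rw [Category.assoc, ← h1]; exact loIso_hom_comp _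
  have hcomm : (AlgSp.yon S).map (desc _ hβ) ≫ p = (AlgSp.yon S).map (desc _ hθ) ≫ c := by
    apply γ_injective
    rw [← γ_map, ← γ_map, map_desc, map_desc, Functor.map_comp, Functor.map_comp,
      Category.assoc, Category.assoc, hbd]
  obtain ⟨a₁, ha₁φ, ha₁ψ⟩ : ∃ a₁ : lo g (β ≫ σ g U) ⟶ V,
      a₁ ≫ φ = desc _ hβ ∧ a₁ ≫ ψ = desc _ hθ := by
    obtain ⟨l, hl⟩ := (AlgSp.yon S).map_surjective (sq.lift _ _ hcomm)
    refine ⟨l, (AlgSp.yon S).map_injective ?_, (AlgSp.yon S).map_injective ?_⟩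
    · rw [Functor.map_comp, hl, sq.lift_fst]
    · rw [Functor.map_comp, hl, sq.lift_snd]
  refine ⟨(AlgSp.yon S').map ((loIso g (β ≫ σ g U)).inv ≫ (Over.map g).map a₁), ⟨?_, ?_⟩, ?_⟩
  · rw [← Functor.map_comp, Category.assoc, ← Functor.map_comp, ha₁φ, map_desc,
      Iso.inv_hom_id_assoc]
  · rw [← Functor.map_comp, Category.assoc, ← Functor.map_comp, ha₁ψ, map_desc,
      Iso.inv_hom_id_assoc]
  · rintro a' ⟨h1', h2'⟩
    obtain ⟨α, rfl⟩ := (AlgSp.yon S').map_surjective a'
    congr 1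
    have e1 : α ≫ (Over.map g).map φ = β :=
      (AlgSp.yon S').map_injective (by rw [Functor.map_comp]; exact h1')
    have e2 : α ≫ (Over.map g).map ψ = θ :=
      (AlgSp.yon S').map_injective (by rw [Functor.map_comp]; exact h2')
    have hα : ((loIso g (β ≫ σ g U)).hom ≫ α) ≫ σ g V = σ g (lo g (β ≫ σ g U)) := by
      rw [← map_σ g φ, Category.assoc, ← Category.assoc α, e1]
      exact hβ
    have hd : desc _ hα = a₁ := by
      apply (AlgSp.yon S).map_injective
      apply sq.hom_ext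
      · rw [← Functor.map_comp, ← Functor.map_comp, ha₁φ]
        congr 1
        apply map_injective g
        rw [Functor.map_comp, map_desc, map_desc, Category.assoc, e1]
      · rw [← Functor.map_comp, ← Functor.map_comp, ha₁ψ]
        congr 1
        apply map_injective g
        rw [Functor.map_comp, map_desc, map_desc, Category.assoc, e2]
    rw [← hd, map_desc, Iso.inv_hom_id_assoc]

/-- represented pullback squares over `S'` of the above form come from pullback squares over `S`. -/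
theorem isPullback_of_γ {F' : AlgSp.Sp S'} {V U T : Over S} (φ : V ⟶ U) (ψ : V ⟶ T)
    (p : (AlgSp.yon S).obj U ⟶ (Φ g).obj F') (c : (AlgSp.yon S).obj T ⟶ (Φ g).obj F')
    (sq' : IsPullback ((AlgSp.yon S').map ((Over.map g).map φ))
      ((AlgSp.yon S').map ((Over.map g).map ψ)) (γ p) (γ c)) :
    IsPullback ((AlgSp.yon S).map φ) ((AlgSp.yon S).map ψ) p c := by
  have hw : (AlgSp.yon S).map φ ≫ p = (AlgSp.yon S).map ψ ≫ c := by
    apply γ_injective
    rw [← γ_map, ← γ_map]
    exact sq'.w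
  refine isPullback_of_yon hw ?_
  intro T₁ b d hbd
  obtain ⟨β, rfl⟩ := (AlgSp.yon S).map_surjective b
  obtain ⟨θ, rfl⟩ := (AlgSp.yon S).map_surjective d
  have hbd' : (AlgSp.yon S').map ((Over.map g).map β) ≫ γ p =
      (AlgSp.yon S').map ((Over.map g).map θ) ≫ γ c := by
    rw [γ_map, γ_map, hbd]
  obtain ⟨α, hα⟩ := (AlgSp.yon S').map_surjective (sq'.lift _ _ hbd')
  have e1 : α ≫ (Over.map g).map φ = (Over.map g).map β :=
    (AlgSp.yon S').map_injective (by rw [Functor.map_comp, hα, sq'.lift_fst])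
  have e2 : α ≫ (Over.map g).map ψ = (Over.map g).map θ :=
    (AlgSp.yon S').map_injective (by rw [Functor.map_comp, hα, sq'.lift_snd])
  have hασ : α ≫ σ g V = σ g T₁ := by
    rw [← map_σ g φ, ← Category.assoc, e1, map_σ]
  refine ⟨(AlgSp.yon S).map (desc α hασ), ⟨?_, ?_⟩, ?_⟩
  · rw [← Functor.map_comp]
    congr 1
    apply map_injective g
    rw [Functor.map_comp, map_desc, e1]
  · rw [← Functor.map_comp]
    congr 1
    apply map_injective g
    rw [Functor.map_comp, map_desc, e2]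
  · rintro a' ⟨h1', h2'⟩
    obtain ⟨a, rfl⟩ := (AlgSp.yon S).map_surjective a'
    congr 1
    apply map_injective g
    rw [map_desc]
    apply (AlgSp.yon S').map_injective
    apply sq'.hom_ext
    · have hab : a ≫ φ = β := (AlgSp.yon S).map_injective (by rw [Functor.map_comp]; exact h1')
      rw [← (AlgSp.yon S').map_comp, ← (AlgSp.yon S').map_comp, e1, ← (Over.map g).map_comp, hab]
    · have hab : a ≫ ψ = θ := (AlgSp.yon S).map_injective (by rw [Functor.map_comp]; exact h2')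
      rw [← (AlgSp.yon S').map_comp, ← (AlgSp.yon S').map_comp, e2, ← (Over.map g).map_comp, hab]

/-- `γ p` is representable with `P` iff `p` is. -/
theorem repWith_γ_iff (P : MorphismProperty Scheme.{u}) [P.IsStableUnderBaseChange]
    {F' : AlgSp.Sp S'} {U : Over S} (p : (AlgSp.yon S).obj U ⟶ (Φ g).obj F') :
    AlgSp.RepWith P (γ p) ↔ AlgSp.RepWith P p := by
  haveI : P.RespectsIso := MorphismProperty.IsStableUnderBaseChange.respectsIso
  constructor
  · intro hp
    refine MorphismProperty.relative.of_exists (fun T c => ?_)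
    obtain ⟨V', snd', fst', sq'⟩ := hp.1 (γ c)
    obtain ⟨φ', rfl⟩ := (AlgSp.yon S').map_surjective fst'
    have h1 : φ' ≫ σ g U = snd' ≫ σ g T := by
      apply (AlgSp.yon S').map_injective
      have := congrArg (fun m => m ≫ prod.fst) sq'.w
      simpa only [Category.assoc, γ_fst, ← Functor.map_comp] using this
    have hφ : ((liftIso snd').hom ≫ φ') ≫ σ g U = σ g (liftOver g snd') := by
      rw [Category.assoc, h1, ← Category.assoc, liftIso_hom_comp, map_σ]
    have sq'' : IsPullback ((AlgSp.yon S').map ((Over.map g).map (desc _ hφ)))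
        ((AlgSp.yon S').map ((Over.map g).map (liftSnd snd'))) (γ p) (γ c) := by
      rw [map_desc, ← liftIso_hom_comp]
      exact IsPullback.of_iso sq' ((AlgSp.yon S').mapIso (liftIso snd')).symm (Iso.refl _)
        (Iso.refl _) (Iso.refl _) (by simp) (by simp) (by simp) (by simp)
    exact ⟨liftOver g snd', _, liftSnd snd', isPullback_of_γ _ _ p c sq'', hp.2 _ _ _ sq'⟩
  · intro hp
    refine MorphismProperty.relative.of_exists (fun T' c' => ?_)
    obtain ⟨T, i, c, hc⟩ := exists_γ c'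
    obtain ⟨V, ψ, fst, sq⟩ := hp.1 c
    obtain ⟨φ, rfl⟩ := (AlgSp.yon S).map_surjective fst
    have sq1 := isPullback_γ φ ψ p c sq
    rw [hc] at sq1
    refine ⟨(Over.map g).obj V, (AlgSp.yon S').map ((Over.map g).map φ),
      (Over.map g).map ψ ≫ i.hom, ?_, ?_⟩
    · exact IsPullback.of_iso sq1 (Iso.refl _) (Iso.refl _) ((AlgSp.yon S').mapIso i) (Iso.refl _)
        (by simp) (by simp) (by simp) (by simp)
    · show P ((Over.map g).map ψ ≫ i.hom).left
      rw [Over.comp_left]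
      haveI : IsIso i.hom.left := (Over.forget S').map_isIso i.hom
      rw [P.cancel_right_of_respectsIso]
      exact hp.2 _ _ _ sq

/-- equalizer loci in `h_S ⨯ F'` give equalizer loci in `j⁻¹ F'`. -/
lemma isEqLocus_of_γ {F' : AlgSp.Sp S'} {T : Over S} (a b : (AlgSp.yon S).obj T ⟶ (Φ g).obj F')
    {E' : Over S'} (e' : E' ⟶ (Over.map g).obj T) (he' : IsEqLocus (γ a) (γ b) e') :
    IsEqLocus a b (liftSnd e') := by
  haveI : Mono e' := he'.1
  have hje : (Over.map g).map (liftSnd e') = (liftIso e').hom ≫ e' := (liftIso_hom_comp e').symm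
  haveI : Mono ((Over.map g).map (liftSnd e')) := by rw [hje]; exact mono_comp _ _
  refine ⟨⟨fun {Z} t1 t2 h => ?_⟩, fun T₁ t => ?_⟩
  · apply map_injective g
    rw [← cancel_mono ((Over.map g).map (liftSnd e')), ← Functor.map_comp, ← Functor.map_comp, h]
  · have key : ((AlgSp.yon S).map t ≫ a = (AlgSp.yon S).map t ≫ b) ↔
        ((AlgSp.yon S').map ((Over.map g).map t) ≫ γ a =
          (AlgSp.yon S').map ((Over.map g).map t) ≫ γ b) := by
      rw [γ_map, γ_map]
      exact ⟨fun h => by rw [h], fun h => γ_injective h⟩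
    rw [key, he'.2]
    constructor
    · rintro ⟨t'', ht''⟩
      have hm : (t'' ≫ (liftIso e').inv) ≫ σ g (liftOver g e') = σ g T₁ := by
        rw [← map_σ g (liftSnd e'), hje]
        simp only [Category.assoc, Iso.inv_hom_id_assoc]
        rw [← Category.assoc, ht'', map_σ]
      refine ⟨desc _ hm, ?_⟩
      apply map_injective g
      rw [Functor.map_comp, map_desc, hje, Category.assoc, Iso.inv_hom_id_assoc, ht'']
    · rintro ⟨t', rfl⟩
      exact ⟨(Over.map g).map t' ≫ (liftIso e').hom, by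
        rw [Category.assoc, ← hje, ← Functor.map_comp]⟩

/-- equalizer loci in `h_S ⨯ F'` exist when the diagonal of `j⁻¹ F'` is representable. -/
lemma exists_isEqLocus_prod {F' : AlgSp.Sp S'}
    (hΦ : AlgSp.Representable (Limits.diag ((Φ g).obj F'))) {T' : Over S'}
    (a' b' : (AlgSp.yon S').obj T' ⟶ (AlgSp.yon S').obj (Over.mk g) ⨯ F') :
    ∃ (E' : Over S') (e' : E' ⟶ T'), IsEqLocus a' b' e' := by
  obtain ⟨E₁, ι₁, h₁⟩ := exists_isEqLocus (AlgSp.IsAlgSpace.yon_obj (Over.mk g)).diag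
    (a' ≫ prod.fst) (b' ≫ prod.fst)
  haveI : Mono ι₁ := h₁.1
  obtain ⟨s₁, hs₁⟩ := (AlgSp.yon S').map_surjective ((AlgSp.yon S').map ι₁ ≫ a' ≫ prod.fst)
  have hs₁b : (AlgSp.yon S').map s₁ = (AlgSp.yon S').map ι₁ ≫ b' ≫ prod.fst := hs₁.trans h₁.eq
  obtain ⟨a₁, ha₁⟩ : ∃ a₁ : (AlgSp.yon S).obj (lo g s₁) ⟶ (Φ g).obj F',
      γ a₁ = (AlgSp.yon S').map (loIso g s₁).hom ≫ (AlgSp.yon S').map ι₁ ≫ a' :=
    ⟨_, γ_lo ((AlgSp.yon S').map ι₁ ≫ a') s₁ (by rw [hs₁, Category.assoc])⟩
  obtain ⟨b₁, hb₁⟩ : ∃ b₁ : (AlgSp.yon S).obj (lo g s₁) ⟶ (Φ g).obj F',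
      γ b₁ = (AlgSp.yon S').map (loIso g s₁).hom ≫ (AlgSp.yon S').map ι₁ ≫ b' :=
    ⟨_, γ_lo ((AlgSp.yon S').map ι₁ ≫ b') s₁ (by rw [hs₁b, Category.assoc])⟩
  obtain ⟨E₂, e₂, h₂⟩ := exists_isEqLocus hΦ a₁ b₁
  haveI : Mono e₂ := h₂.1
  have he₂ := h₂.eq
  refine ⟨(Over.map g).obj E₂, (Over.map g).map e₂ ≫ (loIso g s₁).hom ≫ ι₁, ?_, fun W' t => ?_⟩
  · haveI : Mono ((Over.map g).map e₂) := by
      haveI : Mono e₂.left := Over.mono_left_of_mono e₂
      haveI : Mono ((Over.map g).map e₂).left := by simpa using (inferInstance : Mono e₂.left)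
      exact Over.mono_of_mono_left _
    exact mono_comp _ _
  · constructor
    · intro hab
      have hab1 : (AlgSp.yon S').map t ≫ a' ≫ prod.fst = (AlgSp.yon S').map t ≫ b' ≫ prod.fst := by
        rw [← Category.assoc, hab, Category.assoc]
      obtain ⟨t₁, rfl⟩ := (h₁.2 W' t).1 hab1
      have hm : ((loIso g (t₁ ≫ s₁)).hom ≫ t₁ ≫ (loIso g s₁).inv) ≫ σ g (lo g s₁) =
          σ g (lo g (t₁ ≫ s₁)) := by
        rw [Category.assoc, Category.assoc, loIso_inv_comp, loIso_hom_comp]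
      have e : ∀ x : (AlgSp.yon S').obj T' ⟶ (AlgSp.yon S').obj (Over.mk g) ⨯ F',
          (AlgSp.yon S').map ((loIso g (t₁ ≫ s₁)).hom ≫ t₁ ≫ (loIso g s₁).inv) ≫
            (AlgSp.yon S').map (loIso g s₁).hom ≫ (AlgSp.yon S').map ι₁ ≫ x =
          (AlgSp.yon S').map (loIso g (t₁ ≫ s₁)).hom ≫ (AlgSp.yon S').map (t₁ ≫ ι₁) ≫ x := by
        intro x
        simp only [← Category.assoc, ← Functor.map_comp]
        congr 2
      have hw : (AlgSp.yon S).map (desc _ hm) ≫ a₁ = (AlgSp.yon S).map (desc _ hm) ≫ b₁ := by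
        apply γ_injective
        rw [← γ_map, ← γ_map, map_desc, ha₁, hb₁, e, e, hab]
      obtain ⟨w₂, hw₂⟩ := (h₂.2 _ (desc _ hm)).1 hw
      refine ⟨(loIso g (t₁ ≫ s₁)).inv ≫ (Over.map g).map w₂, ?_⟩
      rw [Category.assoc, ← Category.assoc ((Over.map g).map w₂), ← Functor.map_comp, hw₂, map_desc]
      simp
    · rintro ⟨t', rfl⟩
      have h3 : (AlgSp.yon S').map ((Over.map g).map e₂ ≫ (loIso g s₁).hom ≫ ι₁) ≫ a' =
          (AlgSp.yon S').map ((Over.map g).map e₂ ≫ (loIso g s₁).hom ≫ ι₁) ≫ b' := by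
        rw [Functor.map_comp, Functor.map_comp, Category.assoc, Category.assoc, Category.assoc,
          Category.assoc, ← ha₁, ← hb₁, γ_map, γ_map, he₂]
      rw [Functor.map_comp, Category.assoc, Category.assoc, h3]

end Groth.Agent.R2.H43.Slice
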