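import Mathlib
import Groth.Prelude.Def_AlgSp
import Groth.Agent.R2.H43Slice

/-!
# An explicit model of `j_!` for fppf sheaves along `Over.map g` (helper43)

Namespace `Groth.Agent.R2.H43.Shriek`.  For `g : S ⟶ S'`, `j = Over.map g`.

* `SigObj g F T'` : pairs `(s : T' ⟶ S over S', ξ ∈ F(T' viewed over S via s))`; `sigMap`, `sigPre`.
* `pull x z h` : restriction of a section of the model to a scheme over `S`.
* `sigPre_isSheaf`, `sig g F : Sp S'` : the model is an fppf sheaf.
* `mkSig`, `toΦ`, `ofΦ`, `sigEquiv`, `sigF`, `sigAdj` : the model is left adjoint to `Φ g`.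
* `L g`, `adjL g`, `LIso g : L g ≅ sigF g` : comparison with `Functor.sheafPullback`.
-/

set_option autoImplicit false
set_option linter.style.haveILetI false
universe u
open CategoryTheory CategoryTheory.Limits AlgebraicGeometry Opposite
open AlgSp

namespace Groth.Agent.R2.H43.Shriek

open Groth.Agent.S13210 Groth.Agent.R2.H43.OverBC Groth.Agent.R2.H43.Slice

variable {S S' : Scheme.{u}} (g : S ⟶ S')

/-- the morphism `lo (t ≫ s) ⟶ lo s` over `S` induced by `t`. -/
def loMap {T₂ T₁ : Over S'} (t : T₂ ⟶ T₁) (s : T₁ ⟶ Over.mk g) : lo g (t ≫ s) ⟶ lo g s :=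
  Over.homMk t.left (by simp)

@[simp] lemma loMap_left {T₂ T₁ : Over S'} (t : T₂ ⟶ T₁) (s : T₁ ⟶ Over.mk g) :
    (loMap g t s).left = t.left := rfl

/-- transport along an equality of maps to `S`. -/
def loEq {T₁ : Over S'} {s s' : T₁ ⟶ Over.mk g} (h : s = s') : lo g s ⟶ lo g s' :=
  Over.homMk (𝟙 _) (by subst h; simp)

@[simp] lemma loEq_left {T₁ : Over S'} {s s' : T₁ ⟶ Over.mk g} (h : s = s') :
    (loEq g h).left = 𝟙 _ := rfl

variable (F : AlgSp.Sp S)

/-- sections of the model of `j_! F`. -/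
def SigObj (T₁ : Over S') : Type (u + 1) :=
  Σ s : T₁ ⟶ Over.mk g, F.obj.obj (op (lo g s))

variable {g F}

lemma sig_ext {T₁ : Over S'} {a b : SigObj g F T₁} (h₁ : a.1 = b.1)
    (h₂ : F.obj.map (loEq g h₁).op b.2 = a.2) : a = b := by
  obtain ⟨s, ξ⟩ := a
  obtain ⟨s', ξ'⟩ := b
  dsimp only at h₁
  subst h₁
  have : loEq g (rfl : s = s) = 𝟙 _ := by
    apply Over.OverMorphism.ext; rfl
  rw [this, op_id, F.obj.map_id] at h₂
  cases h₂
  rfl

lemma map_map (F : AlgSp.Sp S) {A B C : Over S} (a : A ⟶ B) (b : B ⟶ C) (x : F.obj.obj (op C)) :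
    F.obj.map a.op (F.obj.map b.op x) = F.obj.map (a ≫ b).op x := by
  rw [op_comp, Functor.map_comp_apply]

lemma map_congr_left (F : AlgSp.Sp S) {A B : Over S} {a b : A ⟶ B} (h : a.left = b.left)
    (x : F.obj.obj (op B)) : F.obj.map a.op x = F.obj.map b.op x := by
  rw [Over.OverMorphism.ext h]

lemma map_two (F : AlgSp.Sp S) {A B C : Over S} (a : A ⟶ B) (b : B ⟶ C) (c : A ⟶ C)
    (h : a.left ≫ b.left = c.left) (x : F.obj.obj (op C)) :
    F.obj.map a.op (F.obj.map b.op x) = F.obj.map c.op x := by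
  rw [map_map]
  exact map_congr_left F (by simpa using h) x

variable (g F)

/-- restriction of sections of the model. -/
def sigMap {T₁ T₂ : Over S'} (t : T₂ ⟶ T₁) (x : SigObj g F T₁) : SigObj g F T₂ :=
  ⟨t ≫ x.1, F.obj.map (loMap g t x.1).op x.2⟩

@[simp] lemma sigMap_fst {T₁ T₂ : Over S'} (t : T₂ ⟶ T₁) (x : SigObj g F T₁) :
    (sigMap g F t x).1 = t ≫ x.1 := rfl

lemma sigMap_id {T₁ : Over S'} (x : SigObj g F T₁) : sigMap g F (𝟙 T₁) x = x := by
  refine sig_ext (Category.id_comp _) ?_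
  change F.obj.map _ x.2 = F.obj.map _ x.2
  exact map_congr_left F rfl x.2

lemma sigMap_comp {T₁ T₂ T₃ : Over S'} (t' : T₃ ⟶ T₂) (t : T₂ ⟶ T₁) (x : SigObj g F T₁) :
    sigMap g F (t' ≫ t) x = sigMap g F t' (sigMap g F t x) := by
  refine sig_ext (Category.assoc _ _ _) ?_
  change F.obj.map (loEq g (Category.assoc t' t x.1)).op
    (F.obj.map (loMap g t' (t ≫ x.1)).op (F.obj.map (loMap g t x.1).op x.2)) =
      F.obj.map (loMap g (t' ≫ t) x.1).op x.2
  rw [map_map, map_map]
  exact map_congr_left F (by simp) x.2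

/-- the model of `j_! F` as a presheaf. -/
def sigPre : (Over S')ᵒᵖ ⥤ Type (u + 1) where
  obj T₁ := SigObj g F T₁.unop
  map t := ↾fun x => sigMap g F t.unop x
  map_id T₁ := by
    ext x
    exact sigMap_id g F x
  map_comp t t' := by
    ext x
    exact sigMap_comp g F t'.unop t.unop x

variable {g F}

/-- restriction of a section of the model to a scheme over `S`. -/
def pull {T₁ : Over S'} (x : SigObj g F T₁) {Z : Over S} (z : (Over.map g).obj Z ⟶ T₁)
    (h : z ≫ x.1 = σ g Z) : F.obj.obj (op Z) :=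
  F.obj.map (Over.homMk z.left (by
    have := congrArg CommaMorphism.left h
    simpa using this) : Z ⟶ lo g x.1).op x.2

lemma pull_congr {T₁ : Over S'} {a b : SigObj g F T₁} (hab : a = b) {Z : Over S}
    (z : (Over.map g).obj Z ⟶ T₁) (ha : z ≫ a.1 = σ g Z) (hb : z ≫ b.1 = σ g Z) :
    pull a z ha = pull b z hb := by
  subst hab; rfl

lemma pull_congr_hom {T₁ : Over S'} (x : SigObj g F T₁) {Z : Over S}
    {z z' : (Over.map g).obj Z ⟶ T₁} (hz : z = z') (h : z ≫ x.1 = σ g Z)
    (h' : z' ≫ x.1 = σ g Z) : pull x z h = pull x z' h' := by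
  subst hz; rfl

lemma pull_sigMap {T₁ T₂ : Over S'} (t : T₂ ⟶ T₁) (x : SigObj g F T₁) {Z : Over S}
    (z : (Over.map g).obj Z ⟶ T₂) (h : z ≫ (sigMap g F t x).1 = σ g Z) :
    pull (sigMap g F t x) z h = pull x (z ≫ t) (by rw [Category.assoc]; exact h) := by
  change F.obj.map _ (F.obj.map (loMap g t x.1).op x.2) = F.obj.map _ x.2
  exact map_two F _ _ _ (by simp) x.2

lemma map_pull {T₁ : Over S'} (x : SigObj g F T₁) {Z Z₂ : Over S} (k : Z₂ ⟶ Z)
    (z : (Over.map g).obj Z ⟶ T₁) (h : z ≫ x.1 = σ g Z) :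
    F.obj.map k.op (pull x z h) = pull x ((Over.map g).map k ≫ z)
      (by rw [Category.assoc, h, map_σ]) := by
  change F.obj.map _ (F.obj.map _ x.2) = F.obj.map _ x.2
  exact map_two F _ _ _ (by simp) x.2

lemma pull_mk_loIso {T₁ : Over S'} (s : T₁ ⟶ Over.mk g) (ζ : F.obj.obj (op (lo g s))) :
    pull (⟨s, ζ⟩ : SigObj g F T₁) (loIso g s).hom (loIso_hom_comp _) = ζ := by
  change F.obj.map _ ζ = ζ
  have : (Over.homMk (loIso g s).hom.left (by simp [loIso]) : lo g s ⟶ lo g s) = 𝟙 _ := by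
    apply Over.OverMorphism.ext; simp [loIso]
  rw [this, op_id, F.obj.map_id]
  rfl

lemma sig_ext_pull {T₁ : Over S'} {a b : SigObj g F T₁} (s₀ : T₁ ⟶ Over.mk g) (ha : a.1 = s₀)
    (hb : b.1 = s₀)
    (h₂ : pull a (loIso g s₀).hom (by rw [ha]; exact loIso_hom_comp _) =
      pull b (loIso g s₀).hom (by rw [hb]; exact loIso_hom_comp _)) : a = b := by
  obtain ⟨s, ξ⟩ := a
  obtain ⟨s', ξ'⟩ := b
  dsimp only at ha hb
  subst ha
  subst hb
  rw [pull_mk_loIso, pull_mk_loIso] at h₂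
  rw [h₂]

lemma fam_congr {P : (Over S')ᵒᵖ ⥤ Type (u + 1)} {T' : Over S'} {R' : Sieve T'}
    (x : Presieve.FamilyOfElements P R'.arrows) {Y : Over S'} {f f' : Y ⟶ T'} (h : f = f')
    (hf : R'.arrows f) (hf' : R'.arrows f') : x f hf = x f' hf' := by
  subst h; rfl

variable (g F)

/-- the model is a sheaf. -/
theorem sigPre_isSheaf : Presieve.IsSheaf (AlgSp.J S') (sigPre g F) := by
  intro T' R' hR' x hx
  -- Step 1: the map to `S`
  have hy : Presieve.IsSheafFor (yoneda.obj (Over.mk g)) R'.arrows :=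
    GrothendieckTopology.Subcanonical.isSheaf_of_isRepresentable (J := AlgSp.J S')
      (yoneda.obj (Over.mk g)) R' hR'
  let y : Presieve.FamilyOfElements (yoneda.obj (Over.mk g)) R'.arrows :=
    fun _ f hf => (x f hf).1
  have hyc : y.Compatible := by
    intro Y₁ Y₂ Z g₁ g₂ f₁ f₂ h₁ h₂ comm
    exact congrArg (fun a : SigObj g F Z => a.1) (hx g₁ g₂ h₁ h₂ comm)
  obtain ⟨s, hs, hsu⟩ := hy y hyc
  have hs' : ∀ {T₂ : Over S'} (f : T₂ ⟶ T') (hf : R'.arrows f), f ≫ s = (x f hf).1 :=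
    fun f hf => hs f hf
  have hxs : x.SieveCompatible := hx.to_sieveCompatible
  -- Step 2: the covering sieve on `lo g s`
  have hR : Sieve.functorPullback (Over.map g) (R'.pullback (loIso g s).hom) ∈
      AlgSp.J S (lo g s) :=
    (Over.map g).cover_lift (AlgSp.J S) (AlgSp.J S') ((AlgSp.J S').pullback_stable _ hR')
  have hF : Presieve.IsSheafFor F.obj
      (Sieve.functorPullback (Over.map g) (R'.pullback (loIso g s).hom)).arrows :=
    ((isSheaf_iff_isSheaf_of_type _ _).1 F.property) _ hR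
  -- the structure map of the first component
  have hσ : ∀ {Y : Over S} (m : Y ⟶ lo g s)
      (hm : R'.arrows ((Over.map g).map m ≫ (loIso g s).hom)),
      𝟙 _ ≫ (x _ hm).1 = σ g Y := by
    intro Y m hm
    rw [← hs' _ hm, Category.id_comp, Category.assoc, loIso_hom_comp, map_σ]
  -- Step 3: the family of sections of `F`
  let ξ' : Presieve.FamilyOfElements F.obj
      (Sieve.functorPullback (Over.map g) (R'.pullback (loIso g s).hom)).arrows :=
    fun Y m hm => pull (x _ hm) (𝟙 _) (hσ m hm)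
  have hξ'c : ξ'.Compatible := by
    intro Y₁ Y₂ Z k₁ k₂ m₁ m₂ h₁ h₂ comm
    have hcomm' : (Over.map g).map k₁ ≫ ((Over.map g).map m₁ ≫ (loIso g s).hom) =
        (Over.map g).map k₂ ≫ ((Over.map g).map m₂ ≫ (loIso g s).hom) := by
      rw [← Category.assoc, ← Functor.map_comp, comm, Functor.map_comp, Category.assoc]
    have hx' : sigMap g F ((Over.map g).map k₁) (x _ h₁) =
        sigMap g F ((Over.map g).map k₂) (x _ h₂) := hx _ _ h₁ h₂ hcomm'
    change F.obj.map k₁.op (pull _ _ _) = F.obj.map k₂.op (pull _ _ _)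
    rw [map_pull, map_pull]
    have e1 : ∀ (k : Z ⟶ Y₁) (h : ((Over.map g).map k ≫ 𝟙 _) ≫ (x _ h₁).1 = σ g Z),
        pull (x _ h₁) ((Over.map g).map k ≫ 𝟙 _) h =
          pull (sigMap g F ((Over.map g).map k) (x _ h₁)) (𝟙 _)
            (by rw [Category.comp_id] at h; rw [Category.id_comp]; exact h) := by
      intro k h
      rw [pull_sigMap]
      exact pull_congr_hom _ (by simp) _ _
    have e2 : ∀ (k : Z ⟶ Y₂) (h : ((Over.map g).map k ≫ 𝟙 _) ≫ (x _ h₂).1 = σ g Z),
        pull (x _ h₂) ((Over.map g).map k ≫ 𝟙 _) h =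
          pull (sigMap g F ((Over.map g).map k) (x _ h₂)) (𝟙 _)
            (by rw [Category.comp_id] at h; rw [Category.id_comp]; exact h) := by
      intro k h
      rw [pull_sigMap]
      exact pull_congr_hom _ (by simp) _ _
    rw [e1, e2]
    exact pull_congr hx' _ _ _
  obtain ⟨ξ, hξ, hξu⟩ := hF ξ' hξ'c
  refine ⟨(⟨s, ξ⟩ : SigObj g F T'), ?_, ?_⟩
  · -- amalgamation
    intro T₂ f hf
    change sigMap g F f ⟨s, ξ⟩ = x f hf
    refine sig_ext_pull (f ≫ s) rfl (hs' f hf).symm ?_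
    rw [pull_sigMap]
    have hjm : (Over.map g).map (loMap g f s) ≫ (loIso g s).hom = (loIso g (f ≫ s)).hom ≫ f := by
      apply Over.OverMorphism.ext; simp [loIso]
    have hm : R'.arrows ((Over.map g).map (loMap g f s) ≫ (loIso g s).hom) := by
      rw [hjm]; exact R'.downward_closed hf _
    have h1 : F.obj.map (loMap g f s).op ξ = ξ' (loMap g f s) hm := hξ (loMap g f s) hm
    have h2 : pull (⟨s, ξ⟩ : SigObj g F T') ((loIso g (f ≫ s)).hom ≫ f)
        (by rw [Category.assoc]; exact loIso_hom_comp _) = F.obj.map (loMap g f s).op ξ := by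
      change F.obj.map _ ξ = F.obj.map _ ξ
      exact map_congr_left F (by simp [loIso]) ξ
    rw [h2, h1]
    change pull (x _ hm) (𝟙 _) _ = _
    have h3 : x ((Over.map g).map (loMap g f s) ≫ (loIso g s).hom) hm =
        sigMap g F (loIso g (f ≫ s)).hom (x f hf) :=
      (fam_congr x hjm hm (R'.downward_closed hf _)).trans (hxs f (loIso g (f ≫ s)).hom hf)
    rw [pull_congr h3 (𝟙 _) _ (by rw [Category.id_comp, sigMap_fst, ← hs' f hf]; exact loIso_hom_comp _),
      pull_sigMap]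
    exact pull_congr_hom _ (by simp) _ _
  · -- uniqueness
    intro t ht
    have ht' : ∀ {T₂ : Over S'} (f : T₂ ⟶ T') (hf : R'.arrows f), sigMap g F f t = x f hf :=
      fun f hf => ht f hf
    have h1 : t.1 = s :=
      hsu t.1 (fun Y f hf => congrArg (fun a : SigObj g F Y => a.1) (ht' f hf))
    refine sig_ext_pull s h1 rfl ?_
    rw [pull_mk_loIso]
    apply hξu
    intro Y m hm
    change F.obj.map m.op (pull t _ _) = pull (x _ hm) (𝟙 _) _
    rw [map_pull, pull_congr (ht' _ hm).symm (𝟙 _) _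
      (by rw [Category.id_comp, sigMap_fst, h1, Category.assoc, loIso_hom_comp, map_σ]), pull_sigMap]
    exact pull_congr_hom _ (by simp) _ _

/-- the model of `j_! F` as a sheaf. -/
def sig : AlgSp.Sp S' := ⟨sigPre g F, (isSheaf_iff_isSheaf_of_type _ _).2 (sigPre_isSheaf g F)⟩

variable {g F}

/-- the canonical section of the model over `jT` given by a section of `F` over `T`. -/
def mkSig (T : Over S) (ξ : F.obj.obj (op T)) : SigObj g F ((Over.map g).obj T) :=
  ⟨σ g T, F.obj.map (Over.homMk (𝟙 _) (by simp) : lo g (σ g T) ⟶ T).op ξ⟩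

@[simp] lemma mkSig_fst (T : Over S) (ξ : F.obj.obj (op T)) : (mkSig (g := g) T ξ).1 = σ g T := rfl

lemma pull_mkSig (T : Over S) (ξ : F.obj.obj (op T)) {Z : Over S}
    (z : (Over.map g).obj Z ⟶ (Over.map g).obj T) (h : z ≫ σ g T = σ g Z) :
    pull (mkSig (g := g) T ξ) z h = F.obj.map (desc z h).op ξ := by
  change F.obj.map _ (F.obj.map _ ξ) = F.obj.map _ ξ
  exact map_two F _ _ _ (by simp [desc]) ξ

lemma sigMap_mkSig {T₁ T : Over S} (t : T₁ ⟶ T) (ξ : F.obj.obj (op T)) :
    sigMap g F ((Over.map g).map t) (mkSig T ξ) = mkSig T₁ (F.obj.map t.op ξ) := by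
  refine sig_ext_pull (σ g T₁) (by simp [map_σ]) rfl ?_
  rw [pull_sigMap, pull_mkSig, pull_mkSig, map_map]
  exact map_congr_left F (by simp [desc]) ξ

lemma eq_sigMap_mkSig {T₁ : Over S'} (x : SigObj g F T₁) :
    x = sigMap g F (loIso g x.1).inv (mkSig (lo g x.1) x.2) := by
  refine sig_ext_pull x.1 rfl (by simp [loIso_inv_comp]) ?_
  rw [pull_sigMap, pull_mkSig]
  obtain ⟨s, ξ⟩ := x
  rw [pull_mk_loIso]
  have : desc ((loIso g s).hom ≫ (loIso g s).inv) (by simp) = 𝟙 (lo g s) := by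
    apply Over.OverMorphism.ext; simp [desc]
  dsimp only
  rw [this, op_id, F.obj.map_id]
  rfl

/-- the transpose of a map out of the model. -/
noncomputable def toΦ {G' : AlgSp.Sp S'} (a : sig g F ⟶ G') : F ⟶ (Φ g).obj G' :=
  ObjectProperty.homMk
    { app := fun T => ↾fun ξ => a.hom.app (op ((Over.map g).obj T.unop)) (mkSig T.unop ξ)
      naturality := by
        intro T T₁ t
        ext ξ
        have h1 := congrArg (fun m => m (mkSig T.unop ξ))
          (congrArg (fun m => (ConcreteCategory.hom m))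
            (a.hom.naturality ((Over.map g).map t.unop).op))
        have h2 : (sig g F).obj.map ((Over.map g).map t.unop).op (mkSig T.unop ξ) =
          mkSig T₁.unop (F.obj.map t ξ) := sigMap_mkSig t.unop ξ
        change a.hom.app _ (mkSig T₁.unop (F.obj.map t ξ)) =
          G'.obj.map ((Over.map g).map t.unop).op (a.hom.app _ (mkSig T.unop ξ))
        rw [← h2]
        exact h1 }

lemma toΦ_app {G' : AlgSp.Sp S'} (a : sig g F ⟶ G') (T : Over S) (ξ : F.obj.obj (op T)) :
    (toΦ a).hom.app (op T) ξ = a.hom.app (op ((Over.map g).obj T)) (mkSig T ξ) := rfl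

lemma loIso_inv_loMap {T₁ T₂ : Over S'} (t : T₂ ⟶ T₁) (s : T₁ ⟶ Over.mk g) :
    (loIso g (t ≫ s)).inv ≫ (Over.map g).map (loMap g t s) = t ≫ (loIso g s).inv := by
  apply Over.OverMorphism.ext; simp [loIso]

/-- the transpose of a map into the restriction. -/
noncomputable def ofΦ {G' : AlgSp.Sp S'} (b : F ⟶ (Φ g).obj G') : sig g F ⟶ G' :=
  ObjectProperty.homMk
    { app := fun T' => ↾fun (x : SigObj g F T'.unop) =>
        G'.obj.map (loIso g x.1).inv.op (b.hom.app (op (lo g x.1)) x.2)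
      naturality := by
        intro T₁ T₂ t
        ext (x : SigObj g F T₁.unop)
        change G'.obj.map (loIso g (t.unop ≫ x.1)).inv.op
            (b.hom.app (op (lo g (t.unop ≫ x.1))) (F.obj.map (loMap g t.unop x.1).op x.2)) =
          G'.obj.map t (G'.obj.map (loIso g x.1).inv.op (b.hom.app (op (lo g x.1)) x.2))
        have h1 : b.hom.app (op (lo g (t.unop ≫ x.1))) (F.obj.map (loMap g t.unop x.1).op x.2) =
            G'.obj.map ((Over.map g).map (loMap g t.unop x.1)).op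
              (b.hom.app (op (lo g x.1)) x.2) :=
          congrArg (fun m => m x.2) (congrArg (fun m => (ConcreteCategory.hom m))
            (b.hom.naturality (loMap g t.unop x.1).op))
        rw [h1, ← Functor.map_comp_apply, ← Functor.map_comp_apply, ← op_comp,
          loIso_inv_loMap]
        rfl }

lemma ofΦ_app {G' : AlgSp.Sp S'} (b : F ⟶ (Φ g).obj G') (T' : Over S') (x : SigObj g F T') :
    (ofΦ b).hom.app (op T') x =
      G'.obj.map (loIso g x.1).inv.op (b.hom.app (op (lo g x.1)) x.2) := rfl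

lemma sp_hom_ext {S₀ : Scheme.{u}} {A B : AlgSp.Sp S₀} {a b : A ⟶ B}
    (h : ∀ (T : Over S₀) (x : A.obj.obj (op T)), a.hom.app (op T) x = b.hom.app (op T) x) :
    a = b := by
  apply ObjectProperty.hom_ext
  ext T x
  exact h T.unop x

lemma toΦ_ofΦ {G' : AlgSp.Sp S'} (b : F ⟶ (Φ g).obj G') : toΦ (ofΦ b) = b := by
  refine sp_hom_ext (fun T ξ => ?_)
  rw [toΦ_app, ofΦ_app]
  change G'.obj.map (loIso g (σ g T)).inv.op
    (b.hom.app (op (lo g (σ g T))) (F.obj.map (Over.homMk (𝟙 _) (by simp) : lo g (σ g T) ⟶ T).op ξ)) =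
      b.hom.app (op T) ξ
  have h1 : b.hom.app (op (lo g (σ g T)))
      (F.obj.map (Over.homMk (𝟙 _) (by simp) : lo g (σ g T) ⟶ T).op ξ) =
      G'.obj.map ((Over.map g).map (Over.homMk (𝟙 _) (by simp) : lo g (σ g T) ⟶ T)).op
        (b.hom.app (op T) ξ) :=
    congrArg (fun m => m ξ) (congrArg (fun m => (ConcreteCategory.hom m))
      (b.hom.naturality (Over.homMk (𝟙 _) (by simp) : lo g (σ g T) ⟶ T).op))
  rw [h1, ← Functor.map_comp_apply, ← op_comp]
  have h2 : (loIso g (σ g T)).inv ≫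
      (Over.map g).map (Over.homMk (𝟙 _) (by simp) : lo g (σ g T) ⟶ T) = 𝟙 _ := by
    apply Over.OverMorphism.ext; simp [loIso]
  rw [h2, op_id, G'.obj.map_id]
  rfl

lemma ofΦ_toΦ {G' : AlgSp.Sp S'} (a : sig g F ⟶ G') : ofΦ (toΦ a) = a := by
  refine sp_hom_ext (fun T' x => ?_)
  rw [ofΦ_app, toΦ_app]
  have h1 : G'.obj.map (loIso g x.1).inv.op
      (a.hom.app (op ((Over.map g).obj (lo g x.1))) (mkSig (lo g x.1) x.2)) =
      a.hom.app (op T') ((sig g F).obj.map (loIso g x.1).inv.op (mkSig (lo g x.1) x.2)) :=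
    (congrArg (fun m => m (mkSig (lo g x.1) x.2)) (congrArg (fun m => (ConcreteCategory.hom m))
      (a.hom.naturality (loIso g x.1).inv.op))).symm
  rw [h1]
  congr 1
  exact (eq_sigMap_mkSig x).symm

lemma toΦ_comp {G' G₂ : AlgSp.Sp S'} (a : sig g F ⟶ G') (m : G' ⟶ G₂) :
    toΦ (a ≫ m) = toΦ a ≫ (Φ g).map m := by
  refine sp_hom_ext (fun T ξ => ?_)
  rfl

/-- the adjunction bijection for the model. -/
noncomputable def sigEquiv (F : AlgSp.Sp S) (G' : AlgSp.Sp S') :
    (sig g F ⟶ G') ≃ (F ⟶ (Φ g).obj G') where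
  toFun := toΦ
  invFun := ofΦ
  left_inv := ofΦ_toΦ
  right_inv := toΦ_ofΦ

variable (g) in
/-- the model as a functor. -/
noncomputable def sigF : AlgSp.Sp S ⥤ AlgSp.Sp S' :=
  Adjunction.leftAdjointOfEquiv (fun F G' => sigEquiv (g := g) F G') (fun _ _ _ m a => toΦ_comp a m)

variable (g) in
/-- the model is left adjoint to the restriction. -/
noncomputable def sigAdj : sigF g ⊣ Φ g :=
  Adjunction.adjunctionOfEquivLeft _ _

variable (g) in
/-- the abstract left adjoint of the restriction. -/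
noncomputable abbrev L : AlgSp.Sp S ⥤ AlgSp.Sp S' :=
  (Over.map g).sheafPullback (Type (u + 1)) (AlgSp.J S) (AlgSp.J S')

variable (g) in
/-- the adjunction `L ⊣ Φ`. -/
noncomputable def adjL : L g ⊣ Φ g :=
  Functor.sheafAdjunctionContinuous (Over.map g) (Type (u + 1)) (AlgSp.J S) (AlgSp.J S')

variable (g) in
/-- the abstract left adjoint is the model. -/
noncomputable def LIso : L g ≅ sigF g := (adjL g).leftAdjointUniq (sigAdj g)

end Groth.Agent.R2.H43.Shriek
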