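import Mathlib
import Groth.Prelude.Def_AlgSp
import Groth.Agent.R2.H43Shriek

/-!
# `j_!` and algebraic spaces (helper43)

Namespace `Groth.Agent.R2.H43.Shriek` (continued).  For `g : S ⟶ S'`, `j = Over.map g`.

* `π F : sig g F ⟶ h_S`, `δ c : h_{jT} ⟶ sig g F` for `c : h_T ⟶ F`, with `δ_π`, `δ_map`, `δ_injective`,
  `δ_lo`, `exists_δ`.
* `isPullback_δ`, `isPullback_of_δ`, `repWith_δ_iff`, `exists_isEqLocus_sig`, `isAlgSpace_sig`.
* `sigHom`, `sigHom_app`, `δ_comp`, `sigHom_π`, `δIso`, `LyonIso`, `isAlgSpace_L`, `L_map_eq`,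
  `repWith_L_map_iff`.
-/

set_option autoImplicit false
set_option linter.style.haveILetI false
universe u
open CategoryTheory CategoryTheory.Limits AlgebraicGeometry Opposite
open AlgSp

namespace Groth.Agent.R2.H43.Shriek

open Groth.Agent.S13210 Groth.Agent.S9900 Groth.Agent.S9874 Groth.Agent.R2.H43.OverBC
  Groth.Agent.R2.H43.Slice Groth.Agent.Lib.Helper12.ZarGlue

variable {S S' : Scheme.{u}} {g : S ⟶ S'}

/-- the structure map of the model to `h_S`. -/
noncomputable def π (F : AlgSp.Sp S) : sig g F ⟶ (AlgSp.yon S').obj (Over.mk g) :=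
  ObjectProperty.homMk
    { app := fun T' => ↾fun (x : SigObj g F T'.unop) => (⟨x.1⟩ : ULift (T'.unop ⟶ Over.mk g))
      naturality := by
        intro T₁ T₂ t
        ext (x : SigObj g F T₁.unop)
        rfl }

lemma π_app (F : AlgSp.Sp S) (T' : Over S') (x : SigObj g F T') :
    (π F).hom.app (op T') x = (⟨x.1⟩ : ULift (T' ⟶ Over.mk g)) := rfl

lemma yEquiv_yon_map {S₀ : Scheme.{u}} {X Y : Over S₀} (f : X ⟶ Y) :
    yEquiv X ((AlgSp.yon S₀).obj Y) ((AlgSp.yon S₀).map f) = (⟨f⟩ : ULift (X ⟶ Y)) := by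
  apply ULift.ext
  exact Category.id_comp f

variable {F : AlgSp.Sp S}

/-- the point of the model over `jT` given by a point of `F` over `T`. -/
noncomputable def δ {T : Over S} (c : (AlgSp.yon S).obj T ⟶ F) :
    (AlgSp.yon S').obj ((Over.map g).obj T) ⟶ sig g F :=
  (yEquiv _ (sig g F)).symm (mkSig T (yEquiv T F c))

lemma yEquiv_δ {T : Over S} (c : (AlgSp.yon S).obj T ⟶ F) :
    yEquiv _ (sig g F) (δ c) = mkSig T (yEquiv T F c) := Equiv.apply_symm_apply _ _

lemma δ_π {T : Over S} (c : (AlgSp.yon S).obj T ⟶ F) :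
    δ c ≫ π F = (AlgSp.yon S').map (σ g T) := by
  apply (yEquiv _ _).injective
  rw [yEquiv_comp, yEquiv_δ, yEquiv_yon_map]
  rfl

lemma δ_map {T₁ T : Over S} (t : T₁ ⟶ T) (c : (AlgSp.yon S).obj T ⟶ F) :
    (AlgSp.yon S').map ((Over.map g).map t) ≫ δ c = δ ((AlgSp.yon S).map t ≫ c) := by
  apply (yEquiv _ _).injective
  rw [← map_yEquiv, yEquiv_δ, yEquiv_δ, ← map_yEquiv]
  exact sigMap_mkSig t _

lemma pull_mkSig_id (T : Over S) (ξ : F.obj.obj (op T)) :
    pull (mkSig (g := g) T ξ) (𝟙 _) (by simp) = ξ := by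
  rw [pull_mkSig]
  have : desc (g := g) (𝟙 ((Over.map g).obj T)) (by simp) = 𝟙 T := by
    apply Over.OverMorphism.ext; simp [desc]
  rw [this, op_id, F.obj.map_id]
  rfl

lemma δ_injective {T : Over S} {c c' : (AlgSp.yon S).obj T ⟶ F} (h : δ (g := g) c = δ c') :
    c = c' := by
  apply (yEquiv T F).injective
  have h1 : mkSig (g := g) T (yEquiv T F c) = mkSig T (yEquiv T F c') := by
    rw [← yEquiv_δ, ← yEquiv_δ, h]
  have h2 := pull_congr h1 (𝟙 _) (by simp) (by simp)
  rwa [pull_mkSig_id, pull_mkSig_id] at h2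

lemma mkSig_pull_loIso {T' : Over S'} (x : SigObj g F T') :
    mkSig (lo g x.1) x.2 = sigMap g F (loIso g x.1).hom x := by
  refine sig_ext_pull (σ g (lo g x.1)) rfl (loIso_hom_comp _) ?_
  rw [pull_mkSig, pull_sigMap]
  obtain ⟨s, ζ⟩ := x
  change F.obj.map _ ζ = F.obj.map _ ζ
  exact map_congr_left F (by simp [desc, loIso]) ζ

lemma mkSig_pull {T' : Over S'} (x : SigObj g F T') (s : T' ⟶ Over.mk g) (hx : x.1 = s) :
    mkSig (lo g s) (pull x (loIso g s).hom (by rw [hx]; exact loIso_hom_comp s)) =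
      sigMap g F (loIso g s).hom x := by
  subst hx
  obtain ⟨s, ζ⟩ := x
  rw [pull_mk_loIso]
  exact mkSig_pull_loIso ⟨s, ζ⟩

lemma fst_of_π {T' : Over S'} (c' : (AlgSp.yon S').obj T' ⟶ sig g F) (s : T' ⟶ Over.mk g)
    (hs : (AlgSp.yon S').map s = c' ≫ π F) : (yEquiv _ (sig g F) c').1 = s := by
  have h1 := congrArg (yEquiv _ _) hs
  rw [yEquiv_yon_map, yEquiv_comp, π_app] at h1
  exact (congrArg ULift.down h1).symm

/-- every point of the model is of the form `δ c` up to an isomorphism of the source. -/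
lemma δ_lo {T' : Over S'} (c' : (AlgSp.yon S').obj T' ⟶ sig g F) (s : T' ⟶ Over.mk g)
    (hs : (AlgSp.yon S').map s = c' ≫ π F) :
    δ ((yEquiv (lo g s) F).symm (pull (yEquiv _ (sig g F) c') (loIso g s).hom
      (by rw [fst_of_π c' s hs]; exact loIso_hom_comp s))) =
      (AlgSp.yon S').map (loIso g s).hom ≫ c' := by
  apply (yEquiv _ _).injective
  rw [yEquiv_δ, Equiv.apply_symm_apply, ← map_yEquiv]
  exact mkSig_pull _ s (fst_of_π c' s hs)

lemma exists_δ {T' : Over S'} (c' : (AlgSp.yon S').obj T' ⟶ sig g F) :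
    ∃ (T : Over S) (i : (Over.map g).obj T ≅ T') (c : (AlgSp.yon S).obj T ⟶ F),
      δ c = (AlgSp.yon S').map i.hom ≫ c' := by
  obtain ⟨s, hs⟩ := (AlgSp.yon S').map_surjective (c' ≫ π F)
  exact ⟨lo g s, loIso g s, _, δ_lo c' s hs⟩

/-- represented pullback squares over `S` give represented pullback squares over `S'`. -/
theorem isPullback_δ {V U T : Over S} (φ : V ⟶ U) (ψ : V ⟶ T)
    (p : (AlgSp.yon S).obj U ⟶ F) (c : (AlgSp.yon S).obj T ⟶ F)
    (sq : IsPullback ((AlgSp.yon S).map φ) ((AlgSp.yon S).map ψ) p c) :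
    IsPullback ((AlgSp.yon S').map ((Over.map g).map φ)) ((AlgSp.yon S').map ((Over.map g).map ψ))
      (δ p) (δ c) := by
  have hw : (AlgSp.yon S').map ((Over.map g).map φ) ≫ δ p =
      (AlgSp.yon S').map ((Over.map g).map ψ) ≫ δ c := by
    rw [δ_map, δ_map, sq.w]
  refine isPullback_of_yon hw ?_
  intro T₁' b d hbd
  obtain ⟨β, rfl⟩ := (AlgSp.yon S').map_surjective b
  obtain ⟨θ, rfl⟩ := (AlgSp.yon S').map_surjective d
  have h1 : β ≫ σ g U = θ ≫ σ g T := by
    apply (AlgSp.yon S').map_injective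
    have := congrArg (fun m => m ≫ π F) hbd
    simpa only [Category.assoc, δ_π, ← Functor.map_comp] using this
  have hβ : ((loIso g (β ≫ σ g U)).hom ≫ β) ≫ σ g U = σ g (lo g (β ≫ σ g U)) := by
    rw [Category.assoc]; exact loIso_hom_comp _
  have hθ : ((loIso g (β ≫ σ g U)).hom ≫ θ) ≫ σ g T = σ g (lo g (β ≫ σ g U)) := by
    rw [Category.assoc, ← h1]; exact loIso_hom_comp _
  have hcomm : (AlgSp.yon S).map (desc _ hβ) ≫ p = (AlgSp.yon S).map (desc _ hθ) ≫ c := by
    apply δ_injective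
    rw [← δ_map, ← δ_map, map_desc, map_desc, Functor.map_comp, Functor.map_comp,
      Category.assoc, Category.assoc, hbd]
  obtain ⟨a₁, ha₁φ, ha₁ψ⟩ : ∃ a₁ : lo g (β ≫ σ g U) ⟶ V,
      a₁ ≫ φ = desc _ hβ ∧ a₁ ≫ ψ = desc _ hθ := by
    obtain ⟨l, hl⟩ := (AlgSp.yon S).map_surjective (sq.lift _ _ hcomm)
    refine ⟨l, (AlgSp.yon S).map_injective ?_, (AlgSp.yon S).map_injective ?_⟩
    · rw [Functor.map_comp, hl, sq.lift_fst]
    · rw [Functor.map_comp, hl, sq.lift_snd]
  refine ⟨(AlgSp.yon S').map ((loIso g (β ≫ σ g U)).inv ≫ (Over.map g).map a₁), ⟨?_, ?_⟩, ?_⟩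
  · rw [← Functor.map_comp, Category.assoc, ← Functor.map_comp, ha₁φ, map_desc,
      Iso.inv_hom_id_assoc]
  · rw [← Functor.map_comp, Category.assoc, ← Functor.map_comp, ha₁ψ, map_desc,
      Iso.inv_hom_id_assoc]
  · rintro a' ⟨h1', h2'⟩
    obtain ⟨α, rfl⟩ := (AlgSp.yon S').map_surjective a'
    congr 1
    have e1 : α ≫ (Over.map g).map φ = β :=
      (AlgSp.yon S').map_injective (by rw [Functor.map_comp]; exact h1')
    have e2 : α ≫ (Over.map g).map ψ = θ :=
      (AlgSp.yon S').map_injective (by rw [Functor.map_comp]; exact h2')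
    have hα : ((loIso g (β ≫ σ g U)).hom ≫ α) ≫ σ g V = σ g (lo g (β ≫ σ g U)) := by
      rw [← map_σ g φ, Category.assoc, ← Category.assoc α, e1]
      exact hβ
    have hd : desc _ hα = a₁ := by
      apply (AlgSp.yon S).map_injective
      apply sq.hom_ext
      · rw [← Functor.map_comp, ← Functor.map_comp, ha₁φ]
        congr 1
        apply map_injective g
        rw [Functor.map_comp, map_desc, map_desc, Category.assoc, e1]
      · rw [← Functor.map_comp, ← Functor.map_comp, ha₁ψ]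
        congr 1
        apply map_injective g
        rw [Functor.map_comp, map_desc, map_desc, Category.assoc, e2]
    rw [← hd, map_desc, Iso.inv_hom_id_assoc]

/-- represented pullback squares over `S'` of the above form come from pullback squares over `S`. -/
theorem isPullback_of_δ {V U T : Over S} (φ : V ⟶ U) (ψ : V ⟶ T)
    (p : (AlgSp.yon S).obj U ⟶ F) (c : (AlgSp.yon S).obj T ⟶ F)
    (sq' : IsPullback ((AlgSp.yon S').map ((Over.map g).map φ))
      ((AlgSp.yon S').map ((Over.map g).map ψ)) (δ p) (δ c)) :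
    IsPullback ((AlgSp.yon S).map φ) ((AlgSp.yon S).map ψ) p c := by
  have hw : (AlgSp.yon S).map φ ≫ p = (AlgSp.yon S).map ψ ≫ c := by
    apply δ_injective
    rw [← δ_map, ← δ_map]
    exact sq'.w
  refine isPullback_of_yon hw ?_
  intro T₁ b d hbd
  obtain ⟨β, rfl⟩ := (AlgSp.yon S).map_surjective b
  obtain ⟨θ, rfl⟩ := (AlgSp.yon S).map_surjective d
  have hbd' : (AlgSp.yon S').map ((Over.map g).map β) ≫ δ p =
      (AlgSp.yon S').map ((Over.map g).map θ) ≫ δ c := by
    rw [δ_map, δ_map, hbd]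
  obtain ⟨α, hα⟩ := (AlgSp.yon S').map_surjective (sq'.lift _ _ hbd')
  have e1 : α ≫ (Over.map g).map φ = (Over.map g).map β :=
    (AlgSp.yon S').map_injective (by rw [Functor.map_comp, hα, sq'.lift_fst])
  have e2 : α ≫ (Over.map g).map ψ = (Over.map g).map θ :=
    (AlgSp.yon S').map_injective (by rw [Functor.map_comp, hα, sq'.lift_snd])
  have hασ : α ≫ σ g V = σ g T₁ := by
    rw [← map_σ g φ, ← Category.assoc, e1, map_σ]
  refine ⟨(AlgSp.yon S).map (desc α hασ), ⟨?_, ?_⟩, ?_⟩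
  · rw [← Functor.map_comp]
    congr 1
    apply map_injective g
    rw [Functor.map_comp, map_desc, e1]
  · rw [← Functor.map_comp]
    congr 1
    apply map_injective g
    rw [Functor.map_comp, map_desc, e2]
  · rintro a' ⟨h1', h2'⟩
    obtain ⟨a, rfl⟩ := (AlgSp.yon S).map_surjective a'
    congr 1
    apply map_injective g
    rw [map_desc]
    apply (AlgSp.yon S').map_injective
    apply sq'.hom_ext
    · have hab : a ≫ φ = β := (AlgSp.yon S).map_injective (by rw [Functor.map_comp]; exact h1')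
      rw [← (AlgSp.yon S').map_comp, ← (AlgSp.yon S').map_comp, e1, ← (Over.map g).map_comp, hab]
    · have hab : a ≫ ψ = θ := (AlgSp.yon S).map_injective (by rw [Functor.map_comp]; exact h2')
      rw [← (AlgSp.yon S').map_comp, ← (AlgSp.yon S').map_comp, e2, ← (Over.map g).map_comp, hab]

/-- `δ p` is representable with `P` iff `p` is. -/
theorem repWith_δ_iff (P : MorphismProperty Scheme.{u}) [P.IsStableUnderBaseChange]
    {U : Over S} (p : (AlgSp.yon S).obj U ⟶ F) :
    AlgSp.RepWith P (δ (g := g) p) ↔ AlgSp.RepWith P p := by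
  haveI : P.RespectsIso := MorphismProperty.IsStableUnderBaseChange.respectsIso
  constructor
  · intro hp
    refine MorphismProperty.relative.of_exists (fun T c => ?_)
    obtain ⟨V', snd', fst', sq'⟩ := hp.1 (δ c)
    obtain ⟨φ', rfl⟩ := (AlgSp.yon S').map_surjective fst'
    have h1 : φ' ≫ σ g U = snd' ≫ σ g T := by
      apply (AlgSp.yon S').map_injective
      have := congrArg (fun m => m ≫ π F) sq'.w
      simpa only [Category.assoc, δ_π, ← Functor.map_comp] using this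
    have hφ : ((liftIso snd').hom ≫ φ') ≫ σ g U = σ g (liftOver g snd') := by
      rw [Category.assoc, h1, ← Category.assoc, liftIso_hom_comp, map_σ]
    have sq'' : IsPullback ((AlgSp.yon S').map ((Over.map g).map (desc _ hφ)))
        ((AlgSp.yon S').map ((Over.map g).map (liftSnd snd'))) (δ p) (δ c) := by
      rw [map_desc, ← liftIso_hom_comp]
      exact IsPullback.of_iso sq' ((AlgSp.yon S').mapIso (liftIso snd')).symm (Iso.refl _)
        (Iso.refl _) (Iso.refl _) (by simp) (by simp) (by simp) (by simp)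
    exact ⟨liftOver g snd', _, liftSnd snd', isPullback_of_δ _ _ p c sq'', hp.2 _ _ _ sq'⟩
  · intro hp
    refine MorphismProperty.relative.of_exists (fun T' c' => ?_)
    obtain ⟨T, i, c, hc⟩ := exists_δ c'
    obtain ⟨V, ψ, fst, sq⟩ := hp.1 c
    obtain ⟨φ, rfl⟩ := (AlgSp.yon S).map_surjective fst
    have sq1 := isPullback_δ (g := g) φ ψ p c sq
    rw [hc] at sq1
    refine ⟨(Over.map g).obj V, (AlgSp.yon S').map ((Over.map g).map φ),
      (Over.map g).map ψ ≫ i.hom, ?_, ?_⟩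
    · exact IsPullback.of_iso sq1 (Iso.refl _) (Iso.refl _) ((AlgSp.yon S').mapIso i) (Iso.refl _)
        (by simp) (by simp) (by simp) (by simp)
    · show P ((Over.map g).map ψ ≫ i.hom).left
      rw [Over.comp_left]
      haveI : IsIso i.hom.left := (Over.forget S').map_isIso i.hom
      rw [P.cancel_right_of_respectsIso]
      exact hp.2 _ _ _ sq

/-- equalizer loci in the model exist when the diagonal of `F` is representable. -/
lemma exists_isEqLocus_sig 
    (hΦ : AlgSp.Representable (Limits.diag (F))) {T' : Over S'}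
    (a' b' : (AlgSp.yon S').obj T' ⟶ sig g F) :
    ∃ (E' : Over S') (e' : E' ⟶ T'), IsEqLocus a' b' e' := by
  obtain ⟨E₁, ι₁, h₁⟩ := exists_isEqLocus (AlgSp.IsAlgSpace.yon_obj (Over.mk g)).diag
    (a' ≫ π F) (b' ≫ π F)
  haveI : Mono ι₁ := h₁.1
  obtain ⟨s₁, hs₁⟩ := (AlgSp.yon S').map_surjective ((AlgSp.yon S').map ι₁ ≫ a' ≫ π F)
  have hs₁b : (AlgSp.yon S').map s₁ = (AlgSp.yon S').map ι₁ ≫ b' ≫ π F := hs₁.trans h₁.eq
  obtain ⟨a₁, ha₁⟩ : ∃ a₁ : (AlgSp.yon S).obj (lo g s₁) ⟶ F,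
      δ a₁ = (AlgSp.yon S').map (loIso g s₁).hom ≫ (AlgSp.yon S').map ι₁ ≫ a' :=
    ⟨_, δ_lo ((AlgSp.yon S').map ι₁ ≫ a') s₁ (by rw [hs₁, Category.assoc])⟩
  obtain ⟨b₁, hb₁⟩ : ∃ b₁ : (AlgSp.yon S).obj (lo g s₁) ⟶ F,
      δ b₁ = (AlgSp.yon S').map (loIso g s₁).hom ≫ (AlgSp.yon S').map ι₁ ≫ b' :=
    ⟨_, δ_lo ((AlgSp.yon S').map ι₁ ≫ b') s₁ (by rw [hs₁b, Category.assoc])⟩
  obtain ⟨E₂, e₂, h₂⟩ := exists_isEqLocus hΦ a₁ b₁
  haveI : Mono e₂ := h₂.1
  have he₂ := h₂.eq
  refine ⟨(Over.map g).obj E₂, (Over.map g).map e₂ ≫ (loIso g s₁).hom ≫ ι₁, ?_, fun W' t => ?_⟩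
  · haveI : Mono ((Over.map g).map e₂) := by
      haveI : Mono e₂.left := Over.mono_left_of_mono e₂
      haveI : Mono ((Over.map g).map e₂).left := by simpa using (inferInstance : Mono e₂.left)
      exact Over.mono_of_mono_left _
    exact mono_comp _ _
  · constructor
    · intro hab
      have hab1 : (AlgSp.yon S').map t ≫ a' ≫ π F = (AlgSp.yon S').map t ≫ b' ≫ π F := by
        rw [← Category.assoc, hab, Category.assoc]
      obtain ⟨t₁, rfl⟩ := (h₁.2 W' t).1 hab1
      have hm : ((loIso g (t₁ ≫ s₁)).hom ≫ t₁ ≫ (loIso g s₁).inv) ≫ σ g (lo g s₁) =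
          σ g (lo g (t₁ ≫ s₁)) := by
        rw [Category.assoc, Category.assoc, loIso_inv_comp, loIso_hom_comp]
      have e : ∀ x : (AlgSp.yon S').obj T' ⟶ sig g F,
          (AlgSp.yon S').map ((loIso g (t₁ ≫ s₁)).hom ≫ t₁ ≫ (loIso g s₁).inv) ≫
            (AlgSp.yon S').map (loIso g s₁).hom ≫ (AlgSp.yon S').map ι₁ ≫ x =
          (AlgSp.yon S').map (loIso g (t₁ ≫ s₁)).hom ≫ (AlgSp.yon S').map (t₁ ≫ ι₁) ≫ x := by
        intro x
        simp only [← Category.assoc, ← Functor.map_comp]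
        congr 2
      have hw : (AlgSp.yon S).map (desc _ hm) ≫ a₁ = (AlgSp.yon S).map (desc _ hm) ≫ b₁ := by
        apply δ_injective
        rw [← δ_map, ← δ_map, map_desc, ha₁, hb₁, e, e, hab]
      obtain ⟨w₂, hw₂⟩ := (h₂.2 _ (desc _ hm)).1 hw
      refine ⟨(loIso g (t₁ ≫ s₁)).inv ≫ (Over.map g).map w₂, ?_⟩
      rw [Category.assoc, ← Category.assoc ((Over.map g).map w₂), ← Functor.map_comp, hw₂, map_desc]
      simp
    · rintro ⟨t', rfl⟩
      have h3 : (AlgSp.yon S').map ((Over.map g).map e₂ ≫ (loIso g s₁).hom ≫ ι₁) ≫ a' =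
          (AlgSp.yon S').map ((Over.map g).map e₂ ≫ (loIso g s₁).hom ≫ ι₁) ≫ b' := by
        rw [Functor.map_comp, Functor.map_comp, Category.assoc, Category.assoc, Category.assoc,
          Category.assoc, ← ha₁, ← hb₁, δ_map, δ_map, he₂]
      rw [Functor.map_comp, Category.assoc, Category.assoc, h3]


/-- the model of `j_!` of an algebraic space is an algebraic space. -/
theorem isAlgSpace_sig (hF : AlgSp.IsAlgSpace F) : AlgSp.IsAlgSpace (sig g F) := by
  refine ⟨representable_diag_of_isEqLocus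
    (fun {T'} a' b' => exists_isEqLocus_sig hF.diag a' b'), ?_⟩
  obtain ⟨U, p, hpe, hps⟩ := hF.atlas
  exact ⟨(Over.map g).obj U, δ p, (repWith_δ_iff _ p).2 hpe, (repWith_δ_iff _ p).2 hps⟩

/-- the action of the model on morphisms. -/
noncomputable def sigHom {F G : AlgSp.Sp S} (m : F ⟶ G) : sig g F ⟶ sig g G :=
  ofΦ (m ≫ toΦ (𝟙 (sig g G)))

lemma sigF_obj (F : AlgSp.Sp S) : (sigF g).obj F = sig g F := rfl

lemma sigF_map_eq {F G : AlgSp.Sp S} (m : F ⟶ G) :
    (sigF g).map m = sigHom m := rfl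

lemma sigHom_app {F G : AlgSp.Sp S} (m : F ⟶ G) (T' : Over S') (x : SigObj g F T') :
    (sigHom (g := g) m).hom.app (op T') x =
      (⟨x.1, m.hom.app (op (lo g x.1)) x.2⟩ : SigObj g G T') := by
  unfold sigHom
  rw [ofΦ_app]
  change (sig g G).obj.map (loIso g x.1).inv.op
    (mkSig (lo g x.1) (m.hom.app (op (lo g x.1)) x.2)) = _
  exact (eq_sigMap_mkSig (⟨x.1, m.hom.app (op (lo g x.1)) x.2⟩ : SigObj g G T')).symm

lemma δ_comp {F G : AlgSp.Sp S} {T : Over S} (c : (AlgSp.yon S).obj T ⟶ F) (m : F ⟶ G) :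
    δ c ≫ sigHom (g := g) m = δ (c ≫ m) := by
  apply (yEquiv _ _).injective
  rw [yEquiv_comp, yEquiv_δ, yEquiv_δ, yEquiv_comp, sigHom_app]
  change (⟨σ g T, m.hom.app _ (F.obj.map _ (yEquiv T F c))⟩ : SigObj g G _) =
    ⟨σ g T, G.obj.map _ (m.hom.app _ (yEquiv T F c))⟩
  congr 1
  exact congrArg (fun k => k (yEquiv T F c)) (congrArg (fun k => (ConcreteCategory.hom k))
    (m.hom.naturality (Over.homMk (𝟙 _) (by simp) : lo g (σ g T) ⟶ T).op))

lemma sigHom_π {F G : AlgSp.Sp S} (m : F ⟶ G) : sigHom (g := g) m ≫ π G = π F := by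
  refine sp_hom_ext (fun T' x => ?_)
  change (π G).hom.app (op T') ((sigHom m).hom.app (op T') x) = _
  rw [sigHom_app]
  rfl

lemma δ_eq_adj {T : Over S} (c : (AlgSp.yon S).obj T ⟶ F) :
    δ c = adj T (sig g F) (c ≫ toΦ (𝟙 (sig g F))) := by
  apply (yEquiv _ _).injective
  rw [yEquiv_δ]
  have h : yEquiv T ((Φ g).obj (sig g F)) (c ≫ toΦ (𝟙 (sig g F))) = mkSig T (yEquiv T F c) := by
    rw [yEquiv_comp, toΦ_app]
    rfl
  exact ((Equiv.apply_symm_apply (yEquiv _ (sig g F)) _).trans h).symm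

/-- the model of `j_!` of a representable sheaf is representable. -/
noncomputable def δIso (T : Over S) :
    (AlgSp.yon S').obj ((Over.map g).obj T) ≅ sig g ((AlgSp.yon S).obj T) where
  hom := δ (𝟙 _)
  inv := ofΦ ((adj T _).symm (𝟙 _))
  hom_inv_id := by
    rw [δ_eq_adj, ← adj_comp, Category.id_comp, ← toΦ_comp, Category.id_comp, toΦ_ofΦ,
      Equiv.apply_symm_apply]
  inv_hom_id := by
    apply (sigEquiv (g := g) _ _).injective
    change toΦ _ = toΦ _
    rw [toΦ_comp, toΦ_ofΦ]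
    apply (adj T _).injective
    rw [adj_comp, Equiv.apply_symm_apply, Category.id_comp, δ_eq_adj, Category.id_comp]

lemma δIso_hom_sigHom {T : Over S} (c : (AlgSp.yon S).obj T ⟶ F) :
    (δIso (g := g) T).hom ≫ sigHom c = δ c := by
  change δ (𝟙 _) ≫ sigHom c = δ c
  rw [δ_comp, Category.id_comp]

/-- `j_!` of a representable sheaf is representable. -/
noncomputable def LyonIso (T : Over S) :
    (AlgSp.yon S').obj ((Over.map g).obj T) ≅ (L g).obj ((AlgSp.yon S).obj T) :=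
  δIso T ≪≫ ((LIso g).app ((AlgSp.yon S).obj T)).symm

/-- `j_!` of an algebraic space is an algebraic space. -/
theorem isAlgSpace_L (hF : AlgSp.IsAlgSpace F) : AlgSp.IsAlgSpace ((L g).obj F) :=
  (isAlgSpace_sig (g := g) hF).of_iso ((LIso g).app F).symm

lemma L_map_eq {F G : AlgSp.Sp S} (m : F ⟶ G) :
    (L g).map m = ((LIso g).app F).hom ≫ sigHom m ≫ ((LIso g).app G).inv := by
  have := (LIso g).hom.naturality m
  rw [← Category.assoc, Iso.eq_comp_inv]
  exact this

theorem repWith_L_map_iff (P : MorphismProperty Scheme.{u}) [P.IsStableUnderBaseChange]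
    {T : Over S} (f : (AlgSp.yon S).obj T ⟶ F) :
    AlgSp.RepWith (S := S') P ((L g).map f) ↔ AlgSp.RepWith P f := by
  haveI : P.RespectsIso := MorphismProperty.IsStableUnderBaseChange.respectsIso
  rw [L_map_eq]
  refine (MorphismProperty.cancel_left_of_respectsIso (AlgSp.RepWith P)
    ((LIso g).app ((AlgSp.yon S).obj T)).hom _).trans ?_
  refine (MorphismProperty.cancel_right_of_respectsIso (AlgSp.RepWith P) (sigHom f)
    ((LIso g).app F).inv).trans ?_
  refine Iff.trans ?_ (repWith_δ_iff (g := g) P f)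
  rw [← δIso_hom_sigHom]
  exact (MorphismProperty.cancel_left_of_respectsIso (AlgSp.RepWith P) (δIso (g := g) T).hom
    (sigHom f)).symm

end Groth.Agent.R2.H43.Shriek
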