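import Mathlib
import Groth.Prelude.Def_AlgSp
import Groth.Agent.R2.H43Shriek2

/-!
# `j_!` as an equivalence onto the slice over `h_S` (helper43)

Namespace `Groth.Agent.R2.H43.Shriek` (continued).  For `g : S ⟶ S'`.

* `sig_hom_ext`, `sigHom_injective`, `exists_sigHom` : `F ↦ (sig g F ⟶ h_S)` is fully faithful.
* `lower p`, `lowerHom p`, `isIso_lowerHom`, `lowerIso` : for `p : F' ⟶ h_S`, the sheaf
  `j⁻¹F' ×_{j⁻¹ h_S} pt` over `S` and the isomorphism from its model to `F'`.
* `Λ g : Space S ⥤ Over (h_S)`, an equivalence, with `ΛIso g` comparing it with `Functor.sheafPullback`.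
-/

set_option autoImplicit false
set_option linter.style.haveILetI false
universe u
open CategoryTheory CategoryTheory.Limits AlgebraicGeometry Opposite
open AlgSp

namespace Groth.Agent.R2.H43.Shriek

open Groth.Agent.S13210 Groth.Agent.S9900 Groth.Agent.S9874 Groth.Agent.R2.H43.OverBC
  Groth.Agent.R2.H43.Slice Groth.Agent.Lib.Helper12.ZarGlue

variable {S S' : Scheme.{u}} {g : S ⟶ S'}

section Points

variable {F G : AlgSp.Sp S}

/-- maps out of the model are determined by their values on the points `δ c`. -/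
lemma sig_hom_ext {G' : AlgSp.Sp S'} {a b : sig g F ⟶ G'}
    (h : ∀ (T : Over S) (c : (AlgSp.yon S).obj T ⟶ F), δ c ≫ a = δ c ≫ b) : a = b := by
  apply (sigEquiv (g := g) _ _).injective
  change toΦ a = toΦ b
  refine sp_hom_ext (fun T ξ => ?_)
  rw [toΦ_app, toΦ_app]
  have h1 := congrArg (yEquiv _ _) (h T ((yEquiv T F).symm ξ))
  rw [yEquiv_comp, yEquiv_comp, yEquiv_δ, Equiv.apply_symm_apply] at h1
  exact h1

lemma sp_hom_ext_yon {S₀ : Scheme.{u}} {A B : AlgSp.Sp S₀} {a b : A ⟶ B}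
    (h : ∀ (T : Over S₀) (c : (AlgSp.yon S₀).obj T ⟶ A), c ≫ a = c ≫ b) : a = b := by
  refine sp_hom_ext (fun T ξ => ?_)
  have h1 := congrArg (yEquiv _ _) (h T ((yEquiv T A).symm ξ))
  rw [yEquiv_comp, yEquiv_comp, Equiv.apply_symm_apply] at h1
  exact h1

lemma sigHom_injective {m m' : F ⟶ G} (h : sigHom (g := g) m = sigHom m') : m = m' := by
  refine sp_hom_ext_yon (fun T c => ?_)
  apply δ_injective (g := g)
  rw [← δ_comp, ← δ_comp, h]

lemma δ_ofΦ {G' : AlgSp.Sp S'} {T : Over S} (c : (AlgSp.yon S).obj T ⟶ F)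
    (b : F ⟶ (Φ g).obj G') : δ c ≫ ofΦ b = adj T G' (c ≫ b) := by
  rw [δ_eq_adj, ← adj_comp, Category.assoc, ← toΦ_comp, Category.id_comp, toΦ_ofΦ]

lemma mkSig_pull_id {T : Over S} (x : SigObj g F ((Over.map g).obj T)) (hx : x.1 = σ g T) :
    mkSig T (pull x (𝟙 _) (by rw [Category.id_comp, hx])) = x := by
  refine sig_ext_pull (σ g T) rfl hx ?_
  rw [pull_mkSig, map_pull]
  exact pull_congr_hom _ (by rw [map_desc, Category.comp_id]) _ _

/-- a point of the model over `jT` lying over `σ T` is of the form `δ c`. -/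
lemma exists_δ_of_π {T : Over S} (c' : (AlgSp.yon S').obj ((Over.map g).obj T) ⟶ sig g F)
    (h : c' ≫ π F = (AlgSp.yon S').map (σ g T)) : ∃ c : (AlgSp.yon S).obj T ⟶ F, δ c = c' := by
  have hx : (yEquiv _ (sig g F) c').1 = σ g T := fst_of_π c' (σ g T) h.symm
  refine ⟨(yEquiv T F).symm (pull (yEquiv _ (sig g F) c') (𝟙 _) (by rw [Category.id_comp, hx])), ?_⟩
  apply (yEquiv _ _).injective
  rw [yEquiv_δ, Equiv.apply_symm_apply]
  exact mkSig_pull_id _ hx

/-- the components of the morphism of sheaves underlying a morphism of models over `h_S`. -/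
def mApp (a : sig g F ⟶ sig g G)
    (hfst : ∀ (T' : Over S') (x : SigObj g F T'), (a.hom.app (op T') x).1 = x.1)
    (T : Over S) (ξ : F.obj.obj (op T)) : G.obj.obj (op T) :=
  pull (a.hom.app (op ((Over.map g).obj T)) (mkSig T ξ)) (𝟙 _)
    (by rw [Category.id_comp, hfst]; rfl)

lemma mApp_map (a : sig g F ⟶ sig g G)
    (hfst : ∀ (T' : Over S') (x : SigObj g F T'), (a.hom.app (op T') x).1 = x.1)
    {T₁ T : Over S} (t : T₁ ⟶ T) (ξ : F.obj.obj (op T)) :
    mApp a hfst T₁ (F.obj.map t.op ξ) = G.obj.map t.op (mApp a hfst T ξ) := by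
  have hnat : a.hom.app (op ((Over.map g).obj T₁)) (sigMap g F ((Over.map g).map t) (mkSig T ξ)) =
      sigMap g G ((Over.map g).map t) (a.hom.app (op ((Over.map g).obj T)) (mkSig T ξ)) :=
    congrArg (fun k => k (mkSig T ξ)) (congrArg (fun k => (ConcreteCategory.hom k))
      (a.hom.naturality ((Over.map g).map t).op))
  unfold mApp
  rw [map_pull]
  have h1 : a.hom.app (op ((Over.map g).obj T₁)) (mkSig T₁ (F.obj.map t.op ξ)) =
      sigMap g G ((Over.map g).map t) (a.hom.app _ (mkSig T ξ)) := by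
    rw [← hnat, sigMap_mkSig]
  rw [pull_congr h1 (𝟙 _) _ (by
    rw [Category.id_comp, sigMap_fst, hfst]; exact map_σ g t), pull_sigMap]
  exact pull_congr_hom _ (by simp) _ _

/-- morphisms of models over `h_S` come from morphisms of sheaves. -/
lemma exists_sigHom (a : sig g F ⟶ sig g G) (ha : a ≫ π G = π F) :
    ∃ m : F ⟶ G, sigHom m = a := by
  have hfst : ∀ (T' : Over S') (x : SigObj g F T'), (a.hom.app (op T') x).1 = x.1 := by
    intro T' x
    have := congrArg (fun k => (k.hom.app (op T') x)) ha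
    exact congrArg ULift.down this
  let m : F ⟶ G := ObjectProperty.homMk
    { app := fun T => ↾fun ξ => mApp a hfst T.unop ξ
      naturality := by
        intro T T₁ t
        ext ξ
        exact mApp_map a hfst t.unop ξ }
  refine ⟨m, sig_hom_ext (fun T c => ?_)⟩
  rw [δ_comp]
  apply (yEquiv _ _).injective
  rw [yEquiv_δ, yEquiv_comp, yEquiv_comp, yEquiv_δ]
  exact mkSig_pull_id _ (by rw [hfst]; rfl)

end Points

section EssSurj

variable {F' : AlgSp.Sp S'} (p : F' ⟶ (AlgSp.yon S').obj (Over.mk g))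

variable (g) in
/-- the canonical section of `j⁻¹ h_S`. -/
noncomputable def σbar :
    (AlgSp.yon S).obj (Over.mk (𝟙 S)) ⟶ (Φ g).obj ((AlgSp.yon S').obj (Over.mk g)) :=
  (adj _ _).symm ((AlgSp.yon S').map (σ g (Over.mk (𝟙 S))))

lemma yon_pt_ext {Z : Over S} (a b : (AlgSp.yon S).obj Z ⟶ (AlgSp.yon S).obj (Over.mk (𝟙 S))) :
    a = b := by
  obtain ⟨a, rfl⟩ := (AlgSp.yon S).map_surjective a
  obtain ⟨b, rfl⟩ := (AlgSp.yon S).map_surjective b
  rw [Over.mkIdTerminal.hom_ext a b]

lemma adj_σbar {Z : Over S} (t : (AlgSp.yon S).obj Z ⟶ (AlgSp.yon S).obj (Over.mk (𝟙 S))) :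
    adj Z _ (t ≫ σbar g) = (AlgSp.yon S').map (σ g Z) := by
  obtain ⟨t, rfl⟩ := (AlgSp.yon S).map_surjective t
  rw [adj_map, σbar, Equiv.apply_symm_apply, ← Functor.map_comp, map_σ]

/-- the sheaf over `S` defined by a sheaf over `S'` with a map to `h_S`. -/
noncomputable def lower : AlgSp.Sp S := pullback ((Φ g).map p) (σbar g)

lemma isAlgSpace_lower (hF' : AlgSp.IsAlgSpace F') : AlgSp.IsAlgSpace (lower p) :=
  isAlgSpace_of_isPullback (isAlgSpace_Φ (AlgSp.IsAlgSpace.yon_obj (Over.mk g))).diag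
    (isAlgSpace_Φ hF') (AlgSp.IsAlgSpace.yon_obj _) (IsPullback.of_hasPullback _ _)

/-- the first projection. -/
noncomputable def lowerFst : lower p ⟶ (Φ g).obj F' := pullback.fst ((Φ g).map p) (σbar g)

/-- the second projection. -/
noncomputable def lowerSnd : lower p ⟶ (AlgSp.yon S).obj (Over.mk (𝟙 S)) :=
  pullback.snd ((Φ g).map p) (σbar g)

lemma lower_condition : lowerFst p ≫ (Φ g).map p = lowerSnd p ≫ σbar g := pullback.condition

/-- the comparison map. -/
noncomputable def lowerHom : sig g (lower p) ⟶ F' := ofΦ (lowerFst p)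

lemma δ_lowerHom {T : Over S} (c : (AlgSp.yon S).obj T ⟶ lower p) :
    δ c ≫ lowerHom p = adj T F' (c ≫ lowerFst p) :=
  δ_ofΦ c _

lemma lowerHom_p : lowerHom p ≫ p = π (lower p) := by
  refine sig_hom_ext (fun T c => ?_)
  rw [δ_π, ← Category.assoc, δ_lowerHom, ← adj_comp, Category.assoc, lower_condition,
    ← Category.assoc, adj_σbar]

lemma exists_lift_lower {Z : Over S} (b : (AlgSp.yon S).obj Z ⟶ (Φ g).obj F')
    (hb : adj Z _ b ≫ p = (AlgSp.yon S').map (σ g Z)) :
    ∃ c : (AlgSp.yon S).obj Z ⟶ lower p, c ≫ lowerFst p = b := by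
  have h : b ≫ (Φ g).map p = (AlgSp.yon S).map (Over.mkIdTerminal.from Z) ≫ σbar g := by
    apply (adj Z _).injective
    rw [adj_comp, hb, adj_σbar]
  exact ⟨pullback.lift b _ h, pullback.lift_fst b _ h⟩

lemma lower_hom_ext {Z : Over S} {c₁ c₂ : (AlgSp.yon S).obj Z ⟶ lower p}
    (h : c₁ ≫ lowerFst p = c₂ ≫ lowerFst p) :
    c₁ = c₂ :=
  pullback.hom_ext h (yon_pt_ext _ _)

theorem isIso_lowerHom : IsIso (lowerHom p) := by
  have sq : IsPullback (lowerHom p) (lowerHom p) (𝟙 F') (𝟙 F') := by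
    refine isPullback_of_yon rfl ?_
    intro T' b c hbc
    rw [Category.comp_id, Category.comp_id] at hbc
    subst hbc
    obtain ⟨s, hs⟩ := (AlgSp.yon S').map_surjective (b ≫ p)
    have hb₀ : adj (lo g s) F' ((adj (lo g s) F').symm ((AlgSp.yon S').map (loIso g s).hom ≫ b)) ≫ p =
        (AlgSp.yon S').map (σ g (lo g s)) := by
      rw [Equiv.apply_symm_apply, Category.assoc, ← hs, ← Functor.map_comp, loIso_hom_comp]
    obtain ⟨c, hc⟩ := exists_lift_lower p _ hb₀
    have hδc : δ c ≫ lowerHom p = (AlgSp.yon S').map (loIso g s).hom ≫ b := by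
      rw [δ_lowerHom, hc, Equiv.apply_symm_apply]
    have hex : ((AlgSp.yon S').map (loIso g s).inv ≫ δ c) ≫ lowerHom p = b := by
      rw [Category.assoc, hδc, ← Category.assoc, ← Functor.map_comp, Iso.inv_hom_id,
        CategoryTheory.Functor.map_id, Category.id_comp]
    refine ⟨(AlgSp.yon S').map (loIso g s).inv ≫ δ c, ⟨hex, hex⟩, ?_⟩
    rintro a₁ ⟨ha₁, -⟩
    have hs₁ : (AlgSp.yon S').map s = a₁ ≫ π (lower p) := by
      rw [← lowerHom_p, ← Category.assoc, ha₁, hs]
    have h1 := δ_lo a₁ s hs₁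
    have h2 : (yEquiv (lo g s) (lower p)).symm (pull (yEquiv _ (sig g (lower p)) a₁) (loIso g s).hom
        (by rw [fst_of_π a₁ s hs₁]; exact loIso_hom_comp s)) = c := by
      apply lower_hom_ext p
      apply (adj _ F').injective
      rw [← δ_lowerHom, h1, Category.assoc, ha₁, ← hδc, δ_lowerHom]
    rw [h2] at h1
    rw [h1, ← Category.assoc, ← Functor.map_comp, Iso.inv_hom_id, CategoryTheory.Functor.map_id, Category.id_comp]
  exact sq.isIso_fst_of_isIso

/-- the comparison isomorphism. -/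
noncomputable def lowerIso : sig g (lower p) ≅ F' :=
  @asIso _ _ _ _ (lowerHom p) (isIso_lowerHom p)

lemma lowerIso_hom : (lowerIso p).hom = lowerHom p := rfl

end EssSurj

section Equivalence

variable (g)

/-- `h_S` as an algebraic space over `S'`. -/
noncomputable abbrev hS : AlgSp.Space S' := (AlgSp.ofScheme S').obj (Over.mk g)

/-- the model of `j_!` of an algebraic space, as an algebraic space. -/
noncomputable abbrev sigSpace (F : AlgSp.Space S) : AlgSp.Space S' :=
  ⟨sig g F.obj, isAlgSpace_sig F.property⟩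

/-- `F ↦ (j_! F ⟶ h_S)` on objects. -/
noncomputable def ΛObj (F : AlgSp.Space S) : Over (hS g) :=
  Over.mk (Y := sigSpace g F) (ObjectProperty.homMk (π F.obj) : sigSpace g F ⟶ hS g)

/-- `F ↦ (j_! F ⟶ h_S)` on morphisms. -/
noncomputable def ΛMap {F G : AlgSp.Space S} (m : F ⟶ G) : ΛObj g F ⟶ ΛObj g G :=
  Over.homMk (ObjectProperty.homMk (sigHom m.hom) : sigSpace g F ⟶ sigSpace g G) (by
    apply ObjectProperty.hom_ext
    change sigHom m.hom ≫ π G.obj = π F.obj
    exact sigHom_π m.hom)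

lemma ΛMap_left_hom {F G : AlgSp.Space S} (m : F ⟶ G) : (ΛMap g m).left.hom = sigHom m.hom := rfl

/-- the functor `F ↦ (j_! F ⟶ h_S)`. -/
noncomputable def Λ : AlgSp.Space S ⥤ Over (hS g) where
  obj F := ΛObj g F
  map m := ΛMap g m
  map_id F := by
    apply Over.OverMorphism.ext
    apply ObjectProperty.hom_ext
    rw [ΛMap_left_hom]
    exact (sigF g).map_id F.obj
  map_comp m n := by
    apply Over.OverMorphism.ext
    apply ObjectProperty.hom_ext
    rw [ΛMap_left_hom]
    exact (sigF g).map_comp m.hom n.hom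

instance : (Λ g).Faithful where
  map_injective {F G} m m' h := by
    have h1 : sigHom (g := g) m.hom = sigHom m'.hom := congrArg (fun k => k.left.hom) h
    apply ObjectProperty.hom_ext
    exact sigHom_injective h1

instance : (Λ g).Full where
  map_surjective {F G} a := by
    have ha : a.left.hom ≫ π G.obj = π F.obj := congrArg (fun k => k.hom) (Over.w a)
    obtain ⟨m, hm⟩ := exists_sigHom (g := g) a.left.hom ha
    refine ⟨ObjectProperty.homMk m, ?_⟩
    apply Over.OverMorphism.ext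
    apply ObjectProperty.hom_ext
    exact hm

instance : (Λ g).EssSurj where
  mem_essImage Y := by
    refine ⟨⟨lower (g := g) (F' := Y.left.obj) Y.hom.hom, isAlgSpace_lower _ Y.left.property⟩,
      ⟨Over.isoMk (ObjectProperty.isoMk _ (lowerIso (g := g) (F' := Y.left.obj) Y.hom.hom)) ?_⟩⟩
    apply ObjectProperty.hom_ext
    exact lowerHom_p (g := g) (F' := Y.left.obj) Y.hom.hom

instance : (Λ g).IsEquivalence where

/-- compatibility of `Λ` with `j_!`. -/
noncomputable def ΛIso : Λ g ⋙ Over.forget _ ⋙ ObjectProperty.ι (AlgSp.IsAlgSpace (S := S')) ≅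
    ObjectProperty.ι (AlgSp.IsAlgSpace (S := S)) ⋙ L g :=
  NatIso.ofComponents (fun F => ((LIso g).app F.obj).symm) (by
    intro F G m
    change sigHom m.hom ≫ ((LIso g).app G.obj).inv = ((LIso g).app F.obj).inv ≫ (L g).map m.hom
    rw [L_map_eq, Iso.inv_hom_id_assoc]
    rfl)

end Equivalence

end Groth.Agent.R2.H43.Shriek
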