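import Mathlib
import Groth.Prelude.Def_RegImm
import Groth.Agent.Lib.Helper5FlatCMFibres
import Groth.Agent.Lib.Helper5TensorSk
import Groth.Agent.Lib.Helper28Normal
import Groth.Agent.Lib.Helper28FibreTrans
import Groth.Agent.Lib.Helper12NoethDescent
import Groth.Agent.S9142

/-!
Helper library (helper43): Serre's condition `(S_k)` of the local rings is local in the syntomic
topology (pointwise transfer along a syntomic chart), and consequences.
-/

set_option autoImplicit false
set_option linter.style.haveILetI false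
universe u
open AlgebraicGeometry CategoryTheory

namespace Groth.Agent.R2.H43.SyntLocal

open Groth.Agent.Lib.Helper28 Groth.Agent.Lib.Helper5.FlatCMFibres Groth.Agent.Lib.Helper5.TensorSk

section Ring

variable {A : Type u} [CommRing A] [IsNoetherianRing A]

/-- `(S_k)` of the local ring `A_p`, in the two forms used in the library. -/
theorem hasSk_localization_iff_hasSkAt (k : ℕ) (p : Ideal A) [p.IsPrime] :
    LocCoh.HasSk k (Localization.AtPrime p) (Localization.AtPrime p) ↔ EGA4.HasSkAt k A A p := by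
  rw [hasSk_localization_atPrime_iff, hasSkAt_self_iff]
  simp only [withBot_min_natCast_le_iff]

variable {B : Type u} [CommRing B] [IsNoetherianRing B] [Algebra A B]

/-- For a syntomic ring map of Noetherian rings, `(S_k)` at a prime `Q` of `B` is equivalent to
`(S_k)` at the prime of `A` below. -/
theorem hasSk_localization_iff_of_isSyntomic (h : Synt.IsSyntomic A B) (k : ℕ) (Q : Ideal B)
    [Q.IsPrime] (P : Ideal A) [P.IsPrime] (hPQ : Q.comap (algebraMap A B) = P) :
    LocCoh.HasSk k (Localization.AtPrime Q) (Localization.AtPrime Q) ↔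
      LocCoh.HasSk k (Localization.AtPrime P) (Localization.AtPrime P) := by
  subst hPQ
  haveI : Module.Flat A B := h.1
  have hF : ∀ (Q' : Ideal B) [Q'.IsPrime],
      LocCoh.IsCohenMacaulayLocalRing (EGA4.FibLocRing A B Q') :=
    forall_isCohenMacaulayRing_fiber_iff.mp (fun p hp =>
      Groth.Agent.S9142.result _ _ (h.2.2 ⟨p, hp⟩))
  rw [hasSk_localization_iff_hasSkAt, hasSk_localization_iff_hasSkAt]
  exact (hasSkAt_iff_of_cm_fibres k hF Q).symm

/-- the height of the maximal ideal of `B_Q` is the height of `Q` -/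
theorem maximalIdeal_height_localization {R : Type u} [CommRing R] (Q : Ideal R) [Q.IsPrime] :
    (IsLocalRing.maximalIdeal (Localization.AtPrime Q)).height = Q.height := by
  have h1 := IsLocalization.AtPrime.ringKrullDim_eq_height Q (Localization.AtPrime Q)
  rw [← IsLocalRing.maximalIdeal_height_eq_ringKrullDim] at h1
  exact WithBot.coe_injective h1

/-- For a syntomic ring map of Noetherian rings, `B_Q` is Cohen–Macaulay iff `A_P` is, `P` the
prime below `Q`. -/
theorem cm_localization_iff_of_isSyntomic (h : Synt.IsSyntomic A B) (Q : Ideal B)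
    [Q.IsPrime] (P : Ideal A) [P.IsPrime] (hPQ : Q.comap (algebraMap A B) = P) :
    LocCoh.IsCohenMacaulayLocalRing (Localization.AtPrime Q) ↔
      LocCoh.IsCohenMacaulayLocalRing (Localization.AtPrime P) := by
  subst hPQ
  haveI : Module.Flat A B := h.1
  have hF : ∀ (Q' : Ideal B) [Q'.IsPrime],
      LocCoh.IsCohenMacaulayLocalRing (EGA4.FibLocRing A B Q') :=
    forall_isCohenMacaulayRing_fiber_iff.mp (fun p hp =>
      Groth.Agent.S9142.result _ _ (h.2.2 ⟨p, hp⟩))
  have hc := codepth_eq (A := A) Q (hF Q)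
  haveI : IsNoetherianRing (Localization.AtPrime Q) :=
    IsLocalization.isNoetherianRing Q.primeCompl _ inferInstance
  haveI : IsNoetherianRing (Localization.AtPrime (Q.comap (algebraMap A B))) :=
    IsLocalization.isNoetherianRing (Q.comap (algebraMap A B)).primeCompl _ inferInstance
  rw [isCohenMacaulayLocalRing_iff, isCohenMacaulayLocalRing_iff,
    maximalIdeal_height_localization, maximalIdeal_height_localization]
  have hQ : Q.height ≠ ⊤ := Ideal.height_ne_top_of_isPrime
  have hP : (Q.comap (algebraMap A B)).height ≠ ⊤ := Ideal.height_ne_top_of_isPrime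
  constructor
  · intro h1
    rw [← h1, add_comm] at hc
    exact (WithTop.add_left_cancel hQ hc)
  · intro h1
    rw [← h1, add_comm _ (Q.comap (algebraMap A B)).height] at hc
    exact (WithTop.add_left_cancel hP hc).symm

end Ring

section Scheme

variable {X S : Scheme.{u}} (f : X ⟶ S)

theorem flat_of_isSyntomicMor (h : Synt.IsSyntomicMor f) : Flat f := by
  refine (HasRingHomProperty.iff_exists_appLE (P := @Flat)
    (RingHom.Flat.stableUnderComposition.stableUnderCompositionWithLocalizationAway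
      RingHom.Flat.holdsForLocalizationAway).1).mpr (fun x => ?_)
  obtain ⟨U, V, e, hx, hs⟩ := h x
  exact ⟨V, U, hx, e, hs.1⟩

theorem locallyOfFinitePresentation_of_isSyntomicMor (h : Synt.IsSyntomicMor f) :
    LocallyOfFinitePresentation f := by
  refine (HasRingHomProperty.iff_exists_appLE (P := @LocallyOfFinitePresentation)
    (RingHom.finitePresentation_stableUnderComposition.stableUnderCompositionWithLocalizationAway
      RingHom.finitePresentation_holdsForLocalizationAway).1).mpr (fun x => ?_)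
  obtain ⟨U, V, e, hx, hs⟩ := h x
  exact ⟨V, U, hx, e, hs.2.1⟩

/-- The local ring at a point of an affine open is the localization of the ring of sections at the
corresponding prime. -/
theorem nonempty_stalk_ringEquiv {Y : Scheme.{u}} (U : Y.Opens) (hU : IsAffineOpen U) (y : Y)
    (hy : y ∈ U) :
    Nonempty (Localization.AtPrime (hU.primeIdealOf ⟨y, hy⟩).asIdeal ≃+* Y.presheaf.stalk y) := by
  letI : Algebra Γ(Y, U) (Y.presheaf.stalk y) :=
    TopCat.Presheaf.algebra_section_stalk Y.presheaf ⟨y, hy⟩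
  haveI : IsLocalization.AtPrime (Y.presheaf.stalk y) (hU.primeIdealOf ⟨y, hy⟩).asIdeal :=
    hU.isLocalization_stalk ⟨y, hy⟩
  exact ⟨(IsLocalization.algEquiv (hU.primeIdealOf ⟨y, hy⟩).asIdeal.primeCompl
    (Localization.AtPrime (hU.primeIdealOf ⟨y, hy⟩).asIdeal) (Y.presheaf.stalk y)).toRingEquiv⟩

/-- Pointwise transfer of `(S_k)` along a syntomic chart with Noetherian rings. -/
theorem hasSk_stalk_iff (x : X) (U : X.affineOpens) (V : S.affineOpens) (e : U.1 ≤ f ⁻¹ᵁ V.1)
    (hx : x ∈ U.1)
    (hsyn : letI := (f.appLE V.1 U.1 e).hom.toAlgebra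
      Synt.IsSyntomic Γ(S, V.1) Γ(X, U.1))
    [IsNoetherianRing Γ(S, V.1)] [IsNoetherianRing Γ(X, U.1)] (k : ℕ) :
    LocCoh.HasSk k (X.presheaf.stalk x) (X.presheaf.stalk x) ↔
      LocCoh.HasSk k (S.presheaf.stalk (f x)) (S.presheaf.stalk (f x)) := by
  letI := (f.appLE V.1 U.1 e).hom.toAlgebra
  have hPQ : (U.2.primeIdealOf ⟨x, hx⟩).asIdeal.comap (algebraMap Γ(S, V.1) Γ(X, U.1)) =
      (V.2.primeIdealOf ⟨f x, e hx⟩).asIdeal :=
    congrArg PrimeSpectrum.asIdeal (IsAffineOpen.comap_primeIdealOf_appLE V.1 V.2 U.1 U.2 e hx)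
  obtain ⟨eX⟩ := nonempty_stalk_ringEquiv U.1 U.2 x hx
  obtain ⟨eS⟩ := nonempty_stalk_ringEquiv V.1 V.2 (f x) (e hx)
  haveI : IsNoetherianRing (X.presheaf.stalk x) := isNoetherianRing_of_ringEquiv _ eX
  haveI : IsNoetherianRing (S.presheaf.stalk (f x)) := isNoetherianRing_of_ringEquiv _ eS
  have key := hasSk_localization_iff_of_isSyntomic hsyn k (U.2.primeIdealOf ⟨x, hx⟩).asIdeal
    (V.2.primeIdealOf ⟨f x, e hx⟩).asIdeal hPQ
  constructor
  · intro h
    exact hasSk_self_of_ringEquiv eS k (key.mp (hasSk_self_of_ringEquiv eX.symm k h))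
  · intro h
    exact hasSk_self_of_ringEquiv eX k (key.mpr (hasSk_self_of_ringEquiv eS.symm k h))

/-- Pointwise transfer of Cohen–Macaulayness along a syntomic chart with Noetherian rings. -/
theorem cm_stalk_iff (x : X) (U : X.affineOpens) (V : S.affineOpens) (e : U.1 ≤ f ⁻¹ᵁ V.1)
    (hx : x ∈ U.1)
    (hsyn : letI := (f.appLE V.1 U.1 e).hom.toAlgebra
      Synt.IsSyntomic Γ(S, V.1) Γ(X, U.1))
    [IsNoetherianRing Γ(S, V.1)] [IsNoetherianRing Γ(X, U.1)] :
    LocCoh.IsCohenMacaulayLocalRing (X.presheaf.stalk x) ↔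
      LocCoh.IsCohenMacaulayLocalRing (S.presheaf.stalk (f x)) := by
  letI := (f.appLE V.1 U.1 e).hom.toAlgebra
  have hPQ : (U.2.primeIdealOf ⟨x, hx⟩).asIdeal.comap (algebraMap Γ(S, V.1) Γ(X, U.1)) =
      (V.2.primeIdealOf ⟨f x, e hx⟩).asIdeal :=
    congrArg PrimeSpectrum.asIdeal (IsAffineOpen.comap_primeIdealOf_appLE V.1 V.2 U.1 U.2 e hx)
  obtain ⟨eX⟩ := nonempty_stalk_ringEquiv U.1 U.2 x hx
  obtain ⟨eS⟩ := nonempty_stalk_ringEquiv V.1 V.2 (f x) (e hx)
  have key := cm_localization_iff_of_isSyntomic hsyn (U.2.primeIdealOf ⟨x, hx⟩).asIdeal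
    (V.2.primeIdealOf ⟨f x, e hx⟩).asIdeal hPQ
  constructor
  · intro h
    haveI := key.mp (isCohenMacaulayLocalRing_of_ringEquiv eX.symm)
    exact isCohenMacaulayLocalRing_of_ringEquiv eS
  · intro h
    haveI := key.mpr (isCohenMacaulayLocalRing_of_ringEquiv eS.symm)
    exact isCohenMacaulayLocalRing_of_ringEquiv eX

end Scheme

section Family

variable {ι : Type u} {S : Scheme.{u}} {X : ι → Scheme.{u}} (f : ∀ i, X i ⟶ S)

/-- Local Noetherianity descends along a jointly surjective family of syntomic morphisms. -/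
theorem isLocallyNoetherian_of_syntomic_cover
    (hsurj : ∀ s : S, ∃ i, s ∈ Set.range (f i).base) (hsyn : ∀ i, Synt.IsSyntomicMor (f i))
    (hX : ∀ i, IsLocallyNoetherian (X i)) : IsLocallyNoetherian S := by
  let g : (∐ X) ⟶ S := Limits.Sigma.desc f
  haveI : Flat g := by
    rw [IsZariskiLocalAtSource.iff_of_openCover (P := @Flat) (sigmaOpenCover X)]
    intro i
    show Flat (Limits.Sigma.ι X i ≫ Limits.Sigma.desc f)
    rw [Limits.Sigma.ι_desc]
    exact flat_of_isSyntomicMor _ (hsyn i)
  haveI : LocallyOfFinitePresentation g := by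
    rw [IsZariskiLocalAtSource.iff_of_openCover (P := @LocallyOfFinitePresentation)
      (sigmaOpenCover X)]
    intro i
    show LocallyOfFinitePresentation (Limits.Sigma.ι X i ≫ Limits.Sigma.desc f)
    rw [Limits.Sigma.ι_desc]
    exact locallyOfFinitePresentation_of_isSyntomicMor _ (hsyn i)
  haveI : Surjective g := by
    refine ⟨fun s => ?_⟩
    obtain ⟨i, x, rfl⟩ := hsurj s
    refine ⟨Limits.Sigma.ι X i x, ?_⟩
    have e : Limits.Sigma.ι X i ≫ g = f i := Limits.Sigma.ι_desc _ _
    rw [← Scheme.Hom.comp_apply, e]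
  haveI : IsLocallyNoetherian (∐ X) := by
    rw [isLocallyNoetherian_iff_openCover (sigmaOpenCover X)]
    intro i
    simp only [sigmaOpenCover_X]
    exact hX i
  exact Groth.Agent.Lib.Helper12.NoethDescent.isLocallyNoetherian_of_flat_lfp_surjective g

/-- Local Noetherianity ascends along a syntomic morphism. -/
theorem isLocallyNoetherian_of_isSyntomicMor {Y T : Scheme.{u}} (g : Y ⟶ T)
    (hg : Synt.IsSyntomicMor g) [IsLocallyNoetherian T] : IsLocallyNoetherian Y := by
  haveI := locallyOfFinitePresentation_of_isSyntomicMor g hg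
  exact LocallyOfFiniteType.isLocallyNoetherian g

/-- Pointwise transfer of `(S_k)` along a syntomic morphism of locally Noetherian schemes. -/
theorem hasSk_stalk_iff_of_isSyntomicMor {Y T : Scheme.{u}} (g : Y ⟶ T)
    (hg : Synt.IsSyntomicMor g) [IsLocallyNoetherian T] [IsLocallyNoetherian Y] (y : Y) (k : ℕ) :
    LocCoh.HasSk k (Y.presheaf.stalk y) (Y.presheaf.stalk y) ↔
      LocCoh.HasSk k (T.presheaf.stalk (g y)) (T.presheaf.stalk (g y)) := by
  obtain ⟨U, V, e, hy, hs⟩ := hg y
  haveI : IsNoetherianRing Γ(T, V.1) := IsLocallyNoetherian.component_noetherian V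
  haveI : IsNoetherianRing Γ(Y, U.1) := IsLocallyNoetherian.component_noetherian U
  exact hasSk_stalk_iff g y U V e hy hs k

/-- `(S_k)` and local Noetherianity are local in the syntomic topology. -/
theorem hasSk_iff_of_syntomic_cover
    (hsurj : ∀ s : S, ∃ i, s ∈ Set.range (f i).base) (hsyn : ∀ i, Synt.IsSyntomicMor (f i)) (k : ℕ) :
    (IsLocallyNoetherian S ∧ ∀ s : S, LocCoh.HasSk k (S.presheaf.stalk s) (S.presheaf.stalk s)) ↔
      ∀ i, IsLocallyNoetherian (X i) ∧
        ∀ x : X i, LocCoh.HasSk k ((X i).presheaf.stalk x) ((X i).presheaf.stalk x) := by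
  constructor
  · rintro ⟨hS, h⟩ i
    haveI := hS
    haveI := isLocallyNoetherian_of_isSyntomicMor (f i) (hsyn i)
    exact ⟨inferInstance, fun x =>
      (hasSk_stalk_iff_of_isSyntomicMor (f i) (hsyn i) x k).mpr (h _)⟩
  · intro h
    haveI := isLocallyNoetherian_of_syntomic_cover f hsurj hsyn (fun i => (h i).1)
    refine ⟨inferInstance, fun s => ?_⟩
    obtain ⟨i, x, rfl⟩ := hsurj s
    haveI := (h i).1
    exact (hasSk_stalk_iff_of_isSyntomicMor (f i) (hsyn i) x k).mp ((h i).2 x)

/-- Pointwise transfer of Cohen–Macaulayness along a syntomic morphism of locally Noetherian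
schemes. -/
theorem cm_stalk_iff_of_isSyntomicMor {Y T : Scheme.{u}} (g : Y ⟶ T)
    (hg : Synt.IsSyntomicMor g) [IsLocallyNoetherian T] [IsLocallyNoetherian Y] (y : Y) :
    LocCoh.IsCohenMacaulayLocalRing (Y.presheaf.stalk y) ↔
      LocCoh.IsCohenMacaulayLocalRing (T.presheaf.stalk (g y)) := by
  obtain ⟨U, V, e, hy, hs⟩ := hg y
  haveI : IsNoetherianRing Γ(T, V.1) := IsLocallyNoetherian.component_noetherian V
  haveI : IsNoetherianRing Γ(Y, U.1) := IsLocallyNoetherian.component_noetherian U
  exact cm_stalk_iff g y U V e hy hs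

/-- Being locally Noetherian with Cohen–Macaulay local rings is local in the syntomic topology. -/
theorem cm_iff_of_syntomic_cover
    (hsurj : ∀ s : S, ∃ i, s ∈ Set.range (f i).base) (hsyn : ∀ i, Synt.IsSyntomicMor (f i)) :
    (IsLocallyNoetherian S ∧ ∀ s : S, LocCoh.IsCohenMacaulayLocalRing (S.presheaf.stalk s)) ↔
      ∀ i, IsLocallyNoetherian (X i) ∧
        ∀ x : X i, LocCoh.IsCohenMacaulayLocalRing ((X i).presheaf.stalk x) := by
  constructor
  · rintro ⟨hS, h⟩ i
    haveI := hS
    haveI := isLocallyNoetherian_of_isSyntomicMor (f i) (hsyn i)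
    exact ⟨inferInstance, fun x =>
      (cm_stalk_iff_of_isSyntomicMor (f i) (hsyn i) x).mpr (h _)⟩
  · intro h
    haveI := isLocallyNoetherian_of_syntomic_cover f hsurj hsyn (fun i => (h i).1)
    refine ⟨inferInstance, fun s => ?_⟩
    obtain ⟨i, x, rfl⟩ := hsurj s
    haveI := (h i).1
    exact (cm_stalk_iff_of_isSyntomicMor (f i) (hsyn i) x).mp ((h i).2 x)

end Family

end Groth.Agent.R2.H43.SyntLocal
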