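import Mathlib

/-!
# The diagonal of a base change tower (helper44)

Namespace `Groth.Agent.R2.H44.DiagTower`.

For a cartesian square `X = X₀ ×_{Y₀} Y` (maps `pX`, `f`, `f₀`, `pY`):
* `isPullback_map_fst`: `X ×_Y X = (X₀ ×_{Y₀} X₀) ×_{X₀} X`;
* `isPullback_diagonal`: the diagonal of `f` is the base change of the diagonal of `f₀`;
* `isPullback_diag_base`: if moreover `Y = Y₀ ×_{B₀} B`, then `X ×_Y X = (X₀ ×_{Y₀} X₀) ×_{B₀} B`.
-/

set_option autoImplicit false
set_option backward.isDefEq.respectTransparency false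
universe v₁ u₁

open CategoryTheory CategoryTheory.Limits

namespace Groth.Agent.R2.H44.DiagTower

variable {C : Type u₁} [Category.{v₁} C] [HasPullbacks C]
variable {X X₀ Y Y₀ : C} {pX : X ⟶ X₀} {f : X ⟶ Y} {f₀ : X₀ ⟶ Y₀} {pY : Y ⟶ Y₀}

/-- the induced map on diagonal objects -/
noncomputable abbrev dmap (hX : IsPullback pX f f₀ pY) : pullback f f ⟶ pullback f₀ f₀ :=
  pullback.map f f f₀ f₀ pX pX pY hX.w.symm hX.w.symm

theorem isPullback_map_fst (hX : IsPullback pX f f₀ pY) :
    IsPullback (dmap hX) (pullback.fst f f) (pullback.fst f₀ f₀) pX := by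
  have h1 : IsPullback (pullback.snd f f ≫ pX) (pullback.fst f f) f₀ (f ≫ pY) :=
    (IsPullback.of_hasPullback f f).flip.paste_horiz hX
  rw [← hX.w] at h1
  have h2 : IsPullback (pullback.snd f₀ f₀) (pullback.fst f₀ f₀) f₀ f₀ :=
    (IsPullback.of_hasPullback f₀ f₀).flip
  have e1 : dmap hX ≫ pullback.snd f₀ f₀ = pullback.snd f f ≫ pX := by simp [dmap]
  have e2 : dmap hX ≫ pullback.fst f₀ f₀ = pullback.fst f f ≫ pX := by simp [dmap]
  rw [← e1] at h1
  exact IsPullback.of_right h1 e2 h2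

theorem isPullback_diagonal (hX : IsPullback pX f f₀ pY) :
    IsPullback pX (pullback.diagonal f) (pullback.diagonal f₀) (dmap hX) := by
  have hR := (isPullback_map_fst hX).flip
  -- hR : IsPullback fst (dmap) pX fst₀
  have outer : IsPullback (pullback.diagonal f ≫ pullback.fst f f) pX pX
      (pullback.diagonal f₀ ≫ pullback.fst f₀ f₀) := by
    rw [pullback.diagonal_fst, pullback.diagonal_fst]
    exact IsPullback.of_horiz_isIso ⟨by simp⟩
  have e : pullback.diagonal f ≫ dmap hX = pX ≫ pullback.diagonal f₀ := by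
    apply pullback.hom_ext <;> simp [dmap]
  exact (IsPullback.of_right outer e hR).flip

theorem isPullback_diag_base (hX : IsPullback pX f f₀ pY) {B B₀ : C} {qY : Y ⟶ B} {b₀ : Y₀ ⟶ B₀}
    {β : B ⟶ B₀} (hY : IsPullback pY qY b₀ β) :
    IsPullback (dmap hX) (pullback.fst f f ≫ f ≫ qY) (pullback.fst f₀ f₀ ≫ f₀ ≫ b₀) β := by
  have h := ((isPullback_map_fst hX).paste_vert hX).paste_vert hY
  rwa [Category.assoc, Category.assoc] at h

end Groth.Agent.R2.H44.DiagTower
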