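import Mathlib
import Groth.Agent.R2.H44LimIso
import Groth.Agent.S9921
import Groth.Agent.S10180

/-!
# Descending properties of morphisms of algebraic spaces through limits, via charts (helper44)

Namespace `Groth.Agent.R2.H44.LimDesc`.
-/

set_option autoImplicit false
set_option backward.isDefEq.respectTransparency false
universe u

open CategoryTheory CategoryTheory.Limits AlgebraicGeometry

namespace Groth.Agent.R2.H44.LimDesc

open Groth.Agent.R2.H44.LimSp Groth.Agent.R2.H44.LimIso AlgSp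

variable {S : Scheme.{u}}

/-- Transfer of a chart `(q₀, r₀, h₀)` of `f₀ : X₀ ⟶ Y₀` to the base change `f' : X' ⟶ Y'` of `f₀` along
`B' ⟶ B₀`. -/
theorem chart_transfer {X₀ Y₀ B₀ B' Y' X' : AlgSp.Sp S} {f₀ : X₀ ⟶ Y₀} {b₀ : Y₀ ⟶ B₀} {β : B' ⟶ B₀}
    {pY' : Y' ⟶ Y₀} {qY' : Y' ⟶ B'} (hY' : IsPullback pY' qY' b₀ β)
    {pX' : X' ⟶ X₀} {f' : X' ⟶ Y'} (hX' : IsPullback pX' f' f₀ pY')
    {U₀ V₀ V' U' : Over S} (q₀ : (AlgSp.yon S).obj V₀ ⟶ Y₀)
    (r₀ : (AlgSp.yon S).obj U₀ ⟶ pullback f₀ q₀) (h₀ : U₀ ⟶ V₀)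
    (hh₀ : r₀ ≫ pullback.snd f₀ q₀ = (AlgSp.yon S).map h₀)
    (v₁ : V' ⟶ V₀) (v₂ : (AlgSp.yon S).obj V' ⟶ B')
    (hV' : IsPullback ((AlgSp.yon S).map v₁) v₂ (q₀ ≫ b₀) β)
    (u₁ : U' ⟶ U₀) (h' : U' ⟶ V') (hU' : IsPullback u₁ h' h₀ v₁) :
    ∃ (b' : (AlgSp.yon S).obj V' ⟶ Y') (r' : (AlgSp.yon S).obj U' ⟶ pullback f' b'),
      IsPullback ((AlgSp.yon S).map v₁) b' q₀ pY' ∧ b' ≫ qY' = v₂ ∧
      r' ≫ pullback.snd f' b' = (AlgSp.yon S).map h' ∧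
      ∃ k : pullback f' b' ⟶ pullback f₀ q₀, IsPullback ((AlgSp.yon S).map u₁) r' r₀ k := by
  -- the chart of `Y'`
  let b' : (AlgSp.yon S).obj V' ⟶ Y' :=
    hY'.lift ((AlgSp.yon S).map v₁ ≫ q₀) v₂ (by rw [Category.assoc]; exact hV'.w)
  have hb'1 : b' ≫ pY' = (AlgSp.yon S).map v₁ ≫ q₀ := hY'.lift_fst _ _ _
  have hb'2 : b' ≫ qY' = v₂ := hY'.lift_snd _ _ _
  have sqb : IsPullback ((AlgSp.yon S).map v₁) b' q₀ pY' := by
    have outer : IsPullback (b' ≫ qY') ((AlgSp.yon S).map v₁) β (q₀ ≫ b₀) := by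
      rw [hb'2]; exact hV'.flip
    exact (IsPullback.of_right outer hb'1 hY'.flip).flip
  -- the comparison `k`
  have hk : (pullback.fst f' b' ≫ pX') ≫ f₀ = (pullback.snd f' b' ≫ (AlgSp.yon S).map v₁) ≫ q₀ := by
    rw [Category.assoc, hX'.w, ← Category.assoc, pullback.condition, Category.assoc, hb'1,
      Category.assoc]
  let k : pullback f' b' ⟶ pullback f₀ q₀ := pullback.lift _ _ hk
  have hk1 : k ≫ pullback.fst f₀ q₀ = pullback.fst f' b' ≫ pX' := pullback.lift_fst _ _ _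
  have hk2 : k ≫ pullback.snd f₀ q₀ = pullback.snd f' b' ≫ (AlgSp.yon S).map v₁ :=
    pullback.lift_snd _ _ _
  have sqA : IsPullback k (pullback.snd f' b') (pullback.snd f₀ q₀) ((AlgSp.yon S).map v₁) := by
    have outer : IsPullback (k ≫ pullback.fst f₀ q₀) (pullback.snd f' b') f₀
        ((AlgSp.yon S).map v₁ ≫ q₀) := by
      rw [hk1, ← hb'1]
      exact (IsPullback.of_hasPullback f' b').paste_horiz hX'
    exact IsPullback.of_right outer hk2 (IsPullback.of_hasPullback f₀ q₀)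
  -- the chart of `X' ×_{Y'} V'`
  have hUw : (AlgSp.yon S).map u₁ ≫ (AlgSp.yon S).map h₀ =
      (AlgSp.yon S).map h' ≫ (AlgSp.yon S).map v₁ := by
    rw [← Functor.map_comp, ← Functor.map_comp, hU'.w]
  have ha' : ((AlgSp.yon S).map u₁ ≫ r₀ ≫ pullback.fst f₀ q₀) ≫ f₀ =
      ((AlgSp.yon S).map h' ≫ b') ≫ pY' := by
    rw [Category.assoc, Category.assoc, pullback.condition, ← Category.assoc r₀, hh₀,
      ← Category.assoc, hUw, Category.assoc, Category.assoc, hb'1]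
  let a' : (AlgSp.yon S).obj U' ⟶ X' := hX'.lift _ _ ha'
  have ha'1 : a' ≫ pX' = (AlgSp.yon S).map u₁ ≫ r₀ ≫ pullback.fst f₀ q₀ := hX'.lift_fst _ _ _
  have ha'2 : a' ≫ f' = (AlgSp.yon S).map h' ≫ b' := hX'.lift_snd _ _ _
  let r' : (AlgSp.yon S).obj U' ⟶ pullback f' b' := pullback.lift a' ((AlgSp.yon S).map h') ha'2
  have hr'1 : r' ≫ pullback.fst f' b' = a' := pullback.lift_fst _ _ _
  have hr'2 : r' ≫ pullback.snd f' b' = (AlgSp.yon S).map h' := pullback.lift_snd _ _ _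
  have hr'k : r' ≫ k = (AlgSp.yon S).map u₁ ≫ r₀ := by
    apply pullback.hom_ext
    · rw [Category.assoc, hk1, ← Category.assoc, hr'1, ha'1, Category.assoc]
    · rw [Category.assoc, hk2, ← Category.assoc, hr'2, ← hUw, Category.assoc, hh₀]
  have sqB : IsPullback ((AlgSp.yon S).map u₁) r' r₀ k := by
    have outer : IsPullback (r' ≫ pullback.snd f' b') ((AlgSp.yon S).map u₁) ((AlgSp.yon S).map v₁)
        (r₀ ≫ pullback.snd f₀ q₀) := by
      rw [hr'2, hh₀]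
      exact (hU'.map (AlgSp.yon S)).flip
    exact (IsPullback.of_right outer hr'k sqA.flip).flip
  exact ⟨b', r', sqb, hb'2, hr'2, k, sqB⟩


/-- `h_V` is quasi-compact and quasi-separated for `V` affine. -/
theorem qcqs_yon_of_isAffine (V : Over S) (hV : IsAffine V.left) :
    AlgSp.IsQuasiCompactSp ((AlgSp.yon S).obj V) ∧ AlgSp.IsQuasiSeparatedSp ((AlgSp.yon S).obj V) := by
  constructor
  · exact (Groth.Agent.S10180.result ⟨(AlgSp.yon S).obj V, AlgSp.IsAlgSpace.yon_obj V⟩).2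
      ⟨V, 𝟙 _, hV, AlgSp.repWith_id _ V, AlgSp.repWith_id _ V⟩
  · have := hV
    exact (AlgSp.repWith_diag_yon_iff @QuasiCompact V).2 ((quasiSeparated_iff _).1 inferInstance)

/-- Two pullbacks of `f` along maps differing by an isomorphism: transfer of a property. -/
theorem prop_of_isPullback_iso (P : MorphismProperty Scheme.{u}) [P.RespectsIso]
    {A A' B B' X Y : Scheme.{u}} {f : X ⟶ Y} {g : B ⟶ Y} {a : A ⟶ X} {b : A ⟶ B} {g' : B' ⟶ Y}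
    {a' : A' ⟶ X} {b' : A' ⟶ B'} (sq : IsPullback a b f g) (sq' : IsPullback a' b' f g')
    (e : B' ⟶ B) [IsIso e] (he : g' = e ≫ g) (h : P b') : P b := by
  subst he
  have sq'' : IsPullback a (b ≫ inv e) f (e ≫ g) :=
    sq.of_iso (Iso.refl _) (Iso.refl _) (asIso e).symm (Iso.refl _) (by simp) (by simp) (by simp)
      (by simp)
  have h1 : b ≫ inv e = (sq''.isoIsPullback _ _ sq').hom ≫ b' :=
    (IsPullback.isoIsPullback_hom_snd _ _ sq'' sq').symm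
  have h2 : P (b ≫ inv e) := by rw [h1]; exact (P.cancel_left_of_respectsIso _ _).2 h
  exact (P.cancel_right_of_respectsIso _ (inv e)).1 h2

/-- Scheme-level descent of a property `P` through a cofiltered limit of affine schemes, in the shape used below:
`Q` is the class of allowed sources `X₀`, `R` the finiteness condition on `f₀`. -/
def DescendsFor (Q : Scheme.{u} → Prop) (R P : MorphismProperty Scheme.{u}) : Prop :=
  ∀ {J : Type u} [SmallCategory J] [IsCofiltered J] (K : J ⥤ Scheme.{u}) (_ : ∀ j, IsAffine (K.obj j))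
    (c : Cone K) (_ : IsLimit c) (j₁ : J) {X₀ Y₀ : Scheme.{u}} (_ : Q X₀) (_ : IsAffine Y₀)
    (f₀ : X₀ ⟶ Y₀) (g₀ : Y₀ ⟶ K.obj j₁) (_ : IsIso g₀) (_ : R f₀)
    {X Y : Scheme.{u}} (f : X ⟶ Y) (g : Y ⟶ c.pt) (qY : Y ⟶ Y₀) (qX : X ⟶ X₀)
    (_ : IsPullback qY g g₀ (c.π.app j₁)) (_ : IsPullback qX f f₀ qY), P f →
    ∃ (j : J) (φ : j ⟶ j₁) (Xj Yj : Scheme.{u}) (fj : Xj ⟶ Yj) (gj : Yj ⟶ K.obj j) (pY : Yj ⟶ Y₀)
      (pX : Xj ⟶ X₀), IsPullback pY gj g₀ (K.map φ) ∧ IsPullback pX fj f₀ pY ∧ P fj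

/-- The case of affine sources and `f₀` locally of finite presentation. -/
abbrev AffDescends (P : MorphismProperty Scheme.{u}) : Prop :=
  DescendsFor (fun X => IsAffine X) @LocallyOfFinitePresentation P

/-- The main reduction (general form): descending a property of morphisms of sheaves through a limit, expressed on
charts; the charts `q₀ : h_{V₀} ⟶ Y₀` (with `V₀` affine) and `r₀ : h_{U₀} ⟶ X₀ ×_{Y₀} h_{V₀}` are given. -/
theorem descend_chart_gen (Q : Scheme.{u} → Prop) (R P : MorphismProperty Scheme.{u}) [P.RespectsIso]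
    (hP : DescendsFor Q R P) {I : Type u} [SmallCategory I] [IsCofiltered I]
    (D : I ⥤ AlgSp.Sp S)
    (hDa : ∀ (i j : I) (φ : i ⟶ j), AlgSp.IsAffineMor (D.map φ))
    (c : Cone D) (hc : IsLimit c) (i₀ : I)
    {X₀ Y₀ : AlgSp.Sp S} (f₀ : X₀ ⟶ Y₀) (b₀ : Y₀ ⟶ D.obj i₀)
    {V₀ U₀ : Over S} (hV₀ : IsAffine V₀.left) (q₀ : (AlgSp.yon S).obj V₀ ⟶ Y₀)
    (hq₀e : AlgSp.RepWith @Etale q₀) (hq₀s : AlgSp.RepWith @Surjective q₀)
    (r₀ : (AlgSp.yon S).obj U₀ ⟶ pullback f₀ q₀)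
    (hr₀e : AlgSp.RepWith @Etale r₀) (hr₀s : AlgSp.RepWith @Surjective r₀) (hU₀ : Q U₀.left)
    (hh₀R : R ((AlgSp.yon S).preimage (r₀ ≫ pullback.snd f₀ q₀)).left)
    (X Y : AlgSp.Sp S) (f : X ⟶ Y) (pY : Y ⟶ Y₀) (qY : Y ⟶ c.pt)
    (hY : IsPullback pY qY b₀ (c.π.app i₀)) (pX : X ⟶ X₀) (hX : IsPullback pX f f₀ pY)
    (hf : ∀ {U V : Over S} (b : (AlgSp.yon S).obj V ⟶ Y) (r : (AlgSp.yon S).obj U ⟶ pullback f b)
      (h : U ⟶ V), AlgSp.RepWith @Etale b → AlgSp.RepWith @Surjective b → AlgSp.RepWith @Etale r →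
      AlgSp.RepWith @Surjective r → (IsIso r₀ → IsIso r) →
      r ≫ pullback.snd f b = (AlgSp.yon S).map h → P h.left) :
    ∃ (i : I) (φ : i ⟶ i₀), ∀ (Xi Yi : AlgSp.Sp S) (fi : Xi ⟶ Yi) (pYi : Yi ⟶ Y₀)
      (qYi : Yi ⟶ D.obj i) (_ : IsPullback pYi qYi b₀ (D.map φ)) (pXi : Xi ⟶ X₀)
      (_ : IsPullback pXi fi f₀ pYi),
      ∃ (U V : Over S) (b : (AlgSp.yon S).obj V ⟶ Yi) (r : (AlgSp.yon S).obj U ⟶ pullback fi b)
        (h : U ⟶ V), AlgSp.RepWith @Etale b ∧ AlgSp.RepWith @Surjective b ∧ AlgSp.RepWith @Etale r ∧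
        AlgSp.RepWith @Surjective r ∧ (IsIso r₀ → IsIso r) ∧
        r ≫ pullback.snd fi b = (AlgSp.yon S).map h ∧ P h.left := by
  classical
  let h₀ : U₀ ⟶ V₀ := (AlgSp.yon S).preimage (r₀ ≫ pullback.snd f₀ q₀)
  have hh₀ : r₀ ≫ pullback.snd f₀ q₀ = (AlgSp.yon S).map h₀ := ((AlgSp.yon S).map_preimage _).symm
  -- affine model of the base changes of `V₀`
  have haff : ∀ j : Over i₀, IsAffRep ((pbFunctor D i₀ (q₀ ≫ b₀)).obj j) := by
    intro j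
    obtain ⟨W, iW, fst, sq, hW⟩ := hDa j.left i₀ j.hom hV₀ (q₀ ≫ b₀)
    exact ⟨W, hW, ⟨sq.flip.isoPullback⟩⟩
  obtain ⟨K, eK, cK, e, ⟨hcK⟩, ⟨hcK'⟩, hKaff, hcKaff, hcomp⟩ :=
    exists_affine_model (pbFunctor D i₀ (q₀ ≫ b₀)) haff _ (isLimitPbCone D c hc i₀ (q₀ ≫ b₀))
  let v₁ : ∀ j : Over i₀, K.obj j ⟶ V₀ := fun j =>
    (AlgSp.yon S).preimage (eK.hom.app j ≫ pullback.fst (q₀ ≫ b₀) (D.map j.hom))
  have hv₁ : ∀ j, (AlgSp.yon S).map (v₁ j) = eK.hom.app j ≫ pullback.fst (q₀ ≫ b₀) (D.map j.hom) :=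
    fun j => (AlgSp.yon S).map_preimage _
  let v₂ : ∀ j : Over i₀, (AlgSp.yon S).obj (K.obj j) ⟶ D.obj j.left := fun j =>
    eK.hom.app j ≫ pullback.snd (q₀ ≫ b₀) (D.map j.hom)
  have hV : ∀ j, IsPullback ((AlgSp.yon S).map (v₁ j)) (v₂ j) (q₀ ≫ b₀) (D.map j.hom) := fun j => by
    rw [hv₁]
    exact (IsPullback.of_hasPullback (q₀ ≫ b₀) (D.map j.hom)).of_iso (eK.app j).symm (Iso.refl _)
      (Iso.refl _) (Iso.refl _) (by simp) (by simp [v₂]) (by simp) (by simp)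
  let w₁ : cK.pt ⟶ V₀ := (AlgSp.yon S).preimage (e.hom ≫ pullback.fst (q₀ ≫ b₀) (c.π.app i₀))
  have hw₁ : (AlgSp.yon S).map w₁ = e.hom ≫ pullback.fst (q₀ ≫ b₀) (c.π.app i₀) :=
    (AlgSp.yon S).map_preimage _
  let w₂ : (AlgSp.yon S).obj cK.pt ⟶ c.pt := e.hom ≫ pullback.snd (q₀ ≫ b₀) (c.π.app i₀)
  have hW : IsPullback ((AlgSp.yon S).map w₁) w₂ (q₀ ≫ b₀) (c.π.app i₀) := by
    rw [hw₁]
    exact (IsPullback.of_hasPullback (q₀ ≫ b₀) (c.π.app i₀)).of_iso e.symm (Iso.refl _)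
      (Iso.refl _) (Iso.refl _) (by simp) (by simp [w₂]) (by simp) (by simp)
  have hv₁map : ∀ {j k : Over i₀} (φ : j ⟶ k), K.map φ ≫ v₁ k = v₁ j := by
    intro j k φ
    apply (AlgSp.yon S).map_injective
    rw [Functor.map_comp, hv₁, hv₁]
    have h1 : (AlgSp.yon S).map (K.map φ) ≫ eK.hom.app k =
        eK.hom.app j ≫ (pbFunctor D i₀ (q₀ ≫ b₀)).map φ := eK.hom.naturality φ
    rw [← Category.assoc, h1, Category.assoc]
    congr 1
    simp [pbFunctor, pullback.map]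
  have hw₁π : ∀ j : Over i₀, cK.π.app j ≫ v₁ j = w₁ := by
    intro j
    apply (AlgSp.yon S).map_injective
    rw [Functor.map_comp, hv₁, hw₁, ← Category.assoc, ← hcomp j, Category.assoc]
    congr 1
    simp [pbCone, pullback.map]
  -- the base index
  let j₁ : Over i₀ := Over.mk (𝟙 i₀)
  have hv₁iso : IsIso (v₁ j₁) := by
    have h1 : IsIso (D.map j₁.hom) := by
      change IsIso (D.map (𝟙 i₀))
      rw [D.map_id]
      infer_instance
    have h2 : IsIso ((AlgSp.yon S).map (v₁ j₁)) := by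
      rw [hv₁]
      infer_instance
    exact isIso_of_fully_faithful (AlgSp.yon S) (v₁ j₁)
  have hv₁isoL : IsIso (v₁ j₁).left := inferInstanceAs (IsIso ((Over.forget S).map (v₁ j₁)))
  -- the chart of the limit
  have hUlim : IsPullback (pullback.fst h₀ w₁) (pullback.snd h₀ w₁) h₀ w₁ := IsPullback.of_hasPullback _ _
  have hPlim : P (pullback.snd h₀ w₁).left := by
    obtain ⟨b', r', sqb, hb'2, hr'2, k, sqB⟩ :=
      chart_transfer hY hX q₀ r₀ h₀ hh₀ w₁ w₂ hW _ _ hUlim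
    exact hf b' r' _ (MorphismProperty.of_isPullback sqb hq₀e) (MorphismProperty.of_isPullback sqb hq₀s)
      (MorphismProperty.of_isPullback sqB hr₀e) (MorphismProperty.of_isPullback sqB hr₀s)
      (fun _ => sqB.isIso_snd_of_isIso) hr'2
  -- scheme-level descent
  have hYsch : IsPullback w₁.left (𝟙 cK.pt.left) (inv (v₁ j₁).left)
      (((Over.forget S).mapCone cK).π.app j₁) := by
    refine IsPullback.of_vert_isIso ⟨?_⟩
    have h1 : (cK.π.app j₁).left ≫ (v₁ j₁).left = w₁.left := by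
      rw [← Over.comp_left, hw₁π j₁]
    rw [← h1]
    simp
  have hXsch : IsPullback (pullback.fst h₀ w₁).left (pullback.snd h₀ w₁).left h₀.left w₁.left :=
    hUlim.map (Over.forget S)
  obtain ⟨j, φ, Xj, Yj, fj, gj, pYj, pXj, hYj, hXj, hPj⟩ :=
    hP (K ⋙ Over.forget S) hKaff ((Over.forget S).mapCone cK) hcK' j₁ hU₀ hV₀ h₀.left
      (inv (v₁ j₁).left) inferInstance hh₀R (pullback.snd h₀ w₁).left (𝟙 cK.pt.left) w₁.left
      (pullback.fst h₀ w₁).left hYsch hXsch hPlim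
  have hgj : IsIso gj := hYj.isIso_snd_of_isIso
  have hpYj : pYj = gj ≫ (v₁ j).left := by
    have h1 := hYj.w
    have h2 : (K.map φ).left ≫ (v₁ j₁).left = (v₁ j).left := by
      rw [← Over.comp_left, hv₁map φ]
    rw [← h2, ← Category.assoc]
    change pYj = (gj ≫ (K ⋙ Over.forget S).map φ) ≫ (v₁ j₁).left
    rw [← h1]
    simp
  have hPj' : P (pullback.snd h₀ (v₁ j)).left :=
    prop_of_isPullback_iso P ((IsPullback.of_hasPullback h₀ (v₁ j)).map (Over.forget S)) hXj gj hpYj hPj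
  refine ⟨j.left, j.hom, ?_⟩
  intro Xi Yi fi pYi qYi hYi pXi hXi
  obtain ⟨b', r', sqb, hb'2, hr'2, k, sqB⟩ :=
    chart_transfer hYi hXi q₀ r₀ h₀ hh₀ (v₁ j) (v₂ j) (hV j) _ _ (IsPullback.of_hasPullback h₀ (v₁ j))
  exact ⟨pullback h₀ (v₁ j), K.obj j, b', r', pullback.snd h₀ (v₁ j),
    MorphismProperty.of_isPullback sqb hq₀e, MorphismProperty.of_isPullback sqb hq₀s,
    MorphismProperty.of_isPullback sqB hr₀e, MorphismProperty.of_isPullback sqB hr₀s,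
    fun _ => sqB.isIso_snd_of_isIso, hr'2, hPj'⟩

/-- The main reduction: descending a property of morphisms of algebraic spaces through a limit, expressed on charts. -/
theorem descend_chart (P : MorphismProperty Scheme.{u}) [P.RespectsIso] (hP : AffDescends P)
    [QuasiSeparatedSpace S] {I : Type u} [SmallCategory I] [IsCofiltered I]
    (D : I ⥤ AlgSp.Sp S)
    (hDa : ∀ (i j : I) (φ : i ⟶ j), AlgSp.IsAffineMor (D.map φ))
    (c : Cone D) (hc : IsLimit c) (i₀ : I)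
    (X₀ Y₀ : AlgSp.Space S) (f₀ : X₀.obj ⟶ Y₀.obj) (b₀ : Y₀.obj ⟶ D.obj i₀)
    (hXqc : AlgSp.IsQuasiCompactSp X₀.obj) (hXqs : AlgSp.IsQuasiSeparatedSp X₀.obj)
    (hYqc : AlgSp.IsQuasiCompactSp Y₀.obj) (hYqs : AlgSp.IsQuasiSeparatedSp Y₀.obj)
    (X Y : AlgSp.Sp S) (f : X ⟶ Y) (pY : Y ⟶ Y₀.obj) (qY : Y ⟶ c.pt)
    (hY : IsPullback pY qY b₀ (c.π.app i₀)) (pX : X ⟶ X₀.obj) (hX : IsPullback pX f f₀ pY)
    (hf₀ : AlgSp.LocP @LocallyOfFinitePresentation f₀)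
    (hf : ∀ {U V : Over S} (b : (AlgSp.yon S).obj V ⟶ Y) (r : (AlgSp.yon S).obj U ⟶ pullback f b)
      (h : U ⟶ V), AlgSp.RepWith @Etale b → AlgSp.RepWith @Surjective b → AlgSp.RepWith @Etale r →
      AlgSp.RepWith @Surjective r → r ≫ pullback.snd f b = (AlgSp.yon S).map h → P h.left) :
    ∃ (i : I) (φ : i ⟶ i₀), ∀ (Xi Yi : AlgSp.Sp S) (fi : Xi ⟶ Yi) (pYi : Yi ⟶ Y₀.obj)
      (qYi : Yi ⟶ D.obj i) (_ : IsPullback pYi qYi b₀ (D.map φ)) (pXi : Xi ⟶ X₀.obj)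
      (_ : IsPullback pXi fi f₀ pYi),
      ∃ (U V : Over S) (b : (AlgSp.yon S).obj V ⟶ Yi) (r : (AlgSp.yon S).obj U ⟶ pullback fi b)
        (h : U ⟶ V), AlgSp.RepWith @Etale b ∧ AlgSp.RepWith @Surjective b ∧ AlgSp.RepWith @Etale r ∧
        AlgSp.RepWith @Surjective r ∧ r ≫ pullback.snd fi b = (AlgSp.yon S).map h ∧ P h.left := by
  classical
  -- charts of `Y₀` and of `X₀ ×_{Y₀} V₀`
  obtain ⟨V₀, q₀, hV₀, hq₀e, hq₀s⟩ := (Groth.Agent.S10180.result Y₀).1 hYqc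
  have hP₀sp : AlgSp.IsAlgSpace (pullback f₀ q₀) :=
    isAlgSpace_of_representable (pullback.fst f₀ q₀) (MorphismProperty.pullback_fst _ _ hq₀e.rep)
      X₀.property
  have hP₀qc : AlgSp.IsQuasiCompactSp (pullback f₀ q₀) :=
    (Groth.Agent.S9921.result (X := X₀) (Y := Y₀)
      (Z := ⟨(AlgSp.yon S).obj V₀, AlgSp.IsAlgSpace.yon_obj V₀⟩) (P := ⟨pullback f₀ q₀, hP₀sp⟩)
      (ObjectProperty.homMk f₀) (ObjectProperty.homMk q₀) (ObjectProperty.homMk (pullback.fst f₀ q₀))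
      (ObjectProperty.homMk (pullback.snd f₀ q₀))
      (IsPullback.of_hasPullback f₀ q₀) ⟨hXqc, hXqs⟩ ⟨hYqc, hYqs⟩ (qcqs_yon_of_isAffine V₀ hV₀)).1
  obtain ⟨U₀, r₀, hU₀, hr₀e, hr₀s⟩ := (Groth.Agent.S10180.result ⟨pullback f₀ q₀, hP₀sp⟩).1 hP₀qc
  change (AlgSp.yon S).obj U₀ ⟶ pullback f₀ q₀ at r₀
  have hfst₀e : AlgSp.RepWith @Etale (pullback.fst f₀ q₀) := MorphismProperty.pullback_fst _ _ hq₀e
  have hh₀lfp : LocallyOfFinitePresentation
      ((AlgSp.yon S).preimage (r₀ ≫ pullback.snd f₀ q₀)).left := by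
    refine hf₀ (r₀ ≫ pullback.fst f₀ q₀) q₀ _ (MorphismProperty.comp_mem _ _ _ hr₀e hfst₀e) hq₀e ?_
    rw [Category.assoc, pullback.condition, ← Category.assoc, Functor.map_preimage]
  obtain ⟨i, φ, hi⟩ := descend_chart_gen (fun X => IsAffine X) @LocallyOfFinitePresentation P hP D hDa c hc
    i₀ f₀ b₀ hV₀ q₀ hq₀e hq₀s r₀ hr₀e hr₀s hU₀ hh₀lfp X Y f pY qY hY pX hX
    (fun b r h hbe hbs hre hrs _ hr => hf b r h hbe hbs hre hrs hr)
  refine ⟨i, φ, fun Xi Yi fi pYi qYi hYi pXi hXi => ?_⟩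
  obtain ⟨U, V, b, r, h, hbe, hbs, hre, hrs, -, hr, hPh⟩ := hi Xi Yi fi pYi qYi hYi pXi hXi
  exact ⟨U, V, b, r, h, hbe, hbs, hre, hrs, hr, hPh⟩

end Groth.Agent.R2.H44.LimDesc
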