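import Mathlib
import Groth.Agent.R2.H44LimDesc
import Groth.Agent.S9192
import Groth.Agent.S9191
import Groth.Agent.S2075

/-!
# Scheme-level inputs for `LimDesc.descend_chart` (helper44)

Namespace `Groth.Agent.R2.H44.LimDesc`.
-/

set_option autoImplicit false
set_option backward.isDefEq.respectTransparency false
universe u

open CategoryTheory CategoryTheory.Limits AlgebraicGeometry

namespace Groth.Agent.R2.H44.LimDesc

theorem affDescends_etale : AffDescends (@Etale : MorphismProperty Scheme.{u}) := by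
  intro J _ _ K hK c hc j₁ X₀ Y₀ hX₀ hY₀ f₀ g₀ hg₀ hf₀ X Y f g qY qX hY hX hf
  have := hK
  have := hX₀
  have := hY₀
  have : Etale f := hf
  exact Groth.Agent.S9192.result K c hc j₁ f₀ g₀ f g qY qX hY hX

theorem affDescends_smooth : AffDescends (@Smooth : MorphismProperty Scheme.{u}) := by
  intro J _ _ K hK c hc j₁ X₀ Y₀ hX₀ hY₀ f₀ g₀ hg₀ hf₀ X Y f g qY qX hY hX hf
  have := hK
  have := hX₀
  have := hY₀
  have : Smooth f := hf
  exact Groth.Agent.S9191.result K c hc j₁ f₀ g₀ f g qY qX hY hX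

theorem affDescends_flat : AffDescends (@Flat : MorphismProperty Scheme.{u}) := by
  intro J _ _ K hK c hc j₁ X₀ Y₀ hX₀ hY₀ f₀ g₀ hg₀ hf₀ X Y f g qY qX hY hX hf
  have := hK
  have := hX₀
  have := hY₀
  have : Flat f := hf
  exact Groth.Agent.S2075.result K c hc j₁ f₀ g₀ f g qY qX hY hX

open AlgSp in
/-- The terms of a base-change tower over algebraic spaces along an affine morphism are algebraic spaces. -/
theorem isAlgSpace_tower {S : Scheme.{u}} {X₀ Y₀ B₀ B' Y' X' : AlgSp.Sp S} (hX₀ : AlgSp.IsAlgSpace X₀)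
    (hY₀ : AlgSp.IsAlgSpace Y₀) {f₀ : X₀ ⟶ Y₀} {b₀ : Y₀ ⟶ B₀} {β : B' ⟶ B₀} (hβ : AlgSp.IsAffineMor β)
    {pY' : Y' ⟶ Y₀} {qY' : Y' ⟶ B'} (hY' : IsPullback pY' qY' b₀ β)
    {pX' : X' ⟶ X₀} {f' : X' ⟶ Y'} (hX' : IsPullback pX' f' f₀ pY') :
    AlgSp.IsAlgSpace Y' ∧ AlgSp.IsAlgSpace X' := by
  have h1 : AlgSp.Representable pY' :=
    MorphismProperty.of_isPullback hY'.flip (Groth.Agent.R2.H44.LimSp.representable_of_isAffineMor β hβ)
  have h2 : AlgSp.Representable pX' := MorphismProperty.of_isPullback hX'.flip h1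
  exact ⟨Groth.Agent.R2.H44.LimSp.isAlgSpace_of_representable pY' h1 hY₀,
    Groth.Agent.R2.H44.LimSp.isAlgSpace_of_representable pX' h2 hX₀⟩

end Groth.Agent.R2.H44.LimDesc
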