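import Mathlib
import Groth.Agent.R2.H44LimDesc2
import Groth.Agent.S2581
import Groth.Agent.S9906
import Groth.Agent.S9907

/-!
# Surjectivity: scheme-level input for `LimDesc.descend_chart` and chart criteria (helper44)

Namespace `Groth.Agent.R2.H44.LimDesc`.
-/

set_option autoImplicit false
set_option backward.isDefEq.respectTransparency false
universe u

open CategoryTheory CategoryTheory.Limits AlgebraicGeometry

namespace Groth.Agent.R2.H44.LimDesc

theorem affDescends_surjective : AffDescends (@Surjective : MorphismProperty Scheme.{u}) := by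
  intro J _ _ K hK c hc j₁ X₀ Y₀ hX₀ hY₀ f₀ g₀ hg₀ hf₀ X Y f g qY qX hY hX hf
  have := hK
  have := hX₀
  have := hY₀
  have : Surjective f := hf
  exact Groth.Agent.S2581.result K c hc j₁ f₀ g₀ f g qY qX hY hX

open AlgSp

variable {S : Scheme.{u}}

theorem isSurjectiveMor_comp {F G H : AlgSp.Sp S} (f : F ⟶ G) (g : G ⟶ H)
    (hf : AlgSp.IsSurjectiveMor f) (hg : AlgSp.IsSurjectiveMor g) : AlgSp.IsSurjectiveMor (f ≫ g) := by
  intro z
  obtain ⟨y, rfl⟩ := hg z
  obtain ⟨x, rfl⟩ := hf y
  exact ⟨x, AlgSp.Points.map_comp f g x⟩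

theorem isSurjectiveMor_of_comp {F G H : AlgSp.Sp S} (f : F ⟶ G) (g : G ⟶ H)
    (h : AlgSp.IsSurjectiveMor (f ≫ g)) : AlgSp.IsSurjectiveMor g := by
  intro z
  obtain ⟨x, rfl⟩ := h z
  exact ⟨AlgSp.Points.map f x, (AlgSp.Points.map_comp f g x).symm⟩

/-- `h_g` is surjective on points iff `g` is a surjective morphism of schemes. -/
theorem isSurjectiveMor_yon_map_iff {U V : Over S} (g : U ⟶ V) :
    AlgSp.IsSurjectiveMor ((AlgSp.yon S).map g) ↔ Surjective g.left := by
  rw [← AlgSp.repWith_yon_map_iff @Surjective g]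
  exact (Groth.Agent.S9906.result (X := ⟨_, AlgSp.IsAlgSpace.yon_obj U⟩)
    (Y := ⟨_, AlgSp.IsAlgSpace.yon_obj V⟩) (ObjectProperty.homMk ((AlgSp.yon S).map g))
    (AlgSp.representable_yon_map g)).symm

/-- A representable surjective morphism to an algebraic space from a sheaf is surjective on points. -/
theorem isSurjectiveMor_of_repWith {F G : AlgSp.Sp S} (hG : AlgSp.IsAlgSpace G) (f : F ⟶ G)
    (hf : AlgSp.RepWith @Surjective f) : AlgSp.IsSurjectiveMor f :=
  (Groth.Agent.S9906.result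
    (X := ⟨F, Groth.Agent.R2.H44.LimSp.isAlgSpace_of_representable f hf.rep hG⟩) (Y := ⟨G, hG⟩)
    (ObjectProperty.homMk f) hf.rep).1 hf

end Groth.Agent.R2.H44.LimDesc
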