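import Mathlib
import Groth.Agent.R2.H44LimDesc3
import Groth.Agent.R2.H44LimIso
import Groth.Agent.S0591

/-!
# Descending an etale covering through a cofiltered limit of affine schemes (helper44)

Namespace `Groth.Agent.R2.H44.EtCov`.

* `exists_affine_refinement`: an etale surjective map onto a quasi-compact scheme is refined by one from an affine
  scheme.
* `eventually_of_affDescends`: stage-wise form of `LimDesc.AffDescends`.
* `exists_descend_etale_cover`: for `T = lim D_i` (affine schemes) and `w : W ⟶ T` etale surjective there are a stage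
  `k`, an affine scheme `W_k` with `w_k : W_k ⟶ D_k` etale surjective, and a `T`-morphism `W_k ×_{D_k} T ⟶ W`.
-/

set_option autoImplicit false
set_option backward.isDefEq.respectTransparency false
universe u

open CategoryTheory CategoryTheory.Limits AlgebraicGeometry

namespace Groth.Agent.R2.H44.EtCov

open Groth.Agent.R2.H44.LimSp Groth.Agent.R2.H44.LimDesc

theorem exists_affine_refinement {T W : Scheme.{u}} [CompactSpace T] (w : W ⟶ T) [Etale w]
    [Surjective w] :
    ∃ (W' : Scheme.{u}) (ρ : W' ⟶ W), IsAffine W' ∧ Etale (ρ ≫ w) ∧ Surjective (ρ ≫ w) := by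
  classical
  let 𝒰 := W.affineCover
  have hopen : ∀ i, IsOpen (Set.range (𝒰.f i ≫ w)) := fun i =>
    (𝒰.f i ≫ w).isOpenMap.isOpen_range
  have hcov : (Set.univ : Set T) ⊆ ⋃ i, Set.range (𝒰.f i ≫ w) := by
    intro t _
    obtain ⟨x, rfl⟩ := w.surjective t
    obtain ⟨i, y, hy⟩ := 𝒰.exists_eq x
    refine Set.mem_iUnion.2 ⟨i, y, ?_⟩
    rw [Scheme.Hom.comp_apply, hy]
  obtain ⟨t, ht⟩ := isCompact_univ.elim_finite_subcover _ hopen hcov
  let X' : t → Scheme.{u} := fun i => 𝒰.X i.1
  have : ∀ i, IsAffine (X' i) := fun i => by dsimp [X', 𝒰]; infer_instance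
  let ρ : (∐ X') ⟶ W := Sigma.desc fun i => 𝒰.f i.1
  have : Etale ρ := IsZariskiLocalAtSource.sigmaDesc (fun i => inferInstance)
  refine ⟨∐ X', ρ, inferInstance, inferInstance, ⟨?_⟩⟩
  intro x
  have hx := ht (Set.mem_univ x)
  simp only [Set.mem_iUnion] at hx
  obtain ⟨i, hi, y, hy⟩ := hx
  refine ⟨(Sigma.ι X' ⟨i, hi⟩) y, ?_⟩
  rw [← Scheme.Hom.comp_apply, ← Category.assoc, Sigma.ι_desc]
  exact hy

theorem eventually_of_affDescends (P : MorphismProperty Scheme.{u}) [P.RespectsIso] (hP : AffDescends P)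
    {I : Type u} [SmallCategory I] [IsCofiltered I] (D : I ⥤ Scheme.{u}) [∀ i, IsAffine (D.obj i)]
    (c : Cone D) (hc : IsLimit c) (i : I) {X₀ : Scheme.{u}} [IsAffine X₀] (f₀ : X₀ ⟶ D.obj i)
    [LocallyOfFinitePresentation f₀] (h : P (pullback.snd f₀ (c.π.app i))) :
    ∃ (l : I) (φ : l ⟶ i), P (pullback.snd f₀ (D.map φ)) := by
  obtain ⟨j, φ, Xj, Yj, fj, gj, pY, pX, h1, h2, h3⟩ := hP D inferInstance c hc i
    (inferInstance : IsAffine X₀) (inferInstance : IsAffine (D.obj i)) f₀ (𝟙 _) inferInstance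
    inferInstance (pullback.snd f₀ (c.π.app i)) (𝟙 c.pt) (c.π.app i) (pullback.fst f₀ (c.π.app i))
    (IsPullback.id_vert (c.π.app i)) (IsPullback.of_hasPullback _ _) h
  have : IsIso gj := by
    exact MorphismProperty.of_isPullback (P := MorphismProperty.isomorphisms Scheme.{u}) h1
      (inferInstanceAs (IsIso (𝟙 (D.obj i))))
  have he : pY = gj ≫ D.map φ := by simpa using h1.w
  exact ⟨j, φ, prop_of_isPullback_iso P (IsPullback.of_hasPullback f₀ (D.map φ)) h2 gj he h3⟩

/-- a base-change stable property of `pullback.snd f g` passes to `pullback.snd f (h ≫ g)`. -/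
theorem snd_comp_of_snd (P : MorphismProperty Scheme.{u}) [P.IsStableUnderBaseChange] {X Y Z Z' : Scheme.{u}}
    (f : X ⟶ Y) (g : Z ⟶ Y) (h : Z' ⟶ Z) (hP : P (pullback.snd f g)) : P (pullback.snd f (h ≫ g)) := by
  let a : pullback f (h ≫ g) ⟶ pullback f g :=
    pullback.lift (pullback.fst _ _) (pullback.snd _ _ ≫ h) (by rw [pullback.condition, Category.assoc])
  have sq : IsPullback a (pullback.snd f (h ≫ g)) (pullback.snd f g) h := by
    refine IsPullback.of_right ?_ (pullback.lift_snd _ _ _) (IsPullback.of_hasPullback f g)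
    have : a ≫ pullback.fst f g = pullback.fst f (h ≫ g) := pullback.lift_fst _ _ _
    rw [this]
    exact IsPullback.of_hasPullback f (h ≫ g)
  exact MorphismProperty.of_isPullback sq hP

theorem exists_descend_etale_cover {I : Type u} [SmallCategory I] [IsCofiltered I] (D : I ⥤ Scheme.{u})
    [∀ i, IsAffine (D.obj i)] (c : Cone D) (hc : IsLimit c) {W : Scheme.{u}} (w : W ⟶ c.pt)
    [Etale w] [Surjective w] :
    ∃ (k : I) (Wk : Scheme.{u}) (wk : Wk ⟶ D.obj k) (ρ : pullback wk (c.π.app k) ⟶ W),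
      IsAffine Wk ∧ Etale wk ∧ Surjective wk ∧ ρ ≫ w = pullback.snd wk (c.π.app k) := by
  have hcpt : IsAffine c.pt := Scheme.isAffine_of_isLimit c hc
  obtain ⟨W', ρ', hW', he, hs⟩ := exists_affine_refinement w
  obtain ⟨i, Xi, fi, g, hfi1, hfi2, hfi3, hpb⟩ := Groth.Agent.S0591.result D c hc W' (ρ' ≫ w)
  -- the base change of `fi` to the limit
  have hsnd : ρ' ≫ w = hpb.isoPullback.hom ≫ pullback.snd fi (c.π.app i) :=
    (hpb.isoPullback_hom_snd).symm
  have he' : Etale (pullback.snd fi (c.π.app i)) := by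
    rw [hsnd] at he
    exact (MorphismProperty.cancel_left_of_respectsIso @Etale _ _).1 he
  have hs' : Surjective (pullback.snd fi (c.π.app i)) := by
    rw [hsnd] at hs
    exact (MorphismProperty.cancel_left_of_respectsIso @Surjective _ _).1 hs
  -- an affine stage
  have hXi1 : CompactSpace Xi := QuasiCompact.compactSpace_of_compactSpace fi
  have hXi2 : QuasiSeparatedSpace Xi := quasiSeparatedSpace_of_quasiSeparated fi
  have hE1 : ∀ j : Over i, CompactSpace ((pbFunctor D i fi).obj j) := fun j =>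
    QuasiCompact.compactSpace_of_compactSpace (pullback.snd fi (D.map j.hom))
  have hE2 : ∀ j : Over i, QuasiSeparatedSpace ((pbFunctor D i fi).obj j) := fun j =>
    quasiSeparatedSpace_of_quasiSeparated (pullback.snd fi (D.map j.hom))
  have hE3 : ∀ {j k : Over i} (φ : j ⟶ k), IsAffineHom ((pbFunctor D i fi).map φ) := fun {j k} φ =>
    MorphismProperty.of_isPullback (P := @IsAffineHom)
      (Groth.Agent.R2.H44.LimIso.isPullback_pbFunctor_map D i fi φ).flip inferInstance
  have hpt : IsAffine (pbCone D c i fi).pt := IsAffine.of_isIso hpb.isoPullback.inv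
  obtain ⟨l, hl⟩ := Scheme.exists_isAffine_of_isLimit (pbFunctor D i fi) (pbCone D c i fi)
    (isLimitPbCone D c hc i fi)
  have hX₀ : IsAffine (pullback fi (D.map l.hom)) := hl
  -- the base change of `f₀ := pullback.snd fi (D.map l.hom)` to the limit
  have sqπ := Groth.Agent.R2.H44.LimIso.isPullback_pbCone_π D c i fi l
  have he₀ : Etale (pullback.snd (pullback.snd fi (D.map l.hom)) (c.π.app l.left)) :=
    prop_of_isPullback_iso @Etale (IsPullback.of_hasPullback _ _) sqπ (𝟙 _) (by simp) he'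
  have hs₀ : Surjective (pullback.snd (pullback.snd fi (D.map l.hom)) (c.π.app l.left)) :=
    prop_of_isPullback_iso @Surjective (IsPullback.of_hasPullback _ _) sqπ (𝟙 _) (by simp) hs'
  obtain ⟨l₁, φ₁, h₁⟩ := eventually_of_affDescends @Etale affDescends_etale D c hc l.left
    (pullback.snd fi (D.map l.hom)) he₀
  obtain ⟨l₂, φ₂, h₂⟩ := eventually_of_affDescends @Surjective affDescends_surjective D c hc l.left
    (pullback.snd fi (D.map l.hom)) hs₀
  obtain ⟨m, ψ₁, ψ₂, hψ⟩ := IsCofiltered.cospan φ₁ φ₂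
  have h₁' : Etale (pullback.snd (pullback.snd fi (D.map l.hom)) (D.map (ψ₁ ≫ φ₁))) := by
    rw [D.map_comp]
    exact snd_comp_of_snd @Etale _ _ _ h₁
  have h₂' : Surjective (pullback.snd (pullback.snd fi (D.map l.hom)) (D.map (ψ₁ ≫ φ₁))) := by
    rw [hψ, D.map_comp]
    exact snd_comp_of_snd @Surjective _ _ _ h₂
  -- the refinement map
  let wk := pullback.snd (pullback.snd fi (D.map l.hom)) (D.map (ψ₁ ≫ φ₁))
  let lift : pullback wk (c.π.app m) ⟶ pullback fi (c.π.app i) :=
    pullback.lift (pullback.fst wk (c.π.app m) ≫ pullback.fst _ _ ≫ pullback.fst fi (D.map l.hom))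
      (pullback.snd wk (c.π.app m)) (by
        have e1 : pullback.fst fi (D.map l.hom) ≫ fi = pullback.snd fi (D.map l.hom) ≫ D.map l.hom :=
          pullback.condition
        have e2 : pullback.fst (pullback.snd fi (D.map l.hom)) (D.map (ψ₁ ≫ φ₁)) ≫
            pullback.snd fi (D.map l.hom) = wk ≫ D.map (ψ₁ ≫ φ₁) := pullback.condition
        have e3 : pullback.fst wk (c.π.app m) ≫ wk = pullback.snd wk (c.π.app m) ≫ c.π.app m :=
          pullback.condition
        rw [Category.assoc, Category.assoc, e1, reassoc_of% e2, reassoc_of% e3, c.w_assoc, c.w])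
  refine ⟨m, _, wk, lift ≫ hpb.isoPullback.inv ≫ ρ', inferInstance, h₁', h₂', ?_⟩
  have h3 : hpb.isoPullback.inv ≫ ρ' ≫ w = pullback.snd fi (c.π.app i) := hpb.isoPullback_inv_snd
  rw [Category.assoc, Category.assoc, h3]
  exact pullback.lift_snd _ _ _

end Groth.Agent.R2.H44.EtCov
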