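import Mathlib
import Groth.Agent.R2.H44EtCov
import Groth.Agent.S7383

/-!
# Finitely presented affine models of an etale covering of an affine scheme over a quasi-separated base (helper44)

Namespace `Groth.Agent.R2.H44.FpModel`.

* `exists_descend_etale_cover_exact`: for `T = lim D_i` (affine schemes) and `w : W ⟶ T` etale surjective with `W`
  affine there are a stage `k`, an affine scheme `W_k` with `w_k : W_k ⟶ D_k` etale surjective, and a cartesian square
  `W = W_k ×_{D_k} T`.
* `exists_fp_model`: for `S` quasi-separated and `w : U ⟶ T` an etale surjective map of affine schemes over `S` there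
  is an etale surjective map `w' : U' ⟶ T'` of affine schemes locally of finite presentation over `S` with
  `U = U' ×_{T'} T`.
-/

set_option autoImplicit false
set_option backward.isDefEq.respectTransparency false
universe u

open CategoryTheory CategoryTheory.Limits AlgebraicGeometry

namespace Groth.Agent.R2.H44.FpModel

open Groth.Agent.R2.H44.LimSp Groth.Agent.R2.H44.LimDesc Groth.Agent.R2.H44.EtCov

section Cat

universe v₁ u₁

variable {C : Type u₁} [Category.{v₁} C] [HasPullbacks C]

/-- pasting: a pullback along `p = q ≫ p'` is a pullback of the pullback along `p'` -/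
theorem isPullback_lift {A B B' X Y : C} {fi : X ⟶ Y} {p : B ⟶ Y} {g : A ⟶ X} {f : A ⟶ B}
    (h : IsPullback g f fi p) (q : B ⟶ B') (p' : B' ⟶ Y) (hq : q ≫ p' = p) :
    IsPullback (pullback.lift g (f ≫ q) (by rw [h.w, Category.assoc, hq])) f (pullback.snd fi p') q := by
  refine IsPullback.of_right ?_ (pullback.lift_snd _ _ _) (IsPullback.of_hasPullback fi p')
  rw [pullback.lift_fst, hq]
  exact h

end Cat

theorem exists_descend_etale_cover_exact {I : Type u} [SmallCategory I] [IsCofiltered I] (D : I ⥤ Scheme.{u})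
    [∀ i, IsAffine (D.obj i)] (c : Cone D) (hc : IsLimit c) {W : Scheme.{u}} [IsAffine W] (w : W ⟶ c.pt)
    [Etale w] [Surjective w] :
    ∃ (k : I) (Wk : Scheme.{u}) (wk : Wk ⟶ D.obj k) (g : W ⟶ Wk),
      IsAffine Wk ∧ Etale wk ∧ Surjective wk ∧ IsPullback g w wk (c.π.app k) := by
  have hcpt : IsAffine c.pt := Scheme.isAffine_of_isLimit c hc
  obtain ⟨i, Xi, fi, g, hfi1, hfi2, hfi3, hpb⟩ := Groth.Agent.S0591.result D c hc W w
  have hsnd : w = hpb.isoPullback.hom ≫ pullback.snd fi (c.π.app i) :=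
    (hpb.isoPullback_hom_snd).symm
  have he' : Etale (pullback.snd fi (c.π.app i)) := by
    have he : Etale w := inferInstance
    rw [hsnd] at he
    exact (MorphismProperty.cancel_left_of_respectsIso @Etale _ _).1 he
  have hs' : Surjective (pullback.snd fi (c.π.app i)) := by
    have hs : Surjective w := inferInstance
    rw [hsnd] at hs
    exact (MorphismProperty.cancel_left_of_respectsIso @Surjective _ _).1 hs
  have hXi1 : CompactSpace Xi := QuasiCompact.compactSpace_of_compactSpace fi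
  have hXi2 : QuasiSeparatedSpace Xi := quasiSeparatedSpace_of_quasiSeparated fi
  have hE1 : ∀ j : Over i, CompactSpace ((pbFunctor D i fi).obj j) := fun j =>
    QuasiCompact.compactSpace_of_compactSpace (pullback.snd fi (D.map j.hom))
  have hE2 : ∀ j : Over i, QuasiSeparatedSpace ((pbFunctor D i fi).obj j) := fun j =>
    quasiSeparatedSpace_of_quasiSeparated (pullback.snd fi (D.map j.hom))
  have hE3 : ∀ {j k : Over i} (φ : j ⟶ k), IsAffineHom ((pbFunctor D i fi).map φ) := fun {j k} φ =>
    MorphismProperty.of_isPullback (P := @IsAffineHom)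
      (Groth.Agent.R2.H44.LimIso.isPullback_pbFunctor_map D i fi φ).flip inferInstance
  have hpt : IsAffine (pbCone D c i fi).pt := IsAffine.of_isIso hpb.isoPullback.inv
  obtain ⟨l, hl⟩ := Scheme.exists_isAffine_of_isLimit (pbFunctor D i fi) (pbCone D c i fi)
    (isLimitPbCone D c hc i fi)
  have hX₀ : IsAffine (pullback fi (D.map l.hom)) := hl
  have sqπ := Groth.Agent.R2.H44.LimIso.isPullback_pbCone_π D c i fi l
  have he₀ : Etale (pullback.snd (pullback.snd fi (D.map l.hom)) (c.π.app l.left)) :=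
    prop_of_isPullback_iso @Etale (IsPullback.of_hasPullback _ _) sqπ (𝟙 _) (by simp) he'
  have hs₀ : Surjective (pullback.snd (pullback.snd fi (D.map l.hom)) (c.π.app l.left)) :=
    prop_of_isPullback_iso @Surjective (IsPullback.of_hasPullback _ _) sqπ (𝟙 _) (by simp) hs'
  obtain ⟨l₁, φ₁, h₁⟩ := eventually_of_affDescends @Etale affDescends_etale D c hc l.left
    (pullback.snd fi (D.map l.hom)) he₀
  obtain ⟨l₂, φ₂, h₂⟩ := eventually_of_affDescends @Surjective affDescends_surjective D c hc l.left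
    (pullback.snd fi (D.map l.hom)) hs₀
  obtain ⟨m, ψ₁, ψ₂, hψ⟩ := IsCofiltered.cospan φ₁ φ₂
  have h₁' : Etale (pullback.snd (pullback.snd fi (D.map l.hom)) (D.map (ψ₁ ≫ φ₁))) := by
    rw [D.map_comp]
    exact snd_comp_of_snd @Etale _ _ _ h₁
  have h₂' : Surjective (pullback.snd (pullback.snd fi (D.map l.hom)) (D.map (ψ₁ ≫ φ₁))) := by
    rw [hψ, D.map_comp]
    exact snd_comp_of_snd @Surjective _ _ _ h₂
  have sq₁ := isPullback_lift hpb (c.π.app l.left) (D.map l.hom) (c.w l.hom)
  have sq₂ := isPullback_lift sq₁ (c.π.app m) (D.map (ψ₁ ≫ φ₁)) (c.w _)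
  exact ⟨m, _, _, _, inferInstance, h₁', h₂', sq₂⟩

attribute [local instance] IsCofiltered.isConnected in
theorem exists_fp_model {S : Scheme.{u}} [QuasiSeparatedSpace S] {T U : Over S} (hT : IsAffine T.left)
    (hU : IsAffine U.left) (w : U ⟶ T) (he : Etale w.left) (hs : Surjective w.left) :
    ∃ (T' U' : Over S) (w' : U' ⟶ T') (t : T ⟶ T') (g : U ⟶ U'),
      IsAffine T'.left ∧ IsAffine U'.left ∧ LocallyOfFinitePresentation T'.hom ∧ Etale w'.left ∧
      Surjective w'.left ∧ IsPullback g w w' t := by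
  -- a quasi-compact open of `S` containing the image of `T`
  have hK : IsCompact (Set.range T.hom) := isCompact_range T.hom.continuous
  obtain ⟨W₀, hW₀c, hW₀o, hKW₀, -⟩ :=
    PrespectralSpace.exists_isCompact_and_isOpen_between hK isOpen_univ (Set.subset_univ _)
  let S' : S.Opens := ⟨W₀, hW₀o⟩
  have hrange : Set.range T.hom ⊆ Set.range S'.ι := by
    rw [Scheme.Opens.range_ι]
    exact hKW₀
  let t' : T.left ⟶ S'.toScheme := IsOpenImmersion.lift S'.ι T.hom hrange
  have ht' : t' ≫ S'.ι = T.hom := IsOpenImmersion.lift_fac _ _ _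
  have : CompactSpace S'.toScheme := isCompact_iff_compactSpace.mp hW₀c
  have : QuasiSeparatedSpace S'.toScheme := quasiSeparatedSpace_of_quasiSeparated S'.ι
  have : IsAffine T.left := hT
  have : IsAffine U.left := hU
  obtain ⟨J, iJ1, iJ2, iJ3, E, cE, hcE, hE, hEa, ⟨isoT⟩⟩ := Groth.Agent.S7383.result t'
  -- the scheme-level system
  let D₁ : Jᵒᵖ ⥤ Scheme.{u} := E ⋙ Over.forget _
  let c₁ : Cone D₁ := (Over.forget _).mapCone cE
  have hc₁ : IsLimit c₁ := isLimitOfPreserves (Over.forget _) hcE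
  have hD₁a : ∀ {i j : Jᵒᵖ} (f : i ⟶ j), IsAffineHom (D₁.map f) := fun f => hEa _ _ f
  have hD₁c : ∀ i, CompactSpace (D₁.obj i) := fun i => by
    have := (hE i).2.1
    exact QuasiCompact.compactSpace_of_compactSpace (E.obj i).hom
  have hD₁s : ∀ i, QuasiSeparatedSpace (D₁.obj i) := fun i => by
    have := (hE i).2.2
    exact quasiSeparatedSpace_of_quasiSeparated (E.obj i).hom
  let eT : c₁.pt ≅ T.left := (Over.forget _).mapIso isoT
  have hc₁aff : IsAffine c₁.pt := IsAffine.of_isIso eT.hom
  obtain ⟨l₀, hl₀⟩ := Scheme.exists_isAffine_of_isLimit D₁ c₁ hc₁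
  -- restrict to `Over l₀`
  let D₂ : Over l₀ ⥤ Scheme.{u} := Over.forget l₀ ⋙ D₁
  let c₂ : Cone D₂ := c₁.whisker (Over.forget l₀)
  have hc₂ : IsLimit c₂ := (Functor.Initial.isLimitWhiskerEquiv (Over.forget l₀) c₁).symm hc₁
  have hD₂ : ∀ l, IsAffine (D₂.obj l) := fun l => by
    have := hD₁a l.hom
    exact isAffine_of_isAffineHom (D₁.map l.hom)
  -- the covering
  let w₂ : U.left ⟶ c₂.pt := w.left ≫ eT.inv
  have hw₂e : Etale w₂ := by
    have := he
    exact (inferInstance : Etale (w.left ≫ eT.inv))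
  have hw₂s : Surjective w₂ := by
    have := hs
    exact (inferInstance : Surjective (w.left ≫ eT.inv))
  obtain ⟨k, Wk, wk, g, hWk, hwke, hwks, sq⟩ := exists_descend_etale_cover_exact D₂ c₂ hc₂ w₂
  -- package over `S`
  have hlfp : LocallyOfFinitePresentation ((E.obj k.left).hom ≫ S'.ι) := by
    have := (hE k.left).1
    infer_instance
  let T' : Over S := Over.mk ((E.obj k.left).hom ≫ S'.ι)
  let U' : Over S := Over.mk (wk ≫ T'.hom)
  let w' : U' ⟶ T' := Over.homMk wk rfl
  have htw : (eT.inv ≫ c₂.π.app k) ≫ T'.hom = T.hom := by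
    have e1 : (cE.π.app k.left).left ≫ (E.obj k.left).hom = cE.pt.hom := Over.w (cE.π.app k.left)
    have e2 : isoT.inv.left ≫ cE.pt.hom = t' := Over.w isoT.inv
    change (isoT.inv.left ≫ (cE.π.app k.left).left) ≫ (E.obj k.left).hom ≫ S'.ι = T.hom
    rw [Category.assoc, reassoc_of% e1, reassoc_of% e2, ht']
  let t : T ⟶ T' := Over.homMk (eT.inv ≫ c₂.π.app k) htw
  have sq' : IsPullback g w.left wk (eT.inv ≫ c₂.π.app k) :=
    sq.of_iso (Iso.refl _) (Iso.refl _) eT (Iso.refl _) (by simp) (by simp [w₂]) (by simp) (by simp)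
  have hgw : g ≫ U'.hom = U.hom := by
    have e3 : g ≫ wk ≫ T'.hom = (w.left ≫ (eT.inv ≫ c₂.π.app k)) ≫ T'.hom := by
      rw [← sq'.w, Category.assoc]
    change g ≫ wk ≫ T'.hom = U.hom
    rw [e3, Category.assoc, htw]
    exact Over.w w
  let g' : U ⟶ U' := Over.homMk g hgw
  refine ⟨T', U', w', t, g', hD₂ k, hWk, hlfp, hwke, hwks, ?_⟩
  refine IsPullback.of_map (Over.forget S) ?_ sq'
  ext
  exact sq'.w

end Groth.Agent.R2.H44.FpModel
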