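import Groth.Agent.S10067

/-!
# Relatively limit preserving maps of presheaves: elementwise criterion (helper44)

Namespace `Groth.Agent.R2.H44.RelLimPres`.

* `isRelLimitPreserving_iff_elementwise`: a transformation `a : F ⟶ G` of presheaves of sets on schemes
  over `S` is relatively limit preserving iff for every cofiltered limit `T = lim T_i` of affine schemes over
  `S`: (existence) every `x ∈ F(T)` lying over the restriction of some `y ∈ G(T_j)` comes from an
  `x' ∈ F(T_k)` over `y|T_k` for some `k ⟶ j`, and (uniqueness) two `x x' ∈ F(T_j)` with the same image in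
  `G(T_j)` and the same restriction to `T` agree on some `T_k`.
* `IsRelLimitPreserving.comp`, `IsRelLimitPreserving.of_comp`, `IsRelLimitPreserving.of_isPullback`.
-/

set_option autoImplicit false
universe u
open CategoryTheory CategoryTheory.Limits AlgebraicGeometry Opposite

namespace Groth.Agent.R2.H44.RelLimPres

variable {S : Scheme.{u}}

/-- The existence half of the elementwise criterion. -/
def ExistsCond {F G : AlgSp.PSp S} (a : F ⟶ G) {I : Type u} [SmallCategory I] (D : I ⥤ Over S)
    (c : Cone D) : Prop :=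
  ∀ (j : I) (y : G.obj (op (D.obj j))) (x : F.obj (op c.pt)),
    a.app (op c.pt) x = G.map (c.π.app j).op y →
      ∃ (k : I) (f : k ⟶ j) (x' : F.obj (op (D.obj k))),
        a.app (op (D.obj k)) x' = G.map (D.map f).op y ∧ F.map (c.π.app k).op x' = x

/-- The uniqueness half of the elementwise criterion. -/
def UniqueCond {F G : AlgSp.PSp S} (a : F ⟶ G) {I : Type u} [SmallCategory I] (D : I ⥤ Over S)
    (c : Cone D) : Prop :=
  ∀ (j : I) (x x' : F.obj (op (D.obj j))),
    a.app (op (D.obj j)) x = a.app (op (D.obj j)) x' →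
      F.map (c.π.app j).op x = F.map (c.π.app j).op x' →
        ∃ (k : I) (f : k ⟶ j), F.map (D.map f).op x = F.map (D.map f).op x'

theorem isPullback_iff_conds {F G : AlgSp.PSp S} (a : F ⟶ G) {I : Type u} [SmallCategory I]
    [IsCofiltered I] (D : I ⥤ Over S) (c : Cone D) :
    IsPullback (colimMap (Functor.whiskerLeft D.op a)) (colimit.desc (D.op ⋙ F) (F.mapCocone c.op))
        (colimit.desc (D.op ⋙ G) (G.mapCocone c.op)) (a.app (Opposite.op c.pt)) ↔
      ExistsCond a D c ∧ UniqueCond a D c := by
  rw [Groth.Agent.S10067.isPullback_colim_iff]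
  swap
  · intro j x
    exact NatTrans.naturality_apply a (c.π.app j.unop).op x
  constructor
  · rintro ⟨h1, h2⟩
    refine ⟨?_, ?_⟩
    · intro j y x hx
      obtain ⟨k, f, x', hx1, hx2⟩ := h1 (op j) y x hx
      exact ⟨k.unop, f.unop, x', hx1, hx2⟩
    · intro j x x' e1 e2
      obtain ⟨k, f, hf⟩ := h2 (op j) x x' e1 e2
      exact ⟨k.unop, f.unop, hf⟩
  · rintro ⟨h1, h2⟩
    refine ⟨?_, ?_⟩
    · intro j y x hx
      obtain ⟨k, f, x', hx1, hx2⟩ := h1 j.unop y x hx
      exact ⟨op k, f.op, x', hx1, hx2⟩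
    · intro j x x' e1 e2
      obtain ⟨k, f, hf⟩ := h2 j.unop x x' e1 e2
      exact ⟨op k, f.op, hf⟩

/-- Elementwise criterion for relative limit preservation. -/
theorem isRelLimitPreserving_iff_elementwise {F G : AlgSp.PSp S} (a : F ⟶ G) :
    AlgSp.IsRelLimitPreserving a ↔
      ∀ ⦃I : Type u⦄ [SmallCategory I] [IsCofiltered I] (D : I ⥤ Over S) (c : Cone D),
        IsLimit ((Over.forget S).mapCone c) → (∀ i, IsAffine (D.obj i).left) → IsAffine c.pt.left →
          ExistsCond a D c ∧ UniqueCond a D c := by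
  rw [Groth.Agent.S10067.result]
  constructor
  · intro h I _ _ D c hc hD hT
    exact (isPullback_iff_conds a D c).1 (h D c hc hD hT)
  · intro h I _ _ D c hc hD hT
    exact (isPullback_iff_conds a D c).2 (h D c hc hD hT)

theorem map_map_apply {F : AlgSp.PSp S} {A B C : Over S} (f : A ⟶ B) (g : B ⟶ C) (x : F.obj (op C)) :
    F.map f.op (F.map g.op x) = F.map (f ≫ g).op x := by
  rw [op_comp, Functor.map_comp_apply]

theorem nat_apply {F G : AlgSp.PSp S} (a : F ⟶ G) {A B : Over S} (f : A ⟶ B) (x : F.obj (op B)) :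
    a.app (op A) (F.map f.op x) = G.map f.op (a.app (op B) x) :=
  NatTrans.naturality_apply a f.op x

theorem map_w_apply {F : AlgSp.PSp S} {I : Type u} [SmallCategory I] {D : I ⥤ Over S} (c : Cone D)
    {k j : I} (f : k ⟶ j) (x : F.obj (op (D.obj j))) :
    F.map (c.π.app k).op (F.map (D.map f).op x) = F.map (c.π.app j).op x := by
  have h := map_map_apply (F := F) (A := c.pt) (c.π.app k) (D.map f) x
  have hw : c.π.app k ≫ D.map f = c.π.app j := c.w f
  exact h.trans (by rw [hw])

theorem map_D_comp_apply {F : AlgSp.PSp S} {I : Type u} [SmallCategory I] (D : I ⥤ Over S)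
    {l k j : I} (g : l ⟶ k) (f : k ⟶ j) (x : F.obj (op (D.obj j))) :
    F.map (D.map g).op (F.map (D.map f).op x) = F.map (D.map (g ≫ f)).op x := by
  rw [map_map_apply, ← D.map_comp]

/-- Composites of relatively limit preserving maps are relatively limit preserving. -/
theorem comp {F G H : AlgSp.PSp S} (a : F ⟶ G) (b : G ⟶ H)
    (ha : AlgSp.IsRelLimitPreserving a) (hb : AlgSp.IsRelLimitPreserving b) :
    AlgSp.IsRelLimitPreserving (a ≫ b) := by
  rw [isRelLimitPreserving_iff_elementwise] at ha hb ⊢
  intro I _ _ D c hc hD hT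
  obtain ⟨ha1, ha2⟩ := ha D c hc hD hT
  obtain ⟨hb1, hb2⟩ := hb D c hc hD hT
  refine ⟨?_, ?_⟩
  · intro j z x hx
    -- `a x ∈ G(T)` lies over `z`
    obtain ⟨k, f, y', hy1, hy2⟩ := hb1 j z (a.app _ x) hx
    obtain ⟨l, g, x', hx1, hx2⟩ := ha1 k y' x hy2.symm
    refine ⟨l, g ≫ f, x', ?_, hx2⟩
    calc b.app _ (a.app _ x') = b.app _ (G.map (D.map g).op y') := congrArg _ hx1
      _ = H.map (D.map g).op (b.app _ y') := nat_apply b _ _
      _ = H.map (D.map g).op (H.map (D.map f).op z) := congrArg _ hy1
      _ = H.map (D.map (g ≫ f)).op z := map_D_comp_apply D g f z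
  · intro j x x' e1 e2
    have e1' : b.app _ (a.app _ x) = b.app _ (a.app _ x') := e1
    have e3 : G.map (c.π.app j).op (a.app _ x) = G.map (c.π.app j).op (a.app _ x') :=
      (nat_apply a (c.π.app j) x).symm.trans ((congrArg _ e2).trans (nat_apply a (c.π.app j) x'))
    obtain ⟨k, f, hf⟩ := hb2 j _ _ e1' e3
    have hf' : a.app _ (F.map (D.map f).op x) = a.app _ (F.map (D.map f).op x') :=
      (nat_apply a (D.map f) x).trans (hf.trans (nat_apply a (D.map f) x').symm)
    have e4 : F.map (c.π.app k).op (F.map (D.map f).op x) =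
        F.map (c.π.app k).op (F.map (D.map f).op x') :=
      (map_w_apply c f x).trans (e2.trans (map_w_apply c f x').symm)
    obtain ⟨l, g, hg⟩ := ha2 k _ _ hf' e4
    exact ⟨l, g ≫ f, (map_D_comp_apply D g f x).symm.trans (hg.trans (map_D_comp_apply D g f x'))⟩

/-- If `a ≫ b` and `b` are relatively limit preserving, then so is `a`. -/
theorem of_comp {F G H : AlgSp.PSp S} (a : F ⟶ G) (b : G ⟶ H)
    (hab : AlgSp.IsRelLimitPreserving (a ≫ b)) (hb : AlgSp.IsRelLimitPreserving b) :
    AlgSp.IsRelLimitPreserving a := by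
  rw [isRelLimitPreserving_iff_elementwise] at hab hb ⊢
  intro I _ _ D c hc hD hT
  obtain ⟨hab1, hab2⟩ := hab D c hc hD hT
  obtain ⟨hb1, hb2⟩ := hb D c hc hD hT
  refine ⟨?_, ?_⟩
  · intro j y x hx
    have hx' : (a ≫ b).app (op c.pt) x = H.map (c.π.app j).op (b.app _ y) :=
      calc b.app _ (a.app _ x) = b.app _ (G.map (c.π.app j).op y) := congrArg _ hx
        _ = H.map (c.π.app j).op (b.app _ y) := nat_apply b _ _
    obtain ⟨k, f, x', hx1, hx2⟩ := hab1 j (b.app _ y) x hx'
    have hx1' : b.app _ (a.app _ x') = H.map (D.map f).op (b.app _ y) := hx1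
    -- `a x'` and `y|T_k` have the same image under `b` and the same restriction to `T`
    have e1 : b.app _ (a.app _ x') = b.app _ (G.map (D.map f).op y) :=
      hx1'.trans (nat_apply b (D.map f) y).symm
    have e2 : G.map (c.π.app k).op (a.app _ x') = G.map (c.π.app k).op (G.map (D.map f).op y) :=
      calc G.map (c.π.app k).op (a.app _ x') = a.app _ (F.map (c.π.app k).op x') :=
            (nat_apply a (c.π.app k) x').symm
        _ = a.app _ x := congrArg _ hx2
        _ = G.map (c.π.app j).op y := hx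
        _ = G.map (c.π.app k).op (G.map (D.map f).op y) := (map_w_apply c f y).symm
    obtain ⟨l, g, hg⟩ := hb2 k _ _ e1 e2
    refine ⟨l, g ≫ f, F.map (D.map g).op x', ?_, ?_⟩
    · calc a.app _ (F.map (D.map g).op x') = G.map (D.map g).op (a.app _ x') := nat_apply a _ _
        _ = G.map (D.map g).op (G.map (D.map f).op y) := hg
        _ = G.map (D.map (g ≫ f)).op y := map_D_comp_apply D g f y
    · exact (map_w_apply c g x').trans hx2
  · intro j x x' e1 e2
    have e1' : (a ≫ b).app _ x = (a ≫ b).app _ x' := by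
      change b.app _ (a.app _ x) = b.app _ (a.app _ x')
      rw [e1]
    exact hab2 j x x' e1' e2

/-- A base change (in presheaves) of a relatively limit preserving map is relatively limit preserving. -/
theorem of_isPullback {F G H P : AlgSp.PSp S} {a : F ⟶ G} {b : H ⟶ G} {fst : P ⟶ F} {snd : P ⟶ H}
    (hP : IsPullback fst snd a b) (ha : AlgSp.IsRelLimitPreserving a) :
    AlgSp.IsRelLimitPreserving snd := by
  rw [isRelLimitPreserving_iff_elementwise] at ha ⊢
  intro I _ _ D c hc hD hT
  obtain ⟨ha1, ha2⟩ := ha D c hc hD hT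
  -- pointwise pullbacks
  have hpt : ∀ T : Over S, IsPullback (fst.app (op T)) (snd.app (op T)) (a.app (op T)) (b.app (op T)) :=
    fun T => hP.map ((evaluation _ _).obj (op T))
  have hcomm : ∀ (T : Over S) (p : P.obj (op T)), a.app _ (fst.app _ p) = b.app _ (snd.app _ p) := by
    intro T p
    exact ConcreteCategory.congr_hom (hpt T).w p
  have hext : ∀ (T : Over S) (p p' : P.obj (op T)), fst.app _ p = fst.app _ p' →
      snd.app _ p = snd.app _ p' → p = p' := by
    intro T p p' h1 h2
    exact ((Types.isPullback_iff _ _ _ _).1 (hpt T)).2.1 p p' ⟨h1, h2⟩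
  have hexi : ∀ (T : Over S) (x : F.obj (op T)) (y : H.obj (op T)), a.app _ x = b.app _ y →
      ∃ p : P.obj (op T), fst.app _ p = x ∧ snd.app _ p = y := by
    intro T x y h
    exact ((Types.isPullback_iff _ _ _ _).1 (hpt T)).2.2 x y h
  refine ⟨?_, ?_⟩
  · intro j y p hp
    have h1 : a.app _ (fst.app _ p) = G.map (c.π.app j).op (b.app _ y) :=
      calc a.app _ (fst.app _ p) = b.app _ (snd.app _ p) := hcomm _ p
        _ = b.app _ (H.map (c.π.app j).op y) := congrArg _ hp
        _ = G.map (c.π.app j).op (b.app _ y) := nat_apply b _ _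
    obtain ⟨k, f, x', hx1, hx2⟩ := ha1 j (b.app _ y) (fst.app _ p) h1
    obtain ⟨p', hp1, hp2⟩ := hexi (D.obj k) x' (H.map (D.map f).op y)
      (hx1.trans (nat_apply b (D.map f) y).symm)
    refine ⟨k, f, p', hp2, ?_⟩
    apply hext c.pt
    · calc fst.app _ (P.map (c.π.app k).op p') = F.map (c.π.app k).op (fst.app _ p') :=
            nat_apply fst _ _
        _ = F.map (c.π.app k).op x' := congrArg _ hp1
        _ = fst.app _ p := hx2
    · calc snd.app _ (P.map (c.π.app k).op p') = H.map (c.π.app k).op (snd.app _ p') :=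
            nat_apply snd _ _
        _ = H.map (c.π.app k).op (H.map (D.map f).op y) := congrArg _ hp2
        _ = H.map (c.π.app j).op y := map_w_apply c f y
        _ = snd.app _ p := hp.symm
  · intro j p p' e1 e2
    have h1 : a.app _ (fst.app _ p) = a.app _ (fst.app _ p') :=
      (hcomm _ p).trans ((congrArg _ e1).trans (hcomm _ p').symm)
    have h2 : F.map (c.π.app j).op (fst.app _ p) = F.map (c.π.app j).op (fst.app _ p') :=
      (nat_apply fst (c.π.app j) p).symm.trans ((congrArg _ e2).trans (nat_apply fst (c.π.app j) p'))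
    obtain ⟨k, f, hf⟩ := ha2 j _ _ h1 h2
    refine ⟨k, f, ?_⟩
    apply hext (D.obj k)
    · exact (nat_apply fst (D.map f) p).trans (hf.trans (nat_apply fst (D.map f) p').symm)
    · exact (nat_apply snd (D.map f) p).trans ((congrArg _ e1).trans (nat_apply snd (D.map f) p').symm)

end Groth.Agent.R2.H44.RelLimPres
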