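import Mathlib
import Groth.Agent.Lib.Helper12SmoothSrc2
import Groth.Agent.Lib.Helper3FlatModel

/-!
# Local finite presentation is fppf local on the source (helper44)

Namespace `Groth.Agent.R2.H44.FppfSrc`.

Adaptation of helper12's `Helper12SmoothSrc2` (smooth covers of the source) to flat covers of finite presentation, using
helper3's Noetherian approximation `exists_flat_model` of flat finitely presented algebras.

* `exists_subalgebra_fg_flat`: a flat finitely presented `A`-algebra is the base change of a flat finitely presented algebra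
  over a finitely generated `R`-subalgebra of `A`.
* `finiteType_of_flat_of_surjective`, `finitePresentation_of_flat_of_surjective`: ring forms.
* `locallyOfFiniteType_of_fppf_cover_source`, `locallyOfFinitePresentation_of_fppf_cover_source`.
-/

set_option autoImplicit false
set_option linter.style.haveILetI false
universe u

open TensorProduct

namespace Groth.Agent.R2.H44.FppfSrc

open Groth.Agent.Lib.Helper12.FPDescent Groth.Agent.Lib.Helper12.SmoothSrc2

set_option synthInstance.maxHeartbeats 400000 in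
set_option maxHeartbeats 2000000 in
/-- a flat finitely presented `A`-algebra is the base change of a flat finitely presented algebra over a finitely
generated `R`-subalgebra of `A` -/
theorem exists_subalgebra_fg_flat (R : Type*) (A B : Type u) [CommRing R] [CommRing A] [CommRing B] [Algebra R A] [Algebra A B]
    [Module.Flat A B] [Algebra.FinitePresentation A B] :
    ∃ (A₀ : Subalgebra R A) (B₀ : Type u) (_ : CommRing B₀) (_ : Algebra A₀ B₀),
      A₀.FG ∧ Module.Flat A₀ B₀ ∧ Algebra.FinitePresentation A₀ B₀ ∧ Nonempty (B ≃ₐ[A] A ⊗[A₀] B₀) := by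
  classical
  obtain ⟨R₀, C₀, _, _, _, _, hft, hfp, hflat, ⟨e⟩⟩ := Groth.Agent.Lib.Helper3.FlatOpen.exists_flat_model A B
  obtain ⟨s, hs⟩ := hft.out
  let A₀ : Subalgebra R A := Algebra.adjoin R ((s.image (algebraMap R₀ A) : Finset A) : Set A)
  have hA₀ : A₀.FG := Subalgebra.fg_adjoin_finset _
  -- the image of `R₀` lies in `A₀`
  have hmem : ∀ r : R₀, algebraMap R₀ A r ∈ A₀ := by
    intro r
    have hr : r ∈ Algebra.adjoin ℤ (s : Set R₀) := by rw [hs]; trivial
    induction hr using Algebra.adjoin_induction with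
    | mem x hx => exact Algebra.subset_adjoin (Finset.mem_coe.2 (Finset.mem_image_of_mem _ hx))
    | algebraMap z =>
      rw [← IsScalarTower.algebraMap_apply, eq_intCast]
      exact intCast_mem A₀ z
    | add x y _ _ hx hy => rw [map_add]; exact add_mem hx hy
    | mul x y _ _ hx hy => rw [map_mul]; exact mul_mem hx hy
  let φ : R₀ →+* A₀ := (algebraMap R₀ A).codRestrict A₀ hmem
  letI : Algebra R₀ A₀ := φ.toAlgebra
  haveI : IsScalarTower R₀ A₀ A := IsScalarTower.of_algebraMap_eq (fun r => rfl)
  refine ⟨A₀, A₀ ⊗[R₀] C₀, inferInstance, inferInstance, hA₀, inferInstance, inferInstance, ⟨?_⟩⟩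
  exact e.symm.trans (Algebra.TensorProduct.cancelBaseChange R₀ A₀ A A C₀).symm

/-- Finite type descends along a flat finitely presented cover of the source (ring form). -/
theorem finiteType_of_flat_of_surjective {R A B : Type u} [CommRing R] [CommRing A] [CommRing B]
    [Algebra R A] [Algebra A B] [Algebra R B] [IsScalarTower R A B] [Module.Flat A B] [Algebra.FinitePresentation A B]
    (hs : Function.Surjective (PrimeSpectrum.comap (algebraMap A B)))
    [Algebra.FiniteType R B] : Algebra.FiniteType R A := by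
  obtain ⟨A₀, B₀, _, _, hfg, hfl, hfp, ⟨e⟩⟩ := exists_subalgebra_fg_flat R A B
  have hA₀ : Algebra.FiniteType R A₀ := (Subalgebra.fg_iff_finiteType A₀).mp hfg
  have h1 : Algebra.FiniteType R (A ⊗[A₀] B₀) :=
    Algebra.FiniteType.equiv ‹_› (e.restrictScalars R)
  have h2 : Algebra.FiniteType A₀ (A ⊗[A₀] B₀) :=
    Algebra.FiniteType.of_restrictScalars_finiteType R A₀ _
  have h3 : Algebra.FiniteType A₀ A := by
    refine Groth.Agent.Lib.Helper20.EtSrc.finiteType_of_tensor (B₀ := B₀) (hft := h2) ?_
    intro q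
    obtain ⟨P, rfl⟩ := hs q
    let ρ : B₀ →+* B := (RingHomClass.toRingHom e.symm).comp
      (Algebra.TensorProduct.includeRight (R := A₀) (A := A) (B := B₀)).toRingHom
    have hρ : ρ.comp (algebraMap A₀ B₀) = (algebraMap A B).comp (algebraMap A₀ A) := by
      ext a₀
      simp only [ρ, RingHom.comp_apply, AlgHom.toRingHom_eq_coe, RingHom.coe_coe,
        Algebra.TensorProduct.includeRight_apply]
      have h : (1 : A) ⊗ₜ[A₀] (algebraMap A₀ B₀ a₀) = algebraMap A (A ⊗[A₀] B₀) (algebraMap A₀ A a₀) := by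
        rw [Algebra.TensorProduct.algebraMap_apply, Algebra.algebraMap_eq_smul_one (A := B₀),
          TensorProduct.tmul_smul, TensorProduct.smul_tmul', Algebra.smul_def, mul_one]
        rfl
      erw [h]
      exact e.symm.commutes _
    refine ⟨PrimeSpectrum.comap ρ P, ?_⟩
    rw [← PrimeSpectrum.comap_comp_apply, hρ, PrimeSpectrum.comap_comp_apply]
  exact Algebra.FiniteType.trans hA₀ h3

set_option synthInstance.maxHeartbeats 400000 in
set_option maxHeartbeats 2000000 in
/-- Finite presentation descends along a flat finitely presented cover of the source (ring form). -/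
theorem finitePresentation_of_flat_of_surjective {R A B : Type u} [CommRing R] [CommRing A]
    [CommRing B] [Algebra R A] [Algebra A B] [Algebra R B] [IsScalarTower R A B]
    [Module.Flat A B] [Algebra.FinitePresentation A B]
    (hs : Function.Surjective (PrimeSpectrum.comap (algebraMap A B)))
    [Algebra.FinitePresentation R B] : Algebra.FinitePresentation R A := by
  haveI : Algebra.FiniteType R A := finiteType_of_flat_of_surjective (B := B) hs
  obtain ⟨A₀, B₀, _, _, hfg, hfl, hfp, ⟨e⟩⟩ := exists_subalgebra_fg_flat ℤ A B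
  obtain ⟨n, φ, hφ⟩ := Algebra.FiniteType.iff_quotient_mvPolynomial''.1
    (inferInstance : Algebra.FiniteType R A)
  haveI : Algebra.FiniteType ℤ A₀ := (Subalgebra.fg_iff_finiteType A₀).mp hfg
  haveI : Algebra.FinitePresentation ℤ A₀ :=
    Algebra.FinitePresentation.of_finiteType.1 inferInstance
  haveI : Algebra.FinitePresentation (MvPolynomial (Fin n) R) (MvPolynomial (Fin n) R ⊗[ℤ] A₀) :=
    inferInstance
  haveI : Algebra.FinitePresentation R (MvPolynomial (Fin n) R ⊗[ℤ] A₀) :=
    Algebra.FinitePresentation.trans R (MvPolynomial (Fin n) R) _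
  letI : Algebra A₀ (MvPolynomial (Fin n) R ⊗[ℤ] A₀) := Algebra.TensorProduct.rightAlgebra
  let π : MvPolynomial (Fin n) R ⊗[ℤ] A₀ →ₐ[R] A :=
    Algebra.TensorProduct.productLeftAlgHom φ A₀.val
  have hπ : Function.Surjective π := by
    intro a
    obtain ⟨p, rfl⟩ := hφ a
    exact ⟨p ⊗ₜ 1, by simp [π]⟩
  let π₀ : MvPolynomial (Fin n) R ⊗[ℤ] A₀ →ₐ[A₀] A :=
    { π.toRingHom with
      commutes' := fun a0 => by
        show π ((1 : MvPolynomial (Fin n) R) ⊗ₜ a0) = _
        simp [π] }
  exact finitePresentation_of_tensor' (A₀ := A₀) (B₀ := B₀) π π₀ (fun a => rfl) hπ e hs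

open AlgebraicGeometry CategoryTheory

/-- Generic descent along flat finitely presented covers of the source. -/
theorem of_fppf_cover_source {P : MorphismProperty Scheme.{u}}
    {Q : ∀ {R S : Type u} [CommRing R] [CommRing S], (R →+* S) → Prop}
    [HasRingHomProperty P Q]
    (hQ : RingHom.StableUnderCompositionWithLocalizationAwaySource Q)
    (hdesc : ∀ {R A B : Type u} [CommRing R] [CommRing A] [CommRing B] (φ : R →+* A)
      (ψ : A →+* B), ψ.Flat → ψ.FinitePresentation → Function.Surjective (PrimeSpectrum.comap ψ) →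
        Q (ψ.comp φ) → Q φ)
    {X' X Y : Scheme.{u}} (f : X' ⟶ X) (g : X ⟶ Y) [Flat f] [LocallyOfFinitePresentation f] [Surjective f]
    (h : P (f ≫ g)) : P g := by
  rw [HasRingHomProperty.iff_exists_appLE (P := P) hQ]
  intro x
  obtain ⟨U, hU, hgx, -⟩ := TopologicalSpace.Opens.isBasis_iff_nbhd.mp Y.isBasis_affineOpens
    (TopologicalSpace.Opens.mem_top (g x))
  obtain ⟨V₀, hV₀, hxV₀, eV₀⟩ := TopologicalSpace.Opens.isBasis_iff_nbhd.mp X.isBasis_affineOpens
    (show x ∈ g ⁻¹ᵁ U from hgx)
  obtain ⟨x', rfl⟩ := f.surjective x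
  obtain ⟨W₀, hW₀, hxW₀, eW₀⟩ := TopologicalSpace.Opens.isBasis_iff_nbhd.mp X'.isBasis_affineOpens
    (show x' ∈ f ⁻¹ᵁ V₀ from hxV₀)
  let O : X.Opens := ⟨f '' W₀, f.isOpenMap _ W₀.isOpen⟩
  obtain ⟨a, haO, hxa⟩ := hV₀.exists_basicOpen_le (V := O) ⟨f x', ⟨x', hxW₀, rfl⟩⟩ hxV₀
  let V : X.Opens := X.basicOpen a
  have hV : IsAffineOpen V := hV₀.basicOpen a
  let W : X'.Opens := X'.basicOpen (f.appLE V₀ W₀ eW₀ a)
  have hW : IsAffineOpen W := hW₀.basicOpen _
  have hWeq : W = W₀ ⊓ f ⁻¹ᵁ V := Scheme.basicOpen_appLE f W₀ V₀ eW₀ a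
  have eW : W ≤ f ⁻¹ᵁ V := hWeq ▸ inf_le_right
  have eV : V ≤ g ⁻¹ᵁ U := (X.basicOpen_le a).trans eV₀
  refine ⟨⟨U, hU⟩, ⟨V, hV⟩, hxa, eV, ?_⟩
  apply hdesc (g.appLE U V eV).hom (f.appLE V W eW).hom
  · exact HasRingHomProperty.appLE (P := @Flat) f inferInstance ⟨V, hV⟩ ⟨W, hW⟩ eW
  · exact HasRingHomProperty.appLE (P := @LocallyOfFinitePresentation) f inferInstance ⟨V, hV⟩ ⟨W, hW⟩ eW
  · apply Groth.Agent.Lib.Helper20.EtSrc.comap_appLE_surjective f hV hW eW
    intro y hy
    obtain ⟨w, hw, rfl⟩ := haO hy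
    exact ⟨w, hWeq ▸ ⟨hw, hy⟩, rfl⟩
  · rw [← CommRingCat.hom_comp, Scheme.Hom.appLE_comp_appLE]
    exact HasRingHomProperty.appLE (P := P) _ h ⟨U, hU⟩ ⟨W, hW⟩ _

theorem locallyOfFiniteType_of_fppf_cover_source {X' X Y : Scheme.{u}} (f : X' ⟶ X) (g : X ⟶ Y)
    [Flat f] [LocallyOfFinitePresentation f] [Surjective f] [h : LocallyOfFiniteType (f ≫ g)] :
    LocallyOfFiniteType g := by
  refine of_fppf_cover_source (P := @LocallyOfFiniteType) (Q := @RingHom.FiniteType) ?_ ?_ f g h
  · intro R S T _ _ _ _ r _ φ hφ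
    exact hφ.comp (RingHom.finiteType_holdsForLocalizationAway S r)
  · intro R A B _ _ _ φ ψ hψ hψ' hs hc
    algebraize [φ, ψ, ψ.comp φ]
    have : Module.Flat A B := hψ
    have : Algebra.FinitePresentation A B := hψ'
    have : Algebra.FiniteType R B := hc
    exact finiteType_of_flat_of_surjective (R := R) (A := A) (B := B) hs

/-- Local finite presentation descends along flat finitely presented covers of the source. -/
theorem locallyOfFinitePresentation_of_fppf_cover_source {X' X Y : Scheme.{u}} (f : X' ⟶ X)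
    (g : X ⟶ Y) [Flat f] [LocallyOfFinitePresentation f] [Surjective f]
    [h : LocallyOfFinitePresentation (f ≫ g)] : LocallyOfFinitePresentation g := by
  refine of_fppf_cover_source
    (P := @LocallyOfFinitePresentation) (Q := @RingHom.FinitePresentation) ?_ ?_ f g h
  · intro R S T _ _ _ _ r _ φ hφ
    exact hφ.comp (RingHom.finitePresentation_holdsForLocalizationAway S r)
  · intro R A B _ _ _ φ ψ hψ hψ' hs hc
    algebraize [φ, ψ, ψ.comp φ]
    have : Module.Flat A B := hψ
    have : Algebra.FinitePresentation A B := hψ'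
    have : Algebra.FinitePresentation R B := hc
    exact finitePresentation_of_flat_of_surjective (R := R) (A := A) (B := B) hs

end Groth.Agent.R2.H44.FppfSrc
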