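import Mathlib
import Groth.Agent.R2.H44FppfSrc
import Groth.Agent.Lib.Helper12SmoothSrc
import Groth.Agent.Lib.Helper12Flat

/-!
# More properties that are fppf local on the source (helper44)

Namespace `Groth.Agent.R2.H44.FppfSrc`.

For `f : X' ⟶ X` flat, locally of finite presentation and surjective and `g : X ⟶ Y`:
* `formallyUnramified_of_fppf_cover_source`: `f ≫ g` formally unramified implies `g` formally unramified
  (then `f` is étale, so `f^*Ω_{X/Y} ≅ Ω_{X'/Y} = 0`).
* `locallyQuasiFinite_of_fppf_cover_source`.
* `smooth_of_fppf_cover_source`, `etale_of_fppf_cover_source`.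
-/

set_option autoImplicit false
set_option linter.style.haveILetI false
universe u

open TensorProduct

namespace Groth.Agent.R2.H44.FppfSrc

/-- a flat ring map which is surjective on spectra is faithfully flat. -/
theorem faithfullyFlat_of_flat_of_comap_surjective {A B : Type u} [CommRing A] [CommRing B]
    [Algebra A B] [Module.Flat A B]
    (hs : Function.Surjective (PrimeSpectrum.comap (algebraMap A B))) : Module.FaithfullyFlat A B :=
  Module.FaithfullyFlat.of_comap_surjective hs

/-- formal unramifiedness descends along a flat finitely presented cover of the source (ring form). -/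
theorem formallyUnramified_of_flat_of_surjective {R A B : Type u} [CommRing R] [CommRing A] [CommRing B]
    [Algebra R A] [Algebra A B] [Algebra R B] [IsScalarTower R A B] [Module.Flat A B]
    [Algebra.FinitePresentation A B]
    (hs : Function.Surjective (PrimeSpectrum.comap (algebraMap A B)))
    [Algebra.FormallyUnramified R B] : Algebra.FormallyUnramified R A := by
  haveI : Module.FaithfullyFlat A B := faithfullyFlat_of_flat_of_comap_surjective hs
  haveI : Algebra.FormallyUnramified A B := Algebra.FormallyUnramified.of_restrictScalars R A B
  haveI : Algebra.Etale A B := Algebra.Etale.of_formallyUnramified_of_flat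
  have e := KaehlerDifferential.tensorKaehlerEquivOfFormallyEtale R A B
  haveI : Subsingleton (B ⊗[A] Ω[A⁄R]) := e.toEquiv.subsingleton
  haveI : Subsingleton Ω[A⁄R] := Module.FaithfullyFlat.lTensor_reflects_triviality A B _
  exact ⟨inferInstance⟩

/-- base change to a residue field of a faithfully flat map is injective. -/
theorem lTensor_injective_of_faithfullyFlat {R A B : Type u} [CommRing R] [CommRing A] [CommRing B]
    [Algebra R A] [Algebra A B] [Algebra R B] [IsScalarTower R A B] [Module.FaithfullyFlat A B]
    (M : Type u) [AddCommGroup M] [Module R M] :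
    Function.Injective (LinearMap.lTensor M (IsScalarTower.toAlgHom R A B).toLinearMap) := by
  have h1 : Function.Injective (TensorProduct.mk A B (A ⊗[R] M) 1) :=
    Module.FaithfullyFlat.tensorProduct_mk_injective (A := A) (B := B) (A ⊗[R] M)
  let e : B ⊗[A] (A ⊗[R] M) ≃ₗ[B] B ⊗[R] M := TensorProduct.AlgebraTensorModule.cancelBaseChange R A B B M
  have h2 : LinearMap.lTensor M (IsScalarTower.toAlgHom R A B).toLinearMap =
      (TensorProduct.comm R B M).toLinearMap ∘ₗ (e.toLinearMap.restrictScalars R) ∘ₗ
        ((TensorProduct.mk A B (A ⊗[R] M) 1).restrictScalars R) ∘ₗ (TensorProduct.comm R M A).toLinearMap := by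
    apply TensorProduct.ext'
    intro m a
    simp [e, Algebra.smul_def]
  rw [h2]
  simp only [LinearMap.coe_comp, LinearEquiv.coe_coe, LinearMap.coe_restrictScalars]
  exact (TensorProduct.comm R B M).injective.comp (e.injective.comp (h1.comp (TensorProduct.comm R M A).injective))

/-- quasi-finiteness descends along a flat cover of the source (ring form). -/
theorem quasiFinite_of_flat_of_surjective {R A B : Type u} [CommRing R] [CommRing A] [CommRing B]
    [Algebra R A] [Algebra A B] [Algebra R B] [IsScalarTower R A B] [Module.Flat A B]
    (hs : Function.Surjective (PrimeSpectrum.comap (algebraMap A B)))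
    [Algebra.QuasiFinite R B] : Algebra.QuasiFinite R A := by
  haveI : Module.FaithfullyFlat A B := faithfullyFlat_of_flat_of_comap_surjective hs
  refine ⟨fun P hP => ?_⟩
  let F : P.Fiber A →ₗ[P.ResidueField] P.Fiber B :=
    LinearMap.baseChange P.ResidueField (IsScalarTower.toAlgHom R A B).toLinearMap
  have hF : Function.Injective F := lTensor_injective_of_faithfullyFlat (R := R) (A := A) (B := B) P.ResidueField
  haveI : Module.Finite P.ResidueField (P.Fiber B) := Algebra.QuasiFinite.finite_fiber P
  exact Module.Finite.of_injective F hF

open AlgebraicGeometry CategoryTheory CategoryTheory.Limits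

/-- Formal unramifiedness descends along flat finitely presented covers of the source. -/
theorem formallyUnramified_of_fppf_cover_source {X' X Y : Scheme.{u}} (f : X' ⟶ X) (g : X ⟶ Y)
    [Flat f] [LocallyOfFinitePresentation f] [Surjective f] [h : FormallyUnramified (f ≫ g)] :
    FormallyUnramified g := by
  refine of_fppf_cover_source (P := @FormallyUnramified) (Q := @RingHom.FormallyUnramified) ?_ ?_ f g h
  · exact (RingHom.FormallyUnramified.stableUnderComposition.stableUnderCompositionWithLocalizationAway
      RingHom.FormallyUnramified.holdsForLocalizationAway).1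
  · intro R A B _ _ _ φ ψ hψ hψ' hs hc
    algebraize [φ, ψ, ψ.comp φ]
    have : Module.Flat A B := hψ
    have : Algebra.FinitePresentation A B := hψ'
    have : Algebra.FormallyUnramified R B := hc
    exact formallyUnramified_of_flat_of_surjective (R := R) (A := A) (B := B) hs

/-- Local quasi-finiteness descends along flat finitely presented covers of the source. -/
theorem locallyQuasiFinite_of_fppf_cover_source {X' X Y : Scheme.{u}} (f : X' ⟶ X) (g : X ⟶ Y)
    [Flat f] [LocallyOfFinitePresentation f] [Surjective f] [h : LocallyQuasiFinite (f ≫ g)] :
    LocallyQuasiFinite g := by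
  refine of_fppf_cover_source (P := @LocallyQuasiFinite) (Q := @RingHom.QuasiFinite) ?_ ?_ f g h
  · exact (RingHom.QuasiFinite.stableUnderComposition.stableUnderCompositionWithLocalizationAway
      RingHom.QuasiFinite.holdsForLocalizationAway).1
  · intro R A B _ _ _ φ ψ hψ hψ' hs hc
    algebraize [φ, ψ, ψ.comp φ]
    have : Module.Flat A B := hψ
    have : Algebra.QuasiFinite R B := hc
    exact quasiFinite_of_flat_of_surjective (R := R) (A := A) (B := B) hs

/-- Flatness descends along flat surjective covers of the source. -/
theorem flat_of_fppf_cover_source {X' X Y : Scheme.{u}} (f : X' ⟶ X) (g : X ⟶ Y)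
    [Flat f] [Surjective f] [Flat (f ≫ g)] : Flat g :=
  Groth.Agent.Lib.Helper12.flat_of_comp_of_flat_of_surjective f g

/-- Étaleness descends along flat finitely presented covers of the source. -/
theorem etale_of_fppf_cover_source {X' X Y : Scheme.{u}} (f : X' ⟶ X) (g : X ⟶ Y)
    [Flat f] [LocallyOfFinitePresentation f] [Surjective f] [h : Etale (f ≫ g)] : Etale g := by
  haveI : Flat g := flat_of_fppf_cover_source f g
  haveI : FormallyUnramified g := formallyUnramified_of_fppf_cover_source f g
  haveI : LocallyOfFinitePresentation g := locallyOfFinitePresentation_of_fppf_cover_source f g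
  exact Etale.of_formallyUnramified_of_flat g

/-- Smoothness descends along flat finitely presented covers of the source. -/
theorem smooth_of_fppf_cover_source {X' X Y : Scheme.{u}} (f : X' ⟶ X) (g : X ⟶ Y)
    [Flat f] [LocallyOfFinitePresentation f] [Surjective f] [h : Smooth (f ≫ g)] : Smooth g := by
  haveI : Flat g := flat_of_fppf_cover_source f g
  haveI : LocallyOfFinitePresentation g := locallyOfFinitePresentation_of_fppf_cover_source f g
  refine Smooth.of_smooth_fiberToSpecResidueField g (fun y => ?_)
  let t := Y.fromSpecResidueField y
  let eK : pullback (f ≫ g) t ⟶ pullback g t :=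
    pullback.lift (pullback.fst (f ≫ g) t ≫ f) (pullback.snd (f ≫ g) t)
      (by simp [pullback.condition])
  have sq : IsPullback eK (pullback.fst (f ≫ g) t) (pullback.fst g t) f :=
    Groth.Agent.Lib.Helper12.SmoothSrc.isPullback_lift f g t
  haveI : Flat eK := MorphismProperty.of_isPullback (P := @Flat) sq.flip inferInstance
  haveI : Surjective eK := MorphismProperty.of_isPullback (P := @Surjective) sq.flip inferInstance
  have he : eK ≫ pullback.snd g t = pullback.snd (f ≫ g) t := pullback.lift_snd _ _ _
  haveI : Smooth (eK ≫ pullback.snd g t) := by rw [he]; infer_instance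
  exact Groth.Agent.Lib.Helper12.SmoothSrc.smooth_of_flat_surjective_of_field (Y.residueField y) eK
    (pullback.snd g t)

end Groth.Agent.R2.H44.FppfSrc
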