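import Mathlib
import Groth.Prelude.Def_ActBC
import Groth.Agent.Lib.Helper22LimBC

/-!
# Morphisms and homomorphisms of group schemes over a cofiltered limit of schemes (helper44)

Namespace `Groth.Agent.R2.H44.GrpLim`.

Setting: `D : I ⥤ Scheme` cofiltered with affine transition maps and quasi-compact quasi-separated stages, `c` a limit
cone.

* `isMonHom_map_of_eq`: for a monoidal functor `F` and `v : M ⟶ N` between monoid objects, `F.map v` is a monoid
  homomorphism as soon as `F` identifies the two sides of the unit and multiplication squares of `v`.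
* `exists_pullback_map_eq`: two morphisms `X ⟶ Y` over a stage whose base changes to the limit agree have equal base
  changes to a later stage (`Y` locally of finite type).
* `exists_hom_descends`: a morphism between the base changes to the limit is the base change of a morphism over a stage
  (`Y` locally of finite presentation).
* `exists_isMonHom_descends`: a morphism whose base change to the limit is a monoid homomorphism has a base change to a
  later stage which is a monoid homomorphism.
-/

set_option autoImplicit false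
universe u

open CategoryTheory CategoryTheory.Limits MonoidalCategory CartesianMonoidalCategory MonObj AlgebraicGeometry

namespace Groth.Agent.R2.H44.GrpLim

section Cat

open scoped Obj

variable {C : Type*} [Category C] [MonoidalCategory C] {E : Type*} [Category E] [MonoidalCategory E]
  (F : C ⥤ E) [F.Monoidal] {M N : C} [MonObj M] [MonObj N]

theorem isMonHom_map_of_eq (v : M ⟶ N) (h1 : F.map (η ≫ v) = F.map η)
    (h2 : F.map (μ ≫ v) = F.map ((v ⊗ₘ v) ≫ μ)) : IsMonHom (F.map v) where
  one_hom := by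
    rw [Functor.obj.η_def, Functor.obj.η_def, Category.assoc, ← F.map_comp, h1]
  mul_hom := by
    rw [Functor.obj.μ_def, Functor.obj.μ_def, Category.assoc, ← F.map_comp, h2, F.map_comp,
      Functor.LaxMonoidal.μ_natural_assoc]

theorem map_eq_of_isMonHom_map (v : M ⟶ N) [h : IsMonHom (F.map v)] :
    F.map (η ≫ v) = F.map η ∧ F.map (μ ≫ v) = F.map ((v ⊗ₘ v) ≫ μ) := by
  constructor
  · have h1 := h.one_hom
    rw [Functor.obj.η_def, Functor.obj.η_def, Category.assoc, ← F.map_comp] at h1
    exact (cancel_epi (Functor.LaxMonoidal.ε F)).1 h1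
  · have h2 := h.mul_hom
    rw [Functor.obj.μ_def, Functor.obj.μ_def, Category.assoc, ← F.map_comp,
      Functor.LaxMonoidal.μ_natural_assoc, ← F.map_comp] at h2
    exact (cancel_epi (Functor.LaxMonoidal.μ F M M)).1 h2

end Cat

section Lim

open Groth.Agent.Lib.Helper22.LimBC

variable {I : Type u} [SmallCategory I] [IsCofiltered I] (D : I ⥤ Scheme.{u}) (c : Cone D) (hc : IsLimit c)
  [∀ (i i' : I) (f : i ⟶ i'), IsAffineHom (D.map f)] [∀ i, CompactSpace (D.obj i)]
  [∀ i, QuasiSeparatedSpace (D.obj i)]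

/-- the structure maps of the base change system to the stage -/
noncomputable def tS (i : I) {Xi : Scheme.{u}} (xi : Xi ⟶ D.obj i) :
    bcDiagram D i xi ⟶ (Functor.const (Over i)).obj (D.obj i) where
  app j := dFst D i xi j ≫ xi
  naturality j k a := by
    change (bcDiagram D i xi).map a ≫ dFst D i xi k ≫ xi = (dFst D i xi j ≫ xi) ≫ 𝟙 _
    rw [Category.comp_id, ← Category.assoc, map_dFst]

theorem pullback_map_left_fst {S S' : Scheme.{u}} (g : S' ⟶ S) {X Y : Over S} (k : X ⟶ Y) :
    ((Over.pullback g).map k).left ≫ pullback.fst Y.hom g = pullback.fst X.hom g ≫ k.left := by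
  dsimp only [Over.pullback]
  exact pullback.lift_fst _ _ _

/-- two morphisms into a base change agree as soon as their components to the original scheme agree -/
theorem bc_hom_ext {S S' : Scheme.{u}} (g : S' ⟶ S) {Y : Over S} {Z : Over S'} (a b : Z ⟶ Red.bc g Y)
    (h : a.left ≫ pullback.fst Y.hom g = b.left ≫ pullback.fst Y.hom g) : a = b := by
  ext
  apply pullback.hom_ext h
  have ha := Over.w a
  have hb := Over.w b
  exact ha.trans hb.symm

include hc in
/-- Two morphisms over a stage whose base changes to the limit agree have equal base changes to a later stage. -/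
theorem exists_pullback_map_eq (i : I) (X Y : Over (D.obj i)) [QuasiCompact X.hom] [LocallyOfFiniteType Y.hom]
    (u₁ u₂ : X ⟶ Y) (h : (Over.pullback (c.π.app i)).map u₁ = (Over.pullback (c.π.app i)).map u₂) :
    ∃ (i' : I) (g : i' ⟶ i), (Over.pullback (D.map g)).map u₁ = (Over.pullback (D.map g)).map u₂ := by
  have inst : ∀ {a b : I} (f : a ⟶ b), IsAffineHom (D.map f) := fun f => inferInstance
  have : CompactSpace X.left := QuasiCompact.compactSpace_of_compactSpace X.hom
  have hP : IsPullback (pullback.fst X.hom (c.π.app i)) (pullback.snd X.hom (c.π.app i)) X.hom (c.π.app i) :=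
    IsPullback.of_hasPullback _ _
  let l₀ : Over i := Over.mk (𝟙 i)
  have hab : (bcCone i hP).π.app l₀ ≫ (dFst D i X.hom l₀ ≫ u₁.left) =
      (bcCone i hP).π.app l₀ ≫ (dFst D i X.hom l₀ ≫ u₂.left) := by
    change bcπ i hP l₀ ≫ (dFst D i X.hom l₀ ≫ u₁.left) = bcπ i hP l₀ ≫ (dFst D i X.hom l₀ ≫ u₂.left)
    rw [← Category.assoc, ← Category.assoc, bcπ_fst]
    have e := congrArg (fun m => m.left ≫ pullback.fst Y.hom (c.π.app i)) h
    simp only [pullback_map_left_fst] at e
    exact e
  obtain ⟨k, hik, hk⟩ := Scheme.exists_hom_comp_eq_comp_of_locallyOfFiniteType (bcDiagram D i X.hom)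
    (tS D i X.hom) Y.hom (bcCone i hP) (isLimitBcCone i hP hc) (i := l₀)
    (dFst D i X.hom l₀ ≫ u₁.left) (dFst D i X.hom l₀ ≫ u₂.left)
    (by change dFst D i X.hom l₀ ≫ X.hom = _; rw [Category.assoc, Over.w])
    (by change dFst D i X.hom l₀ ≫ X.hom = _; rw [Category.assoc, Over.w]) hab
  refine ⟨k.left, k.hom, bc_hom_ext _ _ _ ?_⟩
  rw [pullback_map_left_fst, pullback_map_left_fst]
  rw [← Category.assoc, ← Category.assoc, map_dFst] at hk
  exact hk

include hc in
/-- A morphism between the base changes to the limit is the base change of a morphism over a stage. -/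
theorem exists_hom_descends (i : I) (X Y : Over (D.obj i)) [QuasiCompact X.hom] [QuasiSeparated X.hom]
    [LocallyOfFinitePresentation Y.hom] (w : Red.bc (c.π.app i) X ⟶ Red.bc (c.π.app i) Y) :
    ∃ (i' : I) (g : i' ⟶ i) (v : Red.bc (D.map g) X ⟶ Red.bc (D.map g) Y),
      (Over.pullback (c.π.app i')).map v = (ActBC.bcCompIso (c.π.app i') (D.map g) X (c.w g)).hom ≫ w ≫
        (ActBC.bcCompIso (c.π.app i') (D.map g) Y (c.w g)).inv := by
  have inst : ∀ {a b : I} (f : a ⟶ b), IsAffineHom (D.map f) := fun f => inferInstance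
  have : CompactSpace X.left := QuasiCompact.compactSpace_of_compactSpace X.hom
  have : QuasiSeparatedSpace X.left := quasiSeparatedSpace_of_quasiSeparated X.hom
  have hP : IsPullback (pullback.fst X.hom (c.π.app i)) (pullback.snd X.hom (c.π.app i)) X.hom (c.π.app i) :=
    IsPullback.of_hasPullback _ _
  let a : pullback X.hom (c.π.app i) ⟶ Y.left := w.left ≫ pullback.fst Y.hom (c.π.app i)
  have ha : a ≫ Y.hom = pullback.fst X.hom (c.π.app i) ≫ X.hom := by
    have hw : w.left ≫ pullback.snd Y.hom (c.π.app i) = pullback.snd X.hom (c.π.app i) := Over.w w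
    change (w.left ≫ pullback.fst Y.hom (c.π.app i)) ≫ Y.hom = _
    rw [Category.assoc, pullback.condition, ← Category.assoc, hw, pullback.condition]
  obtain ⟨k, gk, hgk1, hgk2⟩ := Scheme.exists_π_app_comp_eq_of_locallyOfFinitePresentation (bcDiagram D i X.hom)
    (tS D i X.hom) Y.hom (bcCone i hP) (isLimitBcCone i hP hc) a (by
      ext l
      change bcπ i hP l ≫ dFst D i X.hom l ≫ X.hom = a ≫ Y.hom
      rw [← Category.assoc, bcπ_fst, ha])
  have hgk1' : bcπ i hP k ≫ gk = a := hgk1
  have hgk2' : gk ≫ Y.hom = dFst D i X.hom k ≫ X.hom := hgk2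
  let v : Red.bc (D.map k.hom) X ⟶ Red.bc (D.map k.hom) Y :=
    Over.homMk (pullback.lift gk (pullback.snd X.hom (D.map k.hom)) (hgk2'.trans pullback.condition))
      (pullback.lift_snd _ _ _)
  have hv : v.left ≫ pullback.fst Y.hom (D.map k.hom) = gk := pullback.lift_fst _ _ _
  refine ⟨k.left, k.hom, v, ?_⟩
  rw [← Category.assoc, Iso.eq_comp_inv]
  refine bc_hom_ext _ _ _ ?_
  rw [Over.comp_left, Over.comp_left, Category.assoc, Category.assoc, ActBC.bcCompIso_hom_left_fst,
    ← Category.assoc, pullback_map_left_fst, Category.assoc, hv]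
  have key : pullback.fst (Red.bc (D.map k.hom) X).hom (c.π.app k.left) =
      (ActBC.bcCompIso (c.π.app k.left) (D.map k.hom) X (c.w k.hom)).hom.left ≫ bcπ i hP k := by
    apply d_hom_ext
    · rw [Category.assoc, bcπ_fst, ActBC.bcCompIso_hom_left_fst]
      rfl
    · rw [Category.assoc, bcπ_snd, ← Category.assoc, ActBC.bcCompIso_hom_left_snd]
      exact pullback.condition
  exact (congrArg (fun m => m ≫ gk) key).trans ((Category.assoc _ _ _).trans
    (congrArg (fun m => (ActBC.bcCompIso (c.π.app k.left) (D.map k.hom) X (c.w k.hom)).hom.left ≫ m) hgk1'))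

/-- equality of base changes persists along further base change -/
theorem pullback_map_eq_of_factor {S S' S'' : Scheme.{u}} (g : S' ⟶ S) (e : S'' ⟶ S') (d : S'' ⟶ S) (hd : e ≫ g = d)
    {X Y : Over S} (u₁ u₂ : X ⟶ Y) (h : (Over.pullback g).map u₁ = (Over.pullback g).map u₂) :
    (Over.pullback d).map u₁ = (Over.pullback d).map u₂ := by
  subst hd
  refine bc_hom_ext _ _ _ ?_
  rw [pullback_map_left_fst, pullback_map_left_fst]
  have e1 := congrArg (fun m => m.left ≫ pullback.fst Y.hom g) h
  simp only [pullback_map_left_fst] at e1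
  obtain ⟨θ, e2⟩ : ∃ θ : pullback X.hom (e ≫ g) ⟶ pullback X.hom g,
      θ ≫ pullback.fst X.hom g = pullback.fst X.hom (e ≫ g) :=
    ⟨pullback.lift (pullback.fst X.hom (e ≫ g)) (pullback.snd X.hom (e ≫ g) ≫ e)
      (by rw [pullback.condition, Category.assoc]), pullback.lift_fst _ _ _⟩
  rw [← e2, Category.assoc, Category.assoc, e1]

section Transfer

open ActBC

/-- transfer of the relation "`v` has base change `w`" to a later stage -/
theorem bcComp_transfer {T S₁ S₀ S : Scheme.{u}} (p₁ : T ⟶ S₁) (p₀ : T ⟶ S₀) (p : T ⟶ S) (e : S₁ ⟶ S₀) (g : S₀ ⟶ S)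
    (d : S₁ ⟶ S) (hd : e ≫ g = d) (h₁₀ : p₁ ≫ e = p₀) (h₀ : p₀ ≫ g = p) (h₁ : p₁ ≫ d = p) (X Y : Over S)
    (w : Red.bc p X ⟶ Red.bc p Y) (v₀ : Red.bc g X ⟶ Red.bc g Y)
    (hv₀ : (Over.pullback p₀).map v₀ = (bcCompIso p₀ g X h₀).hom ≫ w ≫ (bcCompIso p₀ g Y h₀).inv) :
    (Over.pullback p₁).map ((bcCompIso e g X hd).inv ≫ (Over.pullback e).map v₀ ≫ (bcCompIso e g Y hd).hom) =
      (bcCompIso p₁ d X h₁).hom ≫ w ≫ (bcCompIso p₁ d Y h₁).inv := by
  rw [← Category.assoc _ w, Iso.eq_comp_inv]
  refine bc_hom_ext _ _ _ ?_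
  -- the relation at stage `0` on components
  have E₀ : pullback.fst (Red.bc g X).hom p₀ ≫ v₀.left ≫ pullback.fst Y.hom g =
      (bcCompIso p₀ g X h₀).hom.left ≫ w.left ≫ pullback.fst Y.hom p := by
    have e1 := congrArg (fun m => (m ≫ (bcCompIso p₀ g Y h₀).hom).left ≫ pullback.fst Y.hom p) hv₀
    simp only [Category.assoc, Iso.inv_hom_id, Category.comp_id, Over.comp_left, bcCompIso_hom_left_fst] at e1
    rw [← Category.assoc, GrpLim.pullback_map_left_fst, Category.assoc] at e1
    exact e1
  -- the comparison map of the sources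
  have hw : (bcCompIso e g X hd).inv.left ≫ pullback.snd (Red.bc g X).hom e = pullback.snd X.hom d :=
    Over.w (bcCompIso e g X hd).inv
  have cond : (pullback.fst (Red.bc d X).hom p₁ ≫ (bcCompIso e g X hd).inv.left ≫
      pullback.fst (Red.bc g X).hom e) ≫ (Red.bc g X).hom = pullback.snd (Red.bc d X).hom p₁ ≫ p₀ := by
    change (pullback.fst (Red.bc d X).hom p₁ ≫ (bcCompIso e g X hd).inv.left ≫
      pullback.fst (Red.bc g X).hom e) ≫ pullback.snd X.hom g = _
    have c1 : pullback.fst (Red.bc g X).hom e ≫ pullback.snd X.hom g = pullback.snd (Red.bc g X).hom e ≫ e :=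
      pullback.condition
    have c2 : pullback.fst (Red.bc d X).hom p₁ ≫ pullback.snd X.hom d = pullback.snd (Red.bc d X).hom p₁ ≫ p₁ :=
      pullback.condition
    rw [Category.assoc, Category.assoc, c1, ← Category.assoc _ _ e, hw, ← Category.assoc, c2, Category.assoc, h₁₀]
  obtain ⟨θ, hθ1, hθ2⟩ : ∃ θ : pullback (Red.bc d X).hom p₁ ⟶ pullback (Red.bc g X).hom p₀,
      θ ≫ pullback.fst (Red.bc g X).hom p₀ = pullback.fst (Red.bc d X).hom p₁ ≫ (bcCompIso e g X hd).inv.left ≫
        pullback.fst (Red.bc g X).hom e ∧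
      θ ≫ pullback.snd (Red.bc g X).hom p₀ = pullback.snd (Red.bc d X).hom p₁ :=
    ⟨pullback.lift _ _ cond, pullback.lift_fst _ _ _, pullback.lift_snd _ _ _⟩
  have hθ : θ ≫ (bcCompIso p₀ g X h₀).hom.left = (bcCompIso p₁ d X h₁).hom.left := by
    apply pullback.hom_ext
    · rw [Category.assoc, bcCompIso_hom_left_fst, ← Category.assoc, hθ1, bcCompIso_hom_left_fst, Category.assoc,
        Category.assoc, ← bcCompIso_hom_left_fst e g X hd, ← Over.comp_left_assoc, Iso.inv_hom_id, Over.id_left,
        Category.id_comp]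
    · rw [Category.assoc, bcCompIso_hom_left_snd, bcCompIso_hom_left_snd, hθ2]
  -- the computation
  calc ((Over.pullback p₁).map ((bcCompIso e g X hd).inv ≫ (Over.pullback e).map v₀ ≫ (bcCompIso e g Y hd).hom) ≫
        (bcCompIso p₁ d Y h₁).hom).left ≫ pullback.fst Y.hom p
      = pullback.fst (Red.bc d X).hom p₁ ≫ ((bcCompIso e g X hd).inv ≫ (Over.pullback e).map v₀ ≫
          (bcCompIso e g Y hd).hom).left ≫ pullback.fst Y.hom d := by
        rw [Over.comp_left, Category.assoc, bcCompIso_hom_left_fst, ← Category.assoc,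
          GrpLim.pullback_map_left_fst, Category.assoc]
    _ = pullback.fst (Red.bc d X).hom p₁ ≫ (bcCompIso e g X hd).inv.left ≫ pullback.fst (Red.bc g X).hom e ≫
          v₀.left ≫ pullback.fst Y.hom g := by
        rw [Over.comp_left, Over.comp_left, Category.assoc, Category.assoc, bcCompIso_hom_left_fst,
          ← Category.assoc ((Over.pullback e).map v₀).left, GrpLim.pullback_map_left_fst, Category.assoc]
    _ = θ ≫ pullback.fst (Red.bc g X).hom p₀ ≫ v₀.left ≫ pullback.fst Y.hom g := by
        rw [← Category.assoc θ, hθ1, Category.assoc, Category.assoc]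
    _ = θ ≫ (bcCompIso p₀ g X h₀).hom.left ≫ w.left ≫ pullback.fst Y.hom p := by rw [E₀]
    _ = ((bcCompIso p₁ d X h₁).hom ≫ w).left ≫ pullback.fst Y.hom p := by
        rw [← Category.assoc θ, hθ, Over.comp_left, Category.assoc]

end Transfer

section Mon

open scoped Obj

include hc in
/-- A morphism over a stage whose base change to the limit is a homomorphism of monoid objects has a base change to a
later stage which is a homomorphism. -/
theorem exists_isMonHom_descends (i : I) (X Y : Over (D.obj i)) [MonObj X] [MonObj Y] [QuasiCompact X.hom]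
    [LocallyOfFiniteType Y.hom] (v : X ⟶ Y) [hv : IsMonHom ((Over.pullback (c.π.app i)).map v)] :
    ∃ (i' : I) (g : i' ⟶ i), IsMonHom ((Over.pullback (D.map g)).map v) := by
  obtain ⟨h1, h2⟩ := map_eq_of_isMonHom_map (Over.pullback (c.π.app i)) v
  have q1 : QuasiCompact (𝟙_ (Over (D.obj i))).hom := by
    change QuasiCompact (𝟙 (D.obj i))
    infer_instance
  have q2 : QuasiCompact (X ⊗ X).hom := by
    change QuasiCompact (pullback.fst X.hom X.hom ≫ X.hom)
    infer_instance
  obtain ⟨i₁, g₁, e₁⟩ := exists_pullback_map_eq D c hc i (𝟙_ (Over (D.obj i))) Y (η ≫ v) η h1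
  obtain ⟨i₂, g₂, e₂⟩ := exists_pullback_map_eq D c hc i (X ⊗ X) Y (μ ≫ v) ((v ⊗ₘ v) ≫ μ) h2
  obtain ⟨i', a, b, hab⟩ := IsCofiltered.cospan g₁ g₂
  refine ⟨i', a ≫ g₁, isMonHom_map_of_eq _ v ?_ ?_⟩
  · exact pullback_map_eq_of_factor (D.map g₁) (D.map a) _ (D.map_comp a g₁).symm _ _ e₁
  · rw [hab]
    exact pullback_map_eq_of_factor (D.map g₂) (D.map b) _ (D.map_comp b g₂).symm _ _ e₂

end Mon

section Grp

open ActBC

/-- the identification used in the statements is `bcCompIso` -/
theorem pullbackComp_symm_trans_eqToIso {S S' S'' : Scheme.{u}} (f : S'' ⟶ S') (g : S' ⟶ S) {d : S'' ⟶ S}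
    (h : f ≫ g = d) (X : Over S) :
    ((Over.pullbackComp f g).app X).symm ≪≫ eqToIso (congrArg (fun g' => Red.bc g' X) h) = bcCompIso f g X h := by
  subst h
  ext1
  rw [Iso.trans_hom, eqToIso_refl, Iso.refl_hom, Category.comp_id, bcCompIso_hom_eq_pullbackComp_inv]
  rfl

include hc in
/-- A homomorphism between the base changes to the limit of two group schemes over a stage descends to a homomorphism
over a later stage. -/
theorem exists_grpHom_descends (j : I) (Gj Hj : Over (D.obj j)) [GrpObj Gj] [GrpObj Hj]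
    [QuasiCompact Gj.hom] [QuasiSeparated Gj.hom] [LocallyOfFinitePresentation Hj.hom]
    (u : Red.bc (c.π.app j) Gj ⟶ Red.bc (c.π.app j) Hj) [IsMonHom u] :
    ∃ (i : I) (f : i ⟶ j) (ui : Red.bc (D.map f) Gj ⟶ Red.bc (D.map f) Hj), IsMonHom ui ∧
      (Over.pullback (c.π.app i)).map ui = (bcCompIso (c.π.app i) (D.map f) Gj (c.w f)).hom ≫ u ≫
        (bcCompIso (c.π.app i) (D.map f) Hj (c.w f)).inv := by
  obtain ⟨i₀, g₀, v₀, hv₀⟩ := exists_hom_descends D c hc j Gj Hj u
  have hmon₀ : IsMonHom ((Over.pullback (c.π.app i₀)).map v₀) := by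
    rw [hv₀]
    infer_instance
  have q1 : QuasiCompact (Red.bc (D.map g₀) Gj).hom := by
    change QuasiCompact (pullback.snd Gj.hom (D.map g₀))
    infer_instance
  have q2 : LocallyOfFiniteType (Red.bc (D.map g₀) Hj).hom := by
    change LocallyOfFiniteType (pullback.snd Hj.hom (D.map g₀))
    infer_instance
  obtain ⟨i₁, g₁, hmon⟩ := exists_isMonHom_descends D c hc i₀ (Red.bc (D.map g₀) Gj) (Red.bc (D.map g₀) Hj) v₀
  refine ⟨i₁, g₁ ≫ g₀, (bcCompIso (D.map g₁) (D.map g₀) Gj (D.map_comp g₁ g₀).symm).inv ≫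
    (Over.pullback (D.map g₁)).map v₀ ≫ (bcCompIso (D.map g₁) (D.map g₀) Hj (D.map_comp g₁ g₀).symm).hom,
    inferInstance, ?_⟩
  exact bcComp_transfer (c.π.app i₁) (c.π.app i₀) (c.π.app j) (D.map g₁) (D.map g₀) (D.map (g₁ ≫ g₀))
    (D.map_comp g₁ g₀).symm (c.w g₁) (c.w g₀) (c.w _) Gj Hj u v₀ hv₀

end Grp

end Lim

end Groth.Agent.R2.H44.GrpLim
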