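import Mathlib

/-!
# Group operations without axioms, and their transport along monoidal functors (helper44)

Namespace `Groth.Agent.R2.H44.PreGrpLib`.

A `PreGrp X` on an object of a cartesian monoidal category is a triple of morphisms `one`, `mul`, `inv` with no axioms.
`PreGrp.IsGrp` are the five group axioms.  For a monoidal functor `F`, `P.map F` is the transported triple on `F.obj X`;
`PreGrp.isGrp_map_iff` says that it satisfies the axioms if and only if `F` identifies the two sides of each of the five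
axioms of `P`.
-/

set_option autoImplicit false
universe v₁ v₂ u₁ u₂

open CategoryTheory MonoidalCategory CartesianMonoidalCategory

namespace Groth.Agent.R2.H44.PreGrpLib

variable {C : Type u₁} [Category.{v₁} C] [CartesianMonoidalCategory C]
  {E : Type u₂} [Category.{v₂} E] [CartesianMonoidalCategory E]

/-- group operations without axioms -/
structure PreGrp (X : C) where
  one : 𝟙_ C ⟶ X
  mul : X ⊗ X ⟶ X
  inv : X ⟶ X

namespace PreGrp

variable {X Y : C}

/-- the five group axioms -/
structure IsGrp (P : PreGrp X) : Prop where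
  one_mul : P.one ▷ X ≫ P.mul = (λ_ X).hom
  mul_one : X ◁ P.one ≫ P.mul = (ρ_ X).hom
  mul_assoc : P.mul ▷ X ≫ P.mul = (α_ X X X).hom ≫ X ◁ P.mul ≫ P.mul
  left_inv : lift P.inv (𝟙 X) ≫ P.mul = toUnit X ≫ P.one
  right_inv : lift (𝟙 X) P.inv ≫ P.mul = toUnit X ≫ P.one

/-- the operations of a group object -/
def ofGrpObj (X : C) [GrpObj X] : PreGrp X where
  one := MonObj.one
  mul := MonObj.mul
  inv := GrpObj.inv

theorem ofGrpObj_isGrp (X : C) [GrpObj X] : (ofGrpObj X).IsGrp where
  one_mul := MonObj.one_mul X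
  mul_one := MonObj.mul_one X
  mul_assoc := MonObj.mul_assoc X
  left_inv := GrpObj.left_inv X
  right_inv := GrpObj.right_inv X

/-- the group object defined by operations satisfying the axioms -/
@[implicit_reducible]
def toGrpObj (P : PreGrp X) (h : P.IsGrp) : GrpObj X where
  one := P.one
  mul := P.mul
  inv := P.inv
  one_mul := h.one_mul
  mul_one := h.mul_one
  mul_assoc := h.mul_assoc
  left_inv := h.left_inv
  right_inv := h.right_inv

/-- compatibility of a morphism with two triples of operations -/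
structure IsHom (P : PreGrp X) (Q : PreGrp Y) (f : X ⟶ Y) : Prop where
  one : P.one ≫ f = Q.one
  mul : P.mul ≫ f = (f ⊗ₘ f) ≫ Q.mul
  inv : P.inv ≫ f = f ≫ Q.inv

/-- transport of operations along a monoidal functor -/
def map (P : PreGrp X) (F : C ⥤ E) [F.Monoidal] : PreGrp (F.obj X) where
  one := Functor.LaxMonoidal.ε F ≫ F.map P.one
  mul := Functor.LaxMonoidal.μ F X X ≫ F.map P.mul
  inv := F.map P.inv

/-- `F` identifies the two sides of each of the five axioms -/
structure MapEq (P : PreGrp X) (F : C ⥤ E) : Prop where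
  one_mul : F.map (P.one ▷ X ≫ P.mul) = F.map (λ_ X).hom
  mul_one : F.map (X ◁ P.one ≫ P.mul) = F.map (ρ_ X).hom
  mul_assoc : F.map (P.mul ▷ X ≫ P.mul) = F.map ((α_ X X X).hom ≫ X ◁ P.mul ≫ P.mul)
  left_inv : F.map (lift P.inv (𝟙 X) ≫ P.mul) = F.map (toUnit X ≫ P.one)
  right_inv : F.map (lift (𝟙 X) P.inv ≫ P.mul) = F.map (toUnit X ≫ P.one)

section Map

open Functor.LaxMonoidal Functor.Monoidal

variable (P : PreGrp X) (F : C ⥤ E) [F.Monoidal]

theorem map_one_mul_lhs : (P.map F).one ▷ F.obj X ≫ (P.map F).mul =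
    (ε F ▷ F.obj X ≫ μ F (𝟙_ C) X) ≫ F.map (P.one ▷ X ≫ P.mul) := by
  simp only [map, comp_whiskerRight, Category.assoc, μ_natural_left_assoc, Functor.map_comp]

theorem map_one_mul_rhs : (λ_ (F.obj X)).hom = (ε F ▷ F.obj X ≫ μ F (𝟙_ C) X) ≫ F.map (λ_ X).hom := by
  rw [Category.assoc]
  exact left_unitality F X

theorem map_mul_one_lhs : F.obj X ◁ (P.map F).one ≫ (P.map F).mul =
    (F.obj X ◁ ε F ≫ μ F X (𝟙_ C)) ≫ F.map (X ◁ P.one ≫ P.mul) := by
  simp only [map, MonoidalCategory.whiskerLeft_comp, Category.assoc, μ_natural_right_assoc, Functor.map_comp]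

theorem map_mul_one_rhs : (ρ_ (F.obj X)).hom = (F.obj X ◁ ε F ≫ μ F X (𝟙_ C)) ≫ F.map (ρ_ X).hom := by
  rw [Category.assoc]
  exact right_unitality F X

theorem map_mul_assoc_lhs : (P.map F).mul ▷ F.obj X ≫ (P.map F).mul =
    (μ F X X ▷ F.obj X ≫ μ F (X ⊗ X) X) ≫ F.map (P.mul ▷ X ≫ P.mul) := by
  simp only [map, comp_whiskerRight, Category.assoc, μ_natural_left_assoc, Functor.map_comp]

theorem map_mul_assoc_rhs : (α_ (F.obj X) (F.obj X) (F.obj X)).hom ≫ F.obj X ◁ (P.map F).mul ≫ (P.map F).mul =
    (μ F X X ▷ F.obj X ≫ μ F (X ⊗ X) X) ≫ F.map ((α_ X X X).hom ≫ X ◁ P.mul ≫ P.mul) := by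
  simp only [map, MonoidalCategory.whiskerLeft_comp, Category.assoc, μ_natural_right_assoc, Functor.map_comp]
  rw [associativity_assoc]

theorem map_left_inv_lhs : lift (P.map F).inv (𝟙 (F.obj X)) ≫ (P.map F).mul =
    F.map (lift P.inv (𝟙 X) ≫ P.mul) := by
  simp only [map, Functor.map_comp]
  rw [← F.map_id, lift_μ_assoc]

theorem map_right_inv_lhs : lift (𝟙 (F.obj X)) (P.map F).inv ≫ (P.map F).mul =
    F.map (lift (𝟙 X) P.inv ≫ P.mul) := by
  simp only [map, Functor.map_comp]
  rw [← F.map_id, lift_μ_assoc]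

theorem map_inv_rhs : toUnit (F.obj X) ≫ (P.map F).one = F.map (toUnit X ≫ P.one) := by
  simp only [map, Functor.map_comp]
  rw [toUnit_ε_assoc]

/-- the transported operations satisfy the axioms iff `F` identifies the two sides of each axiom -/
theorem isGrp_map_iff : (P.map F).IsGrp ↔ P.MapEq F := by
  constructor
  · intro h
    refine ⟨?_, ?_, ?_, ?_, ?_⟩
    · have := h.one_mul
      rw [map_one_mul_lhs, map_one_mul_rhs] at this
      exact (cancel_epi _).1 this
    · have := h.mul_one
      rw [map_mul_one_lhs, map_mul_one_rhs] at this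
      exact (cancel_epi _).1 this
    · have := h.mul_assoc
      rw [map_mul_assoc_lhs, map_mul_assoc_rhs] at this
      exact (cancel_epi _).1 this
    · have := h.left_inv
      rw [map_left_inv_lhs, map_inv_rhs] at this
      exact this
    · have := h.right_inv
      rw [map_right_inv_lhs, map_inv_rhs] at this
      exact this
  · intro h
    refine ⟨?_, ?_, ?_, ?_, ?_⟩
    · rw [map_one_mul_lhs, h.one_mul, ← map_one_mul_rhs]
    · rw [map_mul_one_lhs, h.mul_one, ← map_mul_one_rhs]
    · rw [map_mul_assoc_lhs, h.mul_assoc, ← map_mul_assoc_rhs]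
    · rw [map_left_inv_lhs, h.left_inv, ← map_inv_rhs]
    · rw [map_right_inv_lhs, h.right_inv, ← map_inv_rhs]

end Map

section Hom

variable {Z : C}

theorem IsHom.comp {P : PreGrp X} {Q : PreGrp Y} {R : PreGrp Z} {f : X ⟶ Y} {g : Y ⟶ Z} (hf : IsHom P Q f)
    (hg : IsHom Q R g) : IsHom P R (f ≫ g) where
  one := by rw [← Category.assoc, hf.one, hg.one]
  mul := by rw [← Category.assoc, hf.mul, Category.assoc, hg.mul, ← Category.assoc, tensorHom_comp_tensorHom]
  inv := by rw [← Category.assoc, hf.inv, Category.assoc, hg.inv, Category.assoc]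

theorem IsHom.symm {P : PreGrp X} {Q : PreGrp Y} (e : X ≅ Y) (h : IsHom P Q e.hom) : IsHom Q P e.inv where
  one := by rw [← h.one, Category.assoc, e.hom_inv_id, Category.comp_id]
  mul := by
    rw [← cancel_epi (e.hom ⊗ₘ e.hom), ← Category.assoc, ← h.mul, Category.assoc, e.hom_inv_id, Category.comp_id,
      ← Category.assoc, tensorHom_comp_tensorHom, e.hom_inv_id, tensorHom_id, id_whiskerRight, Category.id_comp]
  inv := by rw [← cancel_epi e.hom, ← Category.assoc, ← h.inv, Category.assoc, e.hom_inv_id, Category.comp_id,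
      e.hom_inv_id_assoc]

theorem isMonHom_of_isHom [GrpObj X] [GrpObj Y] {f : X ⟶ Y} (h : IsHom (ofGrpObj X) (ofGrpObj Y) f) : IsMonHom f where
  one_hom := h.one
  mul_hom := h.mul

/-- operations compatible through an isomorphism with those of a group object satisfy the axioms -/
theorem IsGrp.of_isHom_iso [GrpObj Y] (P : PreGrp X) (e : X ≅ Y) (h : IsHom P (ofGrpObj Y) e.hom) : P.IsGrp := by
  have e1 : P.one ≫ e.hom = MonObj.one (X := Y) := h.one
  have e2 : P.mul ≫ e.hom = (e.hom ⊗ₘ e.hom) ≫ MonObj.mul (X := Y) := h.mul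
  have e3 : P.inv ≫ e.hom = e.hom ≫ GrpObj.inv (X := Y) := h.inv
  have h1 : P.one = MonObj.one (X := Y) ≫ e.inv := by
    rw [← e1, Category.assoc, e.hom_inv_id, Category.comp_id]
  have h2 : P.mul = (e.hom ⊗ₘ e.hom) ≫ MonObj.mul (X := Y) ≫ e.inv := by
    rw [← Category.assoc, ← e2, Category.assoc, e.hom_inv_id, Category.comp_id]
  have h3 : P.inv = e.hom ≫ GrpObj.inv (X := Y) ≫ e.inv := by
    rw [← Category.assoc, ← e3, Category.assoc, e.hom_inv_id, Category.comp_id]
  let inst : GrpObj X := GrpObj.ofIso e.symm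
  have : P = ofGrpObj X := by
    cases P
    simp only at h1 h2 h3
    subst h1 h2 h3
    rfl
  rw [this]
  exact ofGrpObj_isGrp X

end Hom

section Functors

open Functor.LaxMonoidal Functor.Monoidal

variable (P : PreGrp X) (F G : C ⥤ E) [F.Monoidal] [G.Monoidal]

/-- a natural transformation between monoidal functors is compatible with the transported operations -/
theorem isHom_map_natTrans (τ : F ⟶ G) : IsHom (P.map F) (P.map G) (τ.app X) where
  one := by
    simp only [map, Category.assoc]
    rw [τ.naturality, ← Category.assoc, NatTrans.IsMonoidal.unit]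
  mul := by
    simp only [map, Category.assoc]
    rw [τ.naturality, ← Category.assoc, NatTrans.IsMonoidal.tensor, Category.assoc]
  inv := by
    simp only [map]
    exact τ.naturality _

theorem ofGrpObj_map [GrpObj X] : (ofGrpObj X).map F = @ofGrpObj _ _ _ (F.obj X) Functor.grpObjObj := rfl

end Functors

section Comp

open Functor.LaxMonoidal Functor.Monoidal

variable {E' : Type*} [Category E'] [CartesianMonoidalCategory E']

theorem map_comp (P : PreGrp X) (F : C ⥤ E) (G : E ⥤ E') [F.Monoidal] [G.Monoidal] :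
    P.map (F ⋙ G) = (P.map F).map G := by
  simp only [map, Functor.comp_obj, Functor.comp_map, Functor.map_comp, Category.assoc, comp_ε, comp_μ]

end Comp

end PreGrp

end Groth.Agent.R2.H44.PreGrpLib
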