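import Mathlib
import Groth.Agent.R2.H44GrpLim
import Groth.Agent.R2.H44PreGrp
import Groth.Agent.Lib.Helper26LimFP5

/-!
# Group schemes of finite presentation over a cofiltered limit of schemes descend (helper44)

Namespace `Groth.Agent.R2.H44.GrpLim`.

* `bcCompNat`: `ActBC.bcCompIso` as a natural transformation `Over.pullback g ⋙ Over.pullback f ⟶ Over.pullback d`.
* `isHom_bcCompIso`: it is compatible with transported group operations.
* `exists_hom_descends'`: descent of a morphism to all stages below some stage.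
* `exists_mapEq_descends`: descent of the five group axioms.
* `exists_grp_descends`: a group scheme of finite presentation over the limit is the base change of a group scheme of
  finite presentation over a stage.
-/

set_option autoImplicit false
universe u

open CategoryTheory CategoryTheory.Limits MonoidalCategory CartesianMonoidalCategory MonObj AlgebraicGeometry

namespace Groth.Agent.R2.H44.GrpLim

open ActBC Groth.Agent.R2.H44.PreGrpLib

section Nat

variable {S S' S'' : Scheme.{u}} (f : S'' ⟶ S') (g : S' ⟶ S) {d : S'' ⟶ S} (h : f ≫ g = d)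

/-- `bcCompIso` as a natural transformation -/
noncomputable def bcCompNat : Over.pullback g ⋙ Over.pullback f ⟶ Over.pullback d where
  app X := (bcCompIso f g X h).hom
  naturality _ _ φ := bcCompIso_hom_naturality f g h φ

/-- `bcCompIso` is compatible with transported group operations -/
theorem isHom_bcCompIso {X : Over S} (P : PreGrp X) :
    PreGrp.IsHom ((P.map (Over.pullback g)).map (Over.pullback f)) (P.map (Over.pullback d))
      (bcCompIso f g X h).hom := by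
  rw [← PreGrp.map_comp]
  exact PreGrp.isHom_map_natTrans P _ _ (bcCompNat f g h)

end Nat

section Lim

variable {I : Type u} [SmallCategory I] [IsCofiltered I] (D : I ⥤ Scheme.{u}) (c : Cone D) (hc : IsLimit c)
  [∀ (i i' : I) (f : i ⟶ i'), IsAffineHom (D.map f)] [∀ i, CompactSpace (D.obj i)]
  [∀ i, QuasiSeparatedSpace (D.obj i)]

include hc in
/-- descent of a morphism to all stages below some stage -/
theorem exists_hom_descends' (i : I) (X Y : Over (D.obj i)) [QuasiCompact X.hom] [QuasiSeparated X.hom]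
    [LocallyOfFinitePresentation Y.hom] (w : Red.bc (c.π.app i) X ⟶ Red.bc (c.π.app i) Y) :
    ∃ (i₀ : I) (g₀ : i₀ ⟶ i), ∀ (i₁ : I) (a : i₁ ⟶ i₀) (g : i₁ ⟶ i), a ≫ g₀ = g →
      ∃ v : Red.bc (D.map g) X ⟶ Red.bc (D.map g) Y,
        (Over.pullback (c.π.app i₁)).map v = (bcCompIso (c.π.app i₁) (D.map g) X (c.w g)).hom ≫ w ≫
          (bcCompIso (c.π.app i₁) (D.map g) Y (c.w g)).inv := by
  obtain ⟨i₀, g₀, v₀, hv₀⟩ := exists_hom_descends D c hc i X Y w
  refine ⟨i₀, g₀, fun i₁ a g hg => ?_⟩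
  subst hg
  exact ⟨_, bcComp_transfer (c.π.app i₁) (c.π.app i₀) (c.π.app i) (D.map a) (D.map g₀) (D.map (a ≫ g₀))
    (D.map_comp a g₀).symm (c.w a) (c.w g₀) (c.w _) X Y w v₀ hv₀⟩

/-- two eventually true properties of the maps to a stage, stable under precomposition, are eventually both true -/
theorem exists_and_of_stable {i : I} (Q₁ Q₂ : ∀ ⦃i' : I⦄, (i' ⟶ i) → Prop)
    (h₁ : ∀ ⦃i' i'' : I⦄ (a : i'' ⟶ i') (g : i' ⟶ i), Q₁ g → Q₁ (a ≫ g))
    (h₂ : ∀ ⦃i' i'' : I⦄ (a : i'' ⟶ i') (g : i' ⟶ i), Q₂ g → Q₂ (a ≫ g))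
    (e₁ : ∃ (i' : I) (g : i' ⟶ i), Q₁ g) (e₂ : ∃ (i' : I) (g : i' ⟶ i), Q₂ g) :
    ∃ (i' : I) (g : i' ⟶ i), Q₁ g ∧ Q₂ g := by
  obtain ⟨i₁, g₁, q₁⟩ := e₁
  obtain ⟨i₂, g₂, q₂⟩ := e₂
  obtain ⟨i', a, b, hab⟩ := IsCofiltered.cospan g₁ g₂
  exact ⟨i', a ≫ g₁, h₁ a g₁ q₁, hab ▸ h₂ b g₂ q₂⟩

include hc in
/-- descent of the five group axioms -/
theorem exists_mapEq_descends (i : I) (X : Over (D.obj i)) [QuasiCompact X.hom] [LocallyOfFiniteType X.hom]
    (P : PreGrp X) (h : P.MapEq (Over.pullback (c.π.app i))) :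
    ∃ (i' : I) (g : i' ⟶ i), P.MapEq (Over.pullback (D.map g)) := by
  have q1 : QuasiCompact (𝟙_ (Over (D.obj i)) ⊗ X).hom := by
    change QuasiCompact (pullback.fst (𝟙 (D.obj i)) X.hom ≫ 𝟙 (D.obj i))
    infer_instance
  have q2 : QuasiCompact (X ⊗ 𝟙_ (Over (D.obj i))).hom := by
    change QuasiCompact (pullback.fst X.hom (𝟙 (D.obj i)) ≫ X.hom)
    infer_instance
  have q3 : QuasiCompact ((X ⊗ X) ⊗ X).hom := by
    change QuasiCompact (pullback.fst (pullback.fst X.hom X.hom ≫ X.hom) X.hom ≫ pullback.fst X.hom X.hom ≫ X.hom)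
    infer_instance
  have stab : ∀ {A : Over (D.obj i)} (u₁ u₂ : A ⟶ X) ⦃i' i'' : I⦄ (a : i'' ⟶ i') (g : i' ⟶ i),
      (Over.pullback (D.map g)).map u₁ = (Over.pullback (D.map g)).map u₂ →
        (Over.pullback (D.map (a ≫ g))).map u₁ = (Over.pullback (D.map (a ≫ g))).map u₂ := fun u₁ u₂ _ _ a g hg =>
    pullback_map_eq_of_factor (D.map g) (D.map a) _ (D.map_comp a g).symm _ _ hg
  have E1 := exists_pullback_map_eq D c hc i _ X _ _ h.one_mul
  have E2 := exists_pullback_map_eq D c hc i _ X _ _ h.mul_one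
  have E3 := exists_pullback_map_eq D c hc i _ X _ _ h.mul_assoc
  have E4 := exists_pullback_map_eq D c hc i _ X _ _ h.left_inv
  have E5 := exists_pullback_map_eq D c hc i _ X _ _ h.right_inv
  have E12 := exists_and_of_stable _ _ (stab _ _) (stab _ _) E1 E2
  have E34 := exists_and_of_stable _ _ (stab _ _) (stab _ _) E3 E4
  have E1234 := exists_and_of_stable _ _ (fun i' i'' a g hg => ⟨stab _ _ a g hg.1, stab _ _ a g hg.2⟩)
    (fun i' i'' a g hg => ⟨stab _ _ a g hg.1, stab _ _ a g hg.2⟩) E12 E34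
  obtain ⟨i', g, ⟨⟨h1, h2⟩, ⟨h3, h4⟩⟩, h5⟩ := exists_and_of_stable _ _
    (fun i' i'' a g hg => ⟨⟨stab _ _ a g hg.1.1, stab _ _ a g hg.1.2⟩, ⟨stab _ _ a g hg.2.1, stab _ _ a g hg.2.2⟩⟩)
    (stab _ _) E1234 E5
  exact ⟨i', g, ⟨h1, h2, h3, h4, h5⟩⟩

section Main

open Functor.LaxMonoidal Functor.Monoidal

include hc in
/-- A group scheme of finite presentation over the limit is the base change of a group scheme of finite presentation
over a stage. -/
theorem exists_grp_descends (G : Over c.pt) [GrpObj G] [LocallyOfFinitePresentation G.hom] [QuasiCompact G.hom]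
    [QuasiSeparated G.hom] :
    ∃ (j : I) (Gj : Over (D.obj j)) (_ : GrpObj Gj) (e : G ≅ Red.bc (c.π.app j) Gj),
      IsMonHom e.hom ∧ LocallyOfFinitePresentation Gj.hom ∧ QuasiCompact Gj.hom ∧ QuasiSeparated Gj.hom := by
  have inst : ∀ {a b : I} (f : a ⟶ b), IsAffineHom (D.map f) := fun f => inferInstance
  -- step 1: the scheme descends
  obtain ⟨i, X₀l, fi, g, hfp, hqc, hqs, hpb⟩ := Groth.Agent.Lib.Helper26.LimFP.desc_of_fp hc G.hom
  let X₀ : Over (D.obj i) := Over.mk fi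
  have hX₀fp : LocallyOfFinitePresentation X₀.hom := hfp
  have hX₀qc : QuasiCompact X₀.hom := hqc
  have hX₀qs : QuasiSeparated X₀.hom := hqs
  let e₀ : G ≅ Red.bc (c.π.app i) X₀ := Over.isoMk hpb.isoPullback hpb.isoPullback_hom_snd
  -- step 2: the operations descend to a common stage
  let mL : Red.bc (c.π.app i) (X₀ ⊗ X₀) ⟶ Red.bc (c.π.app i) X₀ :=
    (μIso (Over.pullback (c.π.app i)) X₀ X₀).inv ≫ (e₀.inv ⊗ₘ e₀.inv) ≫ μ[G] ≫ e₀.hom
  let oL : Red.bc (c.π.app i) (𝟙_ (Over (D.obj i))) ⟶ Red.bc (c.π.app i) X₀ :=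
    (εIso (Over.pullback (c.π.app i))).inv ≫ η[G] ≫ e₀.hom
  let nL : Red.bc (c.π.app i) X₀ ⟶ Red.bc (c.π.app i) X₀ := e₀.inv ≫ ι[G] ≫ e₀.hom
  have q1 : QuasiCompact (X₀ ⊗ X₀).hom := by
    change QuasiCompact (pullback.fst X₀.hom X₀.hom ≫ X₀.hom)
    infer_instance
  have q2 : QuasiSeparated (X₀ ⊗ X₀).hom := by
    change QuasiSeparated (pullback.fst X₀.hom X₀.hom ≫ X₀.hom)
    infer_instance
  have q3 : QuasiCompact (𝟙_ (Over (D.obj i))).hom := by
    change QuasiCompact (𝟙 (D.obj i))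
    infer_instance
  have q4 : QuasiSeparated (𝟙_ (Over (D.obj i))).hom := by
    change QuasiSeparated (𝟙 (D.obj i))
    infer_instance
  obtain ⟨im, gm, Hm⟩ := exists_hom_descends' D c hc i (X₀ ⊗ X₀) X₀ mL
  obtain ⟨io, go, Ho⟩ := exists_hom_descends' D c hc i (𝟙_ (Over (D.obj i))) X₀ oL
  obtain ⟨iν, gn, Hn⟩ := exists_hom_descends' D c hc i X₀ X₀ nL
  obtain ⟨i', a, b, hab⟩ := IsCofiltered.cospan gm go
  obtain ⟨i₁, a', b', hab'⟩ := IsCofiltered.cospan (a ≫ gm) gn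
  obtain ⟨g₁, hg₁⟩ : ∃ g₁ : i₁ ⟶ i, g₁ = a' ≫ a ≫ gm := ⟨_, rfl⟩
  obtain ⟨m₁, hm₁⟩ := Hm i₁ (a' ≫ a) g₁ (by rw [hg₁, Category.assoc])
  obtain ⟨o₁, ho₁⟩ := Ho i₁ (a' ≫ b) g₁ (by rw [hg₁, Category.assoc, ← hab])
  obtain ⟨n₁, hn₁⟩ := Hn i₁ b' g₁ (by rw [hg₁, hab'])
  clear Hm Ho Hn
  -- the operations at stage `i₁`
  let X₁ : Over (D.obj i₁) := Red.bc (D.map g₁) X₀
  let P₁ : PreGrp X₁ :=
    { one := Functor.LaxMonoidal.ε (Over.pullback (D.map g₁)) ≫ o₁
      mul := Functor.LaxMonoidal.μ (Over.pullback (D.map g₁)) X₀ X₀ ≫ m₁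
      inv := n₁ }
  let ε₁ : Red.bc (c.π.app i₁) X₁ ≅ G := bcCompIso (c.π.app i₁) (D.map g₁) X₀ (c.w g₁) ≪≫ e₀.symm
  -- monoidality of `bcCompIso`
  have hβε : Functor.LaxMonoidal.ε (Over.pullback (c.π.app i₁)) ≫
      (Over.pullback (c.π.app i₁)).map (Functor.LaxMonoidal.ε (Over.pullback (D.map g₁))) ≫
      (bcCompIso (c.π.app i₁) (D.map g₁) (𝟙_ (Over (D.obj i))) (c.w g₁)).hom =
      Functor.LaxMonoidal.ε (Over.pullback (c.π.app i)) := by
    have := NatTrans.IsMonoidal.unit (τ := bcCompNat (c.π.app i₁) (D.map g₁) (c.w g₁))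
    rw [comp_ε, Category.assoc] at this
    exact this
  have hβμ : Functor.LaxMonoidal.μ (Over.pullback (c.π.app i₁)) X₁ X₁ ≫
      (Over.pullback (c.π.app i₁)).map (Functor.LaxMonoidal.μ (Over.pullback (D.map g₁)) X₀ X₀) ≫
      (bcCompIso (c.π.app i₁) (D.map g₁) (X₀ ⊗ X₀) (c.w g₁)).hom =
      ((bcCompIso (c.π.app i₁) (D.map g₁) X₀ (c.w g₁)).hom ⊗ₘ (bcCompIso (c.π.app i₁) (D.map g₁) X₀ (c.w g₁)).hom) ≫
        Functor.LaxMonoidal.μ (Over.pullback (c.π.app i)) X₀ X₀ := by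
    have := NatTrans.IsMonoidal.tensor (τ := bcCompNat (c.π.app i₁) (D.map g₁) (c.w g₁)) X₀ X₀
    rw [comp_μ, Category.assoc] at this
    exact this
  have keyε : Functor.LaxMonoidal.ε (Over.pullback (c.π.app i)) ≫ (εIso (Over.pullback (c.π.app i))).inv = 𝟙 _ :=
    (εIso (Over.pullback (c.π.app i))).hom_inv_id
  have keyμ : Functor.LaxMonoidal.μ (Over.pullback (c.π.app i)) X₀ X₀ ≫
      (μIso (Over.pullback (c.π.app i)) X₀ X₀).inv = 𝟙 _ :=
    (μIso (Over.pullback (c.π.app i)) X₀ X₀).hom_inv_id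
  have hHom : PreGrp.IsHom (P₁.map (Over.pullback (c.π.app i₁))) (PreGrp.ofGrpObj G) ε₁.hom := by
    refine ⟨?_, ?_, ?_⟩
    · change (Functor.LaxMonoidal.ε (Over.pullback (c.π.app i₁)) ≫ (Over.pullback (c.π.app i₁)).map
        (Functor.LaxMonoidal.ε (Over.pullback (D.map g₁)) ≫ o₁)) ≫
        (bcCompIso (c.π.app i₁) (D.map g₁) X₀ (c.w g₁)).hom ≫ e₀.inv = η[G]
      rw [Functor.map_comp, ho₁]
      simp only [Category.assoc, Iso.inv_hom_id_assoc]
      rw [reassoc_of% hβε]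
      simp only [oL, Category.assoc, Iso.hom_inv_id, Category.comp_id]
      rw [reassoc_of% keyε]
    · change (Functor.LaxMonoidal.μ (Over.pullback (c.π.app i₁)) X₁ X₁ ≫ (Over.pullback (c.π.app i₁)).map
        (Functor.LaxMonoidal.μ (Over.pullback (D.map g₁)) X₀ X₀ ≫ m₁)) ≫
        (bcCompIso (c.π.app i₁) (D.map g₁) X₀ (c.w g₁)).hom ≫ e₀.inv =
        (((bcCompIso (c.π.app i₁) (D.map g₁) X₀ (c.w g₁)).hom ≫ e₀.inv) ⊗ₘ
          ((bcCompIso (c.π.app i₁) (D.map g₁) X₀ (c.w g₁)).hom ≫ e₀.inv)) ≫ μ[G]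
      rw [Functor.map_comp, hm₁]
      simp only [Category.assoc, Iso.inv_hom_id_assoc]
      rw [reassoc_of% hβμ]
      simp only [mL, Category.assoc, Iso.hom_inv_id, Category.comp_id]
      rw [reassoc_of% keyμ, ← tensorHom_comp_tensorHom, Category.assoc]
    · change (Over.pullback (c.π.app i₁)).map n₁ ≫ (bcCompIso (c.π.app i₁) (D.map g₁) X₀ (c.w g₁)).hom ≫ e₀.inv =
        ((bcCompIso (c.π.app i₁) (D.map g₁) X₀ (c.w g₁)).hom ≫ e₀.inv) ≫ ι[G]
      rw [hn₁]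
      simp only [nL, Category.assoc, Iso.inv_hom_id_assoc, Iso.hom_inv_id, Category.comp_id]
  have hGrp₁ : (P₁.map (Over.pullback (c.π.app i₁))).IsGrp := PreGrp.IsGrp.of_isHom_iso _ ε₁ hHom
  have hEq₁ : P₁.MapEq (Over.pullback (c.π.app i₁)) := (PreGrp.isGrp_map_iff P₁ _).1 hGrp₁
  -- step 3: the axioms descend
  have hX₁qc : QuasiCompact X₁.hom := by
    change QuasiCompact (pullback.snd X₀.hom (D.map g₁))
    infer_instance
  have hX₁qs : QuasiSeparated X₁.hom := by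
    change QuasiSeparated (pullback.snd X₀.hom (D.map g₁))
    infer_instance
  have hX₁fp : LocallyOfFinitePresentation X₁.hom := by
    change LocallyOfFinitePresentation (pullback.snd X₀.hom (D.map g₁))
    infer_instance
  obtain ⟨i₂, g₂, hEq₂⟩ := exists_mapEq_descends D c hc i₁ X₁ P₁ hEq₁
  have hGrp₂ : (P₁.map (Over.pullback (D.map g₂))).IsGrp := (PreGrp.isGrp_map_iff P₁ _).2 hEq₂
  -- step 4: the group scheme at stage `i₂`
  let instG : GrpObj (Red.bc (D.map g₂) X₁) := (P₁.map (Over.pullback (D.map g₂))).toGrpObj hGrp₂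
  let ε₂ : Red.bc (c.π.app i₂) (Red.bc (D.map g₂) X₁) ≅ G :=
    bcCompIso (c.π.app i₂) (D.map g₂) X₁ (c.w g₂) ≪≫ ε₁
  have hHom₂ : PreGrp.IsHom (PreGrp.ofGrpObj (Red.bc (c.π.app i₂) (Red.bc (D.map g₂) X₁))) (PreGrp.ofGrpObj G)
      ε₂.hom :=
    (isHom_bcCompIso (c.π.app i₂) (D.map g₂) (c.w g₂) P₁).comp hHom
  have hMon : IsMonHom ε₂.hom := PreGrp.isMonHom_of_isHom hHom₂
  refine ⟨i₂, Red.bc (D.map g₂) X₁, instG, ε₂.symm, ?_, ?_, ?_, ?_⟩
  · change IsMonHom ε₂.inv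
    infer_instance
  · change LocallyOfFinitePresentation (pullback.snd X₁.hom (D.map g₂))
    infer_instance
  · change QuasiCompact (pullback.snd X₁.hom (D.map g₂))
    infer_instance
  · change QuasiSeparated (pullback.snd X₁.hom (D.map g₂))
    infer_instance

end Main

end Lim

end Groth.Agent.R2.H44.GrpLim
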