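import Mathlib
import Groth.Agent.R2.H44GrpLim2
import Groth.Prelude.Def_AlgGrp

/-!
# Monomorphisms, normal and central subgroups over a cofiltered limit of schemes (helper44)

Namespace `Groth.Agent.R2.H44.GrpLim`.

* `conjHom i`: the universal conjugate `G ⊗ N ⟶ G`, `(g, n) ↦ g * i n * g⁻¹`.
* `normal_map_iff`: for a monoidal functor `F`, normality of `F.map i` (in terms of points) is the existence of a
  factorisation of `F.map (conjHom i)` through `F.map i`.
* `central_map_iff`: centrality of `F.map i` is an equality of two morphisms in the image of `F`.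
* `mono_map_iff`: for a functor preserving pullbacks, `F.map u` is a monomorphism iff `F` identifies the two projections
  of a kernel pair of `u`.
* `map_eq_iff_exists_stage`, `factors_iff_exists_stage`: equalities / factorisations over the limit hold iff they hold over
  some stage.
-/

set_option autoImplicit false
universe u

open CategoryTheory CategoryTheory.Limits MonoidalCategory CartesianMonoidalCategory MonObj GrpObj AlgebraicGeometry

namespace Groth.Agent.R2.H44.GrpLim

open ActBC

section Cat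

open scoped Obj

variable {C : Type*} [Category C] [CartesianMonoidalCategory C] {E : Type*} [Category E] [CartesianMonoidalCategory E]
  (F : C ⥤ E) [F.Monoidal]

/-- the universal conjugate `(g, n) ↦ g * i n * g⁻¹` -/
def conjHom {N G : C} [GrpObj N] [GrpObj G] (i : N ⟶ G) : G ⊗ N ⟶ G :=
  fst G N * (snd G N ≫ i) * (fst G N)⁻¹

/-- the two sides of the universal commutation relation -/
def commL {N G : C} [GrpObj N] [GrpObj G] (i : N ⟶ G) : G ⊗ N ⟶ G := fst G N * (snd G N ≫ i)

/-- the two sides of the universal commutation relation -/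
def commR {N G : C} [GrpObj N] [GrpObj G] (i : N ⟶ G) : G ⊗ N ⟶ G := (snd G N ≫ i) * fst G N

theorem normal_map_iff {N G : C} [GrpObj N] [GrpObj G] (i : N ⟶ G) :
    (∀ (T : E) (g : T ⟶ F.obj G) (n : T ⟶ F.obj N), ∃ n' : T ⟶ F.obj N, g * (n ≫ F.map i) * g⁻¹ = n' ≫ F.map i) ↔
      ∃ ν : F.obj (G ⊗ N) ⟶ F.obj N, ν ≫ F.map i = F.map (conjHom i) := by
  have hc : F.map (conjHom i) = F.map (fst G N) * (F.map (snd G N) ≫ F.map i) * (F.map (fst G N))⁻¹ := by
    rw [conjHom, Functor.map_mul, Functor.map_mul, Functor.map_inv', F.map_comp]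
  constructor
  · intro h
    obtain ⟨n', hn'⟩ := h (F.obj (G ⊗ N)) (F.map (fst G N)) (F.map (snd G N))
    exact ⟨n', by rw [hc, hn']⟩
  · rintro ⟨ν, hν⟩ T g n
    let t : T ⟶ F.obj (G ⊗ N) := lift g n ≫ Functor.LaxMonoidal.μ F G N
    have ht1 : t ≫ F.map (fst G N) = g := by
      simp only [t, Category.assoc, Functor.Monoidal.μ_fst, lift_fst]
    have ht2 : t ≫ F.map (snd G N) = n := by
      simp only [t, Category.assoc, Functor.Monoidal.μ_snd, lift_snd]
    refine ⟨t ≫ ν, ?_⟩
    rw [Category.assoc, hν, hc, comp_mul, comp_mul, comp_inv, ← Category.assoc, ht1, ht2]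

theorem central_map_iff {N G : C} [GrpObj N] [GrpObj G] (i : N ⟶ G) :
    (∀ (T : E) (g : T ⟶ F.obj G) (n : T ⟶ F.obj N), g * (n ≫ F.map i) = (n ≫ F.map i) * g) ↔
      F.map (commL i) = F.map (commR i) := by
  have hL : F.map (commL i) = F.map (fst G N) * (F.map (snd G N) ≫ F.map i) := by
    rw [commL, Functor.map_mul, F.map_comp]
  have hR : F.map (commR i) = (F.map (snd G N) ≫ F.map i) * F.map (fst G N) := by
    rw [commR, Functor.map_mul, F.map_comp]
  constructor
  · intro h
    rw [hL, hR]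
    exact h _ _ _
  · intro h T g n
    let t : T ⟶ F.obj (G ⊗ N) := lift g n ≫ Functor.LaxMonoidal.μ F G N
    have ht1 : t ≫ F.map (fst G N) = g := by
      simp only [t, Category.assoc, Functor.Monoidal.μ_fst, lift_fst]
    have ht2 : t ≫ F.map (snd G N) = n := by
      simp only [t, Category.assoc, Functor.Monoidal.μ_snd, lift_snd]
    have := congrArg (fun m => t ≫ m) h
    simp only [hL, hR, comp_mul, ← Category.assoc, ht1, ht2] at this
    exact this

end Cat

section Mono

variable {C : Type*} [Category C] {E : Type*} [Category E] (F : C ⥤ E)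

theorem mono_map_iff {P X Y : C} {p₁ p₂ : P ⟶ X} {u : X ⟶ Y} (h : IsPullback p₁ p₂ u u)
    [PreservesLimit (cospan u u) F] : Mono (F.map u) ↔ F.map p₁ = F.map p₂ := by
  have hF := h.map F
  constructor
  · intro hm
    exact (cancel_mono (F.map u)).1 hF.w
  · intro he
    refine ⟨fun a b hab => ?_⟩
    have h1 : hF.lift a b hab ≫ F.map p₁ = a := hF.lift_fst _ _ _
    have h2 : hF.lift a b hab ≫ F.map p₂ = b := hF.lift_snd _ _ _
    exact h1.symm.trans ((congrArg (fun m => hF.lift a b hab ≫ m) he).trans h2)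

end Mono

section KerPair

variable {S : Scheme.{u}} {X Y : Over S} (u : X ⟶ Y)

/-- the kernel pair of a morphism of `S`-schemes -/
noncomputable def kerPair : Over S := Over.mk (pullback.fst u.left u.left ≫ X.hom)

/-- first projection of the kernel pair -/
noncomputable def kerFst : kerPair u ⟶ X := Over.homMk (pullback.fst u.left u.left) rfl

/-- second projection of the kernel pair -/
noncomputable def kerSnd : kerPair u ⟶ X :=
  Over.homMk (pullback.snd u.left u.left) (by
    change pullback.snd u.left u.left ≫ X.hom = pullback.fst u.left u.left ≫ X.hom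
    rw [← Over.w u, ← Category.assoc, ← pullback.condition, Category.assoc])

theorem isPullback_kerPair : IsPullback (kerFst u) (kerSnd u) u u := by
  refine IsPullback.of_map (Over.forget S) ?_ ?_
  · ext
    exact pullback.condition
  · exact IsPullback.of_hasPullback u.left u.left

end KerPair

section Factor

/-- `w` factors through `u` after base change along `g` -/
def Factors {S S' : Scheme.{u}} (g : S' ⟶ S) {X Y Z : Over S} (u : Y ⟶ Z) (w : X ⟶ Z) : Prop :=
  ∃ ν : Red.bc g X ⟶ Red.bc g Y, ν ≫ (Over.pullback g).map u = (Over.pullback g).map w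

theorem factors_transfer {S S' S'' : Scheme.{u}} (e : S'' ⟶ S') (g : S' ⟶ S) (d : S'' ⟶ S) (hd : e ≫ g = d)
    {X Y Z : Over S} (u : Y ⟶ Z) (w : X ⟶ Z) (v : Red.bc g X ⟶ Red.bc g Y)
    (hv : (Over.pullback e).map (v ≫ (Over.pullback g).map u) = (Over.pullback e).map ((Over.pullback g).map w)) :
    Factors d u w := by
  refine ⟨(bcCompIso e g X hd).inv ≫ (Over.pullback e).map v ≫ (bcCompIso e g Y hd).hom, ?_⟩
  rw [Category.assoc, Category.assoc, ← bcCompIso_hom_naturality e g hd u, ← Functor.map_comp_assoc, hv,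
    bcCompIso_hom_naturality e g hd w, Iso.inv_hom_id_assoc]

theorem factors_of_factor {S S' S'' : Scheme.{u}} (e : S'' ⟶ S') (g : S' ⟶ S) (d : S'' ⟶ S) (hd : e ≫ g = d)
    {X Y Z : Over S} (u : Y ⟶ Z) (w : X ⟶ Z) (h : Factors g u w) : Factors d u w := by
  obtain ⟨ν, hν⟩ := h
  exact factors_transfer e g d hd u w ν (by rw [hν])

end Factor

section Lim

variable {I : Type u} [SmallCategory I] [IsCofiltered I] (D : I ⥤ Scheme.{u}) (c : Cone D) (hc : IsLimit c)
  [∀ (i i' : I) (f : i ⟶ i'), IsAffineHom (D.map f)] [∀ i, CompactSpace (D.obj i)]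
  [∀ i, QuasiSeparatedSpace (D.obj i)]

include hc in
theorem map_eq_iff_exists_stage (j : I) (X Y : Over (D.obj j)) [QuasiCompact X.hom] [LocallyOfFiniteType Y.hom]
    (u₁ u₂ : X ⟶ Y) : (Over.pullback (c.π.app j)).map u₁ = (Over.pullback (c.π.app j)).map u₂ ↔
      ∃ (i : I) (f : i ⟶ j), (Over.pullback (D.map f)).map u₁ = (Over.pullback (D.map f)).map u₂ :=
  ⟨exists_pullback_map_eq D c hc j X Y u₁ u₂, fun ⟨i, f, h⟩ =>
    pullback_map_eq_of_factor (D.map f) (c.π.app i) (c.π.app j) (c.w f) u₁ u₂ h⟩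

include hc in
theorem exists_factors_descends (j : I) (X Y Z : Over (D.obj j)) [QuasiCompact X.hom] [QuasiSeparated X.hom]
    [LocallyOfFinitePresentation Y.hom] [LocallyOfFiniteType Z.hom] (u : Y ⟶ Z) (w : X ⟶ Z)
    (h : Factors (c.π.app j) u w) : ∃ (i : I) (f : i ⟶ j), Factors (D.map f) u w := by
  obtain ⟨ν, hν⟩ := h
  obtain ⟨i₀, g₀, v, hv⟩ := exists_hom_descends D c hc j X Y ν
  have hX : QuasiCompact (Red.bc (D.map g₀) X).hom := by
    change QuasiCompact (pullback.snd X.hom (D.map g₀))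
    infer_instance
  have hZ : LocallyOfFiniteType (Red.bc (D.map g₀) Z).hom := by
    change LocallyOfFiniteType (pullback.snd Z.hom (D.map g₀))
    infer_instance
  have key : (Over.pullback (c.π.app i₀)).map (v ≫ (Over.pullback (D.map g₀)).map u) =
      (Over.pullback (c.π.app i₀)).map ((Over.pullback (D.map g₀)).map w) := by
    have n1 := bcCompIso_hom_naturality (c.π.app i₀) (D.map g₀) (c.w g₀) u
    have n2 := bcCompIso_hom_naturality (c.π.app i₀) (D.map g₀) (c.w g₀) w
    rw [← cancel_mono (bcCompIso (c.π.app i₀) (D.map g₀) Z (c.w g₀)).hom, Functor.map_comp, hv]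
    simp only [Category.assoc]
    rw [n1, n2, Iso.inv_hom_id_assoc, hν]
  obtain ⟨i₁, a, ha⟩ := exists_pullback_map_eq D c hc i₀ _ _ _ _ key
  exact ⟨i₁, a ≫ g₀, factors_transfer (D.map a) (D.map g₀) (D.map (a ≫ g₀)) (D.map_comp a g₀).symm u w v ha⟩

include hc in
theorem factors_iff_exists_stage (j : I) (X Y Z : Over (D.obj j)) [QuasiCompact X.hom] [QuasiSeparated X.hom]
    [LocallyOfFinitePresentation Y.hom] [LocallyOfFiniteType Z.hom] (u : Y ⟶ Z) (w : X ⟶ Z) :
    Factors (c.π.app j) u w ↔ ∃ (i : I) (f : i ⟶ j), Factors (D.map f) u w :=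
  ⟨exists_factors_descends D c hc j X Y Z u w, fun ⟨i, f, h⟩ =>
    factors_of_factor (c.π.app i) (D.map f) (c.π.app j) (c.w f) u w h⟩

end Lim

section Main

variable {S S' : Scheme.{u}} (g : S' ⟶ S) {N G : Over S} [GrpObj N] [GrpObj G] (i : N ⟶ G)

omit [GrpObj N] [GrpObj G] in
theorem mono_bc_iff : Mono ((Over.pullback g).map i) ↔
    (Over.pullback g).map (kerFst i) = (Over.pullback g).map (kerSnd i) :=
  mono_map_iff (Over.pullback g) (isPullback_kerPair i)

theorem isNormalHom_bc_iff : AlgGrp.IsNormalHom ((Over.pullback g).map i) ↔ Factors g i (conjHom i) :=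
  normal_map_iff (Over.pullback g) i

theorem central_bc_iff :
    (∀ (T : Over S') (x : T ⟶ Red.bc g G) (n : T ⟶ Red.bc g N),
      x * (n ≫ (Over.pullback g).map i) = (n ≫ (Over.pullback g).map i) * x) ↔
    (Over.pullback g).map (commL i) = (Over.pullback g).map (commR i) :=
  central_map_iff (Over.pullback g) i

end Main

section MainLim

variable {I : Type u} [SmallCategory I] [IsCofiltered I] (D : I ⥤ Scheme.{u}) (c : Cone D) (hc : IsLimit c)
  [∀ (i i' : I) (f : i ⟶ i'), IsAffineHom (D.map f)] [∀ i, CompactSpace (D.obj i)]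
  [∀ i, QuasiSeparatedSpace (D.obj i)]

include hc in
theorem normal_central_iff_stage (j : I) (Gj Hj : Over (D.obj j)) [GrpObj Gj] [GrpObj Hj]
    [LocallyOfFinitePresentation Gj.hom] [QuasiCompact Gj.hom] [QuasiSeparated Gj.hom]
    [LocallyOfFinitePresentation Hj.hom] [QuasiCompact Hj.hom] [QuasiSeparated Hj.hom]
    (uj : Hj ⟶ Gj) :
    ((Mono ((Over.pullback (c.π.app j)).map uj) ∧ AlgGrp.IsNormalHom ((Over.pullback (c.π.app j)).map uj)) ↔
      ∃ (i : I) (f : i ⟶ j), Mono ((Over.pullback (D.map f)).map uj) ∧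
        AlgGrp.IsNormalHom ((Over.pullback (D.map f)).map uj)) ∧
    ((Mono ((Over.pullback (c.π.app j)).map uj) ∧ (∀ (T : Over c.pt) (g : T ⟶ (Red.bc (c.π.app j) Gj))
        (n : T ⟶ (Red.bc (c.π.app j) Hj)), g * (n ≫ ((Over.pullback (c.π.app j)).map uj)) =
          (n ≫ ((Over.pullback (c.π.app j)).map uj)) * g)) ↔
      ∃ (i : I) (f : i ⟶ j), Mono ((Over.pullback (D.map f)).map uj) ∧
        (∀ (T : Over (D.obj i)) (g : T ⟶ (Red.bc (D.map f) Gj)) (n : T ⟶ (Red.bc (D.map f) Hj)),
          g * (n ≫ ((Over.pullback (D.map f)).map uj)) = (n ≫ ((Over.pullback (D.map f)).map uj)) * g)) := by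
  have hu : QuasiCompact uj.left := by
    have : QuasiCompact (uj.left ≫ Gj.hom) := by
      rw [Over.w uj]
      infer_instance
    exact QuasiCompact.of_comp uj.left Gj.hom
  have q1 : QuasiCompact (kerPair uj).hom := by
    change QuasiCompact (pullback.fst uj.left uj.left ≫ Hj.hom)
    infer_instance
  have q2 : QuasiCompact (Gj ⊗ Hj).hom := by
    change QuasiCompact (pullback.fst Gj.hom Hj.hom ≫ Gj.hom)
    infer_instance
  have q3 : QuasiSeparated (Gj ⊗ Hj).hom := by
    change QuasiSeparated (pullback.fst Gj.hom Hj.hom ≫ Gj.hom)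
    infer_instance
  have stabEq : ∀ {A B : Over (D.obj j)} (u₁ u₂ : A ⟶ B) ⦃i' i'' : I⦄ (a : i'' ⟶ i') (g : i' ⟶ j),
      (Over.pullback (D.map g)).map u₁ = (Over.pullback (D.map g)).map u₂ →
        (Over.pullback (D.map (a ≫ g))).map u₁ = (Over.pullback (D.map (a ≫ g))).map u₂ := fun u₁ u₂ _ _ a g hg =>
    pullback_map_eq_of_factor (D.map g) (D.map a) _ (D.map_comp a g).symm _ _ hg
  have stabF : ∀ ⦃i' i'' : I⦄ (a : i'' ⟶ i') (g : i' ⟶ j),
      Factors (D.map g) uj (conjHom uj) → Factors (D.map (a ≫ g)) uj (conjHom uj) := fun _ _ a g hg =>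
    factors_of_factor (D.map a) (D.map g) _ (D.map_comp a g).symm _ _ hg
  simp only [mono_bc_iff, isNormalHom_bc_iff, central_bc_iff]
  constructor
  · constructor
    · rintro ⟨h1, h2⟩
      exact exists_and_of_stable _ _ (stabEq _ _) stabF
        (exists_pullback_map_eq D c hc j _ _ _ _ h1) (exists_factors_descends D c hc j _ _ _ _ _ h2)
    · rintro ⟨i, f, h1, h2⟩
      exact ⟨pullback_map_eq_of_factor (D.map f) (c.π.app i) (c.π.app j) (c.w f) _ _ h1,
        factors_of_factor (c.π.app i) (D.map f) (c.π.app j) (c.w f) _ _ h2⟩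
  · constructor
    · rintro ⟨h1, h2⟩
      exact exists_and_of_stable _ _ (stabEq _ _) (stabEq _ _)
        (exists_pullback_map_eq D c hc j _ _ _ _ h1) (exists_pullback_map_eq D c hc j _ _ _ _ h2)
    · rintro ⟨i, f, h1, h2⟩
      exact ⟨pullback_map_eq_of_factor (D.map f) (c.π.app i) (c.π.app j) (c.w f) _ _ h1,
        pullback_map_eq_of_factor (D.map f) (c.π.app i) (c.π.app j) (c.w f) _ _ h2⟩

end MainLim

end Groth.Agent.R2.H44.GrpLim
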