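import Mathlib

/-!
# Lifting through morphisms locally of finite presentation over a stage of an affine limit (helper44)

Namespace `Groth.Agent.R2.H44.LimLift`.

`D : I ⥤ Scheme` a cofiltered diagram of affine schemes with limit cone `c`, `p : W ⟶ D.obj i`.
* `exists_lift_of_lfp`: if `p` is locally of finite presentation, a lift `σ : c.pt ⟶ W` of `c.π.app i` descends to a
  lift `D.obj k ⟶ W` of the transition map for some `k ⟶ i`.
* `exists_eq_of_lft`: if `p` is locally of finite type, two sections of `p` agreeing on the limit agree on some stage.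
-/

set_option autoImplicit false
set_option backward.isDefEq.respectTransparency false
universe u

open CategoryTheory CategoryTheory.Limits AlgebraicGeometry

namespace Groth.Agent.R2.H44.LimLift

variable {I : Type u} [SmallCategory I] [IsCofiltered I] (D : I ⥤ Scheme.{u})
  [∀ i, IsAffine (D.obj i)] (c : Cone D) (hc : IsLimit c) (i : I)

/-- the structure transformation of the diagram below `i` -/
@[simps]
def tOver : Over.forget i ⋙ D ⟶ (Functor.const (Over i)).obj (D.obj i) where
  app j := D.map j.hom
  naturality j k φ := by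
    simp only [Functor.comp_map, Over.forget_map, Functor.const_obj_map,
      ← D.map_comp, Over.w]
    exact (Category.comp_id _).symm

include hc in
theorem exists_lift_of_lfp {W : Scheme.{u}} (p : W ⟶ D.obj i) [LocallyOfFinitePresentation p]
    (σ : c.pt ⟶ W) (hσ : σ ≫ p = c.π.app i) :
    ∃ (k : I) (φ : k ⟶ i) (s : D.obj k ⟶ W), s ≫ p = D.map φ ∧ c.π.app k ≫ s = σ := by
  have hc' : IsLimit (c.whisker (Over.forget i)) :=
    (Functor.Initial.isLimitWhiskerEquiv (Over.forget i) c).symm hc
  have : ∀ j : Over i, IsAffine ((Over.forget i ⋙ D).obj j) := fun j =>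
    inferInstanceAs (IsAffine (D.obj j.left))
  obtain ⟨j, g, h1, h2⟩ := Scheme.exists_π_app_comp_eq_of_locallyOfFinitePresentation
    (Over.forget i ⋙ D) (tOver D i) p (c.whisker (Over.forget i)) hc' σ (by
      ext j
      simp [hσ])
  exact ⟨j.left, j.hom, g, h2, h1⟩

include hc in
theorem exists_eq_of_lft {W : Scheme.{u}} (p : W ⟶ D.obj i) [LocallyOfFiniteType p]
    (a b : D.obj i ⟶ W) (ha : a ≫ p = 𝟙 _) (hb : b ≫ p = 𝟙 _)
    (hab : c.π.app i ≫ a = c.π.app i ≫ b) :
    ∃ (k : I) (φ : k ⟶ i), D.map φ ≫ a = D.map φ ≫ b := by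
  have hc' : IsLimit (c.whisker (Over.forget i)) :=
    (Functor.Initial.isLimitWhiskerEquiv (Over.forget i) c).symm hc
  have : ∀ j : Over i, IsAffine ((Over.forget i ⋙ D).obj j) := fun j =>
    inferInstanceAs (IsAffine (D.obj j.left))
  obtain ⟨k, hik, h⟩ := Scheme.exists_hom_comp_eq_comp_of_locallyOfFiniteType
    (Over.forget i ⋙ D) (tOver D i) p (c.whisker (Over.forget i)) hc' (i := Over.mk (𝟙 i)) a b
    (by simp [ha]) (by simp [hb]) (by simpa using hab)
  exact ⟨k.left, hik.left, h⟩

end Groth.Agent.R2.H44.LimLift
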