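import Mathlib
import Groth.Agent.R2.H44EtCov
import Groth.Agent.R2.H44LimLift
import Groth.Agent.S9928

/-!
# Morphisms of algebraic spaces locally of finite presentation are limit preserving (helper44)

Namespace `Groth.Agent.R2.H44.LfpLim`.

Part 1 (this file): tools over `S`.
* `exists_lift_of_lfp_over`, `exists_eq_of_lft_over`: `Over S` forms of `LimLift`.
* `exists_descend_etale_cover_over`: `Over S` form of `EtCov.exists_descend_etale_cover`.
* `epi_yon_map`, `exists_desc_of_cover`: an etale surjective `q : A ⟶ B` gives an effective epimorphism `h_A ⟶ h_B`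
  of fppf sheaves: maps out of `h_A` equalising the kernel pair descend.
-/

set_option autoImplicit false
set_option backward.isDefEq.respectTransparency false
universe u

open CategoryTheory CategoryTheory.Limits AlgebraicGeometry

namespace Groth.Agent.R2.H44.LfpLim

variable {S : Scheme.{u}}

section Diagram

variable {I : Type u} [SmallCategory I] [IsCofiltered I] (D : I ⥤ Over S) (c : Cone D)
  (hc : IsLimit ((Over.forget S).mapCone c)) (hD : ∀ i, IsAffine (D.obj i).left)

include hc hD in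
theorem exists_lift_of_lfp_over (i : I) {W : Over S} (p : W ⟶ D.obj i)
    (hp : LocallyOfFinitePresentation p.left) (σ : c.pt ⟶ W) (hσ : σ ≫ p = c.π.app i) :
    ∃ (k : I) (φ : k ⟶ i) (s : D.obj k ⟶ W), s ≫ p = D.map φ ∧ c.π.app k ≫ s = σ := by
  have : ∀ i, IsAffine ((D ⋙ Over.forget S).obj i) := hD
  obtain ⟨k, φ, s, hs1, hs2⟩ := Groth.Agent.R2.H44.LimLift.exists_lift_of_lfp (D ⋙ Over.forget S)
    ((Over.forget S).mapCone c) hc i p.left σ.left (congrArg CommaMorphism.left hσ)
  have hs1' : s ≫ p.left = (D.map φ).left := hs1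
  refine ⟨k, φ, Over.homMk s ?_, ?_, ?_⟩
  · rw [← Over.w p, ← Category.assoc, hs1']
    exact Over.w (D.map φ)
  · ext
    exact hs1
  · ext
    exact hs2

include hc hD in
theorem exists_eq_of_lft_over (i : I) {W : Over S} (p : W ⟶ D.obj i)
    (hp : LocallyOfFiniteType p.left) (a b : D.obj i ⟶ W) (ha : a ≫ p = 𝟙 _) (hb : b ≫ p = 𝟙 _)
    (hab : c.π.app i ≫ a = c.π.app i ≫ b) :
    ∃ (k : I) (φ : k ⟶ i), D.map φ ≫ a = D.map φ ≫ b := by
  have : ∀ i, IsAffine ((D ⋙ Over.forget S).obj i) := hD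
  obtain ⟨k, φ, h⟩ := Groth.Agent.R2.H44.LimLift.exists_eq_of_lft (D ⋙ Over.forget S)
    ((Over.forget S).mapCone c) hc i p.left a.left b.left (congrArg CommaMorphism.left ha)
    (congrArg CommaMorphism.left hb) (congrArg CommaMorphism.left hab)
  refine ⟨k, φ, ?_⟩
  ext
  exact h

include hc hD in
theorem exists_descend_etale_cover_over {W : Over S} (w : W ⟶ c.pt) (he : Etale w.left)
    (hs : Surjective w.left) :
    ∃ (k : I) (Wk : Over S) (wk : Wk ⟶ D.obj k) (ρ : pullback wk (c.π.app k) ⟶ W),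
      IsAffine Wk.left ∧ Etale wk.left ∧ Surjective wk.left ∧
        ρ ≫ w = pullback.snd wk (c.π.app k) := by
  have : ∀ i, IsAffine ((D ⋙ Over.forget S).obj i) := hD
  have : Etale (w.left : W.left ⟶ ((Over.forget S).mapCone c).pt) := he
  have : Surjective (w.left : W.left ⟶ ((Over.forget S).mapCone c).pt) := hs
  obtain ⟨k, Wk₀, wk₀, ρ₀, h1, h2, h3, h4⟩ := Groth.Agent.R2.H44.EtCov.exists_descend_etale_cover
    (D ⋙ Over.forget S) ((Over.forget S).mapCone c) hc (w.left : W.left ⟶ ((Over.forget S).mapCone c).pt)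
  let Wk : Over S := Over.mk (wk₀ ≫ (D.obj k).hom)
  let wk : Wk ⟶ D.obj k := Over.homMk wk₀ rfl
  have sq : IsPullback (pullback.fst wk (c.π.app k)).left (pullback.snd wk (c.π.app k)).left wk₀
      (c.π.app k).left := (IsPullback.of_hasPullback wk (c.π.app k)).map (Over.forget S)
  have hρ₀ : ρ₀ ≫ w.left = pullback.snd wk₀ (c.π.app k).left := h4
  refine ⟨k, Wk, wk, Over.homMk (sq.isoPullback.hom ≫ ρ₀) ?_, h1, h2, h3, ?_⟩
  · rw [← Over.w w, Category.assoc, reassoc_of% hρ₀, ← Category.assoc, sq.isoPullback_hom_snd]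
    exact Over.w (pullback.snd wk (c.π.app k))
  · ext
    change (sq.isoPullback.hom ≫ ρ₀) ≫ w.left = _
    rw [Category.assoc, hρ₀, sq.isoPullback_hom_snd]

end Diagram

section Glue

theorem epi_yon_map {A B : Over S} (q : A ⟶ B) (he : Etale q.left) (hs : Surjective q.left) :
    Epi ((AlgSp.yon S).map q) := by
  have := Groth.Agent.R2.H44.LimIso.isLocallySurjective_of_etale_surjective ((AlgSp.yon S).map q)
    ((AlgSp.repWith_yon_map_iff @Etale q).2 he) ((AlgSp.repWith_yon_map_iff @Surjective q).2 hs)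
  infer_instance

theorem exists_desc_of_cover {A B : Over S} (q : A ⟶ B) (he : Etale q.left) (hs : Surjective q.left)
    {X : AlgSp.Sp S} (g : (AlgSp.yon S).obj A ⟶ X)
    (hg : (AlgSp.yon S).map (pullback.fst q q) ≫ g = (AlgSp.yon S).map (pullback.snd q q) ≫ g) :
    ∃ g' : (AlgSp.yon S).obj B ⟶ X, (AlgSp.yon S).map q ≫ g' = g := by
  have := epi_yon_map q he hs
  have : IsRegularEpi ((AlgSp.yon S).map q) := IsRegularEpiCategory.regularEpiOfEpi _
  have : EffectiveEpi ((AlgSp.yon S).map q) := inferInstance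
  have key : ∀ {Z : AlgSp.Sp S} (g₁ g₂ : Z ⟶ (AlgSp.yon S).obj A),
      g₁ ≫ (AlgSp.yon S).map q = g₂ ≫ (AlgSp.yon S).map q → g₁ ≫ g = g₂ ≫ g := by
    intro Z g₁ g₂ h
    apply Groth.Agent.S9928.sp_hom_ext
    intro T x
    obtain ⟨e₁, he₁⟩ := (AlgSp.yon S).map_surjective (x ≫ g₁)
    obtain ⟨e₂, he₂⟩ := (AlgSp.yon S).map_surjective (x ≫ g₂)
    have h12 : e₁ ≫ q = e₂ ≫ q := by
      apply (AlgSp.yon S).map_injective
      rw [Functor.map_comp, Functor.map_comp, he₁, he₂, Category.assoc, Category.assoc, h]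
    rw [← Category.assoc, ← Category.assoc, ← he₁, ← he₂]
    have h1 : e₁ = pullback.lift e₁ e₂ h12 ≫ pullback.fst q q := (pullback.lift_fst _ _ _).symm
    have h2 : e₂ = pullback.lift e₁ e₂ h12 ≫ pullback.snd q q := (pullback.lift_snd _ _ _).symm
    rw [h1, Functor.map_comp, Category.assoc, hg, ← Functor.map_comp_assoc, ← h2]
  exact ⟨EffectiveEpi.desc ((AlgSp.yon S).map q) g key, EffectiveEpi.fac _ _ key⟩

end Glue

end Groth.Agent.R2.H44.LfpLim
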