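import Mathlib
import Groth.Agent.R2.H44LfpLim
import Groth.Agent.S9900
import Groth.Agent.S9960
import Groth.Agent.S9948
import Groth.Agent.S9874

/-!
# Morphisms of algebraic spaces locally of finite presentation are limit preserving, part 2 (helper44)

Namespace `Groth.Agent.R2.H44.LfpLim`.

* `uniqueM`: for `f : X ⟶ Y` locally of finite type and `T = lim D_i` (affine schemes over `S`): two `D_j`-points of
  `X` with the same image in `Y` which agree on `T` agree on some `D_k`.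
-/

set_option autoImplicit false
set_option backward.isDefEq.respectTransparency false
universe u

open CategoryTheory CategoryTheory.Limits AlgebraicGeometry

namespace Groth.Agent.R2.H44.LfpLim

variable {S : Scheme.{u}}

theorem repWith_lfp_diagonal {X Y : AlgSp.Space S} (f : X ⟶ Y)
    (hf : AlgSp.LocP @LocallyOfFiniteType f.hom) :
    AlgSp.RepWith @LocallyOfFinitePresentation (pullback.diagonal f.hom) := by
  have hZsp : AlgSp.IsAlgSpace (pullback f.hom f.hom) :=
    Groth.Agent.S9874.result S Y.obj Y.property.diag X X f.hom f.hom _ (pullback.fst _ _)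
      (pullback.snd _ _) (IsPullback.of_hasPullback _ _)
  have hrep := (Groth.Agent.S9900.result f).1
  have hloc := (Groth.Agent.S9960.result f hf).1
  exact (Groth.Agent.S9948.result @LocallyOfFinitePresentation (Or.inr (Or.inl rfl)) (X := X)
    (Y := ⟨pullback f.hom f.hom, hZsp⟩) (ObjectProperty.homMk (pullback.diagonal f.hom)) hrep).1 hloc

theorem uniqueM {X Y : AlgSp.Space S} (f : X ⟶ Y) (hf : AlgSp.LocP @LocallyOfFiniteType f.hom)
    {I : Type u} [SmallCategory I] [IsCofiltered I] (D : I ⥤ Over S) (c : Cone D)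
    (hc : IsLimit ((Over.forget S).mapCone c)) (hD : ∀ i, IsAffine (D.obj i).left) (j : I)
    (x x' : (AlgSp.yon S).obj (D.obj j) ⟶ X.obj) (h1 : x ≫ f.hom = x' ≫ f.hom)
    (h2 : (AlgSp.yon S).map (c.π.app j) ≫ x = (AlgSp.yon S).map (c.π.app j) ≫ x') :
    ∃ (k : I) (φ : k ⟶ j), (AlgSp.yon S).map (D.map φ) ≫ x = (AlgSp.yon S).map (D.map φ) ≫ x' := by
  have hΔ := repWith_lfp_diagonal f hf
  let xx : (AlgSp.yon S).obj (D.obj j) ⟶ pullback f.hom f.hom := pullback.lift x x' h1
  let E := hΔ.rep.pullback xx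
  let p : E ⟶ D.obj j := hΔ.rep.snd xx
  have hp : LocallyOfFinitePresentation p.left := hΔ.property_snd xx
  have hw : hΔ.rep.fst xx ≫ pullback.diagonal f.hom = (AlgSp.yon S).map p ≫ xx := hΔ.rep.w xx
  have e1 : hΔ.rep.fst xx = (AlgSp.yon S).map p ≫ x := by
    have := congrArg (fun m => m ≫ pullback.fst f.hom f.hom) hw
    simpa [xx] using this
  have e2 : hΔ.rep.fst xx = (AlgSp.yon S).map p ≫ x' := by
    have := congrArg (fun m => m ≫ pullback.snd f.hom f.hom) hw
    simpa [xx] using this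
  let σ : c.pt ⟶ E := hΔ.rep.lift ((AlgSp.yon S).map (c.π.app j) ≫ x) (c.π.app j) (by
    apply pullback.hom_ext
    · simp [xx]
    · simp [xx, h2])
  have hσ : σ ≫ p = c.π.app j := hΔ.rep.lift_snd _ _ _
  obtain ⟨k, φ, s, hs1, -⟩ := exists_lift_of_lfp_over D c hc hD j p hp σ hσ
  refine ⟨k, φ, ?_⟩
  rw [← hs1, Functor.map_comp, Category.assoc, Category.assoc, ← e1, e2]


open Groth.Agent.R2.H44.LimSp in
attribute [local instance] IsCofiltered.isConnected in
theorem existsM_core {X Y : AlgSp.Space S} (f : X ⟶ Y)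
    (hf : AlgSp.LocP @LocallyOfFinitePresentation f.hom)
    {I : Type u} [SmallCategory I] [IsCofiltered I] (D : I ⥤ Over S) (c : Cone D)
    (hc : IsLimit ((Over.forget S).mapCone c)) (hD : ∀ i, IsAffine (D.obj i).left) (j : I)
    (τ : ∀ i, i ⟶ j) (hτ : ∀ {i i' : I} (φ : i ⟶ i'), φ ≫ τ i' = τ i)
    (y : (AlgSp.yon S).obj (D.obj j) ⟶ Y.obj) (x : (AlgSp.yon S).obj c.pt ⟶ X.obj)
    (hxy : x ≫ f.hom = (AlgSp.yon S).map (c.π.app j) ≫ y) :
    ∃ (k : I) (x' : (AlgSp.yon S).obj (D.obj k) ⟶ X.obj),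
      x' ≫ f.hom = (AlgSp.yon S).map (D.map (τ k)) ≫ y ∧ (AlgSp.yon S).map (c.π.app k) ≫ x' = x := by
  classical
  have hf' : AlgSp.LocP @LocallyOfFiniteType f.hom := by
    intro U V a b h ha hb e
    have : LocallyOfFinitePresentation h.left := hf a b h ha hb e
    exact (inferInstance : LocallyOfFiniteType h.left)
  obtain ⟨U, a, ha, has⟩ := X.property.atlas
  obtain ⟨V, b, hb, hbs⟩ := Y.property.atlas
  -- step 2: the chart `Z = U ×_Y V`
  let Z := hb.rep.pullback (a ≫ f.hom)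
  let zU : Z ⟶ U := hb.rep.snd (a ≫ f.hom)
  let zV : Z ⟶ V := hb.rep.fst' (a ≫ f.hom)
  have hzUe : Etale zU.left := hb.property_snd _
  have hZw : (AlgSp.yon S).map zV ≫ b = (AlgSp.yon S).map zU ≫ a ≫ f.hom := by
    rw [hb.rep.map_fst']
    exact hb.rep.w _
  have hzV : LocallyOfFinitePresentation zV.left :=
    hf ((AlgSp.yon S).map zU ≫ a) b zV
      (MorphismProperty.comp_mem _ _ _ ((AlgSp.repWith_yon_map_iff _ _).2 hzUe) ha) hb
      (by rw [Category.assoc, hZw])
  -- step 3: the etale covering `W` of the limit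
  let W₁ := ha.rep.pullback x
  let w₁ : W₁ ⟶ c.pt := ha.rep.snd x
  let u₁ : W₁ ⟶ U := ha.rep.fst' x
  have hw₁e : Etale w₁.left := ha.property_snd x
  have hw₁s : Surjective w₁.left := has.property_snd x
  have hW₁w : (AlgSp.yon S).map u₁ ≫ a = (AlgSp.yon S).map w₁ ≫ x := by
    rw [ha.rep.map_fst']
    exact ha.rep.w _
  let W₂ := hb.rep.pullback ((AlgSp.yon S).map (c.π.app j) ≫ y)
  let w₂ : W₂ ⟶ c.pt := hb.rep.snd _
  let v₂ : W₂ ⟶ V := hb.rep.fst' _
  have hw₂e : Etale w₂.left := hb.property_snd _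
  have hw₂s : Surjective w₂.left := hbs.property_snd _
  have hW₂w : (AlgSp.yon S).map v₂ ≫ b = (AlgSp.yon S).map w₂ ≫ (AlgSp.yon S).map (c.π.app j) ≫ y := by
    rw [hb.rep.map_fst']
    exact hb.rep.w _
  let w : pullback w₁ w₂ ⟶ c.pt := pullback.fst w₁ w₂ ≫ w₁
  have hw' : pullback.snd w₁ w₂ ≫ w₂ = w := pullback.condition.symm
  have sqW : IsPullback (pullback.fst w₁ w₂).left (pullback.snd w₁ w₂).left w₁.left w₂.left :=
    (IsPullback.of_hasPullback w₁ w₂).map (Over.forget S)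
  have hwe : Etale w.left := by
    have : Etale (pullback.fst w₁ w₂).left := MorphismProperty.of_isPullback (P := @Etale) sqW.flip hw₂e
    exact (inferInstance : Etale ((pullback.fst w₁ w₂).left ≫ w₁.left))
  have hws : Surjective w.left := by
    have : Surjective (pullback.fst w₁ w₂).left :=
      MorphismProperty.of_isPullback (P := @Surjective) sqW.flip hw₂s
    exact (inferInstance : Surjective ((pullback.fst w₁ w₂).left ≫ w₁.left))
  have hcondζ : (AlgSp.yon S).map (pullback.snd w₁ w₂ ≫ v₂) ≫ b =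
      (AlgSp.yon S).map (pullback.fst w₁ w₂ ≫ u₁) ≫ a ≫ f.hom := by
    have e1 : (AlgSp.yon S).map (pullback.fst w₁ w₂ ≫ u₁) ≫ a ≫ f.hom =
        (AlgSp.yon S).map (pullback.fst w₁ w₂) ≫ (AlgSp.yon S).map w₁ ≫ x ≫ f.hom := by
      rw [Functor.map_comp, Category.assoc, reassoc_of% hW₁w]
    have e2 : (AlgSp.yon S).map (pullback.snd w₁ w₂ ≫ v₂) ≫ b =
        (AlgSp.yon S).map (pullback.fst w₁ w₂) ≫ (AlgSp.yon S).map w₁ ≫ x ≫ f.hom := by
      rw [Functor.map_comp, Category.assoc, hW₂w, ← Functor.map_comp_assoc, hw', hxy]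
      simp only [w, Functor.map_comp, Category.assoc]
    rw [e1, e2]
  let ζ : pullback w₁ w₂ ⟶ Z := hb.rep.lift' (pullback.snd w₁ w₂ ≫ v₂) (pullback.fst w₁ w₂ ≫ u₁) hcondζ
  have hζ1 : ζ ≫ zV = pullback.snd w₁ w₂ ≫ v₂ := hb.rep.lift'_fst _ _ _
  have hζ2 : ζ ≫ zU = pullback.fst w₁ w₂ ≫ u₁ := hb.rep.lift'_snd _ _ _
  -- step 4: the scheme `Z_j` over `D_j`
  let Tj := hb.rep.pullback y
  let tj : Tj ⟶ D.obj j := hb.rep.snd y
  let vj : Tj ⟶ V := hb.rep.fst' y
  have htje : Etale tj.left := hb.property_snd y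
  have hTjw : (AlgSp.yon S).map vj ≫ b = (AlgSp.yon S).map tj ≫ y := by
    rw [hb.rep.map_fst']
    exact hb.rep.w _
  let πZ : pullback zV vj ⟶ D.obj j := pullback.snd zV vj ≫ tj
  have hπZ : LocallyOfFinitePresentation πZ.left := by
    have sq : IsPullback (pullback.fst zV vj).left (pullback.snd zV vj).left zV.left vj.left :=
      (IsPullback.of_hasPullback zV vj).map (Over.forget S)
    have : LocallyOfFinitePresentation (pullback.snd zV vj).left :=
      MorphismProperty.of_isPullback (P := @LocallyOfFinitePresentation) sq hzV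
    exact (inferInstance : LocallyOfFinitePresentation ((pullback.snd zV vj).left ≫ tj.left))
  have hcondθ : (AlgSp.yon S).map (pullback.snd w₁ w₂ ≫ v₂) ≫ b =
      (AlgSp.yon S).map (w ≫ c.π.app j) ≫ y := by
    rw [Functor.map_comp, Category.assoc, hW₂w, ← Functor.map_comp_assoc, hw',
      (AlgSp.yon S).map_comp w (c.π.app j), Category.assoc]
  let θ : pullback w₁ w₂ ⟶ Tj := hb.rep.lift' (pullback.snd w₁ w₂ ≫ v₂) (w ≫ c.π.app j) hcondθ
  have hθ1 : θ ≫ vj = pullback.snd w₁ w₂ ≫ v₂ := hb.rep.lift'_fst _ _ _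
  have hθ2 : θ ≫ tj = w ≫ c.π.app j := hb.rep.lift'_snd _ _ _
  let r : pullback w₁ w₂ ⟶ pullback zV vj := pullback.lift ζ θ (by rw [hζ1, hθ1])
  have hr1 : r ≫ pullback.fst zV vj = ζ := pullback.lift_fst _ _ _
  have hr2 : r ≫ πZ = w ≫ c.π.app j := by
    change r ≫ pullback.snd zV vj ≫ tj = _
    rw [← Category.assoc, pullback.lift_snd, hθ2]
  -- step 5: descend the covering
  obtain ⟨k, Wk, wk, ρ, hWk, hwke, hwks, hρ⟩ := exists_descend_etale_cover_over D c hc hD w hwe hws
  -- step 6: the diagram `E_l = W_k ×_{D_k} D_l`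
  have hcS : IsLimit c := isLimitOfReflects (Over.forget S) hc
  have hcE : IsLimit (pbCone D c k wk) := isLimitPbCone D c hcS k wk
  have hcE' : IsLimit ((Over.forget S).mapCone (pbCone D c k wk)) :=
    isLimitOfPreserves (Over.forget S) hcE
  have haffpb : ∀ {A B C : Over S} (g : A ⟶ C) (h : B ⟶ C), IsAffine A.left → IsAffine B.left →
      IsAffine C.left → IsAffine (pullback g h).left := by
    intro A B C g h hA hB hC
    have sq : IsPullback (pullback.fst g h).left (pullback.snd g h).left g.left h.left :=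
      (IsPullback.of_hasPullback g h).map (Over.forget S)
    exact IsAffine.of_isIso sq.isoPullback.hom
  have hEaff : ∀ l : Over k, IsAffine ((pbFunctor D k wk).obj l).left := fun l =>
    haffpb wk (D.map l.hom) hWk (hD _) (hD _)
  have hsndE : ∀ {l l' : Over k} (φ : l' ⟶ l), (pbFunctor D k wk).map φ ≫ pullback.snd wk (D.map l.hom) =
      pullback.snd wk (D.map l'.hom) ≫ D.map φ.left := by
    intro l l' φ
    simp [pbFunctor, pullback.map]
  have hsndc : ∀ l : Over k, (pbCone D c k wk).π.app l ≫ pullback.snd wk (D.map l.hom) =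
      pullback.snd wk (c.π.app k) ≫ c.π.app l.left := by
    intro l
    simp [pbCone, pullback.map]
  let l₀ : Over k := Over.mk (𝟙 k)
  let e : (pbFunctor D k wk).obj l₀ ⟶ D.obj j := pullback.snd wk (D.map l₀.hom) ≫ D.map (τ k)
  have hp : LocallyOfFinitePresentation (pullback.snd πZ e).left := by
    have sq : IsPullback (pullback.fst πZ e).left (pullback.snd πZ e).left πZ.left e.left :=
      (IsPullback.of_hasPullback πZ e).map (Over.forget S)
    exact MorphismProperty.of_isPullback (P := @LocallyOfFinitePresentation) sq hπZ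
  have hcondσ : (ρ ≫ r) ≫ πZ = (pbCone D c k wk).π.app l₀ ≫ e := by
    rw [Category.assoc, hr2, reassoc_of% hρ]
    change _ = (pbCone D c k wk).π.app l₀ ≫ pullback.snd wk (D.map l₀.hom) ≫ D.map (τ k)
    rw [reassoc_of% (hsndc l₀)]
    change _ = pullback.snd wk (c.π.app k) ≫ c.π.app k ≫ D.map (τ k)
    rw [c.w]
  let σ : (pbCone D c k wk).pt ⟶ pullback πZ e := pullback.lift (ρ ≫ r) ((pbCone D c k wk).π.app l₀) hcondσ
  have hσ : σ ≫ pullback.snd πZ e = (pbCone D c k wk).π.app l₀ := pullback.lift_snd _ _ _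
  obtain ⟨l, φ, s, hs1, hs2⟩ := exists_lift_of_lfp_over (pbFunctor D k wk) (pbCone D c k wk) hcE' hEaff l₀
    (pullback.snd πZ e) hp σ hσ
  let rl : (pbFunctor D k wk).obj l ⟶ pullback zV vj := s ≫ pullback.fst πZ e
  have hrl1 : rl ≫ πZ = pullback.snd wk (D.map l.hom) ≫ D.map (τ l.left) := by
    change (s ≫ pullback.fst πZ e) ≫ πZ = _
    rw [Category.assoc, pullback.condition, reassoc_of% hs1]
    change (pbFunctor D k wk).map φ ≫ pullback.snd wk (D.map l₀.hom) ≫ D.map (τ k) = _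
    have e3 : D.map φ.left ≫ D.map (τ k) = D.map (τ l.left) := by
      rw [← D.map_comp]
      exact congrArg D.map (hτ φ.left)
    rw [reassoc_of% (hsndE φ), e3]
  have hrl2 : (pbCone D c k wk).π.app l ≫ rl = ρ ≫ r := by
    change (pbCone D c k wk).π.app l ≫ s ≫ pullback.fst πZ e = _
    rw [reassoc_of% hs2]
    exact pullback.lift_fst _ _ _
  -- step 7: the point over `E_l`
  let xl : (AlgSp.yon S).obj ((pbFunctor D k wk).obj l) ⟶ X.obj :=
    (AlgSp.yon S).map (rl ≫ pullback.fst zV vj ≫ zU) ≫ a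
  have hxl1 : xl ≫ f.hom =
      (AlgSp.yon S).map (pullback.snd wk (D.map l.hom) ≫ D.map (τ l.left)) ≫ y := by
    have hc1 : (AlgSp.yon S).map (pullback.fst zV vj) ≫ (AlgSp.yon S).map zV =
        (AlgSp.yon S).map (pullback.snd zV vj) ≫ (AlgSp.yon S).map vj := by
      rw [← Functor.map_comp, ← Functor.map_comp, pullback.condition]
    rw [← hrl1]
    simp only [xl, πZ, Functor.map_comp, Category.assoc]
    rw [← hZw, reassoc_of% hc1, hTjw]
  have hxl2 : (AlgSp.yon S).map ((pbCone D c k wk).π.app l) ≫ xl =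
      (AlgSp.yon S).map (pullback.snd wk (c.π.app k)) ≫ x := by
    have h1 : (pbCone D c k wk).π.app l ≫ rl ≫ pullback.fst zV vj ≫ zU =
        ρ ≫ pullback.fst w₁ w₂ ≫ u₁ := by
      rw [reassoc_of% hrl2, reassoc_of% hr1, hζ2]
    change (AlgSp.yon S).map ((pbCone D c k wk).π.app l) ≫
      (AlgSp.yon S).map (rl ≫ pullback.fst zV vj ≫ zU) ≫ a = _
    rw [← Functor.map_comp_assoc, h1, ← hρ]
    simp only [w, Functor.map_comp, Category.assoc]
    rw [hW₁w]
  clear_value xl
  -- step 8: the overlaps `O_l = (W_k ×_{D_k} W_k) ×_{D_k} D_l`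
  let ω : pullback wk wk ⟶ D.obj k := pullback.fst wk wk ≫ wk
  have hω : pullback.snd wk wk ≫ wk = ω := pullback.condition.symm
  have hcO' : IsLimit ((Over.forget S).mapCone (pbCone D c k ω)) :=
    isLimitOfPreserves (Over.forget S) (isLimitPbCone D c hcS k ω)
  have hOaff : ∀ l : Over k, IsAffine ((pbFunctor D k ω).obj l).left := fun l =>
    haffpb ω (D.map l.hom) (haffpb wk wk hWk hWk (hD _)) (hD _) (hD _)
  let pr₁ : ∀ l : Over k, (pbFunctor D k ω).obj l ⟶ (pbFunctor D k wk).obj l := fun l =>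
    pullback.map ω (D.map l.hom) wk (D.map l.hom) (pullback.fst wk wk) (𝟙 _) (𝟙 _) (by simp [ω]) (by simp)
  let pr₂ : ∀ l : Over k, (pbFunctor D k ω).obj l ⟶ (pbFunctor D k wk).obj l := fun l =>
    pullback.map ω (D.map l.hom) wk (D.map l.hom) (pullback.snd wk wk) (𝟙 _) (𝟙 _) (by simp [hω]) (by simp)
  let prc₁ : (pbCone D c k ω).pt ⟶ (pbCone D c k wk).pt :=
    pullback.map ω (c.π.app k) wk (c.π.app k) (pullback.fst wk wk) (𝟙 _) (𝟙 _) (by simp [ω]) (by simp)
  let prc₂ : (pbCone D c k ω).pt ⟶ (pbCone D c k wk).pt :=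
    pullback.map ω (c.π.app k) wk (c.π.app k) (pullback.snd wk wk) (𝟙 _) (𝟙 _) (by simp [hω]) (by simp)
  have hpr₁snd : ∀ l : Over k, pr₁ l ≫ pullback.snd wk (D.map l.hom) = pullback.snd ω (D.map l.hom) := by
    intro l; simp [pr₁, pullback.map]
  have hpr₂snd : ∀ l : Over k, pr₂ l ≫ pullback.snd wk (D.map l.hom) = pullback.snd ω (D.map l.hom) := by
    intro l; simp [pr₂, pullback.map]
  have hprc₁snd : prc₁ ≫ pullback.snd wk (c.π.app k) = pullback.snd ω (c.π.app k) := by
    simp [prc₁, pullback.map]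
  have hprc₂snd : prc₂ ≫ pullback.snd wk (c.π.app k) = pullback.snd ω (c.π.app k) := by
    simp [prc₂, pullback.map]
  have hnat₁ : ∀ l : Over k, (pbCone D c k ω).π.app l ≫ pr₁ l = prc₁ ≫ (pbCone D c k wk).π.app l := by
    intro l
    apply pullback.hom_ext <;> simp [pr₁, prc₁, pbCone, pullback.map]
  have hnat₂ : ∀ l : Over k, (pbCone D c k ω).π.app l ≫ pr₂ l = prc₂ ≫ (pbCone D c k wk).π.app l := by
    intro l
    apply pullback.hom_ext <;> simp [pr₂, prc₂, pbCone, pullback.map]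
  have hmap₁ : ∀ {l l' : Over k} (ψ : l' ⟶ l), pr₁ l' ≫ (pbFunctor D k wk).map ψ =
      (pbFunctor D k ω).map ψ ≫ pr₁ l := by
    intro l l' ψ
    apply pullback.hom_ext <;> simp [pr₁, pbFunctor, pullback.map]
  have hmap₂ : ∀ {l l' : Over k} (ψ : l' ⟶ l), pr₂ l' ≫ (pbFunctor D k wk).map ψ =
      (pbFunctor D k ω).map ψ ≫ pr₂ l := by
    intro l l' ψ
    apply pullback.hom_ext <;> simp [pr₂, pbFunctor, pullback.map]
  have hαβ1 : ((AlgSp.yon S).map (pr₁ l) ≫ xl) ≫ f.hom = ((AlgSp.yon S).map (pr₂ l) ≫ xl) ≫ f.hom := by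
    rw [Category.assoc, Category.assoc, hxl1, ← Functor.map_comp_assoc, ← Functor.map_comp_assoc,
      reassoc_of% (hpr₁snd l), reassoc_of% (hpr₂snd l)]
  have hαβ2 : (AlgSp.yon S).map ((pbCone D c k ω).π.app l) ≫ (AlgSp.yon S).map (pr₁ l) ≫ xl =
      (AlgSp.yon S).map ((pbCone D c k ω).π.app l) ≫ (AlgSp.yon S).map (pr₂ l) ≫ xl := by
    rw [← Functor.map_comp_assoc, ← Functor.map_comp_assoc, hnat₁, hnat₂, Functor.map_comp,
      Functor.map_comp, Category.assoc, Category.assoc, hxl2, ← Functor.map_comp_assoc,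
      ← Functor.map_comp_assoc, hprc₁snd, hprc₂snd]
  obtain ⟨l', φ', hαβ3⟩ := uniqueM f hf' (pbFunctor D k ω) (pbCone D c k ω) hcO' hOaff l
    ((AlgSp.yon S).map (pr₁ l) ≫ xl) ((AlgSp.yon S).map (pr₂ l) ≫ xl) hαβ1 hαβ2
  let xl' : (AlgSp.yon S).obj ((pbFunctor D k wk).obj l') ⟶ X.obj :=
    (AlgSp.yon S).map ((pbFunctor D k wk).map φ') ≫ xl
  have hkey : (AlgSp.yon S).map (pr₁ l') ≫ xl' = (AlgSp.yon S).map (pr₂ l') ≫ xl' := by
    change (AlgSp.yon S).map (pr₁ l') ≫ (AlgSp.yon S).map ((pbFunctor D k wk).map φ') ≫ xl =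
      (AlgSp.yon S).map (pr₂ l') ≫ (AlgSp.yon S).map ((pbFunctor D k wk).map φ') ≫ xl
    rw [← Functor.map_comp_assoc, ← Functor.map_comp_assoc, hmap₁, hmap₂, Functor.map_comp,
      Functor.map_comp, Category.assoc, Category.assoc, hαβ3]
  have hxl'1 : xl' ≫ f.hom =
      (AlgSp.yon S).map (pullback.snd wk (D.map l'.hom) ≫ D.map (τ l'.left)) ≫ y := by
    change ((AlgSp.yon S).map ((pbFunctor D k wk).map φ') ≫ xl) ≫ f.hom = _
    have e3 : D.map φ'.left ≫ D.map (τ l.left) = D.map (τ l'.left) := by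
      rw [← D.map_comp]
      exact congrArg D.map (hτ φ'.left)
    rw [Category.assoc, hxl1, ← Functor.map_comp_assoc, reassoc_of% (hsndE φ'), e3]
  have hxl'2 : (AlgSp.yon S).map ((pbCone D c k wk).π.app l') ≫ xl' =
      (AlgSp.yon S).map (pullback.snd wk (c.π.app k)) ≫ x := by
    change (AlgSp.yon S).map ((pbCone D c k wk).π.app l') ≫
      (AlgSp.yon S).map ((pbFunctor D k wk).map φ') ≫ xl = _
    rw [← Functor.map_comp_assoc, (pbCone D c k wk).w φ', hxl2]
  clear_value xl'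
  -- step 9: glue along the covering `q : E_{l'} ⟶ D_{l'}`
  let q : (pbFunctor D k wk).obj l' ⟶ D.obj l'.left := pullback.snd wk (D.map l'.hom)
  have sqq : IsPullback (pullback.fst wk (D.map l'.hom)).left q.left wk.left (D.map l'.hom).left :=
    (IsPullback.of_hasPullback wk (D.map l'.hom)).map (Over.forget S)
  have hqe : Etale q.left := MorphismProperty.of_isPullback (P := @Etale) sqq hwke
  have hqs : Surjective q.left := MorphismProperty.of_isPullback (P := @Surjective) sqq hwks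
  have hqq : pullback.fst q q ≫ q = pullback.snd q q ≫ q := pullback.condition
  have hE : pullback.fst wk (D.map l'.hom) ≫ wk = q ≫ D.map l'.hom := pullback.condition
  let κ₀ : pullback q q ⟶ pullback wk wk :=
    pullback.lift (pullback.fst q q ≫ pullback.fst wk (D.map l'.hom))
      (pullback.snd q q ≫ pullback.fst wk (D.map l'.hom)) (by
        rw [Category.assoc, Category.assoc, hE, reassoc_of% hqq])
  let κ : pullback q q ⟶ (pbFunctor D k ω).obj l' := pullback.lift κ₀ (pullback.fst q q ≫ q) (by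
    change κ₀ ≫ pullback.fst wk wk ≫ wk = _
    rw [← Category.assoc, pullback.lift_fst, Category.assoc, Category.assoc, hE])
  have hκ₁ : κ ≫ pr₁ l' = pullback.fst q q := by
    apply pullback.hom_ext
    · simp [κ, κ₀, pr₁, pullback.map]
    · simp [κ, pr₁, pullback.map, q]
  have hκ₂ : κ ≫ pr₂ l' = pullback.snd q q := by
    apply pullback.hom_ext
    · simp [κ, κ₀, pr₂, pullback.map]
    · simp [κ, pr₂, pullback.map, q, hqq]
  have hglue : (AlgSp.yon S).map (pullback.fst q q) ≫ xl' = (AlgSp.yon S).map (pullback.snd q q) ≫ xl' := by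
    rw [← hκ₁, ← hκ₂, Functor.map_comp, Functor.map_comp, Category.assoc, Category.assoc, hkey]
  obtain ⟨x', hx'⟩ := exists_desc_of_cover q hqe hqs xl' hglue
  -- step 10
  refine ⟨l'.left, x', ?_, ?_⟩
  · have := epi_yon_map q hqe hqs
    rw [← cancel_epi ((AlgSp.yon S).map q), reassoc_of% hx', hxl'1, Functor.map_comp, Category.assoc]
  · have sqc : IsPullback (pullback.fst wk (c.π.app k)).left (pullback.snd wk (c.π.app k)).left wk.left
        (c.π.app k).left := (IsPullback.of_hasPullback wk (c.π.app k)).map (Over.forget S)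
    have hce : Etale (pullback.snd wk (c.π.app k)).left := MorphismProperty.of_isPullback (P := @Etale) sqc hwke
    have hcs : Surjective (pullback.snd wk (c.π.app k)).left :=
      MorphismProperty.of_isPullback (P := @Surjective) sqc hwks
    have := epi_yon_map (pullback.snd wk (c.π.app k)) hce hcs
    rw [← cancel_epi ((AlgSp.yon S).map (pullback.snd wk (c.π.app k))), ← hxl'2, ← hx',
      ← Functor.map_comp_assoc, ← Functor.map_comp_assoc, hsndc l']

end Groth.Agent.R2.H44.LfpLim
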