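import Mathlib
import Groth.Agent.R2.H44LfpLim2
import Groth.Agent.R2.H44RelLimPres
import Groth.Agent.Lib.Helper12OpenSub

/-!
# Morphisms of algebraic spaces locally of finite presentation are limit preserving, part 3 (helper44)

Namespace `Groth.Agent.R2.H44.LfpLim`.

* `existsM`: for `f : X ⟶ Y` locally of finite presentation and `T = lim D_i` (affine schemes over `S`): a `T`-point
  of `X` over a `D_j`-point of `Y` comes from a `D_k`-point of `X` over it.
* `isRelLimitPreserving_of_locP`, `existsCond_iff`, `uniqueCond_iff`.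
-/

set_option autoImplicit false
set_option backward.isDefEq.respectTransparency false
universe u

open CategoryTheory CategoryTheory.Limits AlgebraicGeometry Opposite

namespace Groth.Agent.R2.H44.LfpLim

variable {S : Scheme.{u}}

theorem existsM {X Y : AlgSp.Space S} (f : X ⟶ Y)
    (hf : AlgSp.LocP @LocallyOfFinitePresentation f.hom)
    {I : Type u} [SmallCategory I] [IsCofiltered I] (D : I ⥤ Over S) (c : Cone D)
    (hc : IsLimit ((Over.forget S).mapCone c)) (hD : ∀ i, IsAffine (D.obj i).left) (j : I)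
    (y : (AlgSp.yon S).obj (D.obj j) ⟶ Y.obj) (x : (AlgSp.yon S).obj c.pt ⟶ X.obj)
    (hxy : x ≫ f.hom = (AlgSp.yon S).map (c.π.app j) ≫ y) :
    ∃ (k : I) (φ : k ⟶ j) (x' : (AlgSp.yon S).obj (D.obj k) ⟶ X.obj),
      x' ≫ f.hom = (AlgSp.yon S).map (D.map φ) ≫ y ∧ (AlgSp.yon S).map (c.π.app k) ≫ x' = x := by
  have hc' : IsLimit ((Over.forget S).mapCone (c.whisker (Over.forget j))) :=
    (Functor.Initial.isLimitWhiskerEquiv (Over.forget j) ((Over.forget S).mapCone c)).symm hc
  obtain ⟨k, x', h1, h2⟩ := existsM_core f hf (Over.forget j ⋙ D) (c.whisker (Over.forget j)) hc'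
    (fun l => hD l.left) (Over.mk (𝟙 j)) (fun l => Over.homMk l.hom (by simp))
    (fun {l l'} φ => by ext; simp) y x hxy
  exact ⟨k.left, k.hom, x', h1, h2⟩

open Groth.Agent.S13210 Groth.Agent.Lib.Helper12.OpenSub Groth.Agent.R2.H44.RelLimPres

lemma map_yEquiv' {G : AlgSp.Sp S} {T T' : Over S} (g : T' ⟶ T) (a : (AlgSp.yon S).obj T ⟶ G) :
    G.obj.map g.op (yEquiv T G a) = yEquiv T' G ((AlgSp.yon S).map g ≫ a) := by
  apply (yEquiv T' G).symm.injective
  rw [yEquiv_symm_map, Equiv.symm_apply_apply, Equiv.symm_apply_apply]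

theorem existsCond_iff {F G : AlgSp.Sp S} (a : F ⟶ G) {I : Type u} [SmallCategory I] (D : I ⥤ Over S)
    (c : Cone D) :
    ExistsCond a.hom D c ↔ ∀ (j : I) (y : (AlgSp.yon S).obj (D.obj j) ⟶ G)
      (x : (AlgSp.yon S).obj c.pt ⟶ F), x ≫ a = (AlgSp.yon S).map (c.π.app j) ≫ y →
      ∃ (k : I) (φ : k ⟶ j) (x' : (AlgSp.yon S).obj (D.obj k) ⟶ F),
        x' ≫ a = (AlgSp.yon S).map (D.map φ) ≫ y ∧ (AlgSp.yon S).map (c.π.app k) ≫ x' = x := by
  constructor
  · intro h j y x hxy
    obtain ⟨k, φ, x', h1, h2⟩ := h j (yEquiv _ _ y) (yEquiv _ _ x) (by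
      rw [← yEquiv_comp, hxy, map_yEquiv']
      rfl)
    refine ⟨k, φ, (yEquiv _ _).symm x', ?_, ?_⟩
    · apply (yEquiv _ _).injective
      rw [yEquiv_comp, Equiv.apply_symm_apply, h1, map_yEquiv']
    · apply (yEquiv _ _).injective
      rw [← map_yEquiv', Equiv.apply_symm_apply, h2]
      rfl
  · intro h j y x hxy
    obtain ⟨k, φ, x', h1, h2⟩ := h j ((yEquiv _ _).symm y) ((yEquiv _ _).symm x) (by
      apply (yEquiv _ _).injective
      rw [yEquiv_comp, Equiv.apply_symm_apply, ← map_yEquiv', Equiv.apply_symm_apply]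
      exact hxy)
    refine ⟨k, φ, yEquiv _ _ x', ?_, ?_⟩
    · rw [← yEquiv_comp, h1, ← map_yEquiv', Equiv.apply_symm_apply]
    · rw [map_yEquiv', h2]
      exact Equiv.apply_symm_apply (yEquiv c.pt F) x

theorem uniqueCond_iff {F G : AlgSp.Sp S} (a : F ⟶ G) {I : Type u} [SmallCategory I] (D : I ⥤ Over S)
    (c : Cone D) :
    UniqueCond a.hom D c ↔ ∀ (j : I) (x x' : (AlgSp.yon S).obj (D.obj j) ⟶ F), x ≫ a = x' ≫ a →
      (AlgSp.yon S).map (c.π.app j) ≫ x = (AlgSp.yon S).map (c.π.app j) ≫ x' →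
      ∃ (k : I) (φ : k ⟶ j), (AlgSp.yon S).map (D.map φ) ≫ x = (AlgSp.yon S).map (D.map φ) ≫ x' := by
  constructor
  · intro h j x x' h1 h2
    obtain ⟨k, φ, h3⟩ := h j (yEquiv _ _ x) (yEquiv _ _ x') (by
      rw [← yEquiv_comp, ← yEquiv_comp, h1]) (by rw [map_yEquiv', map_yEquiv', h2])
    refine ⟨k, φ, ?_⟩
    apply (yEquiv _ _).injective
    rw [← map_yEquiv', ← map_yEquiv', h3]
  · intro h j x x' h1 h2
    obtain ⟨k, φ, h3⟩ := h j ((yEquiv _ _).symm x) ((yEquiv _ _).symm x') (by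
      apply (yEquiv _ _).injective
      rw [yEquiv_comp, yEquiv_comp, Equiv.apply_symm_apply, Equiv.apply_symm_apply]
      exact h1) (by
      apply (yEquiv _ _).injective
      rw [← map_yEquiv', ← map_yEquiv', Equiv.apply_symm_apply, Equiv.apply_symm_apply]
      exact h2)
    refine ⟨k, φ, ?_⟩
    have := congrArg (yEquiv _ _) h3
    rwa [← map_yEquiv', ← map_yEquiv', Equiv.apply_symm_apply, Equiv.apply_symm_apply] at this

theorem isRelLimitPreserving_of_locP {X Y : AlgSp.Space S} (f : X ⟶ Y)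
    (hf : AlgSp.LocP @LocallyOfFinitePresentation f.hom) : AlgSp.IsRelLimitPreserving f.hom.hom := by
  have hf' : AlgSp.LocP @LocallyOfFiniteType f.hom := by
    intro U V a b h ha hb e
    have : LocallyOfFinitePresentation h.left := hf a b h ha hb e
    exact (inferInstance : LocallyOfFiniteType h.left)
  rw [isRelLimitPreserving_iff_elementwise]
  intro I _ _ D c hc hD hT
  refine ⟨(existsCond_iff f.hom D c).2 ?_, (uniqueCond_iff f.hom D c).2 ?_⟩
  · intro j y x hxy
    exact existsM f hf D c hc hD j y x hxy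
  · intro j x x' h1 h2
    exact uniqueM f hf' D c hc hD j x x' h1 h2

end Groth.Agent.R2.H44.LfpLim
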