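import Mathlib
import Groth.Agent.R2.H44LfpLim3
import Groth.Agent.R2.H44LimIso
import Groth.Agent.R2.H44LimDesc
import Groth.Agent.S10180
import Groth.Agent.S9921
import Groth.Agent.S9874
import Groth.Agent.S9944

/-!
# Morphisms locally of finite presentation and limits of quasi-compact quasi-separated algebraic spaces (helper44)

Namespace `Groth.Agent.R2.H44.LfpLimSp`.

For `f : X ⟶ Y` locally of finite presentation (algebraic spaces over `S`) and `T = lim D_i` a cofiltered limit (in fppf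
sheaves) of quasi-compact quasi-separated algebraic spaces with affine transition maps:
* `uniqueM_sp`: two `D_j`-points of `X` with the same image in `Y` which agree on `T` agree on some `D_k`.
* `existsM_sp`: a `T`-point of `X` over a `D_j`-point of `Y` comes from a `D_k`-point of `X` over it.
-/

set_option autoImplicit false
set_option backward.isDefEq.respectTransparency false
universe u

open CategoryTheory CategoryTheory.Limits AlgebraicGeometry

namespace Groth.Agent.R2.H44.LfpLimSp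

variable {S : Scheme.{u}}

/-- the base change of a (representable) etale surjective map is an epimorphism of sheaves -/
theorem epi_of_isPullback {F G H P : AlgSp.Sp S} {u : F ⟶ G} {g : H ⟶ G} {fst : P ⟶ F} {snd : P ⟶ H}
    (sq : IsPullback fst snd u g) (he : AlgSp.RepWith @Etale u) (hs : AlgSp.RepWith @Surjective u) :
    Epi snd := by
  have he' : AlgSp.RepWith @Etale snd := MorphismProperty.of_isPullback sq he
  have hs' : AlgSp.RepWith @Surjective snd := MorphismProperty.of_isPullback sq hs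
  have := Groth.Agent.R2.H44.LimIso.isLocallySurjective_of_etale_surjective snd he' hs'
  infer_instance

/-- epimorphisms of sheaves are effective: maps equalising the kernel pair descend -/
theorem exists_desc_of_epi {A B X : AlgSp.Sp S} (q : A ⟶ B) [Epi q] (g : A ⟶ X)
    (hg : pullback.fst q q ≫ g = pullback.snd q q ≫ g) : ∃ g' : B ⟶ X, q ≫ g' = g := by
  have : IsRegularEpi q := IsRegularEpiCategory.regularEpiOfEpi _
  have : EffectiveEpi q := inferInstance
  have key : ∀ {Z : AlgSp.Sp S} (g₁ g₂ : Z ⟶ A), g₁ ≫ q = g₂ ≫ q → g₁ ≫ g = g₂ ≫ g := by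
    intro Z g₁ g₂ h
    have h1 : g₁ = pullback.lift g₁ g₂ h ≫ pullback.fst q q := (pullback.lift_fst _ _ _).symm
    have h2 : g₂ = pullback.lift g₁ g₂ h ≫ pullback.snd q q := (pullback.lift_snd _ _ _).symm
    rw [h1, Category.assoc, hg, ← Category.assoc, ← h2]
  exact ⟨EffectiveEpi.desc q g key, EffectiveEpi.fac _ _ key⟩

open Groth.Agent.R2.H44.LimSp Groth.Agent.R2.H44.LfpLim in
theorem uniqueM_sp {X Y : AlgSp.Space S} (f : X ⟶ Y) (hf : AlgSp.LocP @LocallyOfFiniteType f.hom)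
    {I : Type u} [SmallCategory I] [IsCofiltered I] (D : I ⥤ AlgSp.Sp S) (c : Cone D) (hc : IsLimit c) (j : I)
    (hj : AlgSp.IsAlgSpace (D.obj j)) (hqc : AlgSp.IsQuasiCompactSp (D.obj j))
    (hDa : ∀ l : Over j, AlgSp.IsAffineMor (D.map l.hom))
    (x x' : D.obj j ⟶ X.obj) (h1 : x ≫ f.hom = x' ≫ f.hom) (h2 : c.π.app j ≫ x = c.π.app j ≫ x') :
    ∃ (k : I) (φ : k ⟶ j), D.map φ ≫ x = D.map φ ≫ x' := by
  obtain ⟨U, u, hU, hue, hus⟩ := (Groth.Agent.S10180.result ⟨D.obj j, hj⟩).1 hqc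
  have haff : ∀ l : Over j, IsAffRep ((pbFunctor D j u).obj l) := by
    intro l
    obtain ⟨W, iW, fst, sq, hW⟩ := hDa l hU u
    exact ⟨W, hW, ⟨sq.flip.isoPullback⟩⟩
  obtain ⟨K, eK, cK, e, -, ⟨hcK'⟩, hK, -, hcompat⟩ :=
    exists_affine_model (pbFunctor D j u) haff (pbCone D c j u) (isLimitPbCone D c hc j u)
  let l₀ : Over j := Over.mk (𝟙 j)
  have hsndE : ∀ {l l' : Over j} (φ : l' ⟶ l), (pbFunctor D j u).map φ ≫ pullback.snd u (D.map l.hom) =
      pullback.snd u (D.map l'.hom) ≫ D.map φ.left := by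
    intro l l' φ
    simp [pbFunctor, pullback.map]
  have hsndc : ∀ l : Over j, (pbCone D c j u).π.app l ≫ pullback.snd u (D.map l.hom) =
      pullback.snd u (c.π.app j) ≫ c.π.app l.left := by
    intro l
    simp [pbCone, pullback.map]
  let s₀ : (pbFunctor D j u).obj l₀ ⟶ D.obj j := pullback.snd u (D.map l₀.hom)
  have hs₀ : (pbCone D c j u).π.app l₀ ≫ s₀ = pullback.snd u (c.π.app j) ≫ c.π.app j := hsndc l₀
  obtain ⟨k, φ, h3⟩ := uniqueM f hf K cK hcK' hK l₀ (eK.hom.app l₀ ≫ s₀ ≫ x) (eK.hom.app l₀ ≫ s₀ ≫ x')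
    (by simp only [Category.assoc, h1])
    (by rw [← reassoc_of% (hcompat l₀), ← reassoc_of% (hcompat l₀), reassoc_of% hs₀, reassoc_of% hs₀, h2])
  have hnat : (AlgSp.yon S).map (K.map φ) ≫ eK.hom.app l₀ = eK.hom.app k ≫ (pbFunctor D j u).map φ :=
    eK.hom.naturality φ
  have hs₀' : (pbFunctor D j u).map φ ≫ s₀ = pullback.snd u (D.map k.hom) ≫ D.map φ.left := hsndE φ
  rw [reassoc_of% hnat, reassoc_of% hnat, reassoc_of% hs₀', reassoc_of% hs₀'] at h3
  have : Epi (pullback.snd u (D.map k.hom)) :=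
    epi_of_isPullback (IsPullback.of_hasPullback u (D.map k.hom)) hue hus
  refine ⟨k.left, φ.left, ?_⟩
  rw [← cancel_epi (pullback.snd u (D.map k.hom)), ← cancel_epi (eK.hom.app k)]
  exact h3

open Groth.Agent.R2.H44.LimSp Groth.Agent.R2.H44.LfpLim Groth.Agent.R2.H44.LimIso in
theorem existsM_sp [QuasiSeparatedSpace S] {X Y : AlgSp.Space S} (f : X ⟶ Y)
    (hf : AlgSp.LocP @LocallyOfFinitePresentation f.hom)
    {I : Type u} [SmallCategory I] [IsCofiltered I] (D : I ⥤ AlgSp.Sp S)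
    (hD : ∀ i, AlgSp.IsAlgSpace (D.obj i))
    (hDa : ∀ (i j : I) (φ : i ⟶ j), AlgSp.IsAffineMor (D.map φ))
    (hqc : ∀ i, AlgSp.IsQuasiCompactSp (D.obj i)) (hqs : ∀ i, AlgSp.IsQuasiSeparatedSp (D.obj i))
    (c : Cone D) (hc : IsLimit c) (j : I)
    (y : D.obj j ⟶ Y.obj) (x : c.pt ⟶ X.obj) (hxy : x ≫ f.hom = c.π.app j ≫ y) :
    ∃ (k : I) (φ : k ⟶ j) (x' : D.obj k ⟶ X.obj), x' ≫ f.hom = D.map φ ≫ y ∧ c.π.app k ≫ x' = x := by
  classical
  have hf' : AlgSp.LocP @LocallyOfFiniteType f.hom := by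
    intro U V a b h ha hb e
    have : LocallyOfFinitePresentation h.left := hf a b h ha hb e
    exact (inferInstance : LocallyOfFiniteType h.left)
  obtain ⟨U, u, hU, hue, hus⟩ := (Groth.Agent.S10180.result ⟨D.obj j, hD j⟩).1 (hqc j)
  have haff : ∀ l : Over j, IsAffRep ((pbFunctor D j u).obj l) := by
    intro l
    obtain ⟨W, iW, fst, sq, hW⟩ := hDa _ _ l.hom hU u
    exact ⟨W, hW, ⟨sq.flip.isoPullback⟩⟩
  obtain ⟨K, eK, cK, e, -, ⟨hcK'⟩, hK, -, hcompat⟩ :=
    exists_affine_model (pbFunctor D j u) haff (pbCone D c j u) (isLimitPbCone D c hc j u)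
  let l₀ : Over j := Over.mk (𝟙 j)
  have hsndE : ∀ {l l' : Over j} (φ : l' ⟶ l), (pbFunctor D j u).map φ ≫ pullback.snd u (D.map l.hom) =
      pullback.snd u (D.map l'.hom) ≫ D.map φ.left := by
    intro l l' φ
    simp [pbFunctor, pullback.map]
  have hsndc : ∀ l : Over j, (pbCone D c j u).π.app l ≫ pullback.snd u (D.map l.hom) =
      pullback.snd u (c.π.app j) ≫ c.π.app l.left := by
    intro l
    simp [pbCone, pullback.map]
  let s₀ : (pbFunctor D j u).obj l₀ ⟶ D.obj j := pullback.snd u (D.map l₀.hom)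
  have hs₀ : (pbCone D c j u).π.app l₀ ≫ s₀ = pullback.snd u (c.π.app j) ≫ c.π.app j := hsndc l₀
  -- step 4: the point over the chart
  obtain ⟨k, φ, x₂, hx₂1, hx₂2⟩ := existsM f hf K cK hcK' hK l₀ (eK.hom.app l₀ ≫ s₀ ≫ y)
    (e.hom ≫ pullback.snd u (c.π.app j) ≫ x)
    (by rw [Category.assoc, Category.assoc, hxy, ← reassoc_of% (hcompat l₀), reassoc_of% hs₀])
  have hnat : (AlgSp.yon S).map (K.map φ) ≫ eK.hom.app l₀ = eK.hom.app k ≫ (pbFunctor D j u).map φ :=
    eK.hom.naturality φ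
  have hs₀' : (pbFunctor D j u).map φ ≫ s₀ = pullback.snd u (D.map k.hom) ≫ D.map φ.left := hsndE φ
  let xk : (pbFunctor D j u).obj k ⟶ X.obj := eK.inv.app k ≫ x₂
  have hxk1 : xk ≫ f.hom = pullback.snd u (D.map k.hom) ≫ D.map φ.left ≫ y := by
    change (eK.inv.app k ≫ x₂) ≫ f.hom = _
    rw [Category.assoc, hx₂1, reassoc_of% hnat, reassoc_of% hs₀']
    simp
  have hxk2 : (pbCone D c j u).π.app k ≫ xk = pullback.snd u (c.π.app j) ≫ x := by
    change (pbCone D c j u).π.app k ≫ eK.inv.app k ≫ x₂ = _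
    rw [← cancel_epi e.hom, reassoc_of% (hcompat k), ← hx₂2]
    simp
  clear_value xk
  -- step 5: the overlaps
  have hUalg : AlgSp.IsAlgSpace ((AlgSp.yon S).obj U) := AlgSp.IsAlgSpace.yon_obj U
  have hUqcqs := Groth.Agent.R2.H44.LimDesc.qcqs_yon_of_isAffine U hU
  have hRalg : AlgSp.IsAlgSpace (pullback u u) :=
    Groth.Agent.S9874.result S (D.obj j) (hD j).diag ⟨_, hUalg⟩ ⟨_, hUalg⟩ u u _ (pullback.fst _ _)
      (pullback.snd _ _) (IsPullback.of_hasPullback _ _)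
  have hRqcqs : AlgSp.IsQuasiCompactSp (pullback u u) ∧ AlgSp.IsQuasiSeparatedSp (pullback u u) :=
    Groth.Agent.S9921.result (X := ⟨_, hUalg⟩) (Y := ⟨_, hD j⟩) (Z := ⟨_, hUalg⟩) (P := ⟨_, hRalg⟩)
      (ObjectProperty.homMk u) (ObjectProperty.homMk u) (ObjectProperty.homMk (pullback.fst u u))
      (ObjectProperty.homMk (pullback.snd u u)) (IsPullback.of_hasPullback u u) hUqcqs ⟨hqc j, hqs j⟩ hUqcqs
  let ω : pullback u u ⟶ D.obj j := pullback.fst u u ≫ u
  have hω : pullback.snd u u ≫ u = ω := pullback.condition.symm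
  have hOalg : ∀ l : Over j, AlgSp.IsAlgSpace ((pbFunctor D j ω).obj l) := fun l =>
    Groth.Agent.S9874.result S (D.obj j) (hD j).diag ⟨_, hRalg⟩ ⟨_, hD l.left⟩ ω (D.map l.hom) _
      (pullback.fst _ _) (pullback.snd _ _) (IsPullback.of_hasPullback _ _)
  have hOqc : ∀ l : Over j, AlgSp.IsQuasiCompactSp ((pbFunctor D j ω).obj l) := fun l =>
    (Groth.Agent.S9921.result (X := ⟨_, hRalg⟩) (Y := ⟨_, hD j⟩) (Z := ⟨_, hD l.left⟩) (P := ⟨_, hOalg l⟩)
      (ObjectProperty.homMk ω) (ObjectProperty.homMk (D.map l.hom))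
      (ObjectProperty.homMk (pullback.fst ω (D.map l.hom)))
      (ObjectProperty.homMk (pullback.snd ω (D.map l.hom))) (IsPullback.of_hasPullback _ _) hRqcqs
      ⟨hqc j, hqs j⟩ ⟨hqc _, hqs _⟩).1
  have hOaff : ∀ {l l' : Over j} (ψ : l' ⟶ l), AlgSp.IsAffineMor ((pbFunctor D j ω).map ψ) := fun ψ =>
    Groth.Agent.S9944.isAffineMor_of_isPullback (isPullback_pbFunctor_map D j ω ψ).flip (hDa _ _ _)
  let pr₁ : ∀ l : Over j, (pbFunctor D j ω).obj l ⟶ (pbFunctor D j u).obj l := fun l =>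
    pullback.map ω (D.map l.hom) u (D.map l.hom) (pullback.fst u u) (𝟙 _) (𝟙 _) (by simp [ω]) (by simp)
  let pr₂ : ∀ l : Over j, (pbFunctor D j ω).obj l ⟶ (pbFunctor D j u).obj l := fun l =>
    pullback.map ω (D.map l.hom) u (D.map l.hom) (pullback.snd u u) (𝟙 _) (𝟙 _) (by simp [hω]) (by simp)
  let prc₁ : (pbCone D c j ω).pt ⟶ (pbCone D c j u).pt :=
    pullback.map ω (c.π.app j) u (c.π.app j) (pullback.fst u u) (𝟙 _) (𝟙 _) (by simp [ω]) (by simp)
  let prc₂ : (pbCone D c j ω).pt ⟶ (pbCone D c j u).pt :=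
    pullback.map ω (c.π.app j) u (c.π.app j) (pullback.snd u u) (𝟙 _) (𝟙 _) (by simp [hω]) (by simp)
  have hpr₁snd : ∀ l : Over j, pr₁ l ≫ pullback.snd u (D.map l.hom) = pullback.snd ω (D.map l.hom) := by
    intro l; simp [pr₁, pullback.map]
  have hpr₂snd : ∀ l : Over j, pr₂ l ≫ pullback.snd u (D.map l.hom) = pullback.snd ω (D.map l.hom) := by
    intro l; simp [pr₂, pullback.map]
  have hprc₁snd : prc₁ ≫ pullback.snd u (c.π.app j) = pullback.snd ω (c.π.app j) := by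
    simp [prc₁, pullback.map]
  have hprc₂snd : prc₂ ≫ pullback.snd u (c.π.app j) = pullback.snd ω (c.π.app j) := by
    simp [prc₂, pullback.map]
  have hnat₁ : ∀ l : Over j, (pbCone D c j ω).π.app l ≫ pr₁ l = prc₁ ≫ (pbCone D c j u).π.app l := by
    intro l
    apply pullback.hom_ext <;> simp [pr₁, prc₁, pbCone, pullback.map]
  have hnat₂ : ∀ l : Over j, (pbCone D c j ω).π.app l ≫ pr₂ l = prc₂ ≫ (pbCone D c j u).π.app l := by
    intro l
    apply pullback.hom_ext <;> simp [pr₂, prc₂, pbCone, pullback.map]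
  have hmap₁ : ∀ {l l' : Over j} (ψ : l' ⟶ l), pr₁ l' ≫ (pbFunctor D j u).map ψ =
      (pbFunctor D j ω).map ψ ≫ pr₁ l := by
    intro l l' ψ
    apply pullback.hom_ext <;> simp [pr₁, pbFunctor, pullback.map]
  have hmap₂ : ∀ {l l' : Over j} (ψ : l' ⟶ l), pr₂ l' ≫ (pbFunctor D j u).map ψ =
      (pbFunctor D j ω).map ψ ≫ pr₂ l := by
    intro l l' ψ
    apply pullback.hom_ext <;> simp [pr₂, pbFunctor, pullback.map]
  have hαβ1 : (pr₁ k ≫ xk) ≫ f.hom = (pr₂ k ≫ xk) ≫ f.hom := by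
    rw [Category.assoc, Category.assoc, hxk1, reassoc_of% (hpr₁snd k), reassoc_of% (hpr₂snd k)]
  have hαβ2 : (pbCone D c j ω).π.app k ≫ pr₁ k ≫ xk = (pbCone D c j ω).π.app k ≫ pr₂ k ≫ xk := by
    rw [reassoc_of% (hnat₁ k), reassoc_of% (hnat₂ k), hxk2, reassoc_of% hprc₁snd, reassoc_of% hprc₂snd]
  obtain ⟨m, ψ, hαβ3⟩ := uniqueM_sp f hf' (pbFunctor D j ω) (pbCone D c j ω) (isLimitPbCone D c hc j ω) k
    (hOalg k) (hOqc k) (fun l => hOaff l.hom) (pr₁ k ≫ xk) (pr₂ k ≫ xk) hαβ1 hαβ2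
  let xm : (pbFunctor D j u).obj m ⟶ X.obj := (pbFunctor D j u).map ψ ≫ xk
  have hkey : pr₁ m ≫ xm = pr₂ m ≫ xm := by
    change pr₁ m ≫ (pbFunctor D j u).map ψ ≫ xk = pr₂ m ≫ (pbFunctor D j u).map ψ ≫ xk
    rw [reassoc_of% (hmap₁ ψ), reassoc_of% (hmap₂ ψ), hαβ3]
  have hxm1 : xm ≫ f.hom = pullback.snd u (D.map m.hom) ≫ D.map ψ.left ≫ D.map φ.left ≫ y := by
    change ((pbFunctor D j u).map ψ ≫ xk) ≫ f.hom = _
    rw [Category.assoc, hxk1, reassoc_of% (hsndE ψ)]
  have hxm2 : (pbCone D c j u).π.app m ≫ xm = pullback.snd u (c.π.app j) ≫ x := by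
    change (pbCone D c j u).π.app m ≫ (pbFunctor D j u).map ψ ≫ xk = _
    rw [← Category.assoc, (pbCone D c j u).w ψ, hxk2]
  clear_value xm
  -- step 6: glue along the covering `q`
  let q : (pbFunctor D j u).obj m ⟶ D.obj m.left := pullback.snd u (D.map m.hom)
  have hqepi : Epi q := epi_of_isPullback (IsPullback.of_hasPullback u (D.map m.hom)) hue hus
  have hqq : pullback.fst q q ≫ q = pullback.snd q q ≫ q := pullback.condition
  have hE : pullback.fst u (D.map m.hom) ≫ u = q ≫ D.map m.hom := pullback.condition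
  let κ₀ : pullback q q ⟶ pullback u u :=
    pullback.lift (pullback.fst q q ≫ pullback.fst u (D.map m.hom))
      (pullback.snd q q ≫ pullback.fst u (D.map m.hom)) (by
        rw [Category.assoc, Category.assoc, hE, reassoc_of% hqq])
  let κ : pullback q q ⟶ (pbFunctor D j ω).obj m := pullback.lift κ₀ (pullback.fst q q ≫ q) (by
    change κ₀ ≫ pullback.fst u u ≫ u = _
    rw [← Category.assoc, pullback.lift_fst, Category.assoc, Category.assoc, hE])
  have hκ₁ : κ ≫ pr₁ m = pullback.fst q q := by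
    apply pullback.hom_ext
    · simp [κ, κ₀, pr₁, pullback.map]
    · simp [κ, pr₁, pullback.map, q]
  have hκ₂ : κ ≫ pr₂ m = pullback.snd q q := by
    apply pullback.hom_ext
    · simp [κ, κ₀, pr₂, pullback.map]
    · simp [κ, pr₂, pullback.map, q, hqq]
  have hglue : pullback.fst q q ≫ xm = pullback.snd q q ≫ xm := by
    rw [← hκ₁, ← hκ₂, Category.assoc, Category.assoc, hkey]
  obtain ⟨x', hx'⟩ := exists_desc_of_epi q xm hglue
  refine ⟨m.left, ψ.left ≫ φ.left, x', ?_, ?_⟩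
  · rw [← cancel_epi q, reassoc_of% hx', hxm1, D.map_comp, Category.assoc]
  · have : Epi (pullback.snd u (c.π.app j)) :=
      epi_of_isPullback (IsPullback.of_hasPullback u (c.π.app j)) hue hus
    rw [← cancel_epi (pullback.snd u (c.π.app j)), ← hxm2, ← hx', ← reassoc_of% (hsndc m)]

end Groth.Agent.R2.H44.LfpLimSp
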