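import Mathlib

/-!
# Passing to a smaller index in a base change tower (helper44)

Namespace `Groth.Agent.R2.H44.LimMono`.

* `isPullback_transfer`: for `ψ : Bj ⟶ Bi`, `β : Bi ⟶ B₀`, a tower `Xj ⟶ Yj ⟶ Bj` which is the base change of
  `X₀ ⟶ Y₀ ⟶ B₀` along `ψ ≫ β` is a base change of the chosen tower over `Bi`.
* `exists_common`: three indices over `i₀` in a cofiltered category are dominated by a common one.
-/

set_option autoImplicit false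
set_option backward.isDefEq.respectTransparency false
universe v₁ u₁

open CategoryTheory CategoryTheory.Limits

namespace Groth.Agent.R2.H44.LimMono

variable {C : Type u₁} [Category.{v₁} C] [HasPullbacks C]

/-- the comparison map on the `Y`-level -/
noncomputable def yMap {B₀ Bi Bj Y₀ Yj : C} (b₀ : Y₀ ⟶ B₀) (β : Bi ⟶ B₀) (ψ : Bj ⟶ Bi)
    (pYj : Yj ⟶ Y₀) (qYj : Yj ⟶ Bj) (w : pYj ≫ b₀ = qYj ≫ ψ ≫ β) : Yj ⟶ pullback b₀ β :=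
  pullback.lift pYj (qYj ≫ ψ) (by rw [w, Category.assoc])

theorem isPullback_transfer {B₀ Bi Bj Y₀ X₀ Xj Yj : C} (f₀ : X₀ ⟶ Y₀) (b₀ : Y₀ ⟶ B₀) (β : Bi ⟶ B₀)
    (ψ : Bj ⟶ Bi) (fj : Xj ⟶ Yj) (pYj : Yj ⟶ Y₀) (qYj : Yj ⟶ Bj)
    (hYj : IsPullback pYj qYj b₀ (ψ ≫ β)) (pXj : Xj ⟶ X₀) (hXj : IsPullback pXj fj f₀ pYj) :
    ∃ (g : Yj ⟶ pullback b₀ β) (g' : Xj ⟶ pullback f₀ (pullback.fst b₀ β)),
      IsPullback g' fj (pullback.snd f₀ (pullback.fst b₀ β)) g ∧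
      IsPullback g qYj (pullback.snd b₀ β) ψ := by
  let g : Yj ⟶ pullback b₀ β := yMap b₀ β ψ pYj qYj hYj.w
  have hg1 : g ≫ pullback.fst b₀ β = pYj := pullback.lift_fst _ _ _
  have hg2 : g ≫ pullback.snd b₀ β = qYj ≫ ψ := pullback.lift_snd _ _ _
  let g' : Xj ⟶ pullback f₀ (pullback.fst b₀ β) :=
    pullback.lift pXj (fj ≫ g) (by rw [hXj.w, Category.assoc, hg1])
  have hg'1 : g' ≫ pullback.fst f₀ (pullback.fst b₀ β) = pXj := pullback.lift_fst _ _ _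
  have hg'2 : g' ≫ pullback.snd f₀ (pullback.fst b₀ β) = fj ≫ g := pullback.lift_snd _ _ _
  refine ⟨g, g', ?_, ?_⟩
  · refine IsPullback.of_right ?_ hg'2 (IsPullback.of_hasPullback f₀ (pullback.fst b₀ β))
    rw [hg'1, hg1]
    exact hXj
  · refine IsPullback.of_right ?_ hg2 (IsPullback.of_hasPullback b₀ β)
    rw [hg1]
    exact hYj

/-- three indices over `i₀` in a cofiltered category are dominated by a common one. -/
theorem exists_common {I : Type*} [Category I] [IsCofiltered I] {i₀ i₁ i₂ i₃ : I} (φ₁ : i₁ ⟶ i₀)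
    (φ₂ : i₂ ⟶ i₀) (φ₃ : i₃ ⟶ i₀) :
    ∃ (j : I) (ψ₁ : j ⟶ i₁) (ψ₂ : j ⟶ i₂) (ψ₃ : j ⟶ i₃), ψ₁ ≫ φ₁ = ψ₂ ≫ φ₂ ∧ ψ₁ ≫ φ₁ = ψ₃ ≫ φ₃ := by
  obtain ⟨k, a, b, hab⟩ := IsCofiltered.cospan φ₁ φ₂
  obtain ⟨j, d, e, hde⟩ := IsCofiltered.cospan (a ≫ φ₁) φ₃
  exact ⟨j, d ≫ a, d ≫ b, e, by simp [hab], by simpa using hde⟩

end Groth.Agent.R2.H44.LimMono
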