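import Mathlib
import Groth.Agent.R2.H44LimDesc
import Groth.Agent.R2.H44FppfLocal
import Groth.Agent.S9884
import Groth.Agent.S9189
import Groth.Agent.S4805

/-!
# Descending properties of representable morphisms of algebraic spaces through limits (helper44)

Namespace `Groth.Agent.R2.H44.LimDesc`.

* `descend_rep`: for a representable `f₀ : X₀ ⟶ Y₀` (qcqs algebraic spaces over `B_{i₀}`), if the base change `f` to the
  limit is representable with `P`, so are the base changes to `B_i` for `i` large; `P` is a property of morphisms of schemes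
  stable under base change, fppf local on the target, which descends through limits of affine schemes
  (`DescendsFor qcqs R P`).
* `qcqsDescends_isClosedImmersion`, `qcqsDescends_isomorphisms`: scheme-level inputs.
-/

set_option autoImplicit false
set_option backward.isDefEq.respectTransparency false
universe u

open CategoryTheory CategoryTheory.Limits AlgebraicGeometry

namespace Groth.Agent.R2.H44.LimDesc

open Groth.Agent.R2.H44.LimSp Groth.Agent.R2.H44.LimIso AlgSp

variable {S : Scheme.{u}}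

/-- A scheme over a quasi-separated base whose sheaf is quasi-compact and quasi-separated is qcqs. -/
theorem qcqs_of_yon [QuasiSeparatedSpace S] (W : Over S)
    (h1 : AlgSp.IsQuasiCompactSp ((AlgSp.yon S).obj W))
    (h2 : AlgSp.IsQuasiSeparatedSp ((AlgSp.yon S).obj W)) :
    CompactSpace W.left ∧ QuasiSeparatedSpace W.left := by
  constructor
  · obtain ⟨U, p, hU, -, hps⟩ :=
      (Groth.Agent.S10180.result ⟨(AlgSp.yon S).obj W, AlgSp.IsAlgSpace.yon_obj W⟩).1 h1
    obtain ⟨g, rfl⟩ := (AlgSp.yon S).map_surjective p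
    have : Surjective g.left := (AlgSp.repWith_yon_map_iff @Surjective g).1 hps
    have := hU
    exact Groth.Agent.Lib.Helper12.compactSpace_of_surjective g.left
  · have h3 : QuasiCompact (pullback.diagonal W.hom) := (AlgSp.repWith_diag_yon_iff @QuasiCompact W).1 h2
    have : QuasiSeparated W.hom := (quasiSeparated_iff _).2 h3
    exact quasiSeparatedSpace_of_quasiSeparated W.hom

/-- An isomorphism of fppf sheaves is representable with any property containing isomorphisms. -/
theorem repWith_of_isIso (P : MorphismProperty Scheme.{u}) [P.IsStableUnderBaseChange] [P.ContainsIdentities]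
    {U : Over S} {F : AlgSp.Sp S} (r : (AlgSp.yon S).obj U ⟶ F) [IsIso r] : AlgSp.RepWith P r := by
  have h : AlgSp.RepWith P (𝟙 ((AlgSp.yon S).obj U) ≫ r) :=
    ((AlgSp.RepWith P).cancel_right_of_respectsIso _ r).2 (AlgSp.repWith_id P U)
  simpa using h

/-- Descent through a limit for representable morphisms. -/
theorem descend_rep (R P : MorphismProperty Scheme.{u}) [P.IsStableUnderBaseChange]
    [P.IsLocalAtTarget Scheme.fppfPrecoverage]
    (hP : DescendsFor (fun X => CompactSpace X ∧ QuasiSeparatedSpace X) R P)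
    [QuasiSeparatedSpace S] {I : Type u} [SmallCategory I] [IsCofiltered I]
    (D : I ⥤ AlgSp.Sp S)
    (hDa : ∀ (i j : I) (φ : i ⟶ j), AlgSp.IsAffineMor (D.map φ))
    (c : Cone D) (hc : IsLimit c) (i₀ : I)
    (X₀ Y₀ : AlgSp.Space S) (f₀ : X₀.obj ⟶ Y₀.obj) (b₀ : Y₀.obj ⟶ D.obj i₀)
    (hXqc : AlgSp.IsQuasiCompactSp X₀.obj) (hXqs : AlgSp.IsQuasiSeparatedSp X₀.obj)
    (hYqc : AlgSp.IsQuasiCompactSp Y₀.obj) (hYqs : AlgSp.IsQuasiSeparatedSp Y₀.obj)
    (X Y : AlgSp.Sp S) (f : X ⟶ Y) (pY : Y ⟶ Y₀.obj) (qY : Y ⟶ c.pt)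
    (hY : IsPullback pY qY b₀ (c.π.app i₀)) (pX : X ⟶ X₀.obj) (hX : IsPullback pX f f₀ pY)
    (hf₀rep : AlgSp.Representable f₀) (hf₀R : AlgSp.LocP R f₀) (hf : AlgSp.RepWith P f) :
    ∃ (i : I) (φ : i ⟶ i₀), ∀ (Xi Yi : AlgSp.Sp S) (fi : Xi ⟶ Yi) (pYi : Yi ⟶ Y₀.obj)
      (qYi : Yi ⟶ D.obj i) (_ : IsPullback pYi qYi b₀ (D.map φ)) (pXi : Xi ⟶ X₀.obj)
      (_ : IsPullback pXi fi f₀ pYi), AlgSp.RepWith P fi := by
  classical
  obtain ⟨V₀, q₀, hV₀, hq₀e, hq₀s⟩ := (Groth.Agent.S10180.result Y₀).1 hYqc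
  obtain ⟨W₀, snd₀, fst₀, sq₀⟩ := hf₀rep q₀
  -- `W₀` is qcqs
  have hW₀ := Groth.Agent.S9921.result (X := X₀) (Y := Y₀)
      (Z := ⟨(AlgSp.yon S).obj V₀, AlgSp.IsAlgSpace.yon_obj V₀⟩)
      (P := ⟨(AlgSp.yon S).obj W₀, AlgSp.IsAlgSpace.yon_obj W₀⟩)
      (ObjectProperty.homMk f₀) (ObjectProperty.homMk q₀) (ObjectProperty.homMk fst₀)
      (ObjectProperty.homMk ((AlgSp.yon S).map snd₀)) sq₀ ⟨hXqc, hXqs⟩ ⟨hYqc, hYqs⟩
      (qcqs_yon_of_isAffine V₀ hV₀)
  have hW₀' := qcqs_of_yon W₀ hW₀.1 hW₀.2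
  let r₀ : (AlgSp.yon S).obj W₀ ⟶ pullback f₀ q₀ := sq₀.isoPullback.hom
  have hr₀snd : r₀ ≫ pullback.snd f₀ q₀ = (AlgSp.yon S).map snd₀ := sq₀.isoPullback_hom_snd
  have hr₀fst : r₀ ≫ pullback.fst f₀ q₀ = fst₀ := sq₀.isoPullback_hom_fst
  have hpre : (AlgSp.yon S).preimage (r₀ ≫ pullback.snd f₀ q₀) = snd₀ := by
    apply (AlgSp.yon S).map_injective
    rw [Functor.map_preimage, hr₀snd]
  have hR : R ((AlgSp.yon S).preimage (r₀ ≫ pullback.snd f₀ q₀)).left := by
    rw [hpre]
    exact hf₀R fst₀ q₀ snd₀ (MorphismProperty.of_isPullback sq₀.flip hq₀e) hq₀e sq₀.w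
  have : P.RespectsIso := MorphismProperty.IsStableUnderBaseChange.respectsIso
  obtain ⟨i, φ, hi⟩ := descend_chart_gen (fun X => CompactSpace X ∧ QuasiSeparatedSpace X) R P hP D hDa c hc
    i₀ f₀ b₀ hV₀ q₀ hq₀e hq₀s r₀ (repWith_of_isIso _ r₀) (repWith_of_isIso _ r₀) hW₀' hR X Y f pY qY hY
    pX hX (by
      intro U V b r h hbe hbs hre hrs hiso hr
      have : IsIso r := hiso inferInstance
      have h1 : AlgSp.RepWith P (pullback.snd f b) := MorphismProperty.pullback_snd _ _ hf
      have h2 : AlgSp.RepWith P ((AlgSp.yon S).map h) := by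
        rw [← hr]
        exact ((AlgSp.RepWith P).cancel_left_of_respectsIso r _).2 h1
      exact (AlgSp.repWith_yon_map_iff P h).1 h2)
  refine ⟨i, φ, fun Xi Yi fi pYi qYi hYi pXi hXi => ?_⟩
  obtain ⟨U, V, b, r, h, hbe, hbs, hre, hrs, hiso, hr, hPh⟩ := hi Xi Yi fi pYi qYi hYi pXi hXi
  have : IsIso r := hiso inferInstance
  have h1 : AlgSp.RepWith P ((AlgSp.yon S).map h) := (AlgSp.repWith_yon_map_iff P h).2 hPh
  have h2 : AlgSp.RepWith P (pullback.snd fi b) := by
    rw [← hr] at h1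
    exact ((AlgSp.RepWith P).cancel_left_of_respectsIso r _).1 h1
  have hls : Sheaf.IsLocallySurjective b := isLocallySurjective_of_etale_surjective b hbe hbs
  have hrep : AlgSp.Representable fi := MorphismProperty.of_isPullback hXi hf₀rep
  exact Groth.Agent.S9884.result S Xi Yi _ fi hrep b _ (pullback.fst fi b) (pullback.snd fi b)
    (IsPullback.of_hasPullback fi b) P h2

/-- Closed immersions descend through limits of affine schemes (qcqs source, `f₀` locally of finite type). -/
theorem qcqsDescends_isClosedImmersion :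
    DescendsFor (fun X => CompactSpace X ∧ QuasiSeparatedSpace X) @LocallyOfFiniteType
      (@IsClosedImmersion : MorphismProperty Scheme.{u}) := by
  intro J _ _ K hK c hc j₁ X₀ Y₀ hX₀ hY₀ f₀ g₀ hg₀ hf₀ X Y f g qY qX hY hX hf
  have := hK
  have := hX₀.1
  have := hX₀.2
  have := hY₀
  have : LocallyOfFiniteType f₀ := hf₀
  have : IsClosedImmersion f := hf
  exact Groth.Agent.S9189.result K c hc j₁ f₀ g₀ f g qY qX hY hX

/-- Isomorphisms descend through limits of affine schemes (qcqs source, `f₀` locally of finite presentation). -/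
theorem qcqsDescends_isomorphisms :
    DescendsFor (fun X => CompactSpace X ∧ QuasiSeparatedSpace X) @LocallyOfFinitePresentation
      (MorphismProperty.isomorphisms Scheme.{u}) := by
  intro J _ _ K hK c hc j₁ X₀ Y₀ hX₀ hY₀ f₀ g₀ hg₀ hf₀ X Y f g qY qX hY hX hf
  have := hK
  have := hX₀.1
  have := hX₀.2
  have := hY₀
  have : LocallyOfFinitePresentation f₀ := hf₀
  have : IsIso f := hf
  have : IsIso g₀ := hg₀
  have : QuasiCompact f₀ := (quasiCompact_iff_compactSpace f₀).2 inferInstance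
  exact Groth.Agent.S4805.result K c hc j₁ f₀ g₀ f g qY qX hY hX

/-- An isomorphism of fppf sheaves is representable by isomorphisms of schemes. -/
theorem repWith_isomorphisms_of_isIso {F G : AlgSp.Sp S} (g : F ⟶ G) [IsIso g] :
    AlgSp.RepWith (MorphismProperty.isomorphisms Scheme.{u}) g := by
  refine ⟨?_, ?_⟩
  · intro T t
    refine ⟨T, 𝟙 T, t ≫ inv g, ?_⟩
    rw [(AlgSp.yon S).map_id]
    exact IsPullback.of_vert_isIso ⟨by simp⟩
  · intro U V t fst snd sq
    have h1 : IsIso ((AlgSp.yon S).map snd) := sq.isIso_snd_of_isIso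
    have h2 : IsIso snd := isIso_of_fully_faithful (AlgSp.yon S) snd
    exact (inferInstance : IsIso ((Over.forget S).map snd))

/-- A morphism to an algebraic space which is representable by isomorphisms is an isomorphism. -/
theorem isIso_of_repWith_isomorphisms {F G : AlgSp.Sp S} (hG : AlgSp.IsAlgSpace G) (g : F ⟶ G)
    (hg : AlgSp.RepWith (MorphismProperty.isomorphisms Scheme.{u}) g) : IsIso g := by
  obtain ⟨T, p, hpe, hps⟩ := hG.atlas
  obtain ⟨W, snd, fst, sq⟩ := hg.rep p
  have h1 : IsIso snd.left := hg.property p fst snd sq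
  have h2 : IsIso snd := by
    have : IsIso ((Over.forget S).map snd) := h1
    exact isIso_of_reflects_iso snd (Over.forget S)
  have h3 : IsIso ((AlgSp.yon S).map snd) := inferInstance
  have hls : Sheaf.IsLocallySurjective p := isLocallySurjective_of_etale_surjective p hpe hps
  -- sq : IsPullback fst (yon.map snd) g p
  exact Groth.Agent.R2.H44.Descent.isIso_of_isPullback sq.flip

end Groth.Agent.R2.H44.LimDesc
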