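import Mathlib
import Groth.Agent.R2.H44LfpLimSp
import Groth.Agent.R2.H44FpModel
import Groth.Agent.R2.H59AffDesc
import Groth.Agent.S10021
import Groth.Agent.S10265
import Groth.Agent.S10210
import Groth.Agent.S9947

/-!
# A limit of quasi-compact quasi-separated algebraic spaces which is affine (helper44)

Namespace `Groth.Agent.R2.H44.LimAffine`.

* `exists_affine_of_limit`: if `X = lim X_i` (qcqs algebraic spaces over a quasi-separated `S`, affine transition maps)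
  is representable by an affine scheme, then so is some `X_i`.
-/

set_option autoImplicit false
set_option backward.isDefEq.respectTransparency false
universe u

open CategoryTheory CategoryTheory.Limits AlgebraicGeometry

namespace Groth.Agent.R2.H44.LimAffine

section Cat

universe v₁ u₁

variable {C : Type u₁} [Category.{v₁} C] [HasPullbacks C]

theorem isPullback_map_fst {B B' T' U' : C} (a : B ⟶ T') (w' : U' ⟶ T') (π : B' ⟶ B) :
    IsPullback (pullback.map (π ≫ a) w' a w' π (𝟙 _) (𝟙 _) (by simp) (by simp)) (pullback.fst (π ≫ a) w')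
      (pullback.fst a w') π := by
  refine IsPullback.of_right ?_ (by simp [pullback.map]) (IsPullback.of_hasPullback a w').flip
  have : pullback.map (π ≫ a) w' a w' π (𝟙 _) (𝟙 _) (by simp) (by simp) ≫ pullback.snd a w' =
      pullback.snd (π ≫ a) w' := by simp [pullback.map]
  rw [this]
  exact (IsPullback.of_hasPullback (π ≫ a) w').flip

theorem isPullback_lift_lift {B B' T' U' F F' : C} (a : B ⟶ T') (w' : U' ⟶ T') (π : B' ⟶ B) (sk : F ⟶ B)
    (hk : F ⟶ U') (hcond : sk ≫ a = hk ≫ w') (pX : F' ⟶ F) (s' : F' ⟶ B') (sq : IsPullback pX s' sk π) :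
    IsPullback pX
      (pullback.lift s' (pX ≫ hk) (by
        rw [← Category.assoc, ← sq.w, Category.assoc, hcond, Category.assoc]))
      (pullback.lift sk hk hcond)
      (pullback.map (π ≫ a) w' a w' π (𝟙 _) (𝟙 _) (by simp) (by simp)) := by
  refine (IsPullback.of_right ?_ ?_ (isPullback_map_fst a w' π).flip).flip
  · rw [pullback.lift_fst, pullback.lift_fst]
    exact sq.flip
  · apply pullback.hom_ext <;> simp [pullback.map, sq.w]

end Cat

variable {S : Scheme.{u}}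

/-- a representable etale map is etale in the sense of `AlgSp.IsEtaleMor` -/
theorem isEtaleMor_of_repWith {F G : AlgSp.Sp S} (f : F ⟶ G) (hf : AlgSp.RepWith @Etale f) :
    AlgSp.IsEtaleMor f :=
  fun _ _ hφ => MorphismProperty.comp_mem _ _ _ hφ hf

theorem locP_lfp_yon_map {U V : Over S} (h : U ⟶ V) (hh : LocallyOfFinitePresentation h.left) :
    AlgSp.LocP @LocallyOfFinitePresentation ((AlgSp.yon S).map h) := by
  let X : AlgSp.Space S := ⟨(AlgSp.yon S).obj U, AlgSp.IsAlgSpace.yon_obj U⟩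
  let Y : AlgSp.Space S := ⟨(AlgSp.yon S).obj V, AlgSp.IsAlgSpace.yon_obj V⟩
  let f : X ⟶ Y := ObjectProperty.homMk ((AlgSp.yon S).map h)
  exact Groth.Agent.S9947.result @LocallyOfFinitePresentation (Or.inr (Or.inl rfl)) f (𝟙 _) (𝟙 _) h
    (AlgSp.repWith_id _ U) (AlgSp.repWith_id _ U) (AlgSp.repWith_id _ V)
    (by rw [Category.id_comp, Category.comp_id]; rfl) hh

/-- a map from (a sheaf isomorphic to) an affine scheme to an affine scheme is affine -/
theorem isAffineMor_of_affRep {P : AlgSp.Sp S} {W V : Over S} (hW : IsAffine W.left) (hV : IsAffine V.left)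
    (ε : (AlgSp.yon S).obj W ≅ P) (a : P ⟶ (AlgSp.yon S).obj V) : AlgSp.IsAffineMor a := by
  obtain ⟨h, hh⟩ := (AlgSp.yon S).map_surjective (ε.hom ≫ a)
  have haff : IsAffineHom h.left := by
    have := hW
    have := hV
    infer_instance
  have hrep : AlgSp.RepWith @IsAffineHom ((AlgSp.yon S).map h) := (AlgSp.repWith_yon_map_iff _ _).2 haff
  intro Z hZ g
  obtain ⟨W', iW, fst, sq⟩ := hrep.1 g
  have hi : IsAffineHom iW.left := hrep.2 g fst iW sq
  have := hZ
  refine ⟨W', iW, fst ≫ ε.hom, ?_, isAffine_of_isAffineHom iW.left⟩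
  exact sq.of_iso (Iso.refl _) ε (Iso.refl _) (Iso.refl _) (by simp) (by simp) (by simp [hh]) (by simp)

open Groth.Agent.R2.H44.LimSp Groth.Agent.R2.H44.LfpLim Groth.Agent.R2.H44.LimIso Groth.Agent.R2.H44.LfpLimSp
  Groth.Agent.R2.H44.FpModel in
theorem exists_affine_of_limit [QuasiSeparatedSpace S] {I : Type u} [SmallCategory I] [IsCofiltered I]
    (D : I ⥤ AlgSp.Sp S) (hD : ∀ i, AlgSp.IsAlgSpace (D.obj i))
    (hDa : ∀ (i j : I) (φ : i ⟶ j), AlgSp.IsAffineMor (D.map φ))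
    (hqc : ∀ i, AlgSp.IsQuasiCompactSp (D.obj i)) (hqs : ∀ i, AlgSp.IsQuasiSeparatedSp (D.obj i))
    (c : Cone D) (hc : IsLimit c)
    (T : Over S) (hT : IsAffine T.left) (e : (AlgSp.yon S).obj T ≅ c.pt) :
    ∃ (i : I) (T' : Over S), IsAffine T'.left ∧ Nonempty ((AlgSp.yon S).obj T' ≅ D.obj i) := by
  classical
  obtain ⟨i₀⟩ : Nonempty I := IsCofiltered.nonempty
  -- step 0: an affine chart of `D_{i₀}` and the induced affine charts of the `D_l`
  obtain ⟨U₀, u, hU₀, hue, hus⟩ := (Groth.Agent.S10180.result ⟨D.obj i₀, hD i₀⟩).1 (hqc i₀)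
  have haff : ∀ l : Over i₀, IsAffRep ((pbFunctor D i₀ u).obj l) := by
    intro l
    obtain ⟨W, iW, fst, sq, hW⟩ := hDa _ _ l.hom hU₀ u
    exact ⟨W, hW, ⟨sq.flip.isoPullback⟩⟩
  obtain ⟨K, eK, cK, e₁, -, ⟨hcK'⟩, hK, hcKaff, hcompat⟩ :=
    exists_affine_model (pbFunctor D i₀ u) haff (pbCone D c i₀ u) (isLimitPbCone D c hc i₀ u)
  have hsndc : ∀ l : Over i₀, (pbCone D c i₀ u).π.app l ≫ pullback.snd u (D.map l.hom) =
      pullback.snd u (c.π.app i₀) ≫ c.π.app l.left := by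
    intro l
    simp [pbCone, pullback.map]
  -- the covering `w : U ⟶ T`
  obtain ⟨w, hw⟩ := (AlgSp.yon S).map_surjective (e₁.hom ≫ pullback.snd u (c.π.app i₀) ≫ e.inv)
  have hwe : Etale w.left := by
    rw [← AlgSp.repWith_yon_map_iff @Etale w, hw]
    have h0 : AlgSp.RepWith @Etale (pullback.snd u (c.π.app i₀)) :=
      MorphismProperty.of_isPullback (IsPullback.of_hasPullback _ _) hue
    exact ((AlgSp.RepWith @Etale).cancel_left_of_respectsIso e₁.hom _).2
      (((AlgSp.RepWith @Etale).cancel_right_of_respectsIso _ e.inv).2 h0)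
  have hws : Surjective w.left := by
    rw [← AlgSp.repWith_yon_map_iff @Surjective w, hw]
    have h0 : AlgSp.RepWith @Surjective (pullback.snd u (c.π.app i₀)) :=
      MorphismProperty.of_isPullback (IsPullback.of_hasPullback _ _) hus
    exact ((AlgSp.RepWith @Surjective).cancel_left_of_respectsIso e₁.hom _).2
      (((AlgSp.RepWith @Surjective).cancel_right_of_respectsIso _ e.inv).2 h0)
  -- step 1: a finitely presented model of the covering
  obtain ⟨T', U', w', t, g, hT', hU', hT'lfp, hw'e, hw's, sqU⟩ := exists_fp_model hT hcKaff w hwe hws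
  have sqUy : IsPullback ((AlgSp.yon S).map g) ((AlgSp.yon S).map w) ((AlgSp.yon S).map w')
      ((AlgSp.yon S).map t) := sqU.map (AlgSp.yon S)
  have hT'alg : AlgSp.IsAlgSpace ((AlgSp.yon S).obj T') := AlgSp.IsAlgSpace.yon_obj T'
  have hU'alg : AlgSp.IsAlgSpace ((AlgSp.yon S).obj U') := AlgSp.IsAlgSpace.yon_obj U'
  have hU₀alg : AlgSp.IsAlgSpace ((AlgSp.yon S).obj U₀) := AlgSp.IsAlgSpace.yon_obj U₀
  have hT'qcqs := Groth.Agent.R2.H44.LimDesc.qcqs_yon_of_isAffine T' hT'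
  have hU'qcqs := Groth.Agent.R2.H44.LimDesc.qcqs_yon_of_isAffine U' hU'
  have hU₀qcqs := Groth.Agent.R2.H44.LimDesc.qcqs_yon_of_isAffine U₀ hU₀
  have hw'ye : AlgSp.RepWith @Etale ((AlgSp.yon S).map w') := (AlgSp.repWith_yon_map_iff _ _).2 hw'e
  have hw'ys : AlgSp.RepWith @Surjective ((AlgSp.yon S).map w') := (AlgSp.repWith_yon_map_iff _ _).2 hw's
  -- step 2: the map `X_{i₁} ⟶ T'`
  have hterm : IsTerminal ((AlgSp.yon S).obj (Over.mk (𝟙 S))) :=
    IsTerminal.isTerminalObj (AlgSp.yon S) _ Over.mkIdTerminal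
  obtain ⟨i₁, φ₁, a₁, -, ha₁⟩ := existsM_sp
    (X := ⟨(AlgSp.yon S).obj T', hT'alg⟩) (Y := ⟨(AlgSp.yon S).obj (Over.mk (𝟙 S)), AlgSp.IsAlgSpace.yon_obj _⟩)
    (ObjectProperty.homMk ((AlgSp.yon S).map (Over.homMk T'.hom : T' ⟶ Over.mk (𝟙 S))))
    (locP_lfp_yon_map _ hT'lfp) D hD hDa hqc hqs c hc i₀ (hterm.from _) (e.inv ≫ (AlgSp.yon S).map t)
    (hterm.hom_ext _ _)
  have ha₁' : c.π.app i₁ ≫ a₁ = e.inv ≫ (AlgSp.yon S).map t := ha₁
  -- step 3: the map `U_k ⟶ U'`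
  let κ₁ : Over i₀ := Over.mk φ₁
  have hw'lfp : LocallyOfFinitePresentation w'.left := by
    have := hw'e
    infer_instance
  have hxy : (AlgSp.yon S).map g ≫ (AlgSp.yon S).map w' = (AlgSp.yon S).map (cK.π.app κ₁) ≫
      eK.hom.app κ₁ ≫ pullback.snd u (D.map κ₁.hom) ≫ a₁ := by
    rw [sqUy.w, hw, ← reassoc_of% (hcompat κ₁), reassoc_of% (hsndc κ₁)]
    simp only [Category.assoc]
    rw [← ha₁']
    rfl
  obtain ⟨k, ψ, gk, hgk1, hgk2⟩ := existsM
    (X := ⟨(AlgSp.yon S).obj U', hU'alg⟩) (Y := ⟨(AlgSp.yon S).obj T', hT'alg⟩)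
    (ObjectProperty.homMk ((AlgSp.yon S).map w')) (locP_lfp_yon_map w' hw'lfp) K cK hcK' hK κ₁
    (eK.hom.app κ₁ ≫ pullback.snd u (D.map κ₁.hom) ≫ a₁) ((AlgSp.yon S).map g) hxy
  have hgk1' : gk ≫ (AlgSp.yon S).map w' = (AlgSp.yon S).map (K.map ψ) ≫
      eK.hom.app κ₁ ≫ pullback.snd u (D.map κ₁.hom) ≫ a₁ := hgk1
  have hgk2' : (AlgSp.yon S).map (cK.π.app k) ≫ gk = (AlgSp.yon S).map g := hgk2
  let ak : D.obj k.left ⟶ (AlgSp.yon S).obj T' := D.map ψ.left ≫ a₁
  have hak : c.π.app k.left ≫ ak = e.inv ≫ (AlgSp.yon S).map t := by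
    change c.π.app k.left ≫ D.map ψ.left ≫ a₁ = _
    rw [← ha₁', ← Category.assoc]
    congr 1
    exact c.w ψ.left
  let sk : (pbFunctor D i₀ u).obj k ⟶ D.obj k.left := pullback.snd u (D.map k.hom)
  let hk : (pbFunctor D i₀ u).obj k ⟶ (AlgSp.yon S).obj U' := eK.inv.app k ≫ gk
  have hnat : (AlgSp.yon S).map (K.map ψ) ≫ eK.hom.app κ₁ = eK.hom.app k ≫ (pbFunctor D i₀ u).map ψ :=
    eK.hom.naturality ψ
  have hsndψ : (pbFunctor D i₀ u).map ψ ≫ pullback.snd u (D.map κ₁.hom) = sk ≫ D.map ψ.left := by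
    simp [pbFunctor, pullback.map, sk]
  have hcond : sk ≫ ak = hk ≫ (AlgSp.yon S).map w' := by
    change sk ≫ D.map ψ.left ≫ a₁ = (eK.inv.app k ≫ gk) ≫ (AlgSp.yon S).map w'
    rw [Category.assoc, hgk1', reassoc_of% hnat, reassoc_of% hsndψ]
    simp
  have hπk : (pbCone D c i₀ u).π.app k ≫ hk = e₁.inv ≫ (AlgSp.yon S).map g := by
    change (pbCone D c i₀ u).π.app k ≫ eK.inv.app k ≫ gk = _
    rw [← cancel_epi e₁.hom, reassoc_of% (hcompat k), ← hgk2']
    simp
  -- the spaces involved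
  have hFalg : ∀ l : Over i₀, AlgSp.IsAlgSpace ((pbFunctor D i₀ u).obj l) := fun l =>
    Groth.Agent.S9874.result S (D.obj i₀) (hD i₀).diag ⟨_, hU₀alg⟩ ⟨_, hD l.left⟩ u (D.map l.hom) _
      (pullback.fst _ _) (pullback.snd _ _) (IsPullback.of_hasPullback _ _)
  have hFqcqs : AlgSp.IsQuasiCompactSp ((pbFunctor D i₀ u).obj k) ∧
      AlgSp.IsQuasiSeparatedSp ((pbFunctor D i₀ u).obj k) :=
    Groth.Agent.S9921.result (X := ⟨_, hU₀alg⟩) (Y := ⟨_, hD i₀⟩) (Z := ⟨_, hD k.left⟩) (P := ⟨_, hFalg k⟩)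
      (ObjectProperty.homMk u) (ObjectProperty.homMk (D.map k.hom))
      (ObjectProperty.homMk (pullback.fst u (D.map k.hom)))
      (ObjectProperty.homMk (pullback.snd u (D.map k.hom))) (IsPullback.of_hasPullback _ _) hU₀qcqs
      ⟨hqc i₀, hqs i₀⟩ ⟨hqc _, hqs _⟩
  have hPalg : AlgSp.IsAlgSpace (pullback ak ((AlgSp.yon S).map w')) :=
    Groth.Agent.S9874.result S _ hT'alg.diag ⟨_, hD k.left⟩ ⟨_, hU'alg⟩ ak ((AlgSp.yon S).map w') _
      (pullback.fst _ _) (pullback.snd _ _) (IsPullback.of_hasPullback _ _)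
  have hPqcqs : AlgSp.IsQuasiCompactSp (pullback ak ((AlgSp.yon S).map w')) ∧
      AlgSp.IsQuasiSeparatedSp (pullback ak ((AlgSp.yon S).map w')) :=
    Groth.Agent.S9921.result (X := ⟨_, hD k.left⟩) (Y := ⟨_, hT'alg⟩) (Z := ⟨_, hU'alg⟩) (P := ⟨_, hPalg⟩)
      (ObjectProperty.homMk ak) (ObjectProperty.homMk ((AlgSp.yon S).map w'))
      (ObjectProperty.homMk (pullback.fst ak ((AlgSp.yon S).map w')))
      (ObjectProperty.homMk (pullback.snd ak ((AlgSp.yon S).map w'))) (IsPullback.of_hasPullback _ _)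
      ⟨hqc _, hqs _⟩ hT'qcqs hU'qcqs
  let fk : (pbFunctor D i₀ u).obj k ⟶ pullback ak ((AlgSp.yon S).map w') := pullback.lift sk hk hcond
  have hfk : AlgSp.LocP @LocallyOfFinitePresentation fk := by
    have h1 : AlgSp.IsEtaleMor sk := isEtaleMor_of_repWith _
      (MorphismProperty.of_isPullback (IsPullback.of_hasPullback u (D.map k.hom)) hue)
    have h2 : AlgSp.IsEtaleMor (pullback.fst ak ((AlgSp.yon S).map w')) := isEtaleMor_of_repWith _
      (MorphismProperty.of_isPullback (IsPullback.of_hasPullback ak ((AlgSp.yon S).map w')).flip hw'ye)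
    have h3 : AlgSp.IsEtaleMor fk :=
      Groth.Agent.S10210.result (X := ⟨_, hFalg k⟩) (Y := ⟨_, hPalg⟩) (Z := ⟨_, hD k.left⟩)
        (ObjectProperty.homMk fk) (ObjectProperty.homMk (pullback.fst ak ((AlgSp.yon S).map w')))
        (ObjectProperty.homMk sk) (by ext : 1; exact pullback.lift_fst _ _ _) h1 h2
    exact (Groth.Agent.S10265.result (X := ⟨_, hFalg k⟩) (Y := ⟨_, hPalg⟩) (ObjectProperty.homMk fk) h3).2.2.2.1
  -- the base change of `fk` to the limit is an isomorphism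
  have hY := isPullback_map_fst ak ((AlgSp.yon S).map w') (c.π.app k.left)
  obtain ⟨fc, hfc1, hfc2, hX⟩ : ∃ fc : (pbCone D c i₀ u).pt ⟶ pullback (c.π.app k.left ≫ ak) ((AlgSp.yon S).map w'),
      fc ≫ pullback.fst _ _ = pullback.snd u (c.π.app i₀) ∧
      fc ≫ pullback.snd _ _ = (pbCone D c i₀ u).π.app k ≫ hk ∧
      IsPullback ((pbCone D c i₀ u).π.app k) fc fk
        (pullback.map (c.π.app k.left ≫ ak) ((AlgSp.yon S).map w') ak ((AlgSp.yon S).map w') (c.π.app k.left)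
          (𝟙 _) (𝟙 _) (by simp) (by simp)) :=
    ⟨_, pullback.lift_fst _ _ _, pullback.lift_snd _ _ _,
      isPullback_lift_lift ak ((AlgSp.yon S).map w') (c.π.app k.left) sk hk hcond
        ((pbCone D c i₀ u).π.app k) (pullback.snd u (c.π.app i₀)) (isPullback_pbCone_π D c i₀ u k)⟩
  have sqY : IsPullback ((AlgSp.yon S).map w ≫ e.hom) ((AlgSp.yon S).map g) (c.π.app k.left ≫ ak)
      ((AlgSp.yon S).map w') := by
    rw [hak]
    exact sqUy.flip.of_iso (Iso.refl _) e (Iso.refl _) (Iso.refl _) (by simp) (by simp) (by simp) (by simp)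
  have hfc : fc = e₁.inv ≫ sqY.isoPullback.hom := by
    apply pullback.hom_ext
    · rw [hfc1, Category.assoc, sqY.isoPullback_hom_fst, hw]
      simp
    · rw [hfc2, Category.assoc, sqY.isoPullback_hom_snd, hπk]
  have hiso0 : IsIso fc := by
    rw [hfc]
    infer_instance
  obtain ⟨i, φ, hiso⟩ := Groth.Agent.S10021.result S D hD hDa c hc k.left (hqc _) (hqs _)
    ⟨_, hFalg k⟩ ⟨_, hPalg⟩ fk (pullback.fst ak ((AlgSp.yon S).map w')) hFqcqs.1 hFqcqs.2 hPqcqs.1 hPqcqs.2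
    _ _ fc _ _ hY _ hX hfk
  -- step 4: `X_i ⟶ T'` is affine
  let k' : Over i₀ := Over.mk (φ ≫ k.hom)
  let φ' : k' ⟶ k := Over.homMk φ rfl
  have hYi := isPullback_map_fst ak ((AlgSp.yon S).map w') (D.map φ)
  obtain ⟨fi, hXi⟩ : ∃ fi : (pbFunctor D i₀ u).obj k' ⟶ pullback (D.map φ ≫ ak) ((AlgSp.yon S).map w'),
      IsPullback ((pbFunctor D i₀ u).map φ') fi fk
        (pullback.map (D.map φ ≫ ak) ((AlgSp.yon S).map w') ak ((AlgSp.yon S).map w') (D.map φ)
          (𝟙 _) (𝟙 _) (by simp) (by simp)) :=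
    ⟨_, isPullback_lift_lift ak ((AlgSp.yon S).map w') (D.map φ) sk hk hcond
      ((pbFunctor D i₀ u).map φ') (pullback.snd u (D.map k'.hom)) (isPullback_pbFunctor_map D i₀ u φ')⟩
  have hfi : IsIso fi := hiso _ _ fi _ _ hYi _ hXi
  have haff' : AlgSp.IsAffineMor (pullback.snd (D.map φ ≫ ak) ((AlgSp.yon S).map w')) :=
    isAffineMor_of_affRep (hK k') hU' (eK.app k' ≪≫ asIso fi) _
  have hai : AlgSp.IsAffineMor (D.map φ ≫ ak) :=
    Groth.Agent.R2.H59.AffDesc.isAffineMor_of_etale_surjective (D.map φ ≫ ak) ((AlgSp.yon S).map w') hw'ye hw'ys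
      (pullback.fst _ _) (pullback.snd _ _) (IsPullback.of_hasPullback _ _) haff'
  obtain ⟨W, iW, fst, sq, hW⟩ := hai hT' (𝟙 _)
  have : IsIso fst := sq.isIso_fst_of_isIso
  exact ⟨i, W, hW, ⟨asIso fst⟩⟩

end Groth.Agent.R2.H44.LimAffine
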