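import Mathlib

/-!
# Base change of a diagram over a fixed object (helper44)

Namespace `Groth.Agent.R2.H44.PbT`.

For `𝕍 : J ⥤ C`, a natural transformation `τ : 𝕍 ⟶ const Y` and `f : X ⟶ Y`:
* `pbT 𝕍 τ f : J ⥤ C`, `l ↦ X ×_Y 𝕍_l`;
* `pbTCone`, `isLimitPbTCone`: if `c` is a limit cone of `𝕍` (`J` cofiltered) and `t : c.pt ⟶ Y` is the induced map then
  `X ×_Y c.pt` is the limit of `pbT 𝕍 τ f`;
* `isPullback_pbT_map`, `isPullback_pbTCone_π`: the transition maps and projections are base changes of those of `𝕍`.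
-/

set_option autoImplicit false
set_option backward.isDefEq.respectTransparency false

open CategoryTheory CategoryTheory.Limits

namespace Groth.Agent.R2.H44.PbT

universe v₁ u₁ v₂ u₂

variable {C : Type u₁} [Category.{v₁} C] [HasPullbacks C] {J : Type u₂} [Category.{v₂} J]

theorem τ_w (𝕍 : J ⥤ C) {Y : C} (τ : 𝕍 ⟶ (Functor.const J).obj Y) {l l' : J} (φ : l ⟶ l') :
    𝕍.map φ ≫ τ.app l' = τ.app l := by
  have := τ.naturality φ
  simpa using this

/-- the functor `l ↦ X ×_Y 𝕍_l` -/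
noncomputable def pbT (𝕍 : J ⥤ C) {Y X : C} (τ : 𝕍 ⟶ (Functor.const J).obj Y) (f : X ⟶ Y) : J ⥤ C where
  obj l := pullback f (τ.app l)
  map {l l'} φ := pullback.map f (τ.app l) f (τ.app l') (𝟙 _) (𝕍.map φ) (𝟙 _) (by simp)
    (by rw [Category.comp_id, τ_w])
  map_id l := by
    apply pullback.hom_ext <;> simp [pullback.map]
  map_comp φ ψ := by
    apply pullback.hom_ext <;> simp [pullback.map]

/-- the projection `X ×_Y 𝕍_l ⟶ 𝕍_l` as a natural transformation -/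
noncomputable def pbTSnd (𝕍 : J ⥤ C) {Y X : C} (τ : 𝕍 ⟶ (Functor.const J).obj Y) (f : X ⟶ Y) :
    pbT 𝕍 τ f ⟶ 𝕍 where
  app l := pullback.snd f (τ.app l)
  naturality l l' φ := by simp [pbT, pullback.map]

/-- the cone `X ×_Y c.pt ⟶ X ×_Y 𝕍_l` -/
noncomputable def pbTCone (𝕍 : J ⥤ C) {Y X : C} (τ : 𝕍 ⟶ (Functor.const J).obj Y) (f : X ⟶ Y) (c : Cone 𝕍)
    (t : c.pt ⟶ Y) (ht : ∀ l, c.π.app l ≫ τ.app l = t) : Cone (pbT 𝕍 τ f) where
  pt := pullback f t
  π :=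
    { app := fun l => pullback.map f t f (τ.app l) (𝟙 _) (c.π.app l) (𝟙 _) (by simp)
        (by rw [Category.comp_id, ht])
      naturality := by
        intro l l' φ
        apply pullback.hom_ext <;> simp [pbT, pullback.map] }

theorem isPullback_pbT_map (𝕍 : J ⥤ C) {Y X : C} (τ : 𝕍 ⟶ (Functor.const J).obj Y) (f : X ⟶ Y) {l l' : J}
    (φ : l ⟶ l') :
    IsPullback ((pbT 𝕍 τ f).map φ) (pullback.snd f (τ.app l)) (pullback.snd f (τ.app l')) (𝕍.map φ) := by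
  refine IsPullback.of_right ?_ (by simp [pbT, pullback.map]) (IsPullback.of_hasPullback f (τ.app l'))
  rw [τ_w]
  simpa [pbT, pullback.map] using IsPullback.of_hasPullback f (τ.app l)

theorem isPullback_pbTCone_π (𝕍 : J ⥤ C) {Y X : C} (τ : 𝕍 ⟶ (Functor.const J).obj Y) (f : X ⟶ Y) (c : Cone 𝕍)
    (t : c.pt ⟶ Y) (ht : ∀ l, c.π.app l ≫ τ.app l = t) (l : J) :
    IsPullback ((pbTCone 𝕍 τ f c t ht).π.app l) (pullback.snd f t) (pullback.snd f (τ.app l)) (c.π.app l) := by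
  refine IsPullback.of_right ?_ (by simp [pbTCone, pullback.map]) (IsPullback.of_hasPullback f (τ.app l))
  rw [ht]
  simpa [pbTCone, pullback.map] using IsPullback.of_hasPullback f t

attribute [local instance] IsCofiltered.isConnected in
/-- `X ×_Y lim 𝕍 = lim_l X ×_Y 𝕍_l` -/
noncomputable def isLimitPbTCone [IsCofiltered J] (𝕍 : J ⥤ C) {Y X : C} (τ : 𝕍 ⟶ (Functor.const J).obj Y)
    (f : X ⟶ Y) (c : Cone 𝕍) (hc : IsLimit c) (t : c.pt ⟶ Y) (ht : ∀ l, c.π.app l ≫ τ.app l = t) :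
    IsLimit (pbTCone 𝕍 τ f c t ht) := by
  refine isLimitOfIsPullbackOfIsConnected (pbTSnd 𝕍 τ f) (pbTCone 𝕍 τ f c t ht) c
    ⟨pullback.snd _ _, ?_⟩ ?_ hc
  · intro l
    simp [pbTCone, pbTSnd, pullback.map]
  · intro l
    exact isPullback_pbTCone_π 𝕍 τ f c t ht l

end Groth.Agent.R2.H44.PbT
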