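import Mathlib
import Groth.Agent.R2.H44LimAffine
import Groth.Agent.R2.H44PbT

/-!
# Descending affineness of morphisms through limits of algebraic spaces (helper44)

Namespace `Groth.Agent.R2.H44.LimAffMor`.

* `exists_affRep_pbT`: for a cofiltered system `𝔻` of qcqs algebraic spaces over `Y` with affine transition maps and
  `f : X ⟶ Y`: if `X ×_Y lim 𝔻` is an affine scheme then so is some `X ×_Y 𝔻_m`.
* `descend_isAffineMor`: descending affineness of a morphism through a limit (the statement of S10017).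
-/

set_option autoImplicit false
set_option backward.isDefEq.respectTransparency false
universe u

open CategoryTheory CategoryTheory.Limits AlgebraicGeometry

namespace Groth.Agent.R2.H44.LimAffMor

open Groth.Agent.R2.H44.LimSp Groth.Agent.R2.H44.LimIso Groth.Agent.R2.H44.PbT Groth.Agent.R2.H44.LimAffine

variable {S : Scheme.{u}}

theorem isQuasiCompactSp_of_iso {F G : AlgSp.Sp S} (e : F ≅ G) (h : AlgSp.IsQuasiCompactSp F) :
    AlgSp.IsQuasiCompactSp G := by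
  obtain ⟨U, p, h1, h2, h3⟩ := h
  exact ⟨U, p ≫ e.hom, MorphismProperty.RespectsIso.postcomp _ _ _ h1,
    MorphismProperty.RespectsIso.postcomp _ _ _ h2, h3⟩

theorem isQuasiSeparatedSp_of_iso {F G : AlgSp.Sp S} (e : F ≅ G) (h : AlgSp.IsQuasiSeparatedSp F) :
    AlgSp.IsQuasiSeparatedSp G := by
  have hd : Limits.diag G = e.inv ≫ Limits.diag F ≫ prod.map e.hom e.hom := by
    apply Limits.prod.hom_ext <;> simp
  unfold AlgSp.IsQuasiSeparatedSp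
  rw [hd]
  exact ((AlgSp.RepWith @QuasiCompact).cancel_left_of_respectsIso e.inv _).2
    (((AlgSp.RepWith @QuasiCompact).cancel_right_of_respectsIso _ (prod.map e.hom e.hom)).2 h)

/-- a sheaf representable by an affine scheme is a quasi-compact quasi-separated algebraic space -/
theorem props_of_isAffRep {F : AlgSp.Sp S} (h : IsAffRep F) :
    AlgSp.IsAlgSpace F ∧ AlgSp.IsQuasiCompactSp F ∧ AlgSp.IsQuasiSeparatedSp F := by
  obtain ⟨W, hW, ⟨e⟩⟩ := h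
  have hq := Groth.Agent.R2.H44.LimDesc.qcqs_yon_of_isAffine W hW
  exact ⟨(AlgSp.isAlgSpace_iff_of_iso e).1 (AlgSp.IsAlgSpace.yon_obj W), isQuasiCompactSp_of_iso e hq.1,
    isQuasiSeparatedSp_of_iso e hq.2⟩

/-- a map between sheaves representable by affine schemes is affine -/
theorem isAffineMor_of_isAffRep {P Q : AlgSp.Sp S} (hP : IsAffRep P) (hQ : IsAffRep Q) (a : P ⟶ Q) :
    AlgSp.IsAffineMor a := by
  obtain ⟨W, hW, ⟨εP⟩⟩ := hP
  obtain ⟨V, hV, ⟨εQ⟩⟩ := hQ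
  have h1 : AlgSp.IsAffineMor (a ≫ εQ.inv) := isAffineMor_of_affRep hW hV εP _
  intro Z hZ g
  obtain ⟨W', iW, fst, sq, hW'⟩ := h1 hZ (g ≫ εQ.inv)
  refine ⟨W', iW, fst, ?_, hW'⟩
  exact sq.of_iso (Iso.refl _) (Iso.refl _) (Iso.refl _) εQ (by simp) (by simp) (by simp) (by simp)

theorem exists_affRep_pbT [QuasiSeparatedSpace S] {J : Type u} [SmallCategory J] [IsCofiltered J]
    (𝔻 : J ⥤ AlgSp.Sp S) (h𝔻 : ∀ l, AlgSp.IsAlgSpace (𝔻.obj l))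
    (h𝔻a : ∀ (l l' : J) (φ : l ⟶ l'), AlgSp.IsAffineMor (𝔻.map φ))
    (hqc : ∀ l, AlgSp.IsQuasiCompactSp (𝔻.obj l)) (hqs : ∀ l, AlgSp.IsQuasiSeparatedSp (𝔻.obj l))
    (c : Cone 𝔻) (hc : IsLimit c) (X Y : AlgSp.Space S)
    (hX : AlgSp.IsQuasiCompactSp X.obj ∧ AlgSp.IsQuasiSeparatedSp X.obj)
    (hY : AlgSp.IsQuasiCompactSp Y.obj ∧ AlgSp.IsQuasiSeparatedSp Y.obj)
    (f : X.obj ⟶ Y.obj) (τ : 𝔻 ⟶ (Functor.const J).obj Y.obj) (t : c.pt ⟶ Y.obj)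
    (ht : ∀ l, c.π.app l ≫ τ.app l = t) (haff : IsAffRep (pullback f t)) :
    ∃ m, IsAffRep (pullback f (τ.app m)) := by
  have hWalg : ∀ l, AlgSp.IsAlgSpace ((pbT 𝔻 τ f).obj l) := fun l =>
    Groth.Agent.S9874.result S Y.obj Y.property.diag X ⟨_, h𝔻 l⟩ f (τ.app l) _ (pullback.fst _ _)
      (pullback.snd _ _) (IsPullback.of_hasPullback _ _)
  have hWqcqs : ∀ l, AlgSp.IsQuasiCompactSp ((pbT 𝔻 τ f).obj l) ∧
      AlgSp.IsQuasiSeparatedSp ((pbT 𝔻 τ f).obj l) := fun l =>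
    Groth.Agent.S9921.result (X := X) (Y := Y) (Z := ⟨_, h𝔻 l⟩) (P := ⟨_, hWalg l⟩)
      (ObjectProperty.homMk f) (ObjectProperty.homMk (τ.app l))
      (ObjectProperty.homMk (pullback.fst f (τ.app l))) (ObjectProperty.homMk (pullback.snd f (τ.app l)))
      (IsPullback.of_hasPullback _ _) hX hY ⟨hqc l, hqs l⟩
  have hWa : ∀ (l l' : J) (φ : l ⟶ l'), AlgSp.IsAffineMor ((pbT 𝔻 τ f).map φ) := fun l l' φ =>
    Groth.Agent.S9944.isAffineMor_of_isPullback (isPullback_pbT_map 𝔻 τ f φ).flip (h𝔻a _ _ φ)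
  obtain ⟨T, hT, ⟨e⟩⟩ := haff
  obtain ⟨m, T', hT', ⟨e'⟩⟩ := exists_affine_of_limit (pbT 𝔻 τ f) hWalg hWa (fun l => (hWqcqs l).1)
    (fun l => (hWqcqs l).2) (pbTCone 𝔻 τ f c t ht) (isLimitPbTCone 𝔻 τ f c hc t ht) T hT e
  exact ⟨m, T', hT', ⟨e'⟩⟩

theorem descend_isAffineMor [QuasiSeparatedSpace S] {I : Type u} [SmallCategory I] [IsCofiltered I]
    (D : I ⥤ AlgSp.Sp S)
    (hDa : ∀ (i j : I) (φ : i ⟶ j), AlgSp.IsAffineMor (D.map φ))
    (c : Cone D) (hc : IsLimit c) (i₀ : I)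
    (X₀ Y₀ : AlgSp.Space S) (f₀ : X₀.obj ⟶ Y₀.obj) (b₀ : Y₀.obj ⟶ D.obj i₀)
    (hXqc : AlgSp.IsQuasiCompactSp X₀.obj) (hXqs : AlgSp.IsQuasiSeparatedSp X₀.obj)
    (hYqc : AlgSp.IsQuasiCompactSp Y₀.obj) (hYqs : AlgSp.IsQuasiSeparatedSp Y₀.obj)
    (X Y : AlgSp.Sp S) (f : X ⟶ Y) (pY : Y ⟶ Y₀.obj) (qY : Y ⟶ c.pt)
    (hY : IsPullback pY qY b₀ (c.π.app i₀)) (pX : X ⟶ X₀.obj) (hX : IsPullback pX f f₀ pY)
    (hf : AlgSp.IsAffineMor f) :
    ∃ (i : I) (φ : i ⟶ i₀), ∀ (Xi Yi : AlgSp.Sp S) (fi : Xi ⟶ Yi) (pYi : Yi ⟶ Y₀.obj) (qYi : Yi ⟶ D.obj i)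
      (_ : IsPullback pYi qYi b₀ (D.map φ)) (pXi : Xi ⟶ X₀.obj) (_ : IsPullback pXi fi f₀ pYi),
      AlgSp.IsAffineMor fi := by
  classical
  obtain ⟨V₀, v, hV₀, hve, hvs⟩ := (Groth.Agent.S10180.result Y₀).1 hYqc
  -- the affine charts `𝕍_l = V₀ ×_{B₀} B_l` of the `Y_l`
  have haff𝕍 : ∀ l : Over i₀, IsAffRep ((pbFunctor D i₀ (v ≫ b₀)).obj l) := by
    intro l
    obtain ⟨W, iW, fst, sq, hW⟩ := hDa _ _ l.hom hV₀ (v ≫ b₀)
    exact ⟨W, hW, ⟨sq.flip.isoPullback⟩⟩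
  have h𝕍a : ∀ (l l' : Over i₀) (φ : l ⟶ l'), AlgSp.IsAffineMor ((pbFunctor D i₀ (v ≫ b₀)).map φ) :=
    fun l l' φ => Groth.Agent.S9944.isAffineMor_of_isPullback
      (isPullback_pbFunctor_map D i₀ (v ≫ b₀) φ).flip (hDa _ _ _)
  let τ : pbFunctor D i₀ (v ≫ b₀) ⟶ (Functor.const (Over i₀)).obj Y₀.obj :=
    { app := fun l => pullback.fst (v ≫ b₀) (D.map l.hom) ≫ v
      naturality := by
        intro l l' φ
        simp [pbFunctor, pullback.map] }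
  let t : (pbCone D c i₀ (v ≫ b₀)).pt ⟶ Y₀.obj := pullback.fst (v ≫ b₀) (c.π.app i₀) ≫ v
  have ht : ∀ l, (pbCone D c i₀ (v ≫ b₀)).π.app l ≫ τ.app l = t := by
    intro l
    simp [pbCone, pullback.map, τ, t]
  -- the base change to the limit is an affine scheme
  have hlimaff : IsAffRep (pullback f₀ t) := by
    obtain ⟨V', hV', ⟨ε⟩⟩ := isAffRep_of_isLimit (pbFunctor D i₀ (v ≫ b₀)) haff𝕍 _
      (isLimitPbCone D c hc i₀ (v ≫ b₀))
    let β : pullback (v ≫ b₀) (c.π.app i₀) ⟶ Y :=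
      hY.lift (pullback.fst _ _ ≫ v) (pullback.snd _ _) (by rw [Category.assoc]; exact pullback.condition)
    have hβ1 : β ≫ pY = t := hY.lift_fst _ _ _
    obtain ⟨W, iW, fst, sq, hW⟩ := hf hV' (ε.hom ≫ β)
    have sq2 : IsPullback (fst ≫ pX) ((AlgSp.yon S).map iW) f₀ ((ε.hom ≫ β) ≫ pY) := sq.paste_horiz hX
    have sq3 : IsPullback (fst ≫ pX) ((AlgSp.yon S).map iW ≫ ε.hom) f₀ t := by
      rw [Category.assoc, hβ1] at sq2
      exact sq2.of_iso (Iso.refl _) (Iso.refl _) ε (Iso.refl _) (by simp) (by simp) (by simp) (by simp)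
    exact ⟨W, hW, ⟨sq3.isoPullback⟩⟩
  obtain ⟨m, hm⟩ := exists_affRep_pbT (pbFunctor D i₀ (v ≫ b₀)) (fun l => (props_of_isAffRep (haff𝕍 l)).1) h𝕍a
    (fun l => (props_of_isAffRep (haff𝕍 l)).2.1) (fun l => (props_of_isAffRep (haff𝕍 l)).2.2)
    (pbCone D c i₀ (v ≫ b₀)) (isLimitPbCone D c hc i₀ (v ≫ b₀)) X₀ Y₀ ⟨hXqc, hXqs⟩ ⟨hYqc, hYqs⟩ f₀ τ t ht hlimaff
  refine ⟨m.left, m.hom, fun Xi Yi fi pYi qYi hYi pXi hXi => ?_⟩
  let b : pullback (v ≫ b₀) (D.map m.hom) ⟶ Yi :=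
    hYi.lift (pullback.fst _ _ ≫ v) (pullback.snd _ _) (by rw [Category.assoc]; exact pullback.condition)
  have hb1 : b ≫ pYi = pullback.fst (v ≫ b₀) (D.map m.hom) ≫ v := hYi.lift_fst _ _ _
  have hb2 : b ≫ qYi = pullback.snd (v ≫ b₀) (D.map m.hom) := hYi.lift_snd _ _ _
  have sqb : IsPullback b (pullback.fst (v ≫ b₀) (D.map m.hom)) pYi v := by
    refine IsPullback.of_right ?_ hb1 hYi.flip
    rw [hb2]
    exact (IsPullback.of_hasPullback (v ≫ b₀) (D.map m.hom)).flip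
  have hbe : AlgSp.RepWith @Etale b := MorphismProperty.of_isPullback sqb.flip hve
  have hbs : AlgSp.RepWith @Surjective b := MorphismProperty.of_isPullback sqb.flip hvs
  let b' : pullback f₀ (τ.app m) ⟶ Xi :=
    hXi.lift (pullback.fst _ _) (pullback.snd _ _ ≫ b) (by
      rw [Category.assoc, hb1]
      exact pullback.condition)
  have hb'1 : b' ≫ pXi = pullback.fst f₀ (τ.app m) := hXi.lift_fst _ _ _
  have hb'2 : b' ≫ fi = pullback.snd f₀ (τ.app m) ≫ b := hXi.lift_snd _ _ _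
  have sq' : IsPullback b' (pullback.snd f₀ (τ.app m)) fi b := by
    refine IsPullback.of_right ?_ hb'2 hXi
    rw [hb'1, hb1]
    exact IsPullback.of_hasPullback f₀ (τ.app m)
  exact Groth.Agent.R2.H59.AffDesc.isAffineMor_of_etale_surjective fi b hbe hbs b' (pullback.snd _ _) sq'
    (isAffineMor_of_isAffRep hm (haff𝕍 m) _)

end Groth.Agent.R2.H44.LimAffMor
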