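import Mathlib
import Groth.Agent.R2.H44LimSp
import Groth.Agent.R2.H44LimIso

/-!
# Category theory behind "eventually separated" (helper44)

Namespace `Groth.Agent.R2.H44.SepCat`.

* `isPullback_kernelPair_pb`: for `u : U ⟶ X₀`, `φ : X' ⟶ X₀`, the base change `(U ×_{X₀} U) ×_{X₀} X'` is the
  kernel pair of `U ×_{X₀} X' ⟶ X'`.
* `pbFunctorMap`, `isPullback_pbFunctorMap`, `pbConeMap`: functoriality of `LimSp.pbFunctor D i g` in `g`.
-/

set_option autoImplicit false
set_option backward.isDefEq.respectTransparency false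
universe u

open CategoryTheory CategoryTheory.Limits

namespace Groth.Agent.R2.H44.SepCat

open Groth.Agent.R2.H44.LimSp Groth.Agent.R2.H44.LimIso

universe v₁ u₁ v₂ u₂

variable {C : Type u₁} [Category.{v₁} C] [HasPullbacks C]

/-- The two maps `(U ×_{X₀} U) ×_{X₀} X' ⇉ U ×_{X₀} X'` exhibit the source as the kernel pair of
`U ×_{X₀} X' ⟶ X'`. -/
theorem isPullback_kernelPair_pb {U X₀ X' R : C} (u : U ⟶ X₀) (φ : X' ⟶ X₀) (r₁ r₂ : R ⟶ U)
    (hR : IsPullback r₁ r₂ u u) (ρ : R ⟶ X₀) (hρ₁ : r₁ ≫ u = ρ) (hρ₂ : r₂ ≫ u = ρ) :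
    IsPullback
      (pullback.map ρ φ u φ r₁ (𝟙 X') (𝟙 X₀) (by simp [hρ₁]) (by simp))
      (pullback.map ρ φ u φ r₂ (𝟙 X') (𝟙 X₀) (by simp [hρ₂]) (by simp))
      (pullback.snd u φ) (pullback.snd u φ) := by
  subst hρ₁
  have h_bot : IsPullback (pullback.fst u φ) (pullback.snd u φ) u φ := IsPullback.of_hasPullback u φ
  have h_tot : IsPullback (pullback.fst (r₁ ≫ u) φ)
      (pullback.map (r₁ ≫ u) φ u φ r₁ (𝟙 X') (𝟙 X₀) (by simp) (by simp) ≫ pullback.snd u φ) (r₁ ≫ u) φ := by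
    have := IsPullback.of_hasPullback (r₁ ≫ u) φ
    simpa [pullback.map] using this
  have top : IsPullback (pullback.fst (r₁ ≫ u) φ)
      (pullback.map (r₁ ≫ u) φ u φ r₁ (𝟙 X') (𝟙 X₀) (by simp) (by simp)) r₁ (pullback.fst u φ) :=
    IsPullback.of_bot h_tot (by simp [pullback.map]) h_bot
  have rect1 := top.paste_horiz hR.flip
  refine IsPullback.flip ?_
  refine IsPullback.of_right ?_ (by simp [pullback.map]) h_bot
  have e1 : pullback.map (r₁ ≫ u) φ u φ r₂ (𝟙 X') (𝟙 X₀) (by simp [hρ₂]) (by simp) ≫ pullback.fst u φ =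
      pullback.fst (r₁ ≫ u) φ ≫ r₂ := by simp [pullback.map]
  have e2 : pullback.snd u φ ≫ φ = pullback.fst u φ ≫ u := pullback.condition.symm
  rw [e1, e2]
  exact rect1

variable {I : Type u₂} [Category.{v₂} I]

/-- functoriality of `pbFunctor D i g` in `g` -/
noncomputable def pbFunctorMap (D : I ⥤ C) (i : I) {G G' : C} (h : G ⟶ G') (g : G ⟶ D.obj i)
    (g' : G' ⟶ D.obj i) (w : h ≫ g' = g) : pbFunctor D i g ⟶ pbFunctor D i g' where
  app j := pullback.map g (D.map j.hom) g' (D.map j.hom) h (𝟙 _) (𝟙 _) (by simp [w]) (by simp)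
  naturality j k φ := by
    apply pullback.hom_ext <;> simp [pbFunctor, pullback.map]

@[simp]
theorem pbFunctorMap_app_fst (D : I ⥤ C) (i : I) {G G' : C} (h : G ⟶ G') (g : G ⟶ D.obj i)
    (g' : G' ⟶ D.obj i) (w : h ≫ g' = g) (j : Over i) :
    (pbFunctorMap D i h g g' w).app j ≫ pullback.fst g' (D.map j.hom) = pullback.fst g (D.map j.hom) ≫ h := by
  simp [pbFunctorMap, pullback.map]

@[simp]
theorem pbFunctorMap_app_snd (D : I ⥤ C) (i : I) {G G' : C} (h : G ⟶ G') (g : G ⟶ D.obj i)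
    (g' : G' ⟶ D.obj i) (w : h ≫ g' = g) (j : Over i) :
    (pbFunctorMap D i h g g' w).app j ≫ pullback.snd g' (D.map j.hom) = pullback.snd g (D.map j.hom) := by
  simp [pbFunctorMap, pullback.map]

/-- the naturality squares of `pbFunctorMap` are cartesian -/
theorem isPullback_pbFunctorMap (D : I ⥤ C) (i : I) {G G' : C} (h : G ⟶ G') (g : G ⟶ D.obj i)
    (g' : G' ⟶ D.obj i) (w : h ≫ g' = g) {j k : Over i} (φ : j ⟶ k) :
    IsPullback ((pbFunctor D i g).map φ) ((pbFunctorMap D i h g g' w).app j)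
      ((pbFunctorMap D i h g g' w).app k) ((pbFunctor D i g').map φ) := by
  refine IsPullback.flip ?_
  refine IsPullback.of_right ?_ ((pbFunctorMap D i h g g' w).naturality φ).symm
    (isPullback_pbFunctor_map D i g' φ).flip
  rw [pbFunctorMap_app_snd, pbFunctorMap_app_snd]
  exact (isPullback_pbFunctor_map D i g φ).flip

/-- the map of limit cones induced by `h` -/
noncomputable def pbConeMap (D : I ⥤ C) (c : Cone D) (i : I) {G G' : C} (h : G ⟶ G') (g : G ⟶ D.obj i)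
    (g' : G' ⟶ D.obj i) (w : h ≫ g' = g) : (pbCone D c i g).pt ⟶ (pbCone D c i g').pt :=
  pullback.map g (c.π.app i) g' (c.π.app i) h (𝟙 _) (𝟙 _) (by simp [w]) (by simp)

theorem pbConeMap_π (D : I ⥤ C) (c : Cone D) (i : I) {G G' : C} (h : G ⟶ G') (g : G ⟶ D.obj i)
    (g' : G' ⟶ D.obj i) (w : h ≫ g' = g) (j : Over i) :
    pbConeMap D c i h g g' w ≫ (pbCone D c i g').π.app j =
      (pbCone D c i g).π.app j ≫ (pbFunctorMap D i h g g' w).app j := by
  apply pullback.hom_ext <;> simp [pbConeMap, pbCone, pbFunctorMap, pullback.map]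

end Groth.Agent.R2.H44.SepCat
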