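import Mathlib
import Groth.Prelude.Def_AlgSp3
import Groth.Agent.R2.H48ClosedDescSp
import Groth.Agent.R2.H44LimIso
import Groth.Agent.S9904

/-!
# Separatedness on a chart (helper44)

Namespace `Groth.Agent.R2.H44.SepChart`.

* `isSeparatedMor_of_mapDesc`: if `p : U ⟶ X` is representable étale surjective and `U ×_X U ⟶ U ×_Y U` is a closed
  immersion, then `X ⟶ Y` is separated.
* `isSeparatedMor_iff_of_chart`: for `f : X ⟶ h_V`, an étale surjective chart `p : h_U ⟶ X` with `h_R = h_U ×_X h_U`
  and `K = U ×_V U`: `f` is separated iff `R ⟶ K` is a closed immersion of schemes.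
* `repWith_diagonal_descend'`: properties of the relative diagonal of `f : X ⟶ Y` descend along a base change
  `X ×_Y V' ⟶ X` which is representable étale surjective.
-/

set_option autoImplicit false
set_option backward.isDefEq.respectTransparency false
universe u

open CategoryTheory CategoryTheory.Limits AlgebraicGeometry

namespace Groth.Agent.R2.H44.SepChart

variable {S : Scheme.{u}}

/-- the map `U ×_Y U ⟶ X ×_Y X` induced by an étale surjective `p : U ⟶ X` is locally surjective -/
theorem isLocallySurjective_pullback_map {U X Y : AlgSp.Sp S} (p : U ⟶ X) (f : X ⟶ Y)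
    (hpe : AlgSp.RepWith @Etale p) (hps : AlgSp.RepWith @Surjective p) :
    Sheaf.IsLocallySurjective (pullback.map (p ≫ f) (p ≫ f) f f p p (𝟙 _) (Category.comp_id _)
      (Category.comp_id _)) := by
  have h1 : AlgSp.RepWith @Etale (pullback.map (p ≫ f) (p ≫ f) f f p p (𝟙 _) (Category.comp_id _)
      (Category.comp_id _)) := (AlgSp.RepWith @Etale).pullbackMap hpe hpe rfl rfl
  have h2 : AlgSp.RepWith @Surjective (pullback.map (p ≫ f) (p ≫ f) f f p p (𝟙 _) (Category.comp_id _)
      (Category.comp_id _)) := (AlgSp.RepWith @Surjective).pullbackMap hps hps rfl rfl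
  exact Groth.Agent.R2.H44.LimIso.isLocallySurjective_of_etale_surjective _ h1 h2

/-- separatedness can be checked on an étale surjective chart -/
theorem isSeparatedMor_of_mapDesc {U X Y : AlgSp.Sp S} (p : U ⟶ X) (f : X ⟶ Y)
    (hpe : AlgSp.RepWith @Etale p) (hps : AlgSp.RepWith @Surjective p)
    (h : AlgSp.RepWith @IsClosedImmersion (pullback.mapDesc p p f)) : AlgSp.IsSeparatedMor f := by
  have sqD := pullback_map_diagonal_isPullback p p f
  have := isLocallySurjective_pullback_map p f hpe hps
  exact Groth.Agent.R2.H48.ClosedDescSp.repWith_isClosedImmersion_of_locallySurjective _ _ _ _ sqD h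

/-- if `f` is separated, `U ×_X U ⟶ U ×_Y U` is a closed immersion -/
theorem repWith_mapDesc_of_isSeparatedMor {U X Y : AlgSp.Sp S} (p : U ⟶ X) (f : X ⟶ Y)
    (h : AlgSp.IsSeparatedMor f) : AlgSp.RepWith @IsClosedImmersion (pullback.mapDesc p p f) :=
  MorphismProperty.of_isPullback (pullback_map_diagonal_isPullback p p f) h

/-- Separatedness of `f : X ⟶ h_V` in terms of a chart. -/
theorem isSeparatedMor_iff_of_chart {X : AlgSp.Sp S} {V : Over S} (f : X ⟶ (AlgSp.yon S).obj V)
    {U R K : Over S} (p : (AlgSp.yon S).obj U ⟶ X) (hpe : AlgSp.RepWith @Etale p)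
    (hps : AlgSp.RepWith @Surjective p) (r₁ r₂ : R ⟶ U)
    (hR : IsPullback ((AlgSp.yon S).map r₁) ((AlgSp.yon S).map r₂) p p)
    (τ : U ⟶ V) (hτ : (AlgSp.yon S).map τ = p ≫ f)
    (k₁ k₂ : K ⟶ U) (hK : IsPullback k₁ k₂ τ τ) (m : R ⟶ K) (hm₁ : m ≫ k₁ = r₁) (hm₂ : m ≫ k₂ = r₂) :
    AlgSp.IsSeparatedMor f ↔ IsClosedImmersion m.left := by
  have hK' : IsPullback ((AlgSp.yon S).map k₁) ((AlgSp.yon S).map k₂) (p ≫ f) (p ≫ f) := by
    rw [← hτ]; exact hK.map (AlgSp.yon S)
  have hcomp : (AlgSp.yon S).map m ≫ hK'.isoPullback.hom = hR.isoPullback.hom ≫ pullback.mapDesc p p f := by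
    apply pullback.hom_ext
    · rw [Category.assoc, IsPullback.isoPullback_hom_fst, ← Functor.map_comp, hm₁, Category.assoc]
      simp [pullback.mapDesc]
    · rw [Category.assoc, IsPullback.isoPullback_hom_snd, ← Functor.map_comp, hm₂, Category.assoc]
      simp [pullback.mapDesc]
  have key : AlgSp.RepWith @IsClosedImmersion ((AlgSp.yon S).map m) ↔
      AlgSp.RepWith @IsClosedImmersion (pullback.mapDesc p p f) := by
    rw [← (AlgSp.RepWith @IsClosedImmersion).cancel_right_of_respectsIso ((AlgSp.yon S).map m)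
      hK'.isoPullback.hom, hcomp, (AlgSp.RepWith @IsClosedImmersion).cancel_left_of_respectsIso]
  rw [← AlgSp.repWith_yon_map_iff @IsClosedImmersion m, key]
  exact ⟨repWith_mapDesc_of_isSeparatedMor p f, isSeparatedMor_of_mapDesc p f hpe hps⟩

open Groth.Agent.S9900 Groth.Agent.S9904 in
/-- étale descent for properties of the relative diagonal, along a base change whose projection to the source is
étale surjective (the map `p` itself need not be surjective). -/
theorem repWith_diagonal_descend' (P : MorphismProperty Scheme.{u}) [P.IsStableUnderBaseChange]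
    [IsZariskiLocalAtTarget P] [P.DescendsAlong (@Surjective ⊓ @Flat ⊓ @QuasiCompact)]
    {X Y V' : AlgSp.Sp S} (hX : AlgSp.Representable (Limits.diag X)) (f : X ⟶ Y)
    (p : V' ⟶ Y) {P₀ : AlgSp.Sp S} (fst : P₀ ⟶ X) (snd : P₀ ⟶ V') (sq : IsPullback fst snd f p)
    (hfe : AlgSp.RepWith @Etale fst) (hfs : AlgSp.RepWith @Surjective fst)
    (h : AlgSp.RepWith P (pullback.diagonal snd)) : AlgSp.RepWith P (pullback.diagonal f) := by
  refine repWith_diagonal_of_isEqLocus hX f P ?_
  intro T E a b e hab he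
  obtain ⟨T1, t1, a1, sqT⟩ := hfe.1 a
  have : Etale t1.left := hfe.2 _ _ t1 sqT
  have : Surjective t1.left := hfs.2 _ _ t1 sqT
  -- sqT : IsPullback a1 (yon t1) fst a
  have hb1 : ((AlgSp.yon S).map t1 ≫ b) ≫ f = (a1 ≫ snd) ≫ p := by
    rw [Category.assoc, ← hab, Category.assoc, ← sq.w, ← Category.assoc, ← Category.assoc, sqT.w]
  have he1 : IsEqLocus a1 (sq.lift _ _ hb1) (pullback.snd e t1) := by
    apply IsEqLocus.of_comp_fst sq
    · rw [sq.lift_snd]
    · rw [sq.lift_fst, sqT.w]
      exact IsEqLocus.baseChange he t1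
  have hP1 : P (pullback.snd e t1).left :=
    IsEqLocus.property_of_repWith snd h (by rw [sq.lift_snd]) he1
  have hsq : IsPullback (pullback.fst e t1).left (pullback.snd e t1).left e.left t1.left :=
    (IsPullback.of_hasPullback e t1).map (Over.forget S)
  have hQ : (@Surjective ⊓ @Flat ⊓ @LocallyOfFinitePresentation : MorphismProperty Scheme.{u})
      t1.left := ⟨⟨inferInstance, inferInstance⟩, inferInstance⟩
  exact MorphismProperty.of_isPullback_of_descendsAlong (P := P)
    (Q := @Surjective ⊓ @Flat ⊓ @LocallyOfFinitePresentation) hsq.flip hQ hP1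

end Groth.Agent.R2.H44.SepChart
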