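import Mathlib
import Groth.Agent.R2.H44SepChart
import Groth.Agent.Lib.Helper26LimDescend

/-!
# Separatedness over an affine base in terms of generation of global sections (helper44)

Namespace `Groth.Agent.R2.H44.SepGen`.

* `isClosedImmersion_iff_closure`: for affine schemes, `A ⟶ B ×_W B` is a closed immersion iff `Γ(A)` is generated by the
  images of the two maps `Γ(B) ⟶ Γ(A)`.
* `isSeparatedMor_iff_closure`: for `f : X ⟶ h_V` with `V` affine and an affine étale chart `h_U ⟶ X` with
  `h_R = h_U ×_X h_U` affine: `f` is separated iff `Γ(R)` is generated by the images of the two maps `Γ(U) ⟶ Γ(R)`.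
-/

set_option autoImplicit false
set_option backward.isDefEq.respectTransparency false
universe u

open CategoryTheory CategoryTheory.Limits AlgebraicGeometry

namespace Groth.Agent.R2.H44.SepGen

open Groth.Agent.Lib.Helper26.LimDescend Groth.Agent.R2.H44.SepChart

/-- For affine schemes: `m : A ⟶ K = B ×_W B` is a closed immersion iff `Γ(A)` is generated by the two copies of
`Γ(B)`. -/
theorem isClosedImmersion_iff_closure {A B W K : Scheme.{u}} [IsAffine A] [IsAffine B] [IsAffine W]
    (τ : B ⟶ W) (k₁ k₂ : K ⟶ B) (hK : IsPullback k₁ k₂ τ τ) (m : A ⟶ K) :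
    IsClosedImmersion m ↔
      Subring.closure (Set.range (r (m ≫ k₁)) ∪ Set.range (r (m ≫ k₂))) = ⊤ := by
  have hKaff : IsAffine K := IsAffine.of_isIso hK.isoPullback.hom
  have hpo := isPushout_appTop_of_isPullback hK
  have hT := closure_range_union_eq_top_of_isPushout hpo
  have hrange : (r m).range = Subring.closure (Set.range (r (m ≫ k₁)) ∪ Set.range (r (m ≫ k₂))) := by
    rw [RingHom.range_eq_map, ← hT, RingHom.map_closure, Set.image_union, ← Set.range_comp,
      ← Set.range_comp, r_comp, r_comp]
    rfl
  rw [← hrange, RingHom.range_eq_top]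
  constructor
  · intro h
    exact (IsClosedImmersion.isAffine_surjective_of_isAffine m).2
  · intro h
    exact IsClosedImmersion.of_surjective_of_isAffine m h

variable {S : Scheme.{u}}

/-- Separatedness over an affine base in terms of a chart with affine kernel pair. -/
theorem isSeparatedMor_iff_closure {X : AlgSp.Sp S} {V : Over S} (hV : IsAffine V.left)
    (f : X ⟶ (AlgSp.yon S).obj V) {U R : Over S} (hU : IsAffine U.left) (hRa : IsAffine R.left)
    (p : (AlgSp.yon S).obj U ⟶ X) (hpe : AlgSp.RepWith @Etale p)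
    (hps : AlgSp.RepWith @Surjective p) (r₁ r₂ : R ⟶ U)
    (hR : IsPullback ((AlgSp.yon S).map r₁) ((AlgSp.yon S).map r₂) p p) :
    AlgSp.IsSeparatedMor f ↔
      Subring.closure (Set.range (r r₁.left) ∪ Set.range (r r₂.left)) = ⊤ := by
  let τ : U ⟶ V := (AlgSp.yon S).preimage (p ≫ f)
  have hτ : (AlgSp.yon S).map τ = p ≫ f := (AlgSp.yon S).map_preimage _
  have hcomm : r₁ ≫ τ = r₂ ≫ τ := by
    apply (AlgSp.yon S).map_injective
    rw [Functor.map_comp, Functor.map_comp, hτ, reassoc_of% hR.w]
  let m : R ⟶ pullback τ τ := pullback.lift r₁ r₂ hcomm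
  have h1 := isSeparatedMor_iff_of_chart f p hpe hps r₁ r₂ hR τ hτ (pullback.fst τ τ) (pullback.snd τ τ)
    (IsPullback.of_hasPullback τ τ) m (pullback.lift_fst _ _ _) (pullback.lift_snd _ _ _)
  have hKsch : IsPullback (pullback.fst τ τ).left (pullback.snd τ τ).left τ.left τ.left :=
    (IsPullback.of_hasPullback τ τ).map (Over.forget S)
  have h2 := isClosedImmersion_iff_closure τ.left _ _ hKsch m.left
  have e1 : m.left ≫ (pullback.fst τ τ).left = r₁.left := by
    rw [← Over.comp_left, pullback.lift_fst]
  have e2 : m.left ≫ (pullback.snd τ τ).left = r₂.left := by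
    rw [← Over.comp_left, pullback.lift_snd]
  rw [e1, e2] at h2
  exact h1.trans h2

end Groth.Agent.R2.H44.SepGen
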