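import Mathlib
import Groth.Agent.R2.H44SepCat
import Groth.Agent.R2.H44SepGen
import Groth.Agent.Lib.Helper26LimSep
import Groth.Agent.S9944

/-!
# Separatedness descends through limits over an affine base: the chart step (helper44)

Namespace `Groth.Agent.R2.H44.SepLim`.

* `isAffRep_of_isPullback`: base change of an affine scheme along an affine morphism.
* `eventually_separated_of_chart`: `X = lim X_i` over `h_V` (`V` affine), affine transition maps, `X ⟶ h_V` separated,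
  and an affine étale chart `h_U ⟶ X_{i₁}` with `h_U ×_{X_{i₁}} h_U` affine: then `X_k ⟶ h_V` is separated for all
  `k` mapping to some `j ⟶ i₁`.
-/

set_option autoImplicit false
set_option backward.isDefEq.respectTransparency false
universe u

open CategoryTheory CategoryTheory.Limits AlgebraicGeometry

namespace Groth.Agent.R2.H44.SepLim

open Groth.Agent.R2.H44.LimSp Groth.Agent.R2.H44.LimIso Groth.Agent.R2.H44.SepCat Groth.Agent.R2.H44.SepGen
  Groth.Agent.Lib.Helper26.LimDescend Groth.Agent.Lib.Helper26.LimSep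

variable {S : Scheme.{u}}

/-- base change of a sheaf representable by an affine scheme along an affine morphism -/
theorem isAffRep_of_isPullback {G X₀ X' P : AlgSp.Sp S} {g : G ⟶ X₀} {φ : X' ⟶ X₀} {fst : P ⟶ G}
    {snd : P ⟶ X'} (sq : IsPullback fst snd g φ) (hφ : AlgSp.IsAffineMor φ) (hG : IsAffRep G) :
    IsAffRep P := by
  obtain ⟨W, hW, ⟨e⟩⟩ := hG
  obtain ⟨W', iW, fst', sq', hW'⟩ := hφ hW (e.hom ≫ g)
  have sq'' : IsPullback ((AlgSp.yon S).map iW ≫ e.hom) fst' g φ :=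
    IsPullback.of_iso sq'.flip (Iso.refl _) e (Iso.refl _) (Iso.refl _) (by simp) (by simp) (by simp)
      (by simp)
  exact ⟨W', hW', ⟨sq''.isoIsPullback _ _ sq⟩⟩

/-- transport of the kernel pair square to models -/
theorem isPullback_model_kernelPair {U₀ X₀ X' : AlgSp.Sp S} (u : U₀ ⟶ X₀) (ρ : pullback u u ⟶ X₀)
    (hρ₁ : pullback.fst u u ≫ u = ρ) (hρ₂ : pullback.snd u u ≫ u = ρ) (φ : X' ⟶ X₀) {AU AR : Over S}
    (aU : (AlgSp.yon S).obj AU ≅ pullback u φ) (aR : (AlgSp.yon S).obj AR ≅ pullback ρ φ) (r₁ r₂ : AR ⟶ AU)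
    (h₁ : (AlgSp.yon S).map r₁ = aR.hom ≫ pullback.map ρ φ u φ (pullback.fst u u) (𝟙 _) (𝟙 _)
      (by simp [hρ₁]) (by simp) ≫ aU.inv)
    (h₂ : (AlgSp.yon S).map r₂ = aR.hom ≫ pullback.map ρ φ u φ (pullback.snd u u) (𝟙 _) (𝟙 _)
      (by simp [hρ₂]) (by simp) ≫ aU.inv) :
    IsPullback ((AlgSp.yon S).map r₁) ((AlgSp.yon S).map r₂) (aU.hom ≫ pullback.snd u φ)
      (aU.hom ≫ pullback.snd u φ) := by
  have kp := isPullback_kernelPair_pb u φ (pullback.fst u u) (pullback.snd u u)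
    (IsPullback.of_hasPullback u u) ρ hρ₁ hρ₂
  rw [h₁, h₂]
  exact IsPullback.of_iso kp aR.symm aU.symm aU.symm (Iso.refl _) (by simp) (by simp) (by simp) (by simp)

/-- the first projection of the kernel pair of the base change of an étale map is étale -/
theorem repWith_etale_kernelPair_fst {U₀ X₀ X' : AlgSp.Sp S} (u : U₀ ⟶ X₀) (hue : AlgSp.RepWith @Etale u)
    (ρ : pullback u u ⟶ X₀)
    (hρ₁ : pullback.fst u u ≫ u = ρ) (hρ₂ : pullback.snd u u ≫ u = ρ) (φ : X' ⟶ X₀) :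
    AlgSp.RepWith @Etale (pullback.map ρ φ u φ (pullback.fst u u) (𝟙 _) (𝟙 _) (by simp [hρ₁]) (by simp)) := by
  have kp := isPullback_kernelPair_pb u φ (pullback.fst u u) (pullback.snd u u)
    (IsPullback.of_hasPullback u u) ρ hρ₁ hρ₂
  have h1 : AlgSp.RepWith @Etale (pullback.snd u φ) :=
    MorphismProperty.of_isPullback (IsPullback.of_hasPullback u φ) hue
  exact MorphismProperty.of_isPullback kp.flip h1

attribute [local instance] IsCofiltered.isConnected in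
theorem eventually_separated_of_chart {I : Type u} [SmallCategory I] [IsCofiltered I]
    (V : Over S) (hV : IsAffine V.left) (D : I ⥤ AlgSp.Sp S)
    (t : D ⟶ (Functor.const I).obj ((AlgSp.yon S).obj V))
    (hDa : ∀ (i j : I) (φ : i ⟶ j), AlgSp.IsAffineMor (D.map φ))
    (c : Cone D) (hc : IsLimit c) (g : c.pt ⟶ (AlgSp.yon S).obj V)
    (hX : AlgSp.IsSeparatedMor g)
    (i₁ : I) (U : Over S) (hU : IsAffine U.left) (u : (AlgSp.yon S).obj U ⟶ D.obj i₁)
    (hue : AlgSp.RepWith @Etale u) (hus : AlgSp.RepWith @Surjective u) (hR : IsAffRep (pullback u u)) :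
    ∃ j : Over i₁, ∀ (k : Over i₁) (_ : k ⟶ j), AlgSp.IsSeparatedMor (t.app k.left) := by
  classical
  obtain ⟨ρ, hρ₁⟩ : ∃ ρ : pullback u u ⟶ D.obj i₁, pullback.fst u u ≫ u = ρ := ⟨_, rfl⟩
  have hρ₂ : pullback.snd u u ≫ u = ρ := by rw [← hρ₁]; exact pullback.condition.symm
  have hUrep : IsAffRep ((AlgSp.yon S).obj U) := ⟨U, hU, ⟨Iso.refl _⟩⟩
  have haffU : ∀ l : Over i₁, IsAffRep ((pbFunctor D i₁ u).obj l) := fun l =>
    isAffRep_of_isPullback (IsPullback.of_hasPullback u (D.map l.hom)) (hDa _ _ l.hom) hUrep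
  have haffR : ∀ l : Over i₁, IsAffRep ((pbFunctor D i₁ ρ).obj l) := fun l =>
    isAffRep_of_isPullback (IsPullback.of_hasPullback ρ (D.map l.hom)) (hDa _ _ l.hom) hR
  obtain ⟨KU, eU, cKU, εU, -, ⟨hcKU⟩, hKU, hcKUaff, hcompU⟩ :=
    exists_affine_model (pbFunctor D i₁ u) haffU (pbCone D c i₁ u) (isLimitPbCone D c hc i₁ u)
  obtain ⟨KR, eR, cKR, εR, -, ⟨hcKR⟩, hKR, hcKRaff, hcompR⟩ :=
    exists_affine_model (pbFunctor D i₁ ρ) haffR (pbCone D c i₁ ρ) (isLimitPbCone D c hc i₁ ρ)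
  -- the two projections, on the models
  obtain ⟨pr₁, hpr₁⟩ : ∃ α : pbFunctor D i₁ ρ ⟶ pbFunctor D i₁ u,
      α = pbFunctorMap D i₁ (pullback.fst u u) ρ u hρ₁ := ⟨_, rfl⟩
  obtain ⟨pr₂, hpr₂⟩ : ∃ α : pbFunctor D i₁ ρ ⟶ pbFunctor D i₁ u,
      α = pbFunctorMap D i₁ (pullback.snd u u) ρ u hρ₂ := ⟨_, rfl⟩
  let ff := (Functor.FullyFaithful.ofFullyFaithful (AlgSp.yon S)).whiskeringRight (Over i₁)
  obtain ⟨σ, hσ'⟩ : ∃ σ : KR ⟶ KU, Functor.whiskerRight σ (AlgSp.yon S) = eR.hom ≫ pr₁ ≫ eU.inv :=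
    ⟨ff.preimage (eR.hom ≫ pr₁ ≫ eU.inv), ff.map_preimage _⟩
  obtain ⟨σ₂, hσ₂'⟩ : ∃ σ : KR ⟶ KU, Functor.whiskerRight σ (AlgSp.yon S) = eR.hom ≫ pr₂ ≫ eU.inv :=
    ⟨ff.preimage (eR.hom ≫ pr₂ ≫ eU.inv), ff.map_preimage _⟩
  have hσ : ∀ l, (AlgSp.yon S).map (σ.app l) = eR.hom.app l ≫ pr₁.app l ≫ eU.inv.app l := fun l => by
    have := congrArg (fun α => α.app l) hσ'
    simpa using this
  have hσ₂ : ∀ l, (AlgSp.yon S).map (σ₂.app l) = eR.hom.app l ≫ pr₂.app l ≫ eU.inv.app l := fun l => by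
    have := congrArg (fun α => α.app l) hσ₂'
    simpa using this
  -- the maps at the limit
  obtain ⟨F₁, hF₁⟩ : ∃ F : cKR.pt ⟶ cKU.pt, (AlgSp.yon S).map F =
      εR.hom ≫ pbConeMap D c i₁ (pullback.fst u u) ρ u hρ₁ ≫ εU.inv := ⟨_, (AlgSp.yon S).map_preimage _⟩
  obtain ⟨F₂, hF₂⟩ : ∃ F : cKR.pt ⟶ cKU.pt, (AlgSp.yon S).map F =
      εR.hom ≫ pbConeMap D c i₁ (pullback.snd u u) ρ u hρ₂ ≫ εU.inv := ⟨_, (AlgSp.yon S).map_preimage _⟩
  have hyπU : ∀ l, εU.inv ≫ (AlgSp.yon S).map (cKU.π.app l) = (pbCone D c i₁ u).π.app l ≫ eU.inv.app l := by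
    intro l
    rw [Iso.inv_comp_eq, ← Category.assoc, hcompU l, Category.assoc]
    simp
  have hFπ₁ : ∀ l, F₁ ≫ cKU.π.app l = cKR.π.app l ≫ σ.app l := by
    intro l
    apply (AlgSp.yon S).map_injective
    rw [Functor.map_comp, Functor.map_comp, hF₁, hσ, Category.assoc, Category.assoc, hyπU,
      ← reassoc_of% (hcompR l), hpr₁, ← reassoc_of% (pbConeMap_π D c i₁ (pullback.fst u u) ρ u hρ₁ l)]
  have hFπ₂ : ∀ l, F₂ ≫ cKU.π.app l = cKR.π.app l ≫ σ₂.app l := by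
    intro l
    apply (AlgSp.yon S).map_injective
    rw [Functor.map_comp, Functor.map_comp, hF₂, hσ₂, Category.assoc, Category.assoc, hyπU,
      ← reassoc_of% (hcompR l), hpr₂, ← reassoc_of% (pbConeMap_π D c i₁ (pullback.snd u u) ρ u hρ₂ l)]
  -- the chart maps
  have hsnd : ∀ {X' : AlgSp.Sp S} (φ : X' ⟶ D.obj i₁) {AU : Over S}
      (aU : (AlgSp.yon S).obj AU ≅ pullback u φ), AlgSp.RepWith @Etale (aU.hom ≫ pullback.snd u φ) ∧
        AlgSp.RepWith @Surjective (aU.hom ≫ pullback.snd u φ) := by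
    intro X' φ AU aU
    exact ⟨((AlgSp.RepWith @Etale).cancel_left_of_respectsIso _ _).2
      (MorphismProperty.of_isPullback (IsPullback.of_hasPullback u φ) hue),
      ((AlgSp.RepWith @Surjective).cancel_left_of_respectsIso _ _).2
      (MorphismProperty.of_isPullback (IsPullback.of_hasPullback u φ) hus)⟩
  -- the limit stage: generation
  have hRinf : IsPullback ((AlgSp.yon S).map F₁) ((AlgSp.yon S).map F₂)
      (εU.hom ≫ pullback.snd u (c.π.app i₁)) (εU.hom ≫ pullback.snd u (c.π.app i₁)) :=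
    isPullback_model_kernelPair u ρ hρ₁ hρ₂ (c.π.app i₁) εU εR F₁ F₂ hF₁ hF₂
  have htop : Subring.closure (Set.range (r F₁.left) ∪ Set.range (r F₂.left)) = ⊤ :=
    (isSeparatedMor_iff_closure hV g hcKUaff hcKRaff _ (hsnd (c.π.app i₁) εU).1 (hsnd (c.π.app i₁) εU).2
      F₁ F₂ hRinf).1 hX
  -- scheme-level systems
  have hcartO : ∀ {j k : Over i₁} (a : j ⟶ k), IsPullback (KR.map a) (σ.app j) (σ.app k) (KU.map a) := by
    intro j k a
    have h0 := isPullback_pbFunctorMap D i₁ (pullback.fst u u) ρ u hρ₁ a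
    rw [← hpr₁] at h0
    have h1 : IsPullback ((AlgSp.yon S).map (KR.map a)) ((AlgSp.yon S).map (σ.app j))
        ((AlgSp.yon S).map (σ.app k)) ((AlgSp.yon S).map (KU.map a)) := by
      refine IsPullback.of_iso h0 (eR.app j).symm (eR.app k).symm (eU.app j).symm (eU.app k).symm ?_ ?_ ?_ ?_
      · exact (eR.inv.naturality a)
      · simp [hσ]
      · simp [hσ]
      · exact (eU.inv.naturality a)
    exact IsPullback.of_map (AlgSp.yon S) (σ.naturality a) h1
  let DV : Over i₁ ⥤ Scheme.{u} := KR ⋙ Over.forget S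
  let DU : Over i₁ ⥤ Scheme.{u} := KU ⋙ Over.forget S
  let σs : DV ⟶ DU := Functor.whiskerRight σ (Over.forget S)
  let σs₂ : DV ⟶ DU := Functor.whiskerRight σ₂ (Over.forget S)
  have : ∀ j, IsAffine (DV.obj j) := hKR
  have : ∀ j, IsAffine (DU.obj j) := hKU
  have hcart : ∀ {j k : Over i₁} (a : j ⟶ k), IsPullback (DV.map a) (σs.app j) (σs.app k) (DU.map a) :=
    fun a => (hcartO a).map (Over.forget S)
  let j₁ : Over i₁ := Over.mk (𝟙 i₁)
  have : LocallyOfFiniteType (σs.app j₁) := by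
    have h1 : AlgSp.RepWith @Etale (pr₁.app j₁) := by
      rw [hpr₁]
      exact repWith_etale_kernelPair_fst u hue ρ hρ₁ hρ₂ (D.map j₁.hom)
    have h2 : AlgSp.RepWith @Etale ((AlgSp.yon S).map (σ.app j₁)) := by
      rw [hσ, (AlgSp.RepWith @Etale).cancel_left_of_respectsIso,
        (AlgSp.RepWith @Etale).cancel_right_of_respectsIso]
      exact h1
    have h3 : Etale (σ.app j₁).left := (AlgSp.repWith_yon_map_iff @Etale _).1 h2
    exact (inferInstance : LocallyOfFiniteType (σ.app j₁).left)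
  obtain ⟨j, hj⟩ := exists_closure_eq_top DV DU DU σs σs₂ hcart ((Over.forget S).mapCone cKR)
    ((Over.forget S).mapCone cKU) ((Over.forget S).mapCone cKU) hcKR hcKU hcKU F₁.left F₂.left
    (fun l => by
      change F₁.left ≫ (cKU.π.app l).left = (cKR.π.app l).left ≫ (σ.app l).left
      rw [← Over.comp_left, ← Over.comp_left, hFπ₁])
    (fun l => by
      change F₂.left ≫ (cKU.π.app l).left = (cKR.π.app l).left ≫ (σ₂.app l).left
      rw [← Over.comp_left, ← Over.comp_left, hFπ₂])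
    htop j₁
  refine ⟨j.left, fun k a => ?_⟩
  have hk : Cl DV DU DU σs σs₂ k = ⊤ := Cl_eq_top_of_hom DV DU DU σs σs₂ hcart a hj
  have hRk : IsPullback ((AlgSp.yon S).map (σ.app k)) ((AlgSp.yon S).map (σ₂.app k))
      ((eU.app k).hom ≫ pullback.snd u (D.map k.hom)) ((eU.app k).hom ≫ pullback.snd u (D.map k.hom)) :=
    isPullback_model_kernelPair u ρ hρ₁ hρ₂ (D.map k.hom) (eU.app k) (eR.app k) (σ.app k) (σ₂.app k)
      (by rw [hσ, hpr₁]; rfl) (by rw [hσ₂, hpr₂]; rfl)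
  exact (isSeparatedMor_iff_closure hV (t.app k.left) (hKU k) (hKR k) _ (hsnd (D.map k.hom) (eU.app k)).1
    (hsnd (D.map k.hom) (eU.app k)).2 (σ.app k) (σ₂.app k) hRk).2 hk

end Groth.Agent.R2.H44.SepLim
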