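import Mathlib
import Groth.Agent.R2.H44SepLim
import Groth.Agent.R2.H44LimAffMor
import Groth.Agent.Lib.Helper12OpenSub2
import Groth.Agent.S10196
import Groth.Agent.S10175
import Groth.Agent.S9913
import Groth.Agent.S9905
import Groth.Agent.S9920

/-!
# Quasi-compact opens of a limit of algebraic spaces descend (helper44)

Namespace `Groth.Agent.R2.H44.OpenDesc`.

* `isSeparatedMor_of_isAffineMor`: affine morphisms of algebraic spaces are separated.
* `isQuasiSeparatedSp_of_isAffineMor`: the source of an affine morphism to a quasi-separated algebraic space is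
  quasi-separated.
* `exists_open_descends`: a quasi-compact open subspace of `X = lim X_i` is the inverse image of a quasi-compact open
  subspace of some `X_i`.
-/

set_option autoImplicit false
set_option backward.isDefEq.respectTransparency false
universe u

open CategoryTheory CategoryTheory.Limits AlgebraicGeometry

namespace Groth.Agent.R2.H44.OpenDesc

open Groth.Agent.R2.H44.LimSp Groth.Agent.R2.H44.LimIso Groth.Agent.R2.H44.LimDesc Groth.Agent.R2.H44.SepLim
  Groth.Agent.Lib.Helper12.OpenSub Groth.Agent.S9900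

variable {S : Scheme.{u}}

/-- affine morphisms of algebraic spaces are separated -/
theorem isSeparatedMor_of_isAffineMor {X X₀ : AlgSp.Sp S} (hX : AlgSp.IsAlgSpace X) (hX₀ : AlgSp.IsAlgSpace X₀)
    (π : X ⟶ X₀) (hπ : AlgSp.IsAffineMor π) : AlgSp.IsSeparatedMor π := by
  have h : AlgSp.RepWith @IsAffineHom π := by
    refine Groth.Agent.Lib.Helper12.ZarGlue.repWith_of_affine @IsAffineHom π (fun Z hZ g => ?_)
    obtain ⟨W, i, fst, sq, hW⟩ := hπ hZ g
    have := hZ
    have := hW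
    exact ⟨W, i, fst, sq, inferInstance⟩
  have h2 : AlgSp.RepWith @IsSeparated π :=
    ⟨h.1, fun U V g fst snd sq => by
      have : IsAffineHom snd.left := h.2 g fst snd sq
      exact (inferInstance : IsSeparated snd.left)⟩
  exact ((Groth.Agent.S9905.result (X := ⟨X, hX⟩) (Y := ⟨X₀, hX₀⟩) (ObjectProperty.homMk π) h.1).1).2 h2

/-- the source of an affine morphism to a quasi-separated algebraic space is quasi-separated -/
theorem isQuasiSeparatedSp_of_isAffineMor {X X₀ : AlgSp.Sp S} (hX : AlgSp.IsAlgSpace X)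
    (hX₀ : AlgSp.IsAlgSpace X₀) (π : X ⟶ X₀) (hπ : AlgSp.IsAffineMor π) (h₀ : AlgSp.IsQuasiSeparatedSp X₀) :
    AlgSp.IsQuasiSeparatedSp X := by
  have hsep := isSeparatedMor_of_isAffineMor hX hX₀ π hπ
  refine Groth.Agent.S9921.repWith_diag_of_isEqLocus @QuasiCompact (fun {T} a b => ?_)
  obtain ⟨E₀, e₀, he₀⟩ := exists_isEqLocus hX₀.diag (a ≫ π) (b ≫ π)
  have hq₀ : QuasiCompact e₀.left := Groth.Agent.S9921.property_of_isEqLocus h₀ he₀
  obtain ⟨E₁, e₁, he₁⟩ := exists_isEqLocus hX.diag ((AlgSp.yon S).map e₀ ≫ a) ((AlgSp.yon S).map e₀ ≫ b)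
  have hci : IsClosedImmersion e₁.left :=
    Groth.Agent.S9904.IsEqLocus.property_of_repWith π hsep
      (by rw [Category.assoc, Category.assoc]; exact he₀.eq) he₁
  have : Mono e₀ := he₀.1
  have : Mono e₁ := he₁.1
  refine ⟨E₁, e₁ ≫ e₀, ⟨inferInstance, fun T' t => ?_⟩, ?_⟩
  · constructor
    · intro h
      have h' : (AlgSp.yon S).map t ≫ a ≫ π = (AlgSp.yon S).map t ≫ b ≫ π := by
        rw [← Category.assoc, h, Category.assoc]
      obtain ⟨t₀, rfl⟩ := (he₀.2 T' t).1 h'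
      have h'' : (AlgSp.yon S).map t₀ ≫ (AlgSp.yon S).map e₀ ≫ a =
          (AlgSp.yon S).map t₀ ≫ (AlgSp.yon S).map e₀ ≫ b := by
        rw [← Category.assoc, ← Functor.map_comp, h, Functor.map_comp, Category.assoc]
      obtain ⟨t₁, rfl⟩ := (he₁.2 T' t₀).1 h''
      exact ⟨t₁, (Category.assoc _ _ _).symm⟩
    · rintro ⟨t', rfl⟩
      rw [Functor.map_comp, Functor.map_comp, Category.assoc, Category.assoc, he₁.eq]
      simp only [Category.assoc]
  · rw [Over.comp_left]
    have : QuasiCompact e₁.left := inferInstance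
    infer_instance

attribute [local instance] IsCofiltered.isConnected in
/-- **Quasi-compact opens of a limit descend.** -/
theorem exists_open_descends [QuasiSeparatedSpace S] {I : Type u} [SmallCategory I] [IsCofiltered I]
    (D : I ⥤ AlgSp.Sp S) (hD : ∀ i, AlgSp.IsAlgSpace (D.obj i))
    (hDa : ∀ (i j : I) (φ : i ⟶ j), AlgSp.IsAffineMor (D.map φ))
    (hqc : ∀ i, AlgSp.IsQuasiCompactSp (D.obj i)) (hqs : ∀ i, AlgSp.IsQuasiSeparatedSp (D.obj i))
    (c : Cone D) (hc : IsLimit c)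
    (U : AlgSp.Sp S) (j : U ⟶ c.pt) (hj : AlgSp.RepWith @IsOpenImmersion j) (hU : AlgSp.IsQuasiCompactSp U) :
    ∃ (i : I) (Ui : AlgSp.Sp S) (ji : Ui ⟶ D.obj i) (q : U ⟶ Ui),
      AlgSp.RepWith @IsOpenImmersion ji ∧ AlgSp.IsQuasiCompactSp Ui ∧ IsPullback j q (c.π.app i) ji := by
  classical
  have hXalg : AlgSp.IsAlgSpace c.pt := isAlgSpace_limit D hD hDa c hc
  obtain ⟨i₀⟩ : Nonempty I := IsCofiltered.nonempty
  have hXqs : AlgSp.IsQuasiSeparatedSp c.pt :=
    isQuasiSeparatedSp_of_isAffineMor hXalg (hD i₀) (c.π.app i₀) (isAffineMor_π D hDa c hc i₀) (hqs i₀)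
  obtain ⟨K₀, u₀, hK₀, hue, hus⟩ := (Groth.Agent.S10180.result ⟨D.obj i₀, hD i₀⟩).1 (hqc i₀)
  change (AlgSp.yon S).obj K₀ ⟶ D.obj i₀ at u₀
  have hKrep : IsAffRep ((AlgSp.yon S).obj K₀) := ⟨K₀, hK₀, ⟨Iso.refl _⟩⟩
  have haff : ∀ l : Over i₀, IsAffRep ((pbFunctor D i₀ u₀).obj l) := fun l =>
    isAffRep_of_isPullback (IsPullback.of_hasPullback u₀ (D.map l.hom)) (hDa _ _ l.hom) hKrep
  obtain ⟨K, eK, cK, ε, -, ⟨hcK⟩, hK, hcKaff, hcomp⟩ :=
    exists_affine_model (pbFunctor D i₀ u₀) haff (pbCone D c i₀ u₀) (isLimitPbCone D c hc i₀ u₀)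
  -- the chart of the limit
  obtain ⟨p, hp⟩ : ∃ p : (AlgSp.yon S).obj cK.pt ⟶ c.pt, p = ε.hom ≫ pullback.snd u₀ (c.π.app i₀) :=
    ⟨_, rfl⟩
  have hpe : AlgSp.RepWith @Etale p := by
    rw [hp]
    exact ((AlgSp.RepWith @Etale).cancel_left_of_respectsIso _ _).2
      (MorphismProperty.of_isPullback (IsPullback.of_hasPullback u₀ (c.π.app i₀)) hue)
  have hps : AlgSp.RepWith @Surjective p := by
    rw [hp]
    exact ((AlgSp.RepWith @Surjective).cancel_left_of_respectsIso _ _).2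
      (MorphismProperty.of_isPullback (IsPullback.of_hasPullback u₀ (c.π.app i₀)) hus)
  -- the open set `|U|`
  obtain ⟨Uset, hUset⟩ : ∃ W : Set (AlgSp.Points c.pt), W = Set.range (AlgSp.Points.map j) := ⟨_, rfl⟩
  have hUo : IsOpen Uset := by rw [hUset]; exact isOpen_range_of_open j hj
  have hUc : IsCompact Uset := by
    have := Groth.Agent.S9917.compactSpace_points_of_isQuasiCompactSp hU
    rw [hUset]
    exact isCompact_range (AlgSp.Points.continuous_map j)
  have hpqc : AlgSp.IsQuasiCompactMor p :=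
    Groth.Agent.S9920.isQuasiCompactMor_of_qc_qs (AlgSp.IsAlgSpace.yon_obj cK.pt) hXalg p
      (qcqs_yon_of_isAffine cK.pt hcKaff).1 hXqs
  have hpre_c : IsCompact (AlgSp.Points.map p ⁻¹' Uset) :=
    Groth.Agent.S9913.isCompact_preimage_of_isQuasiCompactMor hXalg p hpqc Uset hUo hUc
  let UK : cK.pt.left.Opens := ⟨AlgSp.Points.ofPt p ⁻¹' Uset, hUo.preimage (AlgSp.Points.continuous_ofPt p)⟩
  have hUKc : IsCompact (UK : Set cK.pt.left) := by
    have h1 : (UK : Set cK.pt.left) = (AlgSp.Points.schemeHomeo cK.pt) ⁻¹' (AlgSp.Points.map p ⁻¹' Uset) := by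
      ext y
      change AlgSp.Points.ofPt p y ∈ Uset ↔ AlgSp.Points.map p (AlgSp.Points.ofScheme cK.pt y) ∈ Uset
      rw [AlgSp.Points.ofPt_eq_map_ofScheme]
    rw [h1]
    exact (AlgSp.Points.schemeHomeo cK.pt).isCompact_preimage.2 hpre_c
  -- descend `UK` to a stage
  have hKaffI : ∀ l, IsAffine ((K ⋙ Over.forget S).obj l) := hK
  have : ∀ {a b : Over i₀} (f : a ⟶ b), IsAffineHom ((K ⋙ Over.forget S).map f) := fun f => inferInstance
  obtain ⟨l, V, hVc, hV⟩ := exists_preimage_eq (K ⋙ Over.forget S) ((Over.forget S).mapCone cK) hcK UK hUKc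
  change (K.obj l).left.Opens at V
  obtain ⟨pl, hpl⟩ : ∃ pl : (AlgSp.yon S).obj (K.obj l) ⟶ D.obj l.left,
      pl = eK.hom.app l ≫ pullback.snd u₀ (D.map l.hom) := ⟨_, rfl⟩
  have hple : AlgSp.RepWith @Etale pl := by
    rw [hpl]
    exact ((AlgSp.RepWith @Etale).cancel_left_of_respectsIso _ _).2
      (MorphismProperty.of_isPullback (IsPullback.of_hasPullback u₀ (D.map l.hom)) hue)
  have hsq : IsPullback ((AlgSp.yon S).map (cK.π.app l)) p pl (c.π.app l.left) := by
    have h0 := isPullback_pbCone_π D c i₀ u₀ l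
    rw [hp, hpl]
    refine IsPullback.of_iso h0 ε.symm (eK.app l).symm (Iso.refl _) (Iso.refl _) ?_ (by simp) (by simp) (by simp)
    rw [Iso.symm_hom, Iso.symm_hom, Iso.eq_inv_comp, ← Category.assoc, hcomp l]
    simp
  have hR1 : p ≫ c.π.app l.left = (AlgSp.yon S).map (cK.π.app l) ≫ pl := hsq.w.symm
  obtain ⟨Ω, hΩdef⟩ : ∃ Ω : Set (AlgSp.Points (D.obj l.left)), Ω = AlgSp.Points.ofPt pl '' (V : Set (K.obj l).left) :=
    ⟨_, rfl⟩
  have hΩ : IsOpen Ω := by
    rw [hΩdef]; exact Groth.Agent.S10176.isOpenMap_ofPt pl hple _ V.2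
  have hVmem : ∀ y : cK.pt.left, (cK.π.app l).left y ∈ V ↔ AlgSp.Points.ofPt p y ∈ Uset := by
    intro y
    have := congrArg (fun W : cK.pt.left.Opens => y ∈ W) hV
    exact (iff_of_eq this)
  have hpre : AlgSp.Points.map (c.π.app l.left) ⁻¹' Ω = Uset := by
    ext ξ
    constructor
    · intro hξ
      rw [hΩdef] at hξ
      obtain ⟨z, hz, hzξ⟩ := hξ
      obtain ⟨y', hy'1, hy'2⟩ := Groth.Agent.S10175.exists_point_of_isPullback hsq
        (AlgSp.Points.ofScheme (K.obj l) z) ξ (by rw [← AlgSp.Points.ofPt_eq_map_ofScheme]; exact hzξ)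
      obtain ⟨y, rfl⟩ := (AlgSp.Points.schemeEquiv cK.pt).surjective y'
      have h1 : (cK.π.app l).left y = z := by
        have h2 := congrArg (AlgSp.Points.toScheme (K.obj l)) hy'1
        rw [AlgSp.Points.toScheme_ofScheme] at h2
        rw [← h2]
        change _ = AlgSp.Points.toScheme (K.obj l) (AlgSp.Points.map _ (AlgSp.Points.ofPt (𝟙 _) y))
        rw [AlgSp.Points.map_ofPt, Category.id_comp, AlgSp.Points.toScheme_ofPt]
        rfl
      have h3 : AlgSp.Points.ofPt p y ∈ Uset := (hVmem y).1 (h1 ▸ hz)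
      rw [AlgSp.Points.ofPt_eq_map_ofScheme] at h3
      rw [← hy'2]
      exact h3
    · intro hξ
      obtain ⟨y, rfl⟩ := Groth.Agent.S10177.surjective_ofPt p hps ξ
      have hy : (cK.π.app l).left y ∈ V := (hVmem y).2 hξ
      rw [hΩdef]
      refine ⟨_, hy, ?_⟩
      rw [AlgSp.Points.map_ofPt, hR1, Groth.Agent.S10509.ofPt_yon_map_comp]
      rfl
  -- the open subspace of `X_l`
  have hUl := isAlgSpace_obj (hD l.left) hΩ
  have hjl := repWith_incl (X := D.obj l.left) hΩ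
  have hr := range_map_incl (X := D.obj l.left) Ω
  have sq := IsPullback.of_hasPullback (c.π.app l.left) (incl (D.obj l.left) Ω)
  have hfst : AlgSp.RepWith @IsOpenImmersion (pullback.fst (c.π.app l.left) (incl (D.obj l.left) Ω)) :=
    MorphismProperty.of_isPullback (P := AlgSp.RepWith @IsOpenImmersion) sq.flip hjl
  have hrange : Set.range (AlgSp.Points.map j) =
      Set.range (AlgSp.Points.map (pullback.fst (c.π.app l.left) (incl (D.obj l.left) Ω))) := by
    rw [range_map_fst_of_isPullback sq, hr, hpre, hUset]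
  obtain ⟨e, he⟩ := iso_of_range_eq j hj _ hfst hrange
  refine ⟨l.left, obj (D.obj l.left) Ω, incl (D.obj l.left) Ω, e.hom ≫ pullback.snd _ _, hjl, ?_, ?_⟩
  · -- quasi-compactness
    let Vo : Over S := Over.mk (V.ι ≫ (K.obj l).hom)
    let ιV : Vo ⟶ K.obj l := Over.homMk V.ι rfl
    have ha : AlgSp.RepWith @Etale ((AlgSp.yon S).map ιV ≫ pl) :=
      MorphismProperty.comp_mem _ _ _
        ((AlgSp.repWith_yon_map_iff _ _).2 (show Etale V.ι from inferInstance)) hple
    have himage : Set.range (AlgSp.Points.map (incl (D.obj l.left) Ω)) =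
        Set.range (AlgSp.Points.ofPt ((AlgSp.yon S).map ιV ≫ pl)) := by
      rw [hr, hΩdef]
      ext x
      constructor
      · rintro ⟨z, hz, rfl⟩
        exact ⟨⟨z, hz⟩, by rw [Groth.Agent.S10509.ofPt_yon_map_comp]; rfl⟩
      · rintro ⟨z, rfl⟩
        exact ⟨V.ι z, z.2, by rw [Groth.Agent.S10509.ofPt_yon_map_comp]; rfl⟩
    obtain ⟨a', -, ha'e, ha's, -⟩ := Groth.Agent.S10196.result (X := ⟨D.obj l.left, hD l.left⟩)
      (X' := ⟨obj (D.obj l.left) Ω, hUl⟩) ((AlgSp.yon S).map ιV ≫ pl) ha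
      (ObjectProperty.homMk (incl (D.obj l.left) Ω)) hjl himage
    exact ⟨Vo, a', ha'e, ha's, isCompact_iff_compactSpace.1 hVc⟩
  · refine IsPullback.of_iso sq e.symm (Iso.refl _) (Iso.refl _) (Iso.refl _) ?_ ?_ ?_ ?_
    · rw [Iso.refl_hom, Category.comp_id, Iso.symm_hom]
      exact (Iso.eq_inv_comp e).2 he
    · rw [Iso.refl_hom, Category.comp_id, Iso.symm_hom, Iso.inv_hom_id_assoc]
    · simp
    · simp

end Groth.Agent.R2.H44.OpenDesc
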