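import Mathlib
import Groth.Agent.R2.H44OpenDesc
import Groth.Agent.S10197
import Groth.Agent.S9917

/-!
# If a limit of algebraic spaces is a scheme, so is a stage (helper44)

Namespace `Groth.Agent.R2.H44.SchemeLim`.

* `exists_chart_system`: the system of affine étale charts `K_l = K₀ ×_{X_{i₀}} X_l` of a limit `X = lim X_i` with
  affine transition maps, its limit, and the cartesian squares relating them.
* `exists_cover_descends`: an open of `|X_l|` whose inverse image in `|X|` is everything has inverse image everything in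
  some `|X_{l'}|`.
* `exists_affine_open_descends`: an affine open of the limit is the inverse image of an affine open of a stage.
* `isRepresentable_of_open_cover`: an algebraic space covered by open subspaces which are schemes is a scheme.
* `exists_isRepresentable_of_limit`.
-/

set_option autoImplicit false
set_option backward.isDefEq.respectTransparency false
universe u

open CategoryTheory CategoryTheory.Limits AlgebraicGeometry

namespace Groth.Agent.R2.H44.SchemeLim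

open Groth.Agent.R2.H44.LimSp Groth.Agent.R2.H44.LimIso Groth.Agent.R2.H44.LimDesc Groth.Agent.R2.H44.SepLim
  Groth.Agent.R2.H44.OpenDesc Groth.Agent.R2.H44.LimAffine Groth.Agent.Lib.Helper12.OpenSub Groth.Agent.S9900

variable {S : Scheme.{u}}

attribute [local instance] IsCofiltered.isConnected in
/-- The system of affine charts of a limit of quasi-compact algebraic spaces with affine transition maps. -/
theorem exists_chart_system {I : Type u} [SmallCategory I] [IsCofiltered I]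
    (D : I ⥤ AlgSp.Sp S) (hD : ∀ i, AlgSp.IsAlgSpace (D.obj i))
    (hDa : ∀ (i j : I) (φ : i ⟶ j), AlgSp.IsAffineMor (D.map φ))
    (hqc : ∀ i, AlgSp.IsQuasiCompactSp (D.obj i)) (c : Cone D) (hc : IsLimit c) (i₀ : I) :
    ∃ (K : Over i₀ ⥤ Over S) (cK : Cone K) (p : ∀ l, (AlgSp.yon S).obj (K.obj l) ⟶ D.obj l.left)
      (p' : (AlgSp.yon S).obj cK.pt ⟶ c.pt),
      Nonempty (IsLimit ((Over.forget S).mapCone cK)) ∧ (∀ l, IsAffine (K.obj l).left) ∧ IsAffine cK.pt.left ∧
      (∀ l, AlgSp.RepWith @Etale (p l) ∧ AlgSp.RepWith @Surjective (p l)) ∧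
      AlgSp.RepWith @Etale p' ∧ AlgSp.RepWith @Surjective p' ∧
      (∀ l, IsPullback ((AlgSp.yon S).map (cK.π.app l)) p' (p l) (c.π.app l.left)) ∧
      (∀ {l l' : Over i₀} (f : l ⟶ l'), IsPullback ((AlgSp.yon S).map (K.map f)) (p l) (p l') (D.map f.left)) := by
  classical
  obtain ⟨K₀, u₀, hK₀, hue, hus⟩ := (Groth.Agent.S10180.result ⟨D.obj i₀, hD i₀⟩).1 (hqc i₀)
  change (AlgSp.yon S).obj K₀ ⟶ D.obj i₀ at u₀
  have hKrep : IsAffRep ((AlgSp.yon S).obj K₀) := ⟨K₀, hK₀, ⟨Iso.refl _⟩⟩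
  have haff : ∀ l : Over i₀, IsAffRep ((pbFunctor D i₀ u₀).obj l) := fun l =>
    isAffRep_of_isPullback (IsPullback.of_hasPullback u₀ (D.map l.hom)) (hDa _ _ l.hom) hKrep
  obtain ⟨K, eK, cK, ε, -, ⟨hcK⟩, hK, hcKaff, hcomp⟩ :=
    exists_affine_model (pbFunctor D i₀ u₀) haff (pbCone D c i₀ u₀) (isLimitPbCone D c hc i₀ u₀)
  refine ⟨K, cK, fun l => eK.hom.app l ≫ pullback.snd u₀ (D.map l.hom), ε.hom ≫ pullback.snd u₀ (c.π.app i₀),
    ⟨hcK⟩, hK, hcKaff, fun l => ⟨?_, ?_⟩, ?_, ?_, fun l => ?_, fun {l l'} f => ?_⟩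
  · exact ((AlgSp.RepWith @Etale).cancel_left_of_respectsIso _ _).2
      (MorphismProperty.of_isPullback (IsPullback.of_hasPullback u₀ (D.map l.hom)) hue)
  · exact ((AlgSp.RepWith @Surjective).cancel_left_of_respectsIso _ _).2
      (MorphismProperty.of_isPullback (IsPullback.of_hasPullback u₀ (D.map l.hom)) hus)
  · exact ((AlgSp.RepWith @Etale).cancel_left_of_respectsIso _ _).2
      (MorphismProperty.of_isPullback (IsPullback.of_hasPullback u₀ (c.π.app i₀)) hue)
  · exact ((AlgSp.RepWith @Surjective).cancel_left_of_respectsIso _ _).2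
      (MorphismProperty.of_isPullback (IsPullback.of_hasPullback u₀ (c.π.app i₀)) hus)
  · have h0 := isPullback_pbCone_π D c i₀ u₀ l
    refine IsPullback.of_iso h0 ε.symm (eK.app l).symm (Iso.refl _) (Iso.refl _) ?_ (by simp) (by simp) (by simp)
    rw [Iso.symm_hom, Iso.symm_hom, Iso.eq_inv_comp, ← Category.assoc, hcomp l]
    simp
  · have h0 := isPullback_pbFunctor_map D i₀ u₀ f
    refine IsPullback.of_iso h0 (eK.app l).symm (eK.app l').symm (Iso.refl _) (Iso.refl _) ?_ (by simp)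
      (by simp) (by simp)
    exact eK.inv.naturality f

/-- An open of `|X_l|` whose inverse image in the limit is everything has inverse image everything at some stage. -/
theorem exists_cover_descends {I : Type u} [SmallCategory I] [IsCofiltered I]
    (D : I ⥤ AlgSp.Sp S) (hD : ∀ i, AlgSp.IsAlgSpace (D.obj i))
    (hDa : ∀ (i j : I) (φ : i ⟶ j), AlgSp.IsAffineMor (D.map φ))
    (hqc : ∀ i, AlgSp.IsQuasiCompactSp (D.obj i)) (c : Cone D) (hc : IsLimit c) (l : I)
    (Ω : Set (AlgSp.Points (D.obj l))) (hΩ : IsOpen Ω)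
    (h : AlgSp.Points.map (c.π.app l) ⁻¹' Ω = Set.univ) :
    ∃ (l' : I) (φ : l' ⟶ l), AlgSp.Points.map (D.map φ) ⁻¹' Ω = Set.univ := by
  classical
  obtain ⟨K, cK, p, p', ⟨hcK⟩, hK, hcKaff, hp, hp'e, hp's, hsq, hsqK⟩ := exists_chart_system D hD hDa hqc c hc l
  let l₀ : Over l := Over.mk (𝟙 l)
  let V : (K.obj l₀).left.Opens := ⟨AlgSp.Points.ofPt (p l₀) ⁻¹' Ω, hΩ.preimage (AlgSp.Points.continuous_ofPt _)⟩
  have hKaffI : ∀ m, IsAffine ((K ⋙ Over.forget S).obj m) := hK
  have : ∀ {a b : Over l} (f : a ⟶ b), IsAffineHom ((K ⋙ Over.forget S).map f) := fun f => inferInstance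
  have hVtop : ((Over.forget S).mapCone cK).π.app l₀ ⁻¹ᵁ V = ⊤ := by
    ext y
    simp only [TopologicalSpace.Opens.coe_top, Set.mem_univ, iff_true]
    change AlgSp.Points.ofPt (p l₀) ((cK.π.app l₀).left y) ∈ Ω
    have h1 : AlgSp.Points.ofPt (p l₀) ((cK.π.app l₀).left y) =
        AlgSp.Points.map (c.π.app l) (AlgSp.Points.ofPt p' y) := by
      rw [AlgSp.Points.map_ofPt, ← Groth.Agent.S10509.ofPt_yon_map_comp]
      exact congrArg (fun q => AlgSp.Points.ofPt q y) (hsq l₀).w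
    rw [h1]
    have : AlgSp.Points.ofPt p' y ∈ AlgSp.Points.map (c.π.app l) ⁻¹' Ω := h ▸ Set.mem_univ _
    exact this
  obtain ⟨m, f, hm⟩ := exists_map_eq_top (K ⋙ Over.forget S) ((Over.forget S).mapCone cK) hcK V hVtop
  refine ⟨m.left, m.hom, ?_⟩
  rw [Set.eq_univ_iff_forall]
  intro ξ
  obtain ⟨z, rfl⟩ := Groth.Agent.S10177.surjective_ofPt (p m) (hp m).2 ξ
  have hz : (K.map f).left z ∈ V := by
    have := congrArg (fun W : ((K ⋙ Over.forget S).obj m).Opens => z ∈ W) hm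
    exact (iff_of_eq this).2 trivial
  have hfl : f.left = m.hom := by
    have := Over.w f
    simpa [l₀] using this
  change AlgSp.Points.map (D.map m.hom) (AlgSp.Points.ofPt (p m) z) ∈ Ω
  rw [AlgSp.Points.map_ofPt, ← hfl, ← (hsqK f).w, Groth.Agent.S10509.ofPt_yon_map_comp]
  exact hz

/-- subobjects of quasi-separated sheaves are quasi-separated -/
theorem isQuasiSeparatedSp_of_mono {U X : AlgSp.Sp S} (j : U ⟶ X) [Mono j]
    (hX : AlgSp.IsQuasiSeparatedSp X) : AlgSp.IsQuasiSeparatedSp U := by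
  refine Groth.Agent.S9921.repWith_diag_of_isEqLocus @QuasiCompact (fun {T} a b => ?_)
  obtain ⟨E, e, he⟩ := exists_isEqLocus hX.1 (a ≫ j) (b ≫ j)
  refine ⟨E, e, ⟨he.1, fun T' t => ?_⟩, Groth.Agent.S9921.property_of_isEqLocus hX he⟩
  rw [← he.2 T' t, ← Category.assoc, ← Category.assoc, cancel_mono]

/-- An affine open of the limit is the inverse image of an affine open of a stage. -/
theorem exists_affine_open_descends [QuasiSeparatedSpace S] {I : Type u} [SmallCategory I] [IsCofiltered I]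
    (D : I ⥤ AlgSp.Sp S) (hD : ∀ i, AlgSp.IsAlgSpace (D.obj i))
    (hDa : ∀ (i j : I) (φ : i ⟶ j), AlgSp.IsAffineMor (D.map φ))
    (hqc : ∀ i, AlgSp.IsQuasiCompactSp (D.obj i)) (hqs : ∀ i, AlgSp.IsQuasiSeparatedSp (D.obj i))
    (c : Cone D) (hc : IsLimit c) (T : Over S) (hT : IsAffine T.left) (j : (AlgSp.yon S).obj T ⟶ c.pt)
    (hj : AlgSp.RepWith @IsOpenImmersion j) :
    ∃ (m : I) (U' : AlgSp.Sp S) (j' : U' ⟶ D.obj m), AlgSp.RepWith @IsOpenImmersion j' ∧ IsAffRep U' ∧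
      AlgSp.Points.map (c.π.app m) ⁻¹' Set.range (AlgSp.Points.map j') = Set.range (AlgSp.Points.map j) := by
  classical
  obtain ⟨i, Ui, ji, q, hji, hUiqc, sq⟩ := exists_open_descends D hD hDa hqc hqs c hc _ j hj
    (qcqs_yon_of_isAffine T hT).1
  have hUialg : AlgSp.IsAlgSpace Ui := isAlgSpace_of_representable ji hji.1 (hD i)
  have hmono : Mono ji := Groth.Agent.Lib.Helper12.LargestOpen.mono_of_open ji hji
  have hUiqs : AlgSp.IsQuasiSeparatedSp Ui := isQuasiSeparatedSp_of_mono ji (hqs i)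
  have h𝔻alg : ∀ l : Over i, AlgSp.IsAlgSpace ((pbFunctor D i ji).obj l) := fun l =>
    Groth.Agent.S9874.result S (D.obj i) (hD i).diag ⟨_, hUialg⟩ ⟨_, hD l.left⟩ ji (D.map l.hom) _
      (pullback.fst _ _) (pullback.snd _ _) (IsPullback.of_hasPullback _ _)
  have h𝔻qcqs : ∀ l : Over i, AlgSp.IsQuasiCompactSp ((pbFunctor D i ji).obj l) ∧
      AlgSp.IsQuasiSeparatedSp ((pbFunctor D i ji).obj l) := fun l =>
    Groth.Agent.S9921.result (X := ⟨_, hUialg⟩) (Y := ⟨_, hD i⟩) (Z := ⟨_, hD l.left⟩) (P := ⟨_, h𝔻alg l⟩)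
      (ObjectProperty.homMk ji) (ObjectProperty.homMk (D.map l.hom))
      (ObjectProperty.homMk (pullback.fst ji (D.map l.hom)))
      (ObjectProperty.homMk (pullback.snd ji (D.map l.hom))) (IsPullback.of_hasPullback _ _) ⟨hUiqc, hUiqs⟩
      ⟨hqc i, hqs i⟩ ⟨hqc _, hqs _⟩
  have h𝔻aff : ∀ (l l' : Over i) (ψ : l ⟶ l'), AlgSp.IsAffineMor ((pbFunctor D i ji).map ψ) := fun l l' ψ =>
    Groth.Agent.S9944.isAffineMor_of_isPullback (isPullback_pbFunctor_map D i ji ψ).flip (hDa _ _ _)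
  obtain ⟨m, T', hT', ⟨e'⟩⟩ := exists_affine_of_limit (pbFunctor D i ji) h𝔻alg h𝔻aff (fun l => (h𝔻qcqs l).1)
    (fun l => (h𝔻qcqs l).2) (pbCone D c i ji) (isLimitPbCone D c hc i ji) T hT sq.flip.isoPullback
  refine ⟨m.left, pullback ji (D.map m.hom), pullback.snd ji (D.map m.hom), ?_, ⟨T', hT', ⟨e'⟩⟩, ?_⟩
  · exact MorphismProperty.of_isPullback (IsPullback.of_hasPullback ji (D.map m.hom)) hji
  · rw [range_map_fst_of_isPullback (IsPullback.of_hasPullback ji (D.map m.hom)).flip,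
      range_map_fst_of_isPullback sq, ← Set.preimage_comp]
    congr 1
    funext x
    rw [Function.comp_apply, ← AlgSp.Points.map_comp, c.w]

/-- An algebraic space covered by open subspaces which are schemes is a scheme. -/
theorem isRepresentable_of_open_cover (X : AlgSp.Space S) {A : Type*} (U : A → AlgSp.Sp S)
    (j : ∀ a, U a ⟶ X.obj) (hj : ∀ a, AlgSp.RepWith @IsOpenImmersion (j a))
    (hrep : ∀ a, (U a).obj.IsRepresentable)
    (hcov : ∀ x : AlgSp.Points X.obj, ∃ a, x ∈ Set.range (AlgSp.Points.map (j a))) :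
    X.obj.obj.IsRepresentable := by
  obtain ⟨X', j', hj', hX'rep, huniv⟩ := Groth.Agent.S10197.result X
  have hUalg : ∀ a, AlgSp.IsAlgSpace (U a) := fun a => isAlgSpace_of_representable (j a) (hj a).1 X.property
  have hfac : ∀ a, ∃ k : U a ⟶ X'.obj, k ≫ j'.hom = j a := fun a => by
    obtain ⟨k, hk⟩ := huniv ⟨U a, hUalg a⟩ (ObjectProperty.homMk (j a)) (hj a) (hrep a)
    exact ⟨k.hom, congrArg (fun m => m.hom) hk⟩
  have hsub : Set.range (AlgSp.Points.map (𝟙 X.obj)) ⊆ Set.range (AlgSp.Points.map j'.hom) := by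
    rintro x -
    obtain ⟨a, y, rfl⟩ := hcov x
    obtain ⟨k, hk⟩ := hfac a
    exact ⟨AlgSp.Points.map k y, by rw [← AlgSp.Points.map_comp, hk]⟩
  obtain ⟨g, hg⟩ := (Groth.Agent.S10194.exists_factor_iff j'.hom hj' (𝟙 X.obj)).2 hsub
  have : Mono j'.hom := Groth.Agent.Lib.Helper12.LargestOpen.mono_of_open j'.hom hj'
  have : IsSplitEpi j'.hom := IsSplitEpi.mk' ⟨g, hg⟩
  have : IsIso j'.hom := isIso_of_mono_of_isSplitEpi j'.hom
  obtain ⟨T, ⟨r⟩⟩ := hX'rep
  exact ⟨T, ⟨AlgSp.representableByOfIso (AlgSp.isoOfRepresentableBy r ≪≫ asIso j'.hom)⟩⟩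

attribute [local instance] IsCofiltered.isConnected in
/-- If the limit of a cofiltered system of quasi-compact, quasi-separated algebraic spaces with affine transition maps is
a scheme, then some stage is a scheme. -/
theorem exists_isRepresentable_of_limit [QuasiSeparatedSpace S] {I : Type u} [SmallCategory I] [IsCofiltered I]
    (D : I ⥤ AlgSp.Sp S) (hD : ∀ i, AlgSp.IsAlgSpace (D.obj i))
    (hDa : ∀ (i j : I) (φ : i ⟶ j), AlgSp.IsAffineMor (D.map φ))
    (hqc : ∀ i, AlgSp.IsQuasiCompactSp (D.obj i)) (hqs : ∀ i, AlgSp.IsQuasiSeparatedSp (D.obj i))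
    (c : Cone D) (hc : IsLimit c)
    (hX : c.pt.obj.IsRepresentable) : ∃ i, (D.obj i).obj.IsRepresentable := by
  classical
  obtain ⟨T, ⟨r⟩⟩ := hX
  let e : (AlgSp.yon S).obj T ≅ c.pt := AlgSp.isoOfRepresentableBy r
  obtain ⟨i₀⟩ : Nonempty I := IsCofiltered.nonempty
  have hcqc : AlgSp.IsQuasiCompactSp c.pt := by
    obtain ⟨K, cK, p, p', -, -, hcKaff, -, hp'e, hp's, -, -⟩ := exists_chart_system D hD hDa hqc c hc i₀
    exact ⟨cK.pt, p', hp'e, hp's, inferInstance⟩
  have hTqc : AlgSp.IsQuasiCompactSp ((AlgSp.yon S).obj T) :=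
    Groth.Agent.R2.H44.LimAffMor.isQuasiCompactSp_of_iso e.symm hcqc
  have : CompactSpace (AlgSp.Points ((AlgSp.yon S).obj T)) :=
    Groth.Agent.S9917.compactSpace_points_of_isQuasiCompactSp hTqc
  have : CompactSpace T.left := (AlgSp.Points.schemeHomeo T).symm.compactSpace
  let 𝒱 := T.left.affineCover.finiteSubcover
  let Ta : 𝒱.I₀ → Over S := fun a => Over.mk (𝒱.f a ≫ T.hom)
  let ia : ∀ a, Ta a ⟶ T := fun a => Over.homMk (𝒱.f a)
  let ja : ∀ a, (AlgSp.yon S).obj (Ta a) ⟶ c.pt := fun a => (AlgSp.yon S).map (ia a) ≫ e.hom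
  have hTa : ∀ a, IsAffine (Ta a).left := fun a => by
    change IsAffine (T.left.affineCover.X _)
    infer_instance
  have hja : ∀ a, AlgSp.RepWith @IsOpenImmersion (ja a) := fun a =>
    MorphismProperty.RespectsIso.postcomp _ _ _ ((AlgSp.repWith_yon_map_iff _ _).2 (by
      change IsOpenImmersion (𝒱.f a)
      infer_instance))
  have hdesc := fun a => exists_affine_open_descends D hD hDa hqc hqs c hc (Ta a) (hTa a) (ja a) (hja a)
  choose m U' j' hj' hU'aff hU'r using hdesc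
  obtain ⟨l, hl⟩ := IsCofiltered.inf_objs_exists (Finset.univ.image m)
  have φ : ∀ a, l ⟶ m a := fun a => (hl (Finset.mem_image_of_mem _ (Finset.mem_univ a))).some
  let Ω : Set (AlgSp.Points (D.obj l)) :=
    ⋃ a, AlgSp.Points.map (D.map (φ a)) ⁻¹' Set.range (AlgSp.Points.map (j' a))
  have hΩ : IsOpen Ω := isOpen_iUnion fun a =>
    (isOpen_range_of_open _ (hj' a)).preimage (AlgSp.Points.continuous_map _)
  have hΩtop : AlgSp.Points.map (c.π.app l) ⁻¹' Ω = Set.univ := by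
    rw [Set.eq_univ_iff_forall]
    intro x
    obtain ⟨x', rfl⟩ : ∃ x', AlgSp.Points.map e.hom x' = x :=
      ⟨AlgSp.Points.map e.inv x, by rw [← AlgSp.Points.map_comp, e.inv_hom_id, AlgSp.Points.map_id]⟩
    obtain ⟨t, rfl⟩ := (AlgSp.Points.schemeHomeo T).surjective x'
    obtain ⟨a, s, hs⟩ := 𝒱.exists_eq t
    refine Set.mem_iUnion.2 ⟨a, ?_⟩
    change AlgSp.Points.map (D.map (φ a)) (AlgSp.Points.map (c.π.app l) _) ∈ Set.range _
    rw [← AlgSp.Points.map_comp, c.w]
    have h1 : AlgSp.Points.map e.hom (AlgSp.Points.schemeHomeo T t) ∈ Set.range (AlgSp.Points.map (ja a)) := by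
      refine ⟨AlgSp.Points.schemeHomeo (Ta a) s, ?_⟩
      rw [AlgSp.Points.map_comp, AlgSp.Points.map_yon_map_apply]
      congr 2
    rw [← hU'r a] at h1
    exact h1
  obtain ⟨l', ψ, hψ⟩ := exists_cover_descends D hD hDa hqc c hc l Ω hΩ hΩtop
  refine ⟨l', ?_⟩
  refine isRepresentable_of_open_cover ⟨D.obj l', hD l'⟩ (fun a => pullback (j' a) (D.map (ψ ≫ φ a)))
    (fun a => pullback.snd _ _)
    (fun a => MorphismProperty.of_isPullback (IsPullback.of_hasPullback _ _) (hj' a)) (fun a => ?_) (fun x => ?_)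
  · obtain ⟨W, hW, ⟨eW⟩⟩ := isAffRep_of_isPullback (IsPullback.of_hasPullback (j' a) (D.map (ψ ≫ φ a)))
      (hDa _ _ _) (hU'aff a)
    exact ⟨W, ⟨AlgSp.representableByOfIso eW⟩⟩
  · have hx : x ∈ AlgSp.Points.map (D.map ψ) ⁻¹' Ω := hψ ▸ Set.mem_univ x
    obtain ⟨a, ha⟩ := Set.mem_iUnion.1 hx
    refine ⟨a, ?_⟩
    rw [range_map_fst_of_isPullback (IsPullback.of_hasPullback (j' a) (D.map (ψ ≫ φ a))).flip]
    change AlgSp.Points.map (D.map (ψ ≫ φ a)) x ∈ Set.range (AlgSp.Points.map (j' a))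
    rw [D.map_comp, AlgSp.Points.map_comp]
    exact ha

end Groth.Agent.R2.H44.SchemeLim
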