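import Mathlib
import Groth.Agent.R2.H44LimIso
import Groth.Agent.R2.H44FppfLocal
import Groth.Agent.S9884

/-!
# Closed immersions into a limit are eventually closed immersions into the terms (helper44)

Namespace `Groth.Agent.R2.H44.LimCI2`.

* `eventually_isClosedImmersion`: scheme-level (affine) statement.
* `repWith_closedImmersion_descend`: descent of "representable closed immersion" along a locally surjective map.
-/

set_option autoImplicit false
set_option backward.isDefEq.respectTransparency false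
universe u

open CategoryTheory CategoryTheory.Limits AlgebraicGeometry

namespace Groth.Agent.R2.H44.LimCI2

/-- Let `c.pt = lim K` be a cofiltered limit of affine schemes and `v : V ⟶ c.pt` a closed immersion such that
`V ⟶ K j₁` is locally of finite type. Then `V ⟶ K j` is a closed immersion for all `j` mapping to some `j₀`. -/
theorem eventually_isClosedImmersion {J : Type u} [SmallCategory J] [IsCofiltered J]
    (K : J ⥤ Scheme.{u}) [∀ j, IsAffine (K.obj j)] (c : Cone K) (hc : IsLimit c) {V : Scheme.{u}}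
    (v : V ⟶ c.pt) [IsClosedImmersion v] (j₁ : J) [LocallyOfFiniteType (v ≫ c.π.app j₁)] :
    ∃ (j₀ : J) (_ : j₀ ⟶ j₁), ∀ (j : J) (_ : j ⟶ j₀), IsClosedImmersion (v ≫ c.π.app j) := by
  have : IsAffine c.pt := Scheme.isAffine_of_isLimit c hc
  have : ∀ j, IsAffine (((Functor.const J).obj c.pt).obj j) := fun _ => ‹IsAffine c.pt›
  have hV : IsAffine V := isAffine_of_isAffineHom v
  have hvs : Function.Surjective v.appTop := (IsClosedImmersion.isAffine_surjective_of_isAffine v).2
  let φ : Γ(K.obj j₁, ⊤) →+* Γ(V, ⊤) := (v ≫ c.π.app j₁).appTop.hom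
  have hft : φ.FiniteType :=
    (HasRingHomProperty.iff_of_isAffine (P := @LocallyOfFiniteType)).1 inferInstance
  algebraize [φ]
  obtain ⟨s, hs⟩ := (Algebra.FiniteType.out : (⊤ : Subalgebra Γ(K.obj j₁, ⊤) Γ(V, ⊤)).FG)
  -- a common index through which a finite set of sections factors
  have hfin : ∀ s : Finset Γ(V, ⊤), ∃ (j₀ : J) (_ : j₀ ⟶ j₁), ∀ x ∈ s,
      ∃ a : Γ(K.obj j₀, ⊤), (v ≫ c.π.app j₀).appTop a = x := by
    classical
    intro s
    induction s using Finset.induction_on with
    | empty => exact ⟨j₁, 𝟙 _, by simp⟩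
    | insert b s hb ih =>
      obtain ⟨j, f, hf⟩ := ih
      obtain ⟨a, rfl⟩ := hvs b
      obtain ⟨j', a', rfl⟩ := exists_appTop_π_eq_of_isAffine_of_isLimit K c hc a
      refine ⟨IsCofiltered.min j j', IsCofiltered.minToLeft j j' ≫ f, ?_⟩
      intro x hx
      rcases Finset.mem_insert.1 hx with rfl | hx
      · refine ⟨(K.map (IsCofiltered.minToRight j j')).appTop a', ?_⟩
        rw [← c.w (IsCofiltered.minToRight j j')]
        simp only [Scheme.Hom.comp_appTop, CommRingCat.comp_apply]
        rfl
      · obtain ⟨a, rfl⟩ := hf x hx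
        refine ⟨(K.map (IsCofiltered.minToLeft j j')).appTop a, ?_⟩
        rw [← c.w (IsCofiltered.minToLeft j j')]
        simp only [Scheme.Hom.comp_appTop, CommRingCat.comp_apply]
  obtain ⟨j₀, f₀, hj₀⟩ := hfin s
  have hsurj : Function.Surjective (v ≫ c.π.app j₀).appTop := by
    let R : Subalgebra Γ(K.obj j₁, ⊤) Γ(V, ⊤) :=
      { (v ≫ c.π.app j₀).appTop.hom.range.toSubsemiring with
        algebraMap_mem' := fun r => by
          refine ⟨(K.map f₀).appTop r, ?_⟩
          change (v ≫ c.π.app j₀).appTop ((K.map f₀).appTop r) = (v ≫ c.π.app j₁).appTop r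
          rw [← c.w f₀]
          simp only [Scheme.Hom.comp_appTop, CommRingCat.comp_apply] }
    have hR : Algebra.adjoin Γ(K.obj j₁, ⊤) (s : Set Γ(V, ⊤)) ≤ R :=
      Algebra.adjoin_le (fun x hx => hj₀ x hx)
    rw [hs] at hR
    intro b
    exact hR (Algebra.mem_top : b ∈ ⊤)
  refine ⟨j₀, f₀, fun j ψ => ?_⟩
  apply IsClosedImmersion.of_surjective_of_isAffine
  intro b
  obtain ⟨a, rfl⟩ := hsurj b
  refine ⟨(K.map ψ).appTop a, ?_⟩
  rw [← c.w ψ]
  simp only [Scheme.Hom.comp_appTop, CommRingCat.comp_apply]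

section Sp

open AlgSp

variable {S : Scheme.{u}}

/-- Descent of representable closed immersions along a locally surjective morphism of fppf sheaves. -/
theorem repWith_closedImmersion_descend {F G H Q : AlgSp.Sp S} (a : F ⟶ G) (ha : AlgSp.Representable a)
    (b : H ⟶ G) [Sheaf.IsLocallySurjective b] (b' : Q ⟶ F) (a' : Q ⟶ H) (sq : IsPullback b' a' a b)
    (h : AlgSp.RepWith @IsClosedImmersion a') : AlgSp.RepWith @IsClosedImmersion a := by
  have := Groth.Agent.R2.H44.FppfLocal.isClosedImmersion.{u}
  exact Groth.Agent.S9884.result S F G H a ha b Q b' a' sq @IsClosedImmersion h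

end Sp

end Groth.Agent.R2.H44.LimCI2
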