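import Mathlib
import Groth.Agent.R2.H44SchemeLim
import Groth.Agent.S10009
import Groth.Agent.S10191
import Groth.Agent.S9934
import Groth.Agent.S10174

/-!
# Immersions into a limit of algebraic spaces (helper44)

Namespace `Groth.Agent.R2.H44.ImmLim`.

* `exists_isCompact_isOpen`: compact subsets of `|X|` have compact open neighbourhoods inside any open.
* `isQuasiCompactSp_openSub`: the open subspace on a compact open is quasi-compact.
* `exists_factor_closed_qc_open`: an immersion from a quasi-compact space factors as a closed immersion into a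
  quasi-compact open subspace.
* `isQuasiCompactSp_of_isAffineMor`: the source of an affine morphism to a quasi-compact algebraic space is quasi-compact.
* `exists_open_descends'`: quasi-compact opens of a limit descend (stages only quasi-separated).
* `eventually_immersion`.
-/

set_option autoImplicit false
set_option backward.isDefEq.respectTransparency false
universe u

open CategoryTheory CategoryTheory.Limits AlgebraicGeometry

namespace Groth.Agent.R2.H44.ImmLim

open Groth.Agent.R2.H44.LimSp Groth.Agent.R2.H44.LimIso Groth.Agent.R2.H44.LimDesc Groth.Agent.R2.H44.SepLim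
  Groth.Agent.R2.H44.OpenDesc Groth.Agent.R2.H44.SchemeLim Groth.Agent.Lib.Helper12.OpenSub
  Groth.Agent.Lib.Helper12.LargestOpen Groth.Agent.Lib.Helper12

variable {S : Scheme.{u}}

/-- compact subsets of the space of points of an algebraic space have compact open neighbourhoods inside any open. -/
theorem exists_isCompact_isOpen {X : AlgSp.Sp S} (hX : AlgSp.IsAlgSpace X) {K W : Set (AlgSp.Points X)}
    (hK : IsCompact K) (hW : IsOpen W) (hKW : K ⊆ W) :
    ∃ U : Set (AlgSp.Points X), IsOpen U ∧ IsCompact U ∧ K ⊆ U ∧ U ⊆ W := by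
  classical
  obtain ⟨V, p, hpe, hps⟩ := hX.atlas
  have hsurj := Groth.Agent.S10177.surjective_ofPt p hps
  have hopen := Groth.Agent.S10176.isOpenMap_ofPt p hpe
  have hcont := AlgSp.Points.continuous_ofPt p
  have key : ∀ x : AlgSp.Points X, ∃ N : Set (AlgSp.Points X),
      x ∈ W → (IsOpen N ∧ IsCompact N ∧ x ∈ N ∧ N ⊆ W) := by
    intro x
    by_cases hx : x ∈ W
    · obtain ⟨v, rfl⟩ := hsurj x
      obtain ⟨_, ⟨A, hA, rfl⟩, hvA, hAW⟩ := V.left.isBasis_affineOpens.exists_subset_of_mem_open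
        (show v ∈ AlgSp.Points.ofPt p ⁻¹' W from hx) (hW.preimage hcont)
      refine ⟨AlgSp.Points.ofPt p '' (A : Set V.left), fun _ => ⟨hopen _ A.2, ?_, ⟨v, hvA, rfl⟩, ?_⟩⟩
      · exact (IsAffineOpen.isCompact hA).image hcont
      · rintro _ ⟨a, ha, rfl⟩
        exact hAW ha
    · exact ⟨∅, fun h => absurd h hx⟩
  choose N hN using key
  obtain ⟨t, htK, hKt⟩ := hK.elim_nhds_subcover N
    (fun x hx => (hN x (hKW hx)).1.mem_nhds (hN x (hKW hx)).2.2.1)
  exact ⟨⋃ x ∈ t, N x, isOpen_biUnion fun x hx => (hN x (hKW (htK x hx))).1,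
    t.isCompact_biUnion fun x hx => (hN x (hKW (htK x hx))).2.1, hKt,
    Set.iUnion₂_subset fun x hx => (hN x (hKW (htK x hx))).2.2.2⟩

/-- open immersions are open embeddings on points -/
theorem isOpenEmbedding_map_of_open {A Y : AlgSp.Sp S} (j : A ⟶ Y) (hj : AlgSp.RepWith @IsOpenImmersion j) :
    Topology.IsOpenEmbedding (AlgSp.Points.map j) :=
  Topology.IsOpenEmbedding.of_continuous_injective_isOpenMap (AlgSp.Points.continuous_map _)
    (injective_map_of_open j hj) (isOpenMap_map_of_open j hj)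

/-- the open subspace on a compact open is quasi-compact. -/
theorem isQuasiCompactSp_openSub {X : AlgSp.Sp S} (hX : AlgSp.IsAlgSpace X) {U : Set (AlgSp.Points X)}
    (hU : IsOpen U) (hUc : IsCompact U) : AlgSp.IsQuasiCompactSp (OpenSub.obj X U) := by
  rw [Groth.Agent.S10174.isQuasiCompactSp_iff (OpenSub.isAlgSpace_obj hX hU)]
  have hemb := (isOpenEmbedding_map_of_open _ (OpenSub.repWith_incl (X := X) hU)).isEmbedding
  rw [← isCompact_univ_iff, hemb.isCompact_iff, Set.image_univ, OpenSub.range_map_incl]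
  exact hUc

/-- an immersion from a quasi-compact space factors as a closed immersion into a quasi-compact open subspace. -/
theorem exists_factor_closed_qc_open {X Y : AlgSp.Sp S} (hX : AlgSp.IsAlgSpace X) (hY : AlgSp.IsAlgSpace Y)
    (hYqc : AlgSp.IsQuasiCompactSp Y) (y : Y ⟶ X) (hy : AlgSp.RepWith @IsImmersion y) :
    ∃ (U : AlgSp.Sp S) (j : U ⟶ X) (y' : Y ⟶ U), AlgSp.IsAlgSpace U ∧ AlgSp.RepWith @IsOpenImmersion j ∧
      AlgSp.IsQuasiCompactSp U ∧ AlgSp.RepWith @IsClosedImmersion y' ∧ y' ≫ j = y := by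
  obtain ⟨-, hlc⟩ := Groth.Agent.S10191.result (Z := ⟨Y, hY⟩) (X := ⟨X, hX⟩) (ObjectProperty.homMk y) hy
  change IsLocallyClosed (Set.range (AlgSp.Points.map y)) at hlc
  have : CompactSpace (AlgSp.Points Y) := (Groth.Agent.S10174.isQuasiCompactSp_iff hY).1 hYqc
  have hRc : IsCompact (Set.range (AlgSp.Points.map y)) := isCompact_range (AlgSp.Points.continuous_map y)
  obtain ⟨U, hUo, hUc, hRU, hUW⟩ := exists_isCompact_isOpen hX hRc hlc.isOpen_coborder subset_coborder
  have hUalg := OpenSub.isAlgSpace_obj hX hUo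
  have hincl := OpenSub.repWith_incl (X := X) hUo
  obtain ⟨y', hy'⟩ := (Groth.Agent.S10194.exists_factor_iff (OpenSub.incl X U) hincl y).2
    (by rw [OpenSub.range_map_incl]; exact hRU)
  have hy'imm : AlgSp.RepWith @IsImmersion y' :=
    MorphismProperty.of_isPullback (isPullback_id_of_mono y' (OpenSub.incl X U)) (hy'.symm ▸ hy)
  refine ⟨OpenSub.obj X U, OpenSub.incl X U, y', hUalg, hincl, isQuasiCompactSp_openSub hX hUo hUc, ?_, hy'⟩
  refine (Groth.Agent.S9934.result (Z := ⟨Y, hY⟩) (X := ⟨_, hUalg⟩) (ObjectProperty.homMk y') hy'imm).2 ?_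
  change IsClosed (Set.range (AlgSp.Points.map y'))
  have hr : Set.range (AlgSp.Points.map y') =
      AlgSp.Points.map (OpenSub.incl X U) ⁻¹' closure (Set.range (AlgSp.Points.map y)) := by
    ext w
    constructor
    · rintro ⟨q, rfl⟩
      apply subset_closure
      exact ⟨q, by rw [← hy', AlgSp.Points.map_comp]⟩
    · intro hw
      have hwU : AlgSp.Points.map (OpenSub.incl X U) w ∈ U :=
        (OpenSub.range_map_incl U).subset ⟨w, rfl⟩
      have hwR : AlgSp.Points.map (OpenSub.incl X U) w ∈ Set.range (AlgSp.Points.map y) := by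
        rw [← closure_inter_coborder (s := Set.range (AlgSp.Points.map y))]
        exact ⟨hw, hUW hwU⟩
      obtain ⟨q, hq⟩ := hwR
      refine ⟨q, injective_map_of_open _ hincl ?_⟩
      rw [← AlgSp.Points.map_comp, hy', hq]
  rw [hr]
  exact isClosed_closure.preimage (AlgSp.Points.continuous_map _)

/-- the source of an affine morphism to a quasi-compact algebraic space is quasi-compact. -/
theorem isQuasiCompactSp_of_isAffineMor {P W : AlgSp.Sp S} (hW : AlgSp.IsAlgSpace W) (f : P ⟶ W)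
    (hf : AlgSp.IsAffineMor f) (hWqc : AlgSp.IsQuasiCompactSp W) : AlgSp.IsQuasiCompactSp P := by
  obtain ⟨K, p, hK, hpe, hps⟩ := (Groth.Agent.S10180.result ⟨W, hW⟩).1 hWqc
  obtain ⟨Z, i, fst, sq, hZ⟩ := hf hK p
  exact ⟨Z, fst, MorphismProperty.of_isPullback sq.flip hpe, MorphismProperty.of_isPullback sq.flip hps,
    inferInstance⟩

/-- the restriction of a system of quasi-separated spaces with affine transition maps to a quasi-compact open of a stage
consists of quasi-compact, quasi-separated algebraic spaces with affine transition maps. -/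
theorem pbFunctor_props [QuasiSeparatedSpace S] {I : Type u} [SmallCategory I]
    (D : I ⥤ AlgSp.Sp S) (hD : ∀ i, AlgSp.IsAlgSpace (D.obj i))
    (hDa : ∀ (i j : I) (φ : i ⟶ j), AlgSp.IsAffineMor (D.map φ))
    (i : I) {W : AlgSp.Sp S} (j : W ⟶ D.obj i) (hj : AlgSp.RepWith @IsOpenImmersion j)
    (hWqc : AlgSp.IsQuasiCompactSp W) :
    (∀ l, AlgSp.IsAlgSpace ((pbFunctor D i j).obj l)) ∧
    (∀ (l l' : Over i) (ψ : l ⟶ l'), AlgSp.IsAffineMor ((pbFunctor D i j).map ψ)) ∧
    (∀ l, AlgSp.IsQuasiCompactSp ((pbFunctor D i j).obj l)) ∧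
    (∀ l : Over i, AlgSp.RepWith @IsOpenImmersion (pullback.snd j (D.map l.hom))) := by
  have hWalg : AlgSp.IsAlgSpace W := isAlgSpace_of_representable j hj.1 (hD i)
  refine ⟨fun l => ?_, fun l l' ψ => ?_, fun l => ?_, fun l => ?_⟩
  · exact Groth.Agent.S9874.result S (D.obj i) (hD i).diag ⟨_, hWalg⟩ ⟨_, hD l.left⟩ j (D.map l.hom) _
      (pullback.fst _ _) (pullback.snd _ _) (IsPullback.of_hasPullback _ _)
  · exact Groth.Agent.S9944.isAffineMor_of_isPullback (isPullback_pbFunctor_map D i j ψ).flip (hDa _ _ _)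
  · exact isQuasiCompactSp_of_isAffineMor hWalg (pullback.fst j (D.map l.hom))
      (Groth.Agent.S9944.isAffineMor_of_isPullback (IsPullback.of_hasPullback j (D.map l.hom)).flip (hDa _ _ _))
      hWqc
  · exact MorphismProperty.of_isPullback (IsPullback.of_hasPullback j (D.map l.hom)) hj

attribute [local instance] IsCofiltered.isConnected in
/-- **Quasi-compact opens of a limit descend**, the stages being only quasi-separated. -/
theorem exists_open_descends' [QuasiSeparatedSpace S] {I : Type u} [SmallCategory I] [IsCofiltered I]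
    (D : I ⥤ AlgSp.Sp S) (hD : ∀ i, AlgSp.IsAlgSpace (D.obj i))
    (hDa : ∀ (i j : I) (φ : i ⟶ j), AlgSp.IsAffineMor (D.map φ))
    (hqs : ∀ i, AlgSp.IsQuasiSeparatedSp (D.obj i))
    (c : Cone D) (hc : IsLimit c)
    (U : AlgSp.Sp S) (j : U ⟶ c.pt) (hj : AlgSp.RepWith @IsOpenImmersion j) (hU : AlgSp.IsQuasiCompactSp U) :
    ∃ (i : I) (Ui : AlgSp.Sp S) (ji : Ui ⟶ D.obj i) (q : U ⟶ Ui),
      AlgSp.RepWith @IsOpenImmersion ji ∧ AlgSp.IsQuasiCompactSp Ui ∧ IsPullback j q (c.π.app i) ji := by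
  classical
  have hXalg : AlgSp.IsAlgSpace c.pt := isAlgSpace_limit D hD hDa c hc
  obtain ⟨i₁⟩ : Nonempty I := IsCofiltered.nonempty
  have : CompactSpace (AlgSp.Points U) := Groth.Agent.S9917.compactSpace_points_of_isQuasiCompactSp hU
  have hRc : IsCompact (Set.range (AlgSp.Points.map (j ≫ c.π.app i₁))) :=
    isCompact_range (AlgSp.Points.continuous_map _)
  obtain ⟨W₁, hW₁o, hW₁c, hRW₁, -⟩ := exists_isCompact_isOpen (hD i₁) hRc isOpen_univ (Set.subset_univ _)
  have hincl := OpenSub.repWith_incl (X := D.obj i₁) hW₁o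
  have hWqc := isQuasiCompactSp_openSub (hD i₁) hW₁o hW₁c
  obtain ⟨h𝔻alg, h𝔻aff, h𝔻qc, h𝔻open⟩ := pbFunctor_props D hD hDa i₁ (OpenSub.incl (D.obj i₁) W₁) hincl hWqc
  have h𝔻qs : ∀ l : Over i₁, AlgSp.IsQuasiSeparatedSp ((pbFunctor D i₁ (OpenSub.incl (D.obj i₁) W₁)).obj l) :=
    fun l => by
      have : Mono (pullback.snd (OpenSub.incl (D.obj i₁) W₁) (D.map l.hom)) := mono_of_open _ (h𝔻open l)
      exact isQuasiSeparatedSp_of_mono (pullback.snd (OpenSub.incl (D.obj i₁) W₁) (D.map l.hom)) (hqs l.left)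
  obtain ⟨k, hk⟩ := (Groth.Agent.S10194.exists_factor_iff (OpenSub.incl (D.obj i₁) W₁) hincl
    (j ≫ c.π.app i₁)).2 (by rw [OpenSub.range_map_incl]; exact hRW₁)
  let j' : U ⟶ (pbCone D c i₁ (OpenSub.incl (D.obj i₁) W₁)).pt := pullback.lift k j hk
  have hj'snd : j' ≫ pullback.snd (OpenSub.incl (D.obj i₁) W₁) (c.π.app i₁) = j := pullback.lift_snd _ _ _
  have hsndopen : AlgSp.RepWith @IsOpenImmersion (pullback.snd (OpenSub.incl (D.obj i₁) W₁) (c.π.app i₁)) :=
    MorphismProperty.of_isPullback (IsPullback.of_hasPullback _ _) hincl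
  have : Mono (pullback.snd (OpenSub.incl (D.obj i₁) W₁) (c.π.app i₁)) := mono_of_open _ hsndopen
  have hj' : AlgSp.RepWith @IsOpenImmersion j' :=
    MorphismProperty.of_isPullback
      (isPullback_id_of_mono j' (pullback.snd (OpenSub.incl (D.obj i₁) W₁) (c.π.app i₁))) (hj'snd.symm ▸ hj)
  obtain ⟨l, Ul, jl, q, hjl, hUlqc, sq⟩ := exists_open_descends (pbFunctor D i₁ (OpenSub.incl (D.obj i₁) W₁))
    h𝔻alg h𝔻aff h𝔻qc h𝔻qs (pbCone D c i₁ (OpenSub.incl (D.obj i₁) W₁))
    (isLimitPbCone D c hc i₁ (OpenSub.incl (D.obj i₁) W₁)) U j' hj' hU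
  refine ⟨l.left, Ul, jl ≫ pullback.snd (OpenSub.incl (D.obj i₁) W₁) (D.map l.hom), q,
    MorphismProperty.comp_mem _ _ _ hjl (h𝔻open l), hUlqc, ?_⟩
  have h0 := isPullback_pbCone_π D c i₁ (OpenSub.incl (D.obj i₁) W₁) l
  have := (sq.flip.paste_vert h0).flip
  rwa [hj'snd] at this

/-- the structure maps of a system over `B` agree after composing with the projections from a cone -/
theorem cone_π_comp_eq {I : Type u} [SmallCategory I] [IsCofiltered I] {B : AlgSp.Sp S} (D : I ⥤ AlgSp.Sp S)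
    (t : D ⟶ (Functor.const I).obj B) (c : Cone D) (a b : I) :
    c.π.app a ≫ t.app a = c.π.app b ≫ t.app b := by
  have key : ∀ {x y : I} (φ : x ⟶ y), c.π.app x ≫ t.app x = c.π.app y ≫ t.app y := fun {x y} φ => by
    have h1 := t.naturality φ
    simp only [Functor.const_obj_obj, Functor.const_obj_map, Category.comp_id] at h1
    rw [← h1, ← Category.assoc, c.w]
  rw [← key (IsCofiltered.minToLeft a b), key (IsCofiltered.minToRight a b)]

attribute [local instance] IsCofiltered.isConnected in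
/-- **Eventually an immersion.** -/
theorem eventually_immersion [QuasiSeparatedSpace S] {I : Type u} [SmallCategory I] [IsCofiltered I]
    (B : AlgSp.Space S) (D : I ⥤ AlgSp.Sp S) (hD : ∀ i, AlgSp.IsAlgSpace (D.obj i))
    (t : D ⟶ (Functor.const I).obj B.obj)
    (hDa : ∀ (i j : I) (φ : i ⟶ j), AlgSp.IsAffineMor (D.map φ))
    (c : Cone D) (hc : IsLimit c)
    (hqs : ∀ i, AlgSp.IsQuasiSeparatedSp (D.obj i))
    (Y : AlgSp.Space S) (hYqc : AlgSp.IsQuasiCompactSp Y.obj) (y : Y.obj ⟶ c.pt)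
    (hy : AlgSp.RepWith @IsImmersion y) (i₁ : I)
    (hYB : AlgSp.LocP @LocallyOfFiniteType (y ≫ c.π.app i₁ ≫ t.app i₁)) :
    ∃ i₀ : I, ∀ (i : I) (_ : i ⟶ i₀), AlgSp.RepWith @IsImmersion (y ≫ c.π.app i) := by
  classical
  have hXalg : AlgSp.IsAlgSpace c.pt := isAlgSpace_limit D hD hDa c hc
  obtain ⟨U, j, y', hUalg, hj, hUqc, hy'cl, hy'⟩ := exists_factor_closed_qc_open hXalg Y.property hYqc y hy
  obtain ⟨i, Ui, ji, q, hji, hUiqc, sq⟩ := exists_open_descends' D hD hDa hqs c hc U j hj hUqc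
  obtain ⟨h𝔼alg, h𝔼aff, h𝔼qc, h𝔼open⟩ := pbFunctor_props D hD hDa i ji hji hUiqc
  let e : U ≅ (pbCone D c i ji).pt := sq.flip.isoPullback
  have he_snd : e.hom ≫ pullback.snd ji (c.π.app i) = j := sq.flip.isoPullback_hom_snd
  let y'' : Y.obj ⟶ (pbCone D c i ji).pt := y' ≫ e.hom
  have hy''cl : AlgSp.RepWith @IsClosedImmersion y'' := MorphismProperty.RespectsIso.postcomp _ _ _ hy'cl
  let t' : pbFunctor D i ji ⟶ (Functor.const (Over i)).obj B.obj :=
    { app := fun m => pullback.snd ji (D.map m.hom) ≫ t.app m.left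
      naturality := fun m m' ψ => by
        have h1 := (isPullback_pbFunctor_map D i ji ψ).w
        have h2 := t.naturality ψ.left
        simp only [Functor.const_obj_obj, Functor.const_obj_map, Category.comp_id] at h2 ⊢
        rw [← Category.assoc, h1, Category.assoc, h2] }
  have hcomp : ∀ m : Over i, y'' ≫ (pbCone D c i ji).π.app m ≫ pullback.snd ji (D.map m.hom) =
      y ≫ c.π.app m.left := fun m => by
    have h1 := (isPullback_pbCone_π D c i ji m).w
    rw [h1, ← hy', ← he_snd]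
    simp only [y'', Category.assoc]
  let m₁ : Over i := Over.mk (𝟙 i)
  have hYB' : AlgSp.LocP @LocallyOfFiniteType (y'' ≫ (pbCone D c i ji).π.app m₁ ≫ t'.app m₁) := by
    have h1 : y'' ≫ (pbCone D c i ji).π.app m₁ ≫ t'.app m₁ = y ≫ c.π.app i₁ ≫ t.app i₁ := by
      change y'' ≫ (pbCone D c i ji).π.app m₁ ≫ pullback.snd ji (D.map m₁.hom) ≫ t.app m₁.left = _
      rw [← Category.assoc ((pbCone D c i ji).π.app m₁), ← Category.assoc y'', hcomp m₁, Category.assoc,
        cone_π_comp_eq D t c m₁.left i₁]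
    rw [h1]
    exact hYB
  obtain ⟨m₀, hm₀⟩ := Groth.Agent.S10009.result S B (pbFunctor D i ji) h𝔼alg t' h𝔼aff (pbCone D c i ji)
    (isLimitPbCone D c hc i ji) h𝔼qc Y y'' hy''cl m₁ hYB'
  refine ⟨m₀.left, fun i' f => ?_⟩
  let m : Over i := Over.mk (f ≫ m₀.hom)
  let ψ : m ⟶ m₀ := Over.homMk f rfl
  have h1 := hm₀ m ψ
  have h2 : y ≫ c.π.app i' = (y'' ≫ (pbCone D c i ji).π.app m) ≫ pullback.snd ji (D.map m.hom) := by
    rw [Category.assoc, hcomp m]
    rfl
  rw [h2]
  exact MorphismProperty.comp_mem _ _ _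
    (repWith_mono (fun _ _ g hg => by have : IsClosedImmersion g := hg; infer_instance) h1)
    (repWith_mono (fun _ _ g hg => by have : IsOpenImmersion g := hg; infer_instance) (h𝔼open m))

end Groth.Agent.R2.H44.ImmLim
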