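import Groth.Agent.R2.H44LimSp
import Groth.Agent.S9931

/-!
# Closed immersions and cofiltered limits of algebraic spaces (helper44)

Namespace `Groth.Agent.R2.H44.LimCI`.

* `pbFunctor₂`, `pbCone₂`, `isLimitPbCone₂`: for a morphism of diagrams `τ : DX ⟶ DY` over a connected category with limit
  cones `cX`, `cY`, induced `g : cX.pt ⟶ cY.pt` and `t : T ⟶ cY.pt`, the fibre product `T ×_{cY.pt} cX.pt` is the limit of
  the `T ×_{DY i} DX i`.
* `isClosedImmersion_of_isLimit`: a compatible family of closed immersions `K j ⟶ Z` of affine schemes induces a closed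
  immersion `lim K ⟶ Z`.
* `repWith_isClosedImmersion_limMap`: the limit of closed immersions of algebraic spaces is a closed immersion.
-/

set_option autoImplicit false
set_option backward.isDefEq.respectTransparency false
universe u

open CategoryTheory CategoryTheory.Limits AlgebraicGeometry

namespace Groth.Agent.R2.H44.LimCI

open Groth.Agent.R2.H44.LimSp

section Cat

universe v₁ u₁ v₂ u₂

variable {C : Type u₁} [Category.{v₁} C] [HasPullbacks C] {I : Type u₂} [Category.{v₂} I]

/-- the functor `i ↦ T ×_{DY i} DX i` -/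
noncomputable def pbFunctor₂ {DX DY : I ⥤ C} (τ : DX ⟶ DY) (cY : Cone DY) {T : C} (t : T ⟶ cY.pt) :
    I ⥤ C where
  obj i := pullback (t ≫ cY.π.app i) (τ.app i)
  map {i j} φ := pullback.map _ _ _ _ (𝟙 T) (DX.map φ) (DY.map φ) (by simp) (by simp)
  map_id i := by
    apply pullback.hom_ext <;> simp [pullback.map]
  map_comp φ ψ := by
    apply pullback.hom_ext <;> simp [pullback.map]

/-- the cone with vertex a fibre product `T ×_{cY.pt} cX.pt` -/
noncomputable def pbCone₂ {DX DY : I ⥤ C} (τ : DX ⟶ DY) (cX : Cone DX) (cY : Cone DY)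
    (g : cX.pt ⟶ cY.pt) (hg : ∀ i, g ≫ cY.π.app i = cX.π.app i ≫ τ.app i) {T : C} (t : T ⟶ cY.pt)
    {P₀ : C} (fst : P₀ ⟶ cX.pt) (snd : P₀ ⟶ T) (w : fst ≫ g = snd ≫ t) :
    Cone (pbFunctor₂ τ cY t) where
  pt := P₀
  π :=
    { app := fun i => pullback.lift snd (fst ≫ cX.π.app i) (by
        rw [Category.assoc, ← hg, ← Category.assoc, ← Category.assoc, w])
      naturality := by
        intro i j φ
        apply pullback.hom_ext <;> simp [pbFunctor₂, pullback.map] }

/-- `T ×_{lim DY} lim DX = lim_i T ×_{DY i} DX i` -/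
noncomputable def isLimitPbCone₂ [IsConnected I] {DX DY : I ⥤ C} (τ : DX ⟶ DY) (cX : Cone DX)
    (cY : Cone DY) (hcX : IsLimit cX) (hcY : IsLimit cY)
    (g : cX.pt ⟶ cY.pt) (hg : ∀ i, g ≫ cY.π.app i = cX.π.app i ≫ τ.app i) {T : C} (t : T ⟶ cY.pt)
    {P₀ : C} (fst : P₀ ⟶ cX.pt) (snd : P₀ ⟶ T) (hP : IsPullback fst snd g t) :
    IsLimit (pbCone₂ τ cX cY g hg t fst snd hP.w) := by
  -- the `T`-component of a cone is constant
  have hconst : ∀ (s : Cone (pbFunctor₂ τ cY t)) (i j : I),
      s.π.app i ≫ pullback.fst _ _ = s.π.app j ≫ pullback.fst _ _ := by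
    intro s i j
    refine constant_of_preserves_morphisms (fun i => s.π.app i ≫ pullback.fst (t ≫ cY.π.app i) (τ.app i))
      (fun i j φ => ?_) i j
    have := s.w φ
    rw [← this]
    simp [pbFunctor₂, pullback.map]
  -- the cone over `DX` induced by a cone `s`
  let sX : ∀ s : Cone (pbFunctor₂ τ cY t), Cone DX := fun s =>
    { pt := s.pt
      π :=
        { app := fun i => s.π.app i ≫ pullback.snd _ _
          naturality := by
            intro i j φ
            have := s.w φ
            simp only [Functor.const_obj_obj, Functor.const_obj_map, Category.id_comp]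
            rw [← this]
            simp [pbFunctor₂, pullback.map] } }
  have hcomm : ∀ (s : Cone (pbFunctor₂ τ cY t)),
      hcX.lift (sX s) ≫ g = (s.π.app (Classical.arbitrary I) ≫ pullback.fst _ _) ≫ t := by
    intro s
    apply hcY.hom_ext
    intro i
    rw [Category.assoc, hg, ← Category.assoc, hcX.fac, Category.assoc, hconst s _ i]
    simp only [sX, Category.assoc]
    rw [← pullback.condition]
  refine
    { lift := fun s => hP.lift (hcX.lift (sX s)) (s.π.app (Classical.arbitrary I) ≫ pullback.fst _ _)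
        (hcomm s)
      fac := ?_
      uniq := ?_ }
  · intro s i
    apply pullback.hom_ext
    · simp only [pbCone₂, Category.assoc, pullback.lift_fst, IsPullback.lift_snd]
      exact hconst s _ i
    · simp only [pbCone₂, Category.assoc, pullback.lift_snd]
      rw [← Category.assoc, IsPullback.lift_fst, hcX.fac]
  · intro s m hm
    have hm' : ∀ j, m ≫ pullback.lift snd (fst ≫ cX.π.app j) (by
        rw [Category.assoc, ← hg, ← Category.assoc, ← Category.assoc, hP.w]) = s.π.app j := hm
    apply hP.hom_ext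
    · rw [IsPullback.lift_fst]
      apply hcX.hom_ext
      intro i
      rw [hcX.fac]
      change _ = s.π.app i ≫ pullback.snd _ _
      rw [← hm' i, Category.assoc, Category.assoc, pullback.lift_snd]
    · rw [IsPullback.lift_snd, ← hm' (Classical.arbitrary I), Category.assoc, pullback.lift_fst]

end Cat

/-- compatible closed immersions `K j ⟶ Z` of affine schemes induce a closed immersion `lim K ⟶ Z` -/
theorem isClosedImmersion_of_isLimit {J : Type u} [SmallCategory J] [IsCofiltered J] (K : J ⥤ Scheme.{u})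
    [∀ j, IsAffine (K.obj j)] (c : Cone K) (hc : IsLimit c) {Z : Scheme.{u}} [IsAffine Z]
    (φ : c.pt ⟶ Z) (ψ : ∀ j, K.obj j ⟶ Z) (hψ : ∀ j, IsClosedImmersion (ψ j))
    (h : ∀ j, c.π.app j ≫ ψ j = φ) : IsClosedImmersion φ := by
  have : IsAffine c.pt := Scheme.isAffine_of_isLimit c hc
  apply IsClosedImmersion.of_surjective_of_isAffine
  intro s
  obtain ⟨j, y, rfl⟩ := exists_appTop_π_eq_of_isAffine_of_isLimit K c hc s
  have := hψ j
  obtain ⟨a, rfl⟩ := (IsClosedImmersion.isAffine_surjective_of_isAffine (f := ψ j)).2 y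
  refine ⟨a, ?_⟩
  rw [← h j, Scheme.Hom.comp_appTop]
  rfl

variable {S : Scheme.{u}}

attribute [local instance] IsCofiltered.isConnected in
/-- The limit of a morphism of cofiltered systems of algebraic spaces with affine transition maps, all of whose
components are closed immersions, is a closed immersion. -/
theorem repWith_isClosedImmersion_limMap {I : Type u} [SmallCategory I] [IsCofiltered I]
    (DX DY : I ⥤ AlgSp.Sp S) (hDX : ∀ i, AlgSp.IsAlgSpace (DX.obj i))
    (hDY : ∀ i, AlgSp.IsAlgSpace (DY.obj i))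
    (hXa : ∀ (i j : I) (φ : i ⟶ j), AlgSp.IsAffineMor (DX.map φ))
    (hYa : ∀ (i j : I) (φ : i ⟶ j), AlgSp.IsAffineMor (DY.map φ))
    (τ : DX ⟶ DY) (hτ : ∀ i, AlgSp.RepWith @IsClosedImmersion (τ.app i))
    (cX : Cone DX) (hcX : IsLimit cX) (cY : Cone DY) (hcY : IsLimit cY)
    (g : cX.pt ⟶ cY.pt) (hg : ∀ i, g ≫ cY.π.app i = cX.π.app i ≫ τ.app i) :
    AlgSp.RepWith @IsClosedImmersion g := by
  let X : AlgSp.Space S := ⟨cX.pt, isAlgSpace_limit DX hDX hXa cX hcX⟩
  let Y : AlgSp.Space S := ⟨cY.pt, isAlgSpace_limit DY hDY hYa cY hcY⟩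
  refine Groth.Agent.S9931.result @IsClosedImmersion (Or.inl rfl) (X := X) (Y := Y)
    (ObjectProperty.homMk g) ?_
  intro Z hZ t P₀ fst snd sq
  have sq' : IsPullback fst snd g t := sq
  have hlim := isLimitPbCone₂ τ cX cY hcX hcY g hg t fst snd sq'
  have hrep : ∀ i, ∃ (W : Over S) (w : W ⟶ Z) (e' : (AlgSp.yon S).obj W ≅ (pbFunctor₂ τ cY t).obj i),
      IsClosedImmersion w.left ∧ e'.hom ≫ pullback.fst _ _ = (AlgSp.yon S).map w := by
    intro i
    obtain ⟨W, w, fst', sq''⟩ := (hτ i).1 (t ≫ cY.π.app i)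
    refine ⟨W, w, sq''.flip.isoPullback, (hτ i).2 _ _ _ sq'', ?_⟩
    simp
  have haff : ∀ i, IsAffRep ((pbFunctor₂ τ cY t).obj i) := by
    intro i
    obtain ⟨W, w, e', hw, -⟩ := hrep i
    have := hZ
    exact ⟨W, isAffine_of_isAffineHom w.left, ⟨e'⟩⟩
  obtain ⟨K, eK, cK, e, -, ⟨hcK⟩, hKaff, hcKaff, he⟩ := exists_affine_model _ haff _ hlim
  let e0 : (AlgSp.yon S).obj cK.pt ≅ P₀ := e
  obtain ⟨φ, hφ⟩ := (AlgSp.yon S).map_surjective (e0.hom ≫ snd)
  -- the closed immersions `K i ⟶ Z`
  have hψ : ∀ i, ∃ ψ : K.obj i ⟶ Z, IsClosedImmersion ψ.left ∧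
      (AlgSp.yon S).map ψ = eK.hom.app i ≫ pullback.fst _ _ := by
    intro i
    obtain ⟨W, w, e', hw, hw'⟩ := hrep i
    let ι : K.obj i ≅ W := (AlgSp.yon S).preimageIso (eK.app i ≪≫ e'.symm)
    refine ⟨ι.hom ≫ w, ?_, ?_⟩
    · have : IsIso ι.hom.left := inferInstanceAs (IsIso ((Over.forget S).map ι.hom))
      rw [Over.comp_left]
      infer_instance
    · rw [Functor.map_comp, ← hw']
      simp [ι]
  choose ψ hψ1 hψ2 using hψ
  have hKaff' : ∀ i, IsAffine ((K ⋙ Over.forget S).obj i) := hKaff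
  have hZ' : IsAffine Z.left := hZ
  have key : IsClosedImmersion φ.left := by
    refine isClosedImmersion_of_isLimit (K ⋙ Over.forget S) ((Over.forget S).mapCone cK) hcK φ.left
      (fun i => (ψ i).left) hψ1 (fun i => ?_)
    change (cK.π.app i ≫ ψ i).left = φ.left
    congr 1
    apply (AlgSp.yon S).map_injective
    rw [hφ, Functor.map_comp, hψ2, ← Category.assoc, ← he i]
    simp [pbCone₂, e0]
  have h1 : AlgSp.RepWith @IsClosedImmersion (e0.hom ≫ snd) := by
    rw [← hφ]
    exact (AlgSp.repWith_yon_map_iff _ _).2 key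
  exact (MorphismProperty.cancel_left_of_respectsIso (AlgSp.RepWith @IsClosedImmersion) e0.hom snd).1 h1

end Groth.Agent.R2.H44.LimCI
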