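import Mathlib
import Groth.Agent.R2.H44LimAffMor
import Groth.Agent.R2.H44EtCov
import Groth.Agent.S9187
import Groth.Agent.S9189
import Groth.Agent.S9984

/-!
# Descending properties of affine morphisms through limits of algebraic spaces (helper44)

Namespace `Groth.Agent.R2.H44.LimPMor`.

* `eventually_of_descendsFor`: stage-wise form of `LimDesc.DescendsFor` (affine sources).
* `eventually_repWith`: the same for a cofiltered system of sheaves representable by affine schemes.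
-/

set_option autoImplicit false
set_option backward.isDefEq.respectTransparency false
universe u

open CategoryTheory CategoryTheory.Limits AlgebraicGeometry

namespace Groth.Agent.R2.H44.LimPMor

open Groth.Agent.R2.H44.LimSp Groth.Agent.R2.H44.LimIso Groth.Agent.R2.H44.LimDesc Groth.Agent.R2.H44.PbT
  Groth.Agent.R2.H44.LimAffine Groth.Agent.R2.H44.LimAffMor

theorem eventually_of_descendsFor (R P : MorphismProperty Scheme.{u}) [P.RespectsIso]
    (hP : DescendsFor (fun X => IsAffine X) R P)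
    {I : Type u} [SmallCategory I] [IsCofiltered I] (D : I ⥤ Scheme.{u}) (hD : ∀ i, IsAffine (D.obj i))
    (c : Cone D) (hc : IsLimit c) (i : I) {X₀ : Scheme.{u}} (hX₀ : IsAffine X₀) (f₀ : X₀ ⟶ D.obj i)
    (hR : R f₀) (h : P (pullback.snd f₀ (c.π.app i))) :
    ∃ (l : I) (φ : l ⟶ i), P (pullback.snd f₀ (D.map φ)) := by
  obtain ⟨j, φ, Xj, Yj, fj, gj, pY, pX, h1, h2, h3⟩ := hP D hD c hc i hX₀ (hD i) f₀ (𝟙 _) inferInstance
    hR (pullback.snd f₀ (c.π.app i)) (𝟙 c.pt) (c.π.app i) (pullback.fst f₀ (c.π.app i))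
    (IsPullback.id_vert (c.π.app i)) (IsPullback.of_hasPullback _ _) h
  have : IsIso gj := by
    exact MorphismProperty.of_isPullback (P := MorphismProperty.isomorphisms Scheme.{u}) h1
      (inferInstanceAs (IsIso (𝟙 (D.obj i))))
  have he : pY = gj ≫ D.map φ := by simpa using h1.w
  exact ⟨j, φ, prop_of_isPullback_iso P (IsPullback.of_hasPullback f₀ (D.map φ)) h2 gj he h3⟩

variable {S : Scheme.{u}}

/-- comparison of a pullback of sheaves with a pullback of representing schemes -/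
theorem repWith_snd_iff (P : MorphismProperty Scheme.{u}) [P.RespectsIso] [P.IsStableUnderBaseChange]
    {W₀ B Z' : AlgSp.Sp S} (f₀' : W₀ ⟶ B) (ψ' : Z' ⟶ B) {U₀ V Z : Over S} (εW : (AlgSp.yon S).obj U₀ ≅ W₀)
    (εB : (AlgSp.yon S).obj V ≅ B) (ζ : (AlgSp.yon S).obj Z ≅ Z') (h₀ : U₀ ⟶ V) (ψ : Z ⟶ V)
    (hh₀ : εW.hom ≫ f₀' = (AlgSp.yon S).map h₀ ≫ εB.hom)
    (hψ : ζ.hom ≫ ψ' = (AlgSp.yon S).map ψ ≫ εB.hom) :
    AlgSp.RepWith P (pullback.snd f₀' ψ') ↔ P (pullback.snd h₀ ψ).left := by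
  have sq0 : IsPullback ((AlgSp.yon S).map (pullback.fst h₀ ψ)) ((AlgSp.yon S).map (pullback.snd h₀ ψ))
      ((AlgSp.yon S).map h₀) ((AlgSp.yon S).map ψ) := (IsPullback.of_hasPullback h₀ ψ).map (AlgSp.yon S)
  have sq1 : IsPullback ((AlgSp.yon S).map (pullback.fst h₀ ψ) ≫ εW.hom)
      ((AlgSp.yon S).map (pullback.snd h₀ ψ) ≫ ζ.hom) f₀' ψ' :=
    sq0.of_iso (Iso.refl _) εW ζ εB (by simp) (by simp) hh₀.symm hψ.symm
  have hsnd : pullback.snd f₀' ψ' = sq1.isoPullback.inv ≫ (AlgSp.yon S).map (pullback.snd h₀ ψ) ≫ ζ.hom := by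
    rw [Iso.eq_inv_comp]
    exact sq1.isoPullback_hom_snd
  rw [hsnd, (AlgSp.RepWith P).cancel_left_of_respectsIso, (AlgSp.RepWith P).cancel_right_of_respectsIso,
    AlgSp.repWith_yon_map_iff]

attribute [local instance] IsCofiltered.isConnected in
theorem eventually_repWith (R P : MorphismProperty Scheme.{u}) [P.RespectsIso] [P.IsStableUnderBaseChange]
    (hP : DescendsFor (fun X => IsAffine X) R P)
    {J : Type u} [SmallCategory J] [IsCofiltered J] (𝕍 : J ⥤ AlgSp.Sp S) (h𝕍 : ∀ l, IsAffRep (𝕍.obj l))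
    (c𝕍 : Cone 𝕍) (hc𝕍 : IsLimit c𝕍) (m : J) {W₀ : AlgSp.Sp S} (hW₀ : IsAffRep W₀) (f₀' : W₀ ⟶ 𝕍.obj m)
    (hR : ∀ {U V : Over S} (eU : (AlgSp.yon S).obj U ≅ W₀) (eV : (AlgSp.yon S).obj V ≅ 𝕍.obj m) (h : U ⟶ V),
      eU.hom ≫ f₀' = (AlgSp.yon S).map h ≫ eV.hom → R h.left)
    (hlim : AlgSp.RepWith P (pullback.snd f₀' (c𝕍.π.app m))) :
    ∃ (l : J) (φ : l ⟶ m), AlgSp.RepWith P (pullback.snd f₀' (𝕍.map φ)) := by
  obtain ⟨K, eK, cK, e, -, ⟨hcK'⟩, hK, -, hcompat⟩ := exists_affine_model 𝕍 h𝕍 c𝕍 hc𝕍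
  obtain ⟨U₀, hU₀, ⟨εW⟩⟩ := hW₀
  obtain ⟨h₀, hh₀⟩ := (AlgSp.yon S).map_surjective (εW.hom ≫ f₀' ≫ eK.inv.app m)
  have hh₀' : εW.hom ≫ f₀' = (AlgSp.yon S).map h₀ ≫ (eK.app m).hom := by
    rw [hh₀]
    simp
  have hRh₀ : R h₀.left := hR εW (eK.app m) h₀ hh₀'
  have hlim' : P (pullback.snd h₀ (cK.π.app m)).left :=
    (repWith_snd_iff P f₀' (c𝕍.π.app m) εW (eK.app m) e h₀ (cK.π.app m) hh₀' (hcompat m)).1 hlim
  have sqc : IsPullback (pullback.fst h₀ (cK.π.app m)).left (pullback.snd h₀ (cK.π.app m)).left h₀.left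
      (cK.π.app m).left := (IsPullback.of_hasPullback h₀ (cK.π.app m)).map (Over.forget S)
  have hlim'' : P (pullback.snd h₀.left (((Over.forget S).mapCone cK).π.app m)) :=
    prop_of_isPullback_iso P (IsPullback.of_hasPullback _ _) sqc (𝟙 _) (by simp) hlim'
  obtain ⟨l, φ, hl⟩ := eventually_of_descendsFor R P hP (K ⋙ Over.forget S) hK ((Over.forget S).mapCone cK)
    hcK' m hU₀ h₀.left hRh₀ hlim''
  have sql : IsPullback (pullback.fst h₀ (K.map φ)).left (pullback.snd h₀ (K.map φ)).left h₀.left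
      (K.map φ).left := (IsPullback.of_hasPullback h₀ (K.map φ)).map (Over.forget S)
  have hl' : P (pullback.snd h₀ (K.map φ)).left :=
    prop_of_isPullback_iso P sql (IsPullback.of_hasPullback h₀.left ((K ⋙ Over.forget S).map φ)) (𝟙 _)
      (by simp) hl
  refine ⟨l, φ, (repWith_snd_iff P f₀' (𝕍.map φ) εW (eK.app m) (eK.app l) h₀ (K.map φ) hh₀' ?_).2 hl'⟩
  exact (eK.hom.naturality φ).symm

theorem descendsFor_isFinite :
    DescendsFor (fun X => IsAffine X) @LocallyOfFiniteType (@IsFinite : MorphismProperty Scheme.{u}) := by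
  intro J _ _ K hK c hc j₁ X₀ Y₀ hX₀ hY₀ f₀ g₀ hg₀ hf₀ X Y f g qY qX hY hX hf
  have := hK
  have := hX₀
  have := hY₀
  have : LocallyOfFiniteType f₀ := hf₀
  have : IsFinite f := hf
  exact Groth.Agent.S9187.result K c hc j₁ f₀ g₀ f g qY qX hY hX

theorem descendsFor_isClosedImmersion :
    DescendsFor (fun X => IsAffine X) @LocallyOfFiniteType (@IsClosedImmersion : MorphismProperty Scheme.{u}) := by
  intro J _ _ K hK c hc j₁ X₀ Y₀ hX₀ hY₀ f₀ g₀ hg₀ hf₀ X Y f g qY qX hY hX hf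
  have := hK
  have := hX₀
  have := hY₀
  have : LocallyOfFiniteType f₀ := hf₀
  have : IsClosedImmersion f := hf
  exact Groth.Agent.S9189.result K c hc j₁ f₀ g₀ f g qY qX hY hX

/-- Descending a property `P` of an affine morphism through a limit of algebraic spaces: for some stage, every base
change `f_i` of `f₀` becomes, after base change along an etale covering `b : H ⟶ Y_i` by an affine scheme, a morphism
`a'` of affine schemes with `P`. -/
theorem descend_repWith_of_affine (P : MorphismProperty Scheme.{u}) [P.RespectsIso] [P.IsStableUnderBaseChange]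
    (hP : DescendsFor (fun X => IsAffine X) @LocallyOfFiniteType P)
    [QuasiSeparatedSpace S] {I : Type u} [SmallCategory I] [IsCofiltered I]
    (D : I ⥤ AlgSp.Sp S)
    (hDa : ∀ (i j : I) (φ : i ⟶ j), AlgSp.IsAffineMor (D.map φ))
    (c : Cone D) (hc : IsLimit c) (i₀ : I)
    (X₀ Y₀ : AlgSp.Space S) (f₀ : X₀.obj ⟶ Y₀.obj) (b₀ : Y₀.obj ⟶ D.obj i₀)
    (hXqc : AlgSp.IsQuasiCompactSp X₀.obj) (hXqs : AlgSp.IsQuasiSeparatedSp X₀.obj)
    (hYqc : AlgSp.IsQuasiCompactSp Y₀.obj) (hYqs : AlgSp.IsQuasiSeparatedSp Y₀.obj)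
    (X Y : AlgSp.Sp S) (f : X ⟶ Y) (pY : Y ⟶ Y₀.obj) (qY : Y ⟶ c.pt)
    (hY : IsPullback pY qY b₀ (c.π.app i₀)) (pX : X ⟶ X₀.obj) (hX : IsPullback pX f f₀ pY)
    (hf : AlgSp.IsAffineMor f) (hfP : AlgSp.RepWith P f) (hf₀ : AlgSp.LocP @LocallyOfFiniteType f₀) :
    ∃ (i : I) (φ : i ⟶ i₀), ∀ (Xi Yi : AlgSp.Sp S) (fi : Xi ⟶ Yi) (pYi : Yi ⟶ Y₀.obj) (qYi : Yi ⟶ D.obj i)
      (_ : IsPullback pYi qYi b₀ (D.map φ)) (pXi : Xi ⟶ X₀.obj) (_ : IsPullback pXi fi f₀ pYi),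
      ∃ (H Q : AlgSp.Sp S) (b : H ⟶ Yi) (b' : Q ⟶ Xi) (a' : Q ⟶ H), AlgSp.RepWith @Etale b ∧
        AlgSp.RepWith @Surjective b ∧ IsPullback b' a' fi b ∧ AlgSp.RepWith P a' ∧ IsAffRep H ∧ IsAffRep Q := by
  classical
  obtain ⟨V₀, v, hV₀, hve, hvs⟩ := (Groth.Agent.S10180.result Y₀).1 hYqc
  have haff𝕍 : ∀ l : Over i₀, IsAffRep ((pbFunctor D i₀ (v ≫ b₀)).obj l) := by
    intro l
    obtain ⟨W, iW, fst, sq, hW⟩ := hDa _ _ l.hom hV₀ (v ≫ b₀)
    exact ⟨W, hW, ⟨sq.flip.isoPullback⟩⟩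
  have h𝕍a : ∀ (l l' : Over i₀) (φ : l ⟶ l'), AlgSp.IsAffineMor ((pbFunctor D i₀ (v ≫ b₀)).map φ) :=
    fun l l' φ => Groth.Agent.S9944.isAffineMor_of_isPullback
      (isPullback_pbFunctor_map D i₀ (v ≫ b₀) φ).flip (hDa _ _ _)
  let τ : pbFunctor D i₀ (v ≫ b₀) ⟶ (Functor.const (Over i₀)).obj Y₀.obj :=
    { app := fun l => pullback.fst (v ≫ b₀) (D.map l.hom) ≫ v
      naturality := by
        intro l l' φ
        simp [pbFunctor, pullback.map] }
  let t : (pbCone D c i₀ (v ≫ b₀)).pt ⟶ Y₀.obj := pullback.fst (v ≫ b₀) (c.π.app i₀) ≫ v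
  have ht : ∀ l, (pbCone D c i₀ (v ≫ b₀)).π.app l ≫ τ.app l = t := by
    intro l
    simp [pbCone, pullback.map, τ, t]
  let β : pullback (v ≫ b₀) (c.π.app i₀) ⟶ Y :=
    hY.lift (pullback.fst _ _ ≫ v) (pullback.snd _ _) (by rw [Category.assoc]; exact pullback.condition)
  have hβ1 : β ≫ pY = t := hY.lift_fst _ _ _
  -- the base change to the limit is an affine scheme
  have hlimaff : IsAffRep (pullback f₀ t) := by
    obtain ⟨V', hV', ⟨ε⟩⟩ := isAffRep_of_isLimit (pbFunctor D i₀ (v ≫ b₀)) haff𝕍 _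
      (isLimitPbCone D c hc i₀ (v ≫ b₀))
    obtain ⟨W, iW, fst, sq, hW⟩ := hf hV' (ε.hom ≫ β)
    have sq2 : IsPullback (fst ≫ pX) ((AlgSp.yon S).map iW) f₀ ((ε.hom ≫ β) ≫ pY) := sq.paste_horiz hX
    have sq3 : IsPullback (fst ≫ pX) ((AlgSp.yon S).map iW ≫ ε.hom) f₀ t := by
      rw [Category.assoc, hβ1] at sq2
      exact sq2.of_iso (Iso.refl _) (Iso.refl _) ε (Iso.refl _) (by simp) (by simp) (by simp) (by simp)
    exact ⟨W, hW, ⟨sq3.isoPullback⟩⟩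
  obtain ⟨m, hm⟩ := exists_affRep_pbT (pbFunctor D i₀ (v ≫ b₀)) (fun l => (props_of_isAffRep (haff𝕍 l)).1) h𝕍a
    (fun l => (props_of_isAffRep (haff𝕍 l)).2.1) (fun l => (props_of_isAffRep (haff𝕍 l)).2.2)
    (pbCone D c i₀ (v ≫ b₀)) (isLimitPbCone D c hc i₀ (v ≫ b₀)) X₀ Y₀ ⟨hXqc, hXqs⟩ ⟨hYqc, hYqs⟩ f₀ τ t ht hlimaff
  -- the morphism `f₀' : 𝕎_m ⟶ 𝕍_m` of affine schemes
  have h𝕎alg : ∀ l, AlgSp.IsAlgSpace (pullback f₀ (τ.app l)) := fun l =>
    Groth.Agent.S9874.result S Y₀.obj Y₀.property.diag X₀ ⟨_, (props_of_isAffRep (haff𝕍 l)).1⟩ f₀ (τ.app l) _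
      (pullback.fst _ _) (pullback.snd _ _) (IsPullback.of_hasPullback _ _)
  have hf₀'lft : AlgSp.LocP @LocallyOfFiniteType (pullback.snd f₀ (τ.app m)) :=
    Groth.Agent.S9984.result @LocallyOfFiniteType (Or.inl rfl) (X := X₀) (Y := Y₀)
      (Y' := ⟨_, (props_of_isAffRep (haff𝕍 m)).1⟩) (X' := ⟨_, h𝕎alg m⟩) (ObjectProperty.homMk f₀)
      (ObjectProperty.homMk (τ.app m)) (ObjectProperty.homMk (pullback.fst f₀ (τ.app m)))
      (ObjectProperty.homMk (pullback.snd f₀ (τ.app m))) (IsPullback.of_hasPullback _ _) hf₀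
  have hlimP : AlgSp.RepWith P (pullback.snd (pullback.snd f₀ (τ.app m)) ((pbCone D c i₀ (v ≫ b₀)).π.app m)) := by
    have big : IsPullback (pullback.fst (pullback.snd f₀ (τ.app m)) ((pbCone D c i₀ (v ≫ b₀)).π.app m) ≫
        pullback.fst f₀ (τ.app m)) (pullback.snd (pullback.snd f₀ (τ.app m)) ((pbCone D c i₀ (v ≫ b₀)).π.app m))
        f₀ ((pbCone D c i₀ (v ≫ b₀)).π.app m ≫ τ.app m) :=
      (IsPullback.of_hasPullback (pullback.snd f₀ (τ.app m)) ((pbCone D c i₀ (v ≫ b₀)).π.app m)).paste_horiz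
        (IsPullback.of_hasPullback f₀ (τ.app m))
    rw [ht m, ← hβ1] at big
    have hw : (pullback.fst (pullback.snd f₀ (τ.app m)) ((pbCone D c i₀ (v ≫ b₀)).π.app m) ≫
        pullback.fst f₀ (τ.app m)) ≫ f₀ =
        (pullback.snd (pullback.snd f₀ (τ.app m)) ((pbCone D c i₀ (v ≫ b₀)).π.app m) ≫ β) ≫ pY := by
      rw [Category.assoc _ β pY]
      exact big.w
    have sqβ : IsPullback (hX.lift _ _ hw) (pullback.snd (pullback.snd f₀ (τ.app m))
        ((pbCone D c i₀ (v ≫ b₀)).π.app m)) f β := by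
      refine IsPullback.of_right ?_ (hX.lift_snd _ _ _) hX
      rw [hX.lift_fst]
      exact big
    exact MorphismProperty.of_isPullback sqβ hfP
  obtain ⟨l, φ, hl⟩ := eventually_repWith @LocallyOfFiniteType P hP (pbFunctor D i₀ (v ≫ b₀)) haff𝕍
    (pbCone D c i₀ (v ≫ b₀)) (isLimitPbCone D c hc i₀ (v ≫ b₀)) m hm (pullback.snd f₀ (τ.app m))
    (fun {U V} eU eV h hcomm => by
      refine hf₀'lft eU.hom eV.hom h ?_ ?_ hcomm
      · exact ((AlgSp.RepWith @Etale).cancel_right_of_respectsIso _ eU.hom).2 (AlgSp.repWith_id _ U)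
      · exact ((AlgSp.RepWith @Etale).cancel_right_of_respectsIso _ eV.hom).2 (AlgSp.repWith_id _ V))
    hlimP
  -- the stage `l`
  have sqT := isPullback_pbT_map (pbFunctor D i₀ (v ≫ b₀)) τ f₀ φ
  have hlP : AlgSp.RepWith P (pullback.snd f₀ (τ.app l)) := by
    have h1 : pullback.snd f₀ (τ.app l) = sqT.isoPullback.hom ≫
        pullback.snd (pullback.snd f₀ (τ.app m)) ((pbFunctor D i₀ (v ≫ b₀)).map φ) :=
      sqT.isoPullback_hom_snd.symm
    rw [h1]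
    exact ((AlgSp.RepWith P).cancel_left_of_respectsIso _ _).2 hl
  have hlaff : IsAffRep (pullback f₀ (τ.app l)) := by
    obtain ⟨T', hT', ⟨e'⟩⟩ := hm
    have hmap : AlgSp.IsAffineMor ((pbT (pbFunctor D i₀ (v ≫ b₀)) τ f₀).map φ) :=
      Groth.Agent.S9944.isAffineMor_of_isPullback sqT.flip (h𝕍a _ _ φ)
    obtain ⟨W, iW, fst, sq, hW⟩ := hmap hT' e'.hom
    have : IsIso fst := sq.isIso_fst_of_isIso
    exact ⟨W, hW, ⟨asIso fst⟩⟩
  refine ⟨l.left, l.hom, fun Xi Yi fi pYi qYi hYi pXi hXi => ?_⟩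
  let b : pullback (v ≫ b₀) (D.map l.hom) ⟶ Yi :=
    hYi.lift (pullback.fst _ _ ≫ v) (pullback.snd _ _) (by rw [Category.assoc]; exact pullback.condition)
  have hb1 : b ≫ pYi = pullback.fst (v ≫ b₀) (D.map l.hom) ≫ v := hYi.lift_fst _ _ _
  have hb2 : b ≫ qYi = pullback.snd (v ≫ b₀) (D.map l.hom) := hYi.lift_snd _ _ _
  have sqb : IsPullback b (pullback.fst (v ≫ b₀) (D.map l.hom)) pYi v := by
    refine IsPullback.of_right ?_ hb1 hYi.flip
    rw [hb2]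
    exact (IsPullback.of_hasPullback (v ≫ b₀) (D.map l.hom)).flip
  let b' : pullback f₀ (τ.app l) ⟶ Xi :=
    hXi.lift (pullback.fst _ _) (pullback.snd _ _ ≫ b) (by
      rw [Category.assoc, hb1]
      exact pullback.condition)
  have hb'1 : b' ≫ pXi = pullback.fst f₀ (τ.app l) := hXi.lift_fst _ _ _
  have hb'2 : b' ≫ fi = pullback.snd f₀ (τ.app l) ≫ b := hXi.lift_snd _ _ _
  have sq' : IsPullback b' (pullback.snd f₀ (τ.app l)) fi b := by
    refine IsPullback.of_right ?_ hb'2 hXi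
    rw [hb'1, hb1]
    exact IsPullback.of_hasPullback f₀ (τ.app l)
  exact ⟨_, _, b, b', pullback.snd f₀ (τ.app l), MorphismProperty.of_isPullback sqb.flip hve,
    MorphismProperty.of_isPullback sqb.flip hvs, sq', hlP, haff𝕍 l, hlaff⟩

end Groth.Agent.R2.H44.LimPMor
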