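import Mathlib
import Groth.Agent.R2.H44LimPMor

/-!
# Limits of algebraic spaces over a fixed algebraic space: reduction to affine schemes over a chart (helper44)

Namespace `Groth.Agent.R2.H44.LimOverY`.

* `model_over_chart`: for `X = lim X_i` over `Y` (everything quasi-compact and quasi-separated, affine transition maps)
  with `X ⟶ Y` affine, and an affine etale chart `v : V ⟶ Y`: from some stage `m` on the `X_i ×_Y V` are affine schemes;
  the lemma returns the resulting cofiltered system `K` of affine schemes over `V`, its limit, and the dictionary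
  between properties of the `X_i ⟶ Y` and of the `K_l ⟶ V`.
-/

set_option autoImplicit false
set_option backward.isDefEq.respectTransparency false
universe u

open CategoryTheory CategoryTheory.Limits AlgebraicGeometry

namespace Groth.Agent.R2.H44.LimOverY

open Groth.Agent.R2.H44.LimSp Groth.Agent.R2.H44.LimIso Groth.Agent.R2.H44.LimDesc Groth.Agent.R2.H44.PbT
  Groth.Agent.R2.H44.LimAffine Groth.Agent.R2.H44.LimAffMor

variable {S : Scheme.{u}}

attribute [local instance] IsCofiltered.isConnected in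
theorem model_over_chart [QuasiSeparatedSpace S] {I : Type u} [SmallCategory I] [IsCofiltered I]
    (Y : AlgSp.Space S) (D : I ⥤ AlgSp.Sp S) (hD : ∀ i, AlgSp.IsAlgSpace (D.obj i))
    (t : D ⟶ (Functor.const I).obj Y.obj)
    (hDa : ∀ (i j : I) (φ : i ⟶ j), AlgSp.IsAffineMor (D.map φ))
    (c : Cone D) (hc : IsLimit c) (g : c.pt ⟶ Y.obj) (hg : ∀ i, c.π.app i ≫ t.app i = g)
    (hqc : ∀ i, AlgSp.IsQuasiCompactSp (D.obj i)) (hqs : ∀ i, AlgSp.IsQuasiSeparatedSp (D.obj i))
    (hYqc : AlgSp.IsQuasiCompactSp Y.obj) (hYqs : AlgSp.IsQuasiSeparatedSp Y.obj) (hX : AlgSp.IsAffineMor g) :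
    ∃ (V : Over S) (v : (AlgSp.yon S).obj V ⟶ Y.obj) (m : I) (K : Over m ⥤ Over S) (cK : Cone K)
      (κ : ∀ l, K.obj l ⟶ V) (κ' : cK.pt ⟶ V), IsAffine V.left ∧ AlgSp.RepWith @Etale v ∧
      AlgSp.RepWith @Surjective v ∧ Nonempty (IsLimit ((Over.forget S).mapCone cK)) ∧
      (∀ l, IsAffine (K.obj l).left) ∧ (∀ {l l' : Over m} (φ : l ⟶ l'), K.map φ ≫ κ l' = κ l) ∧
      (∀ l, cK.π.app l ≫ κ l = κ') ∧
      (∀ (P : MorphismProperty Scheme.{u}) [P.RespectsIso] [P.IsStableUnderBaseChange] {l l' : Over m}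
        (φ : l ⟶ l'), AlgSp.RepWith P (D.map φ.left) → P (K.map φ).left) ∧
      (∀ (P : MorphismProperty Scheme.{u}) [P.RespectsIso] [P.IsStableUnderBaseChange],
        AlgSp.RepWith P g → P κ'.left) ∧
      (∀ l : Over m, AlgSp.LocP @LocallyOfFiniteType (t.app l.left) → LocallyOfFiniteType (κ l).left) ∧
      (∀ (P : MorphismProperty Scheme.{u}) [P.RespectsIso] [P.IsStableUnderBaseChange] (l : Over m),
        P (κ l).left → AlgSp.RepWith P (pullback.fst v (t.app l.left))) := by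
  classical
  obtain ⟨V, v, hV, hve, hvs⟩ := (Groth.Agent.S10180.result Y).1 hYqc
  have haff : IsAffRep (pullback v g) := by
    obtain ⟨W, iW, fst, sq, hW⟩ := hX hV v
    exact ⟨W, hW, ⟨sq.flip.isoPullback⟩⟩
  obtain ⟨m, hm⟩ := exists_affRep_pbT D hD hDa hqc hqs c hc
    ⟨(AlgSp.yon S).obj V, AlgSp.IsAlgSpace.yon_obj V⟩ Y (qcqs_yon_of_isAffine V hV)
    ⟨hYqc, hYqs⟩ v t g hg haff
  have hi : ∀ l : Over m, IsAffRep ((Over.forget m ⋙ pbT D t v).obj l) := by
    intro l
    obtain ⟨T', hT', ⟨e'⟩⟩ := hm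
    have hmap : AlgSp.IsAffineMor ((pbT D t v).map l.hom) :=
      Groth.Agent.S9944.isAffineMor_of_isPullback (isPullback_pbT_map D t v l.hom).flip (hDa _ _ l.hom)
    obtain ⟨W, iW, fst, sq, hW⟩ := hmap hT' e'.hom
    have : IsIso fst := sq.isIso_fst_of_isIso
    exact ⟨W, hW, ⟨asIso fst⟩⟩
  have hlim : IsLimit ((pbTCone D t v c g hg).whisker (Over.forget m)) :=
    (Functor.Initial.isLimitWhiskerEquiv (Over.forget m) _).symm (isLimitPbTCone D t v c hc g hg)
  obtain ⟨K, eK, cK, e, -, ⟨hcK'⟩, hK, -, hcompat⟩ :=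
    exists_affine_model (Over.forget m ⋙ pbT D t v) hi _ hlim
  have hnat : ∀ {l l' : Over m} (φ : l ⟶ l'), (AlgSp.yon S).map (K.map φ) ≫ eK.hom.app l' =
      eK.hom.app l ≫ (pbT D t v).map φ.left := fun φ => eK.hom.naturality φ
  have hfstmap : ∀ {i i' : I} (φ : i ⟶ i'), (pbT D t v).map φ ≫ pullback.fst v (t.app i') =
      pullback.fst v (t.app i) := by
    intro i i' φ
    simp [pbT, pullback.map]
  have hfstπ : ∀ i : I, (pbTCone D t v c g hg).π.app i ≫ pullback.fst v (t.app i) = pullback.fst v g := by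
    intro i
    simp [pbTCone, pullback.map]
  let κ : ∀ l : Over m, K.obj l ⟶ V := fun l =>
    (AlgSp.yon S).preimage (eK.hom.app l ≫ pullback.fst v (t.app l.left))
  have hκ : ∀ l, (AlgSp.yon S).map (κ l) = eK.hom.app l ≫ pullback.fst v (t.app l.left) :=
    fun l => (AlgSp.yon S).map_preimage _
  let κ' : cK.pt ⟶ V := (AlgSp.yon S).preimage (e.hom ≫ pullback.fst v g)
  have hκ' : (AlgSp.yon S).map κ' = e.hom ≫ pullback.fst v g := (AlgSp.yon S).map_preimage _
  refine ⟨V, v, m, K, cK, κ, κ', hV, hve, hvs, ⟨hcK'⟩, hK, ?_, ?_, ?_, ?_, ?_, ?_⟩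
  · intro l l' φ
    apply (AlgSp.yon S).map_injective
    rw [Functor.map_comp, hκ, hκ, reassoc_of% (hnat φ), hfstmap]
    rfl
  · intro l
    apply (AlgSp.yon S).map_injective
    have h1 : e.hom ≫ (pbTCone D t v c g hg).π.app l.left =
        (AlgSp.yon S).map (cK.π.app l) ≫ eK.hom.app l := hcompat l
    rw [Functor.map_comp, hκ, hκ', ← reassoc_of% h1, hfstπ]
  · intro P _ _ l l' φ hφ
    have h1 : AlgSp.RepWith P ((pbT D t v).map φ.left) :=
      MorphismProperty.of_isPullback (isPullback_pbT_map D t v φ.left).flip hφ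
    have h2 : (AlgSp.yon S).map (K.map φ) = eK.hom.app l ≫ (pbT D t v).map φ.left ≫ eK.inv.app l' := by
      rw [← reassoc_of% (hnat φ)]
      simp
    rw [← AlgSp.repWith_yon_map_iff P, h2, (AlgSp.RepWith P).cancel_left_of_respectsIso,
      (AlgSp.RepWith P).cancel_right_of_respectsIso]
    exact h1
  · intro P _ _ hgP
    have h1 : AlgSp.RepWith P (pullback.fst v g) :=
      MorphismProperty.of_isPullback (IsPullback.of_hasPullback v g).flip hgP
    rw [← AlgSp.repWith_yon_map_iff P, hκ', (AlgSp.RepWith P).cancel_left_of_respectsIso]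
    exact h1
  · intro l hl
    have hPalg : AlgSp.IsAlgSpace (pullback v (t.app l.left)) :=
      Groth.Agent.S9874.result S Y.obj Y.property.diag ⟨_, AlgSp.IsAlgSpace.yon_obj V⟩ ⟨_, hD l.left⟩ v
        (t.app l.left) _ (pullback.fst _ _) (pullback.snd _ _) (IsPullback.of_hasPullback _ _)
    have h1 : AlgSp.LocP @LocallyOfFiniteType (pullback.fst v (t.app l.left)) :=
      Groth.Agent.S9984.result @LocallyOfFiniteType (Or.inl rfl) (X := ⟨_, hD l.left⟩) (Y := Y)
        (Y' := ⟨_, AlgSp.IsAlgSpace.yon_obj V⟩) (X' := ⟨_, hPalg⟩) (ObjectProperty.homMk (t.app l.left))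
        (ObjectProperty.homMk v) (ObjectProperty.homMk (pullback.snd v (t.app l.left)))
        (ObjectProperty.homMk (pullback.fst v (t.app l.left))) (IsPullback.of_hasPullback _ _).flip hl
    refine h1 (eK.hom.app l) (𝟙 _) (κ l) ?_ (AlgSp.repWith_id _ V) ?_
    · exact ((AlgSp.RepWith @Etale).cancel_right_of_respectsIso _ (eK.hom.app l)).2
        (AlgSp.repWith_id _ (K.obj l))
    · rw [Category.comp_id, hκ]
  · intro P _ _ l hl
    have h1 : AlgSp.RepWith P ((AlgSp.yon S).map (κ l)) := (AlgSp.repWith_yon_map_iff P _).2 hl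
    rw [hκ, (AlgSp.RepWith P).cancel_left_of_respectsIso] at h1
    exact h1

end Groth.Agent.R2.H44.LimOverY
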