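import Groth.Agent.R2.H44LimSp
import Groth.Agent.Lib.Helper12Reduced

/-!
# Reducedness of cofiltered limits of algebraic spaces (helper44)

Namespace `Groth.Agent.R2.H44.LimRed`.

* `isReduced_of_isLimit`: a cofiltered limit of reduced affine schemes is reduced.
* `isReduced_of_etale_chart`: a scheme etale over a reduced sheaf (one with a reduced etale surjective chart) is reduced.
* `isPullback_chart_base_change`: compatibility of a representing scheme of a pullback with further base change.
* `isReducedSp_limit`: the limit of a cofiltered system of reduced algebraic spaces with affine transition maps is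
  reduced.
-/

set_option autoImplicit false
set_option backward.isDefEq.respectTransparency false
universe u

open CategoryTheory CategoryTheory.Limits AlgebraicGeometry

namespace Groth.Agent.R2.H44.LimRed

open Groth.Agent.R2.H44.LimSp

/-- A cofiltered limit of reduced affine schemes is reduced. -/
theorem isReduced_of_isLimit {J : Type u} [SmallCategory J] [IsCofiltered J] (K : J ⥤ Scheme.{u})
    [∀ j, IsAffine (K.obj j)] (hred : ∀ j, IsReduced (K.obj j)) (c : Cone K) (hc : IsLimit c) :
    IsReduced c.pt := by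
  have : IsAffine c.pt := Scheme.isAffine_of_isLimit c hc
  have : _root_.IsReduced Γ(c.pt, ⊤) := by
    constructor
    rintro x ⟨n, hn⟩
    obtain ⟨i, y, rfl⟩ := exists_appTop_π_eq_of_isAffine_of_isLimit K c hc x
    have h0 : (c.π.app i).appTop (y ^ n) = 0 := by rw [map_pow, hn]
    obtain ⟨j, f, hj⟩ := exists_appTop_map_eq_zero_of_isAffine_of_isLimit K c hc i (y ^ n) h0
    rw [map_pow] at hj
    have := hred j
    have hz : (K.map f).appTop y = 0 := IsNilpotent.eq_zero ⟨n, hj⟩
    have hw : c.π.app j ≫ K.map f = c.π.app i := c.w f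
    rw [← hw, Scheme.Hom.comp_appTop]
    simp [hz]
  exact isReduced_of_isAffine_isReduced c.pt

variable {S : Scheme.{u}}

/-- A scheme with a representable etale map to a sheaf which has a reduced etale surjective chart is reduced. -/
theorem isReduced_of_etale_chart {X : AlgSp.Sp S} (hX : AlgSp.IsReducedSp X) {V : Over S}
    (a : (AlgSp.yon S).obj V ⟶ X) (ha : AlgSp.RepWith @Etale a) : IsReduced V.left := by
  obtain ⟨U, p, hpe, hps, hU⟩ := hX
  -- the fibre product `V ×_X U` is a scheme `W`, etale over `U` and etale surjective over `V`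
  obtain ⟨W, pr, h', sq⟩ := hpe.1 a
  obtain ⟨h, rfl⟩ := (AlgSp.yon S).map_surjective h'
  -- `sq : IsPullback (yon.map h) (yon.map pr) p a`
  have : Etale pr.left := hpe.2 _ _ pr sq
  have : Surjective pr.left := hps.2 _ _ pr sq
  have : Etale h.left := ha.2 _ _ h sq.flip
  have : IsReduced U.left := hU
  have : IsReduced W.left := Groth.Agent.Lib.Helper12.Reduced.isReduced_of_smooth h.left
  exact Groth.Agent.Lib.Helper12.Reduced.isReduced_of_flat_of_surjective pr.left

/-- if `h_W ≅ h_V` then `W.left ≅ V.left` -/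
noncomputable def leftIsoOfYonIso {W V : Over S}
    (e : (AlgSp.yon S).obj W ≅ (AlgSp.yon S).obj V) : W.left ≅ V.left :=
  (Over.forget S).mapIso ((AlgSp.yon S).preimageIso e)

/-- Further base change of a representing scheme: if `h_U = h_{U₀} ×_{X₀} X` then for `t : T ⟶ U₀` the scheme
`U ×_{U₀} T` represents `h_T ×_{X₀} X`. -/
theorem isPullback_chart_base_change {X X₀ : AlgSp.Sp S} {π : X ⟶ X₀} {U₀ U : Over S}
    {p₀ : (AlgSp.yon S).obj U₀ ⟶ X₀} {snd : U ⟶ U₀} {fst : (AlgSp.yon S).obj U ⟶ X}
    (sq : IsPullback fst ((AlgSp.yon S).map snd) π p₀) {T : Over S} (t : T ⟶ U₀) :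
    IsPullback ((AlgSp.yon S).map (pullback.fst snd t) ≫ fst) ((AlgSp.yon S).map (pullback.snd snd t)) π
      ((AlgSp.yon S).map t ≫ p₀) := by
  have h1 : IsPullback ((AlgSp.yon S).map (pullback.fst snd t)) ((AlgSp.yon S).map (pullback.snd snd t))
      ((AlgSp.yon S).map snd) ((AlgSp.yon S).map t) :=
    (IsPullback.of_hasPullback snd t).map (AlgSp.yon S)
  exact h1.paste_horiz sq

/-- The limit of a cofiltered system of reduced algebraic spaces with affine transition maps is reduced. -/
theorem isReducedSp_limit {I : Type u} [SmallCategory I] [IsCofiltered I]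
    (D : I ⥤ AlgSp.Sp S)
    (hDa : ∀ (i j : I) (φ : i ⟶ j), AlgSp.IsAffineMor (D.map φ))
    (c : Cone D) (hc : IsLimit c)
    (hred : ∀ i, AlgSp.IsReducedSp (D.obj i)) : AlgSp.IsReducedSp c.pt := by
  obtain ⟨i₀⟩ : Nonempty I := IsCofiltered.nonempty
  obtain ⟨U₀, p₀, hpe, hps, hU₀⟩ := hred i₀
  have hπ : AlgSp.Representable (c.π.app i₀) :=
    representable_of_isAffineMor _ (isAffineMor_π D hDa c hc i₀)
  obtain ⟨U, snd, fst, sq⟩ := hπ p₀
  refine ⟨U, fst, MorphismProperty.of_isPullback sq.flip hpe, MorphismProperty.of_isPullback sq.flip hps, ?_⟩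
  -- reducedness of `U` is checked on the preimages of an affine open cover of `U₀`
  let 𝒰 := U₀.left.affineCover
  have hcov : ∀ a, IsReduced ((𝒰.pullback₁ snd.left).X a) := by
    intro a
    let Ua : Over S := Over.mk (𝒰.f a ≫ U₀.hom)
    let ja : Ua ⟶ U₀ := Over.homMk (𝒰.f a) rfl
    have hUa : IsAffine Ua.left := inferInstanceAs (IsAffine (𝒰.X a))
    have hjae : AlgSp.RepWith @Etale ((AlgSp.yon S).map ja ≫ p₀) := by
      refine (AlgSp.RepWith @Etale).comp_mem _ _ ((AlgSp.repWith_yon_map_iff _ _).2 ?_) hpe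
      change Etale (𝒰.f a)
      infer_instance
    -- the affine model of `h_{U_a} ×_{X_{i₀}} X`
    have hlim := isLimitPbCone D c hc i₀ ((AlgSp.yon S).map ja ≫ p₀)
    have haff : ∀ j : Over i₀, IsAffRep ((pbFunctor D i₀ ((AlgSp.yon S).map ja ≫ p₀)).obj j) := by
      intro j
      obtain ⟨W, iW, fst', sq', hW⟩ := hDa j.left i₀ j.hom hUa ((AlgSp.yon S).map ja ≫ p₀)
      exact ⟨W, hW, ⟨sq'.flip.isoPullback⟩⟩
    obtain ⟨K, eK, cK, e, -, ⟨hcK⟩, hKaff, -, -⟩ := exists_affine_model _ haff _ hlim
    have hKaff' : ∀ j : Over i₀, IsAffine ((K ⋙ Over.forget S).obj j) := hKaff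
    have hKred : ∀ j : Over i₀, IsReduced ((K ⋙ Over.forget S).obj j) := by
      intro j
      refine isReduced_of_etale_chart (hred j.left)
        (eK.hom.app j ≫ pullback.snd ((AlgSp.yon S).map ja ≫ p₀) (D.map j.hom)) ?_
      have h1 : AlgSp.RepWith @Etale (pullback.snd ((AlgSp.yon S).map ja ≫ p₀) (D.map j.hom)) :=
        MorphismProperty.of_isPullback (IsPullback.of_hasPullback _ _) hjae
      exact MorphismProperty.RespectsIso.precomp _ (eK.app j).hom _ h1
    have hred' : IsReduced cK.pt.left :=
      isReduced_of_isLimit (K ⋙ Over.forget S) hKred ((Over.forget S).mapCone cK) hcK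
    -- `U ×_{U₀} U_a` represents the same sheaf
    have sq2 := isPullback_chart_base_change sq ja
    let e2 : (AlgSp.yon S).obj (pullback snd ja) ≅ (AlgSp.yon S).obj cK.pt :=
      sq2.flip.isoPullback ≪≫ e.symm
    have e3 : (pullback snd ja).left ≅ cK.pt.left := leftIsoOfYonIso e2
    have e4 : (pullback snd ja).left ≅ pullback snd.left ja.left :=
      PreservesPullback.iso (Over.forget S) snd ja
    have e5 : (𝒰.pullback₁ snd.left).X a ≅ cK.pt.left := e4.symm ≪≫ e3
    exact isReduced_of_isOpenImmersion e5.hom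
  exact IsReduced.of_openCover U.left (𝒰.pullback₁ snd.left)

end Groth.Agent.R2.H44.LimRed
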