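import Mathlib
import Groth.Agent.R2.H44GrpLim3
import Groth.Agent.S2075
import Groth.Agent.S2581

/-!
# Torsors over a cofiltered limit of schemes (helper44)

Namespace `Groth.Agent.R2.H44.GrpLim`.

* `HasFppfSection g X`: the base change of `X` along `g` has a section over some fppf covering (flat, surjective, of finite
  presentation) of the base.
* `exists_fppf_descends`: an fppf covering of the limit descends to a stage.
* `hasFppfSection_iff_exists_stage`.
* `isIso_bc_iff`, `isIso_map_iff_exists_stage`: a morphism between schemes of finite presentation over a stage becomes an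
  isomorphism over the limit iff it does so over some stage.
* `torsor_iff_stage`: the statement of S6092.
-/

set_option autoImplicit false
universe u

open CategoryTheory CategoryTheory.Limits MonoidalCategory CartesianMonoidalCategory MonObj GrpObj AlgebraicGeometry

namespace Groth.Agent.R2.H44.GrpLim

open ActBC

section Fppf

/-- the base change of `X` along `g` has a section over an fppf covering of the base -/
def HasFppfSection {S S' : Scheme.{u}} (g : S' ⟶ S) (X : Over S) : Prop :=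
  ∃ (Z : Scheme.{u}) (v : Z ⟶ S') (w : Z ⟶ (Red.bc g X).left), w ≫ (Red.bc g X).hom = v ∧
    Flat v ∧ Surjective v ∧ LocallyOfFinitePresentation v ∧ QuasiCompact v ∧ QuasiSeparated v

theorem hasFppfSection_of_factor {S S' S'' : Scheme.{u}} (e : S'' ⟶ S') (g : S' ⟶ S) (d : S'' ⟶ S) (hd : e ≫ g = d)
    (X : Over S) (h : HasFppfSection g X) : HasFppfSection d X := by
  obtain ⟨Z, v, w, hw, h1, h2, h3, h4, h5⟩ := h
  replace hw : w ≫ pullback.snd X.hom g = v := hw
  refine ⟨pullback v e, pullback.snd v e,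
    pullback.lift (pullback.fst v e ≫ w ≫ pullback.fst X.hom g) (pullback.snd v e) ?_, ?_,
    inferInstance, inferInstance, inferInstance, inferInstance, inferInstance⟩
  · rw [Category.assoc, Category.assoc, pullback.condition, reassoc_of% hw, pullback.condition_assoc, hd]
  · exact pullback.lift_snd _ _ _

end Fppf

section Stage

variable {I : Type u} [SmallCategory I] (D : I ⥤ Scheme.{u})

theorem of_isPullback_stage (P : MorphismProperty Scheme.{u}) [P.IsStableUnderBaseChange] {i₀ i₁ : I} (φ₁ : i₁ ⟶ i₀)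
    {Z₀ : Scheme.{u}} (v₀ : Z₀ ⟶ D.obj i₀) {X₁ Y₁ : Scheme.{u}} (f₁ : X₁ ⟶ Y₁) (g₁ : Y₁ ⟶ D.obj i₁)
    (pY : Y₁ ⟶ D.obj i₀) (pX : X₁ ⟶ Z₀) (hY : IsPullback pY g₁ (𝟙 _) (D.map φ₁)) (hX : IsPullback pX f₁ v₀ pY)
    (hP : P f₁) {i₂ : I} (ψ : i₂ ⟶ i₁) (a : i₂ ⟶ i₀) (ha : ψ ≫ φ₁ = a) : P (pullback.snd v₀ (D.map a)) := by
  have hg : IsIso g₁ := hY.isIso_snd_of_isIso
  have h12 : IsPullback pX (f₁ ≫ g₁) v₀ (D.map φ₁) := by simpa using hX.paste_vert hY
  have hP' : P (f₁ ≫ g₁) := (P.cancel_right_of_respectsIso f₁ g₁).2 hP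
  subst ha
  let l : pullback v₀ (D.map (ψ ≫ φ₁)) ⟶ X₁ := h12.lift (pullback.fst _ _) (pullback.snd _ _ ≫ D.map ψ)
    (by rw [pullback.condition, Category.assoc, ← D.map_comp])
  have hl1 : l ≫ pX = pullback.fst _ _ := h12.lift_fst _ _ _
  have hl2 : l ≫ (f₁ ≫ g₁) = pullback.snd _ _ ≫ D.map ψ := h12.lift_snd _ _ _
  have hsq : IsPullback l (pullback.snd v₀ (D.map (ψ ≫ φ₁))) (f₁ ≫ g₁) (D.map ψ) := by
    refine IsPullback.of_right ?_ hl2 h12
    rw [hl1, ← D.map_comp]
    exact IsPullback.of_hasPullback _ _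
  exact P.of_isPullback hsq hP'

end Stage

section Lim

variable {I : Type u} [SmallCategory I] [IsCofiltered I] (D : I ⥤ Scheme.{u}) (c : Cone D) (hc : IsLimit c)
  [∀ (i i' : I) (f : i ⟶ i'), IsAffineHom (D.map f)] [∀ i, CompactSpace (D.obj i)]
  [∀ i, QuasiSeparatedSpace (D.obj i)]

include hc in
/-- an fppf covering of the limit descends to a stage -/
theorem exists_fppf_descends (j : I) {Z : Scheme.{u}} (v : Z ⟶ c.pt) [Flat v] [Surjective v]
    [LocallyOfFinitePresentation v] [QuasiCompact v] [QuasiSeparated v] :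
    ∃ (i : I) (_ : i ⟶ j) (Zi : Scheme.{u}) (vi : Zi ⟶ D.obj i) (q : Z ⟶ Zi), IsPullback q v vi (c.π.app i) ∧
      Flat vi ∧ Surjective vi ∧ LocallyOfFinitePresentation vi ∧ QuasiCompact vi ∧ QuasiSeparated vi := by
  have inst : ∀ {a b : I} (f : a ⟶ b), IsAffineHom (D.map f) := fun f => inferInstance
  obtain ⟨i₀, Z₀, v₀, q₀, hfp, hqc, hqs, hpb⟩ := Groth.Agent.Lib.Helper26.LimFP.desc_of_fp hc v
  have hZ₀c : CompactSpace Z₀ := QuasiCompact.compactSpace_of_compactSpace v₀
  have hZ₀s : QuasiSeparatedSpace Z₀ := quasiSeparatedSpace_of_quasiSeparated v₀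
  have hY : IsPullback (c.π.app i₀) (𝟙 c.pt) (𝟙 (D.obj i₀)) (c.π.app i₀) := IsPullback.id_vert (c.π.app i₀)
  obtain ⟨i₁, φ₁, X₁, Y₁, f₁, g₁, pY₁, pX₁, hY₁, hX₁, hflat⟩ :=
    Groth.Agent.S2075.result D c hc i₀ v₀ (𝟙 _) v (𝟙 _) (c.π.app i₀) q₀ hY hpb
  have e1 : LocallyOfFinitePresentation (v₀ ≫ 𝟙 (D.obj i₀)) := by rw [Category.comp_id]; exact hfp
  have e2 : QuasiCompact (v₀ ≫ 𝟙 (D.obj i₀)) := by rw [Category.comp_id]; exact hqc
  have e3 : QuasiSeparated (v₀ ≫ 𝟙 (D.obj i₀)) := by rw [Category.comp_id]; exact hqs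
  obtain ⟨i₂, φ₂, X₂, Y₂, f₂, g₂, pY₂, pX₂, hY₂, hX₂, hsurj⟩ :=
    Groth.Agent.S2581.result D c hc i₀ v₀ (𝟙 _) v (𝟙 _) (c.π.app i₀) q₀ hY hpb
  obtain ⟨i₃, ψ₁, ψ₂, hψ⟩ := IsCofiltered.cospan φ₁ φ₂
  let i := IsCofiltered.min i₃ j
  let a : i ⟶ i₀ := IsCofiltered.minToLeft i₃ j ≫ ψ₁ ≫ φ₁
  refine ⟨i, IsCofiltered.minToRight i₃ j, pullback v₀ (D.map a), pullback.snd v₀ (D.map a),
    pullback.lift q₀ (v ≫ c.π.app i) (by rw [hpb.w, Category.assoc, c.w]), ?_, ?_, ?_,
    inferInstance, inferInstance, inferInstance⟩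
  · refine IsPullback.of_right ?_ (pullback.lift_snd _ _ _) (IsPullback.of_hasPullback v₀ (D.map a))
    rw [pullback.lift_fst, c.w]
    exact hpb
  · exact of_isPullback_stage D @Flat φ₁ v₀ f₁ g₁ pY₁ pX₁ hY₁ hX₁ hflat (IsCofiltered.minToLeft i₃ j ≫ ψ₁) a
      (Category.assoc _ _ _)
  · exact of_isPullback_stage D @Surjective φ₂ v₀ f₂ g₂ pY₂ pX₂ hY₂ hX₂ hsurj (IsCofiltered.minToLeft i₃ j ≫ ψ₂) a
      (by rw [Category.assoc, ← hψ])

include hc in
theorem exists_hasFppfSection_descends (j : I) (X : Over (D.obj j)) [LocallyOfFinitePresentation X.hom]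
    (h : HasFppfSection (c.π.app j) X) : ∃ (i : I) (f : i ⟶ j), HasFppfSection (D.map f) X := by
  obtain ⟨Z, v, w, hw, h1, h2, h3, h4, h5⟩ := h
  obtain ⟨i, f, Zi, vi, q, hpb, k1, k2, k3, k4, k5⟩ := exists_fppf_descends D c hc j v
  let Zo : Over (D.obj i) := Over.mk vi
  have k4' : QuasiCompact Zo.hom := k4
  have k5' : QuasiSeparated Zo.hom := k5
  let eZ : Red.bc (c.π.app i) Zo ≅ Over.mk v := (Over.isoMk hpb.isoPullback hpb.isoPullback_hom_snd).symm
  let wO : Over.mk v ⟶ Red.bc (c.π.app j) X := Over.homMk w hw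
  let w' : Red.bc (c.π.app i) Zo ⟶ Red.bc (c.π.app i) (Red.bc (D.map f) X) :=
    eZ.hom ≫ wO ≫ (bcCompIso (c.π.app i) (D.map f) X (c.w f)).inv
  have hXf : LocallyOfFinitePresentation (Red.bc (D.map f) X).hom := by
    change LocallyOfFinitePresentation (pullback.snd X.hom (D.map f))
    infer_instance
  obtain ⟨i', g, v', _⟩ := exists_hom_descends D c hc i Zo (Red.bc (D.map f) X) w'
  refine ⟨i', g ≫ f, pullback vi (D.map g), pullback.snd vi (D.map g),
    (v' ≫ (bcCompIso (D.map g) (D.map f) X (D.map_comp g f).symm).hom).left, ?_,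
    inferInstance, inferInstance, inferInstance, inferInstance, inferInstance⟩
  exact Over.w (v' ≫ (bcCompIso (D.map g) (D.map f) X (D.map_comp g f).symm).hom)

include hc in
theorem hasFppfSection_iff_exists_stage (j : I) (X : Over (D.obj j)) [LocallyOfFinitePresentation X.hom] :
    HasFppfSection (c.π.app j) X ↔ ∃ (i : I) (f : i ⟶ j), HasFppfSection (D.map f) X :=
  ⟨exists_hasFppfSection_descends D c hc j X, fun ⟨i, f, h⟩ =>
    hasFppfSection_of_factor (c.π.app i) (D.map f) (c.π.app j) (c.w f) X h⟩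

end Lim

section Iso

variable {S S' : Scheme.{u}} (g : S' ⟶ S) {A B : Over S} (φ : A ⟶ B)

theorem isIso_bc_iff : IsIso ((Over.pullback g).map φ) ↔
    ((Over.pullback g).map (kerFst φ) = (Over.pullback g).map (kerSnd φ)) ∧ Factors g φ (𝟙 B) := by
  rw [← mono_map_iff (Over.pullback g) (isPullback_kerPair φ)]
  constructor
  · intro h
    exact ⟨inferInstance, inv ((Over.pullback g).map φ), by rw [IsIso.inv_hom_id, CategoryTheory.Functor.map_id]⟩
  · rintro ⟨hm, ν, hν⟩
    rw [CategoryTheory.Functor.map_id] at hν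
    refine ⟨ν, ?_, hν⟩
    rw [← cancel_mono ((Over.pullback g).map φ), Category.assoc, hν, Category.comp_id, Category.id_comp]

end Iso

section Shear

variable {S S' : Scheme.{u}} (g : S' ⟶ S) {G X : Over S} (a : G ⊗ X ⟶ X)

/-- the map `(g, x) ↦ (g · x, x)` -/
noncomputable def shear : G ⊗ X ⟶ X ⊗ X := lift a (snd G X)

theorem isIso_shear_bc_iff :
    IsIso (lift (Functor.LaxMonoidal.μ (Over.pullback g) G X ≫ (Over.pullback g).map a)
      (snd (Red.bc g G) (Red.bc g X))) ↔ IsIso ((Over.pullback g).map (shear a)) := by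
  have key : lift (Functor.LaxMonoidal.μ (Over.pullback g) G X ≫ (Over.pullback g).map a)
      (snd (Red.bc g G) (Red.bc g X)) ≫ Functor.LaxMonoidal.μ (Over.pullback g) X X =
      Functor.LaxMonoidal.μ (Over.pullback g) G X ≫ (Over.pullback g).map (shear a) := by
    rw [shear, ← Functor.Monoidal.lift_μ, comp_lift_assoc, Functor.Monoidal.μ_snd]
  constructor
  · intro h
    have : IsIso (Functor.LaxMonoidal.μ (Over.pullback g) G X ≫ (Over.pullback g).map (shear a)) := by
      rw [← key]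
      infer_instance
    exact IsIso.of_isIso_comp_left (Functor.LaxMonoidal.μ (Over.pullback g) G X) _
  · intro h
    have : IsIso (lift (Functor.LaxMonoidal.μ (Over.pullback g) G X ≫ (Over.pullback g).map a)
        (snd (Red.bc g G) (Red.bc g X)) ≫ Functor.LaxMonoidal.μ (Over.pullback g) X X) := by
      rw [key]
      infer_instance
    exact IsIso.of_isIso_comp_right _ (Functor.LaxMonoidal.μ (Over.pullback g) X X)

end Shear

section MainLim

variable {I : Type u} [SmallCategory I] [IsCofiltered I] (D : I ⥤ Scheme.{u}) (c : Cone D) (hc : IsLimit c)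
  [∀ (i i' : I) (f : i ⟶ i'), IsAffineHom (D.map f)] [∀ i, CompactSpace (D.obj i)]
  [∀ i, QuasiSeparatedSpace (D.obj i)]

include hc in
theorem torsor_iff_stage (j : I) (Gj Xj : Over (D.obj j)) [GrpObj Gj] (act : AlgGrp.Action Gj Xj)
    [LocallyOfFinitePresentation Gj.hom] [QuasiCompact Gj.hom] [QuasiSeparated Gj.hom]
    [LocallyOfFinitePresentation Xj.hom] [QuasiCompact Xj.hom] [QuasiSeparated Xj.hom] :
    (IsIso (lift (Functor.LaxMonoidal.μ (Over.pullback (c.π.app j)) Gj Xj ≫ (Over.pullback (c.π.app j)).map act.act)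
        (snd (Red.bc (c.π.app j) Gj) (Red.bc (c.π.app j) Xj))) ∧
        ∃ (Z : Scheme.{u}) (v : Z ⟶ c.pt) (w : Z ⟶ (Red.bc (c.π.app j) Xj).left),
          w ≫ (Red.bc (c.π.app j) Xj).hom = v ∧
          Flat v ∧ Surjective v ∧ LocallyOfFinitePresentation v ∧ QuasiCompact v ∧ QuasiSeparated v) ↔
    ∃ (i : I) (f : i ⟶ j), (IsIso (lift (Functor.LaxMonoidal.μ (Over.pullback (D.map f)) Gj Xj ≫
        (Over.pullback (D.map f)).map act.act) (snd (Red.bc (D.map f) Gj) (Red.bc (D.map f) Xj))) ∧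
        ∃ (Z : Scheme.{u}) (v : Z ⟶ (D.obj i)) (w : Z ⟶ (Red.bc (D.map f) Xj).left),
          w ≫ (Red.bc (D.map f) Xj).hom = v ∧
          Flat v ∧ Surjective v ∧ LocallyOfFinitePresentation v ∧ QuasiCompact v ∧ QuasiSeparated v) := by
  have qA1 : QuasiCompact (Gj ⊗ Xj).hom := by
    change QuasiCompact (pullback.fst Gj.hom Xj.hom ≫ Gj.hom)
    infer_instance
  have qA2 : QuasiSeparated (Gj ⊗ Xj).hom := by
    change QuasiSeparated (pullback.fst Gj.hom Xj.hom ≫ Gj.hom)
    infer_instance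
  have qA3 : LocallyOfFinitePresentation (Gj ⊗ Xj).hom := by
    change LocallyOfFinitePresentation (pullback.fst Gj.hom Xj.hom ≫ Gj.hom)
    infer_instance
  have qB1 : QuasiCompact (Xj ⊗ Xj).hom := by
    change QuasiCompact (pullback.fst Xj.hom Xj.hom ≫ Xj.hom)
    infer_instance
  have qB2 : QuasiSeparated (Xj ⊗ Xj).hom := by
    change QuasiSeparated (pullback.fst Xj.hom Xj.hom ≫ Xj.hom)
    infer_instance
  have qB3 : LocallyOfFiniteType (Xj ⊗ Xj).hom := by
    change LocallyOfFiniteType (pullback.fst Xj.hom Xj.hom ≫ Xj.hom)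
    infer_instance
  have hφ : QuasiCompact (shear act.act).left := by
    have : QuasiCompact ((shear act.act).left ≫ (Xj ⊗ Xj).hom) := by
      rw [Over.w (shear act.act)]
      infer_instance
    exact QuasiCompact.of_comp (shear act.act).left (Xj ⊗ Xj).hom
  have qK : QuasiCompact (kerPair (shear act.act)).hom := by
    change QuasiCompact (pullback.fst (shear act.act).left (shear act.act).left ≫ (Gj ⊗ Xj).hom)
    infer_instance
  have stabEq : ∀ {A B : Over (D.obj j)} (u₁ u₂ : A ⟶ B) ⦃i' i'' : I⦄ (a : i'' ⟶ i') (g : i' ⟶ j),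
      (Over.pullback (D.map g)).map u₁ = (Over.pullback (D.map g)).map u₂ →
        (Over.pullback (D.map (a ≫ g))).map u₁ = (Over.pullback (D.map (a ≫ g))).map u₂ := fun u₁ u₂ _ _ a g hg =>
    pullback_map_eq_of_factor (D.map g) (D.map a) _ (D.map_comp a g).symm _ _ hg
  have stabF : ∀ ⦃i' i'' : I⦄ (a : i'' ⟶ i') (g : i' ⟶ j),
      Factors (D.map g) (shear act.act) (𝟙 (Xj ⊗ Xj)) → Factors (D.map (a ≫ g)) (shear act.act) (𝟙 (Xj ⊗ Xj)) :=
    fun _ _ a g hg => factors_of_factor (D.map a) (D.map g) _ (D.map_comp a g).symm _ _ hg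
  have stabS : ∀ ⦃i' i'' : I⦄ (a : i'' ⟶ i') (g : i' ⟶ j),
      HasFppfSection (D.map g) Xj → HasFppfSection (D.map (a ≫ g)) Xj :=
    fun _ _ a g hg => hasFppfSection_of_factor (D.map a) (D.map g) _ (D.map_comp a g).symm _ hg
  change (_ ∧ HasFppfSection (c.π.app j) Xj) ↔ ∃ (i : I) (f : i ⟶ j), (_ ∧ HasFppfSection (D.map f) Xj)
  simp only [isIso_shear_bc_iff, isIso_bc_iff]
  constructor
  · rintro ⟨⟨h1, h2⟩, h3⟩
    have E12 := exists_and_of_stable _ _ (stabEq _ _) stabF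
      (exists_pullback_map_eq D c hc j _ _ _ _ h1) (exists_factors_descends D c hc j _ _ _ _ _ h2)
    exact exists_and_of_stable _ _ (fun i' i'' a g hg => ⟨stabEq _ _ a g hg.1, stabF a g hg.2⟩) stabS E12
      (exists_hasFppfSection_descends D c hc j Xj h3)
  · rintro ⟨i, f, ⟨h1, h2⟩, h3⟩
    exact ⟨⟨pullback_map_eq_of_factor (D.map f) (c.π.app i) (c.π.app j) (c.w f) _ _ h1,
      factors_of_factor (c.π.app i) (D.map f) (c.π.app j) (c.w f) _ _ h2⟩,
      hasFppfSection_of_factor (c.π.app i) (D.map f) (c.π.app j) (c.w f) _ h3⟩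

end MainLim

end Groth.Agent.R2.H44.GrpLim
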