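import Mathlib
import Groth.Agent.R2.H44TorsorLim
import Groth.Agent.R2.H44FppfSrc
import Groth.Agent.Lib.Helper1Thickening
import Groth.Agent.Lib.Helper6LfpComp

/-!
# fppf quotients over a cofiltered limit of schemes (helper44)

Namespace `Groth.Agent.R2.H44.GrpLim`.

* `HasQuotIn s t`: the pair `s, t : R ⟶ X` over a base has an fppf quotient `p : X ⟶ Y` with `R = X ×_Y X`.
* `hasQuotIn_of_iso`, `HasQuotIn.map`, `hasQuotIn_bcComp`: invariance under isomorphisms and base change.
* `HasQuotIn.exists_fp`: the quotient is of finite presentation over the base when `X` and `R` are.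
* `hasQuotIn_iff_exists_stage`: descent to a stage of a limit.
-/

set_option autoImplicit false
universe u

open CategoryTheory CategoryTheory.Limits MonoidalCategory CartesianMonoidalCategory AlgebraicGeometry

namespace Groth.Agent.R2.H44.GrpLim

open ActBC

section Top

/-- a surjective open morphism whose kernel pair projection is quasi-compact is quasi-compact -/
theorem quasiCompact_of_isPullback_self {X Y P : Scheme.{u}} (f : X ⟶ Y) (a b : P ⟶ X) (h : IsPullback a b f f)
    [Surjective f] (hf : IsOpenMap f) [QuasiCompact a] : QuasiCompact f := by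
  rw [quasiCompact_iff_forall_isAffineOpen]
  intro V hV
  -- saturation of a compact open is compact
  have key : ∀ U : X.Opens, IsCompact (U : Set X) → IsCompact (f ⁻¹' (f '' (U : Set X))) := by
    intro U hU
    have h1 : IsCompact (a ⁻¹' (U : Set X)) := QuasiCompact.isCompact_preimage _ U.isOpen hU
    have h2 : f ⁻¹' (f '' (U : Set X)) = b '' (a ⁻¹' (U : Set X)) := by
      ext x
      constructor
      · rintro ⟨u, hu, hux⟩
        obtain ⟨z, hz1, hz2⟩ := Scheme.Pullback.exists_preimage_pullback (f := f) (g := f) u x hux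
        refine ⟨h.isoPullback.inv z, ?_, ?_⟩
        · change (h.isoPullback.inv ≫ a) z ∈ (U : Set X)
          rw [h.isoPullback_inv_fst, hz1]
          exact hu
        · change (h.isoPullback.inv ≫ b) z = x
          rw [h.isoPullback_inv_snd, hz2]
      · rintro ⟨z, hz, rfl⟩
        refine ⟨a z, hz, ?_⟩
        change (a ≫ f) z = (b ≫ f) z
        rw [h.w]
    rw [h2]
    exact h1.image b.continuous
  -- cover `V` by images of affine opens
  have hcov : ∀ y : V, ∃ U : X.Opens, IsAffineOpen U ∧ (U : Set X) ⊆ f ⁻¹' (V : Set Y) ∧ y.1 ∈ f '' (U : Set X) := by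
    intro y
    obtain ⟨x, hx⟩ := f.surjective y.1
    obtain ⟨U, hU, hxU, hUV⟩ := TopologicalSpace.Opens.isBasis_iff_nbhd.mp X.isBasis_affineOpens
      (show x ∈ f ⁻¹ᵁ V from by
        change f x ∈ V
        rw [hx]
        exact y.2)
    exact ⟨U, hU, hUV, x, hxU, hx⟩
  choose U hUaff hUV hyU using hcov
  obtain ⟨t, ht⟩ := hV.isCompact.elim_finite_subcover (fun y : V => f '' (U y : Set X))
    (fun y => hf _ (U y).isOpen) (fun y hy => Set.mem_iUnion.2 ⟨⟨y, hy⟩, hyU ⟨y, hy⟩⟩)
  have hEq : (f ⁻¹ᵁ V : Set X) = ⋃ y ∈ t, f ⁻¹' (f '' (U y : Set X)) := by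
    ext x
    simp only [Set.mem_iUnion]
    constructor
    · intro hx
      have := ht (show f x ∈ (V : Set Y) from hx)
      simp only [Set.mem_iUnion] at this
      obtain ⟨y, hy, hxy⟩ := this
      exact ⟨y, hy, hxy⟩
    · rintro ⟨y, -, u, hu, hux⟩
      change f x ∈ (V : Set Y)
      rw [← hux]
      exact hUV y hu
  rw [hEq]
  exact t.finite_toSet.isCompact_biUnion (fun y _ => key (U y) (hUaff y).isCompact)

theorem quasiCompact_of_comp_surjective {X Y Z : Scheme.{u}} (f : X ⟶ Y) (g : Y ⟶ Z) [Surjective f]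
    [QuasiCompact (f ≫ g)] : QuasiCompact g := by
  rw [quasiCompact_iff_forall_isAffineOpen]
  intro U hU
  have h1 : IsCompact ((f ≫ g) ⁻¹ᵁ U : Set X) := QuasiCompact.isCompact_preimage _ U.isOpen hU.isCompact
  have h2 : (g ⁻¹ᵁ U : Set Y) = f '' ((f ≫ g) ⁻¹ᵁ U : Set X) := by
    ext y
    constructor
    · intro hy
      obtain ⟨x, rfl⟩ := f.surjective y
      exact ⟨x, hy, rfl⟩
    · rintro ⟨x, hx, rfl⟩
      exact hx
  rw [h2]
  exact h1.image f.continuous

end Top

section HasQuot

variable {S : Scheme.{u}}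

/-- the pair `s, t : R ⟶ X` has an fppf quotient -/
def HasQuotIn {X R : Over S} (s t : R ⟶ X) : Prop :=
  ∃ (Y : Over S) (p : X ⟶ Y), Flat p.left ∧ Surjective p.left ∧ LocallyOfFinitePresentation p.left ∧
    IsPullback s t p p

theorem hasQuotIn_of_iso {X R X' R' : Over S} {s t : R ⟶ X} {s' t' : R' ⟶ X'} (eR : R ≅ R') (eX : X ≅ X')
    (hs : s ≫ eX.hom = eR.hom ≫ s') (ht : t ≫ eX.hom = eR.hom ≫ t') (h : HasQuotIn s t) : HasQuotIn s' t' := by
  obtain ⟨Y, p, h1, h2, h3, h4⟩ := h
  have hiso : IsIso eX.inv.left := inferInstanceAs (IsIso ((Over.forget S).map eX.inv))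
  refine ⟨Y, eX.inv ≫ p, ?_, ?_, ?_, ?_⟩
  · rw [Over.comp_left]
    infer_instance
  · rw [Over.comp_left]
    infer_instance
  · rw [Over.comp_left]
    infer_instance
  · exact IsPullback.of_iso h4 eR eX eX (Iso.refl Y) hs ht (by simp) (by simp)

theorem isPullback_map_left {S' : Scheme.{u}} (e : S' ⟶ S) {X Y : Over S} (p : X ⟶ Y) :
    IsPullback (pullback.fst X.hom e) ((Over.pullback e).map p).left p.left (pullback.fst Y.hom e) := by
  refine IsPullback.of_bot ?_ (pullback_map_left_fst e p).symm (IsPullback.of_hasPullback Y.hom e)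
  have h1 : ((Over.pullback e).map p).left ≫ pullback.snd Y.hom e = pullback.snd X.hom e :=
    Over.w ((Over.pullback e).map p)
  rw [h1, Over.w p]
  exact IsPullback.of_hasPullback X.hom e

theorem HasQuotIn.map {S' : Scheme.{u}} (e : S' ⟶ S) {X R : Over S} {s t : R ⟶ X} (h : HasQuotIn s t) :
    HasQuotIn ((Over.pullback e).map s) ((Over.pullback e).map t) := by
  obtain ⟨Y, p, h1, h2, h3, h4⟩ := h
  have sq := isPullback_map_left e p
  exact ⟨(Over.pullback e).obj Y, (Over.pullback e).map p,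
    MorphismProperty.of_isPullback (P := @Flat) sq h1,
    MorphismProperty.of_isPullback (P := @Surjective) sq h2,
    MorphismProperty.of_isPullback (P := @LocallyOfFinitePresentation) sq h3, h4.map (Over.pullback e)⟩

theorem hasQuotIn_bcComp {S' S'' : Scheme.{u}} (e : S'' ⟶ S') (g : S' ⟶ S) (d : S'' ⟶ S) (hd : e ≫ g = d)
    {X R : Over S} (s t : R ⟶ X) :
    HasQuotIn ((Over.pullback e).map ((Over.pullback g).map s)) ((Over.pullback e).map ((Over.pullback g).map t)) ↔
      HasQuotIn ((Over.pullback d).map s) ((Over.pullback d).map t) := by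
  constructor
  · exact hasQuotIn_of_iso (bcCompIso e g R hd) (bcCompIso e g X hd) (bcCompIso_hom_naturality e g hd s)
      (bcCompIso_hom_naturality e g hd t)
  · refine hasQuotIn_of_iso (bcCompIso e g R hd).symm (bcCompIso e g X hd).symm ?_ ?_
    · rw [Iso.symm_hom, Iso.symm_hom, Iso.eq_inv_comp, ← Category.assoc, Iso.comp_inv_eq]
      exact (bcCompIso_hom_naturality e g hd s).symm
    · rw [Iso.symm_hom, Iso.symm_hom, Iso.eq_inv_comp, ← Category.assoc, Iso.comp_inv_eq]
      exact (bcCompIso_hom_naturality e g hd t).symm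

theorem hasQuotIn_of_factor {S' S'' : Scheme.{u}} (e : S'' ⟶ S') (g : S' ⟶ S) (d : S'' ⟶ S) (hd : e ≫ g = d)
    {X R : Over S} (s t : R ⟶ X) (h : HasQuotIn ((Over.pullback g).map s) ((Over.pullback g).map t)) :
    HasQuotIn ((Over.pullback d).map s) ((Over.pullback d).map t) :=
  (hasQuotIn_bcComp e g d hd s t).1 (h.map e)

/-- the quotient is of finite presentation over the base -/
theorem HasQuotIn.exists_fp {X R : Over S} {s t : R ⟶ X} [LocallyOfFinitePresentation X.hom] [QuasiCompact X.hom]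
    [QuasiSeparated X.hom] [QuasiCompact R.hom] (h : HasQuotIn s t) :
    ∃ (Y : Over S) (p : X ⟶ Y), Flat p.left ∧ Surjective p.left ∧ LocallyOfFinitePresentation p.left ∧
      IsPullback s t p p ∧ LocallyOfFinitePresentation Y.hom ∧ QuasiCompact Y.hom ∧ QuasiSeparated Y.hom := by
  obtain ⟨Y, p, h1, h2, h3, h4⟩ := h
  have hw : p.left ≫ Y.hom = X.hom := Over.w p
  have e1 : LocallyOfFinitePresentation (p.left ≫ Y.hom) := by rw [hw]; infer_instance
  have e2 : QuasiCompact (p.left ≫ Y.hom) := by rw [hw]; infer_instance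
  have e3 : QuasiSeparated (p.left ≫ Y.hom) := by rw [hw]; infer_instance
  have hs : QuasiCompact s.left := by
    have : QuasiCompact (s.left ≫ X.hom) := by
      rw [Over.w s]
      infer_instance
    exact QuasiCompact.of_comp s.left X.hom
  have h4' : IsPullback s.left t.left p.left p.left := h4.map (Over.forget S)
  have hp : QuasiCompact p.left := quasiCompact_of_isPullback_self p.left s.left t.left h4' p.left.isOpenMap
  refine ⟨Y, p, h1, h2, h3, h4, ?_, ?_, ?_⟩
  · exact Groth.Agent.R2.H44.FppfSrc.locallyOfFinitePresentation_of_fppf_cover_source p.left Y.hom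
  · exact quasiCompact_of_comp_surjective p.left Y.hom
  · exact Groth.Agent.Lib.Helper1.quasiSeparated_of_comp_surjective p.left Y.hom

end HasQuot

section Cat

variable {C : Type*} [Category C] {E : Type*} [Category E] (Φ : C ⥤ E)

theorem isPullback_map_iff_isIso {R X Y K : C} {s t : R ⟶ X} {p : X ⟶ Y} {k₁ k₂ : K ⟶ X} (hK : IsPullback k₁ k₂ p p)
    [PreservesLimit (cospan p p) Φ] (κ : R ⟶ K) (h1 : κ ≫ k₁ = s) (h2 : κ ≫ k₂ = t) :
    IsPullback (Φ.map s) (Φ.map t) (Φ.map p) (Φ.map p) ↔ IsIso (Φ.map κ) := by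
  have hK' := hK.map Φ
  have e1 : Φ.map κ ≫ Φ.map k₁ = Φ.map s := by rw [← Φ.map_comp, h1]
  have e2 : Φ.map κ ≫ Φ.map k₂ = Φ.map t := by rw [← Φ.map_comp, h2]
  constructor
  · intro h
    have : Φ.map κ = (h.isoIsPullback _ _ hK').hom := by
      apply hK'.hom_ext
      · rw [e1, IsPullback.isoIsPullback_hom_fst]
      · rw [e2, IsPullback.isoIsPullback_hom_snd]
    rw [this]
    infer_instance
  · intro h
    refine IsPullback.of_iso hK' (asIso (Φ.map κ)).symm (Iso.refl _) (Iso.refl _) (Iso.refl _) ?_ ?_ (by simp) (by simp)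
    · simp [← e1]
    · simp [← e2]

end Cat

section BC

variable {S S' S'' : Scheme.{u}}

theorem isIso_left {X Y : Over S} (f : X ⟶ Y) [IsIso f] : IsIso f.left :=
  inferInstanceAs (IsIso ((Over.forget S).map f))

theorem map_left_bcComp_iff (P : MorphismProperty Scheme.{u}) [P.RespectsIso] (e : S'' ⟶ S') (g : S' ⟶ S)
    (d : S'' ⟶ S) (hd : e ≫ g = d) {X Y : Over S} (p : X ⟶ Y) :
    P ((Over.pullback e).map ((Over.pullback g).map p)).left ↔ P ((Over.pullback d).map p).left := by
  have nat := bcCompIso_hom_naturality e g hd p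
  have h1 : IsIso (bcCompIso e g X hd).inv.left := isIso_left _
  have h2 : IsIso (bcCompIso e g Y hd).hom.left := isIso_left _
  have : ((Over.pullback d).map p).left = (bcCompIso e g X hd).inv.left ≫
      ((Over.pullback e).map ((Over.pullback g).map p)).left ≫ (bcCompIso e g Y hd).hom.left := by
    rw [← Over.comp_left, ← Over.comp_left, nat, Iso.inv_hom_id_assoc]
  rw [this, P.cancel_left_of_respectsIso, P.cancel_right_of_respectsIso]

theorem map_left_of_factor (P : MorphismProperty Scheme.{u}) [P.IsStableUnderBaseChange] (e : S'' ⟶ S') (g : S' ⟶ S)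
    (d : S'' ⟶ S) (hd : e ≫ g = d) {X Y : Over S} (p : X ⟶ Y) (h : P ((Over.pullback g).map p).left) :
    P ((Over.pullback d).map p).left :=
  (map_left_bcComp_iff P e g d hd p).1 (P.of_isPullback (isPullback_map_left e _) h)

end BC

section Stage

variable {I : Type u} [SmallCategory I] (D : I ⥤ Scheme.{u})

/-- transfer of a property from an arbitrary base change tower to the base change functor -/
theorem map_left_of_isPullback (P : MorphismProperty Scheme.{u}) [P.IsStableUnderBaseChange] {i i₁ : I} (φ : i₁ ⟶ i)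
    {X Y : Over (D.obj i)} (p : X ⟶ Y) {Xi Yi : Scheme.{u}} (fi : Xi ⟶ Yi) (gi : Yi ⟶ D.obj i₁) (pY : Yi ⟶ Y.left)
    (pX : Xi ⟶ X.left) (hY : IsPullback pY gi Y.hom (D.map φ)) (hX : IsPullback pX fi p.left pY) (hP : P fi) :
    P ((Over.pullback (D.map φ)).map p).left := by
  let eY : Yi ≅ pullback Y.hom (D.map φ) := hY.isoPullback
  have e1' : eY.inv ≫ pY = pullback.fst _ _ := hY.isoPullback_inv_fst
  have sq := isPullback_map_left (D.map φ) p
  let l : pullback X.hom (D.map φ) ⟶ Xi := hX.lift (pullback.fst X.hom (D.map φ))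
    (((Over.pullback (D.map φ)).map p).left ≫ eY.inv) (by rw [Category.assoc, e1', sq.w])
  have hl1 : l ≫ pX = pullback.fst _ _ := hX.lift_fst _ _ _
  have hl2 : l ≫ fi = ((Over.pullback (D.map φ)).map p).left ≫ eY.inv := hX.lift_snd _ _ _
  have hsq : IsPullback l ((Over.pullback (D.map φ)).map p).left fi eY.inv := by
    refine IsPullback.of_right ?_ hl2 hX
    rw [hl1, e1']
    exact sq
  exact P.of_isPullback hsq hP

end Stage

section Lim

variable {I : Type u} [SmallCategory I] [IsCofiltered I] (D : I ⥤ Scheme.{u}) (c : Cone D) (hc : IsLimit c)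
  [∀ (i i' : I) (f : i ⟶ i'), IsAffineHom (D.map f)] [∀ i, CompactSpace (D.obj i)]
  [∀ i, QuasiSeparatedSpace (D.obj i)]

include hc in
theorem exists_flat_map_left (i : I) (X Y : Over (D.obj i)) (p : X ⟶ Y) [QuasiCompact X.hom] [QuasiSeparated X.hom]
    [QuasiCompact Y.hom] [QuasiSeparated Y.hom] [LocallyOfFinitePresentation p.left]
    (h : Flat ((Over.pullback (c.π.app i)).map p).left) :
    ∃ (i' : I) (g : i' ⟶ i), Flat ((Over.pullback (D.map g)).map p).left := by
  have : CompactSpace X.left := QuasiCompact.compactSpace_of_compactSpace X.hom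
  have : QuasiSeparatedSpace X.left := quasiSeparatedSpace_of_quasiSeparated X.hom
  have : CompactSpace Y.left := QuasiCompact.compactSpace_of_compactSpace Y.hom
  have : QuasiSeparatedSpace Y.left := quasiSeparatedSpace_of_quasiSeparated Y.hom
  obtain ⟨i₁, φ, Xi, Yi, fi, gi, pY, pX, hY, hX, hfl⟩ := Groth.Agent.S2075.result D c hc i p.left Y.hom
    ((Over.pullback (c.π.app i)).map p).left (pullback.snd Y.hom (c.π.app i)) (pullback.fst Y.hom (c.π.app i))
    (pullback.fst X.hom (c.π.app i)) (IsPullback.of_hasPullback _ _) (isPullback_map_left (c.π.app i) p)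
  exact ⟨i₁, φ, map_left_of_isPullback D @Flat φ p fi gi pY pX hY hX hfl⟩

include hc in
theorem exists_surjective_map_left (i : I) (X Y : Over (D.obj i)) (p : X ⟶ Y) [QuasiCompact X.hom]
    [QuasiSeparated X.hom] [LocallyOfFinitePresentation X.hom]
    [QuasiCompact Y.hom] [QuasiSeparated Y.hom] [LocallyOfFinitePresentation Y.hom]
    (h : Surjective ((Over.pullback (c.π.app i)).map p).left) :
    ∃ (i' : I) (g : i' ⟶ i), Surjective ((Over.pullback (D.map g)).map p).left := by
  have e1 : LocallyOfFinitePresentation (p.left ≫ Y.hom) := by rw [Over.w p]; infer_instance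
  have e2 : QuasiCompact (p.left ≫ Y.hom) := by rw [Over.w p]; infer_instance
  have e3 : QuasiSeparated (p.left ≫ Y.hom) := by rw [Over.w p]; infer_instance
  obtain ⟨i₁, φ, Xi, Yi, fi, gi, pY, pX, hY, hX, hfl⟩ := Groth.Agent.S2581.result D c hc i p.left Y.hom
    ((Over.pullback (c.π.app i)).map p).left (pullback.snd Y.hom (c.π.app i)) (pullback.fst Y.hom (c.π.app i))
    (pullback.fst X.hom (c.π.app i)) (IsPullback.of_hasPullback _ _) (isPullback_map_left (c.π.app i) p)
  exact ⟨i₁, φ, map_left_of_isPullback D @Surjective φ p fi gi pY pX hY hX hfl⟩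

end Lim

section QuotData

variable {S S' S'' : Scheme.{u}}

/-- the data of a quotient after base change along `g` -/
def QuotData (g : S' ⟶ S) {X R Y : Over S} (s t : R ⟶ X) (p : X ⟶ Y) : Prop :=
  Flat ((Over.pullback g).map p).left ∧ Surjective ((Over.pullback g).map p).left ∧
    IsPullback ((Over.pullback g).map s) ((Over.pullback g).map t) ((Over.pullback g).map p)
      ((Over.pullback g).map p)

theorem bcCompIso_inv_naturality (e : S'' ⟶ S') (g : S' ⟶ S) (d : S'' ⟶ S) (hd : e ≫ g = d) {X Y : Over S}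
    (φ : X ⟶ Y) : (Over.pullback d).map φ ≫ (bcCompIso e g Y hd).inv =
      (bcCompIso e g X hd).inv ≫ (Over.pullback e).map ((Over.pullback g).map φ) := by
  rw [Iso.eq_inv_comp, ← Category.assoc, Iso.comp_inv_eq]
  exact (bcCompIso_hom_naturality e g hd φ).symm

theorem isPullback_bcComp_iff (e : S'' ⟶ S') (g : S' ⟶ S) (d : S'' ⟶ S) (hd : e ≫ g = d) {X R Y : Over S}
    (s t : R ⟶ X) (p : X ⟶ Y) :
    IsPullback ((Over.pullback e).map ((Over.pullback g).map s)) ((Over.pullback e).map ((Over.pullback g).map t))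
      ((Over.pullback e).map ((Over.pullback g).map p)) ((Over.pullback e).map ((Over.pullback g).map p)) ↔
    IsPullback ((Over.pullback d).map s) ((Over.pullback d).map t) ((Over.pullback d).map p)
      ((Over.pullback d).map p) := by
  constructor
  · intro h
    exact IsPullback.of_iso h (bcCompIso e g R hd) (bcCompIso e g X hd) (bcCompIso e g X hd) (bcCompIso e g Y hd)
      (bcCompIso_hom_naturality e g hd s) (bcCompIso_hom_naturality e g hd t)
      (bcCompIso_hom_naturality e g hd p) (bcCompIso_hom_naturality e g hd p)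
  · intro h
    exact IsPullback.of_iso h (bcCompIso e g R hd).symm (bcCompIso e g X hd).symm (bcCompIso e g X hd).symm
      (bcCompIso e g Y hd).symm (bcCompIso_inv_naturality e g d hd s) (bcCompIso_inv_naturality e g d hd t)
      (bcCompIso_inv_naturality e g d hd p) (bcCompIso_inv_naturality e g d hd p)

theorem quotData_bcComp (e : S'' ⟶ S') (g : S' ⟶ S) (d : S'' ⟶ S) (hd : e ≫ g = d) {X R Y : Over S}
    (s t : R ⟶ X) (p : X ⟶ Y) :
    QuotData e ((Over.pullback g).map s) ((Over.pullback g).map t) ((Over.pullback g).map p) ↔ QuotData d s t p := by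
  unfold QuotData
  rw [map_left_bcComp_iff @Flat e g d hd p, map_left_bcComp_iff @Surjective e g d hd p,
    isPullback_bcComp_iff e g d hd s t p]

end QuotData

section LimQuot

variable {I : Type u} [SmallCategory I] [IsCofiltered I] (D : I ⥤ Scheme.{u}) (c : Cone D) (hc : IsLimit c)
  [∀ (i i' : I) (f : i ⟶ i'), IsAffineHom (D.map f)] [∀ i, CompactSpace (D.obj i)]
  [∀ i, QuasiSeparatedSpace (D.obj i)]

include hc in
theorem exists_hasQuotIn_of_quotData_aux (i : I) (X R Y : Over (D.obj i))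
    [LocallyOfFinitePresentation X.hom] [QuasiCompact X.hom] [QuasiSeparated X.hom]
    [LocallyOfFinitePresentation R.hom] [QuasiCompact R.hom] [QuasiSeparated R.hom]
    [LocallyOfFinitePresentation Y.hom] [QuasiCompact Y.hom] [QuasiSeparated Y.hom]
    (s t : R ⟶ X) (p : X ⟶ Y) (hst : s ≫ p = t ≫ p) (h : QuotData (c.π.app i) s t p) :
    ∃ (i' : I) (g : i' ⟶ i), HasQuotIn ((Over.pullback (D.map g)).map s) ((Over.pullback (D.map g)).map t) := by
  have e1 : LocallyOfFinitePresentation (p.left ≫ Y.hom) := by rw [Over.w p]; infer_instance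
  have e2 : QuasiCompact (p.left ≫ Y.hom) := by rw [Over.w p]; infer_instance
  have e3 : QuasiSeparated (p.left ≫ Y.hom) := by rw [Over.w p]; infer_instance
  have hplfp : LocallyOfFinitePresentation p.left :=
    Groth.Agent.Lib.Helper6.locallyOfFinitePresentation_of_comp (g := Y.hom) inferInstance e1
  have hpqc : QuasiCompact p.left := QuasiCompact.of_comp p.left Y.hom
  have hpqs : QuasiSeparated p.left := QuasiSeparated.of_comp p.left Y.hom
  let κ : R ⟶ kerPair p := (isPullback_kerPair p).lift s t hst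
  have hκ1 : κ ≫ kerFst p = s := (isPullback_kerPair p).lift_fst _ _ _
  have hκ2 : κ ≫ kerSnd p = t := (isPullback_kerPair p).lift_snd _ _ _
  have k1 : QuasiCompact (kerPair p).hom := by
    change QuasiCompact (pullback.fst p.left p.left ≫ X.hom)
    infer_instance
  have k2 : QuasiSeparated (kerPair p).hom := by
    change QuasiSeparated (pullback.fst p.left p.left ≫ X.hom)
    infer_instance
  have k3 : LocallyOfFiniteType (kerPair p).hom := by
    change LocallyOfFiniteType (pullback.fst p.left p.left ≫ X.hom)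
    infer_instance
  have hκqc : QuasiCompact κ.left := by
    have : QuasiCompact (κ.left ≫ (kerPair p).hom) := by
      rw [Over.w κ]
      infer_instance
    exact QuasiCompact.of_comp κ.left (kerPair p).hom
  have k4 : QuasiCompact (kerPair κ).hom := by
    change QuasiCompact (pullback.fst κ.left κ.left ≫ R.hom)
    infer_instance
  have key : ∀ {S' : Scheme.{u}} (g : S' ⟶ D.obj i),
      IsPullback ((Over.pullback g).map s) ((Over.pullback g).map t) ((Over.pullback g).map p)
        ((Over.pullback g).map p) ↔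
      ((Over.pullback g).map (kerFst κ) = (Over.pullback g).map (kerSnd κ)) ∧ Factors g κ (𝟙 (kerPair p)) :=
    fun g => (isPullback_map_iff_isIso (Over.pullback g) (isPullback_kerPair p) κ hκ1 hκ2).trans (isIso_bc_iff g κ)
  obtain ⟨h1, h2, h3⟩ := h
  rw [key] at h3
  have stabEq : ∀ {A B : Over (D.obj i)} (u₁ u₂ : A ⟶ B) ⦃i' i'' : I⦄ (a : i'' ⟶ i') (g : i' ⟶ i),
      (Over.pullback (D.map g)).map u₁ = (Over.pullback (D.map g)).map u₂ →
        (Over.pullback (D.map (a ≫ g))).map u₁ = (Over.pullback (D.map (a ≫ g))).map u₂ := fun u₁ u₂ _ _ a g hg =>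
    pullback_map_eq_of_factor (D.map g) (D.map a) _ (D.map_comp a g).symm _ _ hg
  have stabF : ∀ ⦃i' i'' : I⦄ (a : i'' ⟶ i') (g : i' ⟶ i),
      Factors (D.map g) κ (𝟙 (kerPair p)) → Factors (D.map (a ≫ g)) κ (𝟙 (kerPair p)) :=
    fun _ _ a g hg => factors_of_factor (D.map a) (D.map g) _ (D.map_comp a g).symm _ _ hg
  have stabP : ∀ (P : MorphismProperty Scheme.{u}) [P.IsStableUnderBaseChange] ⦃i' i'' : I⦄ (a : i'' ⟶ i')
      (g : i' ⟶ i), P ((Over.pullback (D.map g)).map p).left → P ((Over.pullback (D.map (a ≫ g))).map p).left :=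
    fun P _ _ _ a g hg => map_left_of_factor P (D.map a) (D.map g) _ (D.map_comp a g).symm p hg
  have E12 := exists_and_of_stable _ _ (stabEq _ _) stabF
    (exists_pullback_map_eq D c hc i _ _ _ _ h3.1) (exists_factors_descends D c hc i _ _ _ _ _ h3.2)
  have E34 := exists_and_of_stable _ _ (stabP @Flat) (stabP @Surjective)
    (exists_flat_map_left D c hc i X Y p h1) (exists_surjective_map_left D c hc i X Y p h2)
  obtain ⟨i', g, ⟨q1, q2⟩, q3, q4⟩ := exists_and_of_stable _ _
    (fun i' i'' a g hg => ⟨stabEq _ _ a g hg.1, stabF a g hg.2⟩)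
    (fun i' i'' a g hg => ⟨stabP @Flat a g hg.1, stabP @Surjective a g hg.2⟩) E12 E34
  exact ⟨i', g, (Over.pullback (D.map g)).obj Y, (Over.pullback (D.map g)).map p, q3, q4,
    MorphismProperty.of_isPullback (P := @LocallyOfFinitePresentation) (isPullback_map_left (D.map g) p) hplfp,
    (key _).2 ⟨q1, q2⟩⟩

omit [IsCofiltered I] [∀ (i i' : I) (f : i ⟶ i'), IsAffineHom (D.map f)] [∀ i, CompactSpace (D.obj i)]
  [∀ i, QuasiSeparatedSpace (D.obj i)] in
theorem fp_bc {i i₁ : I} (b : i₁ ⟶ i) (X : Over (D.obj i)) [LocallyOfFinitePresentation X.hom] [QuasiCompact X.hom]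
    [QuasiSeparated X.hom] : LocallyOfFinitePresentation (Red.bc (D.map b) X).hom ∧
      QuasiCompact (Red.bc (D.map b) X).hom ∧ QuasiSeparated (Red.bc (D.map b) X).hom := by
  refine ⟨?_, ?_, ?_⟩
  · change LocallyOfFinitePresentation (pullback.snd X.hom (D.map b))
    infer_instance
  · change QuasiCompact (pullback.snd X.hom (D.map b))
    infer_instance
  · change QuasiSeparated (pullback.snd X.hom (D.map b))
    infer_instance

include hc in
theorem exists_hasQuotIn_of_quotData (i : I) (X R Y : Over (D.obj i))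
    [LocallyOfFinitePresentation X.hom] [QuasiCompact X.hom] [QuasiSeparated X.hom]
    [LocallyOfFinitePresentation R.hom] [QuasiCompact R.hom] [QuasiSeparated R.hom]
    [LocallyOfFinitePresentation Y.hom] [QuasiCompact Y.hom] [QuasiSeparated Y.hom]
    (s t : R ⟶ X) (p : X ⟶ Y) (h : QuotData (c.π.app i) s t p) :
    ∃ (i' : I) (g : i' ⟶ i), HasQuotIn ((Over.pullback (D.map g)).map s) ((Over.pullback (D.map g)).map t) := by
  have hw : (Over.pullback (c.π.app i)).map (s ≫ p) = (Over.pullback (c.π.app i)).map (t ≫ p) := by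
    rw [Functor.map_comp, Functor.map_comp]
    exact h.2.2.w
  obtain ⟨i₁, b, hb⟩ := exists_pullback_map_eq D c hc i R Y _ _ hw
  have h' : QuotData (c.π.app i₁) ((Over.pullback (D.map b)).map s) ((Over.pullback (D.map b)).map t)
      ((Over.pullback (D.map b)).map p) := (quotData_bcComp (c.π.app i₁) (D.map b) (c.π.app i) (c.w b) s t p).2 h
  obtain ⟨x1, x2, x3⟩ := fp_bc D b X
  obtain ⟨r1, r2, r3⟩ := fp_bc D b R
  obtain ⟨y1, y2, y3⟩ := fp_bc D b Y
  obtain ⟨i', g', hq⟩ := exists_hasQuotIn_of_quotData_aux D c hc i₁ (Red.bc (D.map b) X) (Red.bc (D.map b) R)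
    (Red.bc (D.map b) Y) ((Over.pullback (D.map b)).map s) ((Over.pullback (D.map b)).map t)
    ((Over.pullback (D.map b)).map p) (by rw [← Functor.map_comp, ← Functor.map_comp, hb]) h'
  exact ⟨i', g' ≫ b, (hasQuotIn_bcComp (D.map g') (D.map b) _ (D.map_comp g' b).symm s t).1 hq⟩

include hc in
theorem exists_hasQuotIn_of_lim_hom (i : I) (X R Y : Over (D.obj i))
    [LocallyOfFinitePresentation X.hom] [QuasiCompact X.hom] [QuasiSeparated X.hom]
    [LocallyOfFinitePresentation R.hom] [QuasiCompact R.hom] [QuasiSeparated R.hom]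
    [LocallyOfFinitePresentation Y.hom] [QuasiCompact Y.hom] [QuasiSeparated Y.hom]
    (s t : R ⟶ X) (pl : Red.bc (c.π.app i) X ⟶ Red.bc (c.π.app i) Y) (h1 : Flat pl.left) (h2 : Surjective pl.left)
    (h4 : IsPullback ((Over.pullback (c.π.app i)).map s) ((Over.pullback (c.π.app i)).map t) pl pl) :
    ∃ (i' : I) (g : i' ⟶ i), HasQuotIn ((Over.pullback (D.map g)).map s) ((Over.pullback (D.map g)).map t) := by
  obtain ⟨i₀, g₀, p₀, hp₀⟩ := exists_hom_descends D c hc i X Y pl
  have iso1 : IsIso (bcCompIso (c.π.app i₀) (D.map g₀) X (c.w g₀)).hom.left := isIso_left _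
  have iso2 : IsIso (bcCompIso (c.π.app i₀) (D.map g₀) Y (c.w g₀)).inv.left := isIso_left _
  have h' : QuotData (c.π.app i₀) ((Over.pullback (D.map g₀)).map s) ((Over.pullback (D.map g₀)).map t) p₀ := by
    refine ⟨?_, ?_, ?_⟩
    · rw [hp₀, Over.comp_left, Over.comp_left]
      infer_instance
    · rw [hp₀, Over.comp_left, Over.comp_left]
      infer_instance
    · rw [hp₀]
      exact IsPullback.of_iso h4 (bcCompIso (c.π.app i₀) (D.map g₀) R (c.w g₀)).symm
        (bcCompIso (c.π.app i₀) (D.map g₀) X (c.w g₀)).symm (bcCompIso (c.π.app i₀) (D.map g₀) X (c.w g₀)).symm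
        (bcCompIso (c.π.app i₀) (D.map g₀) Y (c.w g₀)).symm
        (bcCompIso_inv_naturality _ _ _ (c.w g₀) s) (bcCompIso_inv_naturality _ _ _ (c.w g₀) t)
        (by simp) (by simp)
  obtain ⟨x1, x2, x3⟩ := fp_bc D g₀ X
  obtain ⟨r1, r2, r3⟩ := fp_bc D g₀ R
  obtain ⟨y1, y2, y3⟩ := fp_bc D g₀ Y
  obtain ⟨i', g', hq⟩ := exists_hasQuotIn_of_quotData D c hc i₀ (Red.bc (D.map g₀) X) (Red.bc (D.map g₀) R)
    (Red.bc (D.map g₀) Y) ((Over.pullback (D.map g₀)).map s) ((Over.pullback (D.map g₀)).map t) p₀ h'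
  exact ⟨i', g' ≫ g₀, (hasQuotIn_bcComp (D.map g') (D.map g₀) _ (D.map_comp g' g₀).symm s t).1 hq⟩

include hc in
theorem exists_hasQuotIn_descends (j : I) (X R : Over (D.obj j))
    [LocallyOfFinitePresentation X.hom] [QuasiCompact X.hom] [QuasiSeparated X.hom]
    [LocallyOfFinitePresentation R.hom] [QuasiCompact R.hom] [QuasiSeparated R.hom]
    (s t : R ⟶ X) (h : HasQuotIn ((Over.pullback (c.π.app j)).map s) ((Over.pullback (c.π.app j)).map t)) :
    ∃ (i : I) (f : i ⟶ j), HasQuotIn ((Over.pullback (D.map f)).map s) ((Over.pullback (D.map f)).map t) := by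
  have inst : ∀ {a b : I} (f : a ⟶ b), IsAffineHom (D.map f) := fun f => inferInstance
  have x1 : LocallyOfFinitePresentation (Red.bc (c.π.app j) X).hom := by
    change LocallyOfFinitePresentation (pullback.snd X.hom (c.π.app j))
    infer_instance
  have x2 : QuasiCompact (Red.bc (c.π.app j) X).hom := by
    change QuasiCompact (pullback.snd X.hom (c.π.app j))
    infer_instance
  have x3 : QuasiSeparated (Red.bc (c.π.app j) X).hom := by
    change QuasiSeparated (pullback.snd X.hom (c.π.app j))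
    infer_instance
  have r2 : QuasiCompact (Red.bc (c.π.app j) R).hom := by
    change QuasiCompact (pullback.snd R.hom (c.π.app j))
    infer_instance
  obtain ⟨Y, p, h1, h2, h3, h4, hY1, hY2, hY3⟩ := h.exists_fp
  obtain ⟨i₀, Y₀, y₀, q, hfp, hqc, hqs, hpb⟩ := Groth.Agent.Lib.Helper26.LimFP.desc_of_fp hc Y.hom
  let i₁ := IsCofiltered.min i₀ j
  let a : i₁ ⟶ i₀ := IsCofiltered.minToLeft i₀ j
  let b : i₁ ⟶ j := IsCofiltered.minToRight i₀ j
  let Yo₀ : Over (D.obj i₀) := Over.mk y₀
  have hYo1 : LocallyOfFinitePresentation Yo₀.hom := hfp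
  have hYo2 : QuasiCompact Yo₀.hom := hqc
  have hYo3 : QuasiSeparated Yo₀.hom := hqs
  let eY : Y ≅ Red.bc (c.π.app i₁) (Red.bc (D.map a) Yo₀) :=
    Over.isoMk hpb.isoPullback hpb.isoPullback_hom_snd ≪≫ (bcCompIso (c.π.app i₁) (D.map a) Yo₀ (c.w a)).symm
  let pl : Red.bc (c.π.app i₁) (Red.bc (D.map b) X) ⟶ Red.bc (c.π.app i₁) (Red.bc (D.map a) Yo₀) :=
    (bcCompIso (c.π.app i₁) (D.map b) X (c.w b)).hom ≫ p ≫ eY.hom
  have iso1 : IsIso (bcCompIso (c.π.app i₁) (D.map b) X (c.w b)).hom.left := isIso_left _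
  have iso2 : IsIso eY.hom.left := isIso_left _
  obtain ⟨xx1, xx2, xx3⟩ := fp_bc D b X
  obtain ⟨rr1, rr2, rr3⟩ := fp_bc D b R
  obtain ⟨yy1, yy2, yy3⟩ := fp_bc D a Yo₀
  obtain ⟨i', g', hq⟩ := exists_hasQuotIn_of_lim_hom D c hc i₁ (Red.bc (D.map b) X) (Red.bc (D.map b) R)
    (Red.bc (D.map a) Yo₀) ((Over.pullback (D.map b)).map s) ((Over.pullback (D.map b)).map t) pl
    (by
      change Flat ((bcCompIso (c.π.app i₁) (D.map b) X (c.w b)).hom ≫ p ≫ eY.hom).left
      rw [Over.comp_left, Over.comp_left]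
      infer_instance)
    (by
      change Surjective ((bcCompIso (c.π.app i₁) (D.map b) X (c.w b)).hom ≫ p ≫ eY.hom).left
      rw [Over.comp_left, Over.comp_left]
      infer_instance)
    (IsPullback.of_iso h4 (bcCompIso (c.π.app i₁) (D.map b) R (c.w b)).symm
      (bcCompIso (c.π.app i₁) (D.map b) X (c.w b)).symm (bcCompIso (c.π.app i₁) (D.map b) X (c.w b)).symm eY
      (bcCompIso_inv_naturality _ _ _ (c.w b) s) (bcCompIso_inv_naturality _ _ _ (c.w b) t)
      (by simp [pl]) (by simp [pl]))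
  exact ⟨i', g' ≫ b, (hasQuotIn_bcComp (D.map g') (D.map b) _ (D.map_comp g' b).symm s t).1 hq⟩

include hc in
theorem hasQuotIn_iff_exists_stage (j : I) (X R : Over (D.obj j))
    [LocallyOfFinitePresentation X.hom] [QuasiCompact X.hom] [QuasiSeparated X.hom]
    [LocallyOfFinitePresentation R.hom] [QuasiCompact R.hom] [QuasiSeparated R.hom] (s t : R ⟶ X) :
    HasQuotIn ((Over.pullback (c.π.app j)).map s) ((Over.pullback (c.π.app j)).map t) ↔
      ∃ (i : I) (f : i ⟶ j), HasQuotIn ((Over.pullback (D.map f)).map s) ((Over.pullback (D.map f)).map t) :=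
  ⟨exists_hasQuotIn_descends D c hc j X R s t, fun ⟨i, f, h⟩ =>
    hasQuotIn_of_factor (c.π.app i) (D.map f) (c.π.app j) (c.w f) s t h⟩

end LimQuot

section GrpQuot

open MonObj

variable {S S' : Scheme.{u}} (g : S' ⟶ S) {G G' : Over S} [GrpObj G] [GrpObj G'] (v : G' ⟶ G)

/-- the right translation action map `(x, h) ↦ x · v h` -/
noncomputable def transl : G ⊗ G' ⟶ G := (G ◁ v) ≫ μ[G]

omit [GrpObj G'] in
theorem hasQuotIn_transl_bc_iff :
    HasQuotIn (((Red.bc g G) ◁ ((Over.pullback g).map v)) ≫ μ[(Red.bc g G)]) (fst (Red.bc g G) (Red.bc g G')) ↔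
      HasQuotIn ((Over.pullback g).map (transl v)) ((Over.pullback g).map (fst G G')) := by
  have e1 : (Functor.Monoidal.μIso (Over.pullback g) G G').hom ≫ (Over.pullback g).map (transl v) =
      ((Red.bc g G) ◁ ((Over.pullback g).map v)) ≫ μ[(Red.bc g G)] := by
    rw [transl, Functor.map_comp, Functor.obj.μ_def, Functor.Monoidal.μIso_hom,
      ← Functor.LaxMonoidal.μ_natural_right_assoc]
  have e2 : (Functor.Monoidal.μIso (Over.pullback g) G G').hom ≫ (Over.pullback g).map (fst G G') =
      fst (Red.bc g G) (Red.bc g G') := by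
    rw [Functor.Monoidal.μIso_hom]
    exact Functor.Monoidal.μ_fst (Over.pullback g) G G'
  constructor
  · exact hasQuotIn_of_iso (Functor.Monoidal.μIso (Over.pullback g) G G') (Iso.refl _)
      (by rw [Iso.refl_hom, Category.comp_id, e1]) (by rw [Iso.refl_hom, Category.comp_id, e2])
  · refine hasQuotIn_of_iso (Functor.Monoidal.μIso (Over.pullback g) G G').symm (Iso.refl _) ?_ ?_
    · rw [Iso.refl_hom, Category.comp_id, Iso.symm_hom, ← e1, Iso.inv_hom_id_assoc]
    · rw [Iso.refl_hom, Category.comp_id, Iso.symm_hom, ← e2, Iso.inv_hom_id_assoc]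

end GrpQuot

section GrpQuotLim

open MonObj

variable {I : Type u} [SmallCategory I] [IsCofiltered I] (D : I ⥤ Scheme.{u}) (c : Cone D) (hc : IsLimit c)
  [∀ (i i' : I) (f : i ⟶ i'), IsAffineHom (D.map f)] [∀ i, CompactSpace (D.obj i)]
  [∀ i, QuasiSeparatedSpace (D.obj i)]

include hc in
theorem grpQuot_iff_exists_stage (j : I) (Gj G'j : Over (D.obj j)) [GrpObj Gj] [GrpObj G'j]
    [LocallyOfFinitePresentation Gj.hom] [QuasiCompact Gj.hom] [QuasiSeparated Gj.hom]
    [LocallyOfFinitePresentation G'j.hom] [QuasiCompact G'j.hom] [QuasiSeparated G'j.hom] (uj : G'j ⟶ Gj) :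
    (∃ (Q : Over c.pt) (p : (Red.bc (c.π.app j) Gj) ⟶ Q), Flat p.left ∧ Surjective p.left ∧
        LocallyOfFinitePresentation p.left ∧
        IsPullback (((Red.bc (c.π.app j) Gj) ◁ ((Over.pullback (c.π.app j)).map uj)) ≫ μ[(Red.bc (c.π.app j) Gj)])
          (fst (Red.bc (c.π.app j) Gj) (Red.bc (c.π.app j) G'j)) p p) ↔
    ∃ (i : I) (f : i ⟶ j), ∃ (Q : Over (D.obj i)) (p : (Red.bc (D.map f) Gj) ⟶ Q), Flat p.left ∧
        Surjective p.left ∧ LocallyOfFinitePresentation p.left ∧
        IsPullback (((Red.bc (D.map f) Gj) ◁ ((Over.pullback (D.map f)).map uj)) ≫ μ[(Red.bc (D.map f) Gj)])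
          (fst (Red.bc (D.map f) Gj) (Red.bc (D.map f) G'j)) p p := by
  have q1 : QuasiCompact (Gj ⊗ G'j).hom := by
    change QuasiCompact (pullback.fst Gj.hom G'j.hom ≫ Gj.hom)
    infer_instance
  have q2 : QuasiSeparated (Gj ⊗ G'j).hom := by
    change QuasiSeparated (pullback.fst Gj.hom G'j.hom ≫ Gj.hom)
    infer_instance
  have q3 : LocallyOfFinitePresentation (Gj ⊗ G'j).hom := by
    change LocallyOfFinitePresentation (pullback.fst Gj.hom G'j.hom ≫ Gj.hom)
    infer_instance
  change HasQuotIn _ _ ↔ ∃ (i : I) (f : i ⟶ j), HasQuotIn _ _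
  simp only [hasQuotIn_transl_bc_iff]
  exact hasQuotIn_iff_exists_stage D c hc j Gj (Gj ⊗ G'j) (transl uj) (fst Gj G'j)

end GrpQuotLim

end Groth.Agent.R2.H44.GrpLim
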