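import Mathlib
import Groth.Agent.R2.H44SepLim
import Groth.Agent.R2.H44LimAffMor

/-!
# Separatedness descends through limits of algebraic spaces over an affine base (helper44)

Namespace `Groth.Agent.R2.H44.SepAff`.

* `exists_chart_affine_kernelPair`: if `X = lim X_i ⟶ h_V` is separated (`V` affine), some `X_{i₁}` has an affine étale
  chart `h_U ⟶ X_{i₁}` with `h_U ×_{X_{i₁}} h_U` affine.
* `eventually_separated_affine_base`: then `X_i ⟶ h_V` is separated for all `i` mapping to some `i₀`.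
-/

set_option autoImplicit false
set_option backward.isDefEq.respectTransparency false
universe u

open CategoryTheory CategoryTheory.Limits AlgebraicGeometry

namespace Groth.Agent.R2.H44.SepAff

open Groth.Agent.R2.H44.LimSp Groth.Agent.R2.H44.LimIso Groth.Agent.R2.H44.SepCat Groth.Agent.R2.H44.SepGen
  Groth.Agent.R2.H44.SepLim Groth.Agent.R2.H44.SepChart Groth.Agent.R2.H44.LimDesc Groth.Agent.R2.H44.LimAffine
  Groth.Agent.R2.H44.LimAffMor

variable {S : Scheme.{u}}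

/-- the source of an affine morphism to a sheaf representable by an affine scheme is representable by an affine scheme -/
theorem isAffRep_of_isAffineMor {P Q : AlgSp.Sp S} (a : P ⟶ Q) (ha : AlgSp.IsAffineMor a) (hQ : IsAffRep Q) :
    IsAffRep P := by
  obtain ⟨W, hW, ⟨e⟩⟩ := hQ
  obtain ⟨W', i, fst, sq, hW'⟩ := ha hW e.hom
  have : IsIso fst := sq.isIso_fst_of_isIso
  exact ⟨W', hW', ⟨asIso fst⟩⟩

/-- reparametrising a kernel pair along an isomorphism -/
theorem isPullback_comp_iso {R U' A X : AlgSp.Sp S} {m₁ m₂ : R ⟶ U'} {p : U' ⟶ X} (h : IsPullback m₁ m₂ p p)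
    (a : A ≅ U') : IsPullback (m₁ ≫ a.inv) (m₂ ≫ a.inv) (a.hom ≫ p) (a.hom ≫ p) :=
  IsPullback.of_iso h (Iso.refl _) a.symm a.symm (Iso.refl _) (by simp) (by simp) (by simp) (by simp)

/-- fibre products of affine schemes over an affine scheme -/
theorem isAffRep_pullback {A B : AlgSp.Sp S} {V : Over S} (hV : IsAffine V.left) (hA : IsAffRep A)
    (hB : IsAffRep B) (a : A ⟶ (AlgSp.yon S).obj V) (b : B ⟶ (AlgSp.yon S).obj V) : IsAffRep (pullback a b) :=
  isAffRep_of_isPullback (IsPullback.of_hasPullback a b).flip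
    (isAffineMor_of_isAffRep hA ⟨V, hV, ⟨Iso.refl _⟩⟩ a) hB

theorem exists_chart_affine_kernelPair [QuasiSeparatedSpace S] {I : Type u} [SmallCategory I] [IsCofiltered I]
    (V : Over S) (hV : IsAffine V.left) (D : I ⥤ AlgSp.Sp S) (hD : ∀ i, AlgSp.IsAlgSpace (D.obj i))
    (hDa : ∀ (i j : I) (φ : i ⟶ j), AlgSp.IsAffineMor (D.map φ))
    (hqc : ∀ i, AlgSp.IsQuasiCompactSp (D.obj i)) (hqs : ∀ i, AlgSp.IsQuasiSeparatedSp (D.obj i))
    (c : Cone D) (hc : IsLimit c) (g : c.pt ⟶ (AlgSp.yon S).obj V) (hX : AlgSp.IsSeparatedMor g) :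
    ∃ (i₁ : I) (U : Over S) (u : (AlgSp.yon S).obj U ⟶ D.obj i₁), IsAffine U.left ∧
      AlgSp.RepWith @Etale u ∧ AlgSp.RepWith @Surjective u ∧ IsAffRep (pullback u u) := by
  classical
  obtain ⟨i₀⟩ : Nonempty I := IsCofiltered.nonempty
  obtain ⟨U₀, u, hU₀, hue, hus⟩ := (Groth.Agent.S10180.result ⟨D.obj i₀, hD i₀⟩).1 (hqc i₀)
  change (AlgSp.yon S).obj U₀ ⟶ D.obj i₀ at u
  have hUrep : IsAffRep ((AlgSp.yon S).obj U₀) := ⟨U₀, hU₀, ⟨Iso.refl _⟩⟩
  have hUalg : AlgSp.IsAlgSpace ((AlgSp.yon S).obj U₀) := AlgSp.IsAlgSpace.yon_obj U₀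
  have hUqcqs := qcqs_yon_of_isAffine U₀ hU₀
  have hRalg : AlgSp.IsAlgSpace (pullback u u) :=
    Groth.Agent.S9874.result S (D.obj i₀) (hD i₀).diag ⟨_, hUalg⟩ ⟨_, hUalg⟩ u u _ (pullback.fst _ _)
      (pullback.snd _ _) (IsPullback.of_hasPullback _ _)
  have hRqcqs : AlgSp.IsQuasiCompactSp (pullback u u) ∧ AlgSp.IsQuasiSeparatedSp (pullback u u) :=
    Groth.Agent.S9921.result (X := ⟨_, hUalg⟩) (Y := ⟨_, hD i₀⟩) (Z := ⟨_, hUalg⟩) (P := ⟨_, hRalg⟩)
      (ObjectProperty.homMk u) (ObjectProperty.homMk u) (ObjectProperty.homMk (pullback.fst u u))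
      (ObjectProperty.homMk (pullback.snd u u)) (IsPullback.of_hasPullback u u) hUqcqs ⟨hqc i₀, hqs i₀⟩ hUqcqs
  obtain ⟨ρ, hρ₁⟩ : ∃ ρ : pullback u u ⟶ D.obj i₀, pullback.fst u u ≫ u = ρ := ⟨_, rfl⟩
  have hρ₂ : pullback.snd u u ≫ u = ρ := by rw [← hρ₁]; exact pullback.condition.symm
  have hOalg : ∀ l : Over i₀, AlgSp.IsAlgSpace ((pbFunctor D i₀ ρ).obj l) := fun l =>
    Groth.Agent.S9874.result S (D.obj i₀) (hD i₀).diag ⟨_, hRalg⟩ ⟨_, hD l.left⟩ ρ (D.map l.hom) _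
      (pullback.fst _ _) (pullback.snd _ _) (IsPullback.of_hasPullback _ _)
  have hOqcqs : ∀ l : Over i₀, AlgSp.IsQuasiCompactSp ((pbFunctor D i₀ ρ).obj l) ∧
      AlgSp.IsQuasiSeparatedSp ((pbFunctor D i₀ ρ).obj l) := fun l =>
    Groth.Agent.S9921.result (X := ⟨_, hRalg⟩) (Y := ⟨_, hD i₀⟩) (Z := ⟨_, hD l.left⟩) (P := ⟨_, hOalg l⟩)
      (ObjectProperty.homMk ρ) (ObjectProperty.homMk (D.map l.hom))
      (ObjectProperty.homMk (pullback.fst ρ (D.map l.hom)))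
      (ObjectProperty.homMk (pullback.snd ρ (D.map l.hom))) (IsPullback.of_hasPullback _ _) hRqcqs
      ⟨hqc i₀, hqs i₀⟩ ⟨hqc _, hqs _⟩
  have hOaff : ∀ (l l' : Over i₀) (ψ : l ⟶ l'), AlgSp.IsAffineMor ((pbFunctor D i₀ ρ).map ψ) := fun l l' ψ =>
    Groth.Agent.S9944.isAffineMor_of_isPullback (isPullback_pbFunctor_map D i₀ ρ ψ).flip (hDa _ _ _)
  -- the limit of the kernel pairs is affine
  have haffUinf : IsAffRep (pullback u (c.π.app i₀)) :=
    isAffRep_of_isPullback (IsPullback.of_hasPullback u (c.π.app i₀)) (isAffineMor_π D hDa c hc i₀) hUrep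
  have kp := isPullback_kernelPair_pb u (c.π.app i₀) (pullback.fst u u) (pullback.snd u u)
    (IsPullback.of_hasPullback u u) ρ hρ₁ hρ₂
  have hmd := repWith_mapDesc_of_isSeparatedMor (pullback.snd u (c.π.app i₀)) g hX
  have htarget : IsAffRep (pullback (pullback.snd u (c.π.app i₀) ≫ g) (pullback.snd u (c.π.app i₀) ≫ g)) :=
    isAffRep_pullback hV haffUinf haffUinf _ _
  have hkpinf : IsAffRep (pullback (pullback.snd u (c.π.app i₀)) (pullback.snd u (c.π.app i₀))) :=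
    isAffRep_of_isAffineMor _ (isAffineMor_of_closedImmersion _ hmd) htarget
  have hRinf : IsAffRep (pullback ρ (c.π.app i₀)) := hkpinf.of_iso kp.isoPullback.symm
  obtain ⟨T, hT, ⟨e⟩⟩ := hRinf
  obtain ⟨l, T', hT', ⟨e'⟩⟩ := exists_affine_of_limit (pbFunctor D i₀ ρ) hOalg hOaff (fun l => (hOqcqs l).1)
    (fun l => (hOqcqs l).2) (pbCone D c i₀ ρ) (isLimitPbCone D c hc i₀ ρ) T hT e
  -- the new chart
  obtain ⟨U₁, hU₁, ⟨a⟩⟩ := isAffRep_of_isPullback (IsPullback.of_hasPullback u (D.map l.hom))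
    (hDa _ _ l.hom) hUrep
  refine ⟨l.left, U₁, a.hom ≫ pullback.snd u (D.map l.hom), hU₁, ?_, ?_, ?_⟩
  · exact ((AlgSp.RepWith @Etale).cancel_left_of_respectsIso _ _).2
      (MorphismProperty.of_isPullback (IsPullback.of_hasPullback u (D.map l.hom)) hue)
  · exact ((AlgSp.RepWith @Surjective).cancel_left_of_respectsIso _ _).2
      (MorphismProperty.of_isPullback (IsPullback.of_hasPullback u (D.map l.hom)) hus)
  · have kpl := isPullback_kernelPair_pb u (D.map l.hom) (pullback.fst u u) (pullback.snd u u)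
      (IsPullback.of_hasPullback u u) ρ hρ₁ hρ₂
    exact IsAffRep.of_iso ⟨T', hT', ⟨e'⟩⟩ (isPullback_comp_iso kpl a).isoPullback

/-- **Separatedness descends through limits over an affine base.** -/
theorem eventually_separated_affine_base [QuasiSeparatedSpace S] {I : Type u} [SmallCategory I] [IsCofiltered I]
    (V : Over S) (hV : IsAffine V.left) (D : I ⥤ AlgSp.Sp S) (hD : ∀ i, AlgSp.IsAlgSpace (D.obj i))
    (t : D ⟶ (Functor.const I).obj ((AlgSp.yon S).obj V))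
    (hDa : ∀ (i j : I) (φ : i ⟶ j), AlgSp.IsAffineMor (D.map φ))
    (hqc : ∀ i, AlgSp.IsQuasiCompactSp (D.obj i)) (hqs : ∀ i, AlgSp.IsQuasiSeparatedSp (D.obj i))
    (c : Cone D) (hc : IsLimit c) (g : c.pt ⟶ (AlgSp.yon S).obj V) (hX : AlgSp.IsSeparatedMor g) :
    ∃ i₀ : I, ∀ (i : I) (_ : i ⟶ i₀), AlgSp.IsSeparatedMor (t.app i) := by
  obtain ⟨i₁, U, u, hU, hue, hus, hR⟩ := exists_chart_affine_kernelPair V hV D hD hDa hqc hqs c hc g hX
  obtain ⟨j, hj⟩ := eventually_separated_of_chart V hV D t hDa c hc g hX i₁ U hU u hue hus hR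
  refine ⟨j.left, fun i φ => ?_⟩
  exact hj (Over.mk (φ ≫ j.hom)) (Over.homMk φ rfl)

end Groth.Agent.R2.H44.SepAff
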