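import Mathlib
import Groth.Prelude.Def_AlgSp3
import Groth.Agent.S10180

/-!
# An affine étale chart of the target covering the image of a quasi-compact source (helper44)

Namespace `Groth.Agent.R2.H44.SepChartY`.

* `repWith_surjective_of_comp`: if `a ≫ b` is representable surjective and `b` is representable, `b` is surjective.
* `exists_finite_affineOpens`: for `f₁ : T ⟶ U` étale surjective with `U` quasi-compact and `f₂ : T ⟶ W`, finitely many
  affine opens of `W` have preimages in `T` covering `U`.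
* `exists_affine_etale_cover_image`: for `f : X₀ ⟶ Y` with `X₀` quasi-compact and `Y` an algebraic space there is an
  affine scheme `V` with an étale map `v : h_V ⟶ Y` such that `X₀ ×_Y h_V ⟶ X₀` is surjective.
-/

set_option autoImplicit false
set_option backward.isDefEq.respectTransparency false
universe u

open CategoryTheory CategoryTheory.Limits AlgebraicGeometry

namespace Groth.Agent.R2.H44.SepChartY

variable {S : Scheme.{u}}

/-- cancellation for representable surjective maps -/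
theorem repWith_surjective_of_comp {F G H : AlgSp.Sp S} (a : F ⟶ G) (b : G ⟶ H) (hb : AlgSp.Representable b)
    (hab : AlgSp.RepWith @Surjective (a ≫ b)) : AlgSp.RepWith @Surjective b := by
  refine ⟨hb, fun U V g fst snd sq => ?_⟩
  obtain ⟨W, w, fst', sq'⟩ := hab.1 g
  have hw : Surjective w.left := hab.2 g fst' w sq'
  obtain ⟨k, hk⟩ := (AlgSp.yon S).map_surjective (sq.lift (fst' ≫ a) ((AlgSp.yon S).map w)
    (by rw [Category.assoc]; exact sq'.w))
  have hkw : k ≫ snd = w := by
    apply (AlgSp.yon S).map_injective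
    rw [Functor.map_comp, hk, sq.lift_snd]
  have : Surjective (k.left ≫ snd.left) := by
    rw [← Over.comp_left, hkw]; exact hw
  exact Surjective.of_comp k.left snd.left

/-- finitely many affine opens of `W` whose preimages in `T` cover the quasi-compact `U` -/
theorem exists_finite_affineOpens {T U W : Scheme.{u}} (f₁ : T ⟶ U) (f₂ : T ⟶ W) [Etale f₁] [Surjective f₁]
    [CompactSpace U] :
    ∃ s : Finset W.affineOpens, ∀ x : U, ∃ y : T, f₁ y = x ∧ ∃ V ∈ s, f₂ y ∈ V.1 := by
  classical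
  have hopen : IsOpenMap f₁ := f₁.isOpenMap
  have hloc : ∀ x : U, ∃ (y : T) (V : W.affineOpens), f₁ y = x ∧ f₂ y ∈ V.1 := by
    intro x
    obtain ⟨y, hy⟩ := f₁.surjective x
    obtain ⟨_, ⟨V, hV : IsAffineOpen V, rfl⟩, hyV, -⟩ :=
      W.isBasis_affineOpens.exists_subset_of_mem_open (Set.mem_univ (f₂ y)) isOpen_univ
    exact ⟨y, ⟨V, hV⟩, hy, hyV⟩
  choose y V hy hyV using hloc
  let O : U → Set U := fun x => f₁ '' (f₂ ⁻¹' ((V x).1 : Set W))
  have hO : ∀ x, IsOpen (O x) := fun x => hopen _ ((V x).1.2.preimage f₂.continuous)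
  have hcov : (Set.univ : Set U) ⊆ ⋃ x, O x := by
    intro x _
    exact Set.mem_iUnion.2 ⟨x, y x, hyV x, hy x⟩
  obtain ⟨t, ht⟩ := isCompact_univ.elim_finite_subcover O hO hcov
  refine ⟨t.image V, fun x => ?_⟩
  obtain ⟨x', hx't, z, hz, hzx⟩ : ∃ x' ∈ t, x ∈ O x' := by
    have := ht (Set.mem_univ x)
    simpa using this
  exact ⟨z, hzx, V x', Finset.mem_image_of_mem V hx't, hz⟩

/-- An affine étale chart of `Y` whose base change to the quasi-compact `X₀` is surjective. -/
theorem exists_affine_etale_cover_image (X₀ Y : AlgSp.Space S) (hqc : AlgSp.IsQuasiCompactSp X₀.obj)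
    (f : X₀.obj ⟶ Y.obj) :
    ∃ (V : Over S) (v : (AlgSp.yon S).obj V ⟶ Y.obj), IsAffine V.left ∧ AlgSp.RepWith @Etale v ∧
      AlgSp.RepWith @Surjective (pullback.fst f v) := by
  classical
  obtain ⟨U₀, u₀, hU₀, hu₀e, hu₀s⟩ := (Groth.Agent.S10180.result X₀).1 hqc
  change (AlgSp.yon S).obj U₀ ⟶ X₀.obj at u₀
  obtain ⟨W, pW, hWe, hWs⟩ := Y.property.atlas
  obtain ⟨T, τ₁, a, sqT⟩ := hWe.1 (u₀ ≫ f)
  obtain ⟨τ₂, rfl⟩ := (AlgSp.yon S).map_surjective a
  have hτ₁e : Etale τ₁.left := hWe.2 _ _ τ₁ sqT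
  have hτ₁s : Surjective τ₁.left := hWs.2 _ _ τ₁ sqT
  have : CompactSpace U₀.left := by have := hU₀; infer_instance
  obtain ⟨s, hs⟩ := exists_finite_affineOpens τ₁.left τ₂.left
  -- the affine scheme `V`
  let X : s → Scheme.{u} := fun V' => ((V'.1.1 : W.left.Opens) : Scheme.{u})
  have hXaff : ∀ i, IsAffine (X i) := fun i => i.1.2
  let d : (∐ X) ⟶ W.left := Sigma.desc (fun i => (i.1.1 : W.left.Opens).ι)
  have hde : Etale d := IsZariskiLocalAtSource.sigmaDesc (fun i => inferInstance)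
  let V : Over S := Over.mk (d ≫ W.hom)
  let dV : V ⟶ W := Over.homMk d rfl
  have hVaff : IsAffine V.left := (inferInstance : IsAffine (∐ X))
  have hve : AlgSp.RepWith @Etale ((AlgSp.yon S).map dV ≫ pW) :=
    MorphismProperty.comp_mem _ _ _ ((AlgSp.repWith_yon_map_iff _ _).2 hde) hWe
  refine ⟨V, (AlgSp.yon S).map dV ≫ pW, hVaff, hve, ?_⟩
  -- the auxiliary scheme `T' = T ×_W V`
  let T' : Over S := Over.mk (pullback.fst τ₂.left d ≫ T.hom)
  let q₁ : T' ⟶ T := Over.homMk (pullback.fst τ₂.left d) rfl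
  let q₂ : T' ⟶ V := Over.homMk (pullback.snd τ₂.left d) (by
    change pullback.snd τ₂.left d ≫ d ≫ W.hom = pullback.fst τ₂.left d ≫ T.hom
    rw [← pullback.condition_assoc, Over.w τ₂])
  have hq : q₁ ≫ τ₂ = q₂ ≫ dV := by
    ext1
    exact pullback.condition
  have hsurj : Surjective (q₁ ≫ τ₁).left := by
    constructor
    intro x
    obtain ⟨y, hyx, V', hV', hyV'⟩ := hs x
    -- a point of `∐ X` over `τ₂ y`
    have h1 : τ₂.left y = d ((Sigma.ι X ⟨V', hV'⟩) ⟨τ₂.left y, hyV'⟩) := by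
      rw [← Scheme.Hom.comp_apply, Sigma.ι_desc]
      rfl
    obtain ⟨z, hz1, -⟩ := Scheme.Pullback.exists_preimage_pullback y _ h1
    refine ⟨z, ?_⟩
    rw [Over.comp_left, Scheme.Hom.comp_apply]
    change τ₁.left ((pullback.fst τ₂.left d) z) = x
    rw [hz1, hyx]
  have hcompat : ((AlgSp.yon S).map (q₁ ≫ τ₁) ≫ u₀) ≫ f = (AlgSp.yon S).map q₂ ≫ (AlgSp.yon S).map dV ≫ pW := by
    rw [Functor.map_comp, Category.assoc, Category.assoc, ← sqT.w, ← Category.assoc, ← Category.assoc,
      ← Functor.map_comp, ← Functor.map_comp, hq]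
  have hrep : AlgSp.Representable (pullback.fst f ((AlgSp.yon S).map dV ≫ pW)) :=
    (MorphismProperty.of_isPullback (P := AlgSp.RepWith @Etale)
      (IsPullback.of_hasPullback f ((AlgSp.yon S).map dV ≫ pW)).flip hve).1
  refine repWith_surjective_of_comp (pullback.lift _ _ hcompat) _ hrep ?_
  rw [pullback.lift_fst]
  exact MorphismProperty.comp_mem _ _ _ ((AlgSp.repWith_yon_map_iff _ _).2 hsurj) hu₀s

end Groth.Agent.R2.H44.SepChartY
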