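import Mathlib
import Groth.Agent.R2.H44SheafifyLim

/-!
# Sheafification preserves relative limit preservation (helper44)

Namespace `Groth.Agent.R2.H44.SheafifyRel`.

Setting: `a : F ⟶ G` a map of presheaves on `Over S` satisfying the elementwise criterion of relative limit preservation,
`a' : F' ⟶ G'` a map of sheaves, `ηF : F ⟶ F'`, `ηG : G ⟶ G'` locally bijective with `ηF ≫ a' = a ≫ ηG`. Then `a'`
satisfies the elementwise criterion.
-/

set_option autoImplicit false
set_option backward.isDefEq.respectTransparency false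
universe u

open CategoryTheory CategoryTheory.Limits AlgebraicGeometry Opposite

namespace Groth.Agent.R2.H44.SheafifyRel

open Groth.Agent.R2.H44.RelLimPres Groth.Agent.R2.H44.FppfCov Groth.Agent.R2.H44.LimSp Groth.Agent.R2.H44.FppfLoc
  Groth.Agent.R2.H44.FlatModel Groth.Agent.R2.H44.SheafifyLim

variable {S : Scheme.{u}}

/-- the elementwise criterion of relative limit preservation -/
def RelCond {F G : AlgSp.PSp S} (a : F ⟶ G) : Prop :=
  ∀ ⦃I : Type u⦄ [SmallCategory I] [IsCofiltered I] (D : I ⥤ Over S) (c : Cone D),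
    IsLimit ((Over.forget S).mapCone c) → (∀ i, IsAffine (D.obj i).left) → IsAffine c.pt.left →
      ExistsCond a D c ∧ UniqueCond a D c

/-- transport of a relation `φ(b) = y|` along a restriction -/
theorem rel_map {P Q : AlgSp.PSp S} (φ : P ⟶ Q) {X Y Z : Over S} (g : Z ⟶ X) (t : X ⟶ Y) (t' : Z ⟶ Y)
    (e : g ≫ t = t') (b : P.obj (op X)) (y₀ : Q.obj (op Y)) (h : φ.app _ b = Q.map t.op y₀) :
    φ.app _ (P.map g.op b) = Q.map t'.op y₀ := by
  subst e
  exact (nat_apply φ g b).trans ((congrArg _ h).trans (map_map_apply g t y₀))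

section Proj

variable {I : Type u} [SmallCategory I] (D : I ⥤ Over S) (i₀ : I) {K : Type*} {V : K → Over S}
  (v : ∀ k, V k ⟶ D.obj i₀)

theorem pr₁_snd (k k' : K) (l : Over i₀) :
    pr₁ D i₀ v k k' l ≫ sndE D i₀ (v k) l = sndE D i₀ (ovl D i₀ v k k') l := by
  simp [pr₁, sndE, pullback.map]

theorem pr₂_snd (k k' : K) (l : Over i₀) :
    pr₂ D i₀ v k k' l ≫ sndE D i₀ (v k') l = sndE D i₀ (ovl D i₀ v k k') l := by
  simp [pr₂, sndE, pullback.map]

end Proj

section Setting

variable {F G F' G' : AlgSp.PSp S} (a : F ⟶ G) (a' : F' ⟶ G') (ηF : F ⟶ F') (ηG : G ⟶ G')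

theorem sq_apply (hsq : ηF ≫ a' = a ≫ ηG) {T : Over S} (ξ : F.obj (op T)) :
    a'.app (op T) (ηF.app (op T) ξ) = ηG.app (op T) (a.app (op T) ξ) := by
  have := congrArg (fun m => m.app (op T) ξ) hsq
  simpa using this

attribute [local instance] IsCofiltered.isConnected in
theorem relCond_pbFunctor (ha : RelCond a) {I : Type u} [SmallCategory I] [IsCofiltered I]
    (D : I ⥤ Over S) (c : Cone D) (hc : IsLimit ((Over.forget S).mapCone c)) (hD : ∀ i, IsAffine (D.obj i).left)
    (hT : IsAffine c.pt.left) (i₀ : I) {W : Over S} (w : W ⟶ D.obj i₀) (hW : IsAffine W.left) :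
    ExistsCond a (pbFunctor D i₀ w) (pbCone D c i₀ w) ∧ UniqueCond a (pbFunctor D i₀ w) (pbCone D c i₀ w) :=
  ha (pbFunctor D i₀ w) (pbCone D c i₀ w)
    (isLimitOfPreserves (Over.forget S) (isLimitPbCone D c (isLimitOfReflects (Over.forget S) hc) i₀ w))
    (isAffine_pbFunctor D hD i₀ w hW) (isAffine_pullback_left _ _ hW hT (hD _))

attribute [local instance] IsCofiltered.isConnected in
/-- relative η-injectivity descends -/
theorem eta_inj_descends_rel (ha : RelCond a) (hF' : Presheaf.IsSheaf (AlgSp.J S) F')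
    [Presheaf.IsLocallyInjective (AlgSp.J S) ηF]
    {J : Type u} [SmallCategory J] [IsCofiltered J] (E : J ⥤ Over S) (cE : Cone E)
    (hcE : IsLimit ((Over.forget S).mapCone cE)) (hE : ∀ l, IsAffine (E.obj l).left) (hpt : IsAffine cE.pt.left)
    (l : J) (A B : F.obj (op (E.obj l))) (hAB : a.app _ A = a.app _ B)
    (h : ηF.app (op cE.pt) (F.map (cE.π.app l).op A) = ηF.app (op cE.pt) (F.map (cE.π.app l).op B)) :
    ∃ (l' : J) (g : l' ⟶ l),
      ηF.app (op (E.obj l')) (F.map (E.map g).op A) = ηF.app (op (E.obj l')) (F.map (E.map g).op B) := by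
  classical
  have hsieve := Presheaf.IsLocallyInjective.equalizerSieve_mem (J := AlgSp.J S) (φ := ηF) _ _ h
  have : CompactSpace cE.pt.left := by
    have := hpt
    infer_instance
  obtain ⟨M, hM, W, w, hWaff, hWfam, hWR⟩ := exists_finite_affine_refinement _ hsieve
  have hWR' : ∀ m, F.map (w m).op (F.map (cE.π.app l).op A) = F.map (w m).op (F.map (cE.π.app l).op B) :=
    fun m => hWR m
  have := hM
  obtain ⟨l₁, f, W₀, w₀, ρ, hW₀aff, hW₀fam, hρ⟩ := exists_descend_family hcE hE w hWaff hWfam l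
  have huniq : ∀ m, UniqueCond a (pbFunctor E l₁ (w₀ m)) (pbCone E cE l₁ (w₀ m)) := fun m =>
    (relCond_pbFunctor a ha E cE hcE hE hpt l₁ (w₀ m) (hW₀aff m)).2
  let n₀ : Over l₁ := Over.mk (𝟙 l₁)
  have hrestr : ∀ (m : M) (z : F.obj (op (E.obj l))),
      F.map ((pbCone E cE l₁ (w₀ m)).π.app n₀).op (F.map (sndE E l₁ (w₀ m) n₀).op (F.map (E.map f).op z)) =
        F.map (ρ m).op (F.map (w m).op (F.map (cE.π.app l).op z)) := fun m z => by
    have e1 := map_sq_apply (F := F) _ _ _ _ (pbCone_π_snd E cE l₁ (w₀ m) n₀) (F.map (E.map f).op z)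
    have e2 : F.map (cE.π.app n₀.left).op (F.map (E.map f).op z) = F.map (cE.π.app l).op z := map_w_apply cE f z
    have e3 : F.map (sndC E cE l₁ (w₀ m)).op (F.map (cE.π.app l).op z) =
        F.map (ρ m).op (F.map (w m).op (F.map (cE.π.app l).op z)) := by
      rw [map_map_apply (F := F) (ρ m) (w m), hρ m]
      rfl
    exact e1.trans ((congrArg _ e2).trans e3)
  have hacond : ∀ m, a.app _ (F.map (sndE E l₁ (w₀ m) n₀).op (F.map (E.map f).op A)) =
      a.app _ (F.map (sndE E l₁ (w₀ m) n₀).op (F.map (E.map f).op B)) := fun m =>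
    (nat_apply a _ _).trans ((congrArg _ ((nat_apply a (E.map f) A).trans
      ((congrArg _ hAB).trans (nat_apply a (E.map f) B).symm))).trans (nat_apply a _ _).symm)
  obtain ⟨n', hh, hn'⟩ := exists_common (K := M) n₀
    (fun m n' hh => F.map ((pbFunctor E l₁ (w₀ m)).map hh).op (F.map (sndE E l₁ (w₀ m) n₀).op (F.map (E.map f).op A)) =
      F.map ((pbFunctor E l₁ (w₀ m)).map hh).op (F.map (sndE E l₁ (w₀ m) n₀).op (F.map (E.map f).op B)))
    (fun m n' f' n'' g' hfg => by
      have e := congrArg (F.map ((pbFunctor E l₁ (w₀ m)).map g').op) hfg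
      rw [map_D_comp_apply, map_D_comp_apply] at e
      exact e)
    (fun m => huniq m n₀ _ _ (hacond m) ((hrestr m A).trans ((congrArg _ (hWR' m)).trans (hrestr m B).symm)))
  refine ⟨n'.left, hh.left ≫ f, ?_⟩
  refine (isFppfFamily_sndE E l₁ w₀ hW₀fam n').ext hF' _ _ (fun m => ?_)
  have key : ∀ z : F.obj (op (E.obj l)),
      F'.map (sndE E l₁ (w₀ m) n').op (ηF.app (op (E.obj n'.left)) (F.map (E.map (hh.left ≫ f)).op z)) =
        ηF.app _ (F.map ((pbFunctor E l₁ (w₀ m)).map hh).op (F.map (sndE E l₁ (w₀ m) n₀).op (F.map (E.map f).op z))) :=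
    fun z => by
      rw [← nat_apply]
      congr 1
      rw [← map_D_comp_apply]
      exact (map_sq_apply (F := F) _ _ _ _ (pbFunctor_map_snd E l₁ (w₀ m) hh) (F.map (E.map f).op z)).symm
  exact (key A).trans ((congrArg _ (hn' m)).trans (key B).symm)

attribute [local instance] IsCofiltered.isConnected in
/-- uniqueness half -/
theorem uniqueCond_sheafify (hsq : ηF ≫ a' = a ≫ ηG) (ha : RelCond a) (hF' : Presheaf.IsSheaf (AlgSp.J S) F')
    [Presheaf.IsLocallyInjective (AlgSp.J S) ηF] [Presheaf.IsLocallySurjective (AlgSp.J S) ηF]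
    [Presheaf.IsLocallyInjective (AlgSp.J S) ηG]
    {I : Type u} [SmallCategory I] [IsCofiltered I] (D : I ⥤ Over S) (c : Cone D)
    (hc : IsLimit ((Over.forget S).mapCone c)) (hD : ∀ i, IsAffine (D.obj i).left) (hT : IsAffine c.pt.left) :
    UniqueCond a' D c := by
  classical
  intro i s s' has hss'
  let R : Sieve (D.obj i) :=
    { arrows := fun Z f => ∃ ξ ξ' : F.obj (op Z), ηF.app _ ξ = F'.map f.op s ∧ ηF.app _ ξ' = F'.map f.op s' ∧
        a.app _ ξ = a.app _ ξ'
      downward_closed := by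
        rintro Y Z f ⟨ξ, ξ', h1, h2, h3⟩ g
        refine ⟨F.map g.op ξ, F.map g.op ξ', ?_, ?_, ?_⟩
        · exact (nat_apply ηF g ξ).trans ((congrArg _ h1).trans (map_map_apply g f s))
        · exact (nat_apply ηF g ξ').trans ((congrArg _ h2).trans (map_map_apply g f s'))
        · exact (nat_apply a g ξ).trans ((congrArg _ h3).trans (nat_apply a g ξ').symm) }
  have hR : R ∈ AlgSp.J S (D.obj i) := by
    have h1 := Presheaf.imageSieve_mem (AlgSp.J S) ηF (U := op (D.obj i)) s
    have h2 := Presheaf.imageSieve_mem (AlgSp.J S) ηF (U := op (D.obj i)) s'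
    refine (AlgSp.J S).transitive ((AlgSp.J S).intersection_covering h1 h2) R (fun Z f hf => ?_)
    obtain ⟨⟨ξ, hξ⟩, ⟨ξ', hξ'⟩⟩ := hf
    have hξ1 : ηF.app (op Z) ξ = F'.map f.op s := hξ
    have hξ2 : ηF.app (op Z) ξ' = F'.map f.op s' := hξ'
    have heq : ηG.app _ (a.app _ ξ) = ηG.app _ (a.app _ ξ') :=
      (sq_apply a a' ηF ηG hsq ξ).symm.trans ((congrArg _ hξ1).trans ((nat_apply a' f s).trans
        ((congrArg _ has).trans ((nat_apply a' f s').symm.trans
          ((congrArg _ hξ2.symm).trans (sq_apply a a' ηF ηG hsq ξ'))))))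
    have h3 := Presheaf.IsLocallyInjective.equalizerSieve_mem (J := AlgSp.J S) (φ := ηG) _ _ heq
    refine (AlgSp.J S).superset_covering ?_ h3
    intro Y g hg
    have hg' : G.map g.op (a.app _ ξ) = G.map g.op (a.app _ ξ') := hg
    exact ⟨F.map g.op ξ, F.map g.op ξ', (nat_apply ηF g ξ).trans ((congrArg _ hξ1).trans (map_map_apply g f s)),
      (nat_apply ηF g ξ').trans ((congrArg _ hξ2).trans (map_map_apply g f s')),
      (nat_apply a g ξ).trans (hg'.trans (nat_apply a g ξ').symm)⟩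
  have : CompactSpace (D.obj i).left := by
    have := hD i
    infer_instance
  obtain ⟨K, hK, V, v, hVaff, hVfam, hVR⟩ := exists_finite_affine_refinement R hR
  choose α α' hα hα' hαa using hVR
  have := hK
  let l₀ : Over i := Over.mk (𝟙 i)
  have hfst : ∀ k, pullback.fst (v k) (D.map l₀.hom) ≫ v k = sndE D i (v k) l₀ := fun k => by
    rw [pullback.condition]
    simp [sndE, l₀]
  have hA : ∀ (k : K) (t : F'.obj (op (D.obj i))) (β : F.obj (op (V k))), ηF.app (op (V k)) β = F'.map (v k).op t →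
      ηF.app (op ((pbFunctor D i (v k)).obj l₀)) (F.map (pullback.fst (v k) (D.map l₀.hom)).op β) =
        F'.map (sndE D i (v k) l₀).op t := fun k t β hβ =>
    (nat_apply ηF (pullback.fst (v k) (D.map l₀.hom)) β).trans ((congrArg _ hβ).trans
      ((map_map_apply (F := F') _ _ t).trans (congrArg (fun m => F'.map m.op t) (hfst k))))
  have hAπ : ∀ (k : K) (t : F'.obj (op (D.obj i))) (β : F.obj (op (V k))), ηF.app (op (V k)) β = F'.map (v k).op t →
      ηF.app (op (pbCone D c i (v k)).pt) (F.map ((pbCone D c i (v k)).π.app l₀).op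
        (F.map (pullback.fst (v k) (D.map l₀.hom)).op β)) =
        F'.map (sndC D c i (v k)).op (F'.map (c.π.app i).op t) := fun k t β hβ =>
    (nat_apply ηF ((pbCone D c i (v k)).π.app l₀) _).trans ((congrArg _ (hA k t β hβ)).trans
      (map_sq_apply (F := F') _ _ _ _ (pbCone_π_snd D c i (v k) l₀) t))
  obtain ⟨l', g, hg⟩ := exists_common (K := K) l₀
    (fun k l' g => ηF.app (op ((pbFunctor D i (v k)).obj l')) (F.map ((pbFunctor D i (v k)).map g).op
        (F.map (pullback.fst (v k) (D.map l₀.hom)).op (α k))) =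
      ηF.app (op ((pbFunctor D i (v k)).obj l')) (F.map ((pbFunctor D i (v k)).map g).op
        (F.map (pullback.fst (v k) (D.map l₀.hom)).op (α' k))))
    (fun k l' f l'' g hfg => by
      have e := congrArg (F'.map ((pbFunctor D i (v k)).map g).op) hfg
      rw [← nat_apply, ← nat_apply, map_D_comp_apply, map_D_comp_apply] at e
      exact e)
    (fun k => eta_inj_descends_rel a ηF ha hF' (pbFunctor D i (v k)) (pbCone D c i (v k))
      (isLimitOfPreserves (Over.forget S) (isLimitPbCone D c (isLimitOfReflects (Over.forget S) hc) i _))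
      (isAffine_pbFunctor D hD i _ (hVaff k)) (isAffine_pullback_left _ _ (hVaff k) hT (hD _)) l₀ _ _
      ((nat_apply a _ (α k)).trans ((congrArg _ (hαa k)).trans (nat_apply a _ (α' k)).symm))
      ((hAπ k s (α k) (hα k)).trans ((congrArg _ hss').trans (hAπ k s' (α' k) (hα' k)).symm)))
  refine ⟨l'.left, g.left, ?_⟩
  refine (isFppfFamily_sndE D i v hVfam l').ext hF' _ _ (fun k => ?_)
  have key : ∀ (t : F'.obj (op (D.obj i))) (β : F.obj (op (V k))), ηF.app (op (V k)) β = F'.map (v k).op t →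
      F'.map (sndE D i (v k) l').op (F'.map (D.map g.left).op t) =
        ηF.app (op ((pbFunctor D i (v k)).obj l')) (F.map ((pbFunctor D i (v k)).map g).op
          (F.map (pullback.fst (v k) (D.map l₀.hom)).op β)) := fun t β hβ =>
    (map_sq_apply (F := F') _ _ _ _ (pbFunctor_map_snd D i (v k) g).symm t).trans
      ((congrArg _ (hA k t β hβ).symm).trans (nat_apply ηF ((pbFunctor D i (v k)).map g) _).symm)
  exact (key s (α k) (hα k)).trans ((hg k).trans (key s' (α' k) (hα' k)).symm)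

attribute [local instance] IsCofiltered.isConnected in
/-- existence half, for a section of `G'` at stage `j` coming from `G` -/
theorem existsCond_of_image (hsq : ηF ≫ a' = a ≫ ηG) (ha : RelCond a) (hF' : Presheaf.IsSheaf (AlgSp.J S) F')
    (hG' : Presheaf.IsSheaf (AlgSp.J S) G')
    [Presheaf.IsLocallyInjective (AlgSp.J S) ηF] [Presheaf.IsLocallySurjective (AlgSp.J S) ηF]
    [Presheaf.IsLocallyInjective (AlgSp.J S) ηG]
    {I : Type u} [SmallCategory I] [IsCofiltered I] (D : I ⥤ Over S) (c : Cone D)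
    (hc : IsLimit ((Over.forget S).mapCone c)) (hD : ∀ i, IsAffine (D.obj i).left) (hT : IsAffine c.pt.left)
    (j : I) (y₀ : G.obj (op (D.obj j))) (x : F'.obj (op c.pt))
    (hx : a'.app _ x = G'.map (c.π.app j).op (ηG.app _ y₀)) :
    ∃ (k : I) (f : k ⟶ j) (x' : F'.obj (op (D.obj k))),
      a'.app _ x' = G'.map (D.map f).op (ηG.app _ y₀) ∧ F'.map (c.π.app k).op x' = x := by
  classical
  -- step 1: a covering of the limit on which `x` comes from `F`, compatibly with `y₀`
  let R : Sieve c.pt :=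
    { arrows := fun Z f => ∃ ξ : F.obj (op Z), ηF.app _ ξ = F'.map f.op x ∧
        a.app _ ξ = G.map (f ≫ c.π.app j).op y₀
      downward_closed := by
        rintro Y Z f ⟨ξ, h1, h2⟩ g
        exact ⟨F.map g.op ξ, rel_map ηF g f (g ≫ f) rfl ξ x h1,
          rel_map a g (f ≫ c.π.app j) ((g ≫ f) ≫ c.π.app j) (Category.assoc _ _ _).symm ξ y₀ h2⟩ }
  have hR : R ∈ AlgSp.J S c.pt := by
    have h1 := Presheaf.imageSieve_mem (AlgSp.J S) ηF (U := op c.pt) x
    refine (AlgSp.J S).transitive h1 R (fun Z f hf => ?_)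
    obtain ⟨ξ, hξ⟩ := hf
    have hξ1 : ηF.app (op Z) ξ = F'.map f.op x := hξ
    have heq : ηG.app _ (a.app _ ξ) = ηG.app _ (G.map (f ≫ c.π.app j).op y₀) :=
      (sq_apply a a' ηF ηG hsq ξ).symm.trans ((congrArg _ hξ1).trans ((nat_apply a' f x).trans
        ((congrArg _ hx).trans ((map_map_apply (F := G') f (c.π.app j) _).trans
          (nat_apply ηG (f ≫ c.π.app j) y₀).symm))))
    have h3 := Presheaf.IsLocallyInjective.equalizerSieve_mem (J := AlgSp.J S) (φ := ηG) _ _ heq
    refine (AlgSp.J S).superset_covering ?_ h3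
    intro Y g hg
    have hg' : G.map g.op (a.app _ ξ) = G.map g.op (G.map (f ≫ c.π.app j).op y₀) := hg
    exact ⟨F.map g.op ξ, rel_map ηF g f (g ≫ f) rfl ξ x hξ1,
      (nat_apply a g ξ).trans (hg'.trans ((map_map_apply g (f ≫ c.π.app j) y₀).trans
        (congrArg (fun m => G.map m.op y₀) (Category.assoc g f (c.π.app j)).symm)))⟩
  have : CompactSpace c.pt.left := by
    have := hT
    infer_instance
  obtain ⟨K, hK, V, v, hVaff, hVfam, hVR⟩ := exists_finite_affine_refinement R hR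
  choose ξ hξ hξa using hVR
  have := hK
  -- step 2: descend the covering to a stage below `j`
  obtain ⟨i₁, φ, V₀, v₀, ρ, hV₀aff, hV₀fam, hρ⟩ := exists_descend_family hc hD v hVaff hVfam j
  let l₀ : Over i₁ := Over.mk (𝟙 i₁)
  -- the structure maps to `D j`
  let τ : ∀ (k : K) (l : Over i₁), (pbFunctor D i₁ (v₀ k)).obj l ⟶ D.obj j := fun k l =>
    sndE D i₁ (v₀ k) l ≫ D.map (l.hom ≫ φ)
  have hτmap : ∀ (k : K) {l l' : Over i₁} (g : l' ⟶ l), (pbFunctor D i₁ (v₀ k)).map g ≫ τ k l = τ k l' := by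
    intro k l l' g
    change (pbFunctor D i₁ (v₀ k)).map g ≫ sndE D i₁ (v₀ k) l ≫ D.map (l.hom ≫ φ) = _
    rw [← Category.assoc, pbFunctor_map_snd, Category.assoc, ← D.map_comp, ← Category.assoc, Over.w]
  have hτπ : ∀ (k : K) (l : Over i₁), (pbCone D c i₁ (v₀ k)).π.app l ≫ τ k l = sndC D c i₁ (v₀ k) ≫ c.π.app j := by
    intro k l
    change (pbCone D c i₁ (v₀ k)).π.app l ≫ sndE D i₁ (v₀ k) l ≫ D.map (l.hom ≫ φ) = _
    rw [← Category.assoc, pbCone_π_snd, Category.assoc, c.w]
  -- the sections over the vertices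
  have hηξ : ∀ k, ηF.app _ (F.map (ρ k).op (ξ k)) = F'.map (sndC D c i₁ (v₀ k)).op x := fun k =>
    rel_map ηF (ρ k) (v k) _ (hρ k) (ξ k) x (hξ k)
  have haξ : ∀ k, a.app _ (F.map (ρ k).op (ξ k)) = G.map ((pbCone D c i₁ (v₀ k)).π.app l₀).op (G.map (τ k l₀).op y₀) :=
    fun k => (rel_map a (ρ k) (v k ≫ c.π.app j) (sndC D c i₁ (v₀ k) ≫ c.π.app j)
      (by rw [← Category.assoc, hρ k]; rfl) (ξ k) y₀ (hξa k)).trans
        ((congrArg (fun m => G.map m.op y₀) (hτπ k l₀).symm).trans (map_map_apply (F := G) _ _ y₀).symm)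
  -- step 3: sections over a common stage
  obtain ⟨l, f, hb⟩ := exists_common (K := K) l₀
    (fun k l' f => ∃ b : F.obj (op ((pbFunctor D i₁ (v₀ k)).obj l')), a.app _ b = G.map (τ k l').op y₀ ∧
      F.map ((pbCone D c i₁ (v₀ k)).π.app l').op b = F.map (ρ k).op (ξ k))
    (fun k l' f' l'' g' hfg => by
      obtain ⟨b, hb1, hb2⟩ := hfg
      exact ⟨F.map ((pbFunctor D i₁ (v₀ k)).map g').op b, rel_map a _ _ _ (hτmap k g') b y₀ hb1,
        (map_w_apply (pbCone D c i₁ (v₀ k)) g' b).trans hb2⟩)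
    (fun k => by
      obtain ⟨l', f', b, hb1, hb2⟩ := (relCond_pbFunctor a ha D c hc hD hT i₁ (v₀ k) (hV₀aff k)).1 l₀
        (G.map (τ k l₀).op y₀) (F.map (ρ k).op (ξ k)) (haξ k)
      exact ⟨l', f', b, hb1.trans ((map_map_apply (F := G) _ _ y₀).trans
        (congrArg (fun m => G.map m.op y₀) (hτmap k f'))), hb2⟩)
  choose b hba hbπ using hb
  -- step 4: agreement of the images on the overlaps at a later stage
  have hOaff : ∀ k k', IsAffine (pullback (v₀ k) (v₀ k')).left := fun k k' =>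
    isAffine_pullback_left _ _ (hV₀aff k) (hV₀aff k') (hD _)
  have hO : ∀ k k', ηF.app _ (F.map ((pbCone D c i₁ (ovl D i₁ v₀ k k')).π.app l).op
        (F.map (pr₁ D i₁ v₀ k k' l).op (b k))) =
      ηF.app _ (F.map ((pbCone D c i₁ (ovl D i₁ v₀ k k')).π.app l).op (F.map (pr₂ D i₁ v₀ k k' l).op (b k'))) :=
    fun k k' => by
      have A1 : ηF.app _ (F.map ((pbCone D c i₁ (ovl D i₁ v₀ k k')).π.app l).op
          (F.map (pr₁ D i₁ v₀ k k' l).op (b k))) = F'.map (sndC D c i₁ (ovl D i₁ v₀ k k')).op x :=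
        (congrArg (fun z => ηF.app (op (pbCone D c i₁ (ovl D i₁ v₀ k k')).pt) z)
          ((map_sq_apply (F := F) _ _ _ _ (pr₁_cone D c i₁ v₀ k k' l) (b k)).trans (congrArg _ (hbπ k)))).trans
          ((nat_apply ηF (prc₁ D c i₁ v₀ k k') _).trans ((congrArg _ (hηξ k)).trans
            ((map_map_apply (F := F') _ _ x).trans
              (congrArg (fun m => F'.map m.op x) (prc₁_snd D c i₁ v₀ k k')))))
      have A2 : ηF.app _ (F.map ((pbCone D c i₁ (ovl D i₁ v₀ k k')).π.app l).op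
          (F.map (pr₂ D i₁ v₀ k k' l).op (b k'))) = F'.map (sndC D c i₁ (ovl D i₁ v₀ k k')).op x :=
        (congrArg (fun z => ηF.app (op (pbCone D c i₁ (ovl D i₁ v₀ k k')).pt) z)
          ((map_sq_apply (F := F) _ _ _ _ (pr₂_cone D c i₁ v₀ k k' l) (b k')).trans (congrArg _ (hbπ k')))).trans
          ((nat_apply ηF (prc₂ D c i₁ v₀ k k') _).trans ((congrArg _ (hηξ k')).trans
            ((map_map_apply (F := F') _ _ x).trans
              (congrArg (fun m => F'.map m.op x) (prc₂_snd D c i₁ v₀ k k')))))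
      exact A1.trans A2.symm
  have hOa : ∀ k k', a.app _ (F.map (pr₁ D i₁ v₀ k k' l).op (b k)) = a.app _ (F.map (pr₂ D i₁ v₀ k k' l).op (b k')) :=
    fun k k' =>
      (rel_map a (pr₁ D i₁ v₀ k k' l) (τ k l) (sndE D i₁ (ovl D i₁ v₀ k k') l ≫ D.map (l.hom ≫ φ))
        (by rw [← Category.assoc, pr₁_snd]) (b k) y₀ (hba k)).trans
      (rel_map a (pr₂ D i₁ v₀ k k' l) (τ k' l) (sndE D i₁ (ovl D i₁ v₀ k k') l ≫ D.map (l.hom ≫ φ))
        (by rw [← Category.assoc, pr₂_snd]) (b k') y₀ (hba k')).symm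
  obtain ⟨l', g, hg⟩ := exists_common (K := K × K) l
    (fun kk l' g => ηF.app _ (F.map ((pbFunctor D i₁ (ovl D i₁ v₀ kk.1 kk.2)).map g).op
        (F.map (pr₁ D i₁ v₀ kk.1 kk.2 l).op (b kk.1))) =
      ηF.app _ (F.map ((pbFunctor D i₁ (ovl D i₁ v₀ kk.1 kk.2)).map g).op
        (F.map (pr₂ D i₁ v₀ kk.1 kk.2 l).op (b kk.2))))
    (fun kk l' f l'' g hfg => by
      have e := congrArg (F'.map ((pbFunctor D i₁ (ovl D i₁ v₀ kk.1 kk.2)).map g).op) hfg
      rw [← nat_apply, ← nat_apply, map_D_comp_apply, map_D_comp_apply] at e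
      exact e)
    (fun kk => eta_inj_descends_rel a ηF ha hF' (pbFunctor D i₁ (ovl D i₁ v₀ kk.1 kk.2))
      (pbCone D c i₁ (ovl D i₁ v₀ kk.1 kk.2))
      (isLimitOfPreserves (Over.forget S) (isLimitPbCone D c (isLimitOfReflects (Over.forget S) hc) i₁ _))
      (isAffine_pbFunctor D hD i₁ _ (hOaff kk.1 kk.2)) (isAffine_pullback_left _ _ (hOaff kk.1 kk.2) hT (hD _)) l
      (F.map (pr₁ D i₁ v₀ kk.1 kk.2 l).op (b kk.1)) (F.map (pr₂ D i₁ v₀ kk.1 kk.2 l).op (b kk.2))
      (hOa kk.1 kk.2) (hO kk.1 kk.2))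
  -- step 5: glue
  have hcompat : ∀ k k', F'.map (pr₁ D i₁ v₀ k k' l').op (ηF.app _ (F.map ((pbFunctor D i₁ (v₀ k)).map g).op (b k))) =
      F'.map (pr₂ D i₁ v₀ k k' l').op (ηF.app _ (F.map ((pbFunctor D i₁ (v₀ k')).map g).op (b k'))) := fun k k' => by
    rw [← nat_apply, ← nat_apply, ← map_sq_apply (F := F) _ _ _ _ (pr₁_nat D i₁ v₀ k k' g) (b k),
      ← map_sq_apply (F := F) _ _ _ _ (pr₂_nat D i₁ v₀ k k' g) (b k')]
    exact hg (k, k')
  obtain ⟨x', hx'⟩ := (isFppfFamily_sndE D i₁ v₀ hV₀fam l').glue hF'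
    (fun k => ηF.app _ (F.map ((pbFunctor D i₁ (v₀ k)).map g).op (b k))) (fun k k' Z g₁ g₂ h12 => by
      obtain ⟨ζ, hζ1, hζ2⟩ := exists_lift_ovl D i₁ v₀ k k' l' g₁ g₂ h12
      have e1 := map_map_apply (F := F') ζ (pr₁ D i₁ v₀ k k' l')
        (ηF.app _ (F.map ((pbFunctor D i₁ (v₀ k)).map g).op (b k)))
      have e2 := map_map_apply (F := F') ζ (pr₂ D i₁ v₀ k k' l')
        (ηF.app _ (F.map ((pbFunctor D i₁ (v₀ k')).map g).op (b k')))
      rw [hζ1] at e1
      rw [hζ2] at e2
      exact e1.symm.trans ((congrArg _ (hcompat k k')).trans e2))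
  refine ⟨l'.left, l'.hom ≫ φ, x', ?_, ?_⟩
  · -- the image in `G'`
    refine (isFppfFamily_sndE D i₁ v₀ hV₀fam l').ext hG' _ _ (fun k => ?_)
    have e1 : a.app _ (F.map ((pbFunctor D i₁ (v₀ k)).map g).op (b k)) = G.map (τ k l').op y₀ :=
      rel_map a _ _ _ (hτmap k g) (b k) y₀ (hba k)
    calc G'.map (sndE D i₁ (v₀ k) l').op (a'.app _ x')
        = a'.app _ (F'.map (sndE D i₁ (v₀ k) l').op x') := (nat_apply a' _ x').symm
      _ = a'.app _ (ηF.app _ (F.map ((pbFunctor D i₁ (v₀ k)).map g).op (b k))) := congrArg _ (hx' k)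
      _ = ηG.app _ (a.app _ (F.map ((pbFunctor D i₁ (v₀ k)).map g).op (b k))) := sq_apply a a' ηF ηG hsq _
      _ = ηG.app _ (G.map (τ k l').op y₀) := congrArg _ e1
      _ = G'.map (τ k l').op (ηG.app _ y₀) := nat_apply ηG _ y₀
      _ = G'.map (sndE D i₁ (v₀ k) l').op (G'.map (D.map (l'.hom ≫ φ)).op (ηG.app _ y₀)) :=
        (map_map_apply (F := G') _ _ _).symm
  · refine (isFppfFamily_sndC D c i₁ v₀ hV₀fam).ext hF' _ _ (fun k => ?_)
    have e1 : F'.map (sndC D c i₁ (v₀ k)).op (F'.map (c.π.app l'.left).op x') =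
        F'.map ((pbCone D c i₁ (v₀ k)).π.app l').op (F'.map (sndE D i₁ (v₀ k) l').op x') :=
      map_sq_apply _ _ _ _ (pbCone_π_snd D c i₁ (v₀ k) l').symm x'
    rw [e1, hx' k, ← nat_apply, map_w_apply (pbCone D c i₁ (v₀ k)) g (b k), hbπ k]
    exact hηξ k

attribute [local instance] IsCofiltered.isConnected in
/-- existence half in general -/
theorem existsCond_sheafify (hsq : ηF ≫ a' = a ≫ ηG) (ha : RelCond a) (hF' : Presheaf.IsSheaf (AlgSp.J S) F')
    (hG' : Presheaf.IsSheaf (AlgSp.J S) G')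
    [Presheaf.IsLocallyInjective (AlgSp.J S) ηF] [Presheaf.IsLocallySurjective (AlgSp.J S) ηF]
    [Presheaf.IsLocallyInjective (AlgSp.J S) ηG] [Presheaf.IsLocallySurjective (AlgSp.J S) ηG]
    {I : Type u} [SmallCategory I] [IsCofiltered I] (D : I ⥤ Over S) (c : Cone D)
    (hc : IsLimit ((Over.forget S).mapCone c)) (hD : ∀ i, IsAffine (D.obj i).left) (hT : IsAffine c.pt.left) :
    ExistsCond a' D c := by
  classical
  intro j y' x hx
  -- step 1: a finite affine fppf family over `D j` on which `y'` comes from `G`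
  have hsieve := Presheaf.imageSieve_mem (AlgSp.J S) ηG (U := op (D.obj j)) y'
  have : CompactSpace (D.obj j).left := by
    have := hD j
    infer_instance
  obtain ⟨K, hK, U, u, hUaff, hUfam, hUR⟩ := exists_finite_affine_refinement _ hsieve
  choose yb hyb using hUR
  have hyb' : ∀ k, ηG.app (op (U k)) (yb k) = G'.map (u k).op y' := fun k => hyb k
  have := hK
  let l₀ : Over j := Over.mk (𝟙 j)
  have hfst : ∀ k, pullback.fst (u k) (D.map l₀.hom) ≫ u k = sndE D j (u k) l₀ := fun k => by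
    rw [pullback.condition]
    simp [sndE, l₀]
  -- the structure maps to `D j`
  let τ : ∀ {W : Over S} (w : W ⟶ D.obj j) (l : Over j), (pbFunctor D j w).obj l ⟶ D.obj j := fun w l =>
    sndE D j w l ≫ D.map l.hom
  have hτmap : ∀ {W : Over S} (w : W ⟶ D.obj j) {l l' : Over j} (g : l' ⟶ l),
      (pbFunctor D j w).map g ≫ τ w l = τ w l' := by
    intro W w l l' g
    change (pbFunctor D j w).map g ≫ sndE D j w l ≫ D.map l.hom = _
    rw [← Category.assoc, pbFunctor_map_snd, Category.assoc, ← D.map_comp, Over.w]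
  have hτπ : ∀ {W : Over S} (w : W ⟶ D.obj j) (l : Over j),
      (pbCone D c j w).π.app l ≫ τ w l = sndC D c j w ≫ c.π.app j := by
    intro W w l
    change (pbCone D c j w).π.app l ≫ sndE D j w l ≫ D.map l.hom = _
    rw [← Category.assoc, pbCone_π_snd, Category.assoc, c.w]
  have hτ₀ : ∀ k, τ (u k) l₀ = sndE D j (u k) l₀ := fun k => by
    change sndE D j (u k) l₀ ≫ D.map l₀.hom = _
    simp [l₀]
  -- step 2: sections over a common stage
  have hy₀ : ∀ k, ηG.app _ (G.map (pullback.fst (u k) (D.map l₀.hom)).op (yb k)) = G'.map (τ (u k) l₀).op y' :=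
    fun k => rel_map ηG _ (u k) _ ((hfst k).trans (hτ₀ k).symm) (yb k) y' (hyb' k)
  have hxk : ∀ k, a'.app _ (F'.map (sndC D c j (u k)).op x) =
      G'.map ((pbCone D c j (u k)).π.app l₀).op
        (ηG.app _ (G.map (pullback.fst (u k) (D.map l₀.hom)).op (yb k))) := fun k =>
    (rel_map a' (sndC D c j (u k)) (c.π.app j) _ (hτπ (u k) l₀).symm x y' hx).trans
      ((map_map_apply (F := G') _ _ y').symm.trans (congrArg _ (hy₀ k).symm))
  obtain ⟨l, f, hb⟩ := exists_common (K := K) l₀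
    (fun k l' f => ∃ b : F'.obj (op ((pbFunctor D j (u k)).obj l')), a'.app _ b = G'.map (τ (u k) l').op y' ∧
      F'.map ((pbCone D c j (u k)).π.app l').op b = F'.map (sndC D c j (u k)).op x)
    (fun k l' f' l'' g' hfg => by
      obtain ⟨b, hb1, hb2⟩ := hfg
      exact ⟨F'.map ((pbFunctor D j (u k)).map g').op b, rel_map a' _ _ _ (hτmap (u k) g') b y' hb1,
        (map_w_apply (pbCone D c j (u k)) g' b).trans hb2⟩)
    (fun k => by
      obtain ⟨l', f', b, hb1, hb2⟩ := existsCond_of_image a a' ηF ηG hsq ha hF' hG' (pbFunctor D j (u k))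
        (pbCone D c j (u k))
        (isLimitOfPreserves (Over.forget S) (isLimitPbCone D c (isLimitOfReflects (Over.forget S) hc) j _))
        (isAffine_pbFunctor D hD j _ (hUaff k)) (isAffine_pullback_left _ _ (hUaff k) hT (hD _)) l₀
        (G.map (pullback.fst (u k) (D.map l₀.hom)).op (yb k)) (F'.map (sndC D c j (u k)).op x) (hxk k)
      exact ⟨l', f', b, hb1.trans ((congrArg _ (hy₀ k)).trans ((map_map_apply (F := G') _ _ y').trans
        (congrArg (fun m => G'.map m.op y') (hτmap (u k) f')))), hb2⟩)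
  choose b hba hbπ using hb
  -- step 3: agreement on the overlaps at a later stage
  have hOaff : ∀ k k', IsAffine (pullback (u k) (u k')).left := fun k k' =>
    isAffine_pullback_left _ _ (hUaff k) (hUaff k') (hD _)
  have hO : ∀ k k', F'.map ((pbCone D c j (ovl D j u k k')).π.app l).op (F'.map (pr₁ D j u k k' l).op (b k)) =
      F'.map ((pbCone D c j (ovl D j u k k')).π.app l).op (F'.map (pr₂ D j u k k' l).op (b k')) :=
    fun k k' => by
      have A1 : F'.map ((pbCone D c j (ovl D j u k k')).π.app l).op (F'.map (pr₁ D j u k k' l).op (b k)) =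
          F'.map (sndC D c j (ovl D j u k k')).op x :=
        ((map_sq_apply (F := F') _ _ _ _ (pr₁_cone D c j u k k' l) (b k)).trans (congrArg _ (hbπ k))).trans
          ((map_map_apply (F := F') _ _ x).trans (congrArg (fun m => F'.map m.op x) (prc₁_snd D c j u k k')))
      have A2 : F'.map ((pbCone D c j (ovl D j u k k')).π.app l).op (F'.map (pr₂ D j u k k' l).op (b k')) =
          F'.map (sndC D c j (ovl D j u k k')).op x :=
        ((map_sq_apply (F := F') _ _ _ _ (pr₂_cone D c j u k k' l) (b k')).trans (congrArg _ (hbπ k'))).trans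
          ((map_map_apply (F := F') _ _ x).trans (congrArg (fun m => F'.map m.op x) (prc₂_snd D c j u k k')))
      exact A1.trans A2.symm
  have hOa : ∀ k k', a'.app _ (F'.map (pr₁ D j u k k' l).op (b k)) = a'.app _ (F'.map (pr₂ D j u k k' l).op (b k')) :=
    fun k k' =>
      (rel_map a' (pr₁ D j u k k' l) (τ (u k) l) (sndE D j (ovl D j u k k') l ≫ D.map l.hom)
        (by rw [← Category.assoc, pr₁_snd]) (b k) y' (hba k)).trans
      (rel_map a' (pr₂ D j u k k' l) (τ (u k') l) (sndE D j (ovl D j u k k') l ≫ D.map l.hom)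
        (by rw [← Category.assoc, pr₂_snd]) (b k') y' (hba k')).symm
  obtain ⟨l', g, hg⟩ := exists_common (K := K × K) l
    (fun kk l' g => F'.map ((pbFunctor D j (ovl D j u kk.1 kk.2)).map g).op
        (F'.map (pr₁ D j u kk.1 kk.2 l).op (b kk.1)) =
      F'.map ((pbFunctor D j (ovl D j u kk.1 kk.2)).map g).op (F'.map (pr₂ D j u kk.1 kk.2 l).op (b kk.2)))
    (fun kk l' f l'' g hfg => by
      have e := congrArg (F'.map ((pbFunctor D j (ovl D j u kk.1 kk.2)).map g).op) hfg
      rw [map_D_comp_apply, map_D_comp_apply] at e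
      exact e)
    (fun kk => uniqueCond_sheafify a a' ηF ηG hsq ha hF' (pbFunctor D j (ovl D j u kk.1 kk.2))
      (pbCone D c j (ovl D j u kk.1 kk.2))
      (isLimitOfPreserves (Over.forget S) (isLimitPbCone D c (isLimitOfReflects (Over.forget S) hc) j _))
      (isAffine_pbFunctor D hD j _ (hOaff kk.1 kk.2)) (isAffine_pullback_left _ _ (hOaff kk.1 kk.2) hT (hD _)) l
      (F'.map (pr₁ D j u kk.1 kk.2 l).op (b kk.1)) (F'.map (pr₂ D j u kk.1 kk.2 l).op (b kk.2))
      (hOa kk.1 kk.2) (hO kk.1 kk.2))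
  -- step 4: glue
  have hcompat : ∀ k k', F'.map (pr₁ D j u k k' l').op (F'.map ((pbFunctor D j (u k)).map g).op (b k)) =
      F'.map (pr₂ D j u k k' l').op (F'.map ((pbFunctor D j (u k')).map g).op (b k')) := fun k k' => by
    rw [← map_sq_apply (F := F') _ _ _ _ (pr₁_nat D j u k k' g) (b k),
      ← map_sq_apply (F := F') _ _ _ _ (pr₂_nat D j u k k' g) (b k')]
    exact hg (k, k')
  obtain ⟨x', hx'⟩ := (isFppfFamily_sndE D j u hUfam l').glue hF'
    (fun k => F'.map ((pbFunctor D j (u k)).map g).op (b k)) (fun k k' Z g₁ g₂ h12 => by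
      obtain ⟨ζ, hζ1, hζ2⟩ := exists_lift_ovl D j u k k' l' g₁ g₂ h12
      have e1 := map_map_apply (F := F') ζ (pr₁ D j u k k' l') (F'.map ((pbFunctor D j (u k)).map g).op (b k))
      have e2 := map_map_apply (F := F') ζ (pr₂ D j u k k' l') (F'.map ((pbFunctor D j (u k')).map g).op (b k'))
      rw [hζ1] at e1
      rw [hζ2] at e2
      exact e1.symm.trans ((congrArg _ (hcompat k k')).trans e2))
  refine ⟨l'.left, l'.hom, x', ?_, ?_⟩
  · -- the image in `G'`
    refine (isFppfFamily_sndE D j u hUfam l').ext hG' _ _ (fun k => ?_)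
    calc G'.map (sndE D j (u k) l').op (a'.app _ x')
        = a'.app _ (F'.map (sndE D j (u k) l').op x') := (nat_apply a' _ x').symm
      _ = a'.app _ (F'.map ((pbFunctor D j (u k)).map g).op (b k)) := congrArg _ (hx' k)
      _ = G'.map (τ (u k) l').op y' := rel_map a' _ _ _ (hτmap (u k) g) (b k) y' (hba k)
      _ = G'.map (sndE D j (u k) l').op (G'.map (D.map l'.hom).op y') := (map_map_apply (F := G') _ _ _).symm
  · refine (isFppfFamily_sndC D c j u hUfam).ext hF' _ _ (fun k => ?_)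
    have e1 : F'.map (sndC D c j (u k)).op (F'.map (c.π.app l'.left).op x') =
        F'.map ((pbCone D c j (u k)).π.app l').op (F'.map (sndE D j (u k) l').op x') :=
      map_sq_apply _ _ _ _ (pbCone_π_snd D c j (u k) l').symm x'
    rw [e1, hx' k, map_w_apply (pbCone D c j (u k)) g (b k), hbπ k]


/-- the general transfer statement -/
theorem relCond_of_locallyBijective (hsq : ηF ≫ a' = a ≫ ηG) (ha : RelCond a)
    (hF' : Presheaf.IsSheaf (AlgSp.J S) F') (hG' : Presheaf.IsSheaf (AlgSp.J S) G')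
    [Presheaf.IsLocallyInjective (AlgSp.J S) ηF] [Presheaf.IsLocallySurjective (AlgSp.J S) ηF]
    [Presheaf.IsLocallyInjective (AlgSp.J S) ηG] [Presheaf.IsLocallySurjective (AlgSp.J S) ηG] :
    RelCond a' := fun _ _ _ D c hc hD hT =>
  ⟨existsCond_sheafify a a' ηF ηG hsq ha hF' hG' D c hc hD hT,
    uniqueCond_sheafify a a' ηF ηG hsq ha hF' D c hc hD hT⟩


end Setting

/-- **Sheafification preserves relative limit preservation.** -/
theorem isRelLimitPreserving_sheafify_map {F G : AlgSp.PSp S} (a : F ⟶ G) (ha : AlgSp.IsRelLimitPreserving a) :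
    AlgSp.IsRelLimitPreserving ((presheafToSheaf (AlgSp.J S) (Type (u + 1))).map a).hom := by
  rw [isRelLimitPreserving_iff_elementwise]
  exact relCond_of_locallyBijective a ((presheafToSheaf (AlgSp.J S) (Type (u + 1))).map a).hom
    (toSheafify (AlgSp.J S) F) (toSheafify (AlgSp.J S) G) (toSheafify_naturality (AlgSp.J S) a).symm
    ((isRelLimitPreserving_iff_elementwise a).1 ha)
    ((presheafToSheaf (AlgSp.J S) (Type (u + 1))).obj F).property
    ((presheafToSheaf (AlgSp.J S) (Type (u + 1))).obj G).property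

end Groth.Agent.R2.H44.SheafifyRel
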