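import Mathlib
import Groth.Agent.R2.H44GrpLim2
import Groth.Agent.R2.H44QuotLim
import Groth.Agent.S9189
import Groth.Agent.Lib.Helper6LfpComp

/-!
# Closed subgroup schemes over a cofiltered limit descend to a stage (helper44)

Namespace `Groth.Agent.R2.H44.GrpLim`.

* `of_isPullback_later`: a base-change-stable property of some model at a stage holds for every model at a later stage.
* `exists_isClosedImmersion_stage`: a morphism between finitely presented schemes over a stage which becomes a closed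
  immersion over the limit is a closed immersion over a later stage (from S9189).
* `exists_closedSubgrp_stage`: a closed subgroup scheme of finite presentation of `G₀ ×_{S_{i₀}} S` is the base change of a
  closed subgroup scheme of `G₀ ×_{S_{i₀}} S_j` for some stage `j`.
-/

set_option autoImplicit false
set_option linter.style.haveILetI false
universe u

open CategoryTheory CategoryTheory.Limits MonoidalCategory CartesianMonoidalCategory MonObj GrpObj AlgebraicGeometry

namespace Groth.Agent.R2.H44.GrpLim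

open ActBC

section Stage

variable {I : Type u} [SmallCategory I] (D : I ⥤ Scheme.{u})

theorem of_isPullback_later (P : MorphismProperty Scheme.{u}) [P.IsStableUnderBaseChange] {i₀ i₁ i₂ : I}
    (φ : i₁ ⟶ i₀) (ψ : i₂ ⟶ i₁) (a : i₂ ⟶ i₀) (ha : ψ ≫ φ = a)
    {X₀ Y₀ : Scheme.{u}} (f₀ : X₀ ⟶ Y₀) (g₀ : Y₀ ⟶ D.obj i₀)
    {X₁ Y₁ : Scheme.{u}} (f₁ : X₁ ⟶ Y₁) (g₁ : Y₁ ⟶ D.obj i₁) (pY₁ : Y₁ ⟶ Y₀) (pX₁ : X₁ ⟶ X₀)
    (hY₁ : IsPullback pY₁ g₁ g₀ (D.map φ)) (hX₁ : IsPullback pX₁ f₁ f₀ pY₁) (hP : P f₁)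
    {X₂ Y₂ : Scheme.{u}} (f₂ : X₂ ⟶ Y₂) (g₂ : Y₂ ⟶ D.obj i₂) (pY₂ : Y₂ ⟶ Y₀) (pX₂ : X₂ ⟶ X₀)
    (hY₂ : IsPullback pY₂ g₂ g₀ (D.map a)) (hX₂ : IsPullback pX₂ f₂ f₀ pY₂) : P f₂ := by
  subst ha
  let l : Y₂ ⟶ Y₁ := hY₁.lift pY₂ (g₂ ≫ D.map ψ) (by rw [hY₂.w, Category.assoc, ← D.map_comp])
  have hl1 : l ≫ pY₁ = pY₂ := hY₁.lift_fst _ _ _
  let m : X₂ ⟶ X₁ := hX₁.lift pX₂ (f₂ ≫ l) (by rw [hX₂.w, Category.assoc, hl1])
  have hm1 : m ≫ pX₁ = pX₂ := hX₁.lift_fst _ _ _
  have hm2 : m ≫ f₁ = f₂ ≫ l := hX₁.lift_snd _ _ _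
  have hsq : IsPullback m f₂ f₁ l := by
    refine IsPullback.of_right ?_ hm2 hX₁
    rw [hm1, hl1]
    exact hX₂
  exact P.of_isPullback hsq hP

end Stage

section Lim

variable {I : Type u} [SmallCategory I] [IsCofiltered I] (D : I ⥤ Scheme.{u}) (c : Cone D) (hc : IsLimit c)
  [∀ (i i' : I) (f : i ⟶ i'), IsAffineHom (D.map f)] [∀ i, CompactSpace (D.obj i)]
  [∀ i, QuasiSeparatedSpace (D.obj i)]

include hc in
/-- a morphism of finitely presented schemes over a stage which is a closed immersion over the limit is a closed immersion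
over a later stage -/
theorem exists_isClosedImmersion_stage (i : I) {A B : Over (D.obj i)} (v : A ⟶ B)
    [LocallyOfFinitePresentation A.hom] [QuasiCompact A.hom] [QuasiSeparated A.hom]
    [LocallyOfFiniteType B.hom] [QuasiCompact B.hom] [QuasiSeparated B.hom]
    (h : IsClosedImmersion ((Over.pullback (c.π.app i)).map v).left) :
    ∃ (j : I) (a : j ⟶ i), IsClosedImmersion ((Over.pullback (D.map a)).map v).left := by
  have : CompactSpace A.left := QuasiCompact.compactSpace_of_compactSpace A.hom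
  have : QuasiSeparatedSpace A.left := quasiSeparatedSpace_of_quasiSeparated A.hom
  have : CompactSpace B.left := QuasiCompact.compactSpace_of_compactSpace B.hom
  have : QuasiSeparatedSpace B.left := quasiSeparatedSpace_of_quasiSeparated B.hom
  have hw : v.left ≫ B.hom = A.hom := Over.w v
  have : LocallyOfFiniteType v.left := by
    have : LocallyOfFiniteType (v.left ≫ B.hom) := by rw [hw]; infer_instance
    exact locallyOfFiniteType_of_comp v.left B.hom
  obtain ⟨j, φ, Xj, Yj, fj, gj, pY, pX, hY, hX, hcl⟩ :=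
    Groth.Agent.S9189.result D c hc i v.left B.hom ((Over.pullback (c.π.app i)).map v).left
      (pullback.snd B.hom (c.π.app i)) (pullback.fst B.hom (c.π.app i)) (pullback.fst A.hom (c.π.app i))
      (IsPullback.of_hasPullback B.hom (c.π.app i)) (isPullback_map_left (c.π.app i) v)
  refine ⟨j, φ, ?_⟩
  exact of_isPullback_later D @IsClosedImmersion φ (𝟙 j) φ (Category.id_comp φ) v.left B.hom fj gj pY pX hY hX hcl
    ((Over.pullback (D.map φ)).map v).left (pullback.snd B.hom (D.map φ)) (pullback.fst B.hom (D.map φ))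
    (pullback.fst A.hom (D.map φ)) (IsPullback.of_hasPullback B.hom (D.map φ)) (isPullback_map_left (D.map φ) v)

@[reassoc]
theorem bcCompIso_inv_left_fst_fst {S S' S'' : Scheme.{u}} (f : S'' ⟶ S') (g : S' ⟶ S) {d : S'' ⟶ S} (h : f ≫ g = d)
    (X : Over S) : (bcCompIso f g X h).inv.left ≫ pullback.fst (Red.bc g X).hom f ≫ pullback.fst X.hom g =
      pullback.fst X.hom d := by
  rw [← bcCompIso_hom_left_fst f g X h, ← Over.comp_left_assoc, Iso.inv_hom_id, Over.id_left, Category.id_comp]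

include hc in
/-- A closed subgroup scheme of finite presentation of the base change to the limit of a group scheme over a stage is the
base change of a closed subgroup scheme over a later stage. -/
theorem exists_closedSubgrp_stage (i₀ : I) (G₀ : Over (D.obj i₀)) [GrpObj G₀]
    [LocallyOfFinitePresentation G₀.hom] [QuasiCompact G₀.hom] [QuasiSeparated G₀.hom]
    (Hη : Over c.pt) [GrpObj Hη] [LocallyOfFinitePresentation Hη.hom] [QuasiCompact Hη.hom] [QuasiSeparated Hη.hom]
    (i : Hη ⟶ Red.bc (c.π.app i₀) G₀) [IsMonHom i] [IsClosedImmersion i.left] :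
    ∃ (j : I) (a : j ⟶ i₀) (H : Over (D.obj j)) (_ : GrpObj H) (incl : H ⟶ Red.bc (D.map a) G₀)
      (θ : Red.bc (c.π.app j) H ≅ Hη), IsMonHom incl ∧ IsClosedImmersion incl.left ∧
      θ.hom.left ≫ i.left ≫ pullback.fst G₀.hom (c.π.app i₀) =
        pullback.fst H.hom (c.π.app j) ≫ incl.left ≫ pullback.fst G₀.hom (D.map a) := by
  obtain ⟨j₁, H₁, instH₁, e, he, hfp₁, hqc₁, hqs₁⟩ := exists_grp_descends D c hc Hη
  obtain ⟨j₂, b₁, b₀, -⟩ : ∃ (j₂ : I) (b₁ : j₂ ⟶ j₁) (b₀ : j₂ ⟶ i₀), True :=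
    ⟨IsCofiltered.min j₁ i₀, IsCofiltered.minToLeft j₁ i₀, IsCofiltered.minToRight j₁ i₀, trivial⟩
  have qH₂ : QuasiCompact (Red.bc (D.map b₁) H₁).hom := by
    change QuasiCompact (pullback.snd H₁.hom (D.map b₁)); infer_instance
  have sH₂ : QuasiSeparated (Red.bc (D.map b₁) H₁).hom := by
    change QuasiSeparated (pullback.snd H₁.hom (D.map b₁)); infer_instance
  have pH₂ : LocallyOfFinitePresentation (Red.bc (D.map b₁) H₁).hom := by
    change LocallyOfFinitePresentation (pullback.snd H₁.hom (D.map b₁)); infer_instance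
  have qG₂ : QuasiCompact (Red.bc (D.map b₀) G₀).hom := by
    change QuasiCompact (pullback.snd G₀.hom (D.map b₀)); infer_instance
  have sG₂ : QuasiSeparated (Red.bc (D.map b₀) G₀).hom := by
    change QuasiSeparated (pullback.snd G₀.hom (D.map b₀)); infer_instance
  have pG₂ : LocallyOfFinitePresentation (Red.bc (D.map b₀) G₀).hom := by
    change LocallyOfFinitePresentation (pullback.snd G₀.hom (D.map b₀)); infer_instance
  haveI : IsMonHom e.inv := inferInstance
  obtain ⟨u, hu⟩ : ∃ u : Red.bc (c.π.app j₂) (Red.bc (D.map b₁) H₁) ⟶ Red.bc (c.π.app j₂) (Red.bc (D.map b₀) G₀),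
      u = (bcCompIso (c.π.app j₂) (D.map b₁) H₁ (c.w b₁)).hom ≫ e.inv ≫ i ≫
        (bcCompIso (c.π.app j₂) (D.map b₀) G₀ (c.w b₀)).inv := ⟨_, rfl⟩
  haveI : IsMonHom u := by rw [hu]; infer_instance
  obtain ⟨j₃, f, u₃, hu₃m, hu₃⟩ :=
    exists_grpHom_descends D c hc j₂ (Red.bc (D.map b₁) H₁) (Red.bc (D.map b₀) G₀) u
  -- the model of the inclusion is a closed immersion over a later stage
  have qH₃ : QuasiCompact (Red.bc (D.map f) (Red.bc (D.map b₁) H₁)).hom := by
    change QuasiCompact (pullback.snd (Red.bc (D.map b₁) H₁).hom (D.map f)); infer_instance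
  have sH₃ : QuasiSeparated (Red.bc (D.map f) (Red.bc (D.map b₁) H₁)).hom := by
    change QuasiSeparated (pullback.snd (Red.bc (D.map b₁) H₁).hom (D.map f)); infer_instance
  have pH₃ : LocallyOfFinitePresentation (Red.bc (D.map f) (Red.bc (D.map b₁) H₁)).hom := by
    change LocallyOfFinitePresentation (pullback.snd (Red.bc (D.map b₁) H₁).hom (D.map f)); infer_instance
  have qG₃ : QuasiCompact (Red.bc (D.map f) (Red.bc (D.map b₀) G₀)).hom := by
    change QuasiCompact (pullback.snd (Red.bc (D.map b₀) G₀).hom (D.map f)); infer_instance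
  have sG₃ : QuasiSeparated (Red.bc (D.map f) (Red.bc (D.map b₀) G₀)).hom := by
    change QuasiSeparated (pullback.snd (Red.bc (D.map b₀) G₀).hom (D.map f)); infer_instance
  have pG₃ : LocallyOfFiniteType (Red.bc (D.map f) (Red.bc (D.map b₀) G₀)).hom := by
    change LocallyOfFiniteType (pullback.snd (Red.bc (D.map b₀) G₀).hom (D.map f)); infer_instance
  have hcl₃ : IsClosedImmersion ((Over.pullback (c.π.app j₃)).map u₃).left := by
    rw [hu₃, hu]
    simp only [Over.comp_left]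
    have h1 := isIso_left (bcCompIso (c.π.app j₃) (D.map f) (Red.bc (D.map b₁) H₁) (c.w f)).hom
    have h2 := isIso_left (bcCompIso (c.π.app j₂) (D.map b₁) H₁ (c.w b₁)).hom
    have h3 := isIso_left e.inv
    have h4 := isIso_left (bcCompIso (c.π.app j₂) (D.map b₀) G₀ (c.w b₀)).inv
    have h5 := isIso_left (bcCompIso (c.π.app j₃) (D.map f) (Red.bc (D.map b₀) G₀) (c.w f)).inv
    infer_instance
  obtain ⟨j₄, a₄, hcl₄⟩ := exists_isClosedImmersion_stage D c hc j₃ u₃ hcl₃
  -- the relation between `u₃` and `i` on components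
  have E₃ : pullback.fst (Red.bc (D.map f) (Red.bc (D.map b₁) H₁)).hom (c.π.app j₃) ≫ u₃.left ≫
      pullback.fst (Red.bc (D.map b₀) G₀).hom (D.map f) ≫ pullback.fst G₀.hom (D.map b₀) =
      (bcCompIso (c.π.app j₃) (D.map f) (Red.bc (D.map b₁) H₁) (c.w f)).hom.left ≫
        (bcCompIso (c.π.app j₂) (D.map b₁) H₁ (c.w b₁)).hom.left ≫ e.inv.left ≫ i.left ≫
          pullback.fst G₀.hom (c.π.app i₀) := by
    have E := congrArg (fun m => m.left ≫ pullback.fst (Red.bc (D.map f) (Red.bc (D.map b₀) G₀)).hom (c.π.app j₃) ≫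
      pullback.fst (Red.bc (D.map b₀) G₀).hom (D.map f) ≫ pullback.fst G₀.hom (D.map b₀)) hu₃
    simp only [hu, Over.comp_left, Category.assoc, ActBC.pullback_map_left_fst_assoc,
      bcCompIso_inv_left_fst_fst_assoc, bcCompIso_inv_left_fst_fst] at E
    exact E
  have ha : D.map a₄ ≫ D.map f ≫ D.map b₀ = D.map (a₄ ≫ f ≫ b₀) := by rw [D.map_comp, D.map_comp]
  obtain ⟨gam, hgam⟩ : ∃ gam : Red.bc (D.map a₄) (Red.bc (D.map f) (Red.bc (D.map b₀) G₀)) ≅ Red.bc (D.map (a₄ ≫ f ≫ b₀)) G₀,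
      gam = (Over.pullback (D.map a₄)).mapIso (bcCompIso (D.map f) (D.map b₀) G₀ rfl) ≪≫
        bcCompIso (D.map a₄) (D.map f ≫ D.map b₀) G₀ ha := ⟨_, rfl⟩
  have hgm : IsMonHom gam.hom := by
    rw [hgam, Iso.trans_hom, Functor.mapIso_hom]
    infer_instance
  have hgp : gam.hom.left ≫ pullback.fst G₀.hom (D.map (a₄ ≫ f ≫ b₀)) =
      pullback.fst (Red.bc (D.map f) (Red.bc (D.map b₀) G₀)).hom (D.map a₄) ≫
        pullback.fst (Red.bc (D.map b₀) G₀).hom (D.map f) ≫ pullback.fst G₀.hom (D.map b₀) := by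
    rw [hgam, Iso.trans_hom, Functor.mapIso_hom]
    simp only [Over.comp_left, Category.assoc, bcCompIso_hom_left_fst, ActBC.pullback_map_left_fst_assoc]
  have hgi : IsIso gam.hom.left := isIso_left gam.hom
  refine ⟨j₄, a₄ ≫ f ≫ b₀, Red.bc (D.map a₄) (Red.bc (D.map f) (Red.bc (D.map b₁) H₁)), inferInstance,
    (Over.pullback (D.map a₄)).map u₃ ≫ gam.hom,
    bcCompIso (c.π.app j₄) (D.map a₄) (Red.bc (D.map f) (Red.bc (D.map b₁) H₁)) (c.w a₄) ≪≫
      bcCompIso (c.π.app j₃) (D.map f) (Red.bc (D.map b₁) H₁) (c.w f) ≪≫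
        bcCompIso (c.π.app j₂) (D.map b₁) H₁ (c.w b₁) ≪≫ e.symm, inferInstance, ?_, ?_⟩
  · rw [Over.comp_left]
    infer_instance
  · simp only [Iso.trans_hom, Iso.symm_hom, Over.comp_left, Category.assoc]
    rw [hgp, ActBC.pullback_map_left_fst_assoc, ← E₃, bcCompIso_hom_left_fst_assoc]

include hc in
/-- Variant of `exists_closedSubgrp_stage` for a group scheme over a scheme `X` to which all stages map compatibly. -/
theorem exists_closedSubgrp_stage_over {X : Scheme.{u}} (t : ∀ i, D.obj i ⟶ X)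
    (ht : ∀ {i j : I} (f : i ⟶ j), D.map f ≫ t j = t i) (tη : c.pt ⟶ X) (htη : ∀ i, c.π.app i ≫ t i = tη)
    (G : Over X) [GrpObj G] [LocallyOfFinitePresentation G.hom] [QuasiCompact G.hom] [QuasiSeparated G.hom]
    (Hη : Over c.pt) [GrpObj Hη] [LocallyOfFinitePresentation Hη.hom] [QuasiCompact Hη.hom] [QuasiSeparated Hη.hom]
    (i : Hη ⟶ Red.bc tη G) [IsMonHom i] [IsClosedImmersion i.left] :
    ∃ (j : I) (H : Over (D.obj j)) (_ : GrpObj H) (incl : H ⟶ Red.bc (t j) G)
      (θ : Red.bc (c.π.app j) H ≅ Hη), IsMonHom incl ∧ IsClosedImmersion incl.left ∧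
      θ.hom.left ≫ i.left ≫ pullback.fst G.hom tη =
        pullback.fst H.hom (c.π.app j) ≫ incl.left ≫ pullback.fst G.hom (t j) := by
  obtain ⟨i₀⟩ := IsCofiltered.nonempty (C := I)
  have p1 : LocallyOfFinitePresentation (Red.bc (t i₀) G).hom := by
    change LocallyOfFinitePresentation (pullback.snd G.hom (t i₀)); infer_instance
  have p2 : QuasiCompact (Red.bc (t i₀) G).hom := by
    change QuasiCompact (pullback.snd G.hom (t i₀)); infer_instance
  have p3 : QuasiSeparated (Red.bc (t i₀) G).hom := by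
    change QuasiSeparated (pullback.snd G.hom (t i₀)); infer_instance
  have hcl : IsClosedImmersion (i ≫ (bcCompIso (c.π.app i₀) (t i₀) G (htη i₀)).inv).left := by
    rw [Over.comp_left]
    have := isIso_left (bcCompIso (c.π.app i₀) (t i₀) G (htη i₀)).inv
    infer_instance
  obtain ⟨j, a, H, instH, incl, θ, hm, hcl', hcompat⟩ :=
    exists_closedSubgrp_stage D c hc i₀ (Red.bc (t i₀) G) Hη (i ≫ (bcCompIso (c.π.app i₀) (t i₀) G (htη i₀)).inv)
  refine ⟨j, H, instH, incl ≫ (bcCompIso (D.map a) (t i₀) G (ht a)).hom, θ, inferInstance, ?_, ?_⟩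
  · rw [Over.comp_left]
    have := isIso_left (bcCompIso (D.map a) (t i₀) G (ht a)).hom
    infer_instance
  · have E := congrArg (fun m => m ≫ pullback.fst G.hom (t i₀)) hcompat
    simp only [Over.comp_left, Category.assoc, bcCompIso_inv_left_fst_fst] at E
    simp only [Over.comp_left, Category.assoc, bcCompIso_hom_left_fst]
    exact E

end Lim

section Transport

variable {X K U' Dj : Scheme.{u}}

/-- transport of a spread-out closed subgroup scheme along an isomorphism of the base -/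
theorem exists_transport_iso (e : U' ≅ Dj) (tj : Dj ⟶ X) (ι' : U' ⟶ X) (h : e.hom ≫ tj = ι') (πj : K ⟶ Dj)
    (tη : K ⟶ X) (hη : πj ≫ tj = tη) (G : Over X) [GrpObj G] (Hη : Over K) (i : Hη ⟶ Red.bc tη G)
    (H : Over Dj) [GrpObj H] (incl : H ⟶ Red.bc tj G) [IsMonHom incl] [IsClosedImmersion incl.left]
    (θ : Red.bc πj H ≅ Hη)
    (hcompat : θ.hom.left ≫ i.left ≫ pullback.fst G.hom tη =
      pullback.fst H.hom πj ≫ incl.left ≫ pullback.fst G.hom tj) :
    ∃ (ηU : K ⟶ U') (HU : Over U') (_ : GrpObj HU) (jj : HU ⟶ Red.bc ι' G) (φ : Hη.left ⟶ HU.left),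
      ηU ≫ ι' = tη ∧ IsMonHom jj ∧ IsClosedImmersion jj.left ∧ IsPullback φ Hη.hom HU.hom ηU ∧
      φ ≫ jj.left ≫ pullback.fst G.hom ι' = i.left ≫ pullback.fst G.hom tη := by
  have hθ1 : θ.inv.left ≫ θ.hom.left = 𝟙 _ := by
    rw [← Over.comp_left, Iso.inv_hom_id, Over.id_left]
  have hθ2 : θ.hom.left ≫ θ.inv.left = 𝟙 _ := by
    rw [← Over.comp_left, Iso.hom_inv_id, Over.id_left]
  have hθw : θ.inv.left ≫ pullback.snd H.hom πj = Hη.hom := Over.w θ.inv
  have hθw' : θ.hom.left ≫ Hη.hom = pullback.snd H.hom πj := Over.w θ.hom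
  have cond : (θ.inv.left ≫ pullback.fst H.hom πj) ≫ H.hom = (Hη.hom ≫ πj ≫ e.inv) ≫ e.hom := by
    rw [Category.assoc, pullback.condition, ← Category.assoc, hθw, Category.assoc, Category.assoc, e.inv_hom_id,
      Category.comp_id]
  refine ⟨πj ≫ e.inv, Red.bc e.hom H, inferInstance,
    (Over.pullback e.hom).map incl ≫ (bcCompIso e.hom tj G h).hom,
    pullback.lift (θ.inv.left ≫ pullback.fst H.hom πj) (Hη.hom ≫ πj ≫ e.inv) cond, ?_, inferInstance, ?_, ?_, ?_⟩
  · rw [← h, Category.assoc, e.inv_hom_id_assoc, hη]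
  · rw [Over.comp_left]
    have h1 : IsClosedImmersion ((Over.pullback e.hom).map incl).left :=
      MorphismProperty.of_isPullback (P := @IsClosedImmersion) (isPullback_map_left e.hom incl) inferInstance
    have h2 := isIso_left (bcCompIso e.hom tj G h).hom
    infer_instance
  · change IsPullback _ Hη.hom (pullback.snd H.hom e.hom) (πj ≫ e.inv)
    refine IsPullback.of_right ?_ (pullback.lift_snd _ _ _) (IsPullback.of_hasPullback H.hom e.hom)
    rw [pullback.lift_fst, Category.assoc, e.inv_hom_id, Category.comp_id]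
    refine (IsPullback.of_hasPullback H.hom πj).of_iso ((Over.forget _).mapIso θ) (Iso.refl _) (Iso.refl _)
      (Iso.refl _) ?_ ?_ ?_ ?_
    · change pullback.fst H.hom πj ≫ 𝟙 _ = θ.hom.left ≫ θ.inv.left ≫ pullback.fst H.hom πj
      rw [Category.comp_id, ← Category.assoc, hθ2, Category.id_comp]
    · change pullback.snd H.hom πj ≫ 𝟙 _ = θ.hom.left ≫ Hη.hom
      rw [Category.comp_id, hθw']
    · simp
    · simp
  · simp only [Over.comp_left, Category.assoc, bcCompIso_hom_left_fst]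
    rw [ActBC.pullback_map_left_fst_assoc, pullback.lift_fst_assoc, Category.assoc, ← hcompat, ← Category.assoc,
      hθ1, Category.id_comp]

end Transport

end Groth.Agent.R2.H44.GrpLim
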