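import Mathlib
import Groth.Agent.R2.H44QuotLim

/-!
# Closed subgroup schemes over a cofiltered limit of schemes (helper44)

Namespace `Groth.Agent.R2.H44.GrpLim`.

* `PreGrp.IsGrp.of_isHom_mono`: operations on `X` compatible through a monomorphism `X ⟶ Y` with those of a group
  object `Y` satisfy the group axioms.
* `subgrp_iff_factors`: a monomorphism `ι : H ⟶ G` into a group object underlies a subgroup iff unit, multiplication and
  inverse of `G` restricted to `H` factor through `ι`.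
-/

set_option autoImplicit false
universe u

open CategoryTheory CategoryTheory.Limits MonoidalCategory CartesianMonoidalCategory MonObj GrpObj AlgebraicGeometry

namespace Groth.Agent.R2.H44.GrpLim

open ActBC Groth.Agent.R2.H44.PreGrpLib

section Cat

variable {C : Type*} [Category C] [CartesianMonoidalCategory C] {X Y : C} [GrpObj Y]

theorem whiskerRight_eq_lift {A B : C} (f : A ⟶ B) (Z : C) : f ▷ Z = lift (fst A Z ≫ f) (snd A Z) := by
  apply CartesianMonoidalCategory.hom_ext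
  · rw [whiskerRight_fst, lift_fst]
  · rw [whiskerRight_snd, lift_snd]

theorem whiskerLeft_eq_lift {A B : C} (Z : C) (f : A ⟶ B) : Z ◁ f = lift (fst Z A) (snd Z A ≫ f) := by
  apply CartesianMonoidalCategory.hom_ext
  · rw [whiskerLeft_fst, lift_fst]
  · rw [whiskerLeft_snd, lift_snd]

/-- operations compatible through a monomorphism with those of a group object satisfy the axioms -/
theorem isGrp_of_isHom_mono (P : PreGrp X) (f : X ⟶ Y) [Mono f] (h : PreGrp.IsHom P (PreGrp.ofGrpObj Y) f) :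
    P.IsGrp := by
  have h1 : P.one ≫ f = η[Y] := h.one
  have h2 : P.mul ≫ f = (f ⊗ₘ f) ≫ μ[Y] := h.mul
  have h3 : P.inv ≫ f = f ≫ ι[Y] := h.inv
  have hmul : ∀ {T : C} (a b : T ⟶ X), (lift a b ≫ P.mul) ≫ f = (a ≫ f) * (b ≫ f) := by
    intro T a b
    rw [Category.assoc, h2, lift_map_assoc, Hom.mul_def]
  have hone : ∀ {T : C} (a : T ⟶ 𝟙_ C), (a ≫ P.one) ≫ f = 1 := by
    intro T a
    rw [Category.assoc, h1, Hom.one_def, toUnit_unique a (toUnit T)]
  have hinv : ∀ {T : C} (a : T ⟶ X), (a ≫ P.inv) ≫ f = (a ≫ f)⁻¹ := by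
    intro T a
    rw [Category.assoc, h3, Hom.inv_def, Category.assoc]
  refine ⟨?_, ?_, ?_, ?_, ?_⟩
  · rw [← cancel_mono f, whiskerRight_eq_lift, hmul, hone, _root_.one_mul, leftUnitor_hom]
  · rw [← cancel_mono f, whiskerLeft_eq_lift, hmul, hone, _root_.mul_one, rightUnitor_hom]
  · rw [← cancel_mono f, whiskerRight_eq_lift, hmul]
    have e1 : (α_ X X X).hom ≫ X ◁ P.mul =
        lift (fst (X ⊗ X) X ≫ fst X X) (lift (fst (X ⊗ X) X ≫ snd X X) (snd (X ⊗ X) X) ≫ P.mul) := by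
      apply CartesianMonoidalCategory.hom_ext
      · rw [Category.assoc, whiskerLeft_fst, associator_hom_fst, lift_fst]
      · rw [Category.assoc, whiskerLeft_snd, lift_snd, ← Category.assoc]
        congr 1
        apply CartesianMonoidalCategory.hom_ext
        · rw [Category.assoc, associator_hom_snd_fst, lift_fst]
        · rw [Category.assoc, associator_hom_snd_snd, lift_snd]
    have e2 : fst (X ⊗ X) X = lift (fst (X ⊗ X) X ≫ fst X X) (fst (X ⊗ X) X ≫ snd X X) := by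
      apply CartesianMonoidalCategory.hom_ext
      · rw [lift_fst]
      · rw [lift_snd]
    rw [← Category.assoc, e1, hmul, hmul]
    conv_lhs => rw [e2, hmul]
    rw [_root_.mul_assoc]
  · rw [← cancel_mono f, hmul, hone, Category.id_comp, h3, ← Hom.inv_def, inv_mul_cancel]
  · rw [← cancel_mono f, hmul, hone, Category.id_comp, h3, ← Hom.inv_def, mul_inv_cancel]

end Cat

section SubCat

open scoped Obj

variable {C : Type*} [Category C] [CartesianMonoidalCategory C] {E : Type*} [Category E] [CartesianMonoidalCategory E]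
  (F : C ⥤ E) [F.Monoidal] {H G : C} [GrpObj G] (ι₀ : H ⟶ G)

/-- the multiplication of `G` restricted to `H` -/
def subMul : H ⊗ H ⟶ G := (ι₀ ⊗ₘ ι₀) ≫ μ[G]

/-- the inverse of `G` restricted to `H` -/
def subInv : H ⟶ G := ι₀ ≫ ι[G]

/-- the universal conjugate `(g, n) ↦ g * ι₀ n * g⁻¹` (no group structure on the source needed) -/
def conjHom' : G ⊗ H ⟶ G := fst G H * (snd G H ≫ ι₀) * (fst G H)⁻¹

theorem exists_factors_of_subgrp (inst : GrpObj (F.obj H)) (h : IsMonHom (F.map ι₀)) :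
    (∃ ν₁ : F.obj (𝟙_ C) ⟶ F.obj H, ν₁ ≫ F.map ι₀ = F.map η[G]) ∧
    (∃ ν₂ : F.obj (H ⊗ H) ⟶ F.obj H, ν₂ ≫ F.map ι₀ = F.map (subMul ι₀)) ∧
    (∃ ν₃ : F.obj H ⟶ F.obj H, ν₃ ≫ F.map ι₀ = F.map (subInv ι₀)) := by
  refine ⟨⟨(Functor.Monoidal.εIso F).inv ≫ η[F.obj H], ?_⟩, ⟨(Functor.Monoidal.μIso F H H).inv ≫ μ[F.obj H], ?_⟩,
    ⟨ι[F.obj H], ?_⟩⟩
  · rw [Category.assoc, IsMonHom.one_hom, Functor.obj.η_def]
    exact (Functor.Monoidal.εIso F).inv_hom_id_assoc _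
  · rw [Category.assoc, IsMonHom.mul_hom, Functor.obj.μ_def, subMul, Functor.map_comp,
      Functor.LaxMonoidal.μ_natural_assoc]
    exact (Functor.Monoidal.μIso F H H).inv_hom_id_assoc _
  · rw [GrpObj.inv_hom, Functor.obj.ι_def, subInv, Functor.map_comp]

theorem exists_subgrp_of_factors [Mono (F.map ι₀)] (ν₁ : F.obj (𝟙_ C) ⟶ F.obj H) (h₁ : ν₁ ≫ F.map ι₀ = F.map η[G])
    (ν₂ : F.obj (H ⊗ H) ⟶ F.obj H) (h₂ : ν₂ ≫ F.map ι₀ = F.map (subMul ι₀))
    (ν₃ : F.obj H ⟶ F.obj H) (h₃ : ν₃ ≫ F.map ι₀ = F.map (subInv ι₀)) :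
    ∃ (_ : GrpObj (F.obj H)), IsMonHom (F.map ι₀) := by
  let P : PreGrp (F.obj H) :=
    { one := Functor.LaxMonoidal.ε F ≫ ν₁
      mul := Functor.LaxMonoidal.μ F H H ≫ ν₂
      inv := ν₃ }
  have hHom : PreGrp.IsHom P (PreGrp.ofGrpObj (F.obj G)) (F.map ι₀) := by
    refine ⟨?_, ?_, ?_⟩
    · change (Functor.LaxMonoidal.ε F ≫ ν₁) ≫ F.map ι₀ = η[F.obj G]
      rw [Category.assoc, h₁, Functor.obj.η_def]
    · change (Functor.LaxMonoidal.μ F H H ≫ ν₂) ≫ F.map ι₀ = (F.map ι₀ ⊗ₘ F.map ι₀) ≫ μ[F.obj G]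
      rw [Category.assoc, h₂, Functor.obj.μ_def, subMul, Functor.map_comp, Functor.LaxMonoidal.μ_natural_assoc]
    · change ν₃ ≫ F.map ι₀ = F.map ι₀ ≫ ι[F.obj G]
      rw [h₃, Functor.obj.ι_def, subInv, Functor.map_comp]
  have hG : P.IsGrp := isGrp_of_isHom_mono P (F.map ι₀) hHom
  let inst : GrpObj (F.obj H) := P.toGrpObj hG
  exact ⟨inst, PreGrp.isMonHom_of_isHom hHom⟩

theorem normal_map_iff' :
    (∀ (T : E) (g : T ⟶ F.obj G) (n : T ⟶ F.obj H), ∃ n' : T ⟶ F.obj H, g * (n ≫ F.map ι₀) * g⁻¹ = n' ≫ F.map ι₀) ↔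
      ∃ ν : F.obj (G ⊗ H) ⟶ F.obj H, ν ≫ F.map ι₀ = F.map (conjHom' ι₀) := by
  have hc : F.map (conjHom' ι₀) = F.map (fst G H) * (F.map (snd G H) ≫ F.map ι₀) * (F.map (fst G H))⁻¹ := by
    rw [conjHom', Functor.map_mul, Functor.map_mul, Functor.map_inv', F.map_comp]
  constructor
  · intro h
    obtain ⟨n', hn'⟩ := h (F.obj (G ⊗ H)) (F.map (fst G H)) (F.map (snd G H))
    exact ⟨n', by rw [hc, hn']⟩
  · rintro ⟨ν, hν⟩ T g n
    let t : T ⟶ F.obj (G ⊗ H) := lift g n ≫ Functor.LaxMonoidal.μ F G H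
    have ht1 : t ≫ F.map (fst G H) = g := by
      simp only [t, Category.assoc, Functor.Monoidal.μ_fst, lift_fst]
    have ht2 : t ≫ F.map (snd G H) = n := by
      simp only [t, Category.assoc, Functor.Monoidal.μ_snd, lift_snd]
    refine ⟨t ≫ ν, ?_⟩
    rw [Category.assoc, hν, hc, comp_mul, comp_mul, comp_inv, ← Category.assoc, ht1, ht2]

end SubCat

section SubLim

variable {I : Type u} [SmallCategory I] [IsCofiltered I] (D : I ⥤ Scheme.{u}) (c : Cone D) (hc : IsLimit c)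
  [∀ (i i' : I) (f : i ⟶ i'), IsAffineHom (D.map f)] [∀ i, CompactSpace (D.obj i)]
  [∀ i, QuasiSeparatedSpace (D.obj i)]

/-- the three factorisations expressing that `ι₀` underlies a subgroup after base change along `g` -/
def SubFactors {S S' : Scheme.{u}} (g : S' ⟶ S) {H₀ G₀ : Over S} [GrpObj G₀] (ι₀ : H₀ ⟶ G₀) : Prop :=
  Factors g ι₀ η[G₀] ∧ Factors g ι₀ (subMul ι₀) ∧ Factors g ι₀ (subInv ι₀)

theorem subFactors_of_factor {S S' S'' : Scheme.{u}} (e : S'' ⟶ S') (g : S' ⟶ S) (d : S'' ⟶ S) (hd : e ≫ g = d)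
    {H₀ G₀ : Over S} [GrpObj G₀] (ι₀ : H₀ ⟶ G₀) (h : SubFactors g ι₀) : SubFactors d ι₀ :=
  ⟨factors_of_factor e g d hd _ _ h.1, factors_of_factor e g d hd _ _ h.2.1, factors_of_factor e g d hd _ _ h.2.2⟩

theorem subFactors_iff {S S' : Scheme.{u}} (g : S' ⟶ S) {H₀ G₀ : Over S} [GrpObj G₀] (ι₀ : H₀ ⟶ G₀) [Mono ι₀] :
    SubFactors g ι₀ ↔ ∃ (_ : GrpObj (Red.bc g H₀)), IsMonHom ((Over.pullback g).map ι₀) := by
  constructor
  · rintro ⟨⟨ν₁, h₁⟩, ⟨ν₂, h₂⟩, ⟨ν₃, h₃⟩⟩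
    exact exists_subgrp_of_factors (Over.pullback g) ι₀ ν₁ h₁ ν₂ h₂ ν₃ h₃
  · rintro ⟨inst, h⟩
    exact exists_factors_of_subgrp (Over.pullback g) ι₀ inst h

include hc in
theorem exists_subgrp_stage_aux (j : I) (G₀ H₀ : Over (D.obj j)) [GrpObj G₀]
    [LocallyOfFinitePresentation G₀.hom] [QuasiCompact G₀.hom] [QuasiSeparated G₀.hom]
    [LocallyOfFinitePresentation H₀.hom] [QuasiCompact H₀.hom] [QuasiSeparated H₀.hom]
    (ι₀ : H₀ ⟶ G₀) [Mono ι₀] :
    ((∃ (_ : GrpObj (Red.bc (c.π.app j) H₀)), IsMonHom ((Over.pullback (c.π.app j)).map ι₀)) →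
      ∃ (i : I) (a : i ⟶ j) (_ : GrpObj (Red.bc (D.map a) H₀)), IsMonHom ((Over.pullback (D.map a)).map ι₀)) ∧
    ((∃ (_ : GrpObj (Red.bc (c.π.app j) H₀)) (_ : IsMonHom ((Over.pullback (c.π.app j)).map ι₀)),
        AlgGrp.IsNormalHom ((Over.pullback (c.π.app j)).map ι₀)) →
      ∃ (i : I) (a : i ⟶ j) (_ : GrpObj (Red.bc (D.map a) H₀)) (_ : IsMonHom ((Over.pullback (D.map a)).map ι₀)),
        AlgGrp.IsNormalHom ((Over.pullback (D.map a)).map ι₀)) := by
  have q1 : QuasiCompact (𝟙_ (Over (D.obj j))).hom := by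
    change QuasiCompact (𝟙 (D.obj j))
    infer_instance
  have q2 : QuasiSeparated (𝟙_ (Over (D.obj j))).hom := by
    change QuasiSeparated (𝟙 (D.obj j))
    infer_instance
  have q3 : QuasiCompact (H₀ ⊗ H₀).hom := by
    change QuasiCompact (pullback.fst H₀.hom H₀.hom ≫ H₀.hom)
    infer_instance
  have q4 : QuasiSeparated (H₀ ⊗ H₀).hom := by
    change QuasiSeparated (pullback.fst H₀.hom H₀.hom ≫ H₀.hom)
    infer_instance
  have q5 : QuasiCompact (G₀ ⊗ H₀).hom := by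
    change QuasiCompact (pullback.fst G₀.hom H₀.hom ≫ G₀.hom)
    infer_instance
  have q6 : QuasiSeparated (G₀ ⊗ H₀).hom := by
    change QuasiSeparated (pullback.fst G₀.hom H₀.hom ≫ G₀.hom)
    infer_instance
  have stabF : ∀ {A : Over (D.obj j)} (w : A ⟶ G₀) ⦃i' i'' : I⦄ (a : i'' ⟶ i') (g : i' ⟶ j),
      Factors (D.map g) ι₀ w → Factors (D.map (a ≫ g)) ι₀ w :=
    fun w _ _ a g hg => factors_of_factor (D.map a) (D.map g) _ (D.map_comp a g).symm _ _ hg
  have stabS : ∀ ⦃i' i'' : I⦄ (a : i'' ⟶ i') (g : i' ⟶ j), SubFactors (D.map g) ι₀ → SubFactors (D.map (a ≫ g)) ι₀ :=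
    fun _ _ a g hg => subFactors_of_factor (D.map a) (D.map g) _ (D.map_comp a g).symm ι₀ hg
  have descS : SubFactors (c.π.app j) ι₀ → ∃ (i : I) (a : i ⟶ j), SubFactors (D.map a) ι₀ := by
    rintro ⟨h1, h2, h3⟩
    have E1 := exists_factors_descends D c hc j _ _ _ _ _ h1
    have E2 := exists_factors_descends D c hc j _ _ _ _ _ h2
    have E3 := exists_factors_descends D c hc j _ _ _ _ _ h3
    have E23 := exists_and_of_stable _ _ (stabF _) (stabF _) E2 E3
    exact exists_and_of_stable _ _ (stabF _) (fun i' i'' a g hg => ⟨stabF _ a g hg.1, stabF _ a g hg.2⟩) E1 E23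
  constructor
  · intro h
    obtain ⟨i, a, hs⟩ := descS ((subFactors_iff (c.π.app j) ι₀).2 h)
    obtain ⟨inst, hm⟩ := (subFactors_iff (D.map a) ι₀).1 hs
    exact ⟨i, a, inst, hm⟩
  · rintro ⟨inst, hm, hn⟩
    have hN : Factors (c.π.app j) ι₀ (conjHom' ι₀) := (normal_map_iff' (Over.pullback (c.π.app j)) ι₀).1 hn
    have ES := descS ((subFactors_iff (c.π.app j) ι₀).2 ⟨inst, hm⟩)
    have EN := exists_factors_descends D c hc j _ _ _ _ _ hN
    obtain ⟨i, a, hs, hn'⟩ := exists_and_of_stable _ _ stabS (stabF _) ES EN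
    obtain ⟨inst', hm'⟩ := (subFactors_iff (D.map a) ι₀).1 hs
    exact ⟨i, a, inst', hm', (normal_map_iff' (Over.pullback (D.map a)) ι₀).2 hn'⟩

end SubLim

section Restrict

variable {I : Type u} [SmallCategory I] [IsCofiltered I] (D : I ⥤ Scheme.{u}) (c : Cone D) (hc : IsLimit c)
  [∀ (i j : I) (a : i ⟶ j), IsAffineHom (D.map a)] (i₀ : I) [CompactSpace (D.obj i₀)]
  [QuasiSeparatedSpace (D.obj i₀)]

include hc in
theorem exists_subgrp_stage (G₀ : Over (D.obj i₀)) [GrpObj G₀] [IsSeparated G₀.hom] [QuasiCompact G₀.hom]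
    [LocallyOfFinitePresentation G₀.hom] (H₀ : Over (D.obj i₀)) (ι₀ : H₀ ⟶ G₀) [IsClosedImmersion ι₀.left]
    [LocallyOfFinitePresentation ι₀.left] :
    ((∃ (_ : GrpObj (Red.bc (c.π.app i₀) H₀)), IsMonHom ((Over.pullback (c.π.app i₀)).map ι₀)) →
      ∃ (i : I) (a : i ⟶ i₀) (_ : GrpObj (Red.bc (D.map a) H₀)), IsMonHom ((Over.pullback (D.map a)).map ι₀)) ∧
    ((∃ (_ : GrpObj (Red.bc (c.π.app i₀) H₀)) (_ : IsMonHom ((Over.pullback (c.π.app i₀)).map ι₀)),
        AlgGrp.IsNormalHom ((Over.pullback (c.π.app i₀)).map ι₀)) →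
      ∃ (i : I) (a : i ⟶ i₀) (_ : GrpObj (Red.bc (D.map a) H₀)) (_ : IsMonHom ((Over.pullback (D.map a)).map ι₀)),
        AlgGrp.IsNormalHom ((Over.pullback (D.map a)).map ι₀)) := by
  let D' : Over i₀ ⥤ Scheme.{u} := Over.forget i₀ ⋙ D
  let c' : Cone D' := c.whisker (Over.forget i₀)
  have hc' : IsLimit c' := (Functor.Initial.isLimitWhiskerEquiv (Over.forget i₀) c).symm hc
  have i1 : ∀ (k k' : Over i₀) (f : k ⟶ k'), IsAffineHom (D'.map f) :=
    fun k k' f => inferInstanceAs (IsAffineHom (D.map f.left))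
  have i2 : ∀ k : Over i₀, CompactSpace (D'.obj k) :=
    fun k => QuasiCompact.compactSpace_of_compactSpace (D.map k.hom)
  have i3 : ∀ k : Over i₀, QuasiSeparatedSpace (D'.obj k) :=
    fun k => quasiSeparatedSpace_of_quasiSeparated (D.map k.hom)
  let o : Over i₀ := Over.mk (𝟙 i₀)
  have hw : ι₀.left ≫ G₀.hom = H₀.hom := Over.w ι₀
  have h1 : LocallyOfFinitePresentation H₀.hom := by rw [← hw]; infer_instance
  have h2 : QuasiCompact H₀.hom := by rw [← hw]; infer_instance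
  have h3 : QuasiSeparated H₀.hom := by rw [← hw]; infer_instance
  have hmono : Mono ι₀ := by
    have : Mono ι₀.left := inferInstance
    exact Over.mono_of_mono_left ι₀
  let G₀' : Over (D'.obj o) := G₀
  let H₀' : Over (D'.obj o) := H₀
  let ι₀' : H₀' ⟶ G₀' := ι₀
  let instG : GrpObj G₀' := ‹GrpObj G₀›
  have g1 : LocallyOfFinitePresentation G₀'.hom := ‹LocallyOfFinitePresentation G₀.hom›
  have g2 : QuasiCompact G₀'.hom := ‹QuasiCompact G₀.hom›
  have g3 : QuasiSeparated G₀'.hom := inferInstanceAs (QuasiSeparated G₀.hom)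
  have h1' : LocallyOfFinitePresentation H₀'.hom := h1
  have h2' : QuasiCompact H₀'.hom := h2
  have h3' : QuasiSeparated H₀'.hom := h3
  have hmono' : Mono ι₀' := hmono
  have key := exists_subgrp_stage_aux D' c' hc' o G₀' H₀' ι₀'
  constructor
  · intro h
    obtain ⟨k, a, inst, hm⟩ := key.1 h
    exact ⟨k.left, a.left, inst, hm⟩
  · intro h
    obtain ⟨k, a, inst, hm, hn⟩ := key.2 h
    exact ⟨k.left, a.left, inst, hm, hn⟩

end Restrict

end Groth.Agent.R2.H44.GrpLim
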