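import Mathlib
import Groth.Agent.R2.H59QLocal
import Groth.Agent.R2.H14QFinQuot
import Groth.Agent.S10265

/-!
# Algebraic spaces locally quasi-finite over a locally Artinian scheme (helper45)

An algebraic space `X` with a locally quasi-finite morphism to `h_T`, `T` a locally Artinian scheme
(e.g. the spectrum of a field), is a scheme: an affine open `V` of an etale chart is a finite
discrete scheme, the kernel pair of `h_V ⟶ X` is a finite discrete (hence affine) scheme with finite
etale projections, and the image of `h_V` is the quotient by a finite etale equivalence relation.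
-/

set_option autoImplicit false
set_option linter.style.haveILetI false
universe u
open CategoryTheory CategoryTheory.Limits AlgebraicGeometry Topology TopologicalSpace

namespace Groth.Agent.R2.H45.ArtQuot

open AlgSp Groth.Agent.R2.H59.QPts Groth.Agent.R2.H59.QLocal Groth.Agent.R2.H59.QDesc

variable {S : Scheme.{u}}

/-- If `q : h_V ⟶ X'` is a chart from a quasi-compact locally Artinian scheme and `X' ⟶ h_P` a
morphism to a scheme such that the composite `V ⟶ P` is quasi-compact locally quasi-finite, then the
kernel pair of `q` is a finite scheme (it is a subscheme of the finite scheme `V ×_P V`). -/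
lemma finite_of_isPullback {X' : AlgSp.Sp S} {V : Over S} (q : (AlgSp.yon S).obj V ⟶ X')
    {P : Over S} (f' : X' ⟶ (AlgSp.yon S).obj P) (g : V ⟶ P) (hg : (AlgSp.yon S).map g = q ≫ f')
    [LocallyQuasiFinite g.left] [QuasiCompact g.left] [IsLocallyArtinian V.left]
    [CompactSpace ↥V.left] {R : Over S} (s t : R ⟶ V)
    (sq : IsPullback ((AlgSp.yon S).map t) ((AlgSp.yon S).map s) q q) :
    Finite ↥R.left := by
  have hw : t ≫ g = s ≫ g := by
    apply (AlgSp.yon S).map_injective
    rw [Functor.map_comp, Functor.map_comp, hg, ← Category.assoc, ← Category.assoc, sq.w]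
  have hwl : t.left ≫ g.left = s.left ≫ g.left := congrArg (fun m => m.left) hw
  let l : R.left ⟶ pullback g.left g.left := pullback.lift t.left s.left hwl
  have hl1 : l ≫ pullback.fst _ _ = t.left := pullback.lift_fst _ _ _
  have hl2 : l ≫ pullback.snd _ _ = s.left := pullback.lift_snd _ _ _
  haveI : Mono l := by
    constructor
    intro T a b hab
    have h1 : a ≫ t.left = b ≫ t.left := by
      rw [← hl1, ← Category.assoc, hab, Category.assoc]
    have h2 : a ≫ s.left = b ≫ s.left := by
      rw [← hl2, ← Category.assoc, hab, Category.assoc]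
    have hR : R.hom = t.left ≫ V.hom := (Over.w t).symm
    let a' : Over.mk (a ≫ R.hom) ⟶ R := Over.homMk a rfl
    let b' : Over.mk (a ≫ R.hom) ⟶ R := Over.homMk b (by
      show b ≫ R.hom = a ≫ R.hom
      rw [hR, ← Category.assoc, ← h1, Category.assoc])
    have hab' : a' = b' := by
      apply (AlgSp.yon S).map_injective
      apply sq.hom_ext
      · rw [← Functor.map_comp, ← Functor.map_comp]
        congr 1
        apply Over.OverMorphism.ext
        exact h1
      · rw [← Functor.map_comp, ← Functor.map_comp]
        congr 1
        apply Over.OverMorphism.ext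
        exact h2
    exact congrArg (fun m => m.left) hab'
  haveI : IsLocallyArtinian (pullback g.left g.left) :=
    IsLocallyArtinian.of_locallyQuasiFinite (pullback.fst g.left g.left)
  haveI : CompactSpace ↥(pullback g.left g.left) :=
    QuasiCompact.compactSpace_of_compactSpace (pullback.fst g.left g.left)
  haveI : IsArtinianScheme (pullback g.left g.left) := {}
  exact Finite.of_injective _ l.injective

/-- **An algebraic space locally quasi-finite over a locally Artinian scheme is a scheme.** -/
theorem exists_iso_yon_of_lqf {T : Over S} [IsLocallyArtinian T.left] {X : AlgSp.Sp S}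
    (hX : AlgSp.IsAlgSpace X) (f : X ⟶ (AlgSp.yon S).obj T) (hqf : AlgSp.LocP lqf f) :
    ∃ (W : Over S), Nonempty ((AlgSp.yon S).obj W ≅ X) := by
  obtain ⟨U, a, hae, has⟩ := hX.atlas
  refine exists_iso_yon_of_schAt a has (fun u => ?_)
  obtain ⟨_, ⟨W₀, hW, rfl⟩, huW, -⟩ :=
    U.left.isBasis_affineOpens.exists_subset_of_mem_open (Set.mem_univ u) isOpen_univ
  let W : U.left.Opens := W₀
  have hW : IsAffineOpen W := hW
  let V : Over S := Over.mk (W.ι ≫ U.hom)
  let ι : V ⟶ U := Over.homMk W.ι rfl
  let q : (AlgSp.yon S).obj V ⟶ X := (AlgSp.yon S).map ι ≫ a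
  have hq : RepWith @Etale q :=
    repWith_etale_comp ((repWith_yon_map_iff @Etale ι).2
      (inferInstanceAs (Etale W.ι))) hae
  obtain ⟨g, hg⟩ := (AlgSp.yon S).map_surjective (q ≫ f)
  have hlqf : lqf g.left := hqf q (𝟙 _) g hq (repWith_id _ T) (by rw [hg, Category.comp_id])
  haveI : LocallyQuasiFinite g.left := hlqf.1
  haveI hVaff : IsAffine V.left := hW
  haveI : IsLocallyArtinian V.left := IsLocallyArtinian.of_locallyQuasiFinite g.left
  haveI : QuasiCompact g.left := inferInstance
  obtain ⟨R, s, fst, hk₀⟩ := hq.rep q
  obtain ⟨t, rfl⟩ := (AlgSp.yon S).map_surjective fst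
  haveI hset : Etale s.left := hq.property q _ s hk₀
  haveI htet : Etale t.left := hq.property q _ t hk₀.flip
  haveI : Finite ↥R.left := finite_of_isPullback q f g hg s t hk₀
  haveI : LocallyQuasiFinite s.left := Groth.Agent.S10265.locallyQuasiFinite_of_unramified s.left
  haveI : LocallyQuasiFinite t.left := Groth.Agent.S10265.locallyQuasiFinite_of_unramified t.left
  haveI : IsLocallyArtinian R.left := IsLocallyArtinian.of_locallyQuasiFinite s.left
  haveI hRaff : IsAffine R.left := inferInstance
  haveI : QuasiCompact s.left := inferInstance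
  haveI : QuasiCompact t.left := inferInstance
  haveI hsfin : IsFinite s.left := IsFinite.of_locallyQuasiFinite s.left
  haveI htfin : IsFinite t.left := IsFinite.of_locallyQuasiFinite t.left
  obtain ⟨M, ⟨e⟩⟩ := exists_iso_yon_img_of_finite Groth.Agent.R2.H14.QFinQuot.finQuot q hq s t hk₀
    hVaff hRaff hsfin htfin
  have hsch : SchAt X (Points.ofPt q ⟨u, huW⟩) :=
    ⟨M, e.hom ≫ imgι q,
      (MorphismProperty.cancel_left_of_respectsIso (RepWith @IsOpenImmersion) e.hom _).2
        (repWith_imgι hq), mem_range_ofPt_of_iso q e _⟩
  rw [Groth.Agent.S10176.ofPt_map_comp] at hsch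
  exact hsch

end Groth.Agent.R2.H45.ArtQuot
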