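import Mathlib

/-!
# Counting minimal primes along flat ring maps (helper45)

Pure commutative algebra: the contraction of a minimal prime along a ring map with going down is a
minimal prime; a ring map which is surjective on spectra does not decrease the number of minimal
primes; and `m` minimal primes which are separated by elements coming from a ring with going down
give `m` minimal primes there.
-/

set_option autoImplicit false
set_option linter.style.haveILetI false

namespace Groth.Agent.R2.H45.MinCount

variable {G C : Type*} [CommRing G] [CommRing C]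

/-- the contraction of a minimal prime along a ring map with going down is minimal. -/
lemma comap_mem_minimalPrimes (h : G →+* C)
    (hgd : letI := h.toAlgebra; Algebra.HasGoingDown G C) {Q : Ideal C}
    (hQ : Q ∈ minimalPrimes C) : Q.comap h ∈ minimalPrimes G := by
  letI := h.toAlgebra
  haveI : Q.IsPrime := hQ.1.1
  refine ⟨⟨Ideal.comap_isPrime h Q, bot_le⟩, ?_⟩
  rintro p' ⟨hp', -⟩ hle
  haveI : p'.IsPrime := hp'
  haveI : Q.LiesOver (Q.comap h) := ⟨rfl⟩
  obtain ⟨P, hPQ, hPprime, hPlies⟩ :=
    Ideal.exists_ideal_le_liesOver_of_le (R := G) (S := C) (p := p') (q := Q.comap h) Q hle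
  have hPQ' : Q ≤ P := hQ.2 ⟨hPprime, bot_le⟩ hPQ
  have hPeq : P = Q := le_antisymm hPQ hPQ'
  have h1 : p' = P.under G := hPlies.over
  rw [h1, hPeq]
  exact le_of_eq rfl

/-- a ring map which is surjective on spectra does not decrease the number of minimal primes. -/
lemma encard_minimalPrimes_le_of_surjective (h : G →+* C)
    (hs : Function.Surjective (PrimeSpectrum.comap h)) :
    (minimalPrimes G).encard ≤ (minimalPrimes C).encard := by
  have hsub : minimalPrimes G ⊆ (Ideal.comap h) '' (minimalPrimes C) := by
    intro p hp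
    haveI : p.IsPrime := hp.1.1
    obtain ⟨Q, hQ⟩ := hs ⟨p, inferInstance⟩
    have hQ' : Q.asIdeal.comap h = p := congrArg PrimeSpectrum.asIdeal hQ
    obtain ⟨Q', hQ'min, hQ'le⟩ := Ideal.exists_minimalPrimes_le (I := (⊥ : Ideal C))
      (J := Q.asIdeal) bot_le
    refine ⟨Q', hQ'min, ?_⟩
    haveI : Q'.IsPrime := hQ'min.1.1
    have h1 : Q'.comap h ≤ p := by
      rw [← hQ']
      exact Ideal.comap_mono hQ'le
    exact le_antisymm h1 (hp.2 ⟨Ideal.comap_isPrime h Q', bot_le⟩ h1)
  exact (Set.encard_le_encard hsub).trans (Set.encard_image_le _ _)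

/-- `m` minimal primes separated by elements coming from a ring with going down give `m` minimal
primes there. -/
lemma le_encard_minimalPrimes_of_separated (h : G →+* C)
    (hgd : letI := h.toAlgebra; Algebra.HasGoingDown G C) (m : ℕ) (P : Fin m → Ideal C)
    (hP : ∀ j, P j ∈ minimalPrimes C) (z : Fin m → Fin m → G)
    (hz1 : ∀ j k, j ≠ k → h (z j k) ∈ P j) (hz2 : ∀ j k, j ≠ k → h (z j k) ∉ P k) :
    (m : ℕ∞) ≤ (minimalPrimes G).encard := by
  let F : Fin m → Ideal G := fun j => (P j).comap h
  have hF : Function.Injective F := by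
    intro j k hjk
    by_contra hne
    have h1 : z j k ∈ F j := hz1 j k hne
    rw [hjk] at h1
    exact hz2 j k hne h1
  have hsub : F '' Set.univ ⊆ minimalPrimes G := by
    rintro _ ⟨j, -, rfl⟩
    exact comap_mem_minimalPrimes h hgd (hP j)
  have h2 : (F '' Set.univ).encard = m := by
    rw [hF.injOn.encard_image, Set.encard_univ]
    simp
  rw [← h2]
  exact Set.encard_le_encard hsub

/-- `m` minimal primes and elements separating them. -/
lemma exists_separators (m : ℕ) (hm : (m : ℕ∞) ≤ (minimalPrimes C).encard) :
    ∃ (P : Fin m → Ideal C), (∀ j, P j ∈ minimalPrimes C) ∧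
      ∃ x : Fin m → Fin m → C, ∀ j k, j ≠ k → x j k ∈ P j ∧ x j k ∉ P k := by
  classical
  obtain ⟨t, hts, htm⟩ := Set.exists_subset_encard_eq hm
  have htf : t.Finite := Set.finite_of_encard_eq_coe htm
  have hcard : htf.toFinset.card = m := by
    have h1 : (htf.toFinset.card : ℕ∞) = m := by
      rw [← Set.encard_coe_eq_coe_finsetCard, Set.Finite.coe_toFinset, htm]
    exact_mod_cast h1
  let e : htf.toFinset ≃ Fin m := Finset.equivFinOfCardEq hcard
  let P : Fin m → Ideal C := fun j => ((e.symm j : htf.toFinset) : Ideal C)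
  have hPmem : ∀ j, P j ∈ minimalPrimes C := fun j =>
    hts ((Set.Finite.mem_toFinset htf).1 (e.symm j).2)
  have hPinj : Function.Injective P := fun j k hjk =>
    e.symm.injective (Subtype.ext hjk)
  have hsep : ∀ j k, j ≠ k → ∃ x : C, x ∈ P j ∧ x ∉ P k := by
    intro j k hjk
    by_contra hcon
    push_neg at hcon
    have hle : P j ≤ P k := hcon
    have hge : P k ≤ P j := (hPmem k).2 (hPmem j).1 hle
    exact hjk (hPinj (le_antisymm hle hge))
  refine ⟨P, hPmem, ?_⟩
  choose! x hx using hsep
  exact ⟨x, hx⟩

end Groth.Agent.R2.H45.MinCount
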