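import Mathlib
import Groth.Agent.Lib.Helper9SpPoint
import Groth.Prelude.Def_AlgSpOX3

/-!
# The etale local ring of an algebraic space at a geometric point (helper45)

API for `AlgSp.OEtStalk p`: representation of elements by sections over affine etale
neighbourhoods (`Stage`), evaluation at the geometric point, extension of stages along etale ring
maps.  Modelled on helper1's `R2/H1EtLocalRing` (scheme case).
-/

set_option autoImplicit false
set_option linter.style.haveILetI false
universe u
open CategoryTheory CategoryTheory.Limits AlgebraicGeometry Opposite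

namespace Groth.Agent.R2.H45.OEtStalk

open AlgSp

instance hasColim : HasColimitsOfSize.{u, u} CommRingCat.{u + 1} :=
  hasColimitsOfSizeShrink.{u, u, u + 1, u + 1} _

instance pfcRing : PreservesFilteredColimitsOfSize.{u, u} (forget CommRingCat.{u + 1}) :=
  preservesFilteredColimitsOfSize_shrink.{u, u + 1, u, u + 1} _

variable {S : Scheme.{u}} (X : AlgSp.Space S) (p : AlgSp.FieldPt X.obj)

lemma point_props (hp : p.IsGeometric) : IsCofiltered (FieldPt.liftsTo p).Elements ∧
    InitiallySmall.{u} (FieldPt.liftsTo p).Elements ∧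
    ∀ {E : EtOver X.obj} (R : Sieve E), R ∈ etTop X.obj E → ∀ x : (FieldPt.liftsTo p).obj E,
      ∃ (Y : EtOver X.obj) (f : Y ⟶ E) (_ : R f) (y : (FieldPt.liftsTo p).obj Y),
        (FieldPt.liftsTo p).map f y = x := by
  obtain ⟨⟨fib, cof, ism, js⟩, rfl⟩ := Groth.Agent.Lib.Helper9.SpPoint.main X p hp
  exact ⟨cof, ism, js⟩

/-- the point of the small etale site defined by a geometric point. -/
noncomputable def Φ (hp : p.IsGeometric) : GrothendieckTopology.Point.{u} (etTop X.obj) where
  fiber := FieldPt.liftsTo p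
  isCofiltered := (point_props X p hp).1
  initiallySmall := (point_props X p hp).2.1
  jointly_surjective := (point_props X p hp).2.2

lemma stalk_eq (hp : p.IsGeometric) :
    (Φ X p hp).presheafFiber.obj (OEt X.obj).obj = OEtStalk p := rfl

variable {X p}

/-- evaluation of functions on an etale neighbourhood at the geometric point -/
noncomputable def evAt (E : EtOver X.obj) (x : (FieldPt.liftsTo p).obj E) :
    (OEt X.obj).obj.obj (op E) ⟶ CommRingCat.of (ULift.{u + 1} p.K) :=
  CommRingCat.ofHom ((ULift.ringEquiv.symm : p.K ≃+* ULift.{u + 1} p.K).toRingHom.comp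
    (((Scheme.ΓSpecIso (CommRingCat.of p.K)).hom.hom.comp
      (x.1.left : Spec (CommRingCat.of p.K) ⟶ E.obj.left.left).appTop.hom).comp
        (ULift.ringEquiv : ULift.{u + 1} Γ(E.obj.left.left, ⊤) ≃+* _).toRingHom))

lemma evAt_apply (E : EtOver X.obj) (x : (FieldPt.liftsTo p).obj E)
    (s : (OEt X.obj).obj.obj (op E)) :
    (evAt E x).hom s = ULift.up ((Scheme.ΓSpecIso (CommRingCat.of p.K)).hom.hom
      ((x.1.left : Spec (CommRingCat.of p.K) ⟶ E.obj.left.left).appTop.hom s.down)) := rfl

lemma evAt_w {E E' : EtOver X.obj} (g : E ⟶ E') (x : (FieldPt.liftsTo p).obj E) :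
    (OEt X.obj).obj.map g.op ≫ evAt E x = evAt E' ((FieldPt.liftsTo p).map g x) := by
  apply CommRingCat.hom_ext
  apply RingHom.ext
  intro s
  rw [CommRingCat.hom_comp, RingHom.comp_apply, evAt_apply, evAt_apply]
  congr 2


variable (hp : p.IsGeometric)

/-- evaluation at the geometric point on the etale local ring (valued in `ULift K`). -/
noncomputable def evU : OEtStalk p ⟶ CommRingCat.of (ULift.{u + 1} p.K) :=
  (Φ X p hp).presheafFiberDesc (P := (OEt X.obj).obj) (fun E x => evAt E x)
    (fun _ _ f x => evAt_w f x)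

lemma toFiber_evU (E : EtOver X.obj) (x : (FieldPt.liftsTo p).obj E) :
    (Φ X p hp).toPresheafFiber E x (OEt X.obj).obj ≫ evU hp = evAt E x :=
  (Φ X p hp).toPresheafFiber_presheafFiberDesc _ _ E x

/-- evaluation at the geometric point on the etale local ring. -/
noncomputable def ev : OEtStalk p →+* p.K :=
  (ULift.ringEquiv : ULift.{u + 1} p.K ≃+* p.K).toRingHom.comp (evU hp).hom

variable (p) in
/-- an affine etale neighbourhood of the geometric point -/
structure Stage where
  /-- the ring of functions -/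
  B : CommRingCat.{u}
  /-- the structure map to the base -/
  str : Spec B ⟶ S
  /-- the chart -/
  c : (yon S).obj (Over.mk str) ⟶ X.obj
  et : RepWith @Etale c
  /-- the lift of the geometric point -/
  y : p.pt ⟶ Over.mk str
  hy : (yon S).map y ≫ c = p.toHom

/-- the underlying object of the small etale site -/
noncomputable abbrev Stage.obj (St : Stage p) : EtOver X.obj := EtOver.mk St.c St.et

/-- the underlying point of the fibre -/
noncomputable abbrev Stage.pt (St : Stage p) : (FieldPt.liftsTo p).obj St.obj := ⟨St.y, St.hy⟩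

/-- functions on a stage as sections of the structure sheaf -/
noncomputable def Stage.toSec (St : Stage p) : St.B →+* (OEt X.obj).obj.obj (op St.obj) :=
  (ULift.ringEquiv.symm : Γ(Spec St.B, ⊤) ≃+* ULift.{u + 1} Γ(Spec St.B, ⊤)).toRingHom.comp
    (Scheme.ΓSpecIso St.B).inv.hom

/-- the canonical map from the functions on a stage to the etale local ring -/
noncomputable def Stage.θ (St : Stage p) : St.B →+* OEtStalk p :=
  ((Φ X p hp).toPresheafFiber St.obj St.pt (OEt X.obj).obj).hom.comp St.toSec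

/-- evaluation at the geometric point on a stage -/
noncomputable def Stage.ψ (St : Stage p) : St.B →+* p.K :=
  (Spec.preimage (St.y.left : Spec (CommRingCat.of p.K) ⟶ Spec St.B)).hom

lemma Stage.map_ψ (St : Stage p) : Spec.map (CommRingCat.ofHom St.ψ) = St.y.left :=
  Spec.map_preimage _

lemma Stage.θ_ev (St : Stage p) : (ev hp).comp (St.θ hp) = St.ψ := by
  apply RingHom.ext
  intro b
  have h0 : (evU hp).hom (((Φ X p hp).toPresheafFiber St.obj St.pt (OEt X.obj).obj).hom
      (St.toSec b)) = (evAt St.obj St.pt).hom (St.toSec b) := by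
    rw [← toFiber_evU hp St.obj St.pt]
    rfl
  have h1 : (ev hp).comp (St.θ hp) b = ((evAt St.obj St.pt).hom (St.toSec b)).down := by
    change ((evU hp).hom _).down = _
    rw [← h0]
    rfl
  rw [h1, evAt_apply]
  change (Scheme.ΓSpecIso (CommRingCat.of p.K)).hom.hom
    ((St.y.left : Spec (CommRingCat.of p.K) ⟶ Spec St.B).appTop.hom
      ((Scheme.ΓSpecIso St.B).inv.hom b)) = St.ψ b
  rw [← St.map_ψ]
  have := Scheme.ΓSpecIso_inv_naturality (CommRingCat.ofHom St.ψ)
  have h2 := congrArg (fun t => (t ≫ (Scheme.ΓSpecIso (CommRingCat.of p.K)).hom).hom b) this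
  simp only [Category.assoc, Iso.inv_hom_id, Category.comp_id] at h2
  exact h2.symm


/-- every etale neighbourhood is refined by a stage -/
lemma exists_stage (E : EtOver X.obj) (x : (FieldPt.liftsTo p).obj E) :
    ∃ (St : Stage p) (k : St.obj ⟶ E), (FieldPt.liftsTo p).map k St.pt = x := by
  let U : Over S := E.obj.left
  let xl : Spec (CommRingCat.of p.K) ⟶ U.left := x.1.left
  have hxw : xl ≫ U.hom = p.str := Over.w x.1
  obtain ⟨V, hV, hyV, -⟩ :=
    exists_isAffineOpen_mem_and_subset (x := xl default) (U := ⊤) trivial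
  have hrange : Set.range xl ⊆ Set.range hV.fromSpec := by
    rintro _ ⟨a, rfl⟩
    rw [hV.range_fromSpec, Subsingleton.elim a default]
    exact hyV
  let y : Spec (CommRingCat.of p.K) ⟶ Spec Γ(U.left, V) :=
    IsOpenImmersion.lift hV.fromSpec xl hrange
  have hy : y ≫ hV.fromSpec = xl := IsOpenImmersion.lift_fac _ _ _
  let str : Spec Γ(U.left, V) ⟶ S := hV.fromSpec ≫ U.hom
  let ι : Over.mk str ⟶ U := Over.homMk hV.fromSpec rfl
  let yo : p.pt ⟶ Over.mk str := Over.homMk y (by
    show y ≫ hV.fromSpec ≫ U.hom = p.str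
    rw [← Category.assoc, hy, hxw])
  have hyo : yo ≫ ι = x.1 := by
    apply Over.OverMorphism.ext
    exact hy
  let St : Stage p :=
    { B := Γ(U.left, V)
      str := str
      c := (yon S).map ι ≫ E.obj.hom
      et := (repWith_isMultiplicative (S := S) @Etale).comp_mem _ _
        ((repWith_yon_map_iff _ _).2 (inferInstanceAs (Etale hV.fromSpec))) E.property
      y := yo
      hy := by
        rw [← Category.assoc, ← Functor.map_comp, hyo]
        exact x.2 }
  refine ⟨St, EtOver.homMk ι rfl, ?_⟩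
  apply Subtype.ext
  exact hyo

/-- the ring map underlying a morphism between stages -/
noncomputable def Stage.homRing {St St' : Stage p} (k : St'.obj ⟶ St.obj) : St.B ⟶ St'.B :=
  Spec.preimage (k.hom.left.left : Spec St'.B ⟶ Spec St.B)

lemma Stage.map_homRing {St St' : Stage p} (k : St'.obj ⟶ St.obj) :
    Spec.map (Stage.homRing k) = (k.hom.left.left : Spec St'.B ⟶ Spec St.B) :=
  Spec.map_preimage _

lemma Stage.map_toSec {St St' : Stage p} (k : St'.obj ⟶ St.obj) (b : St.B) :
    (OEt X.obj).obj.map k.op (St.toSec b) = St'.toSec ((Stage.homRing k).hom b) := by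
  rw [OEt_map]
  change ULift.up ((k.hom.left.left : Spec St'.B ⟶ Spec St.B).appTop.hom
    ((Scheme.ΓSpecIso St.B).inv.hom b)) = ULift.up ((Scheme.ΓSpecIso St'.B).inv.hom _)
  congr 1
  have := Scheme.ΓSpecIso_inv_naturality (Stage.homRing k)
  rw [Stage.map_homRing] at this
  exact (congrArg (fun t => t.hom b) this).symm

/-- transition maps between stages are compatible with the maps to the etale local ring -/
lemma Stage.θ_of_hom (St St' : Stage p) (k : St'.obj ⟶ St.obj)
    (hk : (FieldPt.liftsTo p).map k St'.pt = St.pt) :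
    (St'.θ hp).comp (Stage.homRing k).hom = St.θ hp := by
  apply RingHom.ext
  intro b
  change ((Φ X p hp).toPresheafFiber St'.obj St'.pt (OEt X.obj).obj).hom
    (St'.toSec ((Stage.homRing k).hom b)) =
      ((Φ X p hp).toPresheafFiber St.obj St.pt (OEt X.obj).obj).hom (St.toSec b)
  rw [← Stage.map_toSec k b]
  have hw := (Φ X p hp).toPresheafFiber_w k St'.pt (OEt X.obj).obj
  have hk' : (Φ X p hp).fiber.map k St'.pt = St.pt := hk
  rw [hk'] at hw
  exact congrArg (fun t => t.hom (St.toSec b)) hw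

/-- every element of the etale local ring comes from a stage -/
lemma exists_rep (a : OEtStalk p) : ∃ (St : Stage p) (b : St.B), St.θ hp b = a := by
  obtain ⟨E, x, z, rfl⟩ :=
    (Φ X p hp).toPresheafFiber_jointly_surjective (P := (OEt X.obj).obj) a
  obtain ⟨St, k, hk⟩ := exists_stage E x
  refine ⟨St, (Scheme.ΓSpecIso St.B).hom.hom ((OEt X.obj).obj.map k.op z).down, ?_⟩
  have h1 : St.toSec ((Scheme.ΓSpecIso St.B).hom.hom ((OEt X.obj).obj.map k.op z).down) =
      (OEt X.obj).obj.map k.op z := by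
    change ULift.up ((Scheme.ΓSpecIso St.B).inv.hom ((Scheme.ΓSpecIso St.B).hom.hom _)) = _
    have : (Scheme.ΓSpecIso St.B).inv.hom ((Scheme.ΓSpecIso St.B).hom.hom
        ((OEt X.obj).obj.map k.op z).down) = ((OEt X.obj).obj.map k.op z).down := by
      rw [← RingHom.comp_apply, ← CommRingCat.hom_comp, Iso.hom_inv_id]
      rfl
    rw [this]
    rfl
  change ((Φ X p hp).toPresheafFiber St.obj St.pt (OEt X.obj).obj).hom (St.toSec _) = _
  rw [h1]
  have hw := (Φ X p hp).toPresheafFiber_w k St.pt (OEt X.obj).obj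
  have hk' : (Φ X p hp).fiber.map k St.pt = x := hk
  rw [hk'] at hw
  exact congrArg (fun t => t.hom z) hw


/-- two stages have a common refinement -/
lemma exists_common (St₁ St₂ : Stage p) : ∃ (St₃ : Stage p) (g₁ : St₁.B ⟶ St₃.B)
    (g₂ : St₂.B ⟶ St₃.B), (St₃.θ hp).comp g₁.hom = St₁.θ hp ∧ (St₃.θ hp).comp g₂.hom = St₂.θ hp := by
  haveI : IsCofiltered (FieldPt.liftsTo p).Elements := (point_props X p hp).1
  let m : (FieldPt.liftsTo p).Elements :=
    IsCofiltered.min (⟨St₁.obj, St₁.pt⟩ : (FieldPt.liftsTo p).Elements) ⟨St₂.obj, St₂.pt⟩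
  let a₁ : m ⟶ ⟨St₁.obj, St₁.pt⟩ := IsCofiltered.minToLeft _ _
  let a₂ : m ⟶ ⟨St₂.obj, St₂.pt⟩ := IsCofiltered.minToRight _ _
  obtain ⟨St₃, k, hk⟩ := exists_stage m.1 m.2
  refine ⟨St₃, Stage.homRing (k ≫ a₁.1), Stage.homRing (k ≫ a₂.1), ?_, ?_⟩
  · apply Stage.θ_of_hom
    rw [Functor.map_comp]
    change (FieldPt.liftsTo p).map a₁.1 ((FieldPt.liftsTo p).map k St₃.pt) = _
    rw [hk]
    exact a₁.2
  · apply Stage.θ_of_hom
    rw [Functor.map_comp]
    change (FieldPt.liftsTo p).map a₂.1 ((FieldPt.liftsTo p).map k St₃.pt) = _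
    rw [hk]
    exact a₂.2

/-- finitely many elements of the etale local ring come from a common stage -/
lemma exists_rep_finset (s : Finset (OEtStalk p)) :
    ∃ St : Stage p, ∀ a ∈ s, ∃ b : St.B, St.θ hp b = a := by
  classical
  induction s using Finset.induction_on with
  | empty =>
    obtain ⟨St, -, -⟩ := exists_rep hp (0 : OEtStalk p)
    exact ⟨St, fun a ha => absurd ha (Finset.notMem_empty a)⟩
  | insert a s _ ih =>
    obtain ⟨St₁, h₁⟩ := ih
    obtain ⟨St₂, b₂, hb₂⟩ := exists_rep hp a
    obtain ⟨St₃, g₁, g₂, e₁, e₂⟩ := exists_common hp St₁ St₂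
    refine ⟨St₃, fun c hc => ?_⟩
    rcases Finset.mem_insert.mp hc with rfl | hc
    · exact ⟨g₂.hom b₂, by rw [← RingHom.comp_apply, e₂, hb₂]⟩
    · obtain ⟨b, hb⟩ := h₁ c hc
      exact ⟨g₁.hom b, by rw [← RingHom.comp_apply, e₁, hb]⟩

/-- extend a stage along an etale ring map through which the evaluation factors -/
noncomputable def Stage.extend (St : Stage p) {B' : CommRingCat.{u}} (g : St.B ⟶ B')
    (hg : Etale (Spec.map g)) (χ : B' →+* p.K) (h : χ.comp g.hom = St.ψ) : Stage p where
  B := B'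
  str := Spec.map g ≫ St.str
  c := (yon S).map (Over.homMk (Spec.map g) rfl : Over.mk (Spec.map g ≫ St.str) ⟶ Over.mk St.str) ≫
    St.c
  et := (repWith_isMultiplicative (S := S) @Etale).comp_mem _ _
    ((repWith_yon_map_iff _ _).2 hg) St.et
  y := Over.homMk (Spec.map (CommRingCat.ofHom χ)) (by
    show Spec.map (CommRingCat.ofHom χ) ≫ Spec.map g ≫ St.str = p.str
    rw [← Category.assoc, ← Spec.map_comp, ← CommRingCat.ofHom_hom g, ← CommRingCat.ofHom_comp, h,
      St.map_ψ]
    exact Over.w St.y)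
  hy := by
    rw [← Category.assoc, ← Functor.map_comp]
    have : (Over.homMk (Spec.map (CommRingCat.ofHom χ)) (by
        show Spec.map (CommRingCat.ofHom χ) ≫ Spec.map g ≫ St.str = p.str
        rw [← Category.assoc, ← Spec.map_comp, ← CommRingCat.ofHom_hom g,
          ← CommRingCat.ofHom_comp, h, St.map_ψ]
        exact Over.w St.y) : p.pt ⟶ Over.mk (Spec.map g ≫ St.str)) ≫
        (Over.homMk (Spec.map g) rfl : Over.mk (Spec.map g ≫ St.str) ⟶ Over.mk St.str) = St.y := by
      apply Over.OverMorphism.ext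
      show Spec.map (CommRingCat.ofHom χ) ≫ Spec.map g = St.y.left
      rw [← Spec.map_comp, ← CommRingCat.ofHom_hom g, ← CommRingCat.ofHom_comp, h, St.map_ψ]
    rw [this]
    exact St.hy

lemma Stage.extend_ψ (St : Stage p) {B' : CommRingCat.{u}} (g : St.B ⟶ B')
    (hg : Etale (Spec.map g)) (χ : B' →+* p.K) (h : χ.comp g.hom = St.ψ) :
    (St.extend g hg χ h).ψ = χ := by
  change (Spec.preimage (Spec.map (CommRingCat.ofHom χ))).hom = χ
  rw [Spec.preimage_map]
  rfl

lemma Stage.extend_θ (St : Stage p) {B' : CommRingCat.{u}} (g : St.B ⟶ B')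
    (hg : Etale (Spec.map g)) (χ : B' →+* p.K) (h : χ.comp g.hom = St.ψ) :
    ((St.extend g hg χ h).θ hp).comp g.hom = St.θ hp := by
  let k : (St.extend g hg χ h).obj ⟶ St.obj :=
    EtOver.homMk (Over.homMk (Spec.map g) rfl :
      Over.mk (Spec.map g ≫ St.str) ⟶ Over.mk St.str) rfl
  have hk : (FieldPt.liftsTo p).map k (St.extend g hg χ h).pt = St.pt := by
    apply Subtype.ext
    apply Over.OverMorphism.ext
    show Spec.map (CommRingCat.ofHom χ) ≫ Spec.map g = St.y.left
    rw [← Spec.map_comp, ← CommRingCat.ofHom_hom g, ← CommRingCat.ofHom_comp, h, St.map_ψ]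
  have := Stage.θ_of_hom hp St (St.extend g hg χ h) k hk
  have e : Stage.homRing k = g := Spec.preimage_map g
  rwa [e] at this


include hp

/-- an element of the etale local ring which does not vanish at the geometric point is a unit -/
lemma isUnit_of_ev_ne_zero (a : OEtStalk p) (h : ev hp a ≠ 0) : IsUnit a := by
  obtain ⟨St, b, rfl⟩ := exists_rep hp a
  have hb : St.ψ b ≠ 0 := by
    rw [← St.θ_ev hp]
    exact h
  have hbu : IsUnit (St.ψ b) := isUnit_iff_ne_zero.mpr hb
  let B' : CommRingCat.{u} := CommRingCat.of (Localization.Away b)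
  let g : St.B ⟶ B' := CommRingCat.ofHom (algebraMap St.B (Localization.Away b))
  let χ : B' →+* p.K := IsLocalization.Away.lift b hbu
  have hχ : χ.comp g.hom = St.ψ := by
    ext r
    exact IsLocalization.Away.lift_eq b hbu r
  have hg : Etale (Spec.map g) := inferInstance
  have e := St.extend_θ hp g hg χ hχ
  rw [← e]
  have hu : IsUnit (algebraMap St.B (Localization.Away b) b) :=
    IsLocalization.Away.algebraMap_isUnit b
  exact hu.map ((St.extend g hg χ hχ).θ hp)

lemma ev_one_ne_zero : ev hp (1 : OEtStalk p) ≠ 0 := by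
  rw [map_one]
  exact one_ne_zero

lemma nontrivial : Nontrivial (OEtStalk p) :=
  nontrivial_of_ne 1 0 (fun h => ev_one_ne_zero hp (by rw [h, map_zero]))

lemma isLocalRing : IsLocalRing (OEtStalk p) := by
  haveI := nontrivial hp
  refine IsLocalRing.of_isUnit_or_isUnit_one_sub_self fun a => ?_
  by_cases h : ev hp a = 0
  · right
    apply isUnit_of_ev_ne_zero hp
    rw [map_sub, h, sub_zero]
    exact ev_one_ne_zero hp
  · left
    exact isUnit_of_ev_ne_zero hp a h

lemma isUnit_iff_ev_ne_zero (a : OEtStalk p) : IsUnit a ↔ ev hp a ≠ 0 :=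
  ⟨fun h => (h.map (ev hp)).ne_zero, isUnit_of_ev_ne_zero hp a⟩

lemma mem_maximalIdeal_iff (a : OEtStalk p) :
    haveI := isLocalRing hp
    a ∈ IsLocalRing.maximalIdeal (OEtStalk p) ↔ ev hp a = 0 := by
  haveI := isLocalRing hp
  rw [IsLocalRing.mem_maximalIdeal, mem_nonunits_iff, isUnit_iff_ev_ne_zero hp, not_not]

open Polynomial in
/-- monic polynomials over the etale local ring come from a stage -/
lemma exists_monic_lift (f : (OEtStalk p)[X]) (hf : f.Monic) :
    ∃ (St : Stage p) (F : (St.B)[X]), F.Monic ∧ F.map (St.θ hp) = f := by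
  classical
  obtain ⟨St, hS⟩ := exists_rep_finset hp ((Finset.range f.natDegree).image f.coeff)
  have hb : ∀ i : Fin f.natDegree, ∃ b : St.B, St.θ hp b = f.coeff i :=
    fun i => hS _ (Finset.mem_image.mpr ⟨i, Finset.mem_range.mpr i.2, rfl⟩)
  choose b hb using hb
  refine ⟨St, (Polynomial.X : (St.B)[X]) ^ f.natDegree +
    ∑ i : Fin f.natDegree, C (b i) * (Polynomial.X : (St.B)[X]) ^ (i : ℕ),
    monic_X_pow_add (degree_sum_fin_lt b), ?_⟩
  rw [Polynomial.map_add, Polynomial.map_pow, map_X, Polynomial.map_sum]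
  conv_rhs => rw [hf.as_sum]
  congr 1
  rw [← Fin.sum_univ_eq_sum_range
    (fun i => C (f.coeff i) * (Polynomial.X : (OEtStalk p)[X]) ^ i)]
  refine Finset.sum_congr rfl fun i _ => ?_
  rw [Polynomial.map_mul, Polynomial.map_pow, map_X, map_C]
  congr 2
  exact hb i

open Polynomial in
/-- simple roots in `K` of monic polynomials over the etale local ring lift to roots -/
lemma exists_root (f : (OEtStalk p)[X]) (hf : f.Monic) (ω : p.K)
    (h0 : f.eval₂ (ev hp) ω = 0) (h1 : f.derivative.eval₂ (ev hp) ω ≠ 0) :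
    ∃ a : OEtStalk p, f.IsRoot a ∧ ev hp a = ω := by
  obtain ⟨St, F, hF, rfl⟩ := exists_monic_lift hp f hf
  let P : StandardEtalePair St.B := ⟨F, hF, derivative F, ⟨1, 0, 1, by ring⟩⟩
  let _ : Algebra St.B p.K := St.ψ.toAlgebra
  have hψ : (ev hp).comp (St.θ hp) = St.ψ := St.θ_ev hp
  have hmap : P.HasMap ω := by
    constructor
    · change aeval ω F = 0
      rw [aeval_def]
      change eval₂ St.ψ ω F = 0
      rw [← hψ, ← eval₂_map]; exact h0
    · change IsUnit (aeval ω (derivative F))
      rw [isUnit_iff_ne_zero, aeval_def]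
      change eval₂ St.ψ ω (derivative F) ≠ 0
      rw [← hψ, ← eval₂_map, ← derivative_map]; exact h1
  let lift := P.lift ω hmap
  let B' : CommRingCat.{u} := CommRingCat.of P.Ring
  let g : St.B ⟶ B' := CommRingCat.ofHom (algebraMap St.B P.Ring)
  let χ : B' →+* p.K := lift.toRingHom
  have hχ : χ.comp g.hom = St.ψ := by
    ext r
    exact lift.commutes r
  have hg : Etale (Spec.map g) := by
    rw [HasRingHomProperty.Spec_iff (P := @Etale)]
    exact RingHom.etale_algebraMap.mpr inferInstance
  obtain ⟨θ', e1, e2⟩ : ∃ θ' : B' →+* OEtStalk p, θ'.comp g.hom = St.θ hp ∧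
      (ev hp).comp θ' = χ :=
    ⟨(St.extend g hg χ hχ).θ hp, St.extend_θ hp g hg χ hχ,
      ((St.extend g hg χ hχ).θ_ev hp).trans (St.extend_ψ g hg χ hχ)⟩
  refine ⟨θ' P.X, ?_, ?_⟩
  · rw [IsRoot, Polynomial.eval_map, ← e1]
    change eval₂ (θ'.comp g.hom) (θ' P.X) F = 0
    rw [← hom_eval₂]
    have h := P.hasMap_X.1
    rw [aeval_def] at h
    change eval₂ g.hom P.X F = 0 at h
    rw [h, map_zero]
  · have : ev hp (θ' P.X) = χ P.X := congrArg (fun t : B' →+* p.K => t P.X) e2
    rw [this]
    exact P.lift_X ω hmap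

open Polynomial in
lemma henselian : HenselianLocalRing (OEtStalk p) :=
  { toIsLocalRing := isLocalRing hp
    is_henselian := fun f hf a₀ h₁ h₂ => by
      haveI := isLocalRing hp
      have h0 : f.eval₂ (ev hp) ((ev hp) a₀) = 0 := by
        rw [eval₂_hom]
        exact (mem_maximalIdeal_iff hp _).mp h₁
      have h1 : f.derivative.eval₂ (ev hp) ((ev hp) a₀) ≠ 0 := by
        rw [eval₂_hom]
        exact (isUnit_iff_ev_ne_zero hp _).mp h₂
      obtain ⟨a, ha, hae⟩ := exists_root hp f hf _ h0 h1
      refine ⟨a, ha, ?_⟩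
      rw [mem_maximalIdeal_iff hp, map_sub, hae]
      exact sub_self _ }

lemma isLocalHom_ev : IsLocalHom (ev hp) :=
  ⟨fun a ha => (isUnit_iff_ev_ne_zero hp a).mpr ha.ne_zero⟩

open Polynomial in
lemma isSepClosed_residueField :
    haveI := isLocalRing hp
    IsSepClosed (IsLocalRing.ResidueField (OEtStalk p)) := by
  haveI := isLocalRing hp
  haveI := isLocalHom_ev hp
  haveI : IsAlgClosed p.K := hp
  let ev' : IsLocalRing.ResidueField (OEtStalk p) →+* p.K :=
    IsLocalRing.ResidueField.lift (ev hp)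
  have hev' : ev'.comp (IsLocalRing.residue (OEtStalk p)) = ev hp :=
    IsLocalRing.ResidueField.lift_comp_residue _
  refine IsSepClosed.of_exists_root _ fun q hq hirr hsep => ?_
  obtain ⟨f, hfp, -, hf⟩ := lifts_and_natDegree_eq_and_monic
    (mem_lifts_of_surjective (IsLocalRing.residue_surjective) q) hq
  have hdeg : (q.map ev').degree ≠ 0 := by
    rw [degree_map]
    exact (degree_pos_of_irreducible hirr).ne'
  obtain ⟨ω, hω⟩ := IsSepClosed.exists_root (q.map ev') hdeg hsep.map
  have h0' : q.eval₂ ev' ω = 0 := by rwa [IsRoot, Polynomial.eval_map] at hω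
  have h0 : f.eval₂ (ev hp) ω = 0 := by
    rw [← hev', ← eval₂_map, hfp]
    exact h0'
  have h1 : f.derivative.eval₂ (ev hp) ω ≠ 0 := by
    rw [← hev', ← eval₂_map, ← derivative_map, hfp]
    exact hsep.eval₂_derivative_ne_zero ev' h0'
  obtain ⟨a, ha, -⟩ := exists_root hp f hf ω h0 h1
  refine ⟨IsLocalRing.residue _ a, ?_⟩
  rw [← hfp, Polynomial.eval_map, eval₂_hom, ha, map_zero]

theorem isStrictlyHenselian :
    IsLocalRing (OEtStalk p) ∧ EtCoh.IsStrictlyHenselianLocalRing (OEtStalk p) :=
  ⟨isLocalRing hp, henselian hp, isSepClosed_residueField hp⟩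

end Groth.Agent.R2.H45.OEtStalk
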