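import Mathlib
import Groth.Agent.R2.H45OEtStalk
import Groth.Agent.Lib.Helper9SpPoint5

/-!
# The etale local ring and the local rings of etale charts (helper45)

For a stage `St` (affine etale neighbourhood `Spec B` of a geometric point `p`, with point `pt₀`),
the canonical map `B ⟶ O_{X,p}` kills exactly the elements with zero germ at `pt₀`
(so `O_{Spec B, pt₀} ⟶ O_{X,p}` is injective).  Consequence: `O_{X,p}` is reduced iff the local rings
of the stages are.
-/

set_option autoImplicit false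
set_option linter.style.haveILetI false
universe u
open CategoryTheory CategoryTheory.Limits AlgebraicGeometry Opposite

namespace Groth.Agent.R2.H45.OEtStalk

open AlgSp

variable {S : Scheme.{u}} {X : AlgSp.Space S} {p : AlgSp.FieldPt X.obj}

/-- the point of a stage under the geometric point -/
noncomputable def Stage.pt₀ (St : Stage p) : ↥(Spec St.B) :=
  (St.y.left : Spec (CommRingCat.of p.K) ⟶ Spec St.B) (default : Spec (CommRingCat.of p.K))

lemma Stage.mem_pt₀_iff (St : Stage p) (b : St.B) : b ∈ St.pt₀.asIdeal ↔ St.ψ b = 0 := by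
  have h1 : St.pt₀ = (Spec.map (CommRingCat.ofHom St.ψ)) (default : Spec (CommRingCat.of p.K)) := by
    rw [St.map_ψ]
    rfl
  rw [h1]
  change b ∈ Ideal.comap St.ψ (default : Spec (CommRingCat.of p.K)).asIdeal ↔ _
  rw [Ideal.mem_comap, Ideal.eq_bot_of_prime (default : Spec (CommRingCat.of p.K)).asIdeal,
    Ideal.mem_bot]

lemma Stage.ofPt_pt₀ (St : Stage p) : Points.ofPt St.c St.pt₀ = Points.mk p :=
  Groth.Agent.Lib.Helper9.SpPoint.ofPt_lift p St.obj St.pt default

/-- the germ map of a stage -/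
noncomputable def Stage.toStalk (St : Stage p) : St.B →+* (Spec St.B).presheaf.stalk St.pt₀ :=
  ((Spec St.B).presheaf.germ ⊤ St.pt₀ trivial).hom.comp (Scheme.ΓSpecIso St.B).inv.hom

lemma Stage.toStalk_eq_zero_iff (St : Stage p) (b : St.B) :
    St.toStalk b = 0 ↔ ∃ s : St.B, St.ψ s ≠ 0 ∧ s * b = 0 := by
  letI : Algebra ↑St.B ↑((Spec St.B).presheaf.stalk St.pt₀) :=
    StructureSheaf.stalkAlgebra (↑St.B) St.pt₀
  haveI : IsLocalization.AtPrime (↑((Spec St.B).presheaf.stalk St.pt₀)) St.pt₀.asIdeal :=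
    StructureSheaf.IsLocalization.to_stalk St.B St.pt₀
  have h1 : St.toStalk b = algebraMap St.B ((Spec St.B).presheaf.stalk St.pt₀) b := rfl
  rw [h1, IsLocalization.map_eq_zero_iff St.pt₀.asIdeal.primeCompl]
  constructor
  · rintro ⟨⟨s, hs⟩, h⟩
    exact ⟨s, fun h0 => hs ((St.mem_pt₀_iff s).2 h0), h⟩
  · rintro ⟨s, hs, h⟩
    exact ⟨⟨s, fun h0 => hs ((St.mem_pt₀_iff s).1 h0)⟩, h⟩

lemma Stage.exists_toStalk_mul (St : Stage p) (t : (Spec St.B).presheaf.stalk St.pt₀) :
    ∃ (a s : St.B), St.ψ s ≠ 0 ∧ t * St.toStalk s = St.toStalk a := by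
  letI : Algebra ↑St.B ↑((Spec St.B).presheaf.stalk St.pt₀) :=
    StructureSheaf.stalkAlgebra (↑St.B) St.pt₀
  haveI : IsLocalization.AtPrime (↑((Spec St.B).presheaf.stalk St.pt₀)) St.pt₀.asIdeal :=
    StructureSheaf.IsLocalization.to_stalk St.B St.pt₀
  obtain ⟨⟨a, s⟩, h⟩ := IsLocalization.surj St.pt₀.asIdeal.primeCompl t
  exact ⟨a, s.1, fun h0 => s.2 ((St.mem_pt₀_iff s.1).2 h0), h⟩

lemma Stage.isUnit_toStalk (St : Stage p) (s : St.B) (hs : St.ψ s ≠ 0) :
    IsUnit (St.toStalk s) := by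
  letI : Algebra ↑St.B ↑((Spec St.B).presheaf.stalk St.pt₀) :=
    StructureSheaf.stalkAlgebra (↑St.B) St.pt₀
  haveI : IsLocalization.AtPrime (↑((Spec St.B).presheaf.stalk St.pt₀)) St.pt₀.asIdeal :=
    StructureSheaf.IsLocalization.to_stalk St.B St.pt₀
  exact IsLocalization.map_units (M := St.pt₀.asIdeal.primeCompl) _
    ⟨s, fun h0 => hs ((St.mem_pt₀_iff s).1 h0)⟩

variable (hp : p.IsGeometric)

include hp

lemma Stage.isUnit_θ (St : Stage p) (s : St.B) (hs : St.ψ s ≠ 0) : IsUnit (St.θ hp s) := by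
  rw [isUnit_iff_ev_ne_zero hp]
  have := congrArg (fun t : St.B →+* p.K => t s) (St.θ_ev hp)
  change ev hp (St.θ hp s) = St.ψ s at this
  rw [this]
  exact hs

/-- an element with zero germ at the point of the stage dies in the etale local ring. -/
lemma Stage.θ_eq_zero_of_toStalk (St : Stage p) (b : St.B) (h : St.toStalk b = 0) :
    St.θ hp b = 0 := by
  obtain ⟨s, hs, hsb⟩ := (St.toStalk_eq_zero_iff b).1 h
  have h1 : St.θ hp s * St.θ hp b = 0 := by rw [← map_mul, hsb, map_zero]
  exact (St.isUnit_θ hp s hs).mul_right_eq_zero.1 h1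

omit hp in
lemma germ_eq_zero_of_eq {Y : Scheme.{u}} {x y : Y} (h : x = y) (s : Γ(Y, ⊤))
    (hs : (Y.presheaf.germ ⊤ x trivial).hom s = 0) : (Y.presheaf.germ ⊤ y trivial).hom s = 0 := by
  subst h
  exact hs

omit hp in
lemma Stage.toSec_injective (St : Stage p) : Function.Injective St.toSec := by
  intro a b h
  have h1 : (Scheme.ΓSpecIso St.B).inv.hom a = (Scheme.ΓSpecIso St.B).inv.hom b :=
    congrArg ULift.down h
  have h2 := congrArg (Scheme.ΓSpecIso St.B).hom.hom h1
  rwa [← RingHom.comp_apply, ← RingHom.comp_apply, ← CommRingCat.hom_comp, Iso.inv_hom_id] at h2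

/-- an element dying in the etale local ring has zero germ at the point of the stage. -/
lemma Stage.toStalk_eq_zero_of_θ (St : Stage p) (b : St.B) (h : St.θ hp b = 0) :
    St.toStalk b = 0 := by
  have h0 : ((Φ X p hp).toPresheafFiber St.obj St.pt (OEt X.obj).obj).hom (St.toSec b) =
      ((Φ X p hp).toPresheafFiber St.obj St.pt (OEt X.obj).obj).hom (St.toSec 0) := by
    rw [map_zero, map_zero]
    exact h
  obtain ⟨Y, f, y, hfy, hf⟩ :=
    ((Φ X p hp).toPresheafFiber_eq_iff' (P := (OEt X.obj).obj) St.obj St.pt _ _).1 h0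
  obtain ⟨St', k, hk⟩ := exists_stage Y y
  let k' : St'.obj ⟶ St.obj := k ≫ f
  have hk' : (FieldPt.liftsTo p).map k' St'.pt = St.pt := by
    rw [Functor.map_comp]
    change (FieldPt.liftsTo p).map f ((FieldPt.liftsTo p).map k St'.pt) = _
    rw [hk]
    exact hfy
  let g := Stage.homRing k'
  have hgb : g.hom b = 0 := by
    apply St'.toSec_injective
    rw [← Stage.map_toSec k' b, map_zero]
    have h1 : (OEt X.obj).obj.map k'.op (St.toSec b) =
        (OEt X.obj).obj.map k.op ((OEt X.obj).obj.map f.op (St.toSec b)) := by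
      change (OEt X.obj).obj.map (f.op ≫ k.op) _ = _
      rw [Functor.map_comp]
      rfl
    rw [h1, hf, map_zero, map_zero, map_zero]
  -- the morphism of schemes
  let φ : Spec St'.B ⟶ Spec St.B := Spec.map g
  have hφ : φ = (k'.hom.left.left : Spec St'.B ⟶ Spec St.B) := Stage.map_homRing k'
  haveI : Etale φ := by
    rw [hφ]
    exact EtOver.etale_left k'
  haveI : Flat φ := inferInstance
  have hpt : φ St'.pt₀ = St.pt₀ := by
    have h1 : (St'.y.left : Spec (CommRingCat.of p.K) ⟶ Spec St'.B) ≫ φ = St.y.left := by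
      rw [hφ]
      have := congrArg (fun t : (FieldPt.liftsTo p).obj St.obj => t.1.left) hk'
      exact this
    change φ ((St'.y.left : Spec (CommRingCat.of p.K) ⟶ Spec St'.B)
      (default : Spec (CommRingCat.of p.K))) = _
    rw [← Scheme.Hom.comp_apply, h1]
    rfl
  -- the stalk map is injective
  have hinj : Function.Injective (φ.stalkMap St'.pt₀).hom := by
    have hfl : (φ.stalkMap St'.pt₀).hom.Flat := Flat.stalkMap φ St'.pt₀
    have hloc : IsLocalHom (φ.stalkMap St'.pt₀).hom := inferInstance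
    algebraize [(φ.stalkMap St'.pt₀).hom]
    have : IsLocalHom (algebraMap ((Spec St.B).presheaf.stalk (φ St'.pt₀))
      ((Spec St'.B).presheaf.stalk St'.pt₀)) := hloc
    haveI : Module.FaithfullyFlat ((Spec St.B).presheaf.stalk (φ St'.pt₀))
        ((Spec St'.B).presheaf.stalk St'.pt₀) :=
      Module.FaithfullyFlat.of_flat_of_isLocalHom
    exact FaithfulSMul.algebraMap_injective _ _
  apply germ_eq_zero_of_eq hpt
  apply hinj
  rw [map_zero]
  have h2 := Scheme.Hom.germ_stalkMap_apply φ ⊤ St'.pt₀ trivial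
    ((Scheme.ΓSpecIso St.B).inv.hom b)
  refine h2.trans ?_
  have h3 : φ.appTop.hom ((Scheme.ΓSpecIso St.B).inv.hom b) =
      (Scheme.ΓSpecIso St'.B).inv.hom (g.hom b) :=
    (congrArg (fun t => t.hom b) (Scheme.ΓSpecIso_inv_naturality g)).symm
  change ((Spec St'.B).presheaf.germ ⊤ St'.pt₀ trivial).hom
    (φ.appTop.hom ((Scheme.ΓSpecIso St.B).inv.hom b)) = 0
  rw [h3, hgb, map_zero, map_zero]

/-- if the local rings of all stages are reduced, so is the etale local ring. -/
theorem isReduced_of_forall_stage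
    (h : ∀ St : Stage p, _root_.IsReduced ((Spec St.B).presheaf.stalk St.pt₀)) :
    _root_.IsReduced (OEtStalk p) := by
  constructor
  intro z hz
  obtain ⟨n, hn⟩ := hz
  obtain ⟨St, b, rfl⟩ := exists_rep hp z
  haveI := h St
  rw [← map_pow] at hn
  have h1 : St.toStalk (b ^ n) = 0 := St.toStalk_eq_zero_of_θ hp _ hn
  rw [map_pow] at h1
  have h2 : St.toStalk b = 0 := IsNilpotent.eq_zero ⟨n, h1⟩
  exact St.θ_eq_zero_of_toStalk hp b h2

/-- if the etale local ring is reduced, so are the local rings of the stages. -/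
theorem isReduced_stage_of_isReduced (h : _root_.IsReduced (OEtStalk p)) (St : Stage p) :
    _root_.IsReduced ((Spec St.B).presheaf.stalk St.pt₀) := by
  constructor
  intro t ht
  obtain ⟨n, hn⟩ := ht
  obtain ⟨a, s, hs, hts⟩ := St.exists_toStalk_mul t
  have h1 : St.toStalk (a ^ n) = 0 := by
    rw [map_pow, ← hts, mul_pow, hn, zero_mul]
  have h2 : St.θ hp a ^ n = 0 := by
    rw [← map_pow]
    exact St.θ_eq_zero_of_toStalk hp _ h1
  have h3 : St.θ hp a = 0 := IsNilpotent.eq_zero ⟨n, h2⟩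
  have h4 : St.toStalk a = 0 := St.toStalk_eq_zero_of_θ hp a h3
  rw [h4] at hts
  exact (St.isUnit_toStalk s hs).mul_left_eq_zero.1 hts

omit hp in
/-- there is a stage. -/
lemma nonempty_stage (hp : p.IsGeometric) : Nonempty (Stage p) := by
  obtain ⟨St, -, -⟩ := exists_rep hp (0 : OEtStalk p)
  exact ⟨St⟩

end Groth.Agent.R2.H45.OEtStalk
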