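import Mathlib
import Groth.Agent.R2.H45OEtStalk2
import Groth.Agent.Lib.Helper9SpPoint6

/-!
# The etale local ring and charts through the point; unique minimal primes (helper45)
-/

set_option autoImplicit false
set_option linter.style.haveILetI false
universe u
open CategoryTheory CategoryTheory.Limits AlgebraicGeometry Opposite

namespace Groth.Agent.R2.H45.OEtStalk

open AlgSp

variable {S : Scheme.{u}}

set_option backward.isDefEq.respectTransparency false in
/-- a geometric point whose image in `|X|` is the image of a point `v` of a chart lifts to the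
chart through `v`. -/
lemma exists_lift_at {X : Sp S} (p : FieldPt X) (hp : p.IsGeometric) (V : EtOver X)
    (v : V.obj.left.left) (h : Points.ofPt V.obj.hom v = Points.mk p) :
    ∃ l : (FieldPt.liftsTo p).obj V,
      (l.1.left : Spec (CommRingCat.of p.K) ⟶ V.obj.left.left)
        (default : Spec (CommRingCat.of p.K)) = v := by
  haveI : IsAlgClosed p.K := hp
  haveI : IsSepClosed p.K := inferInstance
  obtain ⟨Ω, hΩ, w, a, b, hab⟩ :=
    Groth.Agent.Lib.Helper9.SpPoint.rel_toHom (Points.mk_eq_mk_iff.1 h)
  rw [FieldPt.toHom_ofPt, ← Category.assoc, ← Functor.map_comp] at hab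
  have hrep := V.property.1
  have hpb := hrep.isPullback p.toHom
  haveI het : Etale (hrep.snd p.toHom).left := V.property.2 p.toHom _ _ hpb
  let c := hrep.lift' (a ≫ Over.homMk (V.obj.left.left.fromSpecResidueField v) rfl) b hab
  have hc1 : c ≫ hrep.fst' p.toHom =
      a ≫ Over.homMk (V.obj.left.left.fromSpecResidueField v) rfl :=
    hrep.lift'_fst _ _ _
  let y : (hrep.pullback p.toHom).left := c.left (IsLocalRing.closedPoint Ω)
  obtain ⟨l, hl, hly⟩ := Scheme.exists_fac_of_etale_of_isSepClosed (hrep.snd p.toHom).left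
    (𝟙 (Spec (CommRingCat.of p.K))) y
    (Subsingleton.elim (α := Spec (CommRingCat.of p.K)) _ _)
  have h1 : (hrep.snd p.toHom).left ≫ p.str = (hrep.pullback p.toHom).hom :=
    Over.w (hrep.snd p.toHom)
  have h3 : l ≫ (hrep.pullback p.toHom).hom = p.str := by
    rw [← h1, ← Category.assoc, hl, Category.id_comp]
  let σ : p.pt ⟶ hrep.pullback p.toHom := Over.homMk l h3
  have hσ : σ ≫ hrep.snd p.toHom = 𝟙 _ := by
    apply Over.OverMorphism.ext
    exact hl
  refine ⟨⟨σ ≫ hrep.fst' p.toHom, ?_⟩, ?_⟩
  · rw [Functor.map_comp, Category.assoc, hrep.map_fst', hpb.w, ← Category.assoc,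
      ← Functor.map_comp, hσ, CategoryTheory.Functor.map_id, Category.id_comp]
  · change ((σ ≫ hrep.fst' p.toHom).left : Spec (CommRingCat.of p.K) ⟶ V.obj.left.left)
      (default : Spec (CommRingCat.of p.K)) = v
    rw [Over.comp_left, Scheme.Hom.comp_apply]
    change (hrep.fst' p.toHom).left (l default) = v
    rw [hly]
    change (hrep.fst' p.toHom).left (c.left (IsLocalRing.closedPoint Ω)) = v
    rw [← Scheme.Hom.comp_apply, ← Over.comp_left, hc1, Over.comp_left, Scheme.Hom.comp_apply]
    exact Scheme.fromSpecResidueField_apply _ _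

variable {X : AlgSp.Space S} {p : AlgSp.FieldPt X.obj}

/-- a stage over a given chart through the point. -/
lemma exists_stage_over_chart (hp : p.IsGeometric) {U : Over S} (a : (yon S).obj U ⟶ X.obj)
    (ha : RepWith @Etale a) (u : ↥U.left) (hu : Points.ofPt a u = Points.mk p) :
    ∃ (St : Stage p) (φ : Spec St.B ⟶ U.left), Etale φ ∧ φ St.pt₀ = u := by
  obtain ⟨l, hl⟩ := exists_lift_at p hp (EtOver.mk a ha) u hu
  obtain ⟨St, k, hk⟩ := exists_stage (EtOver.mk a ha) l
  refine ⟨St, k.hom.left.left, EtOver.etale_left k, ?_⟩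
  have h1 : (St.y.left : Spec (CommRingCat.of p.K) ⟶ Spec St.B) ≫ k.hom.left.left = l.1.left :=
    congrArg (fun t : (FieldPt.liftsTo p).obj (EtOver.mk a ha) => t.1.left) hk
  change (k.hom.left.left : Spec St.B ⟶ U.left)
    ((St.y.left : Spec (CommRingCat.of p.K) ⟶ Spec St.B) (default : Spec (CommRingCat.of p.K))) = u
  rw [← Scheme.Hom.comp_apply, h1]
  exact hl

/-- the nilradical being prime descends along injective ring maps. -/
lemma isPrime_nilradical_of_injective {A B : Type*} [CommRing A] [CommRing B] (f : A →+* B)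
    (hf : Function.Injective f) (h : (nilradical B).IsPrime) : (nilradical A).IsPrime := by
  have : nilradical A = (nilradical B).comap f := by
    ext x
    rw [Ideal.mem_comap, mem_nilradical, mem_nilradical]
    constructor
    · intro hx
      exact hx.map f
    · rintro ⟨n, hn⟩
      refine ⟨n, hf ?_⟩
      rw [map_pow, hn, map_zero]
  rw [this]
  exact Ideal.comap_isPrime f _

variable (hp : p.IsGeometric)

include hp

/-- if the nilradicals of the local rings of all stages are prime, so is the nilradical of the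
etale local ring. -/
theorem isPrime_nilradical_of_forall_stage
    (h : ∀ St : Stage p, (nilradical ((Spec St.B).presheaf.stalk St.pt₀)).IsPrime) :
    (nilradical (OEtStalk p)).IsPrime := by
  haveI := nontrivial hp
  rw [Ideal.isPrime_iff]
  constructor
  · intro htop
    have h1 : (1 : OEtStalk p) ∈ nilradical (OEtStalk p) := by rw [htop]; trivial
    obtain ⟨n, hn⟩ := mem_nilradical.1 h1
    rw [one_pow] at hn
    exact one_ne_zero hn
  · intro z w hzw
    classical
    obtain ⟨St, hS⟩ := exists_rep_finset hp {z, w}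
    obtain ⟨b, rfl⟩ := hS z (by simp)
    obtain ⟨c, rfl⟩ := hS w (by simp)
    obtain ⟨n, hn⟩ := mem_nilradical.1 hzw
    rw [← map_mul, ← map_pow] at hn
    have h1 : St.toStalk ((b * c) ^ n) = 0 := St.toStalk_eq_zero_of_θ hp _ hn
    rw [map_pow, map_mul] at h1
    have h2 : St.toStalk b * St.toStalk c ∈ nilradical ((Spec St.B).presheaf.stalk St.pt₀) :=
      mem_nilradical.2 ⟨n, h1⟩
    rcases (h St).mem_or_mem h2 with h3 | h3
    · left
      obtain ⟨m, hm⟩ := mem_nilradical.1 h3
      rw [← map_pow] at hm
      refine mem_nilradical.2 ⟨m, ?_⟩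
      rw [← map_pow]
      exact St.θ_eq_zero_of_toStalk hp _ hm
    · right
      obtain ⟨m, hm⟩ := mem_nilradical.1 h3
      rw [← map_pow] at hm
      refine mem_nilradical.2 ⟨m, ?_⟩
      rw [← map_pow]
      exact St.θ_eq_zero_of_toStalk hp _ hm

/-- the canonical injective map from the local ring of a stage to the etale local ring. -/
theorem exists_injective_stage (St : Stage p) :
    ∃ f : (Spec St.B).presheaf.stalk St.pt₀ →+* OEtStalk p, Function.Injective f := by
  letI : Algebra ↑St.B ↑((Spec St.B).presheaf.stalk St.pt₀) :=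
    StructureSheaf.stalkAlgebra (↑St.B) St.pt₀
  haveI : IsLocalization.AtPrime (↑((Spec St.B).presheaf.stalk St.pt₀)) St.pt₀.asIdeal :=
    StructureSheaf.IsLocalization.to_stalk St.B St.pt₀
  have hu : ∀ s : St.pt₀.asIdeal.primeCompl, IsUnit (St.θ hp s) := fun s =>
    St.isUnit_θ hp s.1 (fun h0 => s.2 ((St.mem_pt₀_iff s.1).2 h0))
  refine ⟨IsLocalization.lift (M := St.pt₀.asIdeal.primeCompl) hu, ?_⟩
  rw [injective_iff_map_eq_zero]
  intro t ht
  obtain ⟨⟨a, s⟩, hts⟩ := IsLocalization.surj St.pt₀.asIdeal.primeCompl t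
  have h1 : IsLocalization.lift (M := St.pt₀.asIdeal.primeCompl) hu
      (algebraMap St.B ((Spec St.B).presheaf.stalk St.pt₀) a) = 0 := by
    rw [← hts, map_mul, ht, zero_mul]
  rw [IsLocalization.lift_eq] at h1
  have h2 : St.toStalk a = 0 := St.toStalk_eq_zero_of_θ hp a h1
  have h3 : t * algebraMap St.B ((Spec St.B).presheaf.stalk St.pt₀) s.1 = 0 := by
    rw [hts]
    exact h2
  exact (IsLocalization.map_units (M := St.pt₀.asIdeal.primeCompl)
    ((Spec St.B).presheaf.stalk St.pt₀) s).mul_left_eq_zero.1 h3

/-- if the nilradical of the etale local ring is prime, so are those of the local rings of etale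
charts through the point. -/
theorem isPrime_nilradical_chart_of (h : (nilradical (OEtStalk p)).IsPrime) {U : Over S}
    (a : (yon S).obj U ⟶ X.obj) (ha : RepWith @Etale a) (u : ↥U.left)
    (hu : Points.ofPt a u = Points.mk p) :
    (nilradical (U.left.presheaf.stalk u)).IsPrime := by
  obtain ⟨St, φ, hφ, rfl⟩ := exists_stage_over_chart hp a ha u hu
  obtain ⟨f, hf⟩ := exists_injective_stage hp St
  have h1 : (nilradical ((Spec St.B).presheaf.stalk St.pt₀)).IsPrime :=
    isPrime_nilradical_of_injective f hf h
  haveI : Flat φ := inferInstance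
  have hinj : Function.Injective (φ.stalkMap St.pt₀).hom := by
    have hfl : (φ.stalkMap St.pt₀).hom.Flat := Flat.stalkMap φ St.pt₀
    have hloc : IsLocalHom (φ.stalkMap St.pt₀).hom := inferInstance
    algebraize [(φ.stalkMap St.pt₀).hom]
    have : IsLocalHom (algebraMap (U.left.presheaf.stalk (φ St.pt₀))
      ((Spec St.B).presheaf.stalk St.pt₀)) := hloc
    haveI : Module.FaithfullyFlat (U.left.presheaf.stalk (φ St.pt₀))
        ((Spec St.B).presheaf.stalk St.pt₀) :=
      Module.FaithfullyFlat.of_flat_of_isLocalHom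
    exact FaithfulSMul.algebraMap_injective _ _
  exact isPrime_nilradical_of_injective _ hinj h1

end Groth.Agent.R2.H45.OEtStalk
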