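import Mathlib
import Groth.Agent.R2.H45OEtStalk3
import Groth.Agent.R2.H45Dim
import Groth.Agent.R2.H45HasAt

/-!
# The dimension of the etale local ring (helper45)

The etale local ring of an algebraic space at a geometric point is flat over the local ring of any
etale chart through the point (equational criterion, as a filtered colimit of etale algebras), and
every finite chain of primes is visible on a chart; hence it has the same Krull dimension as the
local rings of the charts.
-/

set_option autoImplicit false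
set_option linter.style.haveILetI false
universe u
open CategoryTheory CategoryTheory.Limits AlgebraicGeometry Opposite

namespace Groth.Agent.R2.H45.OEtStalk

open AlgSp

variable {S : Scheme.{u}} {X : AlgSp.Space S} {p : AlgSp.FieldPt X.obj} (hp : p.IsGeometric)

include hp

/-- two stages have a common etale refinement -/
lemma exists_common_etale (St₁ St₂ : Stage p) : ∃ (St₃ : Stage p) (g₁ : St₁.B ⟶ St₃.B)
    (g₂ : St₂.B ⟶ St₃.B), Etale (Spec.map g₁) ∧ Etale (Spec.map g₂) ∧
      (St₃.θ hp).comp g₁.hom = St₁.θ hp ∧ (St₃.θ hp).comp g₂.hom = St₂.θ hp := by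
  haveI : IsCofiltered (FieldPt.liftsTo p).Elements := (point_props X p hp).1
  let m : (FieldPt.liftsTo p).Elements :=
    IsCofiltered.min (⟨St₁.obj, St₁.pt⟩ : (FieldPt.liftsTo p).Elements) ⟨St₂.obj, St₂.pt⟩
  let a₁ : m ⟶ ⟨St₁.obj, St₁.pt⟩ := IsCofiltered.minToLeft _ _
  let a₂ : m ⟶ ⟨St₂.obj, St₂.pt⟩ := IsCofiltered.minToRight _ _
  obtain ⟨St₃, k, hk⟩ := exists_stage m.1 m.2
  refine ⟨St₃, Stage.homRing (k ≫ a₁.1), Stage.homRing (k ≫ a₂.1), ?_, ?_, ?_, ?_⟩
  · rw [Stage.map_homRing]
    exact EtOver.etale_left _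
  · rw [Stage.map_homRing]
    exact EtOver.etale_left _
  · apply Stage.θ_of_hom
    rw [Functor.map_comp]
    change (FieldPt.liftsTo p).map a₁.1 ((FieldPt.liftsTo p).map k St₃.pt) = _
    rw [hk]
    exact a₁.2
  · apply Stage.θ_of_hom
    rw [Functor.map_comp]
    change (FieldPt.liftsTo p).map a₂.1 ((FieldPt.liftsTo p).map k St₃.pt) = _
    rw [hk]
    exact a₂.2

/-- finitely many elements of the etale local ring come from a common etale refinement of a given
stage. -/
lemma exists_rep_finset_over (St : Stage p) (s : Finset (OEtStalk p)) :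
    ∃ (St' : Stage p) (g : St.B ⟶ St'.B), Etale (Spec.map g) ∧
      (St'.θ hp).comp g.hom = St.θ hp ∧ ∀ a ∈ s, ∃ b : St'.B, St'.θ hp b = a := by
  obtain ⟨St₁, h₁⟩ := exists_rep_finset hp s
  obtain ⟨St₃, g₁, g₂, he₁, -, e₁, e₂⟩ := exists_common_etale hp St St₁
  refine ⟨St₃, g₁, he₁, e₁, fun a ha => ?_⟩
  obtain ⟨b, hb⟩ := h₁ a ha
  exact ⟨g₂.hom b, by rw [← RingHom.comp_apply, e₂, hb]⟩

/-- the etale local ring is flat over the ring of functions of any stage. -/
theorem flat_θ (St : Stage p) :
    letI := (St.θ hp).toAlgebra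
    Module.Flat St.B (OEtStalk p) := by
  letI := (St.θ hp).toAlgebra
  apply Module.Flat.of_forall_isTrivialRelation
  intro l f x hfx
  classical
  obtain ⟨St', g, hg, hθ, hrep⟩ := exists_rep_finset_over hp St (Finset.univ.image x)
  have hb : ∀ i, ∃ b : St'.B, St'.θ hp b = x i :=
    fun i => hrep (x i) (Finset.mem_image_of_mem x (Finset.mem_univ i))
  choose b hb using hb
  have hθ' : ∀ c : St.B, St'.θ hp (g.hom c) = St.θ hp c := fun c => by
    rw [← RingHom.comp_apply, hθ]
  have h0 : St'.θ hp (∑ i, g.hom (f i) * b i) = 0 := by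
    rw [map_sum, ← hfx]
    refine Finset.sum_congr rfl fun i _ => ?_
    rw [map_mul, hb, hθ', Algebra.smul_def]
    rfl
  obtain ⟨s, hs, hsb⟩ := (St'.toStalk_eq_zero_iff _).1 (St'.toStalk_eq_zero_of_θ hp _ h0)
  have hfl : g.hom.Flat := by
    haveI : Flat (Spec.map g) := inferInstance
    exact (HasRingHomProperty.Spec_iff (P := @Flat)).1 this
  letI := g.hom.toAlgebra
  haveI : Module.Flat St.B St'.B := hfl
  have hrel : ∑ i, f i • (s * b i) = 0 := by
    rw [← hsb, Finset.mul_sum]
    refine Finset.sum_congr rfl fun i _ => ?_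
    rw [Algebra.smul_def]
    change g.hom (f i) * (s * b i) = s * (g.hom (f i) * b i)
    ring
  obtain ⟨k, a, y, hy1, hy2⟩ := Module.Flat.isTrivialRelation_of_sum_smul_eq_zero
    (R := St.B) (M := St'.B) (f := f) (x := fun i => s * b i) hrel
  have hu := St'.isUnit_θ hp s hs
  refine ⟨k, a, fun j => ↑(hu.unit⁻¹) * St'.θ hp (y j), ?_, hy2⟩
  intro i
  have h1 := congrArg (St'.θ hp) (hy1 i)
  rw [map_mul, hb, map_sum] at h1
  have h2 : x i = ↑(hu.unit⁻¹) * (St'.θ hp s * x i) := by
    rw [← mul_assoc, IsUnit.val_inv_mul, one_mul]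
  rw [h2, h1, Finset.mul_sum]
  refine Finset.sum_congr rfl fun j _ => ?_
  rw [Algebra.smul_def, Algebra.smul_def, map_mul]
  change _ * (St'.θ hp (g.hom (a i j)) * _) = St.θ hp (a i j) * (_ * _)
  rw [hθ']
  ring

/-- the canonical map from the local ring of a stage to the etale local ring. -/
noncomputable def Stage.lift (St : Stage p) :
    (Spec St.B).presheaf.stalk St.pt₀ →+* OEtStalk p :=
  letI : Algebra ↑St.B ↑((Spec St.B).presheaf.stalk St.pt₀) :=
    StructureSheaf.stalkAlgebra (↑St.B) St.pt₀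
  haveI : IsLocalization.AtPrime (↑((Spec St.B).presheaf.stalk St.pt₀)) St.pt₀.asIdeal :=
    StructureSheaf.IsLocalization.to_stalk St.B St.pt₀
  IsLocalization.lift (M := St.pt₀.asIdeal.primeCompl) (g := St.θ hp)
    (fun s => St.isUnit_θ hp s.1 (fun h0 => s.2 ((St.mem_pt₀_iff s.1).2 h0)))

lemma Stage.lift_toStalk (St : Stage p) (b : St.B) : St.lift hp (St.toStalk b) = St.θ hp b := by
  letI : Algebra ↑St.B ↑((Spec St.B).presheaf.stalk St.pt₀) :=
    StructureSheaf.stalkAlgebra (↑St.B) St.pt₀
  haveI : IsLocalization.AtPrime (↑((Spec St.B).presheaf.stalk St.pt₀)) St.pt₀.asIdeal :=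
    StructureSheaf.IsLocalization.to_stalk St.B St.pt₀
  exact IsLocalization.lift_eq (M := St.pt₀.asIdeal.primeCompl) _ b

lemma Stage.lift_injective (St : Stage p) : Function.Injective (St.lift hp) := by
  rw [injective_iff_map_eq_zero]
  intro t ht
  obtain ⟨a, s, hs, hts⟩ := St.exists_toStalk_mul t
  have h1 : St.θ hp a = 0 := by
    rw [← St.lift_toStalk hp, ← hts, map_mul, ht, zero_mul]
  have h2 : St.toStalk a = 0 := St.toStalk_eq_zero_of_θ hp a h1
  rw [← hts] at h2
  exact (St.isUnit_toStalk s hs).mul_left_eq_zero.1 h2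

lemma Stage.isLocalHom_lift (St : Stage p) : IsLocalHom (St.lift hp) := by
  constructor
  intro t ht
  obtain ⟨a, s, hs, hts⟩ := St.exists_toStalk_mul t
  have h1 : IsUnit (St.θ hp a) := by
    rw [← St.lift_toStalk hp, ← hts, map_mul, St.lift_toStalk hp]
    exact ht.mul (St.isUnit_θ hp s hs)
  have h2 : St.ψ a ≠ 0 := by
    have h3 := (isUnit_iff_ev_ne_zero hp _).1 h1
    have h4 := congrArg (fun t : St.B →+* p.K => t a) (St.θ_ev hp)
    change ev hp (St.θ hp a) = St.ψ a at h4
    rwa [h4] at h3
  have h5 : IsUnit (t * St.toStalk s) := by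
    rw [hts]
    exact St.isUnit_toStalk a h2
  exact isUnit_of_mul_isUnit_left h5

/-- the etale local ring is flat over the local ring of any stage. -/
theorem Stage.flat_lift (St : Stage p) :
    letI := (St.lift hp).toAlgebra
    Module.Flat ((Spec St.B).presheaf.stalk St.pt₀) (OEtStalk p) := by
  letI : Algebra ↑St.B ↑((Spec St.B).presheaf.stalk St.pt₀) :=
    StructureSheaf.stalkAlgebra (↑St.B) St.pt₀
  haveI : IsLocalization.AtPrime (↑((Spec St.B).presheaf.stalk St.pt₀)) St.pt₀.asIdeal :=
    StructureSheaf.IsLocalization.to_stalk St.B St.pt₀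
  letI : Algebra ↑((Spec St.B).presheaf.stalk St.pt₀) (OEtStalk p) := (St.lift hp).toAlgebra
  letI : Algebra St.B (OEtStalk p) := (St.θ hp).toAlgebra
  haveI : IsScalarTower St.B ((Spec St.B).presheaf.stalk St.pt₀) (OEtStalk p) :=
    IsScalarTower.of_algebraMap_eq (fun b => (St.lift_toStalk hp b).symm)
  rw [Module.flat_iff_of_isLocalization (R := St.B) ((Spec St.B).presheaf.stalk St.pt₀)
    St.pt₀.asIdeal.primeCompl]
  exact flat_θ hp St

/-- the local ring of a stage has dimension at most that of the etale local ring. -/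
theorem Stage.ringKrullDim_le (St : Stage p) :
    ringKrullDim ((Spec St.B).presheaf.stalk St.pt₀) ≤ ringKrullDim (OEtStalk p) := by
  letI : Algebra ↑((Spec St.B).presheaf.stalk St.pt₀) (OEtStalk p) := (St.lift hp).toAlgebra
  haveI : Module.Flat ((Spec St.B).presheaf.stalk St.pt₀) (OEtStalk p) := St.flat_lift hp
  haveI := isLocalRing hp
  haveI : IsLocalHom (algebraMap ((Spec St.B).presheaf.stalk St.pt₀) (OEtStalk p)) :=
    St.isLocalHom_lift hp
  exact Groth.Agent.R2.H45.Dim.ringKrullDim_le_of_flat_of_isLocalHom _ _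

/-- every finite chain of primes of the etale local ring is visible on a stage. -/
theorem exists_stage_length_le (l : LTSeries (PrimeSpectrum (OEtStalk p))) :
    ∃ St : Stage p,
      (l.length : WithBot ℕ∞) ≤ ringKrullDim ((Spec St.B).presheaf.stalk St.pt₀) := by
  classical
  have hx : ∀ i : Fin l.length, ∃ x : OEtStalk p,
      x ∈ (l i.succ).asIdeal ∧ x ∉ (l i.castSucc).asIdeal := by
    intro i
    have hlt : l i.castSucc < l i.succ := l.step i
    have hlt' : (l i.castSucc).asIdeal < (l i.succ).asIdeal := hlt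
    exact Set.exists_of_ssubset hlt'
  choose x hx1 hx2 using hx
  obtain ⟨St, hS⟩ := exists_rep_finset hp (Finset.univ.image x)
  have hb : ∀ i, ∃ b : St.B, St.θ hp b = x i :=
    fun i => hS (x i) (Finset.mem_image_of_mem x (Finset.mem_univ i))
  choose b hb using hb
  refine ⟨St, ?_⟩
  let L : LTSeries (PrimeSpectrum ((Spec St.B).presheaf.stalk St.pt₀)) :=
    { length := l.length
      toFun := fun i => PrimeSpectrum.comap (St.lift hp) (l i)
      step := fun i => by
        have hle : PrimeSpectrum.comap (St.lift hp) (l i.castSucc) ≤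
            PrimeSpectrum.comap (St.lift hp) (l i.succ) :=
          Ideal.comap_mono (le_of_lt (l.step i : l i.castSucc < l i.succ))
        refine lt_of_le_of_ne hle fun heq => ?_
        have h1 : St.toStalk (b i) ∈ (PrimeSpectrum.comap (St.lift hp) (l i.succ)).asIdeal := by
          change St.lift hp (St.toStalk (b i)) ∈ (l i.succ).asIdeal
          rw [St.lift_toStalk hp, hb]
          exact hx1 i
        rw [← heq] at h1
        apply hx2 i
        change St.lift hp (St.toStalk (b i)) ∈ (l i.castSucc).asIdeal at h1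
        rwa [St.lift_toStalk hp, hb] at h1 }
  exact Order.LTSeries.length_le_krullDim L

omit hp in
/-- the dimension of the local ring is an etale invariant property of pointed schemes. -/
lemma etInv_ringKrullDim (e : WithBot ℕ∞) :
    Groth.Agent.R2.H45.HasAt.EtInv
      (fun (U : Scheme.{u}) (u : ↥U) => ringKrullDim (U.presheaf.stalk u) = e) := by
  intro W U g _ w
  change ringKrullDim (W.presheaf.stalk w) = e ↔ ringKrullDim (U.presheaf.stalk (g w)) = e
  rw [Groth.Agent.R2.H45.Dim.ringKrullDim_stalk_eq_of_etale g w]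

omit hp in
/-- the local rings of all stages have the same dimension. -/
lemma Stage.ringKrullDim_eq (St St' : Stage p) :
    ringKrullDim ((Spec St'.B).presheaf.stalk St'.pt₀) =
      ringKrullDim ((Spec St.B).presheaf.stalk St.pt₀) := by
  have hQ := etInv_ringKrullDim (ringKrullDim ((Spec St.B).presheaf.stalk St.pt₀))
  have h1 := (Groth.Agent.R2.H45.HasAt.hasAt_iff_of_chart hQ St.c St.et St.pt₀).2 rfl
  rw [St.ofPt_pt₀, ← St'.ofPt_pt₀] at h1
  exact (Groth.Agent.R2.H45.HasAt.hasAt_iff_of_chart hQ St'.c St'.et St'.pt₀).1 h1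

/-- the etale local ring has the same dimension as the local ring of any stage. -/
theorem ringKrullDim_eq_stage (St : Stage p) :
    ringKrullDim (OEtStalk p) = ringKrullDim ((Spec St.B).presheaf.stalk St.pt₀) := by
  refine le_antisymm ?_ (St.ringKrullDim_le hp)
  unfold ringKrullDim
  rw [Order.krullDim]
  refine iSup_le fun l => ?_
  obtain ⟨St', h⟩ := exists_stage_length_le hp l
  rw [Stage.ringKrullDim_eq St St'] at h
  exact h

/-- the local ring of `X` at the image of a geometric point has dimension `e` iff the etale local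
ring has. -/
theorem hasAt_ringKrullDim_iff (e : WithBot ℕ∞) :
    AlgSp.HasAt (fun U u => ringKrullDim ↥(U.presheaf.stalk u) = e) X.obj (AlgSp.Points.mk p) ↔
      ringKrullDim ↥(AlgSp.OEtStalk p) = e := by
  obtain ⟨St⟩ := nonempty_stage hp
  rw [← St.ofPt_pt₀, Groth.Agent.R2.H45.HasAt.hasAt_iff_of_chart (etInv_ringKrullDim e) St.c St.et
    St.pt₀, ringKrullDim_eq_stage hp St]
  rfl

end Groth.Agent.R2.H45.OEtStalk
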