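import Mathlib
import Groth.Agent.R2.H45OEtStalk4
import Groth.Agent.R2.H45HasAtMor
import Groth.Agent.Lib.Helper3NoethColim2

/-!
# The etale local ring of a locally Noetherian algebraic space is Noetherian (helper45)
-/

set_option autoImplicit false
set_option linter.style.haveILetI false
universe u
open CategoryTheory CategoryTheory.Limits AlgebraicGeometry Opposite

namespace Groth.Agent.R2.H45.OEtStalk

open AlgSp

/-- for an unramified algebra `B → B'` and a prime `q'` of `B'` over `q`, the ideal `q'` is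
generated by `q` locally at `q'`. -/
lemma exists_mul_mem_map_of_unramified {B B' : Type*} [CommRing B] [CommRing B'] [Algebra B B']
    [Algebra.EssFiniteType B B'] [Algebra.FormallyUnramified B B'] (q' : Ideal B') [q'.IsPrime]
    (b' : B') (hb' : b' ∈ q') :
    ∃ s : B', s ∉ q' ∧ s * b' ∈ (q'.under B).map (algebraMap B B') := by
  letI := Localization.AtPrime.algebraOfLiesOver (q'.under B) q'
  haveI : Algebra.IsUnramifiedAt B q' := inferInstance
  have h := ((Algebra.isUnramifiedAt_iff_map_eq B (q'.under B) q').1 inferInstance).2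
  have h1 : algebraMap B' (Localization.AtPrime q') b' ∈
      IsLocalRing.maximalIdeal (Localization.AtPrime q') := by
    rw [IsLocalization.AtPrime.to_map_mem_maximal_iff (Localization.AtPrime q') q']
    exact hb'
  rw [← h, IsScalarTower.algebraMap_eq B B' (Localization.AtPrime q'), ← Ideal.map_map,
    IsLocalization.mem_map_algebraMap_iff q'.primeCompl] at h1
  obtain ⟨⟨a, s⟩, has⟩ := h1
  rw [← map_mul, IsLocalization.eq_iff_exists q'.primeCompl] at has
  obtain ⟨c, hc⟩ := has
  refine ⟨c.1 * s.1, q'.primeCompl.mul_mem c.2 s.2, ?_⟩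
  have h2 : c.1 * s.1 * b' = c.1 * a.1 := by
    rw [← hc]
    ring
  rw [h2]
  exact Ideal.mul_mem_left _ _ a.2

variable {S : Scheme.{u}} {X : AlgSp.Space S} {p : AlgSp.FieldPt X.obj} (hp : p.IsGeometric)

include hp

lemma Stage.ev_θ (St : Stage p) (b : St.B) : ev hp (St.θ hp b) = St.ψ b := by
  have h4 := congrArg (fun t : St.B →+* p.K => t b) (St.θ_ev hp)
  exact h4

/-- the maximal ideal of the etale local ring is generated by the prime of any stage. -/
theorem Stage.map_θ_pt₀ (St : Stage p) :
    haveI := isLocalRing hp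
    Ideal.map (St.θ hp) St.pt₀.asIdeal = IsLocalRing.maximalIdeal (OEtStalk p) := by
  haveI := isLocalRing hp
  apply le_antisymm
  · rw [Ideal.map_le_iff_le_comap]
    intro b hb
    rw [Ideal.mem_comap, mem_maximalIdeal_iff hp, St.ev_θ hp]
    exact (St.mem_pt₀_iff b).1 hb
  · intro x hx
    rw [mem_maximalIdeal_iff hp] at hx
    classical
    obtain ⟨St', g, hg, hθ, hrep⟩ := exists_rep_finset_over hp St {x}
    obtain ⟨b', rfl⟩ := hrep x (Finset.mem_singleton_self x)
    rw [St'.ev_θ hp] at hx
    have hθ' : ∀ c : St.B, St'.θ hp (g.hom c) = St.θ hp c := fun c => by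
      rw [← RingHom.comp_apply, hθ]
    have het : g.hom.Etale := (HasRingHomProperty.Spec_iff (P := @Etale)).1 hg
    letI := g.hom.toAlgebra
    haveI : Algebra.Etale St.B St'.B := het
    have hunder : St'.pt₀.asIdeal.under St.B = St.pt₀.asIdeal := by
      ext c
      rw [Ideal.under_def, Ideal.mem_comap, St'.mem_pt₀_iff, St.mem_pt₀_iff]
      change St'.ψ (g.hom c) = 0 ↔ _
      rw [← St'.ev_θ hp, hθ', St.ev_θ hp]
    obtain ⟨s, hs, hsb⟩ := exists_mul_mem_map_of_unramified (B := St.B) St'.pt₀.asIdeal b'
      ((St'.mem_pt₀_iff b').2 hx)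
    rw [hunder] at hsb
    have hs' : St'.ψ s ≠ 0 := fun h0 => hs ((St'.mem_pt₀_iff s).2 h0)
    have hu := St'.isUnit_θ hp s hs'
    have h1 : St'.θ hp (s * b') ∈ Ideal.map (St.θ hp) St.pt₀.asIdeal := by
      have h2 := Ideal.mem_map_of_mem (St'.θ hp) hsb
      rw [Ideal.map_map] at h2
      change St'.θ hp (s * b') ∈ Ideal.map ((St'.θ hp).comp g.hom) St.pt₀.asIdeal at h2
      rwa [hθ] at h2
    rw [map_mul] at h1
    have h3 : St'.θ hp b' = ↑(hu.unit⁻¹) * (St'.θ hp s * St'.θ hp b') := by
      rw [← mul_assoc, IsUnit.val_inv_mul, one_mul]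
    rw [h3]
    exact Ideal.mul_mem_left _ _ h1

/-- the maximal ideal of the local ring of a stage generates the maximal ideal of the etale local
ring. -/
theorem Stage.map_lift_maximalIdeal (St : Stage p) :
    haveI := isLocalRing hp
    Ideal.map (St.lift hp) (IsLocalRing.maximalIdeal ((Spec St.B).presheaf.stalk St.pt₀)) =
      IsLocalRing.maximalIdeal (OEtStalk p) := by
  haveI := isLocalRing hp
  letI : Algebra ↑St.B ↑((Spec St.B).presheaf.stalk St.pt₀) :=
    StructureSheaf.stalkAlgebra (↑St.B) St.pt₀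
  haveI : IsLocalization.AtPrime (↑((Spec St.B).presheaf.stalk St.pt₀)) St.pt₀.asIdeal :=
    StructureSheaf.IsLocalization.to_stalk St.B St.pt₀
  rw [← IsLocalization.AtPrime.map_eq_maximalIdeal St.pt₀.asIdeal
    ((Spec St.B).presheaf.stalk St.pt₀), Ideal.map_map, ← St.map_θ_pt₀ hp]
  congr 1
  apply RingHom.ext
  intro b
  exact St.lift_toStalk hp b

/-- the etale local ring at a geometric point is Noetherian as soon as the local rings of all
stages are. -/
theorem isNoetherianRing_of_forall_stage
    (hN : ∀ St : Stage p, IsNoetherianRing ((Spec St.B).presheaf.stalk St.pt₀)) :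
    IsNoetherianRing (OEtStalk p) := by
  haveI := isLocalRing hp
  haveI : Nonempty (Stage p) := nonempty_stage hp
  haveI : ∀ St : Stage p, IsLocalRing (ULift.{u + 1} ((Spec St.B).presheaf.stalk St.pt₀)) :=
    fun St => (ULift.ringEquiv (R := (Spec St.B).presheaf.stalk St.pt₀)).symm.isLocalRing
  haveI : ∀ St : Stage p, IsNoetherianRing (ULift.{u + 1} ((Spec St.B).presheaf.stalk St.pt₀)) :=
    fun St =>
      haveI := hN St
      isNoetherianRing_of_ringEquiv _
        (ULift.ringEquiv (R := (Spec St.B).presheaf.stalk St.pt₀)).symm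
  refine Groth.Agent.Lib.Helper3.NoethColim.isNoetherianRing_of_stages
    (fun St : Stage p => ULift.{u + 1} ((Spec St.B).presheaf.stalk St.pt₀))
    (fun St => (St.lift hp).comp
      (ULift.ringEquiv (R := (Spec St.B).presheaf.stalk St.pt₀)).toRingHom) ?_ ?_ ?_
  · intro l f
    classical
    obtain ⟨St, hS⟩ := exists_rep_finset hp (Finset.univ.image f)
    have hb : ∀ i, ∃ b : St.B, St.θ hp b = f i :=
      fun i => hS (f i) (Finset.mem_image_of_mem f (Finset.mem_univ i))
    choose b hb using hb
    refine ⟨St, fun k => ULift.up (St.toStalk (b k)), fun k => ?_⟩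
    change St.lift hp (St.toStalk (b k)) = f k
    rw [St.lift_toStalk hp, hb]
  · intro St
    letI algA'R : Algebra (ULift.{u + 1} ((Spec St.B).presheaf.stalk St.pt₀)) (OEtStalk p) :=
      ((St.lift hp).comp
        (ULift.ringEquiv (R := (Spec St.B).presheaf.stalk St.pt₀)).toRingHom).toAlgebra
    letI algAR : Algebra ((Spec St.B).presheaf.stalk St.pt₀) (OEtStalk p) :=
      (St.lift hp).toAlgebra
    letI algA'A : Algebra (ULift.{u + 1} ((Spec St.B).presheaf.stalk St.pt₀))
        ((Spec St.B).presheaf.stalk St.pt₀) :=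
      (ULift.ringEquiv (R := (Spec St.B).presheaf.stalk St.pt₀)).toRingHom.toAlgebra
    have tower := @IsScalarTower.of_algebraMap_eq
      (ULift.{u + 1} ((Spec St.B).presheaf.stalk St.pt₀))
      ((Spec St.B).presheaf.stalk St.pt₀) (OEtStalk p) _ _ _ algA'A algAR algA'R (fun x => rfl)
    have flat1 : @Module.Flat (ULift.{u + 1} ((Spec St.B).presheaf.stalk St.pt₀))
        ((Spec St.B).presheaf.stalk St.pt₀) _ _ algA'A.toModule :=
      (RingHom.Flat.of_bijective
        (f := (ULift.ringEquiv (R := (Spec St.B).presheaf.stalk St.pt₀)).toRingHom)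
        (ULift.ringEquiv (R := (Spec St.B).presheaf.stalk St.pt₀)).bijective :)
    have flat2 : @Module.Flat ((Spec St.B).presheaf.stalk St.pt₀) (OEtStalk p) _ _
        algAR.toModule := St.flat_lift hp
    exact @Module.Flat.trans (ULift.{u + 1} ((Spec St.B).presheaf.stalk St.pt₀))
      ((Spec St.B).presheaf.stalk St.pt₀) (OEtStalk p) _ _ algA'A _ algA'R.toModule
      algAR.toModule tower flat1 flat2
  · intro St
    rw [← Ideal.map_map]
    have h1 : Ideal.map (ULift.ringEquiv (R := (Spec St.B).presheaf.stalk St.pt₀)).toRingHom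
        (IsLocalRing.maximalIdeal (ULift.{u + 1} ((Spec St.B).presheaf.stalk St.pt₀))) =
        IsLocalRing.maximalIdeal ((Spec St.B).presheaf.stalk St.pt₀) :=
      IsLocalRing.map_ringEquiv_maximalIdeal _
    rw [h1]
    exact St.map_lift_maximalIdeal hp

/-- the etale local ring of a locally Noetherian algebraic space at a geometric point is
Noetherian. -/
theorem isNoetherianRing (hX : AlgSp.IsLocNoethSp X.obj) : IsNoetherianRing (OEtStalk p) := by
  apply isNoetherianRing_of_forall_stage hp
  intro St
  haveI : IsLocallyNoetherian (Spec St.B) :=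
    Groth.Agent.R2.H45.HasAtMor.isLocallyNoetherian_of_chart hX St.c St.et
  infer_instance

end Groth.Agent.R2.H45.OEtStalk
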