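import Mathlib
import Groth.Agent.R2.H45OEtStalk5
import Groth.Agent.Lib.LeadEtaleRegular

/-!
# Regularity and the etale local ring (helper45)
-/

set_option autoImplicit false
set_option linter.style.haveILetI false
universe u
open CategoryTheory CategoryTheory.Limits AlgebraicGeometry Opposite

namespace Groth.Agent.R2.H45.OEtStalk

open AlgSp

/-- Noetherianity of the local ring is an etale invariant property of pointed schemes. -/
lemma etInv_isNoetherianRing_stalk :
    Groth.Agent.R2.H45.HasAt.EtInv
      (fun (U : Scheme.{u}) (u : ↥U) => IsNoetherianRing (U.presheaf.stalk u)) := by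
  intro W U g _ w
  change IsNoetherianRing (W.presheaf.stalk w) ↔ IsNoetherianRing (U.presheaf.stalk (g w))
  have hfl : (g.stalkMap w).hom.Flat := Flat.stalkMap g w
  have hloc : IsLocalHom (g.stalkMap w).hom := inferInstance
  have hft : (g.stalkMap w).hom.EssFiniteType := LocallyOfFiniteType.stalkMap g w
  algebraize [(g.stalkMap w).hom]
  haveI : IsLocalHom (algebraMap (U.presheaf.stalk (g w)) (W.presheaf.stalk w)) := hloc
  haveI : Module.FaithfullyFlat (U.presheaf.stalk (g w)) (W.presheaf.stalk w) :=
    Module.FaithfullyFlat.of_flat_of_isLocalHom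
  constructor
  · intro h
    exact Groth.Agent.Lib.Helper3.NoethColim.isNoetherianRing_of_faithfullyFlat
      (U.presheaf.stalk (g w)) (W.presheaf.stalk w)
  · intro h
    exact Algebra.EssFiniteType.isNoetherianRing (U.presheaf.stalk (g w)) (W.presheaf.stalk w)

/-- regularity of the local ring is an etale invariant property of pointed schemes. -/
lemma etInv_isRegularLocalRing_stalk :
    Groth.Agent.R2.H45.HasAt.EtInv
      (fun (U : Scheme.{u}) (u : ↥U) => IsRegularLocalRing (U.presheaf.stalk u)) := by
  intro W U g _ w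
  change IsRegularLocalRing (W.presheaf.stalk w) ↔ IsRegularLocalRing (U.presheaf.stalk (g w))
  have hN := etInv_isNoetherianRing_stalk g w
  change IsNoetherianRing (W.presheaf.stalk w) ↔ IsNoetherianRing (U.presheaf.stalk (g w)) at hN
  have hdim := Groth.Agent.R2.H45.Dim.ringKrullDim_stalk_eq_of_etale g w
  have hfl : (g.stalkMap w).hom.Flat := Flat.stalkMap g w
  have hloc : IsLocalHom (g.stalkMap w).hom := inferInstance
  have hft : (g.stalkMap w).hom.EssFiniteType := LocallyOfFiniteType.stalkMap g w
  have hun : (g.stalkMap w).hom.FormallyUnramified := FormallyUnramified.stalkMap g w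
  algebraize [(g.stalkMap w).hom]
  haveI : IsLocalHom (algebraMap (U.presheaf.stalk (g w)) (W.presheaf.stalk w)) := hloc
  haveI : Module.FaithfullyFlat (U.presheaf.stalk (g w)) (W.presheaf.stalk w) :=
    Module.FaithfullyFlat.of_flat_of_isLocalHom
  have hmax : (IsLocalRing.maximalIdeal (U.presheaf.stalk (g w))).map
      (algebraMap (U.presheaf.stalk (g w)) (W.presheaf.stalk w)) =
      IsLocalRing.maximalIdeal (W.presheaf.stalk w) :=
    Algebra.FormallyUnramified.map_maximalIdeal
  constructor
  · intro h
    haveI : IsNoetherianRing (W.presheaf.stalk w) := inferInstance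
    haveI : IsNoetherianRing (U.presheaf.stalk (g w)) := hN.1 inferInstance
    exact (Groth.Agent.Lib.LeadEtaleRegular.isRegularLocalRing_iff_of_faithfullyFlat
      (U.presheaf.stalk (g w)) (W.presheaf.stalk w) hmax hdim).1 h
  · intro h
    haveI : IsNoetherianRing (U.presheaf.stalk (g w)) := inferInstance
    haveI : IsNoetherianRing (W.presheaf.stalk w) := hN.2 inferInstance
    exact (Groth.Agent.Lib.LeadEtaleRegular.isRegularLocalRing_iff_of_faithfullyFlat
      (U.presheaf.stalk (g w)) (W.presheaf.stalk w) hmax hdim).2 h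

variable {S : Scheme.{u}} {X : AlgSp.Space S} {p : AlgSp.FieldPt X.obj} (hp : p.IsGeometric)

/-- an etale invariant property holds at all stages as soon as it holds at one. -/
lemma Stage.of_etInv {Q : ∀ U : Scheme.{u}, ↥U → Prop} (hQ : Groth.Agent.R2.H45.HasAt.EtInv Q)
    (St St' : Stage p) (h : Q (Spec St.B) St.pt₀) : Q (Spec St'.B) St'.pt₀ := by
  have h1 := (Groth.Agent.R2.H45.HasAt.hasAt_iff_of_chart hQ St.c St.et St.pt₀).2 h
  rw [St.ofPt_pt₀, ← St'.ofPt_pt₀] at h1
  exact (Groth.Agent.R2.H45.HasAt.hasAt_iff_of_chart hQ St'.c St'.et St'.pt₀).1 h1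

include hp

/-- the local ring of a stage is Noetherian iff the etale local ring is. -/
theorem Stage.isNoetherianRing_iff (St : Stage p) :
    IsNoetherianRing ((Spec St.B).presheaf.stalk St.pt₀) ↔ IsNoetherianRing (OEtStalk p) := by
  constructor
  · intro h
    exact isNoetherianRing_of_forall_stage hp
      (fun St' => Stage.of_etInv etInv_isNoetherianRing_stalk St St' h)
  · intro h
    letI : Algebra ↑((Spec St.B).presheaf.stalk St.pt₀) (OEtStalk p) := (St.lift hp).toAlgebra
    haveI : Module.Flat ((Spec St.B).presheaf.stalk St.pt₀) (OEtStalk p) := St.flat_lift hp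
    haveI := isLocalRing hp
    haveI : IsLocalHom (algebraMap ((Spec St.B).presheaf.stalk St.pt₀) (OEtStalk p)) :=
      St.isLocalHom_lift hp
    haveI : Module.FaithfullyFlat ((Spec St.B).presheaf.stalk St.pt₀) (OEtStalk p) :=
      Module.FaithfullyFlat.of_flat_of_isLocalHom
    exact Groth.Agent.Lib.Helper3.NoethColim.isNoetherianRing_of_faithfullyFlat
      ((Spec St.B).presheaf.stalk St.pt₀) (OEtStalk p)

/-- the local ring of a stage is regular iff the etale local ring is. -/
theorem Stage.isRegularLocalRing_iff (St : Stage p) :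
    IsRegularLocalRing ((Spec St.B).presheaf.stalk St.pt₀) ↔
      IsRegularLocalRing (OEtStalk p) := by
  have hN := St.isNoetherianRing_iff hp
  letI : Algebra ↑((Spec St.B).presheaf.stalk St.pt₀) (OEtStalk p) := (St.lift hp).toAlgebra
  haveI : Module.Flat ((Spec St.B).presheaf.stalk St.pt₀) (OEtStalk p) := St.flat_lift hp
  haveI := isLocalRing hp
  haveI : IsLocalHom (algebraMap ((Spec St.B).presheaf.stalk St.pt₀) (OEtStalk p)) :=
    St.isLocalHom_lift hp
  haveI : Module.FaithfullyFlat ((Spec St.B).presheaf.stalk St.pt₀) (OEtStalk p) :=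
    Module.FaithfullyFlat.of_flat_of_isLocalHom
  have hmax : (IsLocalRing.maximalIdeal ((Spec St.B).presheaf.stalk St.pt₀)).map
      (algebraMap ((Spec St.B).presheaf.stalk St.pt₀) (OEtStalk p)) =
      IsLocalRing.maximalIdeal (OEtStalk p) := St.map_lift_maximalIdeal hp
  have hdim := ringKrullDim_eq_stage hp St
  constructor
  · intro h
    haveI : IsNoetherianRing ((Spec St.B).presheaf.stalk St.pt₀) := inferInstance
    haveI : IsNoetherianRing (OEtStalk p) := hN.1 inferInstance
    exact (Groth.Agent.Lib.LeadEtaleRegular.isRegularLocalRing_iff_of_faithfullyFlat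
      ((Spec St.B).presheaf.stalk St.pt₀) (OEtStalk p) hmax hdim).2 h
  · intro h
    haveI : IsNoetherianRing (OEtStalk p) := inferInstance
    haveI : IsNoetherianRing ((Spec St.B).presheaf.stalk St.pt₀) := hN.2 inferInstance
    exact (Groth.Agent.Lib.LeadEtaleRegular.isRegularLocalRing_iff_of_faithfullyFlat
      ((Spec St.B).presheaf.stalk St.pt₀) (OEtStalk p) hmax hdim).1 h

/-- `X` is regular at the image of a geometric point iff the etale local ring is regular. -/
theorem hasAt_isRegularLocalRing_iff :
    AlgSp.HasAt (fun U u => IsRegularLocalRing ↥(U.presheaf.stalk u)) X.obj (AlgSp.Points.mk p) ↔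
      IsRegularLocalRing ↥(AlgSp.OEtStalk p) := by
  obtain ⟨St⟩ := nonempty_stage hp
  rw [← St.ofPt_pt₀, Groth.Agent.R2.H45.HasAt.hasAt_iff_of_chart etInv_isRegularLocalRing_stalk
    St.c St.et St.pt₀]
  exact St.isRegularLocalRing_iff hp

end Groth.Agent.R2.H45.OEtStalk
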