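import Mathlib
import Groth.Agent.R2.H45OEtStalk6
import Groth.Agent.R2.H45MinCount

/-!
# Counting minimal primes of the etale local ring (helper45)
-/

set_option autoImplicit false
set_option linter.style.haveILetI false
universe u
open CategoryTheory CategoryTheory.Limits AlgebraicGeometry Opposite

namespace Groth.Agent.R2.H45.OEtStalk

open AlgSp Groth.Agent.R2.H45.MinCount

/-- a flat morphism of schemes does not decrease the number of minimal primes of the local
rings. -/
lemma encard_minimalPrimes_stalk_le_of_flat {W U : Scheme.{u}} (g : W ⟶ U) [Flat g] (w : W) :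
    (minimalPrimes (U.presheaf.stalk (g w))).encard ≤
      (minimalPrimes (W.presheaf.stalk w)).encard := by
  have hfl : (g.stalkMap w).hom.Flat := Flat.stalkMap g w
  have hloc : IsLocalHom (g.stalkMap w).hom := inferInstance
  apply encard_minimalPrimes_le_of_surjective (g.stalkMap w).hom
  algebraize [(g.stalkMap w).hom]
  haveI : IsLocalHom (algebraMap (U.presheaf.stalk (g w)) (W.presheaf.stalk w)) := hloc
  haveI : Module.FaithfullyFlat (U.presheaf.stalk (g w)) (W.presheaf.stalk w) :=
    Module.FaithfullyFlat.of_flat_of_isLocalHom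
  exact PrimeSpectrum.comap_surjective_of_faithfullyFlat
    (A := U.presheaf.stalk (g w)) (B := W.presheaf.stalk w)

variable {S : Scheme.{u}} {X : AlgSp.Space S} {p : AlgSp.FieldPt X.obj} (hp : p.IsGeometric)

include hp

/-- the local ring of a stage has at most as many minimal primes as the etale local ring. -/
theorem Stage.encard_minimalPrimes_le (St : Stage p) :
    (minimalPrimes ((Spec St.B).presheaf.stalk St.pt₀)).encard ≤
      (minimalPrimes (OEtStalk p)).encard := by
  apply encard_minimalPrimes_le_of_surjective (St.lift hp)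
  letI : Algebra ↑((Spec St.B).presheaf.stalk St.pt₀) (OEtStalk p) := (St.lift hp).toAlgebra
  haveI : Module.Flat ((Spec St.B).presheaf.stalk St.pt₀) (OEtStalk p) := St.flat_lift hp
  haveI := isLocalRing hp
  haveI : IsLocalHom (algebraMap ((Spec St.B).presheaf.stalk St.pt₀) (OEtStalk p)) :=
    St.isLocalHom_lift hp
  haveI : Module.FaithfullyFlat ((Spec St.B).presheaf.stalk St.pt₀) (OEtStalk p) :=
    Module.FaithfullyFlat.of_flat_of_isLocalHom
  exact PrimeSpectrum.comap_surjective_of_faithfullyFlat
    (A := (Spec St.B).presheaf.stalk St.pt₀) (B := OEtStalk p)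

/-- finitely many minimal primes of the etale local ring are visible on a stage. -/
theorem exists_stage_le_encard_minimalPrimes (m : ℕ)
    (hm : (m : ℕ∞) ≤ (minimalPrimes (OEtStalk p)).encard) :
    ∃ St : Stage p,
      (m : ℕ∞) ≤ (minimalPrimes ((Spec St.B).presheaf.stalk St.pt₀)).encard := by
  classical
  obtain ⟨P, hP, x, hx⟩ := exists_separators m hm
  obtain ⟨St, hS⟩ := exists_rep_finset hp
    (Finset.univ.image (fun jk : Fin m × Fin m => x jk.1 jk.2))
  have hb : ∀ jk : Fin m × Fin m, ∃ b : St.B, St.θ hp b = x jk.1 jk.2 :=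
    fun jk => hS _ (Finset.mem_image_of_mem _ (Finset.mem_univ jk))
  choose b hb using hb
  refine ⟨St, le_encard_minimalPrimes_of_separated (St.lift hp) ?_ m P hP
    (fun j k => St.toStalk (b (j, k))) ?_ ?_⟩
  · letI : Algebra ↑((Spec St.B).presheaf.stalk St.pt₀) (OEtStalk p) := (St.lift hp).toAlgebra
    haveI : Module.Flat ((Spec St.B).presheaf.stalk St.pt₀) (OEtStalk p) := St.flat_lift hp
    exact Algebra.HasGoingDown.of_flat
  · intro j k hjk
    rw [St.lift_toStalk hp, hb]
    exact (hx j k hjk).1
  · intro j k hjk
    rw [St.lift_toStalk hp, hb]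
    exact (hx j k hjk).2

end Groth.Agent.R2.H45.OEtStalk
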