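import Mathlib
import Groth.Agent.S9470
import Groth.Agent.S2135
import Groth.Agent.S2052
import Groth.Agent.Lib.Helper3IndEtHz
import Groth.Agent.Lib.Helper3IndEtComp
import Groth.Agent.Lib.Helper3Branch

/-!
# Geometric unibranchness from etale neighbourhoods (helper45)

If the local rings of all etale neighbourhoods of a point `y` of a scheme have prime nilradical
(a unique minimal prime), then the strict henselization of `O_{Y,y}` has prime nilradical, hence
`O_{Y,y}` is geometrically unibranch.  A zero divisor pair modulo nilpotents in the strict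
henselization is already visible on an etale algebra over an affine neighbourhood (ind-etale
factorisation), and this needs no flatness.
-/

set_option autoImplicit false
set_option linter.style.haveILetI false
universe u

namespace Groth.Agent.R2.H45.ShMinPrime

open IsLocalRing AlgebraicGeometry CategoryTheory Opposite
open Groth.Agent.Lib.Helper3.IndEt

theorem isPrime_nilradical_sh_of_forall_etale {Y : Scheme.{u}} (y : Y)
    (H : ∀ (V : Scheme.{u}) (j : V ⟶ Y) (v : V), Etale j → j v = y →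
      (nilradical (V.presheaf.stalk v)).IsPrime)
    (Ash : Type u) [CommRing Ash] [IsLocalRing Ash] [Algebra (Y.presheaf.stalk y) Ash]
    [IsLocalHom (algebraMap (Y.presheaf.stalk y) Ash)]
    [Hensel.IsStrictHenselization (Y.presheaf.stalk y) Ash] :
    (nilradical Ash).IsPrime := by
  classical
  obtain ⟨W₀, hW₀, hy, -⟩ := exists_isAffineOpen_mem_and_subset (x := y) (U := ⊤) trivial
  letI algA := Y.presheaf.algebra_section_stalk ⟨y, hy⟩
  haveI hloc := hW₀.isLocalization_stalk ⟨y, hy⟩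
  letI algR : Algebra Γ(Y, W₀) Ash :=
    ((algebraMap ↥(Y.presheaf.stalk y) Ash).comp
      (algebraMap Γ(Y, W₀) ↥(Y.presheaf.stalk y))).toAlgebra
  haveI : IsScalarTower Γ(Y, W₀) ↥(Y.presheaf.stalk y) Ash :=
    IsScalarTower.of_algebraMap_eq (fun _ => rfl)
  have hF : Obj.Factor Γ(Y, W₀) Ash :=
    factor_of_isIndEtale (isIndEtale_comp Γ(Y, W₀) ↥(Y.presheaf.stalk y) Ash
      (isIndEtale_of_factor (Groth.Agent.S9470.factor_localization Γ(Y, W₀)
        (hW₀.primeIdealOf ⟨y, hy⟩).asIdeal.primeCompl ↥(Y.presheaf.stalk y)))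
      (isIndEtale_of_isStrictHenselization ↥(Y.presheaf.stalk y) Ash))
  rw [Ideal.isPrime_iff]
  constructor
  · intro htop
    have h1 : (1 : Ash) ∈ nilradical Ash := by rw [htop]; trivial
    obtain ⟨n, hn⟩ := mem_nilradical.1 h1
    rw [one_pow] at hn
    exact one_ne_zero hn
  intro x z hxz
  by_contra hcon
  rw [not_or] at hcon
  obtain ⟨n, hn⟩ := mem_nilradical.1 hxz
  -- the finitely presented algebra
  let I : Ideal (MvPolynomial (Fin 2) Γ(Y, W₀)) :=
    Ideal.span {(MvPolynomial.X 0 * MvPolynomial.X 1) ^ n}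
  haveI : Algebra.FinitePresentation Γ(Y, W₀) (MvPolynomial (Fin 2) Γ(Y, W₀) ⧸ I) :=
    Algebra.FinitePresentation.quotient ⟨{(MvPolynomial.X 0 * MvPolynomial.X 1) ^ n}, by simp [I]⟩
  let ψ₀ : MvPolynomial (Fin 2) Γ(Y, W₀) →ₐ[Γ(Y, W₀)] Ash := MvPolynomial.aeval ![x, z]
  have hψ₀ : ∀ a ∈ I, ψ₀ a = 0 := by
    intro a ha
    have hle : I ≤ RingHom.ker ψ₀.toRingHom := by
      rw [Ideal.span_le]
      intro b hb
      rw [Set.mem_singleton_iff] at hb
      subst hb
      show ψ₀ ((MvPolynomial.X 0 * MvPolynomial.X 1) ^ n) = 0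
      rw [map_pow, map_mul, MvPolynomial.aeval_X, MvPolynomial.aeval_X]
      exact hn
    exact hle ha
  let ψ : (MvPolynomial (Fin 2) Γ(Y, W₀) ⧸ I) →ₐ[Γ(Y, W₀)] Ash := Ideal.Quotient.liftₐ I ψ₀ hψ₀
  obtain ⟨E, _, _, hEt, f, g, hfg⟩ := hF (MvPolynomial (Fin 2) Γ(Y, W₀) ⧸ I) ψ
  let x' : E := f (Ideal.Quotient.mk I (MvPolynomial.X 0))
  let z' : E := f (Ideal.Quotient.mk I (MvPolynomial.X 1))
  have hx' : g x' = x := by
    have := congrArg (fun t => t (Ideal.Quotient.mk I (MvPolynomial.X 0))) hfg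
    simpa [ψ, ψ₀] using this
  have hz' : g z' = z := by
    have := congrArg (fun t => t (Ideal.Quotient.mk I (MvPolynomial.X 1))) hfg
    simpa [ψ, ψ₀] using this
  have hxz' : (x' * z') ^ n = 0 := by
    have h0 : Ideal.Quotient.mk I ((MvPolynomial.X 0 * MvPolynomial.X 1) ^ n) = 0 :=
      Ideal.Quotient.eq_zero_iff_mem.2 (Ideal.subset_span rfl)
    show (f _ * f _) ^ n = 0
    rw [← map_mul, ← map_pow, ← map_mul, ← map_pow, h0, map_zero]
  -- the scheme `Spec E` over `Y`
  let ψE : Γ(Y, W₀) ⟶ CommRingCat.of E := CommRingCat.ofHom (algebraMap Γ(Y, W₀) E)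
  let j : Spec (CommRingCat.of E) ⟶ Y := Spec.map ψE ≫ hW₀.fromSpec
  haveI : Etale (Spec.map ψE) := by
    rw [HasRingHomProperty.Spec_iff (P := @Etale)]
    exact RingHom.etale_algebraMap.mpr hEt
  haveI hj : Etale j := inferInstanceAs (Etale (Spec.map ψE ≫ hW₀.fromSpec))
  -- the point
  let 𝔫 : Ideal E := (maximalIdeal Ash).comap g.toRingHom
  haveI : 𝔫.IsPrime := Ideal.comap_isPrime _ _
  let v : Spec (CommRingCat.of E) := ⟨𝔫, inferInstance⟩
  have hjv : j v = y := by
    have h1 : (Spec.map ψE) v = hW₀.primeIdealOf ⟨y, hy⟩ := by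
      apply PrimeSpectrum.ext
      change Ideal.comap (algebraMap Γ(Y, W₀) E) 𝔫 = _
      have e1 : Ideal.comap (algebraMap Γ(Y, W₀) E) 𝔫 =
          Ideal.comap (algebraMap Γ(Y, W₀) Ash) (maximalIdeal Ash) := by
        ext a
        simp only [𝔫, Ideal.mem_comap]
        change g (algebraMap Γ(Y, W₀) E a) ∈ _ ↔ _
        rw [g.commutes]
      rw [e1]
      have e2 : Ideal.comap (algebraMap Γ(Y, W₀) Ash) (maximalIdeal Ash) =
          Ideal.comap (algebraMap Γ(Y, W₀) ↥(Y.presheaf.stalk y))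
            (Ideal.comap (algebraMap ↥(Y.presheaf.stalk y) Ash) (maximalIdeal Ash)) := rfl
      have hlh : IsLocalHom (algebraMap ↥(Y.presheaf.stalk y) Ash) := inferInstance
      have e3 : Ideal.comap (algebraMap ↥(Y.presheaf.stalk y) Ash) (maximalIdeal Ash) =
          maximalIdeal ↥(Y.presheaf.stalk y) :=
        ((local_hom_TFAE (algebraMap ↥(Y.presheaf.stalk y) Ash)).out 0 4 rfl rfl).mp hlh
      rw [e2, e3]
      exact IsLocalization.AtPrime.comap_maximalIdeal ↥(Y.presheaf.stalk y)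
        (hW₀.primeIdealOf ⟨y, hy⟩).asIdeal
    change hW₀.fromSpec ((Spec.map ψE) v) = y
    rw [h1]
    exact hW₀.fromSpec_primeIdealOf ⟨y, hy⟩
  have hprime := H _ j v hj hjv
  letI : Algebra E ↑((Spec (CommRingCat.of E)).presheaf.stalk v) :=
    StructureSheaf.stalkAlgebra E v
  haveI : IsLocalization.AtPrime (↑((Spec (CommRingCat.of E)).presheaf.stalk v)) 𝔫 :=
    StructureSheaf.IsLocalization.to_stalk (CommRingCat.of E) v
  have h2 : algebraMap E ((Spec (CommRingCat.of E)).presheaf.stalk v) x' *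
      algebraMap E ((Spec (CommRingCat.of E)).presheaf.stalk v) z' ∈
      nilradical ((Spec (CommRingCat.of E)).presheaf.stalk v) :=
    mem_nilradical.2 ⟨n, by rw [← map_mul, ← map_pow, hxz', map_zero]⟩
  have key : ∀ (w' : E) (w : Ash), g w' = w →
      algebraMap E ((Spec (CommRingCat.of E)).presheaf.stalk v) w' ∈
        nilradical ((Spec (CommRingCat.of E)).presheaf.stalk v) → w ∈ nilradical Ash := by
    intro w' w hw h3
    obtain ⟨m, hm⟩ := mem_nilradical.1 h3
    rw [← map_pow] at hm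
    obtain ⟨s, hs⟩ := (IsLocalization.map_eq_zero_iff 𝔫.primeCompl _ _).1 hm
    have h4 : g s.1 * w ^ m = 0 := by rw [← hw, ← map_pow, ← map_mul, hs, map_zero]
    have hu : IsUnit (g s.1) := by
      by_contra hnu
      exact s.2 (Ideal.mem_comap.2 ((mem_maximalIdeal _).2 hnu))
    exact mem_nilradical.2 ⟨m, hu.mul_right_eq_zero.1 h4⟩
  rcases hprime.mem_or_mem h2 with h3 | h3
  · exact hcon.1 (key x' x hx' h3)
  · exact hcon.2 (key z' z hz' h3)

/-- **Geometric unibranchness from etale neighbourhoods.** -/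
theorem isGeomUnibranch_of_forall_etale {Y : Scheme.{u}} (y : Y)
    (H : ∀ (V : Scheme.{u}) (j : V ⟶ Y) (v : V), Etale j → j v = y →
      (nilradical (V.presheaf.stalk v)).IsPrime) :
    CAlg2.IsGeomUnibranch (Y.presheaf.stalk y) := by
  obtain ⟨Ash, _, _, _, _, hAsh⟩ :=
    Groth.Agent.Lib.Helper3.Branch.exists_isStrictHenselization (Y.presheaf.stalk y)
  rw [Groth.Agent.S2135.result (A := Y.presheaf.stalk y) (Ash := Ash)]
  exact Groth.Agent.S2052.hasUniqueMinimalPrime_of_isPrime_nilradical Ash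
    (isPrime_nilradical_sh_of_forall_etale y H Ash)

end Groth.Agent.R2.H45.ShMinPrime
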