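import Mathlib
import Groth.Agent.R2.H45MinCount
import Groth.Agent.R2.H45ShMinPrime
import Groth.Agent.Lib.Helper26HzNoeth
import Groth.Agent.Lib.Helper3HzP
import Groth.Agent.Lib.Helper3HenselA
import Groth.Agent.Lib.Helper3EtGUSchB

/-!
# Counting minimal primes of the strict henselization through etale neighbourhoods (helper45)
-/

set_option autoImplicit false
set_option linter.style.haveILetI false
universe u

namespace Groth.Agent.R2.H45.ShMinCount

open IsLocalRing Groth.Agent.R2.H45.MinCount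

section LemmaL

variable {R A T L : Type u} [CommRing R] [CommRing A] [CommRing T] [CommRing L] [IsLocalRing T]
  [Algebra R A] [Algebra R T] [Algebra.Etale R A] [Module.Flat R T]
  (f : A →ₐ[R] T) (q : Ideal A) [q.IsPrime] (hq : (maximalIdeal T).comap f.toRingHom = q)
  [Algebra A L] [IsLocalization.AtPrime L q]

include hq in
lemma isUnit_of_notMem (s : q.primeCompl) : IsUnit (f.toRingHom s) := by
  by_contra hnu
  apply s.2
  have h1 : s.1 ∈ (maximalIdeal T).comap f.toRingHom :=
    Ideal.mem_comap.2 ((mem_maximalIdeal _).2 hnu)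
  rw [hq] at h1
  exact h1

/-- the induced map from the localization at the contraction of the maximal ideal. -/
noncomputable def locMap : L →+* T :=
  IsLocalization.lift (M := q.primeCompl) (g := f.toRingHom) (isUnit_of_notMem f q hq)

lemma locMap_algebraMap (a : A) : locMap (L := L) f q hq (algebraMap A L a) = f a :=
  IsLocalization.lift_eq (M := q.primeCompl) _ a

lemma flat_locMap : (locMap (L := L) f q hq).Flat := by
  have hfl : f.toRingHom.Flat := Groth.Agent.Lib.Helper26.HzNoeth.ringHom_flat_of_unramified f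
  letI algAT : Algebra A T := f.toRingHom.toAlgebra
  letI algLT : Algebra L T := (locMap (L := L) f q hq).toAlgebra
  haveI : IsScalarTower A L T :=
    IsScalarTower.of_algebraMap_eq (fun a => (locMap_algebraMap f q hq a).symm)
  have h1 : Module.Flat A T := hfl
  exact (Module.flat_iff_of_isLocalization (R := A) L q.primeCompl T).2 h1

lemma isLocalHom_locMap :
    haveI := IsLocalization.AtPrime.isLocalRing L q
    IsLocalHom (locMap (L := L) f q hq) := by
  haveI := IsLocalization.AtPrime.isLocalRing L q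
  constructor
  intro x hx
  obtain ⟨⟨a, s⟩, hxs⟩ := IsLocalization.surj q.primeCompl x
  have h1 : locMap (L := L) f q hq x * f s.1 = f a := by
    rw [← locMap_algebraMap (L := L) f q hq s.1, ← map_mul, hxs, locMap_algebraMap]
  have h2 : IsUnit (f a) := by
    rw [← h1]
    exact hx.mul (isUnit_of_notMem f q hq s)
  have h3 : a ∉ q := by
    intro ha
    rw [← hq] at ha
    exact (mem_maximalIdeal _).1 (Ideal.mem_comap.1 ha) h2
  have h4 : IsUnit (algebraMap A L a) :=
    IsLocalization.map_units (M := q.primeCompl) L ⟨a, h3⟩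
  rw [← hxs] at h4
  exact isUnit_of_mul_isUnit_left h4

lemma comap_locMap_surjective :
    Function.Surjective (PrimeSpectrum.comap (locMap (L := L) f q hq)) := by
  haveI := IsLocalization.AtPrime.isLocalRing L q
  have hfl := flat_locMap (L := L) f q hq
  letI algLT : Algebra L T := (locMap (L := L) f q hq).toAlgebra
  haveI : Module.Flat L T := hfl
  haveI : IsLocalHom (algebraMap L T) := isLocalHom_locMap f q hq
  haveI : Module.FaithfullyFlat L T := Module.FaithfullyFlat.of_flat_of_isLocalHom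
  exact PrimeSpectrum.comap_surjective_of_faithfullyFlat (A := L) (B := T)

include f q hq in
/-- (II) -/
theorem encard_minimalPrimes_le :
    (minimalPrimes L).encard ≤ (minimalPrimes T).encard :=
  encard_minimalPrimes_le_of_surjective _ (comap_locMap_surjective (L := L) f q hq)

include q hq in
/-- (I) -/
theorem le_encard_of_separated (m : ℕ) (P : Fin m → Ideal T)
    (hP : ∀ j, P j ∈ minimalPrimes T) (z : Fin m → Fin m → A)
    (hz1 : ∀ j k, j ≠ k → f (z j k) ∈ P j) (hz2 : ∀ j k, j ≠ k → f (z j k) ∉ P k) :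
    (m : ℕ∞) ≤ (minimalPrimes L).encard := by
  refine le_encard_minimalPrimes_of_separated (locMap (L := L) f q hq) ?_ m P hP
    (fun j k => algebraMap A L (z j k)) ?_ ?_
  · have hfl := flat_locMap (L := L) f q hq
    letI algLT : Algebra L T := (locMap (L := L) f q hq).toAlgebra
    haveI : Module.Flat L T := hfl
    exact Algebra.HasGoingDown.of_flat
  · intro j k hjk
    rw [locMap_algebraMap]
    exact hz1 j k hjk
  · intro j k hjk
    rw [locMap_algebraMap]
    exact hz2 j k hjk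

end LemmaL

open AlgebraicGeometry CategoryTheory Opposite Groth.Agent.Lib.Helper3.IndEt

/-- the strict henselization of a local ring of a scheme is flat over the sections of an affine
neighbourhood. -/
lemma flat_sections_sh {Y : Scheme.{u}} (y : Y) {W₀ : Y.Opens} (hW₀ : IsAffineOpen W₀)
    (hy : y ∈ W₀) (Ash : Type u) [CommRing Ash] [IsLocalRing Ash]
    [Algebra (Y.presheaf.stalk y) Ash] [IsLocalHom (algebraMap (Y.presheaf.stalk y) Ash)]
    [Hensel.IsStrictHenselization (Y.presheaf.stalk y) Ash] :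
    letI algA := Y.presheaf.algebra_section_stalk ⟨y, hy⟩
    letI algR : Algebra Γ(Y, W₀) Ash :=
      ((algebraMap ↥(Y.presheaf.stalk y) Ash).comp
        (algebraMap Γ(Y, W₀) ↥(Y.presheaf.stalk y))).toAlgebra
    Module.Flat Γ(Y, W₀) Ash := by
  letI algA := Y.presheaf.algebra_section_stalk ⟨y, hy⟩
  haveI hloc := hW₀.isLocalization_stalk ⟨y, hy⟩
  letI algR : Algebra Γ(Y, W₀) Ash :=
    ((algebraMap ↥(Y.presheaf.stalk y) Ash).comp
      (algebraMap Γ(Y, W₀) ↥(Y.presheaf.stalk y))).toAlgebra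
  haveI : IsScalarTower Γ(Y, W₀) ↥(Y.presheaf.stalk y) Ash :=
    IsScalarTower.of_algebraMap_eq (fun _ => rfl)
  haveI : Module.Flat Γ(Y, W₀) ↥(Y.presheaf.stalk y) :=
    IsLocalization.flat _ (hW₀.primeIdealOf ⟨y, hy⟩).asIdeal.primeCompl
  haveI : Module.FaithfullyFlat ↥(Y.presheaf.stalk y) Ash :=
    Groth.Agent.Lib.Helper3.HzP.sh_faithfullyFlat _ _
  exact Module.Flat.trans Γ(Y, W₀) ↥(Y.presheaf.stalk y) Ash

/-- (I): finitely many minimal primes of the strict henselization are visible on an etale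
neighbourhood. -/
theorem exists_etale_le_encard_sh {Y : Scheme.{u}} (y : Y)
    (Ash : Type u) [CommRing Ash] [IsLocalRing Ash] [Algebra (Y.presheaf.stalk y) Ash]
    [IsLocalHom (algebraMap (Y.presheaf.stalk y) Ash)]
    [Hensel.IsStrictHenselization (Y.presheaf.stalk y) Ash] (m : ℕ)
    (hm : (m : ℕ∞) ≤ (minimalPrimes Ash).encard) :
    ∃ (V : Scheme.{u}) (j : V ⟶ Y) (v : V), Etale j ∧ j v = y ∧
      (m : ℕ∞) ≤ (minimalPrimes (V.presheaf.stalk v)).encard := by
  classical
  obtain ⟨W₀, hW₀, hy, -⟩ := exists_isAffineOpen_mem_and_subset (x := y) (U := ⊤) trivial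
  letI algA := Y.presheaf.algebra_section_stalk ⟨y, hy⟩
  haveI hloc := hW₀.isLocalization_stalk ⟨y, hy⟩
  letI algR : Algebra Γ(Y, W₀) Ash :=
    ((algebraMap ↥(Y.presheaf.stalk y) Ash).comp
      (algebraMap Γ(Y, W₀) ↥(Y.presheaf.stalk y))).toAlgebra
  haveI : IsScalarTower Γ(Y, W₀) ↥(Y.presheaf.stalk y) Ash :=
    IsScalarTower.of_algebraMap_eq (fun _ => rfl)
  haveI hflat : Module.Flat Γ(Y, W₀) Ash := flat_sections_sh y hW₀ hy Ash
  have hF : Obj.Factor Γ(Y, W₀) Ash :=
    factor_of_isIndEtale (isIndEtale_comp Γ(Y, W₀) ↥(Y.presheaf.stalk y) Ash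
      (isIndEtale_of_factor (Groth.Agent.S9470.factor_localization Γ(Y, W₀)
        (hW₀.primeIdealOf ⟨y, hy⟩).asIdeal.primeCompl ↥(Y.presheaf.stalk y)))
      (isIndEtale_of_isStrictHenselization ↥(Y.presheaf.stalk y) Ash))
  obtain ⟨P, hP, x, hx⟩ := exists_separators m hm
  let ψ : MvPolynomial (Fin m × Fin m) Γ(Y, W₀) →ₐ[Γ(Y, W₀)] Ash :=
    MvPolynomial.aeval (fun jk : Fin m × Fin m => x jk.1 jk.2)
  obtain ⟨E, _, _, hEt, f, g, hfg⟩ := hF (MvPolynomial (Fin m × Fin m) Γ(Y, W₀)) ψ
  have hgx : ∀ j k, g (f (MvPolynomial.X (j, k))) = x j k := by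
    intro j k
    have := congrArg (fun t => t (MvPolynomial.X (j, k))) hfg
    simpa [ψ] using this
  -- the scheme `Spec E` over `Y`
  let ψE : Γ(Y, W₀) ⟶ CommRingCat.of E := CommRingCat.ofHom (algebraMap Γ(Y, W₀) E)
  let j : Spec (CommRingCat.of E) ⟶ Y := Spec.map ψE ≫ hW₀.fromSpec
  haveI : Etale (Spec.map ψE) := by
    rw [HasRingHomProperty.Spec_iff (P := @Etale)]
    exact RingHom.etale_algebraMap.mpr hEt
  haveI hj : Etale j := inferInstanceAs (Etale (Spec.map ψE ≫ hW₀.fromSpec))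
  -- the point
  let 𝔫 : Ideal E := (maximalIdeal Ash).comap g.toRingHom
  haveI : 𝔫.IsPrime := Ideal.comap_isPrime _ _
  let v : Spec (CommRingCat.of E) := ⟨𝔫, inferInstance⟩
  have hjv : j v = y := by
    have h1 : (Spec.map ψE) v = hW₀.primeIdealOf ⟨y, hy⟩ := by
      apply PrimeSpectrum.ext
      change Ideal.comap (algebraMap Γ(Y, W₀) E) 𝔫 = _
      have e1 : Ideal.comap (algebraMap Γ(Y, W₀) E) 𝔫 =
          Ideal.comap (algebraMap Γ(Y, W₀) Ash) (maximalIdeal Ash) := by
        ext a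
        simp only [𝔫, Ideal.mem_comap]
        change g (algebraMap Γ(Y, W₀) E a) ∈ _ ↔ _
        rw [g.commutes]
      rw [e1]
      have e2 : Ideal.comap (algebraMap Γ(Y, W₀) Ash) (maximalIdeal Ash) =
          Ideal.comap (algebraMap Γ(Y, W₀) ↥(Y.presheaf.stalk y))
            (Ideal.comap (algebraMap ↥(Y.presheaf.stalk y) Ash) (maximalIdeal Ash)) := rfl
      have hlh : IsLocalHom (algebraMap ↥(Y.presheaf.stalk y) Ash) := inferInstance
      have e3 : Ideal.comap (algebraMap ↥(Y.presheaf.stalk y) Ash) (maximalIdeal Ash) =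
          maximalIdeal ↥(Y.presheaf.stalk y) :=
        ((local_hom_TFAE (algebraMap ↥(Y.presheaf.stalk y) Ash)).out 0 4 rfl rfl).mp hlh
      rw [e2, e3]
      exact IsLocalization.AtPrime.comap_maximalIdeal ↥(Y.presheaf.stalk y)
        (hW₀.primeIdealOf ⟨y, hy⟩).asIdeal
    change hW₀.fromSpec ((Spec.map ψE) v) = y
    rw [h1]
    exact hW₀.fromSpec_primeIdealOf ⟨y, hy⟩
  letI : Algebra E ↑((Spec (CommRingCat.of E)).presheaf.stalk v) :=
    StructureSheaf.stalkAlgebra E v
  haveI : IsLocalization.AtPrime (↑((Spec (CommRingCat.of E)).presheaf.stalk v)) 𝔫 :=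
    StructureSheaf.IsLocalization.to_stalk (CommRingCat.of E) v
  refine ⟨_, j, v, hj, hjv, ?_⟩
  exact le_encard_of_separated (L := (Spec (CommRingCat.of E)).presheaf.stalk v) g 𝔫 rfl m P hP
    (fun j k => f (MvPolynomial.X (j, k)))
    (fun j k hjk => by rw [hgx]; exact (hx j k hjk).1)
    (fun j k hjk => by rw [hgx]; exact (hx j k hjk).2)

/-- (II): the local ring of an etale neighbourhood has at most as many minimal primes as the
strict henselization. -/
theorem encard_minimalPrimes_stalk_le_sh {V Y : Scheme.{u}} (j : V ⟶ Y) [Etale j] (v : V)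
    (Ash : Type u) [CommRing Ash] [IsLocalRing Ash] [Algebra (Y.presheaf.stalk (j v)) Ash]
    [IsLocalHom (algebraMap (Y.presheaf.stalk (j v)) Ash)]
    [hS : Hensel.IsStrictHenselization (Y.presheaf.stalk (j v)) Ash] :
    (minimalPrimes (V.presheaf.stalk v)).encard ≤ (minimalPrimes Ash).encard := by
  classical
  obtain ⟨W₀, hW₀, V₀, hV₀, e, hv, -⟩ :=
    Groth.Agent.Lib.Helper3.EtGUSch.exists_affine_nhds j v ⊤ trivial
  have hy : j v ∈ W₀ := e hv
  letI algA := Y.presheaf.algebra_section_stalk ⟨j v, hy⟩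
  haveI hloc := hW₀.isLocalization_stalk ⟨j v, hy⟩
  letI algR : Algebra Γ(Y, W₀) Ash :=
    ((algebraMap ↥(Y.presheaf.stalk (j v)) Ash).comp
      (algebraMap Γ(Y, W₀) ↥(Y.presheaf.stalk (j v)))).toAlgebra
  haveI : IsScalarTower Γ(Y, W₀) ↥(Y.presheaf.stalk (j v)) Ash :=
    IsScalarTower.of_algebraMap_eq (fun _ => rfl)
  haveI hflat : Module.Flat Γ(Y, W₀) Ash := flat_sections_sh (j v) hW₀ hy Ash
  have het : (j.appLE W₀ V₀ e).hom.Etale :=
    HasRingHomProperty.appLE (P := @Etale) j inferInstance ⟨W₀, hW₀⟩ ⟨V₀, hV₀⟩ e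
  letI algRA : Algebra Γ(Y, W₀) Γ(V, V₀) := (j.appLE W₀ V₀ e).hom.toAlgebra
  haveI hEt : Algebra.Etale Γ(Y, W₀) Γ(V, V₀) := het
  let q : Ideal Γ(V, V₀) := (hV₀.primeIdealOf ⟨v, hv⟩).asIdeal
  haveI : q.IsPrime := (hV₀.primeIdealOf ⟨v, hv⟩).isPrime
  let p : Ideal Γ(Y, W₀) := q.under Γ(Y, W₀)
  have hp : p = (hW₀.primeIdealOf ⟨j v, hy⟩).asIdeal :=
    Groth.Agent.Lib.Helper3.EtGUSch.comap_primeIdealOf j hW₀ hV₀ e hv
  haveI hH : HenselianLocalRing Ash := hS.henselian
  haveI hsc : IsSepClosure (ResidueField ↥(Y.presheaf.stalk (j v))) (ResidueField Ash) :=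
    hS.isSepClosure
  haveI : IsSepClosed (ResidueField Ash) := hsc.sep_closed
  have hker : ∀ r : Γ(Y, W₀), algebraMap Γ(Y, W₀) (ResidueField Ash) r = 0 ↔ r ∈ p := by
    intro r
    change residue Ash (algebraMap ↥(Y.presheaf.stalk (j v)) Ash
      (algebraMap Γ(Y, W₀) ↥(Y.presheaf.stalk (j v)) r)) = 0 ↔ _
    rw [residue_eq_zero_iff, hp]
    have hlh : IsLocalHom (algebraMap ↥(Y.presheaf.stalk (j v)) Ash) := inferInstance
    have e3 : Ideal.comap (algebraMap ↥(Y.presheaf.stalk (j v)) Ash) (maximalIdeal Ash) =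
        maximalIdeal ↥(Y.presheaf.stalk (j v)) :=
      ((local_hom_TFAE (algebraMap ↥(Y.presheaf.stalk (j v)) Ash)).out 0 4 rfl rfl).mp hlh
    rw [← Ideal.mem_comap, e3]
    exact IsLocalization.AtPrime.to_map_mem_maximal_iff ↥(Y.presheaf.stalk (j v))
      (hW₀.primeIdealOf ⟨j v, hy⟩).asIdeal r
  letI algpK : Algebra p.ResidueField (ResidueField Ash) :=
    (Ideal.ResidueField.lift p (algebraMap Γ(Y, W₀) (ResidueField Ash))
      (fun r hr => (hker r).2 hr)
      (fun r hr => by
        change IsUnit (algebraMap Γ(Y, W₀) (ResidueField Ash) r)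
        rw [isUnit_iff_ne_zero]
        exact fun h0 => hr ((hker r).1 h0))).toAlgebra
  haveI : IsScalarTower Γ(Y, W₀) p.ResidueField (ResidueField Ash) :=
    IsScalarTower.of_algebraMap_eq (fun r =>
      (Ideal.ResidueField.lift_algebraMap p (algebraMap Γ(Y, W₀) (ResidueField Ash)) _ _ r).symm)
  letI := Localization.AtPrime.algebraOfLiesOver p q
  haveI : Algebra.IsUnramifiedAt Γ(Y, W₀) q := inferInstance
  haveI : Algebra.IsSeparable p.ResidueField q.ResidueField := inferInstance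
  let τ₀ : q.ResidueField →ₐ[p.ResidueField] ResidueField Ash := IsSepClosed.lift
  let τ : q.ResidueField →ₐ[Γ(Y, W₀)] ResidueField Ash := τ₀.restrictScalars Γ(Y, W₀)
  obtain ⟨f, hf, -⟩ := Groth.Agent.Lib.Helper3.Hensel.existsUnique_algHom_of_etale
    (R := Γ(Y, W₀)) (S := Ash) (A := Γ(V, V₀)) q τ
  have hq : (maximalIdeal Ash).comap f.toRingHom = q :=
    Groth.Agent.Lib.Helper3.Hensel.comap_eq_of_residue q τ.toRingHom f hf
  letI := V.presheaf.algebra_section_stalk ⟨v, hv⟩
  haveI := hV₀.isLocalization_stalk ⟨v, hv⟩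
  exact encard_minimalPrimes_le (L := V.presheaf.stalk v) f q hq

end Groth.Agent.R2.H45.ShMinCount
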