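import Mathlib
import Groth.Agent.R2.H45ShMinCount
import Groth.Agent.R2.H45OEtStalk7
import Groth.Agent.S9238
import Groth.Agent.S10176

/-!
# The number of geometric branches through etale neighbourhoods (helper45)
-/

set_option autoImplicit false
set_option linter.style.haveILetI false
universe u
open CategoryTheory CategoryTheory.Limits AlgebraicGeometry Opposite

namespace Groth.Agent.R2.H45.BranchCount

open Groth.Agent.R2.H45.ShMinCount

/-- the number of geometric branches of a scheme at a point is `n` iff the local rings of all etale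
neighbourhoods have at most `n` minimal primes and some etale neighbourhood has exactly `n`. -/
theorem numGeomBranchesAt_eq_iff {Y : Scheme.{u}} (y : Y) (n : ℕ) :
    Brnch.numGeomBranchesAt Y y = n ↔
      (∀ (V : Scheme.{u}) (j : V ⟶ Y) (v : V), Etale j → j v = y →
        (minimalPrimes (V.presheaf.stalk v)).encard ≤ n) ∧
      (∃ (V : Scheme.{u}) (j : V ⟶ Y) (v : V), Etale j ∧ j v = y ∧
        (minimalPrimes (V.presheaf.stalk v)).encard = n) := by
  obtain ⟨Ash, _, _, _, _, hAsh⟩ :=
    Groth.Agent.Lib.Helper3.Branch.exists_isStrictHenselization (Y.presheaf.stalk y)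
  have h1 : Brnch.numGeomBranchesAt Y y = (minimalPrimes Ash).encard :=
    (Groth.Agent.S9238.result (Y.presheaf.stalk y) Ash).symm
  rw [h1]
  have hII : ∀ (V : Scheme.{u}) (j : V ⟶ Y) (v : V), Etale j → j v = y →
      (minimalPrimes (V.presheaf.stalk v)).encard ≤ (minimalPrimes Ash).encard := by
    intro V j v hj hjv
    subst hjv
    exact encard_minimalPrimes_stalk_le_sh j v Ash
  constructor
  · intro h
    refine ⟨fun V j v hj hjv => h ▸ hII V j v hj hjv, ?_⟩
    obtain ⟨V, j, v, hj, hjv, hle⟩ := exists_etale_le_encard_sh y Ash n h.ge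
    exact ⟨V, j, v, hj, hjv, le_antisymm (h ▸ hII V j v hj hjv) hle⟩
  · rintro ⟨hall, V, j, v, hj, hjv, hV⟩
    apply le_antisymm
    · by_contra hcon
      rw [not_le] at hcon
      have h2 : ((n + 1 : ℕ) : ℕ∞) ≤ (minimalPrimes Ash).encard := by
        rw [Nat.cast_add, Nat.cast_one]
        exact Order.add_one_le_of_lt hcon
      obtain ⟨V', j', v', hj', hjv', hle⟩ := exists_etale_le_encard_sh y Ash (n + 1) h2
      have h3 := hle.trans (hall V' j' v' hj' hjv')
      have h4 : (n + 1 : ℕ) ≤ n := by exact_mod_cast h3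
      omega
    · rw [← hV]
      exact hII V j v hj hjv

open AlgSp Groth.Agent.R2.H45.OEtStalk

variable {S : Scheme.{u}}

/-- an etale neighbourhood of a chart through a point is a chart through the point. -/
lemma chart_of_nbhd {X : AlgSp.Sp S} {U : Over S} (a : (AlgSp.yon S).obj U ⟶ X)
    (ha : AlgSp.RepWith @Etale a) {V : Scheme.{u}} (j : V ⟶ U.left) (hj : Etale j) (v : V) :
    AlgSp.RepWith @Etale ((AlgSp.yon S).map
      (Over.homMk j rfl : Over.mk (j ≫ U.hom) ⟶ U) ≫ a) ∧
    AlgSp.Points.ofPt ((AlgSp.yon S).map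
      (Over.homMk j rfl : Over.mk (j ≫ U.hom) ⟶ U) ≫ a) v = AlgSp.Points.ofPt a (j v) := by
  constructor
  · exact (AlgSp.repWith_isMultiplicative (S := S) @Etale).comp_mem _ _
      ((AlgSp.repWith_yon_map_iff _ _).2 hj) ha
  · rw [Groth.Agent.S10176.ofPt_map_comp]
    rfl

/-- a bound on all charts through `x` bounds all etale neighbourhoods of a chart. -/
lemma nbhd_le {X : AlgSp.Sp S} {x : AlgSp.Points X} {n : ℕ}
    (hall : ∀ (U : Over S) (a : (AlgSp.yon S).obj U ⟶ X) (u : ↥U.left),
      AlgSp.RepWith @Etale a → AlgSp.Points.ofPt a u = x →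
        (minimalPrimes ↥(U.left.presheaf.stalk u)).encard ≤ n)
    {U : Over S} (a : (AlgSp.yon S).obj U ⟶ X) (ha : AlgSp.RepWith @Etale a) (u : ↥U.left)
    (hu : AlgSp.Points.ofPt a u = x) {V : Scheme.{u}} (j : V ⟶ U.left) (hj : Etale j) (v : V)
    (hjv : j v = u) : (minimalPrimes ↥(V.presheaf.stalk v)).encard ≤ n :=
  hall (Over.mk (j ≫ U.hom))
    ((AlgSp.yon S).map (Over.homMk j rfl : Over.mk (j ≫ U.hom) ⟶ U) ≫ a) v
    (chart_of_nbhd a ha j hj v).1 (by rw [(chart_of_nbhd a ha j hj v).2, hjv, hu])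

/-- condition (1): all charts through `x` have at most `n` minimal primes in the local ring and
some chart has exactly `n`. -/
def PropA (X : AlgSp.Space S) (x : AlgSp.Points X.obj) (n : ℕ) : Prop :=
  (∀ (U : Over S) (a : (AlgSp.yon S).obj U ⟶ X.obj) (u : ↥U.left),
    AlgSp.RepWith @Etale a → AlgSp.Points.ofPt a u = x →
      (minimalPrimes ↥(U.left.presheaf.stalk u)).encard ≤ n) ∧
  AlgSp.HasAt (fun U u => (minimalPrimes ↥(U.presheaf.stalk u)).encard = n) X.obj x

/-- condition (4): all charts through `x` have `n` geometric branches. -/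
def PropB (X : AlgSp.Space S) (x : AlgSp.Points X.obj) (n : ℕ) : Prop :=
  ∀ (U : Over S) (a : (AlgSp.yon S).obj U ⟶ X.obj) (u : ↥U.left),
    AlgSp.RepWith @Etale a → AlgSp.Points.ofPt a u = x → Brnch.numGeomBranchesAt U.left u = n

/-- condition (5): the etale local rings at geometric points over `x` have `n` minimal primes. -/
def PropC (X : AlgSp.Space S) (x : AlgSp.Points X.obj) (n : ℕ) : Prop :=
  ∀ p : AlgSp.FieldPt X.obj, p.IsGeometric → AlgSp.Points.mk p = x →
    (minimalPrimes ↥(AlgSp.OEtStalk p)).encard = n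

theorem propA_iff_propB (X : AlgSp.Space S) (x : AlgSp.Points X.obj) (n : ℕ) :
    PropA X x n ↔ PropB X x n := by
  constructor
  · rintro ⟨hall, U₀, a₀, u₀, ha₀, hu₀, hn₀⟩ U a u ha hu
    rw [numGeomBranchesAt_eq_iff]
    constructor
    · intro V j v hj hjv
      exact nbhd_le hall a ha u hu j hj v hjv
    · obtain ⟨W, p, q, w, hp, hq, hpw, hqw, -, -⟩ :=
        Groth.Agent.R2.H45.HasAt.exists_common_point a a₀ ha ha₀ u u₀ (hu.trans hu₀.symm)
      refine ⟨W.left, p.left, w, hp, hpw, le_antisymm ?_ ?_⟩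
      · exact nbhd_le hall a ha u hu p.left hp w hpw
      · haveI : Etale q.left := hq
        have h3 := encard_minimalPrimes_stalk_le_of_flat q.left w
        rw [hqw, hn₀] at h3
        exact h3
  · intro hB
    constructor
    · intro U a u ha hu
      have h1 := (numGeomBranchesAt_eq_iff u n).1 (hB U a u ha hu)
      refine h1.1 U.left (𝟙 _) u inferInstance rfl
    · obtain ⟨U, a, u, ha, -, hu⟩ := Groth.Agent.R2.H45.HasAt.exists_chart X.property x
      obtain ⟨V, j, v, hj, hjv, hV⟩ := ((numGeomBranchesAt_eq_iff u n).1 (hB U a u ha hu)).2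
      exact ⟨Over.mk (j ≫ U.hom),
        (AlgSp.yon S).map (Over.homMk j rfl : Over.mk (j ≫ U.hom) ⟶ U) ≫ a, v,
        (chart_of_nbhd a ha j hj v).1, by rw [(chart_of_nbhd a ha j hj v).2, hjv, hu], hV⟩

theorem propA_iff_propC (X : AlgSp.Space S) (x : AlgSp.Points X.obj) (n : ℕ) :
    PropA X x n ↔ PropC X x n := by
  constructor
  · rintro ⟨hall, U₀, a₀, u₀, ha₀, hu₀, hn₀⟩ p hp hpx
    apply le_antisymm
    · by_contra hcon
      rw [not_le] at hcon
      have h2 : ((n + 1 : ℕ) : ℕ∞) ≤ (minimalPrimes ↥(AlgSp.OEtStalk p)).encard := by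
        rw [Nat.cast_add, Nat.cast_one]
        exact Order.add_one_le_of_lt hcon
      obtain ⟨St, hSt⟩ := exists_stage_le_encard_minimalPrimes hp (n + 1) h2
      have h3 := hSt.trans
        (hall (Over.mk St.str) St.c St.pt₀ St.et (St.ofPt_pt₀.trans hpx))
      have h4 : (n + 1 : ℕ) ≤ n := by exact_mod_cast h3
      omega
    · obtain ⟨St, φ, hφ, hφu⟩ :=
        exists_stage_over_chart hp a₀ ha₀ u₀ (hu₀.trans hpx.symm)
      haveI : Etale φ := hφ
      have h3 := encard_minimalPrimes_stalk_le_of_flat φ St.pt₀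
      rw [hφu, hn₀] at h3
      exact h3.trans (St.encard_minimalPrimes_le hp)
  · intro hC
    obtain ⟨p, hp, hpx⟩ := Groth.Agent.Lib.Helper9.SpPoint.exists_geometric_over x
    have hall : ∀ (U : Over S) (a : (AlgSp.yon S).obj U ⟶ X.obj) (u : ↥U.left),
        AlgSp.RepWith @Etale a → AlgSp.Points.ofPt a u = x →
          (minimalPrimes ↥(U.left.presheaf.stalk u)).encard ≤ n := by
      intro U a u ha hu
      obtain ⟨St, φ, hφ, hφu⟩ := exists_stage_over_chart hp a ha u (hu.trans hpx.symm)
      haveI : Etale φ := hφ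
      have h3 := encard_minimalPrimes_stalk_le_of_flat φ St.pt₀
      rw [hφu] at h3
      rw [← hC p hp hpx]
      exact h3.trans (St.encard_minimalPrimes_le hp)
    refine ⟨hall, ?_⟩
    obtain ⟨St, hSt⟩ := exists_stage_le_encard_minimalPrimes hp n (hC p hp hpx).ge
    exact ⟨Over.mk St.str, St.c, St.pt₀, St.et, St.ofPt_pt₀.trans hpx,
      le_antisymm (hall (Over.mk St.str) St.c St.pt₀ St.et (St.ofPt_pt₀.trans hpx)) hSt⟩

end Groth.Agent.R2.H45.BranchCount
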