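import Mathlib
import Groth.Prelude.Def_AlgSpDec
import Groth.Prelude.Def_Dual3
import Groth.Agent.R2.H45HasAtMor
import Groth.Agent.R2.H45ResTrdeg
import Groth.Agent.Lib.Helper4DimFormulaAF
import Groth.Agent.Lib.Helper3LocDimBC
import Groth.Agent.Lib.Helper3CompDim
import Groth.Agent.S10190

/-!
# The dimension of the local ring of the fibre: étale locality and base change (helper45)
-/

set_option autoImplicit false
set_option linter.style.haveILetI false
universe u
open CategoryTheory CategoryTheory.Limits AlgebraicGeometry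

namespace Groth.Agent.R2.H45.FibStalk

open Groth.Agent.R2.H45.HasAtMor Groth.Agent.R2.H45.ResTrdeg Groth.Agent.Lib.Helper4.DimFormula

/-- the fibre local ring dimension predicate of `HasAtMor`. -/
theorem fibStalk_eq {U V : Scheme.{u}} (h : U ⟶ V) (u : ↥U) :
    ringKrullDim ↥((h.fiber (h u)).presheaf.stalk (h.asFiber u)) = fibStalkDim h u :=
  ringKrullDim_stalk_asFiber h u

/-- `dim_x X_y = dim O_{X_y,x} + trdeg` with `fibStalkDim`. -/
theorem fibreDimAt_eq_fibStalkDim_add {U V : Scheme.{u}} (h : U ⟶ V) [LocallyOfFiniteType h]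
    (u : ↥U) :
    FlatMor.fibreDimAt h u = fibStalkDim h u + (ptTrdeg h u : WithBot ℕ∞) := by
  rw [fibreDimAt_eq_stalk_add_ptTrdeg, ringKrullDim_stalk_asFiber]

theorem ptTrdeg_eq_of_etale_square {U U' V V' : Scheme.{u}} (h : U ⟶ V) (h' : U' ⟶ V')
    (a : U' ⟶ U) (b : V' ⟶ V) [Etale a] [Etale b] (comm : h' ≫ b = a ≫ h)
    [LocallyOfFiniteType h] [LocallyOfFiniteType h'] (u' : ↥U') :
    ptTrdeg h (a u') = ptTrdeg h' u' := by
  have := resTrdeg_eq_of_etale_square h h' a b comm u'
  rw [resTrdeg_eq_ptTrdeg, resTrdeg_eq_ptTrdeg] at this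
  exact_mod_cast this

/-- the dimension of the local ring of the fibre is étale local on source and target (among
morphisms locally of finite type). -/
theorem fibStalkDim_eq_of_etale_square {U U' V V' : Scheme.{u}} (h : U ⟶ V) (h' : U' ⟶ V')
    (a : U' ⟶ U) (b : V' ⟶ V) [Etale a] [Etale b] (comm : h' ≫ b = a ≫ h)
    [LocallyOfFiniteType h] [LocallyOfFiniteType h'] (u' : ↥U') :
    fibStalkDim h (a u') = fibStalkDim h' u' := by
  have h1 := fibreDimAt_eq_fibStalkDim_add h (a u')
  have h2 := fibreDimAt_eq_fibStalkDim_add h' u'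
  rw [Groth.Agent.Lib.Helper3.FibDimEt.fibreDimAt_eq_of_etale_square h h' a b comm u', h2,
    ptTrdeg_eq_of_etale_square h h' a b comm u'] at h1
  exact (withBot_enat_add_nat_cancel _ h1).symm

theorem etSqInvOn_fibStalk (P : WithBot ℕ∞ → Prop) :
    EtSqInvOn @LocallyOfFiniteType
      (fun _ _ h u => P (ringKrullDim ↥((h.fiber (h u)).presheaf.stalk (h.asFiber u)))) := by
  intro U U' V V' h h' a b _ _ comm hh hh' u'
  haveI : LocallyOfFiniteType h := hh
  haveI : LocallyOfFiniteType h' := hh'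
  change P (ringKrullDim ↥((h'.fiber (h' u')).presheaf.stalk (h'.asFiber u'))) ↔
    P (ringKrullDim ↥((h.fiber (h (a u'))).presheaf.stalk (h.asFiber (a u'))))
  rw [fibStalk_eq, fibStalk_eq, fibStalkDim_eq_of_etale_square h h' a b comm u']

section BaseChange

variable {U V V' W : Scheme.{u}} (h : U ⟶ V) (κ : V' ⟶ V) (p1 : W ⟶ U) (p2 : W ⟶ V')
  (hsq : IsPullback p1 p2 h κ)

/-- the map of fibres induced by a pullback square. -/
noncomputable def fibMap (v' : ↥V') : p2.fiber v' ⟶ h.fiber (κ v') :=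
  pullback.map _ _ _ _ p1 (Spec.map (κ.residueFieldMap v')) κ hsq.w.symm (by simp)

theorem isPullback_fibMap (v' : ↥V') :
    IsPullback (fibMap h κ p1 p2 hsq v') (p2.fiberToSpecResidueField v')
      (h.fiberToSpecResidueField (κ v')) (Spec.map (κ.residueFieldMap v')) :=
  isPullback_fiberToSpecResidueField_of_isPullback hsq v'

theorem fibMap_fiberι (v' : ↥V') :
    fibMap h κ p1 p2 hsq v' ≫ h.fiberι (κ v') = p2.fiberι v' ≫ p1 :=
  pullback.lift_fst _ _ _

theorem flat_SpecMap_field {K L : CommRingCat.{u}} (hK : IsField K) (φ : K ⟶ L) :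
    Flat (Spec.map φ) := by
  rw [HasRingHomProperty.Spec_iff (P := @Flat)]
  letI := hK.toField
  algebraize [φ.hom]
  exact (inferInstance : Module.Flat K L)

theorem flat_fibMap (v' : ↥V') : Flat (fibMap h κ p1 p2 hsq v') := by
  haveI : Flat (Spec.map (κ.residueFieldMap v')) :=
    flat_SpecMap_field (Field.toIsField _) _
  exact MorphismProperty.of_isPullback (P := @Flat) (isPullback_fibMap h κ p1 p2 hsq v').flip
    inferInstance

theorem surjective_fibMap (v' : ↥V') : Surjective (fibMap h κ p1 p2 hsq v') := by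
  haveI : Surjective (Spec.map (κ.residueFieldMap v')) := by
    constructor
    intro y
    haveI : Subsingleton ↥(Spec (V.residueField (κ v'))) :=
      inferInstanceAs (Subsingleton (PrimeSpectrum (V.residueField (κ v'))))
    haveI : Nonempty ↥(Spec (V'.residueField v')) :=
      inferInstanceAs (Nonempty (PrimeSpectrum (V'.residueField v')))
    obtain ⟨z⟩ := ‹Nonempty ↥(Spec (V'.residueField v'))›
    exact ⟨z, Subsingleton.elim _ _⟩
  exact MorphismProperty.of_isPullback (P := @Surjective) (isPullback_fibMap h κ p1 p2 hsq v').flip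
    inferInstance

include hsq in
/-- the dimension of the local ring of the fibre can only go up under base change. -/
theorem fibStalkDim_le_of_isPullback (w : ↥W) : fibStalkDim h (p1 w) ≤ fibStalkDim p2 w := by
  haveI := flat_fibMap h κ p1 p2 hsq (p2 w)
  have h1 := Groth.Agent.R2.H45.Dim.ringKrullDim_stalk_le_of_flat (fibMap h κ p1 p2 hsq (p2 w))
    (p2.asFiber w)
  rw [ringKrullDim_stalk_fiber_eq_fibStalkDim, ringKrullDim_stalk_fiber_eq_fibStalkDim,
    p2.fiberι_asFiber] at h1
  have h2 : h.fiberι (κ (p2 w)) (fibMap h κ p1 p2 hsq (p2 w) (p2.asFiber w)) = p1 w := by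
    rw [← Scheme.Hom.comp_apply, fibMap_fiberι, Scheme.Hom.comp_apply, p2.fiberι_asFiber]
  rwa [h2] at h1

/-- every nonempty scheme has a point whose local ring has dimension `0`. -/
theorem exists_stalk_dim_zero (G : Scheme.{u}) (g : ↥G) :
    ∃ ζ : ↥G, ringKrullDim ↥(G.presheaf.stalk ζ) = 0 := by
  obtain ⟨ζ, hζ⟩ := QuasiSober.sober (isIrreducible_irreducibleComponent (x := g))
    isClosed_irreducibleComponent
  refine ⟨ζ, Groth.Agent.S10190.ringKrullDim_stalk_eq_zero_of_mem_genericPoints ζ ?_⟩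
  change closure {ζ} ∈ irreducibleComponents ↥G
  rw [hζ.def]
  exact irreducibleComponent_mem_irreducibleComponents g

include hsq in
/-- over a point of `U` and a point of `V'` with the same image in `V` there is a point of the
fibre product at which the local ring of the fibre has the same dimension. -/
theorem exists_point_fibStalkDim_eq [LocallyOfFiniteType h] (u : ↥U) (v' : ↥V')
    (huv : h u = κ v') :
    ∃ w : ↥W, p1 w = u ∧ p2 w = v' ∧ fibStalkDim p2 w = fibStalkDim h u := by
  haveI := flat_fibMap h κ p1 p2 hsq v'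
  haveI := surjective_fibMap h κ p1 p2 hsq v'
  haveI : LocallyOfFiniteType p2 := MorphismProperty.of_isPullback (P := @LocallyOfFiniteType) hsq
    inferInstance
  haveI : IsLocallyNoetherian (h.fiber (κ v')) :=
    LocallyOfFiniteType.isLocallyNoetherian (h.fiberToSpecResidueField (κ v'))
  haveI : IsLocallyNoetherian (p2.fiber v') :=
    LocallyOfFiniteType.isLocallyNoetherian (p2.fiberToSpecResidueField v')
  have hu : u ∈ Set.range (h.fiberι (κ v')) := by rw [Scheme.Hom.range_fiberι]; exact huv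
  obtain ⟨z, hz⟩ := hu
  obtain ⟨z0, hz0⟩ := (fibMap h κ p1 p2 hsq v').surjective z
  have hz0' : z0 ∈ Set.range ((fibMap h κ p1 p2 hsq v').fiberι z) := by
    rw [Scheme.Hom.range_fiberι]; exact hz0
  obtain ⟨ζ0, -⟩ := hz0'
  obtain ⟨ζ, hζ⟩ := exists_stalk_dim_zero _ ζ0
  set z' := (fibMap h κ p1 p2 hsq v').fiberι z ζ with hz'
  have hmz' : fibMap h κ p1 p2 hsq v' z' = z := by
    have : z' ∈ Set.range ((fibMap h κ p1 p2 hsq v').fiberι z) := ⟨ζ, rfl⟩
    rw [Scheme.Hom.range_fiberι] at this
    exact this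
  have hp1 : p1 (p2.fiberι v' z') = u := by
    rw [← Scheme.Hom.comp_apply, ← fibMap_fiberι h κ p1 p2 hsq v', Scheme.Hom.comp_apply, hmz', hz]
  have hp2 : p2 (p2.fiberι v' z') = v' := by
    have : p2.fiberι v' z' ∈ Set.range (p2.fiberι v') := ⟨z', rfl⟩
    rw [Scheme.Hom.range_fiberι] at this
    exact this
  refine ⟨p2.fiberι v' z', hp1, hp2, ?_⟩
  have key := Groth.Agent.Lib.Helper3.CompDim.stalk_dim_formula_of_flat (fibMap h κ p1 p2 hsq v') z'
    (Flat.stalkMap _ z')
  rw [ringKrullDim_stalk_asFiber, ringKrullDim_stalk_fiber_eq_fibStalkDim,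
    ringKrullDim_stalk_fiber_eq_fibStalkDim h (κ v')] at key
  have h0 : fibStalkDim (fibMap h κ p1 p2 hsq v') z' = 0 := by
    rw [hz', ← ringKrullDim_stalk_fiber_eq_fibStalkDim, hζ]
  rw [h0, add_zero, hmz', hz] at key
  exact key

end BaseChange

end Groth.Agent.R2.H45.FibStalk
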