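import Mathlib
import Groth.Agent.R2.H45FibStalk
import Groth.Agent.R2.H45Dim
import Groth.Agent.Lib.Helper4DimFormulaAJ
import Groth.Agent.Lib.Helper4DimFormulaT
import Groth.Agent.Lib.Helper4VarDim6

/-!
# Fibres over a codimension `0` point (helper45)

For `h : U ⟶ V` locally of finite type and `v` a point of `V` whose local ring has dimension
`0`: the local rings of `U` and of the fibre agree in dimension at points over `v`; all points over
`v` have codimension `0` iff `h` is quasi-finite at all of them iff `h` is quasi-finite at those of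
codimension `0`.
-/

set_option autoImplicit false
set_option linter.style.haveILetI false
universe u
open CategoryTheory CategoryTheory.Limits AlgebraicGeometry IsLocalRing

namespace Groth.Agent.R2.H45.CodimZero

open Groth.Agent.Lib.Helper4.DimFormula Groth.Agent.Lib.Helper4.VarDim
  Groth.Agent.R2.H45.FibStalk

/-- dividing by an ideal of nilpotent elements does not change the Krull dimension. -/
theorem ringKrullDim_quotient_eq_of_le_nilradical {R : Type*} [CommRing R] (I : Ideal R)
    (hI : I ≤ nilradical R) : ringKrullDim (R ⧸ I) = ringKrullDim R := by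
  rw [ringKrullDim_quotient, (PrimeSpectrum.zeroLocus_eq_univ_iff _).2 hI]
  exact Order.krullDim_eq_of_orderIso OrderIso.Set.univ

/-- over a point with zero dimensional local ring the local ring of the fibre has the dimension
of the local ring of the total space. -/
theorem fibStalkDim_eq_of_dim_zero {U V : Scheme.{u}} (h : U ⟶ V) (u : ↥U)
    (hv : ringKrullDim ↥(V.presheaf.stalk (h u)) = 0) :
    fibStalkDim h u = ringKrullDim ↥(U.presheaf.stalk u) := by
  unfold fibStalkDim
  apply ringKrullDim_quotient_eq_of_le_nilradical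
  haveI : Ring.KrullDimLE 0 ↥(V.presheaf.stalk (h u)) := by
    rw [Ring.krullDimLE_iff, hv]
    rfl
  rw [Ideal.map_le_iff_le_comap, ← Ring.KrullDimLE.nilradical_eq_maximalIdeal]
  intro x hx
  rw [Ideal.mem_comap, mem_nilradical]
  exact (mem_nilradical.1 hx).map _

variable {U V : Scheme.{u}} (h : U ⟶ V) [LocallyOfFiniteType h]

/-- quasi-finite at a point over a codimension `0` point implies codimension `0`. -/
theorem dim_zero_of_fibreDimAt_le_zero (u : ↥U)
    (hv : ringKrullDim ↥(V.presheaf.stalk (h u)) = 0) (hu : FlatMor.fibreDimAt h u ≤ 0) :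
    ringKrullDim ↥(U.presheaf.stalk u) = 0 := by
  apply le_antisymm _ ringKrullDim_nonneg_of_nontrivial
  rw [← fibStalkDim_eq_of_dim_zero h u hv]
  rw [fibreDimAt_eq_fibStalkDim_add] at hu
  refine le_trans ?_ hu
  exact le_add_of_nonneg_right (by exact_mod_cast Nat.zero_le _)

/-- if all points over a codimension `0` point have codimension `0`, the morphism is quasi-finite
at all of them. -/
theorem fibreDimAt_le_zero_of_forall_dim_zero (v : ↥V)
    (hv : ringKrullDim ↥(V.presheaf.stalk v) = 0)
    (H : ∀ u : ↥U, h u = v → ringKrullDim ↥(U.presheaf.stalk u) = 0) (u : ↥U) (hu : h u = v) :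
    FlatMor.fibreDimAt h u ≤ 0 := by
  subst hu
  have hF : topologicalKrullDim ↥(h.fiber (h u)) ≤ 0 := by
    rw [Groth.Agent.R2.H45.Dim.topologicalKrullDim_eq_iSup_stalk]
    refine iSup_le fun z => ?_
    have hz : h (h.fiberι (h u) z) = h u := by
      have : h.fiberι (h u) z ∈ Set.range (h.fiberι (h u)) := ⟨z, rfl⟩
      rw [h.range_fiberι] at this
      exact this
    rw [ringKrullDim_stalk_fiber_eq_fibStalkDim,
      fibStalkDim_eq_of_dim_zero h _ (by rw [hz]; exact hv), H _ hz]
  unfold FlatMor.fibreDimAt FlatMor.localDim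
  refine le_trans (iInf_le _ ⟨⊤, trivial⟩) ?_
  exact le_trans (topologicalKrullDim_subspace_le _ _) hF

/-- if the morphism is quasi-finite at all codimension `0` points over a codimension `0` point,
then all points over it have codimension `0`. -/
theorem dim_zero_of_forall (v : ↥V) (hv : ringKrullDim ↥(V.presheaf.stalk v) = 0)
    (H : ∀ u : ↥U, h u = v → ringKrullDim ↥(U.presheaf.stalk u) = 0 →
      FlatMor.fibreDimAt h u ≤ 0) (u : ↥U) (hu : h u = v) :
    ringKrullDim ↥(U.presheaf.stalk u) = 0 := by
  subst hu
  letI : (h.fiber (h u)).Over (Spec (CommRingCat.of (V.residueField (h u)))) :=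
    ⟨h.fiberToSpecResidueField (h u)⟩
  haveI : LocallyOfFiniteType ((h.fiber (h u)) ↘ Spec (CommRingCat.of (V.residueField (h u)))) :=
    locallyOfFiniteType_fiberToSpecResidueField h _
  obtain ⟨ζ, hζ⟩ := QuasiSober.sober (isIrreducible_irreducibleComponent (x := h.asFiber u))
    isClosed_irreducibleComponent
  have hζ0 : ringKrullDim ↥((h.fiber (h u)).presheaf.stalk ζ) = 0 := by
    refine Groth.Agent.S10190.ringKrullDim_stalk_eq_zero_of_mem_genericPoints ζ ?_
    change closure {ζ} ∈ irreducibleComponents ↥(h.fiber (h u))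
    rw [hζ.def]
    exact irreducibleComponent_mem_irreducibleComponents _
  have hsp : ζ ⤳ h.asFiber u := hζ.specializes mem_irreducibleComponent
  have hz : h (h.fiberι (h u) ζ) = h u := by
    have : h.fiberι (h u) ζ ∈ Set.range (h.fiberι (h u)) := ⟨ζ, rfl⟩
    rw [h.range_fiberι] at this
    exact this
  have h0 : ringKrullDim ↥(U.presheaf.stalk (h.fiberι (h u) ζ)) = 0 := by
    rw [← fibStalkDim_eq_of_dim_zero h _ (by rw [hz]; exact hv),
      ← ringKrullDim_stalk_fiber_eq_fibStalkDim, hζ0]
  have h1 := H _ hz h0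
  have h2 : ptTrdeg h (h.fiberι (h u) ζ) = 0 := by
    have := (ptTrdeg_le_fibreDimAt h (h.fiberι (h u) ζ)).trans h1
    have h3 : ((ptTrdeg h (h.fiberι (h u) ζ) : ℕ) : WithBot ℕ∞) ≤ ((0 : ℕ) : WithBot ℕ∞) := by
      simpa using this
    exact Nat.le_zero.1 (by exact_mod_cast h3)
  have h4 : trdegNat (V.residueField (h u)) (h.fiber (h u)) ζ = 0 := by
    rw [trdegNat_eq_ptTrdeg, h2]
  have heq : ζ = h.asFiber u := by
    by_contra hne
    have := trdegNat_lt_of_specializes (V.residueField (h u)) (h.fiber (h u)) ζ (h.asFiber u)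
      hsp hne
    omega
  rw [heq, h.fiberι_asFiber] at h0
  exact h0

end Groth.Agent.R2.H45.CodimZero
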