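import Mathlib
import Groth.Prelude.Def_AlgSpMor5
import Groth.Agent.R2.H45GrpLocus
import Groth.Agent.Lib.Helper12OpenSub2
import Groth.Agent.S10210
import Groth.Agent.S10262
import Groth.Agent.S9938

/-!
# helper45: diagonals and base change; openness of the image of the unramified locus under the diagonal

* `isPullback_fibreSquare_baseChange`, `isPullback_diag_baseChange`: for a base change `f'` of `f`, the
  self fibre product of `f'` is the base change of that of `f` along `X' ⟶ X`, and the diagonal of `f'`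
  is the base change of the diagonal of `f`.
* `repWith_of_fibreSquare_map`: for `j : X₀ ⟶ X` with a base-change- and composition-stable property,
  `X₀ ×_Y X₀ ⟶ X ×_Y X` has it.
* `hasAtMor_precomp_etale`: `HasAtMor Q (j ≫ f) x₀ ↔ HasAtMor Q f (j x₀)` for étale `j`.
* `isOpen_image_diag`: the image under the diagonal of an open set of points where `f` is unramified is
  open in `|X ×_Y X|`.
* `univInjective_baseChange_iff`.
-/

set_option autoImplicit false
set_option linter.style.haveILetI false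
universe u

namespace Groth.Agent.R2.H45.DiagBC

open AlgebraicGeometry CategoryTheory CategoryTheory.Limits Opposite AlgSp
open Groth.Agent.R2.H45.HasAtMor Groth.Agent.R2.H45.HasAt Groth.Agent.R2.H45.Unram
  Groth.Agent.R2.H45.GrpLocus

section Cat

variable {C : Type*} [Category C]

/-- the self fibre product of a base change `f'` of `f` is the base change of the self fibre product of
`f` along `X' ⟶ X` (on first projections). -/
theorem isPullback_fibreSquare_baseChange {X Y X' Y' XX XX' : C} {f : X ⟶ Y} {f' : X' ⟶ Y'}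
    {gX : X' ⟶ X} {gY : Y' ⟶ Y} (sq : IsPullback gX f' f gY)
    {pr0 pr1 : XX ⟶ X} (hXX : IsPullback pr0 pr1 f f)
    {pr0' pr1' : XX' ⟶ X'} (hXX' : IsPullback pr0' pr1' f' f')
    (m : XX' ⟶ XX) (hm0 : m ≫ pr0 = pr0' ≫ gX) (hm1 : m ≫ pr1 = pr1' ≫ gX) :
    IsPullback m pr0' pr0 gX := by
  have step1 : IsPullback pr0' (pr1' ≫ gX) (f' ≫ gY) f := hXX'.paste_vert sq.flip
  have s : IsPullback (m ≫ pr1) pr0' f (gX ≫ f) := by
    rw [hm1, sq.w]
    exact step1.flip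
  exact IsPullback.of_right s hm0 hXX.flip

/-- the diagonal of a base change is the base change of the diagonal. -/
theorem isPullback_diag_baseChange {X Y X' Y' XX XX' : C} {f : X ⟶ Y} {f' : X' ⟶ Y'}
    {gX : X' ⟶ X} {gY : Y' ⟶ Y} (sq : IsPullback gX f' f gY)
    {pr0 pr1 : XX ⟶ X} (hXX : IsPullback pr0 pr1 f f)
    {pr0' pr1' : XX' ⟶ X'} (hXX' : IsPullback pr0' pr1' f' f')
    (m : XX' ⟶ XX) (hm0 : m ≫ pr0 = pr0' ≫ gX) (hm1 : m ≫ pr1 = pr1' ≫ gX)
    (Δ : X ⟶ XX) (hΔ0 : Δ ≫ pr0 = 𝟙 X) (hΔ1 : Δ ≫ pr1 = 𝟙 X)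
    (Δ' : X' ⟶ XX') (hΔ0' : Δ' ≫ pr0' = 𝟙 X') (hΔ1' : Δ' ≫ pr1' = 𝟙 X') :
    IsPullback Δ' gX m Δ := by
  have t := (isPullback_fibreSquare_baseChange sq hXX hXX' m hm0 hm1).flip
  have p : Δ' ≫ m = gX ≫ Δ := by
    apply hXX.hom_ext
    · rw [Category.assoc, hm0, ← Category.assoc, hΔ0', Category.id_comp, Category.assoc, hΔ0,
        Category.comp_id]
    · rw [Category.assoc, hm1, ← Category.assoc, hΔ1', Category.id_comp, Category.assoc, hΔ1,
        Category.comp_id]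
  have s : IsPullback (Δ' ≫ pr0') gX gX (Δ ≫ pr0) := by
    rw [hΔ0', hΔ0]
    exact IsPullback.id_horiz gX
  exact IsPullback.of_right s p t

/-- for `j : X₀ ⟶ X` in a class stable under base change and composition, the induced morphism
`X₀ ×_Y X₀ ⟶ X ×_Y X` is in the class. -/
theorem of_fibreSquare_map [HasPullbacks C] (P : MorphismProperty C) [P.IsStableUnderBaseChange]
    [P.IsStableUnderComposition] {X₀ X Y XX PP : C} (j : X₀ ⟶ X) (hj : P j) (f : X ⟶ Y)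
    {pr0 pr1 : XX ⟶ X} (hXX : IsPullback pr0 pr1 f f)
    {p0 p1 : PP ⟶ X₀} (hPP : IsPullback p0 p1 (j ≫ f) (j ≫ f))
    (k : PP ⟶ XX) (hk0 : k ≫ pr0 = p0 ≫ j) (hk1 : k ≫ pr1 = p1 ≫ j) : P k := by
  have hQ := IsPullback.of_hasPullback (j ≫ f) f
  -- `k₂ : X₀ ×_Y X ⟶ X ×_Y X`
  let k₂ : pullback (j ≫ f) f ⟶ XX :=
    hXX.lift (pullback.fst (j ≫ f) f ≫ j) (pullback.snd (j ≫ f) f)
      (by rw [Category.assoc]; exact pullback.condition)
  have hk₂0 : k₂ ≫ pr0 = pullback.fst (j ≫ f) f ≫ j := hXX.lift_fst _ _ _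
  have hk₂1 : k₂ ≫ pr1 = pullback.snd (j ≫ f) f := hXX.lift_snd _ _ _
  have sq₂ : IsPullback k₂ (pullback.fst (j ≫ f) f) pr0 j := by
    have s : IsPullback (k₂ ≫ pr1) (pullback.fst (j ≫ f) f) f (j ≫ f) := by
      rw [hk₂1]
      exact hQ.flip
    exact IsPullback.of_right s hk₂0 hXX.flip
  have hPk₂ : P k₂ := P.of_isPullback sq₂.flip hj
  -- `k₁ : X₀ ×_Y X₀ ⟶ X₀ ×_Y X`
  let k₁ : PP ⟶ pullback (j ≫ f) f :=
    pullback.lift p0 (p1 ≫ j) (by rw [Category.assoc]; exact hPP.w)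
  have hk₁0 : k₁ ≫ pullback.fst (j ≫ f) f = p0 := pullback.lift_fst _ _ _
  have hk₁1 : k₁ ≫ pullback.snd (j ≫ f) f = p1 ≫ j := pullback.lift_snd _ _ _
  have sq₁ : IsPullback k₁ p1 (pullback.snd (j ≫ f) f) j := by
    have s : IsPullback (k₁ ≫ pullback.fst (j ≫ f) f) p1 (j ≫ f) (j ≫ f) := by
      rw [hk₁0]
      exact hPP
    exact IsPullback.of_right s hk₁1 hQ
  have hPk₁ : P k₁ := P.of_isPullback sq₁.flip hj
  have hk : k = k₁ ≫ k₂ := by
    apply hXX.hom_ext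
    · rw [hk0, Category.assoc, hk₂0, ← Category.assoc, hk₁0]
    · rw [hk1, Category.assoc, hk₂1, hk₁1]
  rw [hk]
  exact P.comp_mem _ _ hPk₁ hPk₂

end Cat

variable {S : Scheme.{u}}

/-- `HasAtMor` is insensitive to precomposition with an étale morphism. -/
theorem hasAtMor_precomp_etale {Q : ∀ (U V : Scheme.{u}), (U ⟶ V) → ↥U → Prop} (hQ : EtSqInv Q)
    {X₀ X Y : AlgSp.Sp S} (hX₀ : AlgSp.IsAlgSpace X₀) (hY : AlgSp.IsAlgSpace Y)
    (j : X₀ ⟶ X) (hj : AlgSp.RepWith @Etale j) (f : X ⟶ Y) (x₀ : AlgSp.Points X₀) :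
    AlgSp.HasAtMor Q (j ≫ f) x₀ ↔ AlgSp.HasAtMor Q f (AlgSp.Points.map j x₀) := by
  obtain ⟨U, V, a, b, h, u, ha, hb, comm, rfl⟩ := exists_diagram hX₀ hY (j ≫ f) x₀
  have haj : AlgSp.RepWith @Etale (a ≫ j) := (AlgSp.RepWith @Etale).comp_mem _ _ ha hj
  have e1 := hasAtMor_iff_of_diagram hQ (j ≫ f) a b h ha hb comm u
  have e2 := hasAtMor_iff_of_diagram hQ f (a ≫ j) b h haj hb
    (by rw [Category.assoc]; exact comm) u
  rw [e1, AlgSp.Points.map_ofPt, e2]

/-- the image under the diagonal of an open set of points at which `f` is unramified is open. -/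
theorem isOpen_image_diag {X Y XX : AlgSp.Sp S} (hX : AlgSp.IsAlgSpace X)
    (hY : AlgSp.IsAlgSpace Y) (f : X ⟶ Y) (hf : AlgSp.LocP @LocallyOfFiniteType f)
    {pr0 pr1 : XX ⟶ X} (hXX : IsPullback pr0 pr1 f f)
    (Δ : X ⟶ XX) (hΔ0 : Δ ≫ pr0 = 𝟙 X) (hΔ1 : Δ ≫ pr1 = 𝟙 X)
    (T : Set (AlgSp.Points X)) (hT : IsOpen T) (hTu : ∀ x ∈ T, AlgSp.HasAtMor Qunr f x) :
    IsOpen (AlgSp.Points.map Δ '' T) := by
  have hj := Groth.Agent.Lib.Helper12.OpenSub.repWith_incl hT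
  have hje := Groth.Agent.S10210.repWith_etale_of_isOpenImmersion hj
  have hX₀ := Groth.Agent.Lib.Helper12.OpenSub.isAlgSpace_obj hX hT
  have hrange := Groth.Agent.Lib.Helper12.OpenSub.range_map_incl T
  set X₀ := Groth.Agent.Lib.Helper12.OpenSub.obj X T with hX₀def
  set j : X₀ ⟶ X := Groth.Agent.Lib.Helper12.OpenSub.incl X T with hjdef
  have hfT_lft : AlgSp.LocP @LocallyOfFiniteType (j ≫ f) :=
    Groth.Agent.Lib.Helper12.LargestOpen.locP_precomp_repEtale _ j f hje hf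
  have hfT : AlgSp.LocP (@LocallyOfFiniteType ⊓ @FormallyUnramified) (j ≫ f) := by
    rw [locP_iff_forall_hasAtMor (etSqInv_qunr.on _) detects_qunr hX₀ hY (j ≫ f) hfT_lft]
    intro x₀
    rw [hasAtMor_precomp_etale etSqInv_qunr hX₀ hY j hje f x₀]
    apply hTu
    rw [← hrange]
    exact ⟨x₀, rfl⟩
  let X₀s : AlgSp.Space S := ⟨X₀, hX₀⟩
  let Ys : AlgSp.Space S := ⟨Y, hY⟩
  let fT : X₀s ⟶ Ys := ObjectProperty.homMk (j ≫ f)
  have hdiag : AlgSp.RepWith @IsOpenImmersion (pullback.diagonal (j ≫ f)) :=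
    (Groth.Agent.S10262.result fT).1 hfT
  let k : pullback (j ≫ f) (j ≫ f) ⟶ XX :=
    hXX.lift (pullback.fst _ _ ≫ j) (pullback.snd _ _ ≫ j)
      (by rw [Category.assoc, Category.assoc]; exact pullback.condition)
  have hk : AlgSp.RepWith @IsOpenImmersion k :=
    of_fibreSquare_map (AlgSp.RepWith @IsOpenImmersion) j hj f hXX
      (IsPullback.of_hasPullback (j ≫ f) (j ≫ f)) k (hXX.lift_fst _ _ _) (hXX.lift_snd _ _ _)
  have hcomp : pullback.diagonal (j ≫ f) ≫ k = j ≫ Δ := by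
    apply hXX.hom_ext
    · rw [Category.assoc, hXX.lift_fst, ← Category.assoc, pullback.diagonal_fst, Category.id_comp,
        Category.assoc, hΔ0, Category.comp_id]
    · rw [Category.assoc, hXX.lift_snd, ← Category.assoc, pullback.diagonal_snd, Category.id_comp,
        Category.assoc, hΔ1, Category.comp_id]
  have hjΔ : AlgSp.RepWith @IsOpenImmersion (j ≫ Δ) := by
    rw [← hcomp]
    exact (AlgSp.RepWith @IsOpenImmersion).comp_mem _ _ hdiag hk
  have := Groth.Agent.Lib.Helper12.OpenSub.isOpen_range_of_open (j ≫ Δ) hjΔ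
  have himg : AlgSp.Points.map Δ '' T = Set.range (AlgSp.Points.map (j ≫ Δ)) := by
    rw [← hrange, ← Set.range_comp]
    congr 1
    funext x₀
    rw [Function.comp_apply, AlgSp.Points.map_comp]
  rw [himg]
  exact this

/-- for a base change `f'` of `f` all of whose points lie over `T`, universal injectivity of `f'` means
that `|X' ×_{Y'} X'|` maps into the image of `T` under the diagonal of `f`. -/
theorem univInjective_baseChange_iff {X Y X' Y' : AlgSp.Space S} (f : X ⟶ Y) (f' : X' ⟶ Y')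
    (gX : X' ⟶ X) (gY : Y' ⟶ Y) (sq : IsPullback gX.hom f'.hom f.hom gY.hom)
    {XX : AlgSp.Sp S} {pr0 pr1 : XX ⟶ X.obj} (hXX : IsPullback pr0 pr1 f.hom f.hom)
    (Δ : X.obj ⟶ XX) (hΔ0 : Δ ≫ pr0 = 𝟙 X.obj) (hΔ1 : Δ ≫ pr1 = 𝟙 X.obj)
    (m : pullback f'.hom f'.hom ⟶ XX) (hm0 : m ≫ pr0 = pullback.fst f'.hom f'.hom ≫ gX.hom)
    (hm1 : m ≫ pr1 = pullback.snd f'.hom f'.hom ≫ gX.hom)
    (T : Set (AlgSp.Points X.obj)) (hT : ∀ x' : AlgSp.Points X'.obj, AlgSp.Points.map gX.hom x' ∈ T) :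
    AlgSp.IsUnivInjectiveMor f'.hom ↔
      ∀ ξ' : AlgSp.Points (pullback f'.hom f'.hom),
        AlgSp.Points.map m ξ' ∈ AlgSp.Points.map Δ '' T := by
  rw [(Groth.Agent.S9938.result f').2]
  have hXX' := IsPullback.of_hasPullback f'.hom f'.hom
  have sqΔ : IsPullback (pullback.diagonal f'.hom) gX.hom m Δ :=
    isPullback_diag_baseChange sq hXX hXX' m hm0 hm1 Δ hΔ0 hΔ1 (pullback.diagonal f'.hom)
      (pullback.diagonal_fst _) (pullback.diagonal_snd _)
  constructor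
  · intro hsurj ξ'
    obtain ⟨x', rfl⟩ := hsurj ξ'
    refine ⟨AlgSp.Points.map gX.hom x', hT x', ?_⟩
    rw [← AlgSp.Points.map_comp, ← AlgSp.Points.map_comp, sqΔ.w]
  · intro H ξ'
    obtain ⟨x, -, hx⟩ := H ξ'
    obtain ⟨x', hx'1, -⟩ := Groth.Agent.S10175.exists_point_of_isPullback sqΔ ξ' x hx.symm
    exact ⟨x', hx'1⟩

end Groth.Agent.R2.H45.DiagBC
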