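import Mathlib
import Groth.Prelude.Def_AlgSpDec
import Groth.Prelude.Def_Dual3
import Groth.Agent.R2.H45ResTrdeg
import Groth.Agent.Lib.Helper4DimFormulaAE

/-!
# The dimension formula inequality at scheme level (helper45)
-/

set_option autoImplicit false
set_option linter.style.haveILetI false
universe u
open CategoryTheory CategoryTheory.Limits AlgebraicGeometry

namespace Groth.Agent.R2.H45.DimFormula

open Groth.Agent.Lib.Helper4.DimFormula

/-- `dim O_{U,u} + trdeg κ(u)/κ(h u) ≤ dim O_{V,h u} + trdeg κ(ξ)/κ(h ξ)` for some codimension-0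
generalization `ξ` of `u`. -/
theorem exists_generic_stalk_add_ptTrdeg_le {U V : Scheme.{u}} [IsLocallyNoetherian V] (h : U ⟶ V)
    [LocallyOfFiniteType h] (u : ↥U) :
    ∃ ξ : ↥U, ξ ⤳ u ∧ ringKrullDim ↥(U.presheaf.stalk ξ) = 0 ∧
      ringKrullDim ↥(U.presheaf.stalk u) + (ptTrdeg h u : WithBot ℕ∞) ≤
        ringKrullDim ↥(V.presheaf.stalk (h u)) + (ptTrdeg h ξ : WithBot ℕ∞) := by
  haveI : IsLocallyNoetherian U := LocallyOfFiniteType.isLocallyNoetherian h
  obtain ⟨𝔭, h𝔭, hdim⟩ := exists_minimalPrimes_ringKrullDim_quotient_eq (R := U.presheaf.stalk u)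
  haveI : 𝔭.IsPrime := h𝔭.1.1
  refine ⟨U.fromSpecStalk u ⟨𝔭, h𝔭.1.1⟩, fromSpecStalk_specializes u _, ?_, ?_⟩
  · rw [← height_eq_ringKrullDim_stalk_fromSpecStalk u 𝔭, Ideal.height_eq_zero_iff.2 h𝔭]
    rfl
  · have h1 := ringKrullDim_quotient_add_ptTrdeg_le h u 𝔭
    rw [hdim] at h1
    exact h1.trans (add_le_add_left (ringKrullDim_quotient_le _) _)

end Groth.Agent.R2.H45.DimFormula
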