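import Mathlib
import Groth.Agent.R2.H93HenselEtaleSch
import Groth.Agent.S0508

/-!
# Lifting a henselization to an étale chart (helper93)

For an étale morphism `j : V ⟶ Y`, an affine chart `V' ⊆ j⁻¹ W` and a henselization `R` of
`O_{Y,u₀}`: a ring map `g' : Γ(V, V') → R` compatible with `Γ(Y, W) → O_{Y,u₀} → R` singles out a point
`u` of `V'` over `u₀` with trivial residue field extension, and `R` is a henselization of `O_{V,u}`
through the map induced by `g'`.
-/

set_option autoImplicit false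
set_option linter.style.haveILetI false
universe u

namespace Groth.Agent.R2.H93.HenselChart

open IsLocalRing AlgebraicGeometry CategoryTheory Opposite HenselEtale

theorem fromSpec_mem {X : Scheme.{u}} {U : X.Opens} (hU : IsAffineOpen U)
    (q : PrimeSpectrum Γ(X, U)) : hU.fromSpec q ∈ U := by
  have : hU.fromSpec q ∈ Set.range hU.fromSpec := ⟨q, rfl⟩
  rwa [hU.range_fromSpec] at this

theorem primeIdealOf_fromSpec {X : Scheme.{u}} {U : X.Opens} (hU : IsAffineOpen U)
    (q : PrimeSpectrum Γ(X, U)) (hq : hU.fromSpec q ∈ U) :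
    hU.primeIdealOf ⟨hU.fromSpec q, hq⟩ = q :=
  hU.fromSpec.isOpenEmbedding.injective (hU.fromSpec_primeIdealOf ⟨hU.fromSpec q, hq⟩)

set_option backward.isDefEq.respectTransparency.types false in
/-- the case where the point of `V` is given. -/
theorem exists_extend_of_chart {V Y : Scheme.{u}} (j : V ⟶ Y) [Etale j] (u : V)
    {W : Y.Opens} (hW : IsAffineOpen W) {V' : V.Opens} (hV' : IsAffineOpen V')
    (hVW : V' ≤ j ⁻¹ᵁ W) (huV' : u ∈ V')
    (R : Type u) [CommRing R] [IsLocalRing R] [Algebra (Y.presheaf.stalk (j u)) R]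
    [IsLocalHom (algebraMap (Y.presheaf.stalk (j u)) R)]
    [Hensel.IsHenselization (Y.presheaf.stalk (j u)) R]
    (g' : Γ(V, V') →+* R)
    (hg' : g'.comp (j.appLE W V' hVW).hom =
      (algebraMap (Y.presheaf.stalk (j u)) R).comp (Y.presheaf.germ W (j u) (hVW huV')).hom)
    (hq : (maximalIdeal R).comap g' = (hV'.primeIdealOf ⟨u, huV'⟩).asIdeal) :
    Function.Bijective (ResidueField.map (j.stalkMap u).hom) ∧
    ∃ f' : V.presheaf.stalk u →+* R, f'.comp (V.presheaf.germ V' u huV').hom = g' ∧
      letI : Algebra (V.presheaf.stalk u) R := f'.toAlgebra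
      ∃ (_ : IsLocalHom (algebraMap (V.presheaf.stalk u) R)),
        Hensel.IsHenselization (V.presheaf.stalk u) R := by
  letI := Y.presheaf.algebra_section_stalk ⟨j u, hVW huV'⟩
  haveI := hW.isLocalization_stalk ⟨j u, hVW huV'⟩
  letI := V.presheaf.algebra_section_stalk ⟨u, huV'⟩
  haveI := hV'.isLocalization_stalk ⟨u, huV'⟩
  set q : Ideal Γ(V, V') := (hV'.primeIdealOf ⟨u, huV'⟩).asIdeal with hqdef
  have hunit : ∀ y : q.primeCompl, IsUnit (g' y) := by
    intro y
    by_contra hy
    have : (y : Γ(V, V')) ∈ (maximalIdeal R).comap g' := hy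
    rw [hq] at this
    exact y.2 this
  let gB : V.presheaf.stalk u →+* R := IsLocalization.lift (M := q.primeCompl) (g := g') hunit
  have hgB : ∀ c : Γ(V, V'), gB (V.presheaf.germ V' u huV' c) = g' c := fun c =>
    IsLocalization.lift_eq hunit c
  have hgBφ : gB.comp (j.stalkMap u).hom = algebraMap (Y.presheaf.stalk (j u)) R := by
    apply IsLocalization.ringHom_ext (hW.primeIdealOf ⟨j u, hVW huV'⟩).asIdeal.primeCompl
    ext a
    have h1 : (j.stalkMap u).hom (Y.presheaf.germ W (j u) (hVW huV') a) =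
        V.presheaf.germ V' u huV' ((j.appLE W V' hVW).hom a) := by
      simp only [Scheme.Hom.germ_stalkMap_apply, Scheme.Hom.appLE,
        homOfLE_leOfHom, CommRingCat.hom_comp, RingHom.coe_comp, Function.comp_apply,
        V.presheaf.germ_res_apply]
    show gB ((j.stalkMap u).hom (Y.presheaf.germ W (j u) (hVW huV') a)) =
      algebraMap (Y.presheaf.stalk (j u)) R (Y.presheaf.germ W (j u) (hVW huV') a)
    rw [h1, hgB]
    exact RingHom.congr_fun hg' a
  have hm := map_maximalIdeal_stalkMap j u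
  haveI hgBloc : IsLocalHom gB := isLocalHom_of_comp (j.stalkMap u).hom hm gB
    (by rw [hgBφ]; infer_instance)
  have hres : Function.Bijective (ResidueField.map (j.stalkMap u).hom) := by
    refine ⟨(ResidueField.map (j.stalkMap u).hom).injective, ?_⟩
    have hcomp : (ResidueField.map gB).comp (ResidueField.map (j.stalkMap u).hom) =
        ResidueField.map (algebraMap (Y.presheaf.stalk (j u)) R) := by
      rw [← ResidueField.map_comp]
      congr 1
    have hbij := Groth.Agent.S0508.result (Y.presheaf.stalk (j u)) R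
    intro z
    obtain ⟨y, hy⟩ := hbij.2 (ResidueField.map gB z)
    refine ⟨y, (ResidueField.map gB).injective ?_⟩
    rw [← hy, ← hcomp]
    rfl
  refine ⟨hres, ?_⟩
  obtain ⟨f', hf', hrest⟩ := isHenselization_extend_stalkMap j u hres R
  haveI hR : HenselianLocalRing R :=
    Hensel.IsHenselization.henselian (R := Y.presheaf.stalk (j u))
  obtain ⟨f₀, -, huniq⟩ := stalkMap_existsUnique_extend j u hres R
    (algebraMap (Y.presheaf.stalk (j u)) R) inferInstance
  have e1 : f' = f₀ := huniq f' hf'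
  have e2 : gB = f₀ := huniq gB hgBφ
  have e3 : f' = gB := e1.trans e2.symm
  refine ⟨f', ?_, hrest⟩
  rw [e3]
  ext c
  exact hgB c

set_option backward.isDefEq.respectTransparency.types false in
/-- the point of `V` is determined by `g'`. -/
theorem exists_point_extend_of_chart {V Y : Scheme.{u}} (j : V ⟶ Y) [Etale j]
    {W : Y.Opens} (hW : IsAffineOpen W) {V' : V.Opens} (hV' : IsAffineOpen V')
    (hVW : V' ≤ j ⁻¹ᵁ W) (u₀ : Y) (hu₀ : u₀ ∈ W)
    (R : Type u) [CommRing R] [IsLocalRing R] [Algebra (Y.presheaf.stalk u₀) R]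
    [IsLocalHom (algebraMap (Y.presheaf.stalk u₀) R)]
    [Hensel.IsHenselization (Y.presheaf.stalk u₀) R]
    (g' : Γ(V, V') →+* R)
    (hg' : g'.comp (j.appLE W V' hVW).hom =
      (algebraMap (Y.presheaf.stalk u₀) R).comp (Y.presheaf.germ W u₀ hu₀).hom) :
    ∃ (u : V) (huV' : u ∈ V'), j u = u₀ ∧
      Function.Bijective (ResidueField.map (j.stalkMap u).hom) ∧
      ∃ f' : V.presheaf.stalk u →+* R, f'.comp (V.presheaf.germ V' u huV').hom = g' ∧
        letI : Algebra (V.presheaf.stalk u) R := f'.toAlgebra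
        ∃ (_ : IsLocalHom (algebraMap (V.presheaf.stalk u) R)),
          Hensel.IsHenselization (V.presheaf.stalk u) R := by
  haveI hprime : ((maximalIdeal R).comap g').IsPrime := Ideal.comap_isPrime _ _
  obtain ⟨y, hy⟩ : ∃ y : PrimeSpectrum Γ(V, V'), y = ⟨(maximalIdeal R).comap g', hprime⟩ := ⟨_, rfl⟩
  obtain ⟨u, hu⟩ : ∃ u : V, u = hV'.fromSpec y := ⟨_, rfl⟩
  have huV' : u ∈ V' := hu ▸ fromSpec_mem hV' y
  have hprim : hV'.primeIdealOf ⟨u, huV'⟩ = y := by
    subst hu
    exact primeIdealOf_fromSpec hV' y _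
  have hju : j u = u₀ := by
    have h1 := congrArg (fun f => f.base y) (IsAffineOpen.SpecMap_appLE_fromSpec j hW hV' hVW)
    simp only [Scheme.Hom.comp_base, TopCat.hom_comp, ContinuousMap.comp_apply] at h1
    rw [hu]
    refine h1.symm.trans ?_
    have h2 : (Spec.map (j.appLE W V' hVW)).base y = hW.primeIdealOf ⟨u₀, hu₀⟩ := by
      rw [hW.primeIdealOf_eq_map_closedPoint]
      apply PrimeSpectrum.ext
      show Ideal.comap (j.appLE W V' hVW).hom y.asIdeal =
        Ideal.comap (Y.presheaf.germ W u₀ hu₀).hom (maximalIdeal _)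
      rw [hy]
      show Ideal.comap (j.appLE W V' hVW).hom (Ideal.comap g' (maximalIdeal R)) = _
      rw [Ideal.comap_comap, hg', ← Ideal.comap_comap]
      congr 1
      exact ((local_hom_TFAE (algebraMap (Y.presheaf.stalk u₀) R)).out 0 4 rfl rfl).mp inferInstance
    rw [h2]
    exact hW.fromSpec_primeIdealOf ⟨u₀, hu₀⟩
  subst hju
  have hq : (maximalIdeal R).comap g' = (hV'.primeIdealOf ⟨u, huV'⟩).asIdeal := by
    rw [hprim, hy]
  obtain ⟨hres, f', hf', hrest⟩ := exists_extend_of_chart j u hW hV' hVW huV' R g' hg' hq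
  exact ⟨u, huV', rfl, hres, f', hf', hrest⟩

end Groth.Agent.R2.H93.HenselChart
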