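import Mathlib
import Groth.Prelude.Def_AlgSpDec
import Groth.Agent.R2.H93ElemNbhd2
import Groth.Agent.R2.H93HenselChart
import Groth.Agent.R2.H93MinPrimes
import Groth.Agent.S9470
import Groth.Agent.S0509

/-!
# Minimal primes of the henselian local ring are seen on elementary étale neighbourhoods (helper93)

`exists_isElemEtaleNbhd_le_encard`: if the henselization `R` of the local ring of an elementary
étale neighbourhood of `x` has at least `k` minimal primes, then some elementary étale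
neighbourhood of `x` has a local ring with at least `k` minimal primes.
-/

set_option autoImplicit false
set_option linter.style.haveILetI false
universe u

namespace Groth.Agent.R2.H93.ElemNbhd

open IsLocalRing AlgebraicGeometry CategoryTheory Opposite AlgSp
open Groth.Agent.Lib.Helper3.IndEt

variable {S : Scheme.{u}}

set_option backward.isDefEq.respectTransparency.types false in
/-- the chart map of `Spec E ⟶ Spec Γ(Y, W) ≅ W ⊆ Y` on global sections. -/
theorem appLE_specMap_fromSpec {Y : Scheme.{u}} {W : Y.Opens} (hW : IsAffineOpen W)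
    {E : CommRingCat.{u}} (ψ : Γ(Y, W) ⟶ E)
    (hVW : (⊤ : (Spec E).Opens) ≤ (Spec.map ψ ≫ hW.fromSpec) ⁻¹ᵁ W) :
    (Spec.map ψ ≫ hW.fromSpec).appLE W ⊤ hVW = ψ ≫ (Scheme.ΓSpecIso E).inv := by
  have h1 := IsAffineOpen.SpecMap_appLE_fromSpec (Spec.map ψ ≫ hW.fromSpec) hW
    (isAffineOpen_top (Spec E)) hVW
  rw [IsAffineOpen.fromSpec_top, Scheme.isoSpec_Spec_inv, ← Category.assoc, ← Spec.map_comp,
    cancel_mono] at h1
  exact Spec.map_injective h1

set_option backward.isDefEq.respectTransparency.types false in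
set_option maxHeartbeats 800000 in
/-- if the henselization of the local ring of an elementary étale neighbourhood of `x` has at least
`k` minimal primes, so has the local ring of some elementary étale neighbourhood of `x`. -/
theorem exists_isElemEtaleNbhd_le_encard {F : AlgSp.Sp S} (x : AlgSp.Points F) {U₀ : Over S}
    (a₀ : (AlgSp.yon S).obj U₀ ⟶ F) (u₀ : ↥U₀.left) (h₀ : AlgSp.IsElemEtaleNbhd a₀ u₀ x)
    (R : Type u) [CommRing R] [IsLocalRing R] [Algebra ↥(U₀.left.presheaf.stalk u₀) R]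
    [IsLocalHom (algebraMap ↥(U₀.left.presheaf.stalk u₀) R)]
    [Hensel.IsHenselization ↥(U₀.left.presheaf.stalk u₀) R] (k : ℕ)
    (hk : (k : ℕ∞) ≤ (minimalPrimes R).encard) :
    ∃ (U : Over S) (a : (AlgSp.yon S).obj U ⟶ F) (u : ↥U.left), AlgSp.IsElemEtaleNbhd a u x ∧
      (k : ℕ∞) ≤ (minimalPrimes ↥(U.left.presheaf.stalk u)).encard := by
  classical
  obtain ⟨W₀, hW₀, hu₀, -⟩ := exists_isAffineOpen_mem_and_subset (x := u₀) (U := ⊤) trivial
  letI algA := U₀.left.presheaf.algebra_section_stalk ⟨u₀, hu₀⟩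
  haveI := hW₀.isLocalization_stalk ⟨u₀, hu₀⟩
  letI algR : Algebra Γ(U₀.left, W₀) R :=
    ((algebraMap ↥(U₀.left.presheaf.stalk u₀) R).comp
      (algebraMap Γ(U₀.left, W₀) ↥(U₀.left.presheaf.stalk u₀))).toAlgebra
  haveI : IsScalarTower Γ(U₀.left, W₀) ↥(U₀.left.presheaf.stalk u₀) R :=
    IsScalarTower.of_algebraMap_eq (fun _ => rfl)
  have hF : Obj.Factor Γ(U₀.left, W₀) R :=
    factor_of_isIndEtale (isIndEtale_comp Γ(U₀.left, W₀) ↥(U₀.left.presheaf.stalk u₀) R
      (isIndEtale_of_factor (Groth.Agent.S9470.factor_localization Γ(U₀.left, W₀)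
        (hW₀.primeIdealOf ⟨u₀, hu₀⟩).asIdeal.primeCompl ↥(U₀.left.presheaf.stalk u₀)))
      (isIndEtale_of_isHenselization ↥(U₀.left.presheaf.stalk u₀) R))
  -- `k` minimal primes
  obtain ⟨t₀, ht₀sub, ht₀card⟩ := Set.exists_subset_encard_eq hk
  have ht₀fin : t₀.Finite := Set.finite_of_encard_eq_coe ht₀card
  let t : Finset (Ideal R) := ht₀fin.toFinset
  have ht : ∀ P ∈ t, P ∈ minimalPrimes R := fun P hP => ht₀sub (ht₀fin.mem_toFinset.mp hP)
  have htcard : (t.card : ℕ∞) = k := by
    rw [← ht₀card, ← Set.encard_coe_eq_coe_finsetCard, Set.Finite.coe_toFinset]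
  obtain ⟨E, _, _, hEt, g, hinj⟩ := MinPrimes.exists_etale_separating hF t ht
  -- the scheme `Spec E` over `U₀`
  let ψ : Γ(U₀.left, W₀) ⟶ CommRingCat.of E := CommRingCat.ofHom (algebraMap Γ(U₀.left, W₀) E)
  let j : Spec (CommRingCat.of E) ⟶ U₀.left := Spec.map ψ ≫ hW₀.fromSpec
  haveI : Etale (Spec.map ψ) := by
    rw [HasRingHomProperty.Spec_iff (P := @Etale)]
    exact RingHom.etale_algebraMap.mpr hEt
  haveI : Etale j := inferInstanceAs (Etale (Spec.map ψ ≫ hW₀.fromSpec))
  have hVW : (⊤ : (Spec (CommRingCat.of E)).Opens) ≤ j ⁻¹ᵁ W₀ := by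
    intro v _
    exact HenselChart.fromSpec_mem hW₀ _
  have happLE : j.appLE W₀ ⊤ hVW = ψ ≫ (Scheme.ΓSpecIso (CommRingCat.of E)).inv :=
    appLE_specMap_fromSpec hW₀ ψ hVW
  let g' : Γ(Spec (CommRingCat.of E), ⊤) →+* R :=
    g.toRingHom.comp (Scheme.ΓSpecIso (CommRingCat.of E)).hom.hom
  have hg' : g'.comp (j.appLE W₀ ⊤ hVW).hom =
      (algebraMap ↥(U₀.left.presheaf.stalk u₀) R).comp (U₀.left.presheaf.germ W₀ u₀ hu₀).hom := by
    rw [happLE]
    ext c
    show g ((Scheme.ΓSpecIso (CommRingCat.of E)).hom.hom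
      ((Scheme.ΓSpecIso (CommRingCat.of E)).inv.hom (algebraMap Γ(U₀.left, W₀) E c))) = _
    have h1 : (Scheme.ΓSpecIso (CommRingCat.of E)).hom.hom
        ((Scheme.ΓSpecIso (CommRingCat.of E)).inv.hom (algebraMap Γ(U₀.left, W₀) E c)) =
        algebraMap Γ(U₀.left, W₀) E c := by
      have := (Scheme.ΓSpecIso (CommRingCat.of E)).inv_hom_id
      exact congr($this (algebraMap Γ(U₀.left, W₀) E c))
    rw [h1, g.commutes]
    rfl
  obtain ⟨u, huV', hju, hres, f', hf', hloc, hH⟩ :=
    HenselChart.exists_point_extend_of_chart j hW₀ (isAffineOpen_top _) hVW u₀ hu₀ R g' hg'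
  -- the elementary étale neighbourhood
  let Vo : Over S := Over.mk (j ≫ U₀.hom)
  let jo : Vo ⟶ U₀ := Over.homMk j rfl
  refine ⟨Vo, (AlgSp.yon S).map jo ≫ a₀, u, ⟨?_, ?_, ?_⟩, ?_⟩
  · exact (AlgSp.repWith_isMultiplicative (S := S) @Etale).comp_mem _ _
      ((AlgSp.repWith_yon_map_iff _ _).2 (inferInstanceAs (Etale j))) h₀.etale
  · rw [Groth.Agent.S10176.ofPt_map_comp]
    show AlgSp.Points.ofPt a₀ (j u) = x
    rw [hju]
    exact h₀.ofPt_eq
  · rw [mono_toHom_ofPt_iff]
    obtain ⟨m, hm, hml⟩ := exists_resHom jo u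
    have hmono₀ : ∀ (y : ↥U₀.left), y = u₀ → Mono ((AlgSp.yon S).map (ptHom U₀ y) ≫ a₀) := by
      rintro y rfl
      exact (mono_toHom_ofPt_iff a₀ _).mp h₀.mono
    haveI := hmono₀ (jo.left u) hju
    haveI : IsIso (j.residueFieldMap u) :=
      (ConcreteCategory.isIso_iff_bijective (j.residueFieldMap u)).mpr hres
    haveI : IsIso m.left := by
      rw [hml]
      exact inferInstanceAs (IsIso (Spec.map (j.residueFieldMap u)))
    haveI : IsIso ((Over.forget S).map m) := inferInstanceAs (IsIso m.left)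
    haveI : IsIso m := isIso_of_reflects_iso m (Over.forget S)
    have e : (AlgSp.yon S).map (ptHom Vo u) ≫ (AlgSp.yon S).map jo ≫ a₀ =
        (AlgSp.yon S).map m ≫ ((AlgSp.yon S).map (ptHom U₀ (jo.left u)) ≫ a₀) := by
      rw [← Category.assoc, ← Functor.map_comp, ← hm, Functor.map_comp, Category.assoc]
    rw [e]
    infer_instance
  · -- the count
    rw [← htcard]
    letI : Algebra ↥((Spec (CommRingCat.of E)).presheaf.stalk u) R := f'.toAlgebra
    haveI := hloc
    haveI := hH
    have hff : Module.FaithfullyFlat ↥((Spec (CommRingCat.of E)).presheaf.stalk u) R :=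
      Groth.Agent.S0509.result _ R
    have hflat : f'.Flat := by
      show Module.Flat ↥((Spec (CommRingCat.of E)).presheaf.stalk u) R
      infer_instance
    refine MinPrimes.card_le_encard_minimalPrimes f' hflat t ht ?_
    intro P hP Q hQ hPQ
    apply hinj hP hQ
    have h1 : P.comap f' = Q.comap f' := hPQ
    have h2 : P.comap g' = Q.comap g' := by
      rw [← hf', ← Ideal.comap_comap, ← Ideal.comap_comap, h1]
    have h3 : (P.comap g.toRingHom).comap (Scheme.ΓSpecIso (CommRingCat.of E)).hom.hom =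
        (Q.comap g.toRingHom).comap (Scheme.ΓSpecIso (CommRingCat.of E)).hom.hom := by
      rw [Ideal.comap_comap, Ideal.comap_comap]
      exact h2
    have hsurj : Function.Surjective (Scheme.ΓSpecIso (CommRingCat.of E)).hom.hom := by
      intro e
      refine ⟨(Scheme.ΓSpecIso (CommRingCat.of E)).inv.hom e, ?_⟩
      have := (Scheme.ΓSpecIso (CommRingCat.of E)).inv_hom_id
      exact congr($this e)
    exact Ideal.comap_injective_of_surjective _ hsurj h3

end Groth.Agent.R2.H93.ElemNbhd
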