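import Mathlib
import Groth.Prelude.Def_Hens2
import Groth.Agent.R2.H93ElemNbhd3
import Groth.Agent.R2.H93HenselChart
import Groth.Agent.R2.H93MinPrimes
import Groth.Agent.S9470
import Groth.Agent.S0509

/-!
# Minimal primes of the henselization are seen on elementary etale neighbourhoods of a scheme
(helper45; scheme-level twin of helper93's `exists_isElemEtaleNbhd_le_encard`)
-/

set_option autoImplicit false
set_option linter.style.haveILetI false
universe u

namespace Groth.Agent.R2.H45.ElemCount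

open IsLocalRing AlgebraicGeometry CategoryTheory Opposite
open Groth.Agent.Lib.Helper3.IndEt Groth.Agent.R2.H93

set_option backward.isDefEq.respectTransparency.types false in
set_option maxHeartbeats 800000 in
/-- if the henselization of the local ring of `Y` at `y` has at least `k` minimal primes, so has the
local ring of some elementary étale neighbourhood of `y`. -/
theorem exists_elem_le_encard {Y : Scheme.{u}} (y : Y)
    (R : Type u) [CommRing R] [IsLocalRing R] [Algebra ↥(Y.presheaf.stalk y) R]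
    [IsLocalHom (algebraMap ↥(Y.presheaf.stalk y) R)]
    [Hensel.IsHenselization ↥(Y.presheaf.stalk y) R] (k : ℕ)
    (hk : (k : ℕ∞) ≤ (minimalPrimes R).encard) :
    ∃ (V : Scheme.{u}) (j : V ⟶ Y) (v : V), Hens2.IsEtaleNbhd j v y ∧
      (k : ℕ∞) ≤ (minimalPrimes ↥(V.presheaf.stalk v)).encard := by
  classical
  obtain ⟨W₀, hW₀, hu₀, -⟩ := exists_isAffineOpen_mem_and_subset (x := y) (U := ⊤) trivial
  letI algA := Y.presheaf.algebra_section_stalk ⟨y, hu₀⟩
  haveI := hW₀.isLocalization_stalk ⟨y, hu₀⟩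
  letI algR : Algebra Γ(Y, W₀) R :=
    ((algebraMap ↥(Y.presheaf.stalk y) R).comp
      (algebraMap Γ(Y, W₀) ↥(Y.presheaf.stalk y))).toAlgebra
  haveI : IsScalarTower Γ(Y, W₀) ↥(Y.presheaf.stalk y) R :=
    IsScalarTower.of_algebraMap_eq (fun _ => rfl)
  have hF : Obj.Factor Γ(Y, W₀) R :=
    factor_of_isIndEtale (isIndEtale_comp Γ(Y, W₀) ↥(Y.presheaf.stalk y) R
      (isIndEtale_of_factor (Groth.Agent.S9470.factor_localization Γ(Y, W₀)
        (hW₀.primeIdealOf ⟨y, hu₀⟩).asIdeal.primeCompl ↥(Y.presheaf.stalk y)))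
      (isIndEtale_of_isHenselization ↥(Y.presheaf.stalk y) R))
  -- `k` minimal primes
  obtain ⟨t₀, ht₀sub, ht₀card⟩ := Set.exists_subset_encard_eq hk
  have ht₀fin : t₀.Finite := Set.finite_of_encard_eq_coe ht₀card
  let t : Finset (Ideal R) := ht₀fin.toFinset
  have ht : ∀ P ∈ t, P ∈ minimalPrimes R := fun P hP => ht₀sub (ht₀fin.mem_toFinset.mp hP)
  have htcard : (t.card : ℕ∞) = k := by
    rw [← ht₀card, ← Set.encard_coe_eq_coe_finsetCard, Set.Finite.coe_toFinset]
  obtain ⟨E, _, _, hEt, g, hinj⟩ := MinPrimes.exists_etale_separating hF t ht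
  -- the scheme `Spec E` over `Y`
  let ψ : Γ(Y, W₀) ⟶ CommRingCat.of E := CommRingCat.ofHom (algebraMap Γ(Y, W₀) E)
  let j : Spec (CommRingCat.of E) ⟶ Y := Spec.map ψ ≫ hW₀.fromSpec
  haveI : Etale (Spec.map ψ) := by
    rw [HasRingHomProperty.Spec_iff (P := @Etale)]
    exact RingHom.etale_algebraMap.mpr hEt
  haveI hjet : Etale j := inferInstanceAs (Etale (Spec.map ψ ≫ hW₀.fromSpec))
  have hVW : (⊤ : (Spec (CommRingCat.of E)).Opens) ≤ j ⁻¹ᵁ W₀ := by
    intro v _
    exact HenselChart.fromSpec_mem hW₀ _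
  have happLE : j.appLE W₀ ⊤ hVW = ψ ≫ (Scheme.ΓSpecIso (CommRingCat.of E)).inv :=
    ElemNbhd.appLE_specMap_fromSpec hW₀ ψ hVW
  let g' : Γ(Spec (CommRingCat.of E), ⊤) →+* R :=
    g.toRingHom.comp (Scheme.ΓSpecIso (CommRingCat.of E)).hom.hom
  have hg' : g'.comp (j.appLE W₀ ⊤ hVW).hom =
      (algebraMap ↥(Y.presheaf.stalk y) R).comp (Y.presheaf.germ W₀ y hu₀).hom := by
    rw [happLE]
    ext c
    show g ((Scheme.ΓSpecIso (CommRingCat.of E)).hom.hom
      ((Scheme.ΓSpecIso (CommRingCat.of E)).inv.hom (algebraMap Γ(Y, W₀) E c))) = _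
    have h1 : (Scheme.ΓSpecIso (CommRingCat.of E)).hom.hom
        ((Scheme.ΓSpecIso (CommRingCat.of E)).inv.hom (algebraMap Γ(Y, W₀) E c)) =
        algebraMap Γ(Y, W₀) E c := by
      have := (Scheme.ΓSpecIso (CommRingCat.of E)).inv_hom_id
      exact congr($this (algebraMap Γ(Y, W₀) E c))
    rw [h1, g.commutes]
    rfl
  obtain ⟨u, huV', hju, hres, f', hf', hloc, hH⟩ :=
    HenselChart.exists_point_extend_of_chart j hW₀ (isAffineOpen_top _) hVW y hu₀ R g' hg'
  refine ⟨_, j, u, ⟨hjet, hju, hres⟩, ?_⟩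
  -- the count
  rw [← htcard]
  letI : Algebra ↥((Spec (CommRingCat.of E)).presheaf.stalk u) R := f'.toAlgebra
  haveI := hloc
  haveI := hH
  have hff : Module.FaithfullyFlat ↥((Spec (CommRingCat.of E)).presheaf.stalk u) R :=
    Groth.Agent.S0509.result _ R
  have hflat : f'.Flat := by
    show Module.Flat ↥((Spec (CommRingCat.of E)).presheaf.stalk u) R
    infer_instance
  refine MinPrimes.card_le_encard_minimalPrimes f' hflat t ht ?_
  intro P hP Q hQ hPQ
  apply hinj hP hQ
  have h1 : P.comap f' = Q.comap f' := hPQ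
  have h2 : P.comap g' = Q.comap g' := by
    rw [← hf', ← Ideal.comap_comap, ← Ideal.comap_comap, h1]
  have h3 : (P.comap g.toRingHom).comap (Scheme.ΓSpecIso (CommRingCat.of E)).hom.hom =
      (Q.comap g.toRingHom).comap (Scheme.ΓSpecIso (CommRingCat.of E)).hom.hom := by
    rw [Ideal.comap_comap, Ideal.comap_comap]
    exact h2
  have hsurj : Function.Surjective (Scheme.ΓSpecIso (CommRingCat.of E)).hom.hom := by
    intro e
    refine ⟨(Scheme.ΓSpecIso (CommRingCat.of E)).inv.hom e, ?_⟩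
    have := (Scheme.ΓSpecIso (CommRingCat.of E)).inv_hom_id
    exact congr($this e)
  exact Ideal.comap_injective_of_surjective _ hsurj h3

end Groth.Agent.R2.H45.ElemCount
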