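import Mathlib

set_option autoImplicit false
set_option linter.style.haveILetI false
universe u
open CategoryTheory CategoryTheory.Limits AlgebraicGeometry

namespace Groth.Agent.R2.H46.QC

/-- quasi-compactness descends along surjective open maps. -/
lemma quasiCompact_of_isPullback_of_surjective_of_isOpenMap {A T T' A' : Scheme.{u}}
    {f : A ⟶ T} {g : T' ⟶ T} {f' : A' ⟶ T'} {g' : A' ⟶ A} (sq : IsPullback g' f' f g)
    (hg : Function.Surjective g) (hopen : IsOpenMap g) [QuasiCompact f'] : QuasiCompact f := by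
  constructor
  intro V hV hVc
  have hN : ∀ t' : {t' : ↥T' // g t' ∈ V}, ∃ N : T'.Opens, IsCompact (N : Set ↥T') ∧
      t'.1 ∈ N ∧ (N : Set ↥T') ⊆ g ⁻¹' V := by
    intro t'
    obtain ⟨_, ⟨N, hN, rfl⟩, htN, hNV⟩ := T'.isBasis_affineOpens.exists_subset_of_mem_open
      (show t'.1 ∈ g ⁻¹' V from t'.2) (hV.preimage g.continuous)
    exact ⟨N, hN.isCompact, htN, hNV⟩
  choose N hNc htN hNV using hN
  have hcover : V ⊆ ⋃ t', g '' (N t' : Set ↥T') := by
    intro v hv
    obtain ⟨t', rfl⟩ := hg v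
    exact Set.mem_iUnion.2 ⟨⟨t', hv⟩, t', htN _, rfl⟩
  obtain ⟨s, hs⟩ := hVc.elim_finite_subcover _ (fun t' => hopen _ (N t').2) hcover
  have heq : f ⁻¹' V = ⋃ t' ∈ s, g' '' (f' ⁻¹' (N t' : Set ↥T')) := by
    ext a
    constructor
    · intro ha
      obtain ⟨t', ht's, n, hn, hna⟩ := Set.mem_iUnion₂.1 (hs ha)
      obtain ⟨a', ha'1, ha'2⟩ := Scheme.exists_preimage_of_isPullback sq a n hna.symm
      refine Set.mem_iUnion₂.2 ⟨t', ht's, a', ?_, ha'1⟩
      rw [Set.mem_preimage]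
      exact ha'2 ▸ hn
    · intro ha
      obtain ⟨t', ht's, a', ha', rfl⟩ := Set.mem_iUnion₂.1 ha
      have : f (g' a') = g (f' a') := by
        rw [← Scheme.Hom.comp_apply, sq.w, Scheme.Hom.comp_apply]
      rw [Set.mem_preimage, this]
      exact hNV t' ha'
  rw [heq]
  exact s.finite_toSet.isCompact_biUnion fun t' _ =>
    (QuasiCompact.isCompact_preimage _ (N t').2 (hNc t')).image g'.continuous

end Groth.Agent.R2.H46.QC
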