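import Mathlib
import Groth.Agent.R2.H25DecentCore
import Groth.Agent.R2.H44LimIso
import Groth.Agent.S10412
import Groth.Agent.S10198
import Groth.Agent.S9920
import Groth.Agent.S10265

/-!
# Quotient of the spectrum of a field by an étale equivalence relation (helper45)

A strengthening of `Groth.Agent.R2.H25.DecentCore.exists_mono_of_affine` (helper25) which also
returns the covering `Spec K ⟶ Spec k'`, and the consequence that an algebraic space with an étale
surjective map from the spectrum of a field whose self fibre product is quasi-compact is the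
spectrum of a field.
-/

set_option autoImplicit false
set_option linter.style.haveILetI false
universe u
open CategoryTheory CategoryTheory.Limits AlgebraicGeometry Topology TopologicalSpace

namespace Groth.Agent.R2.H45.FieldQuot

open Opposite MorphismProperty Groth.Agent.R2.H25.FieldEqvRel Groth.Agent.R2.H25.DecentCore

variable {S : Scheme.{u}}

section Descent

variable {X : AlgSp.Sp S} (q : AlgSp.FieldPt X) {Bc : CommRingCat.{u}}
  (sC tC : CommRingCat.of q.K ⟶ Bc) (hst : Spec.map tC ≫ q.str = Spec.map sC ≫ q.str)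

/-- the point of `q` is represented by a monomorphism from the spectrum of the equalizer subfield,
when `Spec K ×_X Spec K = Spec B` with `B` finite over `K`; strengthened form returning the
covering `c : Spec K ⟶ Spec k'`. -/
theorem exists_mono_of_affine'
    (sq : IsPullback ((AlgSp.yon S).map (tgtMap q sC tC hst)) ((AlgSp.yon S).map (srcMap q sC))
      q.toHom q.toHom) (hfin : sC.hom.Finite) :
    ∃ (p : AlgSp.FieldPt X) (c : q.pt ⟶ p.pt), (AlgSp.yon S).map c ≫ p.toHom = q.toHom ∧
      Mono p.toHom ∧ IsFinite c.left ∧ Flat c.left ∧ Surjective c.left := by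
  haveI := nontrivial_of_isPullback q sC tC hst sq
  have htr := trans_of_isPullback q sC tC hst sq
  have hepi := jointlyEpi_of_isPullback q sC tC hst sq
  -- the equalizer subfield and its inclusion
  let kf : Subfield q.K := eqField sC.hom tC.hom
  let incl : CommRingCat.of kf ⟶ CommRingCat.of q.K := CommRingCat.ofHom kf.subtype
  haveI hfk : Module.Finite kf q.K := by
    haveI : Module.Finite q.K (Via sC.hom) := hfin
    exact finite_eqField sC.hom tC.hom htr
  have hpush := isPushout sC.hom tC.hom htr hfin hepi
  have hpb : IsPullback (Spec.map sC) (Spec.map tC) (Spec.map incl) (Spec.map incl) :=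
    isPullback_SpecMap_of_isPushout _ _ _ _ hpush
  -- the structure map of `Spec k'`
  set s₀ := q.str (IsLocalRing.closedPoint q.K) with hs₀
  have hθ := Scheme.descResidueField_stalkClosedPointTo_fromSpecResidueField q.K S q.str
  set θ := Scheme.descResidueField (Scheme.stalkClosedPointTo q.str) with hθdef
  have hθeq : θ ≫ sC = θ ≫ tC := by
    apply Spec.map_injective
    rw [← cancel_mono (S.fromSpecResidueField s₀), Spec.map_comp, Spec.map_comp, Category.assoc,
      Category.assoc, hθ, hst]
  let θ' : S.residueField s₀ ⟶ CommRingCat.of kf :=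
    CommRingCat.ofHom (θ.hom.codRestrict kf (fun z => by
      show sC.hom (θ.hom z) = tC.hom (θ.hom z)
      exact congrArg (fun m => m.hom z) hθeq))
  have hθ' : θ' ≫ incl = θ := by
    apply CommRingCat.hom_ext
    ext z
    rfl
  let str' : Spec (CommRingCat.of kf) ⟶ S := Spec.map θ' ≫ S.fromSpecResidueField s₀
  have hstr' : Spec.map incl ≫ str' = q.str := by
    rw [← Category.assoc, ← Spec.map_comp, hθ', hθ]
  let Pk : Over S := Over.mk str'
  let c : q.pt ⟶ Pk := Over.homMk (Spec.map incl) hstr'
  -- `c` is an fppf covering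
  haveI : Flat (Spec.map incl) := by
    rw [Flat.SpecMap_iff]
    show (kf.subtype : kf →+* q.K).Flat
    rw [RingHom.Flat]
    infer_instance
  haveI : Surjective (Spec.map incl) := by
    refine ⟨fun y => ⟨IsLocalRing.closedPoint q.K, ?_⟩⟩
    exact (inferInstance : Subsingleton (PrimeSpectrum kf)).elim _ _
  haveI : LocallyOfFinitePresentation (Spec.map incl) := by
    rw [HasRingHomProperty.Spec_iff (P := @LocallyOfFinitePresentation)]
    show (kf.subtype : kf →+* q.K).FinitePresentation
    have h1 : (algebraMap kf q.K).Finite := hfk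
    exact RingHom.FinitePresentation.of_finiteType.1 h1.finiteType
  haveI : IsFinite (Spec.map incl) := by
    rw [IsFinite.SpecMap_iff]
    show (algebraMap kf q.K).Finite
    exact hfk
  have hcov : Presieve.singleton c.left ∈ Scheme.fppfPrecoverage Pk.left :=
    Scheme.Hom.singleton_mem_fppfPrecoverage (Spec.map incl)
  -- the equalizer coequalizes
  have hcoeq : srcMap q sC ≫ c = tgtMap q sC tC hst ≫ c := by
    apply Over.OverMorphism.ext
    show Spec.map sC ≫ Spec.map incl = Spec.map tC ≫ Spec.map incl
    exact hpb.w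
  -- descent of the section
  have hsh : Presieve.IsSheafFor X.obj (Presieve.singleton c) := by
    rw [Presieve.isSheafFor_iff_generate]
    exact (isSheaf_iff_isSheaf_of_type _ _).1 X.property _
      (Groth.Agent.Lib.Helper12.QuotShLib.generate_singleton_mem_J Scheme.fppfPrecoverage c hcov)
  rw [Presieve.isSheafFor_singleton] at hsh
  have hcompat : ∀ {Z : Over S} (p₁ p₂ : Z ⟶ q.pt), p₁ ≫ c = p₂ ≫ c →
      X.obj.map p₁.op q.val = X.obj.map p₂.op q.val := by
    intro Z p₁ p₂ h
    have h' : p₁.left ≫ Spec.map incl = p₂.left ≫ Spec.map incl :=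
      congrArg (fun m => m.left) h
    let l := hpb.lift p₁.left p₂.left h'
    have hl1 : l ≫ Spec.map sC = p₁.left := hpb.lift_fst _ _ _
    have hl2 : l ≫ Spec.map tC = p₂.left := hpb.lift_snd _ _ _
    let l' : Z ⟶ Rel q sC := Over.homMk l (by
      show l ≫ Spec.map sC ≫ q.str = Z.hom
      rw [← Category.assoc, hl1]; exact Over.w p₁)
    have e1 : p₁ = l' ≫ srcMap q sC := by
      apply Over.OverMorphism.ext; exact hl1.symm
    have e2 : p₂ = l' ≫ tgtMap q sC tC hst := by
      apply Over.OverMorphism.ext; exact hl2.symm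
    rw [map_val_eq_iff, e1, e2, Functor.map_comp, Functor.map_comp, Category.assoc, Category.assoc,
      sq.w]
  obtain ⟨ξ, hξ, -⟩ := hsh q.val hcompat
  let p : AlgSp.FieldPt X := ⟨kf, str', ξ⟩
  have hcp : (AlgSp.yon S).map c ≫ p.toHom = q.toHom := yon_map_comp_toHom_eq q (p := p) c hξ
  refine ⟨p, c, hcp, ?_, inferInstanceAs (IsFinite (Spec.map incl)),
    inferInstanceAs (Flat (Spec.map incl)), inferInstanceAs (Surjective (Spec.map incl))⟩
  · refine mono_toHom_of_injective p (fun T α β hαβ => ?_)
    -- lift `α`, `β` fppf locally to `Spec K`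
    let π₁ := pullback.fst α c
    let a₁ := pullback.snd α c
    have hc1 : π₁ ≫ α = a₁ ≫ c := pullback.condition
    let π₂ := pullback.fst (π₁ ≫ β) c
    let b := pullback.snd (π₁ ≫ β) c
    have hc2 : π₂ ≫ π₁ ≫ β = b ≫ c := pullback.condition
    have hflat : ∀ {T' : Over S} (γ : T' ⟶ Pk),
        Flat (pullback.fst γ c).left ∧ Surjective (pullback.fst γ c).left := by
      intro T' γ
      have hsq : IsPullback (pullback.fst γ c).left (pullback.snd γ c).left γ.left c.left :=
        (IsPullback.of_hasPullback γ c).map (Over.forget S)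
      exact ⟨MorphismProperty.of_isPullback (P := @Flat) hsq.flip
          (inferInstanceAs (Flat (Spec.map incl))),
        MorphismProperty.of_isPullback (P := @Surjective) hsq.flip
          (inferInstanceAs (Surjective (Spec.map incl)))⟩
    haveI := (hflat α).1
    haveI := (hflat α).2
    haveI := (hflat (π₁ ≫ β)).1
    haveI := (hflat (π₁ ≫ β)).2
    haveI : Epi π₁.left := Flat.epi_of_flat_of_surjective _
    haveI : Epi π₂.left := Flat.epi_of_flat_of_surjective _
    have hab : X.obj.map (π₂ ≫ a₁).op q.val = X.obj.map b.op q.val := by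
      rw [← hξ]
      have e1 : ∀ {T' : Over S} (g : T' ⟶ q.pt),
          X.obj.map g.op (X.obj.map c.op ξ) = X.obj.map (g ≫ c).op ξ := by
        intro T' g
        rw [op_comp, Functor.map_comp]; rfl
      rw [e1, e1, Category.assoc, ← hc1, ← hc2]
      have e2 : ∀ (γ : T ⟶ Pk), X.obj.map (π₂ ≫ π₁ ≫ γ).op ξ =
          X.obj.map (π₂ ≫ π₁).op (X.obj.map γ.op ξ) := by
        intro γ
        rw [← Category.assoc, op_comp, Functor.map_comp]; rfl
      rw [e2 α, e2 β]
      exact congrArg _ hαβ
    rw [map_val_eq_iff] at hab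
    obtain ⟨r, hr1, hr2⟩ := exists_rel_lift q sC tC hst sq _ _ hab
    have h3 : (π₂ ≫ π₁) ≫ α = (π₂ ≫ π₁) ≫ β := by
      rw [Category.assoc, Category.assoc, hc1, hc2, ← Category.assoc, ← hr1, ← hr2, Category.assoc,
        Category.assoc, hcoeq]
    have h4 : (π₂.left ≫ π₁.left) ≫ α.left = (π₂.left ≫ π₁.left) ≫ β.left :=
      congrArg (fun m => m.left) h3
    apply Over.OverMorphism.ext
    exact (cancel_epi (π₂.left ≫ π₁.left)).1 h4

end Descent

section General

variable {X : AlgSp.Sp S} (q : AlgSp.FieldPt X)

/-- the point of `q` is represented by a monomorphism from the spectrum of a field, when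
`Spec K ×_X Spec K` is a quasi-compact scheme, locally quasi-finite over `Spec K`; strengthened
form returning the covering. -/
theorem exists_mono_of_isPullback' {R : Over S} (s t : R ⟶ q.pt)
    (sq : IsPullback ((AlgSp.yon S).map t) ((AlgSp.yon S).map s) q.toHom q.toHom)
    [LocallyQuasiFinite s.left] [CompactSpace ↥R.left] :
    ∃ (p : AlgSp.FieldPt X) (c : q.pt ⟶ p.pt), (AlgSp.yon S).map c ≫ p.toHom = q.toHom ∧
      Mono p.toHom ∧ IsFinite c.left ∧ Flat c.left ∧ Surjective c.left := by
  haveI : IsAffine q.pt.left := (inferInstance : IsAffine (Spec (CommRingCat.of q.K)))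
  haveI : QuasiSeparatedSpace ↥q.pt.left :=
    (inferInstance : QuasiSeparatedSpace ↥(Spec (CommRingCat.of q.K)))
  haveI : QuasiCompact s.left := quasiCompact_of_compactSpace _
  haveI : IsLocallyArtinian q.pt.left := by
    show IsLocallyArtinian (Spec (CommRingCat.of q.K))
    exact Scheme.isLocallyArtinianScheme_Spec.mpr inferInstance
  haveI : IsFinite s.left := IsFinite.of_locallyQuasiFinite s.left
  haveI : IsAffine R.left := isAffine_of_isAffineHom s.left
  let e := R.left.isoSpec
  let sC : CommRingCat.of q.K ⟶ Γ(R.left, ⊤) := Spec.preimage (e.inv ≫ s.left)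
  let tC : CommRingCat.of q.K ⟶ Γ(R.left, ⊤) := Spec.preimage (e.inv ≫ t.left)
  have hsC : Spec.map sC = e.inv ≫ s.left := Spec.map_preimage _
  have htC : Spec.map tC = e.inv ≫ t.left := Spec.map_preimage _
  have hws : s.left ≫ q.str = R.hom := Over.w s
  have hwt : t.left ≫ q.str = R.hom := Over.w t
  have hst : Spec.map tC ≫ q.str = Spec.map sC ≫ q.str := by
    rw [hsC, htC, Category.assoc, Category.assoc, hws, hwt]
  let ε : Rel q sC ≅ R := Over.isoMk e.symm (by
    show e.inv ≫ R.hom = Spec.map sC ≫ q.str
    rw [hsC, Category.assoc, hws])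
  have hεs : ε.hom ≫ s = srcMap q sC := by
    apply Over.OverMorphism.ext
    show e.inv ≫ s.left = Spec.map sC
    exact hsC.symm
  have hεt : ε.hom ≫ t = tgtMap q sC tC hst := by
    apply Over.OverMorphism.ext
    show e.inv ≫ t.left = Spec.map tC
    exact htC.symm
  have sq' : IsPullback ((AlgSp.yon S).map (tgtMap q sC tC hst))
      ((AlgSp.yon S).map (srcMap q sC)) q.toHom q.toHom := by
    refine sq.of_iso' ((AlgSp.yon S).mapIso ε) (Iso.refl _) (Iso.refl _) (Iso.refl _) ?_ ?_ ?_ ?_
    · rw [Iso.refl_hom, Category.comp_id, Functor.mapIso_hom, ← Functor.map_comp, hεt]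
    · rw [Iso.refl_hom, Category.comp_id, Functor.mapIso_hom, ← Functor.map_comp, hεs]
    · simp
    · simp
  have hfin : sC.hom.Finite := by
    have : IsFinite (Spec.map sC) := by rw [hsC]; infer_instance
    exact (IsFinite.SpecMap_iff sC).1 this
  exact exists_mono_of_affine' q sC tC hst sq' hfin

end General

section Iso

variable {X : AlgSp.Sp S} (q : AlgSp.FieldPt X)

/-- a monomorphism of fppf sheaves which is locally surjective is an isomorphism. -/
lemma isIso_of_mono_of_isLocallySurjective {F G : AlgSp.Sp S} (f : F ⟶ G) [Mono f]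
    (h2 : Sheaf.IsLocallySurjective f) : IsIso f := by
  have h1 : Sheaf.IsLocallyInjective f := by
    rw [Sheaf.isLocallyInjective_iff_injective]
    intro T
    have : Mono ((sheafToPresheaf _ (Type (u + 1))).map f) := inferInstance
    have : Mono (((sheafToPresheaf _ (Type (u + 1))).map f).app T) := inferInstance
    exact (mono_iff_injective _).1 this
  exact (Sheaf.isLocallyBijective_iff_isIso f).1 ⟨h1, h2⟩

/-- **Quotient of a field by an étale equivalence relation.** If `q : Spec K ⟶ X` is étale and
surjective, and `Spec K ×_X Spec K` is quasi-compact, then `X` is the spectrum of a field `k'`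
and `Spec K ⟶ Spec k'` is finite étale. -/
theorem exists_iso_of_etale_surjective
    (hp : AlgSp.RepWith @Etale q.toHom) (hs : AlgSp.RepWith @Surjective q.toHom)
    (hc : ∀ (R : Over S) (s t : R ⟶ q.pt),
      IsPullback ((AlgSp.yon S).map t) ((AlgSp.yon S).map s) q.toHom q.toHom →
        CompactSpace ↥R.left) :
    ∃ (p : AlgSp.FieldPt X) (c : q.pt ⟶ p.pt), (AlgSp.yon S).map c ≫ p.toHom = q.toHom ∧
      IsIso p.toHom ∧ IsFinite c.left ∧ Etale c.left := by
  obtain ⟨R, s, t', sqR⟩ := hp.1 q.toHom
  obtain ⟨t, rfl⟩ := (AlgSp.yon S).map_surjective t'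
  haveI hse : Etale s.left := hp.2 q.toHom _ s sqR
  haveI hte : Etale t.left := hp.2 q.toHom _ t sqR.flip
  haveI : LocallyQuasiFinite s.left := Groth.Agent.S10265.locallyQuasiFinite_of_unramified s.left
  haveI : CompactSpace ↥R.left := hc R s t sqR
  obtain ⟨p, c, hcp, hmono, hfin, hflat, hsurj⟩ := exists_mono_of_isPullback' q s t sqR
  refine ⟨p, c, hcp, ?_, hfin, ?_⟩
  · have hls : Sheaf.IsLocallySurjective q.toHom :=
      Groth.Agent.R2.H44.LimIso.isLocallySurjective_of_etale_surjective q.toHom hp hs
    have h2 : Sheaf.IsLocallySurjective p.toHom := by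
      have : Presheaf.IsLocallySurjective (AlgSp.J S)
          (((AlgSp.yon S).map c).hom ≫ p.toHom.hom) := by
        rw [← hcp] at hls
        exact hls
      exact Presheaf.isLocallySurjective_of_isLocallySurjective (AlgSp.J S)
        ((AlgSp.yon S).map c).hom p.toHom.hom
    exact isIso_of_mono_of_isLocallySurjective p.toHom h2
  · have sq1 : IsPullback ((AlgSp.yon S).map t) ((AlgSp.yon S).map s)
        ((AlgSp.yon S).map c ≫ p.toHom) ((AlgSp.yon S).map c ≫ p.toHom) := by
      rw [hcp]; exact sqR
    have sq2 := Groth.Agent.S10412.isPullback_of_comp_mono p.toHom sq1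
    have hw : t ≫ c = s ≫ c := by
      apply (AlgSp.yon S).map_injective
      rw [Functor.map_comp, Functor.map_comp]
      exact sq2.w
    have sq3 : IsPullback t s c c := IsPullback.of_map (AlgSp.yon S) hw sq2
    have sq4 : IsPullback t.left s.left c.left c.left := sq3.map (Over.forget S)
    haveI : QuasiCompact c.left := inferInstance
    exact MorphismProperty.of_isPullback_of_descendsAlong (P := @Etale)
      (Q := @Surjective ⊓ @Flat ⊓ @QuasiCompact) sq4 ⟨⟨hsurj, hflat⟩, inferInstance⟩ hte

end Iso

end Groth.Agent.R2.H45.FieldQuot
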