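import Mathlib
import Groth.Agent.R2.H45FieldQuot
import Groth.Agent.Lib.Helper12Reduced

/-!
# Schemes étale over a field (helper45)

A scheme étale over the spectrum of a field is reduced with discrete topology, hence every point
has an open neighbourhood which is the spectrum of a field.
-/

set_option autoImplicit false
set_option linter.style.haveILetI false
universe u
open CategoryTheory CategoryTheory.Limits AlgebraicGeometry Topology TopologicalSpace

namespace Groth.Agent.R2.H45.EtField

/-- a point of a reduced scheme with discrete topology has an open neighbourhood which is the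
spectrum of a field. -/
lemma exists_field_open_nbhd (U : Scheme.{u}) [IsReduced U] [DiscreteTopology U] (x : U) :
    ∃ (K : Type u) (_ : Field K) (ι : Spec (CommRingCat.of K) ⟶ U), IsOpenImmersion ι ∧
      ι (IsLocalRing.closedPoint K) = x := by
  let W : U.Opens := ⟨{x}, isOpen_discrete _⟩
  haveI : Subsingleton ↥(W : Scheme.{u}) := inferInstanceAs (Subsingleton ({x} : Set U))
  haveI : Nonempty ↥(W : Scheme.{u}) := ⟨⟨x, rfl⟩⟩
  haveI : IsReduced (W : Scheme.{u}) := isReduced_of_isOpenImmersion W.ι
  haveI : IsIntegral (W : Scheme.{u}) := (isIntegral_iff_irreducibleSpace_and_isReduced _).mpr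
    ⟨⟨inferInstance⟩, inferInstance⟩
  have hf := isField_of_isIntegral_of_subsingleton (W : Scheme.{u})
  haveI : Finite ↥(W : Scheme.{u}) := Finite.of_subsingleton
  haveI : DiscreteTopology ↥(W : Scheme.{u}) := W.ι.isOpenEmbedding.discreteTopology
  haveI : IsAffine (W : Scheme.{u}) := inferInstance
  letI : Field ↑Γ((W : Scheme.{u}), ⊤) := hf.toField
  refine ⟨↑Γ((W : Scheme.{u}), ⊤), inferInstance, (W : Scheme.{u}).isoSpec.inv ≫ W.ι, inferInstance, ?_⟩
  rw [Scheme.Hom.comp_apply]
  exact ((W : Scheme.{u}).isoSpec.inv (IsLocalRing.closedPoint _)).2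

variable {S : Scheme.{u}}

/-- If `q : Spec K ⟶ X'` is a field-valued point and `X' ⟶ h_P` a morphism to a scheme such that
the composite `Spec K ⟶ P` is locally quasi-finite, then `Spec K ×_{X'} Spec K` is a finite
scheme (it is a subscheme of the finite scheme `Spec K ×_P Spec K`). -/
lemma finite_of_isPullback {X' : AlgSp.Sp S} (q : AlgSp.FieldPt X') {P : Over S}
    (f' : X' ⟶ (AlgSp.yon S).obj P) (g : q.pt ⟶ P) (hg : (AlgSp.yon S).map g = q.toHom ≫ f')
    [LocallyQuasiFinite g.left] [QuasiCompact g.left] {R : Over S} (s t : R ⟶ q.pt)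
    (sq : IsPullback ((AlgSp.yon S).map t) ((AlgSp.yon S).map s) q.toHom q.toHom) :
    Finite ↥R.left := by
  have hw : t ≫ g = s ≫ g := by
    apply (AlgSp.yon S).map_injective
    rw [Functor.map_comp, Functor.map_comp, hg, ← Category.assoc, ← Category.assoc, sq.w]
  have hwl : t.left ≫ g.left = s.left ≫ g.left := congrArg (fun m => m.left) hw
  let l : R.left ⟶ pullback g.left g.left := pullback.lift t.left s.left hwl
  have hl1 : l ≫ pullback.fst _ _ = t.left := pullback.lift_fst _ _ _
  have hl2 : l ≫ pullback.snd _ _ = s.left := pullback.lift_snd _ _ _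
  haveI : Mono l := by
    constructor
    intro T a b hab
    have h1 : a ≫ t.left = b ≫ t.left := by
      rw [← hl1, ← Category.assoc, hab, Category.assoc]
    have h2 : a ≫ s.left = b ≫ s.left := by
      rw [← hl2, ← Category.assoc, hab, Category.assoc]
    have hR : R.hom = t.left ≫ q.str := (Over.w t).symm
    let a' : Over.mk (a ≫ R.hom) ⟶ R := Over.homMk a rfl
    let b' : Over.mk (a ≫ R.hom) ⟶ R := Over.homMk b (by
      show b ≫ R.hom = a ≫ R.hom
      rw [hR, ← Category.assoc, ← h1, Category.assoc])
    have hab' : a' = b' := by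
      apply (AlgSp.yon S).map_injective
      apply sq.hom_ext
      · rw [← Functor.map_comp, ← Functor.map_comp]
        congr 1
        apply Over.OverMorphism.ext
        exact h1
      · rw [← Functor.map_comp, ← Functor.map_comp]
        congr 1
        apply Over.OverMorphism.ext
        exact h2
    exact congrArg (fun m => m.left) hab'
  haveI : IsLocallyArtinian q.pt.left := by
    show IsLocallyArtinian (Spec (CommRingCat.of q.K))
    exact Scheme.isLocallyArtinianScheme_Spec.mpr inferInstance
  haveI : IsAffine q.pt.left := (inferInstance : IsAffine (Spec (CommRingCat.of q.K)))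
  haveI : IsLocallyArtinian (pullback g.left g.left) :=
    IsLocallyArtinian.of_locallyQuasiFinite (pullback.fst g.left g.left)
  haveI : CompactSpace ↥(pullback g.left g.left) :=
    QuasiCompact.compactSpace_of_compactSpace (pullback.fst g.left g.left)
  haveI : IsArtinianScheme (pullback g.left g.left) := {}
  exact Finite.of_injective _ l.injective

end Groth.Agent.R2.H45.EtField
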