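import Mathlib

/-!
# Counting minimal primes over an ideal along flat ring maps (helper45)

Ideal versions of `R2/H45MinCount`: minimal primes over `I.map h` contract to minimal primes over
`I` along a ring map with going down, etc.
-/

set_option autoImplicit false
set_option linter.style.haveILetI false

namespace Groth.Agent.R2.H45.MinCountIdeal

variable {G C : Type*} [CommRing G] [CommRing C]

/-- the contraction of a minimal prime over `I.map h` along a ring map with going down is minimal
over `I`. -/
lemma comap_mem_minimalPrimes_map (h : G →+* C)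
    (hgd : letI := h.toAlgebra; Algebra.HasGoingDown G C) (I : Ideal G) {Q : Ideal C}
    (hQ : Q ∈ (I.map h).minimalPrimes) : Q.comap h ∈ I.minimalPrimes := by
  letI := h.toAlgebra
  haveI : Q.IsPrime := hQ.1.1
  have hIQ : I ≤ Q.comap h := Ideal.map_le_iff_le_comap.mp hQ.1.2
  refine ⟨⟨Ideal.comap_isPrime h Q, hIQ⟩, ?_⟩
  rintro p' ⟨hp', hIp'⟩ hle
  haveI : p'.IsPrime := hp'
  haveI : Q.LiesOver (Q.comap h) := ⟨rfl⟩
  obtain ⟨P, hPQ, hPprime, hPlies⟩ :=
    Ideal.exists_ideal_le_liesOver_of_le (R := G) (S := C) (p := p') (q := Q.comap h) Q hle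
  have h1 : p' = P.under G := hPlies.over
  have hIP : I.map h ≤ P := by
    rw [Ideal.map_le_iff_le_comap]
    intro a ha
    have : a ∈ P.under G := h1 ▸ hIp' ha
    exact this
  have hPQ' : Q ≤ P := hQ.2 ⟨hPprime, hIP⟩ hPQ
  have hPeq : P = Q := le_antisymm hPQ hPQ'
  rw [h1, hPeq]
  exact le_of_eq rfl

/-- a ring map which is surjective on spectra does not decrease the number of minimal primes over
an ideal. -/
lemma encard_minimalPrimes_map_le_of_surjective (h : G →+* C)
    (hs : Function.Surjective (PrimeSpectrum.comap h)) (I : Ideal G) :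
    I.minimalPrimes.encard ≤ (I.map h).minimalPrimes.encard := by
  have hsub : I.minimalPrimes ⊆ (Ideal.comap h) '' (I.map h).minimalPrimes := by
    intro p hp
    haveI : p.IsPrime := hp.1.1
    obtain ⟨Q, hQ⟩ := hs ⟨p, inferInstance⟩
    have hQ' : Q.asIdeal.comap h = p := congrArg PrimeSpectrum.asIdeal hQ
    have hIQ : I.map h ≤ Q.asIdeal := by
      rw [Ideal.map_le_iff_le_comap, hQ']
      exact hp.1.2
    obtain ⟨Q', hQ'min, hQ'le⟩ := Ideal.exists_minimalPrimes_le hIQ
    refine ⟨Q', hQ'min, ?_⟩
    haveI : Q'.IsPrime := hQ'min.1.1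
    have h1 : Q'.comap h ≤ p := by
      rw [← hQ']
      exact Ideal.comap_mono hQ'le
    exact le_antisymm h1 (hp.2 ⟨Ideal.comap_isPrime h Q',
      Ideal.map_le_iff_le_comap.mp hQ'min.1.2⟩ h1)
  exact (Set.encard_le_encard hsub).trans (Set.encard_image_le _ _)

/-- `m` minimal primes over `I.map h` separated by elements coming from a ring with going down
give `m` minimal primes over `I`. -/
lemma le_encard_minimalPrimes_map_of_separated (h : G →+* C)
    (hgd : letI := h.toAlgebra; Algebra.HasGoingDown G C) (I : Ideal G) (m : ℕ)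
    (P : Fin m → Ideal C)
    (hP : ∀ j, P j ∈ (I.map h).minimalPrimes) (z : Fin m → Fin m → G)
    (hz1 : ∀ j k, j ≠ k → h (z j k) ∈ P j) (hz2 : ∀ j k, j ≠ k → h (z j k) ∉ P k) :
    (m : ℕ∞) ≤ I.minimalPrimes.encard := by
  let F : Fin m → Ideal G := fun j => (P j).comap h
  have hF : Function.Injective F := by
    intro j k hjk
    by_contra hne
    have h1 : z j k ∈ F j := hz1 j k hne
    rw [hjk] at h1
    exact hz2 j k hne h1
  have hsub : F '' Set.univ ⊆ I.minimalPrimes := by
    rintro _ ⟨j, -, rfl⟩
    exact comap_mem_minimalPrimes_map h hgd I (hP j)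
  have h2 : (F '' Set.univ).encard = m := by
    rw [hF.injOn.encard_image, Set.encard_univ]
    simp
  rw [← h2]
  exact Set.encard_le_encard hsub

/-- `m` minimal primes over an ideal and elements separating them. -/
lemma exists_separators (J : Ideal C) (m : ℕ) (hm : (m : ℕ∞) ≤ J.minimalPrimes.encard) :
    ∃ (P : Fin m → Ideal C), (∀ j, P j ∈ J.minimalPrimes) ∧
      ∃ x : Fin m → Fin m → C, ∀ j k, j ≠ k → x j k ∈ P j ∧ x j k ∉ P k := by
  classical
  obtain ⟨t, hts, htm⟩ := Set.exists_subset_encard_eq hm
  have htf : t.Finite := Set.finite_of_encard_eq_coe htm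
  have hcard : htf.toFinset.card = m := by
    have h1 : (htf.toFinset.card : ℕ∞) = m := by
      rw [← Set.encard_coe_eq_coe_finsetCard, Set.Finite.coe_toFinset, htm]
    exact_mod_cast h1
  let e : htf.toFinset ≃ Fin m := Finset.equivFinOfCardEq hcard
  let P : Fin m → Ideal C := fun j => ((e.symm j : htf.toFinset) : Ideal C)
  have hPmem : ∀ j, P j ∈ J.minimalPrimes := fun j =>
    hts ((Set.Finite.mem_toFinset htf).1 (e.symm j).2)
  have hPinj : Function.Injective P := fun j k hjk =>
    e.symm.injective (Subtype.ext hjk)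
  have hsep : ∀ j k, j ≠ k → ∃ x : C, x ∈ P j ∧ x ∉ P k := by
    intro j k hjk
    by_contra hcon
    have hle : P j ≤ P k := by
      intro x hx
      by_contra hxk
      exact hcon ⟨x, hx, hxk⟩
    have hge : P k ≤ P j := (hPmem k).2 (hPmem j).1 hle
    exact hjk (hPinj (le_antisymm hle hge))
  refine ⟨P, hPmem, ?_⟩
  choose! x hx using hsep
  exact ⟨x, hx⟩

/-- the minimal primes of a quotient correspond to the minimal primes over the ideal. -/
lemma encard_minimalPrimes_quotient (I : Ideal G) :
    (minimalPrimes (G ⧸ I)).encard = I.minimalPrimes.encard := by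
  rw [Ideal.minimalPrimes_eq_comap]
  exact (Set.InjOn.encard_image (fun a _ b _ hab =>
    Ideal.comap_injective_of_surjective _ Ideal.Quotient.mk_surjective hab)).symm

/-- flat local homomorphisms do not decrease the number of minimal primes over an ideal. -/
lemma encard_minimalPrimes_map_le_of_flat_local [IsLocalRing G] [IsLocalRing C] (h : G →+* C)
    [IsLocalHom h] (hfl : h.Flat) (I : Ideal G) :
    I.minimalPrimes.encard ≤ (I.map h).minimalPrimes.encard := by
  apply encard_minimalPrimes_map_le_of_surjective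
  letI := h.toAlgebra
  haveI : Module.Flat G C := hfl
  haveI : IsLocalHom (algebraMap G C) := ‹IsLocalHom h›
  haveI : Module.FaithfullyFlat G C := Module.FaithfullyFlat.of_flat_of_isLocalHom
  exact PrimeSpectrum.comap_surjective_of_faithfullyFlat (A := G) (B := C)

end Groth.Agent.R2.H45.MinCountIdeal
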