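import Mathlib
import Groth.Agent.R2.H45ShMinCount
import Groth.Agent.R2.H45MinCountIdeal
import Groth.Agent.R2.H93HenselChart
import Groth.Agent.R2.H93ElemNbhd3

/-!
# Geometric branches of fibres through étale neighbourhoods (helper45)
-/

set_option autoImplicit false
set_option linter.style.haveILetI false
universe u

namespace Groth.Agent.R2.H45.FibBranch

open IsLocalRing AlgebraicGeometry CategoryTheory Opposite Groth.Agent.Lib.Helper3.IndEt
open Groth.Agent.R2.H45.ShMinCount Groth.Agent.R2.H45.MinCountIdeal Groth.Agent.R2.H93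

set_option backward.isDefEq.respectTransparency.types false in
/-- a chart map to a strict henselization of `O_{Y,u₀}` singles out a point `u` over `u₀` and a flat
local homomorphism `O_{V,u} → Ash`. -/
theorem exists_point_lift_of_chart_sh {V Y : Scheme.{u}} (j : V ⟶ Y) [Etale j]
    {W : Y.Opens} (hW : IsAffineOpen W) {V' : V.Opens} (hV' : IsAffineOpen V')
    (hVW : V' ≤ j ⁻¹ᵁ W) (u₀ : Y) (hu₀ : u₀ ∈ W)
    (Ash : Type u) [CommRing Ash] [IsLocalRing Ash] [Algebra (Y.presheaf.stalk u₀) Ash]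
    [IsLocalHom (algebraMap (Y.presheaf.stalk u₀) Ash)]
    [Hensel.IsStrictHenselization (Y.presheaf.stalk u₀) Ash]
    (g' : Γ(V, V') →+* Ash)
    (hg' : g'.comp (j.appLE W V' hVW).hom =
      (algebraMap (Y.presheaf.stalk u₀) Ash).comp (Y.presheaf.germ W u₀ hu₀).hom) :
    ∃ (u : V) (huV' : u ∈ V'), j u = u₀ ∧
      ∃ f' : V.presheaf.stalk u →+* Ash, f'.comp (V.presheaf.germ V' u huV').hom = g' ∧
        IsLocalHom f' ∧ f'.Flat := by
  haveI hprime : ((maximalIdeal Ash).comap g').IsPrime := Ideal.comap_isPrime _ _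
  obtain ⟨y, hy⟩ : ∃ y : PrimeSpectrum Γ(V, V'), y = ⟨(maximalIdeal Ash).comap g', hprime⟩ :=
    ⟨_, rfl⟩
  obtain ⟨u, hu⟩ : ∃ u : V, u = hV'.fromSpec y := ⟨_, rfl⟩
  have huV' : u ∈ V' := hu ▸ HenselChart.fromSpec_mem hV' y
  have hprim : hV'.primeIdealOf ⟨u, huV'⟩ = y := by
    subst hu
    exact HenselChart.primeIdealOf_fromSpec hV' y _
  have hju : j u = u₀ := by
    have h1 := congrArg (fun f => f.base y) (IsAffineOpen.SpecMap_appLE_fromSpec j hW hV' hVW)
    simp only [Scheme.Hom.comp_base, TopCat.hom_comp, ContinuousMap.comp_apply] at h1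
    rw [hu]
    refine h1.symm.trans ?_
    have h2 : (Spec.map (j.appLE W V' hVW)).base y = hW.primeIdealOf ⟨u₀, hu₀⟩ := by
      rw [hW.primeIdealOf_eq_map_closedPoint]
      apply PrimeSpectrum.ext
      show Ideal.comap (j.appLE W V' hVW).hom y.asIdeal =
        Ideal.comap (Y.presheaf.germ W u₀ hu₀).hom (maximalIdeal _)
      rw [hy]
      show Ideal.comap (j.appLE W V' hVW).hom (Ideal.comap g' (maximalIdeal Ash)) = _
      rw [Ideal.comap_comap, hg', ← Ideal.comap_comap]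
      congr 1
      exact ((local_hom_TFAE (algebraMap (Y.presheaf.stalk u₀) Ash)).out 0 4 rfl rfl).mp
        inferInstance
    rw [h2]
    exact hW.fromSpec_primeIdealOf ⟨u₀, hu₀⟩
  refine ⟨u, huV', hju, ?_⟩
  have het : (j.appLE W V' hVW).hom.Etale :=
    HasRingHomProperty.appLE (P := @Etale) j inferInstance ⟨W, hW⟩ ⟨V', hV'⟩ hVW
  letI algRA : Algebra Γ(Y, W) Γ(V, V') := (j.appLE W V' hVW).hom.toAlgebra
  haveI hEt : Algebra.Etale Γ(Y, W) Γ(V, V') := het
  letI algA := Y.presheaf.algebra_section_stalk ⟨u₀, hu₀⟩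
  letI algR : Algebra Γ(Y, W) Ash :=
    ((algebraMap ↥(Y.presheaf.stalk u₀) Ash).comp
      (algebraMap Γ(Y, W) ↥(Y.presheaf.stalk u₀))).toAlgebra
  haveI hflat : Module.Flat Γ(Y, W) Ash := flat_sections_sh u₀ hW hu₀ Ash
  let f : Γ(V, V') →ₐ[Γ(Y, W)] Ash :=
    { g' with commutes' := fun r => RingHom.congr_fun hg' r }
  let q : Ideal Γ(V, V') := (hV'.primeIdealOf ⟨u, huV'⟩).asIdeal
  haveI : q.IsPrime := (hV'.primeIdealOf ⟨u, huV'⟩).isPrime
  have hq : (maximalIdeal Ash).comap f.toRingHom = q := by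
    show _ = (hV'.primeIdealOf ⟨u, huV'⟩).asIdeal
    rw [hprim, hy]
  letI := V.presheaf.algebra_section_stalk ⟨u, huV'⟩
  haveI := hV'.isLocalization_stalk ⟨u, huV'⟩
  refine ⟨locMap (L := V.presheaf.stalk u) f q hq, ?_, isLocalHom_locMap f q hq,
    flat_locMap f q hq⟩
  ext c
  exact locMap_algebraMap f q hq c


set_option backward.isDefEq.respectTransparency.types false in
/-- a ring map on the stalk that restricts on a chart to a map compatible with the structure map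
is compatible with the stalk map. -/
theorem comp_stalkMap_eq {V Y : Scheme.{u}} (j : V ⟶ Y) (u : V)
    {W : Y.Opens} (hW : IsAffineOpen W) {V' : V.Opens} (hVW : V' ≤ j ⁻¹ᵁ W) (huV' : u ∈ V')
    {T : Type u} [CommRing T] (alg : Y.presheaf.stalk (j u) →+* T)
    (f' : V.presheaf.stalk u →+* T) (g' : Γ(V, V') →+* T)
    (hf' : f'.comp (V.presheaf.germ V' u huV').hom = g')
    (hg' : g'.comp (j.appLE W V' hVW).hom =
      alg.comp (Y.presheaf.germ W (j u) (hVW huV')).hom) :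
    f'.comp (j.stalkMap u).hom = alg := by
  letI := Y.presheaf.algebra_section_stalk ⟨j u, hVW huV'⟩
  haveI := hW.isLocalization_stalk ⟨j u, hVW huV'⟩
  apply IsLocalization.ringHom_ext (hW.primeIdealOf ⟨j u, hVW huV'⟩).asIdeal.primeCompl
  ext a
  have h1 : (j.stalkMap u).hom (Y.presheaf.germ W (j u) (hVW huV') a) =
      V.presheaf.germ V' u huV' ((j.appLE W V' hVW).hom a) := by
    simp only [Scheme.Hom.germ_stalkMap_apply, Scheme.Hom.appLE,
      homOfLE_leOfHom, CommRingCat.hom_comp, RingHom.coe_comp, Function.comp_apply,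
      V.presheaf.germ_res_apply]
  show f' ((j.stalkMap u).hom (Y.presheaf.germ W (j u) (hVW huV') a)) =
    alg (Y.presheaf.germ W (j u) (hVW huV') a)
  rw [h1]
  have h2 := RingHom.congr_fun hf' ((j.appLE W V' hVW).hom a)
  have h3 := RingHom.congr_fun hg' a
  exact h2.trans h3

set_option backward.isDefEq.respectTransparency.types false in
/-- for an étale morphism `j` and a strict henselization `Ash` of `O_{Y, j v}` there is a flat local
homomorphism `O_{V,v} → Ash` compatible with the stalk map. -/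
theorem exists_stalkMap_lift_sh {V Y : Scheme.{u}} (j : V ⟶ Y) [Etale j] (v : V)
    (Ash : Type u) [CommRing Ash] [IsLocalRing Ash] [Algebra (Y.presheaf.stalk (j v)) Ash]
    [IsLocalHom (algebraMap (Y.presheaf.stalk (j v)) Ash)]
    [hS : Hensel.IsStrictHenselization (Y.presheaf.stalk (j v)) Ash] :
    ∃ φ : V.presheaf.stalk v →+* Ash, IsLocalHom φ ∧ φ.Flat ∧
      φ.comp (j.stalkMap v).hom = algebraMap (Y.presheaf.stalk (j v)) Ash := by
  classical
  obtain ⟨W₀, hW₀, V₀, hV₀, e, hv, -⟩ :=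
    Groth.Agent.Lib.Helper3.EtGUSch.exists_affine_nhds j v ⊤ trivial
  have hy : j v ∈ W₀ := e hv
  letI algA := Y.presheaf.algebra_section_stalk ⟨j v, hy⟩
  haveI hloc := hW₀.isLocalization_stalk ⟨j v, hy⟩
  letI algR : Algebra Γ(Y, W₀) Ash :=
    ((algebraMap ↥(Y.presheaf.stalk (j v)) Ash).comp
      (algebraMap Γ(Y, W₀) ↥(Y.presheaf.stalk (j v)))).toAlgebra
  haveI : IsScalarTower Γ(Y, W₀) ↥(Y.presheaf.stalk (j v)) Ash :=
    IsScalarTower.of_algebraMap_eq (fun _ => rfl)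
  haveI hflat : Module.Flat Γ(Y, W₀) Ash := flat_sections_sh (j v) hW₀ hy Ash
  have het : (j.appLE W₀ V₀ e).hom.Etale :=
    HasRingHomProperty.appLE (P := @Etale) j inferInstance ⟨W₀, hW₀⟩ ⟨V₀, hV₀⟩ e
  letI algRA : Algebra Γ(Y, W₀) Γ(V, V₀) := (j.appLE W₀ V₀ e).hom.toAlgebra
  haveI hEt : Algebra.Etale Γ(Y, W₀) Γ(V, V₀) := het
  let q : Ideal Γ(V, V₀) := (hV₀.primeIdealOf ⟨v, hv⟩).asIdeal
  haveI : q.IsPrime := (hV₀.primeIdealOf ⟨v, hv⟩).isPrime
  let p : Ideal Γ(Y, W₀) := q.under Γ(Y, W₀)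
  have hp : p = (hW₀.primeIdealOf ⟨j v, hy⟩).asIdeal :=
    Groth.Agent.Lib.Helper3.EtGUSch.comap_primeIdealOf j hW₀ hV₀ e hv
  haveI hH : HenselianLocalRing Ash := hS.henselian
  haveI hsc : IsSepClosure (ResidueField ↥(Y.presheaf.stalk (j v))) (ResidueField Ash) :=
    hS.isSepClosure
  haveI : IsSepClosed (ResidueField Ash) := hsc.sep_closed
  have hker : ∀ r : Γ(Y, W₀), algebraMap Γ(Y, W₀) (ResidueField Ash) r = 0 ↔ r ∈ p := by
    intro r
    change residue Ash (algebraMap ↥(Y.presheaf.stalk (j v)) Ash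
      (algebraMap Γ(Y, W₀) ↥(Y.presheaf.stalk (j v)) r)) = 0 ↔ _
    rw [residue_eq_zero_iff, hp]
    have hlh : IsLocalHom (algebraMap ↥(Y.presheaf.stalk (j v)) Ash) := inferInstance
    have e3 : Ideal.comap (algebraMap ↥(Y.presheaf.stalk (j v)) Ash) (maximalIdeal Ash) =
        maximalIdeal ↥(Y.presheaf.stalk (j v)) :=
      ((local_hom_TFAE (algebraMap ↥(Y.presheaf.stalk (j v)) Ash)).out 0 4 rfl rfl).mp hlh
    rw [← Ideal.mem_comap, e3]
    exact IsLocalization.AtPrime.to_map_mem_maximal_iff ↥(Y.presheaf.stalk (j v))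
      (hW₀.primeIdealOf ⟨j v, hy⟩).asIdeal r
  letI algpK : Algebra p.ResidueField (ResidueField Ash) :=
    (Ideal.ResidueField.lift p (algebraMap Γ(Y, W₀) (ResidueField Ash))
      (fun r hr => (hker r).2 hr)
      (fun r hr => by
        change IsUnit (algebraMap Γ(Y, W₀) (ResidueField Ash) r)
        rw [isUnit_iff_ne_zero]
        exact fun h0 => hr ((hker r).1 h0))).toAlgebra
  haveI : IsScalarTower Γ(Y, W₀) p.ResidueField (ResidueField Ash) :=
    IsScalarTower.of_algebraMap_eq (fun r =>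
      (Ideal.ResidueField.lift_algebraMap p (algebraMap Γ(Y, W₀) (ResidueField Ash)) _ _ r).symm)
  letI := Localization.AtPrime.algebraOfLiesOver p q
  haveI : Algebra.IsUnramifiedAt Γ(Y, W₀) q := inferInstance
  haveI : Algebra.IsSeparable p.ResidueField q.ResidueField := inferInstance
  let τ₀ : q.ResidueField →ₐ[p.ResidueField] ResidueField Ash := IsSepClosed.lift
  let τ : q.ResidueField →ₐ[Γ(Y, W₀)] ResidueField Ash := τ₀.restrictScalars Γ(Y, W₀)
  obtain ⟨f, hf, -⟩ := Groth.Agent.Lib.Helper3.Hensel.existsUnique_algHom_of_etale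
    (R := Γ(Y, W₀)) (S := Ash) (A := Γ(V, V₀)) q τ
  have hq : (maximalIdeal Ash).comap f.toRingHom = q :=
    Groth.Agent.Lib.Helper3.Hensel.comap_eq_of_residue q τ.toRingHom f hf
  letI := V.presheaf.algebra_section_stalk ⟨v, hv⟩
  haveI := hV₀.isLocalization_stalk ⟨v, hv⟩
  refine ⟨locMap (L := V.presheaf.stalk v) f q hq, isLocalHom_locMap f q hq,
    flat_locMap f q hq, ?_⟩
  refine comp_stalkMap_eq j v hW₀ e hv _ _ f.toRingHom ?_ ?_
  · ext c
    exact locMap_algebraMap f q hq c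
  · ext a
    exact f.commutes a


/-- the ideal of the fibre through `x` in the local ring at `x`. -/
noncomputable abbrev fibI {X S : Scheme.{u}} (f : X ⟶ S) (x : X) : Ideal (X.presheaf.stalk x) :=
  (maximalIdeal (S.presheaf.stalk (f x))).map (f.stalkMap x).hom

theorem fibI_comp {U X S : Scheme.{u}} (g : U ⟶ X) (f : X ⟶ S) (u : U) :
    fibI (g ≫ f) u = (fibI f (g u)).map (g.stalkMap u).hom := by
  unfold fibI
  rw [Ideal.map_map, Scheme.Hom.stalkMap_comp]
  rfl

/-- finitely many elements of a strict henselization of `O_{Y,y}` come from an étale chart. -/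
theorem exists_chart_sh {Y : Scheme.{u}} (y : Y)
    (Ash : Type u) [CommRing Ash] [IsLocalRing Ash] [Algebra (Y.presheaf.stalk y) Ash]
    [IsLocalHom (algebraMap (Y.presheaf.stalk y) Ash)]
    [Hensel.IsStrictHenselization (Y.presheaf.stalk y) Ash] {ι : Type} [Finite ι] (xs : ι → Ash) :
    ∃ (V : Scheme.{u}) (j : V ⟶ Y) (_ : Etale j) (W : Y.Opens) (hW : IsAffineOpen W)
      (hy : y ∈ W) (V' : V.Opens) (_ : IsAffineOpen V') (hVW : V' ≤ j ⁻¹ᵁ W)
      (g' : Γ(V, V') →+* Ash),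
      g'.comp (j.appLE W V' hVW).hom =
        (algebraMap (Y.presheaf.stalk y) Ash).comp (Y.presheaf.germ W y hy).hom ∧
      ∀ i, ∃ c, g' c = xs i := by
  classical
  obtain ⟨W₀, hW₀, hy, -⟩ := exists_isAffineOpen_mem_and_subset (x := y) (U := ⊤) trivial
  letI algA := Y.presheaf.algebra_section_stalk ⟨y, hy⟩
  haveI hloc := hW₀.isLocalization_stalk ⟨y, hy⟩
  letI algR : Algebra Γ(Y, W₀) Ash :=
    ((algebraMap ↥(Y.presheaf.stalk y) Ash).comp
      (algebraMap Γ(Y, W₀) ↥(Y.presheaf.stalk y))).toAlgebra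
  haveI : IsScalarTower Γ(Y, W₀) ↥(Y.presheaf.stalk y) Ash :=
    IsScalarTower.of_algebraMap_eq (fun _ => rfl)
  have hF : Obj.Factor Γ(Y, W₀) Ash :=
    factor_of_isIndEtale (isIndEtale_comp Γ(Y, W₀) ↥(Y.presheaf.stalk y) Ash
      (isIndEtale_of_factor (Groth.Agent.S9470.factor_localization Γ(Y, W₀)
        (hW₀.primeIdealOf ⟨y, hy⟩).asIdeal.primeCompl ↥(Y.presheaf.stalk y)))
      (isIndEtale_of_isStrictHenselization ↥(Y.presheaf.stalk y) Ash))
  let ψ : MvPolynomial ι Γ(Y, W₀) →ₐ[Γ(Y, W₀)] Ash := MvPolynomial.aeval xs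
  obtain ⟨E, _, _, hEt, f, g, hfg⟩ := hF (MvPolynomial ι Γ(Y, W₀)) ψ
  have hgx : ∀ i, g (f (MvPolynomial.X i)) = xs i := by
    intro i
    have := congrArg (fun t => t (MvPolynomial.X i)) hfg
    simpa [ψ] using this
  let ψE : Γ(Y, W₀) ⟶ CommRingCat.of E := CommRingCat.ofHom (algebraMap Γ(Y, W₀) E)
  let j : Spec (CommRingCat.of E) ⟶ Y := Spec.map ψE ≫ hW₀.fromSpec
  haveI : Etale (Spec.map ψE) := by
    rw [HasRingHomProperty.Spec_iff (P := @Etale)]
    exact RingHom.etale_algebraMap.mpr hEt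
  haveI hjet : Etale j := inferInstanceAs (Etale (Spec.map ψE ≫ hW₀.fromSpec))
  have hVW : (⊤ : (Spec (CommRingCat.of E)).Opens) ≤ j ⁻¹ᵁ W₀ := by
    intro v _
    exact HenselChart.fromSpec_mem hW₀ _
  have happLE : j.appLE W₀ ⊤ hVW = ψE ≫ (Scheme.ΓSpecIso (CommRingCat.of E)).inv :=
    ElemNbhd.appLE_specMap_fromSpec hW₀ ψE hVW
  let g' : Γ(Spec (CommRingCat.of E), ⊤) →+* Ash :=
    g.toRingHom.comp (Scheme.ΓSpecIso (CommRingCat.of E)).hom.hom
  have hiso : ∀ c : E, (Scheme.ΓSpecIso (CommRingCat.of E)).hom.hom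
      ((Scheme.ΓSpecIso (CommRingCat.of E)).inv.hom c) = c := by
    intro c
    have := (Scheme.ΓSpecIso (CommRingCat.of E)).inv_hom_id
    exact congr($this c)
  have hg' : g'.comp (j.appLE W₀ ⊤ hVW).hom =
      (algebraMap ↥(Y.presheaf.stalk y) Ash).comp (Y.presheaf.germ W₀ y hy).hom := by
    rw [happLE]
    ext c
    show g ((Scheme.ΓSpecIso (CommRingCat.of E)).hom.hom
      ((Scheme.ΓSpecIso (CommRingCat.of E)).inv.hom (algebraMap Γ(Y, W₀) E c))) = _
    rw [hiso, g.commutes]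
    rfl
  refine ⟨_, j, hjet, W₀, hW₀, hy, ⊤, isAffineOpen_top _, hVW, g', hg', fun i => ?_⟩
  refine ⟨(Scheme.ΓSpecIso (CommRingCat.of E)).inv.hom (f (MvPolynomial.X i)), ?_⟩
  show g ((Scheme.ΓSpecIso (CommRingCat.of E)).hom.hom
    ((Scheme.ΓSpecIso (CommRingCat.of E)).inv.hom (f (MvPolynomial.X i)))) = _
  rw [hiso, hgx]

/-- (II'): the fibre of an étale neighbourhood has at most as many branches as seen in the strict
henselization. -/
theorem encard_fib_le_sh {U X S : Scheme.{u}} (g : U ⟶ X) [Etale g] (f : X ⟶ S) (u : U)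
    (Ash : Type u) [CommRing Ash] [IsLocalRing Ash] [Algebra (X.presheaf.stalk (g u)) Ash]
    [IsLocalHom (algebraMap (X.presheaf.stalk (g u)) Ash)]
    [Hensel.IsStrictHenselization (X.presheaf.stalk (g u)) Ash] :
    (fibI (g ≫ f) u).minimalPrimes.encard ≤
      ((fibI f (g u)).map (algebraMap (X.presheaf.stalk (g u)) Ash)).minimalPrimes.encard := by
  obtain ⟨φ, hloc, hfl, hcomp⟩ := exists_stalkMap_lift_sh g u Ash
  have h1 := encard_minimalPrimes_map_le_of_flat_local φ hfl (fibI (g ≫ f) u)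
  have h2 : (fibI (g ≫ f) u).map φ =
      (fibI f (g u)).map (algebraMap (X.presheaf.stalk (g u)) Ash) := by
    rw [fibI_comp, Ideal.map_map, hcomp]
  rwa [h2] at h1

/-- (I'), after the point has been moved: separated minimal primes give minimal primes of the fibre
ideal. -/
theorem le_encard_fib_of_separated {U X S : Scheme.{u}} (g : U ⟶ X) (f : X ⟶ S) (u : U)
    (T : Type u) [CommRing T] (alg : X.presheaf.stalk (g u) →+* T)
    (φ : U.presheaf.stalk u →+* T) (hfl : φ.Flat) (hcomp : φ.comp (g.stalkMap u).hom = alg)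
    (m : ℕ) (P : Fin m → Ideal T) (hP : ∀ j, P j ∈ ((fibI f (g u)).map alg).minimalPrimes)
    (z : Fin m → Fin m → U.presheaf.stalk u)
    (hz1 : ∀ j k, j ≠ k → φ (z j k) ∈ P j) (hz2 : ∀ j k, j ≠ k → φ (z j k) ∉ P k) :
    (m : ℕ∞) ≤ (fibI (g ≫ f) u).minimalPrimes.encard := by
  have h2 : (fibI (g ≫ f) u).map φ = (fibI f (g u)).map alg := by
    rw [fibI_comp, Ideal.map_map, hcomp]
  refine le_encard_minimalPrimes_map_of_separated φ ?_ (fibI (g ≫ f) u) m P ?_ z hz1 hz2
  · letI := φ.toAlgebra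
    haveI : Module.Flat ↥(U.presheaf.stalk u) T := hfl
    exact Algebra.HasGoingDown.of_flat
  · intro j
    rw [h2]
    exact hP j

set_option backward.isDefEq.respectTransparency.types false in
/-- (I'): minimal primes of the fibre ideal in the strict henselization are visible on the fibre of
an étale neighbourhood. -/
theorem exists_etale_le_encard_fib_sh {X S : Scheme.{u}} (f : X ⟶ S) (x : X)
    (Ash : Type u) [CommRing Ash] [IsLocalRing Ash] [Algebra (X.presheaf.stalk x) Ash]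
    [IsLocalHom (algebraMap (X.presheaf.stalk x) Ash)]
    [Hensel.IsStrictHenselization (X.presheaf.stalk x) Ash] (m : ℕ)
    (hm : (m : ℕ∞) ≤
      ((fibI f x).map (algebraMap (X.presheaf.stalk x) Ash)).minimalPrimes.encard) :
    ∃ (U : Scheme.{u}) (g : U ⟶ X) (u : U), Etale g ∧ g u = x ∧
      (m : ℕ∞) ≤ (fibI (g ≫ f) u).minimalPrimes.encard := by
  obtain ⟨P, hP, xs, hxs⟩ := Groth.Agent.R2.H45.MinCountIdeal.exists_separators _ m hm
  obtain ⟨U, g, hg, W, hW, hx, V', hV', hVW, g', hg', hc⟩ :=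
    exists_chart_sh x Ash (fun jk : Fin m × Fin m => xs jk.1 jk.2)
  obtain ⟨u, huV', hgu, φ, hφ, hloc, hfl⟩ :=
    exists_point_lift_of_chart_sh g hW hV' hVW x hx Ash g' hg'
  subst hgu
  refine ⟨U, g, u, hg, rfl, ?_⟩
  have hcomp : φ.comp (g.stalkMap u).hom = algebraMap (X.presheaf.stalk (g u)) Ash :=
    comp_stalkMap_eq g u hW hVW huV' _ φ g' hφ hg'
  choose c hc using hc
  refine le_encard_fib_of_separated g f u Ash _ φ hfl hcomp m P hP
    (fun j k => U.presheaf.germ V' u huV' (c (j, k))) ?_ ?_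
  · intro j k hjk
    have h1 : φ (U.presheaf.germ V' u huV' (c (j, k))) = g' (c (j, k)) :=
      RingHom.congr_fun hφ _
    rw [h1, hc]
    exact (hxs j k hjk).1
  · intro j k hjk
    have h1 : φ (U.presheaf.germ V' u huV' (c (j, k))) = g' (c (j, k)) :=
      RingHom.congr_fun hφ _
    rw [h1, hc]
    exact (hxs j k hjk).2

end Groth.Agent.R2.H45.FibBranch
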