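import Mathlib
import Groth.Agent.R2.H45FibBranch
import Groth.Agent.S9238
import Groth.Agent.S9237
import Groth.Agent.S13598
import Groth.Agent.Lib.Helper3ShQuot
import Groth.Agent.Lib.Helper3GeomUnibranch
import Groth.Agent.Lib.Helper3Unibranch
import Groth.Agent.Lib.Helper5FiberStalk
import Groth.Agent.R2.H93MinPrimes

/-!
# Branch numbers of a quotient of a local ring through the (strict) henselization (helper45)
-/

set_option autoImplicit false
set_option linter.style.haveILetI false
universe u

namespace Groth.Agent.R2.H45.FibBranch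

open IsLocalRing AlgebraicGeometry CategoryTheory Opposite
open Groth.Agent.R2.H45.MinCountIdeal

theorem encard_minimalPrimes_le_of_ringEquiv {B : Type*} {C : Type*} [CommRing B] [CommRing C]
    (e : B ≃+* C) : (minimalPrimes B).encard ≤ (minimalPrimes C).encard := by
  have hs : Function.Surjective (e : B →+* C) := e.surjective
  have h1 := Ideal.comap_minimalPrimes_eq_of_surjective hs (⊥ : Ideal C)
  have h2 : Ideal.comap (e : B →+* C) ⊥ = ⊥ := by
    rw [← RingHom.ker_eq_comap_bot]
    exact (RingHom.injective_iff_ker_eq_bot _).mp e.injective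
  rw [h2] at h1
  show (⊥ : Ideal B).minimalPrimes.encard ≤ (⊥ : Ideal C).minimalPrimes.encard
  rw [h1]
  exact Set.encard_image_le _ _

/-- a ring isomorphism preserves the number of minimal primes. -/
theorem encard_minimalPrimes_of_ringEquiv {B : Type*} {C : Type*} [CommRing B] [CommRing C]
    (e : B ≃+* C) : (minimalPrimes B).encard = (minimalPrimes C).encard :=
  le_antisymm (encard_minimalPrimes_le_of_ringEquiv e) (encard_minimalPrimes_le_of_ringEquiv e.symm)

section quot

variable {A B Ash : Type u} [CommRing A] [IsLocalRing A] [CommRing B] [IsLocalRing B]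
  [CommRing Ash] [IsLocalRing Ash] [Algebra A Ash] [IsLocalHom (algebraMap A Ash)]

theorem map_ne_top_of_le (I : Ideal A) (hI : I ≤ maximalIdeal A) :
    I.map (algebraMap A Ash) ≠ ⊤ := by
  intro h
  have h1 : I.map (algebraMap A Ash) ≤ maximalIdeal Ash := by
    rw [Ideal.map_le_iff_le_comap]
    refine hI.trans (le_of_eq ?_)
    exact (((local_hom_TFAE (algebraMap A Ash)).out 0 4 rfl rfl).mp inferInstance).symm
  rw [h] at h1
  exact (maximalIdeal.isMaximal Ash).ne_top (top_le_iff.mp h1)

omit [IsLocalRing A] in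
theorem isLocalHom_quotient_map (I : Ideal A) [IsLocalRing (A ⧸ I)]
    [IsLocalRing (Ash ⧸ I.map (algebraMap A Ash))] :
    IsLocalHom (algebraMap (A ⧸ I) (Ash ⧸ I.map (algebraMap A Ash))) := by
  refine ⟨fun a ha => ?_⟩
  obtain ⟨a, rfl⟩ := Ideal.Quotient.mk_surjective a
  haveI := Groth.Agent.Lib.Helper3.ShQuot.isLocalHom_mk (I.map (algebraMap A Ash))
  have h1 : algebraMap (A ⧸ I) (Ash ⧸ I.map (algebraMap A Ash)) (Ideal.Quotient.mk I a) =
      Ideal.Quotient.mk (I.map (algebraMap A Ash)) (algebraMap A Ash a) := rfl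
  rw [h1] at ha
  have h2 : IsUnit (algebraMap A Ash a) := isUnit_of_map_unit _ _ ha
  have h3 : IsUnit a := isUnit_of_map_unit _ _ h2
  exact h3.map _

/-- the number of geometric branches of a local ring isomorphic to `A ⧸ I` is the number of minimal
primes over `I Ash`, `Ash` a strict henselization of `A`. -/
theorem numGeomBranches_eq_of_equiv_quotient [Hensel.IsStrictHenselization A Ash]
    (I : Ideal A) (hI : I ≤ maximalIdeal A) (e : B ≃+* A ⧸ I) :
    Brnch.numGeomBranches B = (I.map (algebraMap A Ash)).minimalPrimes.encard := by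
  have hIne : I ≠ ⊤ := fun h =>
    (maximalIdeal.isMaximal A).ne_top (top_le_iff.mp (h ▸ hI))
  haveI : IsLocalRing (A ⧸ I) := Groth.Agent.Lib.Helper5.isLocalRing_quotient hIne
  haveI : IsLocalRing (Ash ⧸ I.map (algebraMap A Ash)) :=
    Groth.Agent.Lib.Helper5.isLocalRing_quotient (map_ne_top_of_le I hI)
  haveI := isLocalHom_quotient_map (Ash := Ash) I
  haveI hq := Groth.Agent.Lib.Helper3.ShQuot.isStrictHenselization_quotient (A := A) (S := Ash) I
  letI algB : Algebra B (Ash ⧸ I.map (algebraMap A Ash)) :=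
    ((algebraMap (A ⧸ I) (Ash ⧸ I.map (algebraMap A Ash))).comp (e : B →+* A ⧸ I)).toAlgebra
  haveI : IsLocalHom (algebraMap B (Ash ⧸ I.map (algebraMap A Ash))) := by
    refine ⟨fun b hb => ?_⟩
    have h1 : IsUnit (algebraMap (A ⧸ I) (Ash ⧸ I.map (algebraMap A Ash)) (e b)) := hb
    have h2 : IsUnit (e b) := isUnit_of_map_unit _ _ h1
    have := h2.map (e.symm : A ⧸ I →+* B)
    simpa using this
  haveI hB : Hensel.IsStrictHenselization B (Ash ⧸ I.map (algebraMap A Ash)) :=
    Groth.Agent.Lib.Helper3.GeomUnibranch.isStrictHenselization_of_ringEquiv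
      (R := A ⧸ I) (R₂ := B) e.symm (fun r => by
        show algebraMap (A ⧸ I) (Ash ⧸ I.map (algebraMap A Ash)) (e (e.symm r)) = _
        rw [RingEquiv.apply_symm_apply])
  have h1 := Groth.Agent.S9238.result B (Ash ⧸ I.map (algebraMap A Ash))
  rw [← h1]
  exact encard_minimalPrimes_quotient (I.map (algebraMap A Ash))

/-- the number of branches of a local ring isomorphic to `A ⧸ I` is the number of minimal
primes over `I Ah`, `Ah` a henselization of `A`. -/
theorem numBranches_eq_of_equiv_quotient [Hensel.IsHenselization A Ash]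
    (I : Ideal A) (hI : I ≤ maximalIdeal A) (e : B ≃+* A ⧸ I) :
    Brnch.numBranches B = (I.map (algebraMap A Ash)).minimalPrimes.encard := by
  have hIne : I ≠ ⊤ := fun h =>
    (maximalIdeal.isMaximal A).ne_top (top_le_iff.mp (h ▸ hI))
  haveI : IsLocalRing (A ⧸ I) := Groth.Agent.Lib.Helper5.isLocalRing_quotient hIne
  haveI : IsLocalRing (Ash ⧸ I.map (algebraMap A Ash)) :=
    Groth.Agent.Lib.Helper5.isLocalRing_quotient (map_ne_top_of_le I hI)
  haveI := isLocalHom_quotient_map (Ash := Ash) I
  haveI hq := Groth.Agent.S13598.result (A := A) (S := Ash) I hI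
  letI algB : Algebra B (Ash ⧸ I.map (algebraMap A Ash)) :=
    ((algebraMap (A ⧸ I) (Ash ⧸ I.map (algebraMap A Ash))).comp (e : B →+* A ⧸ I)).toAlgebra
  haveI : IsLocalHom (algebraMap B (Ash ⧸ I.map (algebraMap A Ash))) := by
    refine ⟨fun b hb => ?_⟩
    have h1 : IsUnit (algebraMap (A ⧸ I) (Ash ⧸ I.map (algebraMap A Ash)) (e b)) := hb
    have h2 : IsUnit (e b) := isUnit_of_map_unit _ _ h1
    have := h2.map (e.symm : A ⧸ I →+* B)
    simpa using this
  haveI hB : Hensel.IsHenselization B (Ash ⧸ I.map (algebraMap A Ash)) :=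
    Groth.Agent.Lib.Helper3.Unibranch.isHenselization_of_ringEquiv
      (R := A ⧸ I) (R₂ := B) e.symm (fun r => by
        show algebraMap (A ⧸ I) (Ash ⧸ I.map (algebraMap A Ash)) (e (e.symm r)) = _
        rw [RingEquiv.apply_symm_apply])
  have h1 := Groth.Agent.S9237.result B (Ash ⧸ I.map (algebraMap A Ash))
  rw [← h1]
  exact encard_minimalPrimes_quotient (I.map (algebraMap A Ash))

end quot

section scheme

open Groth.Agent.Lib.Helper5.FiberStalk

/-- the number of geometric branches of the fibre through `x` at `x` is the number of minimal primes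
over the fibre ideal in a strict henselization of `O_{X,x}`. -/
theorem numGeomBranchesAt_fiber_eq {X S : Scheme.{u}} (f : X ⟶ S) (x : X)
    (Ash : Type u) [CommRing Ash] [IsLocalRing Ash] [Algebra (X.presheaf.stalk x) Ash]
    [IsLocalHom (algebraMap (X.presheaf.stalk x) Ash)]
    [Hensel.IsStrictHenselization (X.presheaf.stalk x) Ash] :
    Brnch.numGeomBranchesAt (f.fiber (f x)) (f.asFiber x) =
      ((fibI f x).map (algebraMap (X.presheaf.stalk x) Ash)).minimalPrimes.encard := by
  obtain ⟨e⟩ := nonempty_stalk_asFiber_equiv f x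
  exact numGeomBranches_eq_of_equiv_quotient (fibI f x) (fibIdeal_le f x) e

/-- the number of branches of the fibre through `x` at `x` is the number of minimal primes
over the fibre ideal in a henselization of `O_{X,x}`. -/
theorem numBranchesAt_fiber_eq {X S : Scheme.{u}} (f : X ⟶ S) (x : X)
    (Ah : Type u) [CommRing Ah] [IsLocalRing Ah] [Algebra (X.presheaf.stalk x) Ah]
    [IsLocalHom (algebraMap (X.presheaf.stalk x) Ah)]
    [Hensel.IsHenselization (X.presheaf.stalk x) Ah] :
    Brnch.numBranchesAt (f.fiber (f x)) (f.asFiber x) =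
      ((fibI f x).map (algebraMap (X.presheaf.stalk x) Ah)).minimalPrimes.encard := by
  obtain ⟨e⟩ := nonempty_stalk_asFiber_equiv f x
  exact numBranches_eq_of_equiv_quotient (fibI f x) (fibIdeal_le f x) e

/-- the irreducible components of the fibre through `u` passing through `u` correspond to the
minimal primes over the fibre ideal. -/
theorem encard_irreducibleComponents_fiber_through {U S : Scheme.{u}} (h : U ⟶ S) (u : U) (s : S)
    (hs : h u = s) :
    {Z : Set ↑(h.fiber s) | Z ∈ irreducibleComponents ↑(h.fiber s) ∧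
        ∃ u' ∈ Z, h.fiberι s u' = u}.encard = (fibI h u).minimalPrimes.encard := by
  subst hs
  have hset : {Z : Set ↑(h.fiber (h u)) | Z ∈ irreducibleComponents ↑(h.fiber (h u)) ∧
        ∃ u' ∈ Z, h.fiberι (h u) u' = u} =
      {Z : Set ↑(h.fiber (h u)) | Z ∈ irreducibleComponents ↑(h.fiber (h u)) ∧
        h.asFiber u ∈ Z} := by
    ext Z
    refine and_congr_right fun _ => ⟨?_, fun hZ => ⟨_, hZ, h.fiberι_asFiber u⟩⟩
    rintro ⟨u', hu', hu'u⟩
    have : u' = h.asFiber u :=
      (h.fiberι (h u)).isEmbedding.injective (hu'u.trans (h.fiberι_asFiber u).symm)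
    exact this ▸ hu'
  rw [hset, Groth.Agent.R2.H93.MinPrimes.encard_irreducibleComponents_through]
  obtain ⟨e⟩ := nonempty_stalk_asFiber_equiv h u
  rw [encard_minimalPrimes_of_ringEquiv e]
  exact encard_minimalPrimes_quotient (fibI h u)

end scheme

end Groth.Agent.R2.H45.FibBranch
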