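import Mathlib
import Groth.Prelude.Def_Hens2
import Groth.Agent.R2.H45FibBranch2
import Groth.Agent.R2.H93HenselEtaleSch
import Groth.Agent.Lib.Helper3IndEtHz
import Groth.Agent.S0509
import Groth.Agent.S0506

/-!
# Branches of fibres through elementary étale neighbourhoods (helper45)
-/

set_option autoImplicit false
set_option linter.style.haveILetI false
universe u

namespace Groth.Agent.R2.H45.FibBranch

open IsLocalRing AlgebraicGeometry CategoryTheory Opposite Groth.Agent.Lib.Helper3.IndEt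
open Groth.Agent.R2.H45.ShMinCount Groth.Agent.R2.H45.MinCountIdeal Groth.Agent.R2.H93

/-- finitely many elements of an ind-étale algebra over `O_{Y,y}` come from an étale chart. -/
theorem exists_chart_of_isIndEtale {Y : Scheme.{u}} (y : Y)
    (Ah : Type u) [CommRing Ah] [Algebra (Y.presheaf.stalk y) Ah]
    (hind : EtPBC.IsIndEtale (Y.presheaf.stalk y) Ah) {ι : Type} [Finite ι] (xs : ι → Ah) :
    ∃ (V : Scheme.{u}) (j : V ⟶ Y) (_ : Etale j) (W : Y.Opens) (hW : IsAffineOpen W)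
      (hy : y ∈ W) (V' : V.Opens) (_ : IsAffineOpen V') (hVW : V' ≤ j ⁻¹ᵁ W)
      (g' : Γ(V, V') →+* Ah),
      g'.comp (j.appLE W V' hVW).hom =
        (algebraMap (Y.presheaf.stalk y) Ah).comp (Y.presheaf.germ W y hy).hom ∧
      ∀ i, ∃ c, g' c = xs i := by
  classical
  obtain ⟨W₀, hW₀, hy, -⟩ := exists_isAffineOpen_mem_and_subset (x := y) (U := ⊤) trivial
  letI algA := Y.presheaf.algebra_section_stalk ⟨y, hy⟩
  haveI hloc := hW₀.isLocalization_stalk ⟨y, hy⟩
  letI algR : Algebra Γ(Y, W₀) Ah :=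
    ((algebraMap ↥(Y.presheaf.stalk y) Ah).comp
      (algebraMap Γ(Y, W₀) ↥(Y.presheaf.stalk y))).toAlgebra
  haveI : IsScalarTower Γ(Y, W₀) ↥(Y.presheaf.stalk y) Ah :=
    IsScalarTower.of_algebraMap_eq (fun _ => rfl)
  have hF : Obj.Factor Γ(Y, W₀) Ah :=
    factor_of_isIndEtale (isIndEtale_comp Γ(Y, W₀) ↥(Y.presheaf.stalk y) Ah
      (isIndEtale_of_factor (Groth.Agent.S9470.factor_localization Γ(Y, W₀)
        (hW₀.primeIdealOf ⟨y, hy⟩).asIdeal.primeCompl ↥(Y.presheaf.stalk y))) hind)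
  let ψ : MvPolynomial ι Γ(Y, W₀) →ₐ[Γ(Y, W₀)] Ah := MvPolynomial.aeval xs
  obtain ⟨E, _, _, hEt, f, g, hfg⟩ := hF (MvPolynomial ι Γ(Y, W₀)) ψ
  have hgx : ∀ i, g (f (MvPolynomial.X i)) = xs i := by
    intro i
    have := congrArg (fun t => t (MvPolynomial.X i)) hfg
    simpa [ψ] using this
  let ψE : Γ(Y, W₀) ⟶ CommRingCat.of E := CommRingCat.ofHom (algebraMap Γ(Y, W₀) E)
  let j : Spec (CommRingCat.of E) ⟶ Y := Spec.map ψE ≫ hW₀.fromSpec
  haveI : Etale (Spec.map ψE) := by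
    rw [HasRingHomProperty.Spec_iff (P := @Etale)]
    exact RingHom.etale_algebraMap.mpr hEt
  haveI hjet : Etale j := inferInstanceAs (Etale (Spec.map ψE ≫ hW₀.fromSpec))
  have hVW : (⊤ : (Spec (CommRingCat.of E)).Opens) ≤ j ⁻¹ᵁ W₀ := by
    intro v _
    exact HenselChart.fromSpec_mem hW₀ _
  have happLE : j.appLE W₀ ⊤ hVW = ψE ≫ (Scheme.ΓSpecIso (CommRingCat.of E)).inv :=
    ElemNbhd.appLE_specMap_fromSpec hW₀ ψE hVW
  let g' : Γ(Spec (CommRingCat.of E), ⊤) →+* Ah :=
    g.toRingHom.comp (Scheme.ΓSpecIso (CommRingCat.of E)).hom.hom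
  have hiso : ∀ c : E, (Scheme.ΓSpecIso (CommRingCat.of E)).hom.hom
      ((Scheme.ΓSpecIso (CommRingCat.of E)).inv.hom c) = c := by
    intro c
    have := (Scheme.ΓSpecIso (CommRingCat.of E)).inv_hom_id
    exact congr($this c)
  have hg' : g'.comp (j.appLE W₀ ⊤ hVW).hom =
      (algebraMap ↥(Y.presheaf.stalk y) Ah).comp (Y.presheaf.germ W₀ y hy).hom := by
    rw [happLE]
    ext c
    show g ((Scheme.ΓSpecIso (CommRingCat.of E)).hom.hom
      ((Scheme.ΓSpecIso (CommRingCat.of E)).inv.hom (algebraMap Γ(Y, W₀) E c))) = _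
    rw [hiso, g.commutes]
    rfl
  refine ⟨_, j, hjet, W₀, hW₀, hy, ⊤, isAffineOpen_top _, hVW, g', hg', fun i => ?_⟩
  refine ⟨(Scheme.ΓSpecIso (CommRingCat.of E)).inv.hom (f (MvPolynomial.X i)), ?_⟩
  show g ((Scheme.ΓSpecIso (CommRingCat.of E)).hom.hom
    ((Scheme.ΓSpecIso (CommRingCat.of E)).inv.hom (f (MvPolynomial.X i)))) = _
  rw [hiso, hgx]

/-- (II'h): the fibre of an elementary étale neighbourhood has at most as many branches as seen in
the henselization. -/
theorem encard_fib_le_h {U X S : Scheme.{u}} (g : U ⟶ X) [Etale g] (f : X ⟶ S) (u : U)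
    (hres : Function.Bijective (ResidueField.map (g.stalkMap u).hom))
    (Ah : Type u) [CommRing Ah] [IsLocalRing Ah] [Algebra (X.presheaf.stalk (g u)) Ah]
    [IsLocalHom (algebraMap (X.presheaf.stalk (g u)) Ah)]
    [Hensel.IsHenselization (X.presheaf.stalk (g u)) Ah] :
    (fibI (g ≫ f) u).minimalPrimes.encard ≤
      ((fibI f (g u)).map (algebraMap (X.presheaf.stalk (g u)) Ah)).minimalPrimes.encard := by
  obtain ⟨φ, hcomp, hloc, hH⟩ := HenselEtale.isHenselization_extend_stalkMap g u hres Ah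
  have hfl : φ.Flat := by
    letI : Algebra ↥(U.presheaf.stalk u) Ah := φ.toAlgebra
    haveI := hloc
    haveI := hH
    haveI : Module.FaithfullyFlat ↥(U.presheaf.stalk u) Ah := Groth.Agent.S0509.result _ Ah
    show Module.Flat ↥(U.presheaf.stalk u) Ah
    infer_instance
  haveI : IsLocalHom φ := hloc
  have h1 := encard_minimalPrimes_map_le_of_flat_local φ hfl (fibI (g ≫ f) u)
  have h2 : (fibI (g ≫ f) u).map φ =
      (fibI f (g u)).map (algebraMap (X.presheaf.stalk (g u)) Ah) := by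
    rw [fibI_comp, Ideal.map_map, hcomp]
  rwa [h2] at h1

set_option backward.isDefEq.respectTransparency.types false in
/-- (I'h): minimal primes of the fibre ideal in the henselization are visible on the fibre of
an elementary étale neighbourhood. -/
theorem exists_etale_le_encard_fib_h {X S : Scheme.{u}} (f : X ⟶ S) (x : X)
    (Ah : Type u) [CommRing Ah] [IsLocalRing Ah] [Algebra (X.presheaf.stalk x) Ah]
    [IsLocalHom (algebraMap (X.presheaf.stalk x) Ah)]
    [Hensel.IsHenselization (X.presheaf.stalk x) Ah] (m : ℕ)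
    (hm : (m : ℕ∞) ≤
      ((fibI f x).map (algebraMap (X.presheaf.stalk x) Ah)).minimalPrimes.encard) :
    ∃ (U : Scheme.{u}) (g : U ⟶ X) (u : U), Hens2.IsEtaleNbhd g u x ∧
      (m : ℕ∞) ≤ (fibI (g ≫ f) u).minimalPrimes.encard := by
  obtain ⟨P, hP, xs, hxs⟩ := Groth.Agent.R2.H45.MinCountIdeal.exists_separators _ m hm
  obtain ⟨U, g, hg, W, hW, hx, V', hV', hVW, g', hg', hc⟩ :=
    exists_chart_of_isIndEtale x Ah (isIndEtale_of_isHenselization _ Ah)
      (fun jk : Fin m × Fin m => xs jk.1 jk.2)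
  obtain ⟨u, huV', hgu, hres, φ, hφ, hloc, hH⟩ :=
    HenselChart.exists_point_extend_of_chart g hW hV' hVW x hx Ah g' hg'
  have hfl : φ.Flat := by
    letI : Algebra ↥(U.presheaf.stalk u) Ah := φ.toAlgebra
    haveI := hloc
    haveI := hH
    haveI : Module.FaithfullyFlat ↥(U.presheaf.stalk u) Ah := Groth.Agent.S0509.result _ Ah
    show Module.Flat ↥(U.presheaf.stalk u) Ah
    infer_instance
  subst hgu
  refine ⟨U, g, u, ⟨hg, rfl, hres⟩, ?_⟩
  have hcomp : φ.comp (g.stalkMap u).hom = algebraMap (X.presheaf.stalk (g u)) Ah :=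
    comp_stalkMap_eq g u hW hVW huV' _ φ g' hφ hg'
  choose c hc using hc
  refine le_encard_fib_of_separated g f u Ah _ φ hfl hcomp m P hP
    (fun j k => U.presheaf.germ V' u huV' (c (j, k))) ?_ ?_
  · intro j k hjk
    have h1 : φ (U.presheaf.germ V' u huV' (c (j, k))) = g' (c (j, k)) :=
      RingHom.congr_fun hφ _
    rw [h1, hc]
    exact (hxs j k hjk).1
  · intro j k hjk
    have h1 : φ (U.presheaf.germ V' u huV' (c (j, k))) = g' (c (j, k)) :=
      RingHom.congr_fun hφ _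
    rw [h1, hc]
    exact (hxs j k hjk).2

end Groth.Agent.R2.H45.FibBranch
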