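import Mathlib
import Groth.Agent.S10265

/-!
# Morphisms whose kernel pair is étale, over a locally Artinian base (helper45)

If `μ : A ⟶ W` is a morphism of schemes such that a projection `A ×_W A ⟶ A` is étale and `W` is
locally Artinian (e.g. the spectrum of a field), then `μ` is locally quasi-finite and locally of
finite type.  Over a field `μ` is étale by fpqc descent along an affine open of `A` itself; in
general the fibres are étale, hence `μ` is locally quasi-finite, and a locally quasi-finite
morphism from an affine scheme to a locally Artinian scheme is finite.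
-/

set_option autoImplicit false
set_option linter.style.haveILetI false
universe u
open CategoryTheory CategoryTheory.Limits AlgebraicGeometry Topology TopologicalSpace

namespace Groth.Agent.R2.H45.KerEt

/-- composing a pullback square with a monomorphism. -/
lemma isPullback_comp_mono {C : Type*} [Category C] {P A B X' X : C} {fst : P ⟶ A} {snd : P ⟶ B}
    {f : A ⟶ X'} {g : B ⟶ X'} (i : X' ⟶ X) [Mono i] (sq : IsPullback fst snd f g) :
    IsPullback fst snd (f ≫ i) (g ≫ i) :=
  IsPullback.of_isLimit' ⟨by rw [← Category.assoc, sq.w, Category.assoc]⟩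
    (PullbackCone.IsLimit.mk _
      (fun s => sq.lift s.fst s.snd (by
        rw [← cancel_mono i, Category.assoc, Category.assoc]; exact s.condition))
      (fun s => sq.lift_fst _ _ _) (fun s => sq.lift_snd _ _ _)
      (fun s m h1 h2 => sq.hom_ext (by rw [h1, sq.lift_fst]) (by rw [h2, sq.lift_snd])))

/-- the two projections of a kernel pair differ by an automorphism. -/
lemma etale_snd_of_etale_fst {A W R : Scheme.{u}} {μ : A ⟶ W} {p₁ p₂ : R ⟶ A}
    (sq : IsPullback p₁ p₂ μ μ) [Etale p₁] : Etale p₂ := by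
  let σ : R ⟶ R := sq.lift p₂ p₁ sq.w.symm
  have h1 : σ ≫ p₁ = p₂ := sq.lift_fst _ _ _
  have h2 : σ ≫ p₂ = p₁ := sq.lift_snd _ _ _
  have hσ : σ ≫ σ = 𝟙 R := by
    apply sq.hom_ext
    · rw [Category.assoc, h1, h2, Category.id_comp]
    · rw [Category.assoc, h2, h1, Category.id_comp]
  haveI : IsIso σ := ⟨σ, hσ, hσ⟩
  rw [← h1]
  infer_instance

/-- the kernel pair of a base change is a base change of the kernel pair. -/
lemma etale_kernelPair_of_isPullback {A W A' W' R R' : Scheme.{u}} {μ : A ⟶ W} {g : W' ⟶ W}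
    {a : A' ⟶ A} {φ : A' ⟶ W'} (sqb : IsPullback a φ μ g) {p₁ p₂ : R ⟶ A}
    (sq : IsPullback p₁ p₂ μ μ) [Etale p₁] {q₁ q₂ : R' ⟶ A'} (sq' : IsPullback q₁ q₂ φ φ) :
    Etale q₁ := by
  haveI : Etale p₂ := etale_snd_of_etale_fst sq
  have big : IsPullback (q₁ ≫ a) q₂ μ (φ ≫ g) := sq'.paste_horiz sqb
  have hw : (q₁ ≫ a) ≫ μ = (q₂ ≫ a) ≫ μ := by
    rw [Category.assoc, Category.assoc, sqb.w, ← Category.assoc, ← Category.assoc, sq'.w]
  let l : R' ⟶ R := sq.lift (q₁ ≫ a) (q₂ ≫ a) hw
  have hl1 : l ≫ p₁ = q₁ ≫ a := sq.lift_fst _ _ _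
  have hl2 : l ≫ p₂ = q₂ ≫ a := sq.lift_snd _ _ _
  have big' : IsPullback (l ≫ p₁) q₂ μ (a ≫ μ) := by
    rw [hl1, sqb.w]
    exact big
  have left : IsPullback l q₂ p₂ a := IsPullback.of_right big' hl2 sq
  haveI : Etale q₂ := MorphismProperty.of_isPullback (P := @Etale) left inferInstance
  exact etale_snd_of_etale_fst sq'.flip

/-- **Field case.** A morphism to the spectrum of a field whose kernel pair is étale is étale. -/
lemma etale_of_field {A R : Scheme.{u}} {K : Type u} [Field K]
    (μ : A ⟶ Spec (CommRingCat.of K)) {p₁ p₂ : R ⟶ A} (sq : IsPullback p₁ p₂ μ μ) [Etale p₁] :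
    Etale μ := by
  rcases isEmpty_or_nonempty ↥A with hA | ⟨⟨x⟩⟩
  · infer_instance
  · obtain ⟨_, ⟨B₀, hB, rfl⟩, hxB, -⟩ :=
      A.isBasis_affineOpens.exists_subset_of_mem_open (Set.mem_univ x) isOpen_univ
    let B : A.Opens := B₀
    have hB : IsAffineOpen B := hB
    haveI : IsAffine (B : Scheme.{u}) := hB
    haveI : Subsingleton ↥(Spec (CommRingCat.of K)) :=
      inferInstanceAs (Subsingleton (PrimeSpectrum K))
    haveI : Surjective (B.ι ≫ μ) := ⟨fun y => ⟨⟨x, hxB⟩, Subsingleton.elim _ _⟩⟩
    haveI : Flat (B.ι ≫ μ) := inferInstance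
    haveI : QuasiCompact (B.ι ≫ μ) := inferInstance
    have hQ : (@Surjective ⊓ @Flat ⊓ @QuasiCompact : MorphismProperty Scheme.{u}) (B.ι ≫ μ) :=
      ⟨⟨inferInstance, inferInstance⟩, inferInstance⟩
    have sqL := IsPullback.of_hasPullback p₁ B.ι
    have big : IsPullback (pullback.fst p₁ B.ι ≫ p₂) (pullback.snd p₁ B.ι) μ (B.ι ≫ μ) :=
      sqL.paste_horiz sq.flip
    exact MorphismProperty.DescendsAlong.of_isPullback (P := @Etale)
      (Q := (@Surjective ⊓ @Flat ⊓ @QuasiCompact : MorphismProperty Scheme.{u})) big.flip hQ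
      (inferInstance : Etale (pullback.snd p₁ B.ι))

/-- **Locally Artinian base.** A morphism to a locally Artinian scheme whose kernel pair is étale
is locally quasi-finite and locally of finite type. -/
theorem lqf_of_etale_kernelPair {A W R : Scheme.{u}} [IsLocallyArtinian W] (μ : A ⟶ W)
    {p₁ p₂ : R ⟶ A} (sq : IsPullback p₁ p₂ μ μ) [Etale p₁] :
    LocallyQuasiFinite μ ∧ LocallyOfFiniteType μ := by
  have h1 : LocallyQuasiFinite μ := by
    apply LocallyQuasiFinite.of_fiberToSpecResidueField
    intro x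
    let φ := μ.fiberToSpecResidueField x
    have sqb : IsPullback (μ.fiberι x) φ μ (W.fromSpecResidueField x) :=
      IsPullback.of_hasPullback μ (W.fromSpecResidueField x)
    haveI : Etale (pullback.fst φ φ) :=
      etale_kernelPair_of_isPullback sqb sq (IsPullback.of_hasPullback φ φ)
    haveI : Etale φ :=
      etale_of_field (K := ↑(W.residueField x)) φ (IsPullback.of_hasPullback φ φ)
    exact Groth.Agent.S10265.locallyQuasiFinite_of_unramified φ
  refine ⟨h1, ?_⟩
  apply IsZariskiLocalAtSource.of_openCover (P := @LocallyOfFiniteType) A.affineCover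
  intro i
  haveI : QuasiCompact (A.affineCover.f i ≫ μ) := inferInstance
  haveI : IsFinite (A.affineCover.f i ≫ μ) := IsFinite.of_locallyQuasiFinite _
  infer_instance

end Groth.Agent.R2.H45.KerEt
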