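import Mathlib
import Groth.Prelude.Def_AlgSpDec
import Groth.Agent.R2.H93ElemNbhd3
import Groth.Agent.S2052
import Groth.Agent.S9237

/-!
# Branches at a point of a decent space via elementary étale neighbourhoods (helper93)

Fix an elementary étale neighbourhood `(U₀, u₀)` of `x` and a henselization `R` of `O_{U₀,u₀}`.
For every elementary étale neighbourhood `(U, u)` of `x`:
* `isUnibranch_iff`: `O_{U,u}` is unibranch iff `R` has a unique minimal prime;
* `numBranchesAt_eq`: the number of branches of `U` at `u` is the number of minimal primes of `R`;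
* `encard_minimalPrimes_le`: `O_{U,u}` has at most as many minimal primes as `R`.
-/

set_option autoImplicit false
set_option linter.style.haveILetI false
universe u

namespace Groth.Agent.R2.H93.ElemNbhd

open IsLocalRing AlgebraicGeometry CategoryTheory Opposite AlgSp

variable {S : Scheme.{u}} {F : AlgSp.Sp S} (x : AlgSp.Points F) {U U₀ : Over S}
  (a : (AlgSp.yon S).obj U ⟶ F) (a₀ : (AlgSp.yon S).obj U₀ ⟶ F) (u : ↥U.left) (u₀ : ↥U₀.left)
  (h : AlgSp.IsElemEtaleNbhd a u x) (h₀ : AlgSp.IsElemEtaleNbhd a₀ u₀ x)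
  (R : Type u) [CommRing R] [IsLocalRing R] [Algebra ↥(U₀.left.presheaf.stalk u₀) R]
  [IsLocalHom (algebraMap ↥(U₀.left.presheaf.stalk u₀) R)]
  [Hensel.IsHenselization ↥(U₀.left.presheaf.stalk u₀) R]

include h h₀ in
theorem isUnibranch_iff :
    CAlg2.IsUnibranch ↥(U.left.presheaf.stalk u) ↔ CAlgX.HasUniqueMinimalPrime R := by
  obtain ⟨alg, hloc, hH⟩ := exists_algebra_isHenselization x a a₀ u u₀ h h₀ R
  exact Groth.Agent.S2052.result

include h h₀ in
theorem numBranchesAt_eq :
    Brnch.numBranchesAt U.left u = (minimalPrimes R).encard := by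
  obtain ⟨alg, hloc, hH⟩ := exists_algebra_isHenselization x a a₀ u u₀ h h₀ R
  exact (Groth.Agent.S9237.result ↥(U.left.presheaf.stalk u) R).symm

include h h₀ in
theorem encard_minimalPrimes_le :
    (minimalPrimes ↥(U.left.presheaf.stalk u)).encard ≤ (minimalPrimes R).encard := by
  obtain ⟨alg, hloc, hH⟩ := exists_algebra_isHenselization x a a₀ u u₀ h h₀ R
  haveI : Module.FaithfullyFlat ↥(U.left.presheaf.stalk u) R := Groth.Agent.S0509.result _ R
  exact MinPrimes.encard_minimalPrimes_le_of_faithfullyFlat _ R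

theorem hasUniqueMinimalPrime_iff_encard (A : Type*) [CommRing A] :
    CAlgX.HasUniqueMinimalPrime A ↔ (minimalPrimes A).encard = 1 := by
  rw [Set.encard_eq_one]
  constructor
  · rintro ⟨p, hp, huniq⟩
    refine ⟨p, ?_⟩
    ext q
    exact ⟨fun hq => huniq q hq, fun hq => by rw [Set.mem_singleton_iff.mp hq]; exact hp⟩
  · rintro ⟨p, hp⟩
    refine ⟨p, by rw [hp]; rfl, fun q hq => ?_⟩
    rw [hp] at hq
    exact hq

theorem one_le_encard_minimalPrimes (A : Type*) [CommRing A] [Nontrivial A] :
    1 ≤ (minimalPrimes A).encard := by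
  rw [Set.one_le_encard_iff_nonempty]
  obtain ⟨m, hm⟩ := Ideal.exists_maximal A
  haveI := hm.isPrime
  obtain ⟨p, hp⟩ := Ideal.exists_minimalPrimes_le (I := (⊥ : Ideal A)) (J := m) bot_le
  exact ⟨p, hp.1⟩

end Groth.Agent.R2.H93.ElemNbhd
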