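import Mathlib
import Groth.Prelude.Def_CAlgX
import Groth.Prelude.Def_CAlg2
import Groth.Prelude.Def_Hensel
import Groth.Agent.R2.H3StrictHensA
import Groth.Agent.Lib.Helper3HzP
import Groth.Agent.Lib.Helper14WEField
import Groth.Agent.R2.H93MinPrimes
import Groth.Agent.R2.H93ElemNbhd4
import Groth.Agent.S2135
import Groth.Agent.S0537
import Groth.Agent.S0736
import Groth.Agent.S12237
import Groth.Agent.S7127

/-!
# Geometric unibranchness and connectedness of punctured strict henselizations (helper45)
-/

set_option autoImplicit false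
set_option linter.style.haveILetI false
universe u

namespace Groth.Agent.R2.H45.PuncConn

open IsLocalRing

/-- a local ring with a unique minimal prime and a non-maximal prime has connected punctured
spectrum. -/
theorem connectedSpace_punctured_of_unique (S : Type u) [CommRing S] [IsLocalRing S]
    (h : CAlgX.HasUniqueMinimalPrime S) (hne : ∃ Q : PrimeSpectrum S, Q ≠ closedPoint S) :
    ConnectedSpace ↥({closedPoint S}ᶜ : Set (PrimeSpectrum S)) := by
  obtain ⟨P, hP, huniq⟩ := h
  haveI : P.IsPrime := hP.1.1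
  have hle : ∀ Q : PrimeSpectrum S, P ≤ Q.asIdeal := by
    intro Q
    obtain ⟨P', hP', hP'le⟩ := Ideal.exists_minimalPrimes_le (I := (⊥ : Ideal S))
      (J := Q.asIdeal) bot_le
    rw [← huniq P' hP']
    exact hP'le
  let P' : PrimeSpectrum S := ⟨P, inferInstance⟩
  have hP'U : P' ∈ ({closedPoint S}ᶜ : Set (PrimeSpectrum S)) := by
    obtain ⟨Q, hQ⟩ := hne
    intro hPm
    apply hQ
    have h1 : P' = closedPoint S := hPm
    have h2 : (closedPoint S).asIdeal ≤ Q.asIdeal := by rw [← h1]; exact hle Q
    have h3 : Q.asIdeal = maximalIdeal S :=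
      ((IsLocalRing.maximalIdeal.isMaximal S).eq_of_le Q.isPrime.ne_top h2).symm
    exact PrimeSpectrum.ext h3
  have hpre : IsPreconnected ({closedPoint S}ᶜ : Set (PrimeSpectrum S)) := by
    refine (isPreconnected_singleton (x := P')).subset_closure
      (Set.singleton_subset_iff.mpr hP'U) ?_
    intro Q _
    rw [← specializes_iff_mem_closure, ← PrimeSpectrum.le_iff_specializes]
    exact hle Q
  haveI : PreconnectedSpace ↥({closedPoint S}ᶜ : Set (PrimeSpectrum S)) :=
    Subtype.preconnectedSpace hpre
  haveI : Nonempty ↥({closedPoint S}ᶜ : Set (PrimeSpectrum S)) := ⟨⟨P', hP'U⟩⟩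
  exact ConnectedSpace.mk inferInstance

/-- if the punctured spectrum of a local ring with finitely many, but at least two, minimal
primes is connected, two distinct minimal primes lie in a common non-maximal prime. -/
theorem exists_prime_two_minimal (S : Type u) [CommRing S] [IsLocalRing S]
    (hfin : (minimalPrimes S).Finite)
    (hconn : ConnectedSpace ↥({closedPoint S}ᶜ : Set (PrimeSpectrum S)))
    (hnu : ¬ CAlgX.HasUniqueMinimalPrime S) :
    ∃ (Q : PrimeSpectrum S) (P₁ P₂ : Ideal S), Q ≠ closedPoint S ∧ P₁ ∈ minimalPrimes S ∧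
      P₂ ∈ minimalPrimes S ∧ P₁ ≠ P₂ ∧ P₁ ≤ Q.asIdeal ∧ P₂ ≤ Q.asIdeal := by
  classical
  obtain ⟨P₁, hP₁⟩ : (minimalPrimes S).Nonempty := by
    obtain ⟨P, hP, -⟩ := Ideal.exists_minimalPrimes_le (I := (⊥ : Ideal S))
      (J := maximalIdeal S) bot_le
    exact ⟨P, hP⟩
  have hex : ∃ P₂ ∈ minimalPrimes S, P₂ ≠ P₁ := by
    by_contra hcon
    refine hnu ⟨P₁, hP₁, fun q hq => ?_⟩
    by_contra hq'
    exact hcon ⟨q, hq, hq'⟩
  obtain ⟨P₂, hP₂, hne⟩ := hex
  haveI : P₁.IsPrime := hP₁.1.1
  haveI : P₂.IsPrime := hP₂.1.1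
  -- no minimal prime is the maximal ideal
  have hnotmax : ∀ P ∈ minimalPrimes S, P ≠ maximalIdeal S := by
    intro P hP hPm
    have h1 : ∀ P' ∈ minimalPrimes S, P' = P := by
      intro P' hP'
      haveI : P'.IsPrime := hP'.1.1
      have hle : P' ≤ P := by rw [hPm]; exact IsLocalRing.le_maximalIdeal hP'.1.1.ne_top
      exact le_antisymm hle (hP.2 ⟨hP'.1.1, bot_le⟩ hle)
    exact hne ((h1 P₂ hP₂).trans (h1 P₁ hP₁).symm)
  let U : Set (PrimeSpectrum S) := {closedPoint S}ᶜ
  have hpre : IsPreconnected U := isPreconnected_iff_preconnectedSpace.mpr inferInstance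
  let t : Set (PrimeSpectrum S) := PrimeSpectrum.zeroLocus (P₁ : Set S)
  let t' : Set (PrimeSpectrum S) :=
    ⋃ P ∈ (minimalPrimes S \ {P₁}), PrimeSpectrum.zeroLocus (P : Set S)
  have ht : IsClosed t := PrimeSpectrum.isClosed_zeroLocus _
  have ht' : IsClosed t' :=
    (hfin.subset Set.sdiff_subset).isClosed_biUnion (fun P _ => PrimeSpectrum.isClosed_zeroLocus _)
  have hcov : U ⊆ t ∪ t' := by
    intro Q _
    obtain ⟨P, hP, hPle⟩ := Ideal.exists_minimalPrimes_le (I := (⊥ : Ideal S))
      (J := Q.asIdeal) bot_le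
    by_cases hPP : P = P₁
    · left
      subst hPP
      exact (PrimeSpectrum.mem_zeroLocus _ _).mpr hPle
    · right
      exact Set.mem_biUnion (⟨hP, hPP⟩ : P ∈ minimalPrimes S \ {P₁})
        ((PrimeSpectrum.mem_zeroLocus _ _).mpr hPle)
  have hne1 : (U ∩ t).Nonempty := by
    refine ⟨⟨P₁, inferInstance⟩, ?_, (PrimeSpectrum.mem_zeroLocus _ _).mpr le_rfl⟩
    intro h
    exact hnotmax P₁ hP₁ (congrArg PrimeSpectrum.asIdeal h)
  have hne2 : (U ∩ t').Nonempty := by
    refine ⟨⟨P₂, inferInstance⟩, ?_, ?_⟩
    · intro h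
      exact hnotmax P₂ hP₂ (congrArg PrimeSpectrum.asIdeal h)
    · exact Set.mem_biUnion (⟨hP₂, hne⟩ : P₂ ∈ minimalPrimes S \ {P₁})
        ((PrimeSpectrum.mem_zeroLocus _ _).mpr le_rfl)
  obtain ⟨Q, hQU, hQt, hQt'⟩ := (isPreconnected_closed_iff.mp hpre) t t' ht ht' hcov hne1 hne2
  obtain ⟨P, hP, hQP⟩ := Set.mem_iUnion₂.mp hQt'
  exact ⟨Q, P₁, P, hQU, hP₁, hP.1, fun h => hP.2 h.symm,
    (PrimeSpectrum.mem_zeroLocus _ _).mp hQt, (PrimeSpectrum.mem_zeroLocus _ _).mp hQP⟩


/-- two distinct minimal primes inside a prime `Q` give at least two minimal primes of the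
localization at `Q`. -/
theorem two_le_encard_minimalPrimes_localization (S : Type u) [CommRing S] (Q : Ideal S)
    [Q.IsPrime] (P₁ P₂ : Ideal S) (h₁ : P₁ ∈ minimalPrimes S) (h₂ : P₂ ∈ minimalPrimes S)
    (hne : P₁ ≠ P₂) (hle₁ : P₁ ≤ Q) (hle₂ : P₂ ≤ Q) :
    2 ≤ (minimalPrimes (Localization.AtPrime Q)).encard := by
  haveI : P₁.IsPrime := h₁.1.1
  haveI : P₂.IsPrime := h₂.1.1
  have hmin : minimalPrimes (Localization.AtPrime Q) =
      Ideal.comap (algebraMap S (Localization.AtPrime Q)) ⁻¹' minimalPrimes S := by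
    have := IsLocalization.minimalPrimes_map Q.primeCompl (Localization.AtPrime Q) (⊥ : Ideal S)
    rw [Ideal.map_bot] at this
    exact this
  have hd : ∀ P : Ideal S, P ≤ Q → Disjoint (Q.primeCompl : Set S) (P : Set S) := by
    intro P hP
    rw [Set.disjoint_left]
    intro a ha ha'
    exact ha (hP ha')
  have hc : ∀ P : Ideal S, P.IsPrime → P ≤ Q →
      (P.map (algebraMap S (Localization.AtPrime Q))).comap
        (algebraMap S (Localization.AtPrime Q)) = P := by
    intro P hPp hP
    exact IsLocalization.comap_map_of_isPrime_disjoint Q.primeCompl (Localization.AtPrime Q)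
      hPp (hd P hP)
  have hm₁ : P₁.map (algebraMap S (Localization.AtPrime Q)) ∈
      minimalPrimes (Localization.AtPrime Q) := by
    rw [hmin, Set.mem_preimage, hc P₁ inferInstance hle₁]; exact h₁
  have hm₂ : P₂.map (algebraMap S (Localization.AtPrime Q)) ∈
      minimalPrimes (Localization.AtPrime Q) := by
    rw [hmin, Set.mem_preimage, hc P₂ inferInstance hle₂]; exact h₂
  have hne' : P₁.map (algebraMap S (Localization.AtPrime Q)) ≠
      P₂.map (algebraMap S (Localization.AtPrime Q)) := by
    intro h
    apply hne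
    rw [← hc P₁ inferInstance hle₁, ← hc P₂ inferInstance hle₂, h]
  calc (2 : ℕ∞) = ({P₁.map (algebraMap S (Localization.AtPrime Q)),
        P₂.map (algebraMap S (Localization.AtPrime Q))} : Set _).encard :=
        (Set.encard_pair hne').symm
    _ ≤ _ := Set.encard_le_encard (by
        intro x hx
        rcases hx with rfl | rfl
        · exact hm₁
        · exact hm₂)

set_option maxHeartbeats 800000 in
/-- the key step: a non-maximal prime `Q` of a strict henselization `S` of `R_p` containing two
distinct minimal primes produces a prime `q < p` of `R` with `R_q` not geometrically unibranch. -/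
theorem exists_lt_not_gu (R : Type u) [CommRing R] (p : Ideal R) [p.IsPrime]
    (S : Type u) [CommRing S] [IsLocalRing S] [Algebra (Localization.AtPrime p) S]
    [IsLocalHom (algebraMap (Localization.AtPrime p) S)]
    [Hensel.IsStrictHenselization (Localization.AtPrime p) S]
    (Q : Ideal S) [Q.IsPrime] (hQ : Q ≠ maximalIdeal S) (P₁ P₂ : Ideal S)
    (h₁ : P₁ ∈ minimalPrimes S) (h₂ : P₂ ∈ minimalPrimes S)
    (hne : P₁ ≠ P₂) (hle₁ : P₁ ≤ Q) (hle₂ : P₂ ≤ Q) :
    ∃ (q : Ideal R) (_ : q.IsPrime), q < p ∧
      ¬ CAlg2.IsGeomUnibranch (Localization.AtPrime q) := by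
  letI algRS : Algebra R S :=
    ((algebraMap (Localization.AtPrime p) S).comp (algebraMap R (Localization.AtPrime p))).toAlgebra
  haveI : IsScalarTower R (Localization.AtPrime p) S :=
    IsScalarTower.of_algebraMap_eq (fun _ => rfl)
  let q : Ideal R := Q.comap (algebraMap R S)
  haveI hqp : q.IsPrime := Ideal.comap_isPrime _ _
  have hqle : q ≤ p := by
    intro r hr
    by_contra hrp
    have hu : IsUnit (algebraMap R (Localization.AtPrime p) r) :=
      IsLocalization.map_units (Localization.AtPrime p) (⟨r, hrp⟩ : p.primeCompl)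
    have hu' : IsUnit (algebraMap R S r) := by
      rw [IsScalarTower.algebraMap_apply R (Localization.AtPrime p) S]
      exact hu.map _
    exact (inferInstance : Q.IsPrime).ne_top (Ideal.eq_top_of_isUnit_mem _ hr hu')
  have hqne : q ≠ p := by
    intro hqp'
    apply hQ
    have h1 : (maximalIdeal (Localization.AtPrime p)).map (algebraMap (Localization.AtPrime p) S)
        ≤ Q := by
      rw [← Localization.AtPrime.map_eq_maximalIdeal, Ideal.map_map, Ideal.map_le_iff_le_comap]
      intro r hr
      have : r ∈ q := hqp' ▸ hr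
      exact this
    rw [Groth.Agent.Lib.Helper3.HzP.sh_map_maximalIdeal] at h1
    exact ((IsLocalRing.maximalIdeal.isMaximal S).eq_of_le (inferInstance : Q.IsPrime).ne_top
      h1).symm
  refine ⟨q, hqp, lt_of_le_of_ne hqle hqne, fun hGU => ?_⟩
  -- the local map `R_q → S_Q`
  letI : Algebra (Localization.AtPrime q) (Localization.AtPrime Q) :=
    (Localization.localRingHom q Q (algebraMap R S) rfl).toAlgebra
  haveI : IsLocalHom (algebraMap (Localization.AtPrime q) (Localization.AtPrime Q)) :=
    Localization.isLocalHom_localRingHom _ _ _ rfl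
  haveI : Algebra.WeaklyEtale R (Localization.AtPrime p) :=
    Groth.Agent.Lib.Helper14.WEField.weaklyEtale_of_isLocalization p.primeCompl _
  haveI : Algebra.WeaklyEtale (Localization.AtPrime p) S :=
    Groth.Agent.S0736.result _ S (Groth.Agent.S12237.result _ S)
  haveI : Algebra.WeaklyEtale R S := Algebra.WeaklyEtale.trans R (Localization.AtPrime p) S
  haveI : Algebra.WeaklyEtale S (Localization.AtPrime Q) :=
    Groth.Agent.Lib.Helper14.WEField.weaklyEtale_of_isLocalization Q.primeCompl _
  haveI : Algebra.WeaklyEtale R (Localization.AtPrime Q) := Algebra.WeaklyEtale.trans R S _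
  haveI : Algebra.WeaklyEtale R (Localization.AtPrime q) :=
    Groth.Agent.Lib.Helper14.WEField.weaklyEtale_of_isLocalization q.primeCompl _
  haveI : IsScalarTower R (Localization.AtPrime q) (Localization.AtPrime Q) :=
    IsScalarTower.of_algebraMap_eq (fun c => by
      show _ = Localization.localRingHom q Q (algebraMap R S) rfl (algebraMap R _ c)
      rw [Localization.localRingHom_to_map, ← IsScalarTower.algebraMap_apply])
  haveI : Algebra.WeaklyEtale (Localization.AtPrime q) (Localization.AtPrime Q) :=
    Groth.Agent.S7127.result R _ _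
  -- a strict henselization of `S_Q`
  obtain ⟨T, _, _, _, _, hT⟩ := Groth.Agent.S0537.result (Localization.AtPrime Q)
  letI : Algebra (Localization.AtPrime q) T :=
    ((algebraMap (Localization.AtPrime Q) T).comp
      (algebraMap (Localization.AtPrime q) (Localization.AtPrime Q))).toAlgebra
  haveI : IsScalarTower (Localization.AtPrime q) (Localization.AtPrime Q) T :=
    IsScalarTower.of_algebraMap_eq (fun _ => rfl)
  obtain ⟨hloc, hsh⟩ := Groth.Agent.R2.H3.StrictHens.isStrictHenselization_of_weaklyEtale
    (Localization.AtPrime q) (Localization.AtPrime Q) T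
  have hU : CAlgX.HasUniqueMinimalPrime T := Groth.Agent.S2135.result.mp hGU
  have h1 : (minimalPrimes T).encard = 1 :=
    (Groth.Agent.R2.H93.ElemNbhd.hasUniqueMinimalPrime_iff_encard T).mp hU
  haveI : Module.FaithfullyFlat (Localization.AtPrime Q) T :=
    Groth.Agent.Lib.Helper3.HzP.sh_faithfullyFlat _ _
  have h2 := Groth.Agent.R2.H93.MinPrimes.encard_minimalPrimes_le_of_faithfullyFlat
    (Localization.AtPrime Q) T
  have h3 := two_le_encard_minimalPrimes_localization S Q P₁ P₂ h₁ h₂ hne hle₁ hle₂
  rw [h1] at h2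
  have : (2 : ℕ∞) ≤ 1 := h3.trans h2
  exact absurd this (by norm_num)


/-- the strict henselization of the localization at a minimal prime has a unique prime. -/
theorem hasUniqueMinimalPrime_of_mem_minimalPrimes (R : Type u) [CommRing R] (p : Ideal R)
    [p.IsPrime] (hp : p ∈ minimalPrimes R)
    (S : Type u) [CommRing S] [IsLocalRing S] [Algebra (Localization.AtPrime p) S]
    [IsLocalHom (algebraMap (Localization.AtPrime p) S)]
    [Hensel.IsStrictHenselization (Localization.AtPrime p) S] :
    CAlgX.HasUniqueMinimalPrime S := by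
  have hall : ∀ Q : Ideal S, Q.IsPrime → Q = maximalIdeal S := by
    intro Q hQ
    let I : Ideal (Localization.AtPrime p) := Q.comap (algebraMap (Localization.AtPrime p) S)
    haveI hI : I.IsPrime := Ideal.comap_isPrime _ _
    let q : Ideal R := I.comap (algebraMap R (Localization.AtPrime p))
    haveI hq : q.IsPrime := Ideal.comap_isPrime _ _
    have hqle : q ≤ p := by
      intro r hr
      by_contra hrp
      have hu : IsUnit (algebraMap R (Localization.AtPrime p) r) :=
        IsLocalization.map_units (Localization.AtPrime p) (⟨r, hrp⟩ : p.primeCompl)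
      exact hI.ne_top (Ideal.eq_top_of_isUnit_mem _ hr hu)
    have hqp : q = p := le_antisymm hqle (hp.2 ⟨hq, bot_le⟩ hqle)
    have hIm : I = maximalIdeal (Localization.AtPrime p) := by
      rw [← IsLocalization.map_comap p.primeCompl (Localization.AtPrime p) I]
      show q.map _ = _
      rw [hqp]
      exact Localization.AtPrime.map_eq_maximalIdeal
    have h1 : (maximalIdeal (Localization.AtPrime p)).map
        (algebraMap (Localization.AtPrime p) S) ≤ Q := by
      rw [Ideal.map_le_iff_le_comap, ← hIm]
    rw [Groth.Agent.Lib.Helper3.HzP.sh_map_maximalIdeal] at h1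
    exact ((IsLocalRing.maximalIdeal.isMaximal S).eq_of_le hQ.ne_top h1).symm
  obtain ⟨P, hP, -⟩ := Ideal.exists_minimalPrimes_le (I := (⊥ : Ideal S))
    (J := maximalIdeal S) bot_le
  refine ⟨P, hP, fun P' hP' => ?_⟩
  rw [hall P hP.1.1, hall P' hP'.1.1]

/-- ring-level statement: if the punctured spectra of the strict henselizations at all
non-minimal primes of a Noetherian ring are connected, all localizations are geometrically
unibranch. -/
theorem gu_of_punctured_connected (R : Type u) [CommRing R] [IsNoetherianRing R]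
    (H : ∀ (p : Ideal R) [p.IsPrime], p ∉ minimalPrimes R →
      ∀ (S : Type u) [CommRing S] [IsLocalRing S] [Algebra (Localization.AtPrime p) S]
        [IsLocalHom (algebraMap (Localization.AtPrime p) S)]
        [Hensel.IsStrictHenselization (Localization.AtPrime p) S],
        ConnectedSpace ↥({closedPoint S}ᶜ : Set (PrimeSpectrum S)))
    (p : Ideal R) [p.IsPrime] : CAlg2.IsGeomUnibranch (Localization.AtPrime p) := by
  have key : ∀ n : ℕ, ∀ (p : Ideal R) [p.IsPrime], p.height = n →
      CAlg2.IsGeomUnibranch (Localization.AtPrime p) := by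
    intro n
    induction n using Nat.strong_induction_on with
    | _ n ih =>
      intro p _ hpn
      obtain ⟨S, _, _, _, _, hS⟩ := Groth.Agent.S0537.result (Localization.AtPrime p)
      rw [Groth.Agent.S2135.result (A := Localization.AtPrime p) (Ash := S)]
      by_cases hpmin : p ∈ minimalPrimes R
      · exact hasUniqueMinimalPrime_of_mem_minimalPrimes R p hpmin S
      · by_contra hnu
        haveI hconn := H p hpmin S
        haveI : IsNoetherianRing (Localization.AtPrime p) :=
          IsLocalization.isNoetherianRing p.primeCompl _ inferInstance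
        haveI : IsNoetherianRing S := Groth.Agent.Lib.Helper3.HzP.sh_isNoetherianRing
          (R := Localization.AtPrime p) (S := S)
        obtain ⟨Q, P₁, P₂, hQ, h₁, h₂, hne, hle₁, hle₂⟩ :=
          exists_prime_two_minimal S (minimalPrimes.finite_of_isNoetherianRing S) hconn hnu
        haveI := Q.isPrime
        have hQ' : Q.asIdeal ≠ maximalIdeal S := fun h => hQ (PrimeSpectrum.ext h)
        obtain ⟨q, hq, hqp, hngu⟩ :=
          exists_lt_not_gu R p S Q.asIdeal hQ' P₁ P₂ h₁ h₂ hne hle₁ hle₂
        have hlt : q.height < p.height := Ideal.height_strict_mono_of_isPrime_of_isPrime hqp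
        have hfin : q.height ≠ ⊤ := (hlt.trans_le le_top).ne
        obtain ⟨m, hm⟩ := ENat.ne_top_iff_exists.mp hfin
        have hmn : m < n := by
          rw [← hm, hpn] at hlt
          exact_mod_cast hlt
        exact hngu (ih m hmn q hm.symm)
  have hfin : p.height ≠ ⊤ := (Ideal.height_lt_top_of_isPrime (I := p)).ne
  obtain ⟨n, hn⟩ := ENat.ne_top_iff_exists.mp hfin
  exact key n p hn.symm

end Groth.Agent.R2.H45.PuncConn
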