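import Mathlib
import Groth.Prelude.Def_CAlg2
import Groth.Agent.Lib.Helper6UniB
import Groth.Agent.Lib.Helper3UnramEtB
import Groth.Agent.S2750

/-!
# Smooth algebras over geometrically unibranch local domains (helper45)
-/

set_option autoImplicit false
set_option linter.style.haveILetI false
universe u

namespace Groth.Agent.R2.H45.SmGU

open IsLocalRing

/-- a strictly henselian local ring is its own strict henselization. -/
theorem isStrictHenselization_self (R : Type u) [CommRing R] [HenselianLocalRing R]
    [IsSepClosed (ResidueField R)] :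
    Hensel.IsStrictHenselization R R := by
  have hmap : ResidueField.map (algebraMap R R) = RingHom.id _ := by
    ext x
    obtain ⟨x, rfl⟩ := residue_surjective x
    rfl
  refine ⟨inferInstance, ?_, ?_⟩
  · refine @IsSepClosure.mk _ _ _ _ ResidueField.instAlgebra inferInstance ?_
    refine @Algebra.IsSeparable.mk _ _ _ _ ResidueField.instAlgebra (fun x => ?_)
    have hx : x = @algebraMap (ResidueField R) (ResidueField R) _ _ ResidueField.instAlgebra x := by
      show x = ResidueField.map (algebraMap R R) x
      rw [hmap]; rfl
    rw [hx]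
    exact @isSeparable_algebraMap (ResidueField R) _ (ResidueField R) _
      ResidueField.instAlgebra x
  · intro T _ _ f _ τ hτ
    refine ⟨f, ⟨rfl, fun x => ?_⟩, fun g hg => hg.1⟩
    have := RingHom.congr_fun hτ (residue R x)
    rw [hmap] at this
    exact this.symm

/-- localizations of a smooth algebra over a geometrically unibranch local domain at primes over
the maximal ideal are geometrically unibranch domains. -/
theorem isDomain_and_isGeomUnibranch_of_smooth (R : Type u) [CommRing R] [IsLocalRing R]
    [IsDomain R] (hR : CAlg2.IsGeomUnibranch R) (R' : Type u) [CommRing R'] [Algebra R R']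
    [Algebra.Smooth R R'] (q : Ideal R') [q.IsPrime]
    (hq : q.comap (algebraMap R R') = maximalIdeal R) :
    IsDomain (Localization.AtPrime q) ∧ CAlg2.IsGeomUnibranch (Localization.AtPrime q) := by
  haveI : Algebra.FinitePresentation R R' := Algebra.Smooth.finitePresentation
  haveI : Algebra.IsSmoothAt R q := inferInstance
  obtain ⟨f, hfq, hstd⟩ := Algebra.IsSmoothAt.exists_notMem_isStandardSmooth R q
  let E := Localization.Away f
  have hstd' : (algebraMap R E).IsStandardSmooth :=
    RingHom.isStandardSmooth_algebraMap.mpr hstd
  obtain ⟨n, g, hgC, hget⟩ := RingHom.IsStandardSmooth.exists_etale_mvPolynomial hstd'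
  let P := MvPolynomial (Fin n) R
  letI algPE : Algebra P E := g.toAlgebra
  haveI : Algebra.Etale P E := hget
  have hdisj : Disjoint (Submonoid.powers f : Set R') (q : Set R') := by
    rwa [Ideal.disjoint_powers_iff_notMem_of_isPrime]
  let Q' : Ideal E := q.map (algebraMap R' E)
  haveI hQ'p : Q'.IsPrime :=
    IsLocalization.isPrime_of_isPrime_disjoint (Submonoid.powers f) E q inferInstance hdisj
  have hQ'c : Q'.comap (algebraMap R' E) = q :=
    IsLocalization.under_map_of_isPrime_disjoint (Submonoid.powers f) E inferInstance hdisj
  let Q : Ideal P := Q'.comap (algebraMap P E)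
  haveI : Q.IsPrime := Ideal.comap_isPrime _ _
  have hQm : Q.comap (MvPolynomial.C : R →+* P) = maximalIdeal R := by
    show (Q'.comap g).comap (MvPolynomial.C : R →+* P) = maximalIdeal R
    rw [Ideal.comap_comap, hgC, IsScalarTower.algebraMap_eq R R' E, ← Ideal.comap_comap, hQ'c, hq]
  have hA : CAlg2.IsGeomUnibranch (Localization.AtPrime Q) :=
    Groth.Agent.Lib.Helper6.Uni.isGeomUnibranch_mvPolynomial hR Q hQm
  obtain ⟨hd, hgu⟩ :=
    Groth.Agent.Lib.Helper3.UnramEt.isDomain_and_isGeomUnibranch_of_etale P E Q' Q rfl hA
  haveI : IsLocalization.AtPrime (Localization.AtPrime Q') (Q'.comap (algebraMap R' E)) :=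
    IsLocalization.isLocalization_isLocalization_atPrime_isLocalization (Submonoid.powers f)
      (Localization.AtPrime Q') Q'
  have hsub : (Q'.comap (algebraMap R' E)).primeCompl = q.primeCompl :=
    Submonoid.ext (fun x => by
      show x ∉ Q'.comap (algebraMap R' E) ↔ x ∉ q
      rw [hQ'c])
  have hloc2 : IsLocalization q.primeCompl (Localization.AtPrime Q') :=
    hsub ▸ ‹IsLocalization.AtPrime (Localization.AtPrime Q') (Q'.comap (algebraMap R' E))›
  haveI := hloc2
  let e : Localization.AtPrime q ≃ₐ[R'] Localization.AtPrime Q' :=
    IsLocalization.algEquiv q.primeCompl _ _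
  exact ⟨MulEquiv.isDomain (Localization.AtPrime Q') e.toRingEquiv.toMulEquiv,
    Groth.Agent.Lib.Helper4.Unibranch.isGeomUnibranch_of_ringEquiv e.symm.toRingEquiv hgu⟩

/-- a strictly henselian local domain is geometrically unibranch. -/
theorem isGeomUnibranch_of_strictlyHenselian_domain (R : Type u) [CommRing R] [IsDomain R]
    [HenselianLocalRing R] [IsSepClosed (ResidueField R)] : CAlg2.IsGeomUnibranch R := by
  haveI := isStrictHenselization_self R
  exact ((Groth.Agent.S2750.result R R).mpr inferInstance).2

end Groth.Agent.R2.H45.SmGU
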