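import Mathlib
import Groth.Agent.R2.H45SmGU
import Groth.Agent.R2.H45FibBranch2
import Groth.Agent.Lib.Helper3ShQuot
import Groth.Agent.Lib.Helper3HzP

/-!
# Strict henselizations of smooth algebras: extended primes stay prime (helper45)
-/

set_option autoImplicit false
set_option linter.style.haveILetI false
universe u

namespace Groth.Agent.R2.H45.SmSh

open IsLocalRing Groth.Agent.R2.H45.SmGU Groth.Agent.R2.H45.FibBranch

/-- the quotient of a strictly henselian local ring by a prime ideal is geometrically unibranch. -/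
theorem isGeomUnibranch_quotient_of_strictlyHenselian (R : Type u) [CommRing R]
    [HenselianLocalRing R] [IsSepClosed (ResidueField R)] (I : Ideal R) [I.IsPrime]
    [IsLocalRing (R ⧸ I)] : CAlg2.IsGeomUnibranch (R ⧸ I) := by
  haveI hH : HenselianLocalRing (R ⧸ I) := Groth.Agent.S13598.henselian_quotient I
  haveI : IsLocalHom (Ideal.Quotient.mk I) := Groth.Agent.Lib.Helper3.ShQuot.isLocalHom_mk I
  haveI : IsSepClosed (ResidueField (R ⧸ I)) :=
    Groth.Agent.Lib.Helper3.ShQuot.isSepClosed_of_ringEquiv
      (RingEquiv.ofBijective _ (Groth.Agent.Lib.Helper3.ShQuot.residue_map_mk_bijective I))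
  exact isGeomUnibranch_of_strictlyHenselian_domain (R ⧸ I)

/-- `B` local with strict henselization `T`, `J` an ideal of `B` with `B ⧸ J` a geometrically
unibranch domain: then `J T` is prime. -/
theorem isPrime_map_of_quotient_isGeomUnibranch {B T : Type u} [CommRing B] [IsLocalRing B]
    [CommRing T] [IsLocalRing T] [Algebra B T] [IsLocalHom (algebraMap B T)]
    [Hensel.IsStrictHenselization B T] (J : Ideal B) (hJ : J ≤ maximalIdeal B)
    [IsLocalRing (B ⧸ J)] (hd : IsDomain (B ⧸ J)) (hgu : CAlg2.IsGeomUnibranch (B ⧸ J)) :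
    (J.map (algebraMap B T)).IsPrime := by
  haveI : IsLocalRing (T ⧸ J.map (algebraMap B T)) :=
    Groth.Agent.Lib.Helper5.isLocalRing_quotient (map_ne_top_of_le J hJ)
  haveI := isLocalHom_quotient_map (Ash := T) J
  haveI hq := Groth.Agent.Lib.Helper3.ShQuot.isStrictHenselization_quotient (A := B) (S := T) J
  have hdom : IsDomain (T ⧸ J.map (algebraMap B T)) :=
    (Groth.Agent.S2750.result (B ⧸ J) (T ⧸ J.map (algebraMap B T))).mp ⟨inferInstance, hgu⟩
  exact (Ideal.Quotient.isDomain_iff_prime _).mp hdom

/-- `R` local, `I` a prime with `R ⧸ I` geometrically unibranch, `R'` smooth over `R`, `q` a prime of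
`R'` over the maximal ideal: the quotient of `R'_q` by `I R'_q` is a geometrically unibranch
domain. -/
theorem isDomain_and_isGeomUnibranch_quotient_of_smooth (R : Type u) [CommRing R] [IsLocalRing R]
    (I : Ideal R) [I.IsPrime] [IsLocalRing (R ⧸ I)] (hgu : CAlg2.IsGeomUnibranch (R ⧸ I))
    (R' : Type u) [CommRing R'] [Algebra R R'] [Algebra.Smooth R R'] (q : Ideal R') [q.IsPrime]
    (hq : q.comap (algebraMap R R') = maximalIdeal R)
    [IsLocalRing (Localization.AtPrime q ⧸
      (I.map (algebraMap R R')).map (algebraMap R' (Localization.AtPrime q)))] :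
    IsDomain (Localization.AtPrime q ⧸
      (I.map (algebraMap R R')).map (algebraMap R' (Localization.AtPrime q))) ∧
    CAlg2.IsGeomUnibranch (Localization.AtPrime q ⧸
      (I.map (algebraMap R R')).map (algebraMap R' (Localization.AtPrime q))) := by
  let I' : Ideal R' := I.map (algebraMap R R')
  let B := Localization.AtPrime q
  have hI'q : I' ≤ q := by
    rw [Ideal.map_le_iff_le_comap, hq]
    exact le_maximalIdeal (Ideal.IsPrime.ne_top inferInstance)
  haveI : Algebra.Smooth (R ⧸ I) (R' ⧸ I') :=
    Algebra.Smooth.of_equiv (Algebra.TensorProduct.quotIdealMapEquivQuotTensor R' I).symm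
  let qb : Ideal (R' ⧸ I') := q.map (Ideal.Quotient.mk I')
  have hker : RingHom.ker (Ideal.Quotient.mk I') ≤ q := by rwa [Ideal.mk_ker]
  haveI hqbp : qb.IsPrime :=
    Ideal.map_isPrime_of_surjective Ideal.Quotient.mk_surjective hker
  have hqbc : qb.comap (Ideal.Quotient.mk I') = q := by
    rw [Ideal.comap_map_of_surjective _ Ideal.Quotient.mk_surjective]
    simpa [← RingHom.ker_eq_comap_bot] using hker
  have hqb : qb.comap (algebraMap (R ⧸ I) (R' ⧸ I')) = maximalIdeal (R ⧸ I) := by
    refine ((maximalIdeal.isMaximal (R ⧸ I)).eq_of_le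
      (Ideal.IsPrime.ne_top (Ideal.comap_isPrime _ _)) ?_).symm
    intro x hx
    obtain ⟨r, rfl⟩ := Ideal.Quotient.mk_surjective x
    have hr : r ∈ maximalIdeal R := by
      rw [mem_maximalIdeal] at hx ⊢
      exact fun h => hx (h.map _)
    rw [← hq] at hr
    exact Ideal.mem_map_of_mem (Ideal.Quotient.mk I') hr
  obtain ⟨hd, hg⟩ := isDomain_and_isGeomUnibranch_of_smooth (R ⧸ I) hgu (R' ⧸ I') qb hqb
  have hsub : Algebra.algebraMapSubmonoid (R' ⧸ I') q.primeCompl = qb.primeCompl := by
    ext x
    constructor
    · rintro ⟨y, hy, rfl⟩ hmem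
      have : y ∈ qb.comap (Ideal.Quotient.mk I') := hmem
      rw [hqbc] at this
      exact hy this
    · intro hx
      obtain ⟨y, rfl⟩ := Ideal.Quotient.mk_surjective x
      exact ⟨y, fun hy => hx (Ideal.mem_map_of_mem _ hy), rfl⟩
  haveI hloc : IsLocalization qb.primeCompl (B ⧸ I'.map (algebraMap R' B)) :=
    hsub ▸ (inferInstance : IsLocalization (Algebra.algebraMapSubmonoid (R' ⧸ I') q.primeCompl)
      (B ⧸ I'.map (algebraMap R' B)))
  let e : Localization.AtPrime qb ≃ₐ[R' ⧸ I'] (B ⧸ I'.map (algebraMap R' B)) :=
    IsLocalization.algEquiv qb.primeCompl _ _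
  exact ⟨MulEquiv.isDomain (Localization.AtPrime qb) e.symm.toRingEquiv.toMulEquiv,
    Groth.Agent.Lib.Helper4.Unibranch.isGeomUnibranch_of_ringEquiv e.toRingEquiv hg⟩

/-- `R` strictly henselian local, `I` a prime of `R`, `R'` smooth over `R`, `q` a prime of `R'` over
the maximal ideal, `T` a strict henselization of `R'_q`: then `I T` is prime. -/
theorem isPrime_map_sh_of_smooth (R : Type u) [CommRing R] [HenselianLocalRing R]
    [IsSepClosed (ResidueField R)] (I : Ideal R) [I.IsPrime]
    (R' : Type u) [CommRing R'] [Algebra R R'] [Algebra.Smooth R R'] (q : Ideal R') [q.IsPrime]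
    (hq : q.comap (algebraMap R R') = maximalIdeal R)
    (T : Type u) [CommRing T] [IsLocalRing T] [Algebra (Localization.AtPrime q) T]
    [IsLocalHom (algebraMap (Localization.AtPrime q) T)]
    [Hensel.IsStrictHenselization (Localization.AtPrime q) T] :
    (((I.map (algebraMap R R')).map (algebraMap R' (Localization.AtPrime q))).map
      (algebraMap (Localization.AtPrime q) T)).IsPrime := by
  haveI : IsLocalRing (R ⧸ I) :=
    Groth.Agent.Lib.Helper5.isLocalRing_quotient (Ideal.IsPrime.ne_top inferInstance)
  have hgu := isGeomUnibranch_quotient_of_strictlyHenselian R I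
  have hI'q : I.map (algebraMap R R') ≤ q := by
    rw [Ideal.map_le_iff_le_comap, hq]
    exact le_maximalIdeal (Ideal.IsPrime.ne_top inferInstance)
  have hJ : (I.map (algebraMap R R')).map (algebraMap R' (Localization.AtPrime q)) ≤
      maximalIdeal (Localization.AtPrime q) := by
    rw [← Localization.AtPrime.map_eq_maximalIdeal]
    exact Ideal.map_mono hI'q
  have hJne : (I.map (algebraMap R R')).map (algebraMap R' (Localization.AtPrime q)) ≠ ⊤ :=
    fun h => (maximalIdeal.isMaximal _).ne_top (top_le_iff.mp (h ▸ hJ))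
  haveI : IsLocalRing (Localization.AtPrime q ⧸
      (I.map (algebraMap R R')).map (algebraMap R' (Localization.AtPrime q))) :=
    Groth.Agent.Lib.Helper5.isLocalRing_quotient hJne
  obtain ⟨hd, hg⟩ := isDomain_and_isGeomUnibranch_quotient_of_smooth R I hgu R' q hq
  exact isPrime_map_of_quotient_isGeomUnibranch _ hJ hd hg

/-- `R → T` is injective, `T` a strict henselization of `R'_q`, `R'` flat over the local ring `R`
and `q` over the maximal ideal. -/
theorem algebraMap_sh_injective (R : Type u) [CommRing R] [IsLocalRing R]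
    (R' : Type u) [CommRing R'] [Algebra R R'] [Module.Flat R R'] (q : Ideal R') [q.IsPrime]
    (hq : q.comap (algebraMap R R') = maximalIdeal R)
    (T : Type u) [CommRing T] [IsLocalRing T] [Algebra (Localization.AtPrime q) T]
    [IsLocalHom (algebraMap (Localization.AtPrime q) T)]
    [Hensel.IsStrictHenselization (Localization.AtPrime q) T] :
    Function.Injective ((algebraMap (Localization.AtPrime q) T).comp
      ((algebraMap R' (Localization.AtPrime q)).comp (algebraMap R R'))) := by
  haveI : Module.Flat R (Localization.AtPrime q) := Module.Flat.trans R R' (Localization.AtPrime q)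
  haveI : IsLocalHom (algebraMap R (Localization.AtPrime q)) := by
    refine ⟨fun a ha => ?_⟩
    rw [IsScalarTower.algebraMap_apply R R' (Localization.AtPrime q),
      IsLocalization.AtPrime.isUnit_to_map_iff (Localization.AtPrime q) q] at ha
    by_contra hna
    have h1 : a ∈ maximalIdeal R := (mem_maximalIdeal a).mpr hna
    rw [← hq] at h1
    exact ha h1
  haveI : Module.FaithfullyFlat R (Localization.AtPrime q) :=
    Module.FaithfullyFlat.of_flat_of_isLocalHom
  haveI : Module.FaithfullyFlat (Localization.AtPrime q) T :=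
    Groth.Agent.Lib.Helper3.HzP.sh_faithfullyFlat (Localization.AtPrime q) T
  have h1 : Function.Injective (algebraMap R (Localization.AtPrime q)) :=
    FaithfulSMul.algebraMap_injective R (Localization.AtPrime q)
  have h2 : Function.Injective (algebraMap (Localization.AtPrime q) T) :=
    FaithfulSMul.algebraMap_injective (Localization.AtPrime q) T
  have h3 : (algebraMap R' (Localization.AtPrime q)).comp (algebraMap R R') =
      algebraMap R (Localization.AtPrime q) :=
    (IsScalarTower.algebraMap_eq R R' (Localization.AtPrime q)).symm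
  rw [h3]
  exact h2.comp h1

end Groth.Agent.R2.H45.SmSh
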