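import Mathlib
import Groth.Agent.R2.H46DecentSch
import Groth.Agent.R2.H25DecentIff
import Groth.Agent.R2.H25DecentEquiv

/-!
# Decent spaces with finitely many irreducible components (helper46)

`isDecent_and_finite_iff`: an algebraic space is decent with finitely many irreducible components
iff it has a dense open subscheme with finitely many irreducible components whose generic points
are quasi-compact in the space.  The converse direction bounds the geometric fibre degree of the
kernel pair of an affine étale chart by its values at the finitely many points over the generic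
points (lower semicontinuity), which gives finite fibres.
-/

set_option autoImplicit false
set_option linter.style.haveILetI false
universe u
open CategoryTheory CategoryTheory.Limits AlgebraicGeometry Topology TopologicalSpace

namespace Groth.Agent.R2.H46.DecentFin

section Top

variable {A B : Type*} [TopologicalSpace A] [TopologicalSpace B]

/-- every irreducible set lies in an irreducible component. -/
lemma exists_mem_irreducibleComponents_superset {s : Set A} (hs : IsIrreducible s) :
    ∃ C ∈ irreducibleComponents A, s ⊆ C := by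
  obtain ⟨t, ht, hst, hmax⟩ := exists_preirreducible s hs.isPreirreducible
  have hti : IsIrreducible t := ⟨hs.nonempty.mono hst, ht⟩
  refine ⟨t, ⟨hti, fun u hu htu => ?_⟩, hst⟩
  rw [hmax u hu.isPreirreducible htu]

/-- an open subspace of a space with finitely many irreducible components has finitely many
irreducible components. -/
lemma finite_irreducibleComponents_of_isOpenEmbedding {ι : A → B} (hι : IsOpenEmbedding ι)
    (hB : (irreducibleComponents B).Finite) : (irreducibleComponents A).Finite := by
  refine (hB.image (fun C => ι ⁻¹' C)).subset ?_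
  intro T hT
  have hTi : IsIrreducible T := hT.1
  have h1 : IsIrreducible (closure (ι '' T)) :=
    (hTi.image ι hι.continuous.continuousOn).closure
  obtain ⟨C, hC, hsub⟩ := exists_mem_irreducibleComponents_superset h1
  refine ⟨C, hC, ?_⟩
  obtain ⟨t, ht⟩ := hTi.nonempty
  have h3 : T ⊆ ι ⁻¹' C := fun t ht => hsub (subset_closure ⟨t, ht, rfl⟩)
  have h2 : IsIrreducible (ι ⁻¹' C) := hC.1.preimage hι ⟨ι t, h3 ht, t, rfl⟩
  exact le_antisymm (hT.2 h2 h3) h3

/-- a space with a dense subspace having finitely many irreducible components has finitely many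
irreducible components. -/
lemma finite_irreducibleComponents_of_denseRange {ι : A → B} (hc : Continuous ι)
    (hd : DenseRange ι) (hA : (irreducibleComponents A).Finite) :
    (irreducibleComponents B).Finite := by
  classical
  refine (hA.image (fun T => closure (ι '' T))).subset ?_
  intro C hC
  have huniv : (Set.univ : Set B) = ⋃ T ∈ irreducibleComponents A, closure (ι '' T) := by
    rw [← hA.closure_biUnion, ← Set.image_iUnion₂, ← Set.sUnion_eq_biUnion,
      sUnion_irreducibleComponents, Set.image_univ]
    exact hd.closure_range.symm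
  have hcover : C ⊆ ⋃₀ ↑(hA.toFinset.image (fun T => closure (ι '' T))) := by
    intro c _
    have : c ∈ ⋃ T ∈ irreducibleComponents A, closure (ι '' T) := by rw [← huniv]; trivial
    simp only [Set.mem_iUnion] at this
    obtain ⟨T, hT, hcT⟩ := this
    refine ⟨closure (ι '' T), ?_, hcT⟩
    simp only [Finset.coe_image, Set.Finite.coe_toFinset, Set.mem_image]
    exact ⟨T, hT, rfl⟩
  obtain ⟨z, hz, hCz⟩ := (isIrreducible_iff_sUnion_isClosed.1 hC.1) _ (by
    intro z hz
    rw [Finset.mem_image] at hz
    obtain ⟨T, -, rfl⟩ := hz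
    exact isClosed_closure) hcover
  rw [Finset.mem_image] at hz
  obtain ⟨T, hT, rfl⟩ := hz
  have hT' : T ∈ irreducibleComponents A := hA.mem_toFinset.1 hT
  refine ⟨T, hT', ?_⟩
  exact le_antisymm (hC.2 ((hT'.1.image ι hc.continuousOn).closure) hCz) hCz

end Top

section Deg

open Groth.Agent.R2.H46.DegStrat Groth.Agent.R2.H46.ConstDeg

/-- `n` distinct points in a fibre of a separated morphism give geometric fibre degree at least
`n`. -/
theorem degGE_of_finset (n : ℕ) : ∀ {Q B : Scheme.{u}} (g : Q ⟶ B) [IsSeparated g] (b : ↥B)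
    (F : Finset ↥Q), (∀ q ∈ F, g q = b) → F.card = n → DegGE n g b := by
  induction n with
  | zero => intros; trivial
  | succ n ih =>
    intro Q B g _ b F hF hcard
    classical
    obtain ⟨q₀, hq₀⟩ : F.Nonempty := Finset.card_pos.1 (by omega)
    refine ⟨q₀, hF q₀ hq₀, ?_⟩
    have key : ∀ q : {q // q ∈ F.erase q₀}, ∃ z : ↥(↑(offDiag g) : Scheme.{u}), next g z = q₀ ∧
        (pullback.snd g g) ((offDiag g).ι z) = q.1 := by
      rintro ⟨q, hq⟩
      have hqF : q ∈ F := Finset.mem_of_mem_erase hq
      have hne : q ≠ q₀ := Finset.ne_of_mem_erase hq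
      obtain ⟨z, hz1, hz2⟩ := Scheme.Pullback.exists_preimage_pullback (f := g) (g := g) q₀ q
        ((hF q₀ hq₀).trans (hF q hqF).symm)
      have hz : z ∈ offDiag g := by
        rw [← SetLike.mem_coe, offDiag_coe_eq]
        rintro ⟨d, rfl⟩
        apply hne
        rw [← hz2, ← hz1, ← Scheme.Hom.comp_apply, ← Scheme.Hom.comp_apply,
          pullback.diagonal_fst, pullback.diagonal_snd]
      exact ⟨⟨z, hz⟩, hz1, hz2⟩
    choose z hz1 hz2 using key
    have hinj : Function.Injective z := by
      intro q q' h
      apply Subtype.ext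
      rw [← hz2 q, ← hz2 q', h]
    refine ih (next g) q₀ ((F.erase q₀).attach.image z) ?_ ?_
    · intro y hy
      rw [Finset.mem_image] at hy
      obtain ⟨q, -, rfl⟩ := hy
      exact hz1 q
    · rw [Finset.card_image_of_injective _ hinj, Finset.card_attach, Finset.card_erase_of_mem hq₀,
        hcard]
      rfl

/-- bounded geometric fibre degree gives finite fibres. -/
theorem finite_fibre_of_not_degGE (n : ℕ) {Q B : Scheme.{u}} (g : Q ⟶ B) [IsSeparated g] (b : ↥B)
    (h : ¬ DegGE n g b) : (g ⁻¹' {b}).Finite := by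
  by_contra hinf
  obtain ⟨t, ht, hcard⟩ := Set.Infinite.exists_subset_card_eq hinf n
  exact h (degGE_of_finset n g b t (fun q hq => ht hq) hcard)

end Deg

section Sp

variable {S : Scheme.{u}}

open Groth.Agent.R2.H46.DegStrat Groth.Agent.R2.H46.DegSp Groth.Agent.R2.H46.ConstDeg
  Groth.Agent.R2.H46.DecentSober

/-- every point of a scheme is a specialization of the generic point of an irreducible
component. -/
lemma exists_generic_specializes {Y : Scheme.{u}} (y : ↥Y) :
    ∃ x', (∃ T ∈ irreducibleComponents ↥Y, IsGenericPoint x' T) ∧ x' ⤳ y := by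
  have hC : IsIrreducible (irreducibleComponent y) := isIrreducible_irreducibleComponent
  have hCc : IsClosed (irreducibleComponent y) := isClosed_irreducibleComponent
  have hη : IsGenericPoint hC.genericPoint (irreducibleComponent y) := by
    have := hC.isGenericPoint_genericPoint_closure
    rwa [hCc.closure_eq] at this
  exact ⟨hC.genericPoint, ⟨_, irreducibleComponent_mem_irreducibleComponents y, hη⟩,
    hη.specializes mem_irreducibleComponent⟩

/-- the generic points of the irreducible components of a scheme with finitely many irreducible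
components form a finite set. -/
lemma finite_generic {Y : Scheme.{u}} (hfin : (irreducibleComponents ↥Y).Finite) :
    {x' : ↥Y | ∃ T ∈ irreducibleComponents ↥Y, IsGenericPoint x' T}.Finite := by
  refine Set.Finite.of_finite_image (f := fun x' : ↥Y => closure ({x'} : Set ↥Y))
    (hfin.subset ?_) ?_
  · rintro _ ⟨x', ⟨T, hT, hx'⟩, rfl⟩
    change closure {x'} ∈ _
    rw [hx'.def]
    exact hT
  · rintro x ⟨T, -, hx⟩ y ⟨T', -, hy⟩ hxy
    have hxy' : closure ({x} : Set ↥Y) = closure {y} := hxy
    have : IsGenericPoint y T := by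
      rw [← hx.def, hxy']
      exact isGenericPoint_closure
    exact hx.eq this

/-- **finite fibres of the kernel pair projections** of an affine étale chart of a space with a
dense open subscheme with finitely many irreducible components and quasi-compact generic
points. -/
theorem finite_fibre_pr (X : AlgSp.Space S) {X' : Over S} (j : (AlgSp.yon S).obj X' ⟶ X.obj)
    (hj : AlgSp.RepWith @IsOpenImmersion j) (hd : Dense (Set.range (AlgSp.Points.ofPt j)))
    (hfin : (irreducibleComponents ↥X'.left).Finite)
    (hqc : ∀ x' : ↥X'.left, (∃ T ∈ irreducibleComponents ↥X'.left, IsGenericPoint x' T) →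
      AlgSp.RepWith @QuasiCompact (AlgSp.FieldPt.ofPt j x').toHom)
    {U W : Over S} [IsAffine U.left] (a : (AlgSp.yon S).obj U ⟶ X.obj)
    (hae : AlgSp.RepWith @Etale a) (pr w : W ⟶ U)
    (sq : IsPullback ((AlgSp.yon S).map pr) ((AlgSp.yon S).map w) a a) (u : ↥U.left) :
    (pr.left ⁻¹' {u}).Finite := by
  haveI : Etale pr.left := hae.2 a _ pr sq.flip
  haveI : IsSeparated pr.left := isSeparated_pr sq
  have hje : AlgSp.RepWith @Etale j := Groth.Agent.R2.H59.QPts.repWith_etale_of_openImm hj
  have hGfin := finite_generic hfin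
  -- the points of `U` over the generic points of `X'`
  have hΞfin : {ξ : ↥U.left | ∃ x', (∃ T ∈ irreducibleComponents ↥X'.left, IsGenericPoint x' T) ∧
      AlgSp.Points.ofPt a ξ = AlgSp.Points.ofPt j x'}.Finite := by
    have : {ξ : ↥U.left | ∃ x', (∃ T ∈ irreducibleComponents ↥X'.left, IsGenericPoint x' T) ∧
        AlgSp.Points.ofPt a ξ = AlgSp.Points.ofPt j x'} =
        ⋃ x' ∈ {x' : ↥X'.left | ∃ T ∈ irreducibleComponents ↥X'.left, IsGenericPoint x' T},
          AlgSp.Points.ofPt a ⁻¹' {AlgSp.Points.ofPt j x'} := by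
      ext ξ
      simp only [Set.mem_ofPred_eq, Set.mem_iUnion, Set.mem_preimage, Set.mem_singleton_iff,
        exists_prop]
    rw [this]
    refine hGfin.biUnion fun x' hx' => ?_
    exact (Groth.Agent.R2.H25.DecentIff.finite_fibres_of_quasiCompact X (AlgSp.FieldPt.ofPt j x')
      (hqc x' hx') a inferInstance hae w pr sq).1
  -- every point of `U` is a specialization of such a point
  have hspec : ∀ u : ↥U.left, ∃ ξ, (∃ x', (∃ T ∈ irreducibleComponents ↥X'.left,
      IsGenericPoint x' T) ∧ AlgSp.Points.ofPt a ξ = AlgSp.Points.ofPt j x') ∧ ξ ⤳ u := by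
    obtain ⟨P, snd, fst', sqP⟩ := hj.1 a
    obtain ⟨fst, rfl⟩ := (AlgSp.yon S).map_surjective fst'
    haveI : IsOpenImmersion snd.left := hj.2 a _ snd sqP
    haveI : Etale fst.left := hae.2 j _ fst sqP.flip
    have hZc := hΞfin.isClosed_biUnion (f := fun ξ => closure ({ξ} : Set ↥U.left))
      (fun _ _ => isClosed_closure)
    have hsub : Set.range snd.left ⊆ ⋃ ξ ∈ {ξ : ↥U.left | ∃ x', (∃ T ∈ irreducibleComponents
        ↥X'.left, IsGenericPoint x' T) ∧ AlgSp.Points.ofPt a ξ = AlgSp.Points.ofPt j x'},
        closure ({ξ} : Set ↥U.left) := by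
      rintro _ ⟨p, rfl⟩
      obtain ⟨x', hx'G, hx'⟩ := exists_generic_specializes (fst.left p)
      obtain ⟨p', hp', hp'x⟩ := (Flat.generalizingMap fst.left) hx'
      refine Set.mem_biUnion (x := snd.left p') ⟨x', hx'G, ?_⟩ ?_
      · rw [← Groth.Agent.S10176.ofPt_map_comp, ← sqP.w, Groth.Agent.S10176.ofPt_map_comp, hp'x]
      · exact specializes_iff_mem_closure.1 (hp'.map snd.left.continuous)
    have hdense : Dense (Set.range snd.left) := by
      have : Set.range snd.left = AlgSp.Points.ofPt a ⁻¹' Set.range (AlgSp.Points.ofPt j) := by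
        ext u
        constructor
        · rintro ⟨p, rfl⟩
          exact ⟨fst.left p, by
            rw [← Groth.Agent.S10176.ofPt_map_comp, sqP.w, Groth.Agent.S10176.ofPt_map_comp]⟩
        · rintro ⟨x', hx'⟩
          obtain ⟨p, -, hp2⟩ := Groth.Agent.S10176.exists_point_of_isPullback_yon sqP x' u hx'
          exact ⟨p, hp2⟩
      rw [this]
      exact hd.preimage (Groth.Agent.S10176.isOpenMap_ofPt a hae)
    intro u
    have h1 : u ∈ closure (Set.range snd.left) := hdense u
    have h2 := (hZc.closure_subset_iff.2 hsub) h1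
    simp only [Set.mem_iUnion] at h2
    obtain ⟨ξ, hξ, hu⟩ := h2
    exact ⟨ξ, hξ, specializes_iff_mem_closure.2 hu⟩
  -- degree bound at these points
  have hdeg : ∀ ξ : ↥U.left, (∃ x', (∃ T ∈ irreducibleComponents ↥X'.left,
      IsGenericPoint x' T) ∧ AlgSp.Points.ofPt a ξ = AlgSp.Points.ofPt j x') →
      ∃ n, ¬ HasLifts n pr.left ξ := by
    rintro ξ ⟨x', hx', hξ⟩
    apply exists_not_hasLifts_of_point X.property hae sq ξ
    obtain ⟨p, hp, hm, hq⟩ :=
      Groth.Agent.R2.H25.DecentEquiv.exists_mono_quasiCompact_of_quasiCompact X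
        (AlgSp.FieldPt.ofPt j x') (hqc x' hx')
    exact ⟨p, hp.trans hξ.symm, hm, hq⟩
  choose! n hn using hdeg
  obtain ⟨N, hN⟩ := (hΞfin.image n).bddAbove
  have hnot : ¬ DegGE N pr.left u := by
    intro h
    obtain ⟨ξ, hξ, hξu⟩ := hspec u
    have h1 : DegGE N pr.left ξ := hξu.mem_open (isOpen_setOf_degGE N pr.left) h
    exact hn ξ hξ (hasLifts_of_degGE _ pr.left ξ
      (degGE_of_le (hN ⟨ξ, hξ, rfl⟩) pr.left ξ h1))
  exact finite_fibre_of_not_degGE N pr.left u hnot

/-- a space with a dense open subscheme with finitely many irreducible components and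
quasi-compact generic points is decent. -/
theorem isDecent_of_dense_open (X : AlgSp.Space S) {X' : Over S}
    (j : (AlgSp.yon S).obj X' ⟶ X.obj)
    (hj : AlgSp.RepWith @IsOpenImmersion j) (hd : Dense (Set.range (AlgSp.Points.ofPt j)))
    (hfin : (irreducibleComponents ↥X'.left).Finite)
    (hqc : ∀ x' : ↥X'.left, (∃ T ∈ irreducibleComponents ↥X'.left, IsGenericPoint x' T) →
      AlgSp.RepWith @QuasiCompact (AlgSp.FieldPt.ofPt j x').toHom) :
    AlgSp.IsDecent X.obj := by
  intro x
  refine Groth.Agent.R2.H25.DecentIff.exists_mono_quasiCompact_of_finite_fibres X x ?_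
  intro U φ hU hφ R s t sq
  haveI := hU
  have hft : ∀ u, (t.left ⁻¹' {u}).Finite :=
    fun u => finite_fibre_pr X j hj hd hfin hqc φ hφ t s sq u
  have h1 : (AlgSp.Points.ofPt φ ⁻¹' {x}).Finite := by
    by_cases hne : (AlgSp.Points.ofPt φ ⁻¹' {x}).Nonempty
    · obtain ⟨u₀, hu₀⟩ := hne
      have hu₀' : AlgSp.Points.ofPt φ u₀ = x := hu₀
      have : AlgSp.Points.ofPt φ ⁻¹' {x} = s.left '' (t.left ⁻¹' {u₀}) := by
        rw [← Groth.Agent.S10176.preimage_ofPt_image sq {u₀}, Set.image_singleton, hu₀']
      rw [this]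
      exact (hft u₀).image _
    · rw [Set.not_nonempty_iff_eq_empty.1 hne]
      exact Set.finite_empty
  refine ⟨h1, ?_⟩
  have : AlgSp.Points.ofPt ((AlgSp.yon S).map t ≫ φ) ⁻¹' {x} =
      ⋃ u ∈ AlgSp.Points.ofPt φ ⁻¹' {x}, t.left ⁻¹' {u} := by
    ext r
    simp only [Set.mem_preimage, Set.mem_singleton_iff, Set.mem_iUnion, exists_prop,
      Groth.Agent.S10176.ofPt_map_comp]
    constructor
    · intro h; exact ⟨t.left r, h, rfl⟩
    · rintro ⟨u, hu, rfl⟩; exact hu
  rw [this]
  exact h1.biUnion fun u _ => hft u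

/-- **Stacks 0BA?**: decent with finitely many irreducible components iff there is a dense open
subscheme with finitely many irreducible components and quasi-compact generic points. -/
theorem isDecent_and_finite_iff (X : AlgSp.Space S) :
    (AlgSp.IsDecent X.obj ∧ (irreducibleComponents (AlgSp.Points X.obj)).Finite) ↔
      ∃ (X' : Over S) (j : (AlgSp.yon S).obj X' ⟶ X.obj), AlgSp.RepWith @IsOpenImmersion j ∧
        Dense (Set.range (AlgSp.Points.ofPt j)) ∧ (irreducibleComponents ↥X'.left).Finite ∧
        ∀ x' : ↥X'.left, (∃ T ∈ irreducibleComponents ↥X'.left, IsGenericPoint x' T) →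
          AlgSp.RepWith @QuasiCompact (AlgSp.FieldPt.ofPt j x').toHom := by
  constructor
  · rintro ⟨hdec, hfin⟩
    obtain ⟨M, f, hf, hdense⟩ :=
      Groth.Agent.R2.H46.DecentSch.exists_dense_open_subscheme_yon X hdec
    have hfe : AlgSp.RepWith @Etale f := Groth.Agent.R2.H59.QPts.repWith_etale_of_openImm hf
    have hinj : Function.Injective (AlgSp.Points.ofPt f) := by
      intro m m' h
      rw [AlgSp.Points.ofPt_eq_map_ofScheme, AlgSp.Points.ofPt_eq_map_ofScheme] at h
      exact (AlgSp.Points.schemeEquiv M).injective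
        (Groth.Agent.Lib.Helper12.LargestOpen.injective_map_of_open f hf h)
    have hOE : IsOpenEmbedding (AlgSp.Points.ofPt f) :=
      IsOpenEmbedding.of_continuous_injective_isOpenMap (AlgSp.Points.continuous_ofPt f) hinj
        (Groth.Agent.S10176.isOpenMap_ofPt f hfe)
    refine ⟨M, f, hf, hdense, finite_irreducibleComponents_of_isOpenEmbedding hOE hfin, ?_⟩
    intro x' _
    obtain ⟨p, hp, -, hq⟩ := hdec (AlgSp.Points.ofPt f x')
    exact Groth.Agent.R2.H25.DecentEquiv.repWith_quasiCompact_of_rel X
      (AlgSp.Points.mk_eq_mk_iff.1 hp) hq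
  · rintro ⟨X', j, hj, hd, hfin, hqc⟩
    exact ⟨isDecent_of_dense_open X j hj hd hfin hqc,
      finite_irreducibleComponents_of_denseRange (AlgSp.Points.continuous_ofPt j) hd hfin⟩

end Sp

end Groth.Agent.R2.H46.DecentFin
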