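import Mathlib
import Groth.Agent.S10176
import Groth.Agent.S10177
import Groth.Agent.S10301

set_option autoImplicit false
set_option linter.style.haveILetI false
universe u
open CategoryTheory CategoryTheory.Limits AlgebraicGeometry

namespace Groth.Agent.R2.H46.Embed

/-- descent of "inducing" along a commutative square `j ∘ π' = π ∘ ι` of maps of topological
spaces which is cartesian on points, with `π` open and `π'` surjective. -/
lemma isInducing_of_square {A' A B' B : Type*} [TopologicalSpace A'] [TopologicalSpace A]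
    [TopologicalSpace B'] [TopologicalSpace B]
    (ι : A' → A) (π' : A' → B') (π : A → B) (j : B' → B)
    (hcomm : ∀ a', j (π' a') = π (ι a'))
    (hι : Topology.IsInducing ι) (hπ's : Function.Surjective π') (hπ'c : Continuous π')
    (hπo : IsOpenMap π) (hj : Function.Injective j) (hjc : Continuous j)
    (hcart : ∀ a : A, π a ∈ Set.range j → a ∈ Set.range ι) : Topology.IsInducing j := by
  refine ⟨le_antisymm hjc.le_induced ?_⟩
  intro W hW
  have h1 : IsOpen (π' ⁻¹' W) := hW.preimage hπ'c
  obtain ⟨O₂, hO₂, hO₂W⟩ := hι.isOpen_iff.1 h1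
  rw [isOpen_induced_iff]
  refine ⟨π '' O₂, hπo _ hO₂, ?_⟩
  ext w
  constructor
  · rintro ⟨o₂, ho₂, ho₂w⟩
    obtain ⟨a', rfl⟩ := hcart o₂ ⟨w, ho₂w.symm⟩
    have h3 : a' ∈ π' ⁻¹' W := by rw [← hO₂W]; exact ho₂
    have h2 : j (π' a') = j w := by rw [hcomm, ho₂w]
    rw [← hj h2]; exact h3
  · intro hw
    obtain ⟨a', rfl⟩ := hπ's w
    have h3 : a' ∈ ι ⁻¹' O₂ := by rw [hO₂W]; exact hw
    exact ⟨ι a', h3, (hcomm a').symm⟩

variable {S : Scheme.{u}}

/-- a morphism to an algebraic space which is representable by preimmersions is inducing on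
points. -/
lemma isInducing_map_of_repWith_isPreimmersion {F G : AlgSp.Sp S} (hG : AlgSp.IsAlgSpace G)
    (i : F ⟶ G) (hi : AlgSp.RepWith @IsPreimmersion i) :
    Topology.IsInducing (AlgSp.Points.map i) := by
  obtain ⟨U, a, hae, has⟩ := hG.atlas
  obtain ⟨U', ι', pr, sq⟩ := hi.1 a
  haveI : IsPreimmersion ι'.left := hi.2 a pr ι' sq
  have hprs : AlgSp.RepWith @Surjective pr :=
    MorphismProperty.of_isPullback (P := AlgSp.RepWith @Surjective) sq.flip has
  refine isInducing_of_square (ι'.left : ↥U'.left → ↥U.left) (AlgSp.Points.ofPt pr)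
    (AlgSp.Points.ofPt a) (AlgSp.Points.map i) ?_ ι'.left.isEmbedding.isInducing
    (Groth.Agent.S10177.surjective_ofPt pr hprs) (AlgSp.Points.continuous_ofPt pr)
    (Groth.Agent.S10176.isOpenMap_ofPt a hae) ?_ (AlgSp.Points.continuous_map i) ?_
  · intro u'
    rw [AlgSp.Points.map_ofPt, sq.w, Groth.Agent.S10176.ofPt_map_comp]
  · exact Groth.Agent.S10301.injective_map_of_repWith (P := @IsPreimmersion)
      (fun X Y g hg => by haveI : IsPreimmersion g := hg; exact g.isEmbedding.injective) i hi
  · rintro u ⟨x, hx⟩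
    obtain ⟨p, -, hp2⟩ := Groth.Agent.S10175.exists_point_of_isPullback sq x
      (AlgSp.Points.ofScheme U u) (by rw [hx, AlgSp.Points.ofPt_eq_map_ofScheme])
    obtain ⟨y, rfl⟩ := (AlgSp.Points.schemeHomeo U').surjective p
    refine ⟨y, ?_⟩
    apply (AlgSp.Points.schemeHomeo U).injective
    have := AlgSp.Points.map_yon_map_apply ι' y
    exact this.symm.trans hp2

end Groth.Agent.R2.H46.Embed
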