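import Mathlib
import Groth.Prelude.Def_AlgSpMor5
import Groth.Prelude.Def_AlgSpDec
import Groth.Agent.Lib.Helper12QcPoint
import Groth.Agent.S10176
import Groth.Agent.S10177
import Groth.Agent.S10288

/-!
# The existence part of the valuative criterion from closedness (helper46)

Core lemma: for a valuative square `sq` of `f : F ⟶ G`, if the base change `Z = F ×_G Spec A` is an
algebraic space, `|Z| → |Spec A|` is closed and the image of the `K`-point in `|Z|` has a
quasi-compact field-valued representative, then the square has a lift after a dominating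
extension.
-/

set_option autoImplicit false
set_option linter.style.haveILetI false
universe u
open CategoryTheory CategoryTheory.Limits AlgebraicGeometry
open AlgSp

namespace Groth.Agent.R2.H46.ExistVC

variable {S : Scheme.{u}}

open IsLocalRing in
/-- version with a section `σ` over `Spec K` whose image point has a quasi-compact
representative. -/
theorem hasLiftExt_of_isClosedMap_of_section {F G : AlgSp.Sp S} (f : F ⟶ G) (sq : AlgSp.ValSq f)
    (Z : AlgSp.Sp S) (hZ : AlgSp.IsAlgSpace Z) (fst : Z ⟶ F)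
    (π : Z ⟶ (AlgSp.yon S).obj sq.ptA) (hpb : IsPullback fst π f sq.bot)
    (hcl : IsClosedMap (AlgSp.Points.map π))
    (σ : (AlgSp.yon S).obj sq.ptK ⟶ Z) (hσ1 : σ ≫ fst = sq.top)
    (hσ2 : σ ≫ π = (AlgSp.yon S).map sq.j)
    (hdec : ∃ q : AlgSp.FieldPt Z, AlgSp.Points.mk q =
        AlgSp.Points.ofPt σ (closedPoint sq.K : ↥sq.ptK.left) ∧
      AlgSp.RepWith @QuasiCompact q.toHom) :
    sq.HasLiftExt := by
  let t₀ : ↥sq.ptK.left := closedPoint sq.K
  obtain ⟨x, hx⟩ : ∃ x : AlgSp.Points Z, x = AlgSp.Points.ofPt σ t₀ := ⟨_, rfl⟩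
  -- a specialization of `x` over the closed point
  obtain ⟨x', hx'cl, hx's⟩ : ∃ x' ∈ closure ({x} : Set (AlgSp.Points Z)),
      AlgSp.Points.map π x' = AlgSp.Points.schemeHomeo sq.ptA (closedPoint sq.A) := by
    have hC : IsClosed (AlgSp.Points.map π '' closure ({x} : Set (AlgSp.Points Z))) :=
      hcl _ isClosed_closure
    have hC' := hC.preimage (AlgSp.Points.schemeHomeo sq.ptA).continuous
    obtain ⟨s, hs⟩ := (AlgSp.Points.schemeHomeo sq.ptA).surjective (AlgSp.Points.map π x)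
    have hsmem : s ∈ (AlgSp.Points.schemeHomeo sq.ptA) ⁻¹'
        (AlgSp.Points.map π '' closure ({x} : Set (AlgSp.Points Z))) := by
      rw [Set.mem_preimage, hs]
      exact ⟨x, subset_closure rfl, rfl⟩
    have hsp : s ⤳ closedPoint sq.A := IsLocalRing.specializes_closedPoint (R := sq.A) s
    have := hsp.mem_closed hC' hsmem
    obtain ⟨x', hx', hx'2⟩ := this
    exact ⟨x', hx', hx'2⟩
  have hspec : x ⤳ x' := specializes_iff_mem_closure.2 hx'cl
  -- charts
  obtain ⟨U, a, hae, has⟩ := hZ.atlas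
  obtain ⟨u', hu'⟩ := Groth.Agent.S10177.surjective_ofPt a has x'
  obtain ⟨q, hq1, hq2⟩ := hdec
  rw [← hx] at hq1
  obtain ⟨u, huu', hu⟩ := Groth.Agent.Lib.Helper12.QcPoint.exists_generization x' x hspec q hq1 hq2
    a hae u' hu'
  -- the chart as a scheme over `Spec A`
  obtain ⟨g₀, hg₀⟩ := (AlgSp.yon S).map_surjective (a ≫ π)
  have hg₀u' : g₀.left u' = closedPoint sq.A := by
    apply (AlgSp.Points.schemeHomeo sq.ptA).injective
    rw [← hx's, ← hu', AlgSp.Points.map_ofPt, ← hg₀, Groth.Agent.S10288.ofPt_yon_map]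
  -- the fibre product of the chart with the `K`-point
  obtain ⟨P, pr₂, pr₁', sqP⟩ := hae.1 σ
  obtain ⟨pr₁, rfl⟩ := (AlgSp.yon S).map_surjective pr₁'
  obtain ⟨ρ, hρ1, hρ2⟩ := Groth.Agent.S10176.exists_point_of_isPullback_yon sqP u t₀
    (by rw [hu, hx])
  have hcompat : pr₁ ≫ g₀ = pr₂ ≫ sq.j := by
    apply (AlgSp.yon S).map_injective
    rw [Functor.map_comp, Functor.map_comp, hg₀, ← hσ2, ← Category.assoc, ← Category.assoc, sqP.w]
  -- the valuation ring
  have hsp' : pr₁.left ρ ⤳ u' := by rw [hρ1]; exact huu'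
  obtain ⟨R, i₂, hw, hi₂⟩ := Groth.Agent.S10288.exists_valuation_square pr₁.left ρ u' hsp'
  -- ring maps
  obtain ⟨φc, hφc⟩ := Spec.map_surjective (i₂ ≫ g₀.left)
  obtain ⟨ψc, hψc⟩ := Spec.map_surjective (P.left.fromSpecResidueField ρ ≫ pr₂.left)
  have hcomm : (algebraMap R (P.left.residueField ρ)).comp φc.hom =
      ψc.hom.comp (algebraMap sq.A sq.K) := by
    have h1 : Spec.map (CommRingCat.ofHom (algebraMap R (P.left.residueField ρ))) ≫ Spec.map φc =
        Spec.map ψc ≫ Spec.map (CommRingCat.ofHom (algebraMap sq.A sq.K)) := by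
      rw [hφc, hψc, ← Category.assoc, ← hw, Category.assoc, Category.assoc]
      congr 1
      exact congrArg CommaMorphism.left hcompat
    rw [← Spec.map_comp, ← Spec.map_comp] at h1
    have h2 := Spec.map_injective h1
    have h3 := congrArg CommRingCat.Hom.hom h2
    exact h3
  have hloc : IsLocalHom φc.hom := by
    refine ((IsLocalRing.local_hom_TFAE φc.hom).out 4 0).mp ?_
    have h1 : (Spec.map φc) (closedPoint R) = closedPoint sq.A := by
      rw [hφc, Scheme.Hom.comp_apply, hi₂, hg₀u']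
    have h2 := congrArg PrimeSpectrum.asIdeal h1
    exact h2
  -- the lift
  have hι₂ : i₂ ≫ U.hom = Spec.map (CommRingCat.ofHom φc.hom) ≫ sq.str := by
    have h1 : CommRingCat.ofHom φc.hom = φc := rfl
    rw [h1, hφc, Category.assoc]
    congr 1
    exact (Over.w g₀).symm
  let e' : sq.DomExt :=
    { A' := R
      K' := P.left.residueField ρ
      φ := φc.hom
      ψ := ψc.hom
      comm := hcomm
      isLocalHom := hloc }
  refine ⟨e', ?_⟩
  let ι₂ : e'.ptA' ⟶ U := Over.homMk i₂ hι₂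
  have hκ₀ : P.left.fromSpecResidueField ρ ≫ P.hom = e'.ptK'.hom := by
    change _ = Spec.map (CommRingCat.ofHom (algebraMap R (P.left.residueField ρ))) ≫
      Spec.map (CommRingCat.ofHom φc.hom) ≫ sq.str
    rw [← hι₂, ← Category.assoc, ← hw, Category.assoc]
    congr 1
    exact (Over.w pr₁).symm
  let κ₀ : e'.ptK' ⟶ P := Over.homMk (P.left.fromSpecResidueField ρ) hκ₀
  refine ⟨(AlgSp.yon S).map ι₂ ≫ a ≫ fst, ?_, ?_⟩
  · have h1 : (Over.homMk (Spec.map (CommRingCat.ofHom (algebraMap e'.A' e'.K'))) rfl :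
        e'.ptK' ⟶ e'.ptA') ≫ ι₂ = κ₀ ≫ pr₁ := Over.OverMorphism.ext hw.symm
    have h2 : κ₀ ≫ pr₂ = (Over.homMk (Spec.map (CommRingCat.ofHom e'.ψ)) (by
          change Spec.map _ ≫ Spec.map _ ≫ _ = Spec.map _ ≫ Spec.map _ ≫ _
          rw [← Spec.map_comp_assoc, ← Spec.map_comp_assoc, ← CommRingCat.ofHom_comp,
            ← CommRingCat.ofHom_comp, e'.comm]) : e'.ptK' ⟶ sq.ptK) :=
      Over.OverMorphism.ext hψc.symm
    rw [← Category.assoc, ← Functor.map_comp, h1, Functor.map_comp, Category.assoc,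
      ← Category.assoc ((AlgSp.yon S).map pr₁), sqP.w, Category.assoc, hσ1, ← Category.assoc,
      ← Functor.map_comp, h2]
  · have h1 : ι₂ ≫ g₀ = (Over.homMk (Spec.map (CommRingCat.ofHom e'.φ)) rfl : e'.ptA' ⟶ sq.ptA) :=
      Over.OverMorphism.ext hφc.symm
    rw [Category.assoc, Category.assoc, hpb.w, ← Category.assoc a, ← hg₀, ← Category.assoc,
      ← Functor.map_comp, h1]

/-- Core lemma: if `Z = F ×_G Spec A` is an algebraic space all of whose points have quasi-compact
field-valued representatives and `|Z| → |Spec A|` is closed, the square has a lift after a dominating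
extension. -/
theorem hasLiftExt_of_isClosedMap {F G : AlgSp.Sp S} (f : F ⟶ G) (sq : AlgSp.ValSq f)
    (Z : AlgSp.Sp S) (hZ : AlgSp.IsAlgSpace Z) (fst : Z ⟶ F)
    (π : Z ⟶ (AlgSp.yon S).obj sq.ptA) (hpb : IsPullback fst π f sq.bot)
    (hcl : IsClosedMap (AlgSp.Points.map π))
    (hdec : ∀ x : AlgSp.Points Z, ∃ q : AlgSp.FieldPt Z, AlgSp.Points.mk q = x ∧
      AlgSp.RepWith @QuasiCompact q.toHom) :
    sq.HasLiftExt :=
  hasLiftExt_of_isClosedMap_of_section f sq Z hZ fst π hpb hcl
    (hpb.lift sq.top ((AlgSp.yon S).map sq.j) sq.comm) (hpb.lift_fst _ _ _) (hpb.lift_snd _ _ _)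
    (hdec _)

end Groth.Agent.R2.H46.ExistVC
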