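import Mathlib
import Groth.Agent.R2.H46FinField

set_option autoImplicit false
set_option linter.style.haveILetI false
universe u
open CategoryTheory CategoryTheory.Limits AlgebraicGeometry

namespace Groth.Agent.R2.H46.FinField

lemma DegLE.discreteTopology {K : Type u} [Field K] {T : Scheme.{u}} {n : ℕ}
    {c : T ⟶ Spec (CommRingCat.of K)} (h : DegLE n c) : DiscreteTopology ↥T := by
  obtain ⟨A, _, _, e, -, hf, hn⟩ := h.exists_algebra
  haveI : IsArtinianRing A := IsArtinianRing.of_finite K A
  haveI : DiscreteTopology ↥(Spec (CommRingCat.of A)) :=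
    inferInstanceAs (DiscreteTopology (PrimeSpectrum A))
  exact (Scheme.homeoOfIso e).symm.discreteTopology

/-- the target of a surjective flat morphism from a finite discrete scheme is finite discrete. -/
lemma discreteTopology_of_surjective_flat {T T' : Scheme.{u}} (p : T' ⟶ T) [Surjective p] [Flat p]
    [Finite ↥T'] [DiscreteTopology ↥T'] : Finite ↥T ∧ DiscreteTopology ↥T := by
  haveI hfin : Finite ↥T := Finite.of_surjective p p.surjective
  refine ⟨hfin, ?_⟩
  haveI : T1Space ↥T := by
    rw [t1Space_iff_specializes_imp_eq]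
    intro x y hxy
    obtain ⟨y', rfl⟩ := p.surjective y
    obtain ⟨x', hx', rfl⟩ := (Flat.generalizingMap p) hxy
    have : x' = y' := (specializes_iff_eq.1 hx')
    rw [this]
  infer_instance

/-- a morphism between spectra of algebras over a field commuting with the structure maps comes from
an algebra homomorphism. -/
lemma exists_algHom_of_comm {K A A' : Type u} [Field K] [CommRing A] [CommRing A'] [Algebra K A]
    [Algebra K A'] (g : Spec (CommRingCat.of A') ⟶ Spec (CommRingCat.of A))
    (hg : g ≫ Spec.map (CommRingCat.ofHom (algebraMap K A)) =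
      Spec.map (CommRingCat.ofHom (algebraMap K A'))) :
    ∃ ψ : A →ₐ[K] A', Spec.map (CommRingCat.ofHom ψ.toRingHom) = g := by
  obtain ⟨φ, rfl⟩ := Spec.map_surjective g
  rw [← Spec.map_comp] at hg
  have h2 := Spec.map_injective hg
  refine ⟨{ φ.hom with commutes' := fun r => ?_ }, ?_⟩
  · have := congr(($h2).hom r)
    exact this
  · rfl

/-- the degree bound descends along a surjective flat morphism. -/
lemma DegLE.of_surjective_flat {K : Type u} [Field K] {T T' : Scheme.{u}} {n : ℕ} (p : T' ⟶ T)
    [Surjective p] [Flat p] (c : T ⟶ Spec (CommRingCat.of K)) (h : DegLE n (p ≫ c)) :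
    DegLE n c := by
  haveI := h.finite_univ
  haveI := h.discreteTopology
  obtain ⟨hfin, hdisc⟩ := discreteTopology_of_surjective_flat p
  haveI : IsAffine T := inferInstance
  obtain ⟨A, _, _, e, he⟩ := exists_algebra_of_isAffine c
  obtain ⟨A', _, _, e', he', hf', hn'⟩ := h.exists_algebra
  obtain ⟨ψ, hψ⟩ := exists_algHom_of_comm (K := K) (e'.inv ≫ p ≫ e.hom) (by
    rw [← he, ← he']; simp)
  have hff : ψ.toRingHom.FaithfullyFlat := by
    have := (flat_and_surjective_SpecMap_iff (CommRingCat.ofHom ψ.toRingHom)).1 (by
      rw [hψ]; exact ⟨inferInstance, inferInstance⟩)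
    exact this
  have hinj : Function.Injective ψ.toLinearMap := hff.injective
  haveI : Module.Finite K A := Module.Finite.of_injective ψ.toLinearMap hinj
  have hle : Module.finrank K A ≤ Module.finrank K A' :=
    LinearMap.finrank_le_finrank_of_injective (f := ψ.toLinearMap) hinj
  exact degLE_of_algebra c A e he (hle.trans hn')

end Groth.Agent.R2.H46.FinField
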