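import Mathlib
import Groth.Agent.R2.H46FinField2
import Groth.Agent.Lib.Helper12Descent

set_option autoImplicit false
set_option linter.style.haveILetI false
universe u
open CategoryTheory CategoryTheory.Limits AlgebraicGeometry

namespace Groth.Agent.R2.H46.FinField

instance surjective_of_field {K Ω : Type u} [Field K] [Field Ω]
    (b : Spec (CommRingCat.of Ω) ⟶ Spec (CommRingCat.of K)) : Surjective b := by
  refine ⟨fun y => ⟨IsLocalRing.closedPoint Ω, ?_⟩⟩
  exact (inferInstance : Subsingleton (PrimeSpectrum K)).elim _ _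

/-- the degree bound descends along a field extension. -/
lemma DegLE.of_isPullback_fieldExt {K Ω : Type u} [Field K] [Field Ω] {T P : Scheme.{u}} {n : ℕ}
    (b : Spec (CommRingCat.of Ω) ⟶ Spec (CommRingCat.of K)) (c : T ⟶ Spec (CommRingCat.of K))
    (fst : P ⟶ Spec (CommRingCat.of Ω)) (snd : P ⟶ T)
    (sq : IsPullback fst snd b c) (h : DegLE n fst) : DegLE n c := by
  haveI := Groth.Agent.Lib.Helper12.descendsAlong_isFinite.{u}
  have hb : (@Surjective ⊓ @Flat ⊓ @QuasiCompact : MorphismProperty Scheme.{u}) b :=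
    ⟨⟨inferInstance, inferInstance⟩, inferInstance⟩
  have hc : IsFinite c := MorphismProperty.of_isPullback_of_descendsAlong sq hb h.1
  refine ⟨hc, fun s => ?_⟩
  have h1 := Scheme.Hom.finrank_of_isPullback snd fst c b sq.flip (IsLocalRing.closedPoint Ω)
  have h2 : b (IsLocalRing.closedPoint Ω) = s :=
    (inferInstance : Subsingleton (PrimeSpectrum K)).elim _ _
  rw [h2] at h1
  rw [← h1]
  exact h.2 _

/-- the degree bound ascends along a field extension. -/
lemma DegLE.baseChange_fieldExt {K Ω : Type u} [Field K] [Field Ω] {T P : Scheme.{u}} {n : ℕ}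
    (b : Spec (CommRingCat.of Ω) ⟶ Spec (CommRingCat.of K)) (c : T ⟶ Spec (CommRingCat.of K))
    (fst : P ⟶ Spec (CommRingCat.of Ω)) (snd : P ⟶ T)
    (sq : IsPullback fst snd b c) (h : DegLE n c) : DegLE n fst := by
  haveI := h.1
  have hc : IsFinite fst := MorphismProperty.of_isPullback (P := @IsFinite) sq.flip h.1
  refine ⟨hc, fun s => ?_⟩
  rw [Scheme.Hom.finrank_of_isPullback snd fst c b sq.flip s]
  exact h.2 _

lemma degLE_of_isEmpty {K : Type u} [Field K] {T : Scheme.{u}} (c : T ⟶ Spec (CommRingCat.of K))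
    [IsEmpty ↥T] (n : ℕ) : DegLE n c := by
  haveI : IsAffine T := isAffine_of_isEmpty
  obtain ⟨A, _, _, e, he⟩ := exists_algebra_of_isAffine c
  haveI : IsEmpty (PrimeSpectrum A) := (Scheme.homeoOfIso e).symm.isEmpty
  haveI : Subsingleton A := not_nontrivial_iff_subsingleton.1 fun h =>
    (PrimeSpectrum.nonempty_iff_nontrivial.2 h).elim fun x => IsEmpty.false x
  haveI : Module.Finite K A := inferInstance
  refine degLE_of_algebra c A e he ?_
  rw [Module.finrank_zero_of_subsingleton]
  exact Nat.zero_le _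

variable {S : Scheme.{u}}

/-- the morphism of a restricted field point. -/
lemma toHom_restrict {F : AlgSp.Sp S} (p : AlgSp.FieldPt F) {Ω : Type u} [Field Ω]
    (w : Spec (CommRingCat.of Ω) ⟶ S) (a : Over.mk w ⟶ p.pt) :
    (⟨Ω, w, F.obj.map a.op p.val⟩ : AlgSp.FieldPt F).toHom = (AlgSp.yon S).map a ≫ p.toHom :=
  ((AlgSp.J S).uliftYonedaEquiv_symm_naturality_left a F p.val).symm

end Groth.Agent.R2.H46.FinField
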