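import Mathlib
import Groth.Agent.R2.H46FinField3

set_option autoImplicit false
set_option linter.style.haveILetI false
universe u
open CategoryTheory CategoryTheory.Limits AlgebraicGeometry TensorProduct

namespace Groth.Agent.R2.H46.FinField


section Nakayama

variable {R M : Type*} [CommRing R] [AddCommGroup M] [Module R M]

lemma sup_mul_smul_top (N : Submodule R M) (I I' : Ideal R)
    (h : N ⊔ I • (⊤ : Submodule R M) = ⊤) (h' : N ⊔ I' • (⊤ : Submodule R M) = ⊤) :
    N ⊔ (I * I') • (⊤ : Submodule R M) = ⊤ := by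
  rw [eq_top_iff]
  calc (⊤ : Submodule R M) = N ⊔ I • (⊤ : Submodule R M) := h.symm
    _ = N ⊔ I • (N ⊔ I' • (⊤ : Submodule R M)) := by rw [h']
    _ = N ⊔ (I • N ⊔ I • I' • (⊤ : Submodule R M)) := by rw [Submodule.smul_sup]
    _ ≤ N ⊔ (I * I') • (⊤ : Submodule R M) := by
        rw [← Submodule.mul_smul]
        exact sup_le le_sup_left (sup_le (Submodule.smul_le_right.trans le_sup_left) le_sup_right)

lemma sup_prod_smul_top {ι : Type*} (N : Submodule R M) (s : Finset ι) (f : ι → Ideal R)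
    (h : ∀ i ∈ s, N ⊔ f i • (⊤ : Submodule R M) = ⊤) :
    N ⊔ (∏ i ∈ s, f i) • (⊤ : Submodule R M) = ⊤ := by
  classical
  induction s using Finset.induction_on with
  | empty => simp
  | insert a s ha ih =>
    rw [Finset.prod_insert ha]
    exact sup_mul_smul_top N _ _ (h a (Finset.mem_insert_self a s))
      (ih fun i hi => h i (Finset.mem_insert_of_mem hi))

lemma eq_top_of_forall_maximal [IsArtinianRing R] (N : Submodule R M)
    (h : ∀ 𝔪 : MaximalSpectrum R, N ⊔ 𝔪.asIdeal • (⊤ : Submodule R M) = ⊤) : N = ⊤ := by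
  classical
  haveI : Fintype (MaximalSpectrum R) := Fintype.ofFinite _
  have h1 := sup_prod_smul_top N (Finset.univ : Finset (MaximalSpectrum R))
    (fun 𝔪 => 𝔪.asIdeal) (fun i _ => h i)
  obtain ⟨k, hk⟩ := IsArtinianRing.isNilpotent_nilradical (R := R)
  have h2 := sup_prod_smul_top N (Finset.range k)
    (fun _ => ∏ 𝔪 : MaximalSpectrum R, 𝔪.asIdeal) (fun i _ => h1)
  rw [Finset.prod_const, Finset.card_range] at h2
  have h3 : (∏ 𝔪 : MaximalSpectrum R, 𝔪.asIdeal) ^ k = ⊥ := by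
    rw [eq_bot_iff, ← Ideal.zero_eq_bot, ← hk]
    refine Ideal.pow_right_mono ?_ k
    rw [IsArtinianRing.nilradical_eq_iInf]
    exact Ideal.prod_le_inf.trans (by simp [Finset.inf_eq_iInf])
  rwa [h3, Submodule.bot_smul, sup_bot_eq] at h2

end Nakayama




lemma span_eq_top_of_fibres {A B : Type u} [CommRing A] [AddCommGroup B] [Module A B]
    [IsArtinianRing A]
    (d : MaximalSpectrum A → ℕ) (w : ∀ 𝔪 : MaximalSpectrum A, Fin (d 𝔪) → B)
    (hw : ∀ 𝔪 : MaximalSpectrum A,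
      Submodule.span A (Set.range (w 𝔪)) ⊔ 𝔪.asIdeal • (⊤ : Submodule A B) = ⊤) :
    Submodule.span A
      (Set.range (fun i : (Σ 𝔪 : MaximalSpectrum A, Fin (d 𝔪)) => w i.1 i.2)) = ⊤ := by
  refine eq_top_of_forall_maximal (R := A) (M := B) _ fun 𝔪 => ?_
  rw [eq_top_iff]
  calc (⊤ : Submodule A B)
      = Submodule.span A (Set.range (w 𝔪)) ⊔ 𝔪.asIdeal • (⊤ : Submodule A B) := (hw 𝔪).symm
    _ ≤ _ := by
      refine sup_le_sup_right (Submodule.span_mono ?_) _
      rintro _ ⟨i, rfl⟩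
      exact ⟨⟨𝔪, i⟩, rfl⟩

lemma finite_of_fibres {K A B : Type u} [Field K] [CommRing A] [CommRing B] [Algebra K A]
    [Algebra A B] [Algebra K B] [IsScalarTower K A B] [Module.Finite K A] (m : ℕ)
    (h : ∀ 𝔪 : MaximalSpectrum A, ∃ (d : ℕ) (w : Fin d → B), d ≤ m ∧
      Submodule.span A (Set.range w) ⊔ 𝔪.asIdeal • (⊤ : Submodule A B) = ⊤) :
    Module.Finite K B ∧ Module.finrank K B ≤ Module.finrank K A * m * Module.finrank K A := by
  haveI : IsArtinianRing A := IsArtinianRing.of_finite K A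
  haveI : Fintype (MaximalSpectrum A) := Fintype.ofFinite _
  choose d w hd hw using h
  have hN := span_eq_top_of_fibres d w hw
  let f : ((Σ 𝔪 : MaximalSpectrum A, Fin (d 𝔪)) → A) →ₗ[A] B :=
    Fintype.linearCombination A (fun i : (Σ 𝔪 : MaximalSpectrum A, Fin (d 𝔪)) => w i.1 i.2)
  have hf : Function.Surjective f := by
    rw [← LinearMap.range_eq_top, Fintype.range_linearCombination, hN]
  let fK : ((Σ 𝔪 : MaximalSpectrum A, Fin (d 𝔪)) → A) →ₗ[K] B := f.restrictScalars K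
  have hfK : Function.Surjective fK := hf
  haveI : Module.Finite K B := Module.Finite.of_surjective fK hfK
  refine ⟨inferInstance, ?_⟩
  have hcardM : Fintype.card (MaximalSpectrum A) ≤ Module.finrank K A := by
    have := natCard_primeSpectrum_le_finrank K A
    rwa [Nat.card_congr IsArtinianRing.primeSpectrumEquivMaximalSpectrum,
      Nat.card_eq_fintype_card] at this
  have hcard : Fintype.card (Σ 𝔪 : MaximalSpectrum A, Fin (d 𝔪)) ≤ Module.finrank K A * m := by
    rw [Fintype.card_sigma]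
    calc ∑ 𝔪 : MaximalSpectrum A, Fintype.card (Fin (d 𝔪))
        ≤ ∑ _𝔪 : MaximalSpectrum A, m := Finset.sum_le_sum fun i _ => by simpa using hd i
      _ = Fintype.card (MaximalSpectrum A) * m := by simp
      _ ≤ _ := Nat.mul_le_mul_right _ hcardM
  calc Module.finrank K B ≤ Module.finrank K ((Σ 𝔪 : MaximalSpectrum A, Fin (d 𝔪)) → A) :=
        LinearMap.finrank_le_finrank_of_surjective hfK
    _ = Fintype.card (Σ 𝔪 : MaximalSpectrum A, Fin (d 𝔪)) * Module.finrank K A := by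
        rw [Module.finrank_pi_fintype]; simp
    _ ≤ _ := Nat.mul_le_mul_right _ hcard



lemma exists_span_of_tensor {A B : Type u} [CommRing A] [CommRing B] [Algebra A B] (𝔪 : Ideal A)
    [𝔪.IsMaximal] (m : ℕ)
    (hfin : Module.Finite (A ⧸ 𝔪) ((A ⧸ 𝔪) ⊗[A] B))
    (hrank : Module.finrank (A ⧸ 𝔪) ((A ⧸ 𝔪) ⊗[A] B) ≤ m) :
    ∃ (d : ℕ) (w : Fin d → B), d ≤ m ∧
      Submodule.span A (Set.range w) ⊔ 𝔪 • (⊤ : Submodule A B) = ⊤ := by
  letI := Ideal.Quotient.field 𝔪
  let b := Module.finBasis (A ⧸ 𝔪) ((A ⧸ 𝔪) ⊗[A] B)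
  have hspanA : Submodule.span A (Set.range b) = ⊤ := by
    rw [← Submodule.restrictScalars_span A (A ⧸ 𝔪) Ideal.Quotient.mk_surjective, b.span_eq]
    simp
  let e : ((A ⧸ 𝔪) ⊗[A] B) ≃ₗ[A] B ⧸ (𝔪 • ⊤ : Submodule A B) := quotTensorEquivQuotSMul B 𝔪
  have hw : ∀ i, ∃ x : B, (𝔪 • ⊤ : Submodule A B).mkQ x = e (b i) := fun i =>
    Submodule.mkQ_surjective _ _
  choose w hw using hw
  refine ⟨_, w, hrank, ?_⟩
  rw [sup_comm, ← Submodule.map_mkQ_eq_top, Submodule.map_span, ← Set.range_comp]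
  have : (⇑(𝔪 • ⊤ : Submodule A B).mkQ ∘ w) = e ∘ b := funext hw
  rw [this, Set.range_comp]
  have h2 := Submodule.map_span (e : ((A ⧸ 𝔪) ⊗[A] B) →ₗ[A] B ⧸ (𝔪 • ⊤ : Submodule A B))
    (Set.range b)
  rw [hspanA, Submodule.map_top, LinearMap.range_eq_top.2 e.surjective] at h2
  exact h2.symm



/-- a scheme with finite discrete fibres over a finite discrete scheme is finite discrete. -/
lemma finite_discrete_of_fibres {T T' : Scheme.{u}} {m : ℕ} (l : T ⟶ T') [Finite ↥T']
    [DiscreteTopology ↥T']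
    (hl : ∀ (L : Type u) [Field L] (x : Spec (CommRingCat.of L) ⟶ T') (P : Scheme.{u})
        (fst : P ⟶ T) (snd : P ⟶ Spec (CommRingCat.of L)), IsPullback fst snd l x → DegLE m snd) :
    Finite ↥T ∧ DiscreteTopology ↥T := by
  have hfib : ∀ t' : ↥T', Finite (l ⁻¹' {t'}) ∧ DiscreteTopology (l ⁻¹' {t'}) := by
    intro t'
    have hd : DegLE m (l.fiberToSpecResidueField t') :=
      hl (T'.residueField t') (T'.fromSpecResidueField t') (l.fiber t') (l.fiberι t')
        (l.fiberToSpecResidueField t') (IsPullback.of_hasPullback _ _)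
    haveI := hd.finite_univ
    haveI := hd.discreteTopology
    exact ⟨Finite.of_equiv _ (l.fiberHomeo t').toEquiv, (l.fiberHomeo t').discreteTopology⟩
  have hfin : Finite ↥T := by
    have : (Set.univ : Set ↥T) = ⋃ t' : ↥T', l ⁻¹' {t'} := by ext; simp
    rw [← Set.finite_univ_iff, this]
    exact Set.finite_iUnion fun t' => (hfib t').1
  refine ⟨hfin, ?_⟩
  rw [discreteTopology_iff_isOpen_singleton]
  intro t
  have hopen : IsOpen (l ⁻¹' {l t}) := (isOpen_discrete _).preimage l.continuous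
  haveI := (hfib (l t)).2
  have h1 : IsOpen ({⟨t, rfl⟩} : Set (l ⁻¹' {l t})) := isOpen_discrete _
  have h2 := hopen.isOpenMap_subtype_val _ h1
  simpa using h2






/-- the degree of a composite `T ⟶ T' ⟶ Spec K`, when `T'` has degree at most `n` and all
fibres of `T ⟶ T'` over field points have degree at most `m`. -/
lemma DegLE.comp_of_fibres {K : Type u} [Field K] {T T' : Scheme.{u}} {n m : ℕ}
    (l : T ⟶ T') (c' : T' ⟶ Spec (CommRingCat.of K)) (h' : DegLE n c')
    (hl : ∀ (L : Type u) [Field L] (x : Spec (CommRingCat.of L) ⟶ T') (P : Scheme.{u})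
        (fst : P ⟶ T) (snd : P ⟶ Spec (CommRingCat.of L)), IsPullback fst snd l x → DegLE m snd) :
    DegLE (n * m * n) (l ≫ c') := by
  haveI := h'.finite_univ
  haveI := h'.discreteTopology
  obtain ⟨hfin, hdisc⟩ := finite_discrete_of_fibres l hl
  haveI : IsAffine T := inferInstance
  obtain ⟨A, _, _, e', he', hfA, hnA⟩ := h'.exists_algebra
  obtain ⟨B, _, _, e, he⟩ := exists_algebra_of_isAffine (l ≫ c')
  obtain ⟨ψ, hψ⟩ := exists_algHom_of_comm (K := K) (e.inv ≫ l ≫ e'.hom) (by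
    rw [← he, ← he']; simp)
  letI : Algebra A B := ψ.toRingHom.toAlgebra
  haveI : IsScalarTower K A B := IsScalarTower.of_algebraMap_eq fun r => (ψ.commutes r).symm
  have key : ∀ 𝔪 : MaximalSpectrum A, ∃ (d : ℕ) (w : Fin d → B), d ≤ m ∧
      Submodule.span A (Set.range w) ⊔ 𝔪.asIdeal • (⊤ : Submodule A B) = ⊤ := by
    intro 𝔪
    letI : Field (A ⧸ 𝔪.asIdeal) := Ideal.Quotient.field 𝔪.asIdeal
    have sq0 := isPullback_SpecMap_of_isPushout _ _ _ _
      (CommRingCat.isPushout_tensorProduct A (A ⧸ 𝔪.asIdeal) B)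
    have sq1 : IsPullback
        (Spec.map (CommRingCat.ofHom (S := (A ⧸ 𝔪.asIdeal) ⊗[A] B)
          Algebra.TensorProduct.includeRight.toRingHom) ≫ e.inv)
        (Spec.map (CommRingCat.ofHom (S := (A ⧸ 𝔪.asIdeal) ⊗[A] B)
          Algebra.TensorProduct.includeLeftRingHom))
        l (Spec.map (CommRingCat.ofHom (algebraMap A (A ⧸ 𝔪.asIdeal))) ≫ e'.inv) := by
      refine IsPullback.of_iso sq0.flip (Iso.refl _) e.symm (Iso.refl _) e'.symm ?_ ?_ ?_ ?_
      · simp
      · simp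
      · have : Spec.map (CommRingCat.ofHom (algebraMap A B)) = e.inv ≫ l ≫ e'.hom := hψ
        rw [this]; simp
      · simp
    have hd := hl (A ⧸ 𝔪.asIdeal) _ _ _ _ sq1
    have hd' : DegLE m (Spec.map (CommRingCat.ofHom
        (algebraMap (A ⧸ 𝔪.asIdeal) ((A ⧸ 𝔪.asIdeal) ⊗[A] B)))) := hd
    rw [degLE_SpecMap_iff] at hd'
    exact exists_span_of_tensor 𝔪.asIdeal m hd'.1 hd'.2
  obtain ⟨hfB, hnB⟩ := finite_of_fibres (K := K) m key
  refine degLE_of_algebra (l ≫ c') B e he (hnB.trans ?_)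
  exact Nat.mul_le_mul (Nat.mul_le_mul_right _ hnA) hnA

end Groth.Agent.R2.H46.FinField
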