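import Mathlib
import Groth.Agent.R2.H46FinField4

set_option autoImplicit false
set_option linter.style.haveILetI false
universe u
open CategoryTheory CategoryTheory.Limits AlgebraicGeometry TensorProduct

namespace Groth.Agent.R2.H46.FinField


lemma DegLE.mono {K : Type u} [Field K] {T : Scheme.{u}} {n n' : ℕ}
    {c : T ⟶ Spec (CommRingCat.of K)} (h : DegLE n c) (hn : n ≤ n') : DegLE n' c :=
  ⟨h.1, fun s => (h.2 s).trans hn⟩

/-- a finite coproduct of schemes of bounded degree over a field has bounded degree. -/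
lemma degLE_sigmaDesc {K : Type u} [Field K] {ι : Type u} [Fintype ι] (T : ι → Scheme.{u})
    (d : ∀ j, T j ⟶ Spec (CommRingCat.of K)) (N : ι → ℕ) (h : ∀ j, DegLE (N j) (d j)) :
    DegLE (∑ j, N j) (Sigma.desc d) := by
  choose A instCR instAlg e he hfin hrank using fun j => (h j).exists_algebra
  letI := instCR
  letI := instAlg
  let R : ι → CommRingCat.{u} := fun j => CommRingCat.of (A j)
  let E : (∐ T) ≅ Spec (CommRingCat.of (Π j, A j)) :=
    Sigma.mapIso e ≪≫ asIso (sigmaSpec R)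
  haveI : Module.Finite K (Π j, A j) := inferInstance
  refine degLE_of_algebra (Sigma.desc d) (Π j, A j) E ?_ ?_
  · rw [Iso.inv_comp_eq]
    refine Sigma.hom_ext _ _ fun j => ?_
    have h1 : d j = (e j).hom ≫ Spec.map (CommRingCat.ofHom (algebraMap K (A j))) := by
      rw [← he j, Iso.hom_inv_id_assoc]
    have h2 : Sigma.ι T j ≫ E.hom = (e j).hom ≫
        Spec.map (CommRingCat.ofHom (Pi.evalRingHom (fun j => A j) j)) := by
      simp only [E, Iso.trans_hom, asIso_hom]
      rw [Sigma.ι_mapIso_hom_assoc]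
      erw [ι_sigmaSpec R j]
    rw [Sigma.ι_desc, reassoc_of% h2, h1, ← Spec.map_comp]
    rfl
  · rw [Module.finrank_pi_fintype]
    exact Finset.sum_le_sum fun j _ => hrank j





/-- the degree bound for a scheme covered by finitely many flat maps from schemes of bounded
degree. -/
lemma DegLE.of_jointly_surjective_flat {K : Type u} [Field K] {ι : Type u} [Fintype ι]
    {T : Scheme.{u}} (T' : ι → Scheme.{u}) (p : ∀ j, T' j ⟶ T) [∀ j, Flat (p j)]
    (hsurj : ∀ t : ↥T, ∃ (j : ι) (t' : ↥(T' j)), p j t' = t)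
    (c : T ⟶ Spec (CommRingCat.of K)) (N : ι → ℕ) (h : ∀ j, DegLE (N j) (p j ≫ c)) :
    DegLE (∑ j, N j) c := by
  haveI : Flat (Sigma.desc p) := inferInstance
  haveI : Surjective (Sigma.desc p) := ⟨fun t => by
    obtain ⟨j, t', rfl⟩ := hsurj t
    exact ⟨Sigma.ι T' j t', by rw [← Scheme.Hom.comp_apply, Sigma.ι_desc]⟩⟩
  refine DegLE.of_surjective_flat (Sigma.desc p) c ?_
  have : Sigma.desc p ≫ c = Sigma.desc (fun j => p j ≫ c) := by
    refine Sigma.hom_ext _ _ fun j => ?_
    rw [Sigma.ι_desc_assoc, Sigma.ι_desc]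
  rw [this]
  exact degLE_sigmaDesc _ _ N h

/-- all fibres of `f` over field-valued points are finite of degree at most `n`. -/
def FibDegLE (n : ℕ) {W Y : Scheme.{u}} (f : W ⟶ Y) : Prop :=
  ∀ (L : Type u) [Field L] (x : Spec (CommRingCat.of L) ⟶ Y) (P : Scheme.{u})
    (fst : P ⟶ W) (snd : P ⟶ Spec (CommRingCat.of L)), IsPullback fst snd f x → DegLE n snd

lemma FibDegLE.mono {n n' : ℕ} {W Y : Scheme.{u}} {f : W ⟶ Y} (h : FibDegLE n f) (hn : n ≤ n') :
    FibDegLE n' f := fun L _ x P fst snd sq => (h L x P fst snd sq).mono hn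

lemma FibDegLE.of_isPullback {n : ℕ} {W Y W' Y' : Scheme.{u}} {f : W ⟶ Y} {f' : W' ⟶ Y'}
    {g' : W' ⟶ W} {g : Y' ⟶ Y} (sq : IsPullback g' f' f g) (h : FibDegLE n f) :
    FibDegLE n f' := fun L _ x P fst snd sq' =>
  h L (x ≫ g) P (fst ≫ g') snd (sq'.paste_horiz sq)

lemma FibDegLE.comp {n m : ℕ} {W Y Z : Scheme.{u}} {f : W ⟶ Y} {g : Y ⟶ Z}
    (hf : FibDegLE m f) (hg : FibDegLE n g) : FibDegLE (n * m * n) (f ≫ g) := by
  intro L _ x P fst snd sq
  have sq' := IsPullback.of_hasPullback g x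
  have hdeg' : DegLE n (pullback.snd g x) := hg L x _ _ _ sq'
  have hcomm : (fst ≫ f) ≫ g = snd ≫ x := by rw [Category.assoc]; exact sq.w
  have h1 : sq'.lift (fst ≫ f) snd hcomm ≫ pullback.fst g x = fst ≫ f := sq'.lift_fst _ _ _
  have h2 : sq'.lift (fst ≫ f) snd hcomm ≫ pullback.snd g x = snd := sq'.lift_snd _ _ _
  have top : IsPullback fst (sq'.lift (fst ≫ f) snd hcomm) f (pullback.fst g x) :=
    IsPullback.of_bot (by rw [h2]; exact sq) h1.symm sq'
  have := DegLE.comp_of_fibres (sq'.lift (fst ≫ f) snd hcomm) (pullback.snd g x) hdeg'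
    (hf.of_isPullback top)
  rwa [h2] at this

lemma fibDegLE_of_isOpenImmersion {W Y : Scheme.{u}} (f : W ⟶ Y) [IsOpenImmersion f] :
    FibDegLE 1 f := by
  intro L _ x P fst snd sq
  haveI : IsOpenImmersion snd := MorphismProperty.of_isPullback (P := @IsOpenImmersion) sq
    inferInstance
  by_cases hP : IsEmpty ↥P
  · exact degLE_of_isEmpty snd 1
  rw [not_isEmpty_iff] at hP
  haveI : Surjective snd := ⟨fun y => by
    obtain ⟨p⟩ := hP
    exact ⟨p, (inferInstance : Subsingleton (PrimeSpectrum L)).elim _ _⟩⟩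
  haveI : IsIso snd := (isIso_iff_isOpenImmersion_and_surjective snd).2
    ⟨inferInstance, inferInstance⟩
  have := (degLE_iso_comp 1 snd (𝟙 _)).2 (by
    have h0 : 𝟙 (Spec (CommRingCat.of L)) = Spec.map (CommRingCat.ofHom (algebraMap L L)) := by
      rw [Algebra.algebraMap_self]; exact (Spec.map_id _).symm
    rw [h0, degLE_SpecMap_iff]
    exact ⟨inferInstance, by simp⟩)
  rwa [Category.comp_id] at this

/-- a morphism has bounded fibres if it is covered by finitely many flat maps whose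
composites with it have bounded fibres. -/
lemma FibDegLE.of_family {ι : Type u} [Fintype ι] {W Y : Scheme.{u}} (f : W ⟶ Y)
    (D : ι → Scheme.{u}) (a : ∀ j, D j ⟶ W) [∀ j, Flat (a j)]
    (hsurj : ∀ w : ↥W, ∃ (j : ι) (d : ↥(D j)), a j d = w) (N : ι → ℕ)
    (h : ∀ j, FibDegLE (N j) (a j ≫ f)) : FibDegLE (∑ j, N j) f := by
  intro L _ x P fst snd sq
  refine DegLE.of_jointly_surjective_flat (fun j => pullback fst (a j))
    (fun j => pullback.fst fst (a j)) ?_ snd N ?_
  · intro t
    obtain ⟨j, d, hd⟩ := hsurj (fst t)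
    obtain ⟨z, hz, -⟩ := Scheme.exists_preimage_of_isPullback
      (IsPullback.of_hasPullback fst (a j)) t d hd.symm
    exact ⟨j, z, hz⟩
  · intro j
    exact h j L x _ (pullback.snd fst (a j)) _
      ((IsPullback.of_hasPullback fst (a j)).flip.paste_vert sq)

end Groth.Agent.R2.H46.FinField
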