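import Mathlib
import Groth.Prelude.Def_AlgSpDec
import Groth.Agent.R2.H46LftField
import Groth.Agent.R2.H46FiniteSpec
import Groth.Agent.R2.H45HasAtMor
import Groth.Agent.R2.H45RelDim
import Groth.Agent.Lib.Helper12LocPCases
import Groth.Agent.S10338
import Groth.Agent.S10390
import Groth.Agent.S5341
import Groth.Agent.S9874
import Groth.Agent.S10175
import Groth.Agent.Lib.Helper7TopDim

/-!
# Points of fibres of morphisms locally of finite type (helper46)

Sheaf-level versions of the "locally of finite type over a field" point lemmas, phrased for any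
algebraic space all of whose etale charts are Jacobson and locally Noetherian, and the comparison
of the fibre `|X_k|` with the topological fibre `|f|⁻¹(y)`.
-/

set_option autoImplicit false
set_option linter.style.haveILetI false
universe u
open CategoryTheory CategoryTheory.Limits AlgebraicGeometry Topology TopologicalSpace

namespace Groth.Agent.R2.H46.FibrePt

open Groth.Agent.R2.H46.LftField

variable {S : Scheme.{u}}

/-- every etale chart of `X` is Jacobson and locally Noetherian. -/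
def ChartsJN (X : AlgSp.Sp S) : Prop :=
  ∀ (U : Over S) (a : (AlgSp.yon S).obj U ⟶ X), AlgSp.RepWith @Etale a →
    JacobsonSpace ↥U.left ∧ IsLocallyNoetherian U.left

/-- a sheaf locally of finite type over a Jacobson locally Noetherian scheme has Jacobson locally
Noetherian charts. -/
theorem chartsJN_of_locP {X : AlgSp.Sp S} {T : Over S} [JacobsonSpace ↥T.left]
    [IsLocallyNoetherian T.left] (q : X ⟶ (AlgSp.yon S).obj T)
    (hq : AlgSp.LocP @LocallyOfFiniteType q) : ChartsJN X := by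
  intro U a ha
  obtain ⟨φ, hφ⟩ := (AlgSp.yon S).map_surjective (a ≫ q)
  have comm : a ≫ q = (AlgSp.yon S).map φ ≫ 𝟙 _ := by
    rw [hφ, Category.comp_id]
  haveI : LocallyOfFiniteType φ.left := hq a (𝟙 _) φ ha (AlgSp.repWith_id _ _) comm
  exact ⟨LocallyOfFiniteType.jacobsonSpace φ.left, LocallyOfFiniteType.isLocallyNoetherian φ.left⟩

section General

variable {X : AlgSp.Sp S}

/-- locally closed without proper generizations implies open. -/
theorem isOpen_of_isLocallyClosed (hX : AlgSp.IsAlgSpace X) (hch : ChartsJN X)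
    (x : AlgSp.Points X) (hlc : IsLocallyClosed ({x} : Set (AlgSp.Points X)))
    (hg : ∀ x' : AlgSp.Points X, x' ⤳ x → x' = x) : IsOpen ({x} : Set (AlgSp.Points X)) := by
  obtain ⟨U, a, hae, has⟩ := hX.atlas
  obtain ⟨u, hu⟩ := Groth.Agent.S10177.surjective_ofPt a has x
  haveI := (hch U a hae).1
  haveI := (hch U a hae).2
  subst hu
  have h1 := isOpen_singleton_of_isLocallyClosed a hae u hlc hg
  have h2 := Groth.Agent.S10176.isOpenMap_ofPt a hae _ h1
  rwa [Set.image_singleton] at h2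

/-- open points are closed. -/
theorem isClosed_of_isOpen (hX : AlgSp.IsAlgSpace X) (hch : ChartsJN X)
    (x : AlgSp.Points X) (h : IsOpen ({x} : Set (AlgSp.Points X))) :
    IsClosed ({x} : Set (AlgSp.Points X)) := by
  obtain ⟨U, a, hae, has⟩ := hX.atlas
  haveI := (hch U a hae).1
  haveI := (hch U a hae).2
  exact isClosed_singleton_of_isOpen a hae has x h

theorem isOpen_iff_isClosed_and (hX : AlgSp.IsAlgSpace X) (hch : ChartsJN X)
    (x : AlgSp.Points X) :
    IsOpen ({x} : Set (AlgSp.Points X)) ↔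
      (IsClosed ({x} : Set (AlgSp.Points X)) ∧ ∀ x' : AlgSp.Points X, x' ⤳ x → x' = x) :=
  ⟨fun h => ⟨isClosed_of_isOpen hX hch x h, fun _ hx' => hx'.mem_open h rfl⟩,
    fun h => isOpen_of_isLocallyClosed hX hch x h.1.isLocallyClosed h.2⟩

theorem isOpen_iff_hasAt (hX : AlgSp.IsAlgSpace X) (hch : ChartsJN X)
    (x : AlgSp.Points X) :
    IsOpen ({x} : Set (AlgSp.Points X)) ↔
      AlgSp.HasAt (fun U u => FlatMor.localDim ↥U u = 0) X x := by
  constructor
  · intro h
    obtain ⟨U, a, hae, has⟩ := hX.atlas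
    obtain ⟨u, hu⟩ := Groth.Agent.S10177.surjective_ofPt a has x
    haveI := (hch U a hae).1
    haveI := (hch U a hae).2
    refine ⟨U, a, u, hae, hu, localDim_eq_zero_of_isOpen_singleton u ?_⟩
    exact isOpen_singleton_chart_of_isOpen a hae u (by rw [hu]; exact h)
  · rintro ⟨U', a', u', ha', hu', hdim⟩
    haveI := (hch U' a' ha').1
    haveI := (hch U' a' ha').2
    obtain ⟨V, hu'V, hV⟩ := exists_open_of_localDim_eq_zero u' hdim
    obtain ⟨hc, hg⟩ := forall_eq_of_krullDim_le_zero u' V hu'V hV.le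
    have h1 := isOpen_singleton_of_isLocallyNoetherian U'.left V V.2 u' hu'V hc hg
    have h2 := Groth.Agent.S10176.isOpenMap_ofPt a' ha' _ h1
    rwa [Set.image_singleton, hu'] at h2

theorem localDim_eq_zero_iff_isOpen (hX : AlgSp.IsAlgSpace X) (hch : ChartsJN X)
    [T0Space (AlgSp.Points X)] (x : AlgSp.Points X) :
    FlatMor.localDim (AlgSp.Points X) x = 0 ↔ IsOpen ({x} : Set (AlgSp.Points X)) := by
  refine ⟨fun hdim => ?_, fun h => localDim_eq_zero_of_isOpen_singleton x h⟩
  obtain ⟨V, hxV, hV⟩ := exists_open_of_localDim_eq_zero x hdim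
  obtain ⟨hc, hg⟩ := forall_eq_of_krullDim_le_zero x V hxV hV.le
  exact isOpen_of_isLocallyClosed hX hch x (isLocallyClosed_singleton_of_forall x V hxV hc) hg

/-- a nonempty discrete space has dimension zero. -/
theorem topologicalKrullDim_eq_zero_of_discrete (W : Type*) [TopologicalSpace W] [Nonempty W]
    [DiscreteTopology W] : topologicalKrullDim W = 0 := by
  apply le_antisymm (topologicalKrullDim_zero_of_discreteTopology _)
  obtain ⟨x⟩ := (inferInstance : Nonempty W)
  haveI : Nonempty (IrreducibleCloseds W) :=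
    ⟨⟨closure {x}, isIrreducible_singleton.closure, isClosed_closure⟩⟩
  exact Order.krullDim_nonneg

theorem discreteTopology_iff_dim (hX : AlgSp.IsAlgSpace X) (hch : ChartsJN X)
    [Nonempty (AlgSp.Points X)] :
    DiscreteTopology (AlgSp.Points X) ↔ AlgSp.dim X = 0 := by
  obtain ⟨U, a, hae, has⟩ := hX.atlas
  haveI := (hch U a hae).1
  haveI := (hch U a hae).2
  constructor
  · intro hdisc
    apply le_antisymm
    · unfold AlgSp.dim
      refine iSup_le fun U' => iSup_le fun a' => iSup_le fun ha' => ?_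
      haveI := (hch U' a' ha').1
      haveI := (hch U' a' ha').2
      haveI : DiscreteTopology ↥U'.left := discreteTopology_iff_isOpen_singleton.2 fun u' =>
        isOpen_singleton_chart_of_isOpen a' ha' u' (isOpen_discrete _)
      exact topologicalKrullDim_zero_of_discreteTopology _
    · unfold AlgSp.dim
      refine le_trans ?_ (le_iSup₂_of_le U a (le_iSup_of_le hae le_rfl))
      obtain ⟨x⟩ := (inferInstance : Nonempty (AlgSp.Points X))
      obtain ⟨u, -⟩ := Groth.Agent.S10177.surjective_ofPt a has x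
      haveI : Nonempty (IrreducibleCloseds ↥U.left) :=
        ⟨⟨closure {u}, isIrreducible_singleton.closure, isClosed_closure⟩⟩
      exact Order.krullDim_nonneg
  · intro hdim
    refine discreteTopology_iff_isOpen_singleton.2 fun x => ?_
    obtain ⟨u, hu⟩ := Groth.Agent.S10177.surjective_ofPt a has x
    have hU : topologicalKrullDim ↥U.left ≤ 0 := by
      rw [← hdim]
      unfold AlgSp.dim
      exact le_iSup₂_of_le U a (le_iSup_of_le hae le_rfl)
    obtain ⟨hc, hg⟩ := forall_eq_of_krullDim_le_zero u ⊤ trivial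
      ((topologicalKrullDim_subspace_le _ _).trans hU)
    have h1 := isOpen_singleton_of_isLocallyNoetherian U.left (⊤ : Opens ↥U.left) isOpen_univ u
      trivial hc hg
    have h2 := Groth.Agent.S10176.isOpenMap_ofPt a hae _ h1
    rwa [Set.image_singleton, hu] at h2

theorem discreteTopology_of_topologicalKrullDim (hX : AlgSp.IsAlgSpace X) (hch : ChartsJN X)
    [T0Space (AlgSp.Points X)] (hdim : topologicalKrullDim (AlgSp.Points X) = 0) :
    DiscreteTopology (AlgSp.Points X) := by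
  refine discreteTopology_iff_isOpen_singleton.2 fun x => ?_
  obtain ⟨hc, hg⟩ := forall_eq_of_krullDim_le_zero x ⊤ trivial
    ((topologicalKrullDim_subspace_le _ _).trans hdim.le)
  exact isOpen_of_isLocallyClosed hX hch x (isLocallyClosed_singleton_of_forall x ⊤ trivial hc) hg

/-- in a finite `T₀` space every singleton is locally closed. -/
theorem isLocallyClosed_singleton_of_finite {W : Type*} [TopologicalSpace W] [T0Space W]
    [Finite W] (x : W) : IsLocallyClosed ({x} : Set W) := by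
  have hcl : IsClosed (⋃ y ∈ {y : W | y ∈ closure {x} ∧ y ≠ x}, closure ({y} : Set W)) :=
    (Set.toFinite _).isClosed_biUnion fun _ _ => isClosed_closure
  refine ⟨_, closure {x}, hcl.isOpen_compl, isClosed_closure, ?_⟩
  ext w
  simp only [Set.mem_singleton_iff, Set.mem_inter_iff, Set.mem_compl_iff, Set.mem_iUnion,
    Set.mem_ofPred_eq, not_exists]
  constructor
  · rintro rfl
    refine ⟨fun y hy hwy => ?_, subset_closure rfl⟩
    exact hy.2 ((specializes_iff_mem_closure.2 hwy).antisymm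
      (specializes_iff_mem_closure.2 hy.1)).eq
  · rintro ⟨h1, h2⟩
    by_contra hne
    exact h1 w ⟨h2, hne⟩ (subset_closure rfl)

/-- in a finite space every point has a generization without proper generizations. -/
theorem exists_maximal_generization {W : Type*} [TopologicalSpace W] [T0Space W]
    [Finite W] (x : W) : ∃ η : W, η ⤳ x ∧ ∀ w : W, w ⤳ η → w = η := by
  obtain ⟨η, hη, hmax⟩ := (Set.toFinite {w : W | w ⤳ x}).exists_maximalFor
    (fun w : W => closure ({w} : Set W)) _ ⟨x, specializes_rfl⟩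
  refine ⟨η, hη, fun w hw => ?_⟩
  have h2 : closure ({w} : Set W) ⊆ closure {η} :=
    hmax (hw.trans hη) (specializes_iff_closure_subset.1 hw)
  exact ((specializes_iff_closure_subset.2 h2).antisymm hw).eq.symm

theorem discreteTopology_of_finite (hX : AlgSp.IsAlgSpace X) (hch : ChartsJN X)
    [T0Space (AlgSp.Points X)] [Finite (AlgSp.Points X)] :
    DiscreteTopology (AlgSp.Points X) := by
  refine discreteTopology_iff_isOpen_singleton.2 fun x => ?_
  obtain ⟨η, hη, hmax⟩ := exists_maximal_generization x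
  have hηo := isOpen_of_isLocallyClosed hX hch η (isLocallyClosed_singleton_of_finite η) hmax
  have hηc := isClosed_of_isOpen hX hch η hηo
  have : x = η := by
    have := hη.mem_closed hηc rfl
    simpa using this
  rw [this]; exact hηo

end General

section Fibre

open Groth.Agent.R2.H45.HasAtMor Groth.Agent.R2.H45.HasAt Groth.Agent.R2.H45.RelDim

variable {X Y Xk : AlgSp.Sp S}

/-- the fibre of a morphism locally of finite type over a field-valued point has Jacobson locally
Noetherian charts. -/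
theorem chartsJN_fibre (hX : AlgSp.IsAlgSpace X) (hY : AlgSp.IsAlgSpace Y) {f : X ⟶ Y}
    (hf : AlgSp.LocP @LocallyOfFiniteType f) (r : AlgSp.FieldPt Y) {fst : Xk ⟶ X}
    {snd : Xk ⟶ (AlgSp.yon S).obj r.pt} (hsq : IsPullback fst snd f r.toHom) : ChartsJN Xk := by
  have hsnd : AlgSp.LocP @LocallyOfFiniteType snd :=
    Groth.Agent.Lib.Helper12.LocPCases.good_lft.locP_baseChange hX hY
      (AlgSp.IsAlgSpace.yon_obj r.pt) hsq hf
  haveI : JacobsonSpace ↥r.pt.left := inferInstanceAs (JacobsonSpace ↥(Spec (CommRingCat.of r.K)))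
  haveI : IsLocallyNoetherian r.pt.left :=
    inferInstanceAs (IsLocallyNoetherian (Spec (CommRingCat.of r.K)))
  exact chartsJN_of_locP snd hsnd

/-- the dimension of the fibre at a point vanishes iff the morphism is quasi-finite at the image
point. -/
theorem hasAt_localDim_iff_hasAtMor_qlqf (hX : AlgSp.IsAlgSpace X) (hY : AlgSp.IsAlgSpace Y)
    {f : X ⟶ Y} (hf : AlgSp.LocP @LocallyOfFiniteType f) (r : AlgSp.FieldPt Y) {fst : Xk ⟶ X}
    {snd : Xk ⟶ (AlgSp.yon S).obj r.pt} (hsq : IsPullback fst snd f r.toHom)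
    (xt : AlgSp.Points Xk) :
    AlgSp.HasAt (fun U u => FlatMor.localDim ↥U u = 0) Xk xt ↔
      AlgSp.HasAtMor Qlqf f (AlgSp.Points.map fst xt) := by
  rw [hasAtMor_qlqf_iff f hf, ← hasAtMor_fibreDimAt_baseChange_iff (fun d => d ≤ 0) hX hY
    (AlgSp.IsAlgSpace.yon_obj r.pt) hsq hf xt]
  haveI : Subsingleton ↥r.pt.left := inferInstanceAs (Subsingleton (PrimeSpectrum r.K))
  constructor
  · rintro ⟨U, a, u, ha, hu, hdim⟩
    obtain ⟨h, hh⟩ := (AlgSp.yon S).map_surjective (a ≫ snd)
    refine ⟨U, r.pt, a, 𝟙 _, h, u, ha, AlgSp.repWith_id _ _, ?_, hu, ?_⟩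
    · rw [hh, Category.comp_id]
    · change FlatMor.fibreDimAt h.left u ≤ 0
      rw [Groth.Agent.S5341.fibreDimAt_eq_localDim_of_subsingleton h.left u, hdim]
  · rintro ⟨U, V, a, b, h, u, ha, hb, comm, hu, hq⟩
    obtain ⟨h', hh'⟩ := (AlgSp.yon S).map_surjective (a ≫ snd)
    have comm' : a ≫ snd = (AlgSp.yon S).map h' ≫ 𝟙 _ := by rw [hh', Category.comp_id]
    have h1 : FlatMor.fibreDimAt h'.left u ≤ 0 :=
      (hasAtMor_iff_of_diagram (etSqInv_fibreDimAt (fun d => d ≤ 0)) snd a (𝟙 _) h' ha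
        (AlgSp.repWith_id _ _) comm' u).1 ⟨U, V, a, b, h, u, ha, hb, comm, rfl, hq⟩
    rw [Groth.Agent.S5341.fibreDimAt_eq_localDim_of_subsingleton h'.left u] at h1
    exact ⟨U, a, u, ha, hu, le_antisymm h1 (Groth.Agent.Lib.Helper7.TopDim.localDim_nonneg _)⟩

end Fibre

section DecentFibre

open Groth.Agent.R2.H45.HasAtMor Groth.Agent.R2.H45.HasAt Groth.Agent.R2.H45.RelDim

variable {X Y Xk : AlgSp.Sp S}

/-- the points of the fibre over a field-valued point map onto the topological fibre. -/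
theorem range_map_fst {f : X ⟶ Y} (r : AlgSp.FieldPt Y) {fst : Xk ⟶ X}
    {snd : Xk ⟶ (AlgSp.yon S).obj r.pt} (hsq : IsPullback fst snd f r.toHom) :
    Set.range (AlgSp.Points.map fst) = AlgSp.Points.map f ⁻¹' {AlgSp.Points.mk r} := by
  haveI hsub : Subsingleton (AlgSp.Points ((AlgSp.yon S).obj r.pt)) := by
    haveI : Subsingleton ↥r.pt.left := inferInstanceAs (Subsingleton (PrimeSpectrum r.K))
    exact (AlgSp.Points.schemeHomeo r.pt).symm.injective.subsingleton
  have hrpt : ∀ t : AlgSp.Points ((AlgSp.yon S).obj r.pt),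
      AlgSp.Points.map r.toHom t = AlgSp.Points.mk r := by
    intro t
    obtain ⟨t', rfl⟩ := (AlgSp.Points.schemeHomeo r.pt).surjective t
    change AlgSp.Points.map r.toHom (AlgSp.Points.ofScheme r.pt t') = _
    rw [← AlgSp.Points.ofPt_eq_map_ofScheme, AlgSp.Points.ofPt_toHom]
  ext x
  constructor
  · rintro ⟨z, rfl⟩
    change AlgSp.Points.map f (AlgSp.Points.map fst z) = AlgSp.Points.mk r
    rw [← AlgSp.Points.map_comp, hsq.w, AlgSp.Points.map_comp]
    exact hrpt _
  · intro hx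
    have e : AlgSp.Points.map f x = AlgSp.Points.map r.toHom
        (AlgSp.Points.ofScheme r.pt (IsLocalRing.closedPoint r.K)) := by
      rw [hrpt]; exact hx
    obtain ⟨p, hp1, -⟩ := Groth.Agent.S10175.exists_point_of_isPullback hsq x _ e
    exact ⟨p, hp1⟩

/-- over a decent space, the topological fibre over a point is homeomorphic to the space of points
of the fibre over a suitable field-valued point. -/
theorem exists_fibre_homeomorph (hX : AlgSp.IsAlgSpace X) (hY : AlgSp.IsAlgSpace Y) (f : X ⟶ Y)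
    (hYd : AlgSp.IsDecent Y) (y : AlgSp.Points Y) :
    ∃ (r₀ : AlgSp.FieldPt Y) (X₀ : AlgSp.Sp S) (fst₀ : X₀ ⟶ X)
      (snd₀ : X₀ ⟶ (AlgSp.yon S).obj r₀.pt)
      (φ : AlgSp.Points X₀ ≃ₜ ↥(AlgSp.Points.map f ⁻¹' {y})),
      AlgSp.Points.mk r₀ = y ∧ AlgSp.IsAlgSpace X₀ ∧ IsPullback fst₀ snd₀ f r₀.toHom ∧
        ∀ z : AlgSp.Points X₀, (φ z).1 = AlgSp.Points.map fst₀ z := by
  obtain ⟨r₀, hr₀, hm, hq⟩ := hYd y
  have sq := IsPullback.of_hasPullback f r₀.toHom
  have hX₀ : AlgSp.IsAlgSpace (pullback f r₀.toHom) :=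
    Groth.Agent.S9874.isAlgSpace_of_isPullback hY.diag hX (AlgSp.IsAlgSpace.yon_obj r₀.pt) sq
  obtain ⟨hemb, hrange⟩ := Groth.Agent.S10390.result (X := ⟨X, hX⟩) (Y := ⟨Y, hY⟩)
    (ObjectProperty.homMk f) r₀ hm hq ⟨pullback f r₀.toHom, hX₀⟩
    (ObjectProperty.homMk (pullback.fst f r₀.toHom)) (pullback.snd f r₀.toHom) sq
  change IsEmbedding (AlgSp.Points.map (pullback.fst f r₀.toHom)) at hemb
  change Set.range (AlgSp.Points.map (pullback.fst f r₀.toHom)) =
    AlgSp.Points.map f ⁻¹' {AlgSp.Points.mk r₀} at hrange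
  rw [hr₀] at hrange
  exact ⟨r₀, _, _, _, hemb.toHomeomorph.trans (Homeomorph.setCongr hrange), hr₀, hX₀, sq,
    fun z => rfl⟩

/-- a point of the fibre is isolated iff the morphism is quasi-finite at its image. -/
theorem isOpen_singleton_iff_hasAtMor (hX : AlgSp.IsAlgSpace X) (hY : AlgSp.IsAlgSpace Y)
    (hXk : AlgSp.IsAlgSpace Xk) {f : X ⟶ Y} (hf : AlgSp.LocP @LocallyOfFiniteType f)
    (r : AlgSp.FieldPt Y) {fst : Xk ⟶ X} {snd : Xk ⟶ (AlgSp.yon S).obj r.pt}
    (hsq : IsPullback fst snd f r.toHom) (xt : AlgSp.Points Xk) :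
    IsOpen ({xt} : Set (AlgSp.Points Xk)) ↔ AlgSp.HasAtMor Qlqf f (AlgSp.Points.map fst xt) :=
  (isOpen_iff_hasAt hXk (chartsJN_fibre hX hY hf r hsq) xt).trans
    (hasAt_localDim_iff_hasAtMor_qlqf hX hY hf r hsq xt)

/-- the fibre is discrete iff the morphism is quasi-finite at all points over the point. -/
theorem discreteTopology_iff_forall_hasAtMor (hX : AlgSp.IsAlgSpace X) (hY : AlgSp.IsAlgSpace Y)
    (hXk : AlgSp.IsAlgSpace Xk) {f : X ⟶ Y} (hf : AlgSp.LocP @LocallyOfFiniteType f)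
    (r : AlgSp.FieldPt Y) {fst : Xk ⟶ X} {snd : Xk ⟶ (AlgSp.yon S).obj r.pt}
    (hsq : IsPullback fst snd f r.toHom) :
    DiscreteTopology (AlgSp.Points Xk) ↔
      ∀ x : AlgSp.Points X, AlgSp.Points.map f x = AlgSp.Points.mk r → AlgSp.HasAtMor Qlqf f x := by
  rw [discreteTopology_iff_isOpen_singleton]
  constructor
  · intro h x hx
    have hx' : x ∈ Set.range (AlgSp.Points.map fst) := by rw [range_map_fst r hsq]; exact hx
    obtain ⟨xt, rfl⟩ := hx'
    exact (isOpen_singleton_iff_hasAtMor hX hY hXk hf r hsq xt).1 (h xt)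
  · intro h xt
    refine (isOpen_singleton_iff_hasAtMor hX hY hXk hf r hsq xt).2 (h _ ?_)
    have : AlgSp.Points.map fst xt ∈ Set.range (AlgSp.Points.map fst) := ⟨xt, rfl⟩
    rwa [range_map_fst r hsq] at this

section Decent

variable (hX : AlgSp.IsAlgSpace X) (hY : AlgSp.IsAlgSpace Y) (f : X ⟶ Y)
  (hf : AlgSp.LocP @LocallyOfFiniteType f) (hYd : AlgSp.IsDecent Y) (y : AlgSp.Points Y)

include hX hY hf hYd

/-- over a decent space: a point of the topological fibre is isolated in it iff the morphism is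
quasi-finite there. -/
theorem isOpen_singleton_fibre_iff (x : AlgSp.Points X)
    (hx : x ∈ AlgSp.Points.map f ⁻¹' {y}) :
    IsOpen ({(⟨x, hx⟩ : ↥(AlgSp.Points.map f ⁻¹' {y}))} : Set ↥(AlgSp.Points.map f ⁻¹' {y})) ↔
      AlgSp.HasAtMor Qlqf f x := by
  obtain ⟨r₀, X₀, fst₀, snd₀, φ, hr₀, hX₀, sq, hφ⟩ := exists_fibre_homeomorph hX hY f hYd y
  have h1 := isOpen_singleton_iff_hasAtMor hX hY hX₀ hf r₀ sq (φ.symm ⟨x, hx⟩)
  rw [← hφ, φ.apply_symm_apply] at h1
  rw [← h1, ← φ.isOpen_image, Set.image_singleton, φ.apply_symm_apply]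

/-- over a decent space: a point of the topological fibre is closed in it without proper
generizations iff the morphism is quasi-finite there. -/
theorem isClosed_and_fibre_iff (x : AlgSp.Points X)
    (hx : x ∈ AlgSp.Points.map f ⁻¹' {y}) :
    (IsClosed ({(⟨x, hx⟩ : ↥(AlgSp.Points.map f ⁻¹' {y}))} :
        Set ↥(AlgSp.Points.map f ⁻¹' {y})) ∧
      ∀ x' : ↥(AlgSp.Points.map f ⁻¹' {y}), x' ⤳ (⟨x, hx⟩ : ↥(AlgSp.Points.map f ⁻¹' {y})) →
        x' = (⟨x, hx⟩ : ↥(AlgSp.Points.map f ⁻¹' {y}))) ↔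
      AlgSp.HasAtMor Qlqf f x := by
  obtain ⟨r₀, X₀, fst₀, snd₀, φ, hr₀, hX₀, sq, hφ⟩ := exists_fibre_homeomorph hX hY f hYd y
  have h1 := isOpen_singleton_iff_hasAtMor hX hY hX₀ hf r₀ sq (φ.symm ⟨x, hx⟩)
  rw [← hφ, φ.apply_symm_apply] at h1
  rw [← h1, isOpen_iff_isClosed_and hX₀ (chartsJN_fibre hX hY hf r₀ sq)]
  refine and_congr ?_ ⟨fun h z hz => ?_, fun h z hz => ?_⟩
  · rw [← φ.isClosed_image, Set.image_singleton, φ.apply_symm_apply]
  · have := h (φ z) (by
      have := hz.map φ.continuous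
      rwa [φ.apply_symm_apply] at this)
    rw [← this, φ.symm_apply_apply]
  · exact φ.symm.injective (h (φ.symm z) (hz.map φ.symm.continuous))

theorem discreteTopology_fibre_iff :
    DiscreteTopology ↥(AlgSp.Points.map f ⁻¹' {y}) ↔
      ∀ x : AlgSp.Points X, AlgSp.Points.map f x = y → AlgSp.HasAtMor Qlqf f x := by
  rw [discreteTopology_iff_isOpen_singleton]
  constructor
  · intro h x hx
    exact (isOpen_singleton_fibre_iff hX hY f hf hYd y x hx).1 (h ⟨x, hx⟩)
  · rintro h ⟨x, hx⟩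
    exact (isOpen_singleton_fibre_iff hX hY f hf hYd y x hx).2 (h x hx)

variable [T0Space (AlgSp.Points X)]

theorem localDim_fibre_eq_zero_iff (x : AlgSp.Points X)
    (hx : x ∈ AlgSp.Points.map f ⁻¹' {y}) :
    FlatMor.localDim ↥(AlgSp.Points.map f ⁻¹' {y}) (⟨x, hx⟩ : ↥(AlgSp.Points.map f ⁻¹' {y})) = 0 ↔
      IsOpen ({(⟨x, hx⟩ : ↥(AlgSp.Points.map f ⁻¹' {y}))} :
        Set ↥(AlgSp.Points.map f ⁻¹' {y})) := by
  obtain ⟨r₀, X₀, fst₀, snd₀, φ, hr₀, hX₀, sq, hφ⟩ := exists_fibre_homeomorph hX hY f hYd y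
  haveI : T0Space (AlgSp.Points X₀) := φ.isEmbedding.t0Space
  have h1 := localDim_eq_zero_iff_isOpen hX₀ (chartsJN_fibre hX hY hf r₀ sq) (φ.symm ⟨x, hx⟩)
  rw [Groth.Agent.Lib.Helper4.FibDim.localDim_eq_of_homeomorph φ, φ.apply_symm_apply,
    ← φ.isOpen_image, Set.image_singleton, φ.apply_symm_apply] at h1
  exact h1

theorem discreteTopology_fibre_of_topologicalKrullDim
    (hdim : topologicalKrullDim ↥(AlgSp.Points.map f ⁻¹' {y}) = 0) :
    DiscreteTopology ↥(AlgSp.Points.map f ⁻¹' {y}) := by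
  obtain ⟨r₀, X₀, fst₀, snd₀, φ, hr₀, hX₀, sq, hφ⟩ := exists_fibre_homeomorph hX hY f hYd y
  haveI : T0Space (AlgSp.Points X₀) := φ.isEmbedding.t0Space
  haveI := discreteTopology_of_topologicalKrullDim hX₀ (chartsJN_fibre hX hY hf r₀ sq)
    ((IsHomeomorph.topologicalKrullDim_eq φ φ.isHomeomorph).trans hdim)
  exact φ.symm.isEmbedding.discreteTopology

theorem discreteTopology_fibre_of_finite (hfin : (AlgSp.Points.map f ⁻¹' {y}).Finite) :
    DiscreteTopology ↥(AlgSp.Points.map f ⁻¹' {y}) := by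
  obtain ⟨r₀, X₀, fst₀, snd₀, φ, hr₀, hX₀, sq, hφ⟩ := exists_fibre_homeomorph hX hY f hYd y
  haveI : T0Space (AlgSp.Points X₀) := φ.isEmbedding.t0Space
  haveI : Finite ↥(AlgSp.Points.map f ⁻¹' {y}) := hfin
  haveI : Finite (AlgSp.Points X₀) := Finite.of_equiv _ φ.symm.toEquiv
  haveI := discreteTopology_of_finite hX₀ (chartsJN_fibre hX hY hf r₀ sq)
  exact φ.symm.isEmbedding.discreteTopology

end Decent

end DecentFibre

end Groth.Agent.R2.H46.FibrePt
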