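import Groth.Agent.R2.H46GF2Sch
import Groth.Agent.R2.H25KerGrpd
import Groth.Agent.R2.H59QDesc

set_option autoImplicit false
set_option linter.style.haveILetI false
universe u
open CategoryTheory CategoryTheory.Limits AlgebraicGeometry Topology TopologicalSpace

namespace Groth.Agent.R2.H46.GF2

open Groth.Agent.R2.H46.GenFin Groth.Agent.R2.H45.FinEtQuot

variable {S : Scheme.{u}}

/-- **restriction of a chart** of `X ×_Y V` to an open of `V`. -/
theorem exists_restrict_chart {X Y : AlgSp.Sp S} (f : X ⟶ Y) {V U : Over S}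
    (b : (AlgSp.yon S).obj V ⟶ Y) (a : (AlgSp.yon S).obj U ⟶ pullback f b)
    (hae : AlgSp.RepWith @Etale a) (has : AlgSp.RepWith @Surjective a) (g : U ⟶ V)
    (hg : a ≫ pullback.snd f b = (AlgSp.yon S).map g) (V₁ : V.left.Opens) :
    ∃ (a₁ : (AlgSp.yon S).obj (Wov (g.left ⁻¹ᵁ V₁)) ⟶
        pullback f ((AlgSp.yon S).map (ιW V₁) ≫ b))
      (g₁ : Wov (g.left ⁻¹ᵁ V₁) ⟶ Wov V₁), AlgSp.RepWith @Etale a₁ ∧ AlgSp.RepWith @Surjective a₁ ∧
        a₁ ≫ pullback.snd f ((AlgSp.yon S).map (ιW V₁) ≫ b) = (AlgSp.yon S).map g₁ ∧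
        g₁.left = g.left ∣_ V₁ := by
  let gW : Wov (g.left ⁻¹ᵁ V₁) ⟶ Wov V₁ := Over.homMk (g.left ∣_ V₁) (by
    change (g.left ∣_ V₁) ≫ V₁.ι ≫ V.hom = (g.left ⁻¹ᵁ V₁).ι ≫ U.hom
    rw [← Category.assoc, morphismRestrict_ι, Category.assoc, Over.w g])
  have sqW : IsPullback (ιW (g.left ⁻¹ᵁ V₁)) gW g (ιW V₁) :=
    IsPullback.of_map (Over.forget S) (Over.OverMorphism.ext (morphismRestrict_ι g.left V₁).symm)
      (isPullback_morphismRestrict g.left V₁).flip
  have hsq := isPullback_chartW f b (ιW V₁) a g hg (ιW (g.left ⁻¹ᵁ V₁)) gW sqW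
  exact ⟨chartW f b (ιW V₁) a g hg (ιW (g.left ⁻¹ᵁ V₁)) gW sqW, gW,
    MorphismProperty.of_isPullback (P := AlgSp.RepWith @Etale) hsq hae,
    MorphismProperty.of_isPullback (P := AlgSp.RepWith @Surjective) hsq has,
    chartW_snd f b (ιW V₁) a g hg (ιW (g.left ⁻¹ᵁ V₁)) gW sqW, rfl⟩

/-- **Core**: if an affine chart and its kernel pair are finite over an affine open `V'` of `V`,
then `X ×_Y V' ⟶ V'` is finite. -/
theorem isFiniteMor_of_isFinite_restrict {X Y : AlgSp.Sp S} (f : X ⟶ Y)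
    (hlft : AlgSp.LocP @LocallyOfFiniteType f) {V : Over S}
    (b : (AlgSp.yon S).obj V ⟶ Y) (hb : AlgSp.RepWith @Etale b)
    {U R : Over S} (a : (AlgSp.yon S).obj U ⟶ pullback f b)
    (hae : AlgSp.RepWith @Etale a) (has : AlgSp.RepWith @Surjective a) (s t : R ⟶ U)
    (hK : IsPullback ((AlgSp.yon S).map t) ((AlgSp.yon S).map s) a a)
    (g : U ⟶ V) (hg : a ≫ pullback.snd f b = (AlgSp.yon S).map g) (V' : V.left.Opens)
    (hV'aff : IsAffineOpen V') (hgV' : IsFinite (g.left ∣_ V'))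
    (hhV' : IsFinite ((s.left ≫ g.left) ∣_ V')) :
    AlgSp.IsFiniteMor (pullback.snd f ((AlgSp.yon S).map (ιW V') ≫ b)) := by
  have hw : t ≫ g = s ≫ g := by
    apply (AlgSp.yon S).map_injective
    rw [Functor.map_comp, Functor.map_comp, ← hg, ← Category.assoc, ← Category.assoc, hK.w]
  have hw' : t.left ≫ g.left = s.left ≫ g.left := by
    rw [← Over.comp_left, ← Over.comp_left, hw]
  set W : U.left.Opens := g.left ⁻¹ᵁ V' with hWdef
  have hinv : s.left ⁻¹ᵁ W = t.left ⁻¹ᵁ W := by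
    rw [hWdef, ← Scheme.Hom.comp_preimage, ← Scheme.Hom.comp_preimage, hw']
  let gW : Wov W ⟶ Wov V' := Over.homMk (g.left ∣_ V') (by
    change (g.left ∣_ V') ≫ V'.ι ≫ V.hom = W.ι ≫ U.hom
    rw [← Category.assoc, morphismRestrict_ι, Category.assoc, Over.w g])
  have sqW : IsPullback (ιW W) gW g (ιW V') :=
    IsPullback.of_map (Over.forget S) (Over.OverMorphism.ext (morphismRestrict_ι g.left V').symm)
      (isPullback_morphismRestrict g.left V').flip
  have hsq := isPullback_chartW f b (ιW V') a g hg (ιW W) gW sqW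
  have hce : AlgSp.RepWith @Etale (chartW f b (ιW V') a g hg (ιW W) gW sqW) :=
    MorphismProperty.of_isPullback (P := AlgSp.RepWith @Etale) hsq hae
  have hcs : AlgSp.RepWith @Surjective (chartW f b (ιW V') a g hg (ιW W) gW sqW) :=
    MorphismProperty.of_isPullback (P := AlgSp.RepWith @Surjective) hsq has
  have hk := isPullback_restrict s t W hinv a hK
  rw [← chartW_pbMap f b (ιW V') a g hg (ιW W) gW sqW] at hk
  have hKc := Groth.Agent.R2.H59.QDesc.isPullback_of_comp_mono (pbMap f b (ιW V')) hk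
  haveI : IsAffine (Wov V').left := hV'aff
  haveI : IsFinite gW.left := hgV'
  haveI : IsAffine (Wov W).left := isAffine_of_isAffineHom gW.left
  have hcomm : ((sW s W).left ≫ gW.left) ≫ V'.ι =
      (s.left ⁻¹ᵁ W).ι ≫ s.left ≫ g.left := by
    change (s.left.resLE W (s.left ⁻¹ᵁ W) le_rfl ≫ (g.left ∣_ V')) ≫ V'.ι = _
    rw [Category.assoc, morphismRestrict_ι, ← Category.assoc, Scheme.Hom.resLE_comp_ι,
      Category.assoc]
  have hcomm' : ((tW s t W hinv).left ≫ gW.left) ≫ V'.ι =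
      (s.left ⁻¹ᵁ W).ι ≫ s.left ≫ g.left := by
    change (t.left.resLE W (s.left ⁻¹ᵁ W) hinv.le ≫ (g.left ∣_ V')) ≫ V'.ι = _
    rw [Category.assoc, morphismRestrict_ι, ← Category.assoc, Scheme.Hom.resLE_comp_ι,
      Category.assoc, hw']
  have hO : s.left ⁻¹ᵁ W = (s.left ≫ g.left) ⁻¹ᵁ V' := by
    rw [hWdef, ← Scheme.Hom.comp_preimage]
  haveI h1 : IsFinite ((sW s W).left ≫ gW.left) :=
    Groth.Agent.R2.H25.CodimZero.prop_of_restrict' @IsFinite (s.left ≫ g.left) V'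
      (s.left ⁻¹ᵁ W) hO _ hcomm hhV'
  haveI h2 : IsFinite ((tW s t W hinv).left ≫ gW.left) :=
    Groth.Agent.R2.H25.CodimZero.prop_of_restrict' @IsFinite (s.left ≫ g.left) V'
      (s.left ⁻¹ᵁ W) hO _ hcomm' hhV'
  haveI : IsFinite (sW s W).left := IsFinite.of_comp _ gW.left
  haveI : IsFinite (tW s t W hinv).left := IsFinite.of_comp _ gW.left
  have hb' : AlgSp.RepWith @Etale ((AlgSp.yon S).map (ιW V') ≫ b) :=
    (AlgSp.repWith_isMultiplicative (S := S) @Etale).comp_mem _ _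
      ((AlgSp.repWith_yon_map_iff _ _).2 (inferInstanceAs (Etale V'.ι))) hb
  exact isFiniteMor_snd_of_finite_chart f hlft _ hb' _ hce hcs (sW s W) (tW s t W hinv) hKc gW
    (chartW_snd f b (ιW V') a g hg (ιW W) gW sqW)

/-- the kernel pair of a chart of a sheaf over `h_V` maps monomorphically to `U ×_V U`. -/
lemma exists_mono_of_kernelPair {P : AlgSp.Sp S} {V U R : Over S}
    (p : P ⟶ (AlgSp.yon S).obj V) (a : (AlgSp.yon S).obj U ⟶ P) (s t : R ⟶ U)
    (hK : IsPullback ((AlgSp.yon S).map t) ((AlgSp.yon S).map s) a a)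
    (g : U ⟶ V) (hg : a ≫ p = (AlgSp.yon S).map g) :
    ∃ r : R.left ⟶ pullback g.left g.left, Mono r ∧ r ≫ pullback.fst g.left g.left = t.left ∧
      r ≫ pullback.snd g.left g.left = s.left := by
  have hw : t ≫ g = s ≫ g := by
    apply (AlgSp.yon S).map_injective
    rw [Functor.map_comp, Functor.map_comp, ← hg, ← Category.assoc, ← Category.assoc, hK.w]
  have hw' : t.left ≫ g.left = s.left ≫ g.left := by
    rw [← Over.comp_left, ← Over.comp_left, hw]
  refine ⟨pullback.lift t.left s.left hw', ?_, pullback.lift_fst _ _ _, pullback.lift_snd _ _ _⟩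
  constructor
  intro Z x x' hxx'
  apply Groth.Agent.R2.H25.KerGrpd.left_ext a s t hK
  · have := congrArg (· ≫ pullback.fst g.left g.left) hxx'
    simpa only [Category.assoc, pullback.lift_fst] using this
  · have := congrArg (· ≫ pullback.snd g.left g.left) hxx'
    simpa only [Category.assoc, pullback.lift_snd] using this

/-- generic points of an open subscheme. -/
lemma finite_gen_opens {V : Scheme.{u}} (hfin : {v : ↥V | Gen v}.Finite) (V₁ : V.Opens) :
    {v : ↥(↑V₁ : Scheme.{u}) | Gen v}.Finite := by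
  refine (hfin.preimage V₁.ι.isOpenEmbedding.injective.injOn).subset ?_
  intro v hv
  exact (gen_iff_of_isOpenEmbedding V₁.ι.isOpenEmbedding v).1 hv

lemma isFiniteMor_snd_congr {X Y Z : AlgSp.Sp S} (f : X ⟶ Y) {m m' : Z ⟶ Y} (e : m = m')
    (h : AlgSp.IsFiniteMor (pullback.snd f m')) : AlgSp.IsFiniteMor (pullback.snd f m) := by
  subst e; exact h

/-- **generic finiteness, quasi-compact case, chart form.** -/
theorem exists_open_isFiniteMor {X Y : AlgSp.Sp S} (f : X ⟶ Y)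
    (hlft : AlgSp.LocP @LocallyOfFiniteType f) {V : Over S} [IsAffine V.left]
    (b : (AlgSp.yon S).obj V ⟶ Y) (hb : AlgSp.RepWith @Etale b)
    {U : Over S} [IsAffine U.left] (a : (AlgSp.yon S).obj U ⟶ pullback f b)
    (hae : AlgSp.RepWith @Etale a) (has : AlgSp.RepWith @Surjective a)
    (g : U ⟶ V) (hg : a ≫ pullback.snd f b = (AlgSp.yon S).map g)
    (hfin : {v : ↥V.left | Gen v}.Finite) (hα : ∀ u : ↥U.left, Gen (g.left u) → Gen u)
    (hβ : ∀ u : ↥U.left, Gen u → Gen (g.left u)) :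
    ∃ (V' : Over S) (ι : V' ⟶ V), IsAffine V'.left ∧ IsOpenImmersion ι.left ∧
      (∀ v : ↥V.left, Gen v → v ∈ Set.range ι.left) ∧
      AlgSp.IsFiniteMor (pullback.snd f ((AlgSp.yon S).map ι ≫ b)) := by
  have hfst : AlgSp.RepWith @Etale (pullback.fst f b) :=
    MorphismProperty.of_isPullback (P := AlgSp.RepWith @Etale)
      (IsPullback.of_hasPullback f b).flip hb
  haveI : LocallyOfFiniteType g.left :=
    hlft (a ≫ pullback.fst f b) b g
      ((AlgSp.repWith_isMultiplicative (S := S) @Etale).comp_mem _ _ hae hfst) hb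
      (by rw [Category.assoc, pullback.condition, ← Category.assoc, hg])
  -- first shrinking: the chart becomes finite
  obtain ⟨r₁, hr₁, hgfin⟩ := exists_basicOpen_isFinite_of_gen g.left hfin hα
  set V₁ : V.left.Opens := V.left.basicOpen r₁ with hV₁
  have hV₁aff : IsAffineOpen V₁ := (isAffineOpen_top V.left).basicOpen r₁
  obtain ⟨a₁, g₁, hae₁, has₁, hg₁, hg₁l⟩ := exists_restrict_chart f b a hae has g hg V₁
  haveI : IsAffine (Wov V₁).left := hV₁aff
  haveI : IsFinite g₁.left := by rw [hg₁l]; exact hgfin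
  haveI : IsAffine (Wov (g.left ⁻¹ᵁ V₁)).left := isAffine_of_isAffineHom g₁.left
  have hb₁ : AlgSp.RepWith @Etale ((AlgSp.yon S).map (ιW V₁) ≫ b) :=
    (AlgSp.repWith_isMultiplicative (S := S) @Etale).comp_mem _ _
      ((AlgSp.repWith_yon_map_iff _ _).2 (inferInstanceAs (Etale V₁.ι))) hb
  -- the kernel pair
  obtain ⟨R, s, t', hK'⟩ := hae₁.1 a₁
  obtain ⟨t, rfl⟩ := (AlgSp.yon S).map_surjective t'
  haveI : Etale s.left := hae₁.2 a₁ _ s hK'
  obtain ⟨r, hrm, hrt, hrs⟩ := exists_mono_of_kernelPair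
    (pullback.snd f ((AlgSp.yon S).map (ιW V₁) ≫ b)) a₁ s t hK' g₁ hg₁
  haveI := hrm
  haveI : IsAffine (pullback g₁.left g₁.left) := inferInstance
  haveI : IsSeparated (s.left ≫ g₁.left) := by
    rw [← hrs, Category.assoc]; infer_instance
  have hfinV₁ : {v : ↥(Wov V₁).left | Gen v}.Finite := finite_gen_opens hfin V₁
  have hfib : ∀ v : ↥(Wov V₁).left, Gen v → ((s.left ≫ g₁.left) ⁻¹' {v}).Finite := by
    intro v _
    have h1 : (g₁.left ⁻¹' {v}).Finite := g₁.left.finite_preimage_singleton v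
    have h2 : ((pullback.snd g₁.left g₁.left) ⁻¹' (g₁.left ⁻¹' {v})).Finite :=
      (pullback.snd g₁.left g₁.left).finite_preimage h1
    refine (h2.preimage r.injective.injOn).subset ?_
    intro x hx
    have hx' : (s.left ≫ g₁.left) x = v := hx
    rw [Scheme.Hom.comp_apply] at hx'
    have e1 : (pullback.snd g₁.left g₁.left) (r x) = s.left x := by
      rw [← Scheme.Hom.comp_apply, hrs]
    show g₁.left ((pullback.snd g₁.left g₁.left) (r x)) = v
    rw [e1]
    exact hx'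
  have hgen : ∀ x : ↥R.left, Gen x → Gen ((s.left ≫ g₁.left) x) := by
    intro x hx
    have h1 : Gen (s.left x) := (gen_map_etale s.left x).1 hx
    have h2 : Gen ((g.left ⁻¹ᵁ V₁).ι (s.left x)) :=
      (gen_iff_of_isOpenEmbedding (g.left ⁻¹ᵁ V₁).ι.isOpenEmbedding _).1 h1
    have h3 := hβ _ h2
    have h4 : ∀ y, g.left ((g.left ⁻¹ᵁ V₁).ι y) = V₁.ι (g₁.left y) := by
      intro y
      rw [hg₁l, ← Scheme.Hom.comp_apply, ← Scheme.Hom.comp_apply, morphismRestrict_ι]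
    rw [h4] at h3
    rw [Scheme.Hom.comp_apply]
    exact (gen_iff_of_isOpenEmbedding V₁.ι.isOpenEmbedding _).2 h3
  obtain ⟨r₂, hr₂, hhfin⟩ := exists_basicOpen_isFinite_of_isSeparated (s.left ≫ g₁.left) hfinV₁
    hfib hgen
  set V₂ : (Wov V₁).left.Opens := (Wov V₁).left.basicOpen r₂ with hV₂
  have hV₂aff : IsAffineOpen V₂ := (isAffineOpen_top (Wov V₁).left).basicOpen r₂
  have hgV₂ : IsFinite (g₁.left ∣_ V₂) := IsZariskiLocalAtTarget.restrict (show IsFinite g₁.left from inferInstance) V₂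
  have key := isFiniteMor_of_isFinite_restrict f hlft ((AlgSp.yon S).map (ιW V₁) ≫ b) hb₁ a₁ hae₁
    has₁ s t hK' g₁ hg₁ V₂ hV₂aff hgV₂ hhfin
  refine ⟨Wov V₂, ιW V₂ ≫ ιW V₁, hV₂aff, ?_, ?_, ?_⟩
  · change IsOpenImmersion (V₂.ι ≫ V₁.ι)
    infer_instance
  · intro v hv
    have hv₁ : v ∈ V₁ := hr₁ v hv
    have hv₁g : Gen (⟨v, hv₁⟩ : ↥(Wov V₁).left) :=
      (gen_iff_of_isOpenEmbedding V₁.ι.isOpenEmbedding (⟨v, hv₁⟩ : ↥V₁)).2 hv
    have hv₂ : (⟨v, hv₁⟩ : ↥(Wov V₁).left) ∈ V₂ := hr₂ _ hv₁g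
    exact ⟨(⟨⟨v, hv₁⟩, hv₂⟩ : ↥V₂), rfl⟩
  · have e : (AlgSp.yon S).map (ιW V₂ ≫ ιW V₁) ≫ b =
        (AlgSp.yon S).map (ιW V₂) ≫ (AlgSp.yon S).map (ιW V₁) ≫ b := by
      rw [Functor.map_comp, Category.assoc]
    exact isFiniteMor_snd_congr f e key

end Groth.Agent.R2.H46.GF2
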