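-- helper59: consequences of effective descent of affine morphisms: descent of integral, finite,
-- finite locally free morphisms of fppf sheaves along locally surjective maps (no representability
-- hypothesis).
import Mathlib
import Groth.Agent.R2.H59AffDesc
import Groth.Agent.R2.H44FppfLocal
import Groth.Agent.Lib.Helper12Flat

set_option autoImplicit false
set_option linter.unusedSectionVars false
set_option linter.style.haveILetI false
universe u
open CategoryTheory CategoryTheory.Limits AlgebraicGeometry Opposite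

set_option backward.isDefEq.respectTransparency false

namespace Groth.Agent.R2.H59.AffDesc

open Groth.Agent.S13210 Groth.Agent.Lib.Helper12.ZarGlue

variable {S : Scheme.{u}} {F G H Q : AlgSp.Sp S}

/-- An affine map of fppf sheaves is representable with affine base changes. -/
theorem repWith_isAffineHom_of_isAffineMor (a : F ⟶ G) (h : AlgSp.IsAffineMor a) :
    AlgSp.RepWith @IsAffineHom a := by
  refine repWith_of_affine @IsAffineHom a (fun Z hZ g => ?_)
  obtain ⟨W, i, fst, sq, hW⟩ := h hZ g
  haveI := hZ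
  haveI := hW
  exact ⟨W, i, fst, sq, inferInstance⟩

/-- `RepWith P` descends along locally surjective maps, when the base change is affine. -/
theorem repWith_of_locallySurjective_of_isAffineMor (P : MorphismProperty Scheme.{u})
    [P.IsStableUnderBaseChange] [P.IsLocalAtTarget Scheme.fppfPrecoverage]
    (a : F ⟶ G) (b : H ⟶ G) [Sheaf.IsLocallySurjective b] (b' : Q ⟶ F) (a' : Q ⟶ H)
    (sq : IsPullback b' a' a b) (haff : AlgSp.IsAffineMor a') (h : AlgSp.RepWith P a') :
    AlgSp.RepWith P a :=
  Groth.Agent.S9884.repWith_of_locallySurjective a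
    (repWith_isAffineHom_of_isAffineMor a (isAffineMor_of_locallySurjective a b b' a' sq haff)).1
    b b' a' sq P h

theorem isAffineMor_of_isIntegralMor (a : F ⟶ G) (h : AlgSp.IsIntegralMor a) :
    AlgSp.IsAffineMor a := fun Z hZ g => by
  obtain ⟨W, i, fst, sq, hW, -⟩ := h hZ g
  exact ⟨W, i, fst, sq, hW⟩

theorem isAffineMor_of_isFiniteMor (a : F ⟶ G) (h : AlgSp.IsFiniteMor a) :
    AlgSp.IsAffineMor a := fun Z hZ g => by
  obtain ⟨W, i, fst, sq, hW, -⟩ := h hZ g
  exact ⟨W, i, fst, sq, hW⟩

theorem repWith_isIntegralHom_of_isIntegralMor (a : F ⟶ G) (h : AlgSp.IsIntegralMor a) :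
    AlgSp.RepWith @IsIntegralHom a := by
  refine repWith_of_affine @IsIntegralHom a (fun Z hZ g => ?_)
  obtain ⟨W, i, fst, sq, -, hi⟩ := h hZ g
  exact ⟨W, i, fst, sq, hi⟩

theorem repWith_isFinite_of_isFiniteMor (a : F ⟶ G) (h : AlgSp.IsFiniteMor a) :
    AlgSp.RepWith @IsFinite a := by
  refine repWith_of_affine @IsFinite a (fun Z hZ g => ?_)
  obtain ⟨W, i, fst, sq, -, hi⟩ := h hZ g
  exact ⟨W, i, fst, sq, hi⟩

theorem isIntegralMor_of_repWith (a : F ⟶ G) (h : AlgSp.RepWith @IsIntegralHom a) :
    AlgSp.IsIntegralMor a := fun Z hZ g => by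
  obtain ⟨W, i, fst, sq⟩ := h.1 g
  haveI : IsIntegralHom i.left := h.2 g fst i sq
  haveI := hZ
  exact ⟨W, i, fst, sq, isAffine_of_isAffineHom i.left, inferInstance⟩

theorem isFiniteMor_of_repWith (a : F ⟶ G) (h : AlgSp.RepWith @IsFinite a) :
    AlgSp.IsFiniteMor a := fun Z hZ g => by
  obtain ⟨W, i, fst, sq⟩ := h.1 g
  haveI : IsFinite i.left := h.2 g fst i sq
  haveI := hZ
  exact ⟨W, i, fst, sq, isAffine_of_isAffineHom i.left, inferInstance⟩

/-- Integral morphisms of fppf sheaves descend along locally surjective maps. -/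
theorem isIntegralMor_of_locallySurjective (a : F ⟶ G) (b : H ⟶ G) [Sheaf.IsLocallySurjective b]
    (b' : Q ⟶ F) (a' : Q ⟶ H) (sq : IsPullback b' a' a b) (h : AlgSp.IsIntegralMor a') :
    AlgSp.IsIntegralMor a := by
  haveI := Groth.Agent.R2.H44.FppfLocal.isIntegralHom.{u}
  exact isIntegralMor_of_repWith a (repWith_of_locallySurjective_of_isAffineMor @IsIntegralHom a b
    b' a' sq (isAffineMor_of_isIntegralMor a' h) (repWith_isIntegralHom_of_isIntegralMor a' h))

/-- Finite morphisms of fppf sheaves descend along locally surjective maps. -/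
theorem isFiniteMor_of_locallySurjective (a : F ⟶ G) (b : H ⟶ G) [Sheaf.IsLocallySurjective b]
    (b' : Q ⟶ F) (a' : Q ⟶ H) (sq : IsPullback b' a' a b) (h : AlgSp.IsFiniteMor a') :
    AlgSp.IsFiniteMor a := by
  haveI := Groth.Agent.R2.H44.FppfLocal.isFinite.{u}
  exact isFiniteMor_of_repWith a (repWith_of_locallySurjective_of_isAffineMor @IsFinite a b
    b' a' sq (isAffineMor_of_isFiniteMor a' h) (repWith_isFinite_of_isFiniteMor a' h))

theorem isLocalAtTarget_fppf_flat :
    MorphismProperty.IsLocalAtTarget (@Flat : MorphismProperty Scheme.{u})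
      Scheme.fppfPrecoverage :=
  Groth.Agent.R2.H44.FppfLocal.isLocalAtTarget_fppf_of_fpqc _
    Groth.Agent.Lib.Helper12.descendsAlong_flat

/-- Finite locally free morphisms of fppf sheaves descend along locally surjective maps. -/
theorem isFinLocFreeMor_of_locallySurjective (a : F ⟶ G) (b : H ⟶ G)
    [Sheaf.IsLocallySurjective b] (b' : Q ⟶ F) (a' : Q ⟶ H) (sq : IsPullback b' a' a b)
    (h : AlgSp.IsFinLocFreeMor a') : AlgSp.IsFinLocFreeMor a := by
  have h1 : AlgSp.RepWith @IsFinite a' := ⟨h.1, fun _ _ g fst snd sq => (h.2 g fst snd sq).1⟩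
  have h2 : AlgSp.RepWith @Flat a' := ⟨h.1, fun _ _ g fst snd sq => (h.2 g fst snd sq).2.1⟩
  have h3 : AlgSp.RepWith @LocallyOfFinitePresentation a' :=
    ⟨h.1, fun _ _ g fst snd sq => (h.2 g fst snd sq).2.2⟩
  have haff : AlgSp.IsAffineMor a' := isAffineMor_of_isFiniteMor a' (isFiniteMor_of_repWith a' h1)
  haveI := Groth.Agent.R2.H44.FppfLocal.isFinite.{u}
  haveI := isLocalAtTarget_fppf_flat.{u}
  haveI := Groth.Agent.R2.H44.FppfLocal.locallyOfFinitePresentation.{u}
  have k1 := repWith_of_locallySurjective_of_isAffineMor @IsFinite a b b' a' sq haff h1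
  have k2 := repWith_of_locallySurjective_of_isAffineMor @Flat a b b' a' sq haff h2
  have k3 := repWith_of_locallySurjective_of_isAffineMor @LocallyOfFinitePresentation a b b' a' sq
    haff h3
  exact ⟨k1.1, fun _ _ g fst snd sq => ⟨k1.2 g fst snd sq, k2.2 g fst snd sq, k3.2 g fst snd sq⟩⟩

end Groth.Agent.R2.H59.AffDesc
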