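import Mathlib
import Groth.Prelude.Def_AlgSpDec
import Groth.Agent.R2.H25FinQuot
import Groth.Agent.R2.H45FinEtQuot2
import Groth.Agent.R2.H59AffDesc3
import Groth.Agent.R2.H59QPts
import Groth.Agent.R2.H25CodimZero
import Groth.Agent.S2080
import Groth.Agent.S9901
import Groth.Agent.S9903
import Groth.Agent.S10180
import Groth.Agent.S10265
import Groth.Agent.R2.H45RelDim
import Groth.Agent.R2.H46FiniteSpec
import Groth.Agent.S9874
import Groth.Agent.S10176

set_option autoImplicit false
set_option linter.style.haveILetI false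
universe u
open CategoryTheory CategoryTheory.Limits AlgebraicGeometry Topology TopologicalSpace

namespace Groth.Agent.R2.H46.GenFin

variable {S : Scheme.{u}}

section Paste

variable {X Y : AlgSp.Sp S} (f : X ⟶ Y) {V V' : Over S} (b : (AlgSp.yon S).obj V ⟶ Y) (ι : V' ⟶ V)

/-- the canonical map `X ×_Y V' ⟶ X ×_Y V`. -/
noncomputable def pbMap : pullback f ((AlgSp.yon S).map ι ≫ b) ⟶ pullback f b :=
  pullback.lift (pullback.fst _ _) (pullback.snd _ _ ≫ (AlgSp.yon S).map ι)
    (by rw [pullback.condition, Category.assoc])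

@[reassoc (attr := simp)]
lemma pbMap_fst : pbMap f b ι ≫ pullback.fst f b = pullback.fst _ _ := pullback.lift_fst _ _ _

@[reassoc (attr := simp)]
lemma pbMap_snd : pbMap f b ι ≫ pullback.snd f b = pullback.snd _ _ ≫ (AlgSp.yon S).map ι :=
  pullback.lift_snd _ _ _

lemma isPullback_pbMap :
    IsPullback (pbMap f b ι) (pullback.snd f ((AlgSp.yon S).map ι ≫ b)) (pullback.snd f b)
      ((AlgSp.yon S).map ι) := by
  refine IsPullback.of_right ?_ (pbMap_snd f b ι) (IsPullback.of_hasPullback f b)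
  rw [pbMap_fst]
  exact IsPullback.of_hasPullback f ((AlgSp.yon S).map ι ≫ b)

instance mono_pbMap [Mono ι] : Mono (pbMap f b ι) := by
  haveI : Mono ((AlgSp.yon S).map ι) := inferInstance
  exact (isPullback_pbMap f b ι).mono_fst_of_mono

variable {U W : Over S} (a : (AlgSp.yon S).obj U ⟶ pullback f b) (g : U ⟶ V)
  (hg : a ≫ pullback.snd f b = (AlgSp.yon S).map g) (ιW : W ⟶ U) (gW : W ⟶ V')
  (sq : IsPullback ιW gW g ι)

include hg sq in
lemma chart_condition :
    ((AlgSp.yon S).map ιW ≫ a ≫ pullback.fst f b) ≫ f =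
      (AlgSp.yon S).map gW ≫ (AlgSp.yon S).map ι ≫ b := by
  rw [Category.assoc, Category.assoc, pullback.condition, ← Category.assoc a, hg,
    ← Category.assoc, ← Functor.map_comp, sq.w, Functor.map_comp, Category.assoc]

/-- the restricted chart `h_W ⟶ X ×_Y V'`. -/
noncomputable def chartW : (AlgSp.yon S).obj W ⟶ pullback f ((AlgSp.yon S).map ι ≫ b) :=
  pullback.lift ((AlgSp.yon S).map ιW ≫ a ≫ pullback.fst f b) ((AlgSp.yon S).map gW)
    (chart_condition f b ι a g hg ιW gW sq)

lemma chartW_snd : chartW f b ι a g hg ιW gW sq ≫ pullback.snd _ _ = (AlgSp.yon S).map gW :=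
  pullback.lift_snd _ _ _

lemma chartW_pbMap : chartW f b ι a g hg ιW gW sq ≫ pbMap f b ι = (AlgSp.yon S).map ιW ≫ a := by
  apply pullback.hom_ext
  · rw [Category.assoc, pbMap_fst, chartW, pullback.lift_fst, Category.assoc]
  · rw [Category.assoc, pbMap_snd, ← Category.assoc, chartW_snd, Category.assoc, hg,
      ← Functor.map_comp, ← Functor.map_comp, sq.w]

lemma isPullback_chartW :
    IsPullback ((AlgSp.yon S).map ιW) (chartW f b ι a g hg ιW gW sq) a (pbMap f b ι) := by
  refine IsPullback.of_bot ?_ (chartW_pbMap f b ι a g hg ιW gW sq).symm (isPullback_pbMap f b ι)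
  rw [chartW_snd, hg]
  exact sq.map (AlgSp.yon S)

end Paste



/-- a representable étale surjective map of sheaves is an epimorphism. -/
lemma epi_of_etale_surjective {F G : AlgSp.Sp S} (p : F ⟶ G) (he : AlgSp.RepWith @Etale p)
    (hs : AlgSp.RepWith @Surjective p) : Epi p := by
  haveI := Groth.Agent.R2.H44.LimIso.isLocallySurjective_of_etale_surjective p he hs
  exact (Sheaf.isLocallySurjective_iff_epi p).1 inferInstance

/-- **Core**: if `X ×_Y V'` has an affine étale surjective chart `W` finite over the affine `V'`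
with finite kernel pair, then `X ×_Y V' ⟶ V'` is finite. -/
theorem isFiniteMor_snd_of_finite_chart {X Y : AlgSp.Sp S} (f : X ⟶ Y)
    (hlft : AlgSp.LocP @LocallyOfFiniteType f) {V' : Over S}
    (b' : (AlgSp.yon S).obj V' ⟶ Y) (hb' : AlgSp.RepWith @Etale b') [IsAffine V'.left]
    {W R : Over S} [IsAffine W.left] (c : (AlgSp.yon S).obj W ⟶ pullback f b')
    (hce : AlgSp.RepWith @Etale c) (hcs : AlgSp.RepWith @Surjective c) (s t : R ⟶ W)
    (hK : IsPullback ((AlgSp.yon S).map t) ((AlgSp.yon S).map s) c c)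
    [IsFinite s.left] [IsFinite t.left] (gW : W ⟶ V')
    (hgW : c ≫ pullback.snd f b' = (AlgSp.yon S).map gW) [IsFinite gW.left] :
    AlgSp.IsFiniteMor (pullback.snd f b') := by
  haveI : Epi c := epi_of_etale_surjective c hce hcs
  haveI : Etale s.left := hce.2 c _ s hK
  haveI : Etale t.left := hce.2 c _ t hK.flip
  obtain ⟨M, q, e, he, hM, -, -, -, hqsurj⟩ :=
    Groth.Agent.R2.H25.FinQuot.exists_iso_of_kernelPair c s t hK
  haveI := hM
  haveI := hqsurj
  obtain ⟨m, hm⟩ := (AlgSp.yon S).map_surjective (e.hom ≫ pullback.snd f b')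
  have hqm : q ≫ m = gW := by
    apply (AlgSp.yon S).map_injective
    rw [Functor.map_comp, hm, ← Category.assoc, he, hgW]
  have hqm' : q.left ≫ m.left = gW.left := by rw [← Over.comp_left, hqm]
  have hfst : AlgSp.RepWith @Etale (pullback.fst f b') :=
    MorphismProperty.of_isPullback (P := AlgSp.RepWith @Etale)
      (IsPullback.of_hasPullback f b').flip hb'
  have hee : AlgSp.RepWith @Etale (e.hom ≫ pullback.fst f b') :=
    (MorphismProperty.cancel_left_of_respectsIso (AlgSp.RepWith @Etale) e.hom _).2 hfst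
  have comm : (e.hom ≫ pullback.fst f b') ≫ f = (AlgSp.yon S).map m ≫ b' := by
    rw [Category.assoc, pullback.condition, hm, Category.assoc]
  haveI : LocallyOfFiniteType m.left := hlft (e.hom ≫ pullback.fst f b') b' m hee hb' comm
  haveI : UniversallyClosed m.left := by
    haveI : UniversallyClosed (q.left ≫ m.left) := by rw [hqm']; infer_instance
    exact UniversallyClosed.of_comp_surjective q.left m.left
  haveI : IsProper m.left := {}
  haveI : IsFinite m.left := IsFinite.iff_isProper_and_isAffineHom.2 ⟨inferInstance, inferInstance⟩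
  have h1 : AlgSp.RepWith @IsFinite ((AlgSp.yon S).map m) :=
    (AlgSp.repWith_yon_map_iff _ _).2 (inferInstance : IsFinite m.left)
  have h2 : AlgSp.RepWith @IsFinite (pullback.snd f b') := by
    rw [hm] at h1
    exact (MorphismProperty.cancel_left_of_respectsIso (AlgSp.RepWith @IsFinite) e.hom _).1 h1
  exact Groth.Agent.R2.H59.AffDesc.isFiniteMor_of_repWith _ h2



/-- the kernel pair of an affine chart of a sheaf quasi-separated over an affine scheme is a
quasi-compact scheme, separated over the base. -/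
lemma kernelPair_props {P : AlgSp.Sp S} {V U R : Over S} [IsAffine U.left] [IsAffine V.left]
    (p : P ⟶ (AlgSp.yon S).obj V) (hp : AlgSp.IsQuasiSeparatedMor p)
    (a : (AlgSp.yon S).obj U ⟶ P) (s t : R ⟶ U)
    (hK : IsPullback ((AlgSp.yon S).map t) ((AlgSp.yon S).map s) a a)
    (g : U ⟶ V) (hg : a ≫ p = (AlgSp.yon S).map g) :
    CompactSpace ↥R.left ∧ IsSeparated (s.left ≫ g.left) := by
  have hw : t ≫ g = s ≫ g := by
    apply (AlgSp.yon S).map_injective
    rw [Functor.map_comp, Functor.map_comp, ← hg, ← Category.assoc, ← Category.assoc, hK.w]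
  have hw' : t.left ≫ g.left = s.left ≫ g.left := by
    rw [← Over.comp_left, ← Over.comp_left, hw]
  -- `T = U ×_V U` over `S`
  let T : Over S := Over.mk (pullback.fst g.left g.left ≫ U.hom)
  let pr1 : T ⟶ U := Over.homMk (pullback.fst g.left g.left) rfl
  let pr2 : T ⟶ U := Over.homMk (pullback.snd g.left g.left) (by
    change pullback.snd g.left g.left ≫ U.hom = pullback.fst g.left g.left ≫ U.hom
    rw [← Over.w g, ← Category.assoc, ← Category.assoc, pullback.condition])
  have hpr : pr1 ≫ g = pr2 ≫ g := Over.OverMorphism.ext pullback.condition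
  let r : R ⟶ T := Over.homMk (pullback.lift t.left s.left hw') (by
    change pullback.lift t.left s.left hw' ≫ pullback.fst g.left g.left ≫ U.hom = R.hom
    rw [← Category.assoc, pullback.lift_fst, Over.w t])
  have hr1' : r.left ≫ pullback.fst g.left g.left = t.left := pullback.lift_fst _ _ _
  have hr2' : r.left ≫ pullback.snd g.left g.left = s.left := pullback.lift_snd _ _ _
  have hr1 : r ≫ pr1 = t := Over.OverMorphism.ext (pullback.lift_fst _ _ _)
  have hr2 : r ≫ pr2 = s := Over.OverMorphism.ext (pullback.lift_snd _ _ _)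
  have hcond : ((AlgSp.yon S).map pr1 ≫ a) ≫ p = ((AlgSp.yon S).map pr2 ≫ a) ≫ p := by
    rw [Category.assoc, Category.assoc, hg, ← Functor.map_comp, ← Functor.map_comp, hpr]
  let c : (AlgSp.yon S).obj T ⟶ pullback p p :=
    pullback.lift ((AlgSp.yon S).map pr1 ≫ a) ((AlgSp.yon S).map pr2 ≫ a) hcond
  have hmono : Mono r := by
    constructor
    intro Z x x' hxx'
    apply Groth.Agent.R2.H25.KerGrpd.over_ext a s t hK
    · rw [← hr1, ← Category.assoc, hxx', Category.assoc]
    · rw [← hr2, ← Category.assoc, hxx', Category.assoc]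
  have he : Groth.Agent.S9900.IsEqLocus (c ≫ pullback.fst p p) (c ≫ pullback.snd p p) r := by
    rw [pullback.lift_fst, pullback.lift_snd]
    refine ⟨hmono, fun T' τ => ⟨fun h => ?_, ?_⟩⟩
    · obtain ⟨ρ, h1, h2⟩ := Groth.Agent.R2.H25.KerGrpd.exists_lift a s t hK (τ ≫ pr1) (τ ≫ pr2)
        (by rw [Functor.map_comp, Functor.map_comp, Category.assoc, Category.assoc]; exact h)
      refine ⟨ρ, ?_⟩
      apply Over.OverMorphism.ext
      apply pullback.hom_ext
      · rw [Over.comp_left, Category.assoc, hr1']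
        exact congrArg (fun k => k.left) h1
      · rw [Over.comp_left, Category.assoc, hr2']
        exact congrArg (fun k => k.left) h2
    · rintro ⟨ρ, rfl⟩
      rw [← Category.assoc, ← Category.assoc, ← Functor.map_comp, ← Functor.map_comp,
        Category.assoc, Category.assoc, hr1, hr2, Functor.map_comp, Functor.map_comp,
        Category.assoc, Category.assoc, hK.w]
  have sq := Groth.Agent.S9900.IsEqLocus.isPullback_diagonal p c he
  haveI : QuasiCompact r.left := hp.2 c _ r sq
  haveI : IsAffine T.left := inferInstanceAs (IsAffine (pullback g.left g.left))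
  haveI : Mono r.left := by
    constructor
    intro Z x x' hxx'
    apply Groth.Agent.R2.H25.KerGrpd.left_ext a s t hK
    · have h1 : r.left ≫ pr1.left = t.left := by rw [← Over.comp_left, hr1]
      rw [← h1, ← Category.assoc, hxx', Category.assoc]
    · have h2 : r.left ≫ pr2.left = s.left := by rw [← Over.comp_left, hr2]
      rw [← h2, ← Category.assoc, hxx', Category.assoc]
  refine ⟨QuasiCompact.compactSpace_of_compactSpace r.left, ?_⟩
  have h2 : r.left ≫ pr2.left = s.left := by rw [← Over.comp_left, hr2]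
  rw [← h2, Category.assoc]
  infer_instance



open Groth.Agent.R2.H45.FinEtQuot in
/-- **Shrinking**: in the situation of an affine étale chart `V` of `Y` with a point `v` of
codimension `0`, and an affine étale surjective chart `U` of `X ×_Y V` whose fibre over `v` is
finite, there is an affine open neighbourhood `V'` of `v` with `X ×_Y V' ⟶ V'` finite. -/
theorem exists_affineOpen_isFiniteMor {X Y : AlgSp.Sp S} (f : X ⟶ Y)
    (hlft : AlgSp.LocP @LocallyOfFiniteType f) {V : Over S} [IsAffine V.left]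
    (b : (AlgSp.yon S).obj V ⟶ Y) (hb : AlgSp.RepWith @Etale b)
    (hqs : AlgSp.IsQuasiSeparatedMor (pullback.snd f b))
    {U R : Over S} [IsAffine U.left] (a : (AlgSp.yon S).obj U ⟶ pullback f b)
    (hae : AlgSp.RepWith @Etale a) (has : AlgSp.RepWith @Surjective a) (s t : R ⟶ U)
    (hK : IsPullback ((AlgSp.yon S).map t) ((AlgSp.yon S).map s) a a)
    (g : U ⟶ V) (hg : a ≫ pullback.snd f b = (AlgSp.yon S).map g) (v : ↥V.left)
    (hv : closure ({v} : Set ↥V.left) ∈ irreducibleComponents ↥V.left)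
    (hfin : (g.left ⁻¹' {v}).Finite) :
    ∃ V' : V.left.Opens, v ∈ V' ∧ IsAffineOpen V' ∧
      AlgSp.IsFiniteMor (pullback.snd f ((AlgSp.yon S).map (ιW V') ≫ b)) := by
  obtain ⟨hRc, hsep⟩ := kernelPair_props (pullback.snd f b) hqs a s t hK g hg
  haveI := hRc
  haveI : Etale s.left := hae.2 a _ s hK
  haveI : Etale t.left := hae.2 a _ t hK.flip
  have hw : t ≫ g = s ≫ g := by
    apply (AlgSp.yon S).map_injective
    rw [Functor.map_comp, Functor.map_comp, ← hg, ← Category.assoc, ← Category.assoc, hK.w]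
  have hw' : t.left ≫ g.left = s.left ≫ g.left := by
    rw [← Over.comp_left, ← Over.comp_left, hw]
  have hfst : AlgSp.RepWith @Etale (pullback.fst f b) :=
    MorphismProperty.of_isPullback (P := AlgSp.RepWith @Etale)
      (IsPullback.of_hasPullback f b).flip hb
  haveI : LocallyOfFiniteType g.left :=
    hlft (a ≫ pullback.fst f b) b g
      ((AlgSp.repWith_isMultiplicative (S := S) @Etale).comp_mem _ _ hae hfst) hb
      (by rw [Category.assoc, pullback.condition, ← Category.assoc, hg])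
  haveI : IsSeparated (s.left ≫ g.left) := hsep
  haveI : LocallyQuasiFinite s.left := Groth.Agent.S10265.locallyQuasiFinite_of_unramified _
  have hfinh : ((s.left ≫ g.left) ⁻¹' {v}).Finite := by
    have : ((s.left ≫ g.left : R.left ⟶ V.left) ⁻¹' {v} : Set ↥R.left) =
        s.left ⁻¹' (g.left ⁻¹' {v}) := by
      ext x; simp
    rw [this]
    exact s.left.finite_preimage hfin
  obtain ⟨V₁, -, hv₁, hf₁⟩ := (Groth.Agent.S2080.result g.left v hv).1 hfin
  obtain ⟨V₂, -, hv₂, hf₂⟩ := (Groth.Agent.S2080.result (s.left ≫ g.left) v hv).1 hfinh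
  obtain ⟨_, ⟨r, rfl⟩, hvr, hr⟩ := Opens.isBasis_iff_nbhd.1 (isBasis_basicOpen V.left)
    (show v ∈ V₁ ⊓ V₂ from ⟨hv₁, hv₂⟩)
  set V' : V.left.Opens := V.left.basicOpen r with hV'
  have hV'aff : IsAffineOpen V' := (isAffineOpen_top V.left).basicOpen r
  have hgV' : IsFinite (g.left ∣_ V') :=
    Groth.Agent.R2.H25.CodimZero.isFinite_restrict_of_le _ hf₁ (le_trans hr inf_le_left)
  have hhV' : IsFinite ((s.left ≫ g.left) ∣_ V') :=
    Groth.Agent.R2.H25.CodimZero.isFinite_restrict_of_le _ hf₂ (le_trans hr inf_le_right)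
  refine ⟨V', hvr, hV'aff, ?_⟩
  -- the invariant open `W`
  set W : U.left.Opens := g.left ⁻¹ᵁ V' with hWdef
  have hinv : s.left ⁻¹ᵁ W = t.left ⁻¹ᵁ W := by
    rw [hWdef, ← Scheme.Hom.comp_preimage, ← Scheme.Hom.comp_preimage, hw']
  let gW : Wov W ⟶ Wov V' := Over.homMk (g.left ∣_ V') (by
    change (g.left ∣_ V') ≫ V'.ι ≫ V.hom = W.ι ≫ U.hom
    rw [← Category.assoc, morphismRestrict_ι, Category.assoc, Over.w g])
  have sqW : IsPullback (ιW W) gW g (ιW V') :=
    IsPullback.of_map (Over.forget S) (Over.OverMorphism.ext (morphismRestrict_ι g.left V').symm)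
      (isPullback_morphismRestrict g.left V').flip
  have hsq := isPullback_chartW f b (ιW V') a g hg (ιW W) gW sqW
  have hce : AlgSp.RepWith @Etale (chartW f b (ιW V') a g hg (ιW W) gW sqW) :=
    MorphismProperty.of_isPullback (P := AlgSp.RepWith @Etale) hsq hae
  have hcs : AlgSp.RepWith @Surjective (chartW f b (ιW V') a g hg (ιW W) gW sqW) :=
    MorphismProperty.of_isPullback (P := AlgSp.RepWith @Surjective) hsq has
  have hk := isPullback_restrict s t W hinv a hK
  rw [← chartW_pbMap f b (ιW V') a g hg (ιW W) gW sqW] at hk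
  have hKc := Groth.Agent.R2.H59.QDesc.isPullback_of_comp_mono (pbMap f b (ιW V')) hk
  haveI : IsAffine (Wov V').left := hV'aff
  haveI : IsFinite gW.left := hgV'
  haveI : IsAffine (Wov W).left := isAffine_of_isAffineHom gW.left
  have hcomm : ((sW s W).left ≫ gW.left) ≫ V'.ι =
      (s.left ⁻¹ᵁ W).ι ≫ s.left ≫ g.left := by
    change (s.left.resLE W (s.left ⁻¹ᵁ W) le_rfl ≫ (g.left ∣_ V')) ≫ V'.ι = _
    rw [Category.assoc, morphismRestrict_ι, ← Category.assoc, Scheme.Hom.resLE_comp_ι,
      Category.assoc]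
  have hcomm' : ((tW s t W hinv).left ≫ gW.left) ≫ V'.ι =
      (s.left ⁻¹ᵁ W).ι ≫ s.left ≫ g.left := by
    change (t.left.resLE W (s.left ⁻¹ᵁ W) hinv.le ≫ (g.left ∣_ V')) ≫ V'.ι = _
    rw [Category.assoc, morphismRestrict_ι, ← Category.assoc, Scheme.Hom.resLE_comp_ι,
      Category.assoc, hw']
  have hO : s.left ⁻¹ᵁ W = (s.left ≫ g.left) ⁻¹ᵁ V' := by
    rw [hWdef, ← Scheme.Hom.comp_preimage]
  haveI h1 : IsFinite ((sW s W).left ≫ gW.left) :=
    Groth.Agent.R2.H25.CodimZero.prop_of_restrict' @IsFinite (s.left ≫ g.left) V'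
      (s.left ⁻¹ᵁ W) hO _ hcomm hhV'
  haveI h2 : IsFinite ((tW s t W hinv).left ≫ gW.left) :=
    Groth.Agent.R2.H25.CodimZero.prop_of_restrict' @IsFinite (s.left ≫ g.left) V'
      (s.left ⁻¹ᵁ W) hO _ hcomm' hhV'
  haveI : IsFinite (sW s W).left := IsFinite.of_comp _ gW.left
  haveI : IsFinite (tW s t W hinv).left := IsFinite.of_comp _ gW.left
  have hb' : AlgSp.RepWith @Etale ((AlgSp.yon S).map (ιW V') ≫ b) :=
    (AlgSp.repWith_isMultiplicative (S := S) @Etale).comp_mem _ _
      ((AlgSp.repWith_yon_map_iff _ _).2 (inferInstanceAs (Etale V'.ι))) hb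
  exact isFiniteMor_snd_of_finite_chart f hlft _ hb' _ hce hcs (sW s W) (tW s t W hinv) hKc gW
    (chartW_snd f b (ιW V') a g hg (ιW W) gW sqW)


/-- a quasi-compact morphism locally of finite type which is quasi-finite at every point of a
fibre has finite fibre. -/
lemma finite_preimage_of_quasiFiniteAt {U V : Scheme.{u}} (g : U ⟶ V) [LocallyOfFiniteType g]
    [QuasiCompact g] (v : ↥V) (h : ∀ u : ↥U, g u = v → g.QuasiFiniteAt u) :
    (g ⁻¹' {v}).Finite := by
  haveI : DiscreteTopology ↥(g.fiber v) := by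
    rw [discreteTopology_iff_isOpen_singleton]
    intro z
    obtain ⟨x, hx⟩ : ∃ x : ↥U, g.fiberι v z = x := ⟨_, rfl⟩
    have hxv : g x = v := by
      have := (g.fiberHomeo v z).2
      rw [← hx]
      exact this
    have hq := h x hxv
    subst hxv
    have hz : z = g.asFiber x := by
      apply (g.fiberHomeo (g x)).injective
      apply Subtype.ext
      rw [Scheme.Hom.fiberHomeo_apply, hx, Scheme.Hom.asFiber, Homeomorph.apply_symm_apply]
    rw [hz]
    exact Scheme.Hom.quasiFiniteAt_iff_isOpen_singleton_asFiber.1 hq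
  haveI : Finite ↥(g.fiber v) := finite_of_compact_of_discrete
  have h1 : Finite ↥(g ⁻¹' {v}) := (g.fiberHomeo v).toEquiv.finite_iff.1 inferInstance
  exact Set.finite_coe_iff.1 h1

/-- `Qlqf` at a point gives quasi-finiteness at the point. -/
lemma quasiFiniteAt_of_qlqf {U V : Scheme.{u}} (g : U ⟶ V) (u : ↥U)
    (h : Groth.Agent.R2.H45.RelDim.Qlqf U V g u) : g.QuasiFiniteAt u := by
  obtain ⟨W, huW, h1, -⟩ := h
  haveI := h1
  have h2 : (W.ι ≫ g).QuasiFiniteAt (⟨u, huW⟩ : ↥W) := (W.ι ≫ g).quasiFiniteAt _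
  have h3 : g.QuasiFiniteAt (W.ι (⟨u, huW⟩ : ↥W)) :=
    (Scheme.Hom.quasiFiniteAt_comp_iff_of_isOpenImmersion (f := W.ι) (g := g)).1 h2
  exact h3


open Groth.Agent.R2.H45.FinEtQuot Groth.Agent.R2.H59.QPts in
/-- **Finiteness over a neighbourhood of a point of codimension `0`.** -/
theorem exists_open_nhd_finite {X Y : AlgSp.Space S} (f : X ⟶ Y)
    (hqs : AlgSp.IsQuasiSeparatedMor f.hom) (hft : AlgSp.IsFiniteTypeMor f.hom)
    (y : AlgSp.Points Y.obj)
    (hy : AlgSp.HasAt (fun U u => ringKrullDim ↥(U.presheaf.stalk u) = 0) Y.obj y)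
    (hqf : ∀ x : AlgSp.Points X.obj, AlgSp.Points.map f.hom x = y →
      AlgSp.HasAtMor Groth.Agent.R2.H45.RelDim.Qlqf f.hom x) :
    ∃ (Y' X' : AlgSp.Space S) (j : Y' ⟶ Y) (fst : X' ⟶ Y') (snd : X' ⟶ X),
      AlgSp.RepWith @IsOpenImmersion j.hom ∧ y ∈ Set.range (AlgSp.Points.map j.hom) ∧
      IsPullback fst.hom snd.hom j.hom f.hom ∧ AlgSp.IsFiniteMor fst.hom := by
  obtain ⟨hlft, hqc⟩ := hft
  obtain ⟨V, b, v, hVaff, hb, hbv⟩ := Groth.Agent.R2.H46.FiniteSpec.exists_affine_chart Y y
  haveI := hVaff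
  have hdim : ringKrullDim ↥(V.left.presheaf.stalk v) = 0 :=
    (Groth.Agent.R2.H45.HasAt.hasAt_iff_of_chart
      (Groth.Agent.R2.H45.HasAtMor.etInv_ringKrullDim_stalk (· = 0)) b hb v).1
      (by rw [hbv]; exact hy)
  have hv : closure ({v} : Set ↥V.left) ∈ irreducibleComponents ↥V.left :=
    (Groth.Agent.Lib.Helper14.closure_mem_irreducibleComponents_iff v).2
      (Groth.Agent.R2.H25.DenseOpen.eq_of_specializes_of_dim_zero v hdim)
  have hVqc : AlgSp.IsQuasiCompactSp ((AlgSp.yon S).obj V) :=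
    ⟨V, 𝟙 _, AlgSp.repWith_id _ V, AlgSp.repWith_id _ V, inferInstance⟩
  have hPqc : AlgSp.IsQuasiCompactSp (pullback f.hom b) :=
    hqc (AlgSp.IsAlgSpace.yon_obj V) hVqc b _ _ (IsPullback.of_hasPullback f.hom b)
  obtain ⟨U, a, hUaff, hae, has⟩ := Groth.Agent.S10180.exists_affine_chart hPqc
  haveI := hUaff
  obtain ⟨g, hg⟩ := (AlgSp.yon S).map_surjective (a ≫ pullback.snd f.hom b)
  obtain ⟨R, s, t', hK'⟩ := hae.1 a
  obtain ⟨t, rfl⟩ := (AlgSp.yon S).map_surjective t'
  have hqs' : AlgSp.IsQuasiSeparatedMor (pullback.snd f.hom b) :=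
    ((Groth.Agent.S9903.result f).2.1 hqs) V hVaff b _ _ _ (IsPullback.of_hasPullback f.hom b)
  have hfst : AlgSp.RepWith @Etale (pullback.fst f.hom b) :=
    MorphismProperty.of_isPullback (P := AlgSp.RepWith @Etale)
      (IsPullback.of_hasPullback f.hom b).flip hb
  have hae' : AlgSp.RepWith @Etale (a ≫ pullback.fst f.hom b) :=
    (AlgSp.repWith_isMultiplicative (S := S) @Etale).comp_mem _ _ hae hfst
  have comm : (a ≫ pullback.fst f.hom b) ≫ f.hom = (AlgSp.yon S).map g ≫ b := by
    rw [Category.assoc, pullback.condition, ← Category.assoc, ← hg]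
  haveI : LocallyOfFiniteType g.left := hlft _ b g hae' hb comm
  have hfin : (g.left ⁻¹' {v}).Finite := by
    apply finite_preimage_of_quasiFiniteAt
    intro u hu
    apply quasiFiniteAt_of_qlqf
    have hx : AlgSp.Points.map f.hom (AlgSp.Points.ofPt (a ≫ pullback.fst f.hom b) u) = y := by
      rw [AlgSp.Points.map_ofPt, comm, Groth.Agent.S10176.ofPt_map_comp, hu, hbv]
    have h1 := hqf _ hx
    rw [Groth.Agent.R2.H45.RelDim.hasAtMor_qlqf_iff f.hom hlft] at h1
    have h2 := (Groth.Agent.R2.H45.HasAtMor.hasAtMor_iff_of_diagram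
      (Groth.Agent.R2.H45.HasAtMor.etSqInv_fibreDimAt (· ≤ 0)) f.hom _ b g hae' hb comm u).1 h1
    exact (Groth.Agent.R2.H45.RelDim.qlqf_iff_fibreDimAt_le_zero g.left u).2 h2
  obtain ⟨V', hvV', hV'aff, hfinmor⟩ :=
    exists_affineOpen_isFiniteMor f.hom hlft b hb hqs' a hae has s t hK' g hg.symm v hv hfin
  set b' : (AlgSp.yon S).obj (Wov V') ⟶ Y.obj := (AlgSp.yon S).map (ιW V') ≫ b with hb'def
  have hb' : AlgSp.RepWith @Etale b' :=
    (AlgSp.repWith_isMultiplicative (S := S) @Etale).comp_mem _ _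
      ((AlgSp.repWith_yon_map_iff _ _).2 (inferInstanceAs (Etale V'.ι))) hb
  have hY' : AlgSp.IsAlgSpace (img b') :=
    Groth.Agent.Lib.Helper12.OpenSub.isAlgSpace_obj Y.property
      (Groth.Agent.S10176.isOpenMap_ofPt b' hb').isOpen_range
  have hX' : AlgSp.IsAlgSpace (pullback f.hom (imgι b')) :=
    Groth.Agent.S9874.isAlgSpace_of_isPullback Y.property.diag X.property hY'
      (IsPullback.of_hasPullback f.hom (imgι b'))
  refine ⟨⟨img b', hY'⟩, ⟨pullback f.hom (imgι b'), hX'⟩, ObjectProperty.homMk (imgι b'),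
    ObjectProperty.homMk (pullback.snd f.hom (imgι b')),
    ObjectProperty.homMk (pullback.fst f.hom (imgι b')), repWith_imgι hb', ?_,
    (IsPullback.of_hasPullback f.hom (imgι b')).flip, ?_⟩
  · change y ∈ Set.range (AlgSp.Points.map (imgι b'))
    rw [range_map_imgι]
    refine ⟨(⟨v, hvV'⟩ : ↥V'), ?_⟩
    rw [hb'def, Groth.Agent.S10176.ofPt_map_comp]
    exact hbv
  · change AlgSp.IsFiniteMor (pullback.snd f.hom (imgι b'))
    haveI : Sheaf.IsLocallySurjective (toImg b') :=
      Groth.Agent.R2.H44.LimIso.isLocallySurjective_of_etale_surjective _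
        (repWith_etale_toImg hb') (repWith_surjective_toImg hb')
    have hcond : pullback.fst f.hom b' ≫ f.hom =
        (pullback.snd f.hom b' ≫ toImg b') ≫ imgι b' := by
      rw [Category.assoc, toImg_ι, pullback.condition]
    have sq : IsPullback (pullback.lift (pullback.fst f.hom b') (pullback.snd f.hom b' ≫ toImg b')
        hcond) (pullback.snd f.hom b') (pullback.snd f.hom (imgι b')) (toImg b') := by
      refine IsPullback.of_right ?_ (pullback.lift_snd _ _ _)
        (IsPullback.of_hasPullback f.hom (imgι b'))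
      rw [pullback.lift_fst, toImg_ι]
      exact IsPullback.of_hasPullback f.hom b'
    exact Groth.Agent.R2.H59.AffDesc.isFiniteMor_of_locallySurjective _ (toImg b') _
      (pullback.snd f.hom b') sq hfinmor


end Groth.Agent.R2.H46.GenFin
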