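import Mathlib
import Groth.Agent.S2080
import Groth.Agent.Lib.Helper14IrrComp
import Groth.Agent.Lib.Helper4GenFinite5
import Groth.Agent.Lib.Helper4GenFinite3
import Groth.Agent.R2.H46GenFin
import Groth.Agent.R2.H46DecentFin
import Groth.Agent.R2.H25CodimZero
import Groth.Agent.R2.H25GenFinSp

set_option autoImplicit false
set_option linter.style.haveILetI false
universe u
open CategoryTheory CategoryTheory.Limits AlgebraicGeometry Topology TopologicalSpace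

namespace Groth.Agent.R2.H46.GF2

/-- a point without proper generizations ("generic point of an irreducible component"). -/
def Gen {α : Type*} [TopologicalSpace α] (v : α) : Prop := ∀ v' : α, v' ⤳ v → v' = v

section Top

variable {α β : Type*} [TopologicalSpace α] [TopologicalSpace β]

lemma gen_iff_closure_mem [T0Space α] [QuasiSober α] (v : α) :
    Gen v ↔ closure ({v} : Set α) ∈ irreducibleComponents α :=
  (Groth.Agent.Lib.Helper14.closure_mem_irreducibleComponents_iff v).symm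

lemma gen_iff_of_isOpenEmbedding {ι : β → α} (hι : IsOpenEmbedding ι) (y : β) :
    Gen y ↔ Gen (ι y) := by
  constructor
  · intro h v' hv'
    obtain ⟨y', rfl⟩ : v' ∈ Set.range ι := hv'.mem_open hι.isOpen_range ⟨y, rfl⟩
    rw [h y' (hι.isInducing.specializes_iff.1 hv')]
  · intro h y' hy'
    exact hι.injective (h (ι y') (hι.isInducing.specializes_iff.2 hy'))

/-- the union of the closures of the generic points other than `v`. -/
def others (v : α) : Set α := ⋃ v' ∈ {v' : α | Gen v' ∧ v' ≠ v}, closure {v'}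

lemma isClosed_others (hfin : {v : α | Gen v}.Finite) (v : α) : IsClosed (others v) :=
  (hfin.subset (fun _ h => h.1)).isClosed_biUnion (fun _ _ => isClosed_closure)

lemma notMem_others {v : α} (hv : Gen v) : v ∉ others v := by
  intro h
  simp only [others, Set.mem_iUnion] at h
  obtain ⟨v', ⟨-, hne⟩, hv'⟩ := h
  exact hne (hv v' (specializes_iff_mem_closure.2 hv'))

lemma eq_of_gen_of_notMem_others {v η : α} (hη : Gen η) (h : η ∉ others v) : η = v := by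
  by_contra hne
  apply h
  simp only [others, Set.mem_iUnion]
  exact ⟨η, ⟨hη, hne⟩, subset_closure rfl⟩

end Top

section Sch

lemma gen_iff_dim {U : Scheme.{u}} (x : ↥U) :
    Gen x ↔ ringKrullDim ↥(U.presheaf.stalk x) = 0 :=
  ⟨fun h => Groth.Agent.R2.H25.CodimZero.dim_zero_of_maximal x h,
    fun h => Groth.Agent.R2.H25.DenseOpen.eq_of_specializes_of_dim_zero x h⟩

lemma gen_map_etale {W U : Scheme.{u}} (φ : W ⟶ U) [Etale φ] (w : ↥W) : Gen w ↔ Gen (φ w) := by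
  rw [gen_iff_dim, gen_iff_dim]
  exact Groth.Agent.R2.H45.HasAtMor.etInv_ringKrullDim_stalk (· = 0) φ w

lemma exists_gen_specializes {Y : Scheme.{u}} (y : ↥Y) : ∃ η : ↥Y, Gen η ∧ η ⤳ y := by
  obtain ⟨η, ⟨T, hT, hη⟩, hηy⟩ := Groth.Agent.R2.H46.DecentFin.exists_generic_specializes y
  refine ⟨η, ?_, hηy⟩
  rw [gen_iff_closure_mem, hη.def]
  exact hT

/-- an open containing all the generic points is dense. -/
lemma dense_of_gen_mem {Y : Scheme.{u}} (O : Set ↥Y) (hO : ∀ v : ↥Y, Gen v → v ∈ O) : Dense O := by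
  rw [dense_iff_inter_open]
  rintro B hB ⟨y, hy⟩
  obtain ⟨η, hη, hηy⟩ := exists_gen_specializes y
  exact ⟨η, hηy.mem_open hB hy, hO η hη⟩

/-- **a scheme with finitely many generic points has an affine open containing them all.** -/
theorem exists_isAffineOpen_gen_mem {Y : Scheme.{u}} (hfin : {v : ↥Y | Gen v}.Finite) :
    ∃ O : Y.Opens, IsAffineOpen O ∧ ∀ v : ↥Y, Gen v → v ∈ O := by
  haveI : Finite {v : ↥Y // Gen v} := hfin.to_subtype
  have key : ∀ v : {v : ↥Y // Gen v}, ∃ A : Y.Opens, IsAffineOpen A ∧ v.1 ∈ A ∧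
      (A : Set ↥Y) ⊆ (others v.1)ᶜ := by
    intro v
    obtain ⟨_, ⟨A, hA, rfl⟩, hvA, hAO⟩ := Y.isBasis_affineOpens.exists_subset_of_mem_open
      (show v.1 ∈ (others v.1)ᶜ from notMem_others v.2) (isClosed_others hfin v.1).isOpen_compl
    exact ⟨A, hA, hvA, hAO⟩
  choose A hA hvA hAO using key
  refine ⟨⨆ v, A v, IsAffineOpen.iSup_of_disjoint hA ?_, ?_⟩
  · intro v w hvw
    change Disjoint (A v) (A w)
    rw [← TopologicalSpace.Opens.coe_disjoint, Set.disjoint_left]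
    intro z hzv hzw
    obtain ⟨η, hη, hηz⟩ := exists_gen_specializes z
    have h1 : η = v.1 := by
      apply eq_of_gen_of_notMem_others hη
      intro h
      exact hAO v (hηz.mem_open (A v).isOpen hzv) h
    have h2 : η = w.1 := by
      apply eq_of_gen_of_notMem_others hη
      intro h
      exact hAO w (hηz.mem_open (A w).isOpen hzw) h
    exact hvw (Subtype.ext (h1.symm.trans h2))
  · intro v hv
    rw [TopologicalSpace.Opens.mem_iSup]
    exact ⟨⟨v, hv⟩, hvA ⟨v, hv⟩⟩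

/-- **prime avoidance**: in an affine scheme with finitely many generic points, an open containing
all the generic points contains a basic open containing all the generic points. -/
theorem exists_basicOpen_le {V : Scheme.{u}} [IsAffine V] (hfin : {v : ↥V | Gen v}.Finite)
    (O : V.Opens) (hO : ∀ v : ↥V, Gen v → v ∈ O) :
    ∃ r : Γ(V, ⊤), V.basicOpen r ≤ O ∧ ∀ v : ↥V, Gen v → v ∈ V.basicOpen r := by
  classical
  rcases isEmpty_or_nonempty ↥V with hemp | ⟨⟨v₀⟩⟩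
  · exact ⟨0, by rw [Scheme.basicOpen_zero]; exact bot_le, fun v => (hemp.false v).elim⟩
  let I : Ideal Γ(V, ⊤) :=
    { carrier := {f | V.basicOpen f ≤ O}
      add_mem' := fun {f g} hf hg => (V.basicOpen_add_le f g).trans (sup_le hf hg)
      zero_mem' := by
        show V.basicOpen (0 : Γ(V, ⊤)) ≤ O
        rw [Scheme.basicOpen_zero]; exact bot_le
      smul_mem' := fun c f hf => by
        show V.basicOpen (c * f) ≤ O
        rw [Scheme.basicOpen_mul]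
        exact inf_le_right.trans hf }
  have hV := isAffineOpen_top V
  let 𝔭 : ↥V → Ideal Γ(V, ⊤) := fun v => (hV.primeIdealOf ⟨v, trivial⟩).asIdeal
  have hmem : ∀ (v : ↥V) (f : Γ(V, ⊤)), v ∈ V.basicOpen f ↔ f ∉ 𝔭 v := fun v f =>
    Groth.Agent.Lib.Helper4.GenFinite.mem_basicOpen_iff_not_mem_primeIdealOf hV v trivial f
  have hnot : ¬ ((I : Set Γ(V, ⊤)) ⊆ ⋃ v ∈ (↑hfin.toFinset : Set ↥V), 𝔭 v) := by
    rw [Ideal.subset_union_prime v₀ v₀
      (fun v _ _ _ => (hV.primeIdealOf ⟨v, trivial⟩).isPrime)]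
    rintro ⟨v, hv, hIv⟩
    have hvg : Gen v := by simpa using hv
    obtain ⟨_, ⟨_, ⟨f, rfl⟩, rfl⟩, hvf, hfO⟩ :=
      (isBasis_basicOpen V).exists_subset_of_mem_open (hO v hvg) O.isOpen
    have hfI : f ∈ I := hfO
    exact (hmem v f).1 hvf (hIv hfI)
  rw [Set.not_subset] at hnot
  obtain ⟨r, hrI, hr⟩ := hnot
  refine ⟨r, hrI, fun v hv => ?_⟩
  rw [hmem]
  intro h
  apply hr
  simp only [Set.mem_iUnion]
  exact ⟨v, by simpa using hv, h⟩

/-- a quasi-compact morphism locally of finite type has finite fibre over a point all of whose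
preimages are generic. -/
lemma finite_fibre_of_gen {U V : Scheme.{u}} (g : U ⟶ V) [LocallyOfFiniteType g] [QuasiCompact g]
    (v : ↥V) (h : ∀ u : ↥U, g u = v → Gen u) : (g ⁻¹' {v}).Finite := by
  apply Groth.Agent.R2.H46.GenFin.finite_preimage_of_quasiFiniteAt
  intro u hu
  apply Groth.Agent.Lib.Helper4.GenFinite.quasiFiniteAt_of_forall_fiber_maximal
  intro z hz z' hz'
  exact h z (hz.trans hu) z' hz'

/-- **generic finiteness for separated morphisms** (local form): a separated morphism locally of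
finite type, whose generic points map to generic points, with finite fibre over a generic point
`v` of an affine scheme with finitely many generic points, is finite over a neighbourhood of
`v`. -/
theorem exists_opens_isFinite_of_isSeparated {R V : Scheme.{u}} (h : R ⟶ V)
    [LocallyOfFiniteType h] [IsSeparated h] [IsAffine V] (hfin : {v : ↥V | Gen v}.Finite)
    (v : ↥V) (hv : Gen v) (hfib : (h ⁻¹' {v}).Finite) (hgen : ∀ r : ↥R, Gen r → Gen (h r)) :
    ∃ V' : V.Opens, v ∈ V' ∧ IsFinite (h ∣_ V') := by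
  obtain ⟨R', hR'c, hR'⟩ := Groth.Agent.R2.H25.GenFinSp.exists_compact_open_of_finite R _ hfib
  haveI : CompactSpace ↥(↑R' : Scheme.{u}) := isCompact_iff_compactSpace.1 hR'c
  set h' : (↑R' : Scheme.{u}) ⟶ V := R'.ι ≫ h with hh'
  haveI : QuasiCompact h' := (quasiCompact_iff_compactSpace h').2 inferInstance
  have hfib' : (h' ⁻¹' {v}).Finite := by
    refine (hfib.preimage R'.ι.isOpenEmbedding.injective.injOn).subset ?_
    intro x hx
    show h (R'.ι x) = v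
    rw [← Scheme.Hom.comp_apply]
    exact hx
  obtain ⟨V₁, -, hvV₁, hfin₁⟩ :=
    (Groth.Agent.S2080.result h' v ((gen_iff_closure_mem v).1 hv)).1 hfib'
  haveI := hfin₁
  -- the inclusion of `R' ∩ h⁻¹ V₁` into `h⁻¹ V₁` is finite, hence closed
  have hle : h' ⁻¹ᵁ V₁ ≤ R'.ι ⁻¹ᵁ (h ⁻¹ᵁ V₁) := by
    rw [hh', Scheme.Hom.comp_preimage]
  let k : (↑(h' ⁻¹ᵁ V₁) : Scheme.{u}) ⟶ ↑(h ⁻¹ᵁ V₁) := R'.ι.resLE (h ⁻¹ᵁ V₁) (h' ⁻¹ᵁ V₁) hle
  have hk : k ≫ (h ∣_ V₁) = h' ∣_ V₁ := by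
    rw [← cancel_mono V₁.ι, Category.assoc, morphismRestrict_ι, morphismRestrict_ι,
      ← Category.assoc, Scheme.Hom.resLE_comp_ι, Category.assoc]
  haveI : IsFinite (k ≫ (h ∣_ V₁)) := by rw [hk]; infer_instance
  haveI : IsFinite k := IsFinite.of_comp k (h ∣_ V₁)
  have hkι : ∀ z, ((h ⁻¹ᵁ V₁).ι (k z) : ↥R) = R'.ι ((h' ⁻¹ᵁ V₁).ι z) := by
    intro z
    rw [← Scheme.Hom.comp_apply, ← Scheme.Hom.comp_apply, Scheme.Hom.resLE_comp_ι]
  have hcl : IsClosed (Set.range k) := by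
    rw [← Set.image_univ]
    exact k.isClosedMap _ isClosed_univ
  -- the open set of points of `h⁻¹ V₁` outside `R'`
  have hWeq : {r : ↥R | h r ∈ V₁ ∧ r ∉ R'} = (h ⁻¹ᵁ V₁).ι '' (Set.range k)ᶜ := by
    ext r
    constructor
    · rintro ⟨hr1, hr2⟩
      refine ⟨⟨r, hr1⟩, ?_, rfl⟩
      rintro ⟨z, hz⟩
      apply hr2
      have := hkι z
      rw [hz] at this
      change r = _ at this
      rw [this]
      exact ((h' ⁻¹ᵁ V₁).ι z).2
    · rintro ⟨x, hx, rfl⟩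
      refine ⟨x.2, fun hr => hx ?_⟩
      have hz : (⟨(h ⁻¹ᵁ V₁).ι x, hr⟩ : ↥R') ∈ h' ⁻¹ᵁ V₁ := x.2
      refine ⟨⟨⟨(h ⁻¹ᵁ V₁).ι x, hr⟩, hz⟩, ?_⟩
      apply (h ⁻¹ᵁ V₁).ι.isOpenEmbedding.injective
      rw [hkι]
      rfl
  have hWo : IsOpen {r : ↥R | h r ∈ V₁ ∧ r ∉ R'} := by
    rw [hWeq]
    exact (h ⁻¹ᵁ V₁).ι.isOpenEmbedding.isOpenMap _ hcl.isOpen_compl
  -- shrink
  let V₂ : V.Opens := V₁ ⊓ ⟨(others v)ᶜ, (isClosed_others hfin v).isOpen_compl⟩
  have hvV₂ : v ∈ V₂ := ⟨hvV₁, notMem_others hv⟩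
  have hclaim : ∀ r : ↥R, h r ∈ V₂ → r ∈ R' := by
    intro r hr
    by_contra hrR'
    obtain ⟨ζ, hζ, hζr⟩ := exists_gen_specializes r
    have h1 : ζ ∈ {r : ↥R | h r ∈ V₁ ∧ r ∉ R'} := hζr.mem_open hWo ⟨hr.1, hrR'⟩
    have h2 : h ζ ∈ V₂ := (hζr.map h.continuous).mem_open V₂.isOpen hr
    have h3 : h ζ = v := eq_of_gen_of_notMem_others (hgen ζ hζ) h2.2
    exact h1.2 (hR' h3)
  refine ⟨V₂, hvV₂, ?_⟩
  have hfin₂ : IsFinite (h' ∣_ V₂) :=
    Groth.Agent.R2.H25.CodimZero.isFinite_restrict_of_le h' hfin₁ inf_le_left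
  have hle₂ : h' ⁻¹ᵁ V₂ ≤ R'.ι ⁻¹ᵁ (h ⁻¹ᵁ V₂) := by
    rw [hh', Scheme.Hom.comp_preimage]
  let k₂ : (↑(h' ⁻¹ᵁ V₂) : Scheme.{u}) ⟶ ↑(h ⁻¹ᵁ V₂) :=
    R'.ι.resLE (h ⁻¹ᵁ V₂) (h' ⁻¹ᵁ V₂) hle₂
  have hk₂ : k₂ ≫ (h ∣_ V₂) = h' ∣_ V₂ := by
    rw [← cancel_mono V₂.ι, Category.assoc, morphismRestrict_ι, morphismRestrict_ι,
      ← Category.assoc, Scheme.Hom.resLE_comp_ι, Category.assoc]
  haveI : IsOpenImmersion (k₂ ≫ (h ⁻¹ᵁ V₂).ι) := by
    rw [Scheme.Hom.resLE_comp_ι]; infer_instance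
  haveI : IsOpenImmersion k₂ := IsOpenImmersion.of_comp k₂ (h ⁻¹ᵁ V₂).ι
  haveI : Surjective k₂ := by
    constructor
    intro x
    have hx : (h ⁻¹ᵁ V₂).ι x ∈ R' := hclaim _ x.2
    have hz : (⟨(h ⁻¹ᵁ V₂).ι x, hx⟩ : ↥R') ∈ h' ⁻¹ᵁ V₂ := x.2
    refine ⟨⟨⟨(h ⁻¹ᵁ V₂).ι x, hx⟩, hz⟩, ?_⟩
    apply (h ⁻¹ᵁ V₂).ι.isOpenEmbedding.injective
    rw [← Scheme.Hom.comp_apply, Scheme.Hom.resLE_comp_ι]
    rfl
  haveI : IsIso k₂ := (isIso_iff_isOpenImmersion_and_surjective k₂).2 ⟨inferInstance, inferInstance⟩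
  have : h ∣_ V₂ = inv k₂ ≫ (h' ∣_ V₂) := by rw [← hk₂, IsIso.inv_hom_id_assoc]
  rw [this]
  infer_instance

/-- **generic finiteness for separated morphisms** (global form). -/
theorem exists_basicOpen_isFinite_of_isSeparated {R V : Scheme.{u}} (h : R ⟶ V)
    [LocallyOfFiniteType h] [IsSeparated h] [IsAffine V] (hfin : {v : ↥V | Gen v}.Finite)
    (hfib : ∀ v : ↥V, Gen v → (h ⁻¹' {v}).Finite) (hgen : ∀ r : ↥R, Gen r → Gen (h r)) :
    ∃ r : Γ(V, ⊤), (∀ v : ↥V, Gen v → v ∈ V.basicOpen r) ∧ IsFinite (h ∣_ V.basicOpen r) := by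
  have key : ∀ v : {v : ↥V // Gen v}, ∃ V' : V.Opens, v.1 ∈ V' ∧ IsFinite (h ∣_ V') := fun v =>
    exists_opens_isFinite_of_isSeparated h hfin v.1 v.2 (hfib v.1 v.2) hgen
  choose V' hvV' hV' using key
  obtain ⟨r, hr, hgr⟩ := exists_basicOpen_le hfin (⨆ v, V' v) (fun v hv => by
    rw [TopologicalSpace.Opens.mem_iSup]
    exact ⟨⟨v, hv⟩, hvV' ⟨v, hv⟩⟩)
  refine ⟨r, hgr, ?_⟩
  exact Groth.Agent.R2.H25.CodimZero.isFinite_restrict_of_le h
    (Groth.Agent.Lib.Helper4.GenFinite.isFinite_morphismRestrict_iSup h _ hV') hr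

/-- **generic finiteness** (global form, quasi-compact quasi-separated case). -/
theorem exists_basicOpen_isFinite_of_gen {U V : Scheme.{u}} (g : U ⟶ V)
    [LocallyOfFiniteType g] [QuasiCompact g] [QuasiSeparated g] [IsAffine V]
    (hfin : {v : ↥V | Gen v}.Finite) (hα : ∀ u : ↥U, Gen (g u) → Gen u) :
    ∃ r : Γ(V, ⊤), (∀ v : ↥V, Gen v → v ∈ V.basicOpen r) ∧ IsFinite (g ∣_ V.basicOpen r) := by
  have key : ∀ v : {v : ↥V // Gen v}, ∃ V' : V.Opens, v.1 ∈ V' ∧ IsFinite (g ∣_ V') := by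
    intro v
    obtain ⟨V', -, hv, hV'⟩ := (Groth.Agent.S2080.result g v.1 ((gen_iff_closure_mem v.1).1 v.2)).1
      (finite_fibre_of_gen g v.1 (fun u hu => hα u (by rw [hu]; exact v.2)))
    exact ⟨V', hv, hV'⟩
  choose V' hvV' hV' using key
  obtain ⟨r, hr, hgr⟩ := exists_basicOpen_le hfin (⨆ v, V' v) (fun v hv => by
    rw [TopologicalSpace.Opens.mem_iSup]
    exact ⟨⟨v, hv⟩, hvV' ⟨v, hv⟩⟩)
  refine ⟨r, hgr, ?_⟩
  exact Groth.Agent.R2.H25.CodimZero.isFinite_restrict_of_le g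
    (Groth.Agent.Lib.Helper4.GenFinite.isFinite_morphismRestrict_iSup g _ hV') hr

end Sch

end Groth.Agent.R2.H46.GF2
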