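import Groth.Agent.R2.H46GF2Sp2

set_option autoImplicit false
set_option linter.style.haveILetI false
universe u
open CategoryTheory CategoryTheory.Limits AlgebraicGeometry Topology TopologicalSpace

namespace Groth.Agent.R2.H46.GF2

open Groth.Agent.R2.H46.GenFin Groth.Agent.R2.H45.FinEtQuot Groth.Agent.R2.H59.QPts
  Groth.Agent.Lib.Helper12

variable {S : Scheme.{u}}

/-- the comparison map of base changes induced by a map over the base. -/
lemma isPullback_lift_of_comp {P'' P B C : AlgSp.Sp S} (p : P ⟶ B) (j'' : P'' ⟶ P) (m : C ⟶ B) :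
    IsPullback (pullback.lift (pullback.fst (j'' ≫ p) m ≫ j'') (pullback.snd (j'' ≫ p) m)
        (by rw [Category.assoc, pullback.condition]))
      (pullback.fst (j'' ≫ p) m) (pullback.fst p m) j'' := by
  refine IsPullback.of_right ?_ (pullback.lift_fst _ _ _) (IsPullback.of_hasPullback p m).flip
  rw [pullback.lift_snd]
  exact (IsPullback.of_hasPullback (j'' ≫ p) m).flip

/-- **generic finiteness for algebraic spaces, separated case.** -/
theorem exists_dense_open_finite_of_separated {X Y : AlgSp.Space S} (f : X ⟶ Y)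
    (hf : AlgSp.LocP @LocallyOfFiniteType f.hom) (hY : AlgSp.IsDecent Y.obj)
    (hX0 : {x : AlgSp.Points X.obj | Cod0 X.obj x}.Finite)
    (hY0 : {y : AlgSp.Points Y.obj | Cod0 Y.obj y}.Finite)
    (hpre : ∀ x : AlgSp.Points X.obj, Cod0 X.obj x ↔ Cod0 Y.obj (AlgSp.Points.map f.hom x))
    (hsep : AlgSp.IsSeparatedMor f.hom) :
    ∃ (V X' : AlgSp.Space S) (j : V ⟶ Y) (fst : X' ⟶ V) (snd : X' ⟶ X),
      AlgSp.RepWith @IsOpenImmersion j.hom ∧
      Dense (Set.range (AlgSp.Points.map j.hom)) ∧ IsPullback fst.hom snd.hom j.hom f.hom ∧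
      AlgSp.IsFiniteMor fst.hom := by
  obtain ⟨V, b, hVaff, hb, hVfin, hdense⟩ := exists_affine_open_chart Y hY hY0
  haveI := hVaff
  have hbe : AlgSp.RepWith @Etale b := repWith_etale_of_openImm hb
  -- the base change `P ⟶ h_V`
  have hP : AlgSp.IsAlgSpace (pullback f.hom b) :=
    Groth.Agent.S9874.isAlgSpace_of_isPullback Y.property.diag X.property
      (AlgSp.IsAlgSpace.yon_obj V) (IsPullback.of_hasPullback f.hom b)
  have hπ : AlgSp.RepWith @IsOpenImmersion (pullback.fst f.hom b) :=
    MorphismProperty.of_isPullback (P := AlgSp.RepWith @IsOpenImmersion)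
      (IsPullback.of_hasPullback f.hom b).flip hb
  have hπe : AlgSp.RepWith @Etale (pullback.fst f.hom b) := repWith_etale_of_openImm hπ
  have hpsep : AlgSp.IsSeparatedMor (pullback.snd f.hom b) :=
    Groth.Agent.Lib.Helper12.Proper.isSeparatedMor_baseChange (IsPullback.of_hasPullback f.hom b) hsep
  let pv : AlgSp.Points (pullback f.hom b) → ↥V.left := fun x =>
    (AlgSp.Points.schemeHomeo V).symm (AlgSp.Points.map (pullback.snd f.hom b) x)
  have hkey : ∀ x : AlgSp.Points (pullback f.hom b),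
      AlgSp.Points.map f.hom (AlgSp.Points.map (pullback.fst f.hom b) x) =
        AlgSp.Points.ofPt b (pv x) := by
    intro x
    rw [← AlgSp.Points.map_comp, pullback.condition, AlgSp.Points.map_comp,
      AlgSp.Points.ofPt_eq_map_ofScheme]
    congr 1
    exact ((AlgSp.Points.schemeHomeo V).apply_symm_apply _).symm
  have hβ : ∀ x : AlgSp.Points (pullback f.hom b), Cod0 (pullback f.hom b) x → Gen (pv x) := by
    intro x hx
    have h1 := (hpre _).1 ((cod0_map_iff hP _ hπe x).1 hx)
    rw [hkey] at h1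
    exact (cod0_ofPt_iff b hbe _).1 h1
  have hΦ : {x : AlgSp.Points (pullback f.hom b) | Gen (pv x)}.Finite := by
    refine (hX0.preimage (LargestOpen.injective_map_of_open _ hπ).injOn).subset ?_
    intro x hx
    apply (hpre _).2
    rw [hkey]
    exact (cod0_ofPt_iff b hbe _).2 hx
  -- a quasi-compact open subspace containing the points over the generic points
  obtain ⟨W, c, hWc, hce, hΦc⟩ := exists_qc_chart hP _ hΦ
  have hj'' : AlgSp.RepWith @IsOpenImmersion (imgι c) := repWith_imgι hce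
  have hP''qc : AlgSp.IsQuasiCompactSp (img c) :=
    ⟨W, toImg c, repWith_etale_toImg hce, repWith_surjective_toImg hce, hWc⟩
  obtain ⟨U, a'', hUaff, hae'', has''⟩ := Groth.Agent.S10180.exists_affine_chart hP''qc
  haveI := hUaff
  set p'' : img c ⟶ (AlgSp.yon S).obj V := imgι c ≫ pullback.snd f.hom b with hp''
  have hlft'' : AlgSp.LocP @LocallyOfFiniteType p'' :=
    locP_comp_snd f.hom hf b hbe (imgι c) (repWith_etale_of_openImm hj'')
  haveI : IsIso (pullback.fst p'' (𝟙 ((AlgSp.yon S).obj V))) :=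
    (IsPullback.of_hasPullback p'' (𝟙 _)).isIso_fst_of_isIso
  have hae : AlgSp.RepWith @Etale (a'' ≫ inv (pullback.fst p'' (𝟙 _))) :=
    (MorphismProperty.cancel_right_of_respectsIso (AlgSp.RepWith @Etale) a'' _).2 hae''
  have has : AlgSp.RepWith @Surjective (a'' ≫ inv (pullback.fst p'' (𝟙 _))) :=
    (MorphismProperty.cancel_right_of_respectsIso (AlgSp.RepWith @Surjective) a'' _).2 has''
  obtain ⟨g, hg⟩ := (AlgSp.yon S).map_surjective (a'' ≫ p'')
  have hg' : (a'' ≫ inv (pullback.fst p'' (𝟙 _))) ≫ pullback.snd p'' (𝟙 _) =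
      (AlgSp.yon S).map g := by
    have h1 : inv (pullback.fst p'' (𝟙 _)) ≫ pullback.snd p'' (𝟙 _) = p'' := by
      rw [IsIso.inv_comp_eq, pullback.condition, Category.comp_id]
    rw [Category.assoc, h1, hg]
  have hchart : AlgSp.RepWith @Etale (a'' ≫ imgι c ≫ pullback.fst f.hom b) :=
    repWith_etale_comp hae'' (repWith_etale_comp (repWith_etale_of_openImm hj'') hπe)
  have hcomm : (a'' ≫ imgι c ≫ pullback.fst f.hom b) ≫ f.hom = (AlgSp.yon S).map g ≫ b := by
    rw [Category.assoc, Category.assoc, pullback.condition, ← Category.assoc (imgι c),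
      ← Category.assoc a'', hg]
  have hiff : ∀ u : ↥U.left, Gen u ↔ Gen (g.left u) :=
    gen_iff_of_chart f.hom hpre _ hchart b hbe g hcomm
  obtain ⟨V', ι, hV'aff, hι, hgen, hfin''⟩ := exists_open_isFiniteMor p'' hlft'' (𝟙 _)
    (AlgSp.repWith_id _ V) _ hae has g hg' hVfin (fun u => (hiff u).2) (fun u => (hiff u).1)
  haveI := hι
  haveI := hV'aff
  have hfin''' : AlgSp.IsFiniteMor (pullback.snd p'' ((AlgSp.yon S).map ι)) :=
    isFiniteMor_snd_congr p'' (Category.comp_id _).symm hfin''
  -- the finite scheme representing the base change of the open subspace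
  obtain ⟨T, i, t₀, sqT, -, hi⟩ := hfin''' hV'aff (𝟙 _)
  haveI := hi
  haveI : IsIso t₀ := sqT.isIso_fst_of_isIso
  have hκsq := isPullback_lift_of_comp (pullback.snd f.hom b) (imgι c) ((AlgSp.yon S).map ι)
  set κ : pullback p'' ((AlgSp.yon S).map ι) ⟶
      pullback (pullback.snd f.hom b) ((AlgSp.yon S).map ι) :=
    pullback.lift (pullback.fst p'' ((AlgSp.yon S).map ι) ≫ imgι c)
      (pullback.snd p'' ((AlgSp.yon S).map ι)) (by rw [Category.assoc, pullback.condition])
    with hκdef
  have hκ : AlgSp.RepWith @IsOpenImmersion κ :=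
    MorphismProperty.of_isPullback (P := AlgSp.RepWith @IsOpenImmersion) hκsq.flip hj''
  have hj : AlgSp.RepWith @IsOpenImmersion (t₀ ≫ κ) :=
    (MorphismProperty.cancel_left_of_respectsIso (AlgSp.RepWith @IsOpenImmersion) t₀ κ).2 hκ
  have hq : (t₀ ≫ κ) ≫ pullback.snd (pullback.snd f.hom b) ((AlgSp.yon S).map ι) =
      (AlgSp.yon S).map i := by
    rw [Category.assoc, hκdef, pullback.lift_snd, sqT.w, Category.comp_id]
  have hQsep : AlgSp.IsSeparatedMor (pullback.snd (pullback.snd f.hom b) ((AlgSp.yon S).map ι)) :=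
    Groth.Agent.Lib.Helper12.Proper.isSeparatedMor_baseChange (IsPullback.of_hasPullback _ _) hpsep
  have hjc := repWith_isClosedImmersion_of_isFinite _ hQsep (t₀ ≫ κ) hj i hq
  have hQ : AlgSp.IsAlgSpace (pullback (pullback.snd f.hom b) ((AlgSp.yon S).map ι)) :=
    Groth.Agent.S9874.isAlgSpace_of_isPullback (AlgSp.IsAlgSpace.yon_obj V).diag hP
      (AlgSp.IsAlgSpace.yon_obj V') (IsPullback.of_hasPullback _ _)
  have hπQ : AlgSp.RepWith @Etale
      (pullback.fst (pullback.snd f.hom b) ((AlgSp.yon S).map ι)) :=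
    MorphismProperty.of_isPullback (P := AlgSp.RepWith @Etale)
      (IsPullback.of_hasPullback _ _).flip
      ((AlgSp.repWith_yon_map_iff _ _).2 (inferInstance : Etale ι.left))
  have hrange : Set.range (AlgSp.Points.map (t₀ ≫ κ)) = Set.univ := by
    refine eq_univ_of_isClosed_of_cod0 hQ ?_ ?_
    · rw [← Set.image_univ]
      exact Groth.Agent.Lib.Helper12.Proper.isClosedMap_of_repWith_isClosedImmersion _ hjc _ isClosed_univ
    · intro x hx
      have h1 : Gen (pv (AlgSp.Points.map (pullback.fst _ _) x)) :=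
        hβ _ ((cod0_map_iff hQ _ hπQ x).1 hx)
      have hw' : AlgSp.Points.map (pullback.fst _ _) x ∈
          Set.range (AlgSp.Points.map (imgι c)) := by
        rw [range_map_imgι]; exact hΦc h1
      obtain ⟨x'', hx''⟩ := hw'
      obtain ⟨y, hy, -⟩ := Groth.Agent.S10175.exists_point_of_isPullback hκsq x x'' hx''.symm
      refine ⟨AlgSp.Points.map (inv t₀) y, ?_⟩
      rw [← AlgSp.Points.map_comp, IsIso.inv_hom_id_assoc]
      exact hy
  obtain ⟨e, he⟩ := OpenSub.iso_of_range_eq (t₀ ≫ κ) hj (𝟙 _)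
    ((AlgSp.repWith_isMultiplicative (S := S) @IsOpenImmersion).id_mem _) (by
      rw [hrange]
      symm
      rw [Set.range_eq_univ]
      intro x
      exact ⟨x, AlgSp.Points.map_id x⟩)
  rw [Category.comp_id] at he
  have hfinQ : AlgSp.IsFiniteMor
      (pullback.snd (pullback.snd f.hom b) ((AlgSp.yon S).map ι)) := by
    rw [← isFiniteMor_iso_comp_iff e, he, hq]
    exact Groth.Agent.R2.H93.SplitQf.isFiniteMor_yon_map i
  exact exists_of_isFiniteMor f b hb hdense ι hι hgen (isFiniteMor_snd_paste f.hom b _ hfinQ)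

end Groth.Agent.R2.H46.GF2
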