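import Mathlib
import Groth.Agent.S9905
import Groth.Agent.S9912
import Groth.Agent.S9922
import Groth.Agent.S9948
import Groth.Agent.S9874
import Groth.Agent.S10175
import Groth.Agent.R2.H45GrpLocus
import Groth.Agent.Lib.Helper12Proper
import Groth.Agent.Lib.Helper12OpenSub2

/-!
# helper93: proper + locally quasi-finite ⇒ finite for algebraic spaces (given representability), and
finiteness of a proper morphism over a neighbourhood of a point with quasi-finite fibre.
-/

set_option autoImplicit false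
set_option linter.style.haveILetI false
universe u

namespace Groth.Agent.R2.H93.ProperLqf

open AlgebraicGeometry CategoryTheory CategoryTheory.Limits AlgSp

variable {S : Scheme.{u}}

/-- a representable proper morphism of algebraic spaces is representable by proper morphisms. -/
theorem repWith_isProper {X Y : AlgSp.Space S} (f : X ⟶ Y) (hrep : AlgSp.Representable f.hom)
    (hp : AlgSp.IsProperMor f.hom) : AlgSp.RepWith @IsProper f.hom := by
  have h1 := ((Groth.Agent.S9905.result f hrep).1).1 hp.1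
  have h2 := (Groth.Agent.S9948.result @LocallyOfFiniteType (Or.inl rfl) f hrep).1 hp.2.1.1
  have h3 := (Groth.Agent.S9912.result f hrep).2 hp.2.1.2
  have h4 := (Groth.Agent.S9922.result f hrep).2 hp.2.2
  refine ⟨hrep, fun T W c' c κ sq => ?_⟩
  haveI : IsSeparated κ.left := h1.2 c' c κ sq
  haveI : LocallyOfFiniteType κ.left := h2.2 c' c κ sq
  haveI : QuasiCompact κ.left := h3.2 c' c κ sq
  haveI : UniversallyClosed κ.left := h4.2 c' c κ sq
  exact (({} : IsProper κ.left))

/-- a representable, proper, locally quasi-finite morphism of algebraic spaces is finite. -/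
theorem isFiniteMor_of_proper_lqf {X Y : AlgSp.Space S} (f : X ⟶ Y)
    (hrep : AlgSp.Representable f.hom) (hp : AlgSp.IsProperMor f.hom)
    (hq : AlgSp.LocP (@LocallyQuasiFinite ⊓ @LocallyOfFiniteType) f.hom) :
    AlgSp.IsFiniteMor f.hom := by
  have h1 := repWith_isProper f hrep hp
  have h2 := (Groth.Agent.S9948.result (@LocallyQuasiFinite ⊓ @LocallyOfFiniteType)
    (Or.inr (Or.inr (Or.inr (Or.inr (Or.inr (Or.inl (fun _ _ _ => Iff.rfl))))))) f hrep).1 hq
  intro Z hZ g
  obtain ⟨W, i, fst, sq⟩ := hrep g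
  haveI : IsProper i.left := h1.2 g fst i sq
  haveI : LocallyQuasiFinite i.left := (h2.2 g fst i sq).1
  haveI : IsFinite i.left := IsFinite.of_isProper_of_locallyQuasiFinite i.left
  haveI : IsAffine Z.left := hZ
  exact ⟨W, i, fst, sq, isAffine_of_isAffineHom i.left, inferInstance⟩

open Groth.Agent.R2.H45.GrpLocus Groth.Agent.R2.H45.RelDim Groth.Agent.Lib.Helper12.OpenSub in
/-- Stacks 0A4X-type: a proper morphism which is quasi-finite at all points over `y` is finite over
an open neighbourhood of `y` (given "separated + locally quasi-finite ⇒ representable"). -/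
theorem exists_open_finite_of
    (hQ : ∀ {A B : AlgSp.Space S} (φ : A ⟶ B),
      AlgSp.LocP (@LocallyQuasiFinite ⊓ @LocallyOfFiniteType) φ.hom → AlgSp.IsSeparatedMor φ.hom →
        AlgSp.Representable φ.hom)
    {X Y : AlgSp.Space S} (f : X ⟶ Y) (y : AlgSp.Points Y.obj)
    (hf : AlgSp.IsProperMor f.hom)
    (hq : ∀ x : AlgSp.Points X.obj, AlgSp.Points.map f.hom x = y →
      AlgSp.HasAtMor (fun U _ h u => ∃ W : U.Opens, u ∈ W ∧ LocallyQuasiFinite (W.ι ≫ h) ∧
        LocallyOfFiniteType (W.ι ≫ h)) f.hom x) :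
    ∃ (V : AlgSp.Space S) (j : V ⟶ Y), AlgSp.RepWith @IsOpenImmersion j.hom ∧
      y ∈ Set.range (AlgSp.Points.map j.hom) ∧
        ∀ (P : AlgSp.Space S) (fst : P ⟶ X) (snd : P ⟶ V), IsPullback fst.hom snd.hom f.hom j.hom →
          AlgSp.IsFiniteMor snd.hom := by
  have hlft : AlgSp.LocP @LocallyOfFiniteType f.hom := hf.2.1.1
  have hopen : IsOpen {x : AlgSp.Points X.obj | AlgSp.HasAtMor Qlqf f.hom x} :=
    isOpen_qlqf X.property Y.property f.hom hlft
  have hcl : IsClosedMap (AlgSp.Points.map f.hom) :=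
    hf.2.2 Y.property (𝟙 _) (𝟙 _) f.hom (IsPullback.id_horiz f.hom)
  have hC : IsClosed (AlgSp.Points.map f.hom ''
      {x : AlgSp.Points X.obj | AlgSp.HasAtMor Qlqf f.hom x}ᶜ) := hcl _ hopen.isClosed_compl
  have hWo := hC.isOpen_compl
  have hy : y ∈ (AlgSp.Points.map f.hom ''
      {x : AlgSp.Points X.obj | AlgSp.HasAtMor Qlqf f.hom x}ᶜ)ᶜ := by
    rintro ⟨x, hx, rfl⟩
    exact hx (hq x rfl)
  have hV := isAlgSpace_obj Y.property hWo
  have hrange := range_map_incl (X := Y.obj) (AlgSp.Points.map f.hom ''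
      {x : AlgSp.Points X.obj | AlgSp.HasAtMor Qlqf f.hom x}ᶜ)ᶜ
  refine ⟨⟨_, hV⟩, ObjectProperty.homMk (incl Y.obj _), repWith_incl hWo, ?_, ?_⟩
  · show y ∈ Set.range (AlgSp.Points.map (incl Y.obj _))
    rw [hrange]
    exact hy
  · intro P fst snd sq
    have hp' : AlgSp.IsProperMor snd.hom :=
      Groth.Agent.Lib.Helper12.Proper.isProperMor_baseChange X.property Y.property hV sq hf
    have hlft' : AlgSp.LocP @LocallyOfFiniteType snd.hom := hp'.2.1.1
    have hq' : AlgSp.LocP (@LocallyQuasiFinite ⊓ @LocallyOfFiniteType) snd.hom := by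
      rw [locP_iff_forall_hasAtMor etSqInvOn_qlqf detects_qlqf P.property hV snd.hom hlft']
      intro p
      rw [bcInv_qlqf X.property Y.property hV sq hlft p]
      by_contra hnot
      have hmem : AlgSp.Points.map (incl Y.obj _) (AlgSp.Points.map snd.hom p) ∈
          Set.range (AlgSp.Points.map (incl Y.obj (AlgSp.Points.map f.hom ''
            {x : AlgSp.Points X.obj | AlgSp.HasAtMor Qlqf f.hom x}ᶜ)ᶜ)) := ⟨_, rfl⟩
      rw [hrange] at hmem
      apply hmem
      refine ⟨AlgSp.Points.map fst.hom p, hnot, ?_⟩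
      rw [← AlgSp.Points.map_comp, sq.w, AlgSp.Points.map_comp]
      rfl
    exact isFiniteMor_of_proper_lqf snd (hQ snd hq' hp'.1) hp' hq'

end Groth.Agent.R2.H93.ProperLqf
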