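import Mathlib
import Groth.Agent.S10183
import Groth.Agent.S9919
import Groth.Agent.S9912
import Groth.Agent.S10174
import Groth.Agent.S10175
import Groth.Agent.S10177
import Groth.Agent.R2.H45GrpLocus
import Groth.Agent.R2.H93ProperLqf

/-!
# helper93: a quasi-compact, quasi-separated-over-an-affine algebraic space, locally of finite type,
with finitely many points is locally quasi-finite over the base; consequences for fibres of proper maps.
-/

set_option autoImplicit false
set_option linter.style.haveILetI false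
universe u

namespace Groth.Agent.R2.H93.FinFib

open AlgebraicGeometry CategoryTheory CategoryTheory.Limits AlgSp
open Groth.Agent.R2.H45.GrpLocus Groth.Agent.R2.H45.RelDim

variable {S : Scheme.{u}}

/-- Core lemma: a quasi-compact algebraic space `Z`, quasi-separated and locally of finite type over an
affine scheme `T`, with finitely many points, is locally quasi-finite over `T`. -/
theorem locP_lqf_of_finite_points {T : Over S} [IsAffine T.left] (Z : AlgSp.Space S)
    (g : Z.obj ⟶ (AlgSp.yon S).obj T)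
    (hqs : AlgSp.IsQuasiSeparatedMor g) (hlft : AlgSp.LocP @LocallyOfFiniteType g)
    (hqc : AlgSp.IsQuasiCompactSp Z.obj) (hfin : Finite (AlgSp.Points Z.obj)) :
    AlgSp.LocP (@LocallyQuasiFinite ⊓ @LocallyOfFiniteType) g := by
  obtain ⟨U, a, hae, has, hUc⟩ := hqc
  haveI : CompactSpace ↥U.left := hUc
  obtain ⟨h, hh⟩ := (AlgSp.yon S).map_surjective (a ≫ g)
  haveI : QuasiCompact h.left := (HasAffineProperty.iff_of_isAffine (P := @QuasiCompact)).mpr hUc
  let U' : AlgSp.Space S := ⟨(AlgSp.yon S).obj U, AlgSp.IsAlgSpace.yon_obj U⟩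
  let T' : AlgSp.Space S := ⟨(AlgSp.yon S).obj T, AlgSp.IsAlgSpace.yon_obj T⟩
  let a' : U' ⟶ Z := ObjectProperty.homMk a
  let g' : Z ⟶ T' := ObjectProperty.homMk g
  have hcomp : AlgSp.IsQuasiCompactMor (a' ≫ g').hom := by
    have h1 : AlgSp.RepWith @QuasiCompact ((AlgSp.yon S).map h) :=
      (AlgSp.repWith_yon_map_iff @QuasiCompact h).2 inferInstance
    have h2 := (Groth.Agent.S9912.result (X := U') (Y := T') (ObjectProperty.homMk ((AlgSp.yon S).map h))
      (AlgSp.representable_yon_map h)).1 h1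
    have e : (a' ≫ g').hom = (AlgSp.yon S).map h := hh.symm
    rw [e]
    exact h2
  have hqa : AlgSp.IsQuasiCompactMor a'.hom := Groth.Agent.S9919.result a' g' hcomp hqs
  have hqa' : AlgSp.RepWith @QuasiCompact a := (Groth.Agent.S9912.result a' hae.1).2 hqa
  obtain ⟨R, t, fst, sq⟩ := hae.1 a
  obtain ⟨s, rfl⟩ := (AlgSp.yon S).map_surjective fst
  haveI : QuasiCompact t.left := hqa'.2 a ((AlgSp.yon S).map s) t sq
  haveI : QuasiCompact s.left := hqa'.2 a ((AlgSp.yon S).map t) s sq.flip
  have hfib : ∀ x : AlgSp.Points Z.obj, (AlgSp.Points.ofPt a ⁻¹' {x}).Finite := fun x =>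
    (Groth.Agent.S10183.result Z a hae t s sq x).1
  have hUfin : Finite ↥U.left := by
    rw [← Set.finite_univ_iff]
    have : (Set.univ : Set ↥U.left) = ⋃ x : AlgSp.Points Z.obj, AlgSp.Points.ofPt a ⁻¹' {x} := by
      ext u
      simp
    rw [this]
    exact Set.finite_iUnion hfib
  haveI : LocallyOfFiniteType h.left :=
    hlft a (𝟙 _) h hae (AlgSp.repWith_id @Etale T) (by rw [hh, Category.comp_id])
  haveI : LocallyQuasiFinite h.left :=
    LocallyQuasiFinite.of_finite_preimage_singleton h.left (fun x => Set.toFinite _)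
  rw [locP_iff_forall_hasAtMor etSqInvOn_qlqf detects_qlqf Z.property (AlgSp.IsAlgSpace.yon_obj T) g hlft]
  intro z
  obtain ⟨u, rfl⟩ := Groth.Agent.S10177.surjective_ofPt a has z
  exact ⟨U, T, a, 𝟙 _, h, u, hae, AlgSp.repWith_id @Etale T, by rw [hh, Category.comp_id], rfl,
    (detects_qlqf h.left inferInstance).2 ⟨inferInstance, inferInstance⟩ u⟩


/-- a separated morphism of sheaves is quasi-separated. -/
theorem isQuasiSeparatedMor_of_isSeparatedMor {F G : AlgSp.Sp S} (g : F ⟶ G)
    (h : AlgSp.IsSeparatedMor g) : AlgSp.IsQuasiSeparatedMor g := by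
  refine ⟨h.1, fun T W c' c κ sq => ?_⟩
  haveI : IsClosedImmersion κ.left := h.2 c' c κ sq
  exact (inferInstance : QuasiCompact κ.left)

/-- the sheaf of an affine scheme is quasi-compact. -/
theorem isQuasiCompactSp_yon_of_compactSpace (T : Over S) [CompactSpace ↥T.left] :
    AlgSp.IsQuasiCompactSp ((AlgSp.yon S).obj T) :=
  ⟨T, 𝟙 _, AlgSp.repWith_id @Etale T, AlgSp.repWith_id @Surjective T, inferInstance⟩

/-- Fibre criterion: let `f : X ⟶ Y` be separated, locally of finite type and quasi-compact, and `k` a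
field-valued point of `Y` whose fibre has finitely many points.  Then `f` is quasi-finite at every point of
`X` over the image of `k`. -/
theorem hasAtMor_qlqf_of_finite_fibre {X Y : AlgSp.Space S} (f : X ⟶ Y)
    (hsep : AlgSp.IsSeparatedMor f.hom) (hlft : AlgSp.LocP @LocallyOfFiniteType f.hom)
    (hqc : AlgSp.IsQuasiCompactMor f.hom) (k : AlgSp.FieldPt Y.obj) (Xk : AlgSp.Sp S)
    (fst : Xk ⟶ X.obj) (snd : Xk ⟶ (AlgSp.yon S).obj k.pt)
    (sq : IsPullback fst snd f.hom k.toHom) (hfin : Finite (AlgSp.Points Xk))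
    (x : AlgSp.Points X.obj) (hx : AlgSp.Points.map f.hom x = AlgSp.Points.mk k) :
    AlgSp.HasAtMor Qlqf f.hom x := by
  have hT : AlgSp.IsAlgSpace ((AlgSp.yon S).obj k.pt) := AlgSp.IsAlgSpace.yon_obj _
  have hXk : AlgSp.IsAlgSpace Xk :=
    Groth.Agent.S9874.isAlgSpace_of_isPullback Y.property.diag X.property hT sq
  haveI : IsAffine k.pt.left := (inferInstance : IsAffine (Spec (CommRingCat.of k.K)))
  have hqcT : AlgSp.IsQuasiCompactSp ((AlgSp.yon S).obj k.pt) :=
    isQuasiCompactSp_yon_of_compactSpace k.pt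
  have hqcXk : AlgSp.IsQuasiCompactSp Xk := hqc hT hqcT k.toHom fst snd sq
  have hsep' : AlgSp.IsSeparatedMor snd :=
    Groth.Agent.Lib.Helper12.Proper.isSeparatedMor_baseChange sq hsep
  have hlft' : AlgSp.LocP @LocallyOfFiniteType snd :=
    Groth.Agent.Lib.Helper12.Proper.locP_lft_baseChange X.property Y.property hT sq hlft
  have hlqf : AlgSp.LocP (@LocallyQuasiFinite ⊓ @LocallyOfFiniteType) snd :=
    locP_lqf_of_finite_points ⟨Xk, hXk⟩ snd (isQuasiSeparatedMor_of_isSeparatedMor snd hsep') hlft'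
      hqcXk hfin
  have hall := (locP_iff_forall_hasAtMor etSqInvOn_qlqf detects_qlqf hXk hT snd hlft').1 hlqf
  -- lift `x` to the fibre
  have e : AlgSp.Points.map f.hom x = AlgSp.Points.map k.toHom
      (AlgSp.Points.ofScheme k.pt (IsLocalRing.closedPoint k.K)) := by
    rw [hx, ← AlgSp.Points.ofPt_eq_map_ofScheme, AlgSp.Points.ofPt_toHom]
  obtain ⟨p, hp1, -⟩ := Groth.Agent.S10175.exists_point_of_isPullback sq x _ e
  rw [← hp1, ← bcInv_qlqf X.property Y.property hT sq hlft p]
  exact hall p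

end Groth.Agent.R2.H93.FinFib
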