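import Mathlib
import Groth.Agent.R2.H93FinFib
import Groth.Agent.R2.H59AffDesc3
import Groth.Agent.Lib.Helper15UnivPts

/-!
# helper93: finite morphisms of algebraic spaces are proper and locally quasi-finite, with discrete fibres.
-/

set_option autoImplicit false
set_option linter.style.haveILetI false
universe u

namespace Groth.Agent.R2.H93.FinProps

open AlgebraicGeometry CategoryTheory CategoryTheory.Limits AlgSp

variable {S : Scheme.{u}}

/-- a finite morphism of algebraic spaces is proper. -/
theorem isProperMor_of_isFiniteMor {X Y : AlgSp.Space S} (f : X ⟶ Y)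
    (h : AlgSp.IsFiniteMor f.hom) : AlgSp.IsProperMor f.hom := by
  have hfin : AlgSp.RepWith @IsFinite f.hom :=
    Groth.Agent.R2.H59.AffDesc.repWith_isFinite_of_isFiniteMor _ h
  have hrep : AlgSp.Representable f.hom := hfin.1
  refine ⟨?_, ⟨?_, ?_⟩, ?_⟩
  · refine ((Groth.Agent.S9905.result f hrep).1).2 ⟨hrep, fun T W c' c κ sq => ?_⟩
    have : IsFinite κ.left := hfin.2 c' c κ sq
    exact (inferInstance : IsSeparated κ.left)
  · refine (Groth.Agent.S9948.result @LocallyOfFiniteType (Or.inl rfl) f hrep).2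
      ⟨hrep, fun T W c' c κ sq => ?_⟩
    have : IsFinite κ.left := hfin.2 c' c κ sq
    exact (inferInstance : LocallyOfFiniteType κ.left)
  · refine (Groth.Agent.S9912.result f hrep).1 ⟨hrep, fun T W c' c κ sq => ?_⟩
    have : IsFinite κ.left := hfin.2 c' c κ sq
    exact (inferInstance : QuasiCompact κ.left)
  · refine (Groth.Agent.S9922.result f hrep).1 ⟨hrep, fun T W c' c κ sq => ?_⟩
    have : IsFinite κ.left := hfin.2 c' c κ sq
    exact (inferInstance : UniversallyClosed κ.left)

/-- a finite morphism of algebraic spaces is locally quasi-finite. -/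
theorem locP_lqf_of_isFiniteMor {X Y : AlgSp.Space S} (f : X ⟶ Y)
    (h : AlgSp.IsFiniteMor f.hom) :
    AlgSp.LocP (@LocallyQuasiFinite ⊓ @LocallyOfFiniteType) f.hom := by
  have hfin : AlgSp.RepWith @IsFinite f.hom :=
    Groth.Agent.R2.H59.AffDesc.repWith_isFinite_of_isFiniteMor _ h
  have hrep : AlgSp.Representable f.hom := hfin.1
  refine (Groth.Agent.S9948.result (@LocallyQuasiFinite ⊓ @LocallyOfFiniteType)
      (Or.inr (Or.inr (Or.inr (Or.inr (Or.inr (Or.inl (fun _ _ _ => Iff.rfl))))))) f
        hrep).2 ⟨hrep, fun T W c' c κ sq => ?_⟩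
  have : IsFinite κ.left := hfin.2 c' c κ sq
  have h1 : LocallyQuasiFinite κ.left := inferInstance
  have h2 : LocallyOfFiniteType κ.left := inferInstance
  exact ⟨h1, h2⟩

/-- the fibres of a finite morphism over field-valued points have discrete spaces of points. -/
theorem discreteTopology_fibre_of_isFiniteMor {X Y : AlgSp.Space S} (f : X ⟶ Y)
    (h : AlgSp.IsFiniteMor f.hom) (k : AlgSp.FieldPt Y.obj) (Xk : AlgSp.Sp S)
    (fst : Xk ⟶ X.obj) (snd : Xk ⟶ (AlgSp.yon S).obj k.pt)
    (sq : IsPullback fst snd f.hom k.toHom) : DiscreteTopology (AlgSp.Points Xk) := by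
  have hTa : IsAffine k.pt.left := (inferInstance : IsAffine (Spec (CommRingCat.of k.K)))
  obtain ⟨W, i, fst', sq', hW, hi⟩ := h hTa k.toHom
  haveI : IsFinite i.left := hi
  let e : Xk ≅ (AlgSp.yon S).obj W := sq.isoIsPullback _ _ sq'
  -- `W` is discrete
  haveI : DiscreteTopology ↥W.left := by
    rw [← isDiscrete_univ_iff]
    have hd := i.left.isDiscrete_preimage_singleton (IsLocalRing.closedPoint k.K)
    have hss : Subsingleton ↥(Spec (CommRingCat.of k.K)) :=
      (inferInstance : Subsingleton (PrimeSpectrum k.K))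
    have hu : (Set.univ : Set ↥W.left) = i.left ⁻¹' {IsLocalRing.closedPoint k.K} := by
      ext w
      simp only [Set.mem_preimage, Set.mem_univ, true_iff]
      exact hss.elim _ _
    rw [hu]
    exact hd
  haveI : DiscreteTopology (AlgSp.Points ((AlgSp.yon S).obj W)) :=
    (AlgSp.Points.schemeHomeo W).symm.isEmbedding.discreteTopology
  exact (Groth.Agent.Lib.Helper15UnivPts.isHomeomorph_points_map_of_isIso e.hom).isEmbedding.discreteTopology

end Groth.Agent.R2.H93.FinProps
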