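import Mathlib
import Groth.Prelude.Def_AlgSpInf
import Groth.Agent.Lib.Helper15AlgSpInf
import Groth.Agent.S13210
import Groth.Agent.Lib.Helper12ZarGlue
import Groth.Agent.Lib.Helper2FormalEt
import Groth.Agent.S1489

set_option autoImplicit false
universe u
open CategoryTheory CategoryTheory.Limits AlgebraicGeometry Opposite
open AlgSp

namespace Groth.Agent.R2.H47.InfSq

open Groth.Agent.S13210 Groth.Agent.Lib.Helper12.ZarGlue Groth.Agent.Lib.Helper15

variable {S : Scheme.{u}}

/-- A jointly surjective family of flat, locally finitely presented morphisms is an fppf covering. -/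
lemma mem_J_of_fppf {T : Over S} {ι : Type*} (U : ι → Over S) (u : ∀ i, U i ⟶ T)
    (hsurj : ∀ t : T.left, ∃ i, t ∈ Set.range (u i).left)
    (hfl : ∀ i, Flat (u i).left) (hfp : ∀ i, LocallyOfFinitePresentation (u i).left) :
    Sieve.ofArrows U u ∈ AlgSp.J S T := by
  rw [GrothendieckTopology.mem_over_iff, Sieve.overEquiv_ofArrows]
  apply Precoverage.generate_mem_toGrothendieck
  refine (Scheme.ofArrows_mem_precoverage_iff
    (fun {A B : Scheme.{u}} (m : A ⟶ B) => Flat m ∧ LocallyOfFinitePresentation m)).2 ?_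
  exact ⟨hsurj, fun i => ⟨hfl i, hfp i⟩⟩

/-- maps out of `h_T` into a sheaf agree if they agree on a covering. -/
lemma hom_ext_of_cover {G : AlgSp.Sp S} {T : Over S} {ι : Type*} (U : ι → Over S)
    (u : ∀ i, U i ⟶ T) (hcov : Sieve.ofArrows U u ∈ AlgSp.J S T)
    (l l' : (AlgSp.yon S).obj T ⟶ G)
    (h : ∀ i, (AlgSp.yon S).map (u i) ≫ l = (AlgSp.yon S).map (u i) ≫ l') : l = l' := by
  have hsh : Presieve.IsSheaf (AlgSp.J S) G.obj := (isSheaf_iff_isSheaf_of_type _ _).1 G.property
  have h1 := (hsh.isSheafFor _ hcov).isSeparatedFor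
  apply (yEquiv T G).injective
  apply h1.ext
  intro Z g hg
  obtain ⟨i⟩ := hg
  rw [map_yEquiv, map_yEquiv, h i]

/-- gluing maps into a sheaf along a covering. -/
lemma glue_of_cover {G : AlgSp.Sp S} {T : Over S} {ι : Type*} (U : ι → Over S)
    (u : ∀ i, U i ⟶ T) (hcov : Sieve.ofArrows U u ∈ AlgSp.J S T)
    (r : ∀ i, (AlgSp.yon S).obj (U i) ⟶ G)
    (hcompat : ∀ (i j : ι) (Z : Over S) (p : Z ⟶ U i) (q : Z ⟶ U j), p ≫ u i = q ≫ u j →
      (AlgSp.yon S).map p ≫ r i = (AlgSp.yon S).map q ≫ r j) :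
    ∃ l : (AlgSp.yon S).obj T ⟶ G, ∀ i, (AlgSp.yon S).map (u i) ≫ l = r i := by
  have hsh : Presieve.IsSheaf (AlgSp.J S) G.obj := (isSheaf_iff_isSheaf_of_type _ _).1 G.property
  have h1 := hsh.isSheafFor _ hcov
  rw [Presieve.isSheafFor_arrows_iff] at h1
  obtain ⟨t, ht, -⟩ := h1 (fun i => yEquiv (U i) G (r i)) (by
    intro i j Z gi gj hg
    rw [map_yEquiv, map_yEquiv, hcompat i j Z gi gj hg])
  refine ⟨(yEquiv _ G).symm t, fun i => ?_⟩
  apply (yEquiv _ G).injective
  rw [← map_yEquiv, Equiv.apply_symm_apply]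
  exact ht i


/-! ## Scheme-level uniqueness of infinitesimal lifts -/

/-- `f : X ⟶ Y` has at most one lift against every affine square-zero thickening. -/
def UniqLiftHom {X Y : Scheme.{u}} (f : X ⟶ Y) : Prop :=
  ∀ (A : Type u) [CommRing A] (I : Ideal A), I ^ 2 = ⊥ →
    ∀ (l l' : Spec (CommRingCat.of A) ⟶ X),
      Spec.map (CommRingCat.ofHom (Ideal.Quotient.mk I)) ≫ l =
        Spec.map (CommRingCat.ofHom (Ideal.Quotient.mk I)) ≫ l' → l ≫ f = l' ≫ f → l = l'

lemma uniqLiftHom_of_formallyUnramified {X Y : Scheme.{u}} (f : X ⟶ Y) [FormallyUnramified f] :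
    UniqLiftHom f := by
  intro A _ I hI l l' h1 h2
  have : IsClosedImmersion (Spec.map (CommRingCat.ofHom (Ideal.Quotient.mk I))) :=
    IsClosedImmersion.spec_of_surjective _ Ideal.Quotient.mk_surjective
  exact FormallyUnramified.hom_ext _ (Groth.Agent.Lib.Helper2.FormalEt.spec_nilpotent A I hI) f h1 h2

lemma formallyUnramified_of_uniqLiftHom {X Y : Scheme.{u}} (f : X ⟶ Y) (hf : UniqLiftHom f) :
    FormallyUnramified f := by
  rw [HasRingHomProperty.iff_appLE (P := @FormallyUnramified)]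
  rintro ⟨U, hU⟩ ⟨V, hV⟩ e
  algebraize [(f.appLE U V e).hom]
  change Algebra.FormallyUnramified Γ(Y, U) Γ(X, V)
  rw [Algebra.FormallyUnramified.iff_comp_injective]
  intro B _ _ I hI g₁ g₂ hg
  have key : Spec.map (CommRingCat.ofHom g₁.toRingHom) ≫ hV.fromSpec =
      Spec.map (CommRingCat.ofHom g₂.toRingHom) ≫ hV.fromSpec := by
    apply hf B I hI
    · rw [← Category.assoc, ← Category.assoc, ← Spec.map_comp, ← Spec.map_comp]
      congr 2
      ext x
      exact DFunLike.congr_fun hg x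
    · rw [Category.assoc, Category.assoc, ← IsAffineOpen.SpecMap_appLE_fromSpec f hU hV e,
        ← Spec.map_comp_assoc, ← Spec.map_comp_assoc]
      congr 2
      ext x
      exact (g₁.commutes x).trans (g₂.commutes x).symm
  have h2 : Spec.map (CommRingCat.ofHom g₁.toRingHom) = Spec.map (CommRingCat.ofHom g₂.toRingHom) :=
    (cancel_mono hV.fromSpec).1 key
  have h3 := Spec.map_injective h2
  ext x
  exact congr($(h3).hom x)

theorem formallyUnramified_iff_uniqLiftHom {X Y : Scheme.{u}} (f : X ⟶ Y) :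
    FormallyUnramified f ↔ UniqLiftHom f :=
  ⟨fun _ => uniqLiftHom_of_formallyUnramified f, formallyUnramified_of_uniqLiftHom f⟩

theorem isFormallyEtaleHom_iff {X Y : Scheme.{u}} (f : X ⟶ Y) :
    MoreMor.IsFormallyEtaleHom f ↔ MoreMor.IsFormallySmoothHom f ∧ UniqLiftHom f := by
  constructor
  · intro h
    refine ⟨fun A _ I hI a b w => (h A I hI a b w).exists, fun A _ I hI l l' h1 h2 => ?_⟩
    exact (h A I hI (Spec.map (CommRingCat.ofHom (Ideal.Quotient.mk I)) ≫ l) (l ≫ f)
      (Category.assoc _ _ _).symm).unique ⟨rfl, rfl⟩ ⟨h1.symm, h2.symm⟩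
  · rintro ⟨h1, h2⟩ A _ I hI a b w
    obtain ⟨l, hl1, hl2⟩ := h1 A I hI a b w
    exact ⟨l, ⟨hl1, hl2⟩, fun l' hl' => h2 A I hI l' l (hl'.1.trans hl1.symm) (hl'.2.trans hl2.symm)⟩


/-! ## Bridge: `h_g` versus `g.left` -/

/-- Build an infinitesimal lifting square from explicit data. -/
noncomputable def mkSq {F G : AlgSp.Sp S} (f : F ⟶ G) (A : Type u) [CommRing A] (I : Ideal A)
    (hI : I ^ 2 = ⊥) (str : Spec (.of A) ⟶ S)
    (top : (AlgSp.yon S).obj (Over.mk (Spec.map (CommRingCat.ofHom (Ideal.Quotient.mk I)) ≫ str)) ⟶ F)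
    (bot : (AlgSp.yon S).obj (Over.mk str) ⟶ G)
    (comm : top ≫ f =
      (AlgSp.yon S).map (Over.homMk (Spec.map (CommRingCat.ofHom (Ideal.Quotient.mk I))) rfl :
        Over.mk (Spec.map (CommRingCat.ofHom (Ideal.Quotient.mk I)) ≫ str) ⟶ Over.mk str) ≫ bot) :
    AlgSp.InfSq f :=
  { A := A, I := I, sq_zero := hI, str := str, top := top, bot := bot, comm := comm }

section bridge

variable {U V : Over S} (h : U ⟶ V)

/-- scheme-level data as an infinitesimal lifting square for `h_h`. -/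
noncomputable def sqOfHom (A : Type u) [CommRing A] (I : Ideal A) (hI : I ^ 2 = ⊥)
    (a : Spec (CommRingCat.of (A ⧸ I)) ⟶ U.left) (b : Spec (CommRingCat.of A) ⟶ V.left)
    (w : Spec.map (CommRingCat.ofHom (Ideal.Quotient.mk I)) ≫ b = a ≫ h.left) :
    AlgSp.InfSq ((AlgSp.yon S).map h) :=
  mkSq _ A I hI (b ≫ V.hom)
    ((AlgSp.yon S).map (Over.homMk a (by
      have : a ≫ U.hom = Spec.map (CommRingCat.ofHom (Ideal.Quotient.mk I)) ≫ b ≫ V.hom := by
        rw [← Over.w h]
        exact ((Category.assoc _ _ _).symm.trans (congrArg (· ≫ V.hom) w.symm)).trans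
          (Category.assoc _ _ _)
      exact this)))
    ((AlgSp.yon S).map (Over.homMk b rfl))
    (by rw [← Functor.map_comp, ← Functor.map_comp]
        congr 1
        apply Over.OverMorphism.ext
        simp only [Over.comp_left, Over.homMk_left]
        exact w.symm)

lemma lift_of_sq (sq : AlgSp.InfSq ((AlgSp.yon S).map h)) :
    ∃ (a : sq.ptT ⟶ U) (b : sq.ptT' ⟶ V), sq.top = (AlgSp.yon S).map a ∧
      sq.bot = (AlgSp.yon S).map b ∧ sq.j ≫ b = a ≫ h := by
  obtain ⟨a, ha⟩ := (AlgSp.yon S).map_surjective sq.top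
  obtain ⟨b, hb⟩ := (AlgSp.yon S).map_surjective sq.bot
  refine ⟨a, b, ha.symm, hb.symm, ?_⟩
  apply (AlgSp.yon S).map_injective
  rw [Functor.map_comp, Functor.map_comp, ha, hb]
  exact sq.comm.symm

theorem isFormallySmoothMor_yon_map_iff :
    AlgSp.IsFormallySmoothMor ((AlgSp.yon S).map h) ↔ MoreMor.IsFormallySmoothHom h.left := by
  constructor
  · intro H A _ I hI a b w
    obtain ⟨l, hl1, hl2⟩ := H (sqOfHom h A I hI a b w)
    obtain ⟨l, rfl⟩ := (AlgSp.yon S).map_surjective l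
    refine ⟨l.left, ?_, ?_⟩
    · have := (AlgSp.yon S).map_injective ((Functor.map_comp _ _ _).trans hl1)
      exact congrArg (fun m => m.left) this
    · have := (AlgSp.yon S).map_injective ((Functor.map_comp _ _ _).trans hl2)
      exact congrArg (fun m => m.left) this
  · intro H sq
    obtain ⟨a, b, ha, hb, hab⟩ := lift_of_sq h sq
    obtain ⟨l, hl1, hl2⟩ := H sq.A sq.I sq.sq_zero a.left b.left
      (congrArg (fun m => m.left) hab)
    have hlw : l ≫ U.hom = sq.str := by
      rw [← Over.w h, ← Category.assoc, hl2]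
      exact Over.w b
    refine ⟨(AlgSp.yon S).map (Over.homMk l hlw : sq.ptT' ⟶ U), ?_, ?_⟩
    · rw [ha, ← Functor.map_comp]
      congr 1
      apply Over.OverMorphism.ext
      exact hl1
    · rw [hb, ← Functor.map_comp]
      congr 1
      apply Over.OverMorphism.ext
      exact hl2

theorem isFormallyUnramifiedMor_yon_map_iff :
    AlgSp.IsFormallyUnramifiedMor ((AlgSp.yon S).map h) ↔ UniqLiftHom h.left := by
  constructor
  · intro H A _ I hI l l' h1 h2
    have hlw : l' ≫ U.hom = l ≫ U.hom := by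
      rw [← Over.w h, ← Category.assoc, ← Category.assoc, h2]
    let sq := sqOfHom h A I hI (Spec.map (CommRingCat.ofHom (Ideal.Quotient.mk I)) ≫ l) (l ≫ h.left)
      (Category.assoc _ _ _).symm
    let L : sq.ptT' ⟶ U := Over.homMk l (by
      change l ≫ U.hom = (l ≫ h.left) ≫ V.hom
      rw [Category.assoc, Over.w h])
    let L' : sq.ptT' ⟶ U := Over.homMk l' (by
      change l' ≫ U.hom = (l ≫ h.left) ≫ V.hom
      rw [hlw, Category.assoc, Over.w h])
    have key : (AlgSp.yon S).map L = (AlgSp.yon S).map L' := by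
      apply H sq
      · change _ = (AlgSp.yon S).map _
        rw [← Functor.map_comp]
        congr 1
      · change _ = (AlgSp.yon S).map _
        rw [← Functor.map_comp]
        congr 1
      · change _ = (AlgSp.yon S).map _
        rw [← Functor.map_comp]
        congr 1
        apply Over.OverMorphism.ext
        exact h1.symm
      · change _ = (AlgSp.yon S).map _
        rw [← Functor.map_comp]
        congr 1
        apply Over.OverMorphism.ext
        exact h2.symm
    exact congrArg (fun m => m.left) ((AlgSp.yon S).map_injective key)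
  · intro H sq l l' h1 h2 h1' h2'
    obtain ⟨l, rfl⟩ := (AlgSp.yon S).map_surjective l
    obtain ⟨l', rfl⟩ := (AlgSp.yon S).map_surjective l'
    congr 1
    apply Over.OverMorphism.ext
    apply H sq.A sq.I sq.sq_zero
    · have := (AlgSp.yon S).map_injective
        (((Functor.map_comp _ _ _).trans (h1.trans h1'.symm)).trans (Functor.map_comp _ _ _).symm)
      exact congrArg (fun m => m.left) this
    · have := (AlgSp.yon S).map_injective
        (((Functor.map_comp _ _ _).trans (h2.trans h2'.symm)).trans (Functor.map_comp _ _ _).symm)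
      exact congrArg (fun m => m.left) this

theorem isFormallyUnramifiedMor_yon_map_iff' :
    AlgSp.IsFormallyUnramifiedMor ((AlgSp.yon S).map h) ↔ FormallyUnramified h.left :=
  (isFormallyUnramifiedMor_yon_map_iff h).trans (formallyUnramified_iff_uniqLiftHom h.left).symm

theorem isFormallyEtaleMor_yon_map_iff :
    AlgSp.IsFormallyEtaleMor ((AlgSp.yon S).map h) ↔ MoreMor.IsFormallyEtaleHom h.left := by
  rw [Groth.Agent.Lib.Helper15.isFormallyEtaleMor_iff, isFormallyEtaleHom_iff,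
    isFormallySmoothMor_yon_map_iff, isFormallyUnramifiedMor_yon_map_iff]

end bridge


/-! ## Representable morphisms: lifting properties via a represented pullback -/

section rep

variable {F G : AlgSp.Sp S} {a : F ⟶ G}

/-- a lifting square for `a` has a lift as soon as one represented pullback of `a` along the bottom
arrow is formally smooth. -/
lemma hasLift_of_isPullback (sq : AlgSp.InfSq a) {W : Over S} (fst : (AlgSp.yon S).obj W ⟶ F)
    (w : W ⟶ sq.ptT') (hP : IsPullback fst ((AlgSp.yon S).map w) a sq.bot)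
    (hw : MoreMor.IsFormallySmoothHom w.left) : sq.HasLift := by
  obtain ⟨s, hs⟩ := (AlgSp.yon S).map_surjective (hP.lift sq.top ((AlgSp.yon S).map sq.j) sq.comm)
  have hs1 : (AlgSp.yon S).map s ≫ fst = sq.top := by rw [hs, hP.lift_fst]
  have hs2 : s ≫ w = sq.j := by
    apply (AlgSp.yon S).map_injective
    rw [Functor.map_comp, hs, hP.lift_snd]
  obtain ⟨σ₀, h1, h2⟩ := hw sq.A sq.I sq.sq_zero s.left (𝟙 _)
    ((Category.comp_id _).trans (congrArg (fun m => m.left) hs2).symm)
  have hσw : σ₀ ≫ W.hom = sq.str := by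
    rw [← Over.w w, ← Category.assoc, h2]
    exact Category.id_comp _
  let σ : sq.ptT' ⟶ W := Over.homMk σ₀ hσw
  have hσ1 : sq.j ≫ σ = s := Over.OverMorphism.ext h1
  have hσ2 : σ ≫ w = 𝟙 _ := Over.OverMorphism.ext h2
  refine ⟨(AlgSp.yon S).map σ ≫ fst, ?_, ?_⟩
  · rw [← Category.assoc, ← Functor.map_comp, hσ1, hs1]
  · rw [Category.assoc, hP.w, ← Category.assoc, ← Functor.map_comp, hσ2, (AlgSp.yon S).map_id,
      Category.id_comp]

/-- a lifting square for `a` has at most one lift as soon as one represented pullback of `a` along the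
bottom arrow has at most one lift against affine square zero thickenings. -/
lemma hasUniq_of_isPullback (sq : AlgSp.InfSq a) {W : Over S} (fst : (AlgSp.yon S).obj W ⟶ F)
    (w : W ⟶ sq.ptT') (hP : IsPullback fst ((AlgSp.yon S).map w) a sq.bot)
    (hw : UniqLiftHom w.left) : sq.HasUniq := by
  intro l l' h1 h2 h1' h2'
  obtain ⟨σ, hσ⟩ := (AlgSp.yon S).map_surjective
    (hP.lift l (𝟙 _) (h2.trans (Category.id_comp _).symm))
  obtain ⟨σ', hσ'⟩ := (AlgSp.yon S).map_surjective
    (hP.lift l' (𝟙 _) (h2'.trans (Category.id_comp _).symm))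
  have e1 : (AlgSp.yon S).map σ ≫ fst = l := by rw [hσ, hP.lift_fst]
  have e1' : (AlgSp.yon S).map σ' ≫ fst = l' := by rw [hσ', hP.lift_fst]
  have e2 : σ ≫ w = 𝟙 _ := by
    apply (AlgSp.yon S).map_injective
    rw [Functor.map_comp, hσ, hP.lift_snd, (AlgSp.yon S).map_id]
  have e2' : σ' ≫ w = 𝟙 _ := by
    apply (AlgSp.yon S).map_injective
    rw [Functor.map_comp, hσ', hP.lift_snd, (AlgSp.yon S).map_id]
  have e3 : sq.j ≫ σ = sq.j ≫ σ' := by
    apply (AlgSp.yon S).map_injective
    apply hP.hom_ext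
    · rw [Functor.map_comp, Functor.map_comp, Category.assoc, Category.assoc, e1, e1', h1, h1']
    · rw [← Functor.map_comp, ← Functor.map_comp, Category.assoc, Category.assoc, e2, e2']
  have : σ.left = σ'.left := hw sq.A sq.I sq.sq_zero σ.left σ'.left
    (congrArg (fun m => m.left) e3)
    ((congrArg (fun m => m.left) e2).trans (congrArg (fun m => m.left) e2').symm)
  have hσσ' : σ = σ' := Over.OverMorphism.ext this
  rw [← e1, ← e1', hσσ']

theorem isFormallySmoothMor_of_repWith {P : MorphismProperty Scheme.{u}}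
    (hP : ∀ ⦃X Y : Scheme.{u}⦄ (f : X ⟶ Y), P f → MoreMor.IsFormallySmoothHom f)
    (ha : AlgSp.RepWith P a) : AlgSp.IsFormallySmoothMor a := by
  intro sq
  obtain ⟨W, w, fst, hpb⟩ := ha.1 sq.bot
  exact hasLift_of_isPullback sq fst w hpb (hP _ (ha.2 _ _ w hpb))

theorem isFormallyUnramifiedMor_of_repWith {P : MorphismProperty Scheme.{u}}
    (hP : ∀ ⦃X Y : Scheme.{u}⦄ (f : X ⟶ Y), P f → UniqLiftHom f)
    (ha : AlgSp.RepWith P a) : AlgSp.IsFormallyUnramifiedMor a := by
  intro sq
  obtain ⟨W, w, fst, hpb⟩ := ha.1 sq.bot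
  exact hasUniq_of_isPullback sq fst w hpb (hP _ (ha.2 _ _ w hpb))

/-- a representable etale morphism of sheaves is formally etale. -/
theorem isFormallyEtaleMor_of_repWith_etale (ha : AlgSp.RepWith @Etale a) :
    AlgSp.IsFormallyEtaleMor a := by
  rw [Groth.Agent.Lib.Helper15.isFormallyEtaleMor_iff]
  have key : ∀ ⦃X Y : Scheme.{u}⦄ (f : X ⟶ Y), Etale f → MoreMor.IsFormallyEtaleHom f :=
    fun X Y f hf => ((Groth.Agent.S1489.result f).1 hf).2
  exact ⟨isFormallySmoothMor_of_repWith (fun X Y f hf => ((isFormallyEtaleHom_iff f).1 (key f hf)).1) ha,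
    isFormallyUnramifiedMor_of_repWith (fun X Y f hf => ((isFormallyEtaleHom_iff f).1 (key f hf)).2) ha⟩

/-- a representable unramified morphism of sheaves is formally unramified. -/
theorem isFormallyUnramifiedMor_of_repWith_unram
    (ha : AlgSp.RepWith (@LocallyOfFiniteType ⊓ @FormallyUnramified) a) :
    AlgSp.IsFormallyUnramifiedMor a :=
  isFormallyUnramifiedMor_of_repWith
    (fun X Y f hf => @uniqLiftHom_of_formallyUnramified X Y f hf.2) ha

end rep


/-! ## Base change of a lifting square along a ring map -/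

section bc

variable {F G : AlgSp.Sp S} {f : F ⟶ G} (sq : AlgSp.InfSq f) {D : Type u} [CommRing D]
  (ψ : sq.A →+* D)

/-- the thick part `Spec D` of the base changed thickening, over `S`. -/
noncomputable abbrev bcT' : Over S := Over.mk (Spec.map (CommRingCat.ofHom ψ) ≫ sq.str)

/-- the thin part `Spec (D ⧸ I D)` of the base changed thickening, over `S`. -/
noncomputable abbrev bcT : Over S :=
  Over.mk (Spec.map (CommRingCat.ofHom (Ideal.Quotient.mk (sq.I.map ψ))) ≫
    Spec.map (CommRingCat.ofHom ψ) ≫ sq.str)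

/-- `Spec D ⟶ Spec A` over `S`. -/
noncomputable def bcThickAux : bcT' sq ψ ⟶ sq.ptT' := Over.homMk (Spec.map (CommRingCat.ofHom ψ)) rfl

/-- `Spec (D ⧸ I D) ⟶ Spec D` over `S`. -/
noncomputable def bcJAux : bcT sq ψ ⟶ bcT' sq ψ :=
  Over.homMk (Spec.map (CommRingCat.ofHom (Ideal.Quotient.mk (sq.I.map ψ)))) rfl

lemma bc_ring_comm :
    (Ideal.quotientMap (sq.I.map ψ) ψ Ideal.le_comap_map).comp (Ideal.Quotient.mk sq.I) =
      (Ideal.Quotient.mk (sq.I.map ψ)).comp ψ := by
  ext x
  simp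

lemma bc_spec_comm :
    Spec.map (CommRingCat.ofHom (Ideal.quotientMap (sq.I.map ψ) ψ Ideal.le_comap_map)) ≫
      Spec.map (CommRingCat.ofHom (Ideal.Quotient.mk sq.I)) =
    Spec.map (CommRingCat.ofHom (Ideal.Quotient.mk (sq.I.map ψ))) ≫
      Spec.map (CommRingCat.ofHom ψ) := by
  rw [← Spec.map_comp, ← Spec.map_comp, ← CommRingCat.ofHom_comp, ← CommRingCat.ofHom_comp,
    bc_ring_comm]

/-- `Spec (D ⧸ I D) ⟶ Spec (A ⧸ I)` over `S`. -/
noncomputable def bcThinAux : bcT sq ψ ⟶ sq.ptT :=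
  Over.homMk (Spec.map (CommRingCat.ofHom (Ideal.quotientMap (sq.I.map ψ) ψ Ideal.le_comap_map)))
    (by
      change _ ≫ Spec.map _ ≫ sq.str = Spec.map _ ≫ Spec.map _ ≫ sq.str
      rw [← Category.assoc, bc_spec_comm, Category.assoc])

lemma bc_commAux : bcJAux sq ψ ≫ bcThickAux sq ψ = bcThinAux sq ψ ≫ sq.j := by
  apply Over.OverMorphism.ext
  exact (bc_spec_comm sq ψ).symm

lemma bc_sq_zero : (sq.I.map ψ) ^ 2 = ⊥ := by
  rw [← Ideal.map_pow, sq.sq_zero, Ideal.map_bot]

/-- the base change of a lifting square along a ring map `A → D`. -/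
noncomputable def bcSq : AlgSp.InfSq f :=
  mkSq f D (sq.I.map ψ) (bc_sq_zero sq ψ) (Spec.map (CommRingCat.ofHom ψ) ≫ sq.str)
    ((AlgSp.yon S).map (bcThinAux sq ψ) ≫ sq.top) ((AlgSp.yon S).map (bcThickAux sq ψ) ≫ sq.bot)
    (by
      have h := congrArg (fun m => (AlgSp.yon S).map m ≫ sq.bot) (bc_commAux sq ψ)
      simp only [Functor.map_comp, Category.assoc] at h
      rw [Category.assoc, sq.comm]
      exact h.symm)

/-- `Spec D ⟶ Spec A` over `S`. -/
noncomputable def bcThick : (bcSq sq ψ).ptT' ⟶ sq.ptT' := bcThickAux sq ψ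

/-- `Spec (D ⧸ I D) ⟶ Spec (A ⧸ I)` over `S`. -/
noncomputable def bcThin : (bcSq sq ψ).ptT ⟶ sq.ptT := bcThinAux sq ψ

lemma bc_comm : (bcSq sq ψ).j ≫ bcThick sq ψ = bcThin sq ψ ≫ sq.j := bc_commAux sq ψ

lemma bcSq_top : (bcSq sq ψ).top = (AlgSp.yon S).map (bcThin sq ψ) ≫ sq.top := rfl

lemma bcSq_bot : (bcSq sq ψ).bot = (AlgSp.yon S).map (bcThick sq ψ) ≫ sq.bot := rfl

lemma bcThick_left : (bcThick sq ψ).left = Spec.map (CommRingCat.ofHom ψ) := rfl

/-- every scheme over the thick part of a lifting square is covered by affine opens, each of which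
is a base change `Spec D ⟶ Spec A` of the thickening. -/
lemma exists_affine_cover {Z : Over S} (z : Z ⟶ sq.ptT') :
    ∃ (ι : Type u) (D : ι → Type u) (_ : ∀ i, CommRing (D i)) (ψ : ∀ i, sq.A →+* D i)
      (e : ∀ i, (bcSq sq (ψ i)).ptT' ⟶ Z),
      (∀ i, e i ≫ z = bcThick sq (ψ i)) ∧ (∀ i, IsOpenImmersion (e i).left) ∧
      (∀ x : Z.left, ∃ i, x ∈ Set.range (e i).left) := by
  let ψ : ∀ i : Z.left.affineOpens, sq.A →+* Γ(Z.left, i.1) := fun i =>
    (Spec.preimage (i.2.fromSpec ≫ z.left)).hom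
  have hψ : ∀ i : Z.left.affineOpens, Spec.map (CommRingCat.ofHom (ψ i)) = i.2.fromSpec ≫ z.left :=
    fun i => Spec.map_preimage _
  refine ⟨Z.left.affineOpens, fun i => Γ(Z.left, i.1), fun i => inferInstance, ψ,
    fun i => (Over.homMk i.2.fromSpec (by
      change _ = Spec.map _ ≫ sq.str
      rw [hψ i, Category.assoc]
      exact congrArg (i.2.fromSpec ≫ ·) (Over.w z).symm) : bcT' sq (ψ i) ⟶ Z), ?_, ?_, ?_⟩
  · intro i
    apply Over.OverMorphism.ext
    exact (hψ i).symm
  · intro i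
    exact inferInstanceAs (IsOpenImmersion i.2.fromSpec)
  · intro x
    obtain ⟨W, hW, hxW, -⟩ := (TopologicalSpace.Opens.isBasis_iff_nbhd.mp
      Z.left.isBasis_affineOpens) (show x ∈ (⊤ : Z.left.Opens) from trivial)
    refine ⟨⟨W, hW⟩, ?_⟩
    change x ∈ Set.range hW.fromSpec
    rw [hW.range_fromSpec]
    exact hxW

end bc


/-! ## Descent of formal unramifiedness along an etale surjective source chart -/

lemma bcThick_cover {F G : AlgSp.Sp S} {f : F ⟶ G} (sq : AlgSp.InfSq f) {W : Over S}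
    (p : W ⟶ sq.ptT') (hpe : Etale p.left) (hps : Surjective p.left)
    {ι : Type u} (D : ι → Type u) [∀ i, CommRing (D i)] (ψ : ∀ i, sq.A →+* D i)
    (e : ∀ i, (bcSq sq (ψ i)).ptT' ⟶ W) (he : ∀ i, e i ≫ p = bcThick sq (ψ i))
    (hoi : ∀ i, IsOpenImmersion (e i).left) (hcov : ∀ x : W.left, ∃ i, x ∈ Set.range (e i).left) :
    Sieve.ofArrows (fun i => (bcSq sq (ψ i)).ptT') (fun i => bcThick sq (ψ i)) ∈ AlgSp.J S sq.ptT' := by
  have hfl : ∀ i, Etale (bcThick sq (ψ i)).left := by
    intro i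
    rw [← he i, Over.comp_left]
    have := hoi i
    infer_instance
  apply mem_J_of_fppf
  · intro t
    obtain ⟨x, rfl⟩ := p.left.surjective t
    obtain ⟨i, y, rfl⟩ := hcov x
    refine ⟨i, y, ?_⟩
    rw [← he i, Over.comp_left, Scheme.Hom.comp_apply]
  · intro i
    have := hfl i
    infer_instance
  · intro i
    have := hfl i
    infer_instance

theorem isFormallyUnramifiedMor_of_comp_etale_surj {F G H : AlgSp.Sp S} (a : F ⟶ G) (b : G ⟶ H)
    (ha : AlgSp.RepWith @Etale a) (ha' : AlgSp.RepWith @Surjective a)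
    (hab : AlgSp.IsFormallyUnramifiedMor (a ≫ b)) : AlgSp.IsFormallyUnramifiedMor b := by
  intro sq l l' h1 h2 h1' h2'
  obtain ⟨W, p, qF, hpb⟩ := ha.1 l
  have hpe : Etale p.left := ha.2 _ _ p hpb
  have hps : Surjective p.left := ha'.2 _ _ p hpb
  obtain ⟨ι, D, _, ψ, e, he, hoi, hcov⟩ := exists_affine_cover sq p
  have haFE := (isFormallyEtaleMor_iff a).1 (isFormallyEtaleMor_of_repWith_etale ha)
  refine hom_ext_of_cover _ _ (bcThick_cover sq p hpe hps D ψ e he hoi hcov) l l' (fun i => ?_)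
  have hthick : ∀ m : (AlgSp.yon S).obj sq.ptT' ⟶ G,
      (AlgSp.yon S).map (bcSq sq (ψ i)).j ≫ (AlgSp.yon S).map (bcThick sq (ψ i)) ≫ m =
        (AlgSp.yon S).map (bcThin sq (ψ i)) ≫ (AlgSp.yon S).map sq.j ≫ m := by
    intro m
    rw [← Category.assoc, ← Functor.map_comp, bc_comm, Functor.map_comp, Category.assoc]
  have hep : (AlgSp.yon S).map (e i) ≫ (AlgSp.yon S).map p = (AlgSp.yon S).map (bcThick sq (ψ i)) := by
    rw [← Functor.map_comp, he i]
  have comm : ((AlgSp.yon S).map (bcSq sq (ψ i)).j ≫ (AlgSp.yon S).map (e i) ≫ qF) ≫ a =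
      (AlgSp.yon S).map (bcSq sq (ψ i)).j ≫ (AlgSp.yon S).map (bcThick sq (ψ i)) ≫ l' := by
    rw [Category.assoc, Category.assoc, hpb.w, ← Category.assoc ((AlgSp.yon S).map (e i)), hep]
    exact (hthick l).trans ((congrArg (_ ≫ ·) (h1.trans h1'.symm)).trans (hthick l').symm)
  obtain ⟨q', hq1, hq2⟩ := hasLift_of_smooth (bcSq sq (ψ i)) haFE.1 _ _ comm
  have hq : q' = (AlgSp.yon S).map (e i) ≫ qF := by
    apply uniq_of_unramified (bcSq sq (ψ i)) hab q' _ hq1
    rw [← Category.assoc, hq2, Category.assoc, h2', Category.assoc, ← Category.assoc qF, hpb.w,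
      Category.assoc, h2, ← Category.assoc, hep]
  rw [← hq2, hq, Category.assoc, hpb.w, ← Category.assoc, hep]

end Groth.Agent.R2.H47.InfSq
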