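import Mathlib
import Groth.Agent.S9938
import Groth.Agent.S9928
import Groth.Agent.S10262
import Groth.Agent.S10621
import Groth.Agent.S9906
import Groth.Agent.S9922
import Groth.Agent.S9948
import Groth.Agent.S9874
import Groth.Agent.S9984
import Groth.Agent.S10265
import Groth.Agent.Lib.Helper15MonoUnram
import Groth.Agent.R2.H44LimDescRep

/-!
# helper93: monomorphisms locally of finite type of algebraic spaces

Everything in Stacks 05W5 / 05W8 (unramified monomorphisms, closed immersions) that does not need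
"separated + locally quasi-finite ⇒ representable"; the representability enters as a hypothesis.
-/

set_option autoImplicit false
set_option linter.style.haveILetI false
universe u

namespace Groth.Agent.R2.H93.MonoLft

open AlgebraicGeometry CategoryTheory CategoryTheory.Limits AlgSp

variable {S : Scheme.{u}}

/-- a monomorphism of algebraic spaces is universally injective. -/
theorem isUnivInjectiveMor_of_mono {X Y : AlgSp.Space S} (f : X ⟶ Y) (hm : Mono f.hom) :
    AlgSp.IsUnivInjectiveMor f.hom :=
  ((Groth.Agent.S9938.result f).1).1 (fun _ _ _ _ _ h => (cancel_mono f.hom).1 h)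

/-- the fibre square `X ×_Y X` as an algebraic space. -/
theorem isAlgSpace_pullback_self {X Y : AlgSp.Space S} (f : X ⟶ Y) :
    AlgSp.IsAlgSpace (pullback f.hom f.hom) :=
  Groth.Agent.S9874.isAlgSpace_of_isPullback Y.property.diag X.property X.property
    (IsPullback.of_hasPullback f.hom f.hom)

/-- an unramified universally injective morphism of algebraic spaces is a monomorphism. -/
theorem mono_of_unramified_univInjective {X Y : AlgSp.Space S} (f : X ⟶ Y)
    (hu : AlgSp.LocP (@LocallyOfFiniteType ⊓ @FormallyUnramified) f.hom)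
    (hi : AlgSp.IsUnivInjectiveMor f.hom) : Mono f.hom := by
  have hopen : AlgSp.RepWith @IsOpenImmersion (pullback.diagonal f.hom) :=
    (Groth.Agent.S10262.result f).1 hu
  have hsurj : AlgSp.IsSurjectiveMor (pullback.diagonal f.hom) :=
    ((Groth.Agent.S9938.result f).2).1 hi
  have hP := isAlgSpace_pullback_self f
  let XX : AlgSp.Space S := ⟨pullback f.hom f.hom, hP⟩
  let Δ : X ⟶ XX := ObjectProperty.homMk (pullback.diagonal f.hom)
  have hsurj' : AlgSp.RepWith @Surjective (pullback.diagonal f.hom) :=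
    (Groth.Agent.S9906.result Δ hopen.1).2 hsurj
  have hiso : AlgSp.RepWith (MorphismProperty.isomorphisms Scheme.{u})
      (pullback.diagonal f.hom) := by
    refine ⟨hopen.1, fun T W c' c κ sq => ?_⟩
    have h1 : IsOpenImmersion κ.left := hopen.2 c' c κ sq
    have h2 : Surjective κ.left := hsurj'.2 c' c κ sq
    have h3 : IsIso κ.left := (isIso_iff_isOpenImmersion_and_surjective _).2 ⟨h1, h2⟩
    exact h3
  haveI : IsIso (pullback.diagonal f.hom) :=
    Groth.Agent.R2.H44.LimDesc.isIso_of_repWith_isomorphisms hP _ hiso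
  exact (pullback.isIso_diagonal_iff f.hom).1 inferInstance

/-- unramified = locally of finite type + formally unramified (lifting sense). -/
theorem unramified_iff_lft_and_formallyUnramifiedMor {X Y : AlgSp.Space S} (f : X ⟶ Y) :
    AlgSp.LocP (@LocallyOfFiniteType ⊓ @FormallyUnramified) f.hom ↔
      (AlgSp.LocP @LocallyOfFiniteType f.hom ∧ AlgSp.IsFormallyUnramifiedMor f.hom) := by
  rw [(Groth.Agent.S10621.result f).1]
  constructor
  · intro h
    exact ⟨fun U V a b k ha hb e => (h a b k ha hb e).1, fun U V a b k ha hb e => (h a b k ha hb e).2⟩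
  · rintro ⟨h1, h2⟩ U V a b k ha hb e
    exact ⟨h1 a b k ha hb e, h2 a b k ha hb e⟩

/-- unramified morphisms are locally quasi-finite. -/
theorem locP_lqf_of_unramified {X Y : AlgSp.Sp S} (f : X ⟶ Y)
    (hu : AlgSp.LocP (@LocallyOfFiniteType ⊓ @FormallyUnramified) f) :
    AlgSp.LocP (@LocallyQuasiFinite ⊓ @LocallyOfFiniteType) f := by
  intro U V a b k ha hb e
  obtain ⟨h1, h2⟩ := hu a b k ha hb e
  haveI : LocallyOfFiniteType k.left := h1
  haveI : FormallyUnramified k.left := h2
  exact ⟨Groth.Agent.S10265.locallyQuasiFinite_of_unramified k.left, h1⟩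

/-- the equivalences (a) ⇔ (b) ⇔ (c) ⇔ (d) for unramified monomorphisms. -/
theorem unramified_mono_iffs {X Y : AlgSp.Space S} (f : X ⟶ Y) :
    ((AlgSp.LocP (@LocallyOfFiniteType ⊓ @FormallyUnramified) f.hom ∧ Mono f.hom) ↔
      (AlgSp.LocP (@LocallyOfFiniteType ⊓ @FormallyUnramified) f.hom ∧ AlgSp.IsUnivInjectiveMor f.hom)) ∧
    ((AlgSp.LocP (@LocallyOfFiniteType ⊓ @FormallyUnramified) f.hom ∧ Mono f.hom) ↔
      (AlgSp.LocP @LocallyOfFiniteType f.hom ∧ Mono f.hom)) ∧
    ((AlgSp.LocP (@LocallyOfFiniteType ⊓ @FormallyUnramified) f.hom ∧ Mono f.hom) ↔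
      (AlgSp.IsUnivInjectiveMor f.hom ∧ AlgSp.LocP @LocallyOfFiniteType f.hom ∧
        AlgSp.IsFormallyUnramifiedMor f.hom)) := by
  have hab : (AlgSp.LocP (@LocallyOfFiniteType ⊓ @FormallyUnramified) f.hom ∧ Mono f.hom) ↔
      (AlgSp.LocP (@LocallyOfFiniteType ⊓ @FormallyUnramified) f.hom ∧
        AlgSp.IsUnivInjectiveMor f.hom) :=
    ⟨fun ⟨h1, h2⟩ => ⟨h1, isUnivInjectiveMor_of_mono f h2⟩,
      fun ⟨h1, h2⟩ => ⟨h1, mono_of_unramified_univInjective f h1 h2⟩⟩
  refine ⟨hab, ?_, ?_⟩
  · constructor
    · rintro ⟨h1, h2⟩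
      exact ⟨((unramified_iff_lft_and_formallyUnramifiedMor f).1 h1).1, h2⟩
    · rintro ⟨h1, h2⟩
      haveI := h2
      exact ⟨Groth.Agent.Lib.Helper15MonoUnram.locP_unramified_of_mono_lft f h1, h2⟩
  · rw [hab]
    constructor
    · rintro ⟨h1, h2⟩
      obtain ⟨h3, h4⟩ := (unramified_iff_lft_and_formallyUnramifiedMor f).1 h1
      exact ⟨h2, h3, h4⟩
    · rintro ⟨h2, h3, h4⟩
      exact ⟨(unramified_iff_lft_and_formallyUnramifiedMor f).2 ⟨h3, h4⟩, h2⟩

/-- a monomorphism locally of finite type is separated and locally quasi-finite. -/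
theorem sep_lqf_of_mono_lft {X Y : AlgSp.Space S} (f : X ⟶ Y)
    (h1 : AlgSp.LocP @LocallyOfFiniteType f.hom) (h2 : Mono f.hom) :
    AlgSp.IsSeparatedMor f.hom ∧ AlgSp.LocP (@LocallyQuasiFinite ⊓ @LocallyOfFiniteType) f.hom := by
  haveI := h2
  exact ⟨Groth.Agent.Lib.Helper15MonoSep.isSeparatedMor_of_mono f.hom,
    locP_lqf_of_unramified f.hom
      (Groth.Agent.Lib.Helper15MonoUnram.locP_unramified_of_mono_lft f h1)⟩

/-- scheme level: a universally closed monomorphism locally of finite type is a closed immersion. -/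
theorem isClosedImmersion_of_mono_lft_univClosed {A B : Scheme.{u}} (g : A ⟶ B) [Mono g]
    [LocallyOfFiniteType g] [UniversallyClosed g] : IsClosedImmersion g := by
  haveI : IsOpenImmersion (pullback.diagonal g) := inferInstance
  haveI : FormallyUnramified g := inferInstance
  haveI : LocallyQuasiFinite g := Groth.Agent.S10265.locallyQuasiFinite_of_unramified g
  haveI : IsProper g := {}
  haveI : IsFinite g := IsFinite.of_isProper_of_locallyQuasiFinite g
  exact (IsClosedImmersion.iff_isFinite_and_mono g).2 ⟨inferInstance, inferInstance⟩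

/-- a closed immersion of algebraic spaces is universally closed, locally of finite type and a
monomorphism. -/
theorem of_closedImmersion {X Y : AlgSp.Space S} (f : X ⟶ Y)
    (h : AlgSp.RepWith @IsClosedImmersion f.hom) :
    AlgSp.IsUnivClosedMor f.hom ∧ AlgSp.LocP @LocallyOfFiniteType f.hom ∧ Mono f.hom := by
  have hrep : AlgSp.Representable f.hom := h.1
  refine ⟨(Groth.Agent.S9922.result f hrep).1 ⟨hrep, fun T W c' c κ sq => ?_⟩,
    (Groth.Agent.S9948.result @LocallyOfFiniteType (Or.inl rfl) f hrep).2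
      ⟨hrep, fun T W c' c κ sq => ?_⟩,
    Groth.Agent.S9928.mono_of_repWith @IsClosedImmersion
      (fun _ _ g hg => by haveI : IsClosedImmersion g := hg; infer_instance) f.hom h⟩
  · haveI : IsClosedImmersion κ.left := h.2 c' c κ sq
    exact (inferInstance : UniversallyClosed κ.left)
  · haveI : IsClosedImmersion κ.left := h.2 c' c κ sq
    exact (inferInstance : LocallyOfFiniteType κ.left)

/-- a representable universally closed monomorphism locally of finite type is a closed
immersion. -/
theorem closedImmersion_of_rep {X Y : AlgSp.Space S} (f : X ⟶ Y)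
    (hrep : AlgSp.Representable f.hom) (h1 : AlgSp.IsUnivClosedMor f.hom)
    (h2 : AlgSp.LocP @LocallyOfFiniteType f.hom) (h3 : Mono f.hom) :
    AlgSp.RepWith @IsClosedImmersion f.hom := by
  have hUC := (Groth.Agent.S9922.result f hrep).2 h1
  have hLFT := (Groth.Agent.S9948.result @LocallyOfFiniteType (Or.inl rfl) f hrep).1 h2
  refine ⟨hrep, fun T W c' c κ sq => ?_⟩
  haveI : UniversallyClosed κ.left := hUC.2 c' c κ sq
  haveI : LocallyOfFiniteType κ.left := hLFT.2 c' c κ sq
  haveI : Mono κ.left := by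
    have hm : Mono ((AlgSp.yon S).map κ) :=
      (MorphismProperty.monomorphisms (AlgSp.Sp S)).of_isPullback sq h3
    haveI : Mono κ := (AlgSp.yon S).mono_of_mono_map hm
    infer_instance
  exact isClosedImmersion_of_mono_lft_univClosed κ.left

end Groth.Agent.R2.H93.MonoLft
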