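import Mathlib
import Groth.Prelude.Def_AlgSpMor5
import Groth.Agent.Lib.Helper12OpenSub
import Groth.Agent.S10175
import Groth.Agent.S9874

/-!
# helper93: open subspaces of the base cut out by a base-change-compatible open locus of the source

* `factor_iff_points`: a morphism of sheaves `a : F ⟶ X` factors through the open subsheaf defined by
  `W ⊆ |X|` iff all points of `F` map into `W`.
* `exists_where_open`: for `f : X ⟶ Y` over `Z` with `p : X ⟶ Z` closed, an open `T ⊆ |X|`, and a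
  predicate on base changes `f'` of `f` which holds iff all points of `X'` map into `T`: there is an open
  subspace `W` of `Z` such that `g : Z' ⟶ Z` factors through `W` iff the base change along `g` satisfies
  the predicate.
-/

set_option autoImplicit false
set_option linter.style.haveILetI false
universe u

namespace Groth.Agent.R2.H93.Where

open AlgebraicGeometry CategoryTheory CategoryTheory.Limits Opposite AlgSp
  Groth.Agent.S13210 Groth.Agent.Lib.Helper12.OpenSub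

variable {S : Scheme.{u}}

theorem factor_iff_points {X : AlgSp.Sp S} (W : Set (AlgSp.Points X)) {F : AlgSp.Sp S}
    (a : F ⟶ X) :
    (∃ a' : F ⟶ obj X W, a' ≫ incl X W = a) ↔ ∀ x : AlgSp.Points F, AlgSp.Points.map a x ∈ W := by
  constructor
  · rintro ⟨a', rfl⟩ x
    rw [AlgSp.Points.map_comp]
    have hmem : AlgSp.Points.map (incl X W) (AlgSp.Points.map a' x) ∈
        Set.range (AlgSp.Points.map (incl X W)) := ⟨_, rfl⟩
    rwa [range_map_incl] at hmem
  · intro h
    have hle : Subfunctor.range a.hom ≤ sub X W := by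
      intro T ξ' hξ'
      obtain ⟨ξ, rfl⟩ := hξ'
      intro t
      have e := yEquiv_symm_comp a ξ
      rw [← e, ← AlgSp.Points.map_ofPt]
      exact h _
    exact ⟨ObjectProperty.homMk (Subfunctor.lift a.hom hle), rfl⟩

/-- the open subspace of an algebraic space defined by an open set of points, with its
factorisation property. -/
theorem exists_open_subspace_factor {Z : AlgSp.Space S} (Wset : Set (AlgSp.Points Z.obj))
    (hWo : IsOpen Wset) :
    ∃ (W : AlgSp.Space S) (w : W ⟶ Z), AlgSp.RepWith @IsOpenImmersion w.hom ∧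
      ∀ (Z' : AlgSp.Space S) (g : Z' ⟶ Z),
        (∃ k : Z' ⟶ W, k ≫ w = g) ↔ ∀ z' : AlgSp.Points Z'.obj, AlgSp.Points.map g.hom z' ∈ Wset := by
  refine ⟨⟨obj Z.obj Wset, isAlgSpace_obj Z.property hWo⟩,
    ObjectProperty.homMk (incl Z.obj _), repWith_incl hWo, fun Z' g => ?_⟩
  rw [← factor_iff_points]
  constructor
  · rintro ⟨k, rfl⟩
    exact ⟨k.hom, rfl⟩
  · rintro ⟨k, hk⟩
    exact ⟨ObjectProperty.homMk k, by ext1; exact hk⟩

/-- the standard base change of `f : X ⟶ Y` over `Z` along `g : Z' ⟶ Z`, as algebraic spaces. -/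
theorem exists_standard_baseChange {X Y Z Z' : AlgSp.Space S} (f : X ⟶ Y) (q : Y ⟶ Z) (g : Z' ⟶ Z) :
    ∃ (Y' : AlgSp.Space S) (gY : Y' ⟶ Y) (q' : Y' ⟶ Z') (X' : AlgSp.Space S) (gX : X' ⟶ X)
      (f' : X' ⟶ Y'), IsPullback gY.hom q'.hom q.hom g.hom ∧ IsPullback gX.hom f'.hom f.hom gY.hom := by
  have sqY0 := IsPullback.of_hasPullback q.hom g.hom
  let Y' : AlgSp.Space S := ⟨pullback q.hom g.hom,
    Groth.Agent.S9874.isAlgSpace_of_isPullback Z.property.diag Y.property Z'.property sqY0⟩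
  let gY : Y' ⟶ Y := ObjectProperty.homMk (pullback.fst q.hom g.hom)
  let q' : Y' ⟶ Z' := ObjectProperty.homMk (pullback.snd q.hom g.hom)
  have sqX0 := IsPullback.of_hasPullback f.hom gY.hom
  let X' : AlgSp.Space S := ⟨pullback f.hom gY.hom,
    Groth.Agent.S9874.isAlgSpace_of_isPullback Y.property.diag X.property Y'.property sqX0⟩
  exact ⟨Y', gY, q', X', ObjectProperty.homMk (pullback.fst f.hom gY.hom),
    ObjectProperty.homMk (pullback.snd f.hom gY.hom), sqY0, sqX0⟩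

/-- points of a base change `X' = X ×_Y Y'`, `Y' = Y ×_Z Z'` over a point of `X` and a point of `Z'`. -/
theorem exists_point_of_baseChange {X Y Z X' Y' Z' : AlgSp.Sp S} {f : X ⟶ Y} {q : Y ⟶ Z} {g : Z' ⟶ Z}
    {gY : Y' ⟶ Y} {q' : Y' ⟶ Z'} {gX : X' ⟶ X} {f' : X' ⟶ Y'}
    (sqY : IsPullback gY q' q g) (sqX : IsPullback gX f' f gY) (x : AlgSp.Points X)
    (z' : AlgSp.Points Z') (e : AlgSp.Points.map g z' = AlgSp.Points.map (f ≫ q) x) :
    ∃ x' : AlgSp.Points X', AlgSp.Points.map gX x' = x ∧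
      AlgSp.Points.map q' (AlgSp.Points.map f' x') = z' := by
  have big : IsPullback gX (f' ≫ q') (f ≫ q) g := sqX.paste_vert sqY
  obtain ⟨x', h1, h2⟩ := Groth.Agent.S10175.exists_point_of_isPullback big.flip z' x e
  exact ⟨x', h2, by rw [← AlgSp.Points.map_comp]; exact h1⟩

theorem exists_where_open {X Y Z : AlgSp.Space S} (f : X ⟶ Y) (p : X ⟶ Z) (q : Y ⟶ Z)
    (hc : f ≫ q = p) (hp : AlgSp.IsClosedMor p.hom) (T : Set (AlgSp.Points X.obj)) (hT : IsOpen T)
    (P : ∀ {X' Y' : AlgSp.Space S}, (X' ⟶ Y') → Prop)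
    (hP : ∀ (Z' : AlgSp.Space S) (g : Z' ⟶ Z) (Y' : AlgSp.Space S) (gY : Y' ⟶ Y) (q' : Y' ⟶ Z'),
      IsPullback gY.hom q'.hom q.hom g.hom →
      ∀ (X' : AlgSp.Space S) (gX : X' ⟶ X) (f' : X' ⟶ Y'), IsPullback gX.hom f'.hom f.hom gY.hom →
        (P f' ↔ ∀ x' : AlgSp.Points X'.obj, AlgSp.Points.map gX.hom x' ∈ T)) :
    ∃ (W : AlgSp.Space S) (w : W ⟶ Z), AlgSp.RepWith @IsOpenImmersion w.hom ∧
      ∀ (Z' : AlgSp.Space S) (g : Z' ⟶ Z),
        (∃ k : Z' ⟶ W, k ≫ w = g) ↔
          ∀ (Y' : AlgSp.Space S) (gY : Y' ⟶ Y) (q' : Y' ⟶ Z'),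
            IsPullback gY.hom q'.hom q.hom g.hom →
            ∀ (X' : AlgSp.Space S) (gX : X' ⟶ X) (f' : X' ⟶ Y'),
              IsPullback gX.hom f'.hom f.hom gY.hom → P f' := by
  have hcomp : f.hom ≫ q.hom = p.hom := by rw [← hc]; rfl
  have hD : IsClosed (AlgSp.Points.map p.hom '' Tᶜ) := hp _ hT.isClosed_compl
  have hWo : IsOpen (AlgSp.Points.map p.hom '' Tᶜ)ᶜ := hD.isOpen_compl
  refine ⟨⟨obj Z.obj (AlgSp.Points.map p.hom '' Tᶜ)ᶜ, isAlgSpace_obj Z.property hWo⟩,
    ObjectProperty.homMk (incl Z.obj _), repWith_incl hWo, fun Z' g => ?_⟩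
  have hfac : (∃ k : Z' ⟶ (⟨obj Z.obj (AlgSp.Points.map p.hom '' Tᶜ)ᶜ,
        isAlgSpace_obj Z.property hWo⟩ : AlgSp.Space S),
        k ≫ (ObjectProperty.homMk (incl Z.obj _) : _ ⟶ Z) = g) ↔
      ∀ z' : AlgSp.Points Z'.obj,
        AlgSp.Points.map g.hom z' ∈ (AlgSp.Points.map p.hom '' Tᶜ)ᶜ := by
    rw [← factor_iff_points]
    constructor
    · rintro ⟨k, rfl⟩
      exact ⟨k.hom, rfl⟩
    · rintro ⟨k, hk⟩
      exact ⟨ObjectProperty.homMk k, by ext1; exact hk⟩
  rw [hfac]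
  constructor
  · intro h Y' gY q' sqY X' gX f' sqX
    rw [hP Z' g Y' gY q' sqY X' gX f' sqX]
    intro x'
    by_contra hx
    refine h (AlgSp.Points.map q'.hom (AlgSp.Points.map f'.hom x')) ⟨_, hx, ?_⟩
    rw [← hcomp, AlgSp.Points.map_comp, ← AlgSp.Points.map_comp gX.hom f.hom, sqX.w,
      AlgSp.Points.map_comp, ← AlgSp.Points.map_comp gY.hom q.hom, sqY.w, AlgSp.Points.map_comp]
  · intro h z'
    rintro ⟨x, hx, hxz⟩
    -- the standard base change
    have sqY0 := IsPullback.of_hasPullback q.hom g.hom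
    let Y' : AlgSp.Space S := ⟨pullback q.hom g.hom,
      Groth.Agent.S9874.isAlgSpace_of_isPullback Z.property.diag Y.property Z'.property sqY0⟩
    let gY : Y' ⟶ Y := ObjectProperty.homMk (pullback.fst q.hom g.hom)
    let q' : Y' ⟶ Z' := ObjectProperty.homMk (pullback.snd q.hom g.hom)
    have sqX0 := IsPullback.of_hasPullback f.hom gY.hom
    let X' : AlgSp.Space S := ⟨pullback f.hom gY.hom,
      Groth.Agent.S9874.isAlgSpace_of_isPullback Y.property.diag X.property Y'.property sqX0⟩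
    let gX : X' ⟶ X := ObjectProperty.homMk (pullback.fst f.hom gY.hom)
    let f' : X' ⟶ Y' := ObjectProperty.homMk (pullback.snd f.hom gY.hom)
    have hall := (hP Z' g Y' gY q' sqY0 X' gX f' sqX0).mp (h Y' gY q' sqY0 X' gX f' sqX0)
    have big : IsPullback gX.hom (f'.hom ≫ q'.hom) p.hom g.hom := by
      rw [← hcomp]
      exact sqX0.paste_vert sqY0
    obtain ⟨x', hx'1, hx'2⟩ := Groth.Agent.S10175.exists_point_of_isPullback big.flip z' x hxz.symm
    exact hx (hx'2 ▸ hall x')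

end Groth.Agent.R2.H93.Where
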