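import Mathlib
import Groth.Agent.R2.H59QSpec

/-!
# PROJ:thmQ, PKG-2 (helper89): `EmptyStmt` and `OffDiagStmt` of `R2/H59QSpec.lean`.
-/

set_option autoImplicit false
universe u

open CategoryTheory CategoryTheory.Limits AlgebraicGeometry

namespace Groth.Agent.R2.H89.QOffDiag

open Groth.Agent.R2.H59.QSpec

/-- point-level surjectivity onto a fibre product, for an arbitrary pullback square of schemes. -/
lemma exists_point_of_isPullback {P X Y Z : Scheme.{u}} {fst : P ⟶ X} {snd : P ⟶ Y} {f : X ⟶ Z}
    {g : Y ⟶ Z} (sq : IsPullback fst snd f g) (x : ↥X) (y : ↥Y) (h : f x = g y) :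
    ∃ z : ↥P, fst z = x ∧ snd z = y := by
  obtain ⟨z, hz1, hz2⟩ := Scheme.Pullback.exists_preimage_pullback (f := f) (g := g) x y h
  refine ⟨sq.isoPullback.inv z, ?_, ?_⟩
  · rw [← hz1, ← Scheme.Hom.comp_apply, sq.isoPullback_inv_fst]
  · rw [← hz2, ← Scheme.Hom.comp_apply, sq.isoPullback_inv_snd]

theorem emptyStmt : EmptyStmt.{u} := by
  intro T' T g h
  refine ⟨fun t' => ?_⟩
  have := h (T'.residueField t') (T'.fromSpecResidueField t' ≫ g) {T'.fromSpecResidueField t'}
    (by intro z hz; rw [Finset.mem_singleton] at hz; rw [hz])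
  simp at this

/-- the open complement of the diagonal. -/
noncomputable def offDiagOpen {T' T : Scheme.{u}} (g : T' ⟶ T) [Etale g] [IsSeparated g] :
    (pullback g g).Opens :=
  ⟨(Set.range (pullback.diagonal g))ᶜ,
    (pullback.diagonal g).isClosedEmbedding.isClosed_range.isOpen_compl⟩

theorem offDiagStmt : OffDiagStmt.{u} := by
  intro T' T g _ _ d hd
  let W : (pullback g g).Opens := offDiagOpen g
  have hW : ∀ w : ↥(pullback g g), w ∈ W ↔ w ∉ Set.range (pullback.diagonal g) := fun w => Iff.rfl
  let ι : W.toScheme ⟶ pullback g g := W.ι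
  have hrange : Set.range ι = (Set.range (pullback.diagonal g))ᶜ := by
    rw [Scheme.Opens.range_ι]; rfl
  refine ⟨W.toScheme, ι ≫ pullback.fst g g, ι ≫ pullback.snd g g, ?_, ?_, ?_, ?_, ?_⟩
  · rw [Category.assoc, Category.assoc, pullback.condition]
  · infer_instance
  · infer_instance
  · -- bounded fibres
    intro L _ y s hs
    classical
    have hinj : Set.InjOn (fun z : Spec (CommRingCat.of L) ⟶ W.toScheme => z ≫ ι ≫ pullback.snd g g)
        (s : Set (Spec (CommRingCat.of L) ⟶ W.toScheme)) := by
      intro z₁ hz₁ z₂ hz₂ h12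
      have h1 := hs z₁ hz₁
      have h2 := hs z₂ hz₂
      have : z₁ ≫ ι = z₂ ≫ ι := by
        apply pullback.hom_ext
        · simp only [Category.assoc]; rw [h1, h2]
        · simpa only [Category.assoc] using h12
      exact (cancel_mono ι).1 this
    let s' : Finset (Spec (CommRingCat.of L) ⟶ T') :=
      insert y (s.image (fun z => z ≫ ι ≫ pullback.snd g g))
    have hy : y ∉ s.image (fun z => z ≫ ι ≫ pullback.snd g g) := by
      intro hmem
      rw [Finset.mem_image] at hmem
      obtain ⟨z, hz, hzy⟩ := hmem
      have h1 := hs z hz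
      have hzΔ : z ≫ ι = y ≫ pullback.diagonal g := by
        apply pullback.hom_ext
        · simp only [Category.assoc, pullback.diagonal_fst, Category.comp_id]; exact h1
        · simp only [Category.assoc, pullback.diagonal_snd, Category.comp_id]; exact hzy
      -- a point of Spec L
      let pt : ↥(Spec (CommRingCat.of L)) := IsLocalRing.closedPoint L
      have h3 : ι (z pt) ∈ Set.range ι := ⟨_, rfl⟩
      rw [hrange] at h3
      apply h3
      refine ⟨y pt, ?_⟩
      rw [← Scheme.Hom.comp_apply, ← Scheme.Hom.comp_apply, hzΔ]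
    have hcard : s'.card = s.card + 1 := by
      rw [Finset.card_insert_of_notMem hy, Finset.card_image_of_injOn hinj]
    have hle := hd L (y ≫ g) s' (by
      intro z hz
      rw [Finset.mem_insert, Finset.mem_image] at hz
      rcases hz with rfl | ⟨w, hw, rfl⟩
      · rfl
      · have h1 := hs w hw
        simp only [Category.assoc]
        rw [← pullback.condition, ← h1]
        simp only [Category.assoc])
    omega
  · -- covering clause
    intro N P N' σ a b a' b' sqP sqN' sec m hsa hsb hma hmb p
    have hc : b ≫ g = (a ≫ σ) ≫ g := by rw [Category.assoc, ← sqP.w]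
    let φ : P ⟶ pullback g g := pullback.lift b (a ≫ σ) hc
    have hφ1 : φ ≫ pullback.fst g g = b := pullback.lift_fst _ _ _
    have hφ2 : φ ≫ pullback.snd g g = a ≫ σ := pullback.lift_snd _ _ _
    -- P = N ×_{T'} (T' ×_T T')
    have sq1 : IsPullback a φ σ (pullback.snd g g) := by
      refine IsPullback.of_bot ?_ hφ2.symm (IsPullback.of_hasPullback g g).flip
      rw [hφ1]
      exact sqP
    by_cases hp : φ p ∈ Set.range (pullback.diagonal g)
    · left
      obtain ⟨t₀, ht₀⟩ := hp
      have sq2 : IsPullback sec σ φ (pullback.diagonal g) := by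
        refine IsPullback.of_right ?_ ?_ sq1
        · rw [hsa, pullback.diagonal_snd]
          exact IsPullback.of_horiz_isIso ⟨by simp⟩
        · apply pullback.hom_ext
          · simp only [Category.assoc, pullback.diagonal_fst, Category.comp_id]
            rw [hφ1, hsb]
          · simp only [Category.assoc, pullback.diagonal_snd, Category.comp_id]
            rw [hφ2, ← Category.assoc, hsa, Category.id_comp]
      obtain ⟨n, hn, -⟩ := exists_point_of_isPullback sq2 p t₀ ht₀.symm
      exact ⟨n, hn⟩
    · right
      have hp' : φ p ∈ Set.range ι := by rw [hrange]; exact hp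
      obtain ⟨δ₀, hδ₀⟩ := hp'
      have sq3 : IsPullback m b' φ ι := by
        refine IsPullback.of_right ?_ ?_ sq1
        · rw [hma]
          exact sqN'
        · apply pullback.hom_ext
          · simp only [Category.assoc]
            rw [hφ1, hmb]
          · simp only [Category.assoc]
            rw [hφ2, ← Category.assoc, hma, sqN'.w]
      obtain ⟨n', hn', -⟩ := exists_point_of_isPullback sq3 p δ₀ hδ₀.symm
      exact ⟨n', hn'⟩

end Groth.Agent.R2.H89.QOffDiag
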