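import Mathlib
import Groth.Agent.R2.H59QSpec
import Groth.Agent.R2.H89QOffDiag

/-!
# PROJ:thmQ, PKG-1 (helper89): `EtLocStmt` of `R2/H59QSpec.lean`.
-/

set_option autoImplicit false
universe u

open CategoryTheory CategoryTheory.Limits AlgebraicGeometry Polynomial

namespace Groth.Agent.R2.H89.QEtLoc

open Groth.Agent.R2.H59.QSpec

/-- an `A`-algebra map out of a standard etale algebra into a field is determined by a root of the
monic polynomial of a presentation: there are at most `natDegree f` of them. -/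
lemma card_algHom_le {A B L : Type*} [CommRing A] [CommRing B] [Algebra A B] [Field L] [Algebra A L]
    (P : StandardEtalePresentation A B) (s : Finset (B →ₐ[A] L)) :
    s.card ≤ P.f.natDegree := by
  classical
  have hmon : (P.f.map (algebraMap A L)).Monic := P.monic_f.map _
  have hne : P.f.map (algebraMap A L) ≠ 0 := hmon.ne_zero
  have hinj : Set.InjOn (fun ψ : B →ₐ[A] L => ψ P.x) (s : Set (B →ₐ[A] L)) := by
    intro ψ₁ _ ψ₂ _ h
    exact P.hom_ext h
  have hsub : s.image (fun ψ : B →ₐ[A] L => ψ P.x) ⊆ (P.f.map (algebraMap A L)).roots.toFinset := by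
    intro r hr
    rw [Finset.mem_image] at hr
    obtain ⟨ψ, -, rfl⟩ := hr
    rw [Multiset.mem_toFinset, Polynomial.mem_roots hne, Polynomial.IsRoot.def, Polynomial.eval_map,
      ← Polynomial.aeval_def]
    exact (P.hasMap.map ψ).1
  calc s.card = (s.image (fun ψ : B →ₐ[A] L => ψ P.x)).card := (Finset.card_image_of_injOn hinj).symm
    _ ≤ (P.f.map (algebraMap A L)).roots.toFinset.card := Finset.card_le_card hsub
    _ ≤ Multiset.card (P.f.map (algebraMap A L)).roots := Multiset.toFinset_card_le _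
    _ ≤ (P.f.map (algebraMap A L)).natDegree := Polynomial.card_roots' _
    _ = P.f.natDegree := P.monic_f.natDegree_map _

/-- bounded fibres for `Spec` of a standard etale algebra followed by a monomorphism. -/
lemma bddFib_of_isStandardEtale {A B : Type u} [CommRing A] [CommRing B] [Algebra A B]
    (P : StandardEtalePresentation A B) {T : Scheme.{u}} (ι₀ : Spec (CommRingCat.of A) ⟶ T) [Mono ι₀] :
    BddFib P.f.natDegree (Spec.map (CommRingCat.ofHom (algebraMap A B)) ≫ ι₀) := by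
  classical
  intro L _ y s hs
  rcases s.eq_empty_or_nonempty with rfl | ⟨z₀, hz₀⟩
  · simp
  -- the common structure map
  let ψ : (Spec (CommRingCat.of L) ⟶ Spec (CommRingCat.of B)) → (B →+* L) :=
    fun z => (Spec.preimage z).hom
  have hψ : ∀ z, Spec.map (CommRingCat.ofHom (ψ z)) = z := fun z => Spec.map_preimage z
  let θ : A →+* L := (ψ z₀).comp (algebraMap A B)
  have hθ : ∀ z ∈ s, (ψ z).comp (algebraMap A B) = θ := by
    intro z hz
    have h1 : z ≫ Spec.map (CommRingCat.ofHom (algebraMap A B)) =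
        z₀ ≫ Spec.map (CommRingCat.ofHom (algebraMap A B)) := by
      rw [← cancel_mono ι₀, Category.assoc, Category.assoc, hs z hz, hs z₀ hz₀]
    rw [← hψ z, ← hψ z₀, ← Spec.map_comp, ← Spec.map_comp] at h1
    have h2 := Spec.map_injective h1
    have h3 := congrArg CommRingCat.Hom.hom h2
    simpa using h3
  let _ : Algebra A L := θ.toAlgebra
  let F : {z // z ∈ s} → (B →ₐ[A] L) := fun z =>
    { (ψ z.1) with
      commutes' := fun a => by
        have := hθ z.1 z.2
        exact congrArg (fun k : A →+* L => k a) this }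
  have hF : Function.Injective F := by
    intro z₁ z₂ h
    apply Subtype.ext
    rw [← hψ z₁.1, ← hψ z₂.1]
    congr 2
    ext b
    exact congrArg (fun k : B →ₐ[A] L => k b) h
  calc s.card = s.attach.card := Finset.card_attach.symm
    _ = (s.attach.image F).card := (Finset.card_image_of_injective _ hF).symm
    _ ≤ P.f.natDegree := card_algHom_le P _

theorem etLocStmt : EtLocStmt.{u} := by
  intro U T f _ u hu
  -- affine opens around `u` and `f u`
  obtain ⟨_, ⟨T₀, hT₀, rfl⟩, huT₀, -⟩ := T.isBasis_affineOpens.exists_subset_of_mem_open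
    (Set.mem_univ (f u)) isOpen_univ
  obtain ⟨_, ⟨U₀, hU₀, rfl⟩, huU₀, hUT : U₀ ≤ f ⁻¹ᵁ T₀⟩ :=
    U.isBasis_affineOpens.exists_subset_of_mem_open huT₀ (f ⁻¹ᵁ T₀).2
  let φ₀ : Γ(T, T₀) ⟶ Γ(U, U₀) := f.appLE T₀ U₀ hUT
  let f₀ : Spec Γ(U, U₀) ⟶ Spec Γ(T, T₀) := Spec.map φ₀
  have hcomm : f₀ ≫ hT₀.fromSpec = hU₀.fromSpec ≫ f := hT₀.SpecMap_appLE_fromSpec f hU₀ hUT
  have hft : LocallyOfFiniteType f₀ :=
    (HasRingHomProperty.Spec_iff (P := @LocallyOfFiniteType)).2 (f.finiteType_appLE hT₀ hU₀ hUT)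
  let x₀ : ↥(Spec Γ(U, U₀)) := hU₀.primeIdealOf ⟨u, huU₀⟩
  have hx₀ : hU₀.fromSpec x₀ = u := hU₀.fromSpec_primeIdealOf ⟨u, huU₀⟩
  have hqf : f₀.QuasiFiniteAt x₀ := by
    have h1 : (hU₀.fromSpec ≫ f).QuasiFiniteAt x₀ := by
      rw [Scheme.Hom.quasiFiniteAt_comp_iff_of_isOpenImmersion, hx₀]
      exact hu
    rw [← hcomm] at h1
    exact (Scheme.Hom.quasiFiniteAt_comp_iff (g := hT₀.fromSpec)).1 h1
  obtain ⟨T'', g'', hg'', -, V₀, W₀, v₀, -, hfin, hv₀⟩ :=
    exists_etale_isCompl_of_quasiFiniteAt f₀ rfl hqf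
  let t'' : ↥T'' := pullback.snd f₀ g'' v₀.1
  obtain ⟨_, ⟨W, hW, rfl⟩, htW, -⟩ := T''.isBasis_affineOpens.exists_subset_of_mem_open
    (Set.mem_univ t'') isOpen_univ
  -- the ring map of the chart `W`
  let φW : Γ(T, T₀) ⟶ Γ(T'', W) := Spec.preimage (hW.fromSpec ≫ g'')
  have hφW : Spec.map φW = hW.fromSpec ≫ g'' := Spec.map_preimage _
  have hφWet : φW.hom.Etale := by
    rw [← HasRingHomProperty.Spec_iff (P := @Etale), hφW]
    infer_instance
  algebraize [φW.hom]
  let q₀ : PrimeSpectrum Γ(T'', W) := hW.primeIdealOf ⟨t'', htW⟩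
  have hq₀ : hW.fromSpec q₀ = t'' := hW.fromSpec_primeIdealOf ⟨t'', htW⟩
  obtain ⟨f₁, hf₁, hstd⟩ := Algebra.IsEtaleAt.exists_isStandardEtale (R := Γ(T, T₀)) q₀.asIdeal
  let B' := Localization.Away f₁
  let P := (Algebra.IsStandardEtale.nonempty_standardEtalePresentation (R := Γ(T, T₀))
    (S := B')).some
  let loc : Γ(T'', W) ⟶ CommRingCat.of B' := CommRingCat.ofHom (algebraMap Γ(T'', W) B')
  let j' : Spec (CommRingCat.of B') ⟶ T'' := Spec.map loc ≫ hW.fromSpec
  have hj'g : j' ≫ g'' = Spec.map (CommRingCat.ofHom (algebraMap Γ(T, T₀) B')) := by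
    simp only [j', Category.assoc, ← hφW, ← Spec.map_comp]
    congr 1
  let g : Spec (CommRingCat.of B') ⟶ T := j' ≫ g'' ≫ hT₀.fromSpec
  have hgsep : IsSeparated g := by
    have : g = (j' ≫ g'') ≫ hT₀.fromSpec := by simp [g]
    rw [this, hj'g]
    infer_instance
  have hbdd : BddFib P.f.natDegree g := by
    have : g = Spec.map (CommRingCat.ofHom (algebraMap Γ(T, T₀) B')) ≫ hT₀.fromSpec := by
      rw [← hj'g]; simp [g]
    rw [this]
    exact bddFib_of_isStandardEtale P hT₀.fromSpec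
  -- the two comparison open immersions
  let P' := pullback f₀ (j' ≫ g'')
  have e₂ : (j' ≫ g'') ≫ hT₀.fromSpec = 𝟙 _ ≫ g := by simp [g]
  let κ : P' ⟶ pullback f g :=
    pullback.map f₀ (j' ≫ g'') f g hU₀.fromSpec (𝟙 _) hT₀.fromSpec hcomm e₂
  let lam : P' ⟶ pullback f₀ g'' :=
    pullback.map f₀ (j' ≫ g'') f₀ g'' (𝟙 _) j' (𝟙 _) (by simp) (by simp)
  have hlam_fst : lam ≫ pullback.fst f₀ g'' = pullback.fst f₀ (j' ≫ g'') :=
    (pullback.lift_fst _ _ _).trans (Category.comp_id _)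
  have hlam_snd : lam ≫ pullback.snd f₀ g'' = pullback.snd f₀ (j' ≫ g'') ≫ j' :=
    pullback.lift_snd _ _ _
  have hκ_fst : κ ≫ pullback.fst f g = pullback.fst f₀ (j' ≫ g'') ≫ hU₀.fromSpec :=
    pullback.lift_fst _ _ _
  have hκ_snd : κ ≫ pullback.snd f g = pullback.snd f₀ (j' ≫ g'') :=
    (pullback.lift_snd _ _ _).trans (Category.comp_id _)
  have sqlam : IsPullback lam (pullback.snd f₀ (j' ≫ g'')) (pullback.snd f₀ g'') j' := by
    refine IsPullback.of_right ?_ hlam_snd (IsPullback.of_hasPullback f₀ g'')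
    rw [hlam_fst]
    exact IsPullback.of_hasPullback f₀ (j' ≫ g'')
  -- the open subscheme `V`
  let VV : P'.Opens := lam ⁻¹ᵁ V₀
  let j : VV.toScheme ⟶ pullback f g := VV.ι ≫ κ
  have hjsnd : j ≫ pullback.snd f g = VV.ι ≫ pullback.snd f₀ (j' ≫ g'') := by
    simp only [j, Category.assoc, hκ_snd]
  have sqV : IsPullback (lam ∣_ V₀) (VV.ι ≫ pullback.snd f₀ (j' ≫ g''))
      (V₀.ι ≫ pullback.snd f₀ g'') j' :=
    (isPullback_morphismRestrict lam V₀).paste_vert sqlam
  have hjfin : IsFinite (j ≫ pullback.snd f g) := by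
    rw [hjsnd]
    exact MorphismProperty.of_isPullback (P := @IsFinite) sqV hfin
  -- the point
  have ht''range : t'' ∈ Set.range j' := by
    have h1 : q₀ ∈ Set.range (Spec.map loc) := by
      have := PrimeSpectrum.localization_away_comap_range B' f₁
      change q₀ ∈ Set.range (PrimeSpectrum.comap (algebraMap Γ(T'', W) B'))
      rw [this]
      exact hf₁
    obtain ⟨q', hq'⟩ := h1
    refine ⟨q', ?_⟩
    rw [← hq₀, ← hq']
    rfl
  obtain ⟨t', ht'⟩ := ht''range
  obtain ⟨p', hp'1, hp'2⟩ := Groth.Agent.R2.H89.QOffDiag.exists_point_of_isPullback sqlam v₀.1 t'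
    (by rw [ht'])
  have hp'V : p' ∈ VV := by
    change lam p' ∈ V₀
    rw [hp'1]
    exact v₀.2
  refine ⟨Spec (CommRingCat.of B'), g, VV.toScheme, j, ⟨p', hp'V⟩, inferInstance, ?_, hgsep,
    ⟨_, hbdd⟩, inferInstance, hjfin, ?_⟩
  · infer_instance
  · change (pullback.fst f g) ((VV.ι ≫ κ) ⟨p', hp'V⟩) = u
    rw [← Scheme.Hom.comp_apply, Category.assoc, hκ_fst, ← hlam_fst]
    simp only [Scheme.Hom.comp_apply]
    have : VV.ι ⟨p', hp'V⟩ = p' := rfl
    rw [this, hp'1, hv₀, hx₀]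

end Groth.Agent.R2.H89.QEtLoc
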