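import Groth.Agent.R2.H59QLocal
import Groth.Agent.R2.H89QOffDiag
import Groth.Agent.R2.H89QEtLoc
import Groth.Agent.R2.H14QFinQuot

/-!
# Theorem Q (helper59, with packages by helper89 and helper14)

An algebraic space which is separated and locally quasi-finite over a scheme is a scheme; a
separated locally quasi-finite morphism of algebraic spaces is representable.
-/

set_option autoImplicit false
universe u

open CategoryTheory CategoryTheory.Limits AlgebraicGeometry

namespace Groth.Agent.R2.H59.QMain

open AlgSp Groth.Agent.R2.H59.QDesc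

variable {S : Scheme.{u}}

/-- **Theorem Q**: an algebraic space separated and locally quasi-finite over a scheme is a scheme. -/
theorem exists_iso_yon {T : Over S} {X : Sp S} (hX : IsAlgSpace X) (f : X ⟶ (yon S).obj T)
    (hsep : IsSeparatedMor f)
    (hqf : LocP ((@LocallyQuasiFinite : MorphismProperty Scheme.{u}) ⊓ @LocallyOfFiniteType) f) :
    ∃ (W : Over S), Nonempty ((yon S).obj W ≅ X) :=
  Groth.Agent.R2.H59.QLocal.exists_iso_yon Groth.Agent.R2.H89.QOffDiag.emptyStmt
    Groth.Agent.R2.H89.QOffDiag.offDiagStmt Groth.Agent.R2.H89.QEtLoc.etLocStmt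
    Groth.Agent.R2.H14.QFinQuot.finQuot hX f hsep hqf

/-- a separated locally quasi-finite morphism of algebraic spaces is representable by schemes. -/
theorem representable_of_lqf_separated {X Y : Sp S} (hX : IsAlgSpace X) (hY : IsAlgSpace Y)
    (f : X ⟶ Y) (hsep : IsSeparatedMor f)
    (hqf : LocP ((@LocallyQuasiFinite : MorphismProperty Scheme.{u}) ⊓ @LocallyOfFiniteType) f) :
    Representable f :=
  Groth.Agent.R2.H59.QLocal.representable_of_lqf_separated Groth.Agent.R2.H89.QOffDiag.emptyStmt
    Groth.Agent.R2.H89.QOffDiag.offDiagStmt Groth.Agent.R2.H89.QEtLoc.etLocStmt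
    Groth.Agent.R2.H14.QFinQuot.finQuot hX hY f hsep hqf

end Groth.Agent.R2.H59.QMain
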