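import Mathlib
import Groth.Agent.R2.H45BCChart
import Groth.Agent.R2.H45GrpLocus
import Groth.Agent.R2.H93Where
import Groth.Agent.R2.H93MonoLft
import Groth.Agent.R2.H93FinProps
import Groth.Agent.S16833
import Groth.Agent.S10278
import Groth.Agent.S10211
import Groth.Agent.S10176

/-!
# helper93: étale localization splits off a finite clopen piece through a quasi-finite point
(algebraic spaces), from Mathlib's `exists_etale_isCompl_of_quasiFiniteAt`.
-/

set_option autoImplicit false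
set_option linter.style.haveILetI false
universe u

namespace Groth.Agent.R2.H93.SplitQf

open AlgebraicGeometry CategoryTheory CategoryTheory.Limits AlgSp
open Groth.Agent.R2.H45.GrpLocus Groth.Agent.R2.H45.RelDim

variable {S : Scheme.{u}}

/-- `h` of a finite morphism of schemes over `S` is a finite morphism of sheaves. -/
theorem isFiniteMor_yon_map {A B : Over S} (φ : A ⟶ B) [IsFinite φ.left] :
    AlgSp.IsFiniteMor ((AlgSp.yon S).map φ) := by
  intro Z hZ g
  obtain ⟨γ, rfl⟩ := (AlgSp.yon S).map_surjective g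
  have sq := IsPullback.of_hasPullback φ γ
  have sqS : IsPullback (pullback.fst φ γ).left (pullback.snd φ γ).left φ.left γ.left :=
    sq.map (Over.forget S)
  haveI : IsFinite (pullback.snd φ γ).left :=
    MorphismProperty.of_isPullback (P := @IsFinite) sqS ‹_›
  haveI : IsAffine Z.left := hZ
  exact ⟨pullback φ γ, pullback.snd φ γ, (AlgSp.yon S).map (pullback.fst φ γ), sq.map (AlgSp.yon S),
    isAffine_of_isAffineHom (pullback.snd φ γ).left, inferInstance⟩

/-- Scheme-level input: an affine chart diagram through a quasi-finite point and Mathlib's étale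
localization. -/
theorem exists_scheme_split {U0 V0 : Over S} (h0 : U0 ⟶ V0) (u0 : ↥U0.left)
    (hQ : Qlqf U0.left V0.left h0.left u0) :
    ∃ (W1 : Over S) (iW : W1 ⟶ U0) (_ : IsOpenImmersion iW.left) (Uo : Over S) (g : Uo ⟶ V0)
      (_ : Etale g.left) (P1 : Over S) (p1 : P1 ⟶ W1) (p2 : P1 ⟶ Uo)
      (_ : IsPullback p1 p2 (iW ≫ h0) g) (Vo : Over S) (ιV : Vo ⟶ P1)
      (_ : IsOpenImmersion ιV.left) (_ : IsFinite (ιV ≫ p2).left) (v : ↥Vo.left),
      iW.left (p1.left (ιV.left v)) = u0 := by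
  obtain ⟨W0, hu0W, hlqf0, hlft0⟩ := hQ
  obtain ⟨_, ⟨W1', hW1', rfl⟩, hu0W1, hW1W0⟩ :=
    U0.left.isBasis_affineOpens.exists_subset_of_mem_open hu0W W0.2
  obtain ⟨W1, rfl⟩ : ∃ W1 : U0.left.Opens, W1 = W1' := ⟨W1', rfl⟩
  have hW1 : IsAffineOpen W1 := hW1'
  have hle : W1 ≤ W0 := hW1W0
  let W1o : Over S := Over.mk (W1.ι ≫ U0.hom)
  let iW : W1o ⟶ U0 := Over.homMk W1.ι rfl
  haveI : IsAffine W1o.left := hW1
  have e1 : (iW ≫ h0).left = U0.left.homOfLE hle ≫ (W0.ι ≫ h0.left) := by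
    show W1.ι ≫ h0.left = _
    rw [← Category.assoc, Scheme.homOfLE_ι]
  haveI : LocallyQuasiFinite (W0.ι ≫ h0.left) := hlqf0
  haveI : LocallyOfFiniteType (W0.ι ≫ h0.left) := hlft0
  haveI : LocallyQuasiFinite (iW ≫ h0).left := by rw [e1]; infer_instance
  haveI : LocallyOfFiniteType (iW ≫ h0).left := by rw [e1]; infer_instance
  haveI : IsSeparated (iW ≫ h0).left := inferInstance
  let w1 : ↥W1o.left := ⟨u0, hu0W1⟩
  obtain ⟨U, g, hg, -, V, W, v, hVW, hVfin, hv⟩ :=
    exists_etale_isCompl_of_quasiFiniteAt (iW ≫ h0).left (x := w1) rfl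
      ((iW ≫ h0).left.quasiFiniteAt w1)
  let Uo : Over S := Over.mk (g ≫ V0.hom)
  let gO : Uo ⟶ V0 := Over.homMk g rfl
  let P1 : Over S := Over.mk (pullback.fst (iW ≫ h0).left g ≫ W1o.hom)
  let p1 : P1 ⟶ W1o := Over.homMk (pullback.fst (iW ≫ h0).left g) rfl
  let p2 : P1 ⟶ Uo := Over.homMk (pullback.snd (iW ≫ h0).left g) (by
    show pullback.snd (iW ≫ h0).left g ≫ (g ≫ V0.hom) = pullback.fst (iW ≫ h0).left g ≫ W1o.hom
    rw [← Over.w (iW ≫ h0), ← Category.assoc, ← Category.assoc, pullback.condition])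
  have sqP : IsPullback p1 p2 (iW ≫ h0) gO :=
    IsPullback.of_map (Over.forget S) (Over.OverMorphism.ext pullback.condition)
      (IsPullback.of_hasPullback (iW ≫ h0).left g)
  let Vo : Over S := Over.mk (V.ι ≫ P1.hom)
  let ιV : Vo ⟶ P1 := Over.homMk V.ι rfl
  refine ⟨W1o, iW, (inferInstance : IsOpenImmersion W1.ι), Uo, gO, hg, P1, p1, p2, sqP, Vo, ιV,
    (inferInstance : IsOpenImmersion V.ι), hVfin, v, ?_⟩
  show W1.ι (pullback.fst (iW ≫ h0).left g (V.ι v)) = u0
  have : pullback.fst (iW ≫ h0).left g (V.ι v) = w1 := hv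
  rw [this]
  rfl


open Groth.Agent.Lib.Helper12.OpenSub in
/-- Stacks 0AD? (one point): étale localization on the target splits off a finite clopen piece
through a quasi-finite point of a separated, locally finite type morphism of algebraic spaces. -/
theorem exists_split {X Y : AlgSp.Space S} (f : X ⟶ Y) (x : AlgSp.Points X.obj)
    (hf2 : AlgSp.IsSeparatedMor f.hom) (hf3 : AlgSp.HasAtMor Qlqf f.hom x) :
    ∃ (U : AlgSp.Space S) (a : U ⟶ Y) (u : AlgSp.Points U.obj), AlgSp.IsEtaleMor a.hom ∧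
      AlgSp.Points.map a.hom u = AlgSp.Points.map f.hom x ∧
      ∀ (P : AlgSp.Space S) (prX : P ⟶ X) (prU : P ⟶ U),
        IsPullback prX.hom prU.hom f.hom a.hom →
        ∃ (V : AlgSp.Space S) (jV : V ⟶ P), AlgSp.RepWith @IsOpenImmersion jV.hom ∧
          AlgSp.RepWith @IsClosedImmersion jV.hom ∧ AlgSp.IsFiniteMor (jV ≫ prU).hom ∧
          ∃ v : AlgSp.Points V.obj, AlgSp.Points.map (jV ≫ prX).hom v = x ∧
            AlgSp.Points.map (jV ≫ prU).hom v = u := by
  obtain ⟨U0, V0, a0, b0, h0, u0, ha0, hb0, comm0, hu0, hQ⟩ := hf3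
  obtain ⟨W1, iW, hiW, Uo, g, hg, P1, p1, p2, sqP, Vo, ιV, hιV, hfin, v, hv⟩ :=
    exists_scheme_split h0 u0 hQ
  have hiWe : AlgSp.RepWith @Etale ((AlgSp.yon S).map iW) :=
    (AlgSp.repWith_yon_map_iff @Etale iW).2 inferInstance
  have ha1 : AlgSp.RepWith @Etale ((AlgSp.yon S).map iW ≫ a0) :=
    (AlgSp.repWith_isMultiplicative (S := S) @Etale).comp_mem _ _ hiWe ha0
  have comm1 : ((AlgSp.yon S).map iW ≫ a0) ≫ f.hom = (AlgSp.yon S).map (iW ≫ h0) ≫ b0 := by
    rw [Category.assoc, comm0, ← Category.assoc, ← Functor.map_comp]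
  have hge : AlgSp.RepWith @Etale ((AlgSp.yon S).map g) :=
    (AlgSp.repWith_yon_map_iff @Etale g).2 hg
  have hae : AlgSp.RepWith @Etale ((AlgSp.yon S).map g ≫ b0) :=
    (AlgSp.repWith_isMultiplicative (S := S) @Etale).comp_mem _ _ hge hb0
  let U : AlgSp.Space S := ⟨(AlgSp.yon S).obj Uo, AlgSp.IsAlgSpace.yon_obj Uo⟩
  let a : U ⟶ Y := ObjectProperty.homMk ((AlgSp.yon S).map g ≫ b0)
  have haE : AlgSp.IsEtaleMor a.hom := fun T φ hφ =>
    (AlgSp.repWith_isMultiplicative (S := S) @Etale).comp_mem _ _ hφ hae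
  refine ⟨U, a, AlgSp.Points.ofPt (𝟙 _) ((ιV ≫ p2).left v), haE, ?_, ?_⟩
  · rw [← hu0, AlgSp.Points.map_ofPt, AlgSp.Points.map_ofPt, Category.id_comp, comm0]
    show AlgSp.Points.ofPt ((AlgSp.yon S).map g ≫ b0) _ = _
    rw [Groth.Agent.S10176.ofPt_map_comp, Groth.Agent.S10176.ofPt_map_comp]
    congr 1
    have e1 : g.left ((ιV ≫ p2).left v) = (p2 ≫ g).left (ιV.left v) := rfl
    have e2 : (p1 ≫ iW ≫ h0).left (ιV.left v) = h0.left (iW.left (p1.left (ιV.left v))) := rfl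
    rw [e1, ← sqP.w, e2, hv]
  · intro P prX prU sq
    have hw : ((AlgSp.yon S).map p1 ≫ (AlgSp.yon S).map iW ≫ a0) ≫ f.hom =
        (AlgSp.yon S).map p2 ≫ a.hom := by
      show _ = (AlgSp.yon S).map p2 ≫ (AlgSp.yon S).map g ≫ b0
      rw [Category.assoc, comm1, ← Category.assoc, ← Functor.map_comp, sqP.w, Functor.map_comp,
        Category.assoc]
    obtain ⟨ψ, hψ1, hψ2⟩ : ∃ ψ : (AlgSp.yon S).obj P1 ⟶ P.obj,
        ψ ≫ prX.hom = (AlgSp.yon S).map p1 ≫ (AlgSp.yon S).map iW ≫ a0 ∧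
          ψ ≫ prU.hom = (AlgSp.yon S).map p2 :=
      ⟨sq.lift _ _ hw, sq.lift_fst _ _ hw, sq.lift_snd _ _ hw⟩
    have hψe : AlgSp.RepWith @Etale ψ :=
      Groth.Agent.R2.H45.BCChart.repWith_etale_baseChange_chart X.property Y.property sq
        ((AlgSp.yon S).map iW ≫ a0) b0 (𝟙 _) (iW ≫ h0) g ha1 hb0 (AlgSp.repWith_id @Etale Uo) comm1
        (by rw [Category.id_comp]; rfl) p1 p2 sqP ψ (by rw [hψ2, Category.comp_id]) hψ1
    -- the finite clopen piece and its image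
    have hψVe : AlgSp.RepWith @Etale ((AlgSp.yon S).map ιV ≫ ψ) :=
      (AlgSp.repWith_isMultiplicative (S := S) @Etale).comp_mem _ _
        ((AlgSp.repWith_yon_map_iff @Etale ιV).2 inferInstance) hψe
    have hopen : IsOpen (Set.range (AlgSp.Points.ofPt ((AlgSp.yon S).map ιV ≫ ψ))) :=
      (Groth.Agent.S10176.isOpenMap_ofPt _ hψVe).isOpen_range
    have hV'alg := isAlgSpace_obj P.property hopen
    have hjo : AlgSp.RepWith @IsOpenImmersion
        (incl P.obj (Set.range (AlgSp.Points.ofPt ((AlgSp.yon S).map ιV ≫ ψ)))) :=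
      repWith_incl hopen
    obtain ⟨ψ', hψ'⟩ : ∃ ψ' : (AlgSp.yon S).obj Vo ⟶
        obj P.obj (Set.range (AlgSp.Points.ofPt ((AlgSp.yon S).map ιV ≫ ψ))),
        ψ' ≫ incl P.obj _ = (AlgSp.yon S).map ιV ≫ ψ := by
      rw [Groth.Agent.R2.H93.Where.factor_iff_points]
      intro t
      rw [← AlgSp.Points.ofScheme_toScheme Vo t, ← AlgSp.Points.ofPt_eq_map_ofScheme]
      exact ⟨_, rfl⟩
    have hje : AlgSp.RepWith @Etale
        (incl P.obj (Set.range (AlgSp.Points.ofPt ((AlgSp.yon S).map ιV ≫ ψ)))) :=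
      repWith_mono (fun _ _ k hk => by haveI : IsOpenImmersion k := hk; infer_instance) hjo
    have hψ'e : AlgSp.RepWith @Etale ψ' :=
      Groth.Agent.R2.H45.BCChart.repWith_etale_cancel hV'alg ψ' (incl P.obj _) hje
        (by rw [hψ']; exact hψVe)
    let V' : AlgSp.Space S :=
      ⟨obj P.obj (Set.range (AlgSp.Points.ofPt ((AlgSp.yon S).map ιV ≫ ψ))), hV'alg⟩
    let jV : V' ⟶ P := ObjectProperty.homMk (incl P.obj _)
    let Vsp : AlgSp.Space S := ⟨(AlgSp.yon S).obj Vo, AlgSp.IsAlgSpace.yon_obj Vo⟩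
    let p : Vsp ⟶ V' := ObjectProperty.homMk ψ'
    have hpE : AlgSp.IsEtaleMor p.hom := fun T φ hφ =>
      (AlgSp.repWith_isMultiplicative (S := S) @Etale).comp_mem _ _ hφ hψ'e
    have hjinj : Function.Injective (AlgSp.Points.map jV.hom) :=
      Groth.Agent.R2.H93.MonoLft.isUnivInjectiveMor_of_mono jV
        (inferInstanceAs (Mono (incl P.obj _))) P.property (𝟙 _) (𝟙 _) jV.hom
        (IsPullback.id_horiz jV.hom)
    have hpS : AlgSp.IsSurjectiveMor p.hom := by
      intro z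
      have hmem : AlgSp.Points.map (incl P.obj _) z ∈
          Set.range (AlgSp.Points.map (incl P.obj
            (Set.range (AlgSp.Points.ofPt ((AlgSp.yon S).map ιV ≫ ψ))))) := ⟨z, rfl⟩
      rw [range_map_incl] at hmem
      obtain ⟨t, ht⟩ := hmem
      refine ⟨AlgSp.Points.ofPt (𝟙 _) t, hjinj ?_⟩
      show AlgSp.Points.map (incl P.obj _) (AlgSp.Points.map ψ' (AlgSp.Points.ofPt (𝟙 _) t)) =
        AlgSp.Points.map (incl P.obj _) z
      rw [← ht, ← AlgSp.Points.map_comp, hψ', AlgSp.Points.map_ofPt, Category.id_comp]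
    have hsepU : AlgSp.IsSeparatedMor prU.hom :=
      Groth.Agent.Lib.Helper12.Proper.isSeparatedMor_baseChange sq hf2
    have hsep : AlgSp.IsSeparatedMor (jV ≫ prU).hom :=
      Groth.Agent.Lib.Helper12.Proper.isSeparatedMor_comp _ _
        (Groth.Agent.Lib.Helper12.Proper.isSeparatedMor_of_mono (incl P.obj _)) hsepU
    have ecomp : (p ≫ (jV ≫ prU)).hom = (AlgSp.yon S).map (ιV ≫ p2) := by
      show ψ' ≫ incl P.obj _ ≫ prU.hom = _
      rw [← Category.assoc, hψ', Category.assoc, hψ2, ← Functor.map_comp]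
    haveI : IsFinite (ιV ≫ p2).left := hfin
    have hfinc : AlgSp.IsFiniteMor (p ≫ (jV ≫ prU)).hom := by
      rw [ecomp]
      exact isFiniteMor_yon_map (ιV ≫ p2)
    have hfinV : AlgSp.IsFiniteMor (jV ≫ prU).hom :=
      Groth.Agent.S16833.result p (jV ≫ prU) hpE hpS hsep hfinc
    have hprop : AlgSp.IsProperMor (jV ≫ prU).hom :=
      Groth.Agent.R2.H93.FinProps.isProperMor_of_isFiniteMor _ hfinV
    have hUCj : AlgSp.IsUnivClosedMor jV.hom :=
      ((Groth.Agent.S10278.result jV (jV ≫ prU) prU rfl hsepU).1 hprop.2.2).1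
    have hUCr : AlgSp.RepWith @UniversallyClosed jV.hom :=
      (Groth.Agent.S9922.result jV hjo.1).2 hUCj
    have hjc : AlgSp.RepWith @IsClosedImmersion jV.hom :=
      ⟨hjo.1, fun T W c' c κ sqκ => by
        haveI : IsOpenImmersion κ.left := hjo.2 c' c κ sqκ
        haveI : UniversallyClosed κ.left := hUCr.2 c' c κ sqκ
        exact Groth.Agent.R2.H93.MonoLft.isClosedImmersion_of_mono_lft_univClosed κ.left⟩
    refine ⟨V', jV, hjo, hjc, hfinV, AlgSp.Points.ofPt ψ' v, ?_, ?_⟩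
    · show AlgSp.Points.map (incl P.obj _ ≫ prX.hom) (AlgSp.Points.ofPt ψ' v) = x
      rw [AlgSp.Points.map_ofPt, ← Category.assoc, hψ', Category.assoc, hψ1, ← hu0,
        Groth.Agent.S10176.ofPt_map_comp, Groth.Agent.S10176.ofPt_map_comp,
        Groth.Agent.S10176.ofPt_map_comp, hv]
    · show AlgSp.Points.map (incl P.obj _ ≫ prU.hom) (AlgSp.Points.ofPt ψ' v) = _
      rw [AlgSp.Points.map_ofPt, ← Category.assoc, hψ', Category.assoc, hψ2, ← Functor.map_comp,
        ← Category.comp_id ((AlgSp.yon S).map (ιV ≫ p2)), Groth.Agent.S10176.ofPt_map_comp]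

end Groth.Agent.R2.H93.SplitQf
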