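import Groth.Agent.R2.H46GF2Chart
import Groth.Agent.R2.H46DecentSch
import Groth.Agent.R2.H93SplitQf

set_option autoImplicit false
set_option linter.style.haveILetI false
universe u
open CategoryTheory CategoryTheory.Limits AlgebraicGeometry Topology TopologicalSpace

namespace Groth.Agent.R2.H46.GF2

open Groth.Agent.R2.H46.GenFin Groth.Agent.R2.H45.FinEtQuot Groth.Agent.R2.H59.QPts

variable {S : Scheme.{u}}

/-- points of codimension `0` of a sheaf. -/
abbrev Cod0 (F : AlgSp.Sp S) (x : AlgSp.Points F) : Prop :=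
  AlgSp.HasAt (fun U u => ringKrullDim ↥(U.presheaf.stalk u) = 0) F x

lemma cod0_ofPt_iff {F : AlgSp.Sp S} {U : Over S} (a : (AlgSp.yon S).obj U ⟶ F)
    (ha : AlgSp.RepWith @Etale a) (u : ↥U.left) : Cod0 F (AlgSp.Points.ofPt a u) ↔ Gen u :=
  (Groth.Agent.R2.H45.HasAt.hasAt_iff_of_chart
    (Groth.Agent.R2.H45.HasAtMor.etInv_ringKrullDim_stalk (· = 0)) a ha u).trans
    (gen_iff_dim u).symm

/-- generic points of charts correspond under a morphism preserving and reflecting points of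
codimension `0`. -/
lemma gen_iff_of_chart {X Y : AlgSp.Sp S} (f : X ⟶ Y)
    (hpre : ∀ x : AlgSp.Points X, Cod0 X x ↔ Cod0 Y (AlgSp.Points.map f x)) {U V : Over S}
    (e : (AlgSp.yon S).obj U ⟶ X) (he : AlgSp.RepWith @Etale e)
    (b : (AlgSp.yon S).obj V ⟶ Y) (hb : AlgSp.RepWith @Etale b) (g : U ⟶ V)
    (hg : e ≫ f = (AlgSp.yon S).map g ≫ b) (u : ↥U.left) : Gen u ↔ Gen (g.left u) := by
  rw [← cod0_ofPt_iff e he u, hpre, AlgSp.Points.map_ofPt, hg, Groth.Agent.S10176.ofPt_map_comp,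
    cod0_ofPt_iff b hb]

/-- **a decent space with finitely many points of codimension `0` has an affine open subscheme
containing all of them** (in a form convenient for density arguments). -/
theorem exists_affine_open_chart (Y : AlgSp.Space S) (hY : AlgSp.IsDecent Y.obj)
    (hY0 : {y : AlgSp.Points Y.obj | Cod0 Y.obj y}.Finite) :
    ∃ (V : Over S) (b : (AlgSp.yon S).obj V ⟶ Y.obj), IsAffine V.left ∧
      AlgSp.RepWith @IsOpenImmersion b ∧ {v : ↥V.left | Gen v}.Finite ∧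
      ∀ D : Set ↥V.left, IsOpen D → (∀ v : ↥V.left, Gen v → v ∈ D) →
        Dense (AlgSp.Points.ofPt b '' D) := by
  obtain ⟨M, m, hm, hdense⟩ :=
    Groth.Agent.R2.H46.DecentSch.exists_dense_open_subscheme_yon Y hY
  have hme : AlgSp.RepWith @Etale m := repWith_etale_of_openImm hm
  have hMfin : {v : ↥M.left | Gen v}.Finite := by
    refine (hY0.preimage (Groth.Agent.R2.H25.GenFinSp.ofPt_injective_of_open m hm).injOn).subset ?_
    intro v hv
    exact (cod0_ofPt_iff m hme v).2 hv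
  obtain ⟨O, hOaff, hO⟩ := exists_isAffineOpen_gen_mem hMfin
  have hb : AlgSp.RepWith @IsOpenImmersion ((AlgSp.yon S).map (ιW O) ≫ m) :=
    repWith_openImm_comp ((AlgSp.repWith_yon_map_iff _ _).2 (inferInstanceAs (IsOpenImmersion O.ι)))
      hm
  refine ⟨Wov O, (AlgSp.yon S).map (ιW O) ≫ m, hOaff, hb, finite_gen_opens hMfin O, ?_⟩
  intro D hD hDgen
  have h1 : Dense (O.ι '' D) := by
    apply dense_of_gen_mem
    intro w hw
    have hwO : w ∈ O := hO w hw
    have hwg : Gen (⟨w, hwO⟩ : ↥O) := (gen_iff_of_isOpenEmbedding O.ι.isOpenEmbedding _).2 hw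
    exact ⟨⟨w, hwO⟩, hDgen _ hwg, rfl⟩
  have h2 : Dense (AlgSp.Points.ofPt m '' (O.ι '' D)) :=
    DenseRange.dense_image hdense (AlgSp.Points.continuous_ofPt m) h1
  have h3 : AlgSp.Points.ofPt ((AlgSp.yon S).map (ιW O) ≫ m) '' D =
      AlgSp.Points.ofPt m '' (O.ι '' D) := by
    rw [Set.image_image]
    refine Set.image_congr fun v _ => ?_
    rw [Groth.Agent.S10176.ofPt_map_comp]
    rfl
  rw [h3]
  exact h2

/-- **assembly**: from finiteness over an affine open of the chart containing all generic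
points to the conclusion of the theorem. -/
theorem exists_of_isFiniteMor {X Y : AlgSp.Space S} (f : X ⟶ Y) {V : Over S}
    (b : (AlgSp.yon S).obj V ⟶ Y.obj) (hb : AlgSp.RepWith @IsOpenImmersion b)
    (hdense : ∀ D : Set ↥V.left, IsOpen D → (∀ v : ↥V.left, Gen v → v ∈ D) →
      Dense (AlgSp.Points.ofPt b '' D))
    {V' : Over S} (ι : V' ⟶ V) (hι : IsOpenImmersion ι.left)
    (hgen : ∀ v : ↥V.left, Gen v → v ∈ Set.range ι.left)
    (hfin : AlgSp.IsFiniteMor (pullback.snd f.hom ((AlgSp.yon S).map ι ≫ b))) :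
    ∃ (V X' : AlgSp.Space S) (j : V ⟶ Y) (fst : X' ⟶ V) (snd : X' ⟶ X),
      AlgSp.RepWith @IsOpenImmersion j.hom ∧
      Dense (Set.range (AlgSp.Points.map j.hom)) ∧ IsPullback fst.hom snd.hom j.hom f.hom ∧
      AlgSp.IsFiniteMor fst.hom := by
  haveI := hι
  have hj : AlgSp.RepWith @IsOpenImmersion ((AlgSp.yon S).map ι ≫ b) :=
    repWith_openImm_comp ((AlgSp.repWith_yon_map_iff _ _).2 hι) hb
  have hV' : AlgSp.IsAlgSpace ((AlgSp.yon S).obj V') := AlgSp.IsAlgSpace.yon_obj V'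
  have hX' : AlgSp.IsAlgSpace (pullback f.hom ((AlgSp.yon S).map ι ≫ b)) :=
    Groth.Agent.S9874.isAlgSpace_of_isPullback Y.property.diag X.property hV'
      (IsPullback.of_hasPullback f.hom ((AlgSp.yon S).map ι ≫ b))
  refine ⟨⟨(AlgSp.yon S).obj V', hV'⟩, ⟨pullback f.hom ((AlgSp.yon S).map ι ≫ b), hX'⟩,
    ObjectProperty.homMk ((AlgSp.yon S).map ι ≫ b),
    ObjectProperty.homMk (pullback.snd f.hom ((AlgSp.yon S).map ι ≫ b)),
    ObjectProperty.homMk (pullback.fst f.hom ((AlgSp.yon S).map ι ≫ b)), hj, ?_,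
    (IsPullback.of_hasPullback f.hom ((AlgSp.yon S).map ι ≫ b)).flip, hfin⟩
  change Dense (Set.range (AlgSp.Points.map ((AlgSp.yon S).map ι ≫ b)))
  refine (hdense (Set.range ι.left) ι.left.isOpenEmbedding.isOpen_range hgen).mono ?_
  rintro _ ⟨_, ⟨v', rfl⟩, rfl⟩
  refine ⟨AlgSp.Points.ofScheme V' v', ?_⟩
  rw [← AlgSp.Points.ofPt_eq_map_ofScheme, Groth.Agent.S10176.ofPt_map_comp]

/-- **generic finiteness for algebraic spaces, quasi-compact case.** -/
theorem exists_dense_open_finite_of_quasiCompact {X Y : AlgSp.Space S} (f : X ⟶ Y)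
    (hf : AlgSp.LocP @LocallyOfFiniteType f.hom) (hY : AlgSp.IsDecent Y.obj)
    (hY0 : {y : AlgSp.Points Y.obj | Cod0 Y.obj y}.Finite)
    (hpre : ∀ x : AlgSp.Points X.obj, Cod0 X.obj x ↔ Cod0 Y.obj (AlgSp.Points.map f.hom x))
    (hqc : AlgSp.IsQuasiCompactMor f.hom) :
    ∃ (V X' : AlgSp.Space S) (j : V ⟶ Y) (fst : X' ⟶ V) (snd : X' ⟶ X),
      AlgSp.RepWith @IsOpenImmersion j.hom ∧
      Dense (Set.range (AlgSp.Points.map j.hom)) ∧ IsPullback fst.hom snd.hom j.hom f.hom ∧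
      AlgSp.IsFiniteMor fst.hom := by
  obtain ⟨V, b, hVaff, hb, hVfin, hdense⟩ := exists_affine_open_chart Y hY hY0
  haveI := hVaff
  have hbe : AlgSp.RepWith @Etale b := repWith_etale_of_openImm hb
  have hVqc : AlgSp.IsQuasiCompactSp ((AlgSp.yon S).obj V) :=
    ⟨V, 𝟙 _, AlgSp.repWith_id _ V, AlgSp.repWith_id _ V, inferInstance⟩
  have hPqc : AlgSp.IsQuasiCompactSp (pullback f.hom b) :=
    hqc (AlgSp.IsAlgSpace.yon_obj V) hVqc b _ _ (IsPullback.of_hasPullback f.hom b)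
  obtain ⟨U, a, hUaff, hae, has⟩ := Groth.Agent.S10180.exists_affine_chart hPqc
  haveI := hUaff
  obtain ⟨g, hg⟩ := (AlgSp.yon S).map_surjective (a ≫ pullback.snd f.hom b)
  have hfst : AlgSp.RepWith @Etale (pullback.fst f.hom b) :=
    MorphismProperty.of_isPullback (P := AlgSp.RepWith @Etale)
      (IsPullback.of_hasPullback f.hom b).flip hbe
  have hae' : AlgSp.RepWith @Etale (a ≫ pullback.fst f.hom b) := repWith_etale_comp hae hfst
  have comm : (a ≫ pullback.fst f.hom b) ≫ f.hom = (AlgSp.yon S).map g ≫ b := by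
    rw [Category.assoc, pullback.condition, ← Category.assoc, ← hg]
  have hiff : ∀ u : ↥U.left, Gen u ↔ Gen (g.left u) :=
    gen_iff_of_chart f.hom hpre _ hae' b hbe g comm
  obtain ⟨V', ι, -, hι, hgen, hfin⟩ := exists_open_isFiniteMor f.hom hf b hbe a hae has g hg.symm
    hVfin (fun u => (hiff u).2) (fun u => (hiff u).1)
  exact exists_of_isFiniteMor f b hb hdense ι hι hgen hfin

end Groth.Agent.R2.H46.GF2
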