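import Groth.Agent.R2.H46GF2Sp
import Groth.Agent.S9900
import Groth.Agent.Lib.Helper12Proper
import Groth.Agent.Lib.Helper12OpenSub2

set_option autoImplicit false
set_option linter.style.haveILetI false
universe u
open CategoryTheory CategoryTheory.Limits AlgebraicGeometry Topology TopologicalSpace

namespace Groth.Agent.R2.H46.GF2

open Groth.Agent.R2.H46.GenFin Groth.Agent.R2.H45.FinEtQuot Groth.Agent.R2.H59.QPts
  Groth.Agent.Lib.Helper12

variable {S : Scheme.{u}}

/-- points of codimension `0` are preserved and reflected by representable étale maps. -/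
lemma cod0_map_iff {F' F : AlgSp.Sp S} (hF' : AlgSp.IsAlgSpace F') (e : F' ⟶ F)
    (he : AlgSp.RepWith @Etale e) (x' : AlgSp.Points F') :
    Cod0 F' x' ↔ Cod0 F (AlgSp.Points.map e x') := by
  obtain ⟨U, a, hae, has⟩ := hF'.atlas
  obtain ⟨u, rfl⟩ := Groth.Agent.S10177.surjective_ofPt a has x'
  rw [AlgSp.Points.map_ofPt, cod0_ofPt_iff a hae, cod0_ofPt_iff (a ≫ e) (repWith_etale_comp hae he)]

/-- every point of an open subset of the space of points of an algebraic space has a generization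
of codimension `0` in this open subset. -/
lemma exists_cod0_generization {P : AlgSp.Sp S} (hP : AlgSp.IsAlgSpace P)
    {W : Set (AlgSp.Points P)} (hW : IsOpen W) {x : AlgSp.Points P} (hx : x ∈ W) :
    ∃ x' ∈ W, Cod0 P x' ∧ x' ⤳ x := by
  obtain ⟨Z, c, hce, hcs⟩ := hP.atlas
  obtain ⟨z, rfl⟩ := Groth.Agent.S10177.surjective_ofPt c hcs x
  obtain ⟨ζ, hζ, hζz⟩ := exists_gen_specializes z
  have h1 : AlgSp.Points.ofPt c ζ ⤳ AlgSp.Points.ofPt c z :=
    hζz.map (AlgSp.Points.continuous_ofPt c)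
  exact ⟨AlgSp.Points.ofPt c ζ, h1.mem_open hW hx, (cod0_ofPt_iff c hce ζ).2 hζ, h1⟩

/-- a closed subset containing all points of codimension `0` is everything. -/
lemma eq_univ_of_isClosed_of_cod0 {P : AlgSp.Sp S} (hP : AlgSp.IsAlgSpace P)
    {C : Set (AlgSp.Points P)} (hC : IsClosed C) (h : ∀ x, Cod0 P x → x ∈ C) : C = Set.univ := by
  by_contra hne
  obtain ⟨x, hx⟩ := (Set.ne_univ_iff_exists_notMem C).1 hne
  obtain ⟨x', hx'W, hx'0, -⟩ := exists_cod0_generization hP hC.isOpen_compl (show x ∈ Cᶜ from hx)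
  exact hx'W (h x' hx'0)

/-- **an open subspace, finite over the base, of a space separated over the base is closed.** -/
theorem repWith_isClosedImmersion_of_isFinite {P : AlgSp.Sp S} {V T : Over S}
    (p : P ⟶ (AlgSp.yon S).obj V) (hsep : AlgSp.IsSeparatedMor p)
    (j : (AlgSp.yon S).obj T ⟶ P) (hj : AlgSp.RepWith @IsOpenImmersion j) (q : T ⟶ V)
    (hq : j ≫ p = (AlgSp.yon S).map q) [IsFinite q.left] :
    AlgSp.RepWith @IsClosedImmersion j := by
  refine ⟨hj.1, fun {Z Z'} c fst z₁ sq => ?_⟩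
  haveI : IsOpenImmersion z₁.left := hj.2 c fst z₁ sq
  obtain ⟨z₂, rfl⟩ := (AlgSp.yon S).map_surjective fst
  obtain ⟨gZ, hgZ⟩ := (AlgSp.yon S).map_surjective (c ≫ p)
  have hcomm : z₁ ≫ gZ = z₂ ≫ q := by
    apply (AlgSp.yon S).map_injective
    rw [Functor.map_comp, Functor.map_comp, hgZ, ← hq, ← Category.assoc, ← Category.assoc, sq.w]
  have hcomm' : z₁.left ≫ gZ.left = z₂.left ≫ q.left := by
    rw [← Over.comp_left, ← Over.comp_left, hcomm]
  let TZ : Over S := Over.mk (pullback.fst gZ.left q.left ≫ Z.hom)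
  let pr1 : TZ ⟶ Z := Over.homMk (pullback.fst gZ.left q.left) rfl
  let pr2 : TZ ⟶ T := Over.homMk (pullback.snd gZ.left q.left) (by
    change pullback.snd gZ.left q.left ≫ T.hom = pullback.fst gZ.left q.left ≫ Z.hom
    rw [← Over.w q, ← Over.w gZ, ← Category.assoc, ← Category.assoc, pullback.condition])
  have hpr : pr1 ≫ gZ = pr2 ≫ q := Over.OverMorphism.ext pullback.condition
  let r : Z' ⟶ TZ := Over.homMk (pullback.lift z₁.left z₂.left hcomm') (by
    change pullback.lift z₁.left z₂.left hcomm' ≫ pullback.fst gZ.left q.left ≫ Z.hom = Z'.hom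
    rw [← Category.assoc, pullback.lift_fst, Over.w z₁])
  have hr1 : r ≫ pr1 = z₁ := Over.OverMorphism.ext (pullback.lift_fst _ _ _)
  have hr2 : r ≫ pr2 = z₂ := Over.OverMorphism.ext (pullback.lift_snd _ _ _)
  have hcond : ((AlgSp.yon S).map pr1 ≫ c) ≫ p = ((AlgSp.yon S).map pr2 ≫ j) ≫ p := by
    rw [Category.assoc, Category.assoc, ← hgZ, hq, ← Functor.map_comp, ← Functor.map_comp, hpr]
  let c' : (AlgSp.yon S).obj TZ ⟶ pullback p p :=
    pullback.lift ((AlgSp.yon S).map pr1 ≫ c) ((AlgSp.yon S).map pr2 ≫ j) hcond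
  have hmono : Mono r := by
    constructor
    intro Z₀ x x' hxx'
    apply (AlgSp.yon S).map_injective
    apply sq.hom_ext
    · rw [← Functor.map_comp, ← Functor.map_comp, ← hr2, ← Category.assoc, hxx', Category.assoc]
    · rw [← Functor.map_comp, ← Functor.map_comp, ← hr1, ← Category.assoc, hxx', Category.assoc]
  have he : Groth.Agent.S9900.IsEqLocus (c' ≫ pullback.fst p p) (c' ≫ pullback.snd p p) r := by
    rw [pullback.lift_fst, pullback.lift_snd]
    refine ⟨hmono, fun T' τ => ⟨fun h => ?_, ?_⟩⟩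
    · obtain ⟨ρ, hρ⟩ := (AlgSp.yon S).map_surjective (sq.lift ((AlgSp.yon S).map (τ ≫ pr2))
        ((AlgSp.yon S).map (τ ≫ pr1)) (by
          rw [Functor.map_comp, Functor.map_comp, Category.assoc, Category.assoc]; exact h.symm))
      have h1 : ρ ≫ z₂ = τ ≫ pr2 := by
        apply (AlgSp.yon S).map_injective
        rw [Functor.map_comp, hρ, sq.lift_fst]
      have h2 : ρ ≫ z₁ = τ ≫ pr1 := by
        apply (AlgSp.yon S).map_injective
        rw [Functor.map_comp, hρ, sq.lift_snd]
      refine ⟨ρ, ?_⟩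
      apply Over.OverMorphism.ext
      apply pullback.hom_ext
      · have h2' : ρ.left ≫ z₁.left = τ.left ≫ pullback.fst gZ.left q.left :=
          congrArg (fun k => k.left) h2
        change (ρ.left ≫ pullback.lift z₁.left z₂.left hcomm') ≫ pullback.fst gZ.left q.left = _
        rw [Category.assoc, pullback.lift_fst]
        exact h2'
      · have h1' : ρ.left ≫ z₂.left = τ.left ≫ pullback.snd gZ.left q.left :=
          congrArg (fun k => k.left) h1
        change (ρ.left ≫ pullback.lift z₁.left z₂.left hcomm') ≫ pullback.snd gZ.left q.left = _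
        rw [Category.assoc, pullback.lift_snd]
        exact h1'
    · rintro ⟨ρ, rfl⟩
      rw [← Category.assoc, ← Category.assoc, ← Functor.map_comp, ← Functor.map_comp,
        Category.assoc, Category.assoc, hr1, hr2, Functor.map_comp, Functor.map_comp,
        Category.assoc, Category.assoc, sq.w]
  have sq' := Groth.Agent.S9900.IsEqLocus.isPullback_diagonal p c' he
  haveI : IsClosedImmersion r.left := hsep.2 c' _ r sq'
  have h1 : r.left ≫ pullback.fst gZ.left q.left = z₁.left := pullback.lift_fst _ _ _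
  haveI : IsFinite z₁.left := by rw [← h1]; infer_instance
  exact (IsClosedImmersion.iff_isFinite_and_mono z₁.left).2 ⟨inferInstance, inferInstance⟩

/-- a quasi-compact étale chart through finitely many points of an algebraic space. -/
theorem exists_qc_chart {P : AlgSp.Sp S} (hP : AlgSp.IsAlgSpace P) (Φ : Set (AlgSp.Points P))
    (hΦ : Φ.Finite) :
    ∃ (W : Over S) (c : (AlgSp.yon S).obj W ⟶ P), CompactSpace ↥W.left ∧ AlgSp.RepWith @Etale c ∧
      Φ ⊆ Set.range (AlgSp.Points.ofPt c) := by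
  obtain ⟨Z, c₀, hce, hcs⟩ := hP.atlas
  have hsurj := Groth.Agent.S10177.surjective_ofPt c₀ hcs
  obtain ⟨O, hOc, hO⟩ := Groth.Agent.R2.H25.GenFinSp.exists_compact_open_of_finite Z.left
    (Function.surjInv hsurj '' Φ) (hΦ.image _)
  refine ⟨Wov O, (AlgSp.yon S).map (ιW O) ≫ c₀, isCompact_iff_compactSpace.1 hOc,
    repWith_etale_comp ((AlgSp.repWith_yon_map_iff _ _).2 (inferInstanceAs (Etale O.ι))) hce, ?_⟩
  intro x hx
  refine ⟨(⟨Function.surjInv hsurj x, hO ⟨x, hx, rfl⟩⟩ : ↥O), ?_⟩
  rw [Groth.Agent.S10176.ofPt_map_comp]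
  exact Function.surjInv_eq hsurj x

/-- being locally of finite type passes to open subspaces of base changes. -/
lemma locP_comp_snd {X Y : AlgSp.Sp S} (f : X ⟶ Y) (hlft : AlgSp.LocP @LocallyOfFiniteType f)
    {V : Over S} (b : (AlgSp.yon S).obj V ⟶ Y) (hb : AlgSp.RepWith @Etale b) {P'' : AlgSp.Sp S}
    (j'' : P'' ⟶ pullback f b) (hj'' : AlgSp.RepWith @Etale j'') :
    AlgSp.LocP @LocallyOfFiniteType (j'' ≫ pullback.snd f b) := by
  intro U₀ V₀ a₀ b₀ h₀ ha₀ hb₀ hcomm
  have hfst : AlgSp.RepWith @Etale (pullback.fst f b) :=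
    MorphismProperty.of_isPullback (P := AlgSp.RepWith @Etale)
      (IsPullback.of_hasPullback f b).flip hb
  refine hlft (a₀ ≫ j'' ≫ pullback.fst f b) (b₀ ≫ b) h₀
    (repWith_etale_comp ha₀ (repWith_etale_comp hj'' hfst)) (repWith_etale_comp hb₀ hb) ?_
  rw [Category.assoc, Category.assoc, pullback.condition, ← Category.assoc j'', ← Category.assoc a₀,
    hcomm, Category.assoc]

/-- finiteness is invariant under isomorphisms of the source. -/
lemma isFiniteMor_iso_comp_iff {A A' B : AlgSp.Sp S} (e : A ≅ A') (h : A' ⟶ B) :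
    AlgSp.IsFiniteMor (e.hom ≫ h) ↔ AlgSp.IsFiniteMor h := by
  constructor
  · intro hh
    exact Groth.Agent.R2.H59.AffDesc.isFiniteMor_of_repWith _
      ((MorphismProperty.cancel_left_of_respectsIso (AlgSp.RepWith @IsFinite) e.hom h).1
        (Groth.Agent.R2.H59.AffDesc.repWith_isFinite_of_isFiniteMor _ hh))
  · intro hh
    exact Groth.Agent.R2.H59.AffDesc.isFiniteMor_of_repWith _
      ((MorphismProperty.cancel_left_of_respectsIso (AlgSp.RepWith @IsFinite) e.hom h).2
        (Groth.Agent.R2.H59.AffDesc.repWith_isFinite_of_isFiniteMor _ hh))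

/-- the second projection of any pullback square is finite if the chosen one is, and
conversely. -/
lemma isFiniteMor_snd_iff_of_isPullback {X Y Z Q : AlgSp.Sp S} {f : X ⟶ Y} {m : Z ⟶ Y}
    {fst : Q ⟶ X} {snd : Q ⟶ Z} (sq : IsPullback fst snd f m) :
    AlgSp.IsFiniteMor snd ↔ AlgSp.IsFiniteMor (pullback.snd f m) := by
  rw [← sq.isoPullback_hom_snd]
  exact isFiniteMor_iso_comp_iff sq.isoPullback _

/-- transitivity of base change for finiteness. -/
lemma isFiniteMor_snd_paste {X Y B C : AlgSp.Sp S} (f : X ⟶ Y) (b : B ⟶ Y) (c : C ⟶ B)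
    (h : AlgSp.IsFiniteMor (pullback.snd (pullback.snd f b) c)) :
    AlgSp.IsFiniteMor (pullback.snd f (c ≫ b)) := by
  have sq := (IsPullback.of_hasPullback (pullback.snd f b) c).paste_horiz
    (IsPullback.of_hasPullback f b)
  exact (isFiniteMor_snd_iff_of_isPullback sq).1 h

end Groth.Agent.R2.H46.GF2
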