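import Mathlib
import Groth.Agent.Lib.Helper12FieldBC4
import Groth.Agent.Lib.Helper10GeomConn3
import Groth.Agent.S10176

set_option autoImplicit false
set_option linter.style.haveILetI false
universe u
open CategoryTheory CategoryTheory.Limits AlgebraicGeometry

namespace Groth.Agent.R2.H46.GeomConn

open Groth.Agent.Lib.Helper12.FieldBC

variable {k : Type u} [Field k]

/-- lifting points to the base-changed chart (copy of the lemma in `Helper12FieldBC2`, to avoid
its heavy imports). -/
lemma exists_point_chartK' {X : AlgSp.Sp (Spec (CommRingCat.of k))}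
    {U : Over (Spec (CommRingCat.of k))} (a : (AlgSp.yon _).obj U ⟶ X) (K : Type u) [Field K]
    [Algebra k K] (u : ↥U.left)
    (x' : AlgSp.Points (X ⨯ (AlgSp.yon (Spec (CommRingCat.of k))).obj (ptK k K)))
    (hx' : AlgSp.Points.map (prod.fst : X ⨯ (AlgSp.yon _).obj (ptK k K) ⟶ X) x' =
      AlgSp.Points.ofPt a u) :
    ∃ u' : ↥(FBase.bc U.hom K), AlgSp.Points.ofPt (chartK a K) u' = x' ∧
      (FBase.bcπ U.hom K) u' = u := by
  have sq := isPullback_chartK a K
  rw [AlgSp.Points.ofPt_eq_map_ofScheme] at hx'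
  obtain ⟨p, hp1, hp2⟩ := Groth.Agent.S10175.exists_point_of_isPullback sq _ _ hx'
  obtain ⟨y, rfl⟩ := (AlgSp.Points.schemeHomeo (bcOver U K)).surjective p
  refine ⟨y, ?_, ?_⟩
  · rw [AlgSp.Points.ofPt_eq_map_ofScheme]
    exact hp1
  · apply (AlgSp.Points.schemeHomeo U).injective
    have := AlgSp.Points.map_yon_map_apply (bcPr U K) y
    exact this.symm.trans hp2

instance subsingleton_spec_field : Subsingleton ↥(Spec (CommRingCat.of k)) :=
  inferInstanceAs (Subsingleton (PrimeSpectrum k))

/-- the projection `X_K ⟶ X` is open on points. -/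
lemma isOpenMap_map_prod_fst (X : AlgSp.Sp (Spec (CommRingCat.of k))) (K : Type u) [Field K]
    [Algebra k K] :
    IsOpenMap (AlgSp.Points.map
      (prod.fst : X ⨯ (AlgSp.yon (Spec (CommRingCat.of k))).obj (ptK k K) ⟶ X)) := by
  intro W hW
  rw [AlgSp.Points.isOpen_iff]
  intro T g
  have key : AlgSp.Points.ofPt g ⁻¹' (AlgSp.Points.map
      (prod.fst : X ⨯ (AlgSp.yon (Spec (CommRingCat.of k))).obj (ptK k K) ⟶ X) '' W) =
      (FBase.bcπ T.hom K) '' (AlgSp.Points.ofPt (chartK g K) ⁻¹' W) := by
    ext t
    constructor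
    · rintro ⟨x', hx'W, hx'⟩
      obtain ⟨u', hu'1, hu'2⟩ := exists_point_chartK' g K t x' hx'
      exact ⟨u', by rw [Set.mem_preimage, hu'1]; exact hx'W, hu'2⟩
    · rintro ⟨u', hu', rfl⟩
      refine ⟨AlgSp.Points.ofPt (chartK g K) u', hu', ?_⟩
      rw [AlgSp.Points.map_ofPt, prod.lift_fst, Groth.Agent.S10176.ofPt_map_comp]
      rfl
  rw [key]
  have hopen : IsOpenMap (FBase.bcπ T.hom K) := by
    change IsOpenMap (pullback.fst T.hom (Spec.map (CommRingCat.ofHom (algebraMap k K))))
    exact (pullback.fst T.hom (Spec.map (CommRingCat.ofHom (algebraMap k K)))).isOpenMap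
  exact hopen _ ((AlgSp.Points.continuous_ofPt _).isOpen_preimage _ hW)

/-- the fibre of `X_K ⟶ X` over the class of a field point `q` is the image of
`Spec (L ⊗_k K)`. -/
lemma preimage_mk_eq_range (X : AlgSp.Sp (Spec (CommRingCat.of k))) (K : Type u) [Field K]
    [Algebra k K] (q : AlgSp.FieldPt X) :
    AlgSp.Points.map
      (prod.fst : X ⨯ (AlgSp.yon (Spec (CommRingCat.of k))).obj (ptK k K) ⟶ X) ⁻¹'
        {AlgSp.Points.mk q} = Set.range (AlgSp.Points.ofPt (chartK q.toHom K)) := by
  ext x'
  constructor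
  · intro hx'
    have hx'' : AlgSp.Points.map
        (prod.fst : X ⨯ (AlgSp.yon (Spec (CommRingCat.of k))).obj (ptK k K) ⟶ X) x' =
        AlgSp.Points.ofPt q.toHom (IsLocalRing.closedPoint q.K) := by
      rw [AlgSp.Points.ofPt_toHom]; exact hx'
    obtain ⟨u', hu'1, -⟩ := exists_point_chartK' q.toHom K _ x' hx''
    exact ⟨u', hu'1⟩
  · rintro ⟨u', rfl⟩
    change AlgSp.Points.map _ _ = _
    rw [AlgSp.Points.map_ofPt, prod.lift_fst, Groth.Agent.S10176.ofPt_map_comp,
      AlgSp.Points.ofPt_toHom]

lemma separableClosure_eq_bot_of_isSepClosed [IsSepClosed k] (K : Type u) [Field K]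
    [Algebra k K] : separableClosure k K = ⊥ := by
  rw [eq_bot_iff]
  intro x hx
  have hsep : IsSeparable k x := mem_separableClosure_iff.1 hx
  have hirr := minpoly.irreducible hsep.isIntegral
  have hdeg := IsSepClosed.degree_eq_one_of_irreducible k hirr hsep
  exact IntermediateField.mem_bot.2 (minpoly.mem_range_of_degree_eq_one k x hdeg)

lemma geometricallyConnected_of_isSepClosed [IsSepClosed k] (K : Type u) [Field K]
    [Algebra k K] :
    GeometricallyConnected (Spec.map (CommRingCat.ofHom (algebraMap k K))) := by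
  haveI := Groth.Agent.Lib.Helper10.GeomConn2.geometricallyIrreducible_specMap_of_separableClosure_eq_bot
    k K (separableClosure_eq_bot_of_isSepClosed K)
  exact Groth.Agent.Lib.Helper6.SepCl.geometricallyConnected_of_geometricallyIrreducible _

/-- over a separably closed field the fibres of `|X_K| ⟶ |X|` are connected. -/
lemma isConnected_fibre [IsSepClosed k] (X : AlgSp.Sp (Spec (CommRingCat.of k))) (K : Type u)
    [Field K] [Algebra k K] (x : AlgSp.Points X) :
    IsConnected (AlgSp.Points.map
      (prod.fst : X ⨯ (AlgSp.yon (Spec (CommRingCat.of k))).obj (ptK k K) ⟶ X) ⁻¹' {x}) := by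
  induction x using AlgSp.Points.ind with | h q => ?_
  rw [preimage_mk_eq_range]
  haveI := geometricallyConnected_of_isSepClosed (k := k) K
  haveI : ConnectedSpace ↥(Spec (CommRingCat.of q.K)) :=
    inferInstanceAs (ConnectedSpace (PrimeSpectrum q.K))
  haveI : ConnectedSpace ↥(bcOver q.pt K).left := by
    change ConnectedSpace ↥(pullback q.str (Spec.map (CommRingCat.ofHom (algebraMap k K))))
    infer_instance
  exact isConnected_range (AlgSp.Points.continuous_ofPt _)

/-- over a separably closed field `X_K ⟶ X` is a bijection on connected components. -/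
lemma bijective_connectedComponentsMap [IsSepClosed k] (X : AlgSp.Sp (Spec (CommRingCat.of k)))
    (K : Type u) [Field K] [Algebra k K] :
    Function.Bijective (Continuous.connectedComponentsMap
      (AlgSp.Points.continuous_map
        (prod.fst : X ⨯ (AlgSp.yon (Spec (CommRingCat.of k))).obj (ptK k K) ⟶ X))) := by
  have hq : Topology.IsQuotientMap (AlgSp.Points.map
      (prod.fst : X ⨯ (AlgSp.yon (Spec (CommRingCat.of k))).obj (ptK k K) ⟶ X)) :=
    (isOpenMap_map_prod_fst X K).isQuotientMap (AlgSp.Points.continuous_map _)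
      (surjective_map_prod_fst X K)
  exact hq.isCoinducing.connectedComponentsMap_bijective (isConnected_fibre X K)

end Groth.Agent.R2.H46.GeomConn
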