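import Mathlib
import Groth.Agent.R2.H46GeomConn
import Groth.Agent.S10211
import Groth.Agent.S9909

set_option autoImplicit false
set_option linter.style.haveILetI false
universe u
open CategoryTheory CategoryTheory.Limits AlgebraicGeometry

namespace Groth.Agent.R2.H46.GeomConn2

open Groth.Agent.Lib.Helper12.FieldBC

variable {S : Scheme.{u}}

/-- the fibre product `U ×_S T` as a scheme over `S`. -/
noncomputable abbrev prodOver (U T : Over S) : Over S :=
  Over.mk (pullback.fst U.hom T.hom ≫ U.hom)

/-- the projection `U ×_S T ⟶ U`. -/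
noncomputable abbrev prL (U T : Over S) : prodOver U T ⟶ U :=
  Over.homMk (pullback.fst U.hom T.hom) rfl

/-- the projection `U ×_S T ⟶ T`. -/
noncomputable abbrev prR (U T : Over S) : prodOver U T ⟶ T :=
  Over.homMk (pullback.snd U.hom T.hom) (pullback.condition (f := U.hom) (g := T.hom)).symm

lemma isPullback_over (U T : Over S) :
    IsPullback (prR U T) (prL U T) (Over.mkIdTerminal.from T) (Over.mkIdTerminal.from U) := by
  refine IsPullback.of_map (Over.forget _) (Over.mkIdTerminal.hom_ext _ _) ?_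
  have := (IsPullback.of_hasPullback U.hom T.hom).flip
  have e1 : (Over.forget _).map (Over.mkIdTerminal.from T) = T.hom := by simp
  have e2 : (Over.forget _).map (Over.mkIdTerminal.from U) = U.hom := by simp
  rw [e1, e2]
  exact this

/-- the chart of `X × h_T` induced by a chart `a` of `X`. -/
noncomputable abbrev chartT {X : AlgSp.Sp S} {U : Over S}
    (a : (AlgSp.yon S).obj U ⟶ X) (T : Over S) :
    (AlgSp.yon S).obj (prodOver U T) ⟶ X ⨯ (AlgSp.yon S).obj T :=
  prod.lift ((AlgSp.yon S).map (prL U T) ≫ a) ((AlgSp.yon S).map (prR U T))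

/-- the chart `a_T` is the base change of `a` along the projection `X × h_T ⟶ X`. -/
theorem isPullback_chartT {X : AlgSp.Sp S} {U : Over S} (a : (AlgSp.yon S).obj U ⟶ X)
    (T : Over S) :
    IsPullback (chartT a T) ((AlgSp.yon S).map (prL U T)) prod.fst a := by
  have hpt : IsTerminal ((AlgSp.yon S).obj (Over.mk (𝟙 _))) :=
    IsTerminal.isTerminalObj (AlgSp.yon _) _ Over.mkIdTerminal
  have hright : IsPullback (prod.fst : X ⨯ (AlgSp.yon S).obj T ⟶ X) prod.snd
      (hpt.from _) (hpt.from _) :=
    IsPullback.of_is_product' (prodIsProd _ _) hpt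
  have hbig := (isPullback_over U T).map (AlgSp.yon S)
  have e1 : (AlgSp.yon S).map (Over.mkIdTerminal.from T) = hpt.from _ := hpt.hom_ext _ _
  have e2 : (AlgSp.yon S).map (Over.mkIdTerminal.from U) = a ≫ hpt.from _ := hpt.hom_ext _ _
  rw [e1, e2] at hbig
  have h3 : (AlgSp.yon S).map (prR U T) = chartT a T ≫ prod.snd := by
    rw [prod.lift_snd]
  rw [h3] at hbig
  exact IsPullback.of_right hbig (by rw [prod.lift_fst]) hright.flip

/-- for an algebraic space `X` over a field, the projection `X × h_T ⟶ h_T` is open on points. -/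
lemma isOpenMap_map_prod_snd_yon {k : Type u} [Field k] {X : AlgSp.Sp (Spec (CommRingCat.of k))}
    (hX : AlgSp.IsAlgSpace X) (T : Over (Spec (CommRingCat.of k))) :
    IsOpenMap (AlgSp.Points.map
      (prod.snd : X ⨯ (AlgSp.yon (Spec (CommRingCat.of k))).obj T ⟶ _)) := by
  obtain ⟨U, p, hpe, hps⟩ := hX.atlas
  have hc : AlgSp.RepWith @Surjective (chartT p T) :=
    MorphismProperty.of_isPullback (P := AlgSp.RepWith @Surjective) (isPullback_chartT p T).flip hps
  refine Groth.Agent.S10211.isOpenMap_of_comp_surjective (chartT p T) prod.snd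
    (Groth.Agent.S9906.surjective_map_of_repWith _ hc) ?_
  rw [prod.lift_snd]
  refine Groth.Agent.S9908.isOpenMap_map_of_repWith _ ((AlgSp.repWith_yon_map_iff _ _).2 ?_)
  change UniversallyOpen (pullback.snd U.hom T.hom)
  haveI : UniversallyOpen U.hom := inferInstance
  infer_instance

/-- for algebraic spaces `X`, `Y` over a field, the projection `X × Y ⟶ Y` is open on points. -/
lemma isOpenMap_map_prod_snd {k : Type u} [Field k] {X : AlgSp.Sp (Spec (CommRingCat.of k))}
    (hX : AlgSp.IsAlgSpace X) (Y : AlgSp.Sp (Spec (CommRingCat.of k))) :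
    IsOpenMap (AlgSp.Points.map (prod.snd : X ⨯ Y ⟶ Y)) := by
  have hpt : IsTerminal ((AlgSp.yon (Spec (CommRingCat.of k))).obj (Over.mk (𝟙 _))) :=
    IsTerminal.isTerminalObj (AlgSp.yon _) _ Over.mkIdTerminal
  intro W hW
  rw [AlgSp.Points.isOpen_iff]
  intro T g
  have sq := (isPullback_prod_map hpt X g).flip
  have e : AlgSp.Points.ofPt g ⁻¹' (AlgSp.Points.map (prod.snd : X ⨯ Y ⟶ Y) '' W) =
      AlgSp.Points.ofScheme T ⁻¹' (AlgSp.Points.map g ⁻¹'
        (AlgSp.Points.map (prod.snd : X ⨯ Y ⟶ Y) '' W)) := by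
    ext t
    simp only [Set.mem_preimage]
    rw [AlgSp.Points.ofPt_eq_map_ofScheme]
  rw [e, Groth.Agent.S9909.preimage_map_image sq W]
  exact ((isOpenMap_map_prod_snd_yon hX T) _
    (hW.preimage (AlgSp.Points.continuous_map _))).preimage (AlgSp.Points.continuous_ofPt _)

end Groth.Agent.R2.H46.GeomConn2
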