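import Mathlib
import Groth.Prelude.Def_AlgSpGpd
import Groth.Prelude.Def_AlgSpDec
import Groth.Agent.R2.H25DecentFinite

set_option autoImplicit false
set_option linter.style.haveILetI false
universe u
open CategoryTheory CategoryTheory.Limits AlgebraicGeometry MonoidalCategory MonObj
open AlgSp

/-!
# Decent group algebraic spaces over a field are separated (helper46)
-/

namespace Groth.Agent.R2.H46.GrpSep

open CartesianMonoidalCategory

variable {S : Scheme.{u}}

/-- for a group object `G` of sheaves over a terminal sheaf `T`, the diagonal of `G.left` is the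
base change of the unit section along the division map. -/
lemma exists_isPullback_diag {T : AlgSp.Sp S} (hT : IsTerminal T) (G : Over T) [GrpObj G] :
    ∃ d : G.left ⨯ G.left ⟶ G.left,
      IsPullback (Limits.diag G.left) G.hom d (η[G]).left := by
  let Z : Over T := Over.mk ((prod.fst : G.left ⨯ G.left ⟶ G.left) ≫ G.hom)
  let a' : Z ⟶ G := Over.homMk prod.fst rfl
  let b' : Z ⟶ G := Over.homMk prod.snd (hT.hom_ext _ _)
  refine ⟨(a' / b').left, ?_⟩
  have key : ∀ {W : AlgSp.Sp S} (u : W ⟶ G.left ⨯ G.left),
      u ≫ (a' / b').left = (u ≫ prod.fst ≫ G.hom) ≫ (η[G]).left → u ≫ prod.fst = u ≫ prod.snd := by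
    intro W u h
    let W' : Over T := Over.mk (u ≫ prod.fst ≫ G.hom)
    let u' : W' ⟶ Z := Over.homMk u rfl
    have h1 : u' ≫ (a' / b') = 1 := by
      apply Over.OverMorphism.ext
      rw [Over.comp_left, Hom.one_def, Over.comp_left]
      exact h
    rw [GrpObj.comp_div, div_eq_one] at h1
    exact congrArg (fun m => m.left) h1
  have w : Limits.diag G.left ≫ (a' / b').left = G.hom ≫ (η[G]).left := by
    let dg : G ⟶ Z := Over.homMk (Limits.diag G.left) (by
      show Limits.diag G.left ≫ prod.fst ≫ G.hom = G.hom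
      rw [← Category.assoc, prod.lift_fst, Category.id_comp])
    have h1 : dg ≫ (a' / b') = 1 := by
      rw [GrpObj.comp_div, div_eq_one]
      apply Over.OverMorphism.ext
      show Limits.diag G.left ≫ prod.fst = Limits.diag G.left ≫ prod.snd
      rw [prod.lift_fst, prod.lift_snd]
    have h2 := congrArg (fun m => m.left) h1
    simp only [Over.comp_left, Hom.one_def] at h2
    exact h2
  refine IsPullback.of_isLimit' ⟨w⟩ (PullbackCone.IsLimit.mk _ (fun s => s.fst ≫ prod.fst) ?_ ?_ ?_)
  · intro s
    have hs := s.condition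
    have h3 : s.snd = s.fst ≫ prod.fst ≫ G.hom := hT.hom_ext _ _
    rw [h3] at hs
    have h4 := key s.fst hs
    apply Limits.prod.hom_ext
    · rw [Category.assoc, prod.lift_fst, Category.comp_id]
    · rw [Category.assoc, prod.lift_snd, Category.comp_id, h4]
  · intro s
    exact hT.hom_ext _ _
  · intro s m hm _
    rw [← hm, Category.assoc, prod.lift_fst, Category.comp_id]

/-- a section over `Spec k` of a decent algebraic space over the field `k` is a closed
immersion (auxiliary form). -/
lemma repWith_isClosedImmersion_section_aux (k : Type u) [Field k]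
    (X : AlgSp.Space (Spec (CommRingCat.of k))) (hX : AlgSp.IsDecent X.obj)
    (s : ↥(Spec (CommRingCat.of k)))
    (φ : (Spec (CommRingCat.of k)).residueField s ⟶ CommRingCat.of k)
    (hθ : Spec.map φ ≫ (Spec (CommRingCat.of k)).fromSpecResidueField s = 𝟙 _)
    (p : (AlgSp.yon (Spec (CommRingCat.of k))).obj (Over.mk (𝟙 _)) ⟶ X.obj) :
    AlgSp.RepWith @IsClosedImmersion p := by
  have hs : IsClosed ({s} : Set ↥(Spec (CommRingCat.of k))) := by
    have : ({s} : Set ↥(Spec (CommRingCat.of k))) = Set.univ := by
      ext x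
      simp only [Set.mem_singleton_iff, Set.mem_univ, iff_true]
      exact (inferInstance : Subsingleton (PrimeSpectrum k)).elim _ _
    rw [this]
    exact isClosed_univ
  -- `φ` is bijective
  obtain ⟨ψ, hψ⟩ : ∃ ψ : CommRingCat.of k ⟶ (Spec (CommRingCat.of k)).residueField s,
      Spec.map ψ = (Spec (CommRingCat.of k)).fromSpecResidueField s := Spec.map_surjective _
  have hψφ : ψ ≫ φ = 𝟙 _ := by
    apply Spec.map_injective
    rw [Spec.map_comp, hψ, Spec.map_id]
    exact hθ
  have hbij : Function.Bijective φ.hom := by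
    refine ⟨φ.hom.injective, fun x => ⟨ψ.hom x, ?_⟩⟩
    have := congrArg (fun m : CommRingCat.of k ⟶ CommRingCat.of k => m.hom x) hψφ
    exact this
  have hfin : φ.hom.Finite := RingHom.Finite.of_surjective _ hbij.2
  have key := fun p' => (Groth.Agent.R2.H25.DecentFinite.finite_and_closedImmersion X hX s hs k φ
    hfin p').2 hbij
  rw [hθ] at key
  exact key p

/-- a section over `Spec k` of a decent algebraic space over the field `k` is a closed
immersion. -/
lemma repWith_isClosedImmersion_section (k : Type u) [Field k]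
    (X : AlgSp.Space (Spec (CommRingCat.of k))) (hX : AlgSp.IsDecent X.obj)
    (p : (AlgSp.yon (Spec (CommRingCat.of k))).obj (Over.mk (𝟙 _)) ⟶ X.obj) :
    AlgSp.RepWith @IsClosedImmersion p :=
  repWith_isClosedImmersion_section_aux k X hX _ _
    (Scheme.descResidueField_stalkClosedPointTo_fromSpecResidueField k
      (Spec (CommRingCat.of k)) (𝟙 _)) p

theorem isSeparatedSp_of_grpObj_field (k : Type u) [Field k]
    (G : Over ((AlgSp.yon (Spec (CommRingCat.of k))).obj (Over.mk (𝟙 _)))) [GrpObj G]
    (hG : AlgSp.IsAlgSpace G.left) (hd : AlgSp.IsDecent G.left) : AlgSp.IsSeparatedSp G.left := by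
  have hT : IsTerminal ((AlgSp.yon (Spec (CommRingCat.of k))).obj (Over.mk (𝟙 _))) :=
    IsTerminal.isTerminalObj (AlgSp.yon _) _ Over.mkIdTerminal
  obtain ⟨d, sq⟩ := exists_isPullback_diag hT G
  have he : AlgSp.RepWith @IsClosedImmersion (η[G]).left :=
    repWith_isClosedImmersion_section k ⟨G.left, hG⟩ hd (η[G]).left
  exact MorphismProperty.of_isPullback (P := AlgSp.RepWith @IsClosedImmersion) sq.flip he

end Groth.Agent.R2.H46.GrpSep
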