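import Mathlib
import Groth.Agent.R2.H45Dim

/-!
# Krull dimension along integral morphisms of affine schemes (helper46)
-/

set_option autoImplicit false
set_option linter.style.haveILetI false
universe u
open CategoryTheory CategoryTheory.Limits AlgebraicGeometry

namespace Groth.Agent.R2.H46.IntDim

/-- integral algebras do not raise the Krull dimension (incomparability). -/
theorem ringKrullDim_le_of_isIntegral (A B : Type*) [CommRing A] [CommRing B] [Algebra A B]
    [Algebra.IsIntegral A B] : ringKrullDim B ≤ ringKrullDim A := by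
  refine Order.krullDim_le_of_strictMono (PrimeSpectrum.comap (algebraMap A B)) ?_
  intro P Q hPQ
  have h : P.asIdeal < Q.asIdeal := hPQ
  exact Ideal.IsIntegral.comap_lt_comap (R := A) h

/-- integral algebras with surjective map on spectra do not lower the Krull dimension
(going up). -/
theorem ringKrullDim_le_of_isIntegral_of_surjective (A B : Type*) [CommRing A] [CommRing B]
    [Algebra A B] [Algebra.IsIntegral A B]
    (hs : Function.Surjective (PrimeSpectrum.comap (algebraMap A B))) :
    ringKrullDim A ≤ ringKrullDim B := by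
  unfold ringKrullDim
  rw [Order.krullDim, Order.krullDim]
  refine iSup_le fun l => ?_
  obtain ⟨P, hP⟩ := hs l.head
  haveI : P.asIdeal.LiesOver l.head.asIdeal := ⟨by rw [← hP]; rfl⟩
  obtain ⟨L, hL, -, -⟩ := Ideal.exists_ltSeries_of_hasGoingUp l P.asIdeal
  exact le_iSup_of_le L (by rw [hL])

/-- the Krull dimension of an affine scheme is the Krull dimension of its ring of global
sections. -/
theorem topologicalKrullDim_eq_of_isAffine (W : Scheme.{u}) [IsAffine W] :
    topologicalKrullDim W = ringKrullDim Γ(W, ⊤) := by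
  rw [← PrimeSpectrum.topologicalKrullDim_eq_ringKrullDim]
  exact IsHomeomorph.topologicalKrullDim_eq _ W.isoSpec.hom.homeomorph.isHomeomorph

/-- an integral morphism of affine schemes does not raise the Krull dimension. -/
theorem topologicalKrullDim_le_of_isIntegralHom {W Z : Scheme.{u}} [IsAffine W] [IsAffine Z]
    (i : W ⟶ Z) [IsIntegralHom i] : topologicalKrullDim W ≤ topologicalKrullDim Z := by
  rw [topologicalKrullDim_eq_of_isAffine, topologicalKrullDim_eq_of_isAffine]
  have h : (i.appTop).hom.IsIntegral := IsIntegralHom.isIntegral_app i ⊤ (isAffineOpen_top Z)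
  letI : Algebra Γ(Z, ⊤) Γ(W, ⊤) := (i.appTop).hom.toAlgebra
  haveI : Algebra.IsIntegral Γ(Z, ⊤) Γ(W, ⊤) := ⟨h⟩
  exact ringKrullDim_le_of_isIntegral _ _

/-- an integral surjective morphism of affine schemes does not lower the Krull dimension. -/
theorem topologicalKrullDim_le_of_isIntegralHom_of_surjective {W Z : Scheme.{u}} [IsAffine W]
    [IsAffine Z] (i : W ⟶ Z) [IsIntegralHom i] (hs : Function.Surjective i) :
    topologicalKrullDim Z ≤ topologicalKrullDim W := by
  rw [topologicalKrullDim_eq_of_isAffine, topologicalKrullDim_eq_of_isAffine]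
  have h : (i.appTop).hom.IsIntegral := IsIntegralHom.isIntegral_app i ⊤ (isAffineOpen_top Z)
  letI : Algebra Γ(Z, ⊤) Γ(W, ⊤) := (i.appTop).hom.toAlgebra
  haveI : Algebra.IsIntegral Γ(Z, ⊤) Γ(W, ⊤) := ⟨h⟩
  refine ringKrullDim_le_of_isIntegral_of_surjective _ _ ?_
  intro p
  obtain ⟨z, hz⟩ := Z.isoSpec.hom.homeomorph.surjective p
  obtain ⟨w, rfl⟩ := hs z
  refine ⟨W.isoSpec.hom w, ?_⟩
  rw [← hz]
  have := Scheme.isoSpec_hom_naturality i
  have h2 := congrArg (fun φ : W ⟶ Spec Γ(Z, ⊤) => φ w) this
  exact h2

end Groth.Agent.R2.H46.IntDim
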