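import Mathlib
import Groth.Agent.R2.H46DegStrat
import Groth.Agent.R2.H25KerGrpd
import Groth.Agent.R2.H25DecentPts
import Groth.Agent.S9920
import Groth.Agent.R2.H45FinEtQuot2
import Groth.Agent.R2.H25DecentIff

set_option autoImplicit false
set_option linter.style.haveILetI false
universe u
open CategoryTheory CategoryTheory.Limits AlgebraicGeometry Topology TopologicalSpace

namespace Groth.Agent.R2.H46.LocSep


/-- `r + 1` pairs of vectors of `Ω ^ r` with `pₙ ⬝ qₙ = 1` cannot be pairwise orthogonal. -/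
lemma exists_ne_dot_ne_zero {Ω : Type*} [Field Ω] (r : ℕ) (p q : Fin (r + 1) → (Fin r → Ω))
    (h : ∀ n, ∑ i, p n i * q n i = 1) : ∃ n m, n ≠ m ∧ ∑ i, p n i * q m i ≠ 0 := by
  by_contra hcon
  push Not at hcon
  have hli : LinearIndependent Ω p := by
    rw [Fintype.linearIndependent_iff]
    intro c hc m
    have h1 := congrArg (fun v : Fin r → Ω => ∑ i, v i * q m i) hc
    simp only [Finset.sum_apply, Pi.smul_apply, smul_eq_mul, Pi.zero_apply, zero_mul,
      Finset.sum_const_zero] at h1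
    simp_rw [Finset.sum_mul] at h1
    rw [Finset.sum_comm] at h1
    have h2 : ∑ n, ∑ i, c n * p n i * q m i = c m := by
      rw [Finset.sum_eq_single m]
      · simp_rw [mul_assoc, ← Finset.mul_sum, h m, mul_one]
      · intro n _ hnm
        simp_rw [mul_assoc, ← Finset.mul_sum, hcon n m hnm, mul_zero]
      · intro hm; exact absurd (Finset.mem_univ m) hm
    rw [← h2]
    exact h1
  have := hli.fintype_card_le_finrank
  simp at this


open Groth.Agent.R2.H46.DegStrat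



/-- finitely many field-valued points with the same image point have a common refinement. -/
lemma exists_common_refinement_family {Y : Scheme.{u}} (y : ↥Y) :
    ∀ (N : ℕ) (K : Fin N → Type u) [∀ n, Field (K n)]
      (β : ∀ n, Spec (CommRingCat.of (K n)) ⟶ Y)
      (_ : ∀ n, β n (IsLocalRing.closedPoint (K n)) = y),
      ∃ (Ω : Type u) (_ : Field Ω) (β' : Spec (CommRingCat.of Ω) ⟶ Y)
        (c : ∀ n, Spec (CommRingCat.of Ω) ⟶ Spec (CommRingCat.of (K n))),
        β' (IsLocalRing.closedPoint Ω) = y ∧ ∀ n, c n ≫ β n = β' := by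
  intro N
  induction N with
  | zero =>
    intro K _ β _
    exact ⟨↑(Y.residueField y), inferInstance, Y.fromSpecResidueField y, fun n => Fin.elim0 n,
      Scheme.fromSpecResidueField_apply _ _, fun n => Fin.elim0 n⟩
  | succ N ih =>
    intro K _ β hβ
    obtain ⟨Ω', _, β', c', hβ', hc'⟩ := ih (fun n => K n.castSucc) (fun n => β n.castSucc)
      (fun n => hβ n.castSucc)
    obtain ⟨Ω, _, r₁, r₂, hr⟩ := exists_common_refinement β' (β (Fin.last N))
      (hβ'.trans (hβ (Fin.last N)).symm)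
    refine ⟨Ω, inferInstance, r₁ ≫ β',
      Fin.lastCases (motive := fun n => Spec (CommRingCat.of Ω) ⟶ Spec (CommRingCat.of (K n))) r₂
        (fun n => r₁ ≫ c' n), ?_, ?_⟩
    · rw [Scheme.Hom.comp_apply, spec_field_apply_eq β', hβ']
    · intro n
      refine Fin.lastCases ?_ (fun n => ?_) n
      · rw [Fin.lastCases_last]; exact hr.symm
      · rw [Fin.lastCases_castSucc, Category.assoc, hc']



open TensorProduct in
/-- every element of a pushout of commutative rings is a sum of products of elements of the two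
factors. -/
lemma exists_sum_of_isPushout {A₀ A B C : CommRingCat.{u}} {f : A₀ ⟶ A} {g : A₀ ⟶ B}
    {inl : A ⟶ C} {inr : B ⟶ C} (h : IsPushout f g inl inr) (c : C) :
    ∃ (r : ℕ) (a : Fin r → A) (b : Fin r → B), c = ∑ i, inl (a i) * inr (b i) := by
  letI := f.hom.toAlgebra
  letI := g.hom.toAlgebra
  have h' := CommRingCat.isPushout_tensorProduct A₀ A B
  have hf : CommRingCat.ofHom (algebraMap A₀ A) = f := rfl
  have hg : CommRingCat.ofHom (algebraMap A₀ B) = g := rfl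
  rw [hf, hg] at h'
  let e := h'.isoIsPushout _ _ h
  have he1 : CommRingCat.ofHom (Algebra.TensorProduct.includeLeftRingHom (R := A₀) (A := A) (B := B)) ≫ e.hom = inl :=
    h'.inl_isoIsPushout_hom _ _ h
  have he2 : CommRingCat.ofHom (Algebra.TensorProduct.includeRight (R := A₀) (A := A) (B := B)).toRingHom ≫ e.hom = inr :=
    h'.inr_isoIsPushout_hom _ _ h
  have key : ∀ t : A ⊗[A₀] B, ∃ (r : ℕ) (a : Fin r → A) (b : Fin r → B),
      e.hom t = ∑ i, inl (a i) * inr (b i) := by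
    intro t
    induction t using TensorProduct.induction_on with
    | zero => exact ⟨0, Fin.elim0, Fin.elim0, by simp⟩
    | tmul a b =>
      refine ⟨1, fun _ => a, fun _ => b, ?_⟩
      have h1 : (a ⊗ₜ[A₀] b : A ⊗[A₀] B) =
          Algebra.TensorProduct.includeLeftRingHom a * (Algebra.TensorProduct.includeRight b) := by
        simp
      rw [h1, map_mul, ← he1, ← he2]
      simp
    | add x y hx hy =>
      obtain ⟨r₁, a₁, b₁, h₁⟩ := hx
      obtain ⟨r₂, a₂, b₂, h₂⟩ := hy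
      refine ⟨r₁ + r₂, Fin.append a₁ a₂, Fin.append b₁ b₂, ?_⟩
      rw [map_add, h₁, h₂, Fin.sum_univ_add]
      simp
  obtain ⟨r, a, b, hab⟩ := key (e.inv c)
  refine ⟨r, a, b, ?_⟩
  rw [← hab]
  change c = (e.inv ≫ e.hom) c
  rw [e.inv_hom_id]
  rfl



/-- a neighbourhood of the diagonal of an affine scheme over an affine scheme contains a basic
open, containing the diagonal, of a function which is a sum of products. -/
lemma exists_sections {V S₀ P : Scheme.{u}} [IsAffine V] [IsAffine S₀] (g : V ⟶ S₀)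
    (p₁ p₂ : P ⟶ V) (hP : IsPullback p₁ p₂ g g) (δ : V ⟶ P) (h1 : δ ≫ p₁ = 𝟙 V)
    (h2 : δ ≫ p₂ = 𝟙 V) (N : P.Opens) (hN : Set.range δ ⊆ N) :
    ∃ (r : ℕ) (a b : Fin r → Γ(V, ⊤)), ∑ i, a i * b i = 1 ∧
      P.basicOpen (∑ i, p₁.appTop (a i) * p₂.appTop (b i)) ≤ N := by
  haveI : IsAffine P := IsAffine.of_isPullback hP
  have hδ1 : ∀ a : Γ(V, ⊤), δ.appTop (p₁.appTop a) = a := by
    intro a
    have : p₁.appTop ≫ δ.appTop = 𝟙 _ := by
      rw [← Scheme.Hom.comp_appTop, h1]; rfl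
    exact congrArg (fun m : Γ(V, ⊤) ⟶ Γ(V, ⊤) => m a) this
  have hδ2 : ∀ a : Γ(V, ⊤), δ.appTop (p₂.appTop a) = a := by
    intro a
    have : p₂.appTop ≫ δ.appTop = 𝟙 _ := by
      rw [← Scheme.Hom.comp_appTop, h2]; rfl
    exact congrArg (fun m : Γ(V, ⊤) ⟶ Γ(V, ⊤) => m a) this
  let I : Ideal Γ(P, ⊤) :=
    { carrier := {f | P.basicOpen f ≤ N}
      add_mem' := fun {f g} hf hg => (P.basicOpen_add_le f g).trans (sup_le hf hg)
      zero_mem' := by
        show P.basicOpen (0 : Γ(P, ⊤)) ≤ N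
        rw [Scheme.basicOpen_zero]; exact bot_le
      smul_mem' := fun c f hf => by
        show P.basicOpen (c * f) ≤ N
        rw [Scheme.basicOpen_mul]
        exact inf_le_right.trans hf }
  have hsurj : Function.Surjective δ.appTop.hom := fun a => ⟨p₁.appTop a, hδ1 a⟩
  have hJ : Ideal.map δ.appTop.hom I = ⊤ := by
    have hspan : Ideal.span ((Ideal.map δ.appTop.hom I : Ideal Γ(V, ⊤)) : Set Γ(V, ⊤)) = ⊤ := by
      rw [← (isAffineOpen_top V).self_le_iSup_basicOpen_iff]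
      intro v _
      have hv : δ v ∈ N := hN ⟨v, rfl⟩
      obtain ⟨_, ⟨_, ⟨f, rfl⟩, rfl⟩, hvf, hfN⟩ :=
        (isBasis_basicOpen P).exists_subset_of_mem_open hv N.isOpen
      have hfI : f ∈ I := hfN
      have hmem : δ.appTop.hom f ∈ Ideal.map δ.appTop.hom I := Ideal.mem_map_of_mem _ hfI
      rw [TopologicalSpace.Opens.mem_iSup]
      refine ⟨⟨δ.appTop.hom f, hmem⟩, ?_⟩
      show v ∈ V.basicOpen (δ.appTop f)
      rw [← Scheme.preimage_basicOpen_top]
      exact hvf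
    rwa [Ideal.span_eq] at hspan
  obtain ⟨f, hfI, hf1⟩ : ∃ f ∈ I, δ.appTop.hom f = 1 := by
    have : (1 : Γ(V, ⊤)) ∈ Ideal.map δ.appTop.hom I := by rw [hJ]; trivial
    exact (Ideal.mem_map_iff_of_surjective _ hsurj).1 this
  obtain ⟨r, a, b, hab⟩ := exists_sum_of_isPushout (isPushout_appTop_of_isPullback hP) f
  refine ⟨r, a, b, ?_, ?_⟩
  · have h3 := congrArg δ.appTop.hom hab
    rw [hf1, map_sum] at h3
    rw [h3]
    refine Finset.sum_congr rfl fun i _ => ?_
    rw [map_mul]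
    show a i * b i = δ.appTop (p₁.appTop (a i)) * δ.appTop (p₂.appTop (b i))
    rw [hδ1, hδ2]
  · rw [← hab]
    exact hfI




variable {S : Scheme.{u}}

/-- the data attached to the kernel pair of a small affine étale chart of a locally separated
sheaf: functions `aᵢ, bᵢ` on `V` with `∑ aᵢ bᵢ = 1` such that any point of the kernel pair `R` at
which `∑ pr^*(aᵢ) w^*(bᵢ)` does not vanish lies in the image of the identity section. -/
theorem exists_sections_of_isLocallySeparatedSp {X : AlgSp.Sp S}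
    (hls : AlgSp.IsLocallySeparatedSp X)
    {V : Over S} [IsAffine V.left] (S₀ : Scheme.{u}) [IsAffine S₀] (ι₀ : S₀ ⟶ S) [Mono ι₀]
    (g : V.left ⟶ S₀) (hg : g ≫ ι₀ = V.hom)
    (b : (AlgSp.yon S).obj V ⟶ X) {R : Over S} (pr w : R ⟶ V)
    (sqV : IsPullback ((AlgSp.yon S).map pr) ((AlgSp.yon S).map w) b b) [Etale pr.left] :
    ∃ (r : ℕ) (a bb : Fin r → Γ(V.left, ⊤)), ∑ i, a i * bb i = 1 ∧
      ∀ z : ↥R.left, z ∈ R.left.basicOpen (∑ i, pr.left.appTop (a i) * w.left.appTop (bb i)) →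
        ∃ e : V ⟶ R, e ≫ pr = 𝟙 V ∧ e ≫ w = 𝟙 V ∧ IsOpenImmersion e.left ∧
          z ∈ Set.range e.left := by
  have hj : IsImmersion (prod.lift pr w).left :=
    Groth.Agent.S9920.property_of_repWith_diag hls sqV
  set j := (prod.lift pr w).left with hjdef
  let p₁ : (V ⨯ V).left ⟶ V.left := (prod.fst : V ⨯ V ⟶ V).left
  let p₂ : (V ⨯ V).left ⟶ V.left := (prod.snd : V ⨯ V ⟶ V).left
  have hj1 : j ≫ p₁ = pr.left := by
    rw [hjdef, ← Over.comp_left, prod.lift_fst]
  have hj2 : j ≫ p₂ = w.left := by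
    rw [hjdef, ← Over.comp_left, prod.lift_snd]
  have hP0 : IsPullback p₁ p₂ V.hom V.hom :=
    IsPullback.of_iso_pullback ⟨by rw [Over.w, Over.w]⟩ (Over.prodLeftIsoPullback V V)
      (Over.prodLeftIsoPullback_hom_fst V V) (Over.prodLeftIsoPullback_hom_snd V V)
  have hP : IsPullback p₁ p₂ g g := by
    apply Groth.Agent.R2.H25.DecentPts.isPullback_of_comp_mono ι₀
    rw [hg]
    exact hP0
  obtain ⟨e, he1, he2⟩ := Groth.Agent.R2.H25.KerGrpd.exists_lift b w pr sqV (𝟙 V) (𝟙 V) rfl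
  have he1l : e.left ≫ pr.left = 𝟙 V.left := congrArg (fun m => m.left) he1
  have he2l : e.left ≫ w.left = 𝟙 V.left := congrArg (fun m => m.left) he2
  haveI : Etale (e.left ≫ pr.left) := by rw [he1l]; infer_instance
  haveI : Etale e.left := Etale.of_comp e.left pr.left
  haveI : Mono e.left := mono_of_mono_fac he1l
  haveI : IsOpenImmersion e.left := IsOpenImmersion.of_flat_of_mono e.left
  obtain ⟨N₀, hN₀o, hN₀⟩ := j.isEmbedding.isInducing.isOpen_iff.1
    e.left.isOpenEmbedding.isOpen_range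
  have hδ1 : (e.left ≫ j) ≫ p₁ = 𝟙 V.left := by rw [Category.assoc, hj1, he1l]
  have hδ2 : (e.left ≫ j) ≫ p₂ = 𝟙 V.left := by rw [Category.assoc, hj2, he2l]
  obtain ⟨r, a, bb, hab, hfN⟩ := exists_sections g p₁ p₂ hP (e.left ≫ j) hδ1 hδ2 ⟨N₀, hN₀o⟩ (by
    rintro _ ⟨v, rfl⟩
    show (e.left ≫ j) v ∈ N₀
    have : e.left v ∈ j ⁻¹' N₀ := by rw [hN₀]; exact ⟨v, rfl⟩
    exact this)
  refine ⟨r, a, bb, hab, ?_⟩
  intro z hz
  refine ⟨e, he1, he2, inferInstance, ?_⟩
  rw [← hN₀]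
  apply hfN
  show j z ∈ (V ⨯ V).left.basicOpen (∑ i, p₁.appTop (a i) * p₂.appTop (bb i))
  have h1 : j ⁻¹ᵁ (V ⨯ V).left.basicOpen (∑ i, p₁.appTop (a i) * p₂.appTop (bb i)) =
      R.left.basicOpen (∑ i, pr.left.appTop (a i) * w.left.appTop (bb i)) := by
    rw [Scheme.preimage_basicOpen_top]
    congr 1
    rw [map_sum]
    refine Finset.sum_congr rfl fun i _ => ?_
    rw [map_mul, ← hj1, ← hj2, Scheme.Hom.comp_appTop, Scheme.Hom.comp_appTop]
    rfl
  have h2 : z ∈ j ⁻¹ᵁ (V ⨯ V).left.basicOpen (∑ i, p₁.appTop (a i) * p₂.appTop (bb i)) := by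
    rw [h1]; exact hz
  exact h2

/-- morphisms into a representable fibre product are determined by their projections. -/
lemma left_ext' {X : AlgSp.Sp S} {T V W : Over S} {c : (AlgSp.yon S).obj T ⟶ X}
    {b : (AlgSp.yon S).obj V ⟶ X} {p : W ⟶ T} {q : W ⟶ V}
    (sq : IsPullback ((AlgSp.yon S).map p) ((AlgSp.yon S).map q) c b)
    {T' : Scheme.{u}} (φ₁ φ₂ : T' ⟶ W.left) (h1 : φ₁ ≫ p.left = φ₂ ≫ p.left)
    (h2 : φ₁ ≫ q.left = φ₂ ≫ q.left) : φ₁ = φ₂ := by
  have hW : φ₂ ≫ W.hom = φ₁ ≫ W.hom := by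
    rw [← Over.w p, ← Category.assoc, ← h1, Category.assoc]
  let f₁ : Over.mk (φ₁ ≫ W.hom) ⟶ W := Over.homMk φ₁ rfl
  let f₂ : Over.mk (φ₁ ≫ W.hom) ⟶ W := Over.homMk φ₂ hW
  have : f₁ = f₂ := by
    apply (AlgSp.yon S).map_injective
    apply sq.hom_ext
    · rw [← Functor.map_comp, ← Functor.map_comp]
      congr 1
      exact Over.OverMorphism.ext h1
    · rw [← Functor.map_comp, ← Functor.map_comp]
      congr 1
      exact Over.OverMorphism.ext h2
  exact congrArg (fun k => k.left) this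

/-- **finite fibres over a small affine étale chart of a locally separated sheaf.** -/
theorem finite_fibre_of_isLocallySeparatedSp {X : AlgSp.Sp S}
    (hls : AlgSp.IsLocallySeparatedSp X)
    {V : Over S} [IsAffine V.left] (S₀ : Scheme.{u}) [IsAffine S₀] (ι₀ : S₀ ⟶ S) [Mono ι₀]
    (g : V.left ⟶ S₀) (hg : g ≫ ι₀ = V.hom)
    (b : (AlgSp.yon S).obj V ⟶ X) (hbe : AlgSp.RepWith @Etale b)
    {T W : Over S} (c : (AlgSp.yon S).obj T ⟶ X) (p : W ⟶ T) (q : W ⟶ V)
    (sq : IsPullback ((AlgSp.yon S).map p) ((AlgSp.yon S).map q) c b) (t₀ : ↥T.left) :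
    (p.left ⁻¹' {t₀}).Finite := by
  obtain ⟨R, w, pr', sqV⟩ := hbe.1 b
  obtain ⟨pr, rfl⟩ := (AlgSp.yon S).map_surjective pr'
  haveI : Etale pr.left := hbe.2 b _ pr sqV.flip
  obtain ⟨r, a, bb, hab, hkey⟩ :=
    exists_sections_of_isLocallySeparatedSp hls S₀ ι₀ g hg b pr w sqV
  by_contra hinf
  obtain ⟨F, hF, hcard⟩ := Set.Infinite.exists_subset_card_eq hinf (r + 1)
  let eF : Fin (r + 1) ≃ F := (F.equivFinOfCardEq hcard).symm
  let z : Fin (r + 1) → ↥W.left := fun n => (eF n).1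
  have hzinj : Function.Injective z := fun n m h => eF.injective (Subtype.ext h)
  have hz : ∀ n, p.left (z n) = t₀ := fun n => hF (eF n).2
  -- the field-valued points
  obtain ⟨Ω, _, β', cc, hβ', hcc⟩ := exists_common_refinement_family t₀ (r + 1)
    (fun n => ↑(W.left.residueField (z n))) (fun n => W.left.fromSpecResidueField (z n) ≫ p.left)
    (fun n => by rw [Scheme.Hom.comp_apply, Scheme.fromSpecResidueField_apply, hz])
  let ρ : Fin (r + 1) → (Spec (CommRingCat.of Ω) ⟶ W.left) :=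
    fun n => cc n ≫ W.left.fromSpecResidueField (z n)
  have hρp : ∀ n, ρ n ≫ p.left = β' := fun n => by rw [Category.assoc]; exact hcc n
  have hρz : ∀ n, ρ n (IsLocalRing.closedPoint Ω) = z n := fun n => by
    rw [Scheme.Hom.comp_apply, Scheme.fromSpecResidueField_apply]
  let Z : Over S := Over.mk (β' ≫ T.hom)
  let βZ : Z ⟶ T := Over.homMk β' rfl
  have hρS : ∀ n, ρ n ≫ W.hom = β' ≫ T.hom := fun n => by
    rw [← Over.w p, ← Category.assoc, hρp]
  let ρo : ∀ n, Z ⟶ W := fun n => Over.homMk (ρ n) (hρS n)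
  have hρo : ∀ n, ρo n ≫ p = βZ := fun n => Over.OverMorphism.ext (hρp n)
  let x : ∀ n, Z ⟶ V := fun n => ρo n ≫ q
  have hxb : ∀ n, (AlgSp.yon S).map (x n) ≫ b = (AlgSp.yon S).map βZ ≫ c := fun n => by
    rw [Functor.map_comp, Category.assoc, ← sq.w, ← Category.assoc, ← Functor.map_comp, hρo]
  let evh : ∀ n, Γ(V.left, ⊤) →+* Ω := fun n =>
    ((x n).left.appTop ≫ (Scheme.ΓSpecIso (CommRingCat.of Ω)).hom).hom
  obtain ⟨n, m, hnm, hne⟩ := exists_ne_dot_ne_zero r (fun n i => evh n (a i))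
    (fun n i => evh n (bb i)) (fun n => by
      simp only [← map_mul, ← map_sum, hab, map_one])
  obtain ⟨lam, hl1, hl2⟩ := Groth.Agent.R2.H25.KerGrpd.exists_lift b w pr sqV (x n) (x m)
    (by rw [hxb, hxb])
  have hl1l : lam.left ≫ pr.left = (x n).left := congrArg (fun k => k.left) hl1
  have hl2l : lam.left ≫ w.left = (x m).left := congrArg (fun k => k.left) hl2
  have hmem : lam.left (IsLocalRing.closedPoint Ω) ∈
      R.left.basicOpen (∑ i, pr.left.appTop (a i) * w.left.appTop (bb i)) := by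
    have h1 : lam.left ⁻¹ᵁ R.left.basicOpen (∑ i, pr.left.appTop (a i) * w.left.appTop (bb i)) =
        ⊤ := by
      rw [Scheme.preimage_basicOpen_top]
      apply Scheme.basicOpen_of_isUnit
      have h2 : (Scheme.ΓSpecIso (CommRingCat.of Ω)).hom
          (lam.left.appTop (∑ i, pr.left.appTop (a i) * w.left.appTop (bb i))) =
          ∑ i, evh n (a i) * evh m (bb i) := by
        rw [map_sum, map_sum]
        refine Finset.sum_congr rfl fun i _ => ?_
        rw [map_mul, map_mul]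
        congr 1
        · show _ = (Scheme.ΓSpecIso (CommRingCat.of Ω)).hom ((x n).left.appTop (a i))
          rw [← hl1l, Scheme.Hom.comp_appTop]
          rfl
        · show _ = (Scheme.ΓSpecIso (CommRingCat.of Ω)).hom ((x m).left.appTop (bb i))
          rw [← hl2l, Scheme.Hom.comp_appTop]
          rfl
      have h3 : IsUnit ((Scheme.ΓSpecIso (CommRingCat.of Ω)).hom
          (lam.left.appTop (∑ i, pr.left.appTop (a i) * w.left.appTop (bb i)))) := by
        rw [h2]; exact IsUnit.mk0 _ hne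
      have h4 := h3.map (Scheme.ΓSpecIso (CommRingCat.of Ω)).inv.hom
      have h5 : (Scheme.ΓSpecIso (CommRingCat.of Ω)).inv.hom
          ((Scheme.ΓSpecIso (CommRingCat.of Ω)).hom
            (lam.left.appTop (∑ i, pr.left.appTop (a i) * w.left.appTop (bb i)))) =
          lam.left.appTop (∑ i, pr.left.appTop (a i) * w.left.appTop (bb i)) := by
        change ((Scheme.ΓSpecIso (CommRingCat.of Ω)).hom ≫
          (Scheme.ΓSpecIso (CommRingCat.of Ω)).inv) _ = _
        rw [Iso.hom_inv_id]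
        rfl
      rw [h5] at h4
      exact h4
    have h6 : (IsLocalRing.closedPoint Ω : ↥(Spec (CommRingCat.of Ω))) ∈
        lam.left ⁻¹ᵁ R.left.basicOpen (∑ i, pr.left.appTop (a i) * w.left.appTop (bb i)) := by
      rw [h1]; trivial
    exact h6
  obtain ⟨e, he1, he2, heo, hze⟩ := hkey _ hmem
  haveI := heo
  have he1l : e.left ≫ pr.left = 𝟙 V.left := congrArg (fun k => k.left) he1
  have he2l : e.left ≫ w.left = 𝟙 V.left := congrArg (fun k => k.left) he2
  have hrange : Set.range lam.left ⊆ Set.range e.left := by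
    rintro _ ⟨y, rfl⟩
    rw [spec_field_apply_eq lam.left y]
    exact hze
  have hl' : IsOpenImmersion.lift e.left lam.left hrange ≫ e.left = lam.left :=
    IsOpenImmersion.lift_fac _ _ _
  have hxnm : (x n).left = (x m).left := by
    rw [← hl1l, ← hl2l, ← hl', Category.assoc, Category.assoc, he1l, he2l]
  have hρnm : ρ n = ρ m := left_ext' sq _ _ (by rw [hρp, hρp]) hxnm
  exact hnm (hzinj (by rw [← hρz n, ← hρz m, hρnm]))


open Groth.Agent.R2.H45.FinEtQuot in
/-- the part of a fibre of a kernel pair projection lying over a small affine open is finite. -/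
lemma finite_fibre_inter {X : AlgSp.Sp S} (hls : AlgSp.IsLocallySeparatedSp X) {U R : Over S}
    (φ : (AlgSp.yon S).obj U ⟶ X) (hφ : AlgSp.RepWith @Etale φ) (s t : R ⟶ U)
    (sq : IsPullback ((AlgSp.yon S).map t) ((AlgSp.yon S).map s) φ φ)
    (U' : U.left.Opens) (hU' : IsAffineOpen U') (S₀ : S.Opens) (hS₀ : IsAffineOpen S₀)
    (hle : U' ≤ U.hom ⁻¹ᵁ S₀) (u : ↥U.left) :
    (t.left ⁻¹' {u} ∩ s.left ⁻¹' (U' : Set ↥U.left)).Finite := by
  haveI : IsAffine (Wov U').left := hU'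
  haveI : IsAffine (↑S₀ : Scheme.{u}) := hS₀
  have hrange : Set.range (U'.ι ≫ U.hom) ⊆ Set.range S₀.ι := by
    rintro _ ⟨y, rfl⟩
    rw [Scheme.Opens.range_ι]
    exact hle y.2
  have hg : IsOpenImmersion.lift S₀.ι (U'.ι ≫ U.hom) hrange ≫ S₀.ι = (Wov U').hom :=
    IsOpenImmersion.lift_fac _ _ _
  have hb : AlgSp.RepWith @Etale ((AlgSp.yon S).map (ιW U') ≫ φ) :=
    (AlgSp.RepWith @Etale).comp_mem _ _
      ((AlgSp.repWith_yon_map_iff _ _).2 (inferInstanceAs (Etale U'.ι))) hφ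
  have hA : IsPullback (ιR s U') (sW s U') s (ιW U') :=
    IsPullback.of_map (Over.forget S) (ιR_comp_s s U') (isPullback_sW_left s U')
  have hB : IsPullback ((AlgSp.yon S).map (ιR s U') ≫ (AlgSp.yon S).map t)
      ((AlgSp.yon S).map (sW s U')) φ ((AlgSp.yon S).map (ιW U') ≫ φ) :=
    (hA.map (AlgSp.yon S)).paste_horiz sq
  rw [← Functor.map_comp] at hB
  have hfin : ((ιR s U' ≫ t).left ⁻¹' {u}).Finite :=
    finite_fibre_of_isLocallySeparatedSp (X := X) hls (V := Wov U') (↑S₀ : Scheme.{u}) S₀.ι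
    (IsOpenImmersion.lift S₀.ι (U'.ι ≫ U.hom) hrange) hg ((AlgSp.yon S).map (ιW U') ≫ φ) hb
    (T := U) (W := Rov s U') φ
    (ιR s U' ≫ t) (sW s U') hB u
  have hsub : t.left ⁻¹' {u} ∩ s.left ⁻¹' (U' : Set ↥U.left) ⊆
      (s.left ⁻¹ᵁ U').ι '' ((ιR s U' ≫ t).left ⁻¹' {u}) := by
    rintro r ⟨hr1, hr2⟩
    refine ⟨(⟨r, hr2⟩ : ↥(s.left ⁻¹ᵁ U')), ?_, rfl⟩
    show t.left ((s.left ⁻¹ᵁ U').ι ⟨r, hr2⟩) = u
    exact hr1
  exact (hfin.image _).subset hsub

/-- the fibres of the kernel pair projections of an affine étale chart of a locally separated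
sheaf are finite. -/
theorem finite_fibre_t {X : AlgSp.Sp S} (hls : AlgSp.IsLocallySeparatedSp X) {U R : Over S}
    [IsAffine U.left] (φ : (AlgSp.yon S).obj U ⟶ X) (hφ : AlgSp.RepWith @Etale φ) (s t : R ⟶ U)
    (sq : IsPullback ((AlgSp.yon S).map t) ((AlgSp.yon S).map s) φ φ) (u : ↥U.left) :
    (t.left ⁻¹' {u}).Finite := by
  have key : ∀ u' : ↥U.left, ∃ (U' : U.left.Opens) (S₀ : S.Opens), IsAffineOpen U' ∧
      IsAffineOpen S₀ ∧ u' ∈ U' ∧ U' ≤ U.hom ⁻¹ᵁ S₀ := by
    intro u'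
    obtain ⟨S₀, hS₀, hsS₀, -⟩ : ∃ V : S.Opens, V ∈ S.affineOpens ∧ U.hom u' ∈ V ∧ V ≤ ⊤ :=
      TopologicalSpace.Opens.isBasis_iff_nbhd.1 S.isBasis_affineOpens
        (TopologicalSpace.Opens.mem_top _)
    obtain ⟨U₀, hU₀, huU, hU₀S⟩ : ∃ V : U.left.Opens, V ∈ U.left.affineOpens ∧ u' ∈ V ∧
        V ≤ U.hom ⁻¹ᵁ S₀ :=
      TopologicalSpace.Opens.isBasis_iff_nbhd.1 U.left.isBasis_affineOpens
        (show u' ∈ U.hom ⁻¹ᵁ S₀ from hsS₀)
    exact ⟨U₀, S₀, hU₀, hS₀, huU, hU₀S⟩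
  choose U' S₀ hU' hS₀ hmem hle using key
  obtain ⟨I, hI⟩ := isCompact_univ.elim_finite_subcover (fun u' => (U' u' : Set ↥U.left))
    (fun u' => (U' u').isOpen) (fun u' _ => Set.mem_iUnion.2 ⟨u', hmem u'⟩)
  have hcov : t.left ⁻¹' {u} ⊆ ⋃ u' ∈ I, (t.left ⁻¹' {u} ∩ s.left ⁻¹' (U' u' : Set ↥U.left)) := by
    intro r hr
    have := hI (Set.mem_univ (s.left r))
    simp only [Set.mem_iUnion] at this ⊢
    obtain ⟨u', hu'I, hu'⟩ := this
    exact ⟨u', hu'I, hr, hu'⟩
  refine (Set.Finite.biUnion I.finite_toSet fun u' _ => ?_).subset hcov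
  exact finite_fibre_inter hls φ hφ s t sq (U' u') (hU' u') (S₀ u') (hS₀ u') (hle u') u

/-- **a locally separated algebraic space is decent** (Stacks 088J). -/
theorem isDecent_of_isLocallySeparatedSp (X : AlgSp.Space S)
    (hls : AlgSp.IsLocallySeparatedSp X.obj) : AlgSp.IsDecent X.obj := by
  intro x
  refine Groth.Agent.R2.H25.DecentIff.exists_mono_quasiCompact_of_finite_fibres X x ?_
  intro U φ hU hφ R s t sq
  haveI := hU
  have hft : ∀ u, (t.left ⁻¹' {u}).Finite := fun u => finite_fibre_t hls φ hφ s t sq u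
  have h1 : (AlgSp.Points.ofPt φ ⁻¹' {x}).Finite := by
    by_cases hne : (AlgSp.Points.ofPt φ ⁻¹' {x}).Nonempty
    · obtain ⟨u₀, hu₀⟩ := hne
      have hu₀' : AlgSp.Points.ofPt φ u₀ = x := hu₀
      have : AlgSp.Points.ofPt φ ⁻¹' {x} = s.left '' (t.left ⁻¹' {u₀}) := by
        rw [← Groth.Agent.S10176.preimage_ofPt_image sq {u₀}, Set.image_singleton, hu₀']
      rw [this]
      exact (hft u₀).image _
    · rw [Set.not_nonempty_iff_eq_empty.1 hne]
      exact Set.finite_empty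
  refine ⟨h1, ?_⟩
  have : AlgSp.Points.ofPt ((AlgSp.yon S).map t ≫ φ) ⁻¹' {x} =
      ⋃ u ∈ AlgSp.Points.ofPt φ ⁻¹' {x}, t.left ⁻¹' {u} := by
    ext r
    simp only [Set.mem_preimage, Set.mem_singleton_iff, Set.mem_iUnion, exists_prop,
      Groth.Agent.S10176.ofPt_map_comp]
    constructor
    · intro h; exact ⟨t.left r, h, rfl⟩
    · rintro ⟨u, hu, rfl⟩; exact hu
  rw [this]
  exact h1.biUnion fun u _ => hft u


end Groth.Agent.R2.H46.LocSep
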