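import Mathlib
import Groth.Prelude.Def_AlgSpDec
import Groth.Agent.R2.H46Sober
import Groth.Agent.S9920
import Groth.Agent.S10174
import Groth.Agent.S10176
import Groth.Agent.S10177

/-!
# The space of points of a quasi-compact quasi-separated algebraic space is spectral (helper46)
-/

set_option autoImplicit false
set_option linter.style.haveILetI false
universe u
open CategoryTheory CategoryTheory.Limits AlgebraicGeometry Topology TopologicalSpace

namespace Groth.Agent.R2.H46.Spectral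

variable {S : Scheme.{u}}

/-- every point of an algebraic space has arbitrarily small affine etale charts. -/
lemma exists_affine_chart_subset {X : AlgSp.Sp S} (hX : AlgSp.IsAlgSpace X)
    (x : AlgSp.Points X) (O : Set (AlgSp.Points X)) (hO : IsOpen O) (hx : x ∈ O) :
    ∃ (V : Over S) (c : (AlgSp.yon S).obj V ⟶ X) (v : ↥V.left), IsAffine V.left ∧
      AlgSp.RepWith @Etale c ∧ AlgSp.Points.ofPt c v = x ∧ Set.range (AlgSp.Points.ofPt c) ⊆ O := by
  obtain ⟨U, a, hae, has⟩ := hX.atlas
  obtain ⟨u, hu⟩ := Groth.Agent.S10177.surjective_ofPt a has x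
  let O' : U.left.Opens := ⟨AlgSp.Points.ofPt a ⁻¹' O, hO.preimage (AlgSp.Points.continuous_ofPt a)⟩
  obtain ⟨U₀, hU₀, huU, hU₀O⟩ : ∃ V : U.left.Opens, V ∈ U.left.affineOpens ∧ u ∈ V ∧ V ≤ O' :=
    TopologicalSpace.Opens.isBasis_iff_nbhd.1 U.left.isBasis_affineOpens
      (show u ∈ O' by change AlgSp.Points.ofPt a u ∈ O; rw [hu]; exact hx)
  let V : Over S := Over.mk (U₀.ι ≫ U.hom)
  let j : V ⟶ U := Over.homMk U₀.ι rfl
  refine ⟨V, (AlgSp.yon S).map j ≫ a, ⟨u, huU⟩, hU₀, ?_, ?_, ?_⟩
  · exact (AlgSp.RepWith @Etale).comp_mem _ _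
      ((AlgSp.repWith_yon_map_iff _ _).2 (inferInstance : Etale U₀.ι)) hae
  · rw [Groth.Agent.S10176.ofPt_map_comp]; exact hu
  · rintro _ ⟨y, rfl⟩
    rw [Groth.Agent.S10176.ofPt_map_comp]
    exact hU₀O y.2

/-- the compact open subsets of the space of points of an algebraic space form a basis. -/
theorem prespectralSpace_points {X : AlgSp.Sp S} (hX : AlgSp.IsAlgSpace X) :
    PrespectralSpace (AlgSp.Points X) := by
  refine PrespectralSpace.of_isTopologicalBasis (B := {K | IsOpen K ∧ IsCompact K})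
    (isTopologicalBasis_of_isOpen_of_nhds (fun K hK => hK.1) ?_) (fun K hK => hK.2)
  intro x O hx hO
  obtain ⟨V, c, v, hV, hc, hv, hcO⟩ := exists_affine_chart_subset hX x O hO hx
  haveI := hV
  refine ⟨Set.range (AlgSp.Points.ofPt c), ⟨?_, ?_⟩, ⟨v, hv⟩, hcO⟩
  · rw [← Set.image_univ]
    exact Groth.Agent.S10176.isOpenMap_ofPt c hc _ isOpen_univ
  · exact isCompact_range (AlgSp.Points.continuous_ofPt c)

/-- over a quasi-separated base, the intersection of the images of two affine charts of a space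
quasi-separated over the base is quasi-compact. -/
lemma isCompact_range_inter_range [QuasiSeparatedSpace ↥S] {X : AlgSp.Sp S}
    (hX : AlgSp.IsAlgSpace X) (hqs : AlgSp.IsQuasiSeparatedSp X) {U V : Over S}
    [CompactSpace ↥U.left] [CompactSpace ↥V.left] (a : (AlgSp.yon S).obj U ⟶ X)
    (b : (AlgSp.yon S).obj V ⟶ X) :
    IsCompact (Set.range (AlgSp.Points.ofPt a) ∩ Set.range (AlgSp.Points.ofPt b)) := by
  obtain ⟨E, eV, eU', sqE⟩ := Functor.relativelyRepresentable.of_diag hX.diag a b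
  obtain ⟨eU, rfl⟩ := (AlgSp.yon S).map_surjective eU'
  have hqc : QuasiCompact (prod.lift eU eV).left :=
    Groth.Agent.S9920.property_of_repWith_diag hqs sqE
  haveI : QuasiCompact V.hom := inferInstance
  haveI : CompactSpace ↥(pullback U.hom V.hom) := inferInstance
  haveI : CompactSpace ↥(U ⨯ V).left :=
    QuasiCompact.compactSpace_of_compactSpace (Over.prodLeftIsoPullback U V).hom
  haveI : CompactSpace ↥E.left := QuasiCompact.compactSpace_of_compactSpace (prod.lift eU eV).left
  have h : Set.range (AlgSp.Points.ofPt a) ∩ Set.range (AlgSp.Points.ofPt b) =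
      Set.range (fun y : ↥E.left => AlgSp.Points.ofPt a (eU.left y)) := by
    ext x
    constructor
    · rintro ⟨⟨u, rfl⟩, ⟨v, hv⟩⟩
      obtain ⟨y, hy1, -⟩ := Groth.Agent.S10176.exists_point_of_isPullback_yon sqE u v hv.symm
      exact ⟨y, congrArg (AlgSp.Points.ofPt a) hy1⟩
    · rintro ⟨y, rfl⟩
      refine ⟨⟨_, rfl⟩, ⟨eV.left y, ?_⟩⟩
      change AlgSp.Points.ofPt b (eV.left y) = AlgSp.Points.ofPt a (eU.left y)
      rw [← Groth.Agent.S10176.ofPt_map_comp, ← Groth.Agent.S10176.ofPt_map_comp, sqE.w]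
  rw [h]
  exact isCompact_range ((AlgSp.Points.continuous_ofPt a).comp eU.left.continuous)

/-- a compact open subset of the space of points is a finite union of images of affine charts. -/
lemma exists_finite_affine_charts {X : AlgSp.Sp S} (hX : AlgSp.IsAlgSpace X)
    (K : Set (AlgSp.Points X)) (hKo : IsOpen K) (hKc : IsCompact K) :
    ∃ (n : ℕ) (V : Fin n → Over S) (c : ∀ i, (AlgSp.yon S).obj (V i) ⟶ X),
      (∀ i, IsAffine (V i).left) ∧ K = ⋃ i, Set.range (AlgSp.Points.ofPt (c i)) := by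
  choose V c v hV hc hv hcK using fun x : K => exists_affine_chart_subset hX x.1 K hKo x.2
  have hopen : ∀ x : K, IsOpen (Set.range (AlgSp.Points.ofPt (c x))) := fun x => by
    rw [← Set.image_univ]
    exact Groth.Agent.S10176.isOpenMap_ofPt (c x) (hc x) _ isOpen_univ
  obtain ⟨t, ht⟩ := hKc.elim_finite_subcover (fun x : K => Set.range (AlgSp.Points.ofPt (c x)))
    hopen (fun x hx => Set.mem_iUnion.2 ⟨⟨x, hx⟩, v ⟨x, hx⟩, hv ⟨x, hx⟩⟩)
  let e := t.equivFin
  refine ⟨t.card, fun i => V (e.symm i), fun i => c (e.symm i), fun i => hV _, ?_⟩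
  apply Set.Subset.antisymm
  · intro x hx
    obtain ⟨y, hy⟩ := Set.mem_iUnion.1 (ht hx)
    obtain ⟨hyt, hxy⟩ := Set.mem_iUnion.1 hy
    refine Set.mem_iUnion.2 ⟨e ⟨y, hyt⟩, ?_⟩
    change x ∈ Set.range (AlgSp.Points.ofPt (c (e.symm (e ⟨y, hyt⟩))))
    rw [e.symm_apply_apply]
    exact hxy
  · exact Set.iUnion_subset fun i => hcK _

/-- over a quasi-separated base, the space of points of a space quasi-separated over the base is
quasi-separated. -/
theorem quasiSeparatedSpace_points [QuasiSeparatedSpace ↥S] {X : AlgSp.Sp S}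
    (hX : AlgSp.IsAlgSpace X) (hqs : AlgSp.IsQuasiSeparatedSp X) :
    QuasiSeparatedSpace (AlgSp.Points X) := by
  refine ⟨fun K₁ K₂ hK₁o hK₁c hK₂o hK₂c => ?_⟩
  obtain ⟨n₁, V₁, c₁, hV₁, rfl⟩ := exists_finite_affine_charts hX K₁ hK₁o hK₁c
  obtain ⟨n₂, V₂, c₂, hV₂, rfl⟩ := exists_finite_affine_charts hX K₂ hK₂o hK₂c
  rw [Set.iUnion_inter_iUnion]
  refine isCompact_iUnion fun i => isCompact_iUnion fun j => ?_
  haveI := hV₁ i
  haveI := hV₂ j
  exact isCompact_range_inter_range hX hqs (c₁ i) (c₂ j)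

/-- over a quasi-separated base, the space of points of a quasi-compact algebraic space
quasi-separated over the base is spectral. -/
theorem spectralSpace_points [QuasiSeparatedSpace ↥S] {X : AlgSp.Sp S}
    (hX : AlgSp.IsAlgSpace X) (hqc : AlgSp.IsQuasiCompactSp X)
    (hqs : AlgSp.IsQuasiSeparatedSp X) [T0Space (AlgSp.Points X)] :
    SpectralSpace (AlgSp.Points X) where
  __ := (Groth.Agent.S10174.isQuasiCompactSp_iff hX).1 hqc
  __ := Groth.Agent.R2.H46.Sober.quasiSober_of_isQuasiSeparatedSp hX hqs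
  __ := quasiSeparatedSpace_points hX hqs
  __ := prespectralSpace_points hX

end Groth.Agent.R2.H46.Spectral
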