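import Mathlib
import Groth.Agent.R2.H46FinField3

set_option autoImplicit false
set_option linter.style.haveILetI false
universe u
open CategoryTheory CategoryTheory.Limits AlgebraicGeometry

namespace Groth.Agent.R2.H46.UBF

open Groth.Agent.R2.H46.FinField

variable {S : Scheme.{u}}

/-- `DegFibresLE` tested against arbitrary morphisms from spectra of fields. -/
lemma degLE_of_degFibresLE {F : AlgSp.Sp S} {U : Over S} {a : (AlgSp.yon S).obj U ⟶ F} {n : ℕ}
    (h : W4dec.DegFibresLE n a) {Ω : Type u} [Field Ω] (w : Spec (CommRingCat.of Ω) ⟶ S)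
    (ρ : (AlgSp.yon S).obj (Over.mk w) ⟶ F) {T : Over S} (c : T ⟶ Over.mk w)
    (snd : (AlgSp.yon S).obj T ⟶ (AlgSp.yon S).obj U)
    (sq : IsPullback ((AlgSp.yon S).map c) snd ρ a) : DegLE n c.left := by
  have key : (⟨Ω, w, (AlgSp.J S).uliftYonedaEquiv ρ⟩ : AlgSp.FieldPt F).toHom = ρ :=
    Equiv.symm_apply_apply _ _
  exact h ⟨Ω, w, (AlgSp.J S).uliftYonedaEquiv ρ⟩ T c snd (by rw [key]; exact sq)

/-- two equivalent field points agree as morphisms after restriction to the common extension. -/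
lemma comp_toHom_eq_of_rel {F : AlgSp.Sp S} {p q : AlgSp.FieldPt F} {Ω : Type u} [Field Ω]
    {w : Spec (CommRingCat.of Ω) ⟶ S} (a : Over.mk w ⟶ p.pt) (b : Over.mk w ⟶ q.pt)
    (hab : F.obj.map a.op p.val = F.obj.map b.op q.val) :
    (AlgSp.yon S).map a ≫ p.toHom = (AlgSp.yon S).map b ≫ q.toHom := by
  apply (AlgSp.J S).uliftYonedaEquiv.injective
  rw [← GrothendieckTopology.uliftYonedaEquiv_naturality,
    ← GrothendieckTopology.uliftYonedaEquiv_naturality, AlgSp.FieldPt.uliftYonedaEquiv_toHom,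
    AlgSp.FieldPt.uliftYonedaEquiv_toHom]
  exact hab

end Groth.Agent.R2.H46.UBF
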