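import Mathlib
import Groth.Agent.R2.H46UBF
import Groth.Agent.R2.H46FibDeg

set_option autoImplicit false
set_option linter.style.haveILetI false
universe u
open CategoryTheory CategoryTheory.Limits AlgebraicGeometry

namespace Groth.Agent.R2.H46.UBF

open Groth.Agent.R2.H46.FinField

variable {S : Scheme.{u}}

/-- the scheme-level form of a degree bound for a morphism of schemes over `S`. -/
lemma fibDegLE_of_degFibresLE {U V : Over S} (f : V ⟶ U) {m : ℕ}
    (hm : W4dec.DegFibresLE m ((AlgSp.yon S).map f)) : FibDegLE m f.left := by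
  intro L _ x P fst snd₀ hP
  have hw : snd₀ ≫ x ≫ U.hom = fst ≫ V.hom := by
    rw [← Category.assoc, ← hP.w, Category.assoc, Over.w f]
  let xo : Over.mk (x ≫ U.hom) ⟶ U := Over.homMk x rfl
  let fsto : Over.mk (fst ≫ V.hom) ⟶ V := Over.homMk fst rfl
  let sndo : Over.mk (fst ≫ V.hom) ⟶ Over.mk (x ≫ U.hom) := Over.homMk snd₀ hw
  have hPo : IsPullback fsto sndo f xo := by
    refine IsPullback.of_map (Over.forget S) ?_ hP
    ext
    exact hP.w
  have hPy := hPo.map (AlgSp.yon S)
  exact degLE_of_degFibresLE hm (x ≫ U.hom) _ sndo _ hPy.flip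

/-- composition of a morphism of schemes with bounded fibres and a morphism to an algebraic
space with bounded fibres. -/
lemma degFibresLE_comp_of_fibDegLE (X : AlgSp.Space S) {U V : Over S} (f : V ⟶ U)
    (g : (AlgSp.yon S).obj U ⟶ X.obj) {m n : ℕ} (hm : FibDegLE m f.left)
    (hn : W4dec.DegFibresLE n g) : W4dec.DegFibresLE (n * m * n) ((AlgSp.yon S).map f ≫ g) := by
  intro q T c snd' sq
  obtain ⟨snd, rfl⟩ := (AlgSp.yon S).map_surjective snd'
  have hrep : AlgSp.Representable g := X.property.representable_from_yon g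
  obtain ⟨T', c', pr', sq'⟩ := hrep q.toHom
  obtain ⟨pr, rfl⟩ := (AlgSp.yon S).map_surjective pr'
  have hdeg' : DegLE n c'.left := hn q T' c' _ sq'.flip
  have hcomm : ((AlgSp.yon S).map snd ≫ (AlgSp.yon S).map f) ≫ g =
      (AlgSp.yon S).map c ≫ q.toHom := by
    rw [Category.assoc]; exact sq.w.symm
  obtain ⟨l, hl⟩ := (AlgSp.yon S).map_surjective (sq'.lift _ _ hcomm)
  have hl1 : (AlgSp.yon S).map l ≫ (AlgSp.yon S).map pr =
      (AlgSp.yon S).map snd ≫ (AlgSp.yon S).map f := by
    rw [hl]; exact sq'.lift_fst _ _ _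
  have hl2 : (AlgSp.yon S).map l ≫ (AlgSp.yon S).map c' = (AlgSp.yon S).map c := by
    rw [hl]; exact sq'.lift_snd _ _ _
  have hlc : l ≫ c' = c := (AlgSp.yon S).map_injective (by rw [Functor.map_comp]; exact hl2)
  have top : IsPullback ((AlgSp.yon S).map snd) ((AlgSp.yon S).map l) ((AlgSp.yon S).map f)
      ((AlgSp.yon S).map pr) :=
    IsPullback.of_bot (by rw [hl2]; exact sq.flip) hl1.symm sq'
  have topS : IsPullback snd.left l.left f.left pr.left :=
    (IsPullback.of_map (AlgSp.yon S) ((AlgSp.yon S).map_injective (by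
      simp only [Functor.map_comp]; exact top.w)) top).map (Over.forget S)
  have hmain : DegLE (n * m * n) (l.left ≫ c'.left) :=
    DegLE.comp_of_fibres l.left c'.left hdeg' (hm.of_isPullback topS)
  rw [← hlc]
  exact hmain

/-- a morphism from a scheme to a sheaf has bounded fibres if it is covered by finitely many
flat maps from schemes whose composites with it have bounded fibres. -/
lemma degFibresLE_of_family {F : AlgSp.Sp S} {V : Over S} {ι : Type u} [Fintype ι]
    (W : ι → Over S) (a : ∀ j, W j ⟶ V) [∀ j, Flat (a j).left]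
    (hsurj : ∀ v : ↥V.left, ∃ (j : ι) (w : ↥(W j).left), (a j).left w = v)
    (ψ : (AlgSp.yon S).obj V ⟶ F) (N : ι → ℕ)
    (h : ∀ j, W4dec.DegFibresLE (N j) ((AlgSp.yon S).map (a j) ≫ ψ)) :
    W4dec.DegFibresLE (∑ j, N j) ψ := by
  intro q T c snd' sq
  obtain ⟨snd, rfl⟩ := (AlgSp.yon S).map_surjective snd'
  have sq2 : ∀ j, IsPullback (pullback.fst snd (a j)).left (pullback.snd snd (a j)).left
      snd.left (a j).left := fun j =>
    (IsPullback.of_hasPullback snd (a j)).map (Over.forget S)
  haveI : ∀ j, Flat (pullback.fst snd (a j)).left := fun j =>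
    MorphismProperty.of_isPullback (P := @Flat) (sq2 j).flip inferInstance
  refine DegLE.of_jointly_surjective_flat (fun j => (pullback snd (a j)).left)
    (fun j => (pullback.fst snd (a j)).left) ?_ c.left N ?_
  · intro t
    obtain ⟨j, w, hw⟩ := hsurj (snd.left t)
    obtain ⟨z, hz, -⟩ := Scheme.exists_preimage_of_isPullback (sq2 j) t w hw.symm
    exact ⟨j, z, hz⟩
  · intro j
    have sq1 : IsPullback ((AlgSp.yon S).map (pullback.fst snd (a j)))
        ((AlgSp.yon S).map (pullback.snd snd (a j)))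
        ((AlgSp.yon S).map snd) ((AlgSp.yon S).map (a j)) :=
      (IsPullback.of_hasPullback snd (a j)).map (AlgSp.yon S)
    have big : IsPullback ((AlgSp.yon S).map (pullback.fst snd (a j) ≫ c))
        ((AlgSp.yon S).map (pullback.snd snd (a j)))
        q.toHom ((AlgSp.yon S).map (a j) ≫ ψ) := by
      rw [Functor.map_comp]
      exact sq1.paste_horiz sq
    exact h j q _ _ _ big

end Groth.Agent.R2.H46.UBF
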