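import Mathlib
import Groth.Agent.R2.H46FibDeg

set_option autoImplicit false
set_option linter.style.haveILetI false
universe u
open CategoryTheory CategoryTheory.Limits AlgebraicGeometry TensorProduct

namespace Groth.Agent.R2.H46.FinField


/-- the degree bound does not depend on the chosen fibre product. -/
lemma DegLE.of_isPullback_of_isPullback {L : Type u} [Field L] {W Y P P' : Scheme.{u}} {n : ℕ}
    {f : W ⟶ Y} {x : Spec (CommRingCat.of L) ⟶ Y} {fst : P ⟶ W}
    {snd : P ⟶ Spec (CommRingCat.of L)} {fst' : P' ⟶ W} {snd' : P' ⟶ Spec (CommRingCat.of L)}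
    (sq : IsPullback fst snd f x) (sq' : IsPullback fst' snd' f x) (h : DegLE n snd') :
    DegLE n snd := by
  have : snd = (sq.isoIsPullback _ _ sq').hom ≫ snd' := (sq.isoIsPullback_hom_snd _ _ sq').symm
  rw [this, degLE_iso_comp]
  exact h

/-- a finite ring map induces a morphism with bounded fibres. -/
lemma exists_fibDegLE_of_finite (A C : Type u) [CommRing A] [CommRing C] [Algebra A C]
    [Module.Finite A C] : ∃ k, FibDegLE k (Spec.map (CommRingCat.ofHom (algebraMap A C))) := by
  obtain ⟨k, s, hs⟩ := Module.Finite.exists_fin (R := A) (M := C)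
  refine ⟨k, ?_⟩
  intro L _ x P fst snd sq
  obtain ⟨φ, rfl⟩ := Spec.map_surjective x
  letI : Algebra A L := φ.hom.toAlgebra
  have sq0 := (isPullback_SpecMap_of_isPushout _ _ _ _
    (CommRingCat.isPushout_tensorProduct A L C)).flip
  refine DegLE.of_isPullback_of_isPullback sq sq0 ?_
  have h1 : DegLE k (Spec.map (CommRingCat.ofHom (algebraMap L (L ⊗[A] C)))) := by
    rw [degLE_SpecMap_iff]
    refine ⟨inferInstance, ?_⟩
    have hspan : Submodule.span L (Set.range fun i => (1 : L) ⊗ₜ[A] s i) = ⊤ := by
      have := Submodule.baseChange_span (R := A) (A := L) (Set.range s)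
      rw [hs, Submodule.baseChange_top, ← Set.range_comp] at this
      exact this.symm
    have h2 := finrank_range_le_card (R := L) (fun i => (1 : L) ⊗ₜ[A] s i)
    rw [Set.finrank, hspan, finrank_top] at h2
    simpa using h2
  exact h1




/-- the local form: a localization of `B` which is also a localization of a finite subalgebra. -/
lemma exists_fibDegLE_away {A B : Type u} [CommRing A] [CommRing B] [Algebra A B]
    (C : Subalgebra A B) (hC : C.toSubmodule.FG) (r : C)
    (hbij : Function.Bijective (Localization.awayMap C.val.toRingHom r)) :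
    ∃ n, FibDegLE n (Spec.map (CommRingCat.ofHom (algebraMap B (Localization.Away r.1))) ≫
      Spec.map (CommRingCat.ofHom (algebraMap A B))) := by
  haveI : Module.Finite A C := ⟨(Submodule.fg_top _).2 hC⟩
  obtain ⟨k, hk⟩ := exists_fibDegLE_of_finite A C
  let ψ := Localization.awayMap C.val.toRingHom r
  let e : Localization.Away r ≃+* Localization.Away (C.val.toRingHom r) :=
    RingEquiv.ofBijective ψ hbij
  have hiso : IsIso (Spec.map (CommRingCat.ofHom ψ)) := by
    have : IsIso (CommRingCat.ofHom ψ) := by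
      have : CommRingCat.ofHom ψ = e.toCommRingCatIso.hom := rfl
      rw [this]; infer_instance
    infer_instance
  have h1 : FibDegLE 1 (Spec.map (CommRingCat.ofHom ψ)) := fibDegLE_of_isOpenImmersion _
  have h2 : FibDegLE 1 (Spec.map (CommRingCat.ofHom (algebraMap C (Localization.Away r)))) :=
    fibDegLE_of_isOpenImmersion _
  have heq : Spec.map (CommRingCat.ofHom (algebraMap B (Localization.Away r.1))) ≫
      Spec.map (CommRingCat.ofHom (algebraMap A B)) =
      Spec.map (CommRingCat.ofHom ψ) ≫
        Spec.map (CommRingCat.ofHom (algebraMap C (Localization.Away r))) ≫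
        Spec.map (CommRingCat.ofHom (algebraMap A C)) := by
    rw [← Spec.map_comp, ← Spec.map_comp, ← Spec.map_comp]
    congr 1
    ext a
    change algebraMap B (Localization.Away r.1) (algebraMap A B a) =
      ψ (algebraMap C (Localization.Away r) (algebraMap A C a))
    simp only [ψ, Localization.awayMap, IsLocalization.Away.map, IsLocalization.map_eq]
    rfl
  rw [heq]
  exact ⟨_, h1.comp (h2.comp hk)⟩




/-- a quasi-finite ring map of finite type induces a morphism with bounded fibres. -/
lemma exists_fibDegLE_of_quasiFinite (A B : Type u) [CommRing A] [CommRing B] [Algebra A B]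
    [Algebra.FiniteType A B] [Algebra.QuasiFinite A B] :
    ∃ N, FibDegLE N (Spec.map (CommRingCat.ofHom (algebraMap A B))) := by
  have key : ∀ p : PrimeSpectrum B, ∃ S' : Subalgebra A B, S'.toSubmodule.FG ∧ ∃ r : S',
      r.1 ∉ p.asIdeal ∧ Function.Bijective (Localization.awayMap S'.val.toRingHom r) := fun p =>
    Algebra.QuasiFiniteAt.exists_fg_and_exists_notMem_and_awayMap_bijective p.asIdeal
  choose S' hfg r hr hbij using key
  have hcover : (Set.univ : Set (PrimeSpectrum B)) ⊆
      ⋃ p, (PrimeSpectrum.basicOpen (r p).1 : Set (PrimeSpectrum B)) := fun p _ =>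
    Set.mem_iUnion.2 ⟨p, hr p⟩
  obtain ⟨t, ht⟩ := isCompact_univ.elim_finite_subcover _
    (fun p => (PrimeSpectrum.basicOpen (r p).1).isOpen) hcover
  choose n hn using fun p => exists_fibDegLE_away (S' p) (hfg p) (r p) (hbij p)
  refine ⟨∑ j : t, n j.1, FibDegLE.of_family _
    (fun j : t => Spec (CommRingCat.of (Localization.Away (r j.1).1)))
    (fun j => Spec.map (CommRingCat.ofHom (algebraMap B (Localization.Away (r j.1).1))))
    ?_ (fun j => n j.1) (fun j => hn j.1)⟩
  intro w
  obtain ⟨p, hp, hw⟩ : ∃ p ∈ t, (w : PrimeSpectrum B) ∈ PrimeSpectrum.basicOpen (r p).1 := by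
    have := ht (Set.mem_univ (w : PrimeSpectrum B))
    obtain ⟨p, hp, hw⟩ := Set.mem_iUnion₂.1 this
    exact ⟨p, hp, hw⟩
  have hrange := PrimeSpectrum.localization_away_comap_range (Localization.Away (r p).1) (r p).1
  have hw' : (w : PrimeSpectrum B) ∈ Set.range (PrimeSpectrum.comap
      (algebraMap B (Localization.Away (r p).1))) := by
    rw [hrange]; exact hw
  obtain ⟨d, hd⟩ := hw'
  exact ⟨⟨p, hp⟩, d, hd⟩




/-- an etale morphism of affine schemes has bounded fibres. -/
lemma exists_fibDegLE_of_etale_of_isAffine {W Y : Scheme.{u}} [IsAffine W] [IsAffine Y]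
    (f : W ⟶ Y) [Etale f] : ∃ N, FibDegLE N f := by
  have h1 : (f.appTop).hom.Etale :=
    (HasRingHomProperty.iff_of_isAffine (P := @Etale)).1 inferInstance
  algebraize [f.appTop.hom]
  haveI : Algebra.FiniteType Γ(Y, ⊤) Γ(W, ⊤) := inferInstance
  haveI : Algebra.QuasiFinite Γ(Y, ⊤) Γ(W, ⊤) := inferInstance
  obtain ⟨N, hN⟩ := exists_fibDegLE_of_quasiFinite Γ(Y, ⊤) Γ(W, ⊤)
  have h2 : CommRingCat.ofHom (algebraMap Γ(Y, ⊤) Γ(W, ⊤)) = f.appTop := rfl
  rw [h2] at hN
  have h3 : f = W.isoSpec.hom ≫ Spec.map f.appTop ≫ Y.isoSpec.inv := by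
    have := Scheme.isoSpec_hom_naturality f
    rw [← Category.assoc, this, Category.assoc, Iso.hom_inv_id, Category.comp_id]
  rw [h3]
  exact ⟨_, (fibDegLE_of_isOpenImmersion _).comp (hN.comp (fibDegLE_of_isOpenImmersion _))⟩

end Groth.Agent.R2.H46.FinField
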