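import Mathlib

/-!
# Lifting etale algebras along a quotient map, locally (helper47)

Given a ring `A`, an ideal `I`, an etale ring map `φ : A ⧸ I → C` and a prime `q` of `C`, there is
an etale `A`-algebra `B` with a ring map `χ : C → B ⧸ I B` over `A ⧸ I` and a prime of `B ⧸ I B` above
`q`.  (Local structure of etale algebras + lifting of standard etale pairs.)
-/

set_option autoImplicit false
universe u

open Polynomial

namespace Groth.Agent.R2.H47.EtaleLift

variable {A : Type u} [CommRing A] (I : Ideal A)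

/-- lifting a standard etale pair along a quotient map (the polynomial `g` gets replaced by a power). -/
lemma exists_pair_lift (P₀ : StandardEtalePair (A ⧸ I)) :
    ∃ (P : StandardEtalePair A) (n : ℕ), P.f.map (Ideal.Quotient.mk I) = P₀.f ∧
      P.g.map (Ideal.Quotient.mk I) = P₀.g ^ (n + 1) := by
  obtain ⟨p₁, p₂, n, e⟩ := P₀.cond
  have hsurj : Function.Surjective (Polynomial.map (Ideal.Quotient.mk I)) :=
    Polynomial.map_surjective _ Ideal.Quotient.mk_surjective
  obtain ⟨F, hF, hFm⟩ : ∃ F : A[X], F.map (Ideal.Quotient.mk I) = P₀.f ∧ F.Monic := by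
    by_cases h : Nontrivial (A ⧸ I)
    · obtain ⟨F, hF, -, hFm⟩ := Polynomial.lifts_and_degree_eq_and_monic (f := Ideal.Quotient.mk I)
        (p := P₀.f) ((Polynomial.mem_lifts _).2 (hsurj _)) P₀.monic_f
      exact ⟨F, hF, hFm⟩
    · rw [not_nontrivial_iff_subsingleton] at h
      exact ⟨1, Subsingleton.elim _ _, monic_one⟩
  obtain ⟨G₀, hG₀⟩ := hsurj P₀.g
  obtain ⟨P₁, hP₁⟩ := hsurj p₁
  obtain ⟨P₂, hP₂⟩ := hsurj p₂
  refine ⟨⟨F, hFm, G₀ * (derivative F * P₁ + F * P₂), P₁ * G₀, P₂ * G₀, 1, by ring⟩, n, hF, ?_⟩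
  change (G₀ * (derivative F * P₁ + F * P₂)).map (Ideal.Quotient.mk I) = _
  rw [Polynomial.map_mul, Polynomial.map_add, Polynomial.map_mul, Polynomial.map_mul,
    ← Polynomial.derivative_map, hF, hG₀, hP₁, hP₂, e, pow_succ']


/-- the standard etale algebra of a lifted pair reduces to the original standard etale algebra, up to a
retraction. -/
theorem exists_lift_pair (P₀ : StandardEtalePair (A ⧸ I)) :
    ∃ (P : StandardEtalePair A)
      (χ : P₀.Ring →ₐ[A ⧸ I] (P.Ring ⧸ I.map (algebraMap A P.Ring)))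
      (ρ : (P.Ring ⧸ I.map (algebraMap A P.Ring)) →+* P₀.Ring), ∀ y, ρ (χ y) = y := by
  obtain ⟨P, n, hf, hg⟩ := exists_pair_lift I P₀
  refine ⟨P, ?_⟩
  set J := I.map (algebraMap A P.Ring) with hJ
  -- the element `x`
  have hx : P₀.HasMap (Ideal.Quotient.mk J P.X) := by
    have key : ∀ p : A[X], aeval (Ideal.Quotient.mk J P.X) (p.map (Ideal.Quotient.mk I)) =
        Ideal.Quotient.mk J (aeval P.X p) := by
      intro p
      have h1 : aeval (Ideal.Quotient.mk J P.X) (p.map (algebraMap A (A ⧸ I))) =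
          aeval (Ideal.Quotient.mk J P.X) p := Polynomial.aeval_map_algebraMap _ _ _
      have h2 := Polynomial.aeval_algHom_apply (Ideal.Quotient.mkₐ A J) P.X p
      exact h1.trans h2
    constructor
    · rw [← hf, key, P.hasMap_X.1, map_zero]
    · have h1 : IsUnit (aeval (Ideal.Quotient.mk J P.X) (P₀.g ^ (n + 1))) := by
        rw [← hg, key]
        exact P.hasMap_X.2.map _
      rw [map_pow] at h1
      exact (isUnit_pow_iff (Nat.succ_ne_zero n)).1 h1
  let χ : P₀.Ring →ₐ[A ⧸ I] (P.Ring ⧸ J) := P₀.lift _ hx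
  letI : Algebra A P₀.Ring :=
    ((algebraMap (A ⧸ I) P₀.Ring).comp (algebraMap A (A ⧸ I))).toAlgebra
  haveI : IsScalarTower A (A ⧸ I) P₀.Ring := IsScalarTower.of_algebraMap_eq' rfl
  have hX : P.HasMap P₀.X := by
    have key : ∀ p : A[X], aeval P₀.X p = aeval P₀.X (p.map (Ideal.Quotient.mk I)) := by
      intro p
      exact (Polynomial.aeval_map_algebraMap (A ⧸ I) P₀.X p).symm
    constructor
    · rw [key, hf, P₀.hasMap_X.1]
    · rw [key, hg, map_pow]
      exact P₀.hasMap_X.2.pow _
  let ρ₀ : P.Ring →ₐ[A] P₀.Ring := P.lift _ hX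
  have hρ₀ : ∀ b ∈ J, ρ₀.toRingHom b = 0 := by
    intro b hb
    have hle : J ≤ RingHom.ker ρ₀.toRingHom := by
      rw [hJ, Ideal.map_le_iff_le_comap]
      intro a ha
      rw [Ideal.mem_comap, RingHom.mem_ker]
      change ρ₀ (algebraMap A P.Ring a) = 0
      rw [ρ₀.commutes]
      change algebraMap (A ⧸ I) P₀.Ring (Ideal.Quotient.mk I a) = 0
      rw [Ideal.Quotient.eq_zero_iff_mem.2 ha, map_zero]
    exact hle hb
  let ρ : (P.Ring ⧸ J) →+* P₀.Ring := Ideal.Quotient.lift J ρ₀.toRingHom hρ₀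
  refine ⟨χ, ρ, ?_⟩
  let θ : P₀.Ring →ₐ[A ⧸ I] P₀.Ring :=
    { toRingHom := ρ.comp χ.toRingHom
      commutes' := by
        intro r
        obtain ⟨a, rfl⟩ := Ideal.Quotient.mk_surjective r
        change ρ (χ (algebraMap (A ⧸ I) P₀.Ring (Ideal.Quotient.mk I a))) = _
        rw [χ.commutes]
        change ρ (Ideal.Quotient.mk J (algebraMap A P.Ring a)) = _
        change ρ₀ (algebraMap A P.Ring a) = _
        rw [ρ₀.commutes]
        rfl }
  have hθ : θ = AlgHom.id _ _ := by
    apply StandardEtalePair.hom_ext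
    change ρ (χ P₀.X) = P₀.X
    rw [StandardEtalePair.lift_X]
    change ρ₀ P.X = P₀.X
    rw [StandardEtalePair.lift_X]
  intro y
  exact DFunLike.congr_fun hθ y


/-- **Local lifting of etale algebras along a quotient map.** -/
theorem exists_etale_lift_at {C : Type u} [CommRing C] (φ : A ⧸ I →+* C) (hφ : φ.Etale)
    (q : Ideal C) [q.IsPrime] :
    ∃ (B : Type u) (_ : CommRing B) (ψ : A →+* B) (χ : C →+* B ⧸ I.map ψ), ψ.Etale ∧
      χ.comp φ = Ideal.quotientMap (I.map ψ) ψ Ideal.le_comap_map ∧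
      ∃ q' : Ideal (B ⧸ I.map ψ), q'.IsPrime ∧ q'.comap χ = q := by
  algebraize [φ]
  have hfp : Algebra.FinitePresentation (A ⧸ I) C := inferInstance
  have hq : Algebra.IsEtaleAt (A ⧸ I) q := by
    have h1 : Algebra.FormallyEtale C (Localization.AtPrime q) :=
      Algebra.FormallyEtale.of_isLocalization q.primeCompl
    exact Algebra.FormallyEtale.comp (A ⧸ I) C (Localization.AtPrime q)
  obtain ⟨c, hcq, hc⟩ := Algebra.IsEtaleAt.exists_isStandardEtale (R := A ⧸ I) q
  let Pr : StandardEtalePresentation (A ⧸ I) (Localization.Away c) :=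
    Algebra.IsStandardEtale.nonempty_standardEtalePresentation.some
  obtain ⟨P, χ₀, ρ, hρ⟩ := exists_lift_pair I Pr.P
  let χ : C →+* P.Ring ⧸ I.map (algebraMap A P.Ring) :=
    (χ₀.toRingHom.comp Pr.equivRing.toAlgHom.toRingHom).comp (algebraMap C (Localization.Away c))
  refine ⟨P.Ring, inferInstance, algebraMap A P.Ring, χ, ?_, ?_, ?_⟩
  · rw [RingHom.etale_algebraMap]
    infer_instance
  · ext r
    change χ₀ (Pr.equivRing (algebraMap C (Localization.Away c) (algebraMap (A ⧸ I) C r))) = _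
    rw [← IsScalarTower.algebraMap_apply (A ⧸ I) C (Localization.Away c), AlgEquiv.commutes,
      χ₀.commutes]
    rfl
  · -- the prime
    have hdisj : Disjoint (Submonoid.powers c : Set C) (q : Set C) := by
      rw [Set.disjoint_left]
      rintro x ⟨n, rfl⟩ hx
      exact hcq (Ideal.IsPrime.mem_of_pow_mem ‹q.IsPrime› n hx)
    have hq1 : (q.map (algebraMap C (Localization.Away c))).IsPrime :=
      IsLocalization.isPrime_of_isPrime_disjoint (Submonoid.powers c) _ q ‹_› hdisj
    have hq2 : (q.map (algebraMap C (Localization.Away c))).comap (algebraMap C (Localization.Away c)) = q :=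
      IsLocalization.under_map_of_isPrime_disjoint (Submonoid.powers c) _ ‹_› hdisj
    let q₀ : Ideal Pr.P.Ring := (q.map (algebraMap C (Localization.Away c))).comap
      Pr.equivRing.symm.toAlgHom.toRingHom
    have hq₀ : q₀.IsPrime := Ideal.comap_isPrime _ _
    refine ⟨q₀.comap ρ, Ideal.comap_isPrime _ _, ?_⟩
    ext y
    have hy : y ∈ q ↔ algebraMap C (Localization.Away c) y ∈
        q.map (algebraMap C (Localization.Away c)) := by
      conv_lhs => rw [← hq2]
      exact Ideal.mem_comap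
    rw [hy]
    change Pr.equivRing.symm (ρ (χ₀ (Pr.equivRing (algebraMap C (Localization.Away c) y)))) ∈
      q.map (algebraMap C (Localization.Away c)) ↔ _
    rw [hρ, AlgEquiv.symm_apply_apply]

end Groth.Agent.R2.H47.EtaleLift
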