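import Mathlib
import Groth.Agent.R2.H47EtaleLift

/-!
# Lifting along nil ideals for smooth algebras, and the ring-level core of etale-local lifting
(helper47)

* `lift_nil`: a smooth (formally smooth + finitely presented) `R`-algebra `P` lifts along any
  quotient `B → B ⧸ J` with `J` a nil ideal (`J ≤ nilradical B`).
* `ring_core`: given `R₁ → R₂` smooth, a nil ideal `I` of `A`, an etale `A ⧸ I`-algebra `C`, a prime
  `q` of `C`, and a commutative square `R₁ → A`, `R₂ → C`, there is an etale `A`-algebra `B` with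
  `C → B ⧸ I B` over `A ⧸ I`, a prime over `q`, and a lift `R₂ → B`.
-/

set_option autoImplicit false
universe u

namespace Groth.Agent.R2.H47.SmLiftRing

open Groth.Agent.R2.H47.EtaleLift

/-- Lifting along a nil ideal for a smooth algebra. -/
theorem lift_nil {R P B : Type u} [CommRing R] [CommRing P] [CommRing B] [Algebra R P]
    [Algebra R B] [Algebra.FormallySmooth R P] [Algebra.FinitePresentation R P]
    (J : Ideal B) (hJ : J ≤ nilradical B) (g : P →ₐ[R] B ⧸ J) :
    ∃ l : P →ₐ[R] B, (Ideal.Quotient.mkₐ R J).comp l = g := by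
  obtain ⟨n, f, hf, hfg⟩ := Algebra.FinitePresentation.out (R := R) (A := P)
  -- lifts of the images of the variables
  choose b hb using fun i : Fin n => Ideal.Quotient.mk_surjective (g (f (MvPolynomial.X i)))
  let F : MvPolynomial (Fin n) R →ₐ[R] B := MvPolynomial.aeval b
  have hF : (Ideal.Quotient.mkₐ R J).comp F = g.comp f := by
    apply MvPolynomial.algHom_ext
    intro i
    simp [F, hb]
  let J₀ : Ideal B := (RingHom.ker f.toRingHom).map F.toRingHom
  have hJ₀J : J₀ ≤ J := by
    rw [Ideal.map_le_iff_le_comap]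
    intro x hx
    rw [Ideal.mem_comap, ← Ideal.Quotient.eq_zero_iff_mem]
    have := DFunLike.congr_fun hF x
    simp only [AlgHom.comp_apply, Ideal.Quotient.mkₐ_eq_mk] at this
    change Ideal.Quotient.mk J (F x) = 0
    rw [this]
    have hx' : f x = 0 := hx
    rw [hx', map_zero]
  have hJ₀fg : J₀.FG := hfg.map _
  have hJ₀nil : IsNilpotent J₀ :=
    hJ₀fg.isNilpotent_iff_le_nilradical.mpr (hJ₀J.trans hJ)
  -- the induced map `P → B ⧸ J₀`
  have hker : ∀ x : MvPolynomial (Fin n) R, f x = 0 →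
      ((Ideal.Quotient.mkₐ R J₀).comp F) x = 0 := by
    intro x hx
    simp only [AlgHom.comp_apply, Ideal.Quotient.mkₐ_eq_mk]
    rw [Ideal.Quotient.eq_zero_iff_mem]
    exact Ideal.mem_map_of_mem _ hx
  let g₀ : P →ₐ[R] B ⧸ J₀ := AlgHom.liftOfSurjective f hf ((Ideal.Quotient.mkₐ R J₀).comp F)
    (fun x hx => hker x (by simpa using hx))
  have hg₀ : g₀.comp f = (Ideal.Quotient.mkₐ R J₀).comp F := by
    ext x
    simp [g₀]
  let l := Algebra.FormallySmooth.lift J₀ hJ₀nil g₀
  have hl : (Ideal.Quotient.mkₐ R J₀).comp l = g₀ := Algebra.FormallySmooth.comp_lift _ _ _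
  refine ⟨l, ?_⟩
  -- check after precomposing with the surjection `f`
  have hsurj : Function.Surjective f := hf
  apply AlgHom.ext
  intro p
  obtain ⟨x, rfl⟩ := hsurj p
  have h1 : Ideal.Quotient.mk J₀ (l (f x)) = Ideal.Quotient.mk J₀ (F x) := by
    have := DFunLike.congr_fun hl (f x)
    simp only [AlgHom.comp_apply, Ideal.Quotient.mkₐ_eq_mk] at this
    rw [this]
    have := DFunLike.congr_fun hg₀ x
    simpa using this
  have h2 : l (f x) - F x ∈ J := hJ₀J (by
    rw [← Ideal.Quotient.eq_zero_iff_mem, map_sub, h1, sub_self])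
  have h3 : Ideal.Quotient.mk J (l (f x)) = Ideal.Quotient.mk J (F x) := by
    rw [← sub_eq_zero, ← map_sub, Ideal.Quotient.eq_zero_iff_mem]
    exact h2
  simp only [AlgHom.comp_apply, Ideal.Quotient.mkₐ_eq_mk]
  rw [h3]
  have := DFunLike.congr_fun hF x
  simpa using this

/-- the extension of a nil ideal is nil. -/
lemma map_le_nilradical {A B : Type u} [CommRing A] [CommRing B] (ψ : A →+* B) (I : Ideal A)
    (hI : I ≤ nilradical A) : I.map ψ ≤ nilradical B := by
  rw [Ideal.map_le_iff_le_comap]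
  intro x hx
  rw [Ideal.mem_comap, mem_nilradical]
  exact (mem_nilradical.mp (hI hx)).map ψ

/-- **Ring-level core.** -/
theorem ring_core {R₁ R₂ A C : Type u} [CommRing R₁] [CommRing R₂] [CommRing A] [CommRing C]
    (η : R₁ →+* R₂) (hη : η.Smooth) (I : Ideal A) (hI : I ≤ nilradical A)
    (φ : A ⧸ I →+* C) (hφ : φ.Etale) (q : Ideal C) [q.IsPrime]
    (β : R₁ →+* A) (α : R₂ →+* C)
    (hc : α.comp η = (φ.comp (Ideal.Quotient.mk I)).comp β) :
    ∃ (B : Type u) (_ : CommRing B) (ψ : A →+* B) (χ : C →+* B ⧸ I.map ψ) (lam : R₂ →+* B),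
      ψ.Etale ∧ χ.comp φ = Ideal.quotientMap (I.map ψ) ψ Ideal.le_comap_map ∧
      (∃ q' : Ideal (B ⧸ I.map ψ), q'.IsPrime ∧ q'.comap χ = q) ∧
      lam.comp η = ψ.comp β ∧
      (Ideal.Quotient.mk (I.map ψ)).comp lam = χ.comp α := by
  obtain ⟨B, _, ψ, χ, hψ, hχ, hq'⟩ := exists_etale_lift_at I φ hφ q
  refine ⟨B, inferInstance, ψ, χ, ?_⟩
  algebraize [η, ψ.comp β]
  have hsm : Algebra.Smooth R₁ R₂ := hη
  have : Algebra.FormallySmooth R₁ R₂ := hsm.1
  have : Algebra.FinitePresentation R₁ R₂ := hsm.2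
  let g : R₂ →ₐ[R₁] B ⧸ I.map ψ :=
    { (χ.comp α) with
      commutes' := by
        intro r
        change χ (α (η r)) = Ideal.Quotient.mk _ (ψ (β r))
        have h1 := DFunLike.congr_fun hc r
        simp only [RingHom.comp_apply] at h1
        rw [h1]
        have h2 := DFunLike.congr_fun hχ (Ideal.Quotient.mk I (β r))
        simp only [RingHom.comp_apply] at h2
        rw [h2]
        simp }
  obtain ⟨l, hl⟩ := lift_nil (I.map ψ) (map_le_nilradical ψ I hI) g
  refine ⟨l.toRingHom, hψ, hχ, hq', ?_, ?_⟩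
  · ext r
    exact l.commutes r
  · ext x
    have := DFunLike.congr_fun hl x
    simpa [g] using this

end Groth.Agent.R2.H47.SmLiftRing
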