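import Mathlib
import Groth.Agent.R2.H47SmLiftRing

/-!
# Etale-local lifting along a thickening for a smooth morphism of affine schemes (helper47)
-/

set_option autoImplicit false
universe u
open CategoryTheory CategoryTheory.Limits AlgebraicGeometry

namespace Groth.Agent.R2.H47.SmLiftSch

open Groth.Agent.R2.H47.SmLiftRing

/-- `B ⧸ I B` is the pushout of `A ⧸ I` and `B` over `A`. -/
lemma isPushout_quotient {A B : Type u} [CommRing A] [CommRing B] (ψ : A →+* B) (I : Ideal A) :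
    IsPushout (CommRingCat.ofHom ψ) (CommRingCat.ofHom (Ideal.Quotient.mk I))
      (CommRingCat.ofHom (Ideal.Quotient.mk (I.map ψ)))
      (CommRingCat.ofHom (Ideal.quotientMap (I.map ψ) ψ Ideal.le_comap_map)) := by
  refine ⟨⟨?_⟩, ⟨PushoutCocone.IsColimit.mk _ (fun s => CommRingCat.ofHom
    (Ideal.Quotient.lift (I.map ψ) s.inl.hom ?_)) ?_ ?_ ?_⟩⟩
  · ext x
    simp
  · intro x hx
    have hle : I.map ψ ≤ RingHom.ker s.inl.hom := by
      rw [Ideal.map_le_iff_le_comap]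
      intro i hi
      rw [Ideal.mem_comap, RingHom.mem_ker]
      have := congr($(s.condition).hom i)
      simp only [CommRingCat.hom_comp, CommRingCat.hom_ofHom, RingHom.comp_apply] at this
      rw [this, Ideal.Quotient.eq_zero_iff_mem.mpr hi, map_zero]
    exact hle hx
  · intro s
    ext x
    simp
  · intro s
    ext a
    have := congr($(s.condition).hom a)
    simp only [CommRingCat.hom_comp, CommRingCat.hom_ofHom, RingHom.comp_apply] at this
    simp [this]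
  · intro s m h1 _
    ext b
    have := congr($(h1).hom b)
    simp only [CommRingCat.hom_comp, CommRingCat.hom_ofHom, RingHom.comp_apply] at this
    simp [this]

/-- the ideal of a surjective closed immersion into `Spec A` is nil. -/
lemma le_nilradical_of_surjective {A : CommRingCat.{u}} (I : Ideal A)
    (hs : Function.Surjective (Spec.map (CommRingCat.ofHom (Ideal.Quotient.mk I))).base) :
    I ≤ nilradical A := by
  rw [nilradical_eq_sInf]
  apply le_sInf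
  intro p hp
  obtain ⟨z, hz⟩ := hs ⟨p, hp⟩
  have hz' : z.asIdeal.comap (Ideal.Quotient.mk I) = p := congrArg PrimeSpectrum.asIdeal hz
  rw [← hz']
  intro x hx
  rw [Ideal.mem_comap, Ideal.Quotient.eq_zero_iff_mem.mpr hx]
  exact zero_mem _

/-- **Scheme-level core**: etale-local lifting along a thickening of an affine scheme, for a
smooth morphism of affine schemes. -/
theorem sch_core' {A R₁ R₂ : CommRingCat.{u}} {V₀ V₁ : Scheme.{u}}
    (j : V₀ ⟶ Spec A) [IsClosedImmersion j] [Surjective j] (g : V₁ ⟶ V₀) [Etale g] (v₁ : V₁)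
    (h : Spec R₂ ⟶ Spec R₁) [Smooth h] (a₁ : V₁ ⟶ Spec R₂) (b' : Spec A ⟶ Spec R₁)
    (hc : a₁ ≫ h = g ≫ j ≫ b') :
    ∃ (V'' V₂ : Scheme.{u}) (e : V'' ⟶ Spec A) (j₂ : V₂ ⟶ V'') (k : V₂ ⟶ V₁)
      (lam : V'' ⟶ Spec R₂) (x : V₂), IsAffine V'' ∧ Etale e ∧ IsPullback j₂ (k ≫ g) e j ∧
        k x = v₁ ∧ lam ≫ h = e ≫ b' ∧ j₂ ≫ lam = k ≫ a₁ := by
  obtain ⟨I, θ, hθ⟩ := (IsClosedImmersion.Spec_iff (f := j)).mp inferInstance
  have hI : I ≤ nilradical A := by
    apply le_nilradical_of_surjective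
    intro z
    obtain ⟨y, hy⟩ := j.surjective z
    refine ⟨θ.hom y, ?_⟩
    rw [← hy, hθ]
    rfl
  -- an affine open neighbourhood of `v₁`
  obtain ⟨_, ⟨O, hO, rfl⟩, hvO, -⟩ :=
    V₁.isBasis_affineOpens.exists_subset_of_mem_open (Set.mem_univ v₁) isOpen_univ
  let ι : Spec Γ(V₁, O) ⟶ V₁ := hO.fromSpec
  let φc : CommRingCat.of (A ⧸ I) ⟶ Γ(V₁, O) := Spec.preimage (ι ≫ g ≫ θ.hom)
  have hφc : Spec.map φc = ι ≫ g ≫ θ.hom := Spec.map_preimage _
  have hφet : φc.hom.Etale := by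
    rw [← HasRingHomProperty.Spec_iff (P := @Etale), hφc]
    infer_instance
  let α : R₂ ⟶ Γ(V₁, O) := Spec.preimage (ι ≫ a₁)
  have hα : Spec.map α = ι ≫ a₁ := Spec.map_preimage _
  let β : R₁ ⟶ A := Spec.preimage b'
  have hβ : Spec.map β = b' := Spec.map_preimage _
  let η : R₁ ⟶ R₂ := Spec.preimage h
  have hη : Spec.map η = h := Spec.map_preimage _
  have hηsm : η.hom.Smooth := by
    rw [← HasRingHomProperty.Spec_iff (P := @Smooth), hη]
    infer_instance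
  have hcomm : η ≫ α = β ≫ CommRingCat.ofHom (Ideal.Quotient.mk I) ≫ φc := by
    apply Spec.map_injective
    rw [Spec.map_comp, Spec.map_comp, Spec.map_comp, hα, hη, hβ, hφc, Category.assoc, hc, hθ]
    simp
  have hcomm' : α.hom.comp η.hom = (φc.hom.comp (Ideal.Quotient.mk I)).comp β.hom := by
    have := congr($(hcomm).hom)
    simpa [RingHom.comp_assoc] using this
  let q := hO.primeIdealOf ⟨v₁, hvO⟩
  obtain ⟨B, _, ψ, χ, lam, hψ, hχ, ⟨q', hq'p, hq'⟩, hl1, hl2⟩ :=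
    ring_core η.hom hηsm I hI φc.hom hφet q.asIdeal β.hom α.hom hcomm'
  refine ⟨Spec (.of B), Spec (.of (B ⧸ I.map ψ)), Spec.map (CommRingCat.ofHom ψ),
    Spec.map (CommRingCat.ofHom (Ideal.Quotient.mk (I.map ψ))),
    Spec.map (CommRingCat.ofHom χ) ≫ ι, Spec.map (CommRingCat.ofHom lam), ⟨q', hq'p⟩,
    inferInstance, ?_, ?_, ?_, ?_, ?_⟩
  · rw [HasRingHomProperty.Spec_iff (P := @Etale)]
    exact hψ
  · have hpo := isPullback_SpecMap_of_isPushout _ _ _ _ (isPushout_quotient ψ I)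
    refine hpo.of_iso (Iso.refl _) (Iso.refl _) θ.symm (Iso.refl _) (by simp) ?_ (by simp) ?_
    · simp only [Iso.symm_hom, Iso.refl_hom, Category.id_comp, Category.assoc]
      rw [Iso.comp_inv_eq, Category.assoc, Category.assoc, ← hφc, ← Spec.map_comp]
      congr 1
      rw [← hχ]
      rfl
    · simp [hθ]
  · change ι ((Spec.map (CommRingCat.ofHom χ)).base ⟨q', hq'p⟩) = v₁
    have h1 : (Spec.map (CommRingCat.ofHom χ)).base ⟨q', hq'p⟩ = q := by
      apply PrimeSpectrum.ext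
      exact hq'
    rw [h1]
    exact hO.fromSpec_primeIdealOf ⟨v₁, hvO⟩
  · rw [← hη, ← hβ, ← Spec.map_comp, ← Spec.map_comp]
    congr 1
    ext x
    exact DFunLike.congr_fun hl1 x
  · rw [Category.assoc, ← hα, ← Spec.map_comp, ← Spec.map_comp]
    congr 1
    ext x
    exact DFunLike.congr_fun hl2 x

/-- `sch_core'` without the affineness clause. -/
theorem sch_core {A R₁ R₂ : CommRingCat.{u}} {V₀ V₁ : Scheme.{u}}
    (j : V₀ ⟶ Spec A) [IsClosedImmersion j] [Surjective j] (g : V₁ ⟶ V₀) [Etale g] (v₁ : V₁)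
    (h : Spec R₂ ⟶ Spec R₁) [Smooth h] (a₁ : V₁ ⟶ Spec R₂) (b' : Spec A ⟶ Spec R₁)
    (hc : a₁ ≫ h = g ≫ j ≫ b') :
    ∃ (V'' V₂ : Scheme.{u}) (e : V'' ⟶ Spec A) (j₂ : V₂ ⟶ V'') (k : V₂ ⟶ V₁)
      (lam : V'' ⟶ Spec R₂) (x : V₂), Etale e ∧ IsPullback j₂ (k ≫ g) e j ∧ k x = v₁ ∧
        lam ≫ h = e ≫ b' ∧ j₂ ≫ lam = k ≫ a₁ := by
  obtain ⟨V'', V₂, e, j₂, k, lam, x, -, h1, h2, h3, h4, h5⟩ := sch_core' j g v₁ h a₁ b' hc
  exact ⟨V'', V₂, e, j₂, k, lam, x, h1, h2, h3, h4, h5⟩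

/-- **Local lifting of etale schemes along a thickening of an affine scheme**: an etale `V₁ ⟶ V₀`
lifts, near a given point and after an etale refinement, to an etale affine scheme over `V'`. -/
theorem sch_lift {V' V₀ V₁ : Scheme.{u}} [IsAffine V'] (j : V₀ ⟶ V') [IsClosedImmersion j]
    [Surjective j] (g : V₁ ⟶ V₀) [Etale g] (v₁ : V₁) :
    ∃ (V'' V₂ : Scheme.{u}) (e : V'' ⟶ V') (j₂ : V₂ ⟶ V'') (k : V₂ ⟶ V₁) (x : V₂),
      IsAffine V'' ∧ Etale e ∧ IsPullback j₂ (k ≫ g) e j ∧ k x = v₁ := by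
  let θ := V'.isoSpec
  obtain ⟨V'', V₂, e, j₂, k, lam, x, h0, h1, h2, h3, -, -⟩ :=
    sch_core' (A := Γ(V', ⊤)) (R₁ := Γ(V', ⊤)) (R₂ := Γ(V', ⊤)) (j ≫ θ.hom) g v₁ (𝟙 _)
      (g ≫ j ≫ θ.hom) (𝟙 _) (by simp)
  refine ⟨V'', V₂, e ≫ θ.inv, j₂, k, x, h0, inferInstance, ?_, h3⟩
  refine h2.of_iso (Iso.refl _) (Iso.refl _) (Iso.refl _) θ.symm (by simp) (by simp) (by simp)
    (by simp)

end Groth.Agent.R2.H47.SmLiftSch
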