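import Mathlib
import Groth.Agent.R2.H47EtaleLift
import Groth.Agent.R2.H47SmLiftSch

/-!
# Strong local lifting of etale algebras along a quotient map (helper47)

Given a ring `A`, an ideal `I`, an etale ring map `φ : A ⧸ I → C` and a prime `q` of `C`, there are
`c ∉ q` and an etale `A`-algebra `B` with `B ⧸ I B ≅ C_c` over `A ⧸ I`.  Scheme form: for a
thickening `T₀ ⟶ T` with `T` affine and an etale `T₁ ⟶ T₀`, an open neighbourhood of a given point
of `T₁` is the base change of an etale affine `T`-scheme.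
-/

set_option autoImplicit false
universe u

open Polynomial CategoryTheory CategoryTheory.Limits AlgebraicGeometry

namespace Groth.Agent.R2.H47.EtaleLiftStrong

open Groth.Agent.R2.H47.EtaleLift

variable {A : Type u} [CommRing A] (I : Ideal A)

/-- the standard etale algebra of a lifted pair reduces to the original standard etale algebra. -/
theorem exists_lift_pair_bij (P₀ : StandardEtalePair (A ⧸ I)) :
    ∃ (P : StandardEtalePair A)
      (χ : P₀.Ring →ₐ[A ⧸ I] (P.Ring ⧸ I.map (algebraMap A P.Ring))), Function.Bijective χ := by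
  obtain ⟨P, n, hf, hg⟩ := exists_pair_lift I P₀
  refine ⟨P, ?_⟩
  set J := I.map (algebraMap A P.Ring) with hJ
  have hx : P₀.HasMap (Ideal.Quotient.mk J P.X) := by
    have key : ∀ p : A[X], aeval (Ideal.Quotient.mk J P.X) (p.map (Ideal.Quotient.mk I)) =
        Ideal.Quotient.mk J (aeval P.X p) := by
      intro p
      have h1 : aeval (Ideal.Quotient.mk J P.X) (p.map (algebraMap A (A ⧸ I))) =
          aeval (Ideal.Quotient.mk J P.X) p := Polynomial.aeval_map_algebraMap _ _ _
      have h2 := Polynomial.aeval_algHom_apply (Ideal.Quotient.mkₐ A J) P.X p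
      exact h1.trans h2
    constructor
    · rw [← hf, key, P.hasMap_X.1, map_zero]
    · have h1 : IsUnit (aeval (Ideal.Quotient.mk J P.X) (P₀.g ^ (n + 1))) := by
        rw [← hg, key]
        exact P.hasMap_X.2.map _
      rw [map_pow] at h1
      exact (isUnit_pow_iff (Nat.succ_ne_zero n)).1 h1
  let χ : P₀.Ring →ₐ[A ⧸ I] (P.Ring ⧸ J) := P₀.lift _ hx
  letI : Algebra A P₀.Ring :=
    ((algebraMap (A ⧸ I) P₀.Ring).comp (algebraMap A (A ⧸ I))).toAlgebra
  haveI : IsScalarTower A (A ⧸ I) P₀.Ring := IsScalarTower.of_algebraMap_eq' rfl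
  have hX : P.HasMap P₀.X := by
    have key : ∀ p : A[X], aeval P₀.X p = aeval P₀.X (p.map (Ideal.Quotient.mk I)) := by
      intro p
      exact (Polynomial.aeval_map_algebraMap (A ⧸ I) P₀.X p).symm
    constructor
    · rw [key, hf, P₀.hasMap_X.1]
    · rw [key, hg, map_pow]
      exact P₀.hasMap_X.2.pow _
  let ρ₀ : P.Ring →ₐ[A] P₀.Ring := P.lift _ hX
  have hρ₀ : ∀ b ∈ J, ρ₀.toRingHom b = 0 := by
    intro b hb
    have hle : J ≤ RingHom.ker ρ₀.toRingHom := by
      rw [hJ, Ideal.map_le_iff_le_comap]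
      intro a ha
      rw [Ideal.mem_comap, RingHom.mem_ker]
      change ρ₀ (algebraMap A P.Ring a) = 0
      rw [ρ₀.commutes]
      change algebraMap (A ⧸ I) P₀.Ring (Ideal.Quotient.mk I a) = 0
      rw [Ideal.Quotient.eq_zero_iff_mem.2 ha, map_zero]
    exact hle hb
  let ρ : (P.Ring ⧸ J) →+* P₀.Ring := Ideal.Quotient.lift J ρ₀.toRingHom hρ₀
  refine ⟨χ, ?_, ?_⟩
  · -- injective: `ρ ∘ χ = id`
    let θ : P₀.Ring →ₐ[A ⧸ I] P₀.Ring :=
      { toRingHom := ρ.comp χ.toRingHom
        commutes' := by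
          intro r
          obtain ⟨a, rfl⟩ := Ideal.Quotient.mk_surjective r
          change ρ (χ (algebraMap (A ⧸ I) P₀.Ring (Ideal.Quotient.mk I a))) = _
          rw [χ.commutes]
          change ρ (Ideal.Quotient.mk J (algebraMap A P.Ring a)) = _
          change ρ₀ (algebraMap A P.Ring a) = _
          rw [ρ₀.commutes]
          rfl }
    have hθ : θ = AlgHom.id _ _ := by
      apply StandardEtalePair.hom_ext
      change ρ (χ P₀.X) = P₀.X
      rw [StandardEtalePair.lift_X]
      change ρ₀ P.X = P₀.X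
      rw [StandardEtalePair.lift_X]
    have hleft : Function.LeftInverse ρ χ := fun y => DFunLike.congr_fun hθ y
    exact hleft.injective
  · -- surjective: `χ ∘ ρ = id`
    let θ' : P.Ring →ₐ[A] (P.Ring ⧸ J) :=
      { toRingHom := χ.toRingHom.comp ρ₀.toRingHom
        commutes' := by
          intro a
          change χ (ρ₀ (algebraMap A P.Ring a)) = _
          rw [ρ₀.commutes]
          change χ (algebraMap (A ⧸ I) P₀.Ring (Ideal.Quotient.mk I a)) = _
          rw [χ.commutes]
          rfl }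
    have hθ' : θ' = Ideal.Quotient.mkₐ A J := by
      apply StandardEtalePair.hom_ext
      change χ (ρ₀ P.X) = Ideal.Quotient.mk J P.X
      rw [StandardEtalePair.lift_X, StandardEtalePair.lift_X]
    intro y
    obtain ⟨b, rfl⟩ := Ideal.Quotient.mk_surjective y
    exact ⟨ρ₀ b, DFunLike.congr_fun hθ' b⟩

/-- **Strong local lifting of etale algebras along a quotient map**: a principal localization of
`C` is the reduction of an etale `A`-algebra. -/
theorem exists_etale_lift_at_strong {C : Type u} [CommRing C] (φ : A ⧸ I →+* C) (hφ : φ.Etale)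
    (q : Ideal C) [q.IsPrime] :
    ∃ (c : C) (B : Type u) (_ : CommRing B) (ψ : A →+* B)
      (χ : Localization.Away c ≃+* B ⧸ I.map ψ), c ∉ q ∧ ψ.Etale ∧
      (χ.toRingHom.comp (algebraMap C (Localization.Away c))).comp φ =
        Ideal.quotientMap (I.map ψ) ψ Ideal.le_comap_map := by
  algebraize [φ]
  have hfp : Algebra.FinitePresentation (A ⧸ I) C := inferInstance
  have hq : Algebra.IsEtaleAt (A ⧸ I) q := by
    have h1 : Algebra.FormallyEtale C (Localization.AtPrime q) :=
      Algebra.FormallyEtale.of_isLocalization q.primeCompl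
    exact Algebra.FormallyEtale.comp (A ⧸ I) C (Localization.AtPrime q)
  obtain ⟨c, hcq, hc⟩ := Algebra.IsEtaleAt.exists_isStandardEtale (R := A ⧸ I) q
  let Pr : StandardEtalePresentation (A ⧸ I) (Localization.Away c) :=
    Algebra.IsStandardEtale.nonempty_standardEtalePresentation.some
  obtain ⟨P, χ₀, hχ₀⟩ := exists_lift_pair_bij I Pr.P
  let χ : Localization.Away c ≃+* P.Ring ⧸ I.map (algebraMap A P.Ring) :=
    (Pr.equivRing.trans (AlgEquiv.ofBijective χ₀ hχ₀)).toRingEquiv
  refine ⟨c, P.Ring, inferInstance, algebraMap A P.Ring, χ, hcq, ?_, ?_⟩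
  · rw [RingHom.etale_algebraMap]
    infer_instance
  · ext r
    change χ₀ (Pr.equivRing (algebraMap C (Localization.Away c) (algebraMap (A ⧸ I) C r))) = _
    rw [← IsScalarTower.algebraMap_apply (A ⧸ I) C (Localization.Away c), AlgEquiv.commutes,
      χ₀.commutes]
    rfl

/-- **Scheme-level strong local lifting**, target `Spec A`. -/
theorem sch_open_core {A : CommRingCat.{u}} {T₀ T₁ : Scheme.{u}}
    (j : T₀ ⟶ Spec A) [IsClosedImmersion j] (g : T₁ ⟶ T₀) [Etale g] (t₁ : T₁) :
    ∃ (F T₂ : Scheme.{u}) (c : F ⟶ Spec A) (j₂ : T₂ ⟶ F) (o : T₂ ⟶ T₁) (x : T₂),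
      IsAffine F ∧ Etale c ∧ IsOpenImmersion o ∧ IsPullback j₂ (o ≫ g) c j ∧ o x = t₁ := by
  obtain ⟨I, θ, hθ⟩ := (IsClosedImmersion.Spec_iff (f := j)).mp inferInstance
  obtain ⟨_, ⟨O, hO, rfl⟩, hvO, -⟩ :=
    T₁.isBasis_affineOpens.exists_subset_of_mem_open (Set.mem_univ t₁) isOpen_univ
  let ι : Spec Γ(T₁, O) ⟶ T₁ := hO.fromSpec
  let φc : CommRingCat.of (A ⧸ I) ⟶ Γ(T₁, O) := Spec.preimage (ι ≫ g ≫ θ.hom)
  have hφc : Spec.map φc = ι ≫ g ≫ θ.hom := Spec.map_preimage _
  have hφet : φc.hom.Etale := by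
    rw [← HasRingHomProperty.Spec_iff (P := @Etale), hφc]
    infer_instance
  let q := hO.primeIdealOf ⟨t₁, hvO⟩
  obtain ⟨c, B, _, ψ, χ, hcq, hψ, hχ⟩ := exists_etale_lift_at_strong I φc.hom hφet q.asIdeal
  let loc : Γ(T₁, O) ⟶ CommRingCat.of (Localization.Away c) :=
    CommRingCat.ofHom (algebraMap Γ(T₁, O) (Localization.Away c))
  let χc : CommRingCat.of (Localization.Away c) ≅ CommRingCat.of (B ⧸ I.map ψ) :=
    χ.toCommRingCatIso
  have hloc : IsOpenImmersion (Spec.map loc) :=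
    inferInstanceAs (IsOpenImmersion (Spec.map (CommRingCat.ofHom
      (algebraMap Γ(T₁, O) (Localization.Away c)))))
  let o : Spec (.of (B ⧸ I.map ψ)) ⟶ T₁ := Spec.map χc.hom ≫ Spec.map loc ≫ ι
  have ho : IsOpenImmersion o := inferInstance
  -- the point
  obtain ⟨y, hy⟩ : ∃ y : Spec (.of (Localization.Away c)), (Spec.map loc) y = q := by
    have hmem : q ∈ Set.range (PrimeSpectrum.comap (algebraMap Γ(T₁, O) (Localization.Away c))) := by
      rw [PrimeSpectrum.localization_away_comap_range (Localization.Away c) c]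
      exact hcq
    obtain ⟨y, hy⟩ := hmem
    exact ⟨y, hy⟩
  obtain ⟨x, hx⟩ := (Spec.map χc.hom).surjective y
  refine ⟨Spec (.of B), Spec (.of (B ⧸ I.map ψ)), Spec.map (CommRingCat.ofHom ψ),
    Spec.map (CommRingCat.ofHom (Ideal.Quotient.mk (I.map ψ))), o, x, inferInstance, ?_, ho, ?_, ?_⟩
  · rw [HasRingHomProperty.Spec_iff (P := @Etale)]
    exact hψ
  · have hpo := isPullback_SpecMap_of_isPushout _ _ _ _
      (Groth.Agent.R2.H47.SmLiftSch.isPushout_quotient ψ I)
    refine hpo.of_iso (Iso.refl _) (Iso.refl _) θ.symm (Iso.refl _) (by simp) ?_ (by simp) ?_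
    · simp only [Iso.symm_hom, Iso.refl_hom, Category.id_comp, Category.assoc]
      rw [Iso.comp_inv_eq]
      change _ = (Spec.map χc.hom ≫ Spec.map loc ≫ ι) ≫ g ≫ θ.hom
      rw [Category.assoc, Category.assoc, ← hφc, ← Spec.map_comp, ← Spec.map_comp]
      congr 1
      apply CommRingCat.hom_ext
      rw [← hχ]
      rfl
    · simp [hθ]
  · change ι ((Spec.map loc) ((Spec.map χc.hom) x)) = t₁
    rw [hx, hy]
    exact hO.fromSpec_primeIdealOf ⟨t₁, hvO⟩

/-- **Scheme-level strong local lifting**: for a thickening `T₀ ⟶ T` with `T` affine and an etale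
`T₁ ⟶ T₀`, an open neighbourhood of a given point of `T₁` is the base change of an etale affine
`T`-scheme. -/
theorem sch_lift_open {T T₀ T₁ : Scheme.{u}} [IsAffine T] (j : T₀ ⟶ T) [IsClosedImmersion j]
    (g : T₁ ⟶ T₀) [Etale g] (t₁ : T₁) :
    ∃ (F T₂ : Scheme.{u}) (c : F ⟶ T) (j₂ : T₂ ⟶ F) (o : T₂ ⟶ T₁) (x : T₂),
      IsAffine F ∧ Etale c ∧ IsOpenImmersion o ∧ IsPullback j₂ (o ≫ g) c j ∧ o x = t₁ := by
  let θ := T.isoSpec
  obtain ⟨F, T₂, c, j₂, o, x, h0, h1, h2, h3, h4⟩ :=
    sch_open_core (A := Γ(T, ⊤)) (j ≫ θ.hom) g t₁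
  refine ⟨F, T₂, c ≫ θ.inv, j₂, o, x, h0, inferInstance, h2, ?_, h4⟩
  refine h3.of_iso (Iso.refl _) (Iso.refl _) (Iso.refl _) θ.symm (by simp) (by simp) (by simp)
    (by simp)

end Groth.Agent.R2.H47.EtaleLiftStrong
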