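import Mathlib
import Groth.Agent.R2.H47EtaleLiftStrong

/-!
# Local lifting of smooth schemes along a closed immersion of affine schemes (helper47)

For a ring `R`, an ideal `I` and a scheme `Y'` smooth over `Spec (R ⧸ I)`, every point of `Y'` has an
open neighbourhood of the form `Spec (B ⧸ I B)` with `B` a smooth `R`-algebra.
-/

set_option autoImplicit false
universe u

open CategoryTheory CategoryTheory.Limits AlgebraicGeometry

namespace Groth.Agent.R2.H47.SmoothLiftLocal

open Groth.Agent.R2.H47.EtaleLiftStrong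

/-- **Local lifting of smooth schemes along `Spec (R ⧸ I) ⟶ Spec R`**. -/
theorem exists_smooth_lift_affine {R : Type u} [CommRing R] (I : Ideal R) {Y' : Scheme.{u}}
    (g : Y' ⟶ Spec (.of (R ⧸ I))) [Smooth g] (y' : Y') :
    ∃ (B : Type u) (_ : CommRing B) (ψ : R →+* B) (o : Spec (.of (B ⧸ I.map ψ)) ⟶ Y'),
      ψ.Smooth ∧ IsOpenImmersion o ∧ y' ∈ Set.range o ∧
      o ≫ g = Spec.map (CommRingCat.ofHom (Ideal.quotientMap (I.map ψ) ψ Ideal.le_comap_map)) := by
  obtain ⟨_, ⟨O, hO, rfl⟩, hvO, -⟩ :=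
    Y'.isBasis_affineOpens.exists_subset_of_mem_open (Set.mem_univ y') isOpen_univ
  let ι : Spec Γ(Y', O) ⟶ Y' := hO.fromSpec
  let φc : CommRingCat.of (R ⧸ I) ⟶ Γ(Y', O) := Spec.preimage (ι ≫ g)
  have hφc : Spec.map φc = ι ≫ g := Spec.map_preimage _
  have hφsm : φc.hom.Smooth := by
    rw [← HasRingHomProperty.Spec_iff (P := @Smooth), hφc]
    infer_instance
  let q := hO.primeIdealOf ⟨y', hvO⟩
  algebraize [φc.hom]
  haveI : Algebra.IsSmoothAt (R ⧸ I) q.asIdeal := by
    have h1 : Algebra.FormallySmooth Γ(Y', O) (Localization.AtPrime q.asIdeal) :=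
      Algebra.FormallySmooth.of_isLocalization q.asIdeal.primeCompl
    exact Algebra.FormallySmooth.comp (R ⧸ I) Γ(Y', O) (Localization.AtPrime q.asIdeal)
  obtain ⟨f, hfq, n, alg, htower, hstd⟩ :=
    Algebra.IsSmoothAt.exists_isStandardEtale_mvPolynomial (R := R ⧸ I) (S := Γ(Y', O))
      (p := q.asIdeal)
  -- polynomial ring data
  let P := MvPolynomial (Fin n) R
  let I' : Ideal P := I.map (MvPolynomial.C : R →+* P)
  let e := MvPolynomial.quotientEquivQuotientMvPolynomial (σ := Fin n) I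
  let Cf := Localization.Away f
  let φ' : P ⧸ I' →+* Cf := (algebraMap (MvPolynomial (Fin n) (R ⧸ I)) Cf).comp
    (e.symm : P ⧸ I' →+* MvPolynomial (Fin n) (R ⧸ I))
  have hφ' : φ'.Etale := by
    refine RingHom.Etale.stableUnderComposition _ _ (RingHom.Etale.of_bijective e.symm.bijective) ?_
    change (algebraMap (MvPolynomial (Fin n) (R ⧸ I)) Cf).Etale
    rw [RingHom.etale_algebraMap]
    infer_instance
  have hdisj : Disjoint (Submonoid.powers f : Set Γ(Y', O)) (q.asIdeal : Set Γ(Y', O)) :=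
    (Ideal.disjoint_powers_iff_notMem_of_isPrime _).mpr hfq
  let q' : Ideal Cf := Ideal.map (algebraMap Γ(Y', O) Cf) q.asIdeal
  haveI hq' : q'.IsPrime :=
    IsLocalization.isPrime_of_isPrime_disjoint (.powers f) _ _ inferInstance hdisj
  have hq'c : q'.comap (algebraMap Γ(Y', O) Cf) = q.asIdeal :=
    IsLocalization.under_map_of_isPrime_disjoint (.powers f) _ inferInstance hdisj
  obtain ⟨c, B, _, ψ', χ, hcq, hψ', hχ⟩ := exists_etale_lift_at_strong I' φ' hφ' q'
  let ψ : R →+* B := ψ'.comp (MvPolynomial.C : R →+* P)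
  have hI : I'.map ψ' = I.map ψ := Ideal.map_map _ _
  have hψ : ψ.Smooth := by
    refine RingHom.Smooth.comp ?_ ((RingHom.etale_iff_formallyUnramified_and_smooth _).mp hψ').2
    rw [← MvPolynomial.algebraMap_eq, RingHom.smooth_algebraMap]
    exact ⟨inferInstanceAs (Algebra.FormallySmooth R (MvPolynomial (Fin n) R)),
      inferInstanceAs (Algebra.FinitePresentation R (MvPolynomial (Fin n) R))⟩
  let tr : (B ⧸ I'.map ψ') ≃+* (B ⧸ I.map ψ) := Ideal.quotEquivOfEq hI
  let loc_f : Γ(Y', O) ⟶ CommRingCat.of Cf := CommRingCat.ofHom (algebraMap Γ(Y', O) Cf)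
  let loc_c : CommRingCat.of Cf ⟶ CommRingCat.of (Localization.Away c) :=
    CommRingCat.ofHom (algebraMap Cf (Localization.Away c))
  let χc : CommRingCat.of (Localization.Away c) ≅ CommRingCat.of (B ⧸ I.map ψ) :=
    (χ.trans tr).toCommRingCatIso
  have hloc_f : IsOpenImmersion (Spec.map loc_f) :=
    inferInstanceAs (IsOpenImmersion (Spec.map (CommRingCat.ofHom
      (algebraMap Γ(Y', O) (Localization.Away f)))))
  have hloc_c : IsOpenImmersion (Spec.map loc_c) :=
    inferInstanceAs (IsOpenImmersion (Spec.map (CommRingCat.ofHom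
      (algebraMap Cf (Localization.Away c)))))
  let o : Spec (.of (B ⧸ I.map ψ)) ⟶ Y' := Spec.map χc.hom ≫ Spec.map loc_c ≫ Spec.map loc_f ≫ ι
  have ho : IsOpenImmersion o := inferInstance
  refine ⟨B, inferInstance, ψ, o, hψ, ho, ?_, ?_⟩
  · -- the point
    obtain ⟨z₁, hz₁⟩ : ∃ z₁ : Spec (.of (Localization.Away c)),
        (Spec.map loc_c) z₁ = (⟨q', hq'⟩ : PrimeSpectrum Cf) := by
      have hmem : (⟨q', hq'⟩ : PrimeSpectrum Cf) ∈
          Set.range (PrimeSpectrum.comap (algebraMap Cf (Localization.Away c))) := by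
        rw [PrimeSpectrum.localization_away_comap_range (Localization.Away c) c]
        exact hcq
      obtain ⟨z, hz⟩ := hmem
      exact ⟨z, hz⟩
    have hz₂ : (Spec.map loc_f) (⟨q', hq'⟩ : PrimeSpectrum Cf) = q := PrimeSpectrum.ext hq'c
    obtain ⟨x, hx⟩ := (Spec.map χc.hom).surjective z₁
    refine ⟨x, ?_⟩
    change ι ((Spec.map loc_f) ((Spec.map loc_c) ((Spec.map χc.hom) x))) = y'
    rw [hx, hz₁, hz₂]
    exact hO.fromSpec_primeIdealOf ⟨y', hvO⟩
  · change (Spec.map χc.hom ≫ Spec.map loc_c ≫ Spec.map loc_f ≫ ι) ≫ g = _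
    simp only [Category.assoc]
    rw [← hφc, ← Spec.map_comp, ← Spec.map_comp, ← Spec.map_comp]
    congr 1
    apply CommRingCat.hom_ext
    apply Ideal.Quotient.ringHom_ext
    ext r
    have h1 := congr($hχ (Ideal.Quotient.mk I' (MvPolynomial.C r)))
    have h3 : (e.symm : P ⧸ I' →+* MvPolynomial (Fin n) (R ⧸ I))
        (Ideal.Quotient.mk I' (MvPolynomial.C r)) = MvPolynomial.C (Ideal.Quotient.mk I r) :=
      e.symm.commutes r
    have h2 : algebraMap Γ(Y', O) Cf (φc.hom (Ideal.Quotient.mk I r)) =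
        φ' (Ideal.Quotient.mk I' (MvPolynomial.C r)) := by
      change _ = algebraMap (MvPolynomial (Fin n) (R ⧸ I)) Cf
        ((e.symm : P ⧸ I' →+* MvPolynomial (Fin n) (R ⧸ I)) (Ideal.Quotient.mk I' (MvPolynomial.C r)))
      rw [h3, ← MvPolynomial.algebraMap_eq,
        ← IsScalarTower.algebraMap_apply (R ⧸ I) (MvPolynomial (Fin n) (R ⧸ I)) Cf,
        IsScalarTower.algebraMap_apply (R ⧸ I) Γ(Y', O) Cf]
      rfl
    change tr (χ (algebraMap Cf (Localization.Away c)
      (algebraMap Γ(Y', O) Cf (φc.hom (Ideal.Quotient.mk I r))))) = _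
    rw [h2]
    change χ (algebraMap Cf (Localization.Away c) (φ' (Ideal.Quotient.mk I' (MvPolynomial.C r))))
      = _ at h1
    rw [h1]
    rfl

end Groth.Agent.R2.H47.SmoothLiftLocal
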