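import Mathlib
import Groth.Agent.R2.H47EtaleLiftStrong
import Groth.Agent.R2.H47SmoothLiftLocal

/-!
# Local lifting of etale and smooth morphisms along arbitrary closed immersions (helper47)

For a closed immersion `j : T₀ ⟶ T` of schemes (no nilpotency assumed) and an etale (resp. smooth)
`g : T₁ ⟶ T₀`, every point of `T₁` has an open neighbourhood which is the base change along `j` of an
etale (resp. smooth) affine `T`-scheme.
-/

set_option autoImplicit false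
universe u

open CategoryTheory CategoryTheory.Limits AlgebraicGeometry

namespace Groth.Agent.R2.H47.LiftProp

open Groth.Agent.R2.H47.EtaleLiftStrong Groth.Agent.R2.H47.SmoothLiftLocal

/-- the local lifting property of a class `P` of morphisms along closed immersions. -/
def HasLocalLifts (P : MorphismProperty Scheme.{u}) : Prop :=
  ∀ ⦃T T₀ T₁ : Scheme.{u}⦄ (j : T₀ ⟶ T) [IsClosedImmersion j] (g : T₁ ⟶ T₀), P g → ∀ t₁ : T₁,
    ∃ (F T₂ : Scheme.{u}) (c : F ⟶ T) (j₂ : T₂ ⟶ F) (o : T₂ ⟶ T₁) (x : T₂),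
      IsAffine F ∧ P c ∧ IsOpenImmersion o ∧ IsPullback j₂ (o ≫ g) c j ∧ o x = t₁

/-- the same over bases of the form `Spec A`. -/
def HasLocalLiftsSpec (P : MorphismProperty Scheme.{u}) : Prop :=
  ∀ ⦃A : CommRingCat.{u}⦄ ⦃T₀ T₁ : Scheme.{u}⦄ (j : T₀ ⟶ Spec A) [IsClosedImmersion j]
    (g : T₁ ⟶ T₀), P g → ∀ t₁ : T₁,
    ∃ (F T₂ : Scheme.{u}) (c : F ⟶ Spec A) (j₂ : T₂ ⟶ F) (o : T₂ ⟶ T₁) (x : T₂),
      IsAffine F ∧ P c ∧ IsOpenImmersion o ∧ IsPullback j₂ (o ≫ g) c j ∧ o x = t₁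

/-- reduction to affine bases. -/
theorem hasLocalLifts_of_spec (P : MorphismProperty Scheme.{u}) [P.IsStableUnderBaseChange]
    [P.IsMultiplicative] (hoi : @IsOpenImmersion ≤ P) (h : HasLocalLiftsSpec P) :
    HasLocalLifts P := by
  intro T T₀ T₁ j _ g hg t₁
  obtain ⟨_, ⟨W, hW, rfl⟩, htW, -⟩ :=
    T.isBasis_affineOpens.exists_subset_of_mem_open (Set.mem_univ (j (g t₁))) isOpen_univ
  haveI : IsAffine (W : Scheme.{u}) := hW
  let j' := j ∣_ W
  let g' := g ∣_ (j ⁻¹ᵁ W)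
  have hg' : P g' := P.of_isPullback (isPullback_morphismRestrict g (j ⁻¹ᵁ W)).flip hg
  have ht₁ : t₁ ∈ g ⁻¹ᵁ (j ⁻¹ᵁ W) := htW
  let θ := (W : Scheme.{u}).isoSpec
  obtain ⟨F, T₂, c', j₂, o', x, hF, hc', ho', hpb, hx⟩ :=
    h (A := Γ(W, ⊤)) (j' ≫ θ.hom) g' hg' ⟨t₁, ht₁⟩
  have hpb' : IsPullback j₂ (o' ≫ g') (c' ≫ θ.inv) j' :=
    hpb.of_iso (Iso.refl _) (Iso.refl _) (Iso.refl _) θ.symm (by simp) (by simp) (by simp)
      (by simp)
  refine ⟨F, T₂, (c' ≫ θ.inv) ≫ Scheme.Opens.ι W, j₂, o' ≫ (g ⁻¹ᵁ (j ⁻¹ᵁ W)).ι, x, hF, ?_,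
    inferInstance, ?_, ?_⟩
  · refine P.comp_mem _ _ (P.comp_mem _ _ hc' (hoi _ inferInstance)) (hoi _ inferInstance)
  · have h1 := hpb'.paste_vert (isPullback_morphismRestrict j W)
    have h2 : (o' ≫ g') ≫ (j ⁻¹ᵁ W).ι = (o' ≫ (g ⁻¹ᵁ (j ⁻¹ᵁ W)).ι) ≫ g := by
      rw [Category.assoc, Category.assoc, morphismRestrict_ι]
    rw [h2] at h1
    exact h1
  · rw [Scheme.Hom.comp_apply, hx]
    rfl

theorem etale_hasLocalLiftsSpec : HasLocalLiftsSpec.{u} @Etale := by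
  intro A T₀ T₁ j _ g hg t₁
  haveI : Etale g := hg
  exact sch_open_core j g t₁

theorem etale_hasLocalLifts : HasLocalLifts.{u} @Etale :=
  hasLocalLifts_of_spec _ (fun _ _ f hf => by haveI : IsOpenImmersion f := hf; infer_instance)
    etale_hasLocalLiftsSpec

theorem smooth_hasLocalLiftsSpec : HasLocalLiftsSpec.{u} @Smooth := by
  intro A T₀ T₁ j _ g hg t₁
  haveI : Smooth g := hg
  obtain ⟨I, θ, hθ⟩ := (IsClosedImmersion.Spec_iff (f := j)).mp inferInstance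
  obtain ⟨B, _, ψ, o, hψ, ho, ⟨x, hx⟩, hog⟩ := exists_smooth_lift_affine I (g ≫ θ.hom) t₁
  refine ⟨Spec (.of B), Spec (.of (B ⧸ I.map ψ)), Spec.map (CommRingCat.ofHom ψ),
    Spec.map (CommRingCat.ofHom (Ideal.Quotient.mk (I.map ψ))), o, x, inferInstance, ?_, ho, ?_, hx⟩
  · rw [HasRingHomProperty.Spec_iff (P := @Smooth)]
    exact hψ
  · have hpo := isPullback_SpecMap_of_isPushout _ _ _ _
      (Groth.Agent.R2.H47.SmLiftSch.isPushout_quotient ψ I)
    refine hpo.of_iso (Iso.refl _) (Iso.refl _) θ.symm (Iso.refl _) (by simp) ?_ (by simp) ?_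
    · simp only [Iso.symm_hom, Iso.refl_hom, Category.id_comp]
      rw [Iso.comp_inv_eq, Category.assoc, hog]
    · simp [hθ]

instance smooth_isMultiplicative : MorphismProperty.IsMultiplicative @Smooth.{u} where
  id_mem X := (inferInstance : Smooth (𝟙 X))

theorem smooth_hasLocalLifts : HasLocalLifts.{u} @Smooth :=
  hasLocalLifts_of_spec _ (fun _ _ f hf => by haveI : IsOpenImmersion f := hf; infer_instance)
    smooth_hasLocalLiftsSpec

end Groth.Agent.R2.H47.LiftProp
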