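import Mathlib
import Groth.Prelude.Def_BigSite
import Groth.Agent.R2.H47LiftProp

/-!
# Base change along a closed immersion is almost cocontinuous on big sites (helper47)

For a class `P` of morphisms with local lifts along closed immersions (etale, smooth), the base change
functor `Over Y ⥤ Over X` along a closed immersion `X ⟶ Y` is almost cocontinuous for the big
`P`-topologies.
-/

set_option autoImplicit false
universe u
open CategoryTheory CategoryTheory.Limits AlgebraicGeometry Opposite

namespace Groth.Agent.R2.H47.AlmostCocont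
open Groth.Agent.R2.H47.LiftProp

lemma pullback_map_fst {X Y : Scheme.{u}} (f : X ⟶ Y) {U V : Over Y} (g : V ⟶ U) :
    ((Over.pullback f).map g).left ≫ pullback.fst U.hom f = pullback.fst V.hom f ≫ g.left := by
  simp only [Over.pullback_map_left]
  exact pullback.lift_fst _ _ _

theorem isAlmostCocontinuous (P : MorphismProperty Scheme.{u}) [P.IsStableUnderBaseChange]
    [P.IsMultiplicative] (hoi : @IsOpenImmersion ≤ P) (hP : HasLocalLifts P) {X Y : Scheme.{u}}
    (f : X ⟶ Y) [IsClosedImmersion f] :
    BigSite.IsAlmostCocontinuous (Over.pullback f) (QuotSh.J (Scheme.precoverage P) Y)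
      (QuotSh.J (Scheme.precoverage P) X) := by
  intro U R hR
  let Z : Scheme.{u} := pullback U.hom f
  let j : Z ⟶ U.left := pullback.fst U.hom f
  haveI : IsClosedImmersion j := inferInstance
  rw [GrothendieckTopology.mem_over_iff] at hR
  obtain ⟨𝒰, h𝒰⟩ := Scheme.mem_grothendieckTopology_iff.mp hR
  have hlift : ∀ z : Z, ∃ (F T₂ : Scheme.{u}) (c : F ⟶ U.left) (j₂ : T₂ ⟶ F)
      (o : T₂ ⟶ 𝒰.X (𝒰.idx z)) (x : T₂), IsAffine F ∧ P c ∧ IsOpenImmersion o ∧
        IsPullback j₂ (o ≫ 𝒰.f (𝒰.idx z)) c j ∧ 𝒰.f (𝒰.idx z) (o x) = z := by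
    intro z
    obtain ⟨w, hw⟩ := 𝒰.covers z
    obtain ⟨F, T₂, c, j₂, o, x, h1, h2, h3, h4, h5⟩ := hP j (𝒰.f (𝒰.idx z)) (𝒰.map_prop _) w
    exact ⟨F, T₂, c, j₂, o, x, h1, h2, h3, h4, by rw [h5, hw]⟩
  choose F T₂ c j₂ o x hF hc ho hpb hx using hlift
  let V₀ : U.left.Opens := ⟨(Set.range j)ᶜ, j.isClosedEmbedding.isClosed_range.isOpen_compl⟩
  let Xa : Option Z → Scheme.{u} := fun a => a.elim V₀.toScheme F
  let fa : ∀ a, Xa a ⟶ U.left := fun a => Option.rec (motive := fun a => Xa a ⟶ U.left) V₀.ι c a
  have hcov : Presieve.ofArrows Xa fa ∈ Scheme.precoverage P U.left := by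
    rw [Scheme.ofArrows_mem_precoverage_iff]
    refine ⟨fun u => ?_, fun a => ?_⟩
    · by_cases hu : u ∈ Set.range j
      · obtain ⟨z, rfl⟩ := hu
        refine ⟨some z, (j₂ z) (x z), ?_⟩
        change (j₂ z ≫ c z) (x z) = _
        rw [(hpb z).w]
        change j (𝒰.f _ (o z (x z))) = _
        rw [hx]
      · exact ⟨none, ⟨u, hu⟩, rfl⟩
    · cases a with
      | none => exact hoi _ (inferInstanceAs (IsOpenImmersion V₀.ι))
      | some z => exact hc z
  let R'₀ : Sieve U.left := Sieve.generate (Presieve.ofArrows Xa fa)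
  have hR'₀ : R'₀ ∈ (Scheme.precoverage P).toGrothendieck U.left :=
    Precoverage.generate_mem_toGrothendieck hcov
  refine ⟨(Sieve.overEquiv U).symm R'₀, ?_, ?_⟩
  · rw [GrothendieckTopology.mem_over_iff, OrderIso.apply_symm_apply]
    exact hR'₀
  · intro V g hg
    rw [Sieve.overEquiv_symm_iff] at hg
    obtain ⟨W, h, k, ⟨a⟩, hk⟩ := hg
    cases a with
    | none =>
      left
      have hk' : h ≫ V₀.ι = g.left := hk
      haveI : IsEmpty ↥(pullback V.hom f) := by
        constructor
        intro p
        have h1 : g.left (pullback.fst V.hom f p) ∈ Set.range j := by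
          refine ⟨((Over.pullback f).map g).left p, ?_⟩
          change (((Over.pullback f).map g).left ≫ pullback.fst U.hom f) p = _
          rw [pullback_map_fst]
          rfl
        rw [← hk'] at h1
        exact (h (pullback.fst V.hom f p)).2 h1
      rw [GrothendieckTopology.mem_over_iff, map_bot]
      exact Scheme.bot_mem_grothendieckTopology (P := P) (pullback V.hom f)
    | some z =>
      right
      let h' : V.left ⟶ F z := h
      have hk' : h' ≫ c z = g.left := hk
      rw [← (Sieve.overEquiv _).symm_apply_apply R, Sieve.overEquiv_symm_iff]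
      let g' : pullback V.hom f ⟶ Z := ((Over.pullback f).map g).left
      have hg'1 : g' ≫ j = pullback.fst V.hom f ≫ g.left := pullback_map_fst f g
      let l : pullback V.hom f ⟶ T₂ z := (hpb z).lift (pullback.fst V.hom f ≫ h') g' (by
        rw [Category.assoc, hk', hg'1])
      have hl : (l ≫ o z) ≫ 𝒰.f (𝒰.idx z) = g' := by
        rw [Category.assoc]
        exact (hpb z).lift_snd _ _ _
      change ((Sieve.overEquiv _) R).arrows g'
      rw [← hl]
      exact Sieve.downward_closed _ (h𝒰 _ _ (Presieve.ofArrows.mk (𝒰.idx z))) _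

end Groth.Agent.R2.H47.AlmostCocont
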