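import Mathlib
import Groth.Prelude.Def_BigSite

/-!
# Pushforward along a continuous almost cocontinuous functor (helper47)

Universe-generalized versions of `S6440`/`S6441` (sites `C D : Type (u+1)` with `Category.{u}`, sheaves
valued in `Type (u+1)`), and preservation of epimorphisms / finite colimits for abelian sheaves.
-/

set_option autoImplicit false
open CategoryTheory CategoryTheory.Limits Opposite
universe u

namespace Groth.Agent.R2.H47.AlmostCocontSh

variable {C D : Type (u + 1)} [Category.{u} C] [Category.{u} D]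

/-- sheaves of types have singleton values on objects covered by the empty sieve -/
lemma sheaf_unique_of_bot_mem (K : GrothendieckTopology D)
    (F : Dᵒᵖ ⥤ Type (u + 1)) (hF : Presheaf.IsSheaf K F) (V : D) (hV : (⊥ : Sieve V) ∈ K V) :
    Nonempty (Unique (F.obj (op V))) := by
  have hF' := (isSheaf_iff_isSheaf_of_type _ _).mp hF
  have h := hF' _ hV
  let x : Presieve.FamilyOfElements F (⊥ : Sieve V).arrows := fun W g hg => hg.elim
  have hx : x.Compatible := by
    intro Y₁ Y₂ Z g₁ g₂ f₁ f₂ h₁ h₂ _
    exact h₁.elim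
  obtain ⟨t, -, htu⟩ := h x hx
  refine ⟨⟨⟨t⟩, fun s => htu s ?_⟩⟩
  intro W g hg
  exact hg.elim

theorem isIso_comparison
    (J : GrothendieckTopology C) (K : GrothendieckTopology D) (u : C ⥤ D) [u.IsContinuous J K]
    (hu : BigSite.IsAlmostCocontinuous u J K) (G : Dᵒᵖ ⥤ Type (u + 1))
    (hG : ∀ V : D, (⊥ : Sieve V) ∈ K V → Nonempty (Unique (G.obj (op V)))) :
    IsIso (((sheafificationAdjunction J (Type (u + 1))).homEquiv (u.op ⋙ G)
      ((u.sheafPushforwardContinuous (Type (u + 1)) J K).obj ((presheafToSheaf K (Type (u + 1))).obj G))).symm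
        (Functor.whiskerLeft u.op (toSheafify K G))) := by
  set α := Functor.whiskerLeft u.op (toSheafify K G) with hα
  set F' := (u.sheafPushforwardContinuous (Type (u + 1)) J K).obj ((presheafToSheaf K (Type (u + 1))).obj G)
  set β := ((sheafificationAdjunction J (Type (u + 1))).homEquiv (u.op ⋙ G) F').symm α with hβ
  have hαβ : (sheafificationAdjunction J (Type (u + 1))).unit.app (u.op ⋙ G) ≫
      (sheafToPresheaf J _).map β = α := by
    exact ((sheafificationAdjunction J (Type (u + 1))).homEquiv_unit (X := u.op ⋙ G) (Y := F') β).symm.trans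
      (Equiv.apply_symm_apply _ _)
  have hW : J.W α := by
    have : Presheaf.IsLocallyInjective J α := by
      constructor
      intro U x y hxy
      induction U using Opposite.rec with | _ U => ?_
      have h1 : Presheaf.equalizerSieve (F := G) (X := op (u.obj U)) x y ∈ K (u.obj U) :=
        Presheaf.equalizerSieve_mem K (toSheafify K G) (X := op (u.obj U)) x y hxy
      obtain ⟨R', hR', hR'2⟩ := hu U _ h1
      refine J.superset_covering ?_ hR'
      intro V g hg
      rcases hR'2 g hg with hbot | hmem
      · obtain ⟨hU⟩ := hG _ hbot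
        exact (hU.uniq _).trans (hU.uniq _).symm
      · exact hmem
    have : Presheaf.IsLocallySurjective J α := by
      constructor
      intro U s
      have h1 : Presheaf.imageSieve (toSheafify K G) (U := u.obj U) s ∈ K (u.obj U) :=
        Presheaf.imageSieve_mem K (toSheafify K G) (U := op (u.obj U)) s
      obtain ⟨R', hR', hR'2⟩ := hu U _ h1
      refine J.superset_covering ?_ hR'
      intro V g hg
      rcases hR'2 g hg with hbot | hmem
      · obtain ⟨hU⟩ := hG _ hbot
        obtain ⟨hS⟩ := sheaf_unique_of_bot_mem K (sheafify K G) ((presheafToSheaf K (Type (u + 1))).obj G).property _ hbot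
        exact ⟨hU.default, (hS.uniq _).trans (hS.uniq _).symm⟩
      · exact hmem
    exact J.W_of_isLocallyBijective α
  have hW2 : J.W ((sheafToPresheaf J _).map β) := by
    have h1 := J.W_adj_unit_app (sheafificationAdjunction J (Type (u + 1))) (u.op ⋙ G)
    rw [← hαβ] at hW
    exact J.W.of_precomp _ _ h1 hW
  exact (J.W_sheafToPresheaf_map_iff_isIso β).mp hW2


/-- a connected colimit of singletons is a singleton -/
lemma unique_of_isColimit_of_unique {I : Type} [SmallCategory I] [IsConnected I]
    (T : I ⥤ Type (u + 1)) (c : Cocone T) (hc : IsColimit c) (hT : ∀ i, Nonempty (Unique (T.obj i))) :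
    Nonempty (Unique c.pt) := by
  have hT' : ∀ i, Unique (T.obj i) := fun i => (hT i).some
  let f : I → c.pt := fun i => c.ι.app i (hT' i).default
  have hf : ∀ i j, f i = f j := by
    apply constant_of_preserves_morphisms
    intro j₁ j₂ m
    have h1 : c.ι.app j₁ (hT' j₁).default = c.ι.app j₂ (T.map m (hT' j₁).default) := by
      have := congrArg (fun g => g (hT' j₁).default) (c.w m)
      exact this.symm
    change c.ι.app j₁ (hT' j₁).default = c.ι.app j₂ (hT' j₂).default
    rw [h1, (hT' j₂).uniq (T.map m (hT' j₁).default)]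
  obtain ⟨i₀⟩ := (inferInstance : Nonempty I)
  refine ⟨⟨⟨f i₀⟩, ?_⟩⟩
  intro x
  obtain ⟨i, a, rfl⟩ := Types.jointly_surjective_of_isColimit hc x
  rw [(hT' i).uniq a]
  exact hf i i₀

/-- For a continuous and almost cocontinuous functor `u`, the functor `u^s` on sheaves of sets
preserves finite connected colimits. -/
theorem preservesFiniteConnectedColimits
    (J : GrothendieckTopology C) (K : GrothendieckTopology D) (u : C ⥤ D) [u.IsContinuous J K]
    (hu : BigSite.IsAlmostCocontinuous u J K) (I : Type) [SmallCategory I] [FinCategory I]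
    [IsConnected I] :
    PreservesColimitsOfShape I (u.sheafPushforwardContinuous (Type (u + 1)) J K) := by
  constructor
  intro F
  let E : Cocone (F ⋙ sheafToPresheaf K (Type (u + 1))) := colimit.cocone _
  have hE : IsColimit E := colimit.isColimit _
  let c : Cocone F := Sheaf.sheafifyCocone E
  have hc : IsColimit c := Sheaf.isColimitSheafifyCocone E hE
  apply preservesColimit_of_preserves_colimit_cocone hc
  let up : (Dᵒᵖ ⥤ Type (u + 1)) ⥤ (Cᵒᵖ ⥤ Type (u + 1)) := (Functor.whiskeringLeft _ _ _).obj u.op
  let E' : Cocone ((F ⋙ u.sheafPushforwardContinuous (Type (u + 1)) J K) ⋙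
      sheafToPresheaf J (Type (u + 1))) := up.mapCocone E
  have hE' : IsColimit E' := isColimitOfPreserves up hE
  let c' : Cocone (F ⋙ u.sheafPushforwardContinuous (Type (u + 1)) J K) := Sheaf.sheafifyCocone E'
  have hc' : IsColimit c' := Sheaf.isColimitSheafifyCocone E' hE'
  have hG : ∀ V : D, (⊥ : Sieve V) ∈ K V → Nonempty (Unique (E.pt.obj (op V))) := by
    intro V hV
    have hEV : IsColimit (((evaluation _ _).obj (op V)).mapCocone E) :=
      isColimitOfPreserves _ hE
    refine unique_of_isColimit_of_unique _ _ hEV ?_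
    intro i
    exact sheaf_unique_of_bot_mem K (F.obj i).obj (F.obj i).property V hV
  have hiso := isIso_comparison J K u hu E.pt hG
  let β : c'.pt ⟶ ((u.sheafPushforwardContinuous (Type (u + 1)) J K).mapCocone c).pt :=
    ((sheafificationAdjunction J (Type (u + 1))).homEquiv (u.op ⋙ E.pt)
      ((u.sheafPushforwardContinuous (Type (u + 1)) J K).obj
        ((presheafToSheaf K (Type (u + 1))).obj E.pt))).symm
        (Functor.whiskerLeft u.op (toSheafify K E.pt))
  have hβiso : IsIso β := hiso
  have hβ : toSheafify J (u.op ⋙ E.pt) ≫ β.hom = Functor.whiskerLeft u.op (toSheafify K E.pt) := by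
    exact ((sheafificationAdjunction J (Type (u + 1))).homEquiv_unit (X := u.op ⋙ E.pt)
      (Y := (u.sheafPushforwardContinuous (Type (u + 1)) J K).obj
        ((presheafToSheaf K (Type (u + 1))).obj E.pt))
      β).symm.trans (Equiv.apply_symm_apply _ _)
  refine IsColimit.ofIsoColimit hc' (Cocone.ext (asIso β) ?_)
  intro i
  apply Sheaf.hom_ext
  change (c'.ι.app i).hom ≫ β.hom = Functor.whiskerLeft u.op (c.ι.app i).hom
  rw [Sheaf.sheafifyCocone_ι_app_val, Sheaf.sheafifyCocone_ι_app_val]
  have e1 : (E'.ι.app i ≫ toSheafify J E'.pt) ≫ β.hom =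
      E'.ι.app i ≫ (toSheafify J (u.op ⋙ E.pt) ≫ β.hom) := Category.assoc _ _ _
  have e2 : E'.ι.app i ≫ (toSheafify J (u.op ⋙ E.pt) ≫ β.hom) =
      E'.ι.app i ≫ Functor.whiskerLeft u.op (toSheafify K E.pt) :=
    congrArg (fun m => E'.ι.app i ≫ m) hβ
  exact e1.trans (e2.trans rfl)

/-- sheaves of abelian groups have subsingleton values on objects covered by the empty sieve -/
lemma ab_subsingleton_of_bot_mem (K : GrothendieckTopology D)
    (F : Sheaf K AddCommGrpCat.{u + 1}) (V : D) (hV : (⊥ : Sieve V) ∈ K V) :
    Subsingleton (F.obj.obj (op V)) := by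
  have hF' : Presieve.IsSheaf K (F.obj ⋙ forget _) :=
    (isSheaf_iff_isSheaf_of_type _ _).mp ((Presheaf.isSheaf_iff_isSheaf_forget K F.obj (forget _)).mp F.property)
  have h := hF' _ hV
  let x : Presieve.FamilyOfElements (F.obj ⋙ forget _) (⊥ : Sieve V).arrows := fun W g hg => hg.elim
  have hx : x.Compatible := by
    intro Y₁ Y₂ Z g₁ g₂ f₁ f₂ h₁ h₂ _
    exact h₁.elim
  obtain ⟨t, -, htu⟩ := h x hx
  constructor
  intro a b
  have ha : a = t := htu a (fun W g hg => hg.elim)
  have hb : b = t := htu b (fun W g hg => hg.elim)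
  rw [ha, hb]

theorem epi_pushforward_ab
    (J : GrothendieckTopology C) (K : GrothendieckTopology D) (u : C ⥤ D) [u.IsContinuous J K]
    (hu : BigSite.IsAlmostCocontinuous u J K) {F G : Sheaf K AddCommGrpCat.{u + 1}} (φ : F ⟶ G)
    [Epi φ] : Epi ((u.sheafPushforwardContinuous AddCommGrpCat.{u + 1} J K).map φ) := by
  have h1 : Sheaf.IsLocallySurjective φ := (Sheaf.isLocallySurjective_iff_epi' AddCommGrpCat.{u + 1} φ).mpr inferInstance
  have h2 : Sheaf.IsLocallySurjective ((u.sheafPushforwardContinuous AddCommGrpCat.{u + 1} J K).map φ) := by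
    constructor
    intro U s
    have h3 : Presheaf.imageSieve φ.hom (U := u.obj U) s ∈ K (u.obj U) :=
      Presheaf.imageSieve_mem K φ.hom (U := op (u.obj U)) s
    obtain ⟨R', hR', hR'2⟩ := hu U _ h3
    refine J.superset_covering ?_ hR'
    intro V g hg
    rcases hR'2 g hg with hbot | hmem
    · haveI : Subsingleton (G.obj.obj (op (u.obj V))) := ab_subsingleton_of_bot_mem K G _ hbot
      exact ⟨(0 : F.obj.obj (op (u.obj V))), Subsingleton.elim (α := G.obj.obj (op (u.obj V))) _ _⟩
    · exact hmem
  exact (Sheaf.isLocallySurjective_iff_epi' AddCommGrpCat.{u + 1} _).mp h2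

/-- a left exact additive pushforward along an almost cocontinuous functor is exact. -/
theorem preservesFiniteColimits_pushforward_ab
    (J : GrothendieckTopology C) (K : GrothendieckTopology D) (u : C ⥤ D) [u.IsContinuous J K]
    (hu : BigSite.IsAlmostCocontinuous u J K)
    [(u.sheafPushforwardContinuous AddCommGrpCat.{u + 1} J K).Additive]
    [PreservesFiniteLimits (u.sheafPushforwardContinuous AddCommGrpCat.{u + 1} J K)] :
    PreservesFiniteColimits (u.sheafPushforwardContinuous AddCommGrpCat.{u + 1} J K) := by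
  rw [Functor.preservesFiniteColimits_iff_forall_exact_map_and_epi]
  intro S hS
  refine ⟨?_, ?_⟩
  · have h := ((Functor.preservesFiniteLimits_tfae
      (u.sheafPushforwardContinuous AddCommGrpCat.{u + 1} J K)).out 3 0).mp
      (inferInstance : PreservesFiniteLimits (u.sheafPushforwardContinuous AddCommGrpCat.{u + 1} J K))
    exact (h S hS).1
  · haveI := hS.epi_g
    exact epi_pushforward_ab J K u hu S.g

end Groth.Agent.R2.H47.AlmostCocontSh
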