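import Mathlib
import Groth.Prelude.Def_AlgSpInf
import Groth.Prelude.Def_AlgSp4
import Groth.Agent.S9928
import Groth.Agent.S10174
import Groth.Agent.S9906
import Groth.Agent.S10176
import Groth.Agent.S9874

/-!
# Thickenings of algebraic spaces are universal homeomorphisms on points (helper47)
-/

set_option autoImplicit false
set_option linter.style.haveILetI false
universe u
open CategoryTheory CategoryTheory.Limits AlgebraicGeometry Opposite
open AlgSp

namespace Groth.Agent.R2.H47.ThickTop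

open Groth.Agent.S13210 in
/-- a monomorphism of fppf sheaves is injective on sections. -/
lemma app_injective_of_mono {S : Scheme.{u}} {F G : AlgSp.Sp S} (f : F ⟶ G) [Mono f] (T : Over S) :
    Function.Injective (f.hom.app (op T)) := by
  intro x y hxy
  have h : (yEquiv T F).symm x ≫ f = (yEquiv T F).symm y ≫ f := by
    rw [yEquiv_symm_comp, yEquiv_symm_comp, hxy]
  exact (yEquiv T F).symm.injective ((cancel_mono f).1 h)

variable {S : Scheme.{u}}

/-- a monomorphism of fppf sheaves is injective on points. -/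
lemma injective_points_map_of_mono {F G : AlgSp.Sp S} (f : F ⟶ G) [Mono f] :
    Function.Injective (AlgSp.Points.map f) := by
  intro x y
  induction x using AlgSp.Points.ind with | h p => ?_
  induction y using AlgSp.Points.ind with | h q => ?_
  rw [AlgSp.Points.map_mk, AlgSp.Points.map_mk, AlgSp.Points.mk_eq_mk_iff,
    AlgSp.Points.mk_eq_mk_iff]
  rintro ⟨Ω, _, w, a, b, h⟩
  refine ⟨Ω, inferInstance, w, a, b, ?_⟩
  apply app_injective_of_mono f
  have h' : G.obj.map a.op (f.hom.app _ p.val) = G.obj.map b.op (f.hom.app _ q.val) := h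
  rw [NatTrans.naturality_apply, NatTrans.naturality_apply]
  exact h'

theorem mono_of_isThickMor {X X' : AlgSp.Sp S} (i : X ⟶ X') (hi : AlgSp.IsThickMor i) : Mono i :=
  Groth.Agent.S9928.mono_of_repWith AlgSp.thick
    (fun _ _ f hf => by haveI : IsClosedImmersion f := hf.1; infer_instance) i hi

/-- a thickening of schemes is a homeomorphism. -/
lemma isHomeomorph_of_thick {T₀ T : Scheme.{u}} (e : T₀ ⟶ T) (he : AlgSp.thick e) :
    IsHomeomorph e := by
  haveI : IsClosedImmersion e := he.1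
  haveI : Surjective e := he.2
  rw [isHomeomorph_iff_isEmbedding_surjective]
  exact ⟨e.isClosedEmbedding.isEmbedding, e.surjective⟩

/-- a thickening induces a homeomorphism on points. -/
theorem isHomeomorph_points_map {X X' : AlgSp.Sp S} (i : X ⟶ X') (hi : AlgSp.IsThickMor i) :
    IsHomeomorph (AlgSp.Points.map i) := by
  haveI := mono_of_isThickMor i hi
  have hinj := injective_points_map_of_mono i
  have hsurj : Function.Surjective (AlgSp.Points.map i) :=
    Groth.Agent.S9906.surjective_map_of_repWith i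
      ⟨hi.1, fun _ _ g fst snd sq => (hi.2 g fst snd sq).2⟩
  refine ⟨AlgSp.Points.continuous_map i, ?_, hinj, hsurj⟩
  intro W hW
  rw [AlgSp.Points.isOpen_iff]
  intro T g
  have sq := hi.rep.isPullback g
  have he : AlgSp.thick (hi.rep.snd g).left := hi.property_snd g
  have hhom := isHomeomorph_of_thick _ he
  have key : AlgSp.Points.ofPt g ⁻¹' (AlgSp.Points.map i '' W) =
      (hi.rep.snd g).left '' (AlgSp.Points.ofPt (hi.rep.fst g) ⁻¹' W) := by
    have hcomp : ∀ t₀, AlgSp.Points.ofPt g ((hi.rep.snd g).left t₀) =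
        AlgSp.Points.map i (AlgSp.Points.ofPt (hi.rep.fst g) t₀) := by
      intro t₀
      rw [← Groth.Agent.S10176.ofPt_map_comp, ← sq.w, AlgSp.Points.map_ofPt]
    ext t
    constructor
    · rintro ⟨x, hxW, hx⟩
      obtain ⟨t₀, rfl⟩ := hhom.surjective t
      refine ⟨t₀, ?_, rfl⟩
      have : AlgSp.Points.ofPt (hi.rep.fst g) t₀ = x := hinj ((hcomp t₀).symm.trans hx.symm)
      change AlgSp.Points.ofPt (hi.rep.fst g) t₀ ∈ W
      rw [this]; exact hxW
    · rintro ⟨t₀, ht₀, rfl⟩
      exact ⟨_, ht₀, (hcomp t₀).symm⟩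
  rw [key]
  exact hhom.isOpenMap _ (hW.preimage (AlgSp.Points.continuous_ofPt _))

/-- thickenings are stable under base change. -/
lemma isThickMor_of_isPullback {A B C D : AlgSp.Sp S} {fst : A ⟶ B} {snd : A ⟶ C} {i : B ⟶ D}
    {g : C ⟶ D} (sq : IsPullback fst snd i g) (hi : AlgSp.IsThickMor i) : AlgSp.IsThickMor snd :=
  MorphismProperty.of_isPullback (P := AlgSp.RepWith (S := S) AlgSp.thick) sq hi

/-- `Q` only depends on the map on points up to homeomorphisms. -/
structure TopInv (Q : MorphismProperty (AlgSp.Sp S)) : Prop where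
  precomp : ∀ ⦃A B C : AlgSp.Sp S⦄ (k : A ⟶ B) (s : B ⟶ C),
    IsHomeomorph (AlgSp.Points.map k) → (Q (k ≫ s) ↔ Q s)
  postcomp : ∀ ⦃A B C : AlgSp.Sp S⦄ (s : A ⟶ B) (l : B ⟶ C),
    IsHomeomorph (AlgSp.Points.map l) → (Q (s ≫ l) ↔ Q s)

lemma points_map_comp_eq {A B C : AlgSp.Sp S} (k : A ⟶ B) (s : B ⟶ C) :
    AlgSp.Points.map (k ≫ s) = AlgSp.Points.map s ∘ AlgSp.Points.map k :=
  funext (AlgSp.Points.map_comp k s)

lemma closedMap_comp_homeo_iff {A B C : Type*} [TopologicalSpace A] [TopologicalSpace B]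
    [TopologicalSpace C] (e : A ≃ₜ B) (s : B → C) : IsClosedMap (s ∘ e) ↔ IsClosedMap s := by
  constructor
  · intro h
    have : s = (s ∘ e) ∘ e.symm := by ext x; simp
    rw [this]
    exact h.comp e.symm.isClosedMap
  · intro h
    exact h.comp e.isClosedMap

lemma homeo_comp_closedMap_iff {A B C : Type*} [TopologicalSpace A] [TopologicalSpace B]
    [TopologicalSpace C] (e : B ≃ₜ C) (s : A → B) : IsClosedMap (e ∘ s) ↔ IsClosedMap s := by
  constructor
  · intro h
    have : s = e.symm ∘ (e ∘ s) := by ext x; simp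
    rw [this]
    exact e.symm.isClosedMap.comp h
  · intro h
    exact e.isClosedMap.comp h

theorem topInv_closed : TopInv (S := S) AlgSp.IsClosedMor where
  precomp A B C k s hk := by
    change IsClosedMap (AlgSp.Points.map (k ≫ s)) ↔ IsClosedMap (AlgSp.Points.map s)
    rw [points_map_comp_eq]
    exact closedMap_comp_homeo_iff (hk.homeomorph _) _
  postcomp A B C s l hl := by
    change IsClosedMap (AlgSp.Points.map (s ≫ l)) ↔ IsClosedMap (AlgSp.Points.map s)
    rw [points_map_comp_eq]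
    exact homeo_comp_closedMap_iff (hl.homeomorph _) _

theorem topInv_open : TopInv (S := S) AlgSp.IsOpenMor where
  precomp A B C k s hk := by
    change IsOpenMap (AlgSp.Points.map (k ≫ s)) ↔ IsOpenMap (AlgSp.Points.map s)
    rw [points_map_comp_eq]
    exact (hk.homeomorph _).comp_isOpenMap_iff'
  postcomp A B C s l hl := by
    change IsOpenMap (AlgSp.Points.map (s ≫ l)) ↔ IsOpenMap (AlgSp.Points.map s)
    rw [points_map_comp_eq]
    exact (hl.homeomorph _).comp_isOpenMap_iff

theorem topInv_injective :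
    TopInv (S := S) (fun _ _ f => Function.Injective (AlgSp.Points.map f)) where
  precomp A B C k s hk := by
    rw [points_map_comp_eq]
    exact (hk.homeomorph _).toEquiv.injective_comp _
  postcomp A B C s l hl := by
    rw [points_map_comp_eq]
    exact (hl.homeomorph _).toEquiv.comp_injective _

theorem topInv_surjective : TopInv (S := S) AlgSp.IsSurjectiveMor where
  precomp A B C k s hk := by
    change Function.Surjective (AlgSp.Points.map (k ≫ s)) ↔ Function.Surjective (AlgSp.Points.map s)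
    rw [points_map_comp_eq]
    exact (hk.homeomorph _).toEquiv.surjective_comp _
  postcomp A B C s l hl := by
    change Function.Surjective (AlgSp.Points.map (s ≫ l)) ↔ Function.Surjective (AlgSp.Points.map s)
    rw [points_map_comp_eq]
    exact (hl.homeomorph _).toEquiv.comp_surjective _

/-- Claim A: precomposing with a thickening does not change `UnivSp Q`. -/
theorem univSp_precomp_thick {Q : MorphismProperty (AlgSp.Sp S)} (hQ : TopInv Q)
    {X X' Y' : AlgSp.Sp S} (i : X ⟶ X') (hi : AlgSp.IsThickMor i) (f' : X' ⟶ Y') :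
    AlgSp.UnivSp Q (i ≫ f') ↔ AlgSp.UnivSp Q f' := by
  constructor
  · intro h Z W' hZ g fst' snd' sq'
    -- `W₁ = X ×_{X'} W'`
    have sqk := IsPullback.of_hasPullback i fst'
    have hk : AlgSp.IsThickMor (pullback.snd i fst') := isThickMor_of_isPullback sqk hi
    have big : IsPullback (pullback.fst i fst') (pullback.snd i fst' ≫ snd') (i ≫ f') g :=
      sqk.paste_vert sq'
    have := h hZ g _ _ big
    exact (hQ.precomp _ _ (isHomeomorph_points_map _ hk)).1 this
  · intro h Z W₁ hZ g fst₁ snd₁ sq₁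
    have sq' := IsPullback.of_hasPullback f' g
    let k : W₁ ⟶ pullback f' g := pullback.lift (fst₁ ≫ i) snd₁ (by rw [Category.assoc, sq₁.w])
    have hk1 : k ≫ pullback.fst f' g = fst₁ ≫ i := pullback.lift_fst _ _ _
    have hk2 : k ≫ pullback.snd f' g = snd₁ := pullback.lift_snd _ _ _
    have sqk : IsPullback fst₁ k i (pullback.fst f' g) := by
      refine IsPullback.of_bot ?_ hk1.symm sq'
      rw [hk2]; exact sq₁
    have hk : AlgSp.IsThickMor k := isThickMor_of_isPullback sqk hi
    have := h hZ g _ _ sq'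
    rw [← hk2]
    exact (hQ.precomp _ _ (isHomeomorph_points_map _ hk)).2 this

/-- a pullback square over `Y` stays a pullback square after composing with a monomorphism. -/
lemma isPullback_comp_mono {A B C D E : AlgSp.Sp S} {fst : A ⟶ B} {snd : A ⟶ C} {f : B ⟶ D}
    {g : C ⟶ D} (sq : IsPullback fst snd f g) (j : D ⟶ E) [Mono j] :
    IsPullback fst snd (f ≫ j) (g ≫ j) := by
  refine ⟨⟨by rw [← Category.assoc, sq.w, Category.assoc]⟩, ⟨?_⟩⟩
  exact PullbackCone.isLimitOfCompMono f g j _ sq.isLimit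

/-- Claim B: postcomposing with a thickening does not change `UnivSp Q`. -/
theorem univSp_postcomp_thick {Q : MorphismProperty (AlgSp.Sp S)} (hQ : TopInv Q)
    {X Y Y' : AlgSp.Sp S} (f : X ⟶ Y) (j : Y ⟶ Y') (hj : AlgSp.IsThickMor j)
    (hY : AlgSp.IsAlgSpace Y) (hY' : AlgSp.IsAlgSpace Y') :
    AlgSp.UnivSp Q (f ≫ j) ↔ AlgSp.UnivSp Q f := by
  haveI := mono_of_isThickMor j hj
  constructor
  · intro h Z W hZ g fst snd sq
    exact h hZ (g ≫ j) fst snd (isPullback_comp_mono sq j)
  · intro h Z' W' hZ' g' fst' snd' sq'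
    have sqZ := IsPullback.of_hasPullback g' j
    have hl : AlgSp.IsThickMor (pullback.fst g' j) := isThickMor_of_isPullback sqZ.flip hj
    have hZ : AlgSp.IsAlgSpace (pullback g' j) :=
      Groth.Agent.S9874.isAlgSpace_of_isPullback hY'.diag hZ' hY sqZ
    let m : W' ⟶ pullback g' j := pullback.lift snd' (fst' ≫ f) (by rw [Category.assoc, sq'.w])
    have hm1 : m ≫ pullback.fst g' j = snd' := pullback.lift_fst _ _ _
    have hm2 : m ≫ pullback.snd g' j = fst' ≫ f := pullback.lift_snd _ _ _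
    have sqm : IsPullback fst' m f (pullback.snd g' j) := by
      refine IsPullback.of_bot ?_ hm2.symm sqZ.flip
      rw [hm1]; exact sq'
    have := h hZ _ _ _ sqm
    rw [← hm1]
    exact (hQ.postcomp _ _ (isHomeomorph_points_map _ hl)).2 this

/-- Universal topological properties transfer along morphisms of thickenings. -/
theorem univSp_iff_of_thick {Q : MorphismProperty (AlgSp.Sp S)} (hQ : TopInv Q)
    {X X' Y Y' : AlgSp.Sp S} (i : X ⟶ X') (j : Y ⟶ Y') (f : X ⟶ Y) (f' : X' ⟶ Y')
    (hi : AlgSp.IsThickMor i) (hj : AlgSp.IsThickMor j) (w : i ≫ f' = f ≫ j)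
    (hY : AlgSp.IsAlgSpace Y) (hY' : AlgSp.IsAlgSpace Y') :
    AlgSp.UnivSp Q f ↔ AlgSp.UnivSp Q f' := by
  rw [← univSp_postcomp_thick hQ f j hj hY hY', ← w, univSp_precomp_thick hQ i hi f']

/-- a thickening between algebraic spaces preserves and reflects quasi-compactness. -/
lemma isQuasiCompactSp_iff_of_thick {A B : AlgSp.Sp S} (k : A ⟶ B) (hk : AlgSp.IsThickMor k)
    (hA : AlgSp.IsAlgSpace A) (hB : AlgSp.IsAlgSpace B) :
    AlgSp.IsQuasiCompactSp A ↔ AlgSp.IsQuasiCompactSp B := by
  rw [Groth.Agent.S10174.isQuasiCompactSp_iff hA, Groth.Agent.S10174.isQuasiCompactSp_iff hB]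
  exact ⟨fun _ => ((isHomeomorph_points_map k hk).homeomorph _).compactSpace,
    fun _ => ((isHomeomorph_points_map k hk).homeomorph _).symm.compactSpace⟩

/-- Claim A for quasi-compact morphisms. -/
theorem isQuasiCompactMor_precomp_thick {X X' Y' : AlgSp.Sp S} (i : X ⟶ X')
    (hi : AlgSp.IsThickMor i) (f' : X' ⟶ Y') (hX : AlgSp.IsAlgSpace X) (hX' : AlgSp.IsAlgSpace X')
    (hY' : AlgSp.IsAlgSpace Y') :
    AlgSp.IsQuasiCompactMor (i ≫ f') ↔ AlgSp.IsQuasiCompactMor f' := by
  constructor
  · intro h Z W' hZ hZc g fst' snd' sq'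
    have sqk := IsPullback.of_hasPullback i fst'
    have hk : AlgSp.IsThickMor (pullback.snd i fst') := isThickMor_of_isPullback sqk hi
    have big : IsPullback (pullback.fst i fst') (pullback.snd i fst' ≫ snd') (i ≫ f') g :=
      sqk.paste_vert sq'
    have hW' : AlgSp.IsAlgSpace W' :=
      Groth.Agent.S9874.isAlgSpace_of_isPullback hY'.diag hX' hZ sq'
    have hW₁ : AlgSp.IsAlgSpace (pullback i fst') :=
      Groth.Agent.S9874.isAlgSpace_of_isPullback hX'.diag hX hW' sqk
    exact (isQuasiCompactSp_iff_of_thick _ hk hW₁ hW').1 (h hZ hZc g _ _ big)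
  · intro h Z W₁ hZ hZc g fst₁ snd₁ sq₁
    have sq' := IsPullback.of_hasPullback f' g
    let k : W₁ ⟶ pullback f' g := pullback.lift (fst₁ ≫ i) snd₁ (by rw [Category.assoc, sq₁.w])
    have hk1 : k ≫ pullback.fst f' g = fst₁ ≫ i := pullback.lift_fst _ _ _
    have hk2 : k ≫ pullback.snd f' g = snd₁ := pullback.lift_snd _ _ _
    have sqk : IsPullback fst₁ k i (pullback.fst f' g) := by
      refine IsPullback.of_bot ?_ hk1.symm sq'
      rw [hk2]; exact sq₁
    have hk : AlgSp.IsThickMor k := isThickMor_of_isPullback sqk hi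
    have hW' : AlgSp.IsAlgSpace (pullback f' g) :=
      Groth.Agent.S9874.isAlgSpace_of_isPullback hY'.diag hX' hZ sq'
    have hW₁ : AlgSp.IsAlgSpace W₁ :=
      Groth.Agent.S9874.isAlgSpace_of_isPullback hX'.diag hX hW' sqk
    exact (isQuasiCompactSp_iff_of_thick _ hk hW₁ hW').2 (h hZ hZc g _ _ sq')

/-- Claim B for quasi-compact morphisms. -/
theorem isQuasiCompactMor_postcomp_thick {X Y Y' : AlgSp.Sp S} (f : X ⟶ Y) (j : Y ⟶ Y')
    (hj : AlgSp.IsThickMor j) (hY : AlgSp.IsAlgSpace Y) (hY' : AlgSp.IsAlgSpace Y') :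
    AlgSp.IsQuasiCompactMor (f ≫ j) ↔ AlgSp.IsQuasiCompactMor f := by
  haveI := mono_of_isThickMor j hj
  constructor
  · intro h Z W hZ hZc g fst snd sq
    exact h hZ hZc (g ≫ j) fst snd (isPullback_comp_mono sq j)
  · intro h Z' W' hZ' hZc' g' fst' snd' sq'
    have sqZ := IsPullback.of_hasPullback g' j
    have hl : AlgSp.IsThickMor (pullback.fst g' j) := isThickMor_of_isPullback sqZ.flip hj
    have hZ : AlgSp.IsAlgSpace (pullback g' j) :=
      Groth.Agent.S9874.isAlgSpace_of_isPullback hY'.diag hZ' hY sqZ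
    have hZc : AlgSp.IsQuasiCompactSp (pullback g' j) :=
      (isQuasiCompactSp_iff_of_thick _ hl hZ hZ').2 hZc'
    let m : W' ⟶ pullback g' j := pullback.lift snd' (fst' ≫ f) (by rw [Category.assoc, sq'.w])
    have hm1 : m ≫ pullback.fst g' j = snd' := pullback.lift_fst _ _ _
    have hm2 : m ≫ pullback.snd g' j = fst' ≫ f := pullback.lift_snd _ _ _
    have sqm : IsPullback fst' m f (pullback.snd g' j) := by
      refine IsPullback.of_bot ?_ hm2.symm sqZ.flip
      rw [hm1]; exact sq'
    exact h hZ hZc _ _ _ sqm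

theorem isQuasiCompactMor_iff_of_thick {X X' Y Y' : AlgSp.Sp S} (i : X ⟶ X') (j : Y ⟶ Y')
    (f : X ⟶ Y) (f' : X' ⟶ Y') (hi : AlgSp.IsThickMor i) (hj : AlgSp.IsThickMor j)
    (w : i ≫ f' = f ≫ j) (hX : AlgSp.IsAlgSpace X) (hX' : AlgSp.IsAlgSpace X')
    (hY : AlgSp.IsAlgSpace Y) (hY' : AlgSp.IsAlgSpace Y') :
    AlgSp.IsQuasiCompactMor f ↔ AlgSp.IsQuasiCompactMor f' := by
  rw [← isQuasiCompactMor_postcomp_thick f j hj hY hY', ← w,
    isQuasiCompactMor_precomp_thick i hi f' hX hX' hY']

theorem isSurjectiveMor_iff_of_thick {X X' Y Y' : AlgSp.Sp S} (i : X ⟶ X') (j : Y ⟶ Y')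
    (f : X ⟶ Y) (f' : X' ⟶ Y') (hi : AlgSp.IsThickMor i) (hj : AlgSp.IsThickMor j)
    (w : i ≫ f' = f ≫ j) : AlgSp.IsSurjectiveMor f ↔ AlgSp.IsSurjectiveMor f' := by
  rw [← topInv_surjective.postcomp f j (isHomeomorph_points_map j hj), ← w,
    topInv_surjective.precomp i f' (isHomeomorph_points_map i hi)]

end Groth.Agent.R2.H47.ThickTop
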