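import Mathlib
import Groth.Prelude.Def_AlgSpInf
import Groth.Prelude.Def_AlgSp4
import Groth.Agent.S9874
import Groth.Agent.S10175
import Groth.Agent.S10176
import Groth.Agent.S10177
import Groth.Agent.R2.H47ThickTop
import Groth.Agent.R2.H47SmLiftSch

/-!
# A smooth morphism of algebraic spaces lifts etale-locally along any thickening (helper47)
-/

set_option autoImplicit false
universe u
open CategoryTheory CategoryTheory.Limits AlgebraicGeometry
open AlgSp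

namespace Groth.Agent.R2.H47.SmLift

variable {S : Scheme.{u}}

/-- an affine etale chart through a given point of an algebraic space. -/
lemma exists_affine_chart {Z : AlgSp.Sp S} (hZ : AlgSp.IsAlgSpace Z) (ζ : AlgSp.Points Z) :
    ∃ (R : CommRingCat.{u}) (s : Spec R ⟶ S) (p : (AlgSp.yon S).obj (Over.mk s) ⟶ Z)
      (u : Spec R), AlgSp.RepWith @Etale p ∧ AlgSp.Points.ofPt p u = ζ := by
  obtain ⟨U₀, p₀, hpe, hps⟩ := hZ.atlas
  obtain ⟨u₀, hu₀⟩ := Groth.Agent.S10177.surjective_ofPt p₀ hps ζ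
  obtain ⟨_, ⟨O, hO, rfl⟩, huO, -⟩ :=
    U₀.left.isBasis_affineOpens.exists_subset_of_mem_open (Set.mem_univ u₀) isOpen_univ
  let ι : Spec Γ(U₀.left, O) ⟶ U₀.left := hO.fromSpec
  let φ : Over.mk (ι ≫ U₀.hom) ⟶ U₀ := Over.homMk ι rfl
  refine ⟨Γ(U₀.left, O), ι ≫ U₀.hom, (AlgSp.yon S).map φ ≫ p₀, hO.primeIdealOf ⟨u₀, huO⟩, ?_, ?_⟩
  · refine (AlgSp.RepWith @Etale).comp_mem _ _ ?_ hpe
    rw [AlgSp.repWith_yon_map_iff]
    change Etale ι
    infer_instance
  · rw [Groth.Agent.S10176.ofPt_map_comp]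
    change AlgSp.Points.ofPt p₀ (ι (hO.primeIdealOf ⟨u₀, huO⟩)) = ζ
    rw [hO.fromSpec_primeIdealOf ⟨u₀, huO⟩]
    exact hu₀

/-- **Etale-local lifting along a thickening for a smooth morphism of algebraic spaces.** -/
theorem main {X Y T T' : AlgSp.Space S} (f : X ⟶ Y)
    (hf : AlgSp.LocP @Smooth f.hom) (i : T ⟶ T')
    (hi : AlgSp.IsThickMor i.hom)
    (a : T ⟶ X) (b : T' ⟶ Y) (w : a ≫ f = i ≫ b) (t' : AlgSp.Points T'.obj) :
    ∃ (V : Over S) (e : (AlgSp.yon S).obj V ⟶ T'.obj) (ℓ : (AlgSp.yon S).obj V ⟶ X.obj),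
      AlgSp.RepWith @Etale e ∧ t' ∈ Set.range (AlgSp.Points.ofPt e) ∧ ℓ ≫ f.hom = e ≫ b.hom ∧
      ∀ (P : AlgSp.Sp S) (p₁ : P ⟶ T.obj) (p₂ : P ⟶ (AlgSp.yon S).obj V),
        IsPullback p₁ p₂ i.hom e → p₂ ≫ ℓ = p₁ ≫ a.hom := by
  have w' : a.hom ≫ f.hom = i.hom ≫ b.hom := congr($(w).hom)
  -- Step 1: an affine etale chart `q` of `Y` through the image of `t'`
  obtain ⟨R₁, s₁, q, w₁, hq, hw₁⟩ := exists_affine_chart Y.property (AlgSp.Points.map b.hom t')
  -- Step 2: an affine etale chart of `T' ×_Y W` through a point over `t'`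
  have sqZ' := IsPullback.of_hasPullback b.hom q
  have hZ' : AlgSp.IsAlgSpace (pullback b.hom q) :=
    Groth.Agent.S9874.isAlgSpace_of_isPullback Y.property.diag T'.property
      (AlgSp.IsAlgSpace.yon_obj _) sqZ'
  obtain ⟨ζ', -, hζ'⟩ := Groth.Agent.S10175.exists_point_of_isPullback sqZ'.flip
    (AlgSp.Points.ofScheme _ w₁) t' (by rw [← AlgSp.Points.ofPt_eq_map_ofScheme]; exact hw₁)
  obtain ⟨A, sA, cZ, v', hcZ, hv'⟩ := exists_affine_chart hZ' ζ'
  have hfst' : AlgSp.RepWith @Etale (pullback.fst b.hom q) :=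
    MorphismProperty.of_isPullback (P := AlgSp.RepWith @Etale) sqZ'.flip hq
  let c : (AlgSp.yon S).obj (Over.mk sA) ⟶ T'.obj := cZ ≫ pullback.fst b.hom q
  have hc : AlgSp.RepWith @Etale c := (AlgSp.RepWith @Etale).comp_mem _ _ hcZ hfst'
  obtain ⟨bW, hbW⟩ := (AlgSp.yon S).map_surjective (cZ ≫ pullback.snd b.hom q)
  have hcb : c ≫ b.hom = (AlgSp.yon S).map bW ≫ q := by
    rw [hbW, Category.assoc, Category.assoc, pullback.condition]
  have hcv' : AlgSp.Points.ofPt c v' = t' := by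
    rw [← AlgSp.Points.map_ofPt, hv', hζ']
  -- Step 3: the base change of the thickening to the chart
  have sq₀ := hi.rep.isPullback c
  have hj : AlgSp.thick (hi.rep.snd c).left := hi.property_snd c
  set V₀ := hi.rep.pullback c with hV₀
  set j : V₀ ⟶ Over.mk sA := hi.rep.snd c with hjdef
  set pr : (AlgSp.yon S).obj V₀ ⟶ T.obj := hi.rep.fst c with hprdef
  haveI : IsClosedImmersion j.left := hj.1
  haveI : Surjective j.left := hj.2
  -- Step 4: the point of `V₀`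
  obtain ⟨t, ht⟩ := (Groth.Agent.R2.H47.ThickTop.isHomeomorph_points_map i.hom hi).surjective t'
  obtain ⟨P₀, hP₀1, hP₀2⟩ := Groth.Agent.S10175.exists_point_of_isPullback sq₀
    t (AlgSp.Points.ofScheme _ v') (by rw [ht, ← AlgSp.Points.ofPt_eq_map_ofScheme]; exact hcv'.symm)
  obtain ⟨v₀, rfl⟩ := (AlgSp.Points.schemeHomeo V₀).surjective P₀
  have hv₀t : AlgSp.Points.ofPt pr v₀ = t := by
    rw [AlgSp.Points.ofPt_eq_map_ofScheme]; exact hP₀1
  have hv₀v' : j.left v₀ = v' := by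
    apply (AlgSp.Points.schemeHomeo (Over.mk sA)).injective
    rw [← AlgSp.Points.map_yon_map_apply]
    exact hP₀2
  -- Step 5: an affine etale chart of `X ×_Y W` through the image of `v₀`
  have sqZ := IsPullback.of_hasPullback f.hom q
  have hZ : AlgSp.IsAlgSpace (pullback f.hom q) :=
    Groth.Agent.S9874.isAlgSpace_of_isPullback Y.property.diag X.property
      (AlgSp.IsAlgSpace.yon_obj _) sqZ
  have hz₀ : (pr ≫ a.hom) ≫ f.hom = (AlgSp.yon S).map (j ≫ bW) ≫ q := by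
    rw [Category.assoc, w', ← Category.assoc, sq₀.w, Category.assoc, hcb, Functor.map_comp,
      Category.assoc]
  let z₀ : (AlgSp.yon S).obj V₀ ⟶ pullback f.hom q := pullback.lift _ _ hz₀
  obtain ⟨R₂, s₂, pZ, u, hpZ, hu⟩ := exists_affine_chart hZ (AlgSp.Points.ofPt z₀ v₀)
  have hfst : AlgSp.RepWith @Etale (pullback.fst f.hom q) :=
    MorphismProperty.of_isPullback (P := AlgSp.RepWith @Etale) sqZ.flip hq
  let p : (AlgSp.yon S).obj (Over.mk s₂) ⟶ X.obj := pZ ≫ pullback.fst f.hom q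
  have hp : AlgSp.RepWith @Etale p := (AlgSp.RepWith @Etale).comp_mem _ _ hpZ hfst
  obtain ⟨h, hh⟩ := (AlgSp.yon S).map_surjective (pZ ≫ pullback.snd f.hom q)
  have hpf : p ≫ f.hom = (AlgSp.yon S).map h ≫ q := by
    rw [hh, Category.assoc, Category.assoc, pullback.condition]
  haveI hsm : Smooth h.left := hf p q h hp hq hpf
  -- Step 6: the etale neighbourhood `V₁` of `v₀` mapping to the chart
  have sq₁ := hpZ.rep.isPullback z₀
  have hg : Etale (hpZ.rep.snd z₀).left := hpZ.property_snd z₀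
  set V₁ := hpZ.rep.pullback z₀ with hV₁
  set g : V₁ ⟶ V₀ := hpZ.rep.snd z₀ with hgdef
  obtain ⟨a₁, ha₁⟩ := (AlgSp.yon S).map_surjective (hpZ.rep.fst z₀)
  rw [← ha₁] at sq₁
  obtain ⟨v₁, hv₁u, hv₁v₀⟩ := Groth.Agent.S10176.exists_point_of_isPullback_yon sq₁ u v₀ hu
  -- Step 7: compatibility over `W`
  have hcomp : a₁ ≫ h = g ≫ j ≫ bW := by
    apply (AlgSp.yon S).map_injective
    rw [Functor.map_comp, hh, ← Category.assoc, sq₁.w, Category.assoc]
    have : z₀ ≫ pullback.snd f.hom q = (AlgSp.yon S).map (j ≫ bW) := pullback.lift_snd _ _ _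
    rw [this, ← Functor.map_comp]
  have hcompL : a₁.left ≫ h.left = g.left ≫ j.left ≫ bW.left := congr($(hcomp).left)
  have hcompX : (AlgSp.yon S).map a₁ ≫ p = (AlgSp.yon S).map g ≫ pr ≫ a.hom := by
    change (AlgSp.yon S).map a₁ ≫ pZ ≫ _ = _
    rw [← Category.assoc, sq₁.w, Category.assoc]
    have : z₀ ≫ pullback.fst f.hom q = pr ≫ a.hom := pullback.lift_fst _ _ _
    rw [this]
  -- Step 8: the scheme-level core
  haveI : Etale g.left := hg
  obtain ⟨V'', V₂, e, j₂, k, lam, x, he, hpb, hkx, hlam, hj₂⟩ :=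
    Groth.Agent.R2.H47.SmLiftSch.sch_core (A := A) (R₁ := R₁) (R₂ := R₂) j.left g.left v₁ h.left
      a₁.left bW.left hcompL
  -- Step 9: objects over `S`
  let V''o : Over S := Over.mk (e ≫ sA)
  let eo : V''o ⟶ Over.mk sA := Over.homMk e rfl
  have hlamS : lam ≫ s₂ = e ≫ sA := by
    have h1 : h.left ≫ s₁ = s₂ := Over.w h
    have h2 : bW.left ≫ s₁ = sA := Over.w bW
    rw [← h1, ← Category.assoc, hlam, Category.assoc, h2]
  let lamo : V''o ⟶ Over.mk s₂ := Over.homMk lam hlamS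
  let V₂o : Over S := Over.mk (j₂ ≫ e ≫ sA)
  let j₂o : V₂o ⟶ V''o := Over.homMk j₂ rfl
  have hkS : k ≫ V₁.hom = j₂ ≫ e ≫ sA := by
    have h1 : g.left ≫ V₀.hom = V₁.hom := Over.w g
    have h2 : j.left ≫ sA = V₀.hom := Over.w j
    rw [← Category.assoc j₂, hpb.w, ← h1, ← h2]
    simp
  let ko : V₂o ⟶ V₁ := Over.homMk k hkS
  have hpbO : IsPullback j₂o (ko ≫ g) eo j :=
    IsPullback.of_map (Over.forget S) (Over.OverMorphism.ext hpb.w) hpb
  have hpbY := hpbO.map (AlgSp.yon S)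
  have sqref : IsPullback ((AlgSp.yon S).map (ko ≫ g) ≫ pr) ((AlgSp.yon S).map j₂o) i.hom
      ((AlgSp.yon S).map eo ≫ c) := hpbY.flip.paste_horiz sq₀
  have hlh : lamo ≫ h = eo ≫ bW := Over.OverMorphism.ext hlam
  have hjl : j₂o ≫ lamo = ko ≫ a₁ := Over.OverMorphism.ext hj₂
  -- Step 10: the result
  refine ⟨V''o, (AlgSp.yon S).map eo ≫ c, (AlgSp.yon S).map lamo ≫ p, ?_, ?_, ?_, ?_⟩
  · refine (AlgSp.RepWith @Etale).comp_mem _ _ ?_ hc
    rw [AlgSp.repWith_yon_map_iff]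
    exact he
  · refine ⟨j₂ x, ?_⟩
    rw [Groth.Agent.S10176.ofPt_map_comp, ← hcv']
    congr 1
    change e (j₂ x) = v'
    rw [← Scheme.Hom.comp_apply, hpb.w, Scheme.Hom.comp_apply, Scheme.Hom.comp_apply, hkx, hv₁v₀,
      hv₀v']
  · rw [Category.assoc, hpf, ← Category.assoc, ← Functor.map_comp, hlh, Functor.map_comp,
      Category.assoc, Category.assoc, hcb]
  · intro P p₁ p₂ hP
    obtain ⟨ε, hε1, hε2⟩ : ∃ ε : P ⟶ (AlgSp.yon S).obj V₂o,
        ε ≫ ((AlgSp.yon S).map (ko ≫ g) ≫ pr) = p₁ ∧ ε ≫ (AlgSp.yon S).map j₂o = p₂ :=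
      ⟨sqref.lift p₁ p₂ hP.w, sqref.lift_fst _ _ _, sqref.lift_snd _ _ _⟩
    rw [← hε1, ← hε2]
    simp only [Category.assoc]
    congr 1
    rw [← Category.assoc, ← Functor.map_comp, hjl, Functor.map_comp, Category.assoc, hcompX,
      Functor.map_comp, Category.assoc]

end Groth.Agent.R2.H47.SmLift
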