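import Groth.Agent.R2.H47SpColim

/-!
# Lifting along first order thickenings of algebraic spaces (helper47)

Standard form of an affine square zero closed immersion, and existence/uniqueness of dotted arrows along
first order thickenings of algebraic spaces, from the affine case.
-/

set_option autoImplicit false
universe u
open CategoryTheory CategoryTheory.Limits AlgebraicGeometry Opposite
open AlgSp

namespace Groth.Agent.R2.H47.SpThick

open Groth.Agent.S13210 Groth.Agent.R2.H47.InfSq Groth.Agent.R2.H47.SpColim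
  Groth.Agent.Lib.Helper15

variable {S : Scheme.{u}}

/-! ## Standard form of an affine square zero closed immersion -/

lemma sq_zero_ker_appTop {X Y : Scheme.{u}} (k : X ⟶ Y) [IsAffine Y] [QuasiCompact k]
    (h : k.ker * k.ker = ⊥) : (RingHom.ker k.appTop.hom) ^ 2 = ⊥ := by
  have h1 := congr(($h).ideal ⟨⊤, isAffineOpen_top Y⟩)
  rw [Scheme.IdealSheafData.ideal_mul, Pi.mul_apply, Scheme.Hom.ker_apply,
    Scheme.IdealSheafData.ideal_bot, Pi.bot_apply] at h1
  rw [pow_two]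
  exact h1

/-- an affine square zero closed immersion over `S` is isomorphic to `Spec (D ⧸ K) ⟶ Spec D`. -/
lemma exists_standard_form {W₀ W : Over S} (k : W₀ ⟶ W) (hW : IsAffine W.left)
    (hk : IsClosedImmersion k.left) (hsq : AlgSp.sqZero k.left) :
    ∃ (D : Type u) (_ : CommRing D) (K : Ideal D) (_ : K ^ 2 = ⊥) (str : Spec (.of D) ⟶ S)
      (e' : Over.mk str ≅ W)
      (e : Over.mk (Spec.map (CommRingCat.ofHom (Ideal.Quotient.mk K)) ≫ str) ≅ W₀),
      e.hom ≫ k = (Over.homMk (Spec.map (CommRingCat.ofHom (Ideal.Quotient.mk K))) rfl :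
        Over.mk (Spec.map (CommRingCat.ofHom (Ideal.Quotient.mk K)) ≫ str) ⟶ Over.mk str) ≫
          e'.hom := by
  obtain ⟨hW₀, hsurj⟩ := IsClosedImmersion.isAffine_surjective_of_isAffine k.left
  let K : Ideal Γ(W.left, ⊤) := RingHom.ker k.left.appTop.hom
  have hK : K ^ 2 = ⊥ := sq_zero_ker_appTop k.left hsq
  let ρ : (Γ(W.left, ⊤) ⧸ K) ≃+* Γ(W₀.left, ⊤) :=
    RingHom.quotientKerEquivOfSurjective hsurj
  let str : Spec (.of Γ(W.left, ⊤)) ⟶ S := W.left.isoSpec.inv ≫ W.hom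
  let e₀ : Spec (.of (Γ(W.left, ⊤) ⧸ K)) ≅ W₀.left :=
    (Scheme.Spec.mapIso ρ.toCommRingCatIso.op).symm ≪≫ W₀.left.isoSpec.symm
  have hρ : k.left.appTop ≫ ρ.toCommRingCatIso.inv =
      CommRingCat.ofHom (Ideal.Quotient.mk K) := by
    ext x
    change ρ.symm (k.left.appTop.hom x) = Ideal.Quotient.mk K x
    rw [RingEquiv.symm_apply_eq]
    rfl
  have hcomm : e₀.hom ≫ k.left =
      Spec.map (CommRingCat.ofHom (Ideal.Quotient.mk K)) ≫ W.left.isoSpec.inv := by
    change (Spec.map ρ.toCommRingCatIso.inv ≫ W₀.left.isoSpec.inv) ≫ k.left = _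
    rw [Category.assoc, ← Scheme.isoSpec_inv_naturality, ← Category.assoc, ← Spec.map_comp, hρ]
  have hw₀ : e₀.hom ≫ W₀.hom = Spec.map (CommRingCat.ofHom (Ideal.Quotient.mk K)) ≫ str := by
    rw [← Over.w k, ← Category.assoc, hcomm, Category.assoc]
  refine ⟨Γ(W.left, ⊤), inferInstance, K, hK, str, Over.isoMk W.left.isoSpec.symm rfl,
    Over.isoMk e₀ hw₀, ?_⟩
  apply Over.OverMorphism.ext
  exact hcomm


section raw

variable {F G : AlgSp.Sp S} {f : F ⟶ G} (D : Type u) [CommRing D] (K : Ideal D) (hK : K ^ 2 = ⊥)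
  (str : Spec (.of D) ⟶ S)

/-- the standard closed immersion `Spec (D ⧸ K) ⟶ Spec D` over `S`. -/
noncomputable abbrev stdJ : Over.mk (Spec.map (CommRingCat.ofHom (Ideal.Quotient.mk K)) ≫ str) ⟶
    Over.mk str :=
  Over.homMk (Spec.map (CommRingCat.ofHom (Ideal.Quotient.mk K))) rfl

include hK in
lemma uniq_of_data (hf : AlgSp.IsFormallyUnramifiedMor f)
    (l l' : (AlgSp.yon S).obj (Over.mk str) ⟶ F)
    (h1 : (AlgSp.yon S).map (stdJ D K str) ≫ l = (AlgSp.yon S).map (stdJ D K str) ≫ l')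
    (h2 : l ≫ f = l' ≫ f) : l = l' :=
  hf (mkSq f D K hK str ((AlgSp.yon S).map (stdJ D K str) ≫ l) (l ≫ f) (Category.assoc _ _ _))
    l l' rfl rfl h1.symm h2.symm

include hK in
lemma lift_of_data (hf : AlgSp.IsFormallySmoothMor f)
    (top : (AlgSp.yon S).obj (Over.mk (Spec.map (CommRingCat.ofHom (Ideal.Quotient.mk K)) ≫ str)) ⟶ F)
    (bot : (AlgSp.yon S).obj (Over.mk str) ⟶ G)
    (comm : top ≫ f = (AlgSp.yon S).map (stdJ D K str) ≫ bot) :
    ∃ l : (AlgSp.yon S).obj (Over.mk str) ⟶ F,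
      (AlgSp.yon S).map (stdJ D K str) ≫ l = top ∧ l ≫ f = bot :=
  hf (mkSq f D K hK str top bot comm)

end raw

section affine

variable {F G : AlgSp.Sp S} {f : F ⟶ G} {W₀ W : Over S} (k : W₀ ⟶ W) (hW : IsAffine W.left)
  (hk : IsClosedImmersion k.left) (hsq : AlgSp.sqZero k.left)

include hW hk hsq

/-- uniqueness of dotted arrows along an affine square zero closed immersion, for a formally unramified
morphism. -/
lemma uniq_of_sqZero (hf : AlgSp.IsFormallyUnramifiedMor f)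
    (l l' : (AlgSp.yon S).obj W ⟶ F)
    (h1 : (AlgSp.yon S).map k ≫ l = (AlgSp.yon S).map k ≫ l') (h2 : l ≫ f = l' ≫ f) : l = l' := by
  obtain ⟨D, _, K, hK, str, e', e, he⟩ := exists_standard_form k hW hk hsq
  have he' : e.hom ≫ k = stdJ D K str ≫ e'.hom := he
  have key : (AlgSp.yon S).map e'.hom ≫ l = (AlgSp.yon S).map e'.hom ≫ l' := by
    apply uniq_of_data D K hK str hf
    · rw [← Category.assoc, ← Category.assoc, ← Functor.map_comp, ← he', Functor.map_comp,
        Category.assoc, Category.assoc, h1]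
    · rw [Category.assoc, Category.assoc, h2]
  exact (cancel_epi ((AlgSp.yon S).map e'.hom)).1 key

/-- existence of dotted arrows along an affine square zero closed immersion, for a formally smooth
morphism. -/
lemma lift_of_sqZero (hf : AlgSp.IsFormallySmoothMor f)
    (top : (AlgSp.yon S).obj W₀ ⟶ F) (bot : (AlgSp.yon S).obj W ⟶ G)
    (comm : top ≫ f = (AlgSp.yon S).map k ≫ bot) :
    ∃ l : (AlgSp.yon S).obj W ⟶ F, (AlgSp.yon S).map k ≫ l = top ∧ l ≫ f = bot := by
  obtain ⟨D, _, K, hK, str, e', e, he⟩ := exists_standard_form k hW hk hsq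
  have he' : e.hom ≫ k = stdJ D K str ≫ e'.hom := he
  obtain ⟨l, hl1, hl2⟩ := lift_of_data D K hK str hf ((AlgSp.yon S).map e.hom ≫ top)
    ((AlgSp.yon S).map e'.hom ≫ bot) (by
      rw [Category.assoc, comm, ← Category.assoc, ← Functor.map_comp, he', Functor.map_comp,
        Category.assoc])
  refine ⟨(AlgSp.yon S).map e'.inv ≫ l, ?_, ?_⟩
  · have h3 : k ≫ e'.inv = e.inv ≫ stdJ D K str := by
      rw [Iso.eq_inv_comp, ← Category.assoc, he', Category.assoc, Iso.hom_inv_id, Category.comp_id]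
    rw [← Category.assoc, ← Functor.map_comp, h3, Functor.map_comp, Category.assoc, hl1,
      ← Category.assoc, ← Functor.map_comp, Iso.inv_hom_id, (AlgSp.yon S).map_id, Category.id_comp]
  · rw [Category.assoc, hl2, ← Category.assoc, ← Functor.map_comp, Iso.inv_hom_id,
      (AlgSp.yon S).map_id, Category.id_comp]

end affine


/-! ## From affine thickenings to thickenings of algebraic spaces -/

section space

variable {F G : AlgSp.Sp S} (f : F ⟶ G)
  (Adm : ∀ ⦃W₀ : Over S⦄, ((AlgSp.yon S).obj W₀ ⟶ F) → Prop)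

/-- existence of dotted arrows along affine square zero thickenings, for admissible top arrows. -/
def AffE : Prop :=
  ∀ ⦃W₀ W : Over S⦄ (k : W₀ ⟶ W), IsAffine W.left → IsClosedImmersion k.left → Surjective k.left →
    AlgSp.sqZero k.left → ∀ (top : (AlgSp.yon S).obj W₀ ⟶ F) (bot : (AlgSp.yon S).obj W ⟶ G),
      Adm top → top ≫ f = (AlgSp.yon S).map k ≫ bot →
        ∃ l : (AlgSp.yon S).obj W ⟶ F, (AlgSp.yon S).map k ≫ l = top ∧ l ≫ f = bot

/-- uniqueness of dotted arrows along affine square zero thickenings, for admissible top arrows. -/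
def AffU : Prop :=
  ∀ ⦃W₀ W : Over S⦄ (k : W₀ ⟶ W), IsAffine W.left → IsClosedImmersion k.left → Surjective k.left →
    AlgSp.sqZero k.left → ∀ (l l' : (AlgSp.yon S).obj W ⟶ F), Adm ((AlgSp.yon S).map k ≫ l) →
      (AlgSp.yon S).map k ≫ l = (AlgSp.yon S).map k ≫ l' → l ≫ f = l' ≫ f → l = l'

variable {f Adm}

/-- the data of a first order thickening of sheaves on an affine etale chart of the target. -/
lemma exists_chart_pullback {T T' : AlgSp.Sp S} {j : T ⟶ T'} (hj : AlgSp.IsFOThickMor j)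
    {W : Over S} (c : (AlgSp.yon S).obj W ⟶ T') (hW : IsAffine W.left)
    (hc : AlgSp.RepWith @Etale c) :
    ∃ (W₀ : Over S) (k : W₀ ⟶ W) (fst : (AlgSp.yon S).obj W₀ ⟶ T),
      IsPullback fst ((AlgSp.yon S).map k) j c ∧ IsClosedImmersion k.left ∧ Surjective k.left ∧
        AlgSp.sqZero k.left := by
  obtain ⟨W₀, k, fst, hpb⟩ := hj.1.1 c
  have ht : AlgSp.thick k.left := hj.1.2 _ _ k hpb
  exact ⟨W₀, k, fst, hpb, ht.1, ht.2, hj.2 c fst k hW hc hpb⟩

/-- uniqueness of dotted arrows along a first order thickening of sheaves with target an algebraic space. -/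
theorem uniq_lift_of_affine (hU : AffU f Adm) {T T' : AlgSp.Sp S} (hT' : AlgSp.IsAlgSpace T')
    (j : T ⟶ T') (hj : AlgSp.IsFOThickMor j) (l l' : T' ⟶ F)
    (ha : ∀ ⦃W₀ : Over S⦄ (t : (AlgSp.yon S).obj W₀ ⟶ T), Adm (t ≫ j ≫ l))
    (h1 : j ≫ l = j ≫ l') (h2 : l ≫ f = l' ≫ f) : l = l' := by
  refine hom_ext_of_charts hT' l l' (fun W c hW hc => ?_)
  obtain ⟨W₀, k, fst, hpb, hk1, hk2, hk3⟩ := exists_chart_pullback hj c hW hc
  apply hU k hW hk1 hk2 hk3
  · rw [← Category.assoc, ← hpb.w, Category.assoc]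
    exact ha fst
  · rw [← Category.assoc, ← Category.assoc, ← hpb.w, Category.assoc, Category.assoc, h1]
  · rw [Category.assoc, Category.assoc, h2]

/-- existence and uniqueness of dotted arrows along a first order thickening of sheaves with target an
algebraic space, from the case of affine square zero thickenings. -/
theorem exists_unique_lift_of_affine
    (hE : AffE f Adm) (hU : AffU f Adm) {T T' : AlgSp.Sp S} (hT' : AlgSp.IsAlgSpace T')
    (j : T ⟶ T') (hj : AlgSp.IsFOThickMor j) (a : T ⟶ F)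
    (ha : ∀ ⦃W₀ : Over S⦄ (t : (AlgSp.yon S).obj W₀ ⟶ T), Adm (t ≫ a)) (b : T' ⟶ G)
    (w : a ≫ f = j ≫ b) : ∃! l : T' ⟶ F, j ≫ l = a ∧ l ≫ f = b := by
  -- the condition on the thin part
  let Thin : ∀ {W : Over S} (c : (AlgSp.yon S).obj W ⟶ T') (m : (AlgSp.yon S).obj W ⟶ F), Prop :=
    fun {W} c m => ∀ ⦃Z : Over S⦄ (t : (AlgSp.yon S).obj Z ⟶ T) (z : Z ⟶ W),
      t ≫ j = (AlgSp.yon S).map z ≫ c → (AlgSp.yon S).map z ≫ m = t ≫ a
  have hloc : ∀ (W : Over S) (c : (AlgSp.yon S).obj W ⟶ T'), IsAffine W.left →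
      AlgSp.RepWith @Etale c → ∃! m : (AlgSp.yon S).obj W ⟶ F, Thin c m ∧ m ≫ f = c ≫ b := by
    intro W c hW hc
    obtain ⟨W₀, k, fst, hpb, hk1, hk2, hk3⟩ := exists_chart_pullback hj c hW hc
    obtain ⟨m, hm1, hm2⟩ := hE k hW hk1 hk2 hk3 (fst ≫ a) (c ≫ b) (ha fst) (by
      rw [Category.assoc, w, ← Category.assoc, hpb.w, Category.assoc])
    refine ⟨m, ⟨?_, hm2⟩, ?_⟩
    · intro Z t z htz
      have e1 : hpb.lift t ((AlgSp.yon S).map z) htz ≫ fst = t := hpb.lift_fst _ _ _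
      have e2 : hpb.lift t ((AlgSp.yon S).map z) htz ≫ (AlgSp.yon S).map k = (AlgSp.yon S).map z :=
        hpb.lift_snd _ _ _
      rw [← e2, Category.assoc, hm1, ← Category.assoc, e1]
    · rintro m' ⟨hm'1, hm'2⟩
      have e3 : (AlgSp.yon S).map k ≫ m' = fst ≫ a := hm'1 fst k hpb.w
      apply hU k hW hk1 hk2 hk3
      · rw [e3]
        exact ha fst
      · rw [e3, hm1]
      · rw [hm'2, hm2]
  let m : ∀ (W : Over S) (c : (AlgSp.yon S).obj W ⟶ T'), IsAffine W.left →
      AlgSp.RepWith @Etale c → ((AlgSp.yon S).obj W ⟶ F) :=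
    fun W c hW hc => (hloc W c hW hc).exists.choose
  have hm : ∀ W c hW hc, Thin c (m W c hW hc) ∧ m W c hW hc ≫ f = c ≫ b :=
    fun W c hW hc => (hloc W c hW hc).exists.choose_spec
  obtain ⟨l, hl⟩ := exists_of_chartFamily hT' m (by
    intro W W' q c c' hW hW' hc hc' hcc'
    subst hcc'
    refine (hloc W' _ hW' hc').unique (hm W' _ hW' hc') ⟨?_, ?_⟩
    · intro Z t z htz
      rw [← Category.assoc, ← Functor.map_comp]
      apply (hm W c hW hc).1 t (z ≫ q)
      rw [htz, Functor.map_comp, Category.assoc]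
    · rw [Category.assoc, (hm W c hW hc).2, Category.assoc])
  have hlf : l ≫ f = b := by
    refine hom_ext_of_charts hT' _ _ (fun W c hW hc => ?_)
    rw [← Category.assoc, hl W c hW hc, (hm W c hW hc).2]
  have hjl : j ≫ l = a := by
    refine Groth.Agent.S9928.sp_hom_ext _ _ (fun Z t => ?_)
    obtain ⟨ι, O, o, hcov, V, c, r, hV, hc, hoc⟩ := exists_chart_cover hT' (t ≫ j)
    refine hom_ext_of_cover O o hcov _ _ (fun i => ?_)
    have h3 := (hm (V i) (c i) (hV i) (hc i)).1 ((AlgSp.yon S).map (o i) ≫ t) (r i) (by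
      rw [Category.assoc, hoc i])
    rw [← Category.assoc, ← Category.assoc, Category.assoc _ t j, hoc i, Category.assoc,
      hl (V i) (c i) (hV i) (hc i), h3, Category.assoc]
  refine ⟨l, ⟨hjl, hlf⟩, ?_⟩
  rintro l' ⟨h1, h2⟩
  refine uniq_lift_of_affine hU hT' j hj l' l (fun W₀ t => ?_) (h1.trans hjl.symm)
    (h2.trans hlf.symm)
  rw [h1]
  exact ha t

/-- **Uniqueness of dotted arrows along first order thickenings of algebraic spaces**, for a formally
unramified morphism of sheaves. -/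
theorem uniq_lift_of_unramified (hf : AlgSp.IsFormallyUnramifiedMor f) {T T' : AlgSp.Sp S}
    (hT' : AlgSp.IsAlgSpace T') (j : T ⟶ T') (hj : AlgSp.IsFOThickMor j) (l l' : T' ⟶ F)
    (h1 : j ≫ l = j ≫ l') (h2 : l ≫ f = l' ≫ f) : l = l' :=
  uniq_lift_of_affine (f := f) (Adm := fun _ _ => True)
    (fun _ _ k hW hk1 _ hk3 l l' _ e1 e2 => uniq_of_sqZero k hW hk1 hk3 hf l l' e1 e2)
    hT' j hj l l' (fun _ _ => trivial) h1 h2

/-- **Existence and uniqueness of dotted arrows along first order thickenings of algebraic spaces**, for a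
formally etale morphism of sheaves. -/
theorem exists_unique_lift_of_etale (hf : AlgSp.IsFormallyEtaleMor f) {T T' : AlgSp.Sp S}
    (hT' : AlgSp.IsAlgSpace T') (j : T ⟶ T') (hj : AlgSp.IsFOThickMor j) (a : T ⟶ F) (b : T' ⟶ G)
    (w : a ≫ f = j ≫ b) : ∃! l : T' ⟶ F, j ≫ l = a ∧ l ≫ f = b := by
  rw [isFormallyEtaleMor_iff] at hf
  exact exists_unique_lift_of_affine (f := f) (Adm := fun _ _ => True)
    (fun _ _ k hW hk1 _ hk3 top bot _ comm => lift_of_sqZero k hW hk1 hk3 hf.1 top bot comm)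
    (fun _ _ k hW hk1 _ hk3 l l' _ e1 e2 => uniq_of_sqZero k hW hk1 hk3 hf.2 l l' e1 e2)
    hT' j hj a (fun _ _ => trivial) b w

end space

end Groth.Agent.R2.H47.SpThick
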