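import Mathlib
import Groth.Prelude.Def_AlgSpInf
import Groth.Agent.S10175
import Groth.Agent.S10176
import Groth.Agent.S10177
import Groth.Agent.R2.H47InfSq
import Groth.Agent.R2.H47SpThick
import Groth.Agent.R2.H47SmLift
import Groth.Agent.R2.H47EtaleLiftStrong
import Groth.Agent.Lib.Helper12EtSrc

/-!
# Etale localization of universal first order thickenings (helper47)

If `(Z ⊂ Z' ⟶ X)` is a universal first order thickening, `V ⟶ Z` is etale and `(V ⊂ V' ⟶ X)` is a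
universal first order thickening of `V` over `X`, then the canonical `V' ⟶ Z'` is etale.
-/

set_option autoImplicit false
universe u

open CategoryTheory CategoryTheory.Limits AlgebraicGeometry Opposite
open AlgSp

namespace Groth.Agent.R2.H47.UnivThickLoc

/-- an open subscheme of the thin part of a thickening of schemes lifts to an open subscheme of the
thick part. -/
lemma exists_open_lift {A B A₂ : Scheme.{u}} (j : A ⟶ B) [IsClosedImmersion j] [Surjective j]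
    (o : A₂ ⟶ A) [IsOpenImmersion o] :
    ∃ (B₂ : Scheme.{u}) (oB : B₂ ⟶ B) (j₂ : A₂ ⟶ B₂),
      IsOpenImmersion oB ∧ IsPullback j₂ o oB j := by
  have hemb : Topology.IsClosedEmbedding j := j.isClosedEmbedding
  have hbij : Function.Bijective j := ⟨hemb.injective, j.surjective⟩
  have hopen : IsOpen (j '' (o.opensRange : Set A)) := by
    have h1 : j '' (o.opensRange : Set A) = (j '' (o.opensRange : Set A)ᶜ)ᶜ := by
      rw [Set.image_compl_eq hbij, compl_compl]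
    rw [h1, isOpen_compl_iff]
    exact hemb.isClosedMap _ (o.opensRange.isOpen.isClosed_compl)
  let W : B.Opens := ⟨j '' (o.opensRange : Set A), hopen⟩
  have hpre : ((j ⁻¹ᵁ W : A.Opens) : Set A) = Set.range o := by
    change j ⁻¹' (j '' (o.opensRange : Set A)) = _
    rw [Set.preimage_image_eq _ hbij.injective]
    rfl
  have hpb := isPullback_morphismRestrict j W
  have hrange : Set.range o = Set.range (j ⁻¹ᵁ W).ι := by
    rw [Scheme.Opens.range_ι, hpre]
  let θ : A₂ ≅ (j ⁻¹ᵁ W).toScheme := IsOpenImmersion.isoOfRangeEq o (j ⁻¹ᵁ W).ι hrange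
  have hθ : θ.hom ≫ (j ⁻¹ᵁ W).ι = o := IsOpenImmersion.isoOfRangeEq_hom_fac _ _ _
  refine ⟨W.toScheme, W.ι, θ.hom ≫ (j ∣_ W), inferInstance, ?_⟩
  refine hpb.of_iso θ.symm (Iso.refl _) (Iso.refl _) (Iso.refl _) ?_ ?_ (by simp) (by simp)
  · simp
  · simp only [Iso.symm_hom, Iso.refl_hom, Category.comp_id]
    rw [Iso.eq_inv_comp, hθ]

variable {S : Scheme.{u}}

/-- a representable etale morphism is etale in the sense of the reference. -/
lemma isEtaleMor_of_repWith {F G : AlgSp.Sp S} (g : F ⟶ G) (hg : AlgSp.RepWith @Etale g) :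
    AlgSp.IsEtaleMor g :=
  fun _ φ hφ => (AlgSp.RepWith @Etale).comp_mem _ _ hφ hg

/-- **Uniqueness of universal first order thickenings.** -/
lemma univ_unique {Y X P P' : AlgSp.Sp S} (hP : AlgSp.IsAlgSpace P) (hP' : AlgSp.IsAlgSpace P')
    (hYalg : AlgSp.IsAlgSpace Y)
    (hY : Y ⟶ X) (i : Y ⟶ P) (k : P ⟶ X) (i' : Y ⟶ P') (k' : P' ⟶ X)
    (H : AlgSp.IsUnivFOThick hY i k) (H' : AlgSp.IsUnivFOThick hY i' k') :
    ∃ θ : P ≅ P', i ≫ θ.hom = i' ∧ θ.hom ≫ k' = k := by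
  obtain ⟨a, ⟨ha1, ha2⟩, -⟩ := H'.2.2 hYalg hP i (𝟙 Y) k H.1 (by rw [H.2.1, Category.id_comp])
  obtain ⟨b, ⟨hb1, hb2⟩, -⟩ := H.2.2 hYalg hP' i' (𝟙 Y) k' H'.1 (by rw [H'.2.1, Category.id_comp])
  rw [Category.id_comp] at ha1 hb1
  obtain ⟨c, -, hc⟩ := H.2.2 hYalg hP i (𝟙 Y) k H.1 (by rw [H.2.1, Category.id_comp])
  obtain ⟨c', -, hc'⟩ := H'.2.2 hYalg hP' i' (𝟙 Y) k' H'.1 (by rw [H'.2.1, Category.id_comp])
  have h1 : a ≫ b = 𝟙 P := by
    rw [hc (a ≫ b) ⟨by rw [← Category.assoc, ha1, hb1, Category.id_comp],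
      by rw [Category.assoc, hb2, ha2]⟩,
      hc (𝟙 P) ⟨by rw [Category.comp_id, Category.id_comp], Category.id_comp _⟩]
  have h2 : b ≫ a = 𝟙 P' := by
    rw [hc' (b ≫ a) ⟨by rw [← Category.assoc, hb1, ha1, Category.id_comp],
      by rw [Category.assoc, ha2, hb2]⟩,
      hc' (𝟙 P') ⟨by rw [Category.comp_id, Category.id_comp], Category.id_comp _⟩]
  exact ⟨⟨a, b, h1, h2⟩, ha1, ha2⟩

/-- the base change of a universal first order thickening along an etale morphism to the thick part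
is a universal first order thickening (sheaf level form of S10632). -/
lemma univ_of_pullback {Zs Y Y' Zs' X : AlgSp.Sp S} (e : Zs ⟶ Y) (hY : Y ⟶ X) (iY : Y ⟶ Y')
    (hY' : Y' ⟶ X) (HU : AlgSp.IsUnivFOThick hY iY hY') (iZ : Zs ⟶ Zs') (e' : Zs' ⟶ Y')
    (he' : AlgSp.IsEtaleMor e') (hfe' : AlgSp.IsFormallyEtaleMor e')
    (sq : IsPullback e iZ iY e') :
    AlgSp.IsUnivFOThick (e ≫ hY) iZ (e' ≫ hY') := by
  have hw : e ≫ iY = iZ ≫ e' := sq.w
  refine ⟨⟨?_, ?_⟩, ?_, ?_⟩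
  · exact MorphismProperty.of_isPullback (P := AlgSp.RepWith AlgSp.thick) sq HU.1.1
  · intro V W b fst snd hV hb hpb
    have hpaste : IsPullback (fst ≫ e) ((AlgSp.yon S).map snd) iY (b ≫ e') :=
      hpb.paste_horiz sq
    exact HU.1.2 (b ≫ e') (fst ≫ e) snd hV (he' b hb) hpaste
  · rw [← Category.assoc, ← hw, Category.assoc, HU.2.1]
  · intro T T' hT hT' j a b hj hjb
    have hjb' : j ≫ b = (a ≫ e) ≫ hY := by rw [Category.assoc]; exact hjb
    obtain ⟨c, ⟨hc1, hc2⟩, hc3⟩ := HU.2.2 hT hT' j (a ≫ e) b hj hjb'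
    obtain ⟨a', ⟨ha1, ha2⟩, ha3⟩ :=
      Groth.Agent.R2.H47.SpThick.exists_unique_lift_of_etale hfe' hT' j hj (a ≫ iZ) c
        (by rw [Category.assoc, ← hw, ← Category.assoc]; exact hc1.symm)
    refine ⟨a', ⟨ha1, ?_⟩, ?_⟩
    · rw [← Category.assoc, ha2, hc2]
    · rintro a'' ⟨h1, h2⟩
      have h3 : a'' ≫ e' = c := hc3 _ ⟨by
        rw [← Category.assoc, h1, Category.assoc, ← hw, Category.assoc],
        by rw [Category.assoc]; exact h2⟩
      exact ha3 a'' ⟨h1, h3⟩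

open Groth.Agent.R2.H47.SmLift Groth.Agent.R2.H47.SmLiftSch in
/-- **Local lifting of etale charts along a thickening of algebraic spaces**: for a thickening
`Z ⟶ Z'` and a representable etale `a : h_{T₀} ⟶ Z`, after an etale refinement `T₁ ⟶ T₀` through
a given point, `T₁` is the base change of an affine scheme `E` etale over `Z'`. -/
lemma exists_space_lift {Z Z' : AlgSp.Sp S} (hZ' : AlgSp.IsAlgSpace Z') (iZ : Z ⟶ Z')
    (hi : AlgSp.IsThickMor iZ) {T₀ : Over S} (a : (AlgSp.yon S).obj T₀ ⟶ Z)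
    (ha : AlgSp.RepWith @Etale a) (t₀ : T₀.left) :
    ∃ (T₁ E : Over S) (r : T₁ ⟶ T₀) (jE : T₁ ⟶ E) (ε : (AlgSp.yon S).obj E ⟶ Z') (x : T₁.left),
      Etale r.left ∧ r.left x = t₀ ∧ IsAffine E.left ∧ AlgSp.RepWith @Etale ε ∧
      IsPullback ((AlgSp.yon S).map r ≫ a) ((AlgSp.yon S).map jE) iZ ε := by
  obtain ⟨R, sR, φ, u, hφ, hu⟩ := exists_affine_chart hZ' (AlgSp.Points.ofPt (a ≫ iZ) t₀)
  -- the base change of the thickening to the chart
  have sqW := hi.rep.isPullback φ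
  have hkW : AlgSp.thick (hi.rep.snd φ).left := hi.property_snd φ
  set W := hi.rep.pullback φ with hW
  set kW : W ⟶ Over.mk sR := hi.rep.snd φ with hkWdef
  set fW : (AlgSp.yon S).obj W ⟶ Z := hi.rep.fst φ with hfWdef
  have hfW : AlgSp.RepWith @Etale fW :=
    MorphismProperty.of_isPullback (P := AlgSp.RepWith @Etale) sqW.flip hφ
  -- a point of `W` over the image of `t₀`
  obtain ⟨p, hp1, -⟩ := Groth.Agent.S10175.exists_point_of_isPullback sqW
    (AlgSp.Points.ofPt a t₀) (AlgSp.Points.ofScheme _ u) (by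
      rw [AlgSp.Points.map_ofPt, ← AlgSp.Points.ofPt_eq_map_ofScheme]
      exact hu.symm)
  obtain ⟨w', rfl⟩ := (AlgSp.Points.schemeHomeo W).surjective p
  have hw' : AlgSp.Points.ofPt a t₀ = AlgSp.Points.ofPt fW w' := by
    rw [AlgSp.Points.ofPt_eq_map_ofScheme fW]
    exact hp1.symm
  -- the base change of `a` to `W`
  have sqQ := ha.rep.isPullback fW
  have hsQ : Etale (ha.rep.snd fW).left := ha.property_snd fW
  set Q := ha.rep.pullback fW with hQ
  set sQ : Q ⟶ W := ha.rep.snd fW with hsQdef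
  obtain ⟨rQ, hrQ⟩ := (AlgSp.yon S).map_surjective (ha.rep.fst fW)
  rw [← hrQ] at sqQ
  have hrQe : Etale rQ.left := hfW.property a _ rQ sqQ.flip
  obtain ⟨q, hq1, hq2⟩ := Groth.Agent.S10176.exists_point_of_isPullback_yon sqQ t₀ w' hw'
  -- local lifting along `W ⟶ Spec R`
  haveI : IsAffine (Over.mk sR).left := inferInstanceAs (IsAffine (Spec R))
  haveI : IsClosedImmersion kW.left := hkW.1
  haveI : Surjective kW.left := hkW.2
  haveI : Etale sQ.left := hsQ
  obtain ⟨V'', V₂, e, j₂, k, x, hV'', he, hpb, hkx⟩ := sch_lift kW.left sQ.left q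
  let E : Over S := Over.mk (e ≫ sR)
  let eo : E ⟶ Over.mk sR := Over.homMk e rfl
  let T₁ : Over S := Over.mk (j₂ ≫ e ≫ sR)
  let jE : T₁ ⟶ E := Over.homMk j₂ rfl
  have hkS : k ≫ Q.hom = j₂ ≫ e ≫ sR := by
    have h1 : sQ.left ≫ W.hom = Q.hom := Over.w sQ
    have h2 : kW.left ≫ sR = W.hom := Over.w kW
    rw [← Category.assoc j₂, hpb.w, ← h1, ← h2]
    simp
  let ko : T₁ ⟶ Q := Over.homMk k hkS
  have hpbO : IsPullback jE (ko ≫ sQ) eo kW :=
    IsPullback.of_map (Over.forget S) (Over.OverMorphism.ext hpb.w) hpb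
  have hpbY := hpbO.map (AlgSp.yon S)
  have hks : Etale (k ≫ sQ.left) := MorphismProperty.of_isPullback (P := @Etale) hpb he
  have hk : Etale k :=
    MorphismProperty.of_postcomp (W := @Etale) (W' := @Etale) k sQ.left hsQ hks
  have hpaste := hpbY.flip.paste_horiz sqW
  have hcomp : (AlgSp.yon S).map (ko ≫ sQ) ≫ fW = (AlgSp.yon S).map (ko ≫ rQ) ≫ a := by
    rw [Functor.map_comp, Functor.map_comp, Category.assoc, Category.assoc, sqQ.w]
  rw [hcomp] at hpaste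
  refine ⟨T₁, E, ko ≫ rQ, jE, (AlgSp.yon S).map eo ≫ φ, x, ?_, ?_, hV'', ?_, hpaste⟩
  · rw [Over.comp_left]
    change Etale (k ≫ rQ.left)
    infer_instance
  · rw [Over.comp_left]
    change rQ.left (k x) = t₀
    rw [hkx, hq1]
  · refine (AlgSp.RepWith @Etale).comp_mem _ _ ?_ hφ
    rw [AlgSp.repWith_yon_map_iff]
    exact he

/-- points of a fibre product of schemes. -/
lemma exists_point_of_isPullback_sch {P X₁ X₂ B : Scheme.{u}} {fst : P ⟶ X₁} {snd : P ⟶ X₂}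
    {f : X₁ ⟶ B} {g : X₂ ⟶ B} (h : IsPullback fst snd f g) (x : X₁) (y : X₂) (e : f x = g y) :
    ∃ z : P, fst z = x ∧ snd z = y := by
  obtain ⟨z', hz1, hz2⟩ := Scheme.Pullback.exists_preimage_pullback x y e
  refine ⟨h.isoPullback.inv z', ?_, ?_⟩
  · rw [← Scheme.Hom.comp_apply, h.isoPullback_inv_fst, hz1]
  · rw [← Scheme.Hom.comp_apply, h.isoPullback_inv_snd, hz2]

/-- etaleness is etale local on the source (pointwise form). -/
lemma etale_of_local_source {P T' : Scheme.{u}} (s : P ⟶ T')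
    (H : ∀ x : P, ∃ (M : Scheme.{u}) (m : M ⟶ P), Etale m ∧ x ∈ Set.range m ∧ Etale (m ≫ s)) :
    Etale s := by
  choose M m hm hx hms using H
  let U : P → P.Opens := fun x => ⟨Set.range (m x), (m x).isOpenMap.isOpen_range⟩
  have hU : iSup U = ⊤ := by
    rw [eq_top_iff]
    intro x _
    exact TopologicalSpace.Opens.mem_iSup.2 ⟨x, hx x⟩
  refine IsZariskiLocalAtSource.of_iSup_eq_top (P := @Etale) U hU fun x => ?_
  have hrange : Set.range (m x) ⊆ Set.range (U x).ι := by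
    rw [Scheme.Opens.range_ι]
    exact subset_rfl
  let m' : M x ⟶ (U x).toScheme := IsOpenImmersion.lift (U x).ι (m x) hrange
  have hm' : m' ≫ (U x).ι = m x := IsOpenImmersion.lift_fac _ _ _
  haveI : Etale (m x) := hm x
  haveI : Etale (m' ≫ (U x).ι) := by rw [hm']; infer_instance
  haveI : Etale m' :=
    MorphismProperty.of_postcomp (W := @Etale) (W' := @Etale) m' (U x).ι inferInstance inferInstance
  haveI : Surjective m' := by
    refine ⟨fun y => ?_⟩
    have hy : (U x).ι y ∈ Set.range (U x).ι := ⟨y, rfl⟩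
    rw [Scheme.Opens.range_ι] at hy
    obtain ⟨z, hz⟩ : (U x).ι y ∈ Set.range (m x) := hy
    refine ⟨z, ?_⟩
    apply (U x).ι.injective
    rw [← Scheme.Hom.comp_apply, hm', hz]
  haveI : Etale (m' ≫ (U x).ι ≫ s) := by
    rw [← Category.assoc, hm']
    exact hms x
  exact Groth.Agent.Lib.Helper12.EtSrc.etale_of_etale_cover_source m' ((U x).ι ≫ s)

/-- a map from a scheme to an algebraic space is representable etale as soon as it is so etale
locally on the scheme. -/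
lemma repWith_etale_of_local {G : AlgSp.Sp S} (hG : AlgSp.IsAlgSpace G) {T : Over S}
    (g : (AlgSp.yon S).obj T ⟶ G)
    (H : ∀ t : T.left, ∃ (F : Over S) (c : F ⟶ T), Etale c.left ∧ t ∈ Set.range c.left ∧
      AlgSp.RepWith @Etale ((AlgSp.yon S).map c ≫ g)) :
    AlgSp.RepWith @Etale g := by
  refine ⟨hG.representable_from_yon g, ?_⟩
  intro U V g' fst snd hpb
  change Etale snd.left
  obtain ⟨p, rfl⟩ := (AlgSp.yon S).map_surjective fst
  apply etale_of_local_source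
  intro x
  obtain ⟨F, c, hc, ⟨f₀, hf₀⟩, hcg⟩ := H (p.left x)
  have sqF := hcg.rep.isPullback g'
  have hsF : Etale (hcg.rep.snd g').left := hcg.property_snd g'
  set PF := hcg.rep.pullback g' with hPF
  set sF : PF ⟶ U := hcg.rep.snd g' with hsFdef
  obtain ⟨fF, hfF⟩ := (AlgSp.yon S).map_surjective (hcg.rep.fst g')
  rw [← hfF] at sqF
  obtain ⟨m, hm⟩ := (AlgSp.yon S).map_surjective
    (hpb.lift ((AlgSp.yon S).map (fF ≫ c)) ((AlgSp.yon S).map sF) (by
      rw [Functor.map_comp, Category.assoc]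
      exact sqF.w))
  have hm1 : (AlgSp.yon S).map m ≫ (AlgSp.yon S).map p = (AlgSp.yon S).map (fF ≫ c) := by
    rw [hm]; exact hpb.lift_fst _ _ _
  have hm2 : (AlgSp.yon S).map m ≫ (AlgSp.yon S).map snd = (AlgSp.yon S).map sF := by
    rw [hm]; exact hpb.lift_snd _ _ _
  have hbig : IsPullback ((AlgSp.yon S).map fF) ((AlgSp.yon S).map m ≫ (AlgSp.yon S).map snd)
      ((AlgSp.yon S).map c ≫ g) g' := by
    rw [hm2]
    exact sqF
  have htop : IsPullback ((AlgSp.yon S).map fF) ((AlgSp.yon S).map m) ((AlgSp.yon S).map c)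
      ((AlgSp.yon S).map p) :=
    IsPullback.of_bot hbig (by rw [hm1, Functor.map_comp]) hpb
  have hO : IsPullback fF m c p := IsPullback.of_map (AlgSp.yon S) (by
    apply (AlgSp.yon S).map_injective
    rw [Functor.map_comp, Functor.map_comp]
    exact htop.w) htop
  have hsch : IsPullback fF.left m.left c.left p.left := hO.map (Over.forget S)
  obtain ⟨z, -, hz⟩ := exists_point_of_isPullback_sch hsch f₀ x hf₀
  refine ⟨PF.left, m.left, MorphismProperty.of_isPullback (P := @Etale) hsch hc, ⟨z, hz⟩, ?_⟩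
  have h3 : m ≫ snd = sF := by
    apply (AlgSp.yon S).map_injective
    rw [Functor.map_comp]
    exact hm2
  rw [← Over.comp_left, h3]
  exact hsF

section main

variable {Z Z' X V V' : AlgSp.Sp S} (hZ'alg : AlgSp.IsAlgSpace Z')
  (h : Z ⟶ X) (iZ : Z ⟶ Z') (hZ' : Z' ⟶ X) (HZ : AlgSp.IsUnivFOThick h iZ hZ')
  (v : V ⟶ Z) (hv : AlgSp.IsEtaleMor v) (iV : V ⟶ V') (k : V' ⟶ X)
  (HV : AlgSp.IsUnivFOThick (v ≫ h) iV k) (e' : V' ⟶ Z') (w1 : iV ≫ e' = v ≫ iZ)
  (w2 : e' ≫ hZ' = k)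

include hZ'alg HZ hv HV w1 w2 in
open Groth.Agent.R2.H47.InfSq Groth.Agent.R2.H47.EtaleLiftStrong in
/-- the canonical map between universal first order thickenings is etale near every point of an
affine etale chart of the source. -/
lemma exists_local_etale {T : Over S} (hT : IsAffine T.left) (φ : (AlgSp.yon S).obj T ⟶ V')
    (hφ : AlgSp.RepWith @Etale φ) (t : T.left) :
    ∃ (F : Over S) (c : F ⟶ T), Etale c.left ∧ t ∈ Set.range c.left ∧
      AlgSp.RepWith @Etale ((AlgSp.yon S).map c ≫ φ ≫ e') := by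
  -- Step 1: the thin part of the chart
  have hiV : AlgSp.IsThickMor iV := HV.1.1
  have sq₀ := hiV.rep.isPullback φ
  have hjT : AlgSp.thick (hiV.rep.snd φ).left := hiV.property_snd φ
  set T₀ := hiV.rep.pullback φ with hT₀
  set jT : T₀ ⟶ T := hiV.rep.snd φ with hjTdef
  set a₀ : (AlgSp.yon S).obj T₀ ⟶ V := hiV.rep.fst φ with ha₀def
  have ha₀ : AlgSp.RepWith @Etale a₀ :=
    MorphismProperty.of_isPullback (P := AlgSp.RepWith @Etale) sq₀.flip hφ
  have hb₀ : AlgSp.RepWith @Etale (a₀ ≫ v) := hv a₀ ha₀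
  haveI : IsClosedImmersion jT.left := hjT.1
  haveI : Surjective jT.left := hjT.2
  obtain ⟨t₀, ht₀⟩ := jT.left.surjective t
  -- Step 2: etale local lift of `T₀ ⟶ Z` to `Z'`
  obtain ⟨T₁, E, r, jE, ε, x₁, hr, hrx, -, hε, sqE⟩ :=
    exists_space_lift hZ'alg iZ HZ.1.1 (a₀ ≫ v) hb₀ t₀
  have hjE : AlgSp.thick jE.left := HZ.1.1.property ε _ jE sqE
  have UE : AlgSp.IsUnivFOThick (((AlgSp.yon S).map r ≫ a₀ ≫ v) ≫ h) ((AlgSp.yon S).map jE)
      (ε ≫ hZ') :=
    univ_of_pullback _ h iZ hZ' HZ _ ε (isEtaleMor_of_repWith ε hε)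
      (isFormallyEtaleMor_of_repWith_etale hε) sqE
  have UT : AlgSp.IsUnivFOThick (a₀ ≫ v ≫ h) ((AlgSp.yon S).map jT) (φ ≫ k) :=
    univ_of_pullback a₀ (v ≫ h) iV k HV _ φ (isEtaleMor_of_repWith φ hφ)
      (isFormallyEtaleMor_of_repWith_etale hφ) sq₀
  -- Step 3: strong local lifting of `T₁ ⟶ T₀` along `T₀ ⟶ T`
  haveI : IsAffine T.left := hT
  haveI : Etale r.left := hr
  obtain ⟨F₀, T₂₀, c₀, j₂₀, o₀, x₂, -, hc₀, ho₀, hpb, hox⟩ := sch_lift_open jT.left r.left x₁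
  let F : Over S := Over.mk (c₀ ≫ T.hom)
  let c : F ⟶ T := Over.homMk c₀ rfl
  let T₂ : Over S := Over.mk (j₂₀ ≫ c₀ ≫ T.hom)
  let jF : T₂ ⟶ F := Over.homMk j₂₀ rfl
  have hoS : o₀ ≫ T₁.hom = j₂₀ ≫ c₀ ≫ T.hom := by
    have h1 : r.left ≫ T₀.hom = T₁.hom := Over.w r
    have h2 : jT.left ≫ T.hom = T₀.hom := Over.w jT
    rw [← Category.assoc j₂₀, hpb.w, ← h1, ← h2]
    simp
  let o : T₂ ⟶ T₁ := Over.homMk o₀ hoS
  have hpbO : IsPullback jF (o ≫ r) c jT :=
    IsPullback.of_map (Over.forget S) (Over.OverMorphism.ext hpb.w) hpb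
  have hpbY := hpbO.map (AlgSp.yon S)
  have hcE : AlgSp.RepWith @Etale ((AlgSp.yon S).map c) :=
    (AlgSp.repWith_yon_map_iff @Etale c).2 hc₀
  have UF : AlgSp.IsUnivFOThick ((AlgSp.yon S).map (o ≫ r) ≫ a₀ ≫ v ≫ h) ((AlgSp.yon S).map jF)
      ((AlgSp.yon S).map c ≫ φ ≫ k) :=
    univ_of_pullback _ (a₀ ≫ v ≫ h) _ (φ ≫ k) UT _ _ (isEtaleMor_of_repWith _ hcE)
      (isFormallyEtaleMor_of_repWith_etale hcE) hpbY.flip
  -- Step 4: the open subscheme of `E` on the open `T₂ ⊂ T₁`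
  haveI : IsClosedImmersion jE.left := hjE.1
  haveI : Surjective jE.left := hjE.2
  haveI : IsOpenImmersion o₀ := ho₀
  obtain ⟨E₂₀, oB₀, j₂E₀, hoB₀, hpbE₀⟩ := exists_open_lift jE.left o₀
  let E₂ : Over S := Over.mk (oB₀ ≫ E.hom)
  let oE : E₂ ⟶ E := Over.homMk oB₀ rfl
  have hjS : j₂E₀ ≫ oB₀ ≫ E.hom = T₂.hom := by
    have h1 : jE.left ≫ E.hom = T₁.hom := Over.w jE
    rw [← Category.assoc, hpbE₀.w, Category.assoc, h1]
    exact hoS
  let jE₂ : T₂ ⟶ E₂ := Over.homMk j₂E₀ hjS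
  have hpbE : IsPullback jE₂ o oE jE :=
    IsPullback.of_map (Over.forget S) (Over.OverMorphism.ext hpbE₀.w) hpbE₀
  have hpbEY := hpbE.map (AlgSp.yon S)
  have hoE : AlgSp.RepWith @Etale ((AlgSp.yon S).map oE) := by
    rw [AlgSp.repWith_yon_map_iff]
    change Etale oB₀
    infer_instance
  have UE₂ : AlgSp.IsUnivFOThick ((AlgSp.yon S).map o ≫ ((AlgSp.yon S).map r ≫ a₀ ≫ v) ≫ h)
      ((AlgSp.yon S).map jE₂) ((AlgSp.yon S).map oE ≫ ε ≫ hZ') :=
    univ_of_pullback _ _ _ (ε ≫ hZ') UE _ _ (isEtaleMor_of_repWith _ hoE)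
      (isFormallyEtaleMor_of_repWith_etale hoE) hpbEY.flip
  have heq : (AlgSp.yon S).map o ≫ ((AlgSp.yon S).map r ≫ a₀ ≫ v) ≫ h =
      (AlgSp.yon S).map (o ≫ r) ≫ a₀ ≫ v ≫ h := by
    simp only [Functor.map_comp, Category.assoc]
  rw [heq] at UE₂
  -- Step 5: the two universal thickenings of `T₂` agree
  obtain ⟨θ, hθ1, hθ2⟩ := univ_unique (AlgSp.IsAlgSpace.yon_obj F) (AlgSp.IsAlgSpace.yon_obj E₂)
    (AlgSp.IsAlgSpace.yon_obj T₂) _ _ _ _ _ UF UE₂
  -- Step 6: compare the two maps `F ⟶ Z'`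
  have hcond : (AlgSp.yon S).map jF ≫ ((AlgSp.yon S).map c ≫ φ ≫ k) =
      ((AlgSp.yon S).map (o ≫ r) ≫ a₀ ≫ v) ≫ h := by
    rw [UF.2.1]
    simp only [Category.assoc]
  obtain ⟨a', -, ha'⟩ := HZ.2.2 (AlgSp.IsAlgSpace.yon_obj T₂) (AlgSp.IsAlgSpace.yon_obj F)
    ((AlgSp.yon S).map jF) ((AlgSp.yon S).map (o ≫ r) ≫ a₀ ≫ v) ((AlgSp.yon S).map c ≫ φ ≫ k)
    UF.1 hcond
  have h1 : (AlgSp.yon S).map c ≫ φ ≫ e' = a' := by
    apply ha'
    constructor
    · rw [← Category.assoc, hpbY.w, Category.assoc, ← Category.assoc ((AlgSp.yon S).map jT),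
        ← sq₀.w, Category.assoc, w1]
      simp only [Category.assoc]
    · rw [Category.assoc, Category.assoc, w2]
  have h2 : θ.hom ≫ (AlgSp.yon S).map oE ≫ ε = a' := by
    apply ha'
    constructor
    · rw [← Category.assoc, hθ1, ← Category.assoc, hpbEY.w, Category.assoc, ← sqE.w]
      simp only [Functor.map_comp, Category.assoc]
    · rw [Category.assoc, Category.assoc]
      exact hθ2
  refine ⟨F, c, hc₀, ⟨j₂₀ x₂, ?_⟩, ?_⟩
  · change c₀ (j₂₀ x₂) = t
    rw [← Scheme.Hom.comp_apply, hpb.w, Scheme.Hom.comp_apply, Scheme.Hom.comp_apply, hox, hrx,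
      ht₀]
  · rw [h1, ← h2]
    rw [(AlgSp.RepWith @Etale).cancel_left_of_respectsIso]
    exact (AlgSp.RepWith @Etale).comp_mem _ _ hoE hε

include hZ'alg HZ hv HV w1 w2 in
/-- **Etale localization of universal first order thickenings**: the canonical map between the
universal first order thickenings of `V` and `Z` over `X`, for `V ⟶ Z` etale, is etale. -/
theorem etale_of_univ : AlgSp.IsEtaleMor e' := by
  intro T φ hφ
  apply repWith_etale_of_local hZ'alg
  intro t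
  obtain ⟨_, ⟨O, hO, rfl⟩, htO, -⟩ :=
    T.left.isBasis_affineOpens.exists_subset_of_mem_open (Set.mem_univ t) isOpen_univ
  let ι : Spec Γ(T.left, O) ⟶ T.left := hO.fromSpec
  let Ta : Over S := Over.mk (ι ≫ T.hom)
  let ιa : Ta ⟶ T := Over.homMk ι rfl
  have hιa : AlgSp.RepWith @Etale ((AlgSp.yon S).map ιa) := by
    rw [AlgSp.repWith_yon_map_iff]
    change Etale ι
    infer_instance
  obtain ⟨F, c, hc, ⟨f₀, hf₀⟩, hF⟩ := exists_local_etale hZ'alg h iZ hZ' HZ v hv iV k HV e' w1 w2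
    (T := Ta) (inferInstanceAs (IsAffine (Spec Γ(T.left, O)))) ((AlgSp.yon S).map ιa ≫ φ)
    ((AlgSp.RepWith @Etale).comp_mem _ _ hιa hφ) (hO.primeIdealOf ⟨t, htO⟩)
  refine ⟨F, c ≫ ιa, ?_, ⟨f₀, ?_⟩, ?_⟩
  · rw [Over.comp_left]
    change Etale (c.left ≫ ι)
    infer_instance
  · rw [Over.comp_left]
    change ι (c.left f₀) = t
    rw [hf₀]
    exact hO.fromSpec_primeIdealOf ⟨t, htO⟩
  · rw [Functor.map_comp, Category.assoc]
    simpa only [Category.assoc] using hF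

end main

end Groth.Agent.R2.H47.UnivThickLoc
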