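import Mathlib
import Groth.Prelude.Def_AlgSp
import Groth.Agent.S13210
import Groth.Agent.S0076
import Groth.Agent.Lib.Helper12ZarGlue
import Groth.Agent.R2.H47EtaleLiftStrong
import Groth.Agent.R2.H47UnivThickLoc

/-!
# Topological invariance of the etale site: essential surjectivity (helper47)

For a thickening `i : S₀ ⟶ S` of schemes (a surjective closed immersion), every scheme `U₀` etale over
`S₀` is the base change of a scheme etale over `S`.  The lift is obtained by gluing local lifts: it
represents the sheaf `T ↦ Hom_{S₀}(T ×_S S₀, U₀)` on `Sch/S`.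
-/

set_option autoImplicit false
universe u

open CategoryTheory CategoryTheory.Limits AlgebraicGeometry Opposite
open AlgSp

namespace Groth.Agent.R2.H47.TopInv

open Groth.Agent.S13210 Groth.Agent.R2.H47.EtaleLiftStrong

/-- **Scheme-level strong local lifting**, any base: for a thickening `T₀ ⟶ T` and an etale
`T₁ ⟶ T₀`, an open neighbourhood of a given point of `T₁` is the base change of an etale affine
`T`-scheme. -/
theorem sch_lift_open_gen {T T₀ T₁ : Scheme.{u}} (j : T₀ ⟶ T) [IsClosedImmersion j]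
    (g : T₁ ⟶ T₀) [Etale g] (t₁ : T₁) :
    ∃ (F T₂ : Scheme.{u}) (c : F ⟶ T) (j₂ : T₂ ⟶ F) (o : T₂ ⟶ T₁) (x : T₂),
      IsAffine F ∧ Etale c ∧ IsOpenImmersion o ∧ IsPullback j₂ (o ≫ g) c j ∧ o x = t₁ := by
  obtain ⟨_, ⟨W, hW, rfl⟩, htW, -⟩ :=
    T.isBasis_affineOpens.exists_subset_of_mem_open (Set.mem_univ (j (g t₁))) isOpen_univ
  haveI : IsAffine (W : Scheme.{u}) := hW
  let j' := j ∣_ W
  let g' := g ∣_ (j ⁻¹ᵁ W)
  have ht₁ : t₁ ∈ g ⁻¹ᵁ (j ⁻¹ᵁ W) := htW
  obtain ⟨F, T₂, c', j₂, o', x, hF, hc', ho', hpb, hx⟩ :=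
    sch_lift_open j' g' ⟨t₁, ht₁⟩
  refine ⟨F, T₂, c' ≫ Scheme.Opens.ι W, j₂, o' ≫ (g ⁻¹ᵁ (j ⁻¹ᵁ W)).ι, x, hF, inferInstance, inferInstance, ?_, ?_⟩
  · have h1 := hpb.paste_vert (isPullback_morphismRestrict j W)
    have h2 : (o' ≫ g') ≫ (j ⁻¹ᵁ W).ι = (o' ≫ (g ⁻¹ᵁ (j ⁻¹ᵁ W)).ι) ≫ g := by
      rw [Category.assoc, Category.assoc, morphismRestrict_ι]
    rw [h2] at h1
    exact h1
  · rw [Scheme.Hom.comp_apply, hx]
    rfl

variable {S S₀ : Scheme.{u}} (i : S₀ ⟶ S)

/-- the sheaf `T ↦ Hom_{S₀}(T ×_S S₀, U₀)` on `Sch/S`. -/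
noncomputable def push (U₀ : Over S₀) : AlgSp.Sp S :=
  ((Over.pullback i).sheafPushforwardContinuous (Type (u + 1)) (AlgSp.J S) (AlgSp.J S₀)).obj
    ((AlgSp.yon S₀).obj U₀)

/-- sections of `push`. -/
noncomputable def secEquiv (U₀ : Over S₀) (T : Over S) :
    ((AlgSp.yon S).obj T ⟶ push i U₀) ≃ ((Over.pullback i).obj T ⟶ U₀) :=
  (yEquiv T (push i U₀)).trans (Equiv.ulift : ULift.{u + 1} ((Over.pullback i).obj T ⟶ U₀) ≃ _)

lemma secEquiv_naturality (U₀ : Over S₀) {T T' : Over S} (m : T' ⟶ T)
    (g : (AlgSp.yon S).obj T ⟶ push i U₀) :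
    secEquiv i U₀ T' ((AlgSp.yon S).map m ≫ g) = (Over.pullback i).map m ≫ secEquiv i U₀ T g := by
  have h := Groth.Agent.Lib.Helper12.ZarGlue.map_yEquiv (G := push i U₀) m g
  change (yEquiv T' (push i U₀) ((AlgSp.yon S).map m ≫ g)).down = _
  rw [← h]
  rfl

variable [IsClosedImmersion i] [Surjective i]

/-- a local lift of an open piece of `U₀`. -/
structure Piece (U₀ : Over S₀) where
  /-- the lift -/
  X : Over S
  etale : Etale X.hom
  /-- the open piece -/
  T₂ : Over S₀
  /-- the lift reduces to the open piece -/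
  κ : (Over.pullback i).obj X ≅ T₂
  /-- the inclusion of the open piece -/
  o : T₂ ⟶ U₀
  open_o : IsOpenImmersion o.left

namespace Piece

variable {i} {U₀ : Over S₀} (p : Piece i U₀)

/-- the map `h_X ⟶ i_* h_{U₀}` of a piece. -/
noncomputable def f : (AlgSp.yon S).obj p.X ⟶ push i U₀ :=
  (secEquiv i U₀ p.X).symm (p.κ.hom ≫ p.o)

lemma sec_comp_f {T : Over S} (b : T ⟶ p.X) :
    secEquiv i U₀ T ((AlgSp.yon S).map b ≫ p.f) = (Over.pullback i).map b ≫ p.κ.hom ≫ p.o := by
  rw [secEquiv_naturality, f, Equiv.apply_symm_apply]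

instance : Mono p.o := by
  haveI := p.open_o
  exact Over.mono_of_mono_left p.o

/-- `f` is a monomorphism on scheme points. -/
lemma f_inj {T : Over S} (b b' : T ⟶ p.X)
    (h : (AlgSp.yon S).map b ≫ p.f = (AlgSp.yon S).map b' ≫ p.f) : b = b' := by
  have h1 := congrArg (secEquiv i U₀ T) h
  rw [sec_comp_f, sec_comp_f, ← Category.assoc, ← Category.assoc, cancel_mono, cancel_mono] at h1
  haveI := p.etale
  exact (Groth.Agent.S0076.result i p.X T).1 h1

/-- a point of `i_* h_{U₀}` lies in the piece iff its section factors through the open piece. -/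
lemma exists_factor_iff {T : Over S} (g : (AlgSp.yon S).obj T ⟶ push i U₀) :
    (∃ b : T ⟶ p.X, (AlgSp.yon S).map b ≫ p.f = g) ↔
      Set.range (secEquiv i U₀ T g).left ⊆ Set.range p.o.left := by
  constructor
  · rintro ⟨b, rfl⟩
    rw [sec_comp_f]
    rintro _ ⟨y, rfl⟩
    exact ⟨(p.κ.hom.left) (((Over.pullback i).map b).left y), rfl⟩
  · intro hr
    haveI := p.open_o
    let a := secEquiv i U₀ T g
    let a'₀ : ((Over.pullback i).obj T).left ⟶ p.T₂.left := IsOpenImmersion.lift p.o.left a.left hr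
    have ha'₀ : a'₀ ≫ p.o.left = a.left := IsOpenImmersion.lift_fac _ _ _
    let a' : (Over.pullback i).obj T ⟶ p.T₂ := Over.homMk a'₀ (by
      rw [← Over.w p.o, ← Category.assoc, ha'₀]
      exact Over.w a)
    have ha' : a' ≫ p.o = a := Over.OverMorphism.ext ha'₀
    haveI := p.etale
    obtain ⟨b, hb⟩ := (Groth.Agent.S0076.result i p.X T).2 (a' ≫ p.κ.inv)
    refine ⟨b, ?_⟩
    apply (secEquiv i U₀ T).injective
    rw [sec_comp_f]
    change (Over.pullback i).map b ≫ _ = a
    have hb' : (Over.pullback i).map b = a' ≫ p.κ.inv := hb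
    rw [hb', Category.assoc, Iso.inv_hom_id_assoc, ha']

end Piece

section openPart

variable {i} {U₀ : Over S₀} (p : Piece i U₀)

lemma pullback_map_fst {T T' : Over S} (m : T' ⟶ T) :
    ((Over.pullback i).map m).left ≫ pullback.fst T.hom i = pullback.fst T'.hom i ≫ m.left := by
  simp only [Over.pullback_map_left]
  exact pullback.lift_fst _ _ _

lemma fst_bijective (T : Over S) : Function.Bijective (pullback.fst T.hom i) :=
  ⟨(pullback.fst T.hom i).isClosedEmbedding.injective, (pullback.fst T.hom i).surjective⟩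

/-- the open part of `T` on which a section of `i_* h_{U₀}` lies in the piece. -/
noncomputable def openPart {T : Over S} (a : (Over.pullback i).obj T ⟶ U₀) : T.left.Opens :=
  ⟨pullback.fst T.hom i '' (a.left ⁻¹' Set.range p.o.left), by
    haveI := p.open_o
    have hemb : Topology.IsClosedEmbedding (pullback.fst T.hom i) :=
      (pullback.fst T.hom i).isClosedEmbedding
    have hopen : IsOpen (a.left ⁻¹' Set.range p.o.left) :=
      p.o.left.isOpenEmbedding.isOpen_range.preimage a.left.continuous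
    have h1 : pullback.fst T.hom i '' (a.left ⁻¹' Set.range p.o.left) =
        (pullback.fst T.hom i '' (a.left ⁻¹' Set.range p.o.left)ᶜ)ᶜ := by
      rw [Set.image_compl_eq (fst_bijective T), compl_compl]
    rw [h1, isOpen_compl_iff]
    exact hemb.isClosedMap _ hopen.isClosed_compl⟩

lemma range_subset_openPart_iff {T T' : Over S} (a : (Over.pullback i).obj T ⟶ U₀) (m : T' ⟶ T) :
    Set.range m.left ⊆ (openPart p a : Set T.left) ↔
      Set.range ((Over.pullback i).map m ≫ a).left ⊆ Set.range p.o.left := by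
  constructor
  · rintro h _ ⟨y, rfl⟩
    have h1 : m.left (pullback.fst T'.hom i y) ∈ (openPart p a : Set T.left) := h ⟨_, rfl⟩
    obtain ⟨z, hz, hzy⟩ := h1
    have h2 : pullback.fst T.hom i (((Over.pullback i).map m).left y) =
        m.left (pullback.fst T'.hom i y) := by
      rw [← Scheme.Hom.comp_apply, pullback_map_fst, Scheme.Hom.comp_apply]
    have h3 : z = ((Over.pullback i).map m).left y :=
      (fst_bijective T).1 (hzy.trans h2.symm)
    rw [Over.comp_left, Scheme.Hom.comp_apply, ← h3]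
    exact hz
  · rintro h _ ⟨t', rfl⟩
    obtain ⟨y, rfl⟩ := (fst_bijective (i := i) T').2 t'
    refine ⟨((Over.pullback i).map m).left y, ?_, ?_⟩
    · have := h ⟨y, rfl⟩
      rw [Over.comp_left, Scheme.Hom.comp_apply] at this
      exact this
    · rw [← Scheme.Hom.comp_apply, pullback_map_fst, Scheme.Hom.comp_apply]

/-- the open part as a scheme over `S`. -/
noncomputable def openPartOver {T : Over S} (a : (Over.pullback i).obj T ⟶ U₀) : Over S :=
  Over.mk ((openPart p a).ι ≫ T.hom)

/-- the inclusion of the open part. -/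
noncomputable def openPartι {T : Over S} (a : (Over.pullback i).obj T ⟶ U₀) :
    openPartOver p a ⟶ T :=
  Over.homMk (openPart p a).ι rfl

lemma range_openPartι {T : Over S} (a : (Over.pullback i).obj T ⟶ U₀) :
    Set.range (openPartι p a).left = (openPart p a : Set T.left) :=
  Scheme.Opens.range_ι _

instance {T : Over S} (a : (Over.pullback i).obj T ⟶ U₀) : IsOpenImmersion (openPartι p a).left :=
  inferInstanceAs (IsOpenImmersion (openPart p a).ι)

instance {T : Over S} (a : (Over.pullback i).obj T ⟶ U₀) : Mono (openPartι p a) :=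
  Over.mono_of_mono_left _

/-- the open part of `T` represents the fibre product of `h_T` with the piece. -/
lemma exists_isPullback_openPart {T : Over S} (g : (AlgSp.yon S).obj T ⟶ push i U₀) :
    ∃ b₀ : openPartOver p (secEquiv i U₀ T g) ⟶ p.X,
      IsPullback ((AlgSp.yon S).map b₀)
        ((AlgSp.yon S).map (openPartι p (secEquiv i U₀ T g))) p.f g := by
  set a := secEquiv i U₀ T g with ha
  have hr : Set.range (secEquiv i U₀ (openPartOver p a)
      ((AlgSp.yon S).map (openPartι p a) ≫ g)).left ⊆ Set.range p.o.left := by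
    rw [secEquiv_naturality]
    exact (range_subset_openPart_iff p a _).1 (range_openPartι p a).le
  obtain ⟨b₀, hb₀⟩ := (p.exists_factor_iff _).2 hr
  refine ⟨b₀, isPullback_of_yon hb₀ ?_⟩
  intro T' b c hbc
  obtain ⟨b', rfl⟩ := (AlgSp.yon S).map_surjective b
  obtain ⟨m, rfl⟩ := (AlgSp.yon S).map_surjective c
  have h1 : Set.range (secEquiv i U₀ T' ((AlgSp.yon S).map m ≫ g)).left ⊆ Set.range p.o.left :=
    (p.exists_factor_iff _).1 ⟨b', hbc⟩
  rw [secEquiv_naturality] at h1
  have h2 : Set.range m.left ⊆ (openPart p a : Set T.left) :=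
    (range_subset_openPart_iff p a m).2 h1
  let m'₀ : T'.left ⟶ (openPart p a).toScheme := IsOpenImmersion.lift (openPart p a).ι m.left (by
    rw [Scheme.Opens.range_ι]
    exact h2)
  have hm'₀ : m'₀ ≫ (openPart p a).ι = m.left := IsOpenImmersion.lift_fac _ _ _
  let m' : T' ⟶ openPartOver p a := Over.homMk m'₀ (by
    change m'₀ ≫ (openPart p a).ι ≫ T.hom = T'.hom
    rw [← Category.assoc, hm'₀]
    exact Over.w m)
  have hm' : m' ≫ openPartι p a = m := Over.OverMorphism.ext hm'₀
  refine ⟨(AlgSp.yon S).map m', ⟨?_, ?_⟩, ?_⟩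
  · rw [← Functor.map_comp]
    congr 1
    apply p.f_inj
    rw [Functor.map_comp, Category.assoc, hb₀, ← Category.assoc, ← Functor.map_comp, hm']
    exact hbc.symm
  · rw [← Functor.map_comp, hm']
  · rintro a' ⟨-, ha'⟩
    obtain ⟨m'', rfl⟩ := (AlgSp.yon S).map_surjective a'
    congr 1
    rw [← Functor.map_comp] at ha'
    have h3 : m'' ≫ openPartι p a = m := (AlgSp.yon S).map_injective ha'
    rw [← cancel_mono (openPartι p a), h3, hm']

/-- the map of a piece is a representable open immersion. -/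
lemma repWith_f : AlgSp.RepWith @IsOpenImmersion p.f := by
  apply MorphismProperty.relative.of_exists
  intro T g
  obtain ⟨b₀, hb₀⟩ := exists_isPullback_openPart p g
  exact ⟨_, _, _, hb₀, inferInstanceAs (IsOpenImmersion (openPartι p _).left)⟩

end openPart

section glue

variable (U₀ : Over S₀) [Etale U₀.hom]

/-- every point of `U₀` lies in a piece. -/
lemma exists_piece (x : U₀.left) : ∃ p : Piece i U₀, x ∈ Set.range p.o.left := by
  obtain ⟨F, T₂, c, j₂, o, x₂, -, hc, ho, hpb, hox⟩ := sch_lift_open_gen i U₀.hom x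
  let o' : Over.mk (o ≫ U₀.hom) ⟶ U₀ := Over.homMk o rfl
  let κ : (Over.pullback i).obj (Over.mk c) ≅ Over.mk (o ≫ U₀.hom) :=
    Over.isoMk hpb.isoPullback.symm (by
      change hpb.isoPullback.inv ≫ o ≫ U₀.hom = pullback.snd c i
      exact hpb.isoPullback_inv_snd)
  exact ⟨⟨Over.mk c, hc, Over.mk (o ≫ U₀.hom), κ, o', ho⟩, ⟨x₂, hox⟩⟩

/-- a chosen piece through each point. -/
noncomputable def piece (x : U₀.left) : Piece i U₀ := (exists_piece i U₀ x).choose

lemma mem_piece (x : U₀.left) : x ∈ Set.range (piece i U₀ x).o.left :=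
  (exists_piece i U₀ x).choose_spec

open Groth.Agent.Lib.Helper12.ZarGlue in
/-- **Essential surjectivity in the topological invariance of the etale site**: a scheme etale over
the thin part of a thickening is the base change of a scheme etale over the thick part. -/
theorem exists_etale_lift :
    ∃ (W : Over S) (_ : (Over.pullback i).obj W ≅ U₀), Etale W.hom := by
  let hf : ∀ x : U₀.left, AlgSp.RepWith @IsOpenImmersion (piece i U₀ x).f :=
    fun x => repWith_f (piece i U₀ x)
  -- comparison of the chosen pullback with the open part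
  have hrange : ∀ (x : U₀.left) {T : Over S} (g : (AlgSp.yon S).obj T ⟶ push i U₀),
      Set.range ((hf x).rep.snd g).left =
        (openPart (piece i U₀ x) (secEquiv i U₀ T g) : Set T.left) := by
    intro x T g
    obtain ⟨b₀, hb₀⟩ := exists_isPullback_openPart (piece i U₀ x) g
    have h1 := (hf x).rep.isPullback g
    let θ := h1.isoIsPullback _ _ hb₀
    have hθ1 : θ.hom ≫ (AlgSp.yon S).map (openPartι (piece i U₀ x) (secEquiv i U₀ T g)) =
        (AlgSp.yon S).map ((hf x).rep.snd g) := h1.isoIsPullback_hom_snd _ _ hb₀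
    have hθ2 : θ.inv ≫ (AlgSp.yon S).map ((hf x).rep.snd g) =
        (AlgSp.yon S).map (openPartι (piece i U₀ x) (secEquiv i U₀ T g)) :=
      h1.isoIsPullback_inv_snd _ _ hb₀
    obtain ⟨n, hn⟩ := (AlgSp.yon S).map_surjective θ.hom
    obtain ⟨n', hn'⟩ := (AlgSp.yon S).map_surjective θ.inv
    rw [← hn, ← Functor.map_comp] at hθ1
    rw [← hn', ← Functor.map_comp] at hθ2
    have e1 := (AlgSp.yon S).map_injective hθ1
    have e2 := (AlgSp.yon S).map_injective hθ2
    rw [← range_openPartι]
    apply le_antisymm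
    · rintro _ ⟨y, rfl⟩
      exact ⟨n.left y, by rw [← Scheme.Hom.comp_apply, ← Over.comp_left, e1]⟩
    · rintro _ ⟨y, rfl⟩
      exact ⟨n'.left y, by rw [← Scheme.Hom.comp_apply, ← Over.comp_left, e2]⟩
  have hs : JointlySurjective hf := by
    intro T g t
    obtain ⟨y, rfl⟩ := (fst_bijective (i := i) T).2 t
    refine ⟨(secEquiv i U₀ T g).left y, ?_⟩
    rw [hrange]
    exact ⟨y, mem_piece i U₀ _, rfl⟩
  obtain ⟨W, e, k, hk, hko⟩ := exists_iso hf hs
  -- the pieces cover `W`
  have hcov : ∀ w : W.left, ∃ x : U₀.left, w ∈ Set.range (k x).left := by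
    intro w
    obtain ⟨x, hx⟩ := hs W e.hom w
    refine ⟨x, ?_⟩
    have h1 := (hf x).rep.isPullback e.hom
    have h2 : IsPullback (𝟙 ((AlgSp.yon S).obj (piece i U₀ x).X)) ((AlgSp.yon S).map (k x))
        (piece i U₀ x).f e.hom :=
      IsPullback.of_horiz_isIso ⟨by rw [Category.id_comp, hk x]⟩
    have hθ1 : (h1.isoIsPullback _ _ h2).hom ≫ (AlgSp.yon S).map (k x) =
        (AlgSp.yon S).map ((hf x).rep.snd e.hom) := h1.isoIsPullback_hom_snd _ _ h2
    obtain ⟨n, hn⟩ := (AlgSp.yon S).map_surjective (h1.isoIsPullback _ _ h2).hom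
    rw [← hn, ← Functor.map_comp] at hθ1
    have e1 := (AlgSp.yon S).map_injective hθ1
    obtain ⟨y, rfl⟩ := hx
    exact ⟨n.left y, by rw [← Scheme.Hom.comp_apply, ← Over.comp_left, e1]⟩
  -- `W` is etale over `S`
  have hW : Etale W.hom := by
    apply Groth.Agent.R2.H47.UnivThickLoc.etale_of_local_source
    intro w
    obtain ⟨x, hx⟩ := hcov w
    haveI := hko x
    refine ⟨(piece i U₀ x).X.left, (k x).left, inferInstance, hx, ?_⟩
    rw [Over.w (k x)]
    exact (piece i U₀ x).etale
  -- the comparison map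
  let aW : (Over.pullback i).obj W ⟶ U₀ := secEquiv i U₀ W e.hom
  have haW : ∀ x : U₀.left, (Over.pullback i).map (k x) ≫ aW =
      (piece i U₀ x).κ.hom ≫ (piece i U₀ x).o := by
    intro x
    rw [← secEquiv_naturality, hk x, Piece.f, Equiv.apply_symm_apply]
  haveI : Etale ((Over.pullback i).obj W).hom := by
    change Etale (pullback.snd W.hom i)
    infer_instance
  haveI : Etale (aW.left ≫ U₀.hom) := by
    rw [Over.w aW]
    infer_instance
  haveI : Etale aW.left :=
    MorphismProperty.of_postcomp (W := @Etale) (W' := @Etale) aW.left U₀.hom inferInstance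
      inferInstance
  haveI : Surjective aW.left := by
    refine ⟨fun u => ?_⟩
    obtain ⟨z, hz⟩ := mem_piece i U₀ u
    refine ⟨((Over.pullback i).map (k u)).left ((piece i U₀ u).κ.inv.left z), ?_⟩
    rw [← Scheme.Hom.comp_apply, ← Over.comp_left, haW u, Over.comp_left, Scheme.Hom.comp_apply,
      ← Scheme.Hom.comp_apply (piece i U₀ u).κ.inv.left, ← Over.comp_left, Iso.inv_hom_id]
    exact hz
  haveI : Mono aW.left := by
    constructor
    intro Q b₁ b₂ hb
    have hb' : b₁ ≫ pullback.snd W.hom i = b₂ ≫ pullback.snd W.hom i := by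
      have h0 : aW.left ≫ U₀.hom = pullback.snd W.hom i := Over.w aW
      rw [← h0, ← Category.assoc, hb, Category.assoc]
    let Q₀ : Over S₀ := Over.mk (b₁ ≫ pullback.snd W.hom i)
    let T : Over S := (Over.map i).obj Q₀
    have hc : ∀ b : Q ⟶ pullback W.hom i, b ≫ pullback.snd W.hom i = b₁ ≫ pullback.snd W.hom i →
        (b ≫ pullback.fst W.hom i) ≫ W.hom = T.hom := by
      intro b hbs
      change _ = (b₁ ≫ pullback.snd W.hom i) ≫ i
      rw [Category.assoc, pullback.condition, ← Category.assoc, hbs]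
    let c₁ : T ⟶ W := Over.homMk (b₁ ≫ pullback.fst W.hom i) (hc b₁ rfl)
    let c₂ : T ⟶ W := Over.homMk (b₂ ≫ pullback.fst W.hom i) (hc b₂ hb'.symm)
    have hπ : pullback.snd T.hom i = pullback.fst T.hom i ≫ Q₀.hom := by
      rw [← cancel_mono i, Category.assoc]
      exact pullback.condition.symm
    have hcl : ∀ (b : Q ⟶ pullback W.hom i) (hbs : b ≫ pullback.snd W.hom i =
        b₁ ≫ pullback.snd W.hom i),
        ((Over.pullback i).map (Over.homMk (b ≫ pullback.fst W.hom i) (hc b hbs) : T ⟶ W)).left =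
          pullback.fst T.hom i ≫ b := by
      intro b hbs
      apply pullback.hom_ext
      · rw [pullback_map_fst]
        simp
      · have h1 : ((Over.pullback i).map (Over.homMk (b ≫ pullback.fst W.hom i) (hc b hbs) :
            T ⟶ W)).left ≫ pullback.snd W.hom i = pullback.snd T.hom i :=
          Over.w ((Over.pullback i).map (Over.homMk (b ≫ pullback.fst W.hom i) (hc b hbs) : T ⟶ W))
        rw [h1, hπ, Category.assoc, hbs]
        rfl
    have hsec : secEquiv i U₀ T ((AlgSp.yon S).map c₁ ≫ e.hom) =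
        secEquiv i U₀ T ((AlgSp.yon S).map c₂ ≫ e.hom) := by
      rw [secEquiv_naturality, secEquiv_naturality]
      apply Over.OverMorphism.ext
      rw [Over.comp_left, Over.comp_left, hcl b₁ rfl, hcl b₂ hb'.symm, Category.assoc,
        Category.assoc]
      exact congrArg (pullback.fst T.hom i ≫ ·) hb
    have h3 := (secEquiv i U₀ T).injective hsec
    rw [cancel_mono] at h3
    have h4 : c₁ = c₂ := (AlgSp.yon S).map_injective h3
    apply pullback.hom_ext
    · exact congrArg (fun m => m.left) h4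
    · exact hb'
  haveI : IsOpenImmersion aW.left := IsOpenImmersion.of_flat_of_mono aW.left
  haveI : Epi aW.left.base := (TopCat.epi_iff_surjective _).2 aW.left.surjective
  haveI : IsIso aW.left := IsOpenImmersion.isIso aW.left
  exact ⟨W, Over.isoMk (asIso aW.left) (Over.w aW), hW⟩

end glue

end Groth.Agent.R2.H47.TopInv
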