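import Mathlib
import Groth.Agent.S0117
import Groth.Agent.S13998
import Groth.Agent.Lib.Helper22Thick2
import Groth.Agent.R2.H47TopInv

/-!
# Finite etale covers and morphisms to etale schemes along a thickening (helper47)
-/

set_option autoImplicit false
universe u

open CategoryTheory CategoryTheory.Limits AlgebraicGeometry

namespace Groth.Agent.R2.H47.FEtThick

variable {S S₀ : Scheme.{u}} (i : S₀ ⟶ S) [IsClosedImmersion i] [Surjective i]

omit [IsClosedImmersion i] [Surjective i] in
lemma pullback_map_fst {T T' : Over S} (m : T' ⟶ T) :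
    ((Over.pullback i).map m).left ≫ pullback.fst T.hom i = pullback.fst T'.hom i ≫ m.left := by
  simp only [Over.pullback_map_left]
  exact pullback.lift_fst _ _ _

omit [IsClosedImmersion i] [Surjective i] in
lemma pullback_map_snd {T T' : Over S} (m : T' ⟶ T) :
    ((Over.pullback i).map m).left ≫ pullback.snd T.hom i = pullback.snd T'.hom i := by
  simp only [Over.pullback_map_left]
  exact pullback.lift_snd _ _ _

section Hom

variable {X X₀ Y Y₀ : Scheme.{u}} (x : X ⟶ S) [Etale x] (y : Y ⟶ S) (x₀ : X₀ ⟶ S₀) (y₀ : Y₀ ⟶ S₀)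
  (tX : X₀ ⟶ X) (tY : Y₀ ⟶ Y) (hX : IsPullback tX x₀ x i) (hY : IsPullback tY y₀ y i)

include hY in
/-- morphisms to an etale scheme are determined by their restriction along a thickening. -/
theorem hom_ext_of_thickening (a b : Y ⟶ X) (ha : a ≫ x = y) (hb : b ≫ x = y)
    (hab : tY ≫ a = tY ≫ b) : a = b := by
  let φ : Over.mk y ⟶ Over.mk x := Over.homMk a ha
  let ψ : Over.mk y ⟶ Over.mk x := Over.homMk b hb
  have hfst : pullback.fst y i ≫ a = pullback.fst y i ≫ b := by
    have h1 : hY.isoPullback.hom ≫ pullback.fst y i = tY := hY.isoPullback_hom_fst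
    have h2 : pullback.fst y i = hY.isoPullback.inv ≫ tY := (Iso.eq_inv_comp _).mpr h1
    rw [h2, Category.assoc, Category.assoc, hab]
  have h : (Over.pullback i).map φ = (Over.pullback i).map ψ := by
    apply Over.OverMorphism.ext
    apply pullback.hom_ext
    · rw [pullback_map_fst, pullback_map_fst]
      exact hfst
    · rw [pullback_map_snd, pullback_map_snd]
  haveI : Etale (Over.mk x).hom := ‹Etale x›
  have := (Groth.Agent.S0117.result i (Over.mk x) (Over.mk y)).1 h
  exact congr(($this).left)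

include hX hY in
/-- morphisms to an etale scheme extend uniquely along a thickening. -/
theorem exists_hom_of_thickening (a₀ : Y₀ ⟶ X₀) (ha₀ : a₀ ≫ x₀ = y₀) :
    ∃ a : Y ⟶ X, a ≫ x = y ∧ tY ≫ a = a₀ ≫ tX := by
  let eX := hX.isoPullback
  let eY := hY.isoPullback
  have heX1 : eX.hom ≫ pullback.fst x i = tX := hX.isoPullback_hom_fst
  have heX2 : eX.hom ≫ pullback.snd x i = x₀ := hX.isoPullback_hom_snd
  have heY1 : eY.hom ≫ pullback.fst y i = tY := hY.isoPullback_hom_fst
  have heY2 : eY.hom ≫ pullback.snd y i = y₀ := hY.isoPullback_hom_snd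
  let α : (Over.pullback i).obj (Over.mk y) ⟶ (Over.pullback i).obj (Over.mk x) :=
    Over.homMk (eY.inv ≫ a₀ ≫ eX.hom) (by
      change (eY.inv ≫ a₀ ≫ eX.hom) ≫ pullback.snd x i = pullback.snd y i
      rw [Category.assoc, Category.assoc, heX2, ha₀, ← heY2, Iso.inv_hom_id_assoc])
  haveI : Etale (Over.mk x).hom := ‹Etale x›
  obtain ⟨φ, hφ⟩ := (Groth.Agent.S0117.result i (Over.mk x) (Over.mk y)).2 α
  refine ⟨φ.left, Over.w φ, ?_⟩
  have h1 := pullback_map_fst i φ
  have h2 : ((Over.pullback i).map φ).left = eY.inv ≫ a₀ ≫ eX.hom := congr(($hφ).left)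
  rw [h2] at h1
  change (eY.inv ≫ a₀ ≫ eX.hom) ≫ pullback.fst x i = pullback.fst y i ≫ φ.left at h1
  rw [← heY1, Category.assoc, ← h1]
  simp only [Category.assoc, Iso.hom_inv_id_assoc, heX1]

end Hom

/-- finite etale covers lift along thickenings of locally Noetherian schemes. -/
theorem exists_finite_etale_lift [IsLocallyNoetherian S] {R₀ : Scheme.{u}} (r₀ : R₀ ⟶ S₀)
    [IsFinite r₀] [Etale r₀] :
    ∃ (R : Scheme.{u}) (r : R ⟶ S) (t : R₀ ⟶ R), IsFinite r ∧ Etale r ∧ IsPullback t r₀ r i := by
  haveI : Etale (Over.mk r₀).hom := ‹Etale r₀›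
  obtain ⟨W, e, hW⟩ := Groth.Agent.R2.H47.TopInv.exists_etale_lift i (Over.mk r₀)
  let t : R₀ ⟶ W.left := e.inv.left ≫ pullback.fst W.hom i
  have hpb : IsPullback t r₀ W.hom i := by
    refine (IsPullback.of_hasPullback W.hom i).of_iso ((Over.forget _).mapIso e) (Iso.refl _)
      (Iso.refl _) (Iso.refl _) ?_ ?_ (by simp) (by simp)
    · change pullback.fst W.hom i ≫ 𝟙 _ = e.hom.left ≫ e.inv.left ≫ pullback.fst W.hom i
      rw [Category.comp_id, ← Category.assoc, ← Over.comp_left, e.hom_inv_id, Over.id_left,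
        Category.id_comp]
    · change pullback.snd W.hom i ≫ 𝟙 _ = e.hom.left ≫ r₀
      rw [Category.comp_id]
      exact (Over.w e.hom).symm
  haveI : IsClosedImmersion t := MorphismProperty.of_isPullback hpb.flip inferInstance
  haveI : Surjective t := MorphismProperty.of_isPullback hpb.flip inferInstance
  haveI : IsLocallyNoetherian W.left := LocallyOfFiniteType.isLocallyNoetherian W.hom
  refine ⟨W.left, W.hom, t, ?_, hW, hpb⟩
  refine (Groth.Agent.S13998.result W.hom r₀ t i ⟨inferInstance, inferInstance⟩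
    ⟨inferInstance, inferInstance⟩ ?_ ?_ ?_ hpb.flip).mpr inferInstance
  · intro U
    haveI : IsNoetherianRing Γ(W.left, U.1) := IsLocallyNoetherian.component_noetherian U
    have hfg : (t.ker.ideal U).FG := IsNoetherian.noetherian _
    refine hfg.isNilpotent_iff_le_nilradical.mpr ?_
    rw [Scheme.Hom.ker_apply]
    exact Groth.Agent.Lib.Helper22.Thick.ker_app_le_nilradical t U.2
  · intro U
    haveI : IsNoetherianRing Γ(S, U.1) := IsLocallyNoetherian.component_noetherian U
    have hfg : (i.ker.ideal U).FG := IsNoetherian.noetherian _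
    refine hfg.isNilpotent_iff_le_nilradical.mpr ?_
    rw [Scheme.Hom.ker_apply]
    exact Groth.Agent.Lib.Helper22.Thick.ker_app_le_nilradical i U.2
  · intro U
    haveI : IsNoetherianRing Γ(S, U.1) := IsLocallyNoetherian.component_noetherian U
    exact IsNoetherian.noetherian _

end Groth.Agent.R2.H47.FEtThick
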