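import Mathlib
import Groth.Prelude.Def_FSch4
import Groth.Agent.R2.H47FEtThick

/-!
# Etale covers of a locally Noetherian formal scheme and of its smallest level (helper47)
-/

set_option autoImplicit false
universe u

open CategoryTheory CategoryTheory.Limits AlgebraicGeometry

namespace Groth.Agent.R2.H47.EtCovLevel

open Groth.Agent.R2.H47.FEtThick

variable {𝔛 : FSch.Sys.{u}} (h𝔛 : 𝔛.IsLocNoethFormal)

section Hom

variable {R R' : FSch.EtCov 𝔛}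

/-- the level `n` component of the structure map. -/
abbrev str (R : FSch.EtCov 𝔛) (n : ℕ) : R.obj.left.X n ⟶ 𝔛.X n := (R.obj.hom : FSch.Hom _ _).app n

lemma hom_w (φ : R ⟶ R') (n : ℕ) :
    (φ.hom.left : FSch.Hom _ _).app n ≫ str R' n = str R n := by
  change (φ.hom.left : FSch.Hom _ _).app n ≫ (R'.obj.hom : FSch.Hom _ _).app n = _
  rw [← FSch.comp_app, Over.w φ.hom]

include h𝔛 in
theorem app_eq_of_zero (φ ψ : R ⟶ R')
    (h0 : (φ.hom.left : FSch.Hom _ _).app 0 = (ψ.hom.left : FSch.Hom _ _).app 0) (n : ℕ) :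
    (φ.hom.left : FSch.Hom _ _).app n = (ψ.hom.left : FSch.Hom _ _).app n := by
  induction n with
  | zero => exact h0
  | succ n ih =>
    haveI : IsClosedImmersion (𝔛.ι n) := (h𝔛.1 n).1
    haveI : Surjective (𝔛.ι n) := ⟨(h𝔛.1 n).2⟩
    haveI : Etale (str R' (n + 1)) := (R'.property.2 (n + 1)).2
    refine hom_ext_of_thickening (𝔛.ι n) (str R' (n + 1)) (str R (n + 1)) (str R n)
      (R.obj.left.ι n) (R.property.1 n) _ _ (hom_w φ (n + 1)) (hom_w ψ (n + 1)) ?_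
    rw [← (φ.hom.left : FSch.Hom _ _).comm n, ← (ψ.hom.left : FSch.Hom _ _).comm n, ih]


/-- compatible morphisms at level `n`. -/
def P (R R' : FSch.EtCov 𝔛) (n : ℕ) : Type u :=
  {a : R.obj.left.X n ⟶ R'.obj.left.X n // a ≫ str R' n = str R n}

include h𝔛 in
lemma step (n : ℕ) (a : P R R' n) :
    ∃ a' : P R R' (n + 1), R.obj.left.ι n ≫ a'.1 = a.1 ≫ R'.obj.left.ι n := by
  haveI : IsClosedImmersion (𝔛.ι n) := (h𝔛.1 n).1
  haveI : Surjective (𝔛.ι n) := ⟨(h𝔛.1 n).2⟩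
  haveI : Etale (str R' (n + 1)) := (R'.property.2 (n + 1)).2
  obtain ⟨b, hb1, hb2⟩ := exists_hom_of_thickening (𝔛.ι n) (str R' (n + 1)) (str R (n + 1))
    (str R' n) (str R n) (R'.obj.left.ι n) (R.obj.left.ι n) (R'.property.1 n) (R.property.1 n)
    a.1 a.2
  exact ⟨⟨b, hb1⟩, hb2⟩

/-- the compatible family extending a morphism of the smallest levels. -/
noncomputable def seq (a₀ : P R R' 0) : ∀ n, P R R' n
  | 0 => a₀
  | n + 1 => (step h𝔛 n (seq a₀ n)).choose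

lemma seq_comm (a₀ : P R R' 0) (n : ℕ) :
    R.obj.left.ι n ≫ (seq h𝔛 a₀ (n + 1)).1 = (seq h𝔛 a₀ n).1 ≫ R'.obj.left.ι n :=
  (step h𝔛 n (seq h𝔛 a₀ n)).choose_spec

/-- the morphism of etale covers extending a morphism of the smallest levels. -/
noncomputable def extend (a₀ : P R R' 0) : R ⟶ R' :=
  ObjectProperty.homMk (Over.homMk
    (⟨fun n => (seq h𝔛 a₀ n).1, fun n => (seq_comm h𝔛 a₀ n).symm⟩ : FSch.Hom R.obj.left R'.obj.left)
    (by
      apply FSch.Hom.ext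
      funext n
      exact (seq h𝔛 a₀ n).2))

lemma extend_app_zero (a₀ : P R R' 0) :
    ((extend h𝔛 a₀).hom.left : FSch.Hom _ _).app 0 = a₀.1 := rfl

end Hom


section Tower

/-- a finite etale cover of level `n`. -/
structure Lev (𝔛 : FSch.Sys.{u}) (n : ℕ) : Type (u + 1) where
  R : Scheme.{u}
  r : R ⟶ 𝔛.X n
  fin : IsFinite r
  et : Etale r

include h𝔛 in
lemma stepLev (n : ℕ) (L : Lev 𝔛 n) :
    ∃ (L' : Lev 𝔛 (n + 1)) (t : L.R ⟶ L'.R), IsPullback t L.r L'.r (𝔛.ι n) := by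
  haveI : IsClosedImmersion (𝔛.ι n) := (h𝔛.1 n).1
  haveI : Surjective (𝔛.ι n) := ⟨(h𝔛.1 n).2⟩
  haveI : IsLocallyNoetherian (𝔛.X (n + 1)) := h𝔛.2.2 (n + 1)
  haveI := L.fin
  haveI := L.et
  obtain ⟨R, r, t, h1, h2, h3⟩ := exists_finite_etale_lift (𝔛.ι n) L.r
  exact ⟨⟨R, r, h1, h2⟩, t, h3⟩

/-- the tower of lifts of a finite etale cover of the smallest level. -/
noncomputable def lev (L₀ : Lev 𝔛 0) : ∀ n, Lev 𝔛 n
  | 0 => L₀
  | n + 1 => (stepLev h𝔛 n (lev L₀ n)).choose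

noncomputable def trans (L₀ : Lev 𝔛 0) (n : ℕ) : (lev h𝔛 L₀ n).R ⟶ (lev h𝔛 L₀ (n + 1)).R :=
  (stepLev h𝔛 n (lev h𝔛 L₀ n)).choose_spec.choose

lemma isPullback_trans (L₀ : Lev 𝔛 0) (n : ℕ) :
    IsPullback (trans h𝔛 L₀ n) (lev h𝔛 L₀ n).r (lev h𝔛 L₀ (n + 1)).r (𝔛.ι n) :=
  (stepLev h𝔛 n (lev h𝔛 L₀ n)).choose_spec.choose_spec

/-- the system of lifts. -/
noncomputable def towerSys (L₀ : Lev 𝔛 0) : FSch.Sys.{u} where
  X n := (lev h𝔛 L₀ n).R
  ι n := trans h𝔛 L₀ n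

/-- its structure map. -/
noncomputable def towerHom (L₀ : Lev 𝔛 0) : towerSys h𝔛 L₀ ⟶ 𝔛 :=
  (⟨fun n => (lev h𝔛 L₀ n).r, fun n => (isPullback_trans h𝔛 L₀ n).w.symm⟩ :
    FSch.Hom (towerSys h𝔛 L₀) 𝔛)

lemma isEtaleCover_towerHom (L₀ : Lev 𝔛 0) : FSch.IsEtaleCover (towerHom h𝔛 L₀) :=
  ⟨fun n => isPullback_trans h𝔛 L₀ n, fun n => ⟨(lev h𝔛 L₀ n).fin, (lev h𝔛 L₀ n).et⟩⟩

/-- the etale cover lifting a finite etale cover of the smallest level. -/
noncomputable def towerCov (L₀ : Lev 𝔛 0) : FSch.EtCov 𝔛 :=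
  ⟨Over.mk (towerHom h𝔛 L₀), isEtaleCover_towerHom h𝔛 L₀⟩

end Tower

include h𝔛 in
theorem level_zero_isEquivalence : (FSch.EtCov.level 𝔛 0).IsEquivalence where
  faithful := by
    constructor
    intro R R' φ ψ h
    have h0 : (φ.hom.left : FSch.Hom _ _).app 0 = (ψ.hom.left : FSch.Hom _ _).app 0 :=
      congr(($h).hom.left)
    apply ObjectProperty.hom_ext
    apply Over.OverMorphism.ext
    apply FSch.Hom.ext
    funext n
    exact app_eq_of_zero h𝔛 φ ψ h0 n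
  full := by
    constructor
    intro R R' g
    have hg : g.hom.left ≫ str R' 0 = str R 0 := MorphismProperty.Over.w g
    refine ⟨extend h𝔛 ⟨g.hom.left, hg⟩, ?_⟩
    ext
    rfl
  essSurj := by
    constructor
    intro R₀
    refine ⟨towerCov h𝔛 ⟨R₀.left, R₀.hom, R₀.prop.1, R₀.prop.2⟩, ⟨?_⟩⟩
    exact MorphismProperty.Over.isoMk (Iso.refl _) (by simp; rfl)

end Groth.Agent.R2.H47.EtCovLevel
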