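import Mathlib

/-!
# Lifting etale algebras along a map which is surjective up to units (helper47)

Let `φ : R → R'` be a ring map such that every element of `R'` has the form `φ r / φ m` with
`φ m` a unit (e.g. `R → R ⊗_A κ(p)`).  Then every etale `R'`-algebra is, locally, the base change
of an etale `R`-algebra.
-/

set_option autoImplicit false
universe u

open Polynomial CategoryTheory CategoryTheory.Limits

namespace Groth.Agent.R2.H47.FibreEtLift

section Ring

variable {R R' : Type u} [CommRing R] [CommRing R'] (φ : R →+* R')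

/-- `φ` is surjective up to units: every element of `R'` is `φ r / φ m` with `φ m` a unit. -/
def SurjUpToUnits : Prop := ∀ r' : R', ∃ r m : R, IsUnit (φ m) ∧ r' * φ m = φ r

variable {φ}

lemma SurjUpToUnits.finset (h : SurjUpToUnits φ) (s : Finset R') :
    ∃ m : R, IsUnit (φ m) ∧ ∀ r' ∈ s, ∃ r : R, r' * φ m = φ r := by
  classical
  induction s using Finset.induction_on with
  | empty => exact ⟨1, by simp, by simp⟩
  | insert a s ha ih =>
    obtain ⟨m₁, hm₁, h₁⟩ := ih
    obtain ⟨r, m₂, hm₂, h₂⟩ := h a
    refine ⟨m₁ * m₂, by rw [map_mul]; exact hm₁.mul hm₂, ?_⟩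
    intro r' hr'
    rw [Finset.mem_insert] at hr'
    rcases hr' with rfl | hr'
    · exact ⟨r * m₁, by rw [map_mul, map_mul, ← h₂]; ring⟩
    · obtain ⟨r₁, hr₁⟩ := h₁ r' hr'
      exact ⟨r₁ * m₂, by rw [map_mul, map_mul, ← hr₁]; ring⟩

/-- the induced map from the localization away from `m`. -/
noncomputable abbrev awayLift (m : R) (hm : IsUnit (φ m)) : Localization.Away m →+* R' :=
  IsLocalization.Away.lift m hm

lemma mem_lifts_awayLift (m : R) (hm : IsUnit (φ m)) (q : R'[X])
    (h : ∀ r' ∈ q.coeffs, ∃ r : R, r' * φ m = φ r) :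
    q ∈ Polynomial.lifts (awayLift m hm) := by
  rw [Polynomial.lifts_iff_coeff_lifts]
  intro n
  by_cases h0 : q.coeff n = 0
  · exact ⟨0, by rw [map_zero, h0]⟩
  · obtain ⟨r, hr⟩ := h _ (Polynomial.coeff_mem_coeffs h0)
    refine ⟨IsLocalization.mk' _ r (⟨m, Submonoid.mem_powers m⟩ : Submonoid.powers m), ?_⟩
    change IsLocalization.lift _ _ = _
    rw [IsLocalization.lift_mk'_spec]
    rw [← hr, mul_comm]

/-- lifting a standard etale pair along a map which is surjective up to units, after inverting
one element (the polynomial `g` gets replaced by a power). -/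
lemma exists_pair_lift_loc (h : SurjUpToUnits φ) (P₀ : StandardEtalePair R') :
    ∃ (m : R) (hm : IsUnit (φ m)) (P : StandardEtalePair (Localization.Away m)) (n : ℕ),
      P.f.map (awayLift m hm) = P₀.f ∧ P.g.map (awayLift m hm) = P₀.g ^ (n + 1) := by
  classical
  obtain ⟨p₁, p₂, n, e⟩ := P₀.cond
  obtain ⟨m, hm, hs⟩ := h.finset (P₀.f.coeffs ∪ P₀.g.coeffs ∪ p₁.coeffs ∪ p₂.coeffs)
  have hl : ∀ q : R'[X], q.coeffs ⊆ P₀.f.coeffs ∪ P₀.g.coeffs ∪ p₁.coeffs ∪ p₂.coeffs →
      q ∈ Polynomial.lifts (awayLift m hm) := fun q hq =>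
    mem_lifts_awayLift m hm q fun r' hr' => hs r' (hq hr')
  obtain ⟨F, hF, hFm⟩ : ∃ F : (Localization.Away m)[X],
      F.map (awayLift m hm) = P₀.f ∧ F.Monic := by
    by_cases hn : Nontrivial R'
    · obtain ⟨F, hF, -, hFm⟩ := Polynomial.lifts_and_degree_eq_and_monic
        (hl P₀.f (by intro x hx; simp [hx])) P₀.monic_f
      exact ⟨F, hF, hFm⟩
    · rw [not_nontrivial_iff_subsingleton] at hn
      exact ⟨1, Subsingleton.elim _ _, monic_one⟩
  obtain ⟨G₀, hG₀⟩ := (Polynomial.mem_lifts _).1 (hl P₀.g (by intro x hx; simp [hx]))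
  obtain ⟨P₁, hP₁⟩ := (Polynomial.mem_lifts _).1 (hl p₁ (by intro x hx; simp [hx]))
  obtain ⟨P₂, hP₂⟩ := (Polynomial.mem_lifts _).1 (hl p₂ (by intro x hx; simp [hx]))
  refine ⟨m, hm, ⟨F, hFm, G₀ * (derivative F * P₁ + F * P₂), P₁ * G₀, P₂ * G₀, 1, by ring⟩, n,
    hF, ?_⟩
  change (G₀ * (derivative F * P₁ + F * P₂)).map (awayLift m hm) = _
  rw [Polynomial.map_mul, Polynomial.map_add, Polynomial.map_mul, Polynomial.map_mul,
    ← Polynomial.derivative_map, hF, hG₀, hP₁, hP₂, e, pow_succ']

end Ring

section Pair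

variable {S S' : Type u} [CommRing S] [CommRing S'] (θ : S →+* S')
  (P : StandardEtalePair S) (P₀ : StandardEtalePair S') (n : ℕ)
  (hf : P.f.map θ = P₀.f) (hg : P.g.map θ = P₀.g ^ (n + 1))

include hf hg in
lemma hasMap_of_map {T : Type u} [CommRing T] [Algebra S' T] {x : T}
    (hx : (P.map θ).HasMap x) : P₀.HasMap x := by
  obtain ⟨h1, h2⟩ := hx
  refine ⟨?_, ?_⟩
  · rw [← hf]; exact h1
  · have h3 : IsUnit (aeval x (P₀.g ^ (n + 1))) := by rw [← hg]; exact h2
    rw [map_pow] at h3
    exact (isUnit_pow_iff (Nat.succ_ne_zero n)).1 h3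

include hf hg in
lemma map_hasMap_of_hasMap {T : Type u} [CommRing T] [Algebra S' T] {x : T}
    (hx : P₀.HasMap x) : (P.map θ).HasMap x := by
  obtain ⟨h1, h2⟩ := hx
  refine ⟨?_, ?_⟩
  · change aeval x (P.f.map θ) = 0
    rw [hf]; exact h1
  · change IsUnit (aeval x (P.g.map θ))
    rw [hg, map_pow]
    exact h2.pow _

include hf hg in
/-- universal property: `P₀.Ring` is the pushout of `P.Ring ← S → S'`. -/
theorem pair_univ :
    ∃ ρ : P.Ring →+* P₀.Ring, ρ.comp (algebraMap S P.Ring) = (algebraMap S' P₀.Ring).comp θ ∧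
      ∀ (T : Type u) [CommRing T] (a : P.Ring →+* T) (b : S' →+* T),
        a.comp (algebraMap S P.Ring) = b.comp θ →
        ∃ d : P₀.Ring →+* T, d.comp ρ = a ∧ d.comp (algebraMap S' P₀.Ring) = b ∧
          ∀ d' : P₀.Ring →+* T, d'.comp ρ = a → d'.comp (algebraMap S' P₀.Ring) = b → d' = d := by
  letI algSS' : Algebra S S' := θ.toAlgebra
  letI alg0 : Algebra S P₀.Ring := ((algebraMap S' P₀.Ring).comp θ).toAlgebra
  haveI : IsScalarTower S S' P₀.Ring := IsScalarTower.of_algebraMap_eq fun _ => rfl
  have hX : P.HasMap P₀.X := by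
    have h1 : (P.map θ).HasMap P₀.X := map_hasMap_of_hasMap θ P P₀ n hf hg P₀.hasMap_X
    obtain ⟨h2, h3⟩ := h1
    refine ⟨?_, ?_⟩
    · have := Polynomial.aeval_map_algebraMap S' P₀.X P.f
      rw [← this]; exact h2
    · have := Polynomial.aeval_map_algebraMap S' P₀.X P.g
      rw [← this]; exact h3
  let ρ₀ : P.Ring →ₐ[S] P₀.Ring := P.lift P₀.X hX
  refine ⟨ρ₀.toRingHom, ?_, ?_⟩
  · ext s
    exact ρ₀.commutes s
  · intro T _ a b hab
    letI algT' : Algebra S' T := b.toAlgebra
    letI algT : Algebra S T := (b.comp θ).toAlgebra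
    haveI : IsScalarTower S S' T := IsScalarTower.of_algebraMap_eq fun _ => rfl
    let aA : P.Ring →ₐ[S] T :=
      { toRingHom := a
        commutes' := fun s => congrArg (fun g => g s) hab }
    have hx : P.HasMap (a P.X) := P.hasMap_X.map aA
    have hx' : (P.map θ).HasMap (a P.X) := hx.map_algebraMap
    have hx₀ : P₀.HasMap (a P.X) := hasMap_of_map θ P P₀ n hf hg hx'
    let d₀ : P₀.Ring →ₐ[S'] T := P₀.lift (a P.X) hx₀
    refine ⟨d₀.toRingHom, ?_, ?_, ?_⟩
    · let e₁ : P.Ring →ₐ[S] T :=
        { toRingHom := d₀.toRingHom.comp ρ₀.toRingHom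
          commutes' := by
            intro s
            change d₀ (ρ₀ (algebraMap S P.Ring s)) = _
            rw [ρ₀.commutes]
            change d₀ (algebraMap S' P₀.Ring (θ s)) = _
            rw [d₀.commutes]
            rfl }
      have he : e₁ = aA := by
        apply StandardEtalePair.hom_ext
        change d₀ (ρ₀ P.X) = a P.X
        rw [StandardEtalePair.lift_X, StandardEtalePair.lift_X]
      exact congrArg (fun g : P.Ring →ₐ[S] T => g.toRingHom) he
    · ext s
      exact d₀.commutes s
    · intro d' h1 h2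
      let dA : P₀.Ring →ₐ[S'] T :=
        { toRingHom := d'
          commutes' := fun s => congrArg (fun g => g s) h2 }
      have he : dA = d₀ := by
        apply StandardEtalePair.hom_ext
        change d' P₀.X = d₀ P₀.X
        rw [StandardEtalePair.lift_X]
        have : d' (ρ₀ P.X) = a P.X := congrArg (fun g => g P.X) h1
        rwa [StandardEtalePair.lift_X] at this
      exact congrArg (fun g : P₀.Ring →ₐ[S'] T => g.toRingHom) he

end Pair

section Main

variable {R R' : Type u} [CommRing R] [CommRing R'] {φ : R →+* R'}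

/-- **Local lifting of etale algebras along a map which is surjective up to units**: a principal
localization of an etale `R'`-algebra `C` is the pushout of an etale `R`-algebra. -/
theorem exists_etale_lift_pushout (hφ : SurjUpToUnits φ) {C : Type u} [CommRing C]
    (γ : R' →+* C) (hγ : γ.Etale) (q : Ideal C) [q.IsPrime] :
    ∃ (c : C) (D : Type u) (_ : CommRing D) (ψ : R →+* D) (β : D →+* Localization.Away c),
      c ∉ q ∧ ψ.Etale ∧
      IsPushout (CommRingCat.ofHom ψ) (CommRingCat.ofHom φ) (CommRingCat.ofHom β)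
        (CommRingCat.ofHom ((algebraMap C (Localization.Away c)).comp γ)) := by
  algebraize [γ]
  have hq : Algebra.IsEtaleAt R' q := by
    have h1 : Algebra.FormallyEtale C (Localization.AtPrime q) :=
      Algebra.FormallyEtale.of_isLocalization q.primeCompl
    exact Algebra.FormallyEtale.comp R' C (Localization.AtPrime q)
  obtain ⟨c, hcq, hc⟩ := Algebra.IsEtaleAt.exists_isStandardEtale (R := R') q
  let Pr : StandardEtalePresentation R' (Localization.Away c) :=
    Algebra.IsStandardEtale.nonempty_standardEtalePresentation.some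
  obtain ⟨m, hm, P, n, hf, hg⟩ := exists_pair_lift_loc hφ Pr.P
  obtain ⟨ρ, hρ, huniv⟩ := pair_univ (awayLift m hm) P Pr.P n hf hg
  let ψ : R →+* P.Ring := (algebraMap (Localization.Away m) P.Ring).comp
    (algebraMap R (Localization.Away m))
  let β : P.Ring →+* Localization.Away c := Pr.equivRing.symm.toAlgHom.toRingHom.comp ρ
  have hlift : (awayLift m hm).comp (algebraMap R (Localization.Away m)) = φ :=
    IsLocalization.lift_comp _
  refine ⟨c, P.Ring, inferInstance, ψ, β, hcq, ?_, ?_⟩
  · have h1 : (algebraMap (Localization.Away m) P.Ring).Etale := by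
      rw [RingHom.etale_algebraMap]; infer_instance
    have h2 : (algebraMap R (Localization.Away m)).Etale := by
      rw [RingHom.etale_algebraMap]; infer_instance
    exact RingHom.Etale.stableUnderComposition _ _ h2 h1
  · have hw : β.comp ψ = ((algebraMap C (Localization.Away c)).comp γ).comp φ := by
      ext r
      change Pr.equivRing.symm (ρ (algebraMap (Localization.Away m) P.Ring
        (algebraMap R (Localization.Away m) r))) = _
      have h1 : ρ (algebraMap (Localization.Away m) P.Ring (algebraMap R (Localization.Away m) r)) =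
          algebraMap R' Pr.P.Ring (awayLift m hm (algebraMap R (Localization.Away m) r)) :=
        congrArg (fun g => g (algebraMap R (Localization.Away m) r)) hρ
      rw [h1]
      have h2 : awayLift m hm (algebraMap R (Localization.Away m) r) = φ r :=
        congrArg (fun g => g r) hlift
      rw [h2, AlgEquiv.commutes]
      rfl
    have key : ∀ (T : CommRingCat.{u}) (a : CommRingCat.of P.Ring ⟶ T)
        (b : CommRingCat.of R' ⟶ T), CommRingCat.ofHom ψ ≫ a = CommRingCat.ofHom φ ≫ b →
        ∃ d : CommRingCat.of (Localization.Away c) ⟶ T, CommRingCat.ofHom β ≫ d = a ∧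
          CommRingCat.ofHom ((algebraMap C (Localization.Away c)).comp γ) ≫ d = b ∧
          ∀ d' : CommRingCat.of (Localization.Away c) ⟶ T, CommRingCat.ofHom β ≫ d' = a →
            CommRingCat.ofHom ((algebraMap C (Localization.Away c)).comp γ) ≫ d' = b → d' = d := by
      intro T a b hab
      have hab' : a.hom.comp ψ = b.hom.comp φ := congrArg CommRingCat.Hom.hom hab
      have hab'' : a.hom.comp (algebraMap (Localization.Away m) P.Ring) =
          b.hom.comp (awayLift m hm) := by
        apply IsLocalization.ringHom_ext (Submonoid.powers m)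
        rw [RingHom.comp_assoc, RingHom.comp_assoc, hlift]
        exact hab'
      obtain ⟨d, hd1, hd2, hd3⟩ := huniv T a.hom b.hom hab''
      refine ⟨CommRingCat.ofHom (d.comp Pr.equivRing.toAlgHom.toRingHom), ?_, ?_, ?_⟩
      · apply CommRingCat.hom_ext
        rw [← hd1]
        ext x
        change d (Pr.equivRing (Pr.equivRing.symm (ρ x))) = d (ρ x)
        rw [AlgEquiv.apply_symm_apply]
      · apply CommRingCat.hom_ext
        rw [← hd2]
        ext x
        change d (Pr.equivRing (algebraMap C (Localization.Away c) (algebraMap R' C x))) = _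
        rw [← IsScalarTower.algebraMap_apply R' C (Localization.Away c), AlgEquiv.commutes]
        rfl
      · intro d' h1 h2
        have h3 : d'.hom.comp Pr.equivRing.symm.toAlgHom.toRingHom = d := by
          apply hd3
          · rw [RingHom.comp_assoc]
            exact congrArg CommRingCat.Hom.hom h1
          · rw [← congrArg CommRingCat.Hom.hom h2]
            ext x
            change d'.hom (Pr.equivRing.symm (algebraMap R' Pr.P.Ring x)) =
              d'.hom (algebraMap C (Localization.Away c) (algebraMap R' C x))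
            rw [AlgEquiv.commutes, ← IsScalarTower.algebraMap_apply R' C (Localization.Away c)]
        apply CommRingCat.hom_ext
        rw [← h3]
        ext x
        change d'.hom x = d'.hom (Pr.equivRing.symm (Pr.equivRing x))
        rw [AlgEquiv.symm_apply_apply]
    choose desc h1 h2 h3 using key
    refine ⟨⟨?_⟩, ⟨PushoutCocone.IsColimit.mk _ (fun s => desc s.pt s.inl s.inr s.condition)
      (fun s => h1 _ _ _ _) (fun s => h2 _ _ _ _) (fun s d' e1 e2 => h3 _ _ _ _ d' e1 e2)⟩⟩
    apply CommRingCat.hom_ext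
    exact hw

end Main

end Groth.Agent.R2.H47.FibreEtLift
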