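import Mathlib
import Groth.Agent.R2.H47FibreEtLift

/-!
# Lifting etale neighbourhoods from a fibre to the total space (helper47)

Scheme-level form of `H47FibreEtLift`: if `ι : Z ⟶ X` has a chart `Spec R' → Spec R` (open in
`Z`, `X`, cartesian) whose ring map is surjective up to units, then every etale `Z`-scheme is,
locally, the base change of an etale `X`-scheme.  Applied to the fibre `X_s ⟶ X` of `f : X ⟶ S`.
-/

set_option autoImplicit false
universe u

open CategoryTheory CategoryTheory.Limits AlgebraicGeometry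

namespace Groth.Agent.R2.H47.FibreEtLift

lemma isPullback_comp_mono {C : Type*} [Category C] {P X Y W Z : C} {fst : P ⟶ X} {snd : P ⟶ Y}
    {f : X ⟶ W} {g : Y ⟶ W} (h : IsPullback fst snd f g) (i : W ⟶ Z) [Mono i] :
    IsPullback fst snd (f ≫ i) (g ≫ i) := by
  have hb : IsPullback g (𝟙 Y) i (g ≫ i) := IsPullback.of_vert_isIso_mono ⟨by simp⟩
  have := h.paste_vert hb
  simpa using this

/-- **Lifting along a chart.** -/
theorem lift_along_chart {Z X V : Scheme.{u}} (ι : Z ⟶ X) {R R' : CommRingCat.{u}} (φ : R ⟶ R')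
    (w : Spec R ⟶ X) (k : Spec R' ⟶ Z) [IsOpenImmersion w] [IsOpenImmersion k]
    (hφ : SurjUpToUnits φ.hom) (hsq : IsPullback (Spec.map φ) k w ι)
    (g : V ⟶ Z) [Etale g] (v : V) (hv : g v ∈ Set.range k) :
    ∃ (U V₂ : Scheme.{u}) (p : U ⟶ X) (j₂ : V₂ ⟶ U) (o : V₂ ⟶ V) (y : V₂),
      Etale p ∧ IsOpenImmersion o ∧ IsPullback j₂ (o ≫ g) p ι ∧ o y = v := by
  obtain ⟨z, hz⟩ := hv
  obtain ⟨v', hv'1, hv'2⟩ := Scheme.Pullback.exists_preimage_pullback (f := g) (g := k) v z hz.symm
  obtain ⟨_, ⟨O, hO, rfl⟩, hvO, -⟩ :=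
    (pullback g k).isBasis_affineOpens.exists_subset_of_mem_open (Set.mem_univ v') isOpen_univ
  let γ : R' ⟶ Γ(pullback g k, O) := Spec.preimage (hO.fromSpec ≫ pullback.snd g k)
  have hγ : Spec.map γ = hO.fromSpec ≫ pullback.snd g k := Spec.map_preimage _
  have hγet : γ.hom.Etale := by
    rw [← HasRingHomProperty.Spec_iff (P := @Etale), hγ]
    infer_instance
  let q := hO.primeIdealOf ⟨v', hvO⟩
  obtain ⟨c, D, _, ψ, β, hcq, hψ, hpo⟩ := exists_etale_lift_pushout hφ γ.hom hγet q.asIdeal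
  let loc : Γ(pullback g k, O) ⟶ CommRingCat.of (Localization.Away c) :=
    CommRingCat.ofHom (algebraMap Γ(pullback g k, O) (Localization.Away c))
  have hloc : IsOpenImmersion (Spec.map loc) :=
    inferInstanceAs (IsOpenImmersion (Spec.map (CommRingCat.ofHom
      (algebraMap Γ(pullback g k, O) (Localization.Away c)))))
  let o : Spec (.of (Localization.Away c)) ⟶ V := Spec.map loc ≫ hO.fromSpec ≫ pullback.fst g k
  have ho : IsOpenImmersion o := inferInstance
  obtain ⟨y, hy⟩ : ∃ y : Spec (.of (Localization.Away c)), (Spec.map loc) y = q := by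
    have hmem : q ∈ Set.range (PrimeSpectrum.comap
        (algebraMap Γ(pullback g k, O) (Localization.Away c))) := by
      rw [PrimeSpectrum.localization_away_comap_range (Localization.Away c) c]
      exact hcq
    obtain ⟨y, hy⟩ := hmem
    exact ⟨y, hy⟩
  refine ⟨Spec (.of D), Spec (.of (Localization.Away c)), Spec.map (CommRingCat.ofHom ψ) ≫ w,
    Spec.map (CommRingCat.ofHom β), o, y, ?_, ho, ?_, ?_⟩
  · have : Etale (Spec.map (CommRingCat.ofHom ψ)) := by
      rw [HasRingHomProperty.Spec_iff (P := @Etale)]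
      exact hψ
    infer_instance
  · have h1 := isPullback_SpecMap_of_isPushout _ _ _ _ hpo
    have h2 := h1.paste_vert hsq
    have h3 : Spec.map (CommRingCat.ofHom ((algebraMap Γ(pullback g k, O)
        (Localization.Away c)).comp γ.hom)) ≫ k = o ≫ g := by
      have : CommRingCat.ofHom ((algebraMap Γ(pullback g k, O)
          (Localization.Away c)).comp γ.hom) = γ ≫ loc := rfl
      rw [this, Spec.map_comp, Category.assoc, hγ]
      simp only [o, Category.assoc]
      rw [pullback.condition]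
    rw [h3] at h2
    exact h2
  · change (pullback.fst g k) (hO.fromSpec ((Spec.map loc) y)) = v
    rw [hy]
    have : hO.fromSpec q = v' := hO.fromSpec_primeIdealOf ⟨v', hvO⟩
    rw [this, hv'1]

open TensorProduct in
/-- `R → R ⊗[A] κ` is surjective up to units when every element of `κ` is a fraction of elements
of `A`. -/
lemma surjUpToUnits_includeLeft {A R κ : Type u} [CommRing A] [CommRing R] [CommRing κ]
    [Algebra A R] [Algebra A κ]
    (hκ : ∀ t : κ, ∃ a m : A, IsUnit (algebraMap A κ m) ∧ t * algebraMap A κ m = algebraMap A κ a) :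
    SurjUpToUnits (Algebra.TensorProduct.includeLeftRingHom : R →+* R ⊗[A] κ) := by
  intro t
  induction t using TensorProduct.induction_on with
  | zero => exact ⟨0, 1, by rw [map_one]; exact isUnit_one, by simp⟩
  | tmul r t =>
    obtain ⟨a, m, hm, hk⟩ := hκ t
    have h1 : (Algebra.TensorProduct.includeLeftRingHom : R →+* R ⊗[A] κ) (algebraMap A R m) =
        (1 : R) ⊗ₜ[A] (algebraMap A κ m) := by
      change (algebraMap A R m) ⊗ₜ[A] (1 : κ) = (1 : R) ⊗ₜ[A] (algebraMap A κ m)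
      rw [Algebra.algebraMap_eq_smul_one, Algebra.algebraMap_eq_smul_one, TensorProduct.smul_tmul]
    refine ⟨algebraMap A R a * r, algebraMap A R m, ?_, ?_⟩
    · rw [h1]
      exact hm.map (Algebra.TensorProduct.includeRight : κ →ₐ[A] R ⊗[A] κ)
    · rw [h1, Algebra.TensorProduct.tmul_mul_tmul, mul_one, hk]
      change r ⊗ₜ[A] (algebraMap A κ a) = (algebraMap A R a * r) ⊗ₜ[A] (1 : κ)
      rw [Algebra.algebraMap_eq_smul_one, Algebra.algebraMap_eq_smul_one, ← TensorProduct.smul_tmul,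
        smul_mul_assoc, one_mul]
  | add t₁ t₂ h₁ h₂ =>
    obtain ⟨r₁, m₁, hm₁, e₁⟩ := h₁
    obtain ⟨r₂, m₂, hm₂, e₂⟩ := h₂
    refine ⟨r₁ * m₂ + r₂ * m₁, m₁ * m₂, ?_, ?_⟩
    · rw [map_mul]; exact hm₁.mul hm₂
    · rw [map_add, map_mul, map_mul, map_mul, ← e₁, ← e₂]
      ring

open TensorProduct in
/-- **The fibre chart**: around any point `x`, the fibre inclusion `X_{f x} ⟶ X` has an affine
chart whose ring map is surjective up to units. -/
theorem fibre_chart {X S : Scheme.{u}} (f : X ⟶ S) (x : X) :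
    ∃ (R R' : CommRingCat.{u}) (φ : R ⟶ R') (w : Spec R ⟶ X) (k : Spec R' ⟶ f.fiber (f x)),
      IsOpenImmersion w ∧ IsOpenImmersion k ∧ SurjUpToUnits φ.hom ∧
      IsPullback (Spec.map φ) k w (f.fiberι (f x)) ∧ x ∈ Set.range w := by
  obtain ⟨_, ⟨US, hUS, rfl⟩, hsU, -⟩ :=
    S.isBasis_affineOpens.exists_subset_of_mem_open (Set.mem_univ (f x)) isOpen_univ
  obtain ⟨_, ⟨W, hW, rfl⟩, hxW, hWU : W ≤ f ⁻¹ᵁ US⟩ :=
    X.isBasis_affineOpens.exists_subset_of_mem_open hsU (f ⁻¹ᵁ US).2
  let α : Γ(S, US) ⟶ Γ(X, W) := f.appLE US W hWU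
  let ev : Γ(S, US) ⟶ S.residueField (f x) := S.evaluation US (f x) hsU
  have hσ : S.fromSpecResidueField (f x) = Spec.map ev ≫ hUS.fromSpec := by
    rw [Scheme.fromSpecResidueField, ← hUS.fromSpecStalk_eq_fromSpecStalk hsU,
      IsAffineOpen.fromSpecStalk, ← Category.assoc, ← Spec.map_comp]
    rfl
  have hα : hW.fromSpec ≫ f = Spec.map α ≫ hUS.fromSpec :=
    (IsAffineOpen.SpecMap_appLE_fromSpec f hUS hW hWU).symm
  letI algR : Algebra Γ(S, US) Γ(X, W) := α.hom.toAlgebra
  letI algκ : Algebra Γ(S, US) (S.residueField (f x)) := ev.hom.toAlgebra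
  let φ : Γ(X, W) ⟶ CommRingCat.of (Γ(X, W) ⊗[Γ(S, US)] (S.residueField (f x))) :=
    CommRingCat.ofHom Algebra.TensorProduct.includeLeftRingHom
  let ικ : S.residueField (f x) ⟶
      CommRingCat.of (Γ(X, W) ⊗[Γ(S, US)] (S.residueField (f x))) :=
    CommRingCat.ofHom (Algebra.TensorProduct.includeRight (R := Γ(S, US))
      (A := Γ(X, W)) (B := S.residueField (f x))).toRingHom
  have hpo : IsPushout α ev φ ικ :=
    CommRingCat.isPushout_tensorProduct Γ(S, US) Γ(X, W) (S.residueField (f x))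
  have h1 : IsPullback (Spec.map φ) (Spec.map ικ) (Spec.map α) (Spec.map ev) :=
    isPullback_SpecMap_of_isPushout _ _ _ _ hpo
  have h2 : IsPullback (Spec.map φ) (Spec.map ικ) (hW.fromSpec ≫ f)
      (S.fromSpecResidueField (f x)) := by
    rw [hα, hσ]
    exact isPullback_comp_mono h1 hUS.fromSpec
  let k : Spec (CommRingCat.of (Γ(X, W) ⊗[Γ(S, US)] (S.residueField (f x)))) ⟶ f.fiber (f x) :=
    pullback.lift (Spec.map φ ≫ hW.fromSpec) (Spec.map ικ)
      (by rw [Category.assoc]; exact h2.w)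
  have h3 : IsPullback (Spec.map φ) k hW.fromSpec (f.fiberι (f x)) := by
    refine IsPullback.of_bot ?_ ?_ (IsPullback.of_hasPullback f (S.fromSpecResidueField (f x)))
    · have : k ≫ pullback.snd f (S.fromSpecResidueField (f x)) = Spec.map ικ :=
        pullback.lift_snd _ _ _
      rw [this]
      exact h2
    · exact (pullback.lift_fst _ _ _).symm
  have hk : IsOpenImmersion k :=
    MorphismProperty.of_isPullback (P := @IsOpenImmersion) h3 inferInstance
  have hκ : ∀ t : S.residueField (f x), ∃ a m : Γ(S, US),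
      IsUnit (algebraMap Γ(S, US) (S.residueField (f x)) m) ∧
        t * algebraMap Γ(S, US) (S.residueField (f x)) m =
          algebraMap Γ(S, US) (S.residueField (f x)) a := by
    intro t
    obtain ⟨z, rfl⟩ := S.residue_surjective (f x) t
    letI := S.presheaf.algebra_section_stalk ⟨f x, hsU⟩
    haveI := hUS.isLocalization_stalk ⟨f x, hsU⟩
    obtain ⟨⟨a, m⟩, hz⟩ :=
      IsLocalization.surj (hUS.primeIdealOf ⟨f x, hsU⟩).asIdeal.primeCompl z
    refine ⟨a, m, ?_, ?_⟩
    · have hu : IsUnit (algebraMap Γ(S, US) (S.presheaf.stalk (f x)) m) :=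
        IsLocalization.map_units _ m
      exact hu.map (S.residue (f x)).hom
    · exact congrArg (S.residue (f x)).hom hz
  refine ⟨Γ(X, W), _, φ, hW.fromSpec, k, inferInstance, hk, surjUpToUnits_includeLeft hκ, h3, ?_⟩
  rw [hW.range_fromSpec]
  exact hxW

/-- **Etale neighbourhoods of a point in its fibre lift to the total space.** -/
theorem etale_nbhd_of_fibre_lifts {X S V : Scheme.{u}} (f : X ⟶ S) (x : X)
    (g : V ⟶ f.fiber (f x)) [Etale g] (v : V) (hv : g v = f.asFiber x) :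
    ∃ (U : Scheme.{u}) (p : U ⟶ X) (u : U) (m : (p ≫ f).fiber (f x) ⟶ V)
      (u' : ↑((p ≫ f).fiber (f x))),
      Etale p ∧ p u = x ∧ IsOpenImmersion m ∧
      m ≫ g = pullback.lift ((p ≫ f).fiberι (f x) ≫ p) ((p ≫ f).fiberToSpecResidueField (f x))
        (by rw [Category.assoc]; exact (p ≫ f).fiber_fac (f x)) ∧
      (p ≫ f).fiberι (f x) u' = u ∧ m u' = v := by
  obtain ⟨R, R', φ, w, k, hw, hk, hφ, hsq, hxw⟩ := fibre_chart f x
  have hvk : g v ∈ Set.range k := by
    rw [hv]
    obtain ⟨y, hy⟩ := hxw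
    obtain ⟨z, hz1, hz2⟩ := Scheme.Pullback.exists_preimage_pullback (f := w)
      (g := f.fiberι (f x)) y (f.asFiber x) (by rw [hy, f.fiberι_asFiber])
    refine ⟨hsq.isoPullback.inv z, ?_⟩
    rw [← Scheme.Hom.comp_apply, IsPullback.isoPullback_inv_snd]
    exact hz2
  obtain ⟨U, V₂, p, j₂, o, y, hp, ho, hpb, hoy⟩ :=
    lift_along_chart (f.fiberι (f x)) φ w k hφ hsq g v hvk
  have hbig : IsPullback j₂ ((o ≫ g) ≫ f.fiberToSpecResidueField (f x)) (p ≫ f)
      (S.fromSpecResidueField (f x)) :=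
    hpb.paste_vert (IsPullback.of_hasPullback f (S.fromSpecResidueField (f x)))
  let e : V₂ ≅ (p ≫ f).fiber (f x) := hbig.isoPullback
  have he1 : e.hom ≫ (p ≫ f).fiberι (f x) = j₂ := hbig.isoPullback_hom_fst
  have he2 : e.inv ≫ j₂ = (p ≫ f).fiberι (f x) := hbig.isoPullback_inv_fst
  have he3 : e.inv ≫ (o ≫ g) ≫ f.fiberToSpecResidueField (f x) =
      (p ≫ f).fiberToSpecResidueField (f x) := hbig.isoPullback_inv_snd
  refine ⟨U, p, (p ≫ f).fiberι (f x) (e.hom y), e.inv ≫ o, e.hom y, hp, ?_, inferInstance, ?_,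
    rfl, ?_⟩
  · have h1 : p ((p ≫ f).fiberι (f x) (e.hom y)) = (f.fiberι (f x)) (g (o y)) := by
      rw [← Scheme.Hom.comp_apply, ← Scheme.Hom.comp_apply, ← Scheme.Hom.comp_apply,
        ← Scheme.Hom.comp_apply, ← Category.assoc, he1, hpb.w, Category.assoc]
    rw [h1, hoy, hv, f.fiberι_asFiber]
  · have hA : (e.inv ≫ o ≫ g) ≫ f.fiberι (f x) = (p ≫ f).fiberι (f x) ≫ p := by
      rw [Category.assoc, Category.assoc, ← Category.assoc o, ← hpb.w, ← Category.assoc, he2]
    have hB : (e.inv ≫ o ≫ g) ≫ f.fiberToSpecResidueField (f x) =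
        (p ≫ f).fiberToSpecResidueField (f x) := by
      rw [← he3]
      simp only [Category.assoc]
    apply pullback.hom_ext
    · rw [pullback.lift_fst]
      exact hA
    · rw [pullback.lift_snd]
      exact hB
  · rw [← Scheme.Hom.comp_apply, ← Category.assoc, e.hom_inv_id, Category.id_comp]
    exact hoy

end Groth.Agent.R2.H47.FibreEtLift
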