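import Groth.Agent.R2.H47InfSq
import Groth.Agent.R2.H47EtaleLift

/-!
# Descent of formal etaleness along etale surjective charts (helper47)

Local lifting of etale covers along square zero thickenings, compatibility and gluing of dotted arrows for
formally unramified morphisms, and: if `a` is representable etale surjective and `a ≫ b` is formally etale
then `b` is formally etale.
-/

set_option autoImplicit false
universe u
open CategoryTheory CategoryTheory.Limits AlgebraicGeometry Opposite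
open AlgSp

namespace Groth.Agent.R2.H47.InfSq

open Groth.Agent.S13210 Groth.Agent.Lib.Helper12.ZarGlue Groth.Agent.Lib.Helper15

variable {S : Scheme.{u}}

section bc2

variable {F G : AlgSp.Sp S} {f : F ⟶ G} (sq : AlgSp.InfSq f)

lemma bcThin_left {D : Type u} [CommRing D] (ψ : sq.A →+* D) : (bcThin sq ψ).left =
    Spec.map (CommRingCat.ofHom (Ideal.quotientMap (sq.I.map ψ) ψ Ideal.le_comap_map)) := rfl

lemma bcSq_j_left {D : Type u} [CommRing D] (ψ : sq.A →+* D) : (bcSq sq ψ).j.left =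
    Spec.map (CommRingCat.ofHom (Ideal.Quotient.mk (sq.I.map ψ))) := rfl

/-- the thin part of an etale base change is etale over the thin part. -/
lemma etale_bcThin {D : Type u} [CommRing D] (ψ : sq.A →+* D) (hψ : ψ.Etale) :
    Etale (bcThin sq ψ).left := by
  change Etale (Spec.map (CommRingCat.ofHom (Ideal.quotientMap (sq.I.map ψ) ψ Ideal.le_comap_map)))
  rw [HasRingHomProperty.Spec_iff (P := @Etale)]
  algebraize [ψ]
  change (algebraMap (sq.A ⧸ sq.I) (D ⧸ sq.I.map (algebraMap sq.A D))).Etale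
  rw [RingHom.etale_algebraMap]
  exact Algebra.Etale.of_equiv (Algebra.TensorProduct.quotIdealMapEquivQuotTensor D sq.I).symm

lemma etale_bcThick {D : Type u} [CommRing D] (ψ : sq.A →+* D) (hψ : ψ.Etale) :
    Etale (bcThick sq ψ).left := by
  change Etale (Spec.map (CommRingCat.ofHom ψ))
  rw [HasRingHomProperty.Spec_iff (P := @Etale)]
  exact hψ

/-- a morphism between base changes of the thick part induces one between the thin parts. -/
lemma exists_thin_factor {B D : Type u} [CommRing B] [CommRing D] (ψ : sq.A →+* B)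
    (ψ' : sq.A →+* D) (p : (bcSq sq ψ').ptT' ⟶ (bcSq sq ψ).ptT')
    (hp : p ≫ bcThick sq ψ = bcThick sq ψ') :
    ∃ p₀ : (bcSq sq ψ').ptT ⟶ (bcSq sq ψ).ptT,
      (bcSq sq ψ').j ≫ p = p₀ ≫ (bcSq sq ψ).j ∧ p₀ ≫ bcThin sq ψ = bcThin sq ψ' := by
  let pl : Spec (CommRingCat.of D) ⟶ Spec (CommRingCat.of B) := p.left
  let θ : B →+* D := (Spec.preimage pl).hom
  have hθ : Spec.map (CommRingCat.ofHom θ) = pl := Spec.map_preimage _
  have hpl : pl ≫ Spec.map (CommRingCat.ofHom ψ) = Spec.map (CommRingCat.ofHom ψ') :=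
    congrArg (fun m => m.left) hp
  have hθψ : θ.comp ψ = ψ' := by
    have h1 : Spec.map (CommRingCat.ofHom (θ.comp ψ)) = Spec.map (CommRingCat.ofHom ψ') := by
      rw [CommRingCat.ofHom_comp, Spec.map_comp, hθ]
      exact hpl
    have h2 := Spec.map_injective h1
    ext a
    exact congr($(h2).hom a)
  have hle : sq.I.map ψ ≤ (sq.I.map ψ').comap θ := by
    rw [← Ideal.map_le_iff_le_comap, Ideal.map_map, hθψ]
  have e1 : (Ideal.quotientMap (sq.I.map ψ') θ hle).comp (Ideal.Quotient.mk (sq.I.map ψ)) =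
      (Ideal.Quotient.mk (sq.I.map ψ')).comp θ := by
    ext x; simp
  have e2 : (Ideal.quotientMap (sq.I.map ψ') θ hle).comp
      (Ideal.quotientMap (sq.I.map ψ) ψ Ideal.le_comap_map) =
      Ideal.quotientMap (sq.I.map ψ') ψ' Ideal.le_comap_map := by
    ext x
    simp [← hθψ]
  have s1 : Spec.map (CommRingCat.ofHom (Ideal.Quotient.mk (sq.I.map ψ'))) ≫ pl =
      Spec.map (CommRingCat.ofHom (Ideal.quotientMap (sq.I.map ψ') θ hle)) ≫
        Spec.map (CommRingCat.ofHom (Ideal.Quotient.mk (sq.I.map ψ))) := by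
    rw [← hθ, ← Spec.map_comp, ← Spec.map_comp, ← CommRingCat.ofHom_comp, ← CommRingCat.ofHom_comp,
      e1]
  have s2 : Spec.map (CommRingCat.ofHom (Ideal.quotientMap (sq.I.map ψ') θ hle)) ≫
      Spec.map (CommRingCat.ofHom (Ideal.quotientMap (sq.I.map ψ) ψ Ideal.le_comap_map)) =
      Spec.map (CommRingCat.ofHom (Ideal.quotientMap (sq.I.map ψ') ψ' Ideal.le_comap_map)) := by
    rw [← Spec.map_comp, ← CommRingCat.ofHom_comp, e2]
  have hw : Spec.map (CommRingCat.ofHom (Ideal.quotientMap (sq.I.map ψ') θ hle)) ≫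
      (bcSq sq ψ).ptT.hom = (bcSq sq ψ').ptT.hom := by
    have h3 := congrArg (· ≫ sq.ptT.hom) s2
    simp only [Category.assoc] at h3
    rw [← Over.w (bcThin sq ψ), ← Over.w (bcThin sq ψ')]
    exact h3
  refine ⟨Over.homMk _ hw, ?_, ?_⟩
  · apply Over.OverMorphism.ext
    exact s1
  · apply Over.OverMorphism.ext
    exact s2

/-- every point of a scheme etale over the thin part of a lifting square lies in the image of the thin
part of some etale base change of the square. -/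
lemma exists_etale_nbhd_lift {W₀ : Over S} (w : W₀ ⟶ sq.ptT) (hw : Etale w.left) (x : W₀.left) :
    ∃ (B : Type u) (_ : CommRing B) (ψ : sq.A →+* B) (g : (bcSq sq ψ).ptT ⟶ W₀),
      ψ.Etale ∧ g ≫ w = bcThin sq ψ ∧ x ∈ Set.range g.left := by
  obtain ⟨U, hU, hxU, -⟩ := (TopologicalSpace.Opens.isBasis_iff_nbhd.mp
    W₀.left.isBasis_affineOpens) (show x ∈ (⊤ : W₀.left.Opens) from trivial)
  let wl : W₀.left ⟶ Spec (CommRingCat.of (sq.A ⧸ sq.I)) := w.left
  let φ' : CommRingCat.of (sq.A ⧸ sq.I) ⟶ Γ(W₀.left, U) := Spec.preimage (hU.fromSpec ≫ wl)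
  have hφ' : Spec.map φ' = hU.fromSpec ≫ wl := Spec.map_preimage _
  have hφe : φ'.hom.Etale := by
    rw [← HasRingHomProperty.Spec_iff (P := @Etale), hφ']
    have : Etale wl := hw
    infer_instance
  obtain ⟨y, hy⟩ : ∃ y : Spec Γ(W₀.left, U), hU.fromSpec y = x := by
    have : x ∈ Set.range hU.fromSpec := by rw [hU.range_fromSpec]; exact hxU
    exact this
  obtain ⟨B, _, ψ, χ, hψ, hχ, q', hq', hq'q⟩ :=
    Groth.Agent.R2.H47.EtaleLift.exists_etale_lift_at sq.I φ'.hom hφe y.asIdeal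
  let g₀ : Spec (CommRingCat.of (B ⧸ sq.I.map ψ)) ⟶ W₀.left :=
    Spec.map (CommRingCat.ofHom χ) ≫ hU.fromSpec
  have hg₀ : g₀ ≫ wl =
      Spec.map (CommRingCat.ofHom (Ideal.quotientMap (sq.I.map ψ) ψ Ideal.le_comap_map)) := by
    rw [Category.assoc, ← hφ', ← Spec.map_comp, ← hχ]
    rfl
  have hgw : g₀ ≫ W₀.hom = (bcSq sq ψ).ptT.hom := by
    rw [← Over.w w, ← Over.w (bcThin sq ψ)]
    have h3 := congrArg (· ≫ sq.ptT.hom) hg₀
    simp only [Category.assoc] at h3
    exact h3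
  refine ⟨B, inferInstance, ψ, Over.homMk g₀ hgw, hψ, ?_, ?_⟩
  · apply Over.OverMorphism.ext
    exact hg₀
  · refine ⟨⟨q', hq'⟩, ?_⟩
    change hU.fromSpec ((Spec.map (CommRingCat.ofHom χ)) ⟨q', hq'⟩) = x
    rw [← hy]
    congr 1
    apply PrimeSpectrum.ext
    exact hq'q

end bc2


/-! ## Compatibility and gluing of lifts over base changes of a square -/

section glue

variable {G H : AlgSp.Sp S} {b : G ⟶ H} (sq : AlgSp.InfSq b)

/-- `m` is a dotted arrow for the square `sq`. -/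
def IsLift (sq : AlgSp.InfSq b) (m : (AlgSp.yon S).obj sq.ptT' ⟶ G) : Prop :=
  (AlgSp.yon S).map sq.j ≫ m = sq.top ∧ m ≫ b = sq.bot

/-- a dotted arrow restricts to a dotted arrow of every base change. -/
lemma isLift_bcSq {m : (AlgSp.yon S).obj sq.ptT' ⟶ G} (hm : IsLift sq m) {D : Type u} [CommRing D]
    (ψ : sq.A →+* D) : IsLift (bcSq sq ψ) ((AlgSp.yon S).map (bcThick sq ψ) ≫ m) := by
  constructor
  · rw [bcSq_top, ← hm.1, ← Category.assoc, ← Functor.map_comp, bc_comm, Functor.map_comp,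
      Category.assoc]
  · rw [bcSq_bot, Category.assoc, hm.2]

/-- for a formally unramified morphism, dotted arrows of base changes of a square are compatible. -/
lemma isLift_compat (hb : AlgSp.IsFormallyUnramifiedMor b) {B₁ B₂ : Type u} [CommRing B₁]
    [CommRing B₂] (ψ₁ : sq.A →+* B₁) (ψ₂ : sq.A →+* B₂)
    {m₁ : (AlgSp.yon S).obj (bcSq sq ψ₁).ptT' ⟶ G} {m₂ : (AlgSp.yon S).obj (bcSq sq ψ₂).ptT' ⟶ G}
    (h₁ : IsLift (bcSq sq ψ₁) m₁) (h₂ : IsLift (bcSq sq ψ₂) m₂) {Z : Over S}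
    (p : Z ⟶ (bcSq sq ψ₁).ptT') (q : Z ⟶ (bcSq sq ψ₂).ptT')
    (hpq : p ≫ bcThick sq ψ₁ = q ≫ bcThick sq ψ₂) :
    (AlgSp.yon S).map p ≫ m₁ = (AlgSp.yon S).map q ≫ m₂ := by
  obtain ⟨κ, D, _, ψD, e, he, hoi, hcovZ⟩ := exists_affine_cover sq (p ≫ bcThick sq ψ₁)
  refine hom_ext_of_cover _ e (mem_J_of_fppf _ e hcovZ (fun k => ?_) (fun k => ?_)) _ _ (fun k => ?_)
  · have := hoi k; infer_instance
  · have := hoi k; infer_instance
  have hpk : (e k ≫ p) ≫ bcThick sq ψ₁ = bcThick sq (ψD k) := by rw [Category.assoc, he k]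
  have hqk : (e k ≫ q) ≫ bcThick sq ψ₂ = bcThick sq (ψD k) := by rw [Category.assoc, ← hpq, he k]
  obtain ⟨p₀, hp1, hp2⟩ := exists_thin_factor sq ψ₁ (ψD k) (e k ≫ p) hpk
  obtain ⟨q₀, hq1, hq2⟩ := exists_thin_factor sq ψ₂ (ψD k) (e k ≫ q) hqk
  rw [← Category.assoc, ← Category.assoc, ← Functor.map_comp, ← Functor.map_comp]
  apply uniq_of_unramified (bcSq sq (ψD k)) hb
  · rw [← Category.assoc, ← Category.assoc, ← Functor.map_comp, ← Functor.map_comp, hp1, hq1,
      Functor.map_comp, Functor.map_comp, Category.assoc, Category.assoc, h₁.1, h₂.1, bcSq_top,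
      bcSq_top, ← Category.assoc, ← Category.assoc, ← Functor.map_comp, ← Functor.map_comp, hp2, hq2]
  · rw [Category.assoc, Category.assoc, h₁.2, h₂.2, bcSq_bot, bcSq_bot, ← Category.assoc,
      ← Category.assoc, ← Functor.map_comp, ← Functor.map_comp, hpk, hqk]

/-- gluing dotted arrows: if `b` is formally unramified and a lifting square has dotted arrows after a
family of base changes covering both the thick and the thin part, then it has a dotted arrow. -/
lemma hasLift_of_cover (hb : AlgSp.IsFormallyUnramifiedMor b) {ι : Type u} (B : ι → Type u)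
    [∀ i, CommRing (B i)] (ψ : ∀ i, sq.A →+* B i)
    (hcov' : Sieve.ofArrows (fun i => (bcSq sq (ψ i)).ptT') (fun i => bcThick sq (ψ i)) ∈
      AlgSp.J S sq.ptT')
    (hcov : Sieve.ofArrows (fun i => (bcSq sq (ψ i)).ptT) (fun i => bcThin sq (ψ i)) ∈
      AlgSp.J S sq.ptT)
    (m : ∀ i, (AlgSp.yon S).obj (bcSq sq (ψ i)).ptT' ⟶ G) (hm : ∀ i, IsLift (bcSq sq (ψ i)) (m i)) :
    sq.HasLift := by
  obtain ⟨l, hl⟩ := glue_of_cover _ _ hcov' m
    (fun i j Z p q hpq => isLift_compat sq hb (ψ i) (ψ j) (hm i) (hm j) p q hpq)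
  refine ⟨l, ?_, ?_⟩
  · refine hom_ext_of_cover _ _ hcov _ _ (fun i => ?_)
    rw [← Category.assoc, ← Functor.map_comp, ← bc_comm, Functor.map_comp, Category.assoc, hl i,
      (hm i).1, bcSq_top]
  · refine hom_ext_of_cover _ _ hcov' _ _ (fun i => ?_)
    rw [← Category.assoc, hl i, (hm i).2, bcSq_bot]

end glue


/-! ## Descent of formal etaleness along an etale surjective source chart -/

theorem isFormallyEtaleMor_of_comp_etale_surj {F G H : AlgSp.Sp S} (a : F ⟶ G) (b : G ⟶ H)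
    (ha : AlgSp.RepWith @Etale a) (ha' : AlgSp.RepWith @Surjective a)
    (hab : AlgSp.IsFormallyEtaleMor (a ≫ b)) : AlgSp.IsFormallyEtaleMor b := by
  rw [isFormallyEtaleMor_iff] at hab ⊢
  have hbu := isFormallyUnramifiedMor_of_comp_etale_surj a b ha ha' hab.2
  refine ⟨fun sq => ?_, hbu⟩
  obtain ⟨W₀, w, q₀, hpb⟩ := ha.1 sq.top
  have hwe : Etale w.left := ha.2 _ _ w hpb
  have hws : Surjective w.left := ha'.2 _ _ w hpb
  choose B instB ψ g hψ hg hx using fun x : W₀.left => exists_etale_nbhd_lift sq w hwe x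
  let _ : ∀ x, CommRing (B x) := instB
  -- local lifts
  have key : ∀ x, ∃ r : (AlgSp.yon S).obj (bcSq sq (ψ x)).ptT' ⟶ F,
      (AlgSp.yon S).map (bcSq sq (ψ x)).j ≫ r = (AlgSp.yon S).map (g x) ≫ q₀ ∧
        r ≫ a ≫ b = (AlgSp.yon S).map (bcThick sq (ψ x)) ≫ sq.bot := by
    intro x
    apply hasLift_of_smooth (bcSq sq (ψ x)) hab.1
    rw [Category.assoc, ← Category.assoc q₀, hpb.w, Category.assoc, ← Category.assoc,
      ← Functor.map_comp, hg x, sq.comm, ← Category.assoc, ← Functor.map_comp, ← bc_comm,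
      Functor.map_comp, Category.assoc]
  choose r hr1 hr2 using key
  have hthin : ∀ t : sq.ptT.left, ∃ x, t ∈ Set.range (bcThin sq (ψ x)).left := by
    intro t
    obtain ⟨x, rfl⟩ := w.left.surjective t
    obtain ⟨y, hy⟩ := hx x
    refine ⟨x, y, ?_⟩
    rw [← hg x, Over.comp_left, Scheme.Hom.comp_apply, hy]
  refine hasLift_of_cover sq hbu B ψ ?_ ?_ (fun x => r x ≫ a) (fun x => ⟨?_, ?_⟩)
  · apply mem_J_of_fppf
    · intro t'
      obtain ⟨t, rfl⟩ := Groth.Agent.Lib.Helper2.FormalEt.surj_specMap_mk sq.A sq.I sq.sq_zero t'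
      obtain ⟨x, y, hy⟩ := hthin t
      refine ⟨x, (bcSq sq (ψ x)).j.left y, ?_⟩
      have h1 := congrArg (fun m => m.left) (bc_comm sq (ψ x))
      simp only [Over.comp_left] at h1
      have h2 := congr($(h1) y)
      rw [Scheme.Hom.comp_apply, Scheme.Hom.comp_apply, hy] at h2
      exact h2
    · intro x
      have := etale_bcThick sq (ψ x) (hψ x)
      infer_instance
    · intro x
      have := etale_bcThick sq (ψ x) (hψ x)
      infer_instance
  · apply mem_J_of_fppf _ _ hthin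
    · intro x
      have := etale_bcThin sq (ψ x) (hψ x)
      infer_instance
    · intro x
      have := etale_bcThin sq (ψ x) (hψ x)
      infer_instance
  · rw [← Category.assoc, hr1 x, Category.assoc, hpb.w, ← Category.assoc, ← Functor.map_comp, hg x,
      bcSq_top]
  · rw [Category.assoc, hr2 x, bcSq_bot]

end Groth.Agent.R2.H47.InfSq
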