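import Mathlib

/-!
# Levelwise lifting of algebra maps along a tower of square zero quotients (helper47)

For a formally smooth `R`-algebra `B` and a tower of quotients `D ⧸ K n` of an `R`-algebra `D` with
`K (n+1) ≤ K n` and `K n ^ 2 ≤ K (n+1)`, any `R`-algebra map `B → D ⧸ K 0` extends to a compatible
family `B → D ⧸ K n`.
-/

set_option autoImplicit false
universe u

namespace Groth.Agent.R2.H47.FormalLiftRing

variable {R B D : Type u} [CommRing R] [CommRing B] [CommRing D] [Algebra R B] [Algebra R D]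

lemma isNilpotent_ker_factor {I J : Ideal D} (h : I ≤ J) (hsq : J ^ 2 ≤ I) :
    IsNilpotent (RingHom.ker (Ideal.Quotient.factorₐ R h : D ⧸ I →+* D ⧸ J)) := by
  refine ⟨2, ?_⟩
  rw [Ideal.Quotient.coe_factorₐ, Ideal.Quotient.factor_ker, ← Ideal.map_pow, Ideal.zero_eq_bot,
    Ideal.map_eq_bot_iff_le_ker, Ideal.mk_ker]
  exact hsq

variable [Algebra.FormallySmooth R B] (K : ℕ → Ideal D) (hK : ∀ n, K (n + 1) ≤ K n)
  (hsq : ∀ n, K n ^ 2 ≤ K (n + 1))

/-- the compatible family of lifts. -/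
noncomputable def liftSeq (φ₀ : B →ₐ[R] D ⧸ K 0) : ∀ n, B →ₐ[R] D ⧸ K n
  | 0 => φ₀
  | n + 1 => Algebra.FormallySmooth.liftOfSurjective (liftSeq φ₀ n)
      (Ideal.Quotient.factorₐ R (hK n)) (Ideal.Quotient.factor_surjective (hK n))
      (isNilpotent_ker_factor (hK n) (hsq n))

@[simp] lemma liftSeq_zero (φ₀ : B →ₐ[R] D ⧸ K 0) : liftSeq K hK hsq φ₀ 0 = φ₀ := rfl

lemma factor_comp_liftSeq (φ₀ : B →ₐ[R] D ⧸ K 0) (n : ℕ) :
    (Ideal.Quotient.factorₐ R (hK n)).comp (liftSeq K hK hsq φ₀ (n + 1)) = liftSeq K hK hsq φ₀ n :=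
  Algebra.FormallySmooth.comp_liftOfSurjective _ _ _ _

end Groth.Agent.R2.H47.FormalLiftRing
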