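import Mathlib
import Groth.Prelude.Def_FSch2
import Groth.Agent.R2.H47SmLiftSch
import Groth.Agent.R2.H47FormalLiftRing

/-!
# An explicit affine model for formal liftings over a completion (helper47)

For a scheme `S`, an ideal sheaf `𝒥`, an affine open `W` of `S` with `R = Γ(S, W)` and a ring map
`ψ : R → D`, the system `n ↦ Spec (D ⧸ 𝒥^{n+1}(W) D)` maps adically to the completion of `S` along `𝒥`,
with smooth levels when `ψ` is smooth, functorially in compatible families of maps.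
-/

set_option autoImplicit false
universe u

open CategoryTheory CategoryTheory.Limits AlgebraicGeometry

namespace Groth.Agent.R2.H47.FormalLiftModel

variable {S : Scheme.{u}} (𝒥 : S.IdealSheafData) (W : S.affineOpens)

/-- the ideals `𝒥^{n+1}(W)`. -/
abbrev J (n : ℕ) : Ideal Γ(S, W.1) := (𝒥 ^ (n + 1)).ideal W

lemma J_le (n : ℕ) : J 𝒥 W (n + 1) ≤ J 𝒥 W n := FSch.pow_succ_le S 𝒥 n W

lemma J_sq (n : ℕ) : J 𝒥 W n ^ 2 ≤ J 𝒥 W (n + 1) := by
  change ((𝒥 ^ (n + 1)).ideal W) ^ 2 ≤ (𝒥 ^ (n + 1 + 1)).ideal W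
  rw [Scheme.IdealSheafData.ideal_pow, Scheme.IdealSheafData.ideal_pow, Pi.pow_apply, Pi.pow_apply,
    ← pow_mul]
  exact Ideal.pow_le_pow_right (by omega)

variable {D : Type u} [CommRing D] (ψ : Γ(S, W.1) →+* D)

/-- the extended ideals. -/
abbrev K (n : ℕ) : Ideal D := (J 𝒥 W n).map ψ

lemma K_le (n : ℕ) : K 𝒥 W ψ (n + 1) ≤ K 𝒥 W ψ n := Ideal.map_mono (J_le 𝒥 W n)

lemma K_sq (n : ℕ) : K 𝒥 W ψ n ^ 2 ≤ K 𝒥 W ψ (n + 1) := by
  change ((J 𝒥 W n).map ψ) ^ 2 ≤ _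
  rw [← Ideal.map_pow]
  exact Ideal.map_mono (J_sq 𝒥 W n)

/-- the system `n ↦ Spec (D ⧸ 𝒥^{n+1}(W) D)`. -/
noncomputable def sys : FSch.Sys.{u} where
  X n := Spec (.of (D ⧸ K 𝒥 W ψ n))
  ι n := Spec.map (CommRingCat.ofHom (Ideal.Quotient.factor (K_le 𝒥 W ψ n)))

/-- the closed immersions into `Spec D`. -/
noncomputable def toSpec (n : ℕ) : (sys 𝒥 W ψ).X n ⟶ Spec (.of D) :=
  Spec.map (CommRingCat.ofHom (Ideal.Quotient.mk (K 𝒥 W ψ n)))

lemma ι_toSpec (n : ℕ) : (sys 𝒥 W ψ).ι n ≫ toSpec 𝒥 W ψ (n + 1) = toSpec 𝒥 W ψ n := by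
  change Spec.map _ ≫ Spec.map _ = Spec.map _
  rw [← Spec.map_comp, ← CommRingCat.ofHom_comp, Ideal.Quotient.factor_comp_mk]

/-- the induced maps `R ⧸ J n → D ⧸ K n`. -/
def qmap (n : ℕ) : Γ(S, W.1) ⧸ J 𝒥 W n →+* D ⧸ K 𝒥 W ψ n :=
  Ideal.quotientMap (K 𝒥 W ψ n) ψ Ideal.le_comap_map

/-- the charts of the levels of the completion. -/
noncomputable def chart (n : ℕ) :
    Spec (.of (Γ(S, W.1) ⧸ J 𝒥 W n)) ⟶ (FSch.completionAlong S 𝒥).X n :=
  (𝒥 ^ (n + 1)).subschemeCover.f W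

set_option backward.isDefEq.respectTransparency false in
instance (n : ℕ) : IsOpenImmersion (chart 𝒥 W n) := by
  unfold chart
  infer_instance

set_option backward.isDefEq.respectTransparency false in
lemma chart_ι (n : ℕ) : chart 𝒥 W n ≫ (FSch.completionAlong S 𝒥).ι n =
    Spec.map (CommRingCat.ofHom (Ideal.Quotient.factor (J_le 𝒥 W n))) ≫ chart 𝒥 W (n + 1) :=
  Scheme.IdealSheafData.subSchemeCover_map_inclusion (FSch.pow_succ_le S 𝒥 n) W

set_option backward.isDefEq.respectTransparency false in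
lemma chart_toX (n : ℕ) : chart 𝒥 W n ≫ FSch.completionToX S 𝒥 n =
    Spec.map (CommRingCat.ofHom (Ideal.Quotient.mk (J 𝒥 W n))) ≫ W.2.fromSpec := by
  unfold chart FSch.completionToX
  rw [Scheme.IdealSheafData.subschemeCover_map_subschemeι, Scheme.IdealSheafData.glueDataObjι_ι]

/-- the structure map of the model. -/
noncomputable def toCompl : sys 𝒥 W ψ ⟶ FSch.completionAlong S 𝒥 where
  app n := Spec.map (CommRingCat.ofHom (qmap 𝒥 W ψ n)) ≫ chart 𝒥 W n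
  comm n := by
    rw [Category.assoc, chart_ι, ← Category.assoc, ← Category.assoc]
    congr 1
    change Spec.map _ ≫ Spec.map _ = Spec.map _ ≫ Spec.map _
    rw [← Spec.map_comp, ← Spec.map_comp, ← CommRingCat.ofHom_comp, ← CommRingCat.ofHom_comp]
    congr 2
    apply Ideal.Quotient.ringHom_ext
    ext x
    rfl

lemma toCompl_app (n : ℕ) : (toCompl 𝒥 W ψ : FSch.Hom _ _).app n =
    Spec.map (CommRingCat.ofHom (qmap 𝒥 W ψ n)) ≫ chart 𝒥 W n := rfl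

/-- the structure map of `Spec D` to `S`. -/
noncomputable def str : Spec (.of D) ⟶ S := Spec.map (CommRingCat.ofHom ψ) ≫ W.2.fromSpec

set_option backward.isDefEq.respectTransparency false in
lemma isPullback_chart (n : ℕ) :
    IsPullback (Spec.map (CommRingCat.ofHom (Ideal.Quotient.mk (J 𝒥 W n)))) (chart 𝒥 W n)
      W.2.fromSpec (FSch.completionToX S 𝒥 n) := by
  refine IsOpenImmersion.isPullback _ _ _ _ (chart_toX 𝒥 W n) ?_
  rw [IsAffineOpen.opensRange_fromSpec]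
  unfold chart FSch.completionToX
  rw [Scheme.IdealSheafData.opensRange_subschemeCover_map]

/-- each level is the base change of `Spec D` to the corresponding level of the completion. -/
lemma isPullback_level (n : ℕ) :
    IsPullback (toSpec 𝒥 W ψ n) ((toCompl 𝒥 W ψ : FSch.Hom _ _).app n) (str W ψ)
      (FSch.completionToX S 𝒥 n) :=
  (isPullback_SpecMap_of_isPushout _ _ _ _
    (Groth.Agent.R2.H47.SmLiftSch.isPushout_quotient ψ (J 𝒥 W n))).paste_vert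
    (isPullback_chart 𝒥 W n)

lemma isAdicHom_toCompl : FSch.IsAdicHom (toCompl 𝒥 W ψ) := by
  intro n
  refine IsPullback.of_right ?_ ((toCompl 𝒥 W ψ : FSch.Hom _ _).comm n).symm
    (isPullback_level 𝒥 W ψ (n + 1))
  rw [ι_toSpec]
  have h : (FSch.completionAlong S 𝒥).ι n ≫ FSch.completionToX S 𝒥 (n + 1) =
      FSch.completionToX S 𝒥 n :=
    Scheme.IdealSheafData.inclusion_subschemeι (FSch.pow_succ_le S 𝒥 n)
  rw [h]
  exact isPullback_level 𝒥 W ψ n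

lemma smooth_str (hψ : ψ.Smooth) : Smooth (str W ψ) := by
  have : Smooth (Spec.map (CommRingCat.ofHom ψ)) := by
    rw [HasRingHomProperty.Spec_iff (P := @Smooth)]
    exact hψ
  unfold str
  infer_instance

lemma smooth_toCompl_app (hψ : ψ.Smooth) (n : ℕ) :
    Smooth ((toCompl 𝒥 W ψ : FSch.Hom _ _).app n) :=
  MorphismProperty.of_isPullback (P := @Smooth) (isPullback_level 𝒥 W ψ n) (smooth_str W ψ hψ)


/-! ## Functoriality -/

variable {B : Type u} [CommRing B] (ψB : Γ(S, W.1) →+* B)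

/-- a map `B → D ⧸ K n` compatible with the structure maps descends to `B ⧸ K n`. -/
def homLevel (n : ℕ) (φ : B →+* D ⧸ K 𝒥 W ψ n)
    (hφ : φ.comp ψB = (Ideal.Quotient.mk (K 𝒥 W ψ n)).comp ψ) :
    B ⧸ K 𝒥 W ψB n →+* D ⧸ K 𝒥 W ψ n :=
  Ideal.Quotient.lift _ φ (by
    have hle : K 𝒥 W ψB n ≤ RingHom.ker φ := by
      rw [Ideal.map_le_iff_le_comap]
      intro r hr
      rw [Ideal.mem_comap, RingHom.mem_ker]
      have h1 := congr($hφ r)
      simp only [RingHom.comp_apply] at h1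
      rw [h1, Ideal.Quotient.eq_zero_iff_mem]
      exact Ideal.mem_map_of_mem _ hr
    exact fun b hb => hle hb)

@[simp] lemma homLevel_mk (n : ℕ) (φ : B →+* D ⧸ K 𝒥 W ψ n)
    (hφ : φ.comp ψB = (Ideal.Quotient.mk (K 𝒥 W ψ n)).comp ψ) (b : B) :
    homLevel 𝒥 W ψ ψB n φ hφ (Ideal.Quotient.mk _ b) = φ b := rfl

lemma homLevel_comp_qmap (n : ℕ) (φ : B →+* D ⧸ K 𝒥 W ψ n)
    (hφ : φ.comp ψB = (Ideal.Quotient.mk (K 𝒥 W ψ n)).comp ψ) :
    (homLevel 𝒥 W ψ ψB n φ hφ).comp (qmap 𝒥 W ψB n) = qmap 𝒥 W ψ n := by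
  apply Ideal.Quotient.ringHom_ext
  ext r
  exact congr($hφ r)

/-- the morphism of systems induced by a compatible family of ring maps. -/
noncomputable def homSys (φ : ∀ n, B →+* D ⧸ K 𝒥 W ψ n)
    (hφ : ∀ n, (φ n).comp ψB = (Ideal.Quotient.mk (K 𝒥 W ψ n)).comp ψ)
    (hc : ∀ n, (Ideal.Quotient.factor (K_le 𝒥 W ψ n)).comp (φ (n + 1)) = φ n) :
    sys 𝒥 W ψ ⟶ sys 𝒥 W ψB where
  app n := Spec.map (CommRingCat.ofHom (homLevel 𝒥 W ψ ψB n (φ n) (hφ n)))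
  comm n := by
    change Spec.map _ ≫ Spec.map _ = Spec.map _ ≫ Spec.map _
    rw [← Spec.map_comp, ← Spec.map_comp, ← CommRingCat.ofHom_comp, ← CommRingCat.ofHom_comp]
    congr 2
    apply Ideal.Quotient.ringHom_ext
    ext b
    exact congr($(hc n) b).symm

lemma homSys_app (φ : ∀ n, B →+* D ⧸ K 𝒥 W ψ n)
    (hφ : ∀ n, (φ n).comp ψB = (Ideal.Quotient.mk (K 𝒥 W ψ n)).comp ψ)
    (hc : ∀ n, (Ideal.Quotient.factor (K_le 𝒥 W ψ n)).comp (φ (n + 1)) = φ n) (n : ℕ) :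
    (homSys 𝒥 W ψ ψB φ hφ hc : FSch.Hom _ _).app n =
      Spec.map (CommRingCat.ofHom (homLevel 𝒥 W ψ ψB n (φ n) (hφ n))) := rfl

lemma homSys_comp_toCompl (φ : ∀ n, B →+* D ⧸ K 𝒥 W ψ n)
    (hφ : ∀ n, (φ n).comp ψB = (Ideal.Quotient.mk (K 𝒥 W ψ n)).comp ψ)
    (hc : ∀ n, (Ideal.Quotient.factor (K_le 𝒥 W ψ n)).comp (φ (n + 1)) = φ n) :
    homSys 𝒥 W ψ ψB φ hφ hc ≫ toCompl 𝒥 W ψB = toCompl 𝒥 W ψ := by
  apply FSch.Hom.ext
  funext n
  change Spec.map _ ≫ Spec.map _ ≫ chart 𝒥 W n = Spec.map _ ≫ chart 𝒥 W n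
  rw [← Category.assoc, ← Spec.map_comp, ← CommRingCat.ofHom_comp, homLevel_comp_qmap]

/-- **Formal lifting of a morphism of the bottom levels**, when the target is smooth. -/
theorem exists_homSys (hψB : ψB.Smooth)
    (F₀ : Spec (.of (D ⧸ K 𝒥 W ψ 0)) ⟶ Spec (.of (B ⧸ K 𝒥 W ψB 0)))
    (hF₀ : F₀ ≫ Spec.map (CommRingCat.ofHom (qmap 𝒥 W ψB 0)) ≫ chart 𝒥 W 0 =
      Spec.map (CommRingCat.ofHom (qmap 𝒥 W ψ 0)) ≫ chart 𝒥 W 0) :
    ∃ Φ : sys 𝒥 W ψ ⟶ sys 𝒥 W ψB, Φ ≫ toCompl 𝒥 W ψB = toCompl 𝒥 W ψ ∧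
      (Φ : FSch.Hom _ _).app 0 = F₀ := by
  let f : CommRingCat.of (B ⧸ K 𝒥 W ψB 0) ⟶ CommRingCat.of (D ⧸ K 𝒥 W ψ 0) := Spec.preimage F₀
  have hf : Spec.map f = F₀ := Spec.map_preimage _
  have hfq : f.hom.comp (qmap 𝒥 W ψB 0) = qmap 𝒥 W ψ 0 := by
    rw [← Category.assoc, cancel_mono, ← hf, ← Spec.map_comp] at hF₀
    have := Spec.map_injective hF₀
    exact congr(($this).hom)
  letI := ψB.toAlgebra
  letI := ψ.toAlgebra
  haveI : Algebra.FormallySmooth Γ(S, W.1) B := by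
    have : Algebra.Smooth Γ(S, W.1) B := hψB
    infer_instance
  let φ₀ : B →ₐ[Γ(S, W.1)] D ⧸ K 𝒥 W ψ 0 :=
    { toRingHom := f.hom.comp (Ideal.Quotient.mk (K 𝒥 W ψB 0))
      commutes' := fun r => congr($hfq (Ideal.Quotient.mk _ r)) }
  let L := FormalLiftRing.liftSeq (K 𝒥 W ψ) (K_le 𝒥 W ψ) (K_sq 𝒥 W ψ) φ₀
  refine ⟨homSys 𝒥 W ψ ψB (fun n => (L n).toRingHom) ?_ ?_, homSys_comp_toCompl _ _ _ _ _ _ _, ?_⟩
  · intro n
    ext r
    exact (L n).commutes r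
  · intro n
    have := FormalLiftRing.factor_comp_liftSeq (K 𝒥 W ψ) (K_le 𝒥 W ψ) (K_sq 𝒥 W ψ) φ₀ n
    exact congr(($this).toRingHom)
  · rw [homSys_app, ← hf]
    congr 2
    apply Ideal.Quotient.ringHom_ext
    rfl

end Groth.Agent.R2.H47.FormalLiftModel
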