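import Mathlib
import Groth.Prelude.Def_FSch2
import Groth.Agent.R2.H47FormalLiftModel
import Groth.Agent.R2.H47SmoothLiftLocal

/-!
# Local smooth formal liftings of morphisms over a completion (helper47)
-/

set_option autoImplicit false
universe u

open CategoryTheory CategoryTheory.Limits AlgebraicGeometry

namespace Groth.Agent.R2.H47.FormalLiftMain

open Groth.Agent.R2.H47.FormalLiftModel Groth.Agent.R2.H47.SmoothLiftLocal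

variable {S : Scheme.{u}} (𝒥 : S.IdealSheafData) (W : S.affineOpens)

/-- a smooth scheme over the bottom level of the completion is, locally over the chart `W`, the
bottom level of a model. -/
theorem exists_model_chart {Y₀ : Scheme.{u}} (b : Y₀ ⟶ (FSch.completionAlong S 𝒥).X 0) [Smooth b]
    (y : Y₀) (hy : (FSch.completionToX S 𝒥 0) (b y) ∈ W.1) :
    ∃ (B : Type u) (_ : CommRing B) (ψB : Γ(S, W.1) →+* B)
      (o : Spec (.of (B ⧸ K 𝒥 W ψB 0)) ⟶ Y₀),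
      ψB.Smooth ∧ IsOpenImmersion o ∧ y ∈ Set.range o ∧
      o ≫ b = Spec.map (CommRingCat.ofHom (qmap 𝒥 W ψB 0)) ≫ chart 𝒥 W 0 := by
  have hr : b y ∈ (chart 𝒥 W 0).opensRange := by
    have h1 := (isPullback_chart 𝒥 W 0)
    have : (chart 𝒥 W 0).opensRange = (FSch.completionToX S 𝒥 0) ⁻¹ᵁ W.1 := by
      unfold chart FSch.completionToX
      exact Scheme.IdealSheafData.opensRange_subschemeCover_map _ W
    rw [this]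
    exact hy
  obtain ⟨z, hz⟩ := hr
  obtain ⟨y', hy', -⟩ := Scheme.Pullback.exists_preimage_pullback (f := b) (g := chart 𝒥 W 0) y z hz.symm
  obtain ⟨B, _, ψ, o, hψ, ho, hyo, hog⟩ :=
    exists_smooth_lift_affine (J 𝒥 W 0) (pullback.snd b (chart 𝒥 W 0)) y'
  refine ⟨B, inferInstance, ψ, o ≫ pullback.fst b (chart 𝒥 W 0), hψ, inferInstance, ?_, ?_⟩
  · obtain ⟨t, ht⟩ := hyo
    exact ⟨t, by rw [Scheme.Hom.comp_apply, ht, hy']⟩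
  · rw [Category.assoc, pullback.condition, ← Category.assoc, hog]
    rfl


/-- **Local smooth formal lifting of a morphism** over the completion of `S` along `𝒥`. -/
theorem main (S : Scheme.{u}) (𝒥 : S.IdealSheafData) {X₀ Y₀ : Scheme.{u}}
    (a : X₀ ⟶ (FSch.completionAlong S 𝒥).X 0) (b : Y₀ ⟶ (FSch.completionAlong S 𝒥).X 0)
    [Smooth a] [Smooth b] (f : X₀ ⟶ Y₀) (w : f ≫ b = a) (x : X₀) :
    ∃ (U₀ : X₀.Opens) (V₀ : Y₀.Opens) (hU : x ∈ U₀) (hUV : U₀ ≤ f ⁻¹ᵁ V₀)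
      (𝔘 𝔙 : FSch.Sys.{u}) (p : 𝔘 ⟶ FSch.completionAlong S 𝒥) (q : 𝔙 ⟶ FSch.completionAlong S 𝒥)
      (Φ : 𝔘 ⟶ 𝔙) (eU : 𝔘.X 0 ≅ U₀.toScheme) (eV : 𝔙.X 0 ≅ V₀.toScheme),
      Φ ≫ q = p ∧ FSch.IsAdicHom p ∧ FSch.IsAdicHom q ∧
      (∀ n : ℕ, Smooth ((p : FSch.Hom 𝔘 _).app n)) ∧
      (∀ n : ℕ, Smooth ((q : FSch.Hom 𝔙 _).app n)) ∧
      eU.hom ≫ U₀.ι ≫ a = (p : FSch.Hom 𝔘 _).app 0 ∧
      eV.hom ≫ V₀.ι ≫ b = (q : FSch.Hom 𝔙 _).app 0 ∧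
      (Φ : FSch.Hom 𝔘 𝔙).app 0 ≫ eV.hom = eU.hom ≫ f.resLE V₀ U₀ hUV := by
  -- an affine chart of `S`
  obtain ⟨_, ⟨W₀, hW₀, rfl⟩, hsW, -⟩ :=
    S.isBasis_affineOpens.exists_subset_of_mem_open
      (Set.mem_univ ((FSch.completionToX S 𝒥 0) (b (f x)))) isOpen_univ
  let W : S.affineOpens := ⟨W₀, hW₀⟩
  -- the chart of `Y₀`
  obtain ⟨B, _, ψB, oV, hψB, hoV, hyV, hVb⟩ := exists_model_chart 𝒥 W b (f x) hsW
  let V₀ : Y₀.Opens := oV.opensRange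
  -- the chart of `X₀`
  let X' : X₀.Opens := f ⁻¹ᵁ V₀
  have hxX' : x ∈ X' := hyV
  have hax : (FSch.completionToX S 𝒥 0) ((X'.ι ≫ a) ⟨x, hxX'⟩) ∈ W.1 := by
    have : (X'.ι ≫ a) ⟨x, hxX'⟩ = b (f x) := by
      rw [← w]
      rfl
    rw [this]
    exact hsW
  obtain ⟨D, _, ψD, oU', hψD, hoU', hxU, hUa⟩ := exists_model_chart 𝒥 W (X'.ι ≫ a) ⟨x, hxX'⟩ hax
  let oU : Spec (.of (D ⧸ K 𝒥 W ψD 0)) ⟶ X₀ := oU' ≫ X'.ι
  let U₀ : X₀.Opens := oU.opensRange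
  have hU : x ∈ U₀ := by
    obtain ⟨t, ht⟩ := hxU
    exact ⟨t, by rw [Scheme.Hom.comp_apply, ht]; rfl⟩
  have hUV : U₀ ≤ f ⁻¹ᵁ V₀ := by
    rintro _ ⟨t, rfl⟩
    exact (oU' t).2
  let eU : Spec (.of (D ⧸ K 𝒥 W ψD 0)) ≅ U₀.toScheme := oU.isoOpensRange
  let eV : Spec (.of (B ⧸ K 𝒥 W ψB 0)) ≅ V₀.toScheme := oV.isoOpensRange
  have heU : eU.hom ≫ U₀.ι = oU := oU.isoOpensRange_hom_ι
  have heV : eV.hom ≫ V₀.ι = oV := oV.isoOpensRange_hom_ι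
  have hUa' : oU ≫ a = Spec.map (CommRingCat.ofHom (qmap 𝒥 W ψD 0)) ≫ chart 𝒥 W 0 := by
    rw [← hUa, Category.assoc]
  let F₀ : Spec (.of (D ⧸ K 𝒥 W ψD 0)) ⟶ Spec (.of (B ⧸ K 𝒥 W ψB 0)) :=
    eU.hom ≫ f.resLE V₀ U₀ hUV ≫ eV.inv
  have hF₀ : F₀ ≫ Spec.map (CommRingCat.ofHom (qmap 𝒥 W ψB 0)) ≫ chart 𝒥 W 0 =
      Spec.map (CommRingCat.ofHom (qmap 𝒥 W ψD 0)) ≫ chart 𝒥 W 0 := by
    rw [← hVb, ← hUa', ← heV, ← heU]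
    simp only [F₀, Category.assoc, Iso.inv_hom_id_assoc]
    rw [Scheme.Hom.resLE_comp_ι_assoc, w]
  obtain ⟨Φ, hΦ, hΦ0⟩ := exists_homSys 𝒥 W ψD ψB hψB F₀ hF₀
  refine ⟨U₀, V₀, hU, hUV, sys 𝒥 W ψD, sys 𝒥 W ψB, toCompl 𝒥 W ψD, toCompl 𝒥 W ψB, Φ, eU, eV,
    hΦ, isAdicHom_toCompl 𝒥 W ψD, isAdicHom_toCompl 𝒥 W ψB, smooth_toCompl_app 𝒥 W ψD hψD,
    smooth_toCompl_app 𝒥 W ψB hψB, ?_, ?_, ?_⟩
  · change eU.hom ≫ U₀.ι ≫ a = Spec.map (CommRingCat.ofHom (qmap 𝒥 W ψD 0)) ≫ chart 𝒥 W 0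
    rw [← Category.assoc, heU, hUa']
  · change eV.hom ≫ V₀.ι ≫ b = Spec.map (CommRingCat.ofHom (qmap 𝒥 W ψB 0)) ≫ chart 𝒥 W 0
    rw [← Category.assoc, heV, hVb]
  · rw [hΦ0]
    change F₀ ≫ eV.hom = eU.hom ≫ f.resLE V₀ U₀ hUV
    simp only [F₀, Category.assoc, Iso.inv_hom_id, Category.comp_id]

end Groth.Agent.R2.H47.FormalLiftMain
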