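import Mathlib
import Groth.Prelude.Def_AlgSp4
import Groth.Agent.R2.H45HasAt
import Groth.Agent.S0114
import Groth.Agent.S5938
import Groth.Agent.S0115
import Groth.Agent.Lib.Helper6LfpComp
import Groth.Agent.Lib.Helper12Flat

set_option autoImplicit false
universe u
open CategoryTheory CategoryTheory.Limits AlgebraicGeometry
open AlgSp

namespace Groth.Agent.R2.H47.FppfSrc

variable {S : Scheme.{u}}


instance hasOfPostcomp_flat_unramified : MorphismProperty.HasOfPostcompProperty
    @Flat (@LocallyOfFiniteType ⊓ @FormallyUnramified) := by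
  rw [MorphismProperty.hasOfPostcompProperty_iff_le_diagonal]
  intro X Y f ⟨hft, hfu⟩
  exact inferInstanceAs <| Flat (pullback.diagonal f)

/-- fppf descent on the source of formal unramifiedness. -/
theorem formallyUnramified_of_fppf_comp {X Y Z : Scheme.{u}} (f : X ⟶ Y) (q : Y ⟶ Z)
    [Surjective f] [Flat f] [LocallyOfFinitePresentation f]
    [LocallyOfFiniteType (f ≫ q)] [FormallyUnramified (f ≫ q)] : FormallyUnramified q := by
  let m : pullback f f ⟶ pullback (f ≫ q) (f ≫ q) :=
    pullback.map f f (f ≫ q) (f ≫ q) (𝟙 X) (𝟙 X) q (Category.id_comp _).symm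
      (Category.id_comp _).symm
  let ff : pullback (f ≫ q) (f ≫ q) ⟶ pullback q q :=
    pullback.map (f ≫ q) (f ≫ q) q q f f (𝟙 Z) (Category.comp_id _) (Category.comp_id _)
  have sq : IsPullback (pullback.fst f f ≫ f) m (pullback.diagonal q) ff :=
    pullback_map_diagonal_isPullback f f q
  have hf : (@Surjective ⊓ @Flat ⊓ @LocallyOfFinitePresentation : MorphismProperty Scheme.{u}) f :=
    ⟨⟨inferInstance, inferInstance⟩, inferInstance⟩
  have hff : (@Surjective ⊓ @Flat ⊓ @LocallyOfFinitePresentation : MorphismProperty Scheme.{u}) ff :=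
    MorphismProperty.pullbackMap hf hf rfl rfl
  have hm1 : m ≫ pullback.fst (f ≫ q) (f ≫ q) = pullback.fst f f := by
    simp only [m, pullback.map, pullback.lift_fst, Category.comp_id]
  have hmono : Mono m :=
    MorphismProperty.of_isPullback (P := MorphismProperty.monomorphisms Scheme.{u}) sq
      (inferInstanceAs (Mono (pullback.diagonal q)))
  have hflat : Flat m :=
    MorphismProperty.HasOfPostcompProperty.of_postcomp (W := @Flat)
      (W' := @LocallyOfFiniteType ⊓ @FormallyUnramified) m (pullback.fst (f ≫ q) (f ≫ q))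
      ⟨inferInstance, MorphismProperty.pullback_fst (P := @FormallyUnramified) _ _ inferInstance⟩
      (by rw [hm1]; infer_instance)
  have hlfp : LocallyOfFinitePresentation m :=
    Groth.Agent.Lib.Helper6.locallyOfFinitePresentation_of_comp
      (g := pullback.fst (f ≫ q) (f ≫ q)) inferInstance (by rw [hm1]; infer_instance)
  have hopen : IsOpenImmersion m := IsOpenImmersion.of_flat_of_mono m
  have : IsOpenImmersion (pullback.diagonal q) :=
    MorphismProperty.of_isPullback_of_descendsAlong (P := @IsOpenImmersion)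
      (Q := @Surjective ⊓ @Flat ⊓ @LocallyOfFinitePresentation) sq.flip hff hopen
  infer_instance


/-- fppf descent on the source of unramifiedness (locally of finite type and formally unramified). -/
theorem unramified_of_fppf_comp {X Y Z : Scheme.{u}} (f : X ⟶ Y) (q : Y ⟶ Z)
    (h1 : Surjective f) (h2 : Flat f) (h3 : LocallyOfFinitePresentation f)
    (h : (@LocallyOfFiniteType ⊓ @FormallyUnramified : MorphismProperty Scheme.{u}) (f ≫ q)) :
    (@LocallyOfFiniteType ⊓ @FormallyUnramified : MorphismProperty Scheme.{u}) q := by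
  obtain ⟨h4, h5⟩ := h
  have h4' : LocallyOfFiniteType (f ≫ q) := h4
  have h5' : FormallyUnramified (f ≫ q) := h5
  exact ⟨Groth.Agent.S5938.result f q, formallyUnramified_of_fppf_comp f q⟩

/-- Generic fppf descent on the source for `LocP P`. -/
theorem locP_of_fppf_comp {P : MorphismProperty Scheme.{u}} [IsZariskiLocalAtSource P]
    (hP : ∀ ⦃X Y Z : Scheme.{u}⦄ (f : X ⟶ Y) (q : Y ⟶ Z), Surjective f → Flat f →
      LocallyOfFinitePresentation f → P (f ≫ q) → P q)
    {X Y B : AlgSp.Sp S} (hX : AlgSp.IsAlgSpace X) (f : X ⟶ Y) (q : Y ⟶ B)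
    (hs : AlgSp.IsSurjectiveMor f) (hfl : AlgSp.LocP @Flat f)
    (hfp : AlgSp.LocP @LocallyOfFinitePresentation f)
    (h : AlgSp.LocP P (f ≫ q)) : AlgSp.LocP P q := by
  intro V W b c h₀ hb hc w
  have key : ∀ v : V.left, ∃ (U : Over S) (g : U ⟶ V) (u : U.left), g.left u = v ∧
      Flat g.left ∧ LocallyOfFinitePresentation g.left ∧ P (g ≫ h₀).left := by
    intro v
    obtain ⟨x, hx⟩ := hs (AlgSp.Points.ofPt b v)
    obtain ⟨U, a, u, ha, -, hu⟩ := Groth.Agent.R2.H45.HasAt.exists_chart hX x
    obtain ⟨W', p, g, w', hp, hpw, hgw, hcomm, het, -⟩ :=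
      Groth.Agent.R2.H45.HasAt.exists_diagram_through f a b ha hb u v (by rw [hu, hx])
    refine ⟨W', g, w', hgw, hfl _ _ g het hb hcomm, hfp _ _ g het hb hcomm, ?_⟩
    apply h _ c (g ≫ h₀) het hc
    rw [← Category.assoc, hcomm, Category.assoc, w, Functor.map_comp, Category.assoc]
  choose U g u hgu hflat hlfp hPg using key
  let G : (∐ fun v => (U v).left) ⟶ V.left := Sigma.desc fun v => (g v).left
  have hsurj : Surjective G := by
    apply Surjective.sigmaDesc_of_union_range_eq_univ
    rw [Set.eq_univ_iff_forall]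
    intro v
    exact Set.mem_iUnion.2 ⟨v, u v, hgu v⟩
  have hGflat : Flat G := IsZariskiLocalAtSource.sigmaDesc hflat
  have hGlfp : LocallyOfFinitePresentation G := IsZariskiLocalAtSource.sigmaDesc hlfp
  apply hP G h₀.left hsurj hGflat hGlfp
  have : G ≫ h₀.left = Sigma.desc fun v => ((g v) ≫ h₀).left := by
    apply Sigma.hom_ext
    intro v
    simp [G]
  rw [this]
  exact IsZariskiLocalAtSource.sigmaDesc hPg

end Groth.Agent.R2.H47.FppfSrc
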