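import Mathlib
import Groth.Agent.S2135
import Groth.Agent.Lib.Helper3Branch

/-!
# Geometric unibranchness descends along flat local homomorphisms (helper47)
-/

set_option autoImplicit false
set_option linter.style.haveILetI false
universe u

namespace Groth.Agent.R2.H47.GeomUni

open IsLocalRing Groth.Agent.Lib.Helper3.Branch Groth.Agent.Lib.Helper3.IndEt

theorem isGeomUnibranch_of_flat_local {A B : Type u} [CommRing A] [IsLocalRing A] [CommRing B]
    [IsLocalRing B] (φ : A →+* B) [IsLocalHom φ] (hφ : φ.Flat)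
    (hB : CAlg2.IsGeomUnibranch B) : CAlg2.IsGeomUnibranch A := by
  obtain ⟨Ash, _, _, _, _, hAsh⟩ := exists_isStrictHenselization A
  obtain ⟨Bsh, _, _, _, _, hBsh⟩ := exists_isStrictHenselization B
  rw [Groth.Agent.S2135.result (A := A) (Ash := Ash)]
  have hB' : CAlgX.HasUniqueMinimalPrime Bsh := (Groth.Agent.S2135.result (A := B) (Ash := Bsh)).1 hB
  haveI : HenselianLocalRing Bsh := hBsh.henselian
  letI : Algebra A B := φ.toAlgebra
  let ψ : A →+* Bsh := (algebraMap B Bsh).comp φ
  haveI : IsLocalHom ψ := RingHom.isLocalHom_comp _ _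
  letI : Algebra A Bsh := ψ.toAlgebra
  haveI : IsScalarTower A B Bsh := IsScalarTower.of_algebraMap_eq (fun _ => rfl)
  haveI : IsLocalHom (algebraMap A Bsh) := ‹IsLocalHom ψ›
  -- residue field embedding
  haveI : IsSepClosure (ResidueField A) (ResidueField Ash) := hAsh.isSepClosure
  haveI : IsSepClosure (ResidueField B) (ResidueField Bsh) := hBsh.isSepClosure
  haveI : IsSepClosed (ResidueField Bsh) := IsSepClosure.sep_closed (ResidueField B)
  haveI : Algebra.IsSeparable (ResidueField A) (ResidueField Ash) := IsSepClosure.separable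
  let τ' : ResidueField Ash →ₐ[ResidueField A] ResidueField Bsh :=
    IsSepClosed.lift
  let τ : ResidueField Ash →+* ResidueField Bsh := τ'.toRingHom
  have hτ : τ.comp (ResidueField.map (algebraMap A Ash)) = ResidueField.map ψ := by
    ext x
    exact τ'.commutes x
  obtain ⟨g, ⟨hg1, hg2⟩, -⟩ := hAsh.universal Bsh ψ τ hτ
  letI : Algebra Ash Bsh := g.toAlgebra
  haveI : IsScalarTower A Ash Bsh :=
    IsScalarTower.of_algebraMap_eq (fun a => (congr($hg1 a)).symm)
  haveI : Module.Flat A B := hφ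
  haveI : Module.Flat B Bsh :=
    (flat_iff_of_isIndEtale (isIndEtale_of_isStrictHenselization B Bsh) Bsh).2 inferInstance
  haveI : Module.Flat A Bsh := Module.Flat.trans A B Bsh
  haveI : Module.Flat Ash Bsh :=
    (flat_iff_of_isIndEtale (isIndEtale_of_isStrictHenselization A Ash) Bsh).1 inferInstance
  haveI : IsLocalHom (algebraMap Ash Bsh) := by
    refine ⟨fun x hx => ?_⟩
    have h1 : residue Bsh (g x) ≠ 0 := by
      rw [Ne, residue_eq_zero_iff]
      exact fun h => ((mem_maximalIdeal _).1 h) hx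
    rw [hg2 x] at h1
    have h2 : residue Ash x ≠ 0 := fun h => h1 (by rw [h, map_zero])
    rw [Ne, residue_eq_zero_iff] at h2
    by_contra hnu
    exact h2 ((mem_maximalIdeal _).2 hnu)
  haveI : Module.FaithfullyFlat Ash Bsh := Module.FaithfullyFlat.of_flat_of_isLocalHom
  obtain ⟨q, hq, hquniq⟩ := hB'
  obtain ⟨p, hp, -⟩ := Ideal.exists_minimalPrimes_le (I := (⊥ : Ideal Ash))
    (J := maximalIdeal Ash) bot_le
  refine ⟨p, hp, fun p' hp' => ?_⟩
  obtain ⟨Q, hQ, hQp⟩ := exists_minimalPrimes_comap_eq (S := Bsh) p hp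
  obtain ⟨Q', hQ', hQp'⟩ := exists_minimalPrimes_comap_eq (S := Bsh) p' hp'
  rw [← hQp, ← hQp', hquniq Q hQ, hquniq Q' hQ']

end Groth.Agent.R2.H47.GeomUni
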