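import Mathlib
import Groth.Agent.R2.H47FppfSrc
import Groth.Agent.S9884
import Groth.Agent.S1163

/-!
# Descent of `LocP P` along locally surjective maps of fppf sheaves (helper47)
-/

set_option autoImplicit false
universe u
open CategoryTheory CategoryTheory.Limits AlgebraicGeometry
open AlgSp

namespace Groth.Agent.R2.H47.FppfSrc

variable {S : Scheme.{u}}

/-- Generic descent of `LocP P` along a locally surjective (fppf) map of the source. -/
theorem locP_of_locallySurjective_comp {P : MorphismProperty Scheme.{u}} [IsZariskiLocalAtSource P]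
    (hP : ∀ ⦃X Y Z Y' : Scheme.{u}⦄ (f : X ⟶ Y) (q : Y ⟶ Z) (g : Y' ⟶ Y) (l : Y' ⟶ X),
      Surjective g → Flat g → LocallyOfFinitePresentation g → l ≫ f = g → P (f ≫ q) → P q)
    {X Y Z : AlgSp.Sp S} (hX : AlgSp.IsAlgSpace X) (g : X ⟶ Y) (h : Y ⟶ Z)
    [Sheaf.IsLocallySurjective g]
    (hgh : AlgSp.LocP P (g ≫ h)) : AlgSp.LocP P h := by
  intro V W b c h₀ hb hc w
  obtain ⟨U₀, a₀, ha₀, hs₀⟩ := hX.atlas
  -- the chart `U = U₀ ×_Y V`
  have sq₁ := hb.rep.isPullback' (a₀ ≫ g)
  have hp₂ : Etale (hb.rep.snd (a₀ ≫ g)).left := hb.property_snd (a₀ ≫ g)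
  set p₁ := hb.rep.fst' (a₀ ≫ g) with hp₁def
  set p₂ := hb.rep.snd (a₀ ≫ g) with hp₂def
  have ha : AlgSp.RepWith @Etale ((AlgSp.yon S).map p₂ ≫ a₀) :=
    (AlgSp.repWith_isMultiplicative (S := S) @Etale).comp_mem _ _
      ((AlgSp.repWith_yon_map_iff _ _).2 hp₂) ha₀
  have hcomm : ((AlgSp.yon S).map p₂ ≫ a₀) ≫ g = (AlgSp.yon S).map p₁ ≫ b := by
    rw [Category.assoc]; exact sq₁.w.symm
  have hPU : P (p₁ ≫ h₀).left := by
    apply hgh _ c (p₁ ≫ h₀) ha hc
    rw [← Category.assoc, hcomm, Category.assoc, w, Functor.map_comp, Category.assoc]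
  obtain ⟨R, hR, hlift⟩ := Groth.Agent.S9884.exists_fppf_lift g b
  have key : ∀ v : V.left, ∃ (T : Over S) (G : T ⟶ V) (l : T ⟶ hb.rep.pullback (a₀ ≫ g))
      (x : T.left), G.left x = v ∧ Flat G.left ∧ LocallyOfFinitePresentation G.left ∧
        l ≫ p₁ = G := by
    intro v
    obtain ⟨T₀, t, hRt, x₀, hx₀⟩ :=
      (Presieve.mem_comap_jointlySurjectivePrecoverage_iff Scheme.forget).1 hR.1 v
    obtain ⟨htflat, htlfp⟩ := hR.2 hRt
    obtain ⟨d, hd⟩ := hlift t hRt
    have sqT := ha₀.rep.isPullback' d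
    have he : Etale (ha₀.rep.snd d).left := ha₀.property_snd d
    have hes : Surjective (ha₀.rep.snd d).left := hs₀.2 d _ _ sqT
    set e := ha₀.rep.snd d with hedef
    set r₁ := ha₀.rep.fst' d with hr₁def
    obtain ⟨x, hx⟩ := hes.surj x₀
    set t' : Over.mk (t ≫ V.hom) ⟶ V := Over.homMk t with ht'
    have hcond : (AlgSp.yon S).map (e ≫ t') ≫ b = (AlgSp.yon S).map r₁ ≫ (a₀ ≫ g) := by
      rw [← Category.assoc ((AlgSp.yon S).map r₁), sqT.w, Category.assoc, hd, Functor.map_comp,
        Category.assoc]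
    obtain ⟨l, hl⟩ := (AlgSp.yon S).map_surjective (sq₁.lift _ _ hcond)
    refine ⟨_, e ≫ t', l, x, ?_, ?_, ?_, ?_⟩
    · rw [Over.comp_left, Scheme.Hom.comp_apply, hx]
      exact hx₀
    · rw [Over.comp_left]
      have : Flat t'.left := htflat
      infer_instance
    · rw [Over.comp_left]
      have : LocallyOfFinitePresentation t'.left := htlfp
      infer_instance
    · apply (AlgSp.yon S).map_injective
      rw [Functor.map_comp, hl, sq₁.lift_fst]
  choose T G l x hGx hGflat hGlfp hlG using key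
  let GG : (∐ fun v => (T v).left) ⟶ V.left := Sigma.desc fun v => (G v).left
  let ll : (∐ fun v => (T v).left) ⟶ (hb.rep.pullback (a₀ ≫ g)).left :=
    Sigma.desc fun v => (l v).left
  have hsurj : Surjective GG := by
    apply Surjective.sigmaDesc_of_union_range_eq_univ
    rw [Set.eq_univ_iff_forall]
    intro v
    exact Set.mem_iUnion.2 ⟨v, x v, hGx v⟩
  have hGGflat : Flat GG := IsZariskiLocalAtSource.sigmaDesc hGflat
  have hGGlfp : LocallyOfFinitePresentation GG := IsZariskiLocalAtSource.sigmaDesc hGlfp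
  have hll : ll ≫ p₁.left = GG := by
    apply Sigma.hom_ext
    intro v
    simp only [ll, GG, Sigma.ι_desc, Sigma.ι_desc_assoc]
    rw [← Over.comp_left, hlG]
  exact hP p₁.left h₀.left GG ll hsurj hGGflat hGGlfp hll hPU


/-- scheme level: locally of finite type descends when the source map is refined by an fppf cover. -/
theorem lft_of_refined {X Y Z Y' : Scheme.{u}} (f : X ⟶ Y) (q : Y ⟶ Z) (g : Y' ⟶ Y) (l : Y' ⟶ X)
    (h1 : Surjective g) (h2 : Flat g) (h3 : LocallyOfFinitePresentation g) (hl : l ≫ f = g)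
    (h : LocallyOfFiniteType (f ≫ q)) : LocallyOfFiniteType q := by
  subst hl
  have : LocallyOfFiniteType l := locallyOfFiniteType_of_comp l f
  have : LocallyOfFiniteType ((l ≫ f) ≫ q) := by
    rw [Category.assoc]; infer_instance
  exact Groth.Agent.S5938.result (l ≫ f) q

/-- scheme level: locally of finite presentation descends when the source map is refined by an
fppf cover. -/
theorem lfp_of_refined {X Y Z Y' : Scheme.{u}} (f : X ⟶ Y) (q : Y ⟶ Z) (g : Y' ⟶ Y) (l : Y' ⟶ X)
    (h1 : Surjective g) (h2 : Flat g) (h3 : LocallyOfFinitePresentation g) (hl : l ≫ f = g)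
    (h : LocallyOfFinitePresentation (f ≫ q)) : LocallyOfFinitePresentation q := by
  subst hl
  have hf : LocallyOfFiniteType f := locallyOfFiniteType_of_comp f q
  have : LocallyOfFinitePresentation l :=
    Groth.Agent.Lib.Helper6.locallyOfFinitePresentation_of_comp hf h3
  have : LocallyOfFinitePresentation ((l ≫ f) ≫ q) := by
    rw [Category.assoc]; infer_instance
  exact Groth.Agent.S0114.result (l ≫ f) q

end Groth.Agent.R2.H47.FppfSrc
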