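import Mathlib
import Groth.Agent.S10180
import Groth.Agent.S9874
import Groth.Agent.S10177
import Groth.Agent.S13210
import Groth.Agent.Lib.Helper12LocPCases
import Groth.Agent.Lib.Helper12ZarGlue
import Groth.Agent.S9907

/-!
# Quasi-compact flat surjective monomorphisms of algebraic spaces are isomorphisms (helper47)

The key step: for a monomorphism `π : X ⟶ h_T` and an etale chart `a : h_U ⟶ X` such that
`a ≫ π = h_u` with `u : U ⟶ T` flat, surjective and quasi-compact, the morphism `u` is etale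
(fpqc descent of etaleness along `u` itself, `U ×_T U = U ×_X U` being etale over `U`).
-/

set_option autoImplicit false
universe u
open CategoryTheory CategoryTheory.Limits AlgebraicGeometry Opposite
open AlgSp

namespace Groth.Agent.R2.H47.MonoIso

open Groth.Agent.S13210

variable {S : Scheme.{u}}

/-- a pullback square over a composite with a monomorphism is a pullback square over the first map. -/
lemma isPullback_of_comp_mono {C : Type*} [Category C] {P A B D : C} {p q : P ⟶ A} {a : A ⟶ B}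
    (π : B ⟶ D) [Mono π] (sq : IsPullback p q (a ≫ π) (a ≫ π)) : IsPullback p q a a := by
  have w : p ≫ a = q ≫ a := by
    rw [← cancel_mono π, Category.assoc, Category.assoc]
    exact sq.w
  refine ⟨⟨w⟩, ⟨PullbackCone.IsLimit.mk _
    (fun s => sq.lift s.fst s.snd (by rw [← Category.assoc, s.condition, Category.assoc]))
    (fun s => sq.lift_fst _ _ _) (fun s => sq.lift_snd _ _ _)
    (fun s m h1 h2 => sq.hom_ext (by rw [h1, sq.lift_fst]) (by rw [h2, sq.lift_snd]))⟩⟩

/-- the key step: a flat, surjective, quasi-compact morphism `u : U ⟶ T` of schemes over `S` such that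
`h_u` factors as an etale chart `a : h_U ⟶ X` followed by a monomorphism `π : X ⟶ h_T` is etale. -/
lemma etale_of_mono_chart {X : AlgSp.Sp S} {T U : Over S} (π : X ⟶ (AlgSp.yon S).obj T) [Mono π]
    (a : (AlgSp.yon S).obj U ⟶ X) (ha : AlgSp.RepWith @Etale a) (u : U ⟶ T)
    (hu : (AlgSp.yon S).map u = a ≫ π)
    (hflat : Flat u.left) (hsurj : Surjective u.left) (hqc : QuasiCompact u.left) :
    Etale u.left := by
  have sq0 : IsPullback (pullback.fst u u) (pullback.snd u u) u u := IsPullback.of_hasPullback u u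
  have sq1 := sq0.map (AlgSp.yon S)
  rw [hu] at sq1
  have sq2 := isPullback_of_comp_mono π sq1
  have het : Etale (pullback.snd u u).left := ha.2 _ _ _ sq2
  have sq3 := sq0.map (Over.forget S)
  exact MorphismProperty.of_isPullback_of_descendsAlong (P := @Etale)
    (Q := @Surjective ⊓ @Flat ⊓ @QuasiCompact) sq3.flip ⟨⟨hsurj, hflat⟩, hqc⟩ het

/-- `h_T` is quasi-compact for `T` with quasi-compact underlying space. -/
lemma isQuasiCompactSp_yon (T : Over S) [CompactSpace ↥T.left] :
    AlgSp.IsQuasiCompactSp ((AlgSp.yon S).obj T) :=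
  ⟨T, 𝟙 _, AlgSp.repWith_id _ T, AlgSp.repWith_id _ T, inferInstance⟩

/-- local data: for a monomorphism `f : X ⟶ Y` of algebraic spaces which is quasi-compact, flat and
surjective, and a map `x : h_T ⟶ Y` from an affine scheme, there is an etale surjective `u : U ⟶ T` such that
`h_u ≫ x` lifts to `X`. -/
lemma exists_etale_lift {X Y : AlgSp.Sp S} (hX : AlgSp.IsAlgSpace X) (hY : AlgSp.IsAlgSpace Y)
    (f : X ⟶ Y) [Mono f] (hqc : AlgSp.IsQuasiCompactMor f) (hfl : AlgSp.LocP @Flat f)
    (hs : AlgSp.IsSurjectiveMor f) (T : Over S) [IsAffine T.left] (x : (AlgSp.yon S).obj T ⟶ Y) :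
    ∃ (U : Over S) (u : U ⟶ T) (l : (AlgSp.yon S).obj U ⟶ X), Etale u.left ∧ Surjective u.left ∧
      l ≫ f = (AlgSp.yon S).map u ≫ x := by
  have sq : IsPullback (pullback.fst f x) (pullback.snd f x) f x := IsPullback.of_hasPullback f x
  have hAlg : AlgSp.IsAlgSpace (pullback f x) :=
    Groth.Agent.S9874.isAlgSpace_of_isPullback hY.diag hX (AlgSp.IsAlgSpace.yon_obj T) sq
  have hq : AlgSp.IsQuasiCompactSp (pullback f x) :=
    hqc (AlgSp.IsAlgSpace.yon_obj T) (isQuasiCompactSp_yon T) x _ _ sq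
  obtain ⟨U, p, hUa, hpe, hps⟩ := (Groth.Agent.S10180.result ⟨pullback f x, hAlg⟩).1 hq
  change (AlgSp.yon S).obj U ⟶ pullback f x at p
  obtain ⟨u, hu⟩ := (AlgSp.yon S).map_surjective (p ≫ pullback.snd f x)
  -- flatness
  have hflπ : AlgSp.LocP @Flat (pullback.snd f x) :=
    Groth.Agent.Lib.Helper12.LocPCases.good_flat.locP_baseChange hX hY (AlgSp.IsAlgSpace.yon_obj T) sq hfl
  have hflat : Flat u.left :=
    hflπ p (𝟙 _) u hpe (AlgSp.repWith_id _ T) (by rw [hu, Category.comp_id])
  -- surjectivity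
  have hsπ : AlgSp.IsSurjectiveMor (pullback.snd f x) :=
    Groth.Agent.S9907.result (X := ⟨X, hX⟩) (Y := ⟨Y, hY⟩) (Y' := ⟨_, AlgSp.IsAlgSpace.yon_obj T⟩)
      ⟨f⟩ ⟨x⟩ _ _ sq hs
  have hsurj : Surjective u.left := by
    refine ⟨fun t => ?_⟩
    obtain ⟨z, hz⟩ := hsπ (AlgSp.Points.schemeHomeo T t)
    obtain ⟨u0, hu0⟩ := Groth.Agent.S10177.surjective_ofPt p hps z
    refine ⟨u0, ?_⟩
    have h1 : AlgSp.Points.ofPt ((AlgSp.yon S).map u) u0 = AlgSp.Points.schemeHomeo T t := by
      rw [hu, ← AlgSp.Points.map_ofPt, hu0, hz]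
    have h2 := AlgSp.Points.toScheme_ofPt u u0
    rw [h1] at h2
    rw [← h2]
    exact AlgSp.Points.toScheme_ofScheme T t
  haveI : IsAffine U.left := hUa
  have hqcu : QuasiCompact u.left := inferInstance
  haveI : Mono (pullback.snd f x) := inferInstance
  have het := etale_of_mono_chart (pullback.snd f x) p hpe u hu hflat hsurj hqcu
  refine ⟨U, u, p ≫ pullback.fst f x, het, hsurj, ?_⟩
  rw [Category.assoc, pullback.condition, ← Category.assoc, hu]

/-- a monomorphism of algebraic spaces which is quasi-compact, flat and surjective is an epimorphism of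
fppf sheaves. -/
theorem epi_of_mono_qc_flat_surj {X Y : AlgSp.Sp S} (hX : AlgSp.IsAlgSpace X)
    (hY : AlgSp.IsAlgSpace Y) (f : X ⟶ Y) [Mono f] (hqc : AlgSp.IsQuasiCompactMor f)
    (hfl : AlgSp.LocP @Flat f) (hs : AlgSp.IsSurjectiveMor f) : Epi f := by
  rw [← Sheaf.isLocallySurjective_iff_epi]
  constructor
  intro T s
  -- the affine opens of `T`, as schemes over `S`
  let TW : T.left.affineOpens → Over S := fun W => Over.mk (W.1.ι ≫ T.hom)
  let j : ∀ W : T.left.affineOpens, TW W ⟶ T := fun W => Over.homMk W.1.ι rfl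
  have hTW : ∀ W : T.left.affineOpens, IsAffine (TW W).left := fun W => W.2
  have key : ∀ W : T.left.affineOpens, ∃ (U : Over S) (u : U ⟶ TW W) (l : (AlgSp.yon S).obj U ⟶ X),
      Etale u.left ∧ Surjective u.left ∧
        l ≫ f = (AlgSp.yon S).map u ≫ (AlgSp.yon S).map (j W) ≫ (yEquiv T Y).symm s := fun W => by
    haveI := hTW W
    exact exists_etale_lift hX hY f hqc hfl hs (TW W) _
  choose U u l hue hus hl using key
  have hmem : Sieve.ofArrows U (fun W => u W ≫ j W) ∈ AlgSp.J S T := by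
    rw [GrothendieckTopology.mem_over_iff, Sieve.overEquiv_ofArrows]
    apply Precoverage.generate_mem_toGrothendieck
    refine (Scheme.ofArrows_mem_precoverage_iff
      (fun {A B : Scheme.{u}} (m : A ⟶ B) => Flat m ∧ LocallyOfFinitePresentation m)).2 ?_
    refine ⟨fun t => ?_, fun W => ?_⟩
    · obtain ⟨W, hW, htW, -⟩ := (TopologicalSpace.Opens.isBasis_iff_nbhd.mp
        T.left.isBasis_affineOpens) (show t ∈ (⊤ : T.left.Opens) from trivial)
      have := hus ⟨W, hW⟩
      obtain ⟨u0, hu0⟩ := (u ⟨W, hW⟩).left.surjective ⟨t, htW⟩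
      refine ⟨⟨W, hW⟩, u0, ?_⟩
      rw [Over.comp_left, Scheme.Hom.comp_apply, hu0]
      rfl
    · haveI := hue W
      haveI : IsOpenImmersion (j W).left := inferInstanceAs (IsOpenImmersion W.1.ι)
      rw [Over.comp_left]
      exact ⟨inferInstance, inferInstance⟩
  refine (AlgSp.J S).superset_covering ?_ hmem
  rw [Sieve.ofArrows, Sieve.generate_le_iff]
  rintro _ _ ⟨W⟩
  refine ⟨yEquiv _ _ (l W), ?_⟩
  have h1 := yEquiv_comp (l W) f
  rw [hl W, ← Category.assoc, ← Functor.map_comp] at h1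
  rw [← h1, ← Groth.Agent.Lib.Helper12.ZarGlue.map_yEquiv, Equiv.apply_symm_apply]

/-- **A monomorphism of algebraic spaces that is quasi-compact, flat and surjective is an isomorphism.** -/
theorem isIso_of_mono_qc_flat_surj {X Y : AlgSp.Sp S} (hX : AlgSp.IsAlgSpace X)
    (hY : AlgSp.IsAlgSpace Y) (f : X ⟶ Y) [Mono f] (hqc : AlgSp.IsQuasiCompactMor f)
    (hfl : AlgSp.LocP @Flat f) (hs : AlgSp.IsSurjectiveMor f) : IsIso f := by
  haveI := epi_of_mono_qc_flat_surj hX hY f hqc hfl hs
  exact isIso_of_mono_of_epi f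

end Groth.Agent.R2.H47.MonoIso
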