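import Mathlib
import Groth.Prelude.Def_W4c2gaugesfzipsQuiet

/-!
# Root towers: invariance under isomorphism and base change (helper69)
-/

set_option autoImplicit false
universe u

namespace Groth.Agent.R2.H69.RootTower

open Polynomial Quiet TensorProduct

theorem isRootTower_of_algEquiv (p : ℕ) : ∀ (n : ℕ) (A B B' : Type u) [CommRing A] [CommRing B]
    [CommRing B'] [Algebra A B] [Algebra A B'] (_ : B ≃ₐ[A] B'),
    IsRootTower p n A B → IsRootTower p n A B'
  | 0, A, B, B', _, _, _, _, _, e, h => by
      obtain ⟨g⟩ := h
      exact ⟨e.symm.trans g⟩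
  | n + 1, A, B, B', _, _, _, _, _, e, h => by
      obtain ⟨a, alg, tower, h'⟩ := h
      letI : Algebra (RootRing p A a) B' :=
        (e.toRingEquiv.toRingHom.comp (algebraMap (RootRing p A a) B)).toAlgebra
      have tower' : IsScalarTower A (RootRing p A a) B' := IsScalarTower.of_algebraMap_eq (fun x => by
        change algebraMap A B' x = e (algebraMap (RootRing p A a) B (algebraMap A _ x))
        rw [← IsScalarTower.algebraMap_apply A (RootRing p A a) B, e.commutes])
      let e' : B ≃ₐ[RootRing p A a] B' := { e.toRingEquiv with commutes' := fun r => rfl }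
      exact ⟨a, inferInstance, tower', isRootTower_of_algEquiv p n _ B B' e' h'⟩

section AdjoinRootBC

variable (p : ℕ) {A A' : Type u} [CommRing A] [CommRing A'] [Algebra A A'] (a : A)

/-- the canonical map `A[x]/(x^p-a) → A'[x]/(x^p-a')` -/
noncomputable def rootMap : RootRing p A a →ₐ[A] RootRing p A' (algebraMap A A' a) :=
  AdjoinRoot.mapAlgHom (Algebra.ofId A A') _ _ (by
    simp [Polynomial.map_sub, Polynomial.map_pow, Algebra.ofId_apply])

@[simp] theorem rootMap_root : rootMap p a (AdjoinRoot.root (X ^ p - C a : A[X])) =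
    AdjoinRoot.root (X ^ p - C (algebraMap A A' a) : A'[X]) := by
  simp [rootMap]

@[simp] theorem rootMap_of (x : A) :
    rootMap p a (AdjoinRoot.of (X ^ p - C a : A[X]) x) =
      AdjoinRoot.of (X ^ p - C (algebraMap A A' a) : A'[X]) (algebraMap A A' x) := by
  simp [rootMap]

/-- adjoining a `p`-th root commutes with base change -/
noncomputable def bcEquiv :
    A' ⊗[A] RootRing p A a ≃ₐ[A'] RootRing p A' (algebraMap A A' a) :=
  AlgEquiv.ofAlgHom
    (Algebra.TensorProduct.lift (Algebra.ofId A' _) (rootMap p a) (fun _ _ => Commute.all _ _))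
    (AdjoinRoot.liftAlgHom _ (Algebra.ofId A' _)
      ((1 : A') ⊗ₜ[A] AdjoinRoot.root (X ^ p - C a : A[X])) (by
      have h0 : (AdjoinRoot.root (X ^ p - C a : A[X])) ^ p = AdjoinRoot.of _ a := by
        have := AdjoinRoot.eval₂_root (X ^ p - C a : A[X])
        rw [eval₂_sub, eval₂_pow, eval₂_X, eval₂_C, sub_eq_zero] at this
        exact this
      rw [eval₂_sub, eval₂_pow, eval₂_X, eval₂_C, Algebra.TensorProduct.tmul_pow, one_pow, h0,
        sub_eq_zero]
      change _ = algebraMap A' (A' ⊗[A] RootRing p A a) (algebraMap A A' a)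
      rw [Algebra.TensorProduct.algebraMap_apply, Algebra.algebraMap_self_apply,
        Algebra.algebraMap_eq_smul_one a, TensorProduct.smul_tmul, ← AdjoinRoot.algebraMap_eq,
        Algebra.algebraMap_eq_smul_one]))
    (by ext; simp) (by ext; simp)

theorem bcEquiv_one_tmul (x : RootRing p A a) :
    bcEquiv p a ((1 : A') ⊗ₜ[A] x) = rootMap p a x := by
  simp [bcEquiv]

end AdjoinRootBC


theorem isRootTower_of_isPushout (p : ℕ) : ∀ (n : ℕ) (A A' B B' : Type u) [CommRing A]
    [CommRing A'] [CommRing B] [CommRing B'] [Algebra A A'] [Algebra A B] [Algebra A' B']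
    [Algebra B B'] [Algebra A B'] [IsScalarTower A A' B'] [IsScalarTower A B B']
    [Algebra.IsPushout A A' B B'], IsRootTower p n A B → IsRootTower p n A' B'
  | 0, A, A', B, B', _, _, _, _, _, _, _, _, _, _, _, _, h => by
      obtain ⟨g⟩ := h
      exact ⟨(Algebra.IsPushout.equiv A A' B B').symm.trans
        ((Algebra.TensorProduct.congr AlgEquiv.refl g).trans (Algebra.TensorProduct.rid A A' A'))⟩
  | n + 1, A, A', B, B', _, _, _, _, _, _, _, _, _, _, _, _, h => by
      obtain ⟨a, alg, tower, h'⟩ := h
      let a' : A' := algebraMap A A' a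
      letI i1 : Algebra (RootRing p A a) (RootRing p A' a') := (rootMap p a).toRingHom.toAlgebra
      let r : B' := algebraMap B B' (algebraMap (RootRing p A a) B (AdjoinRoot.root _))
      have h0 : (AdjoinRoot.root (X ^ p - C a : A[X])) ^ p = AdjoinRoot.of _ a := by
        have := AdjoinRoot.eval₂_root (X ^ p - C a : A[X])
        rw [eval₂_sub, eval₂_pow, eval₂_X, eval₂_C, sub_eq_zero] at this
        exact this
      have hr : r ^ p = algebraMap A' B' a' := by
        change (algebraMap B B' (algebraMap (RootRing p A a) B (AdjoinRoot.root _))) ^ p = _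
        rw [← map_pow, ← map_pow, h0, ← AdjoinRoot.algebraMap_eq,
          ← IsScalarTower.algebraMap_apply A (RootRing p A a) B,
          ← IsScalarTower.algebraMap_apply A B B', IsScalarTower.algebraMap_apply A A' B']
      have hev : eval₂ (algebraMap A' B') r (X ^ p - C a' : A'[X]) = 0 := by
        rw [eval₂_sub, eval₂_pow, eval₂_X, eval₂_C, hr, sub_self]
      letI i2 : Algebra (RootRing p A' a') B' :=
        (AdjoinRoot.lift (algebraMap A' B') r hev).toAlgebra
      letI i3 : Algebra (RootRing p A a) B' :=
        ((algebraMap B B').comp (algebraMap (RootRing p A a) B)).toAlgebra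
      have t1 : IsScalarTower (RootRing p A a) B B' := IsScalarTower.of_algebraMap_eq (fun _ => rfl)
      have t2 : IsScalarTower (RootRing p A a) (RootRing p A' a') B' := by
        refine IsScalarTower.of_algebraMap_eq' ?_
        refine AdjoinRoot.ringHom_ext ?_ ?_
        · ext x
          change algebraMap B B' (algebraMap (RootRing p A a) B (AdjoinRoot.of _ x)) =
            AdjoinRoot.lift (algebraMap A' B') r hev (rootMap p a (AdjoinRoot.of _ x))
          rw [rootMap_of, AdjoinRoot.lift_of, ← AdjoinRoot.algebraMap_eq,
            ← IsScalarTower.algebraMap_apply A (RootRing p A a) B,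
            ← IsScalarTower.algebraMap_apply A B B', IsScalarTower.algebraMap_apply A A' B']
        · change algebraMap B B' (algebraMap (RootRing p A a) B (AdjoinRoot.root _)) =
            AdjoinRoot.lift (algebraMap A' B') r hev (rootMap p a (AdjoinRoot.root _))
          rw [rootMap_root, AdjoinRoot.lift_root]
      have t3 : IsScalarTower A' (RootRing p A' a') B' :=
        IsScalarTower.of_algebraMap_eq (fun x => (AdjoinRoot.lift_of _).symm)
      have t5 : IsScalarTower A (RootRing p A a) (RootRing p A' a') :=
        IsScalarTower.of_algebraMap_eq (fun x => ((rootMap p a).commutes x).symm)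
      have t4 : IsScalarTower A (RootRing p A' a') B' := by
        refine IsScalarTower.of_algebraMap_eq (fun x => ?_)
        change algebraMap A B' x = AdjoinRoot.lift (algebraMap A' B') r hev (algebraMap A _ x)
        rw [AdjoinRoot.algebraMap_eq', RingHom.comp_apply, AdjoinRoot.lift_of,
          ← IsScalarTower.algebraMap_apply A A' B']
      have P1 : Algebra.IsPushout A A' (RootRing p A a) (RootRing p A' a') :=
        ⟨IsBaseChange.of_equiv (bcEquiv p a).toLinearEquiv (fun x => by
          simp [bcEquiv_one_tmul]
          rfl)⟩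
      have P1' : Algebra.IsPushout A (RootRing p A a) A' (RootRing p A' a') := P1.symm
      have P2 : Algebra.IsPushout A B A' B' := Algebra.IsPushout.symm inferInstance
      have P3 : Algebra.IsPushout (RootRing p A a) B (RootRing p A' a') B' :=
        (Algebra.IsPushout.comp_iff A (RootRing p A a) A' (RootRing p A' a')).mp P2
      have P4 : Algebra.IsPushout (RootRing p A a) (RootRing p A' a') B B' := P3.symm
      exact ⟨a', i2, t3, isRootTower_of_isPushout p n _ _ B B' h'⟩

end Groth.Agent.R2.H69.RootTower
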