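import Mathlib
import Groth.Agent.R2.H69RootTower

/-!
# Root towers in `CommRingCat`: base change, isomorphism invariance and lifting along surjections
(helper47)

`Tow p n f` : the morphism `f : A ⟶ B` of `CommRingCat` makes `B` a tower of `n` elementary `p`-th
root extractions of `A`.

* `tow_of_isPushout` : towers are stable under base change (wrapper of helper69's lemma);
* `tow_of_iso` : invariance under isomorphisms of arrows;
* `tow_lift` : a tower over a quotient `A = A₁ / I` lifts to a tower over `A₁` (choose lifts of the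
  elements whose roots are extracted), and the lift base changes to the given tower.
-/

set_option autoImplicit false
universe u

namespace Groth.Agent.R2.H47.QuietTower

open CategoryTheory Limits Polynomial Quiet
open Groth.Agent.R2.H69.RootTower

/-- `f : A ⟶ B` is a tower of `n` elementary `p`-th root extractions. -/
def Tow (p n : ℕ) {A B : CommRingCat.{u}} (f : A ⟶ B) : Prop :=
  letI := f.hom.toAlgebra
  IsRootTower p n A B

theorem isRootTower_congr_inst (p n : ℕ) (A B : Type u) [CommRing A] [CommRing B]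
    (i1 i2 : Algebra A B) (h : ∀ r, @algebraMap A B _ _ i1 r = @algebraMap A B _ _ i2 r)
    (H : @IsRootTower p n A B _ _ i1) : @IsRootTower p n A B _ _ i2 := by
  have : i1 = i2 := Algebra.algebra_ext _ _ h
  subst this
  exact H

theorem tow_of_isPushout (p n : ℕ) {A A' B B' : CommRingCat.{u}} (a : A ⟶ A') (f : A ⟶ B)
    (f' : A' ⟶ B') (b : B ⟶ B') (h : IsPushout a f f' b) (hf : Tow p n f) : Tow p n f' := by
  letI i1 : Algebra A A' := a.hom.toAlgebra
  letI i2 : Algebra A B := f.hom.toAlgebra
  letI i3 : Algebra A' B' := f'.hom.toAlgebra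
  letI i4 : Algebra B B' := b.hom.toAlgebra
  letI i5 : Algebra A B' := (a ≫ f').hom.toAlgebra
  haveI t1 : IsScalarTower A A' B' := IsScalarTower.of_algebraMap_eq (fun _ => rfl)
  haveI t2 : IsScalarTower A B B' := IsScalarTower.of_algebraMap_eq (fun x => by
    have := congrArg (fun φ => φ.hom x) h.w
    exact this)
  have hpo : IsPushout (CommRingCat.ofHom (algebraMap A A')) (CommRingCat.ofHom (algebraMap A B))
      (CommRingCat.ofHom (algebraMap A' B')) (CommRingCat.ofHom (algebraMap B B')) := h
  haveI hP : Algebra.IsPushout A A' B B' := CommRingCat.isPushout_iff_isPushout.mp hpo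
  exact isRootTower_of_isPushout p n A A' B B' hf

theorem tow_of_iso (p n : ℕ) {A A' B B' : CommRingCat.{u}} (α : A ≅ A') (β : B ≅ B')
    (f : A ⟶ B) (f' : A' ⟶ B') (w : f ≫ β.hom = α.hom ≫ f') (hf : Tow p n f) : Tow p n f' :=
  tow_of_isPushout p n α.hom f f' β.hom (IsPushout.of_horiz_isIso ⟨w.symm⟩) hf

section rootMap

variable (p : ℕ) {A A' : Type u} [CommRing A] [CommRing A'] [Algebra A A']

theorem rootMap_surjective (hs : Function.Surjective (algebraMap A A')) (a : A) :
    Function.Surjective (rootMap (A' := A') p a) := by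
  intro y
  have key : ∀ q : A'[X], AdjoinRoot.mk (X ^ p - C (algebraMap A A' a)) q ∈
      (rootMap (A' := A') p a).toRingHom.range := by
    intro q
    induction q using Polynomial.induction_on with
    | C c =>
      obtain ⟨c₁, rfl⟩ := hs c
      exact ⟨AdjoinRoot.of _ c₁, by simp⟩
    | add q₁ q₂ h₁ h₂ =>
      rw [map_add]
      exact Subring.add_mem _ h₁ h₂
    | monomial n c h =>
      obtain ⟨c₁, rfl⟩ := hs c
      rw [map_mul, map_pow, AdjoinRoot.mk_C, AdjoinRoot.mk_X]
      have h1 : AdjoinRoot.of (X ^ p - C (algebraMap A A' a)) (algebraMap A A' c₁) ∈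
          (rootMap (A' := A') p a).toRingHom.range := ⟨AdjoinRoot.of _ c₁, by simp⟩
      have h2 : AdjoinRoot.root (X ^ p - C (algebraMap A A' a)) ∈
          (rootMap (A' := A') p a).toRingHom.range := ⟨AdjoinRoot.root _, by simp⟩
      exact Subring.mul_mem _ h1 (Subring.pow_mem _ h2 _)
  induction y using AdjoinRoot.induction_on with
  | ih q =>
    obtain ⟨x, hx⟩ := key q
    exact ⟨x, hx⟩

theorem isPushout_rootMap (a : A) :
    letI : Algebra (RootRing p A a) (RootRing p A' (algebraMap A A' a)) :=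
      (rootMap p a).toRingHom.toAlgebra
    IsPushout (CommRingCat.ofHom (algebraMap A A'))
      (CommRingCat.ofHom (algebraMap A (RootRing p A a)))
      (CommRingCat.ofHom (algebraMap A' (RootRing p A' (algebraMap A A' a))))
      (CommRingCat.ofHom (rootMap (A' := A') p a).toRingHom) := by
  letI i1 : Algebra (RootRing p A a) (RootRing p A' (algebraMap A A' a)) :=
    (rootMap p a).toRingHom.toAlgebra
  haveI t5 : IsScalarTower A (RootRing p A a) (RootRing p A' (algebraMap A A' a)) :=
    IsScalarTower.of_algebraMap_eq (fun x => ((rootMap p a).commutes x).symm)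
  have P1 : Algebra.IsPushout A A' (RootRing p A a) (RootRing p A' (algebraMap A A' a)) :=
    ⟨IsBaseChange.of_equiv (bcEquiv p a).toLinearEquiv (fun x => by
      simp [bcEquiv_one_tmul]
      rfl)⟩
  exact CommRingCat.isPushout_iff_isPushout.mpr P1

end rootMap

theorem tow_lift (p : ℕ) : ∀ (n : ℕ) {A₁ A B : CommRingCat.{u}} (π : A₁ ⟶ A)
    (_ : Function.Surjective π.hom) (f : A ⟶ B) (_ : Tow p n f),
    ∃ (B₁ : CommRingCat.{u}) (f₁ : A₁ ⟶ B₁) (ψ : B₁ ⟶ B),
      Tow p n f₁ ∧ IsPushout π f₁ f ψ ∧ Function.Surjective ψ.hom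
  | 0, A₁, A, B, π, hπ, f, hf => by
      letI := f.hom.toAlgebra
      obtain ⟨e⟩ : Nonempty (B ≃ₐ[A] A) := hf
      have hbij : Function.Bijective f.hom := by
        have h1 : ∀ x : A, e (f.hom x) = x := fun x => e.commutes x
        refine ⟨fun x y hxy => by rw [← h1 x, ← h1 y, hxy], fun y => ⟨e y, ?_⟩⟩
        apply e.injective
        rw [h1]
      haveI : IsIso f := (ConcreteCategory.isIso_iff_bijective f).mpr hbij
      refine ⟨A₁, 𝟙 A₁, π ≫ f, ?_, IsPushout.of_vert_isIso ⟨by simp⟩, ?_⟩
      · letI := (𝟙 A₁ : A₁ ⟶ A₁).hom.toAlgebra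
        exact ⟨{ RingEquiv.refl A₁ with commutes' := fun r => rfl }⟩
      · exact hbij.2.comp hπ
  | n + 1, A₁, A, B, π, hπ, f, hf => by
      letI iAB : Algebra A B := f.hom.toAlgebra
      letI iA₁A : Algebra A₁ A := π.hom.toAlgebra
      obtain ⟨a, alg, tower, h'⟩ : ∃ (a : A) (_ : Algebra (RootRing p A a) B),
        IsScalarTower A (RootRing p A a) B ∧ IsRootTower p n (RootRing p A a) B := hf
      obtain ⟨a₁, rfl⟩ := hπ a
      let R₁ : CommRingCat.{u} := CommRingCat.of (RootRing p A₁ a₁)
      let R : CommRingCat.{u} := CommRingCat.of (RootRing p A (algebraMap A₁ A a₁))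
      let ρ : R₁ ⟶ R := CommRingCat.ofHom (rootMap (A' := A) p a₁).toRingHom
      let g : R ⟶ B := CommRingCat.ofHom (algebraMap (RootRing p A (algebraMap A₁ A a₁)) B)
      have hg : Tow p n g :=
        isRootTower_congr_inst p n _ _ alg g.hom.toAlgebra (fun r => rfl) h'
      have hρ : Function.Surjective ρ.hom := rootMap_surjective p hπ a₁
      obtain ⟨B₁, g₁, ψ, hg₁, hpo, hψ⟩ := tow_lift p n ρ hρ g hg
      have hsq := isPushout_rootMap (A' := A) p a₁
      have hpaste := hsq.paste_vert hpo
      have hfac : CommRingCat.ofHom (algebraMap A (RootRing p A (algebraMap A₁ A a₁))) ≫ g = f := by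
        ext x
        exact (IsScalarTower.algebraMap_apply A (RootRing p A (algebraMap A₁ A a₁)) B x).symm
      rw [hfac] at hpaste
      refine ⟨B₁, CommRingCat.ofHom (algebraMap A₁ (RootRing p A₁ a₁)) ≫ g₁, ψ, ?_, hpaste, hψ⟩
      letI := (CommRingCat.ofHom (algebraMap A₁ (RootRing p A₁ a₁)) ≫ g₁).hom.toAlgebra
      letI alg₁ : Algebra (RootRing p A₁ a₁) B₁ := g₁.hom.toAlgebra
      exact ⟨a₁, alg₁, IsScalarTower.of_algebraMap_eq (fun _ => rfl), hg₁⟩

end Groth.Agent.R2.H47.QuietTower
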