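import Groth.Agent.R2.H69RootTower
import Groth.Prelude.Def_Frob

/-!
# Base change of `p`-th root morphisms and quasi-etale morphisms (helper69)
-/

set_option autoImplicit false
universe u

namespace Groth.Agent.R2.H69.QuietBC

open CategoryTheory AlgebraicGeometry Quiet Limits

open Groth.Agent.R2.H69.RootTower

theorem isPthRoot_of_isPullback (p : ℕ) {V Y₁ V' Y₁' : Scheme.{u}} (r : V ⟶ Y₁) (h₁ : Y₁' ⟶ Y₁)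
    (h : V' ⟶ V) (r' : V' ⟶ Y₁') (H : IsPullback h r' r h₁) (hr : IsPthRoot p r) :
    IsPthRoot p r' := by
  intro x'
  obtain ⟨U, hxU, hUaff, n, htower⟩ := hr (h₁ x')
  obtain ⟨_, ⟨U', hU', rfl⟩, hx'U', hU'le⟩ :=
    Y₁'.isBasis_affineOpens.exists_subset_of_mem_open
      (show x' ∈ ((h₁ ⁻¹ᵁ U.1 : Y₁'.Opens) : Set Y₁') from hxU) (h₁ ⁻¹ᵁ U.1).isOpen
  have hUST : U' ≤ h₁ ⁻¹ᵁ U.1 := hU'le
  have hUSX : r ⁻¹ᵁ U.1 ≤ r ⁻¹ᵁ U.1 := le_rfl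
  have hle : r' ⁻¹ᵁ U' ≤ h ⁻¹ᵁ (r ⁻¹ᵁ U.1) := by
    rw [← Scheme.Hom.comp_preimage, H.w, Scheme.Hom.comp_preimage]
    exact r'.preimage_mono hUST
  have hUY : r' ⁻¹ᵁ U' = h ⁻¹ᵁ (r ⁻¹ᵁ U.1) ⊓ r' ⁻¹ᵁ U' := (inf_eq_right.mpr hle).symm
  have hiso := isIso_pushoutSection_of_isAffineOpen H hUST hUSX hUY U.2 hU' hUaff
  have hpo := (isIso_pushoutSection_iff H hUST hUSX hUY).mp hiso
  have haffY : IsAffineOpen (r' ⁻¹ᵁ U') := by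
    have : IsAffine (U.1 : Scheme.{u}) := U.2
    have : IsAffine (U' : Scheme.{u}) := hU'
    have : IsAffine ((r ⁻¹ᵁ U.1 : V.Opens) : Scheme.{u}) := hUaff
    exact .of_isIso (Scheme.Hom.isPullback_resLE H hUST hUSX hUY).isoPullback.hom
  refine ⟨⟨U', hU'⟩, hx'U', haffY, n, ?_⟩
  -- algebra structures
  letI iAA' : Algebra Γ(Y₁, U.1) Γ(Y₁', U') := (h₁.appLE U.1 U' hUST).hom.toAlgebra
  letI iAB : Algebra Γ(Y₁, U.1) Γ(V, r ⁻¹ᵁ U.1) := (r.app U.1).hom.toAlgebra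
  letI iA'B' : Algebra Γ(Y₁', U') Γ(V', r' ⁻¹ᵁ U') := (r'.app U').hom.toAlgebra
  letI iBB' : Algebra Γ(V, r ⁻¹ᵁ U.1) Γ(V', r' ⁻¹ᵁ U') :=
    (h.appLE (r ⁻¹ᵁ U.1) (r' ⁻¹ᵁ U') hle).hom.toAlgebra
  letI iAB' : Algebra Γ(Y₁, U.1) Γ(V', r' ⁻¹ᵁ U') :=
    ((r'.app U').hom.comp (h₁.appLE U.1 U' hUST).hom).toAlgebra
  have t1 : IsScalarTower Γ(Y₁, U.1) Γ(Y₁', U') Γ(V', r' ⁻¹ᵁ U') :=
    IsScalarTower.of_algebraMap_eq (fun _ => rfl)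
  have hcomm : r.app U.1 ≫ h.appLE (r ⁻¹ᵁ U.1) (r' ⁻¹ᵁ U') hle =
      h₁.appLE U.1 U' hUST ≫ r'.app U' := by
    rw [Scheme.Hom.app_eq_appLE, Scheme.Hom.app_eq_appLE, Scheme.Hom.appLE_comp_appLE,
      Scheme.Hom.appLE_comp_appLE]
    simp only [H.w]
  have t2 : IsScalarTower Γ(Y₁, U.1) Γ(V, r ⁻¹ᵁ U.1) Γ(V', r' ⁻¹ᵁ U') :=
    IsScalarTower.of_algebraMap_eq (fun x => (congrArg (fun φ => φ.hom x) hcomm).symm)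
  have hpo' : IsPushout (CommRingCat.ofHom (algebraMap Γ(Y₁, U.1) Γ(Y₁', U')))
      (CommRingCat.ofHom (algebraMap Γ(Y₁, U.1) Γ(V, r ⁻¹ᵁ U.1)))
      (CommRingCat.ofHom (algebraMap Γ(Y₁', U') Γ(V', r' ⁻¹ᵁ U')))
      (CommRingCat.ofHom (algebraMap Γ(V, r ⁻¹ᵁ U.1) Γ(V', r' ⁻¹ᵁ U'))) := by
    have := hpo.flip
    rw [Scheme.Hom.appLE_eq_app, Scheme.Hom.appLE_eq_app] at this
    exact this
  have hP : Algebra.IsPushout Γ(Y₁, U.1) Γ(Y₁', U') Γ(V, r ⁻¹ᵁ U.1) Γ(V', r' ⁻¹ᵁ U') :=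
    CommRingCat.isPushout_iff_isPushout.mp hpo'
  exact isRootTower_of_isPushout p n Γ(Y₁, U.1) Γ(Y₁', U') Γ(V, r ⁻¹ᵁ U.1) Γ(V', r' ⁻¹ᵁ U') htower

theorem isQuiet_of_isPullback (p : ℕ) {X Y X' Y' : Scheme.{u}} (f : Y ⟶ X) (g : X' ⟶ X)
    (f' : Y' ⟶ X') (g' : Y' ⟶ Y) (H : IsPullback g' f' f g) (hf : IsQuiet p f) :
    IsQuiet p f' := by
  intro y'
  obtain ⟨V, Y₁, r, e, hyV, hr, he, hre⟩ := hf (g' y')
  have hw : ((g' ∣_ V) ≫ r) ≫ e = ((g' ⁻¹ᵁ V).ι ≫ f') ≫ g := by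
    rw [Category.assoc, hre, ← Category.assoc, morphismRestrict_ι, Category.assoc, H.w,
      Category.assoc]
  refine ⟨g' ⁻¹ᵁ V, pullback e g, pullback.lift ((g' ∣_ V) ≫ r) ((g' ⁻¹ᵁ V).ι ≫ f') hw,
    pullback.snd e g, hyV, ?_, inferInstance, pullback.lift_snd _ _ _⟩
  refine isPthRoot_of_isPullback p r (pullback.fst e g) (g' ∣_ V) _ ?_ hr
  have big : IsPullback (g' ∣_ V) ((g' ⁻¹ᵁ V).ι ≫ f') (V.ι ≫ f) g :=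
    (isPullback_morphismRestrict g' V).paste_vert H
  rw [← hre] at big
  have hsnd : pullback.lift ((g' ∣_ V) ≫ r) ((g' ⁻¹ᵁ V).ι ≫ f') hw ≫ pullback.snd e g =
      (g' ⁻¹ᵁ V).ι ≫ f' := pullback.lift_snd _ _ _
  rw [← hsnd] at big
  exact IsPullback.of_bot big (pullback.lift_fst _ _ _).symm (IsPullback.of_hasPullback e g)

end Groth.Agent.R2.H69.QuietBC
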