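import Mathlib
import Groth.Agent.R2.H47QuietTower
import Groth.Agent.R2.H69QuietBC
import Groth.Agent.R2.H47TopInv

/-!
# Lifting quasi-etale morphisms along closed immersions (helper47)

`isPthRoot_SpecMap` : a tower of `p`-th root extractions of rings gives a `p`-th root morphism of
spectra.  `isPullback_chart` : the cartesian square of an affine chart of a morphism.
`exists_isQuiet_isPullback` : a quasi-etale scheme over a closed subscheme is, locally on the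
source, the base change of a quasi-etale scheme over the ambient scheme.
-/

set_option autoImplicit false
universe u

namespace Groth.Agent.R2.H47.QuietLift

open CategoryTheory Limits AlgebraicGeometry Quiet
open Groth.Agent.R2.H47.QuietTower Groth.Agent.R2.H69.QuietBC

theorem isPthRoot_SpecMap (p n : ℕ) {A B : CommRingCat.{u}} (φ : A ⟶ B) (h : Tow p n φ) :
    IsPthRoot p (Spec.map φ) := by
  intro x
  refine ⟨⟨⊤, isAffineOpen_top _⟩, trivial, isAffineOpen_top _, n, ?_⟩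
  have h2 : Tow p n ((Spec.map φ).app ⊤) :=
    tow_of_iso p n (Scheme.ΓSpecIso A).symm (Scheme.ΓSpecIso B).symm φ ((Spec.map φ).app ⊤)
      (Scheme.ΓSpecIso_inv_naturality φ) h
  exact h2

theorem isPthRoot_iso_comp (p : ℕ) {X Y Z : Scheme.{u}} (g : X ⟶ Y) [IsIso g] (r : Y ⟶ Z)
    (hr : IsPthRoot p r) : IsPthRoot p (g ≫ r) :=
  isPthRoot_of_isPullback p r (𝟙 Z) g (g ≫ r) (IsPullback.of_horiz_isIso ⟨by simp⟩) hr

theorem isPullback_chart {V Y : Scheme.{u}} (r : V ⟶ Y) (U : Y.Opens) (hU : IsAffineOpen U)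
    (hV : IsAffineOpen (r ⁻¹ᵁ U)) :
    IsPullback (Spec.map (r.app U)) hV.fromSpec hU.fromSpec r := by
  refine IsOpenImmersion.isPullback _ _ _ _ ?_ ?_
  · rw [Scheme.Hom.app_eq_appLE]
    exact (IsAffineOpen.SpecMap_appLE_fromSpec r hU hV le_rfl).symm
  · rw [hU.opensRange_fromSpec, hV.opensRange_fromSpec]

theorem exists_point_of_isPullback {P X Y Z : Scheme.{u}} {fst : P ⟶ X} {snd : P ⟶ Y} {f : X ⟶ Z}
    {g : Y ⟶ Z} (h : IsPullback fst snd f g) (x : X) (y : Y) (hxy : f x = g y) :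
    ∃ z : P, fst z = x ∧ snd z = y := by
  obtain ⟨z, hz1, hz2⟩ := Scheme.Pullback.exists_preimage_pullback x y hxy
  refine ⟨h.isoPullback.inv z, ?_, ?_⟩
  · rw [← Scheme.Hom.comp_apply, h.isoPullback_inv_fst, hz1]
  · rw [← Scheme.Hom.comp_apply, h.isoPullback_inv_snd, hz2]

open Groth.Agent.R2.H47.TopInv in
theorem exists_isQuiet_isPullback (p : ℕ) {T U U' : Scheme.{u}} (i : U ⟶ T) [IsClosedImmersion i]
    (f' : U' ⟶ U) (hf' : IsQuiet p f') (u : U') :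
    ∃ (V : U'.Opens) (T' : Scheme.{u}) (q : T' ⟶ T) (j : (V : Scheme.{u}) ⟶ T'),
      u ∈ V ∧ IsQuiet p q ∧ IsPullback j (V.ι ≫ f') q i := by
  obtain ⟨V₀, Y', r, e, hu, hr, he, hre⟩ := hf' u
  obtain ⟨Uy, hyU, hUaff, n, htow⟩ := hr (r ⟨u, hu⟩)
  let ρ : Γ(Y', Uy.1) ⟶ Γ(V₀, r ⁻¹ᵁ Uy.1) := r.app Uy.1
  have hρ : Tow p n ρ := htow
  have hchart : IsPullback (Spec.map ρ) hUaff.fromSpec Uy.2.fromSpec r :=
    isPullback_chart r Uy.1 Uy.2 hUaff
  let y₀ : Spec Γ(Y', Uy.1) := Uy.2.primeIdealOf ⟨r ⟨u, hu⟩, hyU⟩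
  have hy₀ : Uy.2.fromSpec y₀ = r ⟨u, hu⟩ := Uy.2.fromSpec_primeIdealOf ⟨r ⟨u, hu⟩, hyU⟩
  haveI : Etale (Uy.2.fromSpec ≫ e) := inferInstance
  obtain ⟨F, T₂, c, j₂, o, x, hF, hc, ho, hpb, hx⟩ := sch_lift_open_gen i (Uy.2.fromSpec ≫ e) y₀
  haveI : IsClosedImmersion j₂ := MorphismProperty.of_isPullback hpb.flip inferInstance
  obtain ⟨hT₂, hπ⟩ := IsClosedImmersion.isAffine_surjective_of_isAffine (f := j₂)
  let π : Γ(F, ⊤) ⟶ Γ(T₂, ⊤) := j₂.appTop
  let ω : Γ(Y', Uy.1) ⟶ Γ(T₂, ⊤) := (Scheme.ΓSpecIso Γ(Y', Uy.1)).inv ≫ o.appTop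
  let τ := T₂.toSpecΓ
  let φF := F.toSpecΓ
  have ho_eq : o = τ ≫ Spec.map ω := by
    have h1 := Scheme.toSpecΓ_naturality o
    have h2 : o = (o ≫ (Spec Γ(Y', Uy.1)).toSpecΓ) ≫ Spec.map (Scheme.ΓSpecIso Γ(Y', Uy.1)).inv := by
      rw [Category.assoc, toSpecΓ_SpecMap_ΓSpecIso_inv, Category.comp_id]
    rw [h2, h1, Category.assoc, ← Spec.map_comp]
  have hj₂_eq : j₂ ≫ φF = τ ≫ Spec.map π := Scheme.toSpecΓ_naturality j₂
  -- ring pushouts
  let B : CommRingCat.{u} := pushout ω ρ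
  let inl : Γ(T₂, ⊤) ⟶ B := pushout.inl ω ρ
  let inr : Γ(V₀, r ⁻¹ᵁ Uy.1) ⟶ B := pushout.inr ω ρ
  have PO1 : IsPushout ω ρ inl inr := IsPushout.of_hasPushout ω ρ
  have hinl : Tow p n inl := tow_of_isPushout p n ω ρ inl inr PO1 hρ
  obtain ⟨B₁, f₁, ψ, hf₁, PO2, -⟩ := tow_lift p n π hπ inl hinl
  have S1 : IsPullback (Spec.map inl) (Spec.map inr) (Spec.map ω) (Spec.map ρ) :=
    isPullback_SpecMap_of_isPushout ω ρ inl inr PO1
  have S2 : IsPullback (Spec.map inl) (Spec.map ψ) (Spec.map π) (Spec.map f₁) :=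
    isPullback_SpecMap_of_isPushout π f₁ inl ψ PO2
  have BIG : IsPullback (Spec.map inl) (Spec.map inr ≫ hUaff.fromSpec)
      (Spec.map ω ≫ Uy.2.fromSpec) r := S1.paste_vert hchart
  -- open immersions
  haveI : IsOpenImmersion (Spec.map ω) := by
    have : Spec.map ω = inv τ ≫ o := by rw [ho_eq, IsIso.inv_hom_id_assoc]
    rw [this]
    infer_instance
  haveI : IsOpenImmersion (Spec.map inr) := MorphismProperty.of_isPullback S1 inferInstance
  let κ : Spec B ⟶ U' := (Spec.map inr ≫ hUaff.fromSpec) ≫ V₀.ι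
  -- the point
  obtain ⟨z, -, hz⟩ := exists_point_of_isPullback BIG (τ x) ⟨u, hu⟩ (by
    rw [Scheme.Hom.comp_apply, ← Scheme.Hom.comp_apply τ, ← ho_eq, hx, hy₀])
  let q : Spec B₁ ⟶ T := (Spec.map f₁ ≫ inv φF) ≫ c
  refine ⟨κ.opensRange, Spec B₁, q, κ.isoOpensRange.inv ≫ Spec.map ψ, ⟨z, ?_⟩, ?_, ?_⟩
  · change (κ z) = u
    rw [Scheme.Hom.comp_apply, hz]
    rfl
  · intro y
    refine ⟨⊤, Spec Γ(F, ⊤), (⊤ : (Spec B₁).Opens).ι ≫ Spec.map f₁, inv φF ≫ c, trivial, ?_,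
      inferInstance, by simp [q]⟩
    haveI : IsIso (⊤ : (Spec B₁).Opens).ι := (Spec B₁).topIso.isIso_hom
    exact isPthRoot_iso_comp p _ _ (isPthRoot_SpecMap p n f₁ hf₁)
  · have sqIso : IsPullback (inv τ) (Spec.map π) j₂ (inv φF) :=
      IsPullback.of_horiz_isIso ⟨by
        rw [IsIso.inv_comp_eq, ← Category.assoc, ← hj₂_eq, Category.assoc, IsIso.hom_inv_id,
          Category.comp_id]⟩
    have h1 := (S2.paste_horiz sqIso).paste_horiz hpb.flip
    have h2 : IsPullback (Spec.map ψ) (κ ≫ f') q i := by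
      have := h1.flip
      convert this using 1
      simp only [κ, Category.assoc]
      rw [← hre, ← hchart.w_assoc, ← S1.w_assoc]
      congr 1
      rw [ho_eq]
      simp only [Category.assoc, IsIso.inv_hom_id_assoc]
    exact IsPullback.of_iso h2 κ.isoOpensRange (Iso.refl _) (Iso.refl _) (Iso.refl _)
      (by simp) (by simp [← Category.assoc, κ.isoOpensRange_hom_ι]) (by simp) (by simp)

end Groth.Agent.R2.H47.QuietLift
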