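import Mathlib
import Groth.Agent.R2.H47QuietTower
import Groth.Agent.Lib.Helper18RelFrob

/-!
# Swapping an etale map past a tower of `p`-th root extractions (helper47)

In characteristic `p`:

* `frobSq` : for an etale algebra `R → C` the Frobenius square is a pushout (the relative Frobenius
  is an isomorphism, helper18);
* `swap_one` : an etale algebra over `A[x]/(x^p - a)` is the base change of an etale `A`-algebra;
* `swap_tower` : an etale algebra `C` over a root tower `B` of `A` is a root tower over an etale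
  `A`-algebra `C₀`, and `C = B ⊗_A C₀`;
* `tow_comp` : concatenation of root towers.
-/

set_option autoImplicit false
universe u

namespace Groth.Agent.R2.H47.QuietSwap

open CategoryTheory Limits Polynomial Quiet
open Groth.Agent.R2.H47.QuietTower Groth.Agent.R2.H69.RootTower

theorem charP_of_natCast_eq_zero (p : ℕ) [Fact p.Prime] (R : Type u) [CommRing R] [Nontrivial R]
    (h : (p : R) = 0) : CharP R p :=
  (CharP.charP_iff_prime_eq_zero Fact.out).mpr h

/-- The Frobenius square of an etale algebra is a pushout. -/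
theorem frobSq (p : ℕ) [Fact p.Prime] (R C : Type u) [CommRing R] [CommRing C] [CharP R p]
    [CharP C p] [Algebra R C] [Algebra.Etale R C] :
    IsPushout (CommRingCat.ofHom (algebraMap R C)) (CommRingCat.ofHom (frobenius R p))
      (CommRingCat.ofHom (frobenius C p)) (CommRingCat.ofHom (algebraMap R C)) := by
  have hbij := Groth.Agent.Lib.Helper18RelFrob.relFrob_bijective_of_etale p R C
  let E : FrobAlg.BaseChange p R C ≃+* C := RingEquiv.ofBijective (FrobAlg.relFrob p R C) hbij
  have base := CommRingCat.isPushout_tensorProduct R C (FrobAlg.Twist p R)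
  refine base.of_iso (Iso.refl _) (Iso.refl _) ((FrobAlg.toTwist p R).symm.toCommRingCatIso)
    E.toCommRingCatIso ?_ ?_ ?_ ?_
  · simp
  · ext x
    rfl
  · ext c
    change FrobAlg.relFrob p R C (c ⊗ₜ[R] (1 : FrobAlg.Twist p R)) = c ^ p
    rw [Groth.Agent.S16001.relFrob_tmul]
    simp
  · ext t
    change FrobAlg.relFrob p R C ((1 : C) ⊗ₜ[R] t) = algebraMap R C ((FrobAlg.toTwist p R).symm t)
    rw [Groth.Agent.S16001.relFrob_tmul]
    simp

theorem root_pow (p : ℕ) {A : Type u} [CommRing A] (a : A) :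
    (AdjoinRoot.root (X ^ p - C a : A[X])) ^ p = AdjoinRoot.of _ a := by
  have := AdjoinRoot.eval₂_root (X ^ p - C a : A[X])
  rw [eval₂_sub, eval₂_pow, eval₂_X, eval₂_C, sub_eq_zero] at this
  exact this

theorem swap_one (p : ℕ) [Fact p.Prime] {A : CommRingCat.{u}} [CharP A p] (a : A)
    {C : CommRingCat.{u}} [Nontrivial C] (g : CommRingCat.of (RootRing p A a) ⟶ C)
    (hg : g.hom.Etale) :
    ∃ (C₀ : CommRingCat.{u}) (e₀ : A ⟶ C₀) (k : C₀ ⟶ C), e₀.hom.Etale ∧
      IsPushout (CommRingCat.ofHom (algebraMap A (RootRing p A a))) e₀ g k := by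
  haveI : Nontrivial (RootRing p A a) := g.hom.domain_nontrivial
  have hpR : ((p : ℕ) : RootRing p A a) = 0 := by
    rw [← map_natCast (algebraMap A (RootRing p A a)), CharP.cast_eq_zero, map_zero]
  haveI : CharP (RootRing p A a) p := charP_of_natCast_eq_zero p _ hpR
  have hpC : ((p : ℕ) : C) = 0 := by
    rw [← map_natCast g.hom, hpR, map_zero]
  haveI : CharP C p := charP_of_natCast_eq_zero p _ hpC
  let φ : RootRing p A a →+* A := AdjoinRoot.lift (frobenius A p) a (by
    rw [eval₂_sub, eval₂_pow, eval₂_X, eval₂_C, frobenius_def, sub_self])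
  have h1 : (algebraMap A (RootRing p A a)).comp φ = frobenius (RootRing p A a) p := by
    refine AdjoinRoot.ringHom_ext ?_ ?_
    · ext x
      simp only [RingHom.coe_comp, Function.comp_apply, φ, AdjoinRoot.lift_of, frobenius_def]
      rw [AdjoinRoot.algebraMap_eq, map_pow]
    · simp only [RingHom.coe_comp, Function.comp_apply, φ, AdjoinRoot.lift_root, frobenius_def]
      rw [root_pow, AdjoinRoot.algebraMap_eq]
  letI : Algebra (RootRing p A a) C := g.hom.toAlgebra
  haveI : Algebra.Etale (RootRing p A a) C := hg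
  have FS := frobSq p (RootRing p A a) C
  let φ' : CommRingCat.of (RootRing p A a) ⟶ A := CommRingCat.ofHom φ
  let ι' : A ⟶ CommRingCat.of (RootRing p A a) := CommRingCat.ofHom (algebraMap A (RootRing p A a))
  have h1' : φ' ≫ ι' = CommRingCat.ofHom (frobenius (RootRing p A a) p) :=
    CommRingCat.hom_ext h1
  let inl : A ⟶ pushout φ' g := pushout.inl φ' g
  let inr : C ⟶ pushout φ' g := pushout.inr φ' g
  have hinl : inl.hom.Etale :=
    RingHom.Etale.isStableUnderBaseChange.pushout_inl RingHom.Etale.respectsIso φ' g hg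
  have hcond : φ' ≫ ι' ≫ g = g ≫ CommRingCat.ofHom (frobenius C p) := by
    rw [← Category.assoc, h1']
    exact CommRingCat.hom_ext (RingHom.ext fun x => map_pow g.hom x p)
  let k : pushout φ' g ⟶ C := pushout.desc (ι' ≫ g) (CommRingCat.ofHom (frobenius C p)) hcond
  refine ⟨pushout φ' g, inl, k, hinl, ?_⟩
  have big : IsPushout (φ' ≫ ι') g g (inr ≫ k) := by
    rw [h1', pushout.inr_desc]
    exact FS.flip
  exact big.of_left (pushout.inl_desc _ _ _).symm (IsPushout.of_hasPushout φ' g)

/-- unpacking a tower of positive length -/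
theorem tow_succ_iff (p n : ℕ) {A B : CommRingCat.{u}} (f : A ⟶ B) :
    Tow p (n + 1) f ↔ ∃ (a : A) (f' : CommRingCat.of (RootRing p A a) ⟶ B),
      CommRingCat.ofHom (algebraMap A (RootRing p A a)) ≫ f' = f ∧ Tow p n f' := by
  constructor
  · intro hf
    letI iAB : Algebra A B := f.hom.toAlgebra
    obtain ⟨a, alg, tower, h'⟩ : ∃ (a : A) (_ : Algebra (RootRing p A a) B),
      IsScalarTower A (RootRing p A a) B ∧ IsRootTower p n (RootRing p A a) B := hf
    refine ⟨a, CommRingCat.ofHom (algebraMap (RootRing p A a) B), ?_, ?_⟩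
    · ext x
      exact (IsScalarTower.algebraMap_apply A (RootRing p A a) B x).symm
    · exact isRootTower_congr_inst p n _ _ alg _ (fun r => rfl) h'
  · rintro ⟨a, f', rfl, hf'⟩
    letI := (CommRingCat.ofHom (algebraMap A (RootRing p A a)) ≫ f').hom.toAlgebra
    letI alg : Algebra (RootRing p A a) B := f'.hom.toAlgebra
    exact ⟨a, alg, IsScalarTower.of_algebraMap_eq (fun _ => rfl), hf'⟩

theorem tow_zero_isIso (p : ℕ) {A B : CommRingCat.{u}} (f : A ⟶ B) (hf : Tow p 0 f) : IsIso f := by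
  letI := f.hom.toAlgebra
  obtain ⟨e⟩ : Nonempty (B ≃ₐ[A] A) := hf
  have h1 : ∀ x : A, e (f.hom x) = x := fun x => e.commutes x
  refine (ConcreteCategory.isIso_iff_bijective f).mpr
    ⟨fun x y hxy => by rw [← h1 x, ← h1 y, hxy], fun y => ⟨e y, ?_⟩⟩
  apply e.injective
  rw [h1]

theorem tow_zero_of_isIso (p : ℕ) {A B : CommRingCat.{u}} (f : A ⟶ B) [IsIso f] : Tow p 0 f := by
  have h0 : Tow p 0 (𝟙 A) := by
    letI := (𝟙 A : A ⟶ A).hom.toAlgebra
    exact ⟨{ RingEquiv.refl A with commutes' := fun r => rfl }⟩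
  exact tow_of_iso p 0 (Iso.refl A) (asIso f) (𝟙 A) f (by simp) h0

/-- concatenation of towers -/
theorem tow_comp (p : ℕ) : ∀ (n m : ℕ) {A B C : CommRingCat.{u}} (f : A ⟶ B) (g : B ⟶ C),
    Tow p n f → Tow p m g → Tow p (m + n) (f ≫ g)
  | 0, m, A, B, C, f, g, hf, hg => by
      haveI := tow_zero_isIso p f hf
      exact tow_of_iso p m (asIso f).symm (Iso.refl C) g (f ≫ g) (by simp) hg
  | n + 1, m, A, B, C, f, g, hf, hg => by
      obtain ⟨a, f', rfl, hf'⟩ := (tow_succ_iff p n f).mp hf
      have := tow_comp p n m f' g hf' hg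
      rw [Category.assoc]
      exact (tow_succ_iff p (m + n) _).mpr ⟨a, f' ≫ g, rfl, this⟩

/-- the root ring of a base-changed element is the pushout -/
theorem isPushout_root (p : ℕ) {A C₀ : CommRingCat.{u}} (e₀ : A ⟶ C₀) (a : A) :
    ∃ (ρ : CommRingCat.of (RootRing p A a) ⟶ CommRingCat.of (RootRing p C₀ (e₀.hom a))),
      IsPushout (CommRingCat.ofHom (algebraMap A (RootRing p A a))) e₀ ρ
        (CommRingCat.ofHom (algebraMap C₀ (RootRing p C₀ (e₀.hom a)))) := by
  letI : Algebra A C₀ := e₀.hom.toAlgebra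
  exact ⟨_, (isPushout_rootMap (A' := C₀) p a).flip⟩

theorem swap_tower (p : ℕ) [Fact p.Prime] : ∀ (n : ℕ) {A B C : CommRingCat.{u}} [CharP A p]
    [Nontrivial C] (f : A ⟶ B) (g : B ⟶ C), Tow p n f → g.hom.Etale →
    ∃ (C₀ : CommRingCat.{u}) (e₀ : A ⟶ C₀) (t : C₀ ⟶ C), e₀.hom.Etale ∧ Tow p n t ∧
      IsPushout f e₀ g t
  | 0, A, B, C, _, _, f, g, hf, hg => by
      haveI := tow_zero_isIso p f hf
      refine ⟨C, f ≫ g, 𝟙 C, ?_, tow_zero_of_isIso p _, IsPushout.of_horiz_isIso ⟨by simp⟩⟩
      rw [CommRingCat.hom_comp]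
      exact RingHom.Etale.stableUnderComposition _ _
        (RingHom.Etale.of_bijective ((ConcreteCategory.isIso_iff_bijective f).mp inferInstance)) hg
  | n + 1, A, B, C, _, _, f, g, hf, hg => by
      obtain ⟨a, f', rfl, hf'⟩ := (tow_succ_iff p n f).mp hf
      -- the root ring has characteristic p
      haveI : Nontrivial (RootRing p A a) := (f' ≫ g).hom.domain_nontrivial
      have hpR : ((p : ℕ) : RootRing p A a) = 0 := by
        rw [← map_natCast (algebraMap A (RootRing p A a)), CharP.cast_eq_zero, map_zero]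
      haveI : CharP (CommRingCat.of (RootRing p A a)) p := charP_of_natCast_eq_zero p _ hpR
      obtain ⟨C', e', t', he', ht', hpo'⟩ := swap_tower p n f' g hf' hg
      haveI : Nontrivial C' := t'.hom.domain_nontrivial
      obtain ⟨C₀, e₀, k, he₀, hpo₀⟩ := swap_one p a e' he'
      -- identify `C'` with the root ring of `C₀`
      obtain ⟨ρ, hρ⟩ := isPushout_root p e₀ a
      let θ : CommRingCat.of (RootRing p C₀ (e₀.hom a)) ≅ C' := hρ.isoIsPushout _ _ hpo₀
      have hθ : CommRingCat.ofHom (algebraMap C₀ (RootRing p C₀ (e₀.hom a))) ≫ θ.hom = k :=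
        hρ.inr_isoIsPushout_hom _ _ hpo₀
      have ht'' : Tow p n (θ.hom ≫ t') :=
        tow_of_iso p n θ.symm (Iso.refl C) t' (θ.hom ≫ t') (by simp) ht'
      refine ⟨C₀, e₀, k ≫ t', he₀, ?_, hpo₀.paste_horiz hpo'⟩
      rw [← hθ, Category.assoc]
      exact (tow_succ_iff p n _).mpr ⟨e₀.hom a, θ.hom ≫ t', rfl, ht''⟩

end Groth.Agent.R2.H47.QuietSwap
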