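import Mathlib
import Groth.Agent.R2.H47QuietSwap
import Groth.Agent.R2.H47QuietLift

/-!
# Composition of quasi-etale morphisms (helper47)

In characteristic `p`, the composite of two quasi-etale morphisms (locally on the source: a `p`-th
root morphism followed by an etale morphism) is quasi-etale: the etale part of the first factor is
swapped past the `p`-th root part of the second (`swap_tower`).
-/

set_option autoImplicit false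
universe u

namespace Groth.Agent.R2.H47.QuietComp

open CategoryTheory Limits AlgebraicGeometry Quiet
open Groth.Agent.R2.H47.QuietTower Groth.Agent.R2.H47.QuietSwap Groth.Agent.R2.H47.QuietLift
open Groth.Agent.R2.H69.QuietBC

theorem isQuiet_comp (p : ℕ) [Fact p.Prime] {X Y Z : Scheme.{u}} [FrobSch.IsCharP X p]
    (f : Y ⟶ X) (g : Z ⟶ Y) (hf : IsQuiet p f) (hg : IsQuiet p g) : IsQuiet p (g ≫ f) := by
  intro z
  obtain ⟨V_Z, Y'', r_Z, e_Z, hz, hrZ, heZ, hZ⟩ := hg z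
  obtain ⟨V_Y, Y', r_Y, e_Y, hy, hrY, heY, hY⟩ := hf (g z)
  obtain ⟨Uy, hyU, hUaff, n, htow⟩ := hrY (r_Y ⟨g z, hy⟩)
  let ρ : Γ(Y', Uy.1) ⟶ Γ(V_Y, r_Y ⁻¹ᵁ Uy.1) := r_Y.app Uy.1
  have hρ : Tow p n ρ := htow
  have hchart : Spec.map ρ ≫ Uy.2.fromSpec = hUaff.fromSpec ≫ r_Y :=
    (isPullback_chart r_Y Uy.1 Uy.2 hUaff).w
  let β : Spec Γ(V_Y, r_Y ⁻¹ᵁ Uy.1) ⟶ Y := hUaff.fromSpec ≫ V_Y.ι
  -- base change of the first factorisation to the chart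
  let e₁ : pullback e_Z β ⟶ Spec Γ(V_Y, r_Y ⁻¹ᵁ Uy.1) := pullback.snd e_Z β
  let b'' : pullback e_Z β ⟶ Y'' := pullback.fst e_Z β
  let r₁ : pullback r_Z b'' ⟶ pullback e_Z β := pullback.snd r_Z b''
  let c₁ : pullback r_Z b'' ⟶ (V_Z : Scheme.{u}) := pullback.fst r_Z b''
  have hr₁ : IsPthRoot p r₁ :=
    isPthRoot_of_isPullback p r_Z b'' c₁ r₁ (IsPullback.of_hasPullback r_Z b'') hrZ
  -- points
  let sB : Spec Γ(V_Y, r_Y ⁻¹ᵁ Uy.1) := hUaff.primeIdealOf ⟨⟨g z, hy⟩, hyU⟩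
  have hsB : β sB = g z := by
    change V_Y.ι (hUaff.fromSpec sB) = g z
    rw [hUaff.fromSpec_primeIdealOf ⟨⟨g z, hy⟩, hyU⟩]
    rfl
  have hw : e_Z (r_Z ⟨z, hz⟩) = β sB := by
    rw [hsB, ← Scheme.Hom.comp_apply, hZ]
    rfl
  obtain ⟨y₁, hy₁a, hy₁b⟩ := Scheme.Pullback.exists_preimage_pullback (f := e_Z) (g := β) _ _ hw
  obtain ⟨z₁, hz₁a, hz₁b⟩ := Scheme.Pullback.exists_preimage_pullback (f := r_Z) (g := b'')
    ⟨z, hz⟩ y₁ hy₁a.symm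
  -- chart of `r₁`
  obtain ⟨W₂, hyW, hGaff, m, htow₂⟩ := hr₁ (r₁ z₁)
  let σ : Γ(pullback e_Z β, W₂.1) ⟶ Γ(pullback r_Z b'', r₁ ⁻¹ᵁ W₂.1) := r₁.app W₂.1
  have hσ : Tow p m σ := htow₂
  have hchart₂ : Spec.map σ ≫ W₂.2.fromSpec = hGaff.fromSpec ≫ r₁ :=
    (isPullback_chart r₁ W₂.1 W₂.2 hGaff).w
  -- the etale ring map
  let g' : Γ(V_Y, r_Y ⁻¹ᵁ Uy.1) ⟶ Γ(pullback e_Z β, W₂.1) := Spec.preimage (W₂.2.fromSpec ≫ e₁)
  have hg'map : Spec.map g' = W₂.2.fromSpec ≫ e₁ := Spec.map_preimage _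
  have hg' : g'.hom.Etale := by
    refine (HasRingHomProperty.Spec_iff (P := @Etale)).mp ?_
    rw [hg'map]
    infer_instance
  haveI : Nonempty (W₂.1 : (pullback e_Z β).Opens) := ⟨⟨r₁ z₁, hyW⟩⟩
  haveI : Nontrivial Γ(pullback e_Z β, W₂.1) := Scheme.component_nontrivial _ _
  haveI : FrobSch.IsCharP Y' p := FrobSch.IsCharP.of_hom e_Y p
  have hpA : ((p : ℕ) : Γ(Y', Uy.1)) = 0 := FrobSch.natCast_eq_zero_app Y' p Uy.1
  haveI : Nontrivial Γ(Y', Uy.1) := (ρ ≫ g').hom.domain_nontrivial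
  haveI : CharP Γ(Y', Uy.1) p := charP_of_natCast_eq_zero p _ hpA
  obtain ⟨D₀, e₀, t, he₀, ht, hpo⟩ := swap_tower p n ρ g' hρ hg'
  have hcat : Tow p (m + n) (t ≫ σ) := tow_comp p n m t σ ht hσ
  haveI : Etale (Spec.map e₀) := (HasRingHomProperty.Spec_iff (P := @Etale)).mpr he₀
  -- final data
  let κ : ((r₁ ⁻¹ᵁ W₂.1 : (pullback r_Z b'').Opens) : Scheme.{u}) ⟶ Z :=
    (r₁ ⁻¹ᵁ W₂.1).ι ≫ c₁ ≫ V_Z.ι
  refine ⟨κ.opensRange, Spec D₀, κ.isoOpensRange.inv ≫ hGaff.isoSpec.hom ≫ Spec.map (t ≫ σ),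
    Spec.map e₀ ≫ Uy.2.fromSpec ≫ e_Y, ⟨⟨z₁, hyW⟩, ?_⟩, ?_, inferInstance, ?_⟩
  · change V_Z.ι (c₁ z₁) = z
    rw [hz₁a]
    rfl
  · exact isPthRoot_iso_comp p _ _ (isPthRoot_iso_comp p _ _ (isPthRoot_SpecMap p (m + n) _ hcat))
  · have hκ : κ.opensRange.ι = κ.isoOpensRange.inv ≫ κ := (κ.isoOpensRange_inv_comp).symm
    rw [hκ]
    simp only [Category.assoc]
    congr 1
    have h1 : Spec.map (t ≫ σ) ≫ Spec.map e₀ = Spec.map σ ≫ Spec.map g' ≫ Spec.map ρ := by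
      rw [← Spec.map_comp, ← Spec.map_comp, ← Spec.map_comp, ← Category.assoc, ← hpo.w,
        Category.assoc]
    rw [reassoc_of% h1, hg'map]
    simp only [Category.assoc]
    rw [reassoc_of% hchart, hY, reassoc_of% hchart₂]
    have h2 : hGaff.isoSpec.hom ≫ hGaff.fromSpec = (r₁ ⁻¹ᵁ W₂.1).ι := by
      rw [← hGaff.isoSpec_inv_ι, Iso.hom_inv_id_assoc]
    rw [reassoc_of% h2]
    have h3 : e₁ ≫ hUaff.fromSpec ≫ V_Y.ι = b'' ≫ e_Z := (pullback.condition (f := e_Z) (g := β)).symm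
    have h4 : r₁ ≫ b'' = c₁ ≫ r_Z := (pullback.condition (f := r_Z) (g := b'')).symm
    rw [reassoc_of% h3, reassoc_of% h4, reassoc_of% hZ]
    simp only [κ, Category.assoc]

end Groth.Agent.R2.H47.QuietComp
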