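import Mathlib
import Groth.Agent.R2.H47QuietSwap

/-!
# Frobenius of polynomial rings over a perfect field is a root tower (helper47)

* `tow_flat` : a root tower is flat;
* `tow_expand` : `X ↦ X ^ p` on `R[X]` is a root tower of length one;
* `tow_frobenius_polynomial` : if the Frobenius of `R` is a tower of length `m`, the Frobenius of
  `R[X]` is a tower of length `m + 1`;
* `exists_tow_frobenius_mvPolynomial` : over a perfect field, the Frobenius of a polynomial ring in
  finitely many variables is a root tower.
-/

set_option autoImplicit false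
universe u

namespace Groth.Agent.R2.H47.QuietFrobRing

open CategoryTheory Limits Polynomial Quiet
open Groth.Agent.R2.H47.QuietTower Groth.Agent.R2.H47.QuietSwap Groth.Agent.R2.H69.RootTower

theorem tow_flat (p : ℕ) [Fact p.Prime] : ∀ (n : ℕ) {A B : CommRingCat.{u}} (f : A ⟶ B),
    Tow p n f → f.hom.Flat
  | 0, A, B, f, hf => by
      haveI := tow_zero_isIso p f hf
      exact RingHom.Flat.of_bijective ((ConcreteCategory.isIso_iff_bijective f).mp inferInstance)
  | n + 1, A, B, f, hf => by
      obtain ⟨a, f', rfl, hf'⟩ := (tow_succ_iff p n f).mp hf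
      have h1 := tow_flat p n f' hf'
      have hmonic : (X ^ p - C a : (A : Type u)[X]).Monic :=
        monic_X_pow_sub_C a (Fact.out : p.Prime).ne_zero
      haveI : Module.Free A (RootRing p A a) :=
        Module.Free.of_basis (AdjoinRoot.powerBasis' hmonic).basis
      have h2 : (algebraMap A (RootRing p A a)).Flat := RingHom.flat_algebraMap_iff.mpr inferInstance
      rw [CommRingCat.hom_comp]
      exact RingHom.Flat.comp h2 h1

section poly

variable (p : ℕ) [Fact p.Prime] (R : Type u) [CommRing R]

theorem isPushout_polynomial {R' : Type u} [CommRing R'] (φ : R →+* R') :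
    IsPushout (CommRingCat.ofHom (C : R →+* R[X])) (CommRingCat.ofHom φ)
      (CommRingCat.ofHom (Polynomial.mapRingHom φ)) (CommRingCat.ofHom (C : R' →+* R'[X])) := by
  letI := φ.toAlgebra
  letI := Polynomial.algebra R R'
  have h : Algebra.IsPushout R R[X] R' R'[X] := inferInstance
  exact CommRingCat.isPushout_iff_isPushout.mpr h

theorem tow_expand :
    Tow p 1 (CommRingCat.ofHom ((expand R p : R[X] →ₐ[R] R[X]) : R[X] →+* R[X])) := by
  let i : R[X] →+* R[X] := ((expand R p : R[X] →ₐ[R] R[X]) : R[X] →+* R[X])
  have hev : eval₂ i (X : R[X]) (X ^ p - C (X : R[X]) : R[X][X]) = 0 := by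
    rw [eval₂_sub, eval₂_pow, eval₂_X, eval₂_C]
    change X ^ p - expand R p X = 0
    rw [expand_X, sub_self]
  let l : RootRing p R[X] X →+* R[X] := AdjoinRoot.lift i X hev
  let ψ : R[X] →+* RootRing p R[X] X :=
    eval₂RingHom ((AdjoinRoot.of _).comp (C : R →+* R[X])) (AdjoinRoot.root _)
  have h1 : ψ.comp i = AdjoinRoot.of _ := by
    refine Polynomial.ringHom_ext (fun c => ?_) ?_
    · change ψ (expand R p (C c)) = _
      rw [expand_C]
      simp [ψ]
    · change ψ (expand R p X) = _
      rw [expand_X, map_pow]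
      simp only [ψ, coe_eval₂RingHom, eval₂_X]
      exact root_pow p (X : R[X])
  have h2 : ψ.comp l = RingHom.id _ := by
    refine AdjoinRoot.ringHom_ext ?_ ?_
    · refine RingHom.ext fun q => ?_
      change ψ (l (AdjoinRoot.of _ q)) = AdjoinRoot.of _ q
      rw [show l (AdjoinRoot.of _ q) = i q from AdjoinRoot.lift_of _]
      exact congrArg (fun h => h q) h1
    · change ψ (l (AdjoinRoot.root _)) = AdjoinRoot.root _
      rw [show l (AdjoinRoot.root _) = X from AdjoinRoot.lift_root _]
      simp [ψ]
  have h3 : l.comp ψ = RingHom.id _ := by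
    refine Polynomial.ringHom_ext (fun c => ?_) ?_
    · change l (ψ (C c)) = C c
      have : ψ (C c) = AdjoinRoot.of _ (C c) := by simp [ψ]
      rw [this, show l (AdjoinRoot.of _ (C c)) = i (C c) from AdjoinRoot.lift_of _]
      change expand R p (C c) = C c
      rw [expand_C]
    · change l (ψ X) = X
      have : ψ X = AdjoinRoot.root _ := by simp [ψ]
      rw [this]
      exact AdjoinRoot.lift_root _
  have hbij : Function.Bijective l :=
    ⟨fun x y hxy => by
      have := congrArg ψ hxy
      rwa [← RingHom.comp_apply, ← RingHom.comp_apply, h2] at this,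
     fun y => ⟨ψ y, by rw [← RingHom.comp_apply, h3]; rfl⟩⟩
  haveI : IsIso (CommRingCat.ofHom l) := (ConcreteCategory.isIso_iff_bijective _).mpr hbij
  refine (tow_succ_iff p 0 _).mpr ⟨(X : R[X]), CommRingCat.ofHom l, ?_, tow_zero_of_isIso p _⟩
  refine CommRingCat.hom_ext (RingHom.ext fun q => ?_)
  change l (AdjoinRoot.of _ q) = i q
  exact AdjoinRoot.lift_of hev

theorem tow_frobenius_polynomial [CharP R p] (m : ℕ)
    (h : Tow p m (CommRingCat.ofHom (frobenius R p))) :
    Tow p (m + 1) (CommRingCat.ofHom (frobenius R[X] p)) := by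
  have h1 : Tow p m (CommRingCat.ofHom (Polynomial.mapRingHom (frobenius R p))) :=
    tow_of_isPushout p m _ _ _ _ (isPushout_polynomial R (frobenius R p)) h
  have h2 := tow_comp p 1 m _ _ (tow_expand p R) h1
  have h3 : CommRingCat.ofHom ((expand R p : R[X] →ₐ[R] R[X]) : R[X] →+* R[X]) ≫
      CommRingCat.ofHom (Polynomial.mapRingHom (frobenius R p)) =
      CommRingCat.ofHom (frobenius R[X] p) := by
    refine CommRingCat.hom_ext (RingHom.ext fun q => ?_)
    change Polynomial.map (frobenius R p) (expand R p q) = frobenius R[X] p q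
    rw [map_frobenius_expand, frobenius_def]
  rwa [h3] at h2

end poly

theorem exists_tow_frobenius_mvPolynomial (p : ℕ) [Fact p.Prime] (k : Type u) [Field k] [CharP k p]
    [PerfectRing k p] (ι : Type u) [Finite ι] :
    ∃ n, Tow p n (CommRingCat.ofHom (frobenius (MvPolynomial ι k) p)) := by
  induction ι using Finite.induction_empty_option with
  | of_equiv e ih =>
    obtain ⟨n, hn⟩ := ih
    refine ⟨n, ?_⟩
    let E := (MvPolynomial.renameEquiv k e).toRingEquiv
    refine tow_of_iso p n E.toCommRingCatIso E.toCommRingCatIso _ _ ?_ hn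
    refine CommRingCat.hom_ext (RingHom.ext fun x => ?_)
    change E (x ^ p) = (E x) ^ p
    rw [map_pow]
  | h_empty =>
    refine ⟨0, ?_⟩
    let E := MvPolynomial.isEmptyRingEquiv k PEmpty.{u + 1}
    have h : ∀ x, E (frobenius _ p x) = frobenius k p (E x) := fun x => by
      rw [frobenius_def, frobenius_def, map_pow]
    have hk := bijective_frobenius k p
    have hbij : Function.Bijective (frobenius (MvPolynomial PEmpty.{u + 1} k) p) := by
      refine ⟨fun x y hxy => ?_, fun y => ?_⟩
      · apply E.injective
        apply hk.1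
        rw [← h, ← h, hxy]
      · obtain ⟨z, hz⟩ := hk.2 (E y)
        refine ⟨E.symm z, ?_⟩
        apply E.injective
        rw [h, E.apply_symm_apply, hz]
    haveI : IsIso (CommRingCat.ofHom (frobenius (MvPolynomial PEmpty.{u + 1} k) p)) :=
      (ConcreteCategory.isIso_iff_bijective _).mpr hbij
    exact tow_zero_of_isIso p _
  | h_option ih =>
    rename_i α _
    obtain ⟨n, hn⟩ := ih
    refine ⟨n + 1, ?_⟩
    have h1 := tow_frobenius_polynomial p (MvPolynomial α k) n hn
    let E := (MvPolynomial.optionEquivLeft k α).toRingEquiv.symm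
    refine tow_of_iso p (n + 1) E.toCommRingCatIso E.toCommRingCatIso _ _ ?_ h1
    refine CommRingCat.hom_ext (RingHom.ext fun x => ?_)
    change E (x ^ p) = (E x) ^ p
    rw [map_pow]

end Groth.Agent.R2.H47.QuietFrobRing
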