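import Mathlib
import Groth.Agent.R2.H47QuietFrobRing
import Groth.Agent.R2.H47QuietLift
import Groth.Agent.R2.H16EtaleChart

set_option autoImplicit false
universe u

namespace Groth.Agent.R2.H47.QuietFrob

open CategoryTheory Limits AlgebraicGeometry Quiet KaehlerDifferential Algebra
open Groth.Agent.R2.H47.QuietTower Groth.Agent.R2.H47.QuietSwap Groth.Agent.R2.H47.QuietFrobRing
open Groth.Agent.R2.H47.QuietLift Groth.Agent.R2.H69.QuietBC

/-- A standard smooth algebra is étale over a polynomial ring in finitely many variables. -/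
theorem exists_etale_chart {R S : Type u} [CommRing R] [CommRing S] [Nontrivial S] [Algebra R S]
    [Algebra.IsStandardSmooth R S] :
    ∃ (m : ℕ) (v : ULift.{u} (Fin m) → S),
      (MvPolynomial.eval₂Hom (algebraMap R S) v).Etale := by
  have hfp : Algebra.FinitePresentation R S := inferInstance
  obtain ⟨hH1, I, b, hb⟩ :=
    IsStandardSmooth.iff_exists_basis_kaehlerDifferential.mp ‹Algebra.IsStandardSmooth R S›
  have : Module.Finite S Ω[S⁄R] := inferInstance
  have : Finite I := Module.Finite.finite_basis b
  let m := Nat.card I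
  let e : I ≃ ULift.{u} (Fin m) := (Finite.equivFin I).trans Equiv.ulift.symm
  choose s hs using fun i => hb ⟨i, rfl⟩
  let v : ULift.{u} (Fin m) → S := fun j => s (e.symm j)
  refine ⟨m, v, ?_⟩
  have h1 := Groth.Agent.R2.H16.EtaleChart.formallyEtale_of_basis v (b.reindex e) (by
    intro j
    simp [v, hs])
  have heq : (MvPolynomial.aeval (R := R) v).toRingHom =
      MvPolynomial.eval₂Hom (algebraMap R S) v := rfl
  rw [heq] at h1
  let _ := (MvPolynomial.eval₂Hom (algebraMap R S) v).toAlgebra
  have : IsScalarTower R (MvPolynomial (ULift.{u} (Fin m)) R) S :=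
    IsScalarTower.of_algebraMap_eq' (by
      ext r
      change algebraMap R S r = MvPolynomial.eval₂Hom (algebraMap R S) v (algebraMap R _ r)
      simp)
  change Algebra.Etale (MvPolynomial (ULift.{u} (Fin m)) R) S
  have : Algebra.FinitePresentation (MvPolynomial (ULift.{u} (Fin m)) R) S :=
    Algebra.FinitePresentation.of_restrict_scalars_finitePresentation R _ _
  exact ⟨h1, inferInstance⟩

/-- Over a perfect field of characteristic `p`, the Frobenius of a standard smooth algebra is a
tower of elementary `p`-th root extractions. -/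
theorem exists_tow_frobenius_of_isStandardSmooth (p : ℕ) [Fact p.Prime] (k : Type u) [Field k]
    [CharP k p] [PerfectRing k p] (B : Type u) [CommRing B] [Algebra k B] [CharP B p]
    [Algebra.IsStandardSmooth k B] :
    ∃ n, Tow p n (CommRingCat.ofHom (frobenius B p)) := by
  haveI : Nontrivial B := CharP.nontrivial_of_char_ne_one (R := B) (Fact.out : p.Prime).ne_one
  obtain ⟨m, v, hv⟩ := exists_etale_chart (R := k) (S := B)
  let P := MvPolynomial (ULift.{u} (Fin m)) k
  letI : Algebra P B := (MvPolynomial.eval₂Hom (algebraMap k B) v).toAlgebra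
  haveI : Algebra.Etale P B := hv
  obtain ⟨n, hn⟩ := exists_tow_frobenius_mvPolynomial p k (ULift.{u} (Fin m))
  exact ⟨n, tow_of_isPushout p n _ _ _ _ (frobSq p P B) hn⟩

end Groth.Agent.R2.H47.QuietFrob
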