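import Mathlib
import Groth.Agent.R2.H47QuietFrobRing
import Groth.Agent.R2.H47QuietLift
import Groth.Agent.R2.H47QuietFrobA

/-!
# Frobenius of a smooth algebra over a perfect field is a `p`-th root morphism (helper47)

* `isPthRoot_of_local` : being a `p`-th root morphism is local on the target;
* `isPthRoot_morphismRestrict_of_isPullback`;
* `flat_of_isPthRoot` : `p`-th root morphisms are flat;
* `isPthRoot_frobenius_of_smooth`, `faithfullyFlat_frobenius_of_smooth`.
-/

set_option autoImplicit false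
universe u

namespace Groth.Agent.R2.H47.QuietFrob

open CategoryTheory Limits AlgebraicGeometry Quiet
open Groth.Agent.R2.H47.QuietTower Groth.Agent.R2.H47.QuietSwap Groth.Agent.R2.H47.QuietFrobRing
open Groth.Agent.R2.H47.QuietLift Groth.Agent.R2.H69.QuietBC

/-- Being a `p`-th root morphism is local on the target. -/
theorem isPthRoot_of_local (p : ℕ) {X Y : Scheme.{u}} (f : X ⟶ Y)
    (h : ∀ y : Y, ∃ W : Y.Opens, y ∈ W ∧ IsPthRoot p (f ∣_ W)) : IsPthRoot p f := by
  intro y
  obtain ⟨W, hyW, hW⟩ := h y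
  obtain ⟨U', hyU', hU'aff, n, htow⟩ := hW ⟨y, hyW⟩
  have hUaff : IsAffineOpen (W.ι ''ᵁ U'.1) := U'.2.image_of_isOpenImmersion W.ι
  refine ⟨⟨W.ι ''ᵁ U'.1, hUaff⟩, ⟨⟨y, hyW⟩, hyU', rfl⟩, ?_, n, ?_⟩
  · change IsAffineOpen (f ⁻¹ᵁ (W.ι ''ᵁ U'.1))
    rw [← image_morphismRestrict_preimage]
    exact hU'aff.image_of_isOpenImmersion _
  · have h2 : Tow p n ((f ∣_ W).app U'.1) := htow
    have e := image_morphismRestrict_preimage f W U'.1
    change Tow p n (f.app (W.ι ''ᵁ U'.1))
    let β : Γ((f ⁻¹ᵁ W : X.Opens).toScheme, (f ∣_ W) ⁻¹ᵁ U'.1) ≅ Γ(X, f ⁻¹ᵁ (W.ι ''ᵁ U'.1)) :=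
      X.presheaf.mapIso (eqToIso e.symm).op
    refine tow_of_iso p n (A := Γ(W.toScheme, U'.1)) (A' := Γ(Y, W.ι ''ᵁ U'.1)) (Iso.refl _) β
      ((f ∣_ W).app U'.1) (f.app (W.ι ''ᵁ U'.1)) ?_ h2
    rw [morphismRestrict_app]
    change (f.app (W.ι ''ᵁ U'.1) ≫ X.presheaf.map (eqToHom e).op) ≫
      X.presheaf.map (eqToHom e.symm).op = 𝟙 _ ≫ f.app (W.ι ''ᵁ U'.1)
    rw [Category.id_comp, Category.assoc, ← Functor.map_comp]
    have : (eqToHom e).op ≫ (eqToHom e.symm).op = 𝟙 _ := Subsingleton.elim _ _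
    rw [this, X.presheaf.map_id, Category.comp_id]

/-- A morphism which is, over an open of the target, the pullback of a `p`-th root morphism is a
`p`-th root morphism over that open. -/
theorem isPthRoot_morphismRestrict_of_isPullback (p : ℕ) {U' V' X Y : Scheme.{u}} (g : U' ⟶ V')
    (iU : U' ⟶ X) (iV : V' ⟶ Y) (f : X ⟶ Y) [IsOpenImmersion iV] (H : IsPullback g iU iV f)
    (hg : IsPthRoot p g) : IsPthRoot p (f ∣_ iV.opensRange) := by
  let W : Y.Opens := iV.opensRange
  let h₁ : (W : Scheme.{u}) ⟶ V' := iV.isoOpensRange.inv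
  have hh₁ : h₁ ≫ iV = W.ι := Scheme.Hom.isoOpensRange_inv_comp iV
  have hw : ((f ∣_ W) ≫ h₁) ≫ iV = (f ⁻¹ᵁ W).ι ≫ f := by
    rw [Category.assoc, hh₁, morphismRestrict_ι]
  let h : ((f ⁻¹ᵁ W : X.Opens) : Scheme.{u}) ⟶ U' := H.lift ((f ∣_ W) ≫ h₁) (f ⁻¹ᵁ W).ι hw
  have hfst : h ≫ g = (f ∣_ W) ≫ h₁ := H.lift_fst _ _ _
  have hsnd : h ≫ iU = (f ⁻¹ᵁ W).ι := H.lift_snd _ _ _
  have big : IsPullback (h ≫ iU) (f ∣_ W) f (h₁ ≫ iV) := by
    rw [hsnd, hh₁]
    exact (isPullback_morphismRestrict f W).flip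
  have left : IsPullback h (f ∣_ W) g h₁ := IsPullback.of_right big hfst H.flip
  exact isPthRoot_of_isPullback p g h₁ h (f ∣_ W) left hg

/-- A `p`-th root morphism is flat. -/
theorem flat_of_isPthRoot (p : ℕ) [Fact p.Prime] {X Y : Scheme.{u}} (f : X ⟶ Y)
    (hf : IsPthRoot p f) : Flat f := by
  rw [HasRingHomProperty.iff_exists_appLE (P := @Flat)
    ((RingHom.Flat.stableUnderComposition.stableUnderCompositionWithLocalizationAway
      RingHom.Flat.holdsForLocalizationAway).left)]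
  intro x
  obtain ⟨U, hxU, hVaff, n, htow⟩ := hf (f x)
  refine ⟨U, ⟨f ⁻¹ᵁ U.1, hVaff⟩, hxU, le_rfl, ?_⟩
  have h2 : Tow p n (f.app U.1) := htow
  rw [← Scheme.Hom.app_eq_appLE]
  exact tow_flat p n _ h2

/-- Over a perfect field of characteristic `p`, the Frobenius of a smooth algebra induces a
`p`-th root morphism on spectra. -/
theorem isPthRoot_frobenius_of_smooth (p : ℕ) [Fact p.Prime] (k : Type u) [Field k] [CharP k p]
    [PerfectRing k p] (A : Type u) [CommRing A] [Algebra k A] [CharP A p] [Algebra.Smooth k A] :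
    IsPthRoot p (Spec.map (CommRingCat.ofHom (frobenius A p))) := by
  apply isPthRoot_of_local
  intro x
  obtain ⟨s, hs, hstd⟩ := Algebra.IsSmoothAt.exists_notMem_isStandardSmooth k x.asIdeal
  let B := Localization.Away s
  have hxs : x ∈ (PrimeSpectrum.basicOpen s : Set (PrimeSpectrum A)) := hs
  haveI : Nontrivial B := by
    by_contra hB
    rw [not_nontrivial_iff_subsingleton] at hB
    obtain ⟨m, hm⟩ := (IsLocalization.subsingleton_iff (S := B) (M := Submonoid.powers s)).mp hB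
    have hm' : s ^ m = 0 := hm
    exact hs (x.isPrime.mem_of_pow_mem m (by rw [hm']; exact zero_mem _))
  haveI : CharP B p := charP_of_natCast_eq_zero p B (by
    rw [← map_natCast (algebraMap A B), CharP.cast_eq_zero, map_zero])
  obtain ⟨n, hn⟩ := Groth.Agent.R2.H47.QuietFrob.exists_tow_frobenius_of_isStandardSmooth p k B
  have hg := isPthRoot_SpecMap p n _ hn
  let j : Spec (CommRingCat.of B) ⟶ Spec (CommRingCat.of A) :=
    Spec.map (CommRingCat.ofHom (algebraMap A B))
  have hj : j.opensRange = PrimeSpectrum.basicOpen s :=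
    Scheme.Hom.opensRange_localizationAway (R := CommRingCat.of A) s
  have H : IsPullback (Spec.map (CommRingCat.ofHom (frobenius B p))) j j
      (Spec.map (CommRingCat.ofHom (frobenius A p))) := by
    refine IsOpenImmersion.isPullback _ _ _ _ ?_ ?_
    · rw [← Spec.map_comp, ← Spec.map_comp]
      congr 1
      refine CommRingCat.hom_ext (RingHom.ext fun a => ?_)
      change algebraMap A B (a ^ p) = (algebraMap A B a) ^ p
      rw [map_pow]
    · rw [hj]
      ext y
      change (Spec.map (CommRingCat.ofHom (frobenius A p))) y ∈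
        (PrimeSpectrum.basicOpen s : Set (PrimeSpectrum A)) ↔
          y ∈ (PrimeSpectrum.basicOpen s : Set (PrimeSpectrum A))
      change s ∉ Ideal.comap (frobenius A p) y.asIdeal ↔ s ∉ y.asIdeal
      rw [Ideal.mem_comap, frobenius_def]
      exact not_congr ⟨fun h => y.isPrime.mem_of_pow_mem p h, fun h => Ideal.pow_mem_of_mem _ h p
        (Fact.out : p.Prime).pos⟩
  refine ⟨j.opensRange, ?_, isPthRoot_morphismRestrict_of_isPullback p _ j j _ H hg⟩
  rw [hj]
  exact hs

/-- Over a perfect field of characteristic `p`, the Frobenius of a smooth algebra is faithfully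
flat. -/
theorem faithfullyFlat_frobenius_of_smooth (p : ℕ) [Fact p.Prime] (k : Type u) [Field k]
    [CharP k p] [PerfectRing k p] (A : Type u) [CommRing A] [Algebra k A] [CharP A p]
    [Algebra.Smooth k A] : (frobenius A p).FaithfullyFlat := by
  rw [RingHom.FaithfullyFlat.iff_flat_and_comap_surjective]
  constructor
  · have h1 := flat_of_isPthRoot p _ (isPthRoot_frobenius_of_smooth p k A)
    exact (HasRingHomProperty.Spec_iff (P := @Flat)).mp h1
  · intro y
    refine ⟨y, PrimeSpectrum.ext ?_⟩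
    ext a
    change a ∈ Ideal.comap (frobenius A p) y.asIdeal ↔ a ∈ y.asIdeal
    rw [Ideal.mem_comap, frobenius_def]
    exact ⟨fun h => y.isPrime.mem_of_pow_mem p h, fun h => Ideal.pow_mem_of_mem _ h p
      (Fact.out : p.Prime).pos⟩

end Groth.Agent.R2.H47.QuietFrob
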