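import Mathlib
import Groth.Agent.R2.H47QuietFrob

/-!
# Frobenius modulo an ideal (helper47)

* `isPushout_quotientMap`, `faithfullyFlat_quotientMap`, `isPthRoot_quotientMap`;
* `isRegular_map_of_faithfullyFlat`, `isRegular_append_of_quotient`.
-/

set_option autoImplicit false
universe u

namespace Groth.Agent.R2.H47.QuietFrobQuot

open CategoryTheory Limits AlgebraicGeometry Quiet
open Groth.Agent.R2.H69.QuietBC

/-- The quotient of a ring map by an ideal and its extension is a pushout square. -/
theorem isPushout_quotientMap {R S : Type u} [CommRing R] [CommRing S] (f : R →+* S)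
    (I : Ideal R) :
    IsPushout (CommRingCat.ofHom (Ideal.Quotient.mk I)) (CommRingCat.ofHom f)
      (CommRingCat.ofHom (Ideal.quotientMap (I.map f) f Ideal.le_comap_map))
      (CommRingCat.ofHom (Ideal.Quotient.mk (I.map f))) := by
  have hle : ∀ (s : PushoutCocone (CommRingCat.ofHom (Ideal.Quotient.mk I)) (CommRingCat.ofHom f)),
      ∀ a ∈ I.map f, s.inr.hom a = 0 := by
    intro s a ha
    have h1 : I.map f ≤ RingHom.ker s.inr.hom := by
      rw [Ideal.map_le_iff_le_comap]
      intro x hx
      change s.inr.hom (f x) = 0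
      have := congrArg (fun φ => φ.hom x) s.condition
      change s.inl.hom (Ideal.Quotient.mk I x) = s.inr.hom (f x) at this
      rw [← this, Ideal.Quotient.eq_zero_iff_mem.mpr hx, map_zero]
    exact h1 ha
  refine ⟨⟨?_⟩, ⟨PushoutCocone.IsColimit.mk _
    (fun s => CommRingCat.ofHom (Ideal.Quotient.lift (I.map f) s.inr.hom (hle s)))
    (fun s => ?_) (fun s => ?_) (fun s m h1 h2 => ?_)⟩⟩
  · refine CommRingCat.hom_ext (RingHom.ext fun x => ?_)
    rfl
  · refine CommRingCat.hom_ext (RingHom.ext fun x => ?_)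
    obtain ⟨x, rfl⟩ := Ideal.Quotient.mk_surjective x
    have := congrArg (fun φ => φ.hom x) s.condition
    exact this.symm
  · refine CommRingCat.hom_ext (RingHom.ext fun x => ?_)
    rfl
  · refine CommRingCat.hom_ext (RingHom.ext fun x => ?_)
    obtain ⟨x, rfl⟩ := Ideal.Quotient.mk_surjective x
    have := congrArg (fun φ => φ.hom x) h2
    exact this

/-- Faithful flatness passes to the quotient by an ideal and its extension. -/
theorem faithfullyFlat_quotientMap {R S : Type u} [CommRing R] [CommRing S] (f : R →+* S)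
    (hf : f.FaithfullyFlat) (I : Ideal R) :
    (Ideal.quotientMap (I.map f) f Ideal.le_comap_map).FaithfullyFlat := by
  letI i1 : Algebra R S := f.toAlgebra
  letI i2 : Algebra (R ⧸ I) (S ⧸ I.map f) :=
    (Ideal.quotientMap (I.map f) f Ideal.le_comap_map).toAlgebra
  haveI t1 : IsScalarTower R S (S ⧸ I.map f) := inferInstance
  haveI t2 : IsScalarTower R (R ⧸ I) (S ⧸ I.map f) := IsScalarTower.of_algebraMap_eq (fun _ => rfl)
  have hpo : IsPushout (CommRingCat.ofHom (algebraMap R S)) (CommRingCat.ofHom (algebraMap R (R ⧸ I)))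
      (CommRingCat.ofHom (algebraMap S (S ⧸ I.map f)))
      (CommRingCat.ofHom (algebraMap (R ⧸ I) (S ⧸ I.map f))) := (isPushout_quotientMap f I).flip
  haveI : Algebra.IsPushout R S (R ⧸ I) (S ⧸ I.map f) := CommRingCat.isPushout_iff_isPushout.mp hpo
  exact RingHom.FaithfullyFlat.isStableUnderBaseChange R S (R ⧸ I) (S ⧸ I.map f) hf

/-- `p`-th root morphisms pass to the quotient by an ideal and its extension. -/
theorem isPthRoot_quotientMap (p : ℕ) {R S : Type u} [CommRing R] [CommRing S] (f : R →+* S)
    (hf : IsPthRoot p (Spec.map (CommRingCat.ofHom f))) (I : Ideal R) :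
    IsPthRoot p (Spec.map (CommRingCat.ofHom
      (Ideal.quotientMap (I.map f) f Ideal.le_comap_map))) :=
  isPthRoot_of_isPullback p _ _ _ _
    (isPullback_SpecMap_of_isPushout _ _ _ _ (isPushout_quotientMap f I).flip) hf

section RegSeq

open RingTheory.Sequence

/-- The image of a regular sequence under a faithfully flat ring map is regular. -/
theorem isRegular_map_of_faithfullyFlat {R S : Type u} [CommRing R] [CommRing S] (f : R →+* S)
    (hf : f.FaithfullyFlat) {rs : List R} (reg : IsRegular R rs) : IsRegular S (rs.map f) := by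
  letI := f.toAlgebra
  haveI : Module.FaithfullyFlat R S := hf
  exact IsRegular.of_faithfullyFlat reg

/-- Concatenation of a regular sequence with a sequence regular on the quotient ring. -/
theorem isRegular_append_of_quotient {R : Type u} [CommRing R] (rs₁ rs₂ : List R) (J : Ideal R)
    (hJ : J = Ideal.ofList rs₁) (h1 : IsRegular R rs₁)
    (h2 : IsRegular (R ⧸ J) (rs₂.map (Ideal.Quotient.mk J))) : IsRegular R (rs₁ ++ rs₂) := by
  subst hJ
  have hsm : (Ideal.ofList rs₁ • ⊤ : Submodule R R) = Ideal.ofList rs₁ := by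
    rw [smul_eq_mul, Ideal.mul_top]
  constructor
  · rw [isWeaklyRegular_append_iff]
    refine ⟨h1.1, ?_⟩
    let e : (R ⧸ (Ideal.ofList rs₁ • ⊤ : Submodule R R)) ≃ₗ[R] (R ⧸ Ideal.ofList rs₁) :=
      Submodule.quotEquivOfEq _ _ hsm
    refine (AddEquiv.isWeaklyRegular_congr (e := e.toAddEquiv) ?_).mpr h2.1
    refine List.forall₂_map_right_iff.mpr (List.forall₂_same.mpr fun r _ x => ?_)
    change e (r • x) = Ideal.Quotient.mk _ r • e x
    rw [map_smul]
    rfl
  · intro h
    apply h2.2
    rw [smul_eq_mul, Ideal.mul_top, Ideal.ofList_append] at h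
    rw [smul_eq_mul, Ideal.mul_top, ← Ideal.map_ofList]
    have h3 := congrArg (Ideal.map (Ideal.Quotient.mk (Ideal.ofList rs₁))) h
    rw [Ideal.map_top, Ideal.map_sup, Ideal.map_quotient_self, bot_sup_eq] at h3
    exact h3

end RegSeq

end Groth.Agent.R2.H47.QuietFrobQuot
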