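import Mathlib

set_option autoImplicit false
universe u

namespace Groth.Agent.R2.H47.RelFrobGlue

/-- Zariski gluing of "finite free of rank `n`": a module that is finite free of rank `n` on a
principal open cover is finite projective of constant rank `n`. -/
theorem glue_finite_projective_rank {R : Type u} [CommRing R] {M : Type u} [AddCommGroup M]
    [Module R M] (n : ℕ) (s : Set R) (hs : Ideal.span s = ⊤)
    (Rₚ : s → Type u) [∀ g, CommRing (Rₚ g)] [∀ g, Algebra R (Rₚ g)]
    [∀ g : s, IsLocalization.Away g.val (Rₚ g)]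
    (Mₚ : s → Type u) [∀ g, AddCommGroup (Mₚ g)] [∀ g, Module R (Mₚ g)]
    [∀ g, Module (Rₚ g) (Mₚ g)] [∀ g, IsScalarTower R (Rₚ g) (Mₚ g)]
    (f : ∀ g : s, M →ₗ[R] Mₚ g) [∀ g : s, IsLocalizedModule (Submonoid.powers g.val) (f g)]
    (H : ∀ g : s, Module.Free (Rₚ g) (Mₚ g) ∧ Module.Finite (Rₚ g) (Mₚ g) ∧
      Module.finrank (Rₚ g) (Mₚ g) = n) :
    Module.Finite R M ∧ Module.Projective R M ∧
      ∀ q : PrimeSpectrum R, Module.rankAtStalk M q = n := by
  haveI hfree : ∀ g, Module.Free (Rₚ g) (Mₚ g) := fun g => (H g).1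
  haveI hfin : ∀ g, Module.Finite (Rₚ g) (Mₚ g) := fun g => (H g).2.1
  haveI : Module.Finite R M := Module.Finite.of_localizationSpan' (Rₚ := Rₚ) s hs f (fun g => hfin g)
  haveI : Module.FinitePresentation R M :=
    Module.FinitePresentation.of_localizationSpan' (Rₚ := Rₚ) s hs f
      (fun g => Module.finitePresentation_of_projective _ _)
  haveI : Module.Flat R M := by
    refine Module.flat_of_isLocalized_span R M s hs Mₚ f (fun g => ?_)
    haveI : Module.Flat R (Rₚ g) := IsLocalization.flat (Rₚ g) (Submonoid.powers g.val)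
    exact Module.Flat.trans R (Rₚ g) (Mₚ g)
  refine ⟨inferInstance, Module.Flat.projective_of_finitePresentation, fun q => ?_⟩
  obtain ⟨g, hgs, hgq⟩ : ∃ g ∈ s, g ∉ q.asIdeal := by
    by_contra hcon
    push Not at hcon
    have : Ideal.span s ≤ q.asIdeal := Ideal.span_le.mpr hcon
    rw [hs] at this
    exact q.2.ne_top (top_le_iff.mp this)
  haveI hloc : IsLocalization.Away g (Rₚ ⟨g, hgs⟩) :=
    inferInstanceAs (IsLocalization.Away (⟨g, hgs⟩ : s).val (Rₚ ⟨g, hgs⟩))
  have hmem : q ∈ Set.range (PrimeSpectrum.comap (algebraMap R (Rₚ ⟨g, hgs⟩))) := by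
    rw [PrimeSpectrum.localization_away_comap_range (Rₚ ⟨g, hgs⟩) g]
    exact hgq
  obtain ⟨q', rfl⟩ := hmem
  have hbc : IsBaseChange (Rₚ ⟨g, hgs⟩) (f ⟨g, hgs⟩) :=
    (isLocalizedModule_iff_isBaseChange (Submonoid.powers g) (Rₚ ⟨g, hgs⟩) (f ⟨g, hgs⟩)).mp
      (inferInstanceAs (IsLocalizedModule (Submonoid.powers (⟨g, hgs⟩ : s).val) (f ⟨g, hgs⟩)))
  rw [← Module.rankAtStalk_isBaseChange hbc q', Module.rankAtStalk_eq_finrank_of_free]
  exact (H ⟨g, hgs⟩).2.2


open CategoryTheory Limits in
/-- Ring-hom form of the gluing statement: if `φ : R → B` becomes, after base change to the members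
`R → R'_g` of a principal open cover of `R`, finite free of rank `n`, then `B` is a finite
projective `R`-module of constant rank `n`. -/
theorem glue_ringHom {R B : Type u} [CommRing R] [CommRing B] (φ : R →+* B) (n : ℕ) (s : Set R)
    (hs : Ideal.span s = ⊤)
    (H : ∀ g ∈ s, ∃ (R' : Type u) (_ : CommRing R') (C : Type u) (_ : CommRing C)
      (lam : R →+* R') (rho : R' →+* C) (beta : B →+* C),
      IsPushout (CommRingCat.ofHom φ) (CommRingCat.ofHom lam) (CommRingCat.ofHom beta)
        (CommRingCat.ofHom rho) ∧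
      (letI := lam.toAlgebra; IsLocalization.Away g R') ∧
      (letI := rho.toAlgebra
       Module.Free R' C ∧ Module.Finite R' C ∧ Module.finrank R' C = n)) :
    letI := φ.toAlgebra
    Module.Finite R B ∧ Module.Projective R B ∧
      ∀ q : PrimeSpectrum R, Module.rankAtStalk (R := R) B q = n := by
  choose R' iR' C iC lam rho beta hpo hloc hfree using fun g : s => H g.1 g.2
  letI : Algebra R B := φ.toAlgebra
  letI : ∀ g, CommRing (R' g) := iR'
  letI : ∀ g, CommRing (C g) := iC
  letI a1 : ∀ g, Algebra R (R' g) := fun g => (lam g).toAlgebra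
  letI a2 : ∀ g, Algebra (R' g) (C g) := fun g => (rho g).toAlgebra
  letI a3 : ∀ g, Algebra R (C g) := fun g => ((rho g).comp (lam g)).toAlgebra
  letI a4 : ∀ g, Algebra B (C g) := fun g => (beta g).toAlgebra
  haveI t1 : ∀ g, IsScalarTower R (R' g) (C g) := fun g =>
    IsScalarTower.of_algebraMap_eq (fun _ => rfl)
  haveI t2 : ∀ g, IsScalarTower R B (C g) := fun g =>
    IsScalarTower.of_algebraMap_eq (fun x => by
      have := congr($((hpo g).w).hom x)
      exact this.symm)
  haveI : ∀ g : s, IsLocalization.Away g.val (R' g) := hloc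
  haveI : ∀ g : s, IsLocalizedModule (Submonoid.powers g.val)
      (IsScalarTower.toAlgHom R B (C g)).toLinearMap := fun g => by
    have hpo' : Algebra.IsPushout R B (R' g) (C g) :=
      CommRingCat.isPushout_iff_isPushout.mp (hpo g)
    exact (isLocalizedModule_iff_isBaseChange (Submonoid.powers g.val) (R' g) _).mpr hpo'.symm.out
  exact glue_finite_projective_rank n s hs R' C
    (fun g => (IsScalarTower.toAlgHom R B (C g)).toLinearMap) hfree

end Groth.Agent.R2.H47.RelFrobGlue
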