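import Mathlib
import Groth.Agent.R2.H47QuietFrobRing
import Groth.Agent.R2.H47QuietFrobA

/-!
# The relative Frobenius: base change along etale maps, polynomial rings, root towers (helper47)

* `isPushout_twist`, `isPushout_incl`, `isPushout_relFrob` (for `B → C` etale, `relFrob_C` is the base
  change of `relFrob_B`);
* `Model`: abstract models of the relative Frobenius; `Model.tow` (independence of the model);
* `exists_model_mvPolynomial`: the relative Frobenius of `A[x_1..x_m]` is a root tower of length `m`;
* `tow_free`: a root tower of length `n` is finite free of rank `p ^ n`.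
-/

set_option autoImplicit false
universe u

namespace Groth.Agent.R2.H47.RelFrobSm

open CategoryTheory Limits TensorProduct FrobAlg
open Groth.Agent.R2.H47.QuietTower Groth.Agent.R2.H47.QuietSwap Groth.Agent.R2.H47.QuietFrobRing

section basics

variable (p : ℕ) [Fact p.Prime] (A : Type u) [CommRing A] [CharP A p]
  (B : Type u) [CommRing B] [Algebra A B] [CharP B p]
  (C : Type u) [CommRing C] [Algebra A C] [CharP C p]

/-- `b ↦ b ⊗ 1`. -/
noncomputable def incl : B →+* BaseChange p A B :=
  (Algebra.TensorProduct.includeLeft : B →ₐ[A] BaseChange p A B).toRingHom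

/-- `a ↦ 1 ⊗ a` (on the underlying ring of `A`). -/
noncomputable def inclT : A →+* BaseChange p A B :=
  (Algebra.TensorProduct.includeRight : Twist p A →ₐ[A] BaseChange p A B).toRingHom.comp
    (toTwist p A : A →+* Twist p A)

lemma relFrob_incl (b : B) : relFrob p A B (incl p A B b) = b ^ p := by
  change relFrob p A B (b ⊗ₜ[A] (1 : Twist p A)) = b ^ p
  rw [Groth.Agent.S16001.relFrob_tmul]
  simp

lemma relFrob_inclT (a : A) : relFrob p A B (inclT p A B a) = algebraMap A B a := by
  change relFrob p A B ((1 : B) ⊗ₜ[A] (toTwist p A a)) = algebraMap A B a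
  rw [Groth.Agent.S16001.relFrob_tmul]
  simp

lemma incl_comp_algebraMap (a : A) :
    incl p A B (algebraMap A B a) = inclT p A B (a ^ p) := by
  change (algebraMap A B a) ⊗ₜ[A] (1 : Twist p A) = (1 : B) ⊗ₜ[A] (toTwist p A (a ^ p))
  rw [Algebra.algebraMap_eq_smul_one, TensorProduct.smul_tmul, Algebra.smul_def, mul_one,
    algebraMap_twist]

/-- The defining pushout square of the Frobenius twist. -/
theorem isPushout_twist :
    IsPushout (CommRingCat.ofHom (frobenius A p)) (CommRingCat.ofHom (algebraMap A B))
      (CommRingCat.ofHom (inclT p A B)) (CommRingCat.ofHom (incl p A B)) := by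
  have base := (CommRingCat.isPushout_tensorProduct A B (Twist p A)).flip
  refine base.of_iso (Iso.refl _) (toTwist p A).symm.toCommRingCatIso (Iso.refl _) (Iso.refl _)
    ?_ ?_ ?_ ?_
  · refine CommRingCat.hom_ext (RingHom.ext fun a => ?_)
    rfl
  · simp
  · refine CommRingCat.hom_ext (RingHom.ext fun a => ?_)
    rfl
  · refine CommRingCat.hom_ext (RingHom.ext fun a => ?_)
    rfl

end basics

section natural

variable (p : ℕ) [Fact p.Prime] (A : Type u) [CommRing A] [CharP A p]
  (B : Type u) [CommRing B] [Algebra A B] [CharP B p]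
  (C : Type u) [CommRing C] [Algebra A C] [CharP C p] [Algebra B C] [IsScalarTower A B C]

/-- The map of Frobenius twists induced by `B → C`. -/
noncomputable def mapBC : BaseChange p A B →+* BaseChange p A C :=
  (Algebra.TensorProduct.map (IsScalarTower.toAlgHom A B C) (AlgHom.id A (Twist p A))).toRingHom

lemma mapBC_tmul (b : B) (a : Twist p A) :
    mapBC p A B C (b ⊗ₜ[A] a) = (algebraMap B C b) ⊗ₜ[A] a := rfl

lemma mapBC_incl (b : B) : mapBC p A B C (incl p A B b) = incl p A C (algebraMap B C b) := rfl

lemma mapBC_inclT (a : A) : mapBC p A B C (inclT p A B a) = inclT p A C a := by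
  change mapBC p A B C ((1 : B) ⊗ₜ[A] (toTwist p A a)) = (1 : C) ⊗ₜ[A] (toTwist p A a)
  rw [mapBC_tmul, map_one]

/-- naturality of the relative Frobenius. -/
lemma relFrob_mapBC (x : BaseChange p A B) :
    relFrob p A C (mapBC p A B C x) = algebraMap B C (relFrob p A B x) := by
  induction x using TensorProduct.induction_on with
  | zero => simp
  | tmul b a =>
    rw [mapBC_tmul, Groth.Agent.S16001.relFrob_tmul, Groth.Agent.S16001.relFrob_tmul, map_mul,
      map_pow, ← IsScalarTower.algebraMap_apply]
  | add x y hx hy => rw [map_add, map_add, map_add, map_add, hx, hy]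

/-- `C^{(p)} = C ⊗_B B^{(p)}`. -/
theorem isPushout_incl :
    IsPushout (CommRingCat.ofHom (incl p A B)) (CommRingCat.ofHom (algebraMap B C))
      (CommRingCat.ofHom (mapBC p A B C)) (CommRingCat.ofHom (incl p A C)) := by
  have h1 := isPushout_twist p A B
  have h2 : IsPushout (CommRingCat.ofHom (frobenius A p))
      (CommRingCat.ofHom (algebraMap A B) ≫ CommRingCat.ofHom (algebraMap B C))
      (CommRingCat.ofHom (inclT p A B) ≫ CommRingCat.ofHom (mapBC p A B C))
      (CommRingCat.ofHom (incl p A C)) := by
    have h3 := isPushout_twist p A C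
    have e1 : CommRingCat.ofHom (algebraMap A B) ≫ CommRingCat.ofHom (algebraMap B C) =
        CommRingCat.ofHom (algebraMap A C) := by
      refine CommRingCat.hom_ext (RingHom.ext fun a => ?_)
      exact (IsScalarTower.algebraMap_apply A B C a).symm
    have e2 : CommRingCat.ofHom (inclT p A B) ≫ CommRingCat.ofHom (mapBC p A B C) =
        CommRingCat.ofHom (inclT p A C) := by
      refine CommRingCat.hom_ext (RingHom.ext fun a => ?_)
      exact mapBC_inclT p A B C a
    rw [e1, e2]
    exact h3
  exact IsPushout.of_top h2 (by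
    refine CommRingCat.hom_ext (RingHom.ext fun b => ?_)
    rfl) h1

/-- **Base change of the relative Frobenius along an etale map.** -/
theorem isPushout_relFrob [Algebra.Etale B C] :
    IsPushout (CommRingCat.ofHom (relFrob p A B)) (CommRingCat.ofHom (mapBC p A B C))
      (CommRingCat.ofHom (algebraMap B C)) (CommRingCat.ofHom (relFrob p A C)) := by
  have h1 := (isPushout_incl p A B C)
  have h2 := (frobSq p B C).flip
  have e1 : CommRingCat.ofHom (incl p A B) ≫ CommRingCat.ofHom (relFrob p A B) =
      CommRingCat.ofHom (frobenius B p) := by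
    refine CommRingCat.hom_ext (RingHom.ext fun b => ?_)
    exact relFrob_incl p A B b
  have e2 : CommRingCat.ofHom (incl p A C) ≫ CommRingCat.ofHom (relFrob p A C) =
      CommRingCat.ofHom (frobenius C p) := by
    refine CommRingCat.hom_ext (RingHom.ext fun b => ?_)
    exact relFrob_incl p A C b
  rw [← e1, ← e2] at h2
  exact IsPushout.of_left h2 (by
    refine CommRingCat.hom_ext (RingHom.ext fun x => ?_)
    exact (relFrob_mapBC p A B C x).symm) h1

end natural

section models

/-- `(B', ι, τ, ρ)` is a model of the relative Frobenius of `α : A → B`: `B'` is the pushout of `α`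
along the Frobenius of `A`, and `ρ : B' → B` is induced by the Frobenius of `B` and `α`. -/
structure Model (p : ℕ) [Fact p.Prime] {A B : Type u} [CommRing A] [CommRing B] [CharP A p]
    [CharP B p] (α : A →+* B) {B' : Type u} [CommRing B'] (ι : B →+* B') (τ : A →+* B')
    (ρ : B' →+* B) : Prop where
  po : IsPushout (CommRingCat.ofHom (frobenius A p)) (CommRingCat.ofHom α)
    (CommRingCat.ofHom τ) (CommRingCat.ofHom ι)
  hι : ∀ b, ρ (ι b) = b ^ p
  hτ : ∀ a, ρ (τ a) = α a

variable (p : ℕ) [Fact p.Prime]

theorem model_canonical (A : Type u) [CommRing A] [CharP A p] (B : Type u) [CommRing B]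
    [Algebra A B] [CharP B p] :
    Model p (algebraMap A B) (incl p A B) (inclT p A B) (relFrob p A B) :=
  ⟨isPushout_twist p A B, relFrob_incl p A B, relFrob_inclT p A B⟩

/-- Two models of the relative Frobenius are isomorphic; in particular being a root tower does not
depend on the model. -/
theorem Model.tow {A B : Type u} [CommRing A] [CommRing B] [CharP A p] [CharP B p] {α : A →+* B}
    {B' : Type u} [CommRing B'] {ι : B →+* B'} {τ : A →+* B'} {ρ : B' →+* B}
    {B'' : Type u} [CommRing B''] {ι' : B →+* B''} {τ' : A →+* B''} {ρ' : B'' →+* B}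
    (h : Model p α ι τ ρ) (h' : Model p α ι' τ' ρ') (n : ℕ)
    (ht : Tow p n (CommRingCat.ofHom ρ)) : Tow p n (CommRingCat.ofHom ρ') := by
  let e := h.po.isoIsPushout _ _ h'.po
  refine tow_of_iso p n e (Iso.refl _) _ _ ?_ ht
  rw [Iso.refl_hom, Category.comp_id]
  refine h.po.hom_ext ?_ ?_
  · rw [← Category.assoc, h.po.inl_isoIsPushout_hom]
    refine CommRingCat.hom_ext (RingHom.ext fun a => ?_)
    exact (h.hτ a).trans (h'.hτ a).symm
  · rw [← Category.assoc, h.po.inr_isoIsPushout_hom]
    refine CommRingCat.hom_ext (RingHom.ext fun b => ?_)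
    exact (h.hι b).trans (h'.hι b).symm

end models

section steps

open Polynomial

variable (p : ℕ) [Fact p.Prime]

/-- base case: the identity of `A`. -/
theorem model_id (A : Type u) [CommRing A] [CharP A p] :
    Model p (RingHom.id A) (frobenius A p) (RingHom.id A) (RingHom.id A) := by
  refine ⟨?_, fun b => rfl, fun a => rfl⟩
  haveI : IsIso (CommRingCat.ofHom (RingHom.id A)) :=
    inferInstanceAs (IsIso (𝟙 (CommRingCat.of A)))
  exact IsPushout.of_vert_isIso ⟨rfl⟩

/-- transport of a model along a ring isomorphism of the target. -/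
theorem Model.of_ringEquiv {A B B₁ : Type u} [CommRing A] [CommRing B] [CommRing B₁] [CharP A p]
    [CharP B p] [CharP B₁ p] {α : A →+* B} {B' : Type u} [CommRing B'] {ι : B →+* B'}
    {τ : A →+* B'} {ρ : B' →+* B} (h : Model p α ι τ ρ) (e : B ≃+* B₁) :
    Model p ((e : B →+* B₁).comp α) (ι.comp (e.symm : B₁ →+* B)) τ ((e : B →+* B₁).comp ρ) := by
  refine ⟨?_, fun b => ?_, fun a => ?_⟩
  · refine h.po.of_iso (Iso.refl _) (Iso.refl _) e.toCommRingCatIso (Iso.refl _) ?_ ?_ ?_ ?_
    · simp
    · refine CommRingCat.hom_ext (RingHom.ext fun a => ?_)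
      rfl
    · simp
    · refine CommRingCat.hom_ext (RingHom.ext fun b => ?_)
      change ι b = ι (e.symm (e b))
      rw [e.symm_apply_apply]
  · change e (ρ (ι (e.symm b))) = b ^ p
    rw [h.hι, map_pow, e.apply_symm_apply]
  · change e (ρ (τ a)) = e (α a)
    rw [h.hτ]

theorem Model.tow_of_ringEquiv {B B₁ : Type u} [CommRing B] [CommRing B₁]
    {B' : Type u} [CommRing B'] {ρ : B' →+* B} (e : B ≃+* B₁) (n : ℕ)
    (ht : Tow p n (CommRingCat.ofHom ρ)) :
    Tow p n (CommRingCat.ofHom ((e : B →+* B₁).comp ρ)) := by
  refine tow_of_iso p n (Iso.refl _) e.toCommRingCatIso _ _ ?_ ht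
  rw [Iso.refl_hom, Category.id_comp]
  rfl

/-- polynomial step. -/
theorem Model.polynomial {A B : Type u} [CommRing A] [CommRing B] [CharP A p] [CharP B p]
    {α : A →+* B} {B' : Type u} [CommRing B'] {ι : B →+* B'} {τ : A →+* B'} {ρ : B' →+* B}
    (h : Model p α ι τ ρ) :
    Model p ((C : B →+* B[X]).comp α) (Polynomial.mapRingHom ι) ((C : B' →+* B'[X]).comp τ)
      (((expand B p : B[X] →ₐ[B] B[X]) : B[X] →+* B[X]).comp (Polynomial.mapRingHom ρ)) := by
  refine ⟨?_, fun q => ?_, fun a => ?_⟩
  · exact h.po.paste_vert (isPushout_polynomial B ι).flip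
  · change expand B p (Polynomial.map ρ (Polynomial.map ι q)) = q ^ p
    rw [Polynomial.map_map]
    have : ρ.comp ι = frobenius B p := RingHom.ext fun b => h.hι b
    rw [this, ← Polynomial.map_expand, map_frobenius_expand]
  · change expand B p (Polynomial.map ρ (C (τ a))) = C (α a)
    rw [Polynomial.map_C, expand_C, h.hτ]

theorem Model.tow_polynomial {B : Type u} [CommRing B] {B' : Type u} [CommRing B']
    {ρ : B' →+* B} (n : ℕ) (ht : Tow p n (CommRingCat.ofHom ρ)) :
    Tow p (n + 1) (CommRingCat.ofHom
      (((expand B p : B[X] →ₐ[B] B[X]) : B[X] →+* B[X]).comp (Polynomial.mapRingHom ρ))) := by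
  have h1 : Tow p n (CommRingCat.ofHom (Polynomial.mapRingHom ρ)) :=
    tow_of_isPushout p n _ _ _ _ (isPushout_polynomial B' ρ) ht
  have h2 := tow_comp p n 1 _ _ h1 (tow_expand p B)
  rw [add_comm]
  exact h2

end steps

section mv

variable (p : ℕ) [Fact p.Prime]

/-- The relative Frobenius of a polynomial ring in finitely many variables is a root tower whose
length is the number of variables. -/
theorem exists_model_mvPolynomial (A : Type u) [CommRing A] [CharP A p] (σ : Type u) [Finite σ] :
    ∃ (B' : Type u) (_ : CommRing B') (ι : MvPolynomial σ A →+* B') (τ : A →+* B')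
      (ρ : B' →+* MvPolynomial σ A),
      Model p (MvPolynomial.C : A →+* MvPolynomial σ A) ι τ ρ ∧
        Tow p (Nat.card σ) (CommRingCat.ofHom ρ) := by
  induction σ using Finite.induction_empty_option with
  | of_equiv e ih =>
    rename_i α β
    obtain ⟨B', _, ι, τ, ρ, hm, ht⟩ := ih
    let E := (MvPolynomial.renameEquiv A e).toRingEquiv
    have hE : (E : MvPolynomial α A →+* MvPolynomial β A).comp MvPolynomial.C = MvPolynomial.C := by
      refine RingHom.ext fun a => ?_
      change MvPolynomial.rename e (MvPolynomial.C a) = MvPolynomial.C a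
      rw [MvPolynomial.rename_C]
    refine ⟨B', inferInstance, _, _, _, hE ▸ hm.of_ringEquiv p E, ?_⟩
    rw [← Nat.card_congr e]
    exact Model.tow_of_ringEquiv (B := MvPolynomial α A) (B' := B') p E _ ht
  | h_empty =>
    let E := (MvPolynomial.isEmptyRingEquiv A PEmpty.{u + 1}).symm
    have hE : (E : A →+* MvPolynomial PEmpty.{u + 1} A).comp (RingHom.id A) = MvPolynomial.C := by
      refine RingHom.ext fun a => ?_
      rfl
    have hm : Model p (MvPolynomial.C : A →+* MvPolynomial PEmpty.{u + 1} A)
        ((frobenius A p).comp (E.symm : MvPolynomial PEmpty.{u + 1} A →+* A)) (RingHom.id A)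
        ((E : A →+* MvPolynomial PEmpty.{u + 1} A).comp (RingHom.id A)) := by
      rw [← hE]
      exact (model_id p A).of_ringEquiv p E
    refine ⟨A, inferInstance, _, _, _, hm, ?_⟩
    rw [Nat.card_of_isEmpty]
    refine Model.tow_of_ringEquiv (B := A) (B' := A) p E 0 ?_
    haveI : IsIso (CommRingCat.ofHom (RingHom.id A)) :=
      inferInstanceAs (IsIso (𝟙 (CommRingCat.of A)))
    exact tow_zero_of_isIso p _
  | h_option ih =>
    rename_i α _
    obtain ⟨B', _, ι, τ, ρ, hm, ht⟩ := ih
    let E := (MvPolynomial.optionEquivLeft A α).toRingEquiv.symm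
    have hE : (E : Polynomial (MvPolynomial α A) →+* MvPolynomial (Option α) A).comp
        ((Polynomial.C : MvPolynomial α A →+* Polynomial (MvPolynomial α A)).comp
          MvPolynomial.C) = MvPolynomial.C := by
      refine RingHom.ext fun a => ?_
      change (MvPolynomial.optionEquivLeft A α).symm (Polynomial.C (MvPolynomial.C a)) =
        MvPolynomial.C a
      rw [AlgEquiv.symm_apply_eq, MvPolynomial.optionEquivLeft_C]
    refine ⟨Polynomial B', inferInstance, _, _, _, hE ▸ (hm.polynomial p).of_ringEquiv p E, ?_⟩
    rw [Finite.card_option]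
    exact Model.tow_of_ringEquiv (B := Polynomial (MvPolynomial α A)) (B' := Polynomial B') p E _
      (Model.tow_polynomial p _ ht)

end mv

section free

open Polynomial Quiet

/-- A root tower of length `n` is finite free of rank `p ^ n`. -/
theorem tow_free (p : ℕ) [Fact p.Prime] : ∀ (n : ℕ) {A B : CommRingCat.{u}} (f : A ⟶ B)
    [Nontrivial A], Tow p n f →
      letI := f.hom.toAlgebra
      Module.Free A B ∧ Module.Finite A B ∧ Module.finrank A B = p ^ n
  | 0, A, B, f, _, hf => by
      haveI := tow_zero_isIso p f hf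
      letI := f.hom.toAlgebra
      let e : A ≃+* B := (asIso f).commRingCatIsoToRingEquiv
      let el : A ≃ₗ[A] B :=
        { e with
          map_smul' := fun r x => by
            change f.hom (r * x) = f.hom r * f.hom x
            rw [map_mul] }
      refine ⟨Module.Free.of_equiv el, Module.Finite.equiv el, ?_⟩
      rw [← el.finrank_eq, Module.finrank_self, pow_zero]
  | n + 1, A, B, f, _, hf => by
      obtain ⟨a, f', rfl, hf'⟩ := (tow_succ_iff p n f).mp hf
      have hmonic : (X ^ p - C a : (A : Type u)[X]).Monic :=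
        monic_X_pow_sub_C a (Fact.out : p.Prime).ne_zero
      have hdeg : (X ^ p - C a : (A : Type u)[X]).natDegree = p :=
        natDegree_X_pow_sub_C
      haveI : Nontrivial (RootRing p A a) := by
        refine Module.nontrivial_of_finrank_pos (R := A) ?_
        rw [(AdjoinRoot.powerBasis' hmonic).finrank, AdjoinRoot.powerBasis'_dim, hdeg]
        exact (Fact.out : p.Prime).pos
      have ih := tow_free p n (A := CommRingCat.of (RootRing p A a)) f' hf'
      letI i1 : Algebra A B :=
        (CommRingCat.ofHom (algebraMap A (RootRing p A a)) ≫ f').hom.toAlgebra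
      letI i2 : Algebra (RootRing p A a) B := f'.hom.toAlgebra
      haveI : IsScalarTower A (RootRing p A a) B := IsScalarTower.of_algebraMap_eq (fun _ => rfl)
      haveI h1 : Module.Free (RootRing p A a) B := ih.1
      haveI h2 : Module.Finite (RootRing p A a) B := ih.2.1
      haveI : Module.Free A (RootRing p A a) :=
        Module.Free.of_basis (AdjoinRoot.powerBasis' hmonic).basis
      haveI : Module.Finite A (RootRing p A a) :=
        Module.Finite.of_basis (AdjoinRoot.powerBasis' hmonic).basis
      refine ⟨Module.Free.of_basis ((Module.Free.chooseBasis A (RootRing p A a)).smulTower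
        (Module.Free.chooseBasis (RootRing p A a) B)), Module.Finite.trans (RootRing p A a) B, ?_⟩
      rw [← Module.finrank_mul_finrank A (RootRing p A a) B, ih.2.2,
        (AdjoinRoot.powerBasis' hmonic).finrank, AdjoinRoot.powerBasis'_dim, hdeg, pow_succ,
        mul_comm]

end free

end Groth.Agent.R2.H47.RelFrobSm
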