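import Mathlib
import Groth.Agent.R2.H47RelFrobSm
import Groth.Agent.R2.H16EtaleChart

set_option autoImplicit false
universe u

namespace Groth.Agent.R2.H47.RelFrobSm

open CategoryTheory Limits TensorProduct FrobAlg KaehlerDifferential Algebra
open Groth.Agent.R2.H47.QuietTower Groth.Agent.R2.H47.QuietSwap Groth.Agent.R2.H47.QuietFrobRing

/-- A standard smooth algebra is étale over a polynomial ring whose number of variables is the rank
of the module of differentials. -/
theorem exists_etale_chart_finrank {R S : Type u} [CommRing R] [CommRing S] [Nontrivial S]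
    [Algebra R S] [Algebra.IsStandardSmooth R S] :
    ∃ (v : ULift.{u} (Fin (Module.finrank S Ω[S⁄R])) → S),
      (MvPolynomial.eval₂Hom (algebraMap R S) v).Etale := by
  have hfp : Algebra.FinitePresentation R S := inferInstance
  obtain ⟨hH1, I, b, hb⟩ :=
    IsStandardSmooth.iff_exists_basis_kaehlerDifferential.mp ‹Algebra.IsStandardSmooth R S›
  have : Module.Finite S Ω[S⁄R] := inferInstance
  have : Finite I := Module.Finite.finite_basis b
  have hm : Module.finrank S Ω[S⁄R] = Nat.card I := Module.finrank_eq_nat_card_basis b
  rw [hm]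
  let m := Nat.card I
  let e : I ≃ ULift.{u} (Fin m) := (Finite.equivFin I).trans Equiv.ulift.symm
  choose s hs using fun i => hb ⟨i, rfl⟩
  let v : ULift.{u} (Fin m) → S := fun j => s (e.symm j)
  refine ⟨v, ?_⟩
  have h1 := Groth.Agent.R2.H16.EtaleChart.formallyEtale_of_basis v (b.reindex e) (by
    intro j
    simp [v, hs])
  have heq : (MvPolynomial.aeval (R := R) v).toRingHom =
      MvPolynomial.eval₂Hom (algebraMap R S) v := rfl
  rw [heq] at h1
  let _ := (MvPolynomial.eval₂Hom (algebraMap R S) v).toAlgebra
  have : IsScalarTower R (MvPolynomial (ULift.{u} (Fin m)) R) S :=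
    IsScalarTower.of_algebraMap_eq' (by
      ext r
      change algebraMap R S r = MvPolynomial.eval₂Hom (algebraMap R S) v (algebraMap R _ r)
      simp)
  change Algebra.Etale (MvPolynomial (ULift.{u} (Fin m)) R) S
  have : Algebra.FinitePresentation (MvPolynomial (ULift.{u} (Fin m)) R) S :=
    Algebra.FinitePresentation.of_restrict_scalars_finitePresentation R _ _
  exact ⟨h1, inferInstance⟩

/-- The relative Frobenius of a standard smooth algebra is a root tower whose length is the rank
of the module of differentials. -/
theorem tow_relFrob_of_isStandardSmooth (p : ℕ) [Fact p.Prime] (A : Type u) [CommRing A]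
    [CharP A p] (C : Type u) [CommRing C] [Algebra A C] [CharP C p]
    [Algebra.IsStandardSmooth A C] :
    Tow p (Module.finrank C Ω[C⁄A]) (CommRingCat.ofHom (relFrob p A C)) := by
  haveI : Nontrivial C := CharP.nontrivial_of_char_ne_one (R := C) (Fact.out : p.Prime).ne_one
  obtain ⟨v, hv⟩ := exists_etale_chart_finrank (R := A) (S := C)
  generalize Module.finrank C Ω[C⁄A] = m at v hv ⊢
  let P := MvPolynomial (ULift.{u} (Fin m)) A
  letI : Algebra P C := (MvPolynomial.eval₂Hom (algebraMap A C) v).toAlgebra
  haveI : IsScalarTower A P C :=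
    IsScalarTower.of_algebraMap_eq' (by
      ext r
      change algebraMap A C r = MvPolynomial.eval₂Hom (algebraMap A C) v (algebraMap A _ r)
      simp)
  haveI : Algebra.Etale P C := hv
  obtain ⟨B', _, ι, τ, ρ, hmod, ht⟩ := exists_model_mvPolynomial p A (ULift.{u} (Fin m))
  have hcard : Nat.card (ULift.{u} (Fin m)) = m := by
    rw [Nat.card_congr Equiv.ulift, Nat.card_fin]
  rw [hcard] at ht
  have hP : Tow p m (CommRingCat.ofHom (relFrob p A P)) :=
    Model.tow p hmod (model_canonical p A P) m ht
  exact tow_of_isPushout p m _ _ _ _ (isPushout_relFrob p A P C).flip hP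

end Groth.Agent.R2.H47.RelFrobSm
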