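import Mathlib
import Groth.Agent.R2.H47RelFrobSm
import Groth.Agent.R2.H47RelFrobSm2
import Groth.Agent.R2.H47RelFrobGlue

set_option autoImplicit false
universe u

namespace Groth.Agent.R2.H47.RelFrobSm

open CategoryTheory Limits TensorProduct FrobAlg KaehlerDifferential
open Groth.Agent.R2.H47.QuietTower Groth.Agent.R2.H47.QuietSwap Groth.Agent.R2.H47.QuietFrobRing

section loc

variable (p : ℕ) [Fact p.Prime] (A : Type u) [CommRing A] [CharP A p]
  (B : Type u) [CommRing B] [Algebra A B] [CharP B p]
  (C : Type u) [CommRing C] [Algebra A C] [CharP C p] [Algebra B C] [IsScalarTower A B C]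

/-- The Frobenius twist commutes with principal localization. -/
theorem isLocalization_mapBC (b : B) [IsLocalization.Away b C] :
    letI := (mapBC p A B C).toAlgebra
    IsLocalization.Away (incl p A B b) (BaseChange p A C) := by
  letI i2 : Algebra (BaseChange p A B) (BaseChange p A C) := (mapBC p A B C).toAlgebra
  haveI : IsScalarTower B (BaseChange p A B) (BaseChange p A C) :=
    IsScalarTower.of_algebraMap_eq (fun _ => rfl)
  haveI : IsScalarTower B C (BaseChange p A C) :=
    IsScalarTower.of_algebraMap_eq (fun x => mapBC_incl p A B C x)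
  have e1 : algebraMap B (BaseChange p A B) = incl p A B := rfl
  have e3 : algebraMap C (BaseChange p A C) = incl p A C := rfl
  have hpo : Algebra.IsPushout B (BaseChange p A B) C (BaseChange p A C) :=
    CommRingCat.isPushout_iff_isPushout.mp (isPushout_incl p A B C)
  have := (Algebra.isLocalization_iff_isPushout (Submonoid.powers b) C).mpr hpo
  rwa [Algebra.algebraMapSubmonoid, Submonoid.map_powers, e1] at this

omit [CharP A p] [CharP B p] [CharP C p] [Fact p.Prime] in
/-- The rank of the differentials of a localization. -/
theorem finrank_kaehler_of_isLocalizationAway [Algebra.Smooth A B] [Nontrivial C]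
    [Algebra.IsStandardSmooth A C] (b : B) [IsLocalization.Away b C] (r : ℕ)
    (hr : ∀ q : PrimeSpectrum B, Module.rankAtStalk (R := B) Ω[B⁄A] q = r) :
    Module.finrank C Ω[C⁄A] = r := by
  haveI : Algebra.Etale B C := Algebra.Etale.of_isLocalizationAway b
  obtain ⟨q'⟩ : Nonempty (PrimeSpectrum C) := inferInstance
  have h1 : Module.rankAtStalk (R := C) Ω[C⁄A] q' = Module.finrank C Ω[C⁄A] := by
    rw [Module.rankAtStalk_eq_finrank_of_free]
    rfl
  rw [← h1, ← Module.rankAtStalk_eq_of_equiv
    (KaehlerDifferential.tensorKaehlerEquivOfFormallyEtale A B C), Module.rankAtStalk_baseChange]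
  exact hr _

end loc


/-- **The relative Frobenius of a smooth algebra of relative dimension `r` is finite locally free
of rank `p ^ r`.** -/
theorem relFrob_finite_projective_rank (p : ℕ) [Fact p.Prime]
    (A : Type u) [CommRing A] [CharP A p] (B : Type u) [CommRing B] [Algebra A B] [CharP B p]
    [Algebra.Smooth A B] (r : ℕ)
    (hr : ∀ q : PrimeSpectrum B, Module.rankAtStalk (R := B) Ω[B⁄A] q = r) :
    letI := (relFrob p A B).toAlgebra
    Module.Finite (BaseChange p A B) B ∧ Module.Projective (BaseChange p A B) B ∧
      ∀ q : PrimeSpectrum (BaseChange p A B),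
        Module.rankAtStalk (R := BaseChange p A B) B q = p ^ r := by
  -- the standard smooth principal opens of `Spec B`
  let s₀ : Set B := {x | ¬ IsNilpotent x ∧ Algebra.IsStandardSmooth A (Localization.Away x)}
  have hs₀ : Ideal.span s₀ = ⊤ := by
    by_contra hne
    obtain ⟨m, hm, hle⟩ := Ideal.exists_le_maximal _ hne
    haveI := hm.isPrime
    obtain ⟨f, hf, hstd⟩ := Algebra.IsSmoothAt.exists_notMem_isStandardSmooth A m
    refine hf (hle (Ideal.subset_span ⟨fun hnil => hf ?_, hstd⟩))
    obtain ⟨k, hk⟩ := hnil
    exact hm.isPrime.mem_of_pow_mem k (hk ▸ m.zero_mem)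
  have hs : Ideal.span (incl p A B '' s₀) = ⊤ := by
    rw [← Ideal.map_span, hs₀, Ideal.map_top]
  refine Groth.Agent.R2.H47.RelFrobGlue.glue_ringHom (relFrob p A B) (p ^ r) _ hs ?_
  rintro _ ⟨x, ⟨hxnil, hxstd⟩, rfl⟩
  haveI : Nontrivial (Localization.Away x) := by
    by_contra hcon
    rw [not_nontrivial_iff_subsingleton] at hcon
    obtain ⟨k, hk⟩ := (IsLocalization.subsingleton_iff (S := Localization.Away x)
      (M := Submonoid.powers x)).mp hcon
    exact hxnil ⟨k, hk⟩
  haveI : CharP (Localization.Away x) p := charP_of_natCast_eq_zero p _ (by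
    rw [← map_natCast (algebraMap B (Localization.Away x)), CharP.cast_eq_zero, map_zero])
  haveI : Algebra.Etale B (Localization.Away x) := inferInstance
  have hrank : Module.finrank (Localization.Away x) Ω[Localization.Away x⁄A] = r :=
    finrank_kaehler_of_isLocalizationAway A B (Localization.Away x) x r hr
  have htow := tow_relFrob_of_isStandardSmooth p A (Localization.Away x)
  rw [hrank] at htow
  haveI : Nontrivial (BaseChange p A (Localization.Away x)) :=
    (relFrob p A (Localization.Away x)).domain_nontrivial
  exact ⟨BaseChange p A (Localization.Away x), inferInstance, Localization.Away x, inferInstance,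
    mapBC p A B (Localization.Away x), relFrob p A (Localization.Away x),
    algebraMap B (Localization.Away x), isPushout_relFrob p A B (Localization.Away x),
    isLocalization_mapBC p A B (Localization.Away x) x,
    tow_free p r (CommRingCat.ofHom (relFrob p A (Localization.Away x))) htow⟩

end Groth.Agent.R2.H47.RelFrobSm
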