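import Mathlib
import Groth.Prelude.Def_FrobAlg

set_option autoImplicit false
universe u v u' v'

namespace Groth.Agent.R2.H47.RelFrobUniv

open FrobAlg TensorProduct

/-- universe polymorphic version of the formula for the relative Frobenius on pure tensors. -/
theorem relFrob_tmul (p : ℕ) [Fact p.Prime] (A : Type u) [CommRing A] [CharP A p]
    (B : Type v) [CommRing B] [Algebra A B] [CharP B p] (b : B) (a : Twist p A) :
    FrobAlg.relFrob p A B (b ⊗ₜ[A] a) = b ^ p * algebraMap A B ((toTwist p A).symm a) := by
  unfold FrobAlg.relFrob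
  simp only [RingHom.coe_comp, Function.comp_apply, AlgHom.toRingHom_eq_coe, RingHom.coe_coe,
    Algebra.TensorProduct.lift_tmul]
  rfl

section

variable (p : ℕ) [Fact p.Prime] {A : Type u} [CommRing A] [CharP A p] {B : Type v} [CommRing B]
  [Algebra A B] [CharP B p] {A' : Type u'} [CommRing A'] [CharP A' p] {B' : Type v'} [CommRing B']
  [Algebra A' B'] [CharP B' p]

/-- the map of twisted copies induced by a ring map. -/
def twistMap (eA : A →+* A') : Twist p A →+* Twist p A' :=
  ((toTwist p A' : A' →+* Twist p A').comp eA).comp ((toTwist p A).symm : Twist p A →+* A)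

lemma twistMap_apply (eA : A →+* A') (t : Twist p A) :
    twistMap p eA t = toTwist p A' (eA ((toTwist p A).symm t)) := rfl

variable (eA : A →+* A') (eB : B →+* B')
  (h : ∀ a, eB (algebraMap A B a) = algebraMap A' B' (eA a))

/-- Functoriality of the Frobenius twist in the pair `(A, B)`, across universes. -/
noncomputable def bcMap : BaseChange p A B →+* BaseChange p A' B' :=
  letI : Algebra A (BaseChange p A' B') :=
    ((algebraMap A' (BaseChange p A' B')).comp eA).toAlgebra
  (Algebra.TensorProduct.lift (R := A) (S := A) (A := B) (B := Twist p A)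
    (C := BaseChange p A' B')
    ({ toRingHom := (Algebra.TensorProduct.includeLeftRingHom).comp eB
       commutes' := fun a => by
        change (eB (algebraMap A B a)) ⊗ₜ[A'] (1 : Twist p A') =
          algebraMap A' (BaseChange p A' B') (eA a)
        rw [h, Algebra.TensorProduct.algebraMap_apply] } : B →ₐ[A] BaseChange p A' B')
    ({ toRingHom := (Algebra.TensorProduct.includeRight :
          Twist p A' →ₐ[A'] BaseChange p A' B').toRingHom.comp (twistMap p eA)
       commutes' := fun a => by
        change (1 : B') ⊗ₜ[A'] (twistMap p eA (algebraMap A (Twist p A) a)) =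
          algebraMap A' (BaseChange p A' B') (eA a)
        rw [Algebra.TensorProduct.algebraMap_apply, algebraMap_twist, twistMap_apply,
          RingEquiv.symm_apply_apply, map_pow, Algebra.algebraMap_eq_smul_one (eA a),
          TensorProduct.smul_tmul, Algebra.smul_def, mul_one, algebraMap_twist] } :
      Twist p A →ₐ[A] BaseChange p A' B')
    (fun _ _ => Commute.all _ _)).toRingHom

lemma bcMap_tmul (b : B) (t : Twist p A) :
    bcMap p eA eB h (b ⊗ₜ[A] t) = (eB b) ⊗ₜ[A'] (twistMap p eA t) := by
  unfold bcMap
  simp only [AlgHom.toRingHom_eq_coe, RingHom.coe_coe, Algebra.TensorProduct.lift_tmul]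
  change ((eB b) ⊗ₜ[A'] (1 : Twist p A')) * ((1 : B') ⊗ₜ[A'] (twistMap p eA t)) = _
  rw [Algebra.TensorProduct.tmul_mul_tmul, mul_one, one_mul]

lemma relFrob_bcMap (x : BaseChange p A B) :
    relFrob p A' B' (bcMap p eA eB h x) = eB (relFrob p A B x) := by
  induction x using TensorProduct.induction_on with
  | zero => simp
  | tmul b t =>
    rw [bcMap_tmul, relFrob_tmul, relFrob_tmul, twistMap_apply, RingEquiv.symm_apply_apply,
      map_mul, map_pow, h]
  | add x y hx hy => rw [map_add, map_add, map_add, map_add, hx, hy]

end

section smooth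

/-- Smoothness is invariant under isomorphisms of the pair `(A, B)`, across universes. -/
theorem smooth_of_ringEquiv {A : Type u} {B : Type v} {A' : Type u'} {B' : Type v'}
    [CommRing A] [CommRing B] [CommRing A'] [CommRing B'] [Algebra A B] [Algebra A' B']
    (eA : A ≃+* A') (eB : B ≃+* B')
    (h : ∀ a, eB (algebraMap A B a) = algebraMap A' B' (eA a)) [Algebra.Smooth A B] :
    Algebra.Smooth A' B' := by
  letI : Algebra A' A := (eA.symm : A' →+* A).toAlgebra
  haveI : Algebra.Smooth A' A :=
    Algebra.Smooth.of_equiv ({ eA.symm with commutes' := fun _ => rfl } : A' ≃ₐ[A'] A)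
  letI : Algebra A' B := ((algebraMap A B).comp (eA.symm : A' →+* A)).toAlgebra
  haveI : IsScalarTower A' A B := IsScalarTower.of_algebraMap_eq (fun _ => rfl)
  haveI : Algebra.Smooth A' B := Algebra.Smooth.comp A' A B
  exact Algebra.Smooth.of_equiv ({ eB with
    commutes' := fun a' => by
      change eB (algebraMap A B (eA.symm a')) = algebraMap A' B' a'
      rw [h, RingEquiv.apply_symm_apply] } : B ≃ₐ[A'] B')

end smooth

section equiv

variable (p : ℕ) [Fact p.Prime] {A : Type u} [CommRing A] [CharP A p] {B : Type v} [CommRing B]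
  [Algebra A B] [CharP B p] {A' : Type u'} [CommRing A'] [CharP A' p] {B' : Type v'} [CommRing B']
  [Algebra A' B'] [CharP B' p]
  (eA : A ≃+* A') (eB : B ≃+* B')
  (h : ∀ a, eB (algebraMap A B a) = algebraMap A' B' (eA a))

include h in
lemma symm_compat (a : A') : eB.symm (algebraMap A' B' a) = algebraMap A B (eA.symm a) := by
  apply eB.injective
  rw [RingEquiv.apply_symm_apply, h, RingEquiv.apply_symm_apply]

lemma bcMap_symm_bcMap (x : BaseChange p A B) :
    bcMap p (eA.symm : A' →+* A) (eB.symm : B' →+* B) (symm_compat eA eB h)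
      (bcMap p (eA : A →+* A') (eB : B →+* B') h x) = x := by
  induction x using TensorProduct.induction_on with
  | zero => simp
  | tmul b t =>
    rw [bcMap_tmul, bcMap_tmul, twistMap_apply, twistMap_apply]
    simp
  | add x y hx hy => rw [map_add, map_add, hx, hy]

include h in
/-- Flatness of the relative Frobenius is invariant under isomorphisms of the pair `(A, B)`. -/
theorem flat_relFrob_of_equiv (hf : (relFrob p A' B').Flat) : (relFrob p A B).Flat := by
  have hbij : Function.Bijective (bcMap p (eA : A →+* A') (eB : B →+* B') h) := by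
    constructor
    · intro x y hxy
      rw [← bcMap_symm_bcMap p eA eB h x, ← bcMap_symm_bcMap p eA eB h y, hxy]
    · intro y
      refine ⟨bcMap p (eA.symm : A' →+* A) (eB.symm : B' →+* B) (symm_compat eA eB h) y, ?_⟩
      have := bcMap_symm_bcMap p eA.symm eB.symm (symm_compat eA eB h) y
      simpa using this
  have heq : relFrob p A B = ((eB.symm : B' →+* B).comp (relFrob p A' B')).comp
      (bcMap p (eA : A →+* A') (eB : B →+* B') h) := by
    refine RingHom.ext fun x => ?_
    simp only [RingHom.coe_comp, Function.comp_apply, RingHom.coe_coe]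
    rw [relFrob_bcMap]
    simp
  rw [heq]
  exact (RingHom.Flat.of_bijective hbij).comp (hf.comp (RingHom.Flat.of_bijective eB.symm.bijective))

end equiv

end Groth.Agent.R2.H47.RelFrobUniv
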