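import Mathlib
import Groth.Agent.R2.H47RelFrobSm3
import Groth.Agent.R2.H47RelFrobUniv

set_option autoImplicit false
universe u v

namespace Groth.Agent.R2.H47.RelFrobGlue

open CategoryTheory Limits in
/-- Ring-hom form of Zariski gluing of flatness on the source of `φ : R → B` (w.r.t. a principal
open cover of `R`). -/
theorem glue_ringHom_flat {R B : Type u} [CommRing R] [CommRing B] (φ : R →+* B) (s : Set R)
    (hs : Ideal.span s = ⊤)
    (H : ∀ g ∈ s, ∃ (R' : Type u) (_ : CommRing R') (C : Type u) (_ : CommRing C)
      (lam : R →+* R') (rho : R' →+* C) (beta : B →+* C),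
      IsPushout (CommRingCat.ofHom φ) (CommRingCat.ofHom lam) (CommRingCat.ofHom beta)
        (CommRingCat.ofHom rho) ∧
      (letI := lam.toAlgebra; IsLocalization.Away g R') ∧ rho.Flat) :
    φ.Flat := by
  choose R' iR' C iC lam rho beta hpo hloc hflat using fun g : s => H g.1 g.2
  letI : Algebra R B := φ.toAlgebra
  letI : ∀ g, CommRing (R' g) := iR'
  letI : ∀ g, CommRing (C g) := iC
  letI a1 : ∀ g, Algebra R (R' g) := fun g => (lam g).toAlgebra
  letI a2 : ∀ g, Algebra (R' g) (C g) := fun g => (rho g).toAlgebra
  letI a3 : ∀ g, Algebra R (C g) := fun g => ((rho g).comp (lam g)).toAlgebra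
  letI a4 : ∀ g, Algebra B (C g) := fun g => (beta g).toAlgebra
  haveI t1 : ∀ g, IsScalarTower R (R' g) (C g) := fun g =>
    IsScalarTower.of_algebraMap_eq (fun _ => rfl)
  haveI t2 : ∀ g, IsScalarTower R B (C g) := fun g =>
    IsScalarTower.of_algebraMap_eq (fun x => by
      have := congr($((hpo g).w).hom x)
      exact this.symm)
  haveI : ∀ g : s, IsLocalization.Away g.val (R' g) := hloc
  haveI : ∀ g : s, IsLocalizedModule (Submonoid.powers g.val)
      (IsScalarTower.toAlgHom R B (C g)).toLinearMap := fun g => by
    have hpo' : Algebra.IsPushout R B (R' g) (C g) :=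
      CommRingCat.isPushout_iff_isPushout.mp (hpo g)
    exact (isLocalizedModule_iff_isBaseChange (Submonoid.powers g.val) (R' g) _).mpr hpo'.symm.out
  change Module.Flat R B
  refine Module.flat_of_isLocalized_span R B s hs C
    (fun g => (IsScalarTower.toAlgHom R B (C g)).toLinearMap) (fun g => ?_)
  haveI : Module.Flat R (R' g) := IsLocalization.flat (R' g) (Submonoid.powers g.val)
  haveI : Module.Flat (R' g) (C g) := hflat g
  exact Module.Flat.trans R (R' g) (C g)

end Groth.Agent.R2.H47.RelFrobGlue

namespace Groth.Agent.R2.H47.RelFrobSm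

open CategoryTheory Limits TensorProduct FrobAlg KaehlerDifferential
open Groth.Agent.R2.H47.QuietTower Groth.Agent.R2.H47.QuietSwap Groth.Agent.R2.H47.QuietFrobRing

/-- The relative Frobenius of a smooth algebra is flat (single universe). -/
theorem flat_relFrob_of_smooth (p : ℕ) [Fact p.Prime]
    (A : Type u) [CommRing A] [CharP A p] (B : Type u) [CommRing B] [Algebra A B] [CharP B p]
    [Algebra.Smooth A B] : (relFrob p A B).Flat := by
  let s₀ : Set B := {x | ¬ IsNilpotent x ∧ Algebra.IsStandardSmooth A (Localization.Away x)}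
  have hs₀ : Ideal.span s₀ = ⊤ := by
    by_contra hne
    obtain ⟨m, hm, hle⟩ := Ideal.exists_le_maximal _ hne
    haveI := hm.isPrime
    obtain ⟨f, hf, hstd⟩ := Algebra.IsSmoothAt.exists_notMem_isStandardSmooth A m
    refine hf (hle (Ideal.subset_span ⟨fun hnil => hf ?_, hstd⟩))
    obtain ⟨k, hk⟩ := hnil
    exact hm.isPrime.mem_of_pow_mem k (hk ▸ m.zero_mem)
  have hs : Ideal.span (incl p A B '' s₀) = ⊤ := by
    rw [← Ideal.map_span, hs₀, Ideal.map_top]
  refine Groth.Agent.R2.H47.RelFrobGlue.glue_ringHom_flat (relFrob p A B) _ hs ?_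
  rintro _ ⟨x, ⟨hxnil, hxstd⟩, rfl⟩
  haveI : Nontrivial (Localization.Away x) := by
    by_contra hcon
    rw [not_nontrivial_iff_subsingleton] at hcon
    obtain ⟨k, hk⟩ := (IsLocalization.subsingleton_iff (S := Localization.Away x)
      (M := Submonoid.powers x)).mp hcon
    exact hxnil ⟨k, hk⟩
  haveI : CharP (Localization.Away x) p := charP_of_natCast_eq_zero p _ (by
    rw [← map_natCast (algebraMap B (Localization.Away x)), CharP.cast_eq_zero, map_zero])
  haveI : Algebra.Etale B (Localization.Away x) := inferInstance
  have htow := tow_relFrob_of_isStandardSmooth p A (Localization.Away x)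
  haveI : Nontrivial (BaseChange p A (Localization.Away x)) :=
    (relFrob p A (Localization.Away x)).domain_nontrivial
  have hfree := tow_free p _ (CommRingCat.ofHom (relFrob p A (Localization.Away x))) htow
  refine ⟨BaseChange p A (Localization.Away x), inferInstance, Localization.Away x, inferInstance,
    mapBC p A B (Localization.Away x), relFrob p A (Localization.Away x),
    algebraMap B (Localization.Away x), isPushout_relFrob p A B (Localization.Away x),
    isLocalization_mapBC p A B (Localization.Away x) x, ?_⟩
  letI := (relFrob p A (Localization.Away x)).toAlgebra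
  haveI : Module.Free (BaseChange p A (Localization.Away x)) (Localization.Away x) := hfree.1
  change Module.Flat (BaseChange p A (Localization.Away x)) (Localization.Away x)
  infer_instance

/-- **The relative Frobenius of a smooth algebra is flat** (universe polymorphic). -/
theorem flat_relFrob_of_smooth' (p : ℕ) [Fact p.Prime]
    (A : Type u) [CommRing A] [CharP A p] (B : Type v) [CommRing B] [Algebra A B] [CharP B p]
    [Algebra.Smooth A B] : (relFrob p A B).Flat := by
  let eA : A ≃+* ULift.{max u v} A := ULift.ringEquiv.symm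
  let eB : B ≃+* ULift.{max u v} B := ULift.ringEquiv.symm
  let φ : ULift.{max u v} A →+* ULift.{max u v} B :=
    ((eB : B →+* ULift.{max u v} B).comp (algebraMap A B)).comp
      (eA.symm : ULift.{max u v} A →+* A)
  letI : Algebra (ULift.{max u v} A) (ULift.{max u v} B) := φ.toAlgebra
  have h : ∀ a, eB (algebraMap A B a) = algebraMap (ULift.{max u v} A) (ULift.{max u v} B) (eA a) :=
    fun a => rfl
  haveI : Algebra.Smooth (ULift.{max u v} A) (ULift.{max u v} B) :=
    Groth.Agent.R2.H47.RelFrobUniv.smooth_of_ringEquiv eA eB h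
  exact Groth.Agent.R2.H47.RelFrobUniv.flat_relFrob_of_equiv p eA eB h
    (flat_relFrob_of_smooth p (ULift.{max u v} A) (ULift.{max u v} B))

end Groth.Agent.R2.H47.RelFrobSm
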