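import Groth.Agent.R2.H47InfSq
import Groth.Agent.S9885
import Groth.Agent.Lib.Helper9ShfGrp

/-!
# An algebraic space is the colimit of its affine etale charts (helper47)

Zariski gluing of maps `h_U ⟶ F` into an fppf sheaf over open covers, and the fact that a functorial
family of maps `h_W ⟶ F` indexed by the affine etale charts `c : h_W ⟶ T'` of an algebraic space `T'`
comes from a unique map `T' ⟶ F`.
-/

set_option autoImplicit false
universe u
open CategoryTheory CategoryTheory.Limits AlgebraicGeometry Opposite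
open AlgSp

namespace Groth.Agent.R2.H47.SpColim

open Groth.Agent.S13210 Groth.Agent.R2.H47.InfSq

variable {S : Scheme.{u}}

/-! ## Restriction to opens -/

/-- the open subscheme `V` of `U`, over `S`. -/
noncomputable abbrev res (U : Over S) (V : U.left.Opens) : Over S := Over.mk (V.ι ≫ U.hom)

/-- the inclusion of the open subscheme. -/
noncomputable def resι (U : Over S) (V : U.left.Opens) : res U V ⟶ U := Over.homMk V.ι rfl

lemma resι_left (U : Over S) (V : U.left.Opens) : (resι U V).left = V.ι := rfl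

instance (U : Over S) (V : U.left.Opens) : IsOpenImmersion (resι U V).left :=
  inferInstanceAs (IsOpenImmersion V.ι)

instance (U : Over S) (V : U.left.Opens) : Mono (resι U V) := by
  have : Mono ((Over.forget S).map (resι U V)) := inferInstanceAs (Mono V.ι)
  exact (Over.forget S).mono_of_mono_map this

/-- the restriction of a morphism to opens. -/
noncomputable def resMap {Z U : Over S} (g : Z ⟶ U) (O : Z.left.Opens) (V : U.left.Opens)
    (h : O ≤ g.left ⁻¹ᵁ V) : res Z O ⟶ res U V :=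
  Over.homMk (g.left.resLE V O h) (by
    change _ ≫ V.ι ≫ U.hom = O.ι ≫ Z.hom
    rw [← Category.assoc, Scheme.Hom.resLE_comp_ι, Category.assoc, Over.w g])

lemma resMap_resι {Z U : Over S} (g : Z ⟶ U) (O : Z.left.Opens) (V : U.left.Opens)
    (h : O ≤ g.left ⁻¹ᵁ V) : resMap g O V h ≫ resι U V = resι Z O ≫ g := by
  apply Over.OverMorphism.ext
  exact Scheme.Hom.resLE_comp_ι _ _

/-- a family of opens covering `U` gives an fppf covering. -/
lemma mem_J_of_openCover (U : Over S) {ι : Type*} (V : ι → U.left.Opens)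
    (hV : ∀ x : U.left, ∃ i, x ∈ V i) :
    Sieve.ofArrows (fun i => res U (V i)) (fun i => resι U (V i)) ∈ AlgSp.J S U := by
  apply mem_J_of_fppf
  · intro x
    obtain ⟨i, hi⟩ := hV x
    refine ⟨i, ?_⟩
    rw [resι_left, Scheme.Opens.range_ι]
    exact hi
  · intro i; infer_instance
  · intro i; infer_instance

/-- a morphism whose image lies in an open factors through it. -/
lemma exists_factor_res {Z U : Over S} (z : Z ⟶ U) (V : U.left.Opens)
    (h : ∀ x : Z.left, z.left x ∈ V) : ∃ r : Z ⟶ res U V, r ≫ resι U V = z := by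
  have hle : (⊤ : Z.left.Opens) ≤ z.left ⁻¹ᵁ V := fun x _ => h x
  refine ⟨Over.homMk ((Z.left.topIso).inv ≫ z.left.resLE V ⊤ hle) ?_, ?_⟩
  · change (_ ≫ _) ≫ V.ι ≫ U.hom = Z.hom
    rw [Category.assoc, ← Category.assoc (z.left.resLE V ⊤ hle), Scheme.Hom.resLE_comp_ι,
      Category.assoc, Over.w z, ← Category.assoc]
    simp
  · apply Over.OverMorphism.ext
    change (_ ≫ _) ≫ V.ι = z.left
    rw [Category.assoc, Scheme.Hom.resLE_comp_ι, ← Category.assoc]
    simp

/-- Zariski gluing of maps into a sheaf: compatibility is only needed on pairwise intersections. -/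
lemma glue_of_openCover {F : AlgSp.Sp S} (U : Over S) {ι : Type*} (V : ι → U.left.Opens)
    (hV : ∀ x : U.left, ∃ i, x ∈ V i) (m : ∀ i, (AlgSp.yon S).obj (res U (V i)) ⟶ F)
    (hm : ∀ i j, (AlgSp.yon S).map (resMap (𝟙 U) (V i ⊓ V j) (V i) (fun _ hx => hx.1)) ≫ m i =
      (AlgSp.yon S).map (resMap (𝟙 U) (V i ⊓ V j) (V j) (fun _ hx => hx.2)) ≫ m j) :
    ∃ l : (AlgSp.yon S).obj U ⟶ F, ∀ i, (AlgSp.yon S).map (resι U (V i)) ≫ l = m i := by
  refine glue_of_cover _ _ (mem_J_of_openCover U V hV) m ?_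
  intro i j Z p q hpq
  have hz : ∀ x : Z.left, (p ≫ resι U (V i)).left x ∈ V i ⊓ V j := by
    intro x
    constructor
    · rw [Over.comp_left, Scheme.Hom.comp_apply, resι_left]
      exact (p.left x).2
    · rw [hpq, Over.comp_left, Scheme.Hom.comp_apply, resι_left]
      exact (q.left x).2
  obtain ⟨r, hr⟩ := exists_factor_res (p ≫ resι U (V i)) (V i ⊓ V j) hz
  have h1 : r ≫ resMap (𝟙 U) (V i ⊓ V j) (V i) (fun _ hx => hx.1) = p := by
    rw [← cancel_mono (resι U (V i)), Category.assoc, resMap_resι, Category.comp_id, hr]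
  have h2 : r ≫ resMap (𝟙 U) (V i ⊓ V j) (V j) (fun _ hx => hx.2) = q := by
    rw [← cancel_mono (resι U (V j)), Category.assoc, resMap_resι, Category.comp_id, hr, hpq]
  rw [← h1, ← h2, Functor.map_comp, Functor.map_comp, Category.assoc, Category.assoc, hm i j]


/-- around every point, a morphism maps an affine open into an affine open. -/
lemma exists_affine_refine {Z U : Over S} (g : Z ⟶ U) (x : Z.left) :
    ∃ (O : Z.left.Opens) (V : U.left.Opens), IsAffineOpen O ∧ IsAffineOpen V ∧ x ∈ O ∧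
      O ≤ g.left ⁻¹ᵁ V := by
  obtain ⟨V, hV, hxV, -⟩ := (TopologicalSpace.Opens.isBasis_iff_nbhd.mp
    U.left.isBasis_affineOpens) (show g.left x ∈ (⊤ : U.left.Opens) from trivial)
  obtain ⟨O, hO, hxO, hOV⟩ := (TopologicalSpace.Opens.isBasis_iff_nbhd.mp
    Z.left.isBasis_affineOpens) (show x ∈ g.left ⁻¹ᵁ V from hxV)
  exact ⟨O, V, hO, hV, hxO, hOV⟩

/-- two-map version of `exists_affine_refine`. -/
lemma exists_affine_refine₂ {Z U : Over S} (g₁ g₂ : Z ⟶ U) (x : Z.left) :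
    ∃ (O : Z.left.Opens) (V₁ V₂ : U.left.Opens), IsAffineOpen O ∧ IsAffineOpen V₁ ∧
      IsAffineOpen V₂ ∧ x ∈ O ∧ O ≤ g₁.left ⁻¹ᵁ V₁ ∧ O ≤ g₂.left ⁻¹ᵁ V₂ := by
  obtain ⟨V₁, hV₁, hxV₁, -⟩ := (TopologicalSpace.Opens.isBasis_iff_nbhd.mp
    U.left.isBasis_affineOpens) (show g₁.left x ∈ (⊤ : U.left.Opens) from trivial)
  obtain ⟨V₂, hV₂, hxV₂, -⟩ := (TopologicalSpace.Opens.isBasis_iff_nbhd.mp
    U.left.isBasis_affineOpens) (show g₂.left x ∈ (⊤ : U.left.Opens) from trivial)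
  obtain ⟨O, hO, hxO, hOV⟩ := (TopologicalSpace.Opens.isBasis_iff_nbhd.mp
    Z.left.isBasis_affineOpens) (show x ∈ g₁.left ⁻¹ᵁ V₁ ⊓ g₂.left ⁻¹ᵁ V₂ from ⟨hxV₁, hxV₂⟩)
  exact ⟨O, V₁, V₂, hO, hV₁, hV₂, hxO, fun y hy => (hOV hy).1, fun y hy => (hOV hy).2⟩

lemma repWith_etale_yon_map_comp {T' : AlgSp.Sp S} {W W' : Over S} (q : W' ⟶ W) (hq : Etale q.left)
    (c : (AlgSp.yon S).obj W ⟶ T') (hc : AlgSp.RepWith @Etale c) :
    AlgSp.RepWith @Etale ((AlgSp.yon S).map q ≫ c) :=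
  (AlgSp.RepWith @Etale).comp_mem _ _ ((AlgSp.repWith_yon_map_iff _ _).2 hq) hc

/-- a representable etale surjective map of sheaves is an epimorphism. -/
lemma epi_of_etale_surj {F G : AlgSp.Sp S} (p : F ⟶ G) (hp : AlgSp.RepWith @Etale p)
    (hps : AlgSp.RepWith @Surjective p) : Epi p := by
  rw [← Sheaf.isLocallySurjective_iff_epi]
  refine Groth.Agent.S9885.isLocallySurjective_of_repWith p ⟨hp.1, fun _ _ g fst snd sq => ?_⟩
    ⟨hp.1, fun _ _ g fst snd sq => ?_⟩ hps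
  · have : Etale snd.left := hp.2 g fst snd sq
    change Flat snd.left
    infer_instance
  · have : Etale snd.left := hp.2 g fst snd sq
    change LocallyOfFinitePresentation snd.left
    infer_instance


/-! ## An algebraic space is the colimit of its affine etale charts -/

section colim

open Groth.Agent.Lib.Helper9

variable {T' F : AlgSp.Sp S}

/-- maps out of an algebraic space agree if they agree on all affine etale charts. -/
theorem hom_ext_of_charts (hT' : AlgSp.IsAlgSpace T') (l l' : T' ⟶ F)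
    (h : ∀ (W : Over S) (c : (AlgSp.yon S).obj W ⟶ T'), IsAffine W.left → AlgSp.RepWith @Etale c →
      c ≫ l = c ≫ l') : l = l' := by
  obtain ⟨U, p, hp, hps⟩ := hT'.atlas
  have hpe : Epi p := epi_of_etale_surj p hp hps
  rw [← cancel_epi p]
  refine hom_ext_of_cover (fun V : U.left.affineOpens => res U V.1) (fun V => resι U V.1)
    (mem_J_of_openCover U _ (fun x => ?_)) _ _ (fun V => ?_)
  · obtain ⟨V, hV, hxV, -⟩ := (TopologicalSpace.Opens.isBasis_iff_nbhd.mp
      U.left.isBasis_affineOpens) (show x ∈ (⊤ : U.left.Opens) from trivial)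
    exact ⟨⟨V, hV⟩, hxV⟩
  · rw [← Category.assoc, ← Category.assoc]
    exact h _ _ V.2 (repWith_etale_yon_map_comp _ inferInstance p hp)

/-- a functorial family of maps on the affine etale charts of an algebraic space glues to a map out of the
algebraic space. -/
theorem exists_of_chartFamily (hT' : AlgSp.IsAlgSpace T')
    (m : ∀ (W : Over S) (c : (AlgSp.yon S).obj W ⟶ T'), IsAffine W.left → AlgSp.RepWith @Etale c →
      ((AlgSp.yon S).obj W ⟶ F))
    (funct : ∀ {W W' : Over S} (q : W' ⟶ W) (c : (AlgSp.yon S).obj W ⟶ T')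
      (c' : (AlgSp.yon S).obj W' ⟶ T') (hW : IsAffine W.left) (hW' : IsAffine W'.left)
      (hc : AlgSp.RepWith @Etale c) (hc' : AlgSp.RepWith @Etale c'), c' = (AlgSp.yon S).map q ≫ c →
      m W' c' hW' hc' = (AlgSp.yon S).map q ≫ m W c hW hc) :
    ∃ l : T' ⟶ F, ∀ (W : Over S) (c : (AlgSp.yon S).obj W ⟶ T') (hW : IsAffine W.left)
      (hc : AlgSp.RepWith @Etale c), c ≫ l = m W c hW hc := by
  obtain ⟨U, p, hp, hps⟩ := hT'.atlas
  have hpe : Epi p := epi_of_etale_surj p hp hps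
  have hcV : ∀ V : U.left.Opens, AlgSp.RepWith @Etale ((AlgSp.yon S).map (resι U V) ≫ p) :=
    fun V => repWith_etale_yon_map_comp _ inferInstance p hp
  let mV : ∀ V : U.left.affineOpens, (AlgSp.yon S).obj (res U V.1) ⟶ F :=
    fun V => m (res U V.1) _ V.2 (hcV V.1)
  -- the key compatibility
  have club : ∀ {Z : Over S} (hZ : IsAffine Z.left) (V₁ V₂ : U.left.affineOpens)
      (q₁ : Z ⟶ res U V₁.1) (q₂ : Z ⟶ res U V₂.1),
      (AlgSp.yon S).map (q₁ ≫ resι U V₁.1) ≫ p = (AlgSp.yon S).map (q₂ ≫ resι U V₂.1) ≫ p →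
      AlgSp.RepWith @Etale ((AlgSp.yon S).map (q₁ ≫ resι U V₁.1) ≫ p) →
      (AlgSp.yon S).map q₁ ≫ mV V₁ = (AlgSp.yon S).map q₂ ≫ mV V₂ := by
    intro Z hZ V₁ V₂ q₁ q₂ h hq
    have e1 := funct q₁ _ ((AlgSp.yon S).map (q₁ ≫ resι U V₁.1) ≫ p) V₁.2 hZ (hcV V₁.1) hq
      (by rw [Functor.map_comp, Category.assoc])
    have e2 := funct q₂ _ ((AlgSp.yon S).map (q₁ ≫ resι U V₁.1) ≫ p) V₂.2 hZ (hcV V₂.1) hq
      (by rw [h, Functor.map_comp, Category.assoc])
    exact e1.symm.trans e2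
  have hcovU : ∀ x : U.left, ∃ V : U.left.affineOpens, x ∈ V.1 := by
    intro x
    obtain ⟨V, hV, hxV, -⟩ := (TopologicalSpace.Opens.isBasis_iff_nbhd.mp
      U.left.isBasis_affineOpens) (show x ∈ (⊤ : U.left.Opens) from trivial)
    exact ⟨⟨V, hV⟩, hxV⟩
  -- gluing on `U`
  obtain ⟨mU, hmU⟩ := glue_of_openCover U (fun V : U.left.affineOpens => V.1) hcovU mV (by
    intro V V'
    refine hom_ext_of_cover
      (fun O : (res U (V.1 ⊓ V'.1)).left.affineOpens => res (res U (V.1 ⊓ V'.1)) O.1)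
      (fun O => resι _ O.1) (mem_J_of_openCover _ _ (fun x => ?_)) _ _ (fun O => ?_)
    · obtain ⟨O, hO, hxO, -⟩ := (TopologicalSpace.Opens.isBasis_iff_nbhd.mp
        (res U (V.1 ⊓ V'.1)).left.isBasis_affineOpens)
        (show x ∈ (⊤ : (res U (V.1 ⊓ V'.1)).left.Opens) from trivial)
      exact ⟨⟨O, hO⟩, hxO⟩
    · rw [← Category.assoc, ← Category.assoc, ← Functor.map_comp, ← Functor.map_comp]
      have hq : ∀ (V'' : U.left.Opens) (hle : V.1 ⊓ V'.1 ≤ V''),
          (resι (res U (V.1 ⊓ V'.1)) O.1 ≫ resMap (𝟙 U) (V.1 ⊓ V'.1) V'' hle) ≫ resι U V'' =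
            resι _ O.1 ≫ resι U (V.1 ⊓ V'.1) := by
        intro V'' hle
        rw [Category.assoc, resMap_resι, Category.comp_id]
      apply club (Z := res (res U (V.1 ⊓ V'.1)) O.1) O.2 V V'
      · rw [hq V.1 (fun _ hx => hx.1), hq V'.1 (fun _ hx => hx.2)]
      · rw [hq V.1 (fun _ hx => hx.1)]
        refine repWith_etale_yon_map_comp _ ?_ p hp
        rw [Over.comp_left]
        infer_instance)
  -- the kernel pair of the atlas
  obtain ⟨R, pr₂, pr₁', hR⟩ := hp.1 p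
  obtain ⟨pr₁, rfl⟩ := (AlgSp.yon S).map_surjective pr₁'
  have he2 : Etale pr₂.left := hp.2 _ _ pr₂ hR
  have hRc : (AlgSp.yon S).map pr₁ ≫ mU = (AlgSp.yon S).map pr₂ ≫ mU := by
    refine hom_ext_of_cover
      (ι := {O : R.left.Opens // IsAffineOpen O ∧ ∃ V₁ V₂ : U.left.Opens, IsAffineOpen V₁ ∧
        IsAffineOpen V₂ ∧ O ≤ pr₁.left ⁻¹ᵁ V₁ ∧ O ≤ pr₂.left ⁻¹ᵁ V₂})
      (fun O => res R O.1) (fun O => resι R O.1) (mem_J_of_openCover R _ (fun x => ?_)) _ _ ?_
    · obtain ⟨O, V₁, V₂, hO, hV₁, hV₂, hxO, h1, h2⟩ := exists_affine_refine₂ pr₁ pr₂ x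
      exact ⟨⟨O, hO, V₁, V₂, hV₁, hV₂, h1, h2⟩, hxO⟩
    · rintro ⟨O, hO, V₁, V₂, hV₁, hV₂, h1, h2⟩
      rw [← Category.assoc, ← Category.assoc, ← Functor.map_comp, ← Functor.map_comp,
        ← resMap_resι pr₁ O V₁ h1, ← resMap_resι pr₂ O V₂ h2, Functor.map_comp, Functor.map_comp,
        Category.assoc, Category.assoc, hmU ⟨V₁, hV₁⟩, hmU ⟨V₂, hV₂⟩]
      have hcomm : (AlgSp.yon S).map (resMap pr₁ O V₁ h1 ≫ resι U V₁) ≫ p =
          (AlgSp.yon S).map (resMap pr₂ O V₂ h2 ≫ resι U V₂) ≫ p := by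
        rw [resMap_resι, resMap_resι, Functor.map_comp, Functor.map_comp, Category.assoc,
          Category.assoc, hR.w]
      refine club (Z := res R O) hO ⟨V₁, hV₁⟩ ⟨V₂, hV₂⟩ _ _ hcomm ?_
      rw [hcomm, resMap_resι]
      refine repWith_etale_yon_map_comp _ ?_ p hp
      rw [Over.comp_left]
      infer_instance
  -- descent
  obtain ⟨l, hl⟩ := ToposLike.exists_desc_of_epi p hpe mU (by
    intro W a₁ a₂ h
    have h1 : hR.lift a₁ a₂ h ≫ (AlgSp.yon S).map pr₁ = a₁ := hR.lift_fst _ _ _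
    have h2 : hR.lift a₁ a₂ h ≫ (AlgSp.yon S).map pr₂ = a₂ := hR.lift_snd _ _ _
    calc a₁ ≫ mU = (hR.lift a₁ a₂ h ≫ (AlgSp.yon S).map pr₁) ≫ mU := by rw [h1]
      _ = hR.lift a₁ a₂ h ≫ (AlgSp.yon S).map pr₂ ≫ mU := by rw [Category.assoc, hRc]
      _ = a₂ ≫ mU := by rw [← Category.assoc, h2])
  refine ⟨l, fun W c hW hc => ?_⟩
  obtain ⟨WU, e, g', hpb⟩ := hp.1 c
  obtain ⟨g, rfl⟩ := (AlgSp.yon S).map_surjective g'
  have hee : Etale e.left := hp.2 _ _ e hpb
  have hes : Surjective e.left := hps.2 _ _ e hpb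
  refine hom_ext_of_cover (fun _ : Unit => WU) (fun _ => e)
    (mem_J_of_fppf _ _ (fun x => ⟨(), e.left.surjective x⟩) (fun _ => inferInstance)
      (fun _ => inferInstance)) _ _ (fun _ => ?_)
  refine hom_ext_of_cover
    (ι := {O : WU.left.Opens // IsAffineOpen O ∧ ∃ V : U.left.Opens, IsAffineOpen V ∧
      O ≤ g.left ⁻¹ᵁ V})
    (fun O => res WU O.1) (fun O => resι WU O.1) (mem_J_of_openCover WU _ (fun x => ?_)) _ _ ?_
  · obtain ⟨O, V, hO, hV, hxO, h1⟩ := exists_affine_refine g x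
    exact ⟨⟨O, hO, V, hV, h1⟩, hxO⟩
  · rintro ⟨O, hO, V, hV, h1⟩
    have hc'' : AlgSp.RepWith @Etale ((AlgSp.yon S).map (resι WU O ≫ e) ≫ c) := by
      refine repWith_etale_yon_map_comp _ ?_ c hc
      rw [Over.comp_left]
      infer_instance
    have e1 := funct (resι WU O ≫ e) c _ hW hO hc hc'' rfl
    have e2 := funct (resMap g O V h1) _ ((AlgSp.yon S).map (resι WU O ≫ e) ≫ c) hV hO (hcV V) hc''
      (by rw [← Category.assoc, ← Functor.map_comp, resMap_resι, Functor.map_comp,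
        Functor.map_comp, Category.assoc, Category.assoc, hpb.w])
    calc (AlgSp.yon S).map (resι WU O) ≫ (AlgSp.yon S).map e ≫ c ≫ l
        = (AlgSp.yon S).map (resι WU O) ≫ (AlgSp.yon S).map g ≫ p ≫ l := by
          rw [← Category.assoc ((AlgSp.yon S).map e), ← hpb.w, Category.assoc]
      _ = (AlgSp.yon S).map (resMap g O V h1) ≫ mV ⟨V, hV⟩ := by
          rw [hl, ← Category.assoc, ← Functor.map_comp, ← resMap_resι g O V h1, Functor.map_comp,
            Category.assoc, hmU ⟨V, hV⟩]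
      _ = (AlgSp.yon S).map (resι WU O) ≫ (AlgSp.yon S).map e ≫ m W c hW hc := by
          rw [← e2, e1, Functor.map_comp, Category.assoc]

/-- every point of an algebraic space factors, fppf locally, through an affine etale chart. -/
theorem exists_chart_cover (hT' : AlgSp.IsAlgSpace T') {Z : Over S}
    (t : (AlgSp.yon S).obj Z ⟶ T') :
    ∃ (ι : Type u) (O : ι → Over S) (o : ∀ i, O i ⟶ Z) (_ : Sieve.ofArrows O o ∈ AlgSp.J S Z)
      (V : ι → Over S) (c : ∀ i, (AlgSp.yon S).obj (V i) ⟶ T') (r : ∀ i, O i ⟶ V i),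
      (∀ i, IsAffine (V i).left) ∧ (∀ i, AlgSp.RepWith @Etale (c i)) ∧
        ∀ i, (AlgSp.yon S).map (o i) ≫ t = (AlgSp.yon S).map (r i) ≫ c i := by
  obtain ⟨U, p, hp, hps⟩ := hT'.atlas
  obtain ⟨Z', e, g', hpb⟩ := hp.1 t
  obtain ⟨g, rfl⟩ := (AlgSp.yon S).map_surjective g'
  have hee : Etale e.left := hp.2 _ _ e hpb
  have hes : Surjective e.left := hps.2 _ _ e hpb
  let ι := {O : Z'.left.Opens × U.left.Opens // IsAffineOpen O.1 ∧ IsAffineOpen O.2 ∧
    O.1 ≤ g.left ⁻¹ᵁ O.2}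
  refine ⟨ι, fun i => res Z' i.1.1, fun i => resι Z' i.1.1 ≫ e, ?_, fun i => res U i.1.2,
    fun i => (AlgSp.yon S).map (resι U i.1.2) ≫ p, fun i => resMap g i.1.1 i.1.2 i.2.2.2,
    fun i => i.2.2.1, fun i => repWith_etale_yon_map_comp _ inferInstance p hp, fun i => ?_⟩
  · apply mem_J_of_fppf
    · intro z
      obtain ⟨z', rfl⟩ := e.left.surjective z
      obtain ⟨O, V, hO, hV, hxO, h1⟩ := exists_affine_refine g z'
      refine ⟨⟨(O, V), hO, hV, h1⟩, ⟨z', hxO⟩, ?_⟩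
      rw [Over.comp_left, Scheme.Hom.comp_apply]
      rfl
    · intro i
      rw [Over.comp_left]
      infer_instance
    · intro i
      rw [Over.comp_left]
      infer_instance
  · rw [Functor.map_comp, Category.assoc, ← hpb.w, ← Category.assoc, ← Functor.map_comp,
      ← resMap_resι g i.1.1 i.1.2 i.2.2.2, Functor.map_comp, Category.assoc]

end colim

end Groth.Agent.R2.H47.SpColim
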