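import Groth.Agent.Lib.Helper2Thick
import Groth.Agent.R2.H47SpThick

/-!
# Base change of square zero thickenings (helper47)
-/

set_option autoImplicit false
universe u
open CategoryTheory CategoryTheory.Limits AlgebraicGeometry Opposite
open AlgSp

namespace Groth.Agent.R2.H47.ThickBC

open Groth.Agent.Lib.Helper2.Thick

/-- the exponent of nilpotency of the ideal of a thickening is preserved under base change. -/
theorem ker_pow_baseChange {X X' Y Y' : Scheme.{u}} (iX : X ⟶ X') (iY : Y ⟶ Y') (f : X ⟶ Y)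
    (f' : X' ⟶ Y') (hY1 : IsClosedImmersion iY) (hY2 : Surjective iY) (n : ℕ)
    (hn : iY.ker ^ n = ⊥) (hc : IsPullback iX f f' iY) : iX.ker ^ n = ⊥ := by
  have hY : MoreMor.IsFiniteOrderThickening iY :=
    ⟨⟨hY1, hY2⟩, ⟨n, by rw [Scheme.IdealSheafData.zero_eq_bot]; exact hn⟩⟩
  have : IsClosedImmersion iX :=
    MorphismProperty.of_isPullback (P := @IsClosedImmersion) hc.flip hY1
  rw [eq_bot_iff]
  let ι := {V' : X'.affineOpens // ∃ U' : Y'.affineOpens, V'.1 ≤ f' ⁻¹ᵁ U'.1}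
  refine Scheme.IdealSheafData.le_of_iSup_eq_top (ι := ι) (fun i => i.1) ?_ ?_
  · rw [eq_top_iff]
    intro x _
    obtain ⟨_, ⟨U, hU, rfl⟩, hxU, -⟩ :=
      Y'.isBasis_affineOpens.exists_subset_of_mem_open (Set.mem_univ (f' x)) isOpen_univ
    obtain ⟨_, ⟨V, hV, rfl⟩, hxV, hVU : V ≤ f' ⁻¹ᵁ U⟩ :=
      X'.isBasis_affineOpens.exists_subset_of_mem_open hxU (f' ⁻¹ᵁ U).isOpen
    exact TopologicalSpace.Opens.mem_iSup.mpr ⟨⟨⟨V, hV⟩, ⟨U, hU⟩, hVU⟩, hxV⟩
  · rintro ⟨⟨V', hV'⟩, ⟨U', hU'⟩, e⟩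
    obtain ⟨hUT, hUY, hπ, -, hpo⟩ := fthick_data iX iY f f' hY hc U' hU' V' hV' e
    have hker := ker_le_map hpo hπ
    have hn' : RingHom.ker (iY.appLE U' (iY ⁻¹ᵁ U') le_rfl).hom ^ n = ⊥ := by
      have := congr(($hn).ideal ⟨U', hU'⟩)
      rw [← Scheme.Hom.app_eq_appLE]
      simpa using this
    show (iX.ker ^ n).ideal ⟨V', hV'⟩ ≤ (⊥ : X'.IdealSheafData).ideal ⟨V', hV'⟩
    rw [Scheme.IdealSheafData.ideal_pow, Scheme.IdealSheafData.ideal_bot, Pi.pow_apply,
      Scheme.Hom.ker_apply]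
    have h1 : RingHom.ker (iX.app V').hom ≤
        (RingHom.ker (iY.appLE U' (iY ⁻¹ᵁ U') le_rfl).hom).map (f'.appLE U' V' e).hom := by
      intro x hx
      apply hker
      rw [RingHom.mem_ker] at hx ⊢
      rw [Scheme.Hom.appLE, CommRingCat.hom_comp, RingHom.comp_apply, hx, map_zero]
    calc RingHom.ker (iX.app V').hom ^ n
        ≤ ((RingHom.ker (iY.appLE U' (iY ⁻¹ᵁ U') le_rfl).hom).map (f'.appLE U' V' e).hom) ^ n :=
          Ideal.pow_right_mono h1 n
      _ = ⊥ := by rw [← Ideal.map_pow, hn', Ideal.map_bot]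
      _ ≤ _ := le_rfl

/-- square zero closed immersions which are surjective are stable under base change. -/
theorem sqZero_baseChange {X X' Y Y' : Scheme.{u}} (iX : X ⟶ X') (iY : Y ⟶ Y') (f : X ⟶ Y)
    (f' : X' ⟶ Y') (hY1 : IsClosedImmersion iY) (hY2 : Surjective iY) (hY3 : AlgSp.sqZero iY)
    (hc : IsPullback iX f f' iY) : AlgSp.sqZero iX := by
  have h := ker_pow_baseChange iX iY f f' hY1 hY2 2 (by rw [pow_two]; exact hY3) hc
  rw [pow_two] at h
  exact h


variable {S : Scheme.{u}}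

/-- a surjective square zero closed immersion of schemes over `S` is a first order thickening of sheaves. -/
theorem isFOThickMor_yon_map {W₀ W : Over S} (k : W₀ ⟶ W) (hk1 : IsClosedImmersion k.left)
    (hk2 : Surjective k.left) (hk3 : AlgSp.sqZero k.left) :
    AlgSp.IsFOThickMor ((AlgSp.yon S).map k) := by
  refine ⟨(AlgSp.isThickMor_yon_map_iff k).2 ⟨hk1, hk2⟩, ?_⟩
  intro V W' b fst snd hV hb hpb
  obtain ⟨b, rfl⟩ := (AlgSp.yon S).map_surjective b
  obtain ⟨fst, rfl⟩ := (AlgSp.yon S).map_surjective fst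
  have hw : fst ≫ k = snd ≫ b := by
    apply (AlgSp.yon S).map_injective
    rw [Functor.map_comp, Functor.map_comp]
    exact hpb.w
  have hO : IsPullback fst snd k b := IsPullback.of_map (AlgSp.yon S) hw hpb
  have hsch := hO.map (Over.forget S)
  exact sqZero_baseChange snd.left k.left fst.left b.left hk1 hk2 hk3 hsch.flip

end Groth.Agent.R2.H47.ThickBC
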