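import Mathlib
import Groth.Prelude.Def_AlgSpInf
import Groth.Prelude.Def_AlgSp4

/-!
# Chart squares of a cartesian morphism of thickenings of algebraic spaces (helper47)
-/

set_option autoImplicit false
universe u
open CategoryTheory CategoryTheory.Limits AlgebraicGeometry
open AlgSp

namespace Groth.Agent.R2.H47.ThickLoc

variable {S : Scheme.{u}}

/-- Given a cartesian morphism of thickenings `(f, f') : (X ⊂ X') ⟶ (Y ⊂ Y')` and a chart diagram
`a' ≫ f' = h_{h'} ≫ b'` of `f'`, the base changes to `X`, `Y` form a chart diagram of `f` and the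
resulting square of schemes is a cartesian morphism of thickenings. -/
theorem exists_chart_square {X X' Y Y' : AlgSp.Sp S} (i : X ⟶ X') (j : Y ⟶ Y') (f : X ⟶ Y)
    (f' : X' ⟶ Y') (hi : AlgSp.IsThickMor i) (hj : AlgSp.IsThickMor j)
    (hcart : IsPullback i f f' j) {U' V' : Over S} (a' : (AlgSp.yon S).obj U' ⟶ X')
    (b' : (AlgSp.yon S).obj V' ⟶ Y') (h' : U' ⟶ V') (ha' : AlgSp.RepWith @Etale a')
    (hb' : AlgSp.RepWith @Etale b') (w' : a' ≫ f' = (AlgSp.yon S).map h' ≫ b') :
    ∃ (U V : Over S) (iU : U ⟶ U') (iV : V ⟶ V') (a : (AlgSp.yon S).obj U ⟶ X)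
      (b : (AlgSp.yon S).obj V ⟶ Y) (h : U ⟶ V),
      AlgSp.RepWith @Etale a ∧ AlgSp.RepWith @Etale b ∧ a ≫ f = (AlgSp.yon S).map h ≫ b ∧
      MoreMor.IsThickening iU.left ∧ MoreMor.IsThickening iV.left ∧
      IsPullback iU.left h.left h'.left iV.left ∧
      IsPullback a ((AlgSp.yon S).map iU) i a' ∧ IsPullback b ((AlgSp.yon S).map iV) j b' := by
  have sqU := hi.rep.isPullback a'
  have sqV := hj.rep.isPullback b'
  have hiU : AlgSp.thick (hi.rep.snd a').left := hi.property_snd a'
  have hiV : AlgSp.thick (hj.rep.snd b').left := hj.property_snd b'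
  set iU := hi.rep.snd a'
  set iV := hj.rep.snd b'
  set a := hi.rep.fst a'
  set b := hj.rep.fst b'
  have ha : AlgSp.RepWith @Etale a :=
    MorphismProperty.of_isPullback (P := AlgSp.RepWith (S := S) @Etale) sqU.flip ha'
  have hb : AlgSp.RepWith @Etale b :=
    MorphismProperty.of_isPullback (P := AlgSp.RepWith (S := S) @Etale) sqV.flip hb'
  have hcond : (a ≫ f) ≫ j = (AlgSp.yon S).map (iU ≫ h') ≫ b' := by
    rw [Category.assoc, ← hcart.w, ← Category.assoc, sqU.w, Category.assoc, w', Functor.map_comp,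
      Category.assoc]
  obtain ⟨h, hh⟩ := (AlgSp.yon S).map_surjective (sqV.lift _ _ hcond)
  have h1 : (AlgSp.yon S).map h ≫ b = a ≫ f := by rw [hh, sqV.lift_fst]
  have h2 : (AlgSp.yon S).map h ≫ (AlgSp.yon S).map iV = (AlgSp.yon S).map (iU ≫ h') := by
    rw [hh, sqV.lift_snd]
  -- the outer rectangle
  have outer : IsPullback (a ≫ f) ((AlgSp.yon S).map iU) j (a' ≫ f') :=
    sqU.paste_horiz hcart.flip
  have outer' : IsPullback ((AlgSp.yon S).map h ≫ b) ((AlgSp.yon S).map iU) j
      ((AlgSp.yon S).map h' ≫ b') := by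
    rw [h1, ← w']; exact outer
  have left : IsPullback ((AlgSp.yon S).map h) ((AlgSp.yon S).map iU) ((AlgSp.yon S).map iV)
      ((AlgSp.yon S).map h') :=
    IsPullback.of_right outer' (by rw [h2, Functor.map_comp]) sqV
  have leftO : IsPullback h iU iV h' := IsPullback.of_map (AlgSp.yon S) (by
    apply (AlgSp.yon S).map_injective
    rw [Functor.map_comp, Functor.map_comp, h2, Functor.map_comp]) left
  have leftS : IsPullback h.left iU.left iV.left h'.left := leftO.map (Over.forget S)
  exact ⟨_, _, iU, iV, a, b, h, ha, hb, h1.symm, hiU, hiV, leftS.flip, sqU, sqV⟩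

end Groth.Agent.R2.H47.ThickLoc
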