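import Mathlib
import Groth.Agent.R2.H47ThickLoc
import Groth.Agent.R2.H47ThickTop
import Groth.Agent.R2.H47SrcFThick
import Groth.Agent.R2.H45HasAtMor
import Groth.Agent.Lib.Helper3LocDimBC

/-!
# Cartesian morphisms of thickenings of algebraic spaces with finite order source thickening
(helper47)
-/

set_option autoImplicit false
set_option linter.style.haveILetI false
universe u
open CategoryTheory CategoryTheory.Limits AlgebraicGeometry
open AlgSp

namespace Groth.Agent.R2.H47.ThickLoc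

variable {S : Scheme.{u}}

/-- for `P` Zariski local at the source, `LocP P` can be tested on chart diagrams with affine
source chart. -/
theorem locP_of_affine_source {P : MorphismProperty Scheme.{u}} [IsZariskiLocalAtSource P]
    {F G : AlgSp.Sp S} (f : F ⟶ G)
    (h : ∀ ⦃U V : Over S⦄ (a : (AlgSp.yon S).obj U ⟶ F) (b : (AlgSp.yon S).obj V ⟶ G)
      (h₀ : U ⟶ V), IsAffine U.left → AlgSp.RepWith @Etale a → AlgSp.RepWith @Etale b →
      a ≫ f = (AlgSp.yon S).map h₀ ≫ b → P h₀.left) : AlgSp.LocP P f := by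
  intro U V a b h₀ ha hb w
  rw [IsZariskiLocalAtSource.iff_of_openCover (P := P) U.left.affineCover]
  intro α
  let Uα : Over S := Over.mk (U.left.affineCover.f α ≫ U.hom)
  let ια : Uα ⟶ U := Over.homMk (U.left.affineCover.f α) rfl
  have hια : AlgSp.RepWith @Etale ((AlgSp.yon S).map ια) :=
    (AlgSp.repWith_yon_map_iff _ _).2
      (show Etale (U.left.affineCover.f α) from inferInstance)
  have := h ((AlgSp.yon S).map ια ≫ a) b (ια ≫ h₀)
    (show IsAffine (U.left.affineCover.X α) from inferInstance)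
    ((AlgSp.repWith_isMultiplicative (S := S) @Etale).comp_mem _ _ hια ha) hb
    (by rw [Category.assoc, w, ← Category.assoc, ← Functor.map_comp])
  exact this

/-- locally of finite type lifts along a cartesian morphism of thickenings whose source
thickening has finite order. -/
theorem locP_lft_of_srcFinThick {X X' Y Y' : AlgSp.Sp S} (i : X ⟶ X') (j : Y ⟶ Y') (f : X ⟶ Y)
    (f' : X' ⟶ Y') (hi : AlgSp.IsThickMor i) (hj : AlgSp.IsThickMor j)
    (hcart : IsPullback i f f' j) (hfo : AlgSp.IsFinThickMor i)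
    (hft : AlgSp.LocP @LocallyOfFiniteType f) : AlgSp.LocP @LocallyOfFiniteType f' := by
  obtain ⟨n, -, hn⟩ := hfo
  apply locP_of_affine_source
  intro U' V' a' b' h' hU' ha' hb' w'
  obtain ⟨U, V, iU, iV, a, b, h, ha, hb, w0, -, hiV, sq, sqU, -⟩ :=
    exists_chart_square i j f f' hi hj hcart a' b' h' ha' hb' w'
  have hpow : AlgSp.powZero n iU.left := hn a' a iU hU' ha' sqU
  haveI : LocallyOfFiniteType h.left := hft a b h ha hb w0
  exact Groth.Agent.R2.H47.SrcFThick.lft_of_srcfthick iU.left iV.left h.left h'.left hiV sq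
    (n + 1) hpow

/-- relative dimension `d` at all points transfers along a cartesian morphism of thickenings
(both morphisms locally of finite type). -/
theorem hasAtMor_fibreDim_iff {X X' Y Y' : AlgSp.Sp S}
    (hX' : AlgSp.IsAlgSpace X') (hY' : AlgSp.IsAlgSpace Y')
    (i : X ⟶ X') (j : Y ⟶ Y') (f : X ⟶ Y)
    (f' : X' ⟶ Y') (hi : AlgSp.IsThickMor i) (hj : AlgSp.IsThickMor j)
    (hcart : IsPullback i f f' j) (hft' : AlgSp.LocP @LocallyOfFiniteType f') (d : ℕ) :
    (∀ x, AlgSp.HasAtMor (fun _ _ h u => FlatMor.fibreDimAt h u = (d : WithBot ℕ∞)) f x) ↔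
      (∀ x', AlgSp.HasAtMor (fun _ _ h u => FlatMor.fibreDimAt h u = (d : WithBot ℕ∞)) f' x') := by
  have hinv := Groth.Agent.R2.H45.HasAtMor.etSqInv_fibreDimAt.{u}
    (fun e => e = (d : WithBot ℕ∞))
  have hhom := Groth.Agent.R2.H47.ThickTop.isHomeomorph_points_map i hi
  -- common construction
  have key : ∀ x' : AlgSp.Points X', ∃ (U' V' U V : Over S) (a' : (AlgSp.yon S).obj U' ⟶ X')
      (b' : (AlgSp.yon S).obj V' ⟶ Y') (h' : U' ⟶ V') (a : (AlgSp.yon S).obj U ⟶ X)
      (b : (AlgSp.yon S).obj V ⟶ Y) (h : U ⟶ V) (u' : U'.left) (u : U.left),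
      AlgSp.RepWith @Etale a' ∧ AlgSp.RepWith @Etale b' ∧ a' ≫ f' = (AlgSp.yon S).map h' ≫ b' ∧
      AlgSp.RepWith @Etale a ∧ AlgSp.RepWith @Etale b ∧ a ≫ f = (AlgSp.yon S).map h ≫ b ∧
      AlgSp.Points.ofPt a' u' = x' ∧ AlgSp.Points.map i (AlgSp.Points.ofPt a u) = x' ∧
      FlatMor.fibreDimAt h.left u = FlatMor.fibreDimAt h'.left u' := by
    intro x'
    obtain ⟨U', V', a', b', h', u', ha', hb', w', hu'⟩ :=
      Groth.Agent.R2.H45.HasAtMor.exists_diagram hX' hY' f' x'
    obtain ⟨U, V, iU, iV, a, b, h, ha, hb, w0, hiU, hiV, sq, sqU, -⟩ :=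
      exists_chart_square i j f f' hi hj hcart a' b' h' ha' hb' w'
    haveI : Surjective iU.left := hiU.2
    obtain ⟨u, hu⟩ := iU.left.surjective u'
    haveI : LocallyOfFiniteType h'.left := hft' a' b' h' ha' hb' w'
    refine ⟨U', V', U, V, a', b', h', a, b, h, u', u, ha', hb', w', ha, hb, w0, hu', ?_, ?_⟩
    · rw [AlgSp.Points.map_ofPt, sqU.w, Groth.Agent.S10176.ofPt_map_comp, hu, hu']
    · rw [Groth.Agent.Lib.Helper3.LocDimBC.fibreDimAt_eq_of_isPullback h'.left iV.left iU.left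
        h.left sq u, hu]
  constructor
  · intro H x'
    obtain ⟨U', V', U, V, a', b', h', a, b, h, u', u, ha', hb', w', ha, hb, w0, hu', hx, hdim⟩ :=
      key x'
    have h1 := (Groth.Agent.R2.H45.HasAtMor.hasAtMor_iff_of_diagram hinv f a b h ha hb w0 u).1
      (H _)
    exact ⟨U', V', a', b', h', u', ha', hb', w', hu', hdim.symm.trans h1⟩
  · intro H x
    obtain ⟨U', V', U, V, a', b', h', a, b, h, u', u, ha', hb', w', ha, hb, w0, hu', hx, hdim⟩ :=
      key (AlgSp.Points.map i x)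
    have hxu : AlgSp.Points.ofPt a u = x := hhom.injective hx
    have h1 := (Groth.Agent.R2.H45.HasAtMor.hasAtMor_iff_of_diagram hinv f' a' b' h' ha' hb' w'
      u').1 (hu' ▸ H _)
    exact ⟨U, V, a, b, h, u, ha, hb, w0, hxu, hdim.trans h1⟩

end Groth.Agent.R2.H47.ThickLoc
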