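import Mathlib
import Groth.Agent.R2.H47ThickTop
import Groth.Agent.S9922
import Groth.Agent.S9912
import Groth.Agent.S9900

/-!
# Separatedness along morphisms of thickenings of algebraic spaces (helper47)
-/

set_option autoImplicit false
set_option linter.style.haveILetI false
universe u
open CategoryTheory CategoryTheory.Limits AlgebraicGeometry Opposite
open AlgSp

namespace Groth.Agent.R2.H47.ThickTop

variable {S : Scheme.{u}}

instance thick_isMultiplicative : (AlgSp.thick.{u}).IsMultiplicative :=
  inferInstanceAs ((@IsClosedImmersion ⊓ @Surjective : MorphismProperty Scheme.{u}).IsMultiplicative)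

lemma isThickMor_comp {A B C : AlgSp.Sp S} (a : A ⟶ B) (b : B ⟶ C) (ha : AlgSp.IsThickMor a)
    (hb : AlgSp.IsThickMor b) : AlgSp.IsThickMor (a ≫ b) :=
  (AlgSp.repWith_isMultiplicative (S := S) AlgSp.thick).comp_mem _ _ ha hb

/-- the map `X ×_Y X ⟶ X' ×_{Y'} X'` induced by a morphism of thickenings is a thickening. -/
theorem isThickMor_pullback_map {X X' Y Y' : AlgSp.Sp S} (i : X ⟶ X') (j : Y ⟶ Y')
    (f : X ⟶ Y) (f' : X' ⟶ Y') (hi : AlgSp.IsThickMor i) (hj : AlgSp.IsThickMor j)
    (w : i ≫ f' = f ≫ j) :
    AlgSp.IsThickMor (pullback.map f f f' f' i i j w.symm w.symm) := by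
  haveI := mono_of_isThickMor j hj
  -- the intermediate object `M = X ×_{Y'} X'`
  have sqM := IsPullback.of_hasPullback (i ≫ f') f'
  have sqP' := IsPullback.of_hasPullback f' f'
  have sqP : IsPullback (pullback.fst f f) (pullback.snd f f) (i ≫ f') (i ≫ f') := by
    rw [w]; exact isPullback_comp_mono (IsPullback.of_hasPullback f f) j
  let b : pullback (i ≫ f') f' ⟶ pullback f' f' :=
    pullback.lift (pullback.fst (i ≫ f') f' ≫ i) (pullback.snd (i ≫ f') f')
      (by rw [Category.assoc, pullback.condition])
  have hb1 : b ≫ pullback.fst f' f' = pullback.fst (i ≫ f') f' ≫ i := pullback.lift_fst _ _ _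
  have hb2 : b ≫ pullback.snd f' f' = pullback.snd (i ≫ f') f' := pullback.lift_snd _ _ _
  have sqb : IsPullback (pullback.fst (i ≫ f') f') b i (pullback.fst f' f') := by
    refine IsPullback.of_bot ?_ hb1.symm sqP'
    rw [hb2]; exact sqM
  have hb : AlgSp.IsThickMor b := isThickMor_of_isPullback sqb hi
  let a : pullback f f ⟶ pullback (i ≫ f') f' :=
    pullback.lift (pullback.fst f f) (pullback.snd f f ≫ i)
      (by rw [Category.assoc, ← sqP.w])
  have ha1 : a ≫ pullback.fst (i ≫ f') f' = pullback.fst f f := pullback.lift_fst _ _ _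
  have ha2 : a ≫ pullback.snd (i ≫ f') f' = pullback.snd f f ≫ i := pullback.lift_snd _ _ _
  have sqa : IsPullback (pullback.snd f f) a i (pullback.snd (i ≫ f') f') := by
    refine IsPullback.of_bot ?_ ha2.symm sqM.flip
    rw [ha1]; exact sqP.flip
  have ha : AlgSp.IsThickMor a := isThickMor_of_isPullback sqa hi
  have hab : pullback.map f f f' f' i i j w.symm w.symm = a ≫ b := by
    apply pullback.hom_ext
    · rw [pullback.lift_fst, Category.assoc, hb1, ← Category.assoc, ha1]
    · rw [pullback.lift_snd, Category.assoc, hb2, ha2]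
  rw [hab]
  exact isThickMor_comp a b ha hb

lemma diagonal_comp_pullback_map {X X' Y Y' : AlgSp.Sp S} (i : X ⟶ X') (j : Y ⟶ Y')
    (f : X ⟶ Y) (f' : X' ⟶ Y') (w : i ≫ f' = f ≫ j) :
    i ≫ pullback.diagonal f' = pullback.diagonal f ≫ pullback.map f f f' f' i i j w.symm w.symm := by
  apply pullback.hom_ext
  · rw [Category.assoc, Category.assoc, pullback.diagonal_fst, Category.comp_id]
    erw [pullback.lift_fst]
    rw [← Category.assoc, pullback.diagonal_fst, Category.id_comp]
  · rw [Category.assoc, Category.assoc, pullback.diagonal_snd, Category.comp_id]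
    erw [pullback.lift_snd]
    rw [← Category.assoc, pullback.diagonal_snd, Category.id_comp]

/-- separatedness of a morphism of algebraic spaces is universal closedness of the diagonal. -/
theorem isSeparatedMor_iff_isUnivClosedMor_diagonal {X Y : AlgSp.Space S} (f : X ⟶ Y) :
    AlgSp.IsSeparatedMor f.hom ↔ AlgSp.IsUnivClosedMor (pullback.diagonal f.hom) := by
  obtain ⟨hrep, hlft, hmono, hsep, -⟩ := Groth.Agent.S9900.result f
  constructor
  · intro h Z Z' hZ g fst snd sq
    have h' : AlgSp.RepWith @UniversallyClosed (pullback.diagonal f.hom) :=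
      ⟨h.1, fun _ _ g fst snd sq => by
        haveI : IsClosedImmersion snd.left := h.2 g fst snd sq
        exact (inferInstance : UniversallyClosed snd.left)⟩
    exact Groth.Agent.S9922.isClosedMap_map_of_repWith snd
      (MorphismProperty.of_isPullback (P := AlgSp.RepWith @UniversallyClosed) sq h')
  · intro h
    have h' := Groth.Agent.S9922.repWith_universallyClosed_of_isUnivClosedMor _ hrep h
    refine ⟨hrep, fun _ _ g fst snd sq => ?_⟩
    haveI : UniversallyClosed snd.left := h'.2 g fst snd sq
    haveI : LocallyOfFiniteType snd.left := hlft.2 g fst snd sq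
    haveI : Mono snd.left := hmono.2 g fst snd sq
    haveI : IsSeparated snd.left := hsep.2 g fst snd sq
    haveI : IsProper snd.left := {}
    change IsClosedImmersion snd.left
    exact (IsClosedImmersion.iff_isProper_and_mono _).2 ⟨inferInstance, inferInstance⟩

lemma isAlgSpace_pullback_self {X Y : AlgSp.Space S} (f : X ⟶ Y) :
    AlgSp.IsAlgSpace (pullback f.hom f.hom) :=
  Groth.Agent.S9874.isAlgSpace_of_isPullback Y.property.diag X.property X.property
    (IsPullback.of_hasPullback f.hom f.hom)

/-- quasi-separatedness of a morphism of algebraic spaces is quasi-compactness of the diagonal. -/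
theorem isQuasiSeparatedMor_iff_isQuasiCompactMor_diagonal {X Y : AlgSp.Space S} (f : X ⟶ Y) :
    AlgSp.IsQuasiSeparatedMor f.hom ↔ AlgSp.IsQuasiCompactMor (pullback.diagonal f.hom) := by
  obtain ⟨hrep, -, -, -, -⟩ := Groth.Agent.S9900.result f
  exact ⟨Groth.Agent.S9912.isQuasiCompactMor_of_repWith X.property
    (isAlgSpace_pullback_self f).diag _,
    Groth.Agent.S9912.repWith_quasiCompact_of_isQuasiCompactMor _ hrep⟩

/-- separatedness and quasi-separatedness transfer along morphisms of thickenings. -/
theorem separated_iff_of_thick {X X' Y Y' : AlgSp.Space S} (i : X ⟶ X') (j : Y ⟶ Y')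
    (f : X ⟶ Y) (f' : X' ⟶ Y') (hi : AlgSp.IsThickMor i.hom) (hj : AlgSp.IsThickMor j.hom)
    (w : i ≫ f' = f ≫ j) :
    (AlgSp.IsSeparatedMor f.hom ↔ AlgSp.IsSeparatedMor f'.hom) ∧
    (AlgSp.IsQuasiSeparatedMor f.hom ↔ AlgSp.IsQuasiSeparatedMor f'.hom) := by
  have w' : i.hom ≫ f'.hom = f.hom ≫ j.hom := congrArg (fun m => m.hom) w
  have hii := isThickMor_pullback_map i.hom j.hom f.hom f'.hom hi hj w'
  have hw := diagonal_comp_pullback_map i.hom j.hom f.hom f'.hom w'
  constructor
  · rw [isSeparatedMor_iff_isUnivClosedMor_diagonal, isSeparatedMor_iff_isUnivClosedMor_diagonal]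
    exact univSp_iff_of_thick topInv_closed i.hom _ _ _ hi hii hw
      (isAlgSpace_pullback_self f) (isAlgSpace_pullback_self f')
  · rw [isQuasiSeparatedMor_iff_isQuasiCompactMor_diagonal,
      isQuasiSeparatedMor_iff_isQuasiCompactMor_diagonal]
    exact isQuasiCompactMor_iff_of_thick i.hom _ _ _ hi hii hw X.property X'.property
      (isAlgSpace_pullback_self f) (isAlgSpace_pullback_self f')

end Groth.Agent.R2.H47.ThickTop
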