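import Groth.Agent.R2.H47ThickBC

/-!
# Base change of first order thickenings of algebraic spaces along arbitrary maps (helper74)

* `sqZero_of_flat_cover`: scheme level fpqc descent of "the kernel ideal has square zero".
* `sqZero_of_isFOThickMor`: a first order thickening `i : T ⟶ T'` of sheaves with `T'` an algebraic space has square
  zero represented pullbacks along ALL maps from schemes (not only the etale affine charts of the definition).
-/

set_option autoImplicit false
set_option linter.style.haveILetI false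
universe u
open CategoryTheory CategoryTheory.Limits AlgebraicGeometry Opposite
open AlgSp

namespace Groth.Agent.R2.H74.FOThickBC

/-- a flat morphism of schemes is injective on stalks. -/
lemma stalkMap_injective_of_flat {X Y : Scheme.{u}} (f : X ⟶ Y) [Flat f] (x : X) :
    Function.Injective (f.stalkMap x).hom := by
  algebraize [(f.stalkMap x).hom]
  have : Module.FaithfullyFlat (Y.presheaf.stalk (f x)) (X.presheaf.stalk x) :=
    @Module.FaithfullyFlat.of_flat_of_isLocalHom _ _ _ _ _ _ _
      (Flat.stalkMap f x) (f.toLRSHom.prop x)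
  exact ‹RingHom.FaithfullyFlat _›.injective

/-- a section of the structure sheaf which vanishes on a jointly surjective family of flat maps vanishes. -/
lemma eq_zero_of_flat_cover {Z : Scheme.{u}} (U : Z.Opens) (s : Γ(Z, U))
    (h : ∀ z ∈ U, ∃ (O : Scheme.{u}) (e : O ⟶ Z) (_ : Flat e) (z' : O) (_ : e z' = z)
      (O' : O.Opens) (hO' : O' ≤ e ⁻¹ᵁ U), z' ∈ O' ∧ (e.appLE U O' hO').hom s = 0) : s = 0 := by
  refine TopCat.Presheaf.section_ext Z.sheaf U s 0 ?_
  intro z hz
  obtain ⟨O, e, he, z', rfl, O', hO', hz', hs⟩ := h z hz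
  have key : Z.presheaf.germ U (e z') hz s = 0 := by
    apply stalkMap_injective_of_flat e z'
    rw [map_zero, Scheme.Hom.germ_stalkMap_apply]
    have h1 : O.presheaf.germ O' z' hz' ((e.appLE U O' hO').hom s) = 0 := by rw [hs, map_zero]
    rw [Scheme.Hom.appLE, CommRingCat.hom_comp, RingHom.comp_apply] at h1
    rw [← h1]
    exact (TopCat.Presheaf.germ_res_apply _ _ _ _ _).symm
  rw [map_zero]
  exact key

/-- fpqc descent of "the kernel ideal has square zero": if `k : W ⟶ Z` is quasi-compact and every point of `Z` lies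
in the image of a flat `e : O ⟶ Z` over which `k` is dominated by a quasi-compact `k' : W' ⟶ O` (a commutative
square, e.g. the base change) whose kernel ideal has square zero, then the kernel ideal of `k` has square zero. -/
theorem sqZero_of_flat_cover {W Z : Scheme.{u}} (k : W ⟶ Z) [QuasiCompact k]
    (h : ∀ z : Z, ∃ (O W' : Scheme.{u}) (e : O ⟶ Z) (k' : W' ⟶ O) (g : W' ⟶ W),
      Flat e ∧ QuasiCompact k' ∧ z ∈ Set.range e ∧ k' ≫ e = g ≫ k ∧ AlgSp.sqZero k') :
    AlgSp.sqZero k := by
  change k.ker * k.ker = ⊥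
  rw [eq_bot_iff]
  intro U
  rw [Scheme.IdealSheafData.ideal_mul, Pi.mul_apply, Scheme.Hom.ker_apply,
    Scheme.IdealSheafData.ideal_bot, Pi.bot_apply, Ideal.mul_le]
  intro x hx y hy
  rw [Ideal.mem_bot]
  refine eq_zero_of_flat_cover U.1 (x * y) ?_
  intro z hz
  obtain ⟨O, W', e, k', g, he, hk', ⟨z', rfl⟩, hcomm, hsq⟩ := h z
  obtain ⟨_, ⟨V, hV, rfl⟩, hzV, hVU⟩ :=
    O.isBasis_affineOpens.exists_subset_of_mem_open (show z' ∈ (e ⁻¹ᵁ U.1 : Set O) from hz)
      (e ⁻¹ᵁ U.1).isOpen
  have hVU' : V ≤ e ⁻¹ᵁ U.1 := hVU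
  refine ⟨O, e, he, z', rfl, V, hVU', hzV, ?_⟩
  have hmem : ∀ t : Γ(Z, U.1), t ∈ RingHom.ker (k.app U.1).hom →
      (e.appLE U.1 V hVU').hom t ∈ RingHom.ker (k'.app V).hom := by
    intro t ht
    rw [RingHom.mem_ker] at ht ⊢
    have h1 : e.appLE U.1 V hVU' ≫ k'.app V =
        k.app U.1 ≫ g.appLE (k ⁻¹ᵁ U.1) (k' ⁻¹ᵁ V)
          (by
            intro w hw
            change k (g w) ∈ U.1
            have : (g ≫ k) w = (k' ≫ e) w := by rw [hcomm]
            rw [Scheme.Hom.comp_apply, Scheme.Hom.comp_apply] at this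
            rw [this]
            exact hVU' hw) := by
      have h5 : ∀ (φ ψ : W' ⟶ Z) (hφψ : φ = ψ) (e1 : k' ⁻¹ᵁ V ≤ φ ⁻¹ᵁ U.1),
          φ.appLE U.1 _ e1 = ψ.appLE U.1 _ (hφψ ▸ e1) := by
        rintro φ _ rfl _
        rfl
      rw [Scheme.Hom.app_eq_appLE k', Scheme.Hom.appLE_comp_appLE, h5 _ _ hcomm,
        Scheme.Hom.comp_appLE]
    have h2 := congr(($h1).hom t)
    rw [CommRingCat.hom_comp, CommRingCat.hom_comp, RingHom.comp_apply, RingHom.comp_apply, ht,
      map_zero] at h2
    exact h2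
  have hx' := hmem x hx
  have hy' := hmem y hy
  have hz0 : ((k'.ker * k'.ker).ideal ⟨V, hV⟩) = ⊥ := by
    have h3 : k'.ker * k'.ker = ⊥ := hsq
    rw [h3, Scheme.IdealSheafData.ideal_bot, Pi.bot_apply]
  rw [Scheme.IdealSheafData.ideal_mul, Pi.mul_apply, Scheme.Hom.ker_apply] at hz0
  rw [map_mul]
  have h4 := Ideal.mul_mem_mul hx' hy'
  rw [hz0, Ideal.mem_bot] at h4
  exact h4

open Groth.Agent.R2.H47.SpColim Groth.Agent.R2.H47.SpThick Groth.Agent.R2.H47.ThickBC

variable {S : Scheme.{u}}

/-- **Base change of first order thickenings of algebraic spaces along arbitrary maps from schemes.**  If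
`i : T ⟶ T'` is a first order thickening of sheaves with `T'` an algebraic space, then the represented pullback of
`i` along ANY `t : h_Z ⟶ T'` (not only an etale affine chart) has kernel ideal of square zero. -/
theorem sqZero_of_isFOThickMor {T T' : AlgSp.Sp S} (hT' : AlgSp.IsAlgSpace T') {i : T ⟶ T'}
    (hi : AlgSp.IsFOThickMor i) {Z W : Over S} (t : (AlgSp.yon S).obj Z ⟶ T')
    (fst : (AlgSp.yon S).obj W ⟶ T) (snd : W ⟶ Z)
    (hpb : IsPullback fst ((AlgSp.yon S).map snd) i t) : AlgSp.sqZero snd.left := by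
  have hth : AlgSp.thick snd.left := hi.1.2 _ _ snd hpb
  have hcl : IsClosedImmersion snd.left := hth.1
  obtain ⟨U, p, hp, hps⟩ := hT'.atlas
  obtain ⟨Z', e, g', hpb'⟩ := hp.1 t
  obtain ⟨g, rfl⟩ := (AlgSp.yon S).map_surjective g'
  have hee : Etale e.left := hp.2 _ _ e hpb'
  have hes : Surjective e.left := hps.2 _ _ e hpb'
  apply sqZero_of_flat_cover snd.left
  intro z
  obtain ⟨z', rfl⟩ := e.left.surjective z
  obtain ⟨O, V, hO, hV, hxO, h1⟩ := exists_affine_refine g z'
  have hVaff : IsAffine (res U V).left := hV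
  have hc : AlgSp.RepWith @Etale ((AlgSp.yon S).map (resι U V) ≫ p) :=
    repWith_etale_yon_map_comp _ inferInstance p hp
  obtain ⟨W₀, kV, fstV, hpbV, hclV, hsurjV, hsqV⟩ :=
    exists_chart_pullback hi ((AlgSp.yon S).map (resι U V) ≫ p) hVaff hc
  let r : res Z' O ⟶ res U V := resMap g O V h1
  have hPB : IsPullback (pullback.fst kV r) (pullback.snd kV r) kV r := IsPullback.of_hasPullback kV r
  have hsch := hPB.map (Over.forget S)
  have hsq' : AlgSp.sqZero (pullback.snd kV r).left :=
    sqZero_baseChange (pullback.snd kV r).left kV.left (pullback.fst kV r).left r.left hclV hsurjV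
      hsqV hsch.flip
  have hcl' : IsClosedImmersion (pullback.snd kV r).left :=
    MorphismProperty.of_isPullback (P := @IsClosedImmersion) hsch hclV
  -- the comparison map to `W`
  have hw : ((AlgSp.yon S).map (pullback.fst kV r) ≫ fstV) ≫ i =
      (AlgSp.yon S).map (pullback.snd kV r ≫ resι Z' O ≫ e) ≫ t := by
    rw [Category.assoc, hpbV.w, ← Category.assoc, ← Functor.map_comp, hPB.w, Functor.map_comp,
      Category.assoc, ← Category.assoc ((AlgSp.yon S).map r), ← Functor.map_comp]
    change _ ≫ (AlgSp.yon S).map (resMap g O V h1 ≫ resι U V) ≫ p = _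
    rw [resMap_resι, Functor.map_comp, Category.assoc, hpb'.w, Functor.map_comp, Functor.map_comp,
      Category.assoc, Category.assoc]
  obtain ⟨g₀, hg₀⟩ := (AlgSp.yon S).map_surjective (hpb.lift _ _ hw)
  have hg₁ : g₀ ≫ snd = pullback.snd kV r ≫ resι Z' O ≫ e := by
    apply (AlgSp.yon S).map_injective
    rw [Functor.map_comp, hg₀, hpb.lift_snd]
  refine ⟨(res Z' O).left, (pullback kV r).left, (resι Z' O ≫ e).left, (pullback.snd kV r).left,
    g₀.left, ?_, inferInstance, ⟨⟨z', hxO⟩, ?_⟩, ?_, hsq'⟩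
  · rw [Over.comp_left]
    infer_instance
  · rw [Over.comp_left]
    exact Scheme.Hom.comp_apply _ _ _
  · rw [← Over.comp_left, ← Over.comp_left, hg₁]

end Groth.Agent.R2.H74.FOThickBC
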