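import Mathlib
import Groth.Prelude.Def_AlgSpInf
import Groth.Prelude.Def_AlgSp4
import Groth.Agent.S10175
import Groth.Agent.S10176
import Groth.Agent.S10177
import Groth.Agent.S10627
import Groth.Agent.S10630
import Groth.Agent.R2.H47InfSq
import Groth.Agent.R2.H47SpThick
import Groth.Agent.R2.H47ThickBC
import Groth.Agent.R2.H47SmLift
import Groth.Agent.R2.H74FOThickBC

/-!
# Universal first order thickenings descend along etale surjections (helper47)
-/

set_option autoImplicit false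
universe u
open CategoryTheory CategoryTheory.Limits AlgebraicGeometry
open AlgSp

namespace Groth.Agent.R2.H47.UnivThickDesc

variable {S : Scheme.{u}}

open Groth.Agent.R2.H47.SmLift Groth.Agent.R2.H47.SmLiftSch

/-- **Local lifting through an etale surjection along a thickening of an affine scheme.**  Given an
etale surjective `ε : Z ⟶ Y`, a thickening `j : T ⟶ T'` of schemes with `T'` affine and `a : T ⟶ Y`,
every point of `T'` has an affine etale neighbourhood `W' ⟶ T'` such that `a` restricted to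
`W = W' ×_{T'} T` lifts to `Z`. -/
lemma exists_local_lift {Z Y : AlgSp.Space S} (ε : Z ⟶ Y) (hε : AlgSp.IsEtaleMor ε.hom)
    (hεs : AlgSp.IsSurjectiveMor ε.hom) {T T' : Over S} (j : T ⟶ T') (hT' : IsAffine T'.left)
    (hj1 : IsClosedImmersion j.left) (hj2 : Surjective j.left)
    (a : (AlgSp.yon S).obj T ⟶ Y.obj) (τ : T'.left) :
    ∃ (W' W : Over S) (e : W' ⟶ T') (jW : W ⟶ W') (eW : W ⟶ T)
      (s : (AlgSp.yon S).obj W ⟶ Z.obj),
      IsAffine W'.left ∧ Etale e.left ∧ IsPullback jW eW e j ∧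
        s ≫ ε.hom = (AlgSp.yon S).map eW ≫ a ∧ τ ∈ Set.range e.left := by
  obtain ⟨τ₀, hτ₀⟩ := j.left.surjective τ
  obtain ⟨ξ, hξ⟩ := hεs (AlgSp.Points.ofPt a τ₀)
  obtain ⟨R, sR, φ, u, hφ, hu⟩ := exists_affine_chart Z.property ξ
  have hφε : AlgSp.RepWith @Etale (φ ≫ ε.hom) := hε φ hφ
  have sq := hφε.rep.isPullback a
  have hg : Etale (hφε.rep.snd a).left := hφε.property_snd a
  set V₁ := hφε.rep.pullback a with hV₁
  set g : V₁ ⟶ T := hφε.rep.snd a with hgdef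
  obtain ⟨a₁, ha₁⟩ := (AlgSp.yon S).map_surjective (hφε.rep.fst a)
  rw [← ha₁] at sq
  have hpt : AlgSp.Points.ofPt (φ ≫ ε.hom) u = AlgSp.Points.ofPt a τ₀ := by
    rw [← AlgSp.Points.map_ofPt, hu, hξ]
  obtain ⟨v₁, hv₁u, hv₁τ⟩ := Groth.Agent.S10176.exists_point_of_isPullback_yon sq u τ₀ hpt
  haveI : IsAffine T'.left := hT'
  haveI : Etale g.left := hg
  obtain ⟨V'', V₂, e, j₂, k, x, hV'', he, hpb, hkx⟩ := sch_lift j.left g.left v₁
  let W' : Over S := Over.mk (e ≫ T'.hom)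
  let eo : W' ⟶ T' := Over.homMk e rfl
  let W : Over S := Over.mk (j₂ ≫ e ≫ T'.hom)
  let jW : W ⟶ W' := Over.homMk j₂ rfl
  have hkS : k ≫ V₁.hom = j₂ ≫ e ≫ T'.hom := by
    have h1 : g.left ≫ T.hom = V₁.hom := Over.w g
    have h2 : j.left ≫ T'.hom = T.hom := Over.w j
    rw [← Category.assoc j₂, hpb.w, ← h1, ← h2]
    simp
  let ko : W ⟶ V₁ := Over.homMk k hkS
  have hpbO : IsPullback jW (ko ≫ g) eo j :=
    IsPullback.of_map (Over.forget S) (Over.OverMorphism.ext hpb.w) hpb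
  refine ⟨W', W, eo, jW, ko ≫ g, (AlgSp.yon S).map ko ≫ (AlgSp.yon S).map a₁ ≫ φ, hV'', he, hpbO,
    ?_, ⟨j₂ x, ?_⟩⟩
  · have h1 : ((AlgSp.yon S).map a₁ ≫ φ) ≫ ε.hom = (AlgSp.yon S).map g ≫ a := by
      rw [Category.assoc]; exact sq.w
    rw [Category.assoc, h1, Functor.map_comp, Category.assoc]
  · change e (j₂ x) = τ
    rw [← Scheme.Hom.comp_apply, hpb.w, Scheme.Hom.comp_apply, Scheme.Hom.comp_apply, hkx, hv₁τ, hτ₀]

/-- points of a fibre product of schemes. -/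
lemma exists_point_of_isPullback_sch {P X₁ X₂ B : Scheme.{u}} {fst : P ⟶ X₁} {snd : P ⟶ X₂}
    {f : X₁ ⟶ B} {g : X₂ ⟶ B} (h : IsPullback fst snd f g) (x : X₁) (y : X₂) (e : f x = g y) :
    ∃ z : P, fst z = x ∧ snd z = y := by
  obtain ⟨z', hz1, hz2⟩ := Scheme.Pullback.exists_preimage_pullback x y e
  refine ⟨h.isoPullback.inv z', ?_, ?_⟩
  · rw [← Scheme.Hom.comp_apply, h.isoPullback_inv_fst, hz1]
  · rw [← Scheme.Hom.comp_apply, h.isoPullback_inv_snd, hz2]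

/-- base change of an affine square zero thickening of schemes over `S`. -/
lemma thick_of_isPullback {W₀ W Q₀ Q : Over S} (k : W₀ ⟶ W) (hk1 : IsClosedImmersion k.left)
    (hk2 : Surjective k.left) (hk3 : AlgSp.sqZero k.left) (jQ : Q₀ ⟶ Q) (fq : Q₀ ⟶ W₀)
    (c : Q ⟶ W) (h : IsPullback jQ fq c k) :
    IsClosedImmersion jQ.left ∧ Surjective jQ.left ∧ AlgSp.sqZero jQ.left := by
  have hsch : IsPullback jQ.left fq.left c.left k.left := h.map (Over.forget S)
  refine ⟨MorphismProperty.of_isPullback (P := @IsClosedImmersion) hsch.flip hk1,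
    MorphismProperty.of_isPullback (P := @Surjective) hsch.flip hk2,
    Groth.Agent.R2.H47.ThickBC.sqZero_baseChange jQ.left k.left fq.left c.left hk1 hk2 hk3 hsch⟩

open Groth.Agent.R2.H47.SpThick Groth.Agent.R2.H47.InfSq in
/-- **Universal first order thickenings descend along etale surjections.** -/
theorem descend {Z Y Z' Y' X : AlgSp.Space S} (e : Z ⟶ Y)
    (he : AlgSp.IsEtaleMor e.hom) (hes : AlgSp.IsSurjectiveMor e.hom) (hY : Y ⟶ X)
    (iZ : Z ⟶ Z') (iY : Y ⟶ Y') (hiY : AlgSp.IsFOThickMor iY.hom)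
    (f' : Z' ⟶ Y') (hf' : AlgSp.IsEtaleMor f'.hom) (w : iZ ≫ f' = e ≫ iY) (hY' : Y' ⟶ X)
    (w' : iY ≫ hY' = hY)
    (HU : AlgSp.IsUnivFOThick (e ≫ hY).hom iZ.hom (f' ≫ hY').hom) :
    AlgSp.IsUnivFOThick hY.hom iY.hom hY'.hom := by
  have wh : iZ.hom ≫ f'.hom = e.hom ≫ iY.hom := congr($(w).hom)
  have wh' : iY.hom ≫ hY'.hom = hY.hom := congr($(w').hom)
  have hfe : AlgSp.IsFormallyEtaleMor f'.hom := ((Groth.Agent.S10627.result f').1 hf').2
  -- the local data attached to an affine square zero thickening and a map to `Y`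
  have hloc : ∀ ⦃W₀ W : Over S⦄ (k : W₀ ⟶ W), IsAffine W.left → IsClosedImmersion k.left →
      Surjective k.left → AlgSp.sqZero k.left → ∀ (a₀ : (AlgSp.yon S).obj W₀ ⟶ Y.obj) (τ : W.left),
      ∃ (W' Wp : Over S) (eo : W' ⟶ W) (jW : Wp ⟶ W') (eW : Wp ⟶ W₀)
        (s : (AlgSp.yon S).obj Wp ⟶ Z.obj), Etale eo.left ∧ IsPullback jW eW eo k ∧
        s ≫ e.hom = (AlgSp.yon S).map eW ≫ a₀ ∧ τ ∈ Set.range eo.left ∧
        AlgSp.IsFOThickMor ((AlgSp.yon S).map jW) := by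
    intro W₀ W k hW hk1 hk2 hk3 a₀ τ
    obtain ⟨W', Wp, eo, jW, eW, s, -, heo, hpb, hs, hτ⟩ :=
      exists_local_lift e he hes k hW hk1 hk2 a₀ τ
    obtain ⟨h1, h2, h3⟩ := thick_of_isPullback k hk1 hk2 hk3 jW eW eo hpb
    exact ⟨W', Wp, eo, jW, eW, s, heo, hpb, hs, hτ,
      Groth.Agent.R2.H47.ThickBC.isFOThickMor_yon_map jW h1 h2 h3⟩
  -- uniqueness on affine square zero thickenings
  have hAffU : AffU hY'.hom
      (fun W₀ top => ∃ a₀ : (AlgSp.yon S).obj W₀ ⟶ Y.obj, top = a₀ ≫ iY.hom) := by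
    intro W₀ W k hW hk1 hk2 hk3 m₁ m₂ hadm e1 e2
    obtain ⟨a₀, ha₀⟩ := hadm
    choose W' Wp eo jW eW s heo hpb hs hτ hFO using
      fun τ : W.left => hloc k hW hk1 hk2 hk3 a₀ τ
    have hcov : Sieve.ofArrows W' eo ∈ AlgSp.J S W :=
      mem_J_of_fppf W' eo (fun τ => ⟨τ, hτ τ⟩) (fun τ => by haveI := heo τ; infer_instance)
        (fun τ => by haveI := heo τ; infer_instance)
    refine hom_ext_of_cover W' eo hcov m₁ m₂ (fun τ => ?_)
    have hsq : (AlgSp.yon S).map (jW τ) ≫ (AlgSp.yon S).map (eo τ) =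
        (AlgSp.yon S).map (eW τ) ≫ (AlgSp.yon S).map k := by
      rw [← Functor.map_comp, ← Functor.map_comp, (hpb τ).w]
    -- the two lifts to `Z'`
    have hc : ∀ m : (AlgSp.yon S).obj W ⟶ Y'.obj, (AlgSp.yon S).map k ≫ m = a₀ ≫ iY.hom →
        (s τ ≫ iZ.hom) ≫ f'.hom = (AlgSp.yon S).map (jW τ) ≫ (AlgSp.yon S).map (eo τ) ≫ m := by
      intro m hm
      rw [Category.assoc, wh, ← Category.assoc, hs τ, Category.assoc, ← hm, ← Category.assoc,
        ← hsq, Category.assoc]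
    obtain ⟨n₁, ⟨hn₁a, hn₁b⟩, -⟩ := exists_unique_lift_of_etale hfe
      (AlgSp.IsAlgSpace.yon_obj (W' τ)) _ (hFO τ) (s τ ≫ iZ.hom) ((AlgSp.yon S).map (eo τ) ≫ m₁)
      (hc m₁ ha₀)
    obtain ⟨n₂, ⟨hn₂a, hn₂b⟩, -⟩ := exists_unique_lift_of_etale hfe
      (AlgSp.IsAlgSpace.yon_obj (W' τ)) _ (hFO τ) (s τ ≫ iZ.hom) ((AlgSp.yon S).map (eo τ) ≫ m₂)
      (hc m₂ (e1 ▸ ha₀))
    have hbase : (AlgSp.yon S).map (jW τ) ≫ ((AlgSp.yon S).map (eo τ) ≫ m₁ ≫ hY'.hom) =
        s τ ≫ (e ≫ hY).hom := by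
      change _ = s τ ≫ e.hom ≫ hY.hom
      rw [← Category.assoc (s τ), hs τ, ← Category.assoc, hsq, Category.assoc, Category.assoc,
        ← Category.assoc ((AlgSp.yon S).map k), ha₀, Category.assoc, wh']
    have hun := (HU.2.2 (AlgSp.IsAlgSpace.yon_obj (Wp τ)) (AlgSp.IsAlgSpace.yon_obj (W' τ))
      ((AlgSp.yon S).map (jW τ)) (s τ) ((AlgSp.yon S).map (eo τ) ≫ m₁ ≫ hY'.hom) (hFO τ) hbase)
    have h12 : n₁ = n₂ := by
      refine hun.unique ⟨hn₁a, ?_⟩ ⟨hn₂a, ?_⟩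
      · change n₁ ≫ f'.hom ≫ hY'.hom = _
        rw [← Category.assoc, hn₁b, Category.assoc]
      · change n₂ ≫ f'.hom ≫ hY'.hom = _
        rw [← Category.assoc, hn₂b, Category.assoc, e2]
    rw [← hn₁b, ← hn₂b, h12]
  -- existence on affine square zero thickenings
  have hAffE : AffE hY'.hom
      (fun W₀ top => ∃ a₀ : (AlgSp.yon S).obj W₀ ⟶ Y.obj, top = a₀ ≫ iY.hom) := by
    intro W₀ W k hW hk1 hk2 hk3 top bot hadm comm
    obtain ⟨a₀, rfl⟩ := hadm
    have comm' : a₀ ≫ hY.hom = (AlgSp.yon S).map k ≫ bot := by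
      rw [← comm, Category.assoc, wh']
    choose W' Wp eo jW eW s heo hpb hs hτ hFO using
      fun τ : W.left => hloc k hW hk1 hk2 hk3 a₀ τ
    have hcov : Sieve.ofArrows W' eo ∈ AlgSp.J S W :=
      mem_J_of_fppf W' eo (fun τ => ⟨τ, hτ τ⟩) (fun τ => by haveI := heo τ; infer_instance)
        (fun τ => by haveI := heo τ; infer_instance)
    have hsq : ∀ τ, (AlgSp.yon S).map (jW τ) ≫ (AlgSp.yon S).map (eo τ) =
        (AlgSp.yon S).map (eW τ) ≫ (AlgSp.yon S).map k := by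
      intro τ
      rw [← Functor.map_comp, ← Functor.map_comp, (hpb τ).w]
    have hbase : ∀ τ, (AlgSp.yon S).map (jW τ) ≫ ((AlgSp.yon S).map (eo τ) ≫ bot) =
        s τ ≫ (e ≫ hY).hom := by
      intro τ
      change _ = s τ ≫ e.hom ≫ hY.hom
      rw [← Category.assoc (s τ), hs τ, ← Category.assoc, hsq τ, Category.assoc, Category.assoc,
        comm']
    have hn : ∀ τ, ∃ n : (AlgSp.yon S).obj (W' τ) ⟶ Z'.obj,
        (AlgSp.yon S).map (jW τ) ≫ n = s τ ≫ iZ.hom ∧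
          n ≫ (f' ≫ hY').hom = (AlgSp.yon S).map (eo τ) ≫ bot := fun τ =>
      (HU.2.2 (AlgSp.IsAlgSpace.yon_obj (Wp τ)) (AlgSp.IsAlgSpace.yon_obj (W' τ))
        ((AlgSp.yon S).map (jW τ)) (s τ) ((AlgSp.yon S).map (eo τ) ≫ bot) (hFO τ) (hbase τ)).exists
    choose n hn1 hn2 using hn
    have hn2' : ∀ τ, n τ ≫ f'.hom ≫ hY'.hom = (AlgSp.yon S).map (eo τ) ≫ bot := hn2
    -- restriction of `n τ ≫ f'` to the thin part
    have hthin : ∀ τ, (AlgSp.yon S).map (jW τ) ≫ n τ ≫ f'.hom =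
        (AlgSp.yon S).map (eW τ) ≫ a₀ ≫ iY.hom := by
      intro τ
      rw [← Category.assoc, hn1 τ, Category.assoc, wh, ← Category.assoc, hs τ, Category.assoc]
    obtain ⟨l, hl⟩ := glue_of_cover W' eo hcov (fun τ => n τ ≫ f'.hom) (by
      intro τ σ Q p q hpq
      -- the thin part of `Q`
      have hQ := IsPullback.of_hasPullback (p ≫ eo τ) k
      obtain ⟨hQ1, hQ2, hQ3⟩ := thick_of_isPullback k hk1 hk2 hk3 _ _ _ hQ
      have hFOQ := Groth.Agent.R2.H47.ThickBC.isFOThickMor_yon_map _ hQ1 hQ2 hQ3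
      have key : ∀ (τ' : W.left) (p' : Q ⟶ W' τ'), p' ≫ eo τ' = p ≫ eo τ →
          (AlgSp.yon S).map (pullback.fst (p ≫ eo τ) k) ≫ (AlgSp.yon S).map p' ≫ n τ' ≫ f'.hom =
            (AlgSp.yon S).map (pullback.snd (p ≫ eo τ) k) ≫ a₀ ≫ iY.hom := by
        intro τ' p' hp'
        have hw : (pullback.fst (p ≫ eo τ) k ≫ p') ≫ eo τ' = pullback.snd (p ≫ eo τ) k ≫ k := by
          rw [Category.assoc, hp', hQ.w]
        have e1 : (hpb τ').lift _ _ hw ≫ jW τ' = pullback.fst (p ≫ eo τ) k ≫ p' :=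
          (hpb τ').lift_fst _ _ hw
        have e2 : (hpb τ').lift _ _ hw ≫ eW τ' = pullback.snd (p ≫ eo τ) k :=
          (hpb τ').lift_snd _ _ hw
        rw [← Category.assoc, ← Functor.map_comp, ← e1, Functor.map_comp, Category.assoc,
          hthin τ', ← Category.assoc, ← Functor.map_comp, e2]
      refine uniq_lift_of_affine hAffU (AlgSp.IsAlgSpace.yon_obj Q) _ hFOQ _ _ (fun W₁ t => ?_) ?_ ?_
      · exact ⟨t ≫ (AlgSp.yon S).map (pullback.snd (p ≫ eo τ) k) ≫ a₀, by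
          rw [key τ p rfl]; simp only [Category.assoc]⟩
      · rw [key τ p rfl, key σ q hpq.symm]
      · rw [Category.assoc, Category.assoc, Category.assoc, Category.assoc, hn2' τ, hn2' σ,
          ← Category.assoc, ← Category.assoc, ← Functor.map_comp, ← Functor.map_comp, hpq])
    refine ⟨l, ?_, ?_⟩
    · -- check on the etale cover of `W₀` by the `Wp τ`
      have hcov₀ : Sieve.ofArrows Wp eW ∈ AlgSp.J S W₀ := by
        refine mem_J_of_fppf Wp eW (fun t₀ => ?_) (fun τ => ?_) (fun τ => ?_)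
        · obtain ⟨y, hy⟩ := hτ (k.left t₀)
          obtain ⟨z, -, hz⟩ := exists_point_of_isPullback_sch ((hpb (k.left t₀)).map (Over.forget S))
            y t₀ hy
          exact ⟨k.left t₀, z, hz⟩
        · haveI := heo τ
          have : Etale (eW τ).left := MorphismProperty.of_isPullback (P := @Etale)
            ((hpb τ).map (Over.forget S)) (heo τ)
          infer_instance
        · haveI := heo τ
          have : Etale (eW τ).left := MorphismProperty.of_isPullback (P := @Etale)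
            ((hpb τ).map (Over.forget S)) (heo τ)
          infer_instance
      refine hom_ext_of_cover Wp eW hcov₀ _ _ (fun τ => ?_)
      rw [← Category.assoc, ← hsq τ, Category.assoc, hl τ, hthin τ]
    · refine hom_ext_of_cover W' eo hcov _ _ (fun τ => ?_)
      rw [← Category.assoc, hl τ, Category.assoc, hn2' τ]
  -- conclusion
  refine ⟨hiY, wh', ?_⟩
  intro T T' _ hT' j a b hj hab
  exact exists_unique_lift_of_affine (f := hY'.hom)
    (Adm := fun W₀ top => ∃ a₀ : (AlgSp.yon S).obj W₀ ⟶ Y.obj, top = a₀ ≫ iY.hom)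
    hAffE hAffU hT' j hj (a ≫ iY.hom) (fun W₀ t => ⟨t ≫ a, (Category.assoc _ _ _).symm⟩) b
    (by rw [Category.assoc, wh', hab])

end Groth.Agent.R2.H47.UnivThickDesc
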