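import Mathlib
import Groth.Prelude.Def_AlgSpInf
import Groth.Agent.R2.H47UnivThickLoc
import Groth.Agent.R2.H47UnivThickDesc
import Groth.Agent.R2.H74FOThickBC
import Groth.Agent.R2.H47ThickTop

/-!
# Universal first order thickenings of algebraic spaces: formal lemmas (helper47)
-/

set_option autoImplicit false
universe u
open CategoryTheory CategoryTheory.Limits AlgebraicGeometry Opposite
open AlgSp

namespace Groth.Agent.R2.H47.UTBase

variable {S : Scheme.{u}}

/-- first order thickenings are stable under arbitrary base change between algebraic spaces. -/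
theorem isFOThickMor_of_isPullback {A B C D : AlgSp.Sp S} (hD : AlgSp.IsAlgSpace D) {fst : A ⟶ B}
    {snd : A ⟶ C} {i : B ⟶ D} {g : C ⟶ D} (sq : IsPullback fst snd i g)
    (hi : AlgSp.IsFOThickMor i) : AlgSp.IsFOThickMor snd := by
  refine ⟨MorphismProperty.of_isPullback (P := AlgSp.RepWith AlgSp.thick) sq hi.1, ?_⟩
  intro V W b f s hV hb hpb
  have hpaste : IsPullback (f ≫ fst) ((AlgSp.yon S).map s) i (b ≫ g) := hpb.paste_horiz sq
  exact Groth.Agent.R2.H74.FOThickBC.sqZero_of_isFOThickMor hD hi (b ≫ g) (f ≫ fst) s hpaste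

/-- the graph square of a factorization through a monomorphism. -/
lemma isPullback_id_of_mono {C : Type*} [Category C] {R Q R' : C} (m : R ⟶ Q) (g : Q ⟶ R')
    [Mono g] : IsPullback (𝟙 R) m (m ≫ g) g := by
  refine IsPullback.of_isLimit' ⟨by simp⟩ (PullbackCone.IsLimit.mk _ (fun c => c.fst)
    (fun c => by simp) (fun c => ?_) (fun c l h1 _ => by simpa using h1))
  rw [← cancel_mono g, Category.assoc]
  exact c.condition

/-- a first order thickening between two sheaves formally etale over a third is an isomorphism. -/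
theorem isIso_of_thick_of_etale {R Q V : AlgSp.Sp S} (hQ : AlgSp.IsAlgSpace Q) (m : R ⟶ Q)
    (hm : AlgSp.IsFOThickMor m) (s : R ⟶ V) (hs : AlgSp.IsFormallyEtaleMor s) (q : Q ⟶ V)
    (hq : AlgSp.IsFormallyUnramifiedMor q) (w : m ≫ q = s) : IsIso m := by
  obtain ⟨ρ, ⟨h1, h2⟩, -⟩ :=
    Groth.Agent.R2.H47.SpThick.exists_unique_lift_of_etale hs hQ m hm (𝟙 R) q
      (by rw [Category.id_comp, w])
  have h3 : ρ ≫ m = 𝟙 Q :=
    Groth.Agent.R2.H47.SpThick.uniq_lift_of_unramified hq hQ m hm (ρ ≫ m) (𝟙 Q)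
      (by rw [← Category.assoc, h1, Category.id_comp, Category.comp_id])
      (by rw [Category.assoc, w, h2, Category.id_comp])
  exact ⟨ρ, h1, h3⟩

/-- maps descend along an epimorphism of sheaves with a given kernel pair. -/
theorem exists_desc_of_kernelPair {A K Z W : AlgSp.Sp S} (π : A ⟶ Z) [Epi π] {p₁ p₂ : K ⟶ A}
    (hk : IsPullback p₁ p₂ π π) (f : A ⟶ W) (w : p₁ ≫ f = p₂ ≫ f) : ∃ g : Z ⟶ W, π ≫ g = f := by
  haveI : IsRegularEpi π := IsRegularEpiCategory.regularEpiOfEpi π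
  exact IsRegularEpi.exists_of_isKernelPair π hk f w

/-- uniqueness part of the universal property, in a convenient form. -/
theorem univ_uniq {Z Z' X : AlgSp.Sp S} {h : Z ⟶ X} {i : Z ⟶ Z'} {h' : Z' ⟶ X}
    (HU : AlgSp.IsUnivFOThick h i h') {T T' : AlgSp.Sp S} (hT : AlgSp.IsAlgSpace T)
    (hT' : AlgSp.IsAlgSpace T') (j : T ⟶ T') (hj : AlgSp.IsFOThickMor j) (a : T ⟶ Z)
    (g g' : T' ⟶ Z') (e1 : j ≫ g = a ≫ i) (e1' : j ≫ g' = a ≫ i) (e2 : g ≫ h' = g' ≫ h') :
    g = g' := by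
  obtain ⟨c, -, hc⟩ := HU.2.2 hT hT' j a (g ≫ h') hj (by
    rw [← Category.assoc, e1, Category.assoc, HU.2.1])
  rw [hc g ⟨e1, rfl⟩, hc g' ⟨e1', e2.symm⟩]

end Groth.Agent.R2.H47.UTBase
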