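import Mathlib
import Groth.Prelude.Def_AlgSpInf
import Groth.Agent.R2.H47UTBase
import Groth.Agent.R2.H47ThickBC
import Groth.Agent.S9731
import Groth.Agent.S10630
import Groth.Agent.S10631

/-!
# Universal first order thickenings: from schemes to algebraic spaces (helper47)
-/

set_option autoImplicit false
universe u
open CategoryTheory CategoryTheory.Limits AlgebraicGeometry Opposite
open AlgSp

namespace Groth.Agent.R2.H47.UTBridge

variable {S : Scheme.{u}}

/-- scheme-level universal first order thickenings are universal among algebraic spaces. -/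
theorem isUnivFOThick_yon {Zs Zs' Xs : Over S} (h : Zs ⟶ Xs) (i : Zs ⟶ Zs') (h' : Zs' ⟶ Xs)
    (H : OmegaSh.IsUnivThickening h.left i.left h'.left) :
    AlgSp.IsUnivFOThick ((AlgSp.yon S).map h) ((AlgSp.yon S).map i) ((AlgSp.yon S).map h') := by
  obtain ⟨⟨⟨hi1, hi2⟩, hi3⟩, hw, huniv⟩ := H
  have hi : AlgSp.IsFOThickMor ((AlgSp.yon S).map i) :=
    Groth.Agent.R2.H47.ThickBC.isFOThickMor_yon_map i hi1 hi2 hi3
  have hw' : i ≫ h' = h := by
    ext
    exact hw
  let Z : AlgSp.Space S := ⟨(AlgSp.yon S).obj Zs, AlgSp.IsAlgSpace.yon_obj Zs⟩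
  let Z' : AlgSp.Space S := ⟨(AlgSp.yon S).obj Zs', AlgSp.IsAlgSpace.yon_obj Zs'⟩
  let X : AlgSp.Space S := ⟨(AlgSp.yon S).obj Xs, AlgSp.IsAlgSpace.yon_obj Xs⟩
  let hh : Z ⟶ X := ObjectProperty.homMk ((AlgSp.yon S).map h)
  let ii : Z ⟶ Z' := ObjectProperty.homMk ((AlgSp.yon S).map i)
  let hh' : Z' ⟶ X := ObjectProperty.homMk ((AlgSp.yon S).map h')
  have hww : ii ≫ hh' = hh := by
    apply ObjectProperty.hom_ext
    change (AlgSp.yon S).map i ≫ (AlgSp.yon S).map h' = (AlgSp.yon S).map h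
    rw [← Functor.map_comp, hw']
  refine (Groth.Agent.S10630.result hh ii hh' hi hww).2 ?_
  intro T T' j hT' hj a b comm
  obtain ⟨a₀, rfl⟩ := (AlgSp.yon S).map_surjective a
  obtain ⟨b₀, rfl⟩ := (AlgSp.yon S).map_surjective b
  have comm₀ : j ≫ b₀ = a₀ ≫ h := by
    apply (AlgSp.yon S).map_injective
    rw [Functor.map_comp, Functor.map_comp]
    exact comm
  have hjs : MoreMor.IsFirstOrderThickening j.left :=
    AlgSp.isFirstOrderThickening_of_isFOThickMor_yon_map hT' hj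
  obtain ⟨a', ⟨ha1, ha2⟩, ha3⟩ := huniv T.left T'.left j.left b₀.left a₀.left hjs
    (by rw [← Over.comp_left, ← Over.comp_left, comm₀])
  have ha'w : a' ≫ Zs'.hom = T'.hom := by
    rw [← Over.w h', ← Category.assoc, ha2, Over.w b₀]
  refine ⟨(AlgSp.yon S).map (Over.homMk a' ha'w), ⟨?_, ?_⟩, ?_⟩
  · change (AlgSp.yon S).map j ≫ (AlgSp.yon S).map (Over.homMk a' ha'w) =
      (AlgSp.yon S).map a₀ ≫ (AlgSp.yon S).map i
    rw [← Functor.map_comp, ← Functor.map_comp]
    congr 1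
    ext
    exact ha1
  · change (AlgSp.yon S).map (Over.homMk a' ha'w) ≫ (AlgSp.yon S).map h' = (AlgSp.yon S).map b₀
    rw [← Functor.map_comp]
    congr 1
    ext
    exact ha2
  · rintro c ⟨hc1, hc2⟩
    obtain ⟨c₀, rfl⟩ := (AlgSp.yon S).map_surjective c
    congr 1
    ext
    apply ha3
    constructor
    · have : j ≫ c₀ = a₀ ≫ i := by
        apply (AlgSp.yon S).map_injective
        rw [Functor.map_comp, Functor.map_comp]
        exact hc1
      rw [← Over.comp_left, this, Over.comp_left]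
    · have : c₀ ≫ h' = b₀ := by
        apply (AlgSp.yon S).map_injective
        rw [Functor.map_comp]
        exact hc2
      rw [← Over.comp_left, this]

/-- **Existence of universal first order thickenings over an algebraic space, for schemes factoring
through a formally etale chart.** -/
theorem exists_univ_over {X : AlgSp.Sp S} (hX : AlgSp.IsAlgSpace X) {U V : Over S}
    (u : (AlgSp.yon S).obj U ⟶ X) (hu : AlgSp.IsFormallyEtaleMor u) (ψ : V ⟶ U)
    [FormallyUnramified ψ.left] :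
    ∃ (V' : Over S) (iV : V ⟶ V') (k : (AlgSp.yon S).obj V' ⟶ X),
      AlgSp.IsUnivFOThick ((AlgSp.yon S).map ψ ≫ u) ((AlgSp.yon S).map iV) k := by
  obtain ⟨Z', i, h', H⟩ := Groth.Agent.S9731.result ψ.left
  have hw : i ≫ h' = ψ.left := H.2.1
  let V' : Over S := Over.mk (h' ≫ U.hom)
  let iV : V ⟶ V' := Over.homMk i (by
    change i ≫ h' ≫ U.hom = V.hom
    rw [← Category.assoc, hw, Over.w ψ])
  let ψ' : V' ⟶ U := Over.homMk h' rfl
  have HU : AlgSp.IsUnivFOThick ((AlgSp.yon S).map ψ) ((AlgSp.yon S).map iV)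
      ((AlgSp.yon S).map ψ') := isUnivFOThick_yon ψ iV ψ' H
  let sV : AlgSp.Space S := ⟨(AlgSp.yon S).obj V, AlgSp.IsAlgSpace.yon_obj V⟩
  let sV' : AlgSp.Space S := ⟨(AlgSp.yon S).obj V', AlgSp.IsAlgSpace.yon_obj V'⟩
  let sU : AlgSp.Space S := ⟨(AlgSp.yon S).obj U, AlgSp.IsAlgSpace.yon_obj U⟩
  let sX : AlgSp.Space S := ⟨X, hX⟩
  have := Groth.Agent.S10631.result (Z := sV) (Z' := sV') (Y := sU) (X := sX)
    (ObjectProperty.homMk ((AlgSp.yon S).map ψ)) (ObjectProperty.homMk u)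
    (ObjectProperty.homMk ((AlgSp.yon S).map iV)) (ObjectProperty.homMk ((AlgSp.yon S).map ψ'))
    HU hu
  exact ⟨V', iV, (AlgSp.yon S).map ψ' ≫ u, this⟩

end Groth.Agent.R2.H47.UTBridge
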