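import Mathlib
import Groth.Prelude.Def_AlgSpInf
import Groth.Agent.R2.H47UTBase
import Groth.Agent.R2.H47UTBridge
import Groth.Agent.S10627

/-!
# Universal first order thickenings: the induced etale equivalence relation (helper47)
-/

set_option autoImplicit false
universe u
open CategoryTheory CategoryTheory.Limits AlgebraicGeometry Opposite
open AlgSp

namespace Groth.Agent.R2.H47.UTRel

variable {S : Scheme.{u}}

/-- an etale morphism of schemes is formally etale as a morphism of sheaves. -/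
lemma isFormallyEtaleMor_yon_of_etale {A B : Over S} (g : A ⟶ B) (hg : Etale g.left) :
    AlgSp.IsFormallyEtaleMor ((AlgSp.yon S).map g) := by
  let sA : AlgSp.Space S := ⟨(AlgSp.yon S).obj A, AlgSp.IsAlgSpace.yon_obj A⟩
  let sB : AlgSp.Space S := ⟨(AlgSp.yon S).obj B, AlgSp.IsAlgSpace.yon_obj B⟩
  let gg : sA ⟶ sB := ObjectProperty.homMk ((AlgSp.yon S).map g)
  exact ((Groth.Agent.S10627.result gg).1 ((AlgSp.isEtaleMor_yon_map_iff g).2 hg)).2

lemma isFormallyUnramifiedMor_of_isFormallyEtaleMor {F G : AlgSp.Sp S} {f : F ⟶ G}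
    (hf : AlgSp.IsFormallyEtaleMor f) : AlgSp.IsFormallyUnramifiedMor f :=
  ((Groth.Agent.Lib.Helper15.isFormallyEtaleMor_iff f).1 hf).2

/-- The data: a chart `v : V ⟶ Z` with kernel pair `R`, and universal first order thickenings
`V ⊂ V'`, `R ⊂ R'` over `X`, with the induced maps `s', t' : R' ⟶ V'`. -/
structure Setup (S : Scheme.{u}) where
  Z : AlgSp.Sp S
  X : AlgSp.Sp S
  hZ : AlgSp.IsAlgSpace Z
  hX : AlgSp.IsAlgSpace X
  h : Z ⟶ X
  V : Over S
  V' : Over S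
  R : Over S
  R' : Over S
  v : (AlgSp.yon S).obj V ⟶ Z
  s : R ⟶ V
  t : R ⟶ V
  hs : Etale s.left
  ht : Etale t.left
  hk : IsPullback ((AlgSp.yon S).map t) ((AlgSp.yon S).map s) v v
  iV : V ⟶ V'
  kV : (AlgSp.yon S).obj V' ⟶ X
  HV : AlgSp.IsUnivFOThick (v ≫ h) ((AlgSp.yon S).map iV) kV
  iR : R ⟶ R'
  kR : (AlgSp.yon S).obj R' ⟶ X
  HR : AlgSp.IsUnivFOThick ((AlgSp.yon S).map s ≫ v ≫ h) ((AlgSp.yon S).map iR) kR
  s' : R' ⟶ V'
  t' : R' ⟶ V'
  hs1 : iR ≫ s' = s ≫ iV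
  hs2 : (AlgSp.yon S).map s' ≫ kV = kR
  ht1 : iR ≫ t' = t ≫ iV
  ht2 : (AlgSp.yon S).map t' ≫ kV = kR

namespace Setup

variable (D : Setup S)

lemma hst : (AlgSp.yon S).map D.s ≫ D.v = (AlgSp.yon S).map D.t ≫ D.v := D.hk.w.symm

lemma HR' : AlgSp.IsUnivFOThick ((AlgSp.yon S).map D.t ≫ D.v ≫ D.h) ((AlgSp.yon S).map D.iR) D.kR := by
  have := D.HR
  rwa [← Category.assoc, D.hst, Category.assoc] at this

lemma isEtaleMor_s' : AlgSp.IsEtaleMor ((AlgSp.yon S).map D.s') :=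
  Groth.Agent.R2.H47.UnivThickLoc.etale_of_univ (AlgSp.IsAlgSpace.yon_obj D.V') (D.v ≫ D.h)
    ((AlgSp.yon S).map D.iV) D.kV D.HV ((AlgSp.yon S).map D.s)
    ((AlgSp.isEtaleMor_yon_map_iff D.s).2 D.hs) ((AlgSp.yon S).map D.iR) D.kR D.HR
    ((AlgSp.yon S).map D.s') (by rw [← Functor.map_comp, ← Functor.map_comp, D.hs1]) D.hs2

lemma isEtaleMor_t' : AlgSp.IsEtaleMor ((AlgSp.yon S).map D.t') :=
  Groth.Agent.R2.H47.UnivThickLoc.etale_of_univ (AlgSp.IsAlgSpace.yon_obj D.V') (D.v ≫ D.h)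
    ((AlgSp.yon S).map D.iV) D.kV D.HV ((AlgSp.yon S).map D.t)
    ((AlgSp.isEtaleMor_yon_map_iff D.t).2 D.ht) ((AlgSp.yon S).map D.iR) D.kR D.HR'
    ((AlgSp.yon S).map D.t') (by rw [← Functor.map_comp, ← Functor.map_comp, D.ht1]) D.ht2

lemma etale_s' : Etale D.s'.left := (AlgSp.isEtaleMor_yon_map_iff D.s').1 D.isEtaleMor_s'

lemma etale_t' : Etale D.t'.left := (AlgSp.isEtaleMor_yon_map_iff D.t').1 D.isEtaleMor_t'

/-- the swapped setup. -/
def swap : Setup S where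
  Z := D.Z
  X := D.X
  hZ := D.hZ
  hX := D.hX
  h := D.h
  V := D.V
  V' := D.V'
  R := D.R
  R' := D.R'
  v := D.v
  s := D.t
  t := D.s
  hs := D.ht
  ht := D.hs
  hk := D.hk.flip
  iV := D.iV
  kV := D.kV
  HV := D.HV
  iR := D.iR
  kR := D.kR
  HR := D.HR'
  s' := D.t'
  t' := D.s'
  hs1 := D.ht1
  hs2 := D.ht2
  ht1 := D.hs1
  ht2 := D.hs2

lemma isFOThickMor_iV : AlgSp.IsFOThickMor ((AlgSp.yon S).map D.iV) := D.HV.1

lemma isFOThickMor_iR : AlgSp.IsFOThickMor ((AlgSp.yon S).map D.iR) := D.HR.1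

instance mono_iV : Mono ((AlgSp.yon S).map D.iV) :=
  Groth.Agent.R2.H47.ThickTop.mono_of_isThickMor _ D.isFOThickMor_iV.1

instance mono_iR : Mono ((AlgSp.yon S).map D.iR) :=
  Groth.Agent.R2.H47.ThickTop.mono_of_isThickMor _ D.isFOThickMor_iR.1

open Groth.Agent.R2.H47.UTBase in
/-- `R = V ×_{V'} R'` along `s'`. -/
theorem isPullback_s' : IsPullback ((AlgSp.yon S).map D.s) ((AlgSp.yon S).map D.iR)
    ((AlgSp.yon S).map D.iV) ((AlgSp.yon S).map D.s') := by
  let Q : Over S := pullback D.iV D.s'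
  have hQ : IsPullback (pullback.fst D.iV D.s') (pullback.snd D.iV D.s') D.iV D.s' :=
    IsPullback.of_hasPullback _ _
  have hQy := hQ.map (AlgSp.yon S)
  let m : D.R ⟶ Q := pullback.lift D.s D.iR D.hs1.symm
  have hm1 : m ≫ pullback.fst D.iV D.s' = D.s := pullback.lift_fst _ _ _
  have hm2 : m ≫ pullback.snd D.iV D.s' = D.iR := pullback.lift_snd _ _ _
  haveI : Mono ((AlgSp.yon S).map (pullback.snd D.iV D.s')) := by
    have := hQy
    exact hQy.mono_snd_of_mono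
  have hmthick : AlgSp.IsFOThickMor ((AlgSp.yon S).map m) := by
    have sq := isPullback_id_of_mono ((AlgSp.yon S).map m)
      ((AlgSp.yon S).map (pullback.snd D.iV D.s'))
    rw [← Functor.map_comp, hm2] at sq
    exact isFOThickMor_of_isPullback (AlgSp.IsAlgSpace.yon_obj D.R') sq D.isFOThickMor_iR
  have hfstet : Etale (pullback.fst D.iV D.s').left := by
    have hsch := hQ.map (Over.forget S)
    exact MorphismProperty.of_isPullback (P := @Etale) hsch.flip D.etale_s'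
  haveI : IsIso ((AlgSp.yon S).map m) :=
    isIso_of_thick_of_etale (AlgSp.IsAlgSpace.yon_obj Q) _ hmthick ((AlgSp.yon S).map D.s)
      (isFormallyEtaleMor_yon_of_etale D.s D.hs) ((AlgSp.yon S).map (pullback.fst D.iV D.s'))
      (isFormallyUnramifiedMor_of_isFormallyEtaleMor (isFormallyEtaleMor_yon_of_etale _ hfstet))
      (by rw [← Functor.map_comp, hm1])
  refine IsPullback.of_iso hQy (asIso ((AlgSp.yon S).map m)).symm (Iso.refl _) (Iso.refl _)
    (Iso.refl _) ?_ ?_ (by simp) (by simp)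
  · simp only [Iso.symm_hom, asIso_inv, Iso.refl_hom, Category.comp_id, IsIso.eq_inv_comp]
    rw [← Functor.map_comp, hm1]
  · simp only [Iso.symm_hom, asIso_inv, Iso.refl_hom, Category.comp_id, IsIso.eq_inv_comp]
    rw [← Functor.map_comp, hm2]

/-- `R = V ×_{V'} R'` along `t'`. -/
theorem isPullback_t' : IsPullback ((AlgSp.yon S).map D.t) ((AlgSp.yon S).map D.iR)
    ((AlgSp.yon S).map D.iV) ((AlgSp.yon S).map D.t') :=
  D.swap.isPullback_s'


/-! ### the universal properties in scheme form -/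

open Groth.Agent.R2.H47.UTBase in
/-- uniqueness of maps to `V'`. -/
lemma uniqV {T T' : Over S} (j : T ⟶ T') (hj : AlgSp.IsFOThickMor ((AlgSp.yon S).map j))
    (a : T ⟶ D.V) (g g' : T' ⟶ D.V') (e1 : j ≫ g = a ≫ D.iV) (e1' : j ≫ g' = a ≫ D.iV)
    (e2 : (AlgSp.yon S).map g ≫ D.kV = (AlgSp.yon S).map g' ≫ D.kV) : g = g' := by
  apply (AlgSp.yon S).map_injective
  exact univ_uniq D.HV (AlgSp.IsAlgSpace.yon_obj T) (AlgSp.IsAlgSpace.yon_obj T')
    ((AlgSp.yon S).map j) hj ((AlgSp.yon S).map a) _ _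
    (by rw [← Functor.map_comp, e1, Functor.map_comp])
    (by rw [← Functor.map_comp, e1', Functor.map_comp]) e2

/-- existence of maps to `R'`. -/
lemma extR {T T' : Over S} (j : T ⟶ T') (hj : AlgSp.IsFOThickMor ((AlgSp.yon S).map j))
    (a : T ⟶ D.R) (b : (AlgSp.yon S).obj T' ⟶ D.X)
    (comm : (AlgSp.yon S).map j ≫ b = (AlgSp.yon S).map (a ≫ D.s) ≫ D.v ≫ D.h) :
    ∃ a' : T' ⟶ D.R', j ≫ a' = a ≫ D.iR ∧ (AlgSp.yon S).map a' ≫ D.kR = b := by
  obtain ⟨c, ⟨hc1, hc2⟩, -⟩ := D.HR.2.2 (AlgSp.IsAlgSpace.yon_obj T) (AlgSp.IsAlgSpace.yon_obj T')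
    ((AlgSp.yon S).map j) ((AlgSp.yon S).map a) b hj (by
      rw [comm, Functor.map_comp, Category.assoc])
  obtain ⟨a', rfl⟩ := (AlgSp.yon S).map_surjective c
  refine ⟨a', ?_, hc2⟩
  apply (AlgSp.yon S).map_injective
  rw [Functor.map_comp, Functor.map_comp]
  exact hc1

lemma kR_eq_s : D.kR = (AlgSp.yon S).map D.s' ≫ D.kV := D.hs2.symm

lemma kR_eq_t : D.kR = (AlgSp.yon S).map D.t' ≫ D.kV := D.ht2.symm

/-! ### reflexivity -/

theorem exists_refl : ∃ e' : D.V' ⟶ D.R', e' ≫ D.s' = 𝟙 _ ∧ e' ≫ D.t' = 𝟙 _ := by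
  obtain ⟨e, he⟩ := (AlgSp.yon S).map_surjective (D.hk.lift (𝟙 _) (𝟙 _) rfl)
  have het : e ≫ D.t = 𝟙 _ := by
    apply (AlgSp.yon S).map_injective
    rw [Functor.map_comp, he, D.hk.lift_fst, CategoryTheory.Functor.map_id]
  have hes : e ≫ D.s = 𝟙 _ := by
    apply (AlgSp.yon S).map_injective
    rw [Functor.map_comp, he, D.hk.lift_snd, CategoryTheory.Functor.map_id]
  obtain ⟨e', he1, he2⟩ := D.extR D.iV D.isFOThickMor_iV e D.kV (by
    rw [hes, CategoryTheory.Functor.map_id, Category.id_comp]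
    exact D.HV.2.1)
  refine ⟨e', ?_, ?_⟩
  · refine D.uniqV D.iV D.isFOThickMor_iV (𝟙 _) _ _ ?_ (by simp) ?_
    · rw [← Category.assoc, he1, Category.assoc, D.hs1, ← Category.assoc, hes]
    · rw [Functor.map_comp, Category.assoc, D.hs2, he2, CategoryTheory.Functor.map_id, Category.id_comp]
  · refine D.uniqV D.iV D.isFOThickMor_iV (𝟙 _) _ _ ?_ (by simp) ?_
    · rw [← Category.assoc, he1, Category.assoc, D.ht1, ← Category.assoc, het]
    · rw [Functor.map_comp, Category.assoc, D.ht2, he2, CategoryTheory.Functor.map_id, Category.id_comp]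

/-! ### symmetry -/

theorem exists_symm : ∃ σ' : D.R' ⟶ D.R', σ' ≫ D.s' = D.t' ∧ σ' ≫ D.t' = D.s' := by
  obtain ⟨σ, hσ⟩ := (AlgSp.yon S).map_surjective
    (D.hk.lift ((AlgSp.yon S).map D.s) ((AlgSp.yon S).map D.t) D.hst)
  have hσt : σ ≫ D.t = D.s := by
    apply (AlgSp.yon S).map_injective
    rw [Functor.map_comp, hσ, D.hk.lift_fst]
  have hσs : σ ≫ D.s = D.t := by
    apply (AlgSp.yon S).map_injective
    rw [Functor.map_comp, hσ, D.hk.lift_snd]
  obtain ⟨σ', h1, h2⟩ := D.extR D.iR D.isFOThickMor_iR σ D.kR (by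
    rw [hσs, D.HR.2.1, ← Category.assoc, D.hst, Category.assoc])
  refine ⟨σ', ?_, ?_⟩
  · refine D.uniqV D.iR D.isFOThickMor_iR D.t _ _ ?_ D.ht1 ?_
    · rw [← Category.assoc, h1, Category.assoc, D.hs1, ← Category.assoc, hσs]
    · rw [Functor.map_comp, Category.assoc, D.hs2, h2, D.ht2]
  · refine D.uniqV D.iR D.isFOThickMor_iR D.s _ _ ?_ D.hs1 ?_
    · rw [← Category.assoc, h1, Category.assoc, D.ht1, ← Category.assoc, hσt]
    · rw [Functor.map_comp, Category.assoc, D.ht2, h2, D.hs2]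

/-! ### transitivity -/

lemma isPullback_t'_sch : IsPullback D.t D.iR D.iV D.t' :=
  IsPullback.of_map (AlgSp.yon S) (by rw [D.ht1]) (by
    have := D.isPullback_t'
    exact this)

open Groth.Agent.R2.H47.UTBase in
theorem exists_trans : ∃ c' : pullback D.s' D.t' ⟶ D.R',
    c' ≫ D.t' = pullback.fst D.s' D.t' ≫ D.t' ∧ c' ≫ D.s' = pullback.snd D.s' D.t' ≫ D.s' := by
  set p₁ := pullback.fst D.s D.t with hp₁
  set p₂ := pullback.snd D.s D.t with hp₂
  set p₁' := pullback.fst D.s' D.t' with hp₁'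
  set p₂' := pullback.snd D.s' D.t' with hp₂'
  have hP : IsPullback p₁ p₂ D.s D.t := IsPullback.of_hasPullback _ _
  have hP' : IsPullback p₁' p₂' D.s' D.t' := IsPullback.of_hasPullback _ _
  -- the composition on `R`
  have hw : (AlgSp.yon S).map (p₁ ≫ D.t) ≫ D.v = (AlgSp.yon S).map (p₂ ≫ D.s) ≫ D.v := by
    rw [Functor.map_comp, Functor.map_comp, Category.assoc, Category.assoc, ← D.hst, D.hst,
      ← D.hst, ← Category.assoc, ← Functor.map_comp, hP.w, Functor.map_comp, Category.assoc, D.hst]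
  obtain ⟨c, hc⟩ := (AlgSp.yon S).map_surjective (D.hk.lift _ _ hw)
  have hct : c ≫ D.t = p₁ ≫ D.t := by
    apply (AlgSp.yon S).map_injective
    rw [Functor.map_comp, hc, D.hk.lift_fst]
  have hcs : c ≫ D.s = p₂ ≫ D.s := by
    apply (AlgSp.yon S).map_injective
    rw [Functor.map_comp, hc, D.hk.lift_snd]
  -- the thickening `P ⊂ P'`
  let iP : pullback D.s D.t ⟶ pullback D.s' D.t' := pullback.lift (p₁ ≫ D.iR) (p₂ ≫ D.iR) (by
    rw [Category.assoc, D.hs1, ← Category.assoc, hP.w, Category.assoc, Category.assoc, D.ht1])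
  have hiP1 : iP ≫ p₁' = p₁ ≫ D.iR := pullback.lift_fst _ _ _
  have hiP2 : iP ≫ p₂' = p₂ ≫ D.iR := pullback.lift_snd _ _ _
  have houter : IsPullback (p₂ ≫ D.iR) p₁ D.t' (D.s ≫ D.iV) :=
    hP.flip.paste_horiz D.isPullback_t'_sch.flip
  have hleft : IsPullback iP p₁ p₁' D.iR := by
    refine IsPullback.of_right ?_ hiP1 hP'.flip
    rw [hiP2, D.hs1]
    exact houter
  have hiPthick : AlgSp.IsFOThickMor ((AlgSp.yon S).map iP) :=
    isFOThickMor_of_isPullback (AlgSp.IsAlgSpace.yon_obj D.R') (hleft.flip.map (AlgSp.yon S))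
      D.isFOThickMor_iR
  have hkR12 : (AlgSp.yon S).map p₁' ≫ D.kR = (AlgSp.yon S).map p₂' ≫ D.kR := by
    rw [D.kR_eq_s, ← Category.assoc, ← Functor.map_comp, hP'.w, Functor.map_comp, Category.assoc,
      D.ht2, D.hs2]
  have key : (AlgSp.yon S).map p₁ ≫ (AlgSp.yon S).map D.s ≫ D.v =
      (AlgSp.yon S).map p₂ ≫ (AlgSp.yon S).map D.s ≫ D.v := by
    rw [← Category.assoc, ← Functor.map_comp, hP.w, Functor.map_comp, Category.assoc, ← D.hst]
  obtain ⟨c', hc1, hc2⟩ := D.extR iP hiPthick c ((AlgSp.yon S).map p₁' ≫ D.kR) (by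
    rw [← Category.assoc, ← Functor.map_comp, hiP1, Functor.map_comp, Category.assoc, D.HR.2.1,
      hcs, Functor.map_comp, Category.assoc]
    calc (AlgSp.yon S).map p₁ ≫ (AlgSp.yon S).map D.s ≫ D.v ≫ D.h
        = ((AlgSp.yon S).map p₁ ≫ (AlgSp.yon S).map D.s ≫ D.v) ≫ D.h := by
          simp only [Category.assoc]
      _ = ((AlgSp.yon S).map p₂ ≫ (AlgSp.yon S).map D.s ≫ D.v) ≫ D.h := by rw [key]
      _ = _ := by simp only [Category.assoc])
  refine ⟨c', ?_, ?_⟩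
  · refine D.uniqV iP hiPthick (p₁ ≫ D.t) _ _ ?_ ?_ ?_
    · rw [← Category.assoc, hc1, Category.assoc, D.ht1, ← Category.assoc, hct]
    · rw [← Category.assoc, hiP1, Category.assoc, D.ht1, Category.assoc]
    · rw [Functor.map_comp, Category.assoc, D.ht2, hc2, Functor.map_comp, Category.assoc, D.ht2]
  · refine D.uniqV iP hiPthick (p₂ ≫ D.s) _ _ ?_ ?_ ?_
    · rw [← Category.assoc, hc1, Category.assoc, D.hs1, ← Category.assoc, hcs]
    · rw [← Category.assoc, hiP2, Category.assoc, D.hs1, Category.assoc]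
    · rw [Functor.map_comp, Category.assoc, D.hs2, hc2, Functor.map_comp, Category.assoc, D.hs2,
        hkR12]


/-! ### the pair `(t', s')` is jointly monic -/

lemma mono_iV_sch : Mono D.iV := (AlgSp.yon S).mono_of_mono_map D.mono_iV

open Groth.Agent.R2.H47.UTBase in
theorem injective' (T : Over S) (r r' : T ⟶ D.R') (ht : r ≫ D.t' = r' ≫ D.t')
    (hs : r ≫ D.s' = r' ≫ D.s') : r = r' := by
  haveI := D.mono_iV_sch
  have hfu : AlgSp.IsFormallyUnramifiedMor ((AlgSp.yon S).map D.s') :=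
    isFormallyUnramifiedMor_of_isFormallyEtaleMor (isFormallyEtaleMor_yon_of_etale _ D.etale_s')
  -- the thin parts
  set j₁ := pullback.fst r D.iR with hj₁
  set r₁ := pullback.snd r D.iR with hr₁
  set j₁' := pullback.fst r' D.iR with hj₁'
  set r₁' := pullback.snd r' D.iR with hr₁'
  have h1 : IsPullback j₁ r₁ r D.iR := IsPullback.of_hasPullback _ _
  have h1' : IsPullback j₁' r₁' r' D.iR := IsPullback.of_hasPullback _ _
  set q := pullback.fst j₁ j₁' with hq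
  set q' := pullback.snd j₁ j₁' with hq'
  have h0 : IsPullback q q' j₁ j₁' := IsPullback.of_hasPullback _ _
  have hj₁thick : AlgSp.IsFOThickMor ((AlgSp.yon S).map j₁) :=
    isFOThickMor_of_isPullback (AlgSp.IsAlgSpace.yon_obj D.R') (h1.flip.map (AlgSp.yon S))
      D.isFOThickMor_iR
  have hj₁'thick : AlgSp.IsFOThickMor ((AlgSp.yon S).map j₁') :=
    isFOThickMor_of_isPullback (AlgSp.IsAlgSpace.yon_obj D.R') (h1'.flip.map (AlgSp.yon S))
      D.isFOThickMor_iR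
  have hqthick : AlgSp.IsFOThickMor ((AlgSp.yon S).map q) :=
    isFOThickMor_of_isPullback (AlgSp.IsAlgSpace.yon_obj T) (h0.flip.map (AlgSp.yon S))
      hj₁'thick
  -- the two maps to `R` on the common thin part agree
  have e1 : (q ≫ r₁) ≫ D.iR = q ≫ j₁ ≫ r := by rw [Category.assoc, ← h1.w]
  have e2 : (q' ≫ r₁') ≫ D.iR = q ≫ j₁ ≫ r' := by
    rw [Category.assoc, ← h1'.w, ← Category.assoc, ← h0.w, Category.assoc]
  have hs0 : (q ≫ r₁) ≫ D.s = (q' ≫ r₁') ≫ D.s := by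
    rw [← cancel_mono D.iV]
    calc ((q ≫ r₁) ≫ D.s) ≫ D.iV = ((q ≫ r₁) ≫ D.iR) ≫ D.s' := by
          simp only [Category.assoc, D.hs1]
      _ = ((q' ≫ r₁') ≫ D.iR) ≫ D.s' := by
          rw [e1, e2]
          simp only [Category.assoc, hs]
      _ = ((q' ≫ r₁') ≫ D.s) ≫ D.iV := by
          simp only [Category.assoc, D.hs1]
  have ht0 : (q ≫ r₁) ≫ D.t = (q' ≫ r₁') ≫ D.t := by
    rw [← cancel_mono D.iV]
    calc ((q ≫ r₁) ≫ D.t) ≫ D.iV = ((q ≫ r₁) ≫ D.iR) ≫ D.t' := by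
          simp only [Category.assoc, D.ht1]
      _ = ((q' ≫ r₁') ≫ D.iR) ≫ D.t' := by
          rw [e1, e2]
          simp only [Category.assoc, ht]
      _ = ((q' ≫ r₁') ≫ D.t) ≫ D.iV := by
          simp only [Category.assoc, D.ht1]
  have h00 : q ≫ r₁ = q' ≫ r₁' := by
    apply (AlgSp.yon S).map_injective
    apply D.hk.hom_ext
    · rw [← Functor.map_comp, ← Functor.map_comp, ht0]
    · rw [← Functor.map_comp, ← Functor.map_comp, hs0]
  have e3 : q ≫ j₁ ≫ r = q ≫ j₁ ≫ r' := by rw [← e1, ← e2, h00]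
  -- step 1
  have step1 : j₁ ≫ r = j₁ ≫ r' := by
    apply (AlgSp.yon S).map_injective
    refine Groth.Agent.R2.H47.SpThick.uniq_lift_of_unramified hfu (AlgSp.IsAlgSpace.yon_obj _)
      ((AlgSp.yon S).map q) hqthick _ _ ?_ ?_
    · rw [← Functor.map_comp, ← Functor.map_comp, e3]
    · rw [← Functor.map_comp, ← Functor.map_comp, Category.assoc, Category.assoc, hs]
  -- step 2
  apply (AlgSp.yon S).map_injective
  refine Groth.Agent.R2.H47.SpThick.uniq_lift_of_unramified hfu (AlgSp.IsAlgSpace.yon_obj _)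
    ((AlgSp.yon S).map j₁) hj₁thick _ _ ?_ ?_
  · rw [← Functor.map_comp, ← Functor.map_comp, step1]
  · rw [← Functor.map_comp, ← Functor.map_comp, hs]

/-- **The induced relation on the universal thickening is an etale equivalence relation.** -/
theorem isEtaleEqvRel : AlgSp.IsEtaleEqvRel D.s' D.t' := by
  obtain ⟨e', he1, he2⟩ := D.exists_refl
  obtain ⟨σ', hσ1, hσ2⟩ := D.exists_symm
  obtain ⟨c', hc1, hc2⟩ := D.exists_trans
  refine ⟨⟨D.injective', fun T => ⟨?_, ?_, ?_⟩⟩, D.etale_s', D.etale_t'⟩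
  · intro a
    exact ⟨a ≫ e', by rw [Category.assoc, he2, Category.comp_id],
      by rw [Category.assoc, he1, Category.comp_id]⟩
  · rintro a b ⟨r, rfl, rfl⟩
    exact ⟨r ≫ σ', by rw [Category.assoc, hσ2], by rw [Category.assoc, hσ1]⟩
  · rintro a b c ⟨r₁, rfl, rfl⟩ ⟨r₂, h2, rfl⟩
    refine ⟨pullback.lift r₁ r₂ h2.symm ≫ c', ?_, ?_⟩
    · rw [Category.assoc, hc1, ← Category.assoc, pullback.lift_fst]
    · rw [Category.assoc, hc2, ← Category.assoc, pullback.lift_snd]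

end Setup

end Groth.Agent.R2.H47.UTRel
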