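import Mathlib
import Groth.Prelude.Def_AlgSpGpd
import Groth.Agent.Lib.Helper12LocPCases
import Groth.Agent.S9874

/-!
helper84: restriction of a groupoid in sheaves: `s'` and `t'` are base changes of composites of
base changes of `s`, `t` and `g`.
-/

set_option autoImplicit false

open CategoryTheory CategoryTheory.Limits AlgebraicGeometry

universe u

namespace Groth.Agent.R2.H84.GpdRestr

variable {S : Scheme.{u}}

section Abstract

variable {R U R' U' : AlgSp.Sp S} (t s : R ⟶ U) (t' s' : R' ⟶ U') (fR : R' ⟶ R) (fU : U' ⟶ U)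

/-- `R'` is the restriction of `R` along `fU`, on points. -/
def Restr : Prop :=
  ∀ ⦃T : AlgSp.Sp S⦄ (u₁ u₂ : T ⟶ U') (r : T ⟶ R), u₁ ≫ fU = r ≫ t → u₂ ≫ fU = r ≫ s →
    ∃! r' : T ⟶ R', r' ≫ fR = r ∧ r' ≫ t' = u₁ ∧ r' ≫ s' = u₂

variable {t s t' s' fR fU}

lemma Restr.symm (h : Restr t s t' s' fR fU) : Restr s t s' t' fR fU := by
  intro T u₁ u₂ r h1 h2
  obtain ⟨r', ⟨a, b, c⟩, uniq⟩ := h u₂ u₁ r h2 h1
  exact ⟨r', ⟨a, c, b⟩, fun y hy => uniq y ⟨hy.1, hy.2.2, hy.2.1⟩⟩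

lemma Restr.isPullback (h : Restr t s t' s' fR fU) (ht : t' ≫ fU = fR ≫ t)
    (hs : s' ≫ fU = fR ≫ s) :
    IsPullback (pullback.lift t' fR ht) s' (pullback.snd fU t ≫ s) fU := by
  have hex : ∀ c : PullbackCone (pullback.snd fU t ≫ s) fU,
      ∃! r' : c.pt ⟶ R', r' ≫ fR = c.fst ≫ pullback.snd fU t ∧
        r' ≫ t' = c.fst ≫ pullback.fst fU t ∧ r' ≫ s' = c.snd := fun c =>
    h (c.fst ≫ pullback.fst fU t) c.snd (c.fst ≫ pullback.snd fU t)
      (by rw [Category.assoc, Category.assoc, pullback.condition])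
      (by rw [← c.condition, Category.assoc])
  refine ⟨⟨?_⟩, ⟨PullbackCone.IsLimit.mk _ (fun c => (hex c).choose) ?_ ?_ ?_⟩⟩
  · rw [← Category.assoc, pullback.lift_snd, hs]
  · intro c
    obtain ⟨⟨h1, h2, h3⟩, -⟩ := (hex c).choose_spec
    apply pullback.hom_ext
    · rw [Category.assoc, pullback.lift_fst, h2]
    · rw [Category.assoc, pullback.lift_snd, h1]
  · intro c
    exact (hex c).choose_spec.1.2.2
  · intro c m hm1 hm2
    refine (hex c).choose_spec.2 m ⟨?_, ?_, hm2⟩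
    · rw [← hm1, Category.assoc, pullback.lift_snd]
    · rw [← hm1, Category.assoc, pullback.lift_fst]

end Abstract

section Gpd

variable {B : AlgSp.Sp S} {G' G : AlgSp.GroupoidSp B} (φ : AlgSp.GroupoidSp.Hom G' G)

lemma restr_of_isRestriction (hφ : φ.IsRestriction) :
    Restr G.t G.s G'.t G'.s φ.fR φ.fU := by
  intro T u₁ u₂ r h1 h2
  have hB : u₁ ≫ G'.pU = u₂ ≫ G'.pU := by
    rw [← φ.fU_over, ← Category.assoc, h1, ← Category.assoc, h2, Category.assoc, Category.assoc,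
      G.t_over, G.s_over]
  have hcomp : r ≫ G.j = pullback.lift u₁ u₂ hB ≫ φ.prodMap := by
    apply pullback.hom_ext
    · rw [Category.assoc, G.j_fst, Category.assoc, AlgSp.GroupoidSp.Hom.prodMap, pullback.lift_fst,
        ← Category.assoc, pullback.lift_fst, h1]
    · rw [Category.assoc, G.j_snd, Category.assoc, AlgSp.GroupoidSp.Hom.prodMap, pullback.lift_snd,
        ← Category.assoc, pullback.lift_snd, h2]
  refine ⟨hφ.lift r (pullback.lift u₁ u₂ hB) hcomp, ⟨hφ.lift_fst _ _ _, ?_, ?_⟩, ?_⟩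
  · have := hφ.lift_snd r (pullback.lift u₁ u₂ hB) hcomp =≫ pullback.fst G'.pU G'.pU
    rwa [Category.assoc, G'.j_fst, pullback.lift_fst] at this
  · have := hφ.lift_snd r (pullback.lift u₁ u₂ hB) hcomp =≫ pullback.snd G'.pU G'.pU
    rwa [Category.assoc, G'.j_snd, pullback.lift_snd] at this
  · rintro y ⟨hy1, hy2, hy3⟩
    apply hφ.hom_ext
    · rw [hy1, hφ.lift_fst]
    · rw [hφ.lift_snd]
      apply pullback.hom_ext
      · rw [Category.assoc, G'.j_fst, hy2, pullback.lift_fst]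
      · rw [Category.assoc, G'.j_snd, hy3, pullback.lift_snd]

open Groth.Agent.Lib.Helper12.LocPCases in
/-- a "good" property passes from `s`, `t`, `g` to `s'`, `t'` for a restriction. -/
theorem locP_restriction {P : MorphismProperty Scheme.{u}} (hP : Good P)
    (hU : AlgSp.IsAlgSpace G.U) (hR : AlgSp.IsAlgSpace G.R) (hU' : AlgSp.IsAlgSpace G'.U)
    (hφ : φ.IsRestriction) (hs : AlgSp.LocP P G.s) (ht : AlgSp.LocP P G.t)
    (hg : AlgSp.LocP P φ.fU) : AlgSp.LocP P G'.s ∧ AlgSp.LocP P G'.t := by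
  have hr := restr_of_isRestriction φ hφ
  have key : ∀ {t s : G.R ⟶ G.U} {t' s' : G'.R ⟶ G'.U}, Restr t s t' s' φ.fR φ.fU →
      t' ≫ φ.fU = φ.fR ≫ t → s' ≫ φ.fU = φ.fR ≫ s → AlgSp.LocP P s → AlgSp.LocP P s' := by
    intro t s t' s' hr ht' hs' hPs
    have hA : AlgSp.IsAlgSpace (pullback φ.fU t) :=
      Groth.Agent.S9874.isAlgSpace_of_isPullback hU.diag hU' hR (IsPullback.of_hasPullback _ _)
    have h1 : AlgSp.LocP P (pullback.snd φ.fU t) :=
      hP.locP_baseChange hU' hU hR (IsPullback.of_hasPullback φ.fU t) hg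
    have h2 : AlgSp.LocP P (pullback.snd φ.fU t ≫ s) := hP.locP_comp hR hU _ _ h1 hPs
    exact hP.locP_baseChange hA hU hU' (hr.isPullback ht' hs') h2
  exact ⟨key hr φ.comm_t.symm φ.comm_s.symm hs, key hr.symm φ.comm_s.symm φ.comm_t.symm ht⟩

end Gpd

end Groth.Agent.R2.H84.GpdRestr
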