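import Mathlib
import Groth.Prelude.Def_AlgSpGpd
import Groth.Prelude.Def_AlgSp4
import Groth.Agent.Lib.Helper12LocPCases
import Groth.Agent.Lib.Helper12OnePoint
import Groth.Agent.Lib.Helper11Homog
import Groth.Agent.Lib.Helper15Descent
import Groth.Agent.S9911
import Groth.Agent.S9874

/-!
helper84: morphisms to the spectrum of a field are flat and universally open (for sheaves / algebraic
spaces), the shear isomorphism of a group object, and stability of `UnivSp` under base change.
-/

set_option autoImplicit false

open CategoryTheory CategoryTheory.Limits AlgebraicGeometry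

universe u

namespace Groth.Agent.R2.H84.GrpField

section Shear

open MonoidalCategory CartesianMonoidalCategory MonObj

variable {C : Type*} [Category C] [CartesianMonoidalCategory C]

/-- the shear isomorphism `(g, h) ↦ (g h, h)` of a group object. -/
def shear (G : C) [GrpObj G] : G ⊗ G ≅ G ⊗ G where
  hom := lift (fst G G * snd G G) (snd G G)
  inv := lift (fst G G / snd G G) (snd G G)
  hom_inv_id := by
    apply CartesianMonoidalCategory.hom_ext
    · rw [Category.assoc, lift_fst, GrpObj.comp_div, lift_fst, lift_snd, mul_div_cancel_right,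
        Category.id_comp]
    · rw [Category.assoc, lift_snd, lift_snd, Category.id_comp]
  inv_hom_id := by
    apply CartesianMonoidalCategory.hom_ext
    · rw [Category.assoc, lift_fst, MonObj.comp_mul, lift_fst, lift_snd, div_mul_cancel,
        Category.id_comp]
    · rw [Category.assoc, lift_snd, lift_snd, Category.id_comp]

lemma shear_hom_fst (G : C) [GrpObj G] : (shear G).hom ≫ fst G G = μ[G] := by
  rw [shear, lift_fst, MonObj.mul_eq_mul]

end Shear

section Sch

/-- every morphism to a scheme étale over a field is flat. -/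
lemma flat_of_etale_over_field {X Y : Scheme.{u}} (k : Type u) [Field k] (f : X ⟶ Y)
    (q : Y ⟶ Spec (CommRingCat.of k)) [Etale q] : Flat f := by
  have : IsReduced (Spec (CommRingCat.of k)) := inferInstance
  have : IsReduced Y := Groth.Agent.Lib.Helper12.Reduced.isReduced_of_smooth q
  apply Flat.of_stalkMap
  intro x
  have := Groth.Agent.Lib.Helper12.OnePoint.subsingleton_primeSpectrum_stalk k q (f x)
  apply Groth.Agent.Lib.Helper11Homog.flat_of_isField_source
  exact PrimeSpectrum.subsingleton_iff_isField_of_isReduced.1 inferInstance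

end Sch

section Sp

variable {S : Scheme.{u}}

/-- every morphism of sheaves to the spectrum of a field is flat. -/
lemma locP_flat_to_field {F : AlgSp.Sp S} (k : Type u) [Field k]
    (str : Spec (CommRingCat.of k) ⟶ S) (p : F ⟶ (AlgSp.yon S).obj (Over.mk str)) :
    AlgSp.LocP @Flat p := by
  intro U V a b h ha hb hcomm
  obtain ⟨β, rfl⟩ := (AlgSp.yon S).map_surjective b
  have : Etale β.left := (AlgSp.repWith_yon_map_iff _ _).1 hb
  exact flat_of_etale_over_field k h.left β.left

/-- `UnivSp Q` is stable under base change. -/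
lemma univSp_of_isPullback (Q : MorphismProperty (AlgSp.Sp S)) {X Y X' Y' : AlgSp.Sp S} {f : X ⟶ Y}
    {g : Y' ⟶ Y} {fst : X' ⟶ X} {f' : X' ⟶ Y'} (sq : IsPullback fst f' f g)
    (hf : AlgSp.UnivSp Q f) : AlgSp.UnivSp Q f' := by
  intro Z Z' hZ k a b sq'
  exact hf hZ (k ≫ g) (a ≫ fst) b (sq'.paste_horiz sq)

/-- `UnivSp Q` is stable under precomposition with isomorphisms. -/
lemma univSp_iso_comp (Q : MorphismProperty (AlgSp.Sp S)) {X X' Y : AlgSp.Sp S} (i : X' ≅ X)
    (f : X ⟶ Y) (hf : AlgSp.UnivSp Q f) : AlgSp.UnivSp Q (i.hom ≫ f) := by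
  intro Z Z' hZ k a b sq'
  refine hf hZ k (a ≫ i.hom) b ?_
  have hi : IsPullback i.hom (i.hom ≫ f) f (𝟙 Y) :=
    IsPullback.of_horiz_isIso ⟨by rw [Category.comp_id]⟩
  have h := sq'.paste_horiz hi
  rwa [Category.comp_id] at h

end Sp

end Groth.Agent.R2.H84.GrpField
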