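import Mathlib
import Groth.Prelude.Def_AlgSpGpd
import Groth.Prelude.Def_AlgSp4
import Groth.Agent.R2.H84GrpField
import Groth.Agent.R2.H84GpdRestr
import Groth.Agent.S9907
import Groth.Agent.S9947

/-!
helper84: groupoids in algebraic spaces over the spectrum of a field and their restrictions along
field extensions: surjectivity, flatness, universal openness, affineness of the structure arrows.
-/

set_option autoImplicit false

open CategoryTheory CategoryTheory.Limits AlgebraicGeometry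

universe u

namespace Groth.Agent.R2.H84.GpdFieldExt

variable {S : Scheme.{u}}

section Basic

lemma isSurjectiveMor_of_section {F U : AlgSp.Sp S} (p : F ⟶ U) (e : U ⟶ F) (he : e ≫ p = 𝟙 U) :
    AlgSp.IsSurjectiveMor p := by
  intro x
  refine ⟨AlgSp.Points.map e x, ?_⟩
  rw [← AlgSp.Points.map_comp, he, AlgSp.Points.map_id]

lemma isSurjectiveMor_comp {X Y Z : AlgSp.Sp S} (f : X ⟶ Y) (g : Y ⟶ Z)
    (hf : AlgSp.IsSurjectiveMor f) (hg : AlgSp.IsSurjectiveMor g) :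
    AlgSp.IsSurjectiveMor (f ≫ g) := by
  intro z
  obtain ⟨y, rfl⟩ := hg z
  obtain ⟨x, rfl⟩ := hf y
  exact ⟨x, AlgSp.Points.map_comp f g x⟩

lemma points_map_injective_of_iso {U V : AlgSp.Sp S} (e : U ≅ V) :
    Function.Injective (AlgSp.Points.map e.hom) := by
  intro x y h
  have := congrArg (AlgSp.Points.map e.inv) h
  rwa [← AlgSp.Points.map_comp, ← AlgSp.Points.map_comp, e.hom_inv_id, AlgSp.Points.map_id,
    AlgSp.Points.map_id] at this

lemma subsingleton_points {U : AlgSp.Sp S} {k : Type u} [Field k]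
    {σ : Spec (CommRingCat.of k) ⟶ S} (eU : U ≅ (AlgSp.yon S).obj (Over.mk σ)) :
    Subsingleton (AlgSp.Points U) := by
  have h0 : Subsingleton ↥(Over.mk σ).left := by
    change Subsingleton ↥(Spec (CommRingCat.of k))
    infer_instance
  have h1 : Subsingleton (AlgSp.Points ((AlgSp.yon S).obj (Over.mk σ))) :=
    (AlgSp.Points.schemeEquiv (Over.mk σ)).symm.injective.subsingleton
  exact (points_map_injective_of_iso eU).subsingleton

lemma nonempty_points {U : AlgSp.Sp S} {k : Type u} [Field k]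
    {σ : Spec (CommRingCat.of k) ⟶ S} (eU : U ≅ (AlgSp.yon S).obj (Over.mk σ)) :
    Nonempty (AlgSp.Points U) := by
  have h0 : Nonempty ↥(Over.mk σ).left := by
    change Nonempty ↥(Spec (CommRingCat.of k))
    infer_instance
  obtain ⟨x⟩ := h0
  exact ⟨AlgSp.Points.map eU.inv (AlgSp.Points.ofScheme (Over.mk σ) x)⟩

lemma isSurjectiveMor_to_field {F U : AlgSp.Sp S} {k : Type u} [Field k]
    {σ : Spec (CommRingCat.of k) ⟶ S} (eU : U ≅ (AlgSp.yon S).obj (Over.mk σ)) (p : F ⟶ U)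
    (hF : Nonempty (AlgSp.Points F)) : AlgSp.IsSurjectiveMor p := by
  intro x
  obtain ⟨y⟩ := hF
  have := subsingleton_points eU
  exact ⟨y, Subsingleton.elim _ _⟩

lemma locP_flat_to_field_iso {F U : AlgSp.Sp S} {k : Type u} [Field k]
    {σ : Spec (CommRingCat.of k) ⟶ S} (eU : U ≅ (AlgSp.yon S).obj (Over.mk σ)) (p : F ⟶ U) :
    AlgSp.LocP @Flat p := by
  intro A V a b h ha hb hcomm
  have h1 := Groth.Agent.R2.H84.GrpField.locP_flat_to_field k σ (p ≫ eU.hom)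
  refine h1 a (b ≫ eU.hom) h ha ((AlgSp.RepWith @Etale).comp_mem _ _ hb
    (Groth.Agent.Lib.Helper15Descent.repWith_etale_of_isIso _)) ?_
  rw [← Category.assoc, hcomm, Category.assoc]

lemma univSp_comp_iso (Q : MorphismProperty (AlgSp.Sp S)) {X Y Y' : AlgSp.Sp S} (f : X ⟶ Y)
    (i : Y ≅ Y') (hf : AlgSp.UnivSp Q (f ≫ i.hom)) : AlgSp.UnivSp Q f := by
  intro Z Z' hZ k a b sq
  refine hf hZ (k ≫ i.hom) a b ?_
  have hi : IsPullback f (𝟙 X) i.hom (f ≫ i.hom) :=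
    IsPullback.of_vert_isIso ⟨by rw [Category.id_comp]⟩
  have h := (sq.flip.paste_vert hi).flip
  rwa [Category.comp_id] at h

lemma isUnivOpenMor_to_field_iso {F U : AlgSp.Sp S} (hF : AlgSp.IsAlgSpace F) {k : Type u}
    [Field k] {σ : Spec (CommRingCat.of k) ⟶ S} (eU : U ≅ (AlgSp.yon S).obj (Over.mk σ))
    (p : F ⟶ U) : AlgSp.IsUnivOpenMor p :=
  univSp_comp_iso _ p eU
    (Groth.Agent.S9911.result (X := ⟨F, hF⟩) σ (ObjectProperty.homMk (p ≫ eU.hom)))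

lemma isUnivOpenMor_comp {X Y Z : AlgSp.Sp S} (hY : AlgSp.IsAlgSpace Y) (hZ : AlgSp.IsAlgSpace Z)
    (f : X ⟶ Y) (g : Y ⟶ Z) (hf : AlgSp.IsUnivOpenMor f) (hg : AlgSp.IsUnivOpenMor g) :
    AlgSp.IsUnivOpenMor (f ≫ g) := by
  intro T T' hT k a b sq
  have sqR := IsPullback.of_hasPullback g k
  have hP : AlgSp.IsAlgSpace (pullback g k) :=
    Groth.Agent.S9874.isAlgSpace_of_isPullback hZ.diag hY hT sqR
  have hc : (a ≫ f) ≫ g = b ≫ k := by rw [Category.assoc, sq.w]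
  have hb : b = pullback.lift (a ≫ f) b hc ≫ pullback.snd g k := (pullback.lift_snd _ _ _).symm
  have sqL : IsPullback a (pullback.lift (a ≫ f) b hc) f (pullback.fst g k) := by
    refine IsPullback.of_bot ?_ (pullback.lift_fst _ _ _).symm sqR
    rw [← hb]
    exact sq
  have h1 : AlgSp.IsOpenMor (pullback.lift (a ≫ f) b hc) := hf hP (pullback.fst g k) a _ sqL
  have h2 : AlgSp.IsOpenMor (pullback.snd g k) := hg hT k _ _ sqR
  rw [hb]
  change IsOpenMap (AlgSp.Points.map (pullback.lift (a ≫ f) b hc ≫ pullback.snd g k))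
  have e : AlgSp.Points.map (pullback.lift (a ≫ f) b hc ≫ pullback.snd g k) =
      AlgSp.Points.map (pullback.snd g k) ∘ AlgSp.Points.map (pullback.lift (a ≫ f) b hc) :=
    funext (AlgSp.Points.map_comp _ _)
  rw [e]
  exact h2.comp h1

end Basic

section Affine

lemma isAffineMor_of_isPullback {X Y X' Y' : AlgSp.Sp S} {f : X ⟶ Y} {g : Y' ⟶ Y} {fst : X' ⟶ X}
    {f' : X' ⟶ Y'} (sq : IsPullback fst f' f g) (hf : AlgSp.IsAffineMor f) :
    AlgSp.IsAffineMor f' := by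
  intro Z hZ k
  obtain ⟨W, i, a, sqW, hW⟩ := hf hZ (k ≫ g)
  have hc : a ≫ f = ((AlgSp.yon S).map i ≫ k) ≫ g := by rw [sqW.w, Category.assoc]
  refine ⟨W, i, sq.lift a ((AlgSp.yon S).map i ≫ k) hc, ?_, hW⟩
  refine IsPullback.of_right ?_ (sq.lift_snd _ _ hc) sq
  rw [sq.lift_fst]
  exact sqW

lemma isAffineMor_comp {X Y Z : AlgSp.Sp S} (f : X ⟶ Y) (g : Y ⟶ Z) (hf : AlgSp.IsAffineMor f)
    (hg : AlgSp.IsAffineMor g) : AlgSp.IsAffineMor (f ≫ g) := by
  intro T hT k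
  obtain ⟨W₁, i₁, a₁, sq₁, hW₁⟩ := hg hT k
  obtain ⟨W₂, i₂, a₂, sq₂, hW₂⟩ := hf hW₁ a₁
  refine ⟨W₂, i₂ ≫ i₁, a₂, ?_, hW₂⟩
  rw [Functor.map_comp]
  exact sq₂.paste_vert sq₁

lemma isAffineMor_of_isIso {X Y : AlgSp.Sp S} (f : X ⟶ Y) [IsIso f] : AlgSp.IsAffineMor f := by
  intro Z hZ g
  refine ⟨Z, 𝟙 Z, g ≫ inv f, ?_, hZ⟩
  have : IsIso ((AlgSp.yon S).map (𝟙 Z)) := by
    rw [CategoryTheory.Functor.map_id]; infer_instance
  exact IsPullback.of_vert_isIso ⟨by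
    rw [Category.assoc, IsIso.inv_hom_id, Category.comp_id, CategoryTheory.Functor.map_id,
      Category.id_comp]⟩

lemma isAffineMor_of_repWith {X Y : AlgSp.Sp S} (f : X ⟶ Y)
    (hf : AlgSp.RepWith @IsAffineHom f) : AlgSp.IsAffineMor f := by
  intro Z hZ g
  obtain ⟨W, i, fst, sq⟩ := hf.1 g
  have hi : IsAffineHom i.left := hf.2 g fst i sq
  have := hZ
  exact ⟨W, i, fst, sq, isAffine_of_isAffineHom i.left⟩

end Affine

section Restriction

variable {B : AlgSp.Sp S} {G' G : AlgSp.GroupoidSp B} (φ : AlgSp.GroupoidSp.Hom G' G)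

open Groth.Agent.R2.H84.GpdRestr in
/-- For a restriction, `fR` is a composite of two base changes of `fU`. -/
theorem fR_of_fU (Q : MorphismProperty (AlgSp.Sp S))
    (hbc : ∀ ⦃X Y X' Y' : AlgSp.Sp S⦄ (f : X ⟶ Y) (g : Y' ⟶ Y) (fst : X' ⟶ X) (f' : X' ⟶ Y'),
      AlgSp.IsAlgSpace X → AlgSp.IsAlgSpace Y → AlgSp.IsAlgSpace X' → AlgSp.IsAlgSpace Y' →
      IsPullback fst f' f g → Q f → Q f')
    (hcomp : ∀ ⦃X Y Z : AlgSp.Sp S⦄ (f : X ⟶ Y) (g : Y ⟶ Z), AlgSp.IsAlgSpace X →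
      AlgSp.IsAlgSpace Y → AlgSp.IsAlgSpace Z → Q f → Q g → Q (f ≫ g))
    (hU : AlgSp.IsAlgSpace G.U) (hR : AlgSp.IsAlgSpace G.R) (hU' : AlgSp.IsAlgSpace G'.U)
    (hR' : AlgSp.IsAlgSpace G'.R) (hφ : φ.IsRestriction) (hfU : Q φ.fU) : Q φ.fR := by
  have hr := restr_of_isRestriction φ hφ
  have sq2 := hr.isPullback φ.comm_t.symm φ.comm_s.symm
  have hP : AlgSp.IsAlgSpace (pullback φ.fU G.t) :=
    Groth.Agent.S9874.isAlgSpace_of_isPullback hU.diag hU' hR (IsPullback.of_hasPullback _ _)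
  have h1 : Q (pullback.snd φ.fU G.t) :=
    hbc φ.fU G.t (pullback.fst φ.fU G.t) (pullback.snd φ.fU G.t) hU' hU hP hR
      (IsPullback.of_hasPullback _ _) hfU
  have h2 : Q (pullback.lift G'.t φ.fR φ.comm_t.symm) :=
    hbc φ.fU (pullback.snd φ.fU G.t ≫ G.s) G'.s _ hU' hU hR' hP sq2.flip hfU
  have e : φ.fR = pullback.lift G'.t φ.fR φ.comm_t.symm ≫ pullback.snd φ.fU G.t :=
    (pullback.lift_snd _ _ _).symm
  rw [e]
  exact hcomp _ _ hR' hP hR h2 h1

end Restriction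


section Summary

lemma props_of_section {F U : AlgSp.Sp S} (hF : AlgSp.IsAlgSpace F) {k : Type u} [Field k]
    {σ : Spec (CommRingCat.of k) ⟶ S} (eU : U ≅ (AlgSp.yon S).obj (Over.mk σ)) (p : F ⟶ U)
    (e : U ⟶ F) (he : e ≫ p = 𝟙 U) :
    AlgSp.IsSurjectiveMor p ∧ AlgSp.LocP @Flat p ∧ AlgSp.IsUnivOpenMor p :=
  ⟨isSurjectiveMor_of_section p e he, locP_flat_to_field_iso eU p,
    isUnivOpenMor_to_field_iso hF eU p⟩

lemma isAffineMor_yon_map {V W : Over S} (m : V ⟶ W) (hm : IsAffineHom m.left) :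
    AlgSp.IsAffineMor ((AlgSp.yon S).map m) :=
  isAffineMor_of_repWith _ ((AlgSp.repWith_yon_map_iff _ _).2 hm)

end Summary

end Groth.Agent.R2.H84.GpdFieldExt
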