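import Mathlib
import Groth.Prelude.Def_AlgSpInf
import Groth.Agent.R2.H47UTRel
import Groth.Agent.R2.H43Quot
import Groth.Agent.R2.H59EtQuot
import Groth.Agent.R2.H59AffDesc3
import Groth.Agent.R2.H84GpdFieldExt
import Groth.Agent.R2.H44LimDesc3
import Groth.Agent.R2.H44FppfLocal

/-!
# Universal first order thickenings: the quotient (helper47)
-/

set_option autoImplicit false
universe u
open CategoryTheory CategoryTheory.Limits AlgebraicGeometry Opposite
open AlgSp

namespace Groth.Agent.R2.H47.UTQuot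

open Groth.Agent.S13210 Groth.Agent.R2.H47.UTRel Groth.Agent.R2.H47.UTBase

variable {S : Scheme.{u}}

/-- local lifting along a locally surjective map, in terms of a covering sieve. -/
lemma exists_covering_lift {H G : AlgSp.Sp S} (b : H ⟶ G) [Sheaf.IsLocallySurjective b]
    {T : Over S} (c : (AlgSp.yon S).obj T ⟶ G) :
    ∃ R : Sieve T, R ∈ AlgSp.J S T ∧ ∀ ⦃Y : Over S⦄ (f : Y ⟶ T), R f →
      ∃ d : (AlgSp.yon S).obj Y ⟶ H, d ≫ b = (AlgSp.yon S).map f ≫ c := by
  refine ⟨Presheaf.imageSieve b.hom (yEquiv T G c),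
    Presheaf.imageSieve_mem (AlgSp.J S) b.hom (U := op T) (yEquiv T G c), fun Y f hf => ?_⟩
  obtain ⟨x, hx⟩ := hf
  refine ⟨(yEquiv _ H).symm x, ?_⟩
  rw [yEquiv_symm_comp]
  apply (yEquiv _ G).injective
  rw [Equiv.apply_symm_apply]
  erw [hx]
  exact ((AlgSp.J S).uliftYonedaEquiv_naturality c _)

/-- two maps from a representable sheaf agreeing on a covering sieve are equal. -/
lemma eq_of_sieve {G : AlgSp.Sp S} {T : Over S} (R : Sieve T) (hR : R ∈ AlgSp.J S T)
    (a b : (AlgSp.yon S).obj T ⟶ G)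
    (h : ∀ ⦃Y : Over S⦄ (f : Y ⟶ T), R f → (AlgSp.yon S).map f ≫ a = (AlgSp.yon S).map f ≫ b) :
    a = b := by
  have hshG : Presieve.IsSheaf (AlgSp.J S) G.obj := (isSheaf_iff_isSheaf_of_type _ _).1 G.property
  apply (yEquiv _ G).injective
  refine (hshG R hR).isSeparatedFor.ext ?_
  intro Y f hf
  have e1 := (AlgSp.J S).uliftYonedaEquiv_naturality a f
  have e2 := (AlgSp.J S).uliftYonedaEquiv_naturality b f
  change G.obj.map f.op (yEquiv T G a) = G.obj.map f.op (yEquiv T G b)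
  exact e1.trans ((congrArg _ (h f hf)).trans e2.symm)


section main

open Groth.Agent.R2.H43.Quot Groth.Agent.R2.H59.AffDesc

variable (D : Setup S) (hve : AlgSp.RepWith @Etale D.v) (hvs : AlgSp.RepWith @Surjective D.v)

/-- the quotient sheaf `Z' = V'/R'`. -/
noncomputable abbrev Zq : AlgSp.Sp S := QuotSh.quot Scheme.fppfPrecoverage D.s' D.t'

/-- the quotient map `V' ⟶ Z'`. -/
noncomputable abbrev πq : (AlgSp.yon S).obj D.V' ⟶ Zq D := πy D.s' D.t'

lemma isPullback_πq : IsPullback ((AlgSp.yon S).map D.t') ((AlgSp.yon S).map D.s') (πq D) (πq D) :=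
  isPullback_πy D.s' D.t' D.isEtaleEqvRel.toIsEqvRel

lemma quot_props : AlgSp.IsAlgSpace (Zq D) ∧ AlgSp.RepWith @Etale (πq D) ∧
    AlgSp.RepWith @Surjective (πq D) :=
  Groth.Agent.R2.H59.EtQuot.isAlgSpace_of_kernelPair D.s' D.t' (πq D) (isPullback_πq D)
    D.etale_s' D.etale_t'

include hve hvs in
lemma locSurj_v : Sheaf.IsLocallySurjective D.v :=
  isLocallySurjective_of_repWith_etale_surjective D.v hve hvs

include hve hvs in
lemma epi_v : Epi D.v := by
  haveI := locSurj_v D hve hvs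
  exact (Sheaf.isLocallySurjective_iff_epi _).mp inferInstance

include hve hvs in
lemma exists_iZ : ∃ iZ : D.Z ⟶ Zq D, D.v ≫ iZ = (AlgSp.yon S).map D.iV ≫ πq D := by
  haveI := epi_v D hve hvs
  refine exists_desc_of_kernelPair D.v D.hk ((AlgSp.yon S).map D.iV ≫ πq D) ?_
  rw [← Category.assoc, ← Functor.map_comp, ← D.ht1, Functor.map_comp, Category.assoc,
    (isPullback_πq D).w, ← Category.assoc, ← Functor.map_comp, D.hs1, Functor.map_comp,
    Category.assoc]

lemma exists_hZ' : ∃ hZ' : Zq D ⟶ D.X, πq D ≫ hZ' = D.kV := by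
  refine exists_desc_of_kernelPair (πq D) (isPullback_πq D) D.kV ?_
  rw [D.ht2, D.hs2]

end main


section cart

open Groth.Agent.R2.H43.Quot Groth.Agent.R2.H59.AffDesc

variable (D : Setup S) (hve : AlgSp.RepWith @Etale D.v) (hvs : AlgSp.RepWith @Surjective D.v)
  (iZ : D.Z ⟶ Zq D) (hiZ : D.v ≫ iZ = (AlgSp.yon S).map D.iV ≫ πq D)

include hve hvs hiZ in
/-- `V = Z ×_{Z'} V'`. -/
theorem isPullback_chart : IsPullback D.v ((AlgSp.yon S).map D.iV) iZ (πq D) := by
  haveI := locSurj_v D hve hvs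
  refine isPullback_of_yon hiZ (fun T b c hbc => ?_)
  obtain ⟨R, hR, hlift⟩ := exists_covering_lift D.v b
  -- local solutions
  have hloc : ∀ ⦃Y : Over S⦄ (f : Y ⟶ T), R f → ∃ d' : (AlgSp.yon S).obj Y ⟶ (AlgSp.yon S).obj D.V,
      d' ≫ (AlgSp.yon S).map D.iV = (AlgSp.yon S).map f ≫ c ∧
      d' ≫ D.v = (AlgSp.yon S).map f ≫ b := by
    intro Y f hf
    obtain ⟨d, hd⟩ := hlift f hf
    have h1 : (d ≫ (AlgSp.yon S).map D.iV) ≫ πq D = ((AlgSp.yon S).map f ≫ c) ≫ πq D := by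
      rw [Category.assoc, ← hiZ, ← Category.assoc, hd, Category.assoc, hbc, Category.assoc]
    let r' := (isPullback_πq D).lift _ _ h1
    have hr't : r' ≫ (AlgSp.yon S).map D.t' = d ≫ (AlgSp.yon S).map D.iV :=
      (isPullback_πq D).lift_fst _ _ _
    have hr's : r' ≫ (AlgSp.yon S).map D.s' = (AlgSp.yon S).map f ≫ c :=
      (isPullback_πq D).lift_snd _ _ _
    let r := D.isPullback_t'.lift d r' hr't.symm
    have hrt : r ≫ (AlgSp.yon S).map D.t = d := D.isPullback_t'.lift_fst _ _ _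
    have hrR : r ≫ (AlgSp.yon S).map D.iR = r' := D.isPullback_t'.lift_snd _ _ _
    refine ⟨r ≫ (AlgSp.yon S).map D.s, ?_, ?_⟩
    · rw [Category.assoc, ← Functor.map_comp, ← D.hs1, Functor.map_comp, ← Category.assoc, hrR,
        hr's]
    · rw [Category.assoc, D.hst, ← Category.assoc, hrt, hd]
  obtain ⟨a, ha⟩ := exists_factor_of_sieve ((AlgSp.yon S).map D.iV) c R hR
    (fun Y f hf => by
      obtain ⟨d', hd', -⟩ := hloc f hf
      exact ⟨d', hd'⟩)
  refine ⟨a, ⟨?_, ha⟩, ?_⟩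
  · refine eq_of_sieve R hR _ _ (fun Y f hf => ?_)
    obtain ⟨d', hd'1, hd'2⟩ := hloc f hf
    have : d' = (AlgSp.yon S).map f ≫ a := by
      rw [← cancel_mono ((AlgSp.yon S).map D.iV), hd'1, Category.assoc, ha]
    rw [← Category.assoc, ← this, hd'2]
  · rintro a' ⟨-, ha'⟩
    rw [← cancel_mono ((AlgSp.yon S).map D.iV), ha', ha]

end cart


section thick

open Groth.Agent.R2.H43.Quot Groth.Agent.R2.H59.AffDesc

variable (D : Setup S) (hve : AlgSp.RepWith @Etale D.v) (hvs : AlgSp.RepWith @Surjective D.v)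
  (iZ : D.Z ⟶ Zq D) (hiZ : D.v ≫ iZ = (AlgSp.yon S).map D.iV ≫ πq D)

include hve hvs hiZ in
theorem isThickMor_iZ : AlgSp.IsThickMor iZ := by
  have sq := isPullback_chart D hve hvs iZ hiZ
  have hthick : AlgSp.IsThickMor ((AlgSp.yon S).map D.iV) := D.isFOThickMor_iV.1
  have hcl : AlgSp.RepWith @IsClosedImmersion ((AlgSp.yon S).map D.iV) :=
    ⟨hthick.1, fun U V g fst snd hpb => (hthick.2 g fst snd hpb).1⟩
  have hsj : AlgSp.RepWith @Surjective ((AlgSp.yon S).map D.iV) :=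
    ⟨hthick.1, fun U V g fst snd hpb => (hthick.2 g fst snd hpb).2⟩
  have hiVcl : IsClosedImmersion D.iV.left := ((AlgSp.isThickMor_yon_map_iff D.iV).1 hthick).1
  have haff : AlgSp.IsAffineMor ((AlgSp.yon S).map D.iV) :=
    Groth.Agent.R2.H84.GpdFieldExt.isAffineMor_yon_map D.iV inferInstance
  haveI := Groth.Agent.R2.H44.FppfLocal.isClosedImmersion.{u}
  haveI := Groth.Agent.R2.H44.FppfLocal.surjective.{u}
  have h1 : AlgSp.RepWith @IsClosedImmersion iZ :=
    repWith_of_locallySurjective_of_isAffineMor @IsClosedImmersion iZ (πq D) D.v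
      ((AlgSp.yon S).map D.iV) sq haff hcl
  have h2 : AlgSp.RepWith @Surjective iZ :=
    repWith_of_locallySurjective_of_isAffineMor @Surjective iZ (πq D) D.v
      ((AlgSp.yon S).map D.iV) sq haff hsj
  exact ⟨h1.1, fun U V g fst snd hpb => ⟨h1.2 g fst snd hpb, h2.2 g fst snd hpb⟩⟩

include hve hvs hiZ in
theorem isFOThickMor_iZ : AlgSp.IsFOThickMor iZ := by
  have hth := isThickMor_iZ D hve hvs iZ hiZ
  obtain ⟨hZq, hπe, hπs⟩ := quot_props D
  refine ⟨hth, ?_⟩
  intro V₀ W b fst snd hV₀ hb hpb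
  have hsndcl : IsClosedImmersion snd.left := (hth.2 b fst snd hpb).1
  apply Groth.Agent.R2.H74.FOThickBC.sqZero_of_flat_cover snd.left
  intro z
  -- the chart `V'` pulled back to `V₀`
  obtain ⟨O, e, g', hpbO⟩ := hπe.1 b
  have hee : Etale e.left := hπe.2 b g' e hpbO
  have hes : Surjective e.left := hπs.2 b g' e hpbO
  obtain ⟨g₀, rfl⟩ := (AlgSp.yon S).map_surjective g'
  set k' := pullback.fst g₀ D.iV with hk'
  set q := pullback.snd g₀ D.iV with hq
  have hW' : IsPullback k' q g₀ D.iV := IsPullback.of_hasPullback _ _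
  have hsq : AlgSp.sqZero k'.left :=
    Groth.Agent.R2.H74.FOThickBC.sqZero_of_isFOThickMor (AlgSp.IsAlgSpace.yon_obj D.V')
      D.isFOThickMor_iV ((AlgSp.yon S).map g₀) ((AlgSp.yon S).map q) k'
      (hW'.flip.map (AlgSp.yon S))
  have hiVcl : IsClosedImmersion D.iV.left :=
    ((AlgSp.isThickMor_yon_map_iff D.iV).1 D.isFOThickMor_iV.1).1
  have hk'cl : IsClosedImmersion k'.left :=
    MorphismProperty.of_isPullback (P := @IsClosedImmersion) (hW'.map (Over.forget S)).flip hiVcl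
  -- the comparison map to `W`
  have hw : ((AlgSp.yon S).map q ≫ D.v) ≫ iZ = (AlgSp.yon S).map (k' ≫ e) ≫ b := by
    rw [Category.assoc, hiZ, ← Category.assoc, ← Functor.map_comp, ← hW'.w, Functor.map_comp,
      Category.assoc, hpbO.w, Functor.map_comp, Category.assoc]
  obtain ⟨g, hg⟩ := (AlgSp.yon S).map_surjective (hpb.lift _ _ hw)
  have hg1 : g ≫ snd = k' ≫ e := by
    apply (AlgSp.yon S).map_injective
    rw [Functor.map_comp, hg, hpb.lift_snd]
  obtain ⟨z', rfl⟩ := hes.surj z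
  refine ⟨O.left, (pullback g₀ D.iV).left, e.left, k'.left, g.left, inferInstance, inferInstance,
    ⟨z', rfl⟩, ?_, hsq⟩
  rw [← Over.comp_left, ← Over.comp_left, hg1]

end thick

section final

open Groth.Agent.R2.H43.Quot Groth.Agent.R2.H59.AffDesc

variable (D : Setup S) (hve : AlgSp.RepWith @Etale D.v) (hvs : AlgSp.RepWith @Surjective D.v)

include hve hvs in
/-- **Existence of the universal first order thickening, from a setup.** -/
theorem exists_univ : ∃ (Z' : AlgSp.Sp S) (_ : AlgSp.IsAlgSpace Z') (i : D.Z ⟶ Z') (h' : Z' ⟶ D.X),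
    AlgSp.IsUnivFOThick D.h i h' := by
  obtain ⟨hZq, hπe, hπs⟩ := quot_props D
  obtain ⟨iZ, hiZ⟩ := exists_iZ D hve hvs
  obtain ⟨hZ', hhZ'⟩ := exists_hZ' D
  haveI := epi_v D hve hvs
  have hcomp : iZ ≫ hZ' = D.h := by
    rw [← cancel_epi D.v, ← Category.assoc, hiZ, Category.assoc, hhZ', D.HV.2.1]
  have hthick := isFOThickMor_iZ D hve hvs iZ hiZ
  refine ⟨Zq D, hZq, iZ, hZ', ?_⟩
  let sV : AlgSp.Space S := ⟨(AlgSp.yon S).obj D.V, AlgSp.IsAlgSpace.yon_obj D.V⟩
  let sV' : AlgSp.Space S := ⟨(AlgSp.yon S).obj D.V', AlgSp.IsAlgSpace.yon_obj D.V'⟩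
  let sZ : AlgSp.Space S := ⟨D.Z, D.hZ⟩
  let sZ' : AlgSp.Space S := ⟨Zq D, hZq⟩
  let sX : AlgSp.Space S := ⟨D.X, D.hX⟩
  have HU : AlgSp.IsUnivFOThick (D.v ≫ D.h) ((AlgSp.yon S).map D.iV) (πq D ≫ hZ') := by
    rw [hhZ']
    exact D.HV
  exact Groth.Agent.R2.H47.UnivThickDesc.descend (Z := sV) (Y := sZ) (Z' := sV') (Y' := sZ')
    (X := sX) (ObjectProperty.homMk D.v)
    (Groth.Agent.R2.H47.UnivThickLoc.isEtaleMor_of_repWith D.v hve)
    (Groth.Agent.R2.H44.LimDesc.isSurjectiveMor_of_repWith D.hZ D.v hvs)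
    (ObjectProperty.homMk D.h) (ObjectProperty.homMk ((AlgSp.yon S).map D.iV))
    (ObjectProperty.homMk iZ) hthick (ObjectProperty.homMk (πq D))
    (Groth.Agent.R2.H47.UnivThickLoc.isEtaleMor_of_repWith (πq D) hπe)
    (by
      apply ObjectProperty.hom_ext
      exact hiZ.symm)
    (ObjectProperty.homMk hZ')
    (by
      apply ObjectProperty.hom_ext
      exact hcomp) HU

end final

end Groth.Agent.R2.H47.UTQuot
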