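import Mathlib
import Groth.Prelude.Def_AlgSpInf
import Groth.Agent.R2.H47UTQuot
import Groth.Agent.S10618
import Groth.Agent.S10619

/-!
# Existence of universal first order thickenings of algebraic spaces (helper47)
-/

set_option autoImplicit false
universe u
open CategoryTheory CategoryTheory.Limits AlgebraicGeometry Opposite
open AlgSp

namespace Groth.Agent.R2.H47.UTMain

open Groth.Agent.R2.H47.UTRel Groth.Agent.R2.H47.UTBase Groth.Agent.R2.H47.UTQuot
  Groth.Agent.R2.H47.UTBridge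

variable {S : Scheme.{u}}

/-- a representable etale morphism to an algebraic space is formally etale. -/
lemma isFormallyEtaleMor_of_repWith {U : Over S} {X : AlgSp.Sp S} (hX : AlgSp.IsAlgSpace X)
    (u : (AlgSp.yon S).obj U ⟶ X) (hu : AlgSp.RepWith @Etale u) : AlgSp.IsFormallyEtaleMor u := by
  let sU : AlgSp.Space S := ⟨(AlgSp.yon S).obj U, AlgSp.IsAlgSpace.yon_obj U⟩
  let sX : AlgSp.Space S := ⟨X, hX⟩
  let uu : sU ⟶ sX := ObjectProperty.homMk u
  exact ((Groth.Agent.S10627.result uu).1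
    (Groth.Agent.R2.H47.UnivThickLoc.isEtaleMor_of_repWith u hu)).2

/-- **Existence of universal first order thickenings** for formally unramified morphisms of
algebraic spaces. -/
theorem exists_univFOThick {Z X : AlgSp.Sp S} (hZ : AlgSp.IsAlgSpace Z) (hX : AlgSp.IsAlgSpace X)
    (h : Z ⟶ X) (hh : AlgSp.IsFormallyUnramifiedMor h) :
    ∃ (Z' : AlgSp.Sp S) (_ : AlgSp.IsAlgSpace Z') (i : Z ⟶ Z') (h' : Z' ⟶ X),
      AlgSp.IsUnivFOThick h i h' := by
  obtain ⟨U, u, hue, hus⟩ := hX.atlas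
  obtain ⟨V₀, v₀, hv₀e, hv₀s⟩ := hZ.atlas
  obtain ⟨V, e, g', hpbV⟩ := hue.1 (v₀ ≫ h)
  have hee : Etale e.left := hue.2 _ _ e hpbV
  have hes : Surjective e.left := hus.2 _ _ e hpbV
  obtain ⟨ψ, rfl⟩ := (AlgSp.yon S).map_surjective g'
  set v : (AlgSp.yon S).obj V ⟶ Z := (AlgSp.yon S).map e ≫ v₀ with hvdef
  have hve : AlgSp.RepWith @Etale v :=
    (AlgSp.RepWith @Etale).comp_mem _ _ ((AlgSp.repWith_yon_map_iff @Etale e).2 hee) hv₀e
  have hvs : AlgSp.RepWith @Surjective v :=
    (AlgSp.RepWith @Surjective).comp_mem _ _ ((AlgSp.repWith_yon_map_iff @Surjective e).2 hes) hv₀s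
  have hψu : (AlgSp.yon S).map ψ ≫ u = v ≫ h := by rw [hpbV.w, Category.assoc]
  -- formal properties
  have hufe : AlgSp.IsFormallyEtaleMor u := isFormallyEtaleMor_of_repWith hX u hue
  have hvfe : AlgSp.IsFormallyEtaleMor v := isFormallyEtaleMor_of_repWith hZ v hve
  have hψfu : AlgSp.IsFormallyUnramifiedMor ((AlgSp.yon S).map ψ) := by
    refine (Groth.Agent.S10618.result ((AlgSp.yon S).map ψ) u
      (isFormallyUnramifiedMor_of_isFormallyEtaleMor hufe)).1 ?_
    rw [hψu]
    exact (Groth.Agent.S10619.result v h).2.2 (isFormallyUnramifiedMor_of_isFormallyEtaleMor hvfe) hh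
  haveI : FormallyUnramified ψ.left :=
    (Groth.Agent.R2.H47.InfSq.isFormallyUnramifiedMor_yon_map_iff' ψ).1 hψfu
  obtain ⟨V', iV, kV, HV⟩ := exists_univ_over hX u hufe ψ
  rw [hψu] at HV
  -- the kernel pair
  obtain ⟨R, s, t₀, hpbR⟩ := hve.1 v
  obtain ⟨t, rfl⟩ := (AlgSp.yon S).map_surjective t₀
  have hs : Etale s.left := hve.2 v _ s hpbR
  have ht : Etale t.left := hve.2 v _ t hpbR.flip
  haveI := hs
  haveI : FormallyUnramified (s ≫ ψ).left := by
    rw [Over.comp_left]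
    exact MorphismProperty.comp_mem (@FormallyUnramified) _ _ inferInstance inferInstance
  obtain ⟨R', iR, kR, HR⟩ := exists_univ_over hX u hufe (s ≫ ψ)
  have hR1 : (AlgSp.yon S).map (s ≫ ψ) ≫ u = (AlgSp.yon S).map s ≫ v ≫ h := by
    rw [Functor.map_comp, Category.assoc, hψu]
  rw [hR1] at HR
  -- the induced maps
  obtain ⟨s'sh, ⟨hs1, hs2⟩, -⟩ := HV.2.2 (AlgSp.IsAlgSpace.yon_obj R) (AlgSp.IsAlgSpace.yon_obj R')
    ((AlgSp.yon S).map iR) ((AlgSp.yon S).map s) kR HR.1 (by rw [HR.2.1])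
  obtain ⟨s', rfl⟩ := (AlgSp.yon S).map_surjective s'sh
  obtain ⟨t'sh, ⟨ht1, ht2⟩, -⟩ := HV.2.2 (AlgSp.IsAlgSpace.yon_obj R) (AlgSp.IsAlgSpace.yon_obj R')
    ((AlgSp.yon S).map iR) ((AlgSp.yon S).map t) kR HR.1 (by
      rw [HR.2.1, ← Category.assoc, ← hpbR.w, Category.assoc])
  obtain ⟨t', rfl⟩ := (AlgSp.yon S).map_surjective t'sh
  let D : Setup S :=
    { Z := Z
      X := X
      hZ := hZ
      hX := hX
      h := h
      V := V
      V' := V'
      R := R
      R' := R'
      v := v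
      s := s
      t := t
      hs := hs
      ht := ht
      hk := hpbR
      iV := iV
      kV := kV
      HV := HV
      iR := iR
      kR := kR
      HR := HR
      s' := s'
      t' := t'
      hs1 := (AlgSp.yon S).map_injective (by rw [Functor.map_comp, Functor.map_comp]; exact hs1)
      hs2 := hs2
      ht1 := (AlgSp.yon S).map_injective (by rw [Functor.map_comp, Functor.map_comp]; exact ht1)
      ht2 := ht2 }
  exact exists_univ D hve hvs

end Groth.Agent.R2.H47.UTMain
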