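import Mathlib
import Groth.Prelude.Def_W4c1liftfrobW2

/-!
# The residue map of `W₂(k)` is a thickening (helper47)

For a ring `k` of characteristic `p`, the kernel of `res : W₂(k) → k` has square zero; hence
`Spec k ⟶ Spec W₂(k)` is a surjective closed immersion.
-/

set_option autoImplicit false
universe u

open CategoryTheory AlgebraicGeometry

namespace Groth.Agent.R2.H47.W2Nil

variable (p : ℕ) [Fact p.Prime] (k : Type u) [CommRing k] [CharP k p]

open WittVector in
lemma mul_self_eq_zero_of_res (x : FrobAlg.W2 p k) (hx : FrobAlg.res p k x = 0) : x * x = 0 := by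
  obtain ⟨X, rfl⟩ := WittVector.truncate_surjective p 2 k x
  rw [FrobAlg.res_truncate] at hx
  have hX : X = verschiebung (X.shift 1) := by
    have := eq_iterate_verschiebung (x := X) (n := 1) (by
      intro i hi
      obtain rfl : i = 0 := by omega
      exact hx)
    simpa using this
  set Y := X.shift 1 with hY
  have h1 : X * X = verschiebung (verschiebung (frobenius (Y * Y))) := by
    rw [verschiebung_frobenius]
    conv_lhs => rw [hX]
    rw [← verschiebung_mul_frobenius, frobenius_verschiebung, ← mul_assoc]
  rw [← map_mul, h1]
  ext j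
  rw [WittVector.coeff_truncate]
  fin_cases j
  · simp [verschiebung_coeff_zero]
  · change (verschiebung (verschiebung (frobenius (Y * Y)))).coeff (0 + 1) = _
    rw [verschiebung_coeff_succ, verschiebung_coeff_zero]
    exact (TruncatedWittVector.coeff_zero p 2 k _).symm

lemma res_surjective : Function.Surjective (FrobAlg.res p k) := by
  intro a
  refine ⟨WittVector.truncate 2 (WittVector.teichmuller p a), ?_⟩
  rw [FrobAlg.res_truncate, WittVector.teichmuller_coeff_zero]

instance : IsClosedImmersion (Spec.map (CommRingCat.ofHom (FrobAlg.res p k))) :=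
  IsClosedImmersion.spec_of_surjective _ (res_surjective p k)

instance : Surjective (Spec.map (CommRingCat.ofHom (FrobAlg.res p k))) := by
  refine ⟨fun x => ?_⟩
  let x' : PrimeSpectrum (FrobAlg.W2 p k) := x
  have hmem : x' ∈ Set.range (PrimeSpectrum.comap (FrobAlg.res p k)) := by
    rw [range_comap_of_surjective _ _ (res_surjective p k), PrimeSpectrum.mem_zeroLocus]
    intro y hy
    have hy' : FrobAlg.res p k y = 0 := hy
    have h2 : y * y ∈ x'.asIdeal := by
      rw [mul_self_eq_zero_of_res p k y hy']
      exact zero_mem _
    exact (x'.isPrime.mem_or_mem h2).elim id id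
  obtain ⟨z, hz⟩ := hmem
  exact ⟨z, hz⟩

end Groth.Agent.R2.H47.W2Nil
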