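import Groth.Agent.R2.H47InfSq

/-!
# `h_(∐ W_k) = ∐ h_(W_k)` in fppf sheaves, and universality of finite coproducts (helper47)

* `sigmaOver W`, `sigmaOverι W k`: the coproduct of a family of schemes over `S`, as a scheme over `S`.
* `isColimitYonSigmaOver`: `AlgSp.yon S` sends it to a coproduct of fppf sheaves.
* `isColimit_cofan_of_isPullback`: the base change of a finite coproduct cofan of sheaves is a
  coproduct cofan.
-/

set_option autoImplicit false
universe u
open CategoryTheory CategoryTheory.Limits AlgebraicGeometry Opposite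
open AlgSp

namespace Groth.Agent.R2.H47.YonSigma

open Groth.Agent.S13210 Groth.Agent.R2.H47.InfSq

variable {S : Scheme.{u}}

section Sigma

variable {κ : Type u} (W : κ → Over S)

/-- the coproduct of the `W k`, over `S`. -/
noncomputable def sigmaOver : Over S :=
  Over.mk (Sigma.desc (fun k => (W k).hom) : (∐ fun k => (W k).left) ⟶ S)

/-- the coprojections. -/
noncomputable def sigmaOverι (k : κ) : W k ⟶ sigmaOver W :=
  Over.homMk (Sigma.ι (fun k => (W k).left) k) (Sigma.ι_desc _ _)

lemma sigmaOverι_left (k : κ) :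
    (sigmaOverι W k).left = Sigma.ι (fun k => (W k).left) k := rfl

instance (k : κ) : IsOpenImmersion (sigmaOverι W k).left :=
  inferInstanceAs (IsOpenImmersion (Sigma.ι (fun k => (W k).left) k))

instance (k : κ) : Mono (sigmaOverι W k) := by
  have : Mono ((Over.forget S).map (sigmaOverι W k)) :=
    inferInstanceAs (Mono (Sigma.ι (fun k => (W k).left) k))
  exact (Over.forget S).mono_of_mono_map this

lemma sigmaOver_cover : Sieve.ofArrows W (sigmaOverι W) ∈ AlgSp.J S (sigmaOver W) := by
  apply mem_J_of_fppf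
  · intro t
    obtain ⟨k, x, hx⟩ := (sigmaOpenCover (fun k => (W k).left)).exists_eq t
    exact ⟨k, x, hx⟩
  · intro k; infer_instance
  · intro k; infer_instance

/-- maps out of `h_Z` with `Z` empty are unique. -/
lemma hom_ext_of_isEmpty {G : AlgSp.Sp S} {Z : Over S} [IsEmpty Z.left]
    (l l' : (AlgSp.yon S).obj Z ⟶ G) : l = l' := by
  refine hom_ext_of_cover (ι := PEmpty.{1}) (fun e => e.elim) (fun e => e.elim) ?_ l l'
    (fun e => e.elim)
  apply mem_J_of_fppf
  · intro t; exact isEmptyElim t
  · intro e; exact e.elim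
  · intro e; exact e.elim

/-- a morphism to the coproduct of schemes over `S`. -/
noncomputable def sigmaOverDesc {Z : Over S} (c : ∀ k, W k ⟶ Z) : sigmaOver W ⟶ Z :=
  Over.homMk (Sigma.desc (fun k => (c k).left)) (by
    apply Sigma.hom_ext
    intro k
    change Sigma.ι _ k ≫ Sigma.desc _ ≫ Z.hom = Sigma.ι _ k ≫ Sigma.desc _
    rw [Sigma.ι_desc_assoc, Sigma.ι_desc]
    exact Over.w (c k))

lemma sigmaOverι_desc {Z : Over S} (c : ∀ k, W k ⟶ Z) (k : κ) :
    sigmaOverι W k ≫ sigmaOverDesc W c = c k := by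
  apply Over.OverMorphism.ext
  exact Sigma.ι_desc _ _

/-- `h_(∐ W_k)` is the coproduct of the `h_(W_k)` in fppf sheaves. -/
noncomputable def isColimitYonSigmaOver :
    IsColimit (Cofan.mk ((AlgSp.yon S).obj (sigmaOver W))
      (fun k => (AlgSp.yon S).map (sigmaOverι W k))) := by
  have hcompat : ∀ (s : Cofan (fun k => (AlgSp.yon S).obj (W k))) (i j : κ) (Z : Over S)
      (p : Z ⟶ W i) (q : Z ⟶ W j), p ≫ sigmaOverι W i = q ≫ sigmaOverι W j →
      (AlgSp.yon S).map p ≫ s.inj i = (AlgSp.yon S).map q ≫ s.inj j := by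
    intro s i j Z p q hpq
    by_cases hij : i = j
    · subst hij
      rw [(cancel_mono _).1 hpq]
    · have : IsEmpty Z.left :=
        isEmpty_of_commSq_sigmaι_of_ne (g := fun k => (W k).left) (a := p.left) (b := q.left)
          ⟨congrArg (fun m => m.left) hpq⟩ hij
      exact hom_ext_of_isEmpty _ _
  refine Cofan.IsColimit.mk _ (fun s => Classical.choose
    (glue_of_cover W (sigmaOverι W) (sigmaOver_cover W) s.inj (hcompat s)))
    (fun s k => ?_) (fun s m hm => ?_)
  · exact Classical.choose_spec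
      (glue_of_cover W (sigmaOverι W) (sigmaOver_cover W) s.inj (hcompat s)) k
  · refine hom_ext_of_cover W (sigmaOverι W) (sigmaOver_cover W) _ _ (fun k => ?_)
    rw [Classical.choose_spec
      (glue_of_cover W (sigmaOverι W) (sigmaOver_cover W) s.inj (hcompat s)) k]
    exact hm k

end Sigma

/-- the base change of a finite coproduct cofan of sheaves is a coproduct cofan. -/
lemma isColimit_cofan_of_isPullback {κ : Type u} [Finite κ] {Yk : κ → AlgSp.Sp S}
    (cY : Cofan Yk) (hcY : IsColimit cY) {X' : AlgSp.Sp S} (f' : X' ⟶ cY.pt)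
    (Vk : κ → AlgSp.Sp S) (a : ∀ k, Vk k ⟶ X') (b : ∀ k, Vk k ⟶ Yk k)
    (sq : ∀ k, IsPullback (a k) (b k) f' (cY.inj k)) :
    Nonempty (IsColimit (Cofan.mk X' a)) := by
  refine FinitaryPreExtensive.isUniversal_finiteCoproducts hcY (Cofan.mk X' a)
    (Discrete.natTrans (fun k => b k.as)) f' ?_ (NatTrans.Equifibered.of_discrete _) ?_
  · apply NatTrans.ext
    funext ⟨k⟩
    exact ((sq k).w).symm
  · rintro ⟨k⟩
    exact sq k

end Groth.Agent.R2.H47.YonSigma
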