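import Mathlib

/-!
# Transfer of `Ext` classes along an exact functor: compatibility with connecting maps (helper48)
-/

set_option autoImplicit false
universe w w' v v' u u'
open CategoryTheory Abelian Limits

namespace Groth.Agent.R2.H48.CohRes

section Gen

variable {𝒞 : Type u} [Category.{v} 𝒞] [Abelian 𝒞] {𝒟 : Type u'} [Category.{v'} 𝒟] [Abelian 𝒟]
  [HasExt.{w} 𝒞] [HasExt.{w'} 𝒟]
  (Φ : 𝒞 ⥤ 𝒟) [Φ.Additive] [PreservesFiniteLimits Φ] [PreservesFiniteColimits Φ]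

/-- the transfer map `Ext^p(Z, A) → Ext^p(Z', A')` along an exact functor `Φ`, `w : Z' ⟶ Φ Z`, `k : Φ A ⟶ A'` -/
noncomputable def tr {Z : 𝒞} {Z' : 𝒟} (w : Z' ⟶ Φ.obj Z) {A : 𝒞} {A' : 𝒟} (k : Φ.obj A ⟶ A') (p : ℕ)
    (x : Ext.{w} Z A p) : Ext.{w'} Z' A' p :=
  ((Ext.mk₀ w).comp (x.mapExactFunctor Φ) (zero_add p)).comp (Ext.mk₀ k) (add_zero p)

theorem tr_extClass {Z : 𝒞} {Z' : 𝒟} (w : Z' ⟶ Φ.obj Z) {S : ShortComplex 𝒞} (hS : S.ShortExact)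
    {S' : ShortComplex 𝒟} (hS' : S'.ShortExact) (k : S.map Φ ⟶ S') (p : ℕ) (x : Ext.{w} Z S.X₃ p) :
    tr Φ w k.τ₁ (p + 1) (x.comp hS.extClass rfl) = (tr Φ w k.τ₃ p x).comp hS'.extClass rfl := by
  unfold tr
  rw [Ext.mapExactFunctor_comp, Ext.mapExactFunctor_extClass]
  have nat := ShortComplex.ShortExact.extClass_naturality (hS.map_of_exact Φ) hS' k
  have e1 : ((Ext.mk₀ w).comp ((Ext.mapExactFunctor Φ x).comp (hS.map_of_exact Φ).extClass rfl)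
      (zero_add (p + 1))).comp (Ext.mk₀ k.τ₁) (add_zero (p + 1)) =
      (Ext.mk₀ w).comp ((Ext.mapExactFunctor Φ x).comp ((Ext.mk₀ k.τ₃).comp hS'.extClass (zero_add 1)) rfl)
        (zero_add (p + 1)) := by
    rw [Ext.comp_assoc_of_third_deg_zero]
    refine congrArg (fun t => (Ext.mk₀ w).comp t (zero_add (p + 1))) ?_
    exact (Ext.comp_assoc_of_third_deg_zero _ _ _ _).trans
      (congrArg (fun t => (Ext.mapExactFunctor Φ x).comp t rfl) nat)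
  refine e1.trans ?_
  rw [Ext.comp_assoc_of_second_deg_zero]
  exact (Ext.comp_assoc _ _ _ (zero_add p) rfl (by omega)).symm

theorem tr_comp_mk₀ {Z : 𝒞} {Z' : 𝒟} (w : Z' ⟶ Φ.obj Z) {A B : 𝒞} {A' B' : 𝒟} (k : Φ.obj A ⟶ A')
    (k' : Φ.obj B ⟶ B') (φ : A ⟶ B) (φ' : A' ⟶ B') (hk : Φ.map φ ≫ k' = k ≫ φ') (p : ℕ) (x : Ext.{w} Z A p) :
    tr Φ w k' p (x.comp (Ext.mk₀ φ) (add_zero p)) = (tr Φ w k p x).comp (Ext.mk₀ φ') (add_zero p) := by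
  unfold tr
  rw [Ext.mapExactFunctor_comp, Ext.mapExactFunctor_mk₀]
  rw [Ext.comp_assoc_of_third_deg_zero, Ext.comp_assoc_of_third_deg_zero, Ext.comp_assoc_of_third_deg_zero,
    Ext.comp_assoc_of_third_deg_zero, Ext.mk₀_comp_mk₀, Ext.mk₀_comp_mk₀, hk]

theorem tr_add {Z : 𝒞} {Z' : 𝒟} (w : Z' ⟶ Φ.obj Z) {A : 𝒞} {A' : 𝒟} (k : Φ.obj A ⟶ A') (p : ℕ)
    (x y : Ext.{w} Z A p) : tr Φ w k p (x + y) = tr Φ w k p x + tr Φ w k p y := by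
  unfold tr
  rw [Ext.mapExactFunctor_add, Ext.comp_add, Ext.add_comp]

end Gen

end Groth.Agent.R2.H48.CohRes
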