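import Groth.Agent.R2.H48CohResB3

/-!
# `CohPull.resLE` as a transfer map (helper48): umbrella for `H48CohResB1`–`B3`

`jj h : U' ⟶ U`, `cmpMod h F : j^*(F|_U) ⟶ F|_{U'}` (natural in `F`), `κ h : toAbOn X U ⋙ j⁻¹ ⟶ toAbOn X U'` and
`resLE_eq_tr : CohPull.resLE F h p x = tr j⁻¹ (oneTo j) (κ F) p x`.
-/
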