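import Groth.Agent.S16954
import Groth.Agent.R2.H48CohResA

/-!
# `CohPull.resLE` as a transfer map (helper48)

`jj h : U' ⟶ U`, `cmpMod h F : j^*(F|_U) ⟶ F|_{U'}` (natural in `F`), `κ h : toAbOn X U ⋙ j⁻¹ ⟶ toAbOn X U'` and
`resLE_eq_tr : CohPull.resLE F h p x = tr j⁻¹ (oneTo j) (κ F) p x`.
-/

set_option autoImplicit false
universe u
open CohCmp CategoryTheory AlgebraicGeometry Scheme.Modules Opposite Limits TopologicalSpace Abelian

namespace Groth.Agent.R2.H48.CohRes

variable {X Y Z : Scheme.{u}}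

theorem homEquiv_theta (g : X ⟶ Y) (M : Y.Modules) :
    (CohPull.invPushAdj g.base).homEquiv _ _ (CohPull.theta g M) =
      (SheafOfModules.toSheaf Y.ringCatSheaf).map
        ((Scheme.Modules.pullbackPushforwardAdjunction g).unit.app M) :=
  Equiv.apply_symm_apply _ _

/-- naturality of `theta` -/
theorem theta_natural (g : X ⟶ Y) {M N : Y.Modules} (φ : M ⟶ N) :
    (CohPull.inv g.base).map ((SheafOfModules.toSheaf Y.ringCatSheaf).map φ) ≫ CohPull.theta g N =
      CohPull.theta g M ≫ (SheafOfModules.toSheaf X.ringCatSheaf).map ((Scheme.Modules.pullback g).map φ) := by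
  apply ((CohPull.invPushAdj g.base).homEquiv _ _).injective
  refine (Adjunction.homEquiv_naturality_left _ _ _).trans ?_
  refine Eq.trans ?_ (Adjunction.homEquiv_naturality_right _ _ _).symm
  rw [homEquiv_theta, homEquiv_theta]
  have := (Scheme.Modules.pullbackPushforwardAdjunction g).unit.naturality φ
  simp only [Functor.id_map, Functor.comp_map] at this
  have h2 := congrArg (SheafOfModules.toSheaf Y.ringCatSheaf).map this
  exact ((Functor.map_comp _ _ _).symm.trans h2).trans (Functor.map_comp _ _ _)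

section Res

variable {U U' : X.Opens} (h : U' ≤ U)

/-- the inclusion `U' ⟶ U` as used by `CohPull.resLE` -/
noncomputable abbrev jj : (U' : Scheme.{u}) ⟶ (U : Scheme.{u}) :=
  Scheme.Hom.resLE (𝟙 X) U U' (by rwa [Scheme.Hom.id_preimage])

/-- the module-level comparison `j^*(F|_U) ⟶ F|_{U'}` used by `CohPull.resLE` -/
noncomputable def cmpMod (F : X.Modules) :
    (Scheme.Modules.pullback (jj h)).obj (F.restrict U.ι) ⟶ F.restrict U'.ι :=
  (CohPull.pullOnIso (𝟙 X) U U' (by rwa [Scheme.Hom.id_preimage]) F).hom ≫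
    (Scheme.Modules.restrictFunctor U'.ι).map ((Scheme.Modules.pullbackId X).hom.app F)

/-- `cmpMod` as a natural transformation -/
noncomputable def cmpNat :
    Scheme.Modules.restrictFunctor U.ι ⋙ Scheme.Modules.pullback (jj h) ⟶
      Scheme.Modules.restrictFunctor U'.ι :=
  Functor.whiskerRight (Scheme.Modules.restrictFunctorIsoPullback U.ι).hom (Scheme.Modules.pullback (jj h)) ≫
    (Scheme.Modules.pullbackComp (jj h) U.ι).hom ≫
    (Scheme.Modules.pullbackCongr (Scheme.Hom.resLE_comp_ι (𝟙 X) (by rwa [Scheme.Hom.id_preimage]))).hom ≫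
    (Scheme.Modules.pullbackComp U'.ι (𝟙 X)).inv ≫
    Functor.whiskerLeft (Scheme.Modules.pullback (𝟙 X)) (Scheme.Modules.restrictFunctorIsoPullback U'.ι).inv ≫
    Functor.whiskerRight (Scheme.Modules.pullbackId X).hom (Scheme.Modules.restrictFunctor U'.ι) ≫
    (Functor.leftUnitor _).hom

theorem cmpNat_app (F : X.Modules) : (cmpNat h).app F = cmpMod h F := by
  unfold cmpNat cmpMod CohPull.pullOnIso
  simp only [NatTrans.comp_app, Functor.whiskerRight_app, Functor.whiskerLeft_app,
    Functor.leftUnitor_hom_app, Iso.trans_hom, Functor.mapIso_hom, Iso.app_hom, Iso.symm_hom, Iso.app_inv,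
    Category.assoc, Category.comp_id]
  rfl

theorem cmpMod_natural {F G : X.Modules} (φ : F ⟶ G) :
    (Scheme.Modules.pullback (jj h)).map ((Scheme.Modules.restrictFunctor U.ι).map φ) ≫ cmpMod h G =
      cmpMod h F ≫ (Scheme.Modules.restrictFunctor U'.ι).map φ := by
  rw [← cmpNat_app, ← cmpNat_app]
  exact (cmpNat h).naturality φ

end Res

end Groth.Agent.R2.H48.CohRes
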