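import Groth.Agent.R2.H48CohResB1

/-!
# The natural transformation `κ` (helper48)
-/

set_option autoImplicit false
universe u
open CohCmp CategoryTheory AlgebraicGeometry Scheme.Modules Opposite Limits TopologicalSpace Abelian

namespace Groth.Agent.R2.H48.CohRes

variable {X : Scheme.{u}} {U U' : X.Opens} (h : U' ≤ U)

/-- the comparison `j⁻¹(F|_U) ⟶ F|_{U'}` of abelian sheaves used by `CohPull.resLE`, natural in `F` -/
noncomputable def κ : toAbOn X U ⋙ CohPull.inv (jj h).base ⟶ toAbOn X U' where
  app F := CohPull.theta (jj h) (F.restrict U.ι) ≫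
    (SheafOfModules.toSheaf (U' : Scheme.{u}).ringCatSheaf).map (cmpMod h F)
  naturality F G φ := by
    have h1 := theta_natural (jj h) ((Scheme.Modules.restrictFunctor U.ι).map φ)
    have h2 := congrArg (SheafOfModules.toSheaf (U' : Scheme.{u}).ringCatSheaf).map (cmpMod_natural h φ)
    have h2' := ((Functor.map_comp _ _ _).symm.trans h2).trans (Functor.map_comp _ _ _)
    change (CohPull.inv (jj h).base).map ((SheafOfModules.toSheaf _).map
      ((Scheme.Modules.restrictFunctor U.ι).map φ)) ≫ _ ≫ _ = (_ ≫ _) ≫
        (SheafOfModules.toSheaf _).map ((Scheme.Modules.restrictFunctor U'.ι).map φ)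
    rw [reassoc_of% h1, Category.assoc]
    congr 1

end Groth.Agent.R2.H48.CohRes
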