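import Groth.Agent.R2.H48CohResB2

/-!
# `CohPull.resLE` as a transfer map (helper48)
-/

set_option autoImplicit false
universe u
open CohCmp CategoryTheory AlgebraicGeometry Scheme.Modules Opposite Limits TopologicalSpace Abelian

namespace Groth.Agent.R2.H48.CohRes

variable {X : Scheme.{u}} {U U' : X.Opens} (h : U' ≤ U)

theorem resLE_eq (F : X.Modules) (p : ℕ) (x : Coh.HHon X F U p) :
    CohPull.resLE F h p x =
      Sheaf.H.map ((κ h).app F) p (CohPull.pullAb (jj h).base ((toAbOn X U).obj F) p x) := by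
  unfold CohPull.resLE CohPull.pullOn CohPull.pullMod
  simp only [AddMonoidHom.coe_comp, Function.comp_apply, Sheaf.H.map_apply, Ext.comp_assoc_of_third_deg_zero,
    Ext.mk₀_comp_mk₀]
  rfl


theorem resLE_eq_tr (F : X.Modules) (p : ℕ) (x : Coh.HHon X F U p) :
    CohPull.resLE F h p x =
      tr (CohPull.inv (jj h).base) (CohPull.oneTo (jj h).base) ((κ h).app F) p x := by
  rw [resLE_eq]
  rfl

end Groth.Agent.R2.H48.CohRes
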