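import Groth.Agent.R2.H48CohResB

/-!
# The comparison `cmpMod` and units of adjunctions (helper48)

`unit_cmp`: the transpose of `cmpMod h F : j^*(F|_U) ⟶ F|_{U'}` is the restriction morphism `F|_U ⟶ j_*(F|_{U'})`
(stated after pushing forward to `X`).
-/

set_option autoImplicit false
universe u
open CohCmp CategoryTheory AlgebraicGeometry Scheme.Modules Opposite Limits TopologicalSpace Abelian

namespace Groth.Agent.R2.H48.CohRes

variable {X Y Z : Scheme.{u}}

/-- units and `pullbackCongr` -/
theorem unit_pullbackCongr {f g : X ⟶ Y} (e : f = g) (M : Y.Modules) :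
    (pullbackPushforwardAdjunction f).unit.app M ≫
      (pushforward f).map ((pullbackCongr e).hom.app M) ≫ (pushforwardCongr e).hom.app _ =
    (pullbackPushforwardAdjunction g).unit.app M := by
  subst e
  have h1 : (pullbackCongr (rfl : f = f)).hom.app M = 𝟙 _ := rfl
  rw [h1, CategoryTheory.Functor.map_id]
  erw [Category.id_comp]
  have h2 : (pushforwardCongr (rfl : f = f)).hom.app ((Scheme.Modules.pullback f).obj M) = 𝟙 _ := by
    ext V x
    simp
  rw [h2]
  exact Category.comp_id _

/-- units and `pullbackComp` -/
theorem unit_pullbackComp (f : X ⟶ Y) (g : Y ⟶ Z) (M : Z.Modules) :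
    (pullbackPushforwardAdjunction g).unit.app M ≫
      (pushforward g).map ((pullbackPushforwardAdjunction f).unit.app ((Scheme.Modules.pullback g).obj M)) ≫
      (pushforward g).map ((pushforward f).map ((pullbackComp f g).hom.app M)) ≫
      (pushforwardComp f g).hom.app _ =
    (pullbackPushforwardAdjunction (f ≫ g)).unit.app M := by
  have h := unit_conjugateEquiv ((pullbackPushforwardAdjunction g).comp (pullbackPushforwardAdjunction f))
    (pullbackPushforwardAdjunction (f ≫ g)) (pullbackComp f g).inv M
  rw [conjugateEquiv_pullbackComp_inv] at h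
  have nat := (pushforwardComp f g).hom.naturality ((pullbackComp f g).hom.app M)
  simp only [Functor.comp_map] at nat
  rw [nat]
  have h' : (pullbackPushforwardAdjunction g).unit.app M ≫
      (pushforward g).map ((pullbackPushforwardAdjunction f).unit.app ((Scheme.Modules.pullback g).obj M)) =
      ((pullbackPushforwardAdjunction g).comp (pullbackPushforwardAdjunction f)).unit.app M := by
    simp [Adjunction.comp_unit_app]
  rw [reassoc_of% h']
  refine ((Category.assoc _ _ _).symm.trans (congrArg (· ≫ _) h)).trans ?_
  rw [Category.assoc, ← Functor.map_comp, Iso.inv_hom_id_app]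
  erw [CategoryTheory.Functor.map_id, Category.comp_id]


theorem pullbackCongr_trans_app {f g k : X ⟶ Y} (e1 : f = g) (e2 : g = k) (M : Y.Modules) :
    (pullbackCongr e1).hom.app M ≫ (pullbackCongr e2).hom.app M = (pullbackCongr (e1.trans e2)).hom.app M := by
  subst e1 e2
  exact Category.id_comp _

theorem map_map_apply {T : TopCat.{u}} (P : TopCat.Presheaf Ab T) {A B C : Opens T} (a : A ⟶ B) (b : B ⟶ C)
    (x : P.obj (op C)) : P.map a.op (P.map b.op x) = P.map (a ≫ b).op x := by
  rw [op_comp, P.map_comp]
  rfl

theorem thin_finish {T : TopCat.{u}} (P : TopCat.Presheaf Ab T) {A B C : Opens T} (a : A ⟶ B) (a' : B ⟶ A)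
    (b : A ⟶ C) (c : B ⟶ C) (y : P.obj (op B)) (s : P.obj (op C))
    (hy : P.map a.op y = P.map b.op s) : y = P.map c.op s := by
  have h1 : P.map a'.op (P.map a.op y) = y := by
    rw [map_map_apply, Subsingleton.elim (a' ≫ a) (𝟙 B), op_id, P.map_id]
    rfl
  rw [← h1, hy, map_map_apply, Subsingleton.elim (a' ≫ b) c]

section Res

variable {U U' : X.Opens} (h : U' ≤ U)

theorem jj_comp_ι : jj h ≫ U.ι = U'.ι := by
  simp [jj]

theorem cmpMod_eq (F : X.Modules) :
    cmpMod h F = (Scheme.Modules.pullback (jj h)).map ((restrictFunctorIsoPullback U.ι).hom.app F) ≫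
      (pullbackComp (jj h) U.ι).hom.app F ≫ (pullbackCongr (jj_comp_ι h)).hom.app F ≫
      (restrictFunctorIsoPullback U'.ι).inv.app F := by
  unfold cmpMod CohPull.pullOnIso
  simp only [Iso.trans_hom, Functor.mapIso_hom, Iso.app_hom, Iso.symm_hom, Iso.app_inv, Category.assoc]
  have nat := (restrictFunctorIsoPullback U'.ι).inv.naturality ((pullbackId X).hom.app F)
  have un : (pullbackComp U'.ι (𝟙 X)).inv.app F ≫
      (Scheme.Modules.pullback U'.ι).map ((pullbackId X).hom.app F) =
      (pullbackCongr (Category.comp_id U'.ι)).hom.app F := by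
    have := congrArg (fun t => t.app F) (pseudofunctor_left_unitality U'.ι)
    dsimp only [NatTrans.comp_app, Functor.whiskerRight_app, Functor.leftUnitor_hom_app] at this
    refine Eq.trans ?_ this
    congr 1
  rw [← nat, reassoc_of% un]
  have tr := pullbackCongr_trans_app (Scheme.Hom.resLE_comp_ι (𝟙 X) (U := U) (V := U')
    (by rwa [Scheme.Hom.id_preimage])) (Category.comp_id U'.ι) F
  rw [reassoc_of% tr]
  rfl


theorem unit_restrictFunctorIsoPullback_inv {V : X.Opens} (F : X.Modules) :
    (pullbackPushforwardAdjunction V.ι).unit.app F ≫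
      (pushforward V.ι).map ((restrictFunctorIsoPullback V.ι).inv.app F) =
    (restrictAdjunction V.ι).unit.app F := by
  have h1 := Adjunction.unit_leftAdjointUniq_hom_app (restrictAdjunction V.ι)
    (pullbackPushforwardAdjunction V.ι) F
  change (restrictAdjunction V.ι).unit.app F ≫
    (pushforward V.ι).map ((restrictFunctorIsoPullback V.ι).hom.app F) = _ at h1
  rw [← h1, Category.assoc, ← Functor.map_comp, Iso.hom_inv_id_app]
  erw [CategoryTheory.Functor.map_id, Category.comp_id]

theorem unit_cmp (F : X.Modules) :
    (restrictAdjunction U.ι).unit.app F ≫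
      (pushforward U.ι).map ((pullbackPushforwardAdjunction (jj h)).unit.app (F.restrict U.ι) ≫
        (pushforward (jj h)).map (cmpMod h F)) ≫
      (pushforwardComp (jj h) U.ι).hom.app (F.restrict U'.ι) ≫
      (pushforwardCongr (jj_comp_ι h)).hom.app (F.restrict U'.ι) =
    (restrictAdjunction U'.ι).unit.app F := by
  -- Step A
  have hA : (restrictAdjunction U.ι).unit.app F ≫
      (pushforward U.ι).map ((pullbackPushforwardAdjunction (jj h)).unit.app (F.restrict U.ι) ≫
        (pushforward (jj h)).map ((Scheme.Modules.pullback (jj h)).map ((restrictFunctorIsoPullback U.ι).hom.app F))) =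
      (pullbackPushforwardAdjunction U.ι).unit.app F ≫
        (pushforward U.ι).map ((pullbackPushforwardAdjunction (jj h)).unit.app
          ((Scheme.Modules.pullback U.ι).obj F)) := by
    have nat := (pullbackPushforwardAdjunction (jj h)).unit.naturality ((restrictFunctorIsoPullback U.ι).hom.app F)
    simp only [Functor.id_map, Functor.comp_map] at nat
    have h1 := Adjunction.unit_leftAdjointUniq_hom_app (restrictAdjunction U.ι)
      (pullbackPushforwardAdjunction U.ι) F
    change (restrictAdjunction U.ι).unit.app F ≫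
      (pushforward U.ι).map ((restrictFunctorIsoPullback U.ι).hom.app F) = _ at h1
    change _ ≫ (pushforward U.ι).map (_ ≫ _) = _
    rw [← nat, Functor.map_comp, ← Category.assoc, h1]
  -- the remaining part of `cmpMod`
  let rest2 : (Scheme.Modules.pullback ((jj h) ≫ U.ι)).obj F ⟶ F.restrict U'.ι :=
    (pullbackCongr (jj_comp_ι h)).hom.app F ≫ (restrictFunctorIsoPullback U'.ι).inv.app F
  have hcm : cmpMod h F = (Scheme.Modules.pullback (jj h)).map ((restrictFunctorIsoPullback U.ι).hom.app F) ≫
      (pullbackComp (jj h) U.ι).hom.app F ≫ rest2 := cmpMod_eq h F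
  have hB : (pushforward U.ι).map ((pullbackPushforwardAdjunction (jj h)).unit.app (F.restrict U.ι) ≫
        (pushforward (jj h)).map (cmpMod h F)) =
      (pushforward U.ι).map ((pullbackPushforwardAdjunction (jj h)).unit.app (F.restrict U.ι) ≫
        (pushforward (jj h)).map ((Scheme.Modules.pullback (jj h)).map ((restrictFunctorIsoPullback U.ι).hom.app F))) ≫
      (pushforward U.ι).map ((pushforward (jj h)).map ((pullbackComp (jj h) U.ι).hom.app F)) ≫
      (pushforward U.ι).map ((pushforward (jj h)).map rest2) := by
    rw [hcm]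
    simp only [Functor.map_comp, Category.assoc]
  rw [hB]
  have natC := (pushforwardComp (jj h) U.ι).hom.naturality rest2
  simp only [Functor.comp_map] at natC
  have natG := (pushforwardCongr (jj_comp_ι h)).hom.naturality ((restrictFunctorIsoPullback U'.ι).inv.app F)
  have hC := unit_pullbackComp (jj h) U.ι F
  have hD := unit_pullbackCongr (jj_comp_ι h) F
  have hE := unit_restrictFunctorIsoPullback_inv (V := U') F
  calc _ = ((restrictAdjunction U.ι).unit.app F ≫
      (pushforward U.ι).map ((pullbackPushforwardAdjunction (jj h)).unit.app (F.restrict U.ι) ≫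
        (pushforward (jj h)).map ((Scheme.Modules.pullback (jj h)).map ((restrictFunctorIsoPullback U.ι).hom.app F)))) ≫
      (pushforward U.ι).map ((pushforward (jj h)).map ((pullbackComp (jj h) U.ι).hom.app F)) ≫
      ((pushforward U.ι).map ((pushforward (jj h)).map rest2) ≫
      (pushforwardComp (jj h) U.ι).hom.app (F.restrict U'.ι)) ≫
      (pushforwardCongr (jj_comp_ι h)).hom.app (F.restrict U'.ι) := by simp only [Category.assoc]
    _ = ((pullbackPushforwardAdjunction U.ι).unit.app F ≫
        (pushforward U.ι).map ((pullbackPushforwardAdjunction (jj h)).unit.app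
          ((Scheme.Modules.pullback U.ι).obj F)) ≫
        (pushforward U.ι).map ((pushforward (jj h)).map ((pullbackComp (jj h) U.ι).hom.app F)) ≫
        (pushforwardComp (jj h) U.ι).hom.app _) ≫ (pushforward ((jj h) ≫ U.ι)).map rest2 ≫
        (pushforwardCongr (jj_comp_ι h)).hom.app (F.restrict U'.ι) := by
      rw [hA, natC]
      simp only [Category.assoc]
    _ = (pullbackPushforwardAdjunction ((jj h) ≫ U.ι)).unit.app F ≫ (pushforward ((jj h) ≫ U.ι)).map rest2 ≫
        (pushforwardCongr (jj_comp_ι h)).hom.app (F.restrict U'.ι) := by rw [hC]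
    _ = ((pullbackPushforwardAdjunction ((jj h) ≫ U.ι)).unit.app F ≫
        (pushforward ((jj h) ≫ U.ι)).map ((pullbackCongr (jj_comp_ι h)).hom.app F) ≫ (pushforwardCongr (jj_comp_ι h)).hom.app _) ≫
        (pushforward U'.ι).map ((restrictFunctorIsoPullback U'.ι).inv.app F) := by
      simp only [rest2, Functor.map_comp, Category.assoc]
      congr 2
    _ = _ := by rw [hD, hE]


end Res

end Groth.Agent.R2.H48.CohRes
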