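import Groth.Agent.R2.H48CohResD4

/-!
# `CohPull.resLE` in degree zero (helper48): umbrella for `H48CohResD1`–`D4`

`resLE_sectH0 : CohPull.resLE F h 0 (sectH0 F U s) = sectH0 F U' (s|_{U'})`.
-/
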