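import Groth.Agent.R2.H48CohResC

/-!
# The adjoint `adjCmp` of `cmpMod` on sections, I (helper48)
-/

set_option autoImplicit false
universe u
open CohCmp CategoryTheory AlgebraicGeometry Scheme.Modules Opposite Limits TopologicalSpace Abelian

namespace Groth.Agent.R2.H48.CohRes

variable {X : Scheme.{u}} {U U' : X.Opens} (h : U' ≤ U)

theorem thin_finish2 {T : TopCat.{u}} (P : TopCat.Presheaf Ab T) {A₁ A₂ B C : Opens T} (m₁ : A₁ ⟶ A₂)
    (m₂ : A₂ ⟶ B) (a' : B ⟶ A₁) (b : A₁ ⟶ C) (c : B ⟶ C) (y : P.obj (op B)) (s : P.obj (op C))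
    (hy : P.map m₁.op (P.map m₂.op y) = P.map b.op s) : y = P.map c.op s :=
  thin_finish P (m₁ ≫ m₂) a' b c y s (by rw [← map_map_apply]; exact hy)

/-- the morphism `F|_U ⟶ j_*(F|_{U'})` adjoint to `cmpMod` -/
noncomputable def adjCmp (F : X.Modules) :
    F.restrict U.ι ⟶ (pushforward (jj h)).obj (F.restrict U'.ι) :=
  (pullbackPushforwardAdjunction (jj h)).unit.app (F.restrict U.ι) ≫ (pushforward (jj h)).map (cmpMod h F)

set_option maxHeartbeats 400000 in
/-- on sections, `adjCmp` is the restriction map -/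
theorem adjCmp_app_unit (F : X.Modules) (s : Γ(F, U)) :
    (F.restrict U'.ι).presheaf.map (eqToHom (by rw [← Scheme.Hom.comp_preimage, jj_comp_ι]) :
        U'.ι ⁻¹ᵁ U ⟶ (jj h) ⁻¹ᵁ (U.ι ⁻¹ᵁ U)).op
      ((adjCmp h F).app (U.ι ⁻¹ᵁ U) (F.presheaf.map (homOfLE (U.ι.image_preimage_le U)).op s)) =
      F.presheaf.map (homOfLE (U'.ι.image_preimage_le U)).op s := by
  have key := congrArg (fun φ => (Scheme.Modules.Hom.app φ U) s) (unit_cmp h F)
  simp only [Scheme.Modules.Hom.comp_app, pushforward_map_app, pushforwardComp_hom_app_app,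
    pushforwardCongr_hom_app_app, restrictAdjunction_unit_app_app] at key
  exact key

end Groth.Agent.R2.H48.CohRes
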