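import Groth.Agent.R2.H48CohResD1

/-!
# The adjoint `adjCmp` of `cmpMod` on sections, II (helper48)
-/

set_option autoImplicit false
universe u
open CohCmp CategoryTheory AlgebraicGeometry Scheme.Modules Opposite Limits TopologicalSpace Abelian

namespace Groth.Agent.R2.H48.CohRes

variable {X : Scheme.{u}} {U U' : X.Opens} (h : U' ≤ U)

set_option maxHeartbeats 400000 in
theorem adjCmp_app_top (F : X.Modules) (s : Γ(F, U)) :
    (adjCmp h F).app ⊤ (F.presheaf.map (eqToHom U.ι_image_top).op s) =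
      F.presheaf.map (eqToHom U'.ι_image_top).op (F.presheaf.map (homOfLE h).op s) := by
  let i : (U.ι ⁻¹ᵁ U) ⟶ (⊤ : (U : Scheme.{u}).Opens) := homOfLE le_top
  let s₀ : Γ(F.restrict U.ι, ⊤) := F.presheaf.map (eqToHom U.ι_image_top).op s
  have nat := ConcreteCategory.congr_hom ((adjCmp h F).mapPresheaf.naturality i.op) s₀
  rw [mapPresheaf_app, mapPresheaf_app, ConcreteCategory.comp_apply, ConcreteCategory.comp_apply] at nat
  have hs₀ : F.presheaf.map (homOfLE (U.ι.image_preimage_le U)).op s =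
      ((F.restrict U.ι).presheaf.map i.op) s₀ := by
    change _ = F.presheaf.map (U.ι.opensFunctor.map i).op (F.presheaf.map (eqToHom U.ι_image_top).op s)
    rw [map_map_apply]
    congr 2
  have key := adjCmp_app_unit h F s
  rw [hs₀] at key
  rw [nat] at key
  change (ConcreteCategory.hom (Hom.app (adjCmp h F) ⊤)) s₀ = _
  generalize (ConcreteCategory.hom (Hom.app (adjCmp h F) (unop (op ⊤)))) s₀ = y at key
  clear nat hs₀
  rw [pushforward_obj_presheaf_map, Scheme.Modules.restrict_map, Scheme.Modules.restrict_map] at key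
  have hBA : U'.ι ''ᵁ ((jj h) ⁻¹ᵁ ⊤) ≤ U'.ι ''ᵁ (U'.ι ⁻¹ᵁ U) := by
    rintro _ ⟨z, -, rfl⟩
    exact ⟨z, h z.2, rfl⟩
  have fin := thin_finish2 F.presheaf _ _ (homOfLE hBA) _ (eqToHom U'.ι_image_top ≫ homOfLE h) y s key
  rw [fin]
  exact (map_map_apply F.presheaf _ _ s).symm

end Groth.Agent.R2.H48.CohRes
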