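import Groth.Agent.R2.H48CohResD2

/-!
# `CohPull.resLE` through `pullMod` (helper48)
-/

set_option autoImplicit false
universe u
open CohCmp CategoryTheory AlgebraicGeometry Scheme.Modules Opposite Limits TopologicalSpace Abelian

namespace Groth.Agent.R2.H48.CohRes

variable {X : Scheme.{u}} {U U' : X.Opens} (h : U' ≤ U)

theorem resLE_eq' (F : X.Modules) (p : ℕ) (x : Coh.HHon X F U p) :
    CohPull.resLE F h p x =
      CohPull.mapH (cmpMod h F) p (CohPull.pullMod (jj h) (F.restrict U.ι) p x) := by
  unfold CohPull.resLE CohPull.pullOn cmpMod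
  simp only [AddMonoidHom.coe_comp, Function.comp_apply, Sheaf.H.map_apply, Ext.comp_assoc_of_third_deg_zero,
    Ext.mk₀_comp_mk₀]
  rfl

end Groth.Agent.R2.H48.CohRes
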