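import Groth.Agent.R2.H48CohResD3

/-!
# `CohPull.resLE` in degree zero (helper48)
-/

set_option autoImplicit false
universe u
open CohCmp CategoryTheory AlgebraicGeometry Scheme.Modules Opposite Limits TopologicalSpace Abelian

namespace Groth.Agent.R2.H48.CohRes

variable {X : Scheme.{u}} {U U' : X.Opens} (h : U' ≤ U)

theorem equiv₀_resLE (F : X.Modules) (x : Coh.HHon X F U 0) :
    Sheaf.H.equiv₀ (Coh.toAb (F.restrict U'.ι)) isTerminalTop (CohPull.resLE F h 0 x) =
      (adjCmp h F).app ⊤ (Sheaf.H.equiv₀ (Coh.toAb (F.restrict U.ι)) isTerminalTop x) := by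
  rw [resLE_eq']
  unfold CohPull.mapH
  rw [← Sheaf.H.equiv₀_naturality, CohPull.equiv₀_pullMod]
  rfl

theorem equiv₀_sectH0 (F : X.Modules) (V : X.Opens) (s : F.presheaf.obj (op V)) :
    Sheaf.H.equiv₀ (Coh.toAb (F.restrict V.ι)) isTerminalTop (CohPull.sectH0 F V s) =
      F.presheaf.map (eqToHom V.ι_image_top).op s := by
  exact (Sheaf.H.equiv₀ (Coh.toAb (F.restrict V.ι)) isTerminalTop).apply_symm_apply _

/-- in degree `0`, `resLE` is the restriction of sections -/
theorem resLE_sectH0 (F : X.Modules) (s : F.presheaf.obj (op U)) :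
    CohPull.resLE F h 0 (CohPull.sectH0 F U s) =
      CohPull.sectH0 F U' (F.presheaf.map (homOfLE h).op s) := by
  apply (Sheaf.H.equiv₀ (Coh.toAb (F.restrict U'.ι)) isTerminalTop).injective
  rw [equiv₀_resLE, equiv₀_sectH0, equiv₀_sectH0]
  exact adjCmp_app_top h F s

end Groth.Agent.R2.H48.CohRes
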