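import Groth.Agent.R2.H48CohResB

/-!
# `CohPull.resLE` commutes with connecting homomorphisms and with maps of modules (helper48)
-/

set_option autoImplicit false
universe u
open CohCmp CategoryTheory AlgebraicGeometry Scheme.Modules Opposite Limits TopologicalSpace Abelian

namespace Groth.Agent.R2.H48.CohRes

variable {X : Scheme.{u}} {U U' : X.Opens} (h : U' ≤ U)

theorem extδ_apply {V : Scheme.{u}} {S : ShortComplex (CohTop.Ab V)} (hS : S.ShortExact) (p : ℕ)
    (x : Sheaf.H S.X₃ p) : extδ hS p x = x.comp hS.extClass rfl := rfl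

/-- `resLE` commutes with the connecting homomorphisms -/
theorem resLE_extδ (S : ShortComplex X.Modules) (hA : (S.map (toAbOn X U)).ShortExact)
    (hA' : (S.map (toAbOn X U')).ShortExact) (p : ℕ) (x : Coh.HHon X S.X₃ U p) :
    CohPull.resLE S.X₁ h (p + 1) (extδ hA p x) = extδ hA' p (CohPull.resLE S.X₃ h p x) := by
  rw [resLE_eq_tr, resLE_eq_tr, extδ_apply, extδ_apply]
  let k : (S.map (toAbOn X U)).map (CohPull.inv (jj h).base) ⟶ S.map (toAbOn X U') :=
    S.mapNatTrans (κ h)
  exact tr_extClass (CohPull.inv (jj h).base) (CohPull.oneTo (jj h).base) hA hA' k p x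

/-- `resLE` is natural in the module -/
theorem resLE_mapH {F G : X.Modules} (φ : F ⟶ G) (p : ℕ) (x : Coh.HHon X F U p) :
    CohPull.resLE G h p (CohPull.mapH ((restrictFunctor U.ι).map φ) p x) =
      CohPull.mapH ((restrictFunctor U'.ι).map φ) p (CohPull.resLE F h p x) := by
  rw [resLE_eq_tr, resLE_eq_tr]
  exact tr_comp_mk₀ (CohPull.inv (jj h).base) (CohPull.oneTo (jj h).base) ((κ h).app F) ((κ h).app G)
    ((toAbOn X U).map φ) ((toAbOn X U').map φ) ((κ h).naturality φ) p x

end Groth.Agent.R2.H48.CohRes
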