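import Groth.Agent.R2.H48CohResF2

/-!
# The universal δ-functor argument for `Coh.HHon X – U •` and consequences (helper48): umbrella for `F1`, `F2`

* `sesInj F`, `exists_extδ_eq`, `univ_eq`, `resLE_resLE` (`H48CohResF1`); `ε_resLE` (`H48CohResF2`).
-/
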