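import Groth.Agent.S16954

/-!
# Auxiliary facts for the comparison maps (helper48)

* `exists_local_lift_of_exact`: sections killed by `g` of an exact sequence of modules lift locally along `f`.
* `subsingleton_HHon_of_injective`: injective modules are acyclic on every open (in the `Coh.HHon` model).
* `exists_extδ_eq`: every class of positive degree is in the image of a connecting homomorphism.
-/

set_option autoImplicit false
universe u
open CohCmp CategoryTheory AlgebraicGeometry Scheme.Modules Opposite Limits TopologicalSpace Abelian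

namespace Groth.Agent.R2.H48.CohRes

open Groth.Agent.Lib.Helper23.SectCmpLib

/-- Exactness of a short complex of abelian sheaves gives local preimages of sections killed by `g`
(copied from helper62's `R2/H62CGrpSh`). -/
theorem exists_local_preimage_of_exact {C : Type*} [Category C] (J : GrothendieckTopology C)
    [HasSheafify J AddCommGrpCat.{u}]
    [J.WEqualsLocallyBijective AddCommGrpCat.{u}]
    [J.HasSheafCompose (forget AddCommGrpCat.{u})]
    (S : ShortComplex (Sheaf J AddCommGrpCat.{u})) (hS : S.Exact) {U : C}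
    (y : S.X₂.obj.obj (op U)) (hy : S.g.hom.app (op U) y = 0) :
    ∃ R ∈ J U, ∀ ⦃V : C⦄ (g : V ⟶ U), R g →
      ∃ x : S.X₁.obj.obj (op V), S.f.hom.app (op V) x = S.X₂.obj.map g.op y := by
  have hepi : Epi (kernel.lift S.g S.f S.zero) := (S.exact_iff_epi_kernel_lift).mp hS
  have hls : Sheaf.IsLocallySurjective (kernel.lift S.g S.f S.zero) :=
    (Sheaf.isLocallySurjective_iff_epi' _ _).2 hepi
  let S' : ShortComplex (Sheaf J AddCommGrpCat.{u}) :=
    ShortComplex.mk (kernel.ι S.g) S.g (kernel.condition S.g)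
  have hS' : S'.Exact := ShortComplex.exact_kernel S.g
  let F : Sheaf J AddCommGrpCat.{u} ⥤ AddCommGrpCat.{u} :=
    sheafToPresheaf J AddCommGrpCat.{u} ⋙ (evaluation Cᵒᵖ AddCommGrpCat.{u}).obj (op U)
  haveI : F.PreservesZeroMorphisms := by
    constructor
    intro X Y
    rfl
  have hFS' : (S'.map F).Exact :=
    hS'.map_of_mono_of_preservesKernel F (inferInstanceAs (Mono (kernel.ι S.g))) inferInstance
  obtain ⟨k, hk⟩ := (ShortComplex.ab_exact_iff _).mp hFS' y hy
  let k' : (kernel S.g).obj.obj (op U) := k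
  have hk' : (kernel.ι S.g).hom.app (op U) k' = y := hk
  refine ⟨Presheaf.imageSieve (kernel.lift S.g S.f S.zero).hom k',
    Presheaf.imageSieve_mem J _ k', fun V g hg => ?_⟩
  obtain ⟨x, hx⟩ := hg
  refine ⟨x, ?_⟩
  have h1 : kernel.lift S.g S.f S.zero ≫ kernel.ι S.g = S.f := kernel.lift_ι _ _ _
  have h2 : S.f.hom.app (op V) x =
      (kernel.ι S.g).hom.app (op V) ((kernel.lift S.g S.f S.zero).hom.app (op V) x) := by
    have := congrArg (fun φ => φ.hom.app (op V) x) h1
    exact this.symm
  rw [h2, hx, ← hk']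
  exact ConcreteCategory.congr_hom ((kernel.ι S.g).hom.naturality g.op) k'

/-- sections in the kernel of `g` lift locally along `f`, for an exact sequence of modules -/
theorem exists_local_lift_of_exact {Y : Scheme.{u}} (T : ShortComplex Y.Modules) (hT : T.Exact)
    (V : Y.Opens) (s : T.X₂.presheaf.obj (op V)) (hs : T.g.app V s = 0) (y : Y) (hy : y ∈ V) :
    ∃ (W : Y.Opens) (hWV : W ≤ V), y ∈ W ∧ ∃ t : T.X₁.presheaf.obj (op W),
      T.f.app W t = T.X₂.presheaf.map (homOfLE hWV).op s := by
  let E : SheafOfModules.{u} Y.ringCatSheaf ⥤ Sheaf (Opens.grothendieckTopology Y) AddCommGrpCat.{u} :=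
    SheafOfModules.toSheaf Y.ringCatSheaf
  let T' : ShortComplex (SheafOfModules.{u} Y.ringCatSheaf) := T
  have hT' : T'.Exact := hT
  have hE : (T'.map E).Exact := hT'.map E
  obtain ⟨R, hR, hlift⟩ := exists_local_preimage_of_exact
    (Opens.grothendieckTopology Y) (T'.map E) hE (U := V) s hs
  obtain ⟨W, i, hi, hyW⟩ := hR y hy
  obtain ⟨t, ht⟩ := hlift i hi
  exact ⟨W, leOfHom i, hyW, t, ht⟩

variable {X : Scheme.{u}}

/-- injective modules are acyclic on every open -/
theorem subsingleton_HHon_of_injective (I : X.Modules) [Injective I] (U : X.Opens) (p : ℕ) :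
    Subsingleton (Coh.HHon X I U (p + 1)) := by
  obtain ⟨e⟩ := Groth.Agent.Lib.Helper16.Restr.nonempty_HU_equiv (X := X.carrier) U (Coh.toAb I) (p + 1)
  have e' : CohTop.HU (Coh.toAb I) (p + 1) U ≃+ Coh.HHon X I U (p + 1) := e
  have : Subsingleton (CohTop.HU (Coh.toAb I) (p + 1) U) :=
    Groth.Agent.Lib.Helper23.ModAbBridge.subsingleton_HE_of_injective I U p
  exact e'.symm.injective.subsingleton

end Groth.Agent.R2.H48.CohRes
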