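import Groth.Agent.R2.H48CohResD
import Groth.Agent.R2.H48CohResE
import Groth.Agent.R2.H48CohResG

/-!
# The universal δ-functor argument for `Coh.HHon X – U •` and transitivity of `resLE` (helper48)

* `sesInj F`, `exists_extδ_eq`: every class of positive degree is a connecting-homomorphism image.
* `univ_eq`: two families of maps out of `H^•(U, –|_U)` that commute with connecting maps and agree in
  degree `0` agree.
* `resLE_resLE`: transitivity of `CohPull.resLE`.
-/

set_option autoImplicit false
universe u
open CohCmp CategoryTheory AlgebraicGeometry Scheme.Modules Opposite Limits TopologicalSpace Abelian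

namespace Groth.Agent.R2.H48.CohRes

open Groth.Agent.Lib.Helper23.SectCmpLib

variable {X : Scheme.{u}}

section Inj

variable [EnoughInjectives X.Modules]

/-- the standard short exact sequence `0 → F → I → Q → 0` with `I` injective -/
noncomputable def sesInj (F : X.Modules) : ShortComplex X.Modules :=
  ShortComplex.mk (Injective.ι F) (cokernel.π (Injective.ι F)) (cokernel.condition _)

theorem sesInj_shortExact (F : X.Modules) : (sesInj F).ShortExact :=
  { exact := ShortComplex.exact_cokernel _
    mono_f := inferInstanceAs (Mono (Injective.ι F))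
    epi_g := inferInstanceAs (Epi (cokernel.π (Injective.ι F))) }

instance (F : X.Modules) : Injective (sesInj F).X₂ := inferInstanceAs (Injective (Injective.under F))

/-- every class of positive degree is in the image of the connecting homomorphism of `sesInj` -/
theorem exists_extδ_eq (F : X.Modules) (U : X.Opens) (p : ℕ)
    (hA : ((sesInj F).map (toAbOn X U)).ShortExact) (x : Coh.HHon X F U (p + 1)) :
    ∃ x' : Coh.HHon X (sesInj F).X₃ U p, extδ hA p x' = x := by
  have : Subsingleton (Coh.HHon X (sesInj F).X₂ U (p + 1)) := subsingleton_HHon_of_injective _ U p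
  exact Ext.covariant_sequence_exact₁ _ hA x (Subsingleton.elim (α := Coh.HHon X (sesInj F).X₂ U (p + 1)) _ _) rfl

/-- the universal δ-functor argument -/
theorem univ_eq (U : X.Opens) {G : X.Modules → ℕ → Type u}
    (α β : ∀ (F : X.Modules) (p : ℕ), Coh.HHon X F U p → G F p)
    (dG : ∀ (S : ShortComplex X.Modules), S.ShortExact → ∀ p : ℕ, G S.X₃ p → G S.X₁ (p + 1))
    (hα : ∀ (S : ShortComplex X.Modules) (hS : S.ShortExact) (hA : (S.map (toAbOn X U)).ShortExact) (p : ℕ)
      (x : Coh.HHon X S.X₃ U p), α S.X₁ (p + 1) (extδ hA p x) = dG S hS p (α S.X₃ p x))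
    (hβ : ∀ (S : ShortComplex X.Modules) (hS : S.ShortExact) (hA : (S.map (toAbOn X U)).ShortExact) (p : ℕ)
      (x : Coh.HHon X S.X₃ U p), β S.X₁ (p + 1) (extδ hA p x) = dG S hS p (β S.X₃ p x))
    (h0 : ∀ (F : X.Modules) (x : Coh.HHon X F U 0), α F 0 x = β F 0 x)
    (F : X.Modules) (p : ℕ) (x : Coh.HHon X F U p) : α F p x = β F p x := by
  induction p generalizing F with
  | zero => exact h0 F x
  | succ p ih =>
    have hS := sesInj_shortExact F
    have hA := toAbOn_shortExact U (sesInj F) hS
    obtain ⟨x', rfl⟩ := exists_extδ_eq F U p hA x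
    have e1 := hα (sesInj F) hS hA p x'
    have e2 := hβ (sesInj F) hS hA p x'
    exact e1.trans ((congrArg (dG (sesInj F) hS p) (ih _ x')).trans e2.symm)

/-- transitivity of `CohPull.resLE` -/
theorem resLE_resLE {U U' U'' : X.Opens} (h : U' ≤ U) (h' : U'' ≤ U') (F : X.Modules) (p : ℕ)
    (x : Coh.HHon X F U p) :
    CohPull.resLE F h' p (CohPull.resLE F h p x) = CohPull.resLE F (h'.trans h) p x := by
  refine univ_eq U (G := fun F p => Coh.HHon X F U'' p)
    (fun F p x => CohPull.resLE F h' p (CohPull.resLE F h p x))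
    (fun F p x => CohPull.resLE F (h'.trans h) p x)
    (fun S hS p => extδ (toAbOn_shortExact U'' S hS) p) ?_ ?_ ?_ F p x
  · intro S hS hA p x
    rw [resLE_extδ h S hA (toAbOn_shortExact U' S hS), resLE_extδ h' S (toAbOn_shortExact U' S hS)
      (toAbOn_shortExact U'' S hS)]
  · intro S hS hA p x
    exact resLE_extδ (h'.trans h) S hA (toAbOn_shortExact U'' S hS) p x
  · intro F x
    obtain ⟨s, rfl⟩ := (CohPull.sectH0 F U).surjective x
    rw [resLE_sectH0, resLE_sectH0, resLE_sectH0, map_map_apply]
    rfl

end Inj

end Groth.Agent.R2.H48.CohRes
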