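import Groth.Agent.R2.H48CohResF1

/-!
# The comparison maps of a `CohCmp.SectCmp` commute with restriction (helper48)
-/

set_option autoImplicit false
universe u
open CohCmp CategoryTheory AlgebraicGeometry Scheme.Modules Opposite Limits TopologicalSpace Abelian

namespace Groth.Agent.R2.H48.CohRes

open Groth.Agent.Lib.Helper23.SectCmpLib

variable {X : Scheme.{u}} [EnoughInjectives X.Modules]

/-- the comparison maps commute with restriction -/
theorem ε_resLE {Y : Scheme.{u}} (f : X ⟶ Y) [HasInjectiveResolutions X.Modules]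
    {Δ : RDer.DerivedLES (pushforward f)} (E : CohCmp.SectCmp f Δ) {V W : Y.Opens} (hWV : W ≤ V)
    (F : X.Modules) (p : ℕ) (x : Coh.HHon X F (f ⁻¹ᵁ V) p) :
    E.ε W F p (CohPull.resLE F (f.preimage_mono hWV) p x) =
      ((Coh.Rpush f p).obj F).presheaf.map (homOfLE hWV).op (E.ε V F p x) := by
  refine univ_eq (f ⁻¹ᵁ V) (G := fun F p => ((Coh.Rpush f p).obj F).presheaf.obj (op W))
    (fun F p x => E.ε W F p (CohPull.resLE F (f.preimage_mono hWV) p x))
    (fun F p x => ((Coh.Rpush f p).obj F).presheaf.map (homOfLE hWV).op (E.ε V F p x))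
    (fun S hS p t => (Δ.δ S hS p (p + 1) rfl).app W t) ?_ ?_ ?_ F p x
  · intro S hS hA p x
    have hA' := toAbOn_shortExact (f ⁻¹ᵁ W) S hS
    change E.ε W S.X₁ (p + 1) (CohPull.resLE S.X₁ (f.preimage_mono hWV) (p + 1) (extδ hA p x)) = _
    rw [resLE_extδ (f.preimage_mono hWV) S hA hA', E.delta W S hS hA']
  · intro S hS hA p x
    change ((Coh.Rpush f (p + 1)).obj S.X₁).presheaf.map (homOfLE hWV).op
      (E.ε V S.X₁ (p + 1) (extδ hA p x)) = _
    rw [E.delta V S hS hA]
    exact (ConcreteCategory.congr_hom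
      ((Δ.δ S hS p (p + 1) rfl).mapPresheaf.naturality (homOfLE hWV).op) (E.ε V S.X₃ p x)).symm
  · intro F x
    obtain ⟨s, rfl⟩ := (CohPull.sectH0 F (f ⁻¹ᵁ V)).surjective x
    rw [resLE_sectH0, E.zero, E.zero]
    exact ConcreteCategory.congr_hom
      (((pushforward f).toRightDerivedZero.app F).mapPresheaf.naturality (homOfLE hWV).op) s

end Groth.Agent.R2.H48.CohRes
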