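import Groth.Agent.R2.H48CohResF

/-!
# Local injectivity of the comparison maps `CohCmp.SectCmp` (helper48)
-/

set_option autoImplicit false
universe u
open CohCmp CategoryTheory AlgebraicGeometry Scheme.Modules Opposite Limits TopologicalSpace Abelian

namespace Groth.Agent.R2.H48.CohRes

open Groth.Agent.Lib.Helper23.SectCmpLib

/-- the connecting homomorphism kills the image of `H^p(g)` -/
theorem extδ_map_g {V : Scheme.{u}} {S : ShortComplex (CohTop.Ab V)} (hS : S.ShortExact) (p : ℕ)
    (y : Sheaf.H S.X₂ p) : extδ hS p (Sheaf.H.map S.g p y) = 0 := by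
  rw [extδ_apply, Sheaf.H.map_apply, Ext.comp_assoc_of_second_deg_zero, hS.comp_extClass, Ext.comp_zero]

set_option maxHeartbeats 1600000 in
/-- the comparison map is locally injective -/
theorem locally_zero_of_ε_eq_zero
    {X Y : Scheme.{u}} (f : X ⟶ Y) [HasInjectiveResolutions X.Modules]
    {Δ : RDer.DerivedLES (pushforward f)} (E : CohCmp.SectCmp f Δ) (F : X.Modules) (p : ℕ)
    (V : Y.Opens) (x : Coh.HHon X F (f ⁻¹ᵁ V) p) (hx : E.ε V F p x = 0) (y : Y) (hy : y ∈ V) :
    ∃ (W : Y.Opens) (hWV : W ≤ V), y ∈ W ∧ CohPull.resLE F (f.preimage_mono hWV) p x = 0 := by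
  have := Groth.Agent.S0484.result (Opens.grothendieckTopology X) X.ringCatSheaf
  have : EnoughInjectives X.Modules := inferInstanceAs (EnoughInjectives (SheafOfModules.{u} X.ringCatSheaf))
  induction p generalizing F V with
  | zero =>
    refine ⟨V, le_rfl, hy, ?_⟩
    obtain ⟨s, rfl⟩ := (CohPull.sectH0 F (f ⁻¹ᵁ V)).surjective x
    rw [E.zero V F s] at hx
    let τ := (pushforward f).toRightDerivedZero.app F
    have : IsIso τ := inferInstance
    have hs : s = 0 := by
      have h1 : (inv τ).app V (τ.app V s) = s :=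
        congrArg (fun φ : (pushforward f).obj F ⟶ (pushforward f).obj F => φ.app V s) (IsIso.hom_inv_id τ)
      rw [← h1]
      exact (congrArg ((inv τ).app V) hx).trans (map_zero _)
    rw [hs, map_zero, map_zero]
  | succ p ih =>
    have hS := sesInj_shortExact F
    have hA := toAbOn_shortExact (f ⁻¹ᵁ V) (sesInj F) hS
    obtain ⟨x', rfl⟩ := exists_extδ_eq F (f ⁻¹ᵁ V) p hA x
    replace hx : (Δ.δ (sesInj F) hS p (p + 1) rfl).app V (E.ε V (sesInj F).X₃ p x') = 0 :=
      (E.delta V (sesInj F) hS hA p x').symm.trans hx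
    obtain ⟨W, hWV, hyW, t, ht⟩ := exists_local_lift_of_exact _ (Δ.exact₃ (sesInj F) hS p (p + 1) rfl) V
      (E.ε V (sesInj F).X₃ p x') hx y hy
    obtain ⟨W', hW'W, hyW', t', ht'⟩ := Groth.Agent.S16954.result f E (sesInj F).X₂ p W t y hyW
    have hW'V : W' ≤ V := hW'W.trans hWV
    obtain ⟨z, hz⟩ : ∃ z : Coh.HHon X (sesInj F).X₃ (f ⁻¹ᵁ W') p,
        CohPull.resLE (sesInj F).X₃ (f.preimage_mono hW'V) p x' =
          z + CohPull.mapH ((restrictFunctor (f ⁻¹ᵁ W').ι).map (sesInj F).g) p t' :=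
      ⟨_, (sub_add_cancel _ _).symm⟩
    have hεz : E.ε W' (sesInj F).X₃ p z = 0 := by
      have h1 := ε_resLE f E hW'V (sesInj F).X₃ p x'
      rw [hz, map_add, E.natural W' (sesInj F).g p t', ht'] at h1
      have nat := ConcreteCategory.congr_hom
        (((Coh.Rpush f p).map (sesInj F).g).mapPresheaf.naturality (homOfLE hW'W).op) t
      have h2 : ((Coh.Rpush f p).map (sesInj F).g).app W'
          (((Coh.Rpush f p).obj (sesInj F).X₂).presheaf.map (homOfLE hW'W).op t) =
          ((Coh.Rpush f p).obj (sesInj F).X₃).presheaf.map (homOfLE hW'V).op (E.ε V (sesInj F).X₃ p x') := by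
        refine nat.trans ?_
        change ((Coh.Rpush f p).obj (sesInj F).X₃).presheaf.map (homOfLE hW'W).op
          (((Coh.Rpush f p).map (sesInj F).g).app W t) = _
        rw [ht, ← ConcreteCategory.comp_apply, ← Functor.map_comp]
        rfl
      rw [h2] at h1
      exact add_eq_right.mp h1
    obtain ⟨W'', hW''W', hyW'', hz0⟩ := ih (sesInj F).X₃ W' z hεz hyW'
    refine ⟨W'', hW''W'.trans hW'V, hyW'', ?_⟩
    have hA'' := toAbOn_shortExact (f ⁻¹ᵁ W'') (sesInj F) hS
    refine (resLE_extδ (f.preimage_mono (hW''W'.trans hW'V)) (sesInj F) hA hA'' p x').trans ?_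
    have e1 : CohPull.resLE (sesInj F).X₃ (f.preimage_mono (hW''W'.trans hW'V)) p x' =
        CohPull.mapH ((restrictFunctor (f ⁻¹ᵁ W'').ι).map (sesInj F).g) p
          (CohPull.resLE (sesInj F).X₂ (f.preimage_mono hW''W') p t') := by
      rw [← resLE_resLE (f.preimage_mono hW'V) (f.preimage_mono hW''W'), hz, map_add, hz0, zero_add,
        resLE_mapH]
    rw [e1]
    exact extδ_map_g hA'' p _

end Groth.Agent.R2.H48.CohRes
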