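import Mathlib
import Groth.Agent.Lib.Helper12NoethDescent

/-!
# helper48: descent of local Noetherianity along affine flat surjective morphisms (no finite presentation)
-/

set_option autoImplicit false
universe u
open CategoryTheory CategoryTheory.Limits AlgebraicGeometry

namespace Groth.Agent.R2.H48.NoethDescent

/-- local Noetherianity descends along affine flat surjective morphisms of schemes. -/
lemma isLocallyNoetherian_of_flat_affine_surjective {A B : Scheme.{u}} (g : A ⟶ B)
    [Flat g] [IsAffineHom g] [Surjective g] [IsLocallyNoetherian A] : IsLocallyNoetherian B := by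
  rw [isLocallyNoetherian_iff_openCover B.affineCover]
  intro i
  haveI : IsLocallyNoetherian (pullback g (B.affineCover.f i)) :=
    isLocallyNoetherian_of_isOpenImmersion (pullback.fst g (B.affineCover.f i))
  haveI : IsAffine (B.affineCover.X i) := by
    dsimp [Scheme.affineCover]; infer_instance
  haveI : IsAffine (pullback g (B.affineCover.f i)) :=
    isAffine_of_isAffineHom (pullback.snd g (B.affineCover.f i))
  haveI : IsNoetherianRing Γ(pullback g (B.affineCover.f i), ⊤) :=
    IsLocallyNoetherian.component_noetherian ⟨⊤, isAffineOpen_top _⟩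
  have hff : (pullback.snd g (B.affineCover.f i)).appTop.hom.FaithfullyFlat :=
    (Flat.flat_and_surjective_iff_faithfullyFlat_of_isAffine (pullback.snd g (B.affineCover.f i))).1
      ⟨inferInstance, inferInstance⟩
  algebraize [(pullback.snd g (B.affineCover.f i)).appTop.hom]
  haveI : Module.FaithfullyFlat Γ(B.affineCover.X i, ⊤) Γ(pullback g (B.affineCover.f i), ⊤) := hff
  haveI : IsNoetherianRing Γ(B.affineCover.X i, ⊤) :=
    Groth.Agent.Lib.Helper28.isNoetherianRing_of_faithfullyFlat (R := Γ(B.affineCover.X i, ⊤))
      (S := Γ(pullback g (B.affineCover.f i), ⊤))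
  exact isLocallyNoetherian_of_isOpenImmersion (B.affineCover.X i).isoSpec.hom

end Groth.Agent.R2.H48.NoethDescent
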