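import Mathlib
import Groth.Agent.R2.H48NoethDescent
import Groth.Agent.Lib.Helper12FibreSpec

/-!
# helper48: local Noetherianity of fibres of algebraic spaces under change of the field point

* `isLocNoethSp_of_isPullback_lft`: base change of a locally Noetherian space along a morphism of
  schemes locally of finite type is locally Noetherian.
* `isLocNoethSp_of_isPullback_flat_affine_surjective`: descent of local Noetherianity along a base
  change of a flat affine surjective morphism of schemes.
* `lft_of_etale_point`: for `W` étale over a field `k` and `w ∈ W`, `Spec κ(w) ⟶ Spec k` is locally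
  of finite type.
-/

set_option autoImplicit false
set_option backward.isDefEq.respectTransparency false
universe u
open CategoryTheory CategoryTheory.Limits AlgebraicGeometry
open AlgSp

namespace Groth.Agent.R2.H48.FibreNoeth

variable {S : Scheme.{u}}

theorem locallyQuasiFinite_of_etale {X S : Scheme.{u}} (f : X ⟶ S) [Etale f] :
    LocallyQuasiFinite f := by
  constructor
  intro U hU V hV e
  have h1 := f.etale_appLE hU hV e
  algebraize [(f.appLE U V e).hom]
  have : Algebra.Etale Γ(S, U) Γ(X, V) := h1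
  exact RingHom.quasiFinite_algebraMap.mpr inferInstance

lemma lft_of_lqf_fields {K k : Type u} [Field K] [Field k]
    (c : Spec (CommRingCat.of K) ⟶ Spec (CommRingCat.of k)) [h : LocallyQuasiFinite c] :
    LocallyOfFiniteType c := by
  rw [← Spec.map_preimage c] at h ⊢
  rw [HasRingHomProperty.Spec_iff (P := @LocallyQuasiFinite)] at h
  rw [HasRingHomProperty.Spec_iff (P := @LocallyOfFiniteType)]
  algebraize [(Spec.preimage c).hom]
  have : Algebra.QuasiFinite k K := h
  have : Module.Finite k K := Module.Finite.of_quasiFinite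
  exact RingHom.finiteType_algebraMap.mpr inferInstance

/-- for `W` étale over a field `k` and `w ∈ W`, `Spec κ(w) ⟶ Spec k` is locally of finite type. -/
lemma lft_of_etale_point {W : Scheme.{u}} {k : Type u} [Field k] (g : W ⟶ Spec (CommRingCat.of k))
    [Etale g] (w : W) : LocallyOfFiniteType (W.fromSpecResidueField w ≫ g) := by
  haveI := locallyQuasiFinite_of_etale g
  haveI : LocallyQuasiFinite (W.fromSpecResidueField w ≫ g) := inferInstance
  exact lft_of_lqf_fields (K := W.residueField w) (W.fromSpecResidueField w ≫ g)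

/-- A morphism between spectra of fields is flat. -/
lemma flat_of_fields {K K₀ : Type u} [Field K] [Field K₀]
    (c : Spec (CommRingCat.of K) ⟶ Spec (CommRingCat.of K₀)) : Flat c := by
  rw [← Spec.map_preimage c, HasRingHomProperty.Spec_iff (P := @Flat)]
  algebraize [(Spec.preimage c).hom]
  show Module.Flat K₀ K
  infer_instance

/-- A morphism between spectra of fields is surjective. -/
lemma surjective_of_fields {K K₀ : Type u} [Field K] [Field K₀]
    (c : Spec (CommRingCat.of K) ⟶ Spec (CommRingCat.of K₀)) : Surjective c := by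
  refine ⟨fun y => ⟨IsLocalRing.closedPoint K, Subsingleton.elim _ _⟩⟩

/-- base change of a locally Noetherian space along a morphism of schemes locally of finite type is
locally Noetherian. -/
lemma isLocNoethSp_of_isPullback_lft {P Q : AlgSp.Sp S} {T T' : Over S} (c : T' ⟶ T)
    [LocallyOfFiniteType c.left] (hP : AlgSp.IsLocNoethSp P) (g : P ⟶ (AlgSp.yon S).obj T)
    (l : Q ⟶ P) (g' : Q ⟶ (AlgSp.yon S).obj T') (sq : IsPullback l g' g ((AlgSp.yon S).map c)) :
    AlgSp.IsLocNoethSp Q := by
  obtain ⟨U, a, hae, has, hU⟩ := hP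
  obtain ⟨u, hu⟩ := (AlgSp.yon S).map_surjective (a ≫ g)
  let U' : Over S := Over.mk (pullback.fst u.left c.left ≫ U.hom)
  let pr₁ : U' ⟶ U := Over.homMk (pullback.fst u.left c.left) rfl
  let pr₂ : U' ⟶ T' := Over.homMk (pullback.snd u.left c.left) (by
    show pullback.snd u.left c.left ≫ T'.hom = pullback.fst u.left c.left ≫ U.hom
    rw [← Over.w c, ← Over.w u, ← Category.assoc, ← Category.assoc, pullback.condition])
  have sqU : IsPullback pr₁ pr₂ u c :=
    IsPullback.of_map (Over.forget S) (Over.OverMorphism.ext pullback.condition)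
      (IsPullback.of_hasPullback u.left c.left)
  have sqUy := (sqU.map (AlgSp.yon S)).flip
  rw [hu] at sqUy
  obtain ⟨a', sqa⟩ : ∃ a', IsPullback a' ((AlgSp.yon S).map pr₁) l a :=
    ⟨_, IsPullback.of_right' sqUy sq.flip⟩
  have hae' : AlgSp.RepWith @Etale a' :=
    MorphismProperty.of_isPullback (P := AlgSp.RepWith @Etale) sqa.flip hae
  have has' : AlgSp.RepWith @Surjective a' :=
    MorphismProperty.of_isPullback (P := AlgSp.RepWith @Surjective) sqa.flip has
  haveI : IsLocallyNoetherian U.left := hU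
  haveI : LocallyOfFiniteType (pullback.fst u.left c.left) := inferInstance
  exact ⟨U', a', hae', has', LocallyOfFiniteType.isLocallyNoetherian (pullback.fst u.left c.left)⟩

/-- descent of local Noetherianity along a base change of a flat affine surjective morphism of
schemes. -/
lemma isLocNoethSp_of_isPullback_flat_affine_surjective {P Q : AlgSp.Sp S} {T T₀ : Over S}
    (c : T ⟶ T₀) [Flat c.left] [Surjective c.left] [IsAffineHom c.left]
    (hQalg : AlgSp.IsAlgSpace Q) (g : Q ⟶ (AlgSp.yon S).obj T₀)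
    (l : P ⟶ Q) (g' : P ⟶ (AlgSp.yon S).obj T) (sq : IsPullback l g' g ((AlgSp.yon S).map c))
    (hP : AlgSp.IsLocNoethSp P) : AlgSp.IsLocNoethSp Q := by
  obtain ⟨V₀, a₀, ha₀e, ha₀s⟩ := hQalg.atlas
  obtain ⟨b₀, hb₀⟩ := (AlgSp.yon S).map_surjective (a₀ ≫ g)
  let V : Over S := Over.mk (pullback.fst b₀.left c.left ≫ V₀.hom)
  let pr₁ : V ⟶ V₀ := Over.homMk (pullback.fst b₀.left c.left) rfl
  let pr₂ : V ⟶ T := Over.homMk (pullback.snd b₀.left c.left) (by
    show pullback.snd b₀.left c.left ≫ T.hom = pullback.fst b₀.left c.left ≫ V₀.hom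
    rw [← Over.w c, ← Over.w b₀, ← Category.assoc, ← Category.assoc, pullback.condition])
  have sqV : IsPullback pr₁ pr₂ b₀ c :=
    IsPullback.of_map (Over.forget S) (Over.OverMorphism.ext pullback.condition)
      (IsPullback.of_hasPullback b₀.left c.left)
  have sqVy := (sqV.map (AlgSp.yon S)).flip
  rw [hb₀] at sqVy
  obtain ⟨a, sqa⟩ : ∃ a, IsPullback a ((AlgSp.yon S).map pr₁) l a₀ :=
    ⟨_, IsPullback.of_right' sqVy sq.flip⟩
  have hae : AlgSp.RepWith @Etale a :=
    MorphismProperty.of_isPullback (P := AlgSp.RepWith @Etale) sqa.flip ha₀e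
  haveI : IsLocallyNoetherian V.left :=
    Groth.Agent.Lib.Helper12.FibreSpec.isLocallyNoetherian_of_chart hP a hae
  haveI : IsLocallyNoetherian (pullback b₀.left c.left) := ‹IsLocallyNoetherian V.left›
  haveI : IsAffineHom (pullback.fst b₀.left c.left) := MorphismProperty.pullback_fst _ _ ‹_›
  have : IsLocallyNoetherian V₀.left :=
    Groth.Agent.R2.H48.NoethDescent.isLocallyNoetherian_of_flat_affine_surjective
      (pullback.fst b₀.left c.left)
  exact ⟨V₀, a₀, ha₀e, ha₀s, this⟩

/-- fibre form of `isLocNoethSp_of_isPullback_lft`. -/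
lemma isLocNoethSp_fibre_of_lft {X' Y' P Q : AlgSp.Sp S} (f : X' ⟶ Y') {T T' : Over S}
    (t : (AlgSp.yon S).obj T ⟶ Y') (c : T' ⟶ T) [LocallyOfFiniteType c.left]
    {pfst : P ⟶ X'} {psnd : P ⟶ (AlgSp.yon S).obj T} (hP : IsPullback pfst psnd f t)
    (hPN : AlgSp.IsLocNoethSp P)
    {qfst : Q ⟶ X'} {qsnd : Q ⟶ (AlgSp.yon S).obj T'}
    (hQ : IsPullback qfst qsnd f ((AlgSp.yon S).map c ≫ t)) : AlgSp.IsLocNoethSp Q := by
  have hw : qfst ≫ f = (qsnd ≫ (AlgSp.yon S).map c) ≫ t := by rw [hQ.w, Category.assoc]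
  have s : IsPullback (hP.lift qfst (qsnd ≫ (AlgSp.yon S).map c) hw ≫ pfst) qsnd f
      ((AlgSp.yon S).map c ≫ t) := by
    rw [hP.lift_fst]; exact hQ
  have sq := IsPullback.of_right s (hP.lift_snd _ _ hw) hP
  exact isLocNoethSp_of_isPullback_lft c hPN psnd _ qsnd sq

/-- fibre form of `isLocNoethSp_of_isPullback_flat_affine_surjective`. -/
lemma isLocNoethSp_fibre_of_flat_affine_surjective {X' Y' Q : AlgSp.Sp S} (f : X' ⟶ Y')
    {T T₀ : Over S} (t₀ : (AlgSp.yon S).obj T₀ ⟶ Y') (c : T ⟶ T₀)
    [Flat c.left] [Surjective c.left] [IsAffineHom c.left]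
    (hPN : ∀ ⦃P : AlgSp.Sp S⦄ (fst : P ⟶ X') (snd : P ⟶ (AlgSp.yon S).obj T),
      IsPullback fst snd f ((AlgSp.yon S).map c ≫ t₀) → AlgSp.IsLocNoethSp P)
    (hQalg : AlgSp.IsAlgSpace Q) {qfst : Q ⟶ X'} {qsnd : Q ⟶ (AlgSp.yon S).obj T₀}
    (hQ : IsPullback qfst qsnd f t₀) : AlgSp.IsLocNoethSp Q := by
  have sqP := IsPullback.of_hasPullback qsnd ((AlgSp.yon S).map c)
  have sqPX := sqP.paste_horiz hQ
  exact isLocNoethSp_of_isPullback_flat_affine_surjective c hQalg qsnd _ _ sqP (hPN _ _ sqPX)

end Groth.Agent.R2.H48.FibreNoeth
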