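import Mathlib

/-!
# helper48: PROJ:qcoh-et — interface file (closed `Prop`s, to be proved as `theorem pkgX : QCTSpec.PkgX`)

Goal of the project: quasi-coherent modules on the small etale site of an algebraic space
(`AlgSp.ModEt X`, Mathlib's `SheafOfModules.IsQuasicoherent`) satisfy
`Γ(U', M) = Γ(U', O) ⊗_{Γ(U, O)} Γ(U, M)` for every morphism `U' ⟶ U` of AFFINE objects of the site
("quasi-coherent = tilde on affine etale charts"), and conversely the functor `N ↦ N~` on the small etale site of an
affine object.  About 80 `hard` rows carry the note "needs qcoh modules on the small etale site".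

The packages below are GENERAL (no algebraic spaces): sites, sheaves of modules, commutative algebra.
-/

set_option autoImplicit false
universe w v u

open CategoryTheory Limits Opposite

namespace Groth.Agent.R2.H48.QCTSpec

/-- A finite family of morphisms into `U` together with chosen "overlaps" `W j k ⟶ V j`, `W j k ⟶ V k`
(in the applications `W j k = V j ×_U V k`). -/
structure FinCover {C : Type u} [Category.{v} C] (U : C) where
  /-- number of members -/
  n : ℕ
  /-- the members -/
  V : Fin n → C
  /-- the structure maps -/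
  g : ∀ j, V j ⟶ U
  /-- the overlaps -/
  W : Fin n → Fin n → C
  /-- first projection -/
  p₁ : ∀ j k, W j k ⟶ V j
  /-- second projection -/
  p₂ : ∀ j k, W j k ⟶ V k
  w : ∀ j k, p₁ j k ≫ g j = p₂ j k ≫ g k

/-- **Package P** (sections of a sheafification over "good" objects).  `J` a topology on `C`, `B` a class of
"good" objects, `K` a class of finite covers (with overlaps) such that members and overlaps of a `K`-cover are good,
`K`-covers generate covering sieves, and every covering sieve of a good object contains a `K`-cover.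
Let `φ : P ⟶ F` be a locally injective and locally surjective morphism from a presheaf of abelian groups to a
sheaf.  If `P` is separated and has gluing for all `K`-covers of good objects, then `φ` is bijective on sections
over every good object.
(Proof: injectivity from local injectivity + a `K`-cover inside the equalizer sieve + separation; surjectivity:
local preimages on a `K`-cover, they agree on the overlaps by the injectivity just proved, glue, conclude by
separatedness of the sheaf `F`.  Compare helper67's `R2/H67GenBCD` and helper1's `R2/H1SheafifyTop`.) -/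
def PkgP : Prop :=
  ∀ {C : Type u} [Category.{v} C] (J : GrothendieckTopology C) (B : C → Prop)
    (K : ∀ U : C, FinCover U → Prop)
    (_ : ∀ (U : C) (𝒱 : FinCover U), K U 𝒱 →
      (∀ j, B (𝒱.V j)) ∧ (∀ j k, B (𝒱.W j k)) ∧ Sieve.ofArrows 𝒱.V 𝒱.g ∈ J U)
    (_ : ∀ (U : C), B U → ∀ S ∈ J U, ∃ 𝒱 : FinCover U, K U 𝒱 ∧ ∀ j, S.arrows (𝒱.g j))
    {P F : Cᵒᵖ ⥤ AddCommGrpCat.{w}} (_ : Presheaf.IsSheaf J F) (φ : P ⟶ F)
    [Presheaf.IsLocallyInjective J φ] [Presheaf.IsLocallySurjective J φ]
    (_ : ∀ (U : C), B U → ∀ 𝒱 : FinCover U, K U 𝒱 → ∀ x : P.obj (op U),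
      (∀ j, P.map (𝒱.g j).op x = 0) → x = 0)
    (_ : ∀ (U : C), B U → ∀ 𝒱 : FinCover U, K U 𝒱 → ∀ x : ∀ j, P.obj (op (𝒱.V j)),
      (∀ j k, P.map (𝒱.p₁ j k).op (x j) = P.map (𝒱.p₂ j k).op (x k)) →
        ∃ y : P.obj (op U), ∀ j, P.map (𝒱.g j).op y = x j),
    ∀ (U : C), B U → Function.Bijective (φ.app (op U))

/-- An additive map `f : M → M'`, semilinear along a ring homomorphism `φ : R → S`, exhibits `M'` as the base change
`S ⊗_R M` (Mathlib's `IsBaseChange` for the algebra structure `φ.toAlgebra` and the `R`-module structure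
`Module.compHom M' φ`). -/
def IsBaseChangeHom {R S : Type*} [CommRing R] [CommRing S] (φ : R →+* S) {M M' : Type*}
    [AddCommGroup M] [Module R M] [AddCommGroup M'] [Module S M'] (f : M →+ M')
    (hf : ∀ (x : R) (m : M), f (x • m) = φ x • f m) : Prop :=
  letI := φ.toAlgebra
  letI : Module R M' := Module.compHom M' φ
  haveI : IsScalarTower R S M' := IsScalarTower.of_algebraMap_smul fun _ _ => rfl
  IsBaseChange S ({ toFun := f, map_add' := f.map_add, map_smul' := hf } : M →ₗ[R] M')

/-- **Package Alg** (faithfully flat descent, first two terms, for a finite family, in "base change" form).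
`A → B j` a finite family of flat ring maps, jointly surjective on spectra; `Cc j k` the pushout of `B j ← A → B k`
(expressed as: `b₂ j k : B k → Cc j k` is the base change of `A → B j`, `Cc j k` being a `B j`-module through `b₁ j k`);
`N` an `A`-module with base changes `r j : N → Nj j` (to `B j`) and `s₁ j k : Nj j → Njk j k` (to `Cc j k` along
`b₁ j k`), and `b₂`-semilinear maps `s₂ j k : Nj k → Njk j k` with `s₁ j k ∘ r j = s₂ j k ∘ r k`.  Then `N` is the
equalizer: an element of `N` dying in all `Nj j` is zero, and a family `x j ∈ Nj j` with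
`s₁ j k (x j) = s₂ j k (x k)` comes from a (unique) element of `N`.
(Proof: `Module.FaithfullyFlat A (∀ j, B j)`; transport to `B j ⊗[A] N` through `IsBaseChange.equiv` and apply
helper80's `R2/H80AmitsurFam.fam_mk_injective` / `fam_glue`; the map `B j ⊗ (B k ⊗ N) → Njk j k`,
`b ⊗ (b' ⊗ m) ↦ (b₁ b * b₂ b') • s₁ (r m)` is bijective by the pushout and base change hypotheses.) -/
def PkgAlg : Prop :=
  ∀ (A : Type u) [CommRing A] (n : ℕ) (B : Fin n → Type u) [∀ j, CommRing (B j)] (a : ∀ j, A →+* B j)
    (Cc : Fin n → Fin n → Type u) [∀ j k, CommRing (Cc j k)]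
    (b₁ : ∀ j k, B j →+* Cc j k) (b₂ : ∀ j k, B k →+* Cc j k)
    (_ : ∀ j k, (b₁ j k).comp (a j) = (b₂ j k).comp (a k))
    (_ : ∀ j, (a j).Flat)
    (_ : ∀ p : PrimeSpectrum A, ∃ j, p ∈ Set.range (PrimeSpectrum.comap (a j)))
    (_ : ∀ j k, @IsBaseChangeHom A (B j) _ _ (a j) (B k) (Cc j k) _ (Module.compHom (B k) (a k)) _
      (Module.compHom (Cc j k) (b₁ j k)) (b₂ j k).toAddMonoidHom (fun x m => by
        show b₂ j k (a k x * m) = b₁ j k (a j x) * b₂ j k m
        rw [map_mul, ← RingHom.comp_apply, ← RingHom.comp_apply, ‹∀ j k, (b₁ j k).comp (a j) = (b₂ j k).comp (a k)› j k]))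
    (N : Type w) [AddCommGroup N] [Module A N]
    (Nj : Fin n → Type w) [∀ j, AddCommGroup (Nj j)] [∀ j, Module (B j) (Nj j)]
    (Njk : Fin n → Fin n → Type w) [∀ j k, AddCommGroup (Njk j k)] [∀ j k, Module (Cc j k) (Njk j k)]
    (r : ∀ j, N →+ Nj j) (hr : ∀ j (x : A) (m : N), r j (x • m) = a j x • r j m)
    (s₁ : ∀ j k, Nj j →+ Njk j k) (hs₁ : ∀ j k (x : B j) (m : Nj j), s₁ j k (x • m) = b₁ j k x • s₁ j k m)
    (s₂ : ∀ j k, Nj k →+ Njk j k) (_ : ∀ j k (x : B k) (m : Nj k), s₂ j k (x • m) = b₂ j k x • s₂ j k m)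
    (_ : ∀ j k (m : N), s₁ j k (r j m) = s₂ j k (r k m))
    (_ : ∀ j, IsBaseChangeHom (a j) (r j) (hr j))
    (_ : ∀ j k, IsBaseChangeHom (b₁ j k) (s₁ j k) (hs₁ j k)),
    (∀ m : N, (∀ j, r j m = 0) → m = 0) ∧
    (∀ x : ∀ j, Nj j, (∀ j k, s₁ j k (x j) = s₂ j k (x k)) → ∃ m : N, ∀ j, r j m = x j)

/-- **Package Gen** (sections of a module generated by global sections are locally finite combinations of the
generators).  `σ : M.GeneratingSections` means that `free σ.I ⟶ M` is an epimorphism of sheaves of modules.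
(Proof idea: the sections which are locally in the span form a sub-sheaf of modules `N ⊆ M`
(`PresheafOfModules.Submodule`), `free σ.I ⟶ M` factors through `N` (`freeHomEquiv`), so `N ⟶ M` is mono and epi,
hence an isomorphism in the abelian category `SheafOfModules R`, hence surjective on sections.) -/
def PkgGen : Prop :=
  ∀ {C : Type u} [Category.{v} C] {J : GrothendieckTopology C} {R : Sheaf J RingCat.{w}}
    [HasSheafify J AddCommGrpCat.{w}] [J.WEqualsLocallyBijective AddCommGrpCat.{w}]
    (M : SheafOfModules.{w} R) (σ : M.GeneratingSections) (U : C) (m : M.val.obj (op U)),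
    ∃ S ∈ J U, ∀ ⦃V : C⦄ (g : V ⟶ U), S.arrows g →
      (M.val.map g.op m : M.val.obj (op V)) ∈
        Submodule.span (R.obj.obj (op V)) (Set.range fun i : σ.I => (σ.s i).eval (op V))

/-- **Package Epi** (an epimorphism of sheaves of modules is locally surjective on sections). -/
def PkgEpi : Prop :=
  ∀ {C : Type u} [Category.{v} C] {J : GrothendieckTopology C} {R : Sheaf J RingCat.{w}}
    [HasSheafify J AddCommGrpCat.{w}] [J.WEqualsLocallyBijective AddCommGrpCat.{w}]
    {M N : SheafOfModules.{w} R} (p : M ⟶ N) [Epi p] (U : C) (y : N.val.obj (op U)),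
    ∃ S ∈ J U, ∀ ⦃V : C⦄ (g : V ⟶ U), S.arrows g →
      ∃ x : M.val.obj (op V), p.val.app (op V) x = (N.val.map g.op y : N.val.obj (op V))

/-- **Package Exact** (an exact sequence of sheaves of modules is locally exact on sections). -/
def PkgExact : Prop :=
  ∀ {C : Type u} [Category.{v} C] {J : GrothendieckTopology C} {R : Sheaf J RingCat.{w}}
    [HasSheafify J AddCommGrpCat.{w}] [J.WEqualsLocallyBijective AddCommGrpCat.{w}]
    (T : ShortComplex (SheafOfModules.{w} R)) (_ : T.Exact) (U : C) (y : T.X₂.val.obj (op U)),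
    T.g.val.app (op U) y = 0 →
    ∃ S ∈ J U, ∀ ⦃V : C⦄ (g : V ⟶ U), S.arrows g →
      ∃ x : T.X₁.val.obj (op V), T.f.val.app (op V) x = (T.X₂.val.map g.op y : T.X₂.val.obj (op V))

end Groth.Agent.R2.H48.QCTSpec
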