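import Mathlib

/-!
# helper48: the presheaf of modules `U ↦ R(U) ⊗_A N` on a ringed category with a terminal object

Setting: a category `C`, a presheaf of rings `R` with commutative values (`CommValued R`), a terminal object `T`
(`TermObj T`), `A := R(T)`.  For an `A`-module `N` we construct the presheaf of modules
`tildePsh R T N : U ↦ R(U) ⊗[A] N`, functorial in `N`, and the bijection `(tildePsh N ⟶ M) ≃ (N ⟶ M(T))` for every
presheaf of modules `M`.
-/

set_option autoImplicit false
set_option linter.unusedSectionVars false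
universe w v u

open CategoryTheory Limits Opposite TensorProduct

namespace Groth.Agent.R2.H48.QCT

variable {C : Type u} [Category.{v} C]

/-- the values of the presheaf of rings are commutative. -/
class CommValued (R : Cᵒᵖ ⥤ RingCat.{w}) : Prop where
  comm : ∀ (U : Cᵒᵖ) (a b : R.obj U), a * b = b * a

/-- a chosen proof that `T` is terminal. -/
class TermObj (T : C) where
  isTerminal : IsTerminal T

variable (R : Cᵒᵖ ⥤ RingCat.{w}) (T : C)

/-- the commutative ring structure on the values of `R`. -/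
@[reducible] scoped instance commRingOf [CommValued R] (U : Cᵒᵖ) : CommRing (R.obj U) :=
  { (inferInstance : Ring (R.obj U)) with mul_comm := CommValued.comm U }

/-- The structure map `A = R(T) → R(U)`. -/
def ρ [TermObj T] (U : Cᵒᵖ) : R.obj (op T) →+* R.obj U :=
  (R.map ((TermObj.isTerminal (T := T)).from U.unop).op).hom

theorem ρ_comp [TermObj T] {U U' : Cᵒᵖ} (f : U ⟶ U') :
    (R.map f).hom.comp (ρ R T U) = ρ R T U' := by
  unfold ρ
  rw [← RingCat.hom_comp, ← R.map_comp]
  congr 3
  exact congrArg Quiver.Hom.op ((TermObj.isTerminal (T := T)).hom_ext _ _)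

theorem ρ_comp_apply [TermObj T] {U U' : Cᵒᵖ} (f : U ⟶ U') (a : R.obj (op T)) :
    (R.map f).hom (ρ R T U a) = ρ R T U' a :=
  DFunLike.congr_fun (ρ_comp R T f) a

/-- `R(U)` as an algebra over `A = R(T)`. -/
@[reducible] scoped instance algOf [CommValued R] [TermObj T] (U : Cᵒᵖ) :
    Algebra (R.obj (op T)) (R.obj U) := (ρ R T U).toAlgebra

variable [CommValued R] [TermObj T]

theorem algebraMap_eq (U : Cᵒᵖ) : algebraMap (R.obj (op T)) (R.obj U) = ρ R T U := rfl

/-- restriction of functions as an `A`-linear map. -/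
def resₗ {U U' : Cᵒᵖ} (f : U ⟶ U') : R.obj U →ₗ[R.obj (op T)] R.obj U' where
  toFun := (R.map f).hom
  map_add' := map_add _
  map_smul' a x := by
    simp only [Algebra.smul_def, map_mul, RingHom.id_apply, algebraMap_eq, ρ_comp_apply]

@[simp] theorem resₗ_apply {U U' : Cᵒᵖ} (f : U ⟶ U') (x : R.obj U) : resₗ R T f x = (R.map f).hom x := rfl

theorem resₗ_id (U : Cᵒᵖ) : resₗ R T (𝟙 U) = LinearMap.id := by
  ext x
  simp [resₗ_apply, R.map_id]

theorem resₗ_comp {U U' U'' : Cᵒᵖ} (f : U ⟶ U') (g : U' ⟶ U'') :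
    resₗ R T (f ≫ g) = (resₗ R T g).comp (resₗ R T f) := by
  ext x
  simp [resₗ_apply, R.map_comp]

section Psh

variable (N : Type w) [AddCommGroup N] [Module (R.obj (op T)) N]

/-- the underlying presheaf of abelian groups of `tildePsh`. -/
noncomputable def tildeAb : Cᵒᵖ ⥤ Ab.{w} where
  obj U := AddCommGrpCat.of (R.obj U ⊗[R.obj (op T)] N)
  map f := AddCommGrpCat.ofHom ((resₗ R T f).rTensor N).toAddMonoidHom
  map_id U := by
    ext x
    simp [resₗ_id]
  map_comp f g := by
    ext x
    simp [resₗ_comp, LinearMap.rTensor_comp]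

noncomputable instance tildeAbModule (U : Cᵒᵖ) : Module (R.obj U) ((tildeAb R T N).obj U) :=
  inferInstanceAs (Module (R.obj U) (R.obj U ⊗[R.obj (op T)] N))

theorem rTensor_res_smul {U U' : Cᵒᵖ} (f : U ⟶ U') (r : R.obj U) (m : R.obj U ⊗[R.obj (op T)] N) :
    (resₗ R T f).rTensor N (r • m) = (R.map f).hom r • (resₗ R T f).rTensor N m := by
  induction m using TensorProduct.induction_on with
  | zero => simp
  | tmul x n =>
    rw [TensorProduct.smul_tmul', LinearMap.rTensor_tmul, LinearMap.rTensor_tmul,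
      TensorProduct.smul_tmul', smul_eq_mul, smul_eq_mul, resₗ_apply, resₗ_apply, map_mul]
  | add a b ha hb => rw [smul_add, map_add, map_add, smul_add, ha, hb]

theorem tildeAb_map_smul {U U' : Cᵒᵖ} (f : U ⟶ U') (r : R.obj U) (m : (tildeAb R T N).obj U) :
    (tildeAb R T N).map f (r • m) = (R.map f).hom r • (tildeAb R T N).map f m :=
  rTensor_res_smul R T N f r m

/-- The presheaf of modules `U ↦ R(U) ⊗[A] N`. -/
noncomputable def tildePsh : PresheafOfModules.{w} R :=
  PresheafOfModules.ofPresheaf (tildeAb R T N) (fun _ _ f r m => tildeAb_map_smul R T N f r m)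

theorem tildePsh_obj (U : Cᵒᵖ) :
    (tildePsh R T N).obj U = ModuleCat.of (R.obj U) (R.obj U ⊗[R.obj (op T)] N) := rfl

theorem tildePsh_map_apply {U U' : Cᵒᵖ} (f : U ⟶ U') (m : R.obj U ⊗[R.obj (op T)] N) :
    (tildePsh R T N).map f m = (resₗ R T f).rTensor N m := rfl

end Psh

section Functoriality

variable {N N' : Type w} [AddCommGroup N] [Module (R.obj (op T)) N] [AddCommGroup N']
  [Module (R.obj (op T)) N']

theorem lTensor_smul (φ : N →ₗ[R.obj (op T)] N') (U : Cᵒᵖ) (r : R.obj U)
    (m : R.obj U ⊗[R.obj (op T)] N) :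
    φ.lTensor (R.obj U) (r • m) = r • φ.lTensor (R.obj U) m := by
  induction m using TensorProduct.induction_on with
  | zero => simp
  | tmul x n => rw [TensorProduct.smul_tmul', LinearMap.lTensor_tmul, LinearMap.lTensor_tmul,
      TensorProduct.smul_tmul']
  | add a b ha hb => rw [smul_add, map_add, map_add, smul_add, ha, hb]

theorem lTensor_rTensor_comm (φ : N →ₗ[R.obj (op T)] N') {U U' : Cᵒᵖ} (f : U ⟶ U')
    (m : R.obj U ⊗[R.obj (op T)] N) :
    φ.lTensor (R.obj U') ((resₗ R T f).rTensor N m) =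
      (resₗ R T f).rTensor N' (φ.lTensor (R.obj U) m) := by
  rw [← LinearMap.comp_apply, ← LinearMap.comp_apply, LinearMap.lTensor_comp_rTensor,
    LinearMap.rTensor_comp_lTensor]

/-- functoriality of `tildePsh` in the module. -/
noncomputable def tildePshMap (φ : N →ₗ[R.obj (op T)] N') : tildePsh R T N ⟶ tildePsh R T N' :=
  PresheafOfModules.homMk
    { app := fun U => AddCommGrpCat.ofHom (φ.lTensor (R.obj U)).toAddMonoidHom
      naturality := fun U U' f => by
        ext m
        exact lTensor_rTensor_comm R T φ f m }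
    (fun U r m => lTensor_smul R T φ U r m)

theorem tildePshMap_app_apply (φ : N →ₗ[R.obj (op T)] N') (U : Cᵒᵖ) (m : R.obj U ⊗[R.obj (op T)] N) :
    (tildePshMap R T φ).app U m = φ.lTensor (R.obj U) m := rfl

end Functoriality

section HomEquiv

variable {N : Type w} [AddCommGroup N] [Module (R.obj (op T)) N] (M : PresheafOfModules.{w} R)

/-- restriction of a section over the terminal object to `U`. -/
noncomputable def resT (U : Cᵒᵖ) (m : M.obj (op T)) : M.obj U :=
  M.map ((TermObj.isTerminal (T := T)).from U.unop).op m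

theorem resT_add (U : Cᵒᵖ) (m m' : M.obj (op T)) : resT R T M U (m + m') = resT R T M U m + resT R T M U m' :=
  map_add _ _ _

theorem resT_zero (U : Cᵒᵖ) : resT R T M U 0 = 0 := map_zero _

theorem resT_smul (U : Cᵒᵖ) (a : R.obj (op T)) (m : M.obj (op T)) :
    resT R T M U (a • m) = ρ R T U a • resT R T M U m :=
  M.map_smul _ a m

theorem map_resT {U U' : Cᵒᵖ} (f : U ⟶ U') (m : M.obj (op T)) :
    M.map f (resT R T M U m) = resT R T M U' m := by
  unfold resT
  have key : ((TermObj.isTerminal (T := T)).from U.unop).op ≫ f =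
      ((TermObj.isTerminal (T := T)).from U'.unop).op :=
    Quiver.Hom.unop_inj ((TermObj.isTerminal (T := T)).hom_ext _ _)
  rw [← PresheafOfModules.map_comp_apply, key]

theorem ρ_self : ρ R T (op T) = RingHom.id _ := by
  unfold ρ
  have : (TermObj.isTerminal (T := T)).from (op T).unop = 𝟙 T := (TermObj.isTerminal (T := T)).hom_ext _ _
  rw [this]
  ext x
  simp [R.map_id]

theorem resT_self (m : M.obj (op T)) : resT R T M (op T) m = m := by
  unfold resT
  have : (TermObj.isTerminal (T := T)).from (op T).unop = 𝟙 T := (TermObj.isTerminal (T := T)).hom_ext _ _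
  rw [this]
  simp

variable {M}

/-- the additive map `R(U) ⊗[A] N → M(U)`, `x ⊗ n ↦ x • (g n)|_U`, attached to an `A`-linear `g : N → M(T)`. -/
noncomputable def liftU (g : N →ₗ[R.obj (op T)] M.obj (op T)) (U : Cᵒᵖ) :
    R.obj U ⊗[R.obj (op T)] N →+ M.obj U :=
  TensorProduct.liftAddHom
    { toFun := fun x =>
        { toFun := fun n => x • resT R T M U (g n)
          map_zero' := by rw [map_zero, resT_zero, smul_zero]
          map_add' := fun n n' => by rw [map_add, resT_add, smul_add] }
      map_zero' := by ext n; simp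
      map_add' := fun x x' => by ext n; simp [add_smul] }
    (fun a x n => by
      show (a • x) • resT R T M U (g n) = x • resT R T M U (g (a • n))
      rw [map_smul, resT_smul, Algebra.smul_def, algebraMap_eq, mul_smul, smul_smul, smul_smul,
        mul_comm])

theorem liftU_tmul (g : N →ₗ[R.obj (op T)] M.obj (op T)) (U : Cᵒᵖ) (x : R.obj U) (n : N) :
    liftU R T g U (x ⊗ₜ n) = x • resT R T M U (g n) := rfl

theorem liftU_smul (g : N →ₗ[R.obj (op T)] M.obj (op T)) (U : Cᵒᵖ) (r : R.obj U)
    (m : R.obj U ⊗[R.obj (op T)] N) : liftU R T g U (r • m) = r • liftU R T g U m := by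
  induction m using TensorProduct.induction_on with
  | zero => simp
  | tmul x n => rw [TensorProduct.smul_tmul', liftU_tmul, liftU_tmul, smul_eq_mul, mul_smul]
  | add a b ha hb => rw [smul_add, map_add, map_add, smul_add, ha, hb]

theorem liftU_naturality (g : N →ₗ[R.obj (op T)] M.obj (op T)) {U U' : Cᵒᵖ} (f : U ⟶ U')
    (m : R.obj U ⊗[R.obj (op T)] N) :
    liftU R T g U' ((resₗ R T f).rTensor N m) = M.map f (liftU R T g U m) := by
  induction m using TensorProduct.induction_on with
  | zero =>
    rw [map_zero, map_zero, map_zero]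
    exact (map_zero _).symm
  | tmul x n =>
    rw [LinearMap.rTensor_tmul, liftU_tmul, liftU_tmul, resₗ_apply, PresheafOfModules.map_smul,
      map_resT]
    rfl
  | add a b ha hb =>
    rw [map_add, map_add, map_add, ha, hb]
    exact (map_add _ _ _).symm

/-- the morphism `tildePsh N ⟶ M` attached to an `A`-linear map `N → M(T)`. -/
noncomputable def homOfLin (g : N →ₗ[R.obj (op T)] M.obj (op T)) : tildePsh R T N ⟶ M :=
  PresheafOfModules.homMk
    { app := fun U => AddCommGrpCat.ofHom (liftU R T g U)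
      naturality := fun U U' f => by
        ext m
        exact liftU_naturality R T g f m }
    (fun U r m => liftU_smul R T g U r m)

theorem homOfLin_app_apply (g : N →ₗ[R.obj (op T)] M.obj (op T)) (U : Cᵒᵖ)
    (m : R.obj U ⊗[R.obj (op T)] N) : (homOfLin R T g).app U m = liftU R T g U m := rfl

/-- the element `1 ⊗ n` of `R(U) ⊗[A] N` (defined for a variable `U`, so that the `A`-module structure of `R(U)` is
always the one through `ρ`, also for `U = op T`). -/
def oneT' (U : Cᵒᵖ) (n : N) : R.obj U ⊗[R.obj (op T)] N := (1 : R.obj U) ⊗ₜ[R.obj (op T)] n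

theorem oneT'_add (U : Cᵒᵖ) (n n' : N) : oneT' R T U (n + n') = oneT' R T U n + oneT' R T U n' :=
  TensorProduct.tmul_add _ _ _

theorem smul_oneT' (U : Cᵒᵖ) (x : R.obj U) (n : N) : x • oneT' R T U n = x ⊗ₜ[R.obj (op T)] n := by
  unfold oneT'
  rw [TensorProduct.smul_tmul', smul_eq_mul, mul_one]

theorem oneT'_smul (U : Cᵒᵖ) (a : R.obj (op T)) (n : N) :
    oneT' R T U (a • n) = ρ R T U a • oneT' R T U n := by
  rw [smul_oneT']
  unfold oneT'
  rw [← TensorProduct.smul_tmul, Algebra.smul_def, algebraMap_eq, mul_one]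

theorem rTensor_oneT' {U U' : Cᵒᵖ} (f : U ⟶ U') (n : N) :
    (resₗ R T f).rTensor N (oneT' R T U n) = oneT' R T U' n := by
  unfold oneT'
  rw [LinearMap.rTensor_tmul, resₗ_apply, map_one]

/-- `1 ⊗ n` as a section of `tildePsh N`. -/
def oneT (U : Cᵒᵖ) (n : N) : (tildePsh R T N).obj U := oneT' R T U n

theorem oneT_add (U : Cᵒᵖ) (n n' : N) : oneT R T U (n + n') = oneT R T U n + oneT R T U n' :=
  oneT'_add R T U n n'

theorem oneT_smul (U : Cᵒᵖ) (a : R.obj (op T)) (n : N) :
    oneT R T U (a • n) = ρ R T U a • oneT R T U n :=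
  oneT'_smul R T U a n

theorem map_oneT {U U' : Cᵒᵖ} (f : U ⟶ U') (n : N) :
    (tildePsh R T N).map f (oneT R T U n) = oneT R T U' n :=
  rTensor_oneT' R T f n

theorem liftU_oneT' (g : N →ₗ[R.obj (op T)] M.obj (op T)) (U : Cᵒᵖ) (n : N) :
    liftU R T g U (oneT' R T U n) = resT R T M U (g n) := by
  unfold oneT'
  rw [liftU_tmul, one_smul]

/-- the `A`-linear map `N → M(T)` attached to a morphism `tildePsh N ⟶ M`. -/
noncomputable def linOfHom (ψ : tildePsh R T N ⟶ M) : N →ₗ[R.obj (op T)] M.obj (op T) where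
  toFun n := ψ.app (op T) (oneT R T (op T) n)
  map_add' n n' := by rw [oneT_add, map_add]
  map_smul' a n := by
    rw [oneT_smul, ρ_self, RingHom.id_apply]
    exact (ψ.app (op T)).hom.map_smul a _

theorem linOfHom_apply (ψ : tildePsh R T N ⟶ M) (n : N) :
    linOfHom R T ψ n = ψ.app (op T) (oneT R T (op T) n) := rfl

theorem linOfHom_homOfLin (g : N →ₗ[R.obj (op T)] M.obj (op T)) : linOfHom R T (homOfLin R T g) = g := by
  ext n
  rw [linOfHom_apply]
  exact (liftU_oneT' R T g (op T) n).trans (resT_self R T M (g n))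

theorem homOfLin_linOfHom (ψ : tildePsh R T N ⟶ M) : homOfLin R T (linOfHom R T ψ) = ψ := by
  ext U m
  show liftU R T (linOfHom R T ψ) U m = ψ.app U m
  induction m using TensorProduct.induction_on with
  | zero => rw [map_zero]; exact (map_zero _).symm
  | tmul x n =>
    rw [liftU_tmul, linOfHom_apply]
    have h1 := PresheafOfModules.naturality_apply ψ ((TermObj.isTerminal (T := T)).from U.unop).op
      (oneT R T (op T) n)
    rw [map_oneT] at h1
    have h3 : x • ψ.app U (oneT R T U n) = ψ.app U (x • oneT R T U n) :=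
      ((ψ.app U).hom.map_smul x _).symm
    have h4 : x • oneT R T U n = (x ⊗ₜ[R.obj (op T)] n : R.obj U ⊗[R.obj (op T)] N) :=
      smul_oneT' R T U x n
    rw [h4] at h3
    rw [← h3, h1]
    rfl
  | add a b ha hb => rw [map_add, ha, hb]; exact (map_add _ _ _).symm

/-- morphisms `tildePsh N ⟶ M` are `A`-linear maps `N → M(T)`. -/
noncomputable def tildeHomEquiv : (tildePsh R T N ⟶ M) ≃ (N →ₗ[R.obj (op T)] M.obj (op T)) where
  toFun := linOfHom R T
  invFun := homOfLin R T
  left_inv := homOfLin_linOfHom R T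
  right_inv := linOfHom_homOfLin R T

theorem linOfHom_comp {M' : PresheafOfModules.{w} R} (ψ : tildePsh R T N ⟶ M) (χ : M ⟶ M') :
    linOfHom R T (ψ ≫ χ) = (χ.app (op T)).hom.comp (linOfHom R T ψ) := rfl

theorem linOfHom_tildePshMap {N' : Type w} [AddCommGroup N'] [Module (R.obj (op T)) N']
    (φ : N' →ₗ[R.obj (op T)] N) (ψ : tildePsh R T N ⟶ M) :
    linOfHom R T (tildePshMap R T φ ≫ ψ) = (linOfHom R T ψ).comp φ := by
  ext n
  rw [linOfHom_apply, LinearMap.comp_apply, linOfHom_apply]
  show ψ.app (op T) ((tildePshMap R T φ).app (op T) (oneT R T (op T) n)) = _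
  congr 1

end HomEquiv

end Groth.Agent.R2.H48.QCT
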