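import Mathlib
import Groth.Prelude.Def_AlgSpSub
import Groth.Agent.R2.H48ClosedSub
import Groth.Agent.Lib.Helper9ShfGrp

/-!
# Existence of the scheme theoretic image of a morphism to an algebraic space (helper48)

Namespace `Groth.Agent.R2.H48.SchImage`.
-/

set_option autoImplicit false
universe u
open CategoryTheory CategoryTheory.Limits AlgebraicGeometry Opposite TopologicalSpace
open AlgSp

set_option backward.isDefEq.respectTransparency false

namespace Groth.Agent.R2.H48.SchImage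

open Groth.Agent.S13210 Groth.Agent.R2.H48.ClosedSub

variable {S : Scheme.{u}} {Y : AlgSp.Sp S} {V : Over S} (p : (AlgSp.yon S).obj V ⟶ Y)

/-- the ideal sheaf `J` on the chart cuts out the inverse image of the subsheaf `i'`. -/
def CutsOut {Z' : AlgSp.Sp S} (i' : Z' ⟶ Y) (J : V.left.IdealSheafData) : Prop :=
  ∀ (T : Over S) (b : T ⟶ V), J ≤ b.left.ker ↔
    ∃ d : (AlgSp.yon S).obj T ⟶ Z', d ≫ i' = (AlgSp.yon S).map b ≫ p

lemma exists_cutsOut {Z' : AlgSp.Sp S} {i' : Z' ⟶ Y} (hi' : AlgSp.RepWith @IsClosedImmersion i') :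
    ∃ J : V.left.IdealSheafData, CutsOut p i' J := by
  obtain ⟨W, w, fst, sq⟩ := hi'.1 p
  haveI : IsClosedImmersion w.left := hi'.2 _ _ w sq
  refine ⟨w.left.ker, fun T b => ⟨fun hle => ?_, ?_⟩⟩
  · let l : T.left ⟶ W.left := IsClosedImmersion.lift w.left b.left hle
    have hl : l ≫ w.left = b.left := IsClosedImmersion.lift_fac _ _ _
    let lo : T ⟶ W := Over.homMk l (by rw [← Over.w w, ← Category.assoc, hl, Over.w b])
    have hlo : lo ≫ w = b := by
      ext
      exact hl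
    exact ⟨(AlgSp.yon S).map lo ≫ fst, by
      rw [Category.assoc, sq.w, ← Functor.map_comp_assoc, hlo]⟩
  · rintro ⟨d, hd⟩
    obtain ⟨lo, hlo⟩ := (AlgSp.yon S).map_surjective (sq.lift d ((AlgSp.yon S).map b) hd)
    have h1 : lo ≫ w = b := by
      apply (AlgSp.yon S).map_injective
      rw [Functor.map_comp, hlo]
      exact sq.lift_snd _ _ _
    have h2 : lo.left ≫ w.left = b.left := congrArg CommaMorphism.left h1
    rw [← h2]
    exact Scheme.Hom.le_ker_comp _ _

lemma CutsOut.invariant {Z' : AlgSp.Sp S} {i' : Z' ⟶ Y} {J : V.left.IdealSheafData}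
    (h : CutsOut p i' J) : Invariant p J := by
  intro T b₁ b₂ hb hle
  rw [h T b₂, ← hb]
  exact (h T b₁).1 hle

lemma invariant_sSup (𝒮 : Set V.left.IdealSheafData) (h : ∀ J ∈ 𝒮, Invariant p J) :
    Invariant p (sSup 𝒮) := by
  intro T b₁ b₂ hb hle
  rw [sSup_le_iff] at hle ⊢
  exact fun J hJ => h J hJ T b₁ b₂ hb (hle J hJ)

/-- a map of sheaves factors through the closed subsheaf as soon as all its points do. -/
lemma exists_lift {I : V.left.IdealSheafData} {F : AlgSp.Sp S} (g : F ⟶ Y)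
    (h : ∀ (T : Over S) (x : (AlgSp.yon S).obj T ⟶ F) (T' : Over S) (c : T' ⟶ T) (b : T' ⟶ V),
      (AlgSp.yon S).map c ≫ x ≫ g = (AlgSp.yon S).map b ≫ p → I ≤ b.left.ker) :
    ∃ g' : F ⟶ obj p I, g' ≫ incl p I = g := by
  have hr : Subfunctor.range g.hom ≤ sub p I := by
    rintro ⟨T⟩ _ ⟨y, rfl⟩ T' a b hab
    refine h T ((yEquiv T F).symm y) T' a b ?_
    rw [yEquiv_symm_comp]
    exact hab
  refine ⟨ObjectProperty.homMk (Subfunctor.lift g.hom hr), ?_⟩
  apply ObjectProperty.hom_ext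
  exact Subfunctor.lift_ι g.hom hr

/-- **existence of the scheme theoretic image.** -/
theorem exists_isSchImage {X Y : AlgSp.Sp S} (hY : AlgSp.IsAlgSpace Y) (f : X ⟶ Y) :
    ∃ (Z : AlgSp.Sp S) (i : Z ⟶ Y), AlgSp.IsAlgSpace Z ∧ AlgSp.IsSchImage f i := by
  obtain ⟨V, p, hpe, hps⟩ := hY.atlas
  let 𝒮 : Set V.left.IdealSheafData := {J | ∃ (Z' : AlgSp.Sp S) (i' : Z' ⟶ Y),
    (∃ f'' : X ⟶ Z', f'' ≫ i' = f) ∧ CutsOut p i' J}
  have hinv : Invariant p (sSup 𝒮) := invariant_sSup p 𝒮 (by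
    rintro J ⟨Z', i', -, hJ⟩
    exact hJ.invariant)
  refine ⟨obj p (sSup 𝒮), incl p (sSup 𝒮), isAlgSpace_obj hY hinv hpe hps,
    repWith_incl hinv hpe hps, ?_, ?_⟩
  · refine exists_lift p f (fun T x T' c b hcb => ?_)
    rw [sSup_le_iff]
    rintro J ⟨Z', i', ⟨f'', hf''⟩, hJ⟩
    rw [hJ T' b]
    refine ⟨(AlgSp.yon S).map c ≫ x ≫ f'', ?_⟩
    rw [Category.assoc, Category.assoc, hf'', hcb]
  · intro Z' i' _ hi' hf''
    obtain ⟨J', hJ'⟩ := exists_cutsOut p hi'
    have hmem : J' ∈ 𝒮 := ⟨Z', i', hf'', hJ'⟩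
    have hle : J' ≤ sSup 𝒮 := le_sSup hmem
    haveI : Mono i' := Groth.Agent.S9928.mono_of_repWith @IsClosedImmersion (fun X Y g hg => by
      haveI : IsClosedImmersion g := hg
      infer_instance) i' hi'
    obtain ⟨zU, hzU⟩ := exists_chart hinv
    have sq := isPullback_chart hzU
    have hze : AlgSp.RepWith @Etale zU :=
      MorphismProperty.of_isPullback (P := AlgSp.RepWith @Etale) sq.flip hpe
    have hzs : AlgSp.RepWith @Surjective zU :=
      MorphismProperty.of_isPullback (P := AlgSp.RepWith @Surjective) sq.flip hps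
    haveI : Epi zU := Groth.Agent.R2.H43.CutOut.epi_of_repWith_etale_surjective zU hze hzs
    obtain ⟨kU, hkU⟩ := (hJ' (ZU (sSup 𝒮)) (ιU (sSup 𝒮))).1 (by
      have : (ιU (sSup 𝒮)).left.ker = sSup 𝒮 := Scheme.IdealSheafData.ker_subschemeι _
      rw [this]
      exact hle)
    obtain ⟨k, hk⟩ := Groth.Agent.Lib.Helper9.ToposLike.exists_desc_of_epi zU inferInstance kU (by
      intro W a₁ a₂ ha
      rw [← cancel_mono i', Category.assoc, Category.assoc, hkU, ← hzU, ← Category.assoc,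
        ← Category.assoc, ha])
    refine ⟨k, ?_⟩
    rw [← cancel_epi zU, ← Category.assoc, hk, hkU, hzU]

end Groth.Agent.R2.H48.SchImage
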