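import Mathlib

/-!
# Covering a finite-dimensional Noetherian scheme by `dim + 1` affine opens (helper49)

If every finite set of points of a Noetherian scheme `X` of dimension `≤ d` lies in an affine open,
then `X` is covered by `d + 1` affine opens.
-/

set_option autoImplicit false
universe u

open AlgebraicGeometry TopologicalSpace Order

namespace Groth.Agent.R2.H49.AffCover

attribute [local instance low] specializationOrder

theorem coheight_lt_of_dim_le {X : Scheme.{u}} (d : ℕ) (hdim : topologicalKrullDim X ≤ d)
    (x : X) : coheight x < ((d + 1 : ℕ) : ℕ∞) := by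
  have h1 : (coheight x : WithBot ℕ∞) ≤ krullDim X := coheight_le_krullDim x
  have h2 : krullDim X = topologicalKrullDim X :=
    (krullDim_eq_of_orderIso (irreducibleSetEquivPoints (α := X))).symm
  rw [h2] at h1
  have h3 : (coheight x : WithBot ℕ∞) ≤ ((d : ℕ∞) : WithBot ℕ∞) := h1.trans hdim
  have h4 : coheight x ≤ (d : ℕ∞) := WithBot.coe_le_coe.mp h3
  refine lt_of_le_of_lt h4 ?_
  have h5 : d < d + 1 := Nat.lt_succ_self d
  exact_mod_cast h5

theorem exists_affine_cover_of_finite_sets {X : Scheme.{u}} [NoetherianSpace X] (d : ℕ)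
    (hdim : topologicalKrullDim X ≤ d)
    (key : ∀ Z : Set X, Z.Finite → ∃ V : X.Opens, IsAffineOpen V ∧ Z ⊆ V) :
    ∃ U : Fin (d + 1) → X.Opens, (∀ i, IsAffineOpen (U i)) ∧ ⨆ i, U i = ⊤ := by
  have claim : ∀ m : ℕ, ∃ U : Fin m → X.Opens, (∀ i, IsAffineOpen (U i)) ∧
      ∀ x : X, coheight x < (m : ℕ∞) → x ∈ ⨆ i, U i := by
    intro m
    induction m with
    | zero => exact ⟨Fin.elim0, fun i => i.elim0, fun x hx => absurd hx (by simp)⟩
    | succ m ih =>
      obtain ⟨U, hU, hcov⟩ := ih
      set W : X.Opens := ⨆ i, U i with hW
      obtain ⟨S, hSf, hScl, hSirr, hS⟩ :=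
        NoetherianSpace.exists_finite_set_isClosed_irreducible
          (s := ((W : Set X)ᶜ)) W.isOpen.isClosed_compl
      let T : Set X := ⋃ t ∈ S, {x | IsGenericPoint x t}
      have hTfin : T.Finite := by
        refine Set.Finite.biUnion hSf fun t _ => Set.Subsingleton.finite ?_
        intro a ha b hb
        exact IsGenericPoint.eq ha hb
      obtain ⟨V, hV, hTV⟩ := key T hTfin
      refine ⟨Fin.snoc U V, fun i => ?_, fun x hx => ?_⟩
      · refine Fin.lastCases ?_ (fun i => ?_) i
        · rw [Fin.snoc_last]; exact hV
        · rw [Fin.snoc_castSucc]; exact hU i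
      · have hVle : V ≤ ⨆ i, (Fin.snoc U V : Fin (m + 1) → X.Opens) i := by
          have := le_iSup (Fin.snoc U V : Fin (m + 1) → X.Opens) (Fin.last m)
          rwa [Fin.snoc_last] at this
        have hWle : W ≤ ⨆ i, (Fin.snoc U V : Fin (m + 1) → X.Opens) i := by
          rw [hW]
          refine iSup_le fun i => ?_
          have := le_iSup (Fin.snoc U V : Fin (m + 1) → X.Opens) (Fin.castSucc i)
          rwa [Fin.snoc_castSucc] at this
        by_cases hxW : x ∈ W
        · exact hWle hxW
        · have hxZ : x ∈ (W : Set X)ᶜ := hxW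
          rw [hS] at hxZ
          obtain ⟨t, htS, hxt⟩ := hxZ
          have hirr := hSirr t htS
          have hcl := hScl t htS
          have hη : IsGenericPoint hirr.genericPoint t := hirr.isGenericPoint_genericPoint hcl
          set η := hirr.genericPoint with hηdef
          have hηT : η ∈ T := Set.mem_biUnion htS hη
          have hηt : η ∈ t := hη.mem
          have hηW : η ∉ W := by
            have : η ∈ (W : Set X)ᶜ := by rw [hS]; exact ⟨t, htS, hηt⟩
            exact this
          have hmle : (m : ℕ∞) ≤ coheight η := by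
            by_contra hlt
            exact hηW (hcov η (not_le.mp hlt))
          have hspec : η ⤳ x := hη.specializes hxt
          by_cases hxη : x = η
          · rw [hxη]; exact hVle (hTV hηT)
          · exfalso
            have hle : x ≤ η := hspec
            have hlt : x < η := lt_of_le_of_ne hle hxη
            have h1 := coheight_add_one_le hlt
            have h2 : ((m + 1 : ℕ) : ℕ∞) ≤ coheight x := by
              push_cast
              exact (add_le_add_left hmle 1).trans h1
            exact absurd hx (not_lt.mpr h2)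
  obtain ⟨U, hU, hcov⟩ := claim (d + 1)
  refine ⟨U, hU, eq_top_iff.mpr fun x _ => hcov x (coheight_lt_of_dim_le d hdim x)⟩

end Groth.Agent.R2.H49.AffCover
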