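import Mathlib
import Groth.Agent.Lib.Helper19SmVarB
import Groth.Agent.Lib.Helper14FTDim

/-!
# Bertini: the algebraic core (helper49)

`A` a regular finite type domain over an algebraically closed field `k`, generated by
`u_0, …, u_N` with some `u_j = 1`.  Then there is a nonzero polynomial `g` in `N + 1` variables
such that `g(a) = 0` whenever `∑ a_i u_i ∈ m²` for some maximal ideal `m`.
-/

set_option autoImplicit false
universe u

open TensorProduct

namespace Groth.Agent.R2.H49.BertiniAlg

/-- a finite type domain of dimension `≤ N` receives no injective map from a polynomial ring in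
`N + 1` variables. -/
theorem not_injective_of_dim_le (k : Type u) [Field k] (C : Type u) [CommRing C] [IsDomain C]
    [Algebra k C] [Algebra.FiniteType k C] (N : ℕ) (hdim : ringKrullDim C ≤ N)
    (Ψ : MvPolynomial (Fin (N + 1)) k →ₐ[k] C) : ¬ Function.Injective Ψ := by
  intro hinj
  obtain ⟨d, h1, h2, -⟩ := Groth.Agent.Lib.Helper14.FTDim.exists_dim k C
  have hd : d ≤ N := by
    rw [h2] at hdim
    exact_mod_cast hdim
  let Θ : MvPolynomial (Fin (N + 1)) k →ₐ[k] FractionRing C :=
    (IsScalarTower.toAlgHom k C (FractionRing C)).comp Ψ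
  have hΘ : Function.Injective Θ := (IsFractionRing.injective C (FractionRing C)).comp hinj
  have hai : AlgebraicIndependent k (fun i => Θ (MvPolynomial.X i)) := by
    rw [algebraicIndependent_iff_injective_aeval]
    have : MvPolynomial.aeval (fun i => Θ (MvPolynomial.X i)) = Θ := by
      apply MvPolynomial.algHom_ext
      intro i
      rw [MvPolynomial.aeval_X]
    rw [this]
    exact hΘ
  have h3 := hai.lift_cardinalMk_le_trdeg
  rw [h1] at h3
  simp only [Cardinal.mk_fintype, Fintype.card_fin, Nat.cast_add, Nat.cast_one,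
    Cardinal.lift_add, Cardinal.lift_natCast, Cardinal.lift_one] at h3
  have h5 : N + 1 ≤ d := by exact_mod_cast h3
  omega


/-- Parametrisation step: if modulo every maximal ideal the columns of the matrix `Fm` span a space
of dimension `≤ N - dim A`, the vectors `a ∈ k^{N+1}` fixed by `Fm` modulo some maximal ideal are
not Zariski dense. -/
theorem key (k : Type u) [Field k] (A : Type u) [CommRing A] [IsDomain A] [Algebra k A]
    [Algebra.FiniteType k A] (r N : ℕ) (hr : ringKrullDim A = r)
    (Fm : Fin (N + 1) → Fin (N + 1) → A)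
    (hrank : ∀ (m : Ideal A) [m.IsMaximal],
      Module.finrank m.ResidueField (Submodule.span m.ResidueField
        (Set.range (fun (t : Fin (N + 1)) (i : Fin (N + 1)) =>
          algebraMap A m.ResidueField (Fm i t)))) + r ≤ N) :
    ∃ g : MvPolynomial (Fin (N + 1)) k, g ≠ 0 ∧
      ∀ (a : Fin (N + 1) → k) (m : Ideal A), m.IsMaximal →
        (∀ i, algebraMap k A (a i) - ∑ t, Fm i t * algebraMap k A (a t) ∈ m) →
          MvPolynomial.eval a g = 0 := by
  classical
  have hnoeth : IsNoetherianRing A := Algebra.FiniteType.isNoetherianRing k A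
  -- the parametrising maps
  let Ψ : ∀ T : Finset (Fin (N + 1)), MvPolynomial (Fin (N + 1)) k →ₐ[k] MvPolynomial T A :=
    fun T => MvPolynomial.aeval (fun i => ∑ t : T, MvPolynomial.C (Fm i t) * MvPolynomial.X t)
  have hex : ∀ T : Finset (Fin (N + 1)), T.card + r ≤ N →
      ∃ g : MvPolynomial (Fin (N + 1)) k, g ≠ 0 ∧ Ψ T g = 0 := by
    intro T hT
    have hdim : ringKrullDim (MvPolynomial T A) ≤ N := by
      rw [MvPolynomial.ringKrullDim_of_isNoetherianRing, hr, Nat.card_eq_fintype_card,
        Fintype.card_coe]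
      have : r + T.card ≤ N := by omega
      exact_mod_cast this
    have hni := not_injective_of_dim_le k (MvPolynomial T A) N hdim (Ψ T)
    rw [injective_iff_map_eq_zero] at hni
    push Not at hni
    obtain ⟨g, hg0, hg⟩ := hni
    exact ⟨g, hg, hg0⟩
  let gT : Finset (Fin (N + 1)) → MvPolynomial (Fin (N + 1)) k := fun T =>
    if h : T.card + r ≤ N then (hex T h).choose else 1
  have hgT0 : ∀ T, gT T ≠ 0 := by
    intro T
    by_cases h : T.card + r ≤ N
    · simp only [gT, dif_pos h]
      exact (hex T h).choose_spec.1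
    · simp only [gT, dif_neg h]
      exact one_ne_zero
  have hgTΨ : ∀ T, T.card + r ≤ N → Ψ T (gT T) = 0 := by
    intro T h
    simp only [gT, dif_pos h]
    exact (hex T h).choose_spec.2
  refine ⟨∏ T : Finset (Fin (N + 1)), gT T, Finset.prod_ne_zero_iff.mpr fun T _ => hgT0 T, ?_⟩
  intro a m hm hbad
  have := hm
  set κ := m.ResidueField with hκ
  let ρ : A →+* κ := algebraMap A κ
  let α : Fin (N + 1) → κ := fun i => ρ (algebraMap k A (a i))
  let col : Fin (N + 1) → (Fin (N + 1) → κ) := fun t i => ρ (Fm i t)
  have hα : ∀ i, α i = ∑ t, ρ (Fm i t) * α t := by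
    intro i
    have h1 := hbad i
    have h2 : ρ (algebraMap k A (a i) - ∑ t, Fm i t * algebraMap k A (a t)) = 0 := by
      rw [← Ideal.Quotient.eq_zero_iff_mem] at h1
      exact (Ideal.algebraMap_residueField_eq_zero).mpr ((Ideal.Quotient.eq_zero_iff_mem).mp h1)
    rw [map_sub, sub_eq_zero, map_sum] at h2
    simp only [map_mul] at h2
    exact h2
  have hαmem : α ∈ Submodule.span κ (Set.range col) := by
    have : α = ∑ t, α t • col t := by
      funext i
      rw [Finset.sum_apply, hα i]
      refine Finset.sum_congr rfl fun t _ => ?_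
      simp only [Pi.smul_apply, smul_eq_mul, col, mul_comm]
    rw [this]
    exact Submodule.sum_mem _ fun t _ => Submodule.smul_mem _ _ (Submodule.subset_span ⟨t, rfl⟩)
  obtain ⟨κ', e, he, hspan, hli⟩ := exists_linearIndependent' κ col
  have : Finite κ' := Finite.of_injective e he
  have : Fintype κ' := Fintype.ofFinite κ'
  have hcard : Fintype.card κ' + r ≤ N := by
    have h1 := finrank_span_eq_card hli
    rw [hspan] at h1
    rw [← h1]
    exact hrank m
  set T : Finset (Fin (N + 1)) := Finset.univ.image e with hT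
  have hTcard : T.card + r ≤ N := by
    rw [hT, Finset.card_image_of_injective _ he, Finset.card_univ]
    exact hcard
  rw [← hspan] at hαmem
  obtain ⟨b, hb⟩ := (Submodule.mem_span_range_iff_exists_fun κ).mp hαmem
  let eqv : κ' ≃ T := Equiv.ofBijective (fun s => ⟨e s, Finset.mem_image_of_mem e (Finset.mem_univ s)⟩)
    ⟨fun s s' h => he (Subtype.ext_iff.mp h), fun t => by
      obtain ⟨s, -, hs⟩ := Finset.mem_image.mp t.2
      exact ⟨s, Subtype.ext hs⟩⟩
  let β : T → κ := fun t => b (eqv.symm t)
  have hβ : ∀ i, α i = ∑ t : T, ρ (Fm i t) * β t := by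
    intro i
    have h1 := congrFun hb i
    rw [Finset.sum_apply] at h1
    rw [← h1, ← Fintype.sum_equiv eqv (fun s => ρ (Fm i (e s)) * b s)
      (fun t => ρ (Fm i t) * β t)]
    · refine Finset.sum_congr rfl fun s _ => ?_
      simp only [Function.comp_apply, Pi.smul_apply, smul_eq_mul, col, mul_comm]
    · intro s
      simp only [β, Equiv.symm_apply_apply]
      rfl
  let ev : MvPolynomial T A →+* κ := MvPolynomial.eval₂Hom ρ β
  have hev : (ev.comp (Ψ T).toRingHom) =
      (ρ.comp (algebraMap k A)).comp (MvPolynomial.eval a) := by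
    apply MvPolynomial.ringHom_ext
    · intro c
      simp only [RingHom.comp_apply, AlgHom.toRingHom_eq_coe, RingHom.coe_coe,
        MvPolynomial.eval_C]
      rw [← MvPolynomial.algebraMap_eq, AlgHom.commutes, MvPolynomial.algebraMap_apply]
      simp only [ev, MvPolynomial.coe_eval₂Hom, MvPolynomial.eval₂_C]
    · intro i
      simp only [RingHom.comp_apply, AlgHom.toRingHom_eq_coe, RingHom.coe_coe,
        MvPolynomial.eval_X]
      change ev (Ψ T (MvPolynomial.X i)) = α i
      simp only [Ψ, MvPolynomial.aeval_X, map_sum, map_mul, ev, MvPolynomial.coe_eval₂Hom,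
        MvPolynomial.eval₂_C, MvPolynomial.eval₂_X]
      exact (hβ i).symm
  have h0 : (ρ.comp (algebraMap k A)) (MvPolynomial.eval a (gT T)) = 0 := by
    have h1 := congrArg (fun f => f (gT T)) hev
    simp only [RingHom.comp_apply, AlgHom.toRingHom_eq_coe, RingHom.coe_coe] at h1
    rw [RingHom.comp_apply, ← h1, hgTΨ T hTcard, map_zero]
  have h1 : MvPolynomial.eval a (gT T) = 0 :=
    (map_eq_zero_iff _ (ρ.comp (algebraMap k A)).injective).mp h0
  rw [map_prod]
  exact Finset.prod_eq_zero (Finset.mem_univ T) h1


section Core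

theorem map_mem_smul_top {A M M' : Type*} [CommRing A] [AddCommGroup M] [Module A M]
    [AddCommGroup M'] [Module A M'] (f : M →ₗ[A] M') (I : Ideal A) (x : M)
    (hx : x ∈ I • (⊤ : Submodule A M)) : f x ∈ I • (⊤ : Submodule A M') := by
  have h1 : f x ∈ Submodule.map f (I • (⊤ : Submodule A M)) := ⟨x, hx, rfl⟩
  rw [Submodule.map_smul''] at h1
  exact Submodule.smul_mono le_rfl le_top h1

variable (k : Type u) [Field k] (A : Type u) [CommRing A] [Algebra k A]

theorem D_mem_of_mem_sq (m : Ideal A) (f : A) (hf : f ∈ m ^ 2) :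
    KaehlerDifferential.D k A f ∈ m • (⊤ : Submodule A Ω[A⁄k]) := by
  rw [pow_two] at hf
  refine Submodule.mul_induction_on hf ?_ ?_
  · intro x hx y hy
    rw [Derivation.leibniz]
    exact Submodule.add_mem _ (Submodule.smul_mem_smul hx trivial)
      (Submodule.smul_mem_smul hy trivial)
  · intro x y hx hy
    rw [map_add]
    exact Submodule.add_mem _ hx hy

variable (N : ℕ) (u : Fin (N + 1) → A)

/-- the first-order principal parts of the generators. -/
noncomputable def vec (i : Fin (N + 1)) : A × Ω[A⁄k] := (u i, KaehlerDifferential.D k A (u i))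

/-- `c ↦ ∑ c_i (u_i, d u_i)`. -/
noncomputable def phi : (Fin (N + 1) → A) →ₗ[A] A × Ω[A⁄k] :=
  Fintype.linearCombination A (vec k A N u)

theorem phi_apply (c : Fin (N + 1) → A) : phi k A N u c = ∑ i, c i • vec k A N u i :=
  Fintype.linearCombination_apply A (vec k A N u) c

theorem phi_surjective (hgen : Algebra.adjoin k (Set.range u) = ⊤) (j : Fin (N + 1))
    (hj : u j = 1) : Function.Surjective (phi k A N u) := by
  classical
  rw [← LinearMap.range_eq_top]
  set R := LinearMap.range (phi k A N u) with hR
  have hv : ∀ i, vec k A N u i ∈ R := by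
    intro i
    refine ⟨Pi.single i 1, ?_⟩
    rw [phi, Fintype.linearCombination_apply_single, one_smul]
  have h10 : ((1 : A), (0 : Ω[A⁄k])) ∈ R := by
    have := hv j
    rwa [vec, hj, Derivation.map_one_eq_zero] at this
  let W : Subalgebra k A :=
    { carrier := {f | ((0 : A), KaehlerDifferential.D k A f) ∈ R}
      mul_mem' := by
        intro f g hf hg
        change ((0 : A), KaehlerDifferential.D k A (f * g)) ∈ R
        have h1 : ((0 : A), KaehlerDifferential.D k A (f * g)) =
            f • ((0 : A), KaehlerDifferential.D k A g) +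
              g • ((0 : A), KaehlerDifferential.D k A f) := by
          rw [Derivation.leibniz, Prod.smul_mk, Prod.smul_mk, Prod.mk_add_mk, smul_zero, smul_zero,
            add_zero]
        rw [h1]
        exact R.add_mem (R.smul_mem _ hg) (R.smul_mem _ hf)
      add_mem' := by
        intro f g hf hg
        change ((0 : A), KaehlerDifferential.D k A (f + g)) ∈ R
        have h1 : ((0 : A), KaehlerDifferential.D k A (f + g)) =
            ((0 : A), KaehlerDifferential.D k A f) + ((0 : A), KaehlerDifferential.D k A g) := by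
          rw [map_add, Prod.mk_add_mk, add_zero]
        rw [h1]
        exact R.add_mem hf hg
      algebraMap_mem' := by
        intro c
        change ((0 : A), KaehlerDifferential.D k A (algebraMap k A c)) ∈ R
        rw [Derivation.map_algebraMap]
        exact R.zero_mem }
  have hW : W = ⊤ := by
    rw [eq_top_iff, ← hgen]
    apply Algebra.adjoin_le
    rintro _ ⟨i, rfl⟩
    change ((0 : A), KaehlerDifferential.D k A (u i)) ∈ R
    have h1 : ((0 : A), KaehlerDifferential.D k A (u i)) =
        vec k A N u i - u i • ((1 : A), (0 : Ω[A⁄k])) := by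
      rw [vec, Prod.smul_mk, Prod.mk_sub_mk, smul_zero, sub_zero, smul_eq_mul, mul_one, sub_self]
    rw [h1]
    exact R.sub_mem (hv i) (R.smul_mem _ h10)
  have hD : ∀ f : A, ((0 : A), KaehlerDifferential.D k A f) ∈ R := by
    intro f
    have : f ∈ W := by rw [hW]; trivial
    exact this
  have hΩ : ∀ ω : Ω[A⁄k], ((0 : A), ω) ∈ R := by
    have h1 : Submodule.span A (Set.range (KaehlerDifferential.D k A)) ≤
        Submodule.comap (LinearMap.inr A A Ω[A⁄k]) R := by
      rw [Submodule.span_le]
      rintro _ ⟨f, rfl⟩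
      exact hD f
    rw [KaehlerDifferential.span_range_derivation] at h1
    intro ω
    exact h1 (Submodule.mem_top (x := ω))
  rw [eq_top_iff]
  rintro ⟨b, ω⟩ -
  have h1 : ((b, ω) : A × Ω[A⁄k]) = b • ((1 : A), (0 : Ω[A⁄k])) + ((0 : A), ω) := by
    rw [Prod.smul_mk, Prod.mk_add_mk, smul_zero, zero_add, smul_eq_mul, mul_one, add_zero]
  rw [h1]
  exact R.add_mem (R.smul_mem _ h10) (hΩ ω)


theorem phi_algebraMap (a : Fin (N + 1) → k) :
    phi k A N u (fun i => algebraMap k A (a i)) =
      (∑ i, a i • u i, KaehlerDifferential.D k A (∑ i, a i • u i)) := by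
  rw [phi_apply, map_sum]
  have h1 : ∀ i, algebraMap k A (a i) • vec k A N u i =
      (a i • u i, KaehlerDifferential.D k A (a i • u i)) := by
    intro i
    rw [vec, Prod.smul_mk, Derivation.map_smul, algebraMap_smul, algebraMap_smul]
  simp_rw [h1]
  rw [Prod.ext_iff]
  constructor
  · rw [Prod.fst_sum]
  · rw [Prod.snd_sum]

/-- **Bertini, algebraic core.** -/
theorem core [IsAlgClosed k] [Algebra.FiniteType k A] [IsDomain A] [IsRegularRing A]
    (hgen : Algebra.adjoin k (Set.range u) = ⊤) (j : Fin (N + 1)) (hj : u j = 1) :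
    ∃ g : MvPolynomial (Fin (N + 1)) k, g ≠ 0 ∧
      ∀ (a : Fin (N + 1) → k) (m : Ideal A), m.IsMaximal →
        ∑ i, a i • u i ∈ m ^ 2 → MvPolynomial.eval a g = 0 := by
  classical
  obtain ⟨r, -, hr, -⟩ := Groth.Agent.Lib.Helper14.FTDim.exists_dim k A
  have hirr : (nilradical A).IsPrime := by
    rw [nilradical_eq_zero]
    exact Ideal.isPrime_bot
  obtain ⟨hproj, hrk⟩ := (Groth.Agent.Lib.Helper19.SmVar.isReduced_and_isRegularRing_iff k A hirr r
    hr).mp ⟨inferInstance, inferInstance⟩
  have hsurj := phi_surjective k A N u hgen j hj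
  obtain ⟨σ, hσ⟩ := Module.projective_lifting_property (phi k A N u) LinearMap.id hsurj
  have hσ' : ∀ p, phi k A N u (σ p) = p := fun p => LinearMap.congr_fun hσ p
  let F : (Fin (N + 1) → A) →ₗ[A] (Fin (N + 1) → A) := LinearMap.id - σ ∘ₗ phi k A N u
  have hFσ : ∀ p, F (σ p) = 0 := by
    intro p
    simp only [F, LinearMap.sub_apply, LinearMap.id_apply, LinearMap.comp_apply, hσ', sub_self]
  let Fm : Fin (N + 1) → Fin (N + 1) → A := fun i t => F (fun j => if t = j then 1 else 0) i
  have hFm : ∀ (c : Fin (N + 1) → A) i, F c i = ∑ t, Fm i t * c t := by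
    intro c i
    rw [LinearMap.pi_apply_eq_sum_univ F c, Finset.sum_apply]
    refine Finset.sum_congr rfl fun t _ => ?_
    simp only [Pi.smul_apply, smul_eq_mul, Fm, mul_comm]
  obtain ⟨g, hg0, hg⟩ := key k A r N hr Fm (by
    intro m hm
    set κ := m.ResidueField with hκ
    let ρ : A →+* κ := algebraMap A κ
    let col : Fin (N + 1) → (Fin (N + 1) → κ) := fun t i => ρ (Fm i t)
    let Fx : (Fin (N + 1) → κ) →ₗ[κ] (Fin (N + 1) → κ) := Fintype.linearCombination κ col
    have hFx : LinearMap.range Fx = Submodule.span κ (Set.range col) :=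
      Fintype.range_linearCombination κ col
    change Module.finrank κ (Submodule.span κ (Set.range col)) + r ≤ N
    rw [← hFx]
    let Θ : κ ⊗[A] (A × Ω[A⁄k]) →ₗ[κ] (Fin (N + 1) → κ) :=
      (TensorProduct.piScalarRight A κ κ (Fin (N + 1))).toLinearMap ∘ₗ LinearMap.baseChange κ σ
    have hΘinj : Function.Injective Θ := by
      have h1 : Function.Injective (LinearMap.baseChange κ σ) := by
        have h2 : (LinearMap.baseChange κ (phi k A N u)) ∘ₗ (LinearMap.baseChange κ σ) =
            LinearMap.id := by
          rw [← LinearMap.baseChange_comp, hσ, LinearMap.baseChange_id]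
        exact Function.LeftInverse.injective (g := LinearMap.baseChange κ (phi k A N u))
          (fun x => LinearMap.congr_fun h2 x)
      exact (TensorProduct.piScalarRight A κ κ (Fin (N + 1))).injective.comp h1
    have hΘker : LinearMap.range Θ ≤ LinearMap.ker Fx := by
      rintro _ ⟨z, rfl⟩
      rw [LinearMap.mem_ker]
      induction z using TensorProduct.induction_on with
      | zero => simp
      | add x y hx hy => rw [map_add, map_add, hx, hy, add_zero]
      | tmul x p =>
        have h1 : Θ (x ⊗ₜ[A] p) = fun t => ρ (σ p t) * x := by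
          simp only [Θ, LinearMap.comp_apply, LinearMap.baseChange_tmul, LinearEquiv.coe_coe,
            TensorProduct.piScalarRight_apply, TensorProduct.piScalarRightHom_tmul]
          funext t
          rw [Algebra.smul_def]
        rw [h1]
        funext i
        simp only [Fx, Fintype.linearCombination_apply, Finset.sum_apply, Pi.smul_apply,
          smul_eq_mul, col, Pi.zero_apply]
        have h2 : ∑ t, ρ (σ p t) * x * ρ (Fm i t) = x * ρ (∑ t, Fm i t * σ p t) := by
          rw [map_sum, Finset.mul_sum]
          refine Finset.sum_congr rfl fun t _ => ?_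
          rw [map_mul]
          ring
        rw [h2, ← hFm, hFσ, Pi.zero_apply, map_zero, mul_zero]
    have hfr : Module.finrank κ (κ ⊗[A] (A × Ω[A⁄k])) = r + 1 := by
      rw [(TensorProduct.prodRight A κ κ A Ω[A⁄k]).finrank_eq, Module.finrank_prod,
        (TensorProduct.AlgebraTensorModule.rid A κ κ).finrank_eq, Module.finrank_self, hrk m,
        add_comm]
    have h3 : r + 1 ≤ Module.finrank κ (LinearMap.ker Fx) := by
      rw [← hfr, ← LinearMap.finrank_range_of_inj hΘinj]
      exact Submodule.finrank_mono hΘker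
    have h4 := LinearMap.finrank_range_add_finrank_ker Fx
    rw [Module.finrank_fin_fun] at h4
    omega)
  refine ⟨g, hg0, ?_⟩
  intro a m hm hbad
  apply hg a m hm
  intro i
  set abar : Fin (N + 1) → A := fun i => algebraMap k A (a i) with habar
  have h1 : phi k A N u abar ∈ m • (⊤ : Submodule A (A × Ω[A⁄k])) := by
    rw [habar, phi_algebraMap]
    set f := ∑ i, a i • u i with hf
    have h2 : ((f, KaehlerDifferential.D k A f) : A × Ω[A⁄k]) =
        f • ((1 : A), (0 : Ω[A⁄k])) + LinearMap.inr A A Ω[A⁄k] (KaehlerDifferential.D k A f) := by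
      rw [LinearMap.inr_apply, Prod.smul_mk, Prod.mk_add_mk, smul_zero, zero_add, smul_eq_mul,
        mul_one, add_zero]
    rw [h2]
    refine Submodule.add_mem _ (Submodule.smul_mem_smul (Ideal.pow_le_self two_ne_zero hbad) trivial)
      (map_mem_smul_top _ m _ (D_mem_of_mem_sq k A m f hbad))
  have h2 : σ (phi k A N u abar) ∈ m • (⊤ : Submodule A (Fin (N + 1) → A)) :=
    map_mem_smul_top σ m _ h1
  have h3 : (LinearMap.proj i : (Fin (N + 1) → A) →ₗ[A] A) (σ (phi k A N u abar)) ∈
      m • (⊤ : Submodule A A) := map_mem_smul_top _ m _ h2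
  rw [smul_eq_mul, Ideal.mul_top] at h3
  have h4 : algebraMap k A (a i) - ∑ t, Fm i t * algebraMap k A (a t) =
      σ (phi k A N u abar) i := by
    have := hFm abar i
    simp only [F, LinearMap.sub_apply, LinearMap.id_apply, LinearMap.comp_apply,
      Pi.sub_apply] at this
    rw [← this]
    simp only [habar, sub_sub_cancel]
  rw [h4]
  exact h3

end Core

end Groth.Agent.R2.H49.BertiniAlg
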