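import Mathlib
import Groth.Agent.R2.H49BertiniAlg
import Groth.Agent.Lib.Helper6RegSm2
import Groth.Agent.Lib.Helper5RLR

/-!
# Bertini via jets: the algebraic core, affine version (helper49)

`A` a regular finite type domain over an algebraically closed field `k`, `u_1, …, u_M, u_0 ∈ A` such
that at every maximal ideal `m` the `k`-span of the `u_i` maps onto `A / m²`.  Then there is a
nonzero polynomial `g` in `M` variables such that `g(c) = 0` whenever `u_0 + ∑ c_i u_i ∈ m²` for
some maximal ideal `m`.
-/

set_option autoImplicit false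
universe u

open TensorProduct

namespace Groth.Agent.R2.H49.BertiniAff

open Groth.Agent.R2.H49.BertiniAlg

/-- a finite type domain of dimension `< M` receives no injective map from a polynomial ring in
`M` variables. -/
theorem not_injective_of_dim_lt (k : Type u) [Field k] (C : Type u) [CommRing C] [IsDomain C]
    [Algebra k C] [Algebra.FiniteType k C] (M : ℕ) (hdim : ringKrullDim C < M)
    (Ψ : MvPolynomial (Fin M) k →ₐ[k] C) : ¬ Function.Injective Ψ := by
  intro hinj
  obtain ⟨d, h1, h2, -⟩ := Groth.Agent.Lib.Helper14.FTDim.exists_dim k C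
  have hd : d < M := by
    rw [h2] at hdim
    exact_mod_cast hdim
  let Θ : MvPolynomial (Fin M) k →ₐ[k] FractionRing C :=
    (IsScalarTower.toAlgHom k C (FractionRing C)).comp Ψ
  have hΘ : Function.Injective Θ := (IsFractionRing.injective C (FractionRing C)).comp hinj
  have hai : AlgebraicIndependent k (fun i => Θ (MvPolynomial.X i)) := by
    rw [algebraicIndependent_iff_injective_aeval]
    have : MvPolynomial.aeval (fun i => Θ (MvPolynomial.X i)) = Θ := by
      apply MvPolynomial.algHom_ext
      intro i
      rw [MvPolynomial.aeval_X]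
    rw [this]
    exact hΘ
  have h3 := hai.lift_cardinalMk_le_trdeg
  rw [h1] at h3
  simp only [Cardinal.mk_fintype, Fintype.card_fin,
    Cardinal.lift_natCast] at h3
  have h5 : M ≤ d := by exact_mod_cast h3
  omega

/-- Parametrisation step, affine version: if modulo every maximal ideal the columns of the matrix
`Fm` span a space of dimension `< M - dim A`, the vectors `a ∈ k^M` lying modulo some maximal
ideal in `c0 + range Fm` are not Zariski dense. -/
theorem keyAff (k : Type u) [Field k] (A : Type u) [CommRing A] [IsDomain A] [Algebra k A]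
    [Algebra.FiniteType k A] (r M : ℕ) (hr : ringKrullDim A = r)
    (c0 : Fin M → A) (Fm : Fin M → Fin M → A)
    (hrank : ∀ (m : Ideal A) [m.IsMaximal],
      Module.finrank m.ResidueField (Submodule.span m.ResidueField
        (Set.range (fun (t : Fin M) (i : Fin M) =>
          algebraMap A m.ResidueField (Fm i t)))) + r < M) :
    ∃ g : MvPolynomial (Fin M) k, g ≠ 0 ∧
      ∀ (a : Fin M → k) (m : Ideal A), m.IsMaximal →
        (∃ β : Fin M → A, ∀ i, algebraMap k A (a i) - c0 i - ∑ t, Fm i t * β t ∈ m) →
          MvPolynomial.eval a g = 0 := by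
  classical
  have hnoeth : IsNoetherianRing A := Algebra.FiniteType.isNoetherianRing k A
  -- the parametrising maps
  let Ψ : ∀ T : Finset (Fin M), MvPolynomial (Fin M) k →ₐ[k] MvPolynomial T A :=
    fun T => MvPolynomial.aeval (fun i => MvPolynomial.C (c0 i) +
      ∑ t : T, MvPolynomial.C (Fm i t) * MvPolynomial.X t)
  have hex : ∀ T : Finset (Fin M), T.card + r < M →
      ∃ g : MvPolynomial (Fin M) k, g ≠ 0 ∧ Ψ T g = 0 := by
    intro T hT
    have hdim : ringKrullDim (MvPolynomial T A) < M := by
      rw [MvPolynomial.ringKrullDim_of_isNoetherianRing, hr, Nat.card_eq_fintype_card,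
        Fintype.card_coe]
      have : r + T.card < M := by omega
      exact_mod_cast this
    have hni := not_injective_of_dim_lt k (MvPolynomial T A) M hdim (Ψ T)
    rw [injective_iff_map_eq_zero] at hni
    push Not at hni
    obtain ⟨g, hg0, hg⟩ := hni
    exact ⟨g, hg, hg0⟩
  let gT : Finset (Fin M) → MvPolynomial (Fin M) k := fun T =>
    if h : T.card + r < M then (hex T h).choose else 1
  have hgT0 : ∀ T, gT T ≠ 0 := by
    intro T
    by_cases h : T.card + r < M
    · simp only [gT, dif_pos h]
      exact (hex T h).choose_spec.1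
    · simp only [gT, dif_neg h]
      exact one_ne_zero
  have hgTΨ : ∀ T, T.card + r < M → Ψ T (gT T) = 0 := by
    intro T h
    simp only [gT, dif_pos h]
    exact (hex T h).choose_spec.2
  refine ⟨∏ T : Finset (Fin M), gT T, Finset.prod_ne_zero_iff.mpr fun T _ => hgT0 T, ?_⟩
  rintro a m hm ⟨β0, hbad⟩
  have := hm
  set κ := m.ResidueField with hκ
  let ρ : A →+* κ := algebraMap A κ
  let α : Fin M → κ := fun i => ρ (algebraMap k A (a i))
  let col : Fin M → (Fin M → κ) := fun t i => ρ (Fm i t)
  have hα : ∀ i, α i - ρ (c0 i) = ∑ t, ρ (Fm i t) * ρ (β0 t) := by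
    intro i
    have h1 := hbad i
    have h2 : ρ (algebraMap k A (a i) - c0 i - ∑ t, Fm i t * β0 t) = 0 := by
      rw [← Ideal.Quotient.eq_zero_iff_mem] at h1
      exact (Ideal.algebraMap_residueField_eq_zero).mpr ((Ideal.Quotient.eq_zero_iff_mem).mp h1)
    rw [map_sub, sub_eq_zero, map_sum, map_sub] at h2
    simp only [map_mul] at h2
    exact h2
  have hαmem : (fun i => α i - ρ (c0 i)) ∈ Submodule.span κ (Set.range col) := by
    have : (fun i => α i - ρ (c0 i)) = ∑ t, ρ (β0 t) • col t := by
      funext i
      rw [Finset.sum_apply, hα i]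
      refine Finset.sum_congr rfl fun t _ => ?_
      simp only [Pi.smul_apply, smul_eq_mul, col, mul_comm]
    rw [this]
    exact Submodule.sum_mem _ fun t _ => Submodule.smul_mem _ _ (Submodule.subset_span ⟨t, rfl⟩)
  obtain ⟨κ', e, he, hspan, hli⟩ := exists_linearIndependent' κ col
  have : Finite κ' := Finite.of_injective e he
  have : Fintype κ' := Fintype.ofFinite κ'
  have hcard : Fintype.card κ' + r < M := by
    have h1 := finrank_span_eq_card hli
    rw [hspan] at h1
    rw [← h1]
    exact hrank m
  set T : Finset (Fin M) := Finset.univ.image e with hT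
  have hTcard : T.card + r < M := by
    rw [hT, Finset.card_image_of_injective _ he, Finset.card_univ]
    exact hcard
  rw [← hspan] at hαmem
  obtain ⟨b, hb⟩ := (Submodule.mem_span_range_iff_exists_fun κ).mp hαmem
  let eqv : κ' ≃ T := Equiv.ofBijective (fun s => ⟨e s, Finset.mem_image_of_mem e (Finset.mem_univ s)⟩)
    ⟨fun s s' h => he (Subtype.ext_iff.mp h), fun t => by
      obtain ⟨s, -, hs⟩ := Finset.mem_image.mp t.2
      exact ⟨s, Subtype.ext hs⟩⟩
  let β : T → κ := fun t => b (eqv.symm t)
  have hβ : ∀ i, α i = ρ (c0 i) + ∑ t : T, ρ (Fm i t) * β t := by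
    intro i
    have h1 := congrFun hb i
    rw [Finset.sum_apply] at h1
    rw [← sub_eq_iff_eq_add', ← h1, ← Fintype.sum_equiv eqv (fun s => ρ (Fm i (e s)) * b s)
      (fun t => ρ (Fm i t) * β t)]
    · refine Finset.sum_congr rfl fun s _ => ?_
      simp only [Function.comp_apply, Pi.smul_apply, smul_eq_mul, col, mul_comm]
    · intro s
      simp only [β, Equiv.symm_apply_apply]
      rfl
  let ev : MvPolynomial T A →+* κ := MvPolynomial.eval₂Hom ρ β
  have hev : (ev.comp (Ψ T).toRingHom) =
      (ρ.comp (algebraMap k A)).comp (MvPolynomial.eval a) := by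
    apply MvPolynomial.ringHom_ext
    · intro c
      simp only [RingHom.comp_apply, AlgHom.toRingHom_eq_coe, RingHom.coe_coe,
        MvPolynomial.eval_C]
      rw [← MvPolynomial.algebraMap_eq, AlgHom.commutes, MvPolynomial.algebraMap_apply]
      simp only [ev, MvPolynomial.coe_eval₂Hom, MvPolynomial.eval₂_C]
    · intro i
      simp only [RingHom.comp_apply, AlgHom.toRingHom_eq_coe, RingHom.coe_coe,
        MvPolynomial.eval_X]
      change ev (Ψ T (MvPolynomial.X i)) = α i
      simp only [Ψ, MvPolynomial.aeval_X, map_sum, map_mul, map_add, ev, MvPolynomial.coe_eval₂Hom,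
        MvPolynomial.eval₂_C, MvPolynomial.eval₂_X]
      exact (hβ i).symm
  have h0 : (ρ.comp (algebraMap k A)) (MvPolynomial.eval a (gT T)) = 0 := by
    have h1 := congrArg (fun f => f (gT T)) hev
    simp only [RingHom.comp_apply, AlgHom.toRingHom_eq_coe, RingHom.coe_coe] at h1
    rw [RingHom.comp_apply, ← h1, hgTΨ T hTcard, map_zero]
  have h1 : MvPolynomial.eval a (gT T) = 0 :=
    (map_eq_zero_iff _ (ρ.comp (algebraMap k A)).injective).mp h0
  rw [map_prod]
  exact Finset.prod_eq_zero (Finset.mem_univ T) h1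


section Core

variable (k : Type u) [Field k] (A : Type u) [CommRing A] [Algebra k A]
variable (M : ℕ) (u : Fin M → A)

/-- the first-order principal parts of the sections. -/
noncomputable def vec (i : Fin M) : A × Ω[A⁄k] := (u i, KaehlerDifferential.D k A (u i))

/-- `c ↦ ∑ c_i (u_i, d u_i)`. -/
noncomputable def phi : (Fin M → A) →ₗ[A] A × Ω[A⁄k] :=
  Fintype.linearCombination A (vec k A M u)

theorem phi_apply (c : Fin M → A) : phi k A M u c = ∑ i, c i • vec k A M u i :=
  Fintype.linearCombination_apply A (vec k A M u) c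

theorem phi_algebraMap (a : Fin M → k) :
    phi k A M u (fun i => algebraMap k A (a i)) =
      (∑ i, a i • u i, KaehlerDifferential.D k A (∑ i, a i • u i)) := by
  rw [phi_apply, map_sum]
  have h1 : ∀ i, algebraMap k A (a i) • vec k A M u i =
      (a i • u i, KaehlerDifferential.D k A (a i • u i)) := by
    intro i
    rw [vec, Prod.smul_mk, Derivation.map_smul, algebraMap_smul, algebraMap_smul]
  simp_rw [h1]
  rw [Prod.ext_iff]
  constructor
  · rw [Prod.fst_sum]
  · rw [Prod.snd_sum]

theorem jet_mem_smul_top (m : Ideal A) (h : A) (hh : h ∈ m ^ 2) :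
    ((h, KaehlerDifferential.D k A h) : A × Ω[A⁄k]) ∈ m • (⊤ : Submodule A (A × Ω[A⁄k])) := by
  have h2 : ((h, KaehlerDifferential.D k A h) : A × Ω[A⁄k]) =
      h • ((1 : A), (0 : Ω[A⁄k])) + LinearMap.inr A A Ω[A⁄k] (KaehlerDifferential.D k A h) := by
    rw [LinearMap.inr_apply, Prod.smul_mk, Prod.mk_add_mk, smul_zero, zero_add, smul_eq_mul,
      mul_one, add_zero]
  rw [h2]
  exact Submodule.add_mem _ (Submodule.smul_mem_smul (Ideal.pow_le_self two_ne_zero hh) trivial)
    (map_mem_smul_top _ m _ (D_mem_of_mem_sq k A m h hh))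

/-- if the `u_i` generate all 1-jets at every maximal ideal, `phi` is onto. -/
theorem phi_surjective_of_jets [Module.Finite A Ω[A⁄k]]
    (hjet : ∀ (m : Ideal A), m.IsMaximal → ∀ a : A, ∃ c : Fin M → k,
      ∑ i, c i • u i - a ∈ m ^ 2) : Function.Surjective (phi k A M u) := by
  classical
  rw [← LinearMap.range_eq_top]
  set R := LinearMap.range (phi k A M u) with hR
  -- locally at every maximal ideal
  have hloc : ∀ (m : Ideal A), m.IsMaximal →
      R ⊔ m • (⊤ : Submodule A (A × Ω[A⁄k])) = ⊤ := by
    intro m hm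
    set S := R ⊔ m • (⊤ : Submodule A (A × Ω[A⁄k])) with hS
    have hjm : ∀ a : A, ((a, KaehlerDifferential.D k A a) : A × Ω[A⁄k]) ∈ S := by
      intro a
      obtain ⟨c, hc⟩ := hjet m hm a
      have h1 : ((a, KaehlerDifferential.D k A a) : A × Ω[A⁄k]) =
          phi k A M u (fun i => algebraMap k A (c i)) -
            ((∑ i, c i • u i - a, KaehlerDifferential.D k A (∑ i, c i • u i - a)) :
              A × Ω[A⁄k]) := by
        rw [phi_algebraMap, Prod.mk_sub_mk, map_sub, sub_sub_cancel, sub_sub_cancel]
      rw [h1]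
      exact S.sub_mem (Submodule.mem_sup_left ⟨_, rfl⟩)
        (Submodule.mem_sup_right (jet_mem_smul_top k A m _ hc))
    have h10 : ((1 : A), (0 : Ω[A⁄k])) ∈ S := by
      have := hjm 1
      rwa [Derivation.map_one_eq_zero] at this
    have hD : ∀ a : A, ((0 : A), KaehlerDifferential.D k A a) ∈ S := by
      intro a
      have h1 : ((0 : A), KaehlerDifferential.D k A a) =
          ((a, KaehlerDifferential.D k A a) : A × Ω[A⁄k]) - a • ((1 : A), (0 : Ω[A⁄k])) := by
        rw [Prod.smul_mk, Prod.mk_sub_mk, smul_zero, sub_zero, smul_eq_mul, mul_one, sub_self]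
      rw [h1]
      exact S.sub_mem (hjm a) (S.smul_mem _ h10)
    have hΩ : ∀ ω : Ω[A⁄k], ((0 : A), ω) ∈ S := by
      have h1 : Submodule.span A (Set.range (KaehlerDifferential.D k A)) ≤
          Submodule.comap (LinearMap.inr A A Ω[A⁄k]) S := by
        rw [Submodule.span_le]
        rintro _ ⟨f, rfl⟩
        exact hD f
      rw [KaehlerDifferential.span_range_derivation] at h1
      intro ω
      exact h1 (Submodule.mem_top (x := ω))
    rw [eq_top_iff]
    rintro ⟨b, ω⟩ -
    have h1 : ((b, ω) : A × Ω[A⁄k]) = b • ((1 : A), (0 : Ω[A⁄k])) + ((0 : A), ω) := by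
      rw [Prod.smul_mk, Prod.mk_add_mk, smul_zero, zero_add, smul_eq_mul, mul_one, add_zero]
    rw [h1]
    exact S.add_mem (S.smul_mem _ h10) (hΩ ω)
  -- globalise: the quotient `Q = P / R` satisfies `Q = m Q` for all maximal `m`
  by_contra hne
  set Q := (A × Ω[A⁄k]) ⧸ R with hQ
  let I : Ideal A := Module.annihilator A Q
  have hI : I ≠ ⊤ := by
    intro hI
    apply hne
    have h1 : (1 : A) ∈ I := by rw [hI]; trivial
    rw [eq_top_iff]
    intro p _
    have h2 : (1 : A) • (Submodule.Quotient.mk p : Q) = 0 := Module.mem_annihilator.mp h1 _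
    rw [one_smul] at h2
    exact (Submodule.Quotient.mk_eq_zero R).mp h2
  obtain ⟨m, hm, hIm⟩ := Ideal.exists_le_maximal I hI
  have hfg : (⊤ : Submodule A Q).FG := Module.Finite.fg_top
  have hle : (⊤ : Submodule A Q) ≤ m • (⊤ : Submodule A Q) := by
    intro q _
    obtain ⟨p, rfl⟩ := Submodule.Quotient.mk_surjective R q
    have hp : p ∈ R ⊔ m • (⊤ : Submodule A (A × Ω[A⁄k])) := by rw [hloc m hm]; trivial
    obtain ⟨p1, hp1, p2, hp2, rfl⟩ := Submodule.mem_sup.mp hp
    have h1 : (Submodule.Quotient.mk (p1 + p2) : Q) = R.mkQ p2 := by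
      rw [Submodule.Quotient.mk_add, (Submodule.Quotient.mk_eq_zero R).mpr hp1, zero_add]
      rfl
    rw [h1]
    exact map_mem_smul_top R.mkQ m p2 hp2
  obtain ⟨r, hr1, hr2⟩ :=
    Submodule.exists_sub_one_mem_and_smul_eq_zero_of_fg_of_le_smul m ⊤ hfg hle
  have hrI : r ∈ I := Module.mem_annihilator.mpr fun q => hr2 q trivial
  have h1m : (1 : A) ∈ m := by
    have := m.sub_mem (hIm hrI) hr1
    rwa [sub_sub_cancel] at this
  exact hm.ne_top ((Ideal.eq_top_iff_one m).mpr h1m)


/-- **Bertini via jets, algebraic core.** -/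
theorem coreJet [IsAlgClosed k] [Algebra.FiniteType k A] [IsDomain A] [IsRegularRing A] (u0 : A)
    (hjet : ∀ (m : Ideal A), m.IsMaximal → ∀ a : A, ∃ c : Fin M → k,
      ∑ i, c i • u i - a ∈ m ^ 2) :
    ∃ g : MvPolynomial (Fin M) k, g ≠ 0 ∧
      ∀ (c : Fin M → k) (m : Ideal A), m.IsMaximal →
        u0 + ∑ i, c i • u i ∈ m ^ 2 → MvPolynomial.eval c g = 0 := by
  classical
  obtain ⟨r, -, hr, -⟩ := Groth.Agent.Lib.Helper14.FTDim.exists_dim k A
  have hirr : (nilradical A).IsPrime := by
    rw [nilradical_eq_zero]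
    exact Ideal.isPrime_bot
  obtain ⟨hproj, hrk⟩ := (Groth.Agent.Lib.Helper19.SmVar.isReduced_and_isRegularRing_iff k A hirr r
    hr).mp ⟨inferInstance, inferInstance⟩
  have hsurj := phi_surjective_of_jets k A M u hjet
  obtain ⟨σ, hσ⟩ := Module.projective_lifting_property (phi k A M u) LinearMap.id hsurj
  have hσ' : ∀ p, phi k A M u (σ p) = p := fun p => LinearMap.congr_fun hσ p
  let F : (Fin M → A) →ₗ[A] (Fin M → A) := LinearMap.id - σ ∘ₗ phi k A M u
  have hFσ : ∀ p, F (σ p) = 0 := by
    intro p
    simp only [F, LinearMap.sub_apply, LinearMap.id_apply, LinearMap.comp_apply, hσ', sub_self]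
  let Fm : Fin M → Fin M → A := fun i t => F (fun j => if t = j then 1 else 0) i
  have hFm : ∀ (c : Fin M → A) i, F c i = ∑ t, Fm i t * c t := by
    intro c i
    rw [LinearMap.pi_apply_eq_sum_univ F c, Finset.sum_apply]
    refine Finset.sum_congr rfl fun t _ => ?_
    simp only [Pi.smul_apply, smul_eq_mul, Fm, mul_comm]
  let p0 : A × Ω[A⁄k] := (u0, KaehlerDifferential.D k A u0)
  obtain ⟨g, hg0, hg⟩ := keyAff k A r M hr (fun i => - σ p0 i) Fm (by
    intro m hm
    set κ := m.ResidueField with hκ
    let ρ : A →+* κ := algebraMap A κ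
    let col : Fin M → (Fin M → κ) := fun t i => ρ (Fm i t)
    let Fx : (Fin M → κ) →ₗ[κ] (Fin M → κ) := Fintype.linearCombination κ col
    have hFx : LinearMap.range Fx = Submodule.span κ (Set.range col) :=
      Fintype.range_linearCombination κ col
    change Module.finrank κ (Submodule.span κ (Set.range col)) + r < M
    rw [← hFx]
    let Θ : κ ⊗[A] (A × Ω[A⁄k]) →ₗ[κ] (Fin M → κ) :=
      (TensorProduct.piScalarRight A κ κ (Fin M)).toLinearMap ∘ₗ LinearMap.baseChange κ σ
    have hΘinj : Function.Injective Θ := by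
      have h1 : Function.Injective (LinearMap.baseChange κ σ) := by
        have h2 : (LinearMap.baseChange κ (phi k A M u)) ∘ₗ (LinearMap.baseChange κ σ) =
            LinearMap.id := by
          rw [← LinearMap.baseChange_comp, hσ, LinearMap.baseChange_id]
        exact Function.LeftInverse.injective (g := LinearMap.baseChange κ (phi k A M u))
          (fun x => LinearMap.congr_fun h2 x)
      exact (TensorProduct.piScalarRight A κ κ (Fin M)).injective.comp h1
    have hΘker : LinearMap.range Θ ≤ LinearMap.ker Fx := by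
      rintro _ ⟨z, rfl⟩
      rw [LinearMap.mem_ker]
      induction z using TensorProduct.induction_on with
      | zero => simp
      | add x y hx hy => rw [map_add, map_add, hx, hy, add_zero]
      | tmul x p =>
        have h1 : Θ (x ⊗ₜ[A] p) = fun t => ρ (σ p t) * x := by
          simp only [Θ, LinearMap.comp_apply, LinearMap.baseChange_tmul, LinearEquiv.coe_coe,
            TensorProduct.piScalarRight_apply, TensorProduct.piScalarRightHom_tmul]
          funext t
          rw [Algebra.smul_def]
        rw [h1]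
        funext i
        simp only [Fx, Fintype.linearCombination_apply, Finset.sum_apply, Pi.smul_apply,
          smul_eq_mul, col, Pi.zero_apply]
        have h2 : ∑ t, ρ (σ p t) * x * ρ (Fm i t) = x * ρ (∑ t, Fm i t * σ p t) := by
          rw [map_sum, Finset.mul_sum]
          refine Finset.sum_congr rfl fun t _ => ?_
          rw [map_mul]
          ring
        rw [h2, ← hFm, hFσ, Pi.zero_apply, map_zero, mul_zero]
    have hfr : Module.finrank κ (κ ⊗[A] (A × Ω[A⁄k])) = r + 1 := by
      rw [(TensorProduct.prodRight A κ κ A Ω[A⁄k]).finrank_eq, Module.finrank_prod,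
        (TensorProduct.AlgebraTensorModule.rid A κ κ).finrank_eq, Module.finrank_self, hrk m,
        add_comm]
    have h3 : r + 1 ≤ Module.finrank κ (LinearMap.ker Fx) := by
      rw [← hfr, ← LinearMap.finrank_range_of_inj hΘinj]
      exact Submodule.finrank_mono hΘker
    have h4 := LinearMap.finrank_range_add_finrank_ker Fx
    rw [Module.finrank_fin_fun] at h4
    omega)
  refine ⟨g, hg0, ?_⟩
  intro a m hm hbad
  apply hg a m hm
  set abar : Fin M → A := fun i => algebraMap k A (a i) with habar
  refine ⟨abar, fun i => ?_⟩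
  have h1 : p0 + phi k A M u abar ∈ m • (⊤ : Submodule A (A × Ω[A⁄k])) := by
    rw [habar, phi_algebraMap]
    have h2 : p0 + ((∑ i, a i • u i, KaehlerDifferential.D k A (∑ i, a i • u i)) : A × Ω[A⁄k]) =
        (u0 + ∑ i, a i • u i, KaehlerDifferential.D k A (u0 + ∑ i, a i • u i)) := by
      rw [Prod.mk_add_mk, map_add]
    rw [h2]
    exact jet_mem_smul_top k A m _ hbad
  have h2 : σ (p0 + phi k A M u abar) ∈ m • (⊤ : Submodule A (Fin M → A)) :=
    map_mem_smul_top σ m _ h1
  have h3 : (LinearMap.proj i : (Fin M → A) →ₗ[A] A) (σ (p0 + phi k A M u abar)) ∈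
      m • (⊤ : Submodule A A) := map_mem_smul_top _ m _ h2
  rw [smul_eq_mul, Ideal.mul_top] at h3
  have h4 : algebraMap k A (a i) - (- σ p0 i) - ∑ t, Fm i t * abar t =
      σ (p0 + phi k A M u abar) i := by
    have := hFm abar i
    simp only [F, LinearMap.sub_apply, LinearMap.id_apply, LinearMap.comp_apply,
      Pi.sub_apply] at this
    rw [← this, map_add, Pi.add_apply]
    simp only [habar]
    ring
  rw [h4]
  exact h3

end Core

section Quot

/-- membership in the square of a maximal ideal can be tested in the localization. -/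
theorem mem_sq_of_map_mem_sq {A : Type u} [CommRing A] (m : Ideal A) [hm : m.IsMaximal] (t : A)
    (h : algebraMap A (Localization.AtPrime m) t ∈
      IsLocalRing.maximalIdeal (Localization.AtPrime m) ^ 2) : t ∈ m ^ 2 := by
  have h1 := IsLocalization.AtPrime.map_eq_maximalIdeal m (Localization.AtPrime m)
  rw [← h1, ← Ideal.map_pow] at h
  have hprim : (m ^ 2).IsPrimary := by
    apply Ideal.isPrimary_of_isMaximal_radical
    rw [Ideal.radical_pow m two_ne_zero, hm.isPrime.radical]
    exact hm
  have hdisj : Disjoint (m.primeCompl : Set A) ((m ^ 2 : Ideal A) : Set A) := by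
    rw [Set.disjoint_left]
    intro a ha ha2
    exact ha (Ideal.pow_le_self two_ne_zero ha2)
  have h2 := IsLocalization.under_map_of_isPrimary_disjoint m.primeCompl (Localization.AtPrime m)
    hprim hdisj
  rw [← h2]
  exact h

/-- a hypersurface section of a regular finite type algebra over an algebraically closed field,
which at no maximal ideal `m` lies in `m²`, is smooth. -/
theorem smooth_quotient (k : Type u) [Field k] [IsAlgClosed k] (A : Type u) [CommRing A]
    [Algebra k A] [Algebra.FiniteType k A] [IsRegularRing A] (t : A)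
    (ht : ∀ m : Ideal A, m.IsMaximal → t ∈ m → t ∉ m ^ 2) :
    Algebra.Smooth k (A ⧸ Ideal.span ({t} : Set A)) := by
  set I : Ideal A := Ideal.span ({t} : Set A) with hI
  have hft : Algebra.FiniteType k (A ⧸ I) :=
    Algebra.FiniteType.of_surjective (Ideal.Quotient.mkₐ k I) Ideal.Quotient.mk_surjective
  have hfp : Algebra.FinitePresentation k (A ⧸ I) :=
    (Algebra.FinitePresentation.of_finiteType (R := k) (A := A ⧸ I)).mp hft
  have hnoeth : IsNoetherianRing A := Algebra.FiniteType.isNoetherianRing k A
  suffices h : Algebra.FormallySmooth k (A ⧸ I) from ⟨h, hfp⟩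
  rw [← Algebra.smoothLocus_eq_univ_iff, Set.eq_univ_iff_forall]
  -- maximal ideals are smooth points
  have hmax : ∀ (n : Ideal (A ⧸ I)) [n.IsMaximal], Algebra.IsSmoothAt k n := by
    intro n hn
    set m : Ideal A := n.comap (Ideal.Quotient.mk I) with hm
    have hmmax : m.IsMaximal := Ideal.comap_isMaximal_of_surjective _ Ideal.Quotient.mk_surjective
    have htm : t ∈ m := by
      rw [hm, Ideal.mem_comap]
      have : Ideal.Quotient.mk I t = 0 :=
        Ideal.Quotient.eq_zero_iff_mem.mpr (Ideal.subset_span rfl)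
      rw [this]
      exact n.zero_mem
    have ht2 := ht m hmmax htm
    have hreg : IsRegularLocalRing (Localization.AtPrime m) :=
      IsRegularRing.isRegularLocalRing_localization m
    set τ := algebraMap A (Localization.AtPrime m) t with hτ
    have hτm : τ ∈ IsLocalRing.maximalIdeal (Localization.AtPrime m) := by
      rw [← IsLocalization.AtPrime.map_eq_maximalIdeal m (Localization.AtPrime m)]
      exact Ideal.mem_map_of_mem _ htm
    have hτ2 : τ ∉ IsLocalRing.maximalIdeal (Localization.AtPrime m) ^ 2 :=
      fun h => ht2 (mem_sq_of_map_mem_sq m t h)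
    have hloc1 : IsLocalRing (Localization.AtPrime m ⧸ Ideal.span ({τ} : Set _)) := by
      have : Nontrivial (Localization.AtPrime m ⧸ Ideal.span ({τ} : Set _)) := by
        rw [Ideal.Quotient.nontrivial_iff]
        intro h
        have : Ideal.span ({τ} : Set _) ≤ IsLocalRing.maximalIdeal (Localization.AtPrime m) := by
          rw [Ideal.span_le, Set.singleton_subset_iff]
          exact hτm
        rw [h] at this
        exact (IsLocalRing.maximalIdeal.isMaximal _).ne_top (top_le_iff.mp this)
      exact IsLocalRing.of_surjective' (Ideal.Quotient.mk _) Ideal.Quotient.mk_surjective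
    have hreg2 : IsRegularLocalRing (Localization.AtPrime m ⧸ Ideal.span ({τ} : Set _)) :=
      (Groth.Agent.Lib.Helper5.isRegularLocalRing_quotient_span_singleton hτm hτ2).1
    have hmap : I.map (algebraMap A (Localization.AtPrime m)) = Ideal.span ({τ} : Set _) := by
      change (Ideal.span ({t} : Set A)).map (algebraMap A (Localization.AtPrime m)) = _
      rw [Ideal.map_span, Set.image_singleton]
    have hM : Algebra.algebraMapSubmonoid (A ⧸ I) m.primeCompl = n.primeCompl := by
      ext y
      constructor
      · rintro ⟨x, hx, rfl⟩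
        exact hx
      · intro hy
        obtain ⟨x, rfl⟩ := Ideal.Quotient.mk_surjective y
        exact ⟨x, hy, rfl⟩
    have hloc : IsLocalization (Algebra.algebraMapSubmonoid (A ⧸ I) m.primeCompl)
        (Localization.AtPrime m ⧸ I.map (algebraMap A (Localization.AtPrime m))) :=
      inferInstance
    rw [hM] at hloc
    have hreg3 : IsRegularLocalRing
        (Localization.AtPrime m ⧸ I.map (algebraMap A (Localization.AtPrime m))) := by
      rw [hmap]
      exact hreg2
    have hreg4 : IsRegularLocalRing (Localization.AtPrime n) :=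
      IsRegularLocalRing.of_ringEquiv
        (IsLocalization.algEquiv n.primeCompl (Localization.AtPrime n)
          (Localization.AtPrime m ⧸ I.map (algebraMap A (Localization.AtPrime m)))).symm.toRingEquiv
    have : Algebra.EssFiniteType k n.ResidueField := Algebra.EssFiniteType.comp k (A ⧸ I) _
    have : Algebra.FormallySmooth k n.ResidueField := Algebra.FormallySmooth.of_perfectField
    exact Groth.Agent.Lib.Helper6.RegSm.isSmoothAt_of_isRegularLocalRing k (A ⧸ I) n
  intro q
  obtain ⟨n, hn, hqn⟩ := Ideal.exists_le_maximal q.asIdeal q.2.ne_top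
  have h1 : (⟨n, hn.isPrime⟩ : PrimeSpectrum (A ⧸ I)) ∈ Algebra.smoothLocus k (A ⧸ I) := hmax n
  have h2 : q ⤳ (⟨n, hn.isPrime⟩ : PrimeSpectrum (A ⧸ I)) :=
    (PrimeSpectrum.le_iff_specializes q ⟨n, hn.isPrime⟩).mp hqn
  exact h2.mem_open Algebra.isOpen_smoothLocus h1

end Quot

end Groth.Agent.R2.H49.BertiniAff
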