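import Mathlib
import Groth.Agent.R2.H49BertiniAff
import Groth.Agent.Lib.Helper19CKCartier
import Groth.Agent.Lib.Helper14LocalDim

/-!
# Bertini over an arbitrary field: the algebraic core for smooth algebras (helper49)

`C` a smooth finite type domain over a field `k` of dimension `r`, `u_0, …, u_N ∈ C` with some
`u_j = 1` and `d u_i` generating `Ω_{C/k}`.  Then there is a nonzero polynomial `g` in `N + 1`
variables such that `g(a) = 0` whenever `t = ∑ a_i u_i` and `d t` both vanish at some field valued
point of `C`.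
-/

set_option autoImplicit false
universe u

open TensorProduct

namespace Groth.Agent.R2.H49.BertiniSm

open Groth.Agent.R2.H49.BertiniAlg

/-- Parametrisation step with field valued points. -/
theorem keyF (k : Type u) [Field k] (C : Type u) [CommRing C] [IsDomain C] [Algebra k C]
    [Algebra.FiniteType k C] (r N : ℕ) (hr : ringKrullDim C ≤ r)
    (Fm : Fin (N + 1) → Fin (N + 1) → C)
    (hrank : ∀ (F : Type u) [Field F] (ρ : C →+* F),
      Module.finrank F (Submodule.span F
        (Set.range (fun (t : Fin (N + 1)) (i : Fin (N + 1)) => ρ (Fm i t)))) + r ≤ N) :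
    ∃ g : MvPolynomial (Fin (N + 1)) k, g ≠ 0 ∧
      ∀ (a : Fin (N + 1) → k) (F : Type u) [Field F] (ρ : C →+* F),
        (∀ i, ρ (algebraMap k C (a i)) = ∑ t, ρ (Fm i t) * ρ (algebraMap k C (a t))) →
          MvPolynomial.eval a g = 0 := by
  classical
  have hnoeth : IsNoetherianRing C := Algebra.FiniteType.isNoetherianRing k C
  let Ψ : ∀ T : Finset (Fin (N + 1)), MvPolynomial (Fin (N + 1)) k →ₐ[k] MvPolynomial T C :=
    fun T => MvPolynomial.aeval (fun i => ∑ t : T, MvPolynomial.C (Fm i t) * MvPolynomial.X t)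
  have hex : ∀ T : Finset (Fin (N + 1)), T.card + r ≤ N →
      ∃ g : MvPolynomial (Fin (N + 1)) k, g ≠ 0 ∧ Ψ T g = 0 := by
    intro T hT
    have hdim : ringKrullDim (MvPolynomial T C) ≤ N := by
      rw [MvPolynomial.ringKrullDim_of_isNoetherianRing, Nat.card_eq_fintype_card,
        Fintype.card_coe]
      have h1 : ringKrullDim C + (T.card : WithBot ℕ∞) ≤ (r : WithBot ℕ∞) + (T.card : WithBot ℕ∞) :=
        add_le_add_left hr _
      refine h1.trans ?_
      have : r + T.card ≤ N := by omega
      exact_mod_cast this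
    have hni := not_injective_of_dim_le k (MvPolynomial T C) N hdim (Ψ T)
    rw [injective_iff_map_eq_zero] at hni
    push Not at hni
    obtain ⟨g, hg0, hg⟩ := hni
    exact ⟨g, hg, hg0⟩
  let gT : Finset (Fin (N + 1)) → MvPolynomial (Fin (N + 1)) k := fun T =>
    if h : T.card + r ≤ N then (hex T h).choose else 1
  have hgT0 : ∀ T, gT T ≠ 0 := by
    intro T
    by_cases h : T.card + r ≤ N
    · simp only [gT, dif_pos h]
      exact (hex T h).choose_spec.1
    · simp only [gT, dif_neg h]
      exact one_ne_zero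
  have hgTΨ : ∀ T, T.card + r ≤ N → Ψ T (gT T) = 0 := by
    intro T h
    simp only [gT, dif_pos h]
    exact (hex T h).choose_spec.2
  refine ⟨∏ T : Finset (Fin (N + 1)), gT T, Finset.prod_ne_zero_iff.mpr fun T _ => hgT0 T, ?_⟩
  intro a κ _ ρ hα
  let α : Fin (N + 1) → κ := fun i => ρ (algebraMap k C (a i))
  let col : Fin (N + 1) → (Fin (N + 1) → κ) := fun t i => ρ (Fm i t)
  have hαmem : α ∈ Submodule.span κ (Set.range col) := by
    have : α = ∑ t, α t • col t := by
      funext i
      rw [Finset.sum_apply]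
      change ρ (algebraMap k C (a i)) = _
      rw [hα i]
      refine Finset.sum_congr rfl fun t _ => ?_
      simp only [Pi.smul_apply, smul_eq_mul, col, α, mul_comm]
    rw [this]
    exact Submodule.sum_mem _ fun t _ => Submodule.smul_mem _ _ (Submodule.subset_span ⟨t, rfl⟩)
  obtain ⟨κ', e, he, hspan, hli⟩ := exists_linearIndependent' κ col
  have : Finite κ' := Finite.of_injective e he
  have : Fintype κ' := Fintype.ofFinite κ'
  have hcard : Fintype.card κ' + r ≤ N := by
    have h1 := finrank_span_eq_card hli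
    rw [hspan] at h1
    rw [← h1]
    exact hrank κ ρ
  set T : Finset (Fin (N + 1)) := Finset.univ.image e with hT
  have hTcard : T.card + r ≤ N := by
    rw [hT, Finset.card_image_of_injective _ he, Finset.card_univ]
    exact hcard
  rw [← hspan] at hαmem
  obtain ⟨b, hb⟩ := (Submodule.mem_span_range_iff_exists_fun κ).mp hαmem
  let eqv : κ' ≃ T := Equiv.ofBijective (fun s => ⟨e s, Finset.mem_image_of_mem e (Finset.mem_univ s)⟩)
    ⟨fun s s' h => he (Subtype.ext_iff.mp h), fun t => by
      obtain ⟨s, -, hs⟩ := Finset.mem_image.mp t.2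
      exact ⟨s, Subtype.ext hs⟩⟩
  let β : T → κ := fun t => b (eqv.symm t)
  have hβ : ∀ i, α i = ∑ t : T, ρ (Fm i t) * β t := by
    intro i
    have h1 := congrFun hb i
    rw [Finset.sum_apply] at h1
    rw [← h1, ← Fintype.sum_equiv eqv (fun s => ρ (Fm i (e s)) * b s)
      (fun t => ρ (Fm i t) * β t)]
    · refine Finset.sum_congr rfl fun s _ => ?_
      simp only [Function.comp_apply, Pi.smul_apply, smul_eq_mul, col, mul_comm]
    · intro s
      simp only [β, Equiv.symm_apply_apply]
      rfl
  let ev : MvPolynomial T C →+* κ := MvPolynomial.eval₂Hom ρ β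
  have hev : (ev.comp (Ψ T).toRingHom) =
      (ρ.comp (algebraMap k C)).comp (MvPolynomial.eval a) := by
    apply MvPolynomial.ringHom_ext
    · intro c
      simp only [RingHom.comp_apply, AlgHom.toRingHom_eq_coe, RingHom.coe_coe,
        MvPolynomial.eval_C]
      rw [← MvPolynomial.algebraMap_eq, AlgHom.commutes, MvPolynomial.algebraMap_apply]
      simp only [ev, MvPolynomial.coe_eval₂Hom, MvPolynomial.eval₂_C]
    · intro i
      simp only [RingHom.comp_apply, AlgHom.toRingHom_eq_coe, RingHom.coe_coe,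
        MvPolynomial.eval_X]
      change ev (Ψ T (MvPolynomial.X i)) = α i
      simp only [Ψ, MvPolynomial.aeval_X, map_sum, map_mul, ev, MvPolynomial.coe_eval₂Hom,
        MvPolynomial.eval₂_C, MvPolynomial.eval₂_X]
      exact (hβ i).symm
  have h0 : (ρ.comp (algebraMap k C)) (MvPolynomial.eval a (gT T)) = 0 := by
    have h1 := congrArg (fun f => f (gT T)) hev
    simp only [RingHom.comp_apply, AlgHom.toRingHom_eq_coe, RingHom.coe_coe] at h1
    rw [RingHom.comp_apply, ← h1, hgTΨ T hTcard, map_zero]
  have h1 : MvPolynomial.eval a (gT T) = 0 :=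
    (map_eq_zero_iff _ (ρ.comp (algebraMap k C)).injective).mp h0
  rw [map_prod]
  exact Finset.prod_eq_zero (Finset.mem_univ T) h1


section Core

variable (k : Type u) [Field k] (C : Type u) [CommRing C] [Algebra k C]
variable (N : ℕ) (u : Fin (N + 1) → C)

theorem phi_surjective_of_span
    (hspan : Submodule.span C (Set.range fun i => KaehlerDifferential.D k C (u i)) = ⊤)
    (j : Fin (N + 1)) (hj : u j = 1) : Function.Surjective (phi k C N u) := by
  classical
  rw [← LinearMap.range_eq_top]
  set R := LinearMap.range (phi k C N u) with hR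
  have hv : ∀ i, vec k C N u i ∈ R := by
    intro i
    refine ⟨Pi.single i 1, ?_⟩
    rw [phi, Fintype.linearCombination_apply_single, one_smul]
  have h10 : ((1 : C), (0 : Ω[C⁄k])) ∈ R := by
    have := hv j
    rwa [vec, hj, Derivation.map_one_eq_zero] at this
  have hD : ∀ i, ((0 : C), KaehlerDifferential.D k C (u i)) ∈ R := by
    intro i
    have h1 : ((0 : C), KaehlerDifferential.D k C (u i)) =
        vec k C N u i - u i • ((1 : C), (0 : Ω[C⁄k])) := by
      rw [vec, Prod.smul_mk, Prod.mk_sub_mk, smul_zero, sub_zero, smul_eq_mul, mul_one, sub_self]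
    rw [h1]
    exact R.sub_mem (hv i) (R.smul_mem _ h10)
  have hΩ : ∀ ω : Ω[C⁄k], ((0 : C), ω) ∈ R := by
    have h1 : Submodule.span C (Set.range fun i => KaehlerDifferential.D k C (u i)) ≤
        Submodule.comap (LinearMap.inr C C Ω[C⁄k]) R := by
      rw [Submodule.span_le]
      rintro _ ⟨i, rfl⟩
      exact hD i
    rw [hspan] at h1
    intro ω
    exact h1 (Submodule.mem_top (x := ω))
  rw [eq_top_iff]
  rintro ⟨b, ω⟩ -
  have h1 : ((b, ω) : C × Ω[C⁄k]) = b • ((1 : C), (0 : Ω[C⁄k])) + ((0 : C), ω) := by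
    rw [Prod.smul_mk, Prod.mk_add_mk, smul_zero, zero_add, smul_eq_mul, mul_one, add_zero]
  rw [h1]
  exact R.add_mem (R.smul_mem _ h10) (hΩ ω)

/-- variant of `phi_surjective_of_span`: `1` is a `k`-linear combination of the `u_i`. -/
theorem phi_surjective_of_span'
    (hspan : Submodule.span C (Set.range fun i => KaehlerDifferential.D k C (u i)) = ⊤)
    (c₀ : Fin (N + 1) → k) (h1 : ∑ i, c₀ i • u i = 1) : Function.Surjective (phi k C N u) := by
  classical
  rw [← LinearMap.range_eq_top]
  set R := LinearMap.range (phi k C N u) with hR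
  have hv : ∀ i, vec k C N u i ∈ R := by
    intro i
    refine ⟨Pi.single i 1, ?_⟩
    rw [phi, Fintype.linearCombination_apply_single, one_smul]
  have h10 : ((1 : C), (0 : Ω[C⁄k])) ∈ R := by
    have h2 : ((1 : C), (0 : Ω[C⁄k])) = phi k C N u (fun i => algebraMap k C (c₀ i)) := by
      rw [phi_algebraMap, h1, Derivation.map_one_eq_zero]
    rw [h2]
    exact ⟨_, rfl⟩
  have hD : ∀ i, ((0 : C), KaehlerDifferential.D k C (u i)) ∈ R := by
    intro i
    have h1 : ((0 : C), KaehlerDifferential.D k C (u i)) =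
        vec k C N u i - u i • ((1 : C), (0 : Ω[C⁄k])) := by
      rw [vec, Prod.smul_mk, Prod.mk_sub_mk, smul_zero, sub_zero, smul_eq_mul, mul_one, sub_self]
    rw [h1]
    exact R.sub_mem (hv i) (R.smul_mem _ h10)
  have hΩ : ∀ ω : Ω[C⁄k], ((0 : C), ω) ∈ R := by
    have h1 : Submodule.span C (Set.range fun i => KaehlerDifferential.D k C (u i)) ≤
        Submodule.comap (LinearMap.inr C C Ω[C⁄k]) R := by
      rw [Submodule.span_le]
      rintro _ ⟨i, rfl⟩
      exact hD i
    rw [hspan] at h1
    intro ω
    exact h1 (Submodule.mem_top (x := ω))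
  rw [eq_top_iff]
  rintro ⟨b, ω⟩ -
  have h1 : ((b, ω) : C × Ω[C⁄k]) = b • ((1 : C), (0 : Ω[C⁄k])) + ((0 : C), ω) := by
    rw [Prod.smul_mk, Prod.mk_add_mk, smul_zero, zero_add, smul_eq_mul, mul_one, add_zero]
  rw [h1]
  exact R.add_mem (R.smul_mem _ h10) (hΩ ω)

/-- **Bertini, algebraic core over an arbitrary field**, from the surjectivity of `phi`. -/
theorem coreSm_of_surj [Algebra.FiniteType k C] [IsDomain C] [Module.Projective C Ω[C⁄k]] (r : ℕ)
    (hr : ringKrullDim C ≤ r)
    (hrk : ∀ (F : Type u) [Field F] [Algebra C F], Module.finrank F (F ⊗[C] Ω[C⁄k]) = r)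
    (hsurj : Function.Surjective (phi k C N u)) :
    ∃ g : MvPolynomial (Fin (N + 1)) k, g ≠ 0 ∧
      ∀ (a : Fin (N + 1) → k) (F : Type u) [Field F] [Algebra C F],
        algebraMap C F (∑ i, a i • u i) = 0 →
          (1 : F) ⊗ₜ[C] KaehlerDifferential.D k C (∑ i, a i • u i) = 0 →
            MvPolynomial.eval a g = 0 := by
  classical
  obtain ⟨σ, hσ⟩ := Module.projective_lifting_property (phi k C N u) LinearMap.id hsurj
  have hσ' : ∀ p, phi k C N u (σ p) = p := fun p => LinearMap.congr_fun hσ p
  let Fl : (Fin (N + 1) → C) →ₗ[C] (Fin (N + 1) → C) := LinearMap.id - σ ∘ₗ phi k C N u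
  have hFσ : ∀ p, Fl (σ p) = 0 := by
    intro p
    simp only [Fl, LinearMap.sub_apply, LinearMap.id_apply, LinearMap.comp_apply, hσ', sub_self]
  let Fm : Fin (N + 1) → Fin (N + 1) → C := fun i t => Fl (fun j => if t = j then 1 else 0) i
  have hFm : ∀ (c : Fin (N + 1) → C) i, Fl c i = ∑ t, Fm i t * c t := by
    intro c i
    rw [LinearMap.pi_apply_eq_sum_univ Fl c, Finset.sum_apply]
    refine Finset.sum_congr rfl fun t _ => ?_
    simp only [Pi.smul_apply, smul_eq_mul, Fm, mul_comm]
  -- the base change of `σ`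
  have hΘ : ∀ (κ : Type u) [Field κ] [Algebra C κ],
      ∃ Θ : κ ⊗[C] (C × Ω[C⁄k]) →ₗ[κ] (Fin (N + 1) → κ), Function.Injective Θ ∧
        ∀ (x : κ) (p : C × Ω[C⁄k]), Θ (x ⊗ₜ[C] p) = fun t => algebraMap C κ (σ p t) * x := by
    intro κ _ _
    refine ⟨(TensorProduct.piScalarRight C κ κ (Fin (N + 1))).toLinearMap ∘ₗ
      LinearMap.baseChange κ σ, ?_, ?_⟩
    · have h1 : Function.Injective (LinearMap.baseChange κ σ) := by
        have h2 : (LinearMap.baseChange κ (phi k C N u)) ∘ₗ (LinearMap.baseChange κ σ) =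
            LinearMap.id := by
          rw [← LinearMap.baseChange_comp, hσ, LinearMap.baseChange_id]
        exact Function.LeftInverse.injective (g := LinearMap.baseChange κ (phi k C N u))
          (fun x => LinearMap.congr_fun h2 x)
      exact (TensorProduct.piScalarRight C κ κ (Fin (N + 1))).injective.comp h1
    · intro x p
      simp only [LinearMap.comp_apply, LinearMap.baseChange_tmul, LinearEquiv.coe_coe,
        TensorProduct.piScalarRight_apply, TensorProduct.piScalarRightHom_tmul]
      funext t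
      rw [Algebra.smul_def]
  obtain ⟨g, hg0, hg⟩ := keyF k C r N hr Fm (by
    intro κ _ ρ
    let _ : Algebra C κ := ρ.toAlgebra
    have hρ : ∀ c, algebraMap C κ c = ρ c := fun c => rfl
    let col : Fin (N + 1) → (Fin (N + 1) → κ) := fun t i => ρ (Fm i t)
    let Fx : (Fin (N + 1) → κ) →ₗ[κ] (Fin (N + 1) → κ) := Fintype.linearCombination κ col
    have hFx : LinearMap.range Fx = Submodule.span κ (Set.range col) :=
      Fintype.range_linearCombination κ col
    change Module.finrank κ (Submodule.span κ (Set.range col)) + r ≤ N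
    rw [← hFx]
    obtain ⟨Θ, hΘinj, hΘt⟩ := hΘ κ
    have hΘker : LinearMap.range Θ ≤ LinearMap.ker Fx := by
      rintro _ ⟨z, rfl⟩
      rw [LinearMap.mem_ker]
      induction z using TensorProduct.induction_on with
      | zero => simp
      | add x y hx hy => rw [map_add, map_add, hx, hy, add_zero]
      | tmul x p =>
        rw [hΘt]
        funext i
        simp only [Fx, Fintype.linearCombination_apply, Finset.sum_apply, Pi.smul_apply,
          smul_eq_mul, col, Pi.zero_apply, hρ]
        have h2 : ∑ t, ρ (σ p t) * x * ρ (Fm i t) = x * ρ (∑ t, Fm i t * σ p t) := by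
          rw [map_sum, Finset.mul_sum]
          refine Finset.sum_congr rfl fun t _ => ?_
          rw [map_mul]
          ring
        rw [h2, ← hFm, hFσ, Pi.zero_apply, map_zero, mul_zero]
    have hfr : Module.finrank κ (κ ⊗[C] (C × Ω[C⁄k])) = r + 1 := by
      rw [(TensorProduct.prodRight C κ κ C Ω[C⁄k]).finrank_eq, Module.finrank_prod,
        (TensorProduct.AlgebraTensorModule.rid C κ κ).finrank_eq, Module.finrank_self, hrk κ,
        add_comm]
    have h3 : r + 1 ≤ Module.finrank κ (LinearMap.ker Fx) := by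
      rw [← hfr, ← LinearMap.finrank_range_of_inj hΘinj]
      exact Submodule.finrank_mono hΘker
    have h4 := LinearMap.finrank_range_add_finrank_ker Fx
    rw [Module.finrank_fin_fun] at h4
    omega)
  refine ⟨g, hg0, ?_⟩
  intro a κ _ _ ht hDt
  apply hg a κ (algebraMap C κ)
  set abar : Fin (N + 1) → C := fun i => algebraMap k C (a i) with habar
  set t := ∑ i, a i • u i with htdef
  obtain ⟨Θ, hΘinj, hΘt⟩ := hΘ κ
  have h1 : (1 : κ) ⊗ₜ[C] (phi k C N u abar) = 0 := by
    rw [habar, phi_algebraMap]
    have h2 : ((t, KaehlerDifferential.D k C t) : C × Ω[C⁄k]) =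
        t • ((1 : C), (0 : Ω[C⁄k])) + LinearMap.inr C C Ω[C⁄k] (KaehlerDifferential.D k C t) := by
      rw [LinearMap.inr_apply, Prod.smul_mk, Prod.mk_add_mk, smul_zero, zero_add, smul_eq_mul,
        mul_one, add_zero]
    rw [h2, TensorProduct.tmul_add, TensorProduct.tmul_smul, TensorProduct.smul_tmul',
      Algebra.smul_def, mul_one, ht, TensorProduct.zero_tmul, zero_add]
    have h3 : (1 : κ) ⊗ₜ[C] (LinearMap.inr C C Ω[C⁄k] (KaehlerDifferential.D k C t)) =
        LinearMap.baseChange κ (LinearMap.inr C C Ω[C⁄k])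
          ((1 : κ) ⊗ₜ[C] KaehlerDifferential.D k C t) := by
      rw [LinearMap.baseChange_tmul]
    rw [h3, hDt, map_zero]
  intro i
  have h4 := congrFun (hΘt 1 (phi k C N u abar)) i
  rw [h1, map_zero, Pi.zero_apply, mul_one] at h4
  have h5 : σ (phi k C N u abar) i = abar i - ∑ t, Fm i t * abar t := by
    have := hFm abar i
    simp only [Fl, LinearMap.sub_apply, LinearMap.id_apply, LinearMap.comp_apply,
      Pi.sub_apply] at this
    rw [← this]
    ring
  rw [h5, map_sub, map_sum] at h4
  simp only [map_mul] at h4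
  exact (sub_eq_zero.mp h4.symm)

/-- **Bertini, algebraic core over an arbitrary field.** -/
theorem coreSm [Algebra.FiniteType k C] [IsDomain C] [Module.Projective C Ω[C⁄k]] (r : ℕ)
    (hr : ringKrullDim C ≤ r)
    (hrk : ∀ (F : Type u) [Field F] [Algebra C F], Module.finrank F (F ⊗[C] Ω[C⁄k]) = r)
    (hspan : Submodule.span C (Set.range fun i => KaehlerDifferential.D k C (u i)) = ⊤)
    (j : Fin (N + 1)) (hj : u j = 1) :
    ∃ g : MvPolynomial (Fin (N + 1)) k, g ≠ 0 ∧
      ∀ (a : Fin (N + 1) → k) (F : Type u) [Field F] [Algebra C F],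
        algebraMap C F (∑ i, a i • u i) = 0 →
          (1 : F) ⊗ₜ[C] KaehlerDifferential.D k C (∑ i, a i • u i) = 0 →
            MvPolynomial.eval a g = 0 :=
  coreSm_of_surj k C N u r hr hrk (phi_surjective_of_span k C N u hspan j hj)

/-- variant of `coreSm`: `1` is a `k`-linear combination of the `u_i`. -/
theorem coreSm' [Algebra.FiniteType k C] [IsDomain C] [Module.Projective C Ω[C⁄k]] (r : ℕ)
    (hr : ringKrullDim C ≤ r)
    (hrk : ∀ (F : Type u) [Field F] [Algebra C F], Module.finrank F (F ⊗[C] Ω[C⁄k]) = r)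
    (hspan : Submodule.span C (Set.range fun i => KaehlerDifferential.D k C (u i)) = ⊤)
    (c₀ : Fin (N + 1) → k) (h1 : ∑ i, c₀ i • u i = 1) :
    ∃ g : MvPolynomial (Fin (N + 1)) k, g ≠ 0 ∧
      ∀ (a : Fin (N + 1) → k) (F : Type u) [Field F] [Algebra C F],
        algebraMap C F (∑ i, a i • u i) = 0 →
          (1 : F) ⊗ₜ[C] KaehlerDifferential.D k C (∑ i, a i • u i) = 0 →
            MvPolynomial.eval a g = 0 :=
  coreSm_of_surj k C N u r hr hrk (phi_surjective_of_span' k C N u hspan c₀ h1)

end Core


section Rank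

open Groth.Agent.Lib.Helper14.FTDim

/-- for a formally smooth, essentially finite type field extension, `dim Ω = trdeg`. -/
theorem rank_kaehler_field (k K : Type u) [Field k] [Field K] [Algebra k K]
    [Algebra.FormallySmooth k K] [Algebra.EssFiniteType k K] :
    Module.rank K Ω[K⁄k] = (Cardinal.toNat (Algebra.trdeg k K) : Cardinal.{u}) := by
  obtain ⟨hfin, hrank⟩ := Groth.Agent.Lib.Helper19.CKCartier.rank_kaehler_eq_of_formallySmooth k k K
  have hz : EGA41.imperfection ℤ k K = ⊥ :=
    Groth.Agent.Lib.Helper19.CKCartier.imperfection_eq_bot_of_formallySmooth ℤ k K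
  have h0 : Module.rank k Ω[k⁄k] = 0 := by
    have : Subsingleton Ω[k⁄k] :=
      KaehlerDifferential.subsingleton_of_surjective k k Function.surjective_id
    exact rank_subsingleton' k _
  rw [hz, rank_bot, add_zero, h0, zero_add] at hrank
  exact hrank

/-- the generic rank of the differentials of a smooth domain of finite type is its dimension. -/
theorem finrank_kaehler_eq_dim (k C : Type u) [Field k] [CommRing C] [IsDomain C] [Algebra k C]
    [Algebra.FiniteType k C] [Algebra.FormallySmooth k C] (r : ℕ) (hr : ringKrullDim C = r) :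
    Module.finrank C Ω[C⁄k] = r := by
  obtain ⟨n, h1, h2, -⟩ := exists_dim k C
  have hnr : n = r := by
    rw [h2] at hr
    exact_mod_cast hr
  have : Algebra.FormallyEtale C (FractionRing C) :=
    Algebra.FormallyEtale.of_isLocalization (nonZeroDivisors C)
  have : Algebra.FormallySmooth k (FractionRing C) :=
    Algebra.FormallySmooth.comp k C (FractionRing C)
  have : Algebra.EssFiniteType k (FractionRing C) := Algebra.EssFiniteType.comp k C (FractionRing C)
  have e := KaehlerDifferential.tensorKaehlerEquivOfFormallyEtale k C (FractionRing C)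
  rw [← (TensorProduct.isBaseChange C Ω[C⁄k] (FractionRing C)).finrank_eq, e.finrank_eq]
  have hrank := rank_kaehler_field k (FractionRing C)
  rw [h1] at hrank
  have h3 : Module.finrank (FractionRing C) Ω[FractionRing C⁄k] =
      Cardinal.toNat (Module.rank (FractionRing C) Ω[FractionRing C⁄k]) := rfl
  rw [h3, hrank, ← hnr]
  simp

/-- the rank of the differentials of a smooth domain of finite type at any field valued point is
its dimension. -/
theorem finrank_tensor_kaehler (k C : Type u) [Field k] [CommRing C] [IsDomain C] [Algebra k C]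
    [Algebra.FiniteType k C] [Algebra.FormallySmooth k C] (r : ℕ) (hr : ringKrullDim C = r)
    (F : Type u) [Field F] [Algebra C F] : Module.finrank F (F ⊗[C] Ω[C⁄k]) = r := by
  have : Algebra.FinitePresentation k C :=
    (Algebra.FinitePresentation.of_finiteType (R := k) (A := C)).mp inferInstance
  have : Module.Projective C Ω[C⁄k] := Algebra.FormallySmooth.projective_kaehlerDifferential
  let p0 : PrimeSpectrum F := ⟨⊥, Ideal.isPrime_bot⟩
  have h1 := Module.rankAtStalk_baseChange (R := C) (M := Ω[C⁄k]) (S := F) p0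
  rw [Module.rankAtStalk_eq_finrank_of_free] at h1
  simp only [Pi.natCast_apply, Nat.cast_id] at h1
  rw [h1]
  set q := p0.comap (algebraMap C F) with hq
  rw [← Ideal.finrank_fiber_eq_rankAtStalk q.asIdeal, Ideal.finrank_fiber_eq_finrank]
  exact finrank_kaehler_eq_dim k C r hr

end Rank

end Groth.Agent.R2.H49.BertiniSm
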