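import Mathlib
import Groth.Agent.R2.H49BertiniSm
import Groth.Agent.Lib.Helper6Jac
import Groth.Agent.Lib.Helper6SmReg
import Groth.Agent.Lib.Helper5RLR
import Groth.Agent.Lib.Helper4NorLocusGen

/-!
# Affine Bertini over an arbitrary field: hyperplane sections of the smooth locus (helper49)

Supporting lemmas for `S4228`.
-/

set_option autoImplicit false
universe u

open TensorProduct

namespace Groth.Agent.R2.H49.BertiniAffine

open Groth.Agent.R2.H49.BertiniSm

section Dim

open Groth.Agent.Lib.Helper14.LocalDim Groth.Agent.Lib.Helper7.TopDim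

variable (k : Type u) [Field k] (A : Type u) [CommRing A] [Algebra k A] [Algebra.FiniteType k A]

omit [Algebra.FiniteType k A] in
theorem ringKrullDim_away_le (r : ℕ)
    (hdim : ∀ P ∈ minimalPrimes A, ringKrullDim (A ⧸ P) = r) (f : A) :
    ringKrullDim (Localization.Away f) ≤ r := by
  rw [← topologicalKrullDim_basicOpen]
  have h1 := dim_basicOpen_le f (r : ℕ∞) (fun x hx _ =>
    height_le_of_forall_minimalPrimes x (r : ℕ∞) (fun q hq _ => by
      rw [hdim q hq]
      rfl))
  exact h1

include k in
theorem le_ringKrullDim_away (r : ℕ)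
    (hdim : ∀ P ∈ minimalPrimes A, ringKrullDim (A ⧸ P) = r) (f : A)
    [Nontrivial (Localization.Away f)] :
    (r : WithBot ℕ∞) ≤ ringKrullDim (Localization.Away f) := by
  rw [← topologicalKrullDim_basicOpen]
  -- a prime of `A` not containing `f`
  obtain ⟨m, hm⟩ := Ideal.exists_maximal (Localization.Away f)
  have hmp : m.IsPrime := hm.isPrime
  set p₀ : Ideal A := m.comap (algebraMap A (Localization.Away f)) with hp₀
  have hp₀prime : p₀.IsPrime := Ideal.comap_isPrime _ _
  have hfp₀ : f ∉ p₀ := by
    intro hf
    rw [hp₀, Ideal.mem_comap] at hf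
    exact hmp.ne_top (Ideal.eq_top_of_isUnit_mem _ hf (IsLocalization.Away.algebraMap_isUnit f))
  obtain ⟨P, hP, hPle⟩ := Ideal.exists_minimalPrimes_le (J := p₀) bot_le
  have hPmin : P ∈ minimalPrimes A := by simpa [minimalPrimes] using hP
  have hPprime : P.IsPrime := hPmin.1.1
  have hfP : f ∉ P := fun hf => hfp₀ (hPle hf)
  obtain ⟨n, e, hn, he, -, hmax⟩ := exists_dims (k := k) P
  have her : e = r := by
    rw [hdim P hPmin] at he
    exact_mod_cast he.symm
  have h1 := le_dim_basicOpen (k := k) P n e hn hmax f hfP
  refine le_trans ?_ h1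
  rw [her]
  exact_mod_cast Nat.le_add_left r n

include k in
theorem ringKrullDim_away (r : ℕ)
    (hdim : ∀ P ∈ minimalPrimes A, ringKrullDim (A ⧸ P) = r) (f : A)
    [Nontrivial (Localization.Away f)] :
    ringKrullDim (Localization.Away f) = r :=
  le_antisymm (ringKrullDim_away_le A r hdim f) (le_ringKrullDim_away k A r hdim f)

end Dim

section Fib

open KaehlerDifferential

variable (k : Type u) [Field k] (A A' : Type u) [CommRing A] [CommRing A'] [Algebra k A]
  [Algebra k A'] [Algebra A A'] [IsScalarTower k A A']
  (F : Type u) [Field F] [Algebra A F] [Algebra A' F] [IsScalarTower A A' F]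

/-- the fibre of the differentials at a field valued point does not change under formally étale
extensions. -/
noncomputable def fibEquiv [Algebra.FormallyEtale A A'] :
    F ⊗[A] Ω[A⁄k] ≃ₗ[F] F ⊗[A'] Ω[A'⁄k] :=
  (AlgebraTensorModule.cancelBaseChange A A' F F Ω[A⁄k]).symm ≪≫ₗ
    AlgebraTensorModule.congr (LinearEquiv.refl F F)
      (KaehlerDifferential.tensorKaehlerEquivOfFormallyEtale k A A')

theorem fibEquiv_tmul_D [Algebra.FormallyEtale A A'] (a : A) :
    fibEquiv k A A' F ((1 : F) ⊗ₜ[A] D k A a) = (1 : F) ⊗ₜ[A'] D k A' (algebraMap A A' a) := by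
  simp [fibEquiv]

/-- the fibre of the differentials of a quotient by one equation whose differential does not
vanish at the point. -/
theorem finrank_fib_quotient [Module.Finite A Ω[A⁄k]]
    (hsurj : Function.Surjective (algebraMap A A')) (h : A)
    (hker : RingHom.ker (algebraMap A A') = Ideal.span {h})
    (hne : (1 : F) ⊗ₜ[A] D k A h ≠ 0) :
    Module.finrank F (F ⊗[A'] Ω[A'⁄k]) + 1 = Module.finrank F (F ⊗[A] Ω[A⁄k]) := by
  classical
  set g₀ := KaehlerDifferential.mapBaseChange k A A' with hg₀
  have hg₀surj : Function.Surjective g₀ := KaehlerDifferential.mapBaseChange_surjective k A A' hsurj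
  set w : A' ⊗[A] Ω[A⁄k] := (1 : A') ⊗ₜ[A] D k A h with hw
  have hh0 : algebraMap A A' h = 0 := by
    rw [← RingHom.mem_ker, hker]
    exact Ideal.subset_span rfl
  -- the kernel of `g₀` is generated by `w`
  have hkerg : ∀ z, g₀ z = 0 → ∃ b : A', z = b • w := by
    intro z hz
    obtain ⟨y, rfl⟩ :=
      (KaehlerDifferential.exact_kerCotangentToTensor_mapBaseChange k A A' hsurj z).mp hz
    obtain ⟨x, rfl⟩ := Ideal.toCotangent_surjective _ y
    have hx : (x : A) ∈ Ideal.span {h} := by
      rw [← hker]
      exact x.2
    rw [Ideal.mem_span_singleton'] at hx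
    obtain ⟨a, ha⟩ := hx
    refine ⟨algebraMap A A' a, ?_⟩
    rw [KaehlerDifferential.kerCotangentToTensor_toCotangent, ← ha, Derivation.leibniz,
      TensorProduct.tmul_add, TensorProduct.tmul_smul, TensorProduct.tmul_smul, hw,
      TensorProduct.smul_tmul', TensorProduct.smul_tmul', Algebra.smul_def, Algebra.smul_def,
      mul_one, mul_one, hh0, TensorProduct.zero_tmul, add_zero, TensorProduct.smul_tmul',
      smul_eq_mul, mul_one]
  have hgw : g₀ w = 0 := by
    rw [hg₀, hw, KaehlerDifferential.mapBaseChange_tmul, one_smul, KaehlerDifferential.map_D, hh0,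
      map_zero]
  set G : F ⊗[A'] (A' ⊗[A] Ω[A⁄k]) →ₗ[F] F ⊗[A'] Ω[A'⁄k] := LinearMap.baseChange F g₀ with hG
  have hGsurj : Function.Surjective G := by
    have : Function.Surjective (LinearMap.lTensor F g₀) := LinearMap.lTensor_surjective F hg₀surj
    exact this
  set v : F ⊗[A'] (A' ⊗[A] Ω[A⁄k]) := (1 : F) ⊗ₜ[A'] w with hv
  set c := AlgebraTensorModule.cancelBaseChange A A' F F Ω[A⁄k] with hc
  have hcv : c v = (1 : F) ⊗ₜ[A] D k A h := by
    rw [hv, hw, hc, AlgebraTensorModule.cancelBaseChange_tmul, one_smul]
  have hv0 : v ≠ 0 := by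
    intro h0
    rw [h0, map_zero] at hcv
    exact hne hcv.symm
  have hkerG : LinearMap.ker G = Submodule.span F {v} := by
    apply le_antisymm
    · intro z hz
      rw [LinearMap.mem_ker] at hz
      have hex0 : Function.Exact (LinearMap.ker g₀).subtype g₀ :=
        LinearMap.exact_subtype_ker_map g₀
      have hex := @lTensor_exact A' (LinearMap.ker g₀) (A' ⊗[A] Ω[A⁄k]) Ω[A'⁄k] _ _ _ _ _ _ _
        (LinearMap.ker g₀).subtype g₀ F _ _ hex0 hg₀surj
      obtain ⟨y, rfl⟩ := (hex z).mp hz
      clear hz
      induction y using TensorProduct.induction_on with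
      | zero => simp
      | add y₁ y₂ h₁ h₂ =>
        rw [map_add]
        exact Submodule.add_mem _ h₁ h₂
      | tmul x z' =>
        obtain ⟨b, hb⟩ := hkerg z'.1 (LinearMap.mem_ker.mp z'.2)
        rw [LinearMap.lTensor_tmul, Submodule.subtype_apply, hb, ← TensorProduct.smul_tmul]
        have : (b • x) ⊗ₜ[A'] w = (b • x) • v := by
          rw [hv, TensorProduct.smul_tmul', smul_eq_mul, mul_one]
        rw [this]
        exact Submodule.smul_mem _ _ (Submodule.subset_span rfl)
    · rw [Submodule.span_le, Set.singleton_subset_iff]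
      change G v = 0
      rw [hG, hv, LinearMap.baseChange_tmul, hgw, TensorProduct.tmul_zero]
  have h1 := LinearMap.finrank_range_add_finrank_ker G
  rw [LinearMap.range_eq_top.mpr hGsurj, finrank_top, hkerG, finrank_span_singleton hv0,
    c.finrank_eq] at h1
  exact h1

end Fib

section Chart

theorem isDomain_away_mul {A : Type u} [CommRing A] (g f : A) [IsDomain (Localization.Away g)]
    (hne : algebraMap A (Localization.Away g) f ≠ 0) : IsDomain (Localization.Away (f * g)) := by
  have hT : IsDomain (Localization.Away (algebraMap A (Localization.Away g) f)) :=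
    IsLocalization.isDomain_localization (powers_le_nonZeroDivisors_of_noZeroDivisors hne)
  have hloc : IsLocalization.Away (f * g)
      (Localization.Away (algebraMap A (Localization.Away g) f)) := inferInstance
  let e := IsLocalization.algEquiv (Submonoid.powers (f * g)) (Localization.Away (f * g))
    (Localization.Away (algebraMap A (Localization.Away g) f))
  exact Function.Injective.isDomain e.toRingEquiv.toRingHom e.injective

variable (k : Type u) [Field k] (A : Type u) [CommRing A] [Algebra k A] [Algebra.FiniteType k A]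

/-- around a smooth point of a finite type algebra over a field there is a principal open which
is smooth and integral. -/
theorem exists_chart (p : Ideal A) [p.IsPrime] [Algebra.IsSmoothAt k p] :
    ∃ f : A, f ∉ p ∧ Algebra.Smooth k (Localization.Away f) ∧ IsDomain (Localization.Away f) := by
  have hfp : Algebra.FinitePresentation k A :=
    (Algebra.FinitePresentation.of_finiteType (R := k) (A := A)).mp inferInstance
  have hnoeth : IsNoetherianRing A := Algebra.FiniteType.isNoetherianRing k A
  obtain ⟨f₀, hf₀, hsm⟩ := Algebra.IsSmoothAt.exists_notMem_smooth k p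
  have hreg : IsRegularLocalRing (Localization.AtPrime p) :=
    Groth.Agent.Lib.Helper6.SmReg.isRegularLocalRing_of_isSmoothAt (R := k) p
  have hdomp : IsDomain (Localization.AtPrime p) :=
    Groth.Agent.Lib.Helper5.isDomain_of_isRegularLocalRing _
  obtain ⟨g, hg, hdom⟩ := Groth.Agent.Lib.Helper4.NorLocusGen.exists_isDomain_away p
  refine ⟨f₀ * g, fun h => (Ideal.IsPrime.mem_or_mem inferInstance h).elim hf₀ hg, ?_, ?_⟩
  · rw [← Algebra.basicOpen_subset_smoothLocus_iff_smooth] at hsm ⊢
    refine subset_trans ?_ hsm
    rw [PrimeSpectrum.basicOpen_mul]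
    exact Set.inter_subset_left
  · apply isDomain_away_mul g f₀
    intro h0
    rw [IsLocalization.map_eq_zero_iff (Submonoid.powers g)] at h0
    obtain ⟨⟨_, n, rfl⟩, hm⟩ := h0
    have : g ^ n * f₀ ∈ p := by
      change g ^ n * f₀ = 0 at hm
      rw [hm]
      exact p.zero_mem
    rcases Ideal.IsPrime.mem_or_mem inferInstance this with h1 | h1
    · exact hg (Ideal.IsPrime.mem_of_pow_mem inferInstance n h1)
    · exact hf₀ h1

end Chart

section Final

open KaehlerDifferential

variable (k : Type u) [Field k] (A : Type u) [CommRing A] [Algebra k A] [Algebra.FiniteType k A]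

/-- the local conclusion: if `h` and `d h` do not vanish simultaneously at field valued points of
the smooth integral chart `D(f)` of dimension `r`, then `A/(h)` is smooth of relative dimension
`r - 1` at every point of `V(h) ∩ D(f)`. -/
theorem final (r : ℕ) (f h : A) [IsDomain (Localization.Away f)]
    [Algebra.Smooth k (Localization.Away f)]
    (hC : ringKrullDim (Localization.Away f) = r)
    (hgen : ∀ (F : Type u) [Field F] [Algebra (Localization.Away f) F],
      algebraMap (Localization.Away f) F (algebraMap A (Localization.Away f) h) = 0 →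
        (1 : F) ⊗ₜ[Localization.Away f]
          D k (Localization.Away f) (algebraMap A (Localization.Away f) h) ≠ 0)
    (q : Ideal (A ⧸ Ideal.span {h})) [q.IsPrime]
    (hfq : f ∉ q.comap (Ideal.Quotient.mk (Ideal.span {h}))) :
    ∃ f' : A ⧸ Ideal.span {h}, f' ∉ q ∧
      Algebra.IsStandardSmoothOfRelativeDimension (r - 1) k (Localization.Away f') := by
  classical
  have hq'prime : (q.comap (Ideal.Quotient.mk (Ideal.span {h}))).IsPrime := Ideal.comap_isPrime _ _
  have hfp : Algebra.FinitePresentation k A :=
    (Algebra.FinitePresentation.of_finiteType (R := k) (A := A)).mp inferInstance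
  have hftB : Algebra.FiniteType k (A ⧸ Ideal.span {h}) :=
    Algebra.FiniteType.of_surjective (Ideal.Quotient.mkₐ k (Ideal.span {h}))
      Ideal.Quotient.mk_surjective
  have hfpB : Algebra.FinitePresentation k (A ⧸ Ideal.span {h}) :=
    (Algebra.FinitePresentation.of_finiteType (R := k) (A := A ⧸ Ideal.span {h})).mp hftB
  have hftC : Algebra.FiniteType k (Localization.Away f) := inferInstance
  have hIq : Ideal.span {h} ≤ q.comap (Ideal.Quotient.mk (Ideal.span {h})) := by
    intro x hx
    rw [Ideal.mem_comap, Ideal.Quotient.eq_zero_iff_mem.mpr hx]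
    exact zero_mem _
  have hhq : h ∈ q.comap (Ideal.Quotient.mk (Ideal.span {h})) := hIq (Ideal.subset_span rfl)
  -- the residue field with its algebra structures
  have hu : IsUnit (algebraMap A (q.comap (Ideal.Quotient.mk (Ideal.span {h}))).ResidueField f) := by
    rw [isUnit_iff_ne_zero, Ne, Ideal.algebraMap_residueField_eq_zero]
    exact hfq
  let φC : Localization.Away f →+* (q.comap (Ideal.Quotient.mk (Ideal.span {h}))).ResidueField :=
    IsLocalization.Away.lift f hu
  let algC : Algebra (Localization.Away f)
    (q.comap (Ideal.Quotient.mk (Ideal.span {h}))).ResidueField := φC.toAlgebra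
  have towC : IsScalarTower A (Localization.Away f)
      (q.comap (Ideal.Quotient.mk (Ideal.span {h}))).ResidueField :=
    IsScalarTower.of_algebraMap_eq (fun a => (IsLocalization.Away.lift_eq f hu a).symm)
  let φB : A ⧸ Ideal.span {h} →+* (q.comap (Ideal.Quotient.mk (Ideal.span {h}))).ResidueField :=
    Ideal.Quotient.lift (Ideal.span {h})
      (algebraMap A (q.comap (Ideal.Quotient.mk (Ideal.span {h}))).ResidueField)
      (fun a ha => (Ideal.algebraMap_residueField_eq_zero).mpr (hIq ha))
  let algB : Algebra (A ⧸ Ideal.span {h})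
    (q.comap (Ideal.Quotient.mk (Ideal.span {h}))).ResidueField := φB.toAlgebra
  have towB : IsScalarTower A (A ⧸ Ideal.span {h})
      (q.comap (Ideal.Quotient.mk (Ideal.span {h}))).ResidueField :=
    IsScalarTower.of_algebraMap_eq (fun a => rfl)
  -- the differential of `h` does not vanish at the point
  have h0 : algebraMap (Localization.Away f)
      (q.comap (Ideal.Quotient.mk (Ideal.span {h}))).ResidueField
      (algebraMap A (Localization.Away f) h) = 0 := by
    rw [← IsScalarTower.algebraMap_apply A (Localization.Away f), Ideal.algebraMap_residueField_eq_zero]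
    exact hhq
  have hneC := hgen _ h0
  have hfeC : Algebra.FormallyEtale A (Localization.Away f) :=
    Algebra.FormallyEtale.of_isLocalization (Submonoid.powers f)
  have hneA : (1 : (q.comap (Ideal.Quotient.mk (Ideal.span {h}))).ResidueField) ⊗ₜ[A] D k A h ≠ 0 := by
    intro h1
    apply hneC
    rw [← fibEquiv_tmul_D k A (Localization.Away f) _ h, h1, map_zero]
  -- smoothness at the point
  have hsmA : Algebra.IsSmoothAt k (q.comap (Ideal.Quotient.mk (Ideal.span {h}))) := by
    have hsub := (Algebra.basicOpen_subset_smoothLocus_iff_smooth (R := k) (A := A) (f := f)).mpr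
      inferInstance
    exact hsub (show (⟨_, hq'prime⟩ : PrimeSpectrum A) ∈ PrimeSpectrum.basicOpen f from hfq)
  have hsmB : Algebra.IsSmoothAt k q := by
    rw [Groth.Agent.Lib.Helper6.Jac.isSmoothAt_quotient_iff k A (Ideal.span {h}) q
      (q.comap (Ideal.Quotient.mk (Ideal.span {h}))) rfl]
    refine ⟨{h}, ?_, ?_, ?_⟩
    · rw [Finset.coe_singleton, Set.singleton_subset_iff]
      exact Ideal.subset_span rfl
    · rw [Ideal.map_span, Finset.coe_singleton]
    · rw [linearIndependent_subsingleton_index_iff]
      rintro ⟨g, hg⟩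
      rw [Finset.mem_singleton] at hg
      subst hg
      exact hneA
  obtain ⟨f', hf', hstd⟩ := Algebra.IsSmoothAt.exists_notMem_isStandardSmooth k q
  refine ⟨f', hf', ?_⟩
  -- the algebra structure `S → F`
  have huS : IsUnit (algebraMap (A ⧸ Ideal.span {h})
      (q.comap (Ideal.Quotient.mk (Ideal.span {h}))).ResidueField f') := by
    obtain ⟨a, rfl⟩ := Ideal.Quotient.mk_surjective f'
    rw [isUnit_iff_ne_zero]
    change algebraMap A (q.comap (Ideal.Quotient.mk (Ideal.span {h}))).ResidueField a ≠ 0
    rw [Ne, Ideal.algebraMap_residueField_eq_zero]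
    exact hf'
  let φS : Localization.Away f' →+* (q.comap (Ideal.Quotient.mk (Ideal.span {h}))).ResidueField :=
    IsLocalization.Away.lift f' huS
  let algS : Algebra (Localization.Away f')
    (q.comap (Ideal.Quotient.mk (Ideal.span {h}))).ResidueField := φS.toAlgebra
  have towS : IsScalarTower (A ⧸ Ideal.span {h}) (Localization.Away f')
      (q.comap (Ideal.Quotient.mk (Ideal.span {h}))).ResidueField :=
    IsScalarTower.of_algebraMap_eq (fun a => (IsLocalization.Away.lift_eq f' huS a).symm)
  have hnontriv : Nontrivial (Localization.Away f') := RingHom.domain_nontrivial φS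
  have hfeS : Algebra.FormallyEtale (A ⧸ Ideal.span {h}) (Localization.Away f') :=
    Algebra.FormallyEtale.of_isLocalization (Submonoid.powers f')
  -- ranks
  have e1 := (fibEquiv k (A ⧸ Ideal.span {h}) (Localization.Away f')
    (q.comap (Ideal.Quotient.mk (Ideal.span {h}))).ResidueField).finrank_eq
  have e2 := (fibEquiv k A (Localization.Away f)
    (q.comap (Ideal.Quotient.mk (Ideal.span {h}))).ResidueField).finrank_eq
  have hQ := finrank_fib_quotient k A (A ⧸ Ideal.span {h})
    (q.comap (Ideal.Quotient.mk (Ideal.span {h}))).ResidueField Ideal.Quotient.mk_surjective h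
    Ideal.mk_ker hneA
  have hrC := finrank_tensor_kaehler k (Localization.Away f) r hC
    (q.comap (Ideal.Quotient.mk (Ideal.span {h}))).ResidueField
  have hS : Module.finrank (Localization.Away f') Ω[Localization.Away f'⁄k] = r - 1 := by
    rw [← Module.finrank_baseChange
      (R := (q.comap (Ideal.Quotient.mk (Ideal.span {h}))).ResidueField)]
    omega
  rw [Algebra.IsStandardSmoothOfRelativeDimension.iff_of_isStandardSmooth, ← hS,
    Module.finrank_eq_rank]

end Final

section Main

open KaehlerDifferential

variable (k : Type u) [Field k] (n r : ℕ) (A : Type u) [CommRing A] [Algebra k A]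
  (x : Fin n → A)

/-- the coordinate functions `1, x_1, …, x_n` on a chart. -/
noncomputable def coords (f : A) : Fin (n + 1) → Localization.Away f :=
  Fin.cons 1 (fun i => algebraMap A (Localization.Away f) (x i))

theorem sum_coords (f : A) (a : Fin (n + 1) → k) :
    ∑ i, a i • coords n A x f i = algebraMap A (Localization.Away f)
      (algebraMap k A (a 0) + ∑ i : Fin n, algebraMap k A (a i.succ) * x i) := by
  rw [Fin.sum_univ_succ, map_add, map_sum]
  congr 1
  · rw [coords, Fin.cons_zero, Algebra.smul_def, mul_one,
      ← IsScalarTower.algebraMap_apply k A (Localization.Away f)]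
  · refine Finset.sum_congr rfl fun i _ => ?_
    rw [coords, Fin.cons_succ, Algebra.smul_def, map_mul,
      ← IsScalarTower.algebraMap_apply k A (Localization.Away f)]

theorem span_D_coords
    (hx : Function.Surjective (MvPolynomial.aeval x : MvPolynomial (Fin n) k →ₐ[k] A)) (f : A) :
    Submodule.span (Localization.Away f)
      (Set.range fun i => D k (Localization.Away f) (coords n A x f i)) = ⊤ := by
  set N := Submodule.span (Localization.Away f)
    (Set.range fun i => D k (Localization.Away f) (coords n A x f i)) with hN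
  have hxi : ∀ i : Fin n, D k (Localization.Away f) (algebraMap A (Localization.Away f) (x i)) ∈ N := by
    intro i
    refine Submodule.subset_span ⟨i.succ, ?_⟩
    simp only [coords, Fin.cons_succ]
  have hp : ∀ p : MvPolynomial (Fin n) k,
      D k (Localization.Away f) (algebraMap A (Localization.Away f) (MvPolynomial.aeval x p)) ∈ N := by
    intro p
    induction p using MvPolynomial.induction_on with
    | C c =>
      rw [MvPolynomial.aeval_C, ← IsScalarTower.algebraMap_apply k A (Localization.Away f),
        Derivation.map_algebraMap]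
      exact N.zero_mem
    | add p₁ p₂ h₁ h₂ =>
      rw [map_add, map_add, map_add]
      exact N.add_mem h₁ h₂
    | mul_X p i hp =>
      rw [map_mul, map_mul, MvPolynomial.aeval_X, Derivation.leibniz]
      exact N.add_mem (N.smul_mem _ (hxi i)) (N.smul_mem _ hp)
  rw [eq_top_iff, ← KaehlerDifferential.span_range_map_derivation_of_isLocalization k A
    (Localization.Away f) (Submonoid.powers f), Submodule.span_le]
  rintro _ ⟨a, rfl⟩
  obtain ⟨p, rfl⟩ := hx a
  rw [Function.comp_apply, KaehlerDifferential.map_D]
  exact hp p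

/-- the genericity polynomial of one chart. -/
theorem exists_poly_chart [Algebra.FiniteType k A]
    (hx : Function.Surjective (MvPolynomial.aeval x : MvPolynomial (Fin n) k →ₐ[k] A))
    (hdim : ∀ P ∈ minimalPrimes A, ringKrullDim (A ⧸ P) = r) (f : A)
    [IsDomain (Localization.Away f)] [Algebra.Smooth k (Localization.Away f)] :
    ∃ g : MvPolynomial (Fin (n + 1)) k, g ≠ 0 ∧
      ∀ a : Fin (n + 1) → k, MvPolynomial.eval a g ≠ 0 →
        ∀ (F : Type u) [Field F] [Algebra (Localization.Away f) F],
          algebraMap (Localization.Away f) F (algebraMap A (Localization.Away f)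
            (algebraMap k A (a 0) + ∑ i : Fin n, algebraMap k A (a i.succ) * x i)) = 0 →
          (1 : F) ⊗ₜ[Localization.Away f] D k (Localization.Away f)
            (algebraMap A (Localization.Away f)
              (algebraMap k A (a 0) + ∑ i : Fin n, algebraMap k A (a i.succ) * x i)) ≠ 0 := by
  have hproj : Module.Projective (Localization.Away f) Ω[Localization.Away f⁄k] :=
    Algebra.FormallySmooth.projective_kaehlerDifferential
  have hftC : Algebra.FiniteType k (Localization.Away f) := inferInstance
  have hdimC := ringKrullDim_away k A r hdim f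
  obtain ⟨g, hg0, hg⟩ := coreSm k (Localization.Away f) n (coords n A x f) r hdimC.le
    (fun F _ _ => finrank_tensor_kaehler k (Localization.Away f) r hdimC F)
    (span_D_coords k n A x hx f) 0 (by rw [coords, Fin.cons_zero])
  refine ⟨g, hg0, fun a ha F _ _ h1 h2 => ha ?_⟩
  apply hg a F
  · rw [sum_coords]
    exact h1
  · rw [sum_coords]
    exact h2

/-- **Affine Bertini over a field**, in ring theoretic form. -/
theorem main
    (hx : Function.Surjective (MvPolynomial.aeval x : MvPolynomial (Fin n) k →ₐ[k] A))
    (hdim : ∀ P ∈ minimalPrimes A, ringKrullDim (A ⧸ P) = r) :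
    ∃ g : MvPolynomial (Fin (n + 1)) k, g ≠ 0 ∧
      ∀ a : Fin (n + 1) → k, MvPolynomial.eval a g ≠ 0 →
        ∀ (q : Ideal (A ⧸ Ideal.span
            {algebraMap k A (a 0) + ∑ i : Fin n, algebraMap k A (a i.succ) * x i}))
          (_ : q.IsPrime),
          (∃ f : A, f ∉ q.comap (Ideal.Quotient.mk _) ∧
            Algebra.Smooth k (Localization.Away f)) →
          ∃ f : A ⧸ Ideal.span
              {algebraMap k A (a 0) + ∑ i : Fin n, algebraMap k A (a i.succ) * x i},
            f ∉ q ∧ Algebra.IsStandardSmoothOfRelativeDimension (r - 1) k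
              (Localization.Away f) := by
  classical
  have hft : Algebra.FiniteType k A := Algebra.FiniteType.of_surjective (MvPolynomial.aeval x) hx
  have hfp : Algebra.FinitePresentation k A :=
    (Algebra.FinitePresentation.of_finiteType (R := k) (A := A)).mp hft
  have hnoeth : IsNoetherianRing A := Algebra.FiniteType.isNoetherianRing k A
  -- the set of good charts
  set S₀ : Set A := {f | IsDomain (Localization.Away f) ∧ Algebra.Smooth k (Localization.Away f)}
    with hS₀
  obtain ⟨s', hs'S, hs'⟩ := (Submodule.fg_span_iff_fg_span_finset_subset (R := A) S₀).mp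
    (IsNoetherian.noetherian _)
  -- the polynomial of each chart
  have hex : ∀ f : A, ∃ g : MvPolynomial (Fin (n + 1)) k, g ≠ 0 ∧ (f ∈ S₀ →
      ∀ a : Fin (n + 1) → k, MvPolynomial.eval a g ≠ 0 →
        ∀ (F : Type u) [Field F] [Algebra (Localization.Away f) F],
          algebraMap (Localization.Away f) F (algebraMap A (Localization.Away f)
            (algebraMap k A (a 0) + ∑ i : Fin n, algebraMap k A (a i.succ) * x i)) = 0 →
          (1 : F) ⊗ₜ[Localization.Away f] D k (Localization.Away f)
            (algebraMap A (Localization.Away f)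
              (algebraMap k A (a 0) + ∑ i : Fin n, algebraMap k A (a i.succ) * x i)) ≠ 0) := by
    intro f
    by_cases hf : f ∈ S₀
    · have hd : IsDomain (Localization.Away f) := hf.1
      have hs : Algebra.Smooth k (Localization.Away f) := hf.2
      obtain ⟨g, hg0, hg⟩ := exists_poly_chart k n r A x hx hdim f
      exact ⟨g, hg0, fun _ => hg⟩
    · exact ⟨1, one_ne_zero, fun h => absurd h hf⟩
  choose G hG0 hG using hex
  refine ⟨∏ f ∈ s', G f, Finset.prod_ne_zero_iff.mpr fun f _ => hG0 f, ?_⟩
  intro a ha q hq hsm
  obtain ⟨f₁, hf₁, hsm₁⟩ := hsm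
  have hq'prime : (q.comap (Ideal.Quotient.mk (Ideal.span
      {algebraMap k A (a 0) + ∑ i : Fin n, algebraMap k A (a i.succ) * x i}))).IsPrime :=
    Ideal.comap_isPrime _ _
  have hsmA : Algebra.IsSmoothAt k (q.comap (Ideal.Quotient.mk (Ideal.span
      {algebraMap k A (a 0) + ∑ i : Fin n, algebraMap k A (a i.succ) * x i}))) := by
    have hsub := (Algebra.basicOpen_subset_smoothLocus_iff_smooth (R := k) (A := A)
      (f := f₁)).mpr hsm₁
    exact hsub (show (⟨_, hq'prime⟩ : PrimeSpectrum A) ∈ PrimeSpectrum.basicOpen f₁ from hf₁)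
  obtain ⟨f₂, hf₂, hsm₂, hdom₂⟩ := exists_chart k A (q.comap (Ideal.Quotient.mk (Ideal.span
      {algebraMap k A (a 0) + ∑ i : Fin n, algebraMap k A (a i.succ) * x i})))
  have hf₂S : f₂ ∈ S₀ := ⟨hdom₂, hsm₂⟩
  -- some chart of the finite family contains the point
  obtain ⟨f, hfs', hfq⟩ : ∃ f ∈ s', f ∉ q.comap (Ideal.Quotient.mk (Ideal.span
      {algebraMap k A (a 0) + ∑ i : Fin n, algebraMap k A (a i.succ) * x i})) := by
    by_contra hcon
    push Not at hcon
    have hle : Ideal.span (s' : Set A) ≤ q.comap (Ideal.Quotient.mk (Ideal.span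
        {algebraMap k A (a 0) + ∑ i : Fin n, algebraMap k A (a i.succ) * x i})) := by
      rw [Ideal.span_le]
      exact fun f hf => hcon f hf
    apply hf₂
    apply hle
    have : f₂ ∈ Submodule.span A S₀ := Submodule.subset_span hf₂S
    rw [hs'] at this
    exact this
  have hfS : f ∈ S₀ := hs'S hfs'
  have hd : IsDomain (Localization.Away f) := hfS.1
  have hs : Algebra.Smooth k (Localization.Away f) := hfS.2
  have hGf : MvPolynomial.eval a (G f) ≠ 0 := by
    intro h0
    apply ha
    rw [map_prod]
    exact Finset.prod_eq_zero hfs' h0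
  exact final k A r f _ (ringKrullDim_away k A r hdim f) (hG f hfS a hGf) q hfq

end Main

end Groth.Agent.R2.H49.BertiniAffine
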