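import Mathlib
import Groth.Agent.Lib.Helper27ProjUniq2
import Groth.Agent.Lib.Helper27PnSections
import Groth.Agent.S9705

/-!
# Linear forms on projective space over an algebraically closed field (helper49)

* `exists_sub_const_mem` : on a scheme locally of finite type over an algebraically closed field,
  every function on an affine open is, modulo the maximal ideal of a closed point, a constant.
-/

set_option autoImplicit false
universe u

open CategoryTheory CategoryTheory.Limits AlgebraicGeometry TopologicalSpace Opposite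
  HomogeneousLocalization

namespace Groth.Agent.R2.H49.PnLin

section Nullstellensatz

variable (k : Type u) [Field k] [IsAlgClosed k] {Y : Scheme.{u}}
  (q : Y ⟶ Spec (CommRingCat.of k)) [LocallyOfFiniteType q]

/-- the prime ideal of a closed point of an affine open is maximal. -/
theorem isMaximal_primeIdealOf {U : Y.Opens} (hU : IsAffineOpen U) (y : Y) (hy : y ∈ U)
    (hcl : IsClosed ({y} : Set Y)) : (hU.primeIdealOf ⟨y, hy⟩).asIdeal.IsMaximal := by
  rw [← PrimeSpectrum.isClosed_singleton_iff_isMaximal]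
  have h1 : hU.fromSpec ⁻¹' {y} = {hU.primeIdealOf ⟨y, hy⟩} := by
    ext p
    simp only [Set.mem_preimage, Set.mem_singleton_iff]
    constructor
    · intro h
      apply hU.fromSpec.isOpenEmbedding.injective
      rw [h]
      exact (hU.fromSpec_primeIdealOf ⟨y, hy⟩).symm
    · rintro rfl
      exact hU.fromSpec_primeIdealOf ⟨y, hy⟩
  have h2 := hcl.preimage hU.fromSpec.continuous
  rw [h1] at h2
  exact h2

/-- a constant of `k` as a function on an open of `Y`. -/
noncomputable def const (U : Y.Opens) : k →+* Γ(Y, U) :=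
  (q.appLE ⊤ U (fun _ _ => trivial)).hom.comp (Scheme.ΓSpecIso (CommRingCat.of k)).inv.hom

theorem exists_sub_const_mem {U : Y.Opens} (hU : IsAffineOpen U) (y : Y) (hy : y ∈ U)
    (hcl : IsClosed ({y} : Set Y)) (a : Γ(Y, U)) :
    ∃ c : k, a - const k q U c ∈ (hU.primeIdealOf ⟨y, hy⟩).asIdeal := by
  have hmax := isMaximal_primeIdealOf hU y hy hcl
  set m := (hU.primeIdealOf ⟨y, hy⟩).asIdeal with hm
  have hft : (const k q U).FiniteType := by
    refine RingHom.FiniteType.comp (q.finiteType_appLE (isAffineOpen_top _) hU _)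
      (RingHom.FiniteType.of_surjective _ ?_)
    exact ((ConcreteCategory.isIso_iff_bijective _).mp
      (inferInstanceAs (IsIso (Scheme.ΓSpecIso (CommRingCat.of k)).inv))).2
  algebraize [const k q U]
  have : Algebra.FiniteType k (Γ(Y, U) ⧸ m) := inferInstance
  let _ : Field (Γ(Y, U) ⧸ m) := Ideal.Quotient.field m
  have hfinL : Module.Finite k (Γ(Y, U) ⧸ m) :=
    finite_of_finite_type_of_isJacobsonRing k (Γ(Y, U) ⧸ m)
  have hsurj : Function.Surjective (algebraMap k (Γ(Y, U) ⧸ m)) :=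
    (IsAlgClosed.algebraMap_bijective_of_isIntegral (k := k) (K := Γ(Y, U) ⧸ m)).2
  obtain ⟨c, hc⟩ := hsurj (Ideal.Quotient.mk m a)
  refine ⟨c, ?_⟩
  rw [← Ideal.Quotient.eq_zero_iff_mem, map_sub, ← hc]
  have : algebraMap k (Γ(Y, U) ⧸ m) c = Ideal.Quotient.mk m (const k q U c) := rfl
  rw [this, sub_self]

theorem mem_basicOpen_iff_notMem {U : Y.Opens} (hU : IsAffineOpen U)
    (y : Y) (hy : y ∈ U) (g : Γ(Y, U)) :
    y ∈ Y.basicOpen g ↔ g ∉ (hU.primeIdealOf ⟨y, hy⟩).asIdeal := by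
  let _ := TopCat.Presheaf.algebra_section_stalk Y.presheaf ⟨y, hy⟩
  have := hU.isLocalization_stalk ⟨y, hy⟩
  rw [Scheme.mem_basicOpen _ _ _ hy]
  exact IsLocalization.AtPrime.isUnit_to_map_iff (Y.presheaf.stalk y)
    (hU.primeIdealOf ⟨y, hy⟩).asIdeal g

end Nullstellensatz

section Lin

open MvPolynomial Groth.Agent.Lib.Helper27GrTildeSect Groth.Agent.Lib.Helper23.SecTw
  Groth.Agent.Lib.Helper6

variable (n : ℕ) (k : Type u) [Field k]

local notation "𝒬" => CohB1.polyGrading n k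

/-- the linear form `∑ c_i T_i`. -/
noncomputable def lin (c : Fin (n + 1) → k) : MvPolynomial (Fin (n + 1)) k :=
  ∑ i, C (c i) * X i

theorem lin_mem (c : Fin (n + 1) → k) : lin n k c ∈ 𝒬 1 := by
  refine Submodule.sum_mem _ fun i _ => ?_
  rw [← smul_eq_C_mul]
  exact Submodule.smul_mem _ _ (isHomogeneous_X k i)

theorem lin_single (j : Fin (n + 1)) : lin n k (Pi.single j 1) = X j := by
  classical
  rw [lin, Finset.sum_eq_single j]
  · rw [Pi.single_eq_same, C_1, one_mul]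
  · intro i _ hi
    rw [Pi.single_eq_of_ne hi, C_0, zero_mul]
  · intro h
    exact absurd (Finset.mem_univ j) h

theorem lin_sub_smul (c c' : Fin (n + 1) → k) (a : k) :
    lin n k (c - a • c') = lin n k c - C a * lin n k c' := by
  simp only [lin, Pi.sub_apply, Pi.smul_apply, smul_eq_mul, C_sub, C_mul, sub_mul,
    Finset.sum_sub_distrib, Finset.mul_sum, mul_assoc]

theorem adjoin_range_lin : Algebra.adjoin k (Set.range (lin n k)) = ⊤ := by
  rw [eq_top_iff, ← MvPolynomial.adjoin_range_X]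
  apply Algebra.adjoin_mono
  rintro _ ⟨j, rfl⟩
  exact ⟨Pi.single j 1, lin_single n k j⟩

theorem exists_lin_not_mem (y : ProjectiveSpectrum 𝒬) :
    ∃ c : Fin (n + 1) → k, lin n k c ∉ y.asHomogeneousIdeal := by
  obtain ⟨i, hi⟩ := Groth.Agent.Lib.Helper27PnSections.exists_X_not_mem n k y
  exact ⟨Pi.single i 1, by rw [lin_single]; exact hi⟩

/-- the function `ℓ_c / ℓ_{c'}` on `D₊(ℓ_{c'})`. -/
noncomputable abbrev ratio (c c' : Fin (n + 1) → k) :
    Γ(Proj 𝒬, Proj.basicOpen 𝒬 (lin n k c')) :=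
  cfun 𝒬 1 (lin n k) (lin_mem n k) c c'

theorem mem_basicOpen_ratio_iff (c c' : Fin (n + 1) → k) (y : ProjectiveSpectrum 𝒬)
    (hy : y ∈ Proj.basicOpen 𝒬 (lin n k c')) :
    y ∈ (Proj 𝒬).basicOpen (ratio n k c c') ↔ lin n k c ∉ y.asHomogeneousIdeal := by
  rw [mem_basicOpen_iff_isUnit_funVal 𝒬 _ _ y hy]
  exact isUnit_of_val_eq_mk _ (not_mem_of_mem_basicOpen 𝒬 y hy)
    (funVal_fracFun 𝒬 _ (lin_mem n k c) (lin_mem n k c') _ y hy)

theorem ratio_sub_smul (c c' : Fin (n + 1) → k) (a : k) :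
    ratio n k (c - a • c') c' =
      ratio n k c c' - resf (le_top : Proj.basicOpen 𝒬 (lin n k c') ≤ ⊤) (constFun 𝒬 a) := by
  apply fun_ext_val
  intro y hy
  have hy' : lin n k c' ∉ y.asHomogeneousIdeal := not_mem_of_mem_basicOpen 𝒬 y hy
  have h1 : funVal 𝒬 _ (ratio n k c c' -
      resf (le_top : Proj.basicOpen 𝒬 (lin n k c') ≤ ⊤) (constFun 𝒬 a)) y hy =
      funVal 𝒬 _ (ratio n k c c') y hy - funVal 𝒬 ⊤ (constFun 𝒬 a) y trivial := rfl
  rw [h1, HomogeneousLocalization.val_sub,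
    Groth.Agent.Lib.Helper27PnSections.funVal_constFun_val 𝒬 (lin_mem n k c') Nat.one_pos a y hy',
    ratio, ratio, cfun, cfun, funVal_fracFun, funVal_fracFun, lin_sub_smul, Localization.sub_mk,
    Localization.mk_eq_mk_iff, Localization.r_iff_exists]
  refine ⟨1, ?_⟩
  simp only [OneMemClass.coe_one, one_mul, Submonoid.coe_mul, MvPolynomial.algebraMap_eq]
  ring

/-- the global section `ℓ_c` of `O(1)` is the combination of the coordinates. -/
theorem gsec_lin (c : Fin (n + 1) → k) :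
    gsec 𝒬 1 ⊤ (lin_mem n k c) =
      ∑ i, constFun 𝒬 (c i) • gsec 𝒬 1 ⊤ (Groth.Agent.Lib.Helper27ProjGamma.hX n k i) := by
  apply sec_ext
  intro y hy
  let ev : Γ(GrTilde.tilde 𝒬 𝒬 ((1 : ℕ) : ℤ), ⊤) →+ Twist.Loc 𝒬 y :=
    { toFun := fun s => secVal 𝒬 𝒬 ((1 : ℕ) : ℤ) ⊤ s y hy
      map_zero' := rfl
      map_add' := fun _ _ => rfl }
  have hev : ∀ s, secVal 𝒬 𝒬 ((1 : ℕ) : ℤ) ⊤ s y hy = ev s := fun _ => rfl
  rw [hev, hev, map_sum]
  obtain ⟨j, hj⟩ := Groth.Agent.Lib.Helper27PnSections.exists_X_not_mem n k y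
  have h1 : ∀ i, ev (constFun 𝒬 (c i) • gsec 𝒬 1 ⊤ (Groth.Agent.Lib.Helper27ProjGamma.hX n k i)) =
      algebraMap _ (Twist.Loc 𝒬 y) (C (c i) * X i) := by
    intro i
    change (secVal 𝒬 𝒬 ((1 : ℕ) : ℤ) ⊤ (constFun 𝒬 (c i) • gsec 𝒬 1 ⊤
      (Groth.Agent.Lib.Helper27ProjGamma.hX n k i)) y hy : Twist.Loc 𝒬 y) = _
    rw [secVal_smul', Groth.Agent.Lib.Helper27PnSections.funVal_constFun_val 𝒬
      (Groth.Agent.Lib.Helper27ProjGamma.hX n k j) Nat.one_pos (c i) y hj]
    change Localization.mk (algebraMap k _ (c i)) (1 : y.asHomogeneousIdeal.toIdeal.primeCompl) *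
      Localization.mk (X i) (1 : y.asHomogeneousIdeal.toIdeal.primeCompl) = _
    rw [Localization.mk_mul, one_mul, Localization.mk_one_eq_algebraMap,
      MvPolynomial.algebraMap_eq]
  simp_rw [h1]
  rw [← map_sum]
  change Localization.mk (lin n k c) (1 : y.asHomogeneousIdeal.toIdeal.primeCompl) = _
  rw [Localization.mk_one_eq_algebraMap]
  rfl

section Closed

variable [IsAlgClosed k]

instance : LocallyOfFiniteType (toBase 𝒬) :=
  have : IsProper (toBase 𝒬) := Groth.Agent.S9705.isProper_projSpace_toSpec n k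
  inferInstance

omit [IsAlgClosed k] in
theorem const_eq (U : (Proj 𝒬).Opens) (a : k) :
    const k (toBase 𝒬) U a = resf (le_top : U ≤ ⊤) (constFun 𝒬 a) := rfl

theorem primeIdealOf_eq_span (c' : Fin (n + 1) → k) (y : Proj 𝒬)
    (hy : y ∈ Proj.basicOpen 𝒬 (lin n k c')) (hcl : IsClosed ({y} : Set (Proj 𝒬))) :
    ((Proj.isAffineOpen_basicOpen 𝒬 (lin n k c') (lin_mem n k c') Nat.one_pos).primeIdealOf
        ⟨y, hy⟩).asIdeal =
      Ideal.span {a | ∃ c : Fin (n + 1) → k,
        lin n k c ∈ (show ProjectiveSpectrum 𝒬 from y).asHomogeneousIdeal ∧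
          a = ratio n k c c'} := by
  set hU := Proj.isAffineOpen_basicOpen 𝒬 (lin n k c') (lin_mem n k c') Nat.one_pos with hhU
  set U := Proj.basicOpen 𝒬 (lin n k c') with hUdef
  set m := (hU.primeIdealOf ⟨y, hy⟩).asIdeal with hm
  set I : Ideal Γ(Proj 𝒬, U) := Ideal.span {a | ∃ c : Fin (n + 1) → k,
        lin n k c ∈ (show ProjectiveSpectrum 𝒬 from y).asHomogeneousIdeal ∧
          a = ratio n k c c'} with hI
  have hmem : ∀ a : Γ(Proj 𝒬, U), a ∈ m ↔ y ∉ (Proj 𝒬).basicOpen a := by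
    intro a
    rw [mem_basicOpen_iff_notMem hU y hy a, not_not]
  -- `I ≤ m`
  have hIm : I ≤ m := by
    rw [hI, Ideal.span_le]
    rintro _ ⟨c, hc, rfl⟩
    change ratio n k c c' ∈ m
    rw [hmem]
    intro h
    exact (mem_basicOpen_ratio_iff n k c c' y hy).mp h hc
  -- every function is a constant modulo `I`
  let κ : k →+* Γ(Proj 𝒬, U) := const k (toBase 𝒬) U
  let E' : Subring Γ(Proj 𝒬, U) :=
    Subring.comap (Ideal.Quotient.mk I) (RingHom.range ((Ideal.Quotient.mk I).comp κ))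
  have hE'mem : ∀ a : Γ(Proj 𝒬, U), a ∈ E' ↔ ∃ r : k, a - κ r ∈ I := by
    intro a
    change (∃ r : k, Ideal.Quotient.mk I (κ r) = Ideal.Quotient.mk I a) ↔ _
    refine exists_congr fun r => ?_
    rw [eq_comm, Ideal.Quotient.eq]
  let E : Subring (Away 𝒬 (lin n k c')) := Subring.comap (Proj.awayToSection 𝒬 (lin n k c')).hom E'
  have hE : E = ⊤ := by
    apply Groth.Agent.Lib.Helper27AwayGen.subring_eq_top 𝒬 (lin_mem n k c') (lin n k) (lin_mem n k)
      (adjoin_range_lin n k) E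
    · intro r
      change (Proj.awayToSection 𝒬 (lin n k c')).hom _ ∈ E'
      rw [mk'_zero_eq, awayToSection_const 𝒬 (lin_mem n k c') Nat.one_pos, hE'mem]
      refine ⟨r, ?_⟩
      have : κ r = (Proj 𝒬).presheaf.map (homOfLE (le_top : U ≤ ⊤)).op (constFun 𝒬 r) := rfl
      rw [this, sub_self]
      exact I.zero_mem
    · intro c
      change (Proj.awayToSection 𝒬 (lin n k c')).hom _ ∈ E'
      rw [awayToSection_mk'_one, hE'mem]
      obtain ⟨r, hr⟩ := exists_sub_const_mem k (toBase 𝒬) hU y hy hcl (ratio n k c c')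
      refine ⟨r, ?_⟩
      have h1 : ratio n k (c - r • c') c' = ratio n k c c' - κ r := ratio_sub_smul n k c c' r
      change ratio n k c c' - κ r ∈ I
      rw [← h1]
      apply Ideal.subset_span
      refine ⟨c - r • c', ?_, rfl⟩
      by_contra hnot
      have h2 := (mem_basicOpen_ratio_iff n k (c - r • c') c' y hy).mpr hnot
      rw [h1] at h2
      exact ((hmem _).mp hr) h2
  have hsurj : Function.Surjective (Proj.awayToSection 𝒬 (lin n k c')).hom := by
    intro g
    obtain ⟨j, a, ha, h⟩ := exists_awayToSection_eq (lin_mem n k c') Nat.one_pos g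
    exact ⟨_, h⟩
  have hE' : ∀ a : Γ(Proj 𝒬, U), ∃ r : k, a - κ r ∈ I := by
    intro a
    obtain ⟨b, rfl⟩ := hsurj a
    rw [← hE'mem]
    have : b ∈ E := by rw [hE]; trivial
    exact this
  apply le_antisymm _ hIm
  intro a ha
  obtain ⟨r, hr⟩ := hE' a
  have h1 : κ r ∈ m := by
    have := m.sub_mem ha (hIm hr)
    rwa [sub_sub_cancel] at this
  have hr0 : r = 0 := by
    by_contra hne
    have hu : IsUnit (κ r) := (isUnit_iff_ne_zero.mpr hne).map κ
    exact (hU.primeIdealOf ⟨y, hy⟩).isPrime.ne_top (Ideal.eq_top_of_isUnit_mem _ h1 hu)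
  rw [hr0, map_zero, sub_zero] at hr
  exact hr

theorem maximalIdeal_eq_span (c' : Fin (n + 1) → k) (y : Proj 𝒬)
    (hy : y ∈ Proj.basicOpen 𝒬 (lin n k c')) (hcl : IsClosed ({y} : Set (Proj 𝒬))) :
    IsLocalRing.maximalIdeal ((Proj 𝒬).presheaf.stalk y) =
      Ideal.span {t | ∃ c : Fin (n + 1) → k,
        lin n k c ∈ (show ProjectiveSpectrum 𝒬 from y).asHomogeneousIdeal ∧
          t = ((Proj 𝒬).presheaf.germ (Proj.basicOpen 𝒬 (lin n k c')) y hy).hom
            (ratio n k c c')} := by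
  set hU := Proj.isAffineOpen_basicOpen 𝒬 (lin n k c') (lin_mem n k c') Nat.one_pos with hhU
  let _ := TopCat.Presheaf.algebra_section_stalk (Proj 𝒬).presheaf
    (⟨y, hy⟩ : (Proj.basicOpen 𝒬 (lin n k c') : (Proj 𝒬).Opens))
  have := hU.isLocalization_stalk ⟨y, hy⟩
  have h1 := IsLocalization.AtPrime.map_eq_maximalIdeal (hU.primeIdealOf ⟨y, hy⟩).asIdeal
    ((Proj 𝒬).presheaf.stalk y)
  rw [← h1, primeIdealOf_eq_span n k c' y hy hcl, Ideal.map_span]
  congr 1
  ext t
  constructor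
  · rintro ⟨_, ⟨c, hc, rfl⟩, rfl⟩
    exact ⟨c, hc, rfl⟩
  · rintro ⟨c, hc, rfl⟩
    exact ⟨_, ⟨c, hc, rfl⟩, rfl⟩

/-- linear forms separate the closed points of projective space. -/
theorem exists_lin_mem_not_mem (y y' : Proj 𝒬) (hcl : IsClosed ({y} : Set (Proj 𝒬)))
    (hne : y ≠ y') :
    ∃ c : Fin (n + 1) → k,
      lin n k c ∈ (show ProjectiveSpectrum 𝒬 from y).asHomogeneousIdeal ∧
        lin n k c ∉ (show ProjectiveSpectrum 𝒬 from y').asHomogeneousIdeal := by
  by_contra hcon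
  push Not at hcon
  obtain ⟨c', hc'⟩ := exists_lin_not_mem n k (show ProjectiveSpectrum 𝒬 from y)
  have hy : y ∈ Proj.basicOpen 𝒬 (lin n k c') :=
    (ProjectiveSpectrum.mem_basicOpen 𝒬 (lin n k c') y).mpr hc'
  set hU := Proj.isAffineOpen_basicOpen 𝒬 (lin n k c') (lin_mem n k c') Nat.one_pos with hhU
  -- every linear form is congruent to a multiple of `ℓ_{c'}` modulo `𝔭_y`
  have hval : ∀ c : Fin (n + 1) → k, ∃ r : k,
      lin n k (c - r • c') ∈ (show ProjectiveSpectrum 𝒬 from y).asHomogeneousIdeal := by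
    intro c
    obtain ⟨r, hr⟩ := exists_sub_const_mem k (toBase 𝒬) hU y hy hcl (ratio n k c c')
    refine ⟨r, ?_⟩
    by_contra hnot
    have h2 := (mem_basicOpen_ratio_iff n k (c - r • c') c' y hy).mpr hnot
    rw [ratio_sub_smul] at h2
    exact ((mem_basicOpen_iff_notMem hU y hy _).mp h2) hr
  have hc'y' : lin n k c' ∉ (show ProjectiveSpectrum 𝒬 from y').asHomogeneousIdeal := by
    intro hin
    obtain ⟨c, hc⟩ := exists_lin_not_mem n k (show ProjectiveSpectrum 𝒬 from y')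
    obtain ⟨r, hr⟩ := hval c
    have h1 := hcon _ hr
    rw [lin_sub_smul] at h1
    apply hc
    have h2 : lin n k c = (lin n k c - MvPolynomial.C r * lin n k c') +
        MvPolynomial.C r * lin n k c' := by ring
    rw [h2]
    exact Ideal.add_mem _ h1 (Ideal.mul_mem_left _ _ hin)
  have hy' : y' ∈ Proj.basicOpen 𝒬 (lin n k c') :=
    (ProjectiveSpectrum.mem_basicOpen 𝒬 (lin n k c') y').mpr hc'y'
  have hle : (hU.primeIdealOf ⟨y, hy⟩).asIdeal ≤ (hU.primeIdealOf ⟨y', hy'⟩).asIdeal := by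
    rw [primeIdealOf_eq_span n k c' y hy hcl, Ideal.span_le]
    rintro _ ⟨c, hc, rfl⟩
    change ratio n k c c' ∈ (hU.primeIdealOf ⟨y', hy'⟩).asIdeal
    by_contra hnot
    have h1 := (mem_basicOpen_iff_notMem hU y' hy' _).mpr hnot
    exact (mem_basicOpen_ratio_iff n k c c' y' hy').mp h1 (hcon c hc)
  have hmax := isMaximal_primeIdealOf hU y hy hcl
  have heq : (hU.primeIdealOf ⟨y, hy⟩).asIdeal = (hU.primeIdealOf ⟨y', hy'⟩).asIdeal :=
    hmax.eq_of_le (hU.primeIdealOf ⟨y', hy'⟩).isPrime.ne_top hle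
  apply hne
  have h1 := hU.fromSpec_primeIdealOf ⟨y, hy⟩
  have h2 := hU.fromSpec_primeIdealOf ⟨y', hy'⟩
  rw [PrimeSpectrum.ext heq] at h1
  exact h1.symm.trans h2

end Closed

end Lin

end Groth.Agent.R2.H49.PnLin
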