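import Mathlib
import Groth.Statements.S16092
import Groth.Prelude.Def_MeroDiv
import Groth.Agent.Lib.Helper23SecTw6

/-!
# Orders of rational sections of invertible modules add under tensor product (helper75)

* `ordFrac_mul`, `ordFrac_algebraMap_unit` : `CycAlg.ordFrac` is additive on products of nonzero elements and
  vanishes on units of the base ring.
* `stalkSpecializes_smul`, `sp_germ` : specialization maps of stalks of modules.
* `secOrdAt_eq` : `Cyc.secOrdAt` may be computed with any free generator of the stalk.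
* `bijective_germ_of_isGen` : a section-level generator (helper23's `IsGen`) freely generates every stalk.
* `germ_eq_coef_smul`, `germ_tm_eq` : change of frame on germs.
* `exists_tensor_section` : the main result, at an arbitrary point `ξ` of an arbitrary scheme.
-/

set_option autoImplicit false

universe u v

namespace Groth.Agent.R2.H75.OrdTensor

section OrdFrac

variable (R : Type u) [CommRing R] (K : Type v) [Field K] [Algebra R K]

theorem ordFrac_mul {f g : K} (hf : f ≠ 0) (hg : g ≠ 0) :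
    CycAlg.ordFrac R K (f * g) = CycAlg.ordFrac R K f + CycAlg.ordFrac R K g := by
  classical
  unfold CycAlg.ordFrac
  split_ifs with h
  · have := h.1; have := h.2.1; have := h.2.2.1; have := h.2.2.2
    rw [map_mul]
    have hf' : Ring.ordFrac R f ≠ 0 := by
      rw [ne_eq, map_eq_zero]; exact hf
    have hg' : Ring.ordFrac R g ≠ 0 := by
      rw [ne_eq, map_eq_zero]; exact hg
    obtain ⟨a, ha⟩ := WithZero.ne_zero_iff_exists.mp hf'
    obtain ⟨b, hb⟩ := WithZero.ne_zero_iff_exists.mp hg'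
    rw [← ha, ← hb, ← WithZero.coe_mul, WithZero.recZeroCoe_coe, WithZero.recZeroCoe_coe,
      WithZero.recZeroCoe_coe, toAdd_mul]
  · simp

theorem ordFrac_algebraMap_unit {u : R} (hu : IsUnit u) :
    CycAlg.ordFrac R K (algebraMap R K u) = 0 := by
  classical
  unfold CycAlg.ordFrac
  split_ifs with h
  · have := h.1; have := h.2.1; have := h.2.2.1; have := h.2.2.2
    have hu0 : u ≠ 0 := hu.ne_zero
    rw [Ring.ordFrac_eq_ord R hu0, Ring.ordMonoidWithZeroHom_eq_ord hu.mem_nonZeroDivisors,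
      Ring.ord_of_isUnit hu]
    simp
  · rfl

end OrdFrac

section Stalk

open AlgebraicGeometry CategoryTheory TopologicalSpace

variable {X : Scheme.{u}}

theorem sp_germ (L : X.Modules) {ξ x : X} (h : ξ ⤳ x) {U : X.Opens} (hx : x ∈ U) (s : Γ(L, U)) :
    L.presheaf.stalkSpecializes h (L.presheaf.germ U x hx s) =
      L.presheaf.germ U ξ (h.mem_open U.isOpen hx) s :=
  ConcreteCategory.congr_hom (TopCat.Presheaf.germ_stalkSpecializes L.presheaf hx h) s

theorem sp_germ_ring {ξ x : X} (h : ξ ⤳ x) {U : X.Opens} (hx : x ∈ U) (r : Γ(X, U)) :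
    X.presheaf.stalkSpecializes h (X.presheaf.germ U x hx r) =
      X.presheaf.germ U ξ (h.mem_open U.isOpen hx) r :=
  ConcreteCategory.congr_hom (TopCat.Presheaf.germ_stalkSpecializes X.presheaf hx h) r

theorem stalkSpecializes_smul (L : X.Modules) {ξ x : X} (h : ξ ⤳ x) (c : X.presheaf.stalk x)
    (m : L.presheaf.stalk x) :
    L.presheaf.stalkSpecializes h (c • m) =
      (X.presheaf.stalkSpecializes h c) • (L.presheaf.stalkSpecializes h m) := by
  obtain ⟨Uc, hc, r, rfl⟩ := TopCat.Presheaf.exists_germ_eq X.presheaf c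
  obtain ⟨Um, hm, s, rfl⟩ := TopCat.Presheaf.exists_germ_eq L.presheaf m
  rw [← TopCat.Presheaf.germ_res_apply X.presheaf (homOfLE (inf_le_left : Uc ⊓ Um ≤ Uc)) x ⟨hc, hm⟩,
    ← TopCat.Presheaf.germ_res_apply L.presheaf (homOfLE (inf_le_right : Uc ⊓ Um ≤ Um)) x ⟨hc, hm⟩,
    ← Mero.germ_smul, sp_germ, sp_germ, sp_germ_ring, Mero.germ_smul]

/-- If `γ` freely generates the stalk `L_ξ` and `c • γ ∈ 𝔪_ξ L_ξ` then `c ∈ 𝔪_ξ`. -/
theorem mem_maximalIdeal_of_smul_mem (L : X.Modules) (ξ : X) (γ : L.presheaf.stalk ξ)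
    (hγ : Function.Bijective (fun c : X.presheaf.stalk ξ => c • γ)) (c : X.presheaf.stalk ξ)
    (hc : c • γ ∈ (IsLocalRing.maximalIdeal (X.presheaf.stalk ξ) •
      (⊤ : Submodule (X.presheaf.stalk ξ) (L.presheaf.stalk ξ)))) :
    c ∈ IsLocalRing.maximalIdeal (X.presheaf.stalk ξ) := by
  have htop : (⊤ : Submodule (X.presheaf.stalk ξ) (L.presheaf.stalk ξ)) = Submodule.span _ {γ} := by
    symm
    rw [eq_top_iff]
    intro m _
    obtain ⟨d, rfl⟩ := hγ.2 m
    exact Submodule.smul_mem _ _ (Submodule.subset_span rfl)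
  rw [htop, Submodule.mem_smul_span_singleton] at hc
  obtain ⟨y, hy, hyc⟩ := hc
  have : y = c := hγ.1 hyc
  rwa [← this]

theorem mk_eq_zero_iff (L : X.Modules) (ξ : X) (γ : L.presheaf.stalk ξ)
    (hγ : Function.Bijective (fun c : X.presheaf.stalk ξ => c • γ)) (c : X.presheaf.stalk ξ) :
    (c • (Submodule.Quotient.mk γ : Cyc.secFibre L ξ) = 0) ↔
      c ∈ IsLocalRing.maximalIdeal (X.presheaf.stalk ξ) := by
  rw [← Submodule.Quotient.mk_smul, Submodule.Quotient.mk_eq_zero]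
  constructor
  · exact mem_maximalIdeal_of_smul_mem L ξ γ hγ c
  · intro hc
    exact Submodule.smul_mem_smul hc Submodule.mem_top

theorem ordAt_mul (x ξ : X) (h : ξ ⤳ x) {f g : X.residueField ξ} (hf : f ≠ 0) (hg : g ≠ 0) :
    Cyc.ordAt x ξ h (f * g) = Cyc.ordAt x ξ h f + Cyc.ordAt x ξ h g :=
  ordFrac_mul _ _ hf hg

theorem ordAt_specMap_unit (x ξ : X) (h : ξ ⤳ x) {u : X.presheaf.stalk x} (hu : IsUnit u) :
    Cyc.ordAt x ξ h (Cyc.specMap x ξ h u) = 0 := by
  have : Cyc.specMap x ξ h u = algebraMap (Cyc.LocQuot x ξ h) (X.residueField ξ)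
      (Ideal.Quotient.mk _ u) := rfl
  unfold Cyc.ordAt
  rw [this]
  exact ordFrac_algebraMap_unit _ _ (hu.map _)

theorem residue_eq_zero_iff (ξ : X) (c : X.presheaf.stalk ξ) :
    X.residue ξ c = 0 ↔ c ∈ IsLocalRing.maximalIdeal (X.presheaf.stalk ξ) :=
  IsLocalRing.residue_eq_zero_iff c

/-- Computing `secOrdAt` with respect to any free generator. -/
theorem secOrdAt_eq (L : X.Modules) (ξ x : X) (h : ξ ⤳ x) (g : L.presheaf.stalk x)
    (hg : Function.Bijective (fun c : X.presheaf.stalk x => c • g))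
    (hg' : Function.Bijective (fun c : X.presheaf.stalk ξ =>
      c • (L.presheaf.stalkSpecializes h g)))
    (s : Cyc.secFibre L ξ) (φ : X.presheaf.stalk ξ)
    (hs : s = φ • (Submodule.Quotient.mk (L.presheaf.stalkSpecializes h g) : Cyc.secFibre L ξ)) :
    Cyc.secOrdAt L ξ x h s = Cyc.ordAt x ξ h (X.residue ξ φ) := by
  classical
  have ht : ∃ t : L.presheaf.stalk x, Submodule.span (X.presheaf.stalk x) {t} = ⊤ := by
    refine ⟨g, ?_⟩
    rw [eq_top_iff]
    intro m _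
    obtain ⟨d, rfl⟩ := hg.2 m
    exact Submodule.smul_mem _ _ (Submodule.subset_span rfl)
  unfold Cyc.secOrdAt
  rw [dif_pos ht]
  set t₀ := Classical.choose ht with ht₀def
  have ht₀ : Submodule.span (X.presheaf.stalk x) {t₀} = ⊤ := Classical.choose_spec ht
  obtain ⟨v, hv⟩ : ∃ v : X.presheaf.stalk x, v • t₀ = g := by
    have : g ∈ Submodule.span (X.presheaf.stalk x) {t₀} := by rw [ht₀]; trivial
    exact Submodule.mem_span_singleton.mp this
  obtain ⟨u, hu⟩ : ∃ u : X.presheaf.stalk x, u • g = t₀ := hg.2 t₀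
  have hvu : v * u = 1 := by
    apply hg.1
    change (v * u) • g = (1 : X.presheaf.stalk x) • g
    rw [mul_smul, hu, hv, one_smul]
  have huunit : IsUnit u := IsUnit.of_mul_eq_one v (by rw [mul_comm]; exact hvu)
  have hspt₀ : L.presheaf.stalkSpecializes h t₀ =
      X.presheaf.stalkSpecializes h u • L.presheaf.stalkSpecializes h g := by
    rw [← hu, stalkSpecializes_smul]
  have hspg : L.presheaf.stalkSpecializes h g =
      X.presheaf.stalkSpecializes h v • L.presheaf.stalkSpecializes h t₀ := by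
    conv_lhs => rw [← hv]
    rw [stalkSpecializes_smul]
  have hφ : ∃ φ' : X.presheaf.stalk ξ,
      s = φ' • (Submodule.Quotient.mk (L.presheaf.stalkSpecializes h t₀) : Cyc.secFibre L ξ) := by
    refine ⟨φ * X.presheaf.stalkSpecializes h v, ?_⟩
    rw [hs, mul_smul]
    congr 1
    rw [← Submodule.Quotient.mk_smul, ← hspg]
  rw [dif_pos hφ]
  set φ₀ := Classical.choose hφ with hφ₀def
  have hφ₀ : s = φ₀ • (Submodule.Quotient.mk (L.presheaf.stalkSpecializes h t₀) :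
      Cyc.secFibre L ξ) := Classical.choose_spec hφ
  -- compare
  have hmem : φ₀ * X.presheaf.stalkSpecializes h u - φ ∈
      IsLocalRing.maximalIdeal (X.presheaf.stalk ξ) := by
    rw [← mk_eq_zero_iff L ξ _ hg', sub_smul, mul_smul, ← hs, ← Submodule.Quotient.mk_smul,
      ← hspt₀, ← hφ₀, sub_self]
  have hres : X.residue ξ φ = X.residue ξ φ₀ * Cyc.specMap x ξ h u := by
    have h0 := (residue_eq_zero_iff ξ _).mpr hmem
    rw [map_sub, map_mul, sub_eq_zero] at h0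
    rw [← h0]
    rfl
  rw [hres]
  by_cases hz : X.residue ξ φ₀ = 0
  · rw [hz, zero_mul]
  · have hune : Cyc.specMap x ξ h u ≠ 0 := (huunit.map (Cyc.specMap x ξ h)).ne_zero
    rw [ordAt_mul x ξ h hz hune, ordAt_specMap_unit x ξ h huunit, add_zero]

end Stalk

section Frames

open AlgebraicGeometry CategoryTheory TopologicalSpace
open Groth.Agent.Lib.Helper23.SecTw Groth.Agent.Lib.Helper6

variable {X : Scheme.{u}}

/-- A section-level generator gives a free generator of every stalk. -/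
theorem bijective_germ_of_isGen (M : X.Modules) (W : X.Opens) (e : Γ(M, W)) (he : IsGen M W e)
    (y : X) (hy : y ∈ W) :
    Function.Bijective (fun c : X.presheaf.stalk y => c • M.presheaf.germ W y hy e) := by
  have hinj : ∀ c : X.presheaf.stalk y, c • M.presheaf.germ W y hy e = 0 → c = 0 := by
    intro c hc
    obtain ⟨U, hyU, r, rfl⟩ := TopCat.Presheaf.exists_germ_eq X.presheaf c
    have hyV : y ∈ U ⊓ W := ⟨hyU, hy⟩
    rw [← TopCat.Presheaf.germ_res_apply X.presheaf (homOfLE (inf_le_left : U ⊓ W ≤ U)) y hyV,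
      ← TopCat.Presheaf.germ_res_apply M.presheaf (homOfLE (inf_le_right : U ⊓ W ≤ W)) y hyV,
      ← Mero.germ_smul] at hc
    rw [← map_zero (M.presheaf.germ (U ⊓ W) y hyV).hom] at hc
    obtain ⟨V', hyV', i₁, i₂, h2⟩ := TopCat.Presheaf.germ_eq M.presheaf y hyV hyV _ _ hc
    rw [map_zero] at h2
    have hle : V' ≤ W := (leOfHom i₁).trans inf_le_right
    have h3 : resf (leOfHom i₁) (resf (inf_le_left : U ⊓ W ≤ U) r) • res M hle e = 0 := by
      have := h2
      change res M (leOfHom i₁) _ = 0 at this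
      rw [res_smul, res_res] at this
      exact this
    have h4 : resf (leOfHom i₁) (resf (inf_le_left : U ⊓ W ≤ U) r) = 0 := by
      apply (he V' hle).1
      change _ • res M hle e = (0 : Γ(X, V')) • res M hle e
      rw [h3, zero_smul]
    rw [← TopCat.Presheaf.germ_res_apply X.presheaf (homOfLE (inf_le_left : U ⊓ W ≤ U)) y hyV,
      ← TopCat.Presheaf.germ_res_apply X.presheaf i₁ y hyV']
    change X.presheaf.germ V' y hyV' (resf (leOfHom i₁) (resf (inf_le_left : U ⊓ W ≤ U) r)) = 0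
    rw [h4, map_zero]
  constructor
  · intro c c' h
    have : (c - c') • M.presheaf.germ W y hy e = 0 := by rw [sub_smul]; exact sub_eq_zero.2 h
    exact sub_eq_zero.1 (hinj _ this)
  · intro m
    obtain ⟨U, hyU, s, rfl⟩ := TopCat.Presheaf.exists_germ_eq M.presheaf m
    have hyV : y ∈ U ⊓ W := ⟨hyU, hy⟩
    obtain ⟨r, hr⟩ := (he (U ⊓ W) inf_le_right).2 (res M (inf_le_left : U ⊓ W ≤ U) s)
    refine ⟨X.presheaf.germ (U ⊓ W) y hyV r, ?_⟩
    change X.presheaf.germ (U ⊓ W) y hyV r • M.presheaf.germ W y hy e = _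
    rw [← TopCat.Presheaf.germ_res_apply M.presheaf (homOfLE (inf_le_right : U ⊓ W ≤ W)) y hyV,
      ← Mero.germ_smul]
    have hr' : r • res M (inf_le_right : U ⊓ W ≤ W) e = res M (inf_le_left : U ⊓ W ≤ U) s := hr
    change M.presheaf.germ (U ⊓ W) y hyV (r • res M (inf_le_right : U ⊓ W ≤ W) e) = _
    rw [hr']
    exact TopCat.Presheaf.germ_res_apply M.presheaf (homOfLE (inf_le_left : U ⊓ W ≤ U)) y hyV s

theorem germ_res' (M : X.Modules) {U V : X.Opens} (hle : V ≤ U) (y : X) (hy : y ∈ V) (m : Γ(M, U)) :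
    M.presheaf.germ V y hy (res M hle m) = M.presheaf.germ U y (hle hy) m :=
  TopCat.Presheaf.germ_res_apply M.presheaf (homOfLE hle) y hy m

/-- Change of frame at the level of germs. -/
theorem germ_eq_coef_smul (M : X.Modules) {W V₀ : X.Opens} {e : Γ(M, W)} (he : IsGen M W e)
    (e₀ : Γ(M, V₀)) (y : X) (hyW : y ∈ W) (hy0 : y ∈ V₀) :
    M.presheaf.germ V₀ y hy0 e₀ =
      X.presheaf.germ (W ⊓ V₀) y ⟨hyW, hy0⟩
        (coef he (inf_le_left : W ⊓ V₀ ≤ W) (res M (inf_le_right : W ⊓ V₀ ≤ V₀) e₀)) •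
      M.presheaf.germ W y hyW e := by
  rw [← germ_res' M (inf_le_right : W ⊓ V₀ ≤ V₀) y ⟨hyW, hy0⟩ e₀,
    ← germ_res' M (inf_le_left : W ⊓ V₀ ≤ W) y ⟨hyW, hy0⟩ e, ← Mero.germ_smul]
  congr 1
  exact (coef_spec he inf_le_left _).symm

theorem germ_tm_eq (L N : X.Modules) {W V₀ : X.Opens} {eL : Γ(L, W)} {eN : Γ(N, W)}
    (heL : IsGen L W eL) (heN : IsGen N W eN) (eL₀ : Γ(L, V₀)) (eN₀ : Γ(N, V₀))
    (y : X) (hyW : y ∈ W) (hy0 : y ∈ V₀) :
    (CohB1.tensorMod L N).presheaf.germ V₀ y hy0 (tm L N V₀ eL₀ eN₀) =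
      (X.presheaf.germ (W ⊓ V₀) y ⟨hyW, hy0⟩
          (coef heL (inf_le_left : W ⊓ V₀ ≤ W) (res L (inf_le_right : W ⊓ V₀ ≤ V₀) eL₀)) *
        X.presheaf.germ (W ⊓ V₀) y ⟨hyW, hy0⟩
          (coef heN (inf_le_left : W ⊓ V₀ ≤ W) (res N (inf_le_right : W ⊓ V₀ ≤ V₀) eN₀))) •
      (CohB1.tensorMod L N).presheaf.germ W y hyW (tm L N W eL eN) := by
  rw [← germ_res' _ (inf_le_right : W ⊓ V₀ ≤ V₀) y ⟨hyW, hy0⟩ (tm L N V₀ eL₀ eN₀),
    ← germ_res' _ (inf_le_left : W ⊓ V₀ ≤ W) y ⟨hyW, hy0⟩ (tm L N W eL eN), ← map_mul,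
    ← Mero.germ_smul]
  congr 1
  rw [res_tm, res_tm, ← coef_spec heL inf_le_left (res L (inf_le_right : W ⊓ V₀ ≤ V₀) eL₀),
    ← coef_spec heN inf_le_left (res N (inf_le_right : W ⊓ V₀ ≤ V₀) eN₀), tm_smul_left,
    tm_smul_right, smul_smul]
  rw [coef_spec heL, coef_spec heN]

theorem mk_ne_zero_coef (M : X.Modules) (ξ : X) (γ : M.presheaf.stalk ξ)
    (hγ : Function.Bijective (fun c : X.presheaf.stalk ξ => c • γ)) (a : X.presheaf.stalk ξ)
    (h : (Submodule.Quotient.mk (a • γ) : Cyc.secFibre M ξ) ≠ 0) :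
    a ∉ IsLocalRing.maximalIdeal (X.presheaf.stalk ξ) := by
  intro ha
  apply h
  rw [Submodule.Quotient.mk_smul]
  exact (mk_eq_zero_iff M ξ γ hγ a).mpr ha

/-- **Orders of rational sections add under tensor product** (at an arbitrary point `ξ`). -/
theorem exists_tensor_section (L N : X.Modules) (hL : PicF.IsInvertible L)
    (hN : PicF.IsInvertible N) (ξ : X) (s : Cyc.secFibre L ξ) (hs : s ≠ 0)
    (t : Cyc.secFibre N ξ) (ht : t ≠ 0) :
    ∃ w : Cyc.secFibre (CohB1.tensorMod L N) ξ, w ≠ 0 ∧ ∀ (x : X) (h : ξ ⤳ x),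
      Cyc.secOrdAt (CohB1.tensorMod L N) ξ x h w =
        Cyc.secOrdAt L ξ x h s + Cyc.secOrdAt N ξ x h t := by
  -- frame at `ξ`
  obtain ⟨W₁, e₁, hξ₁, he₁⟩ := exists_gen L hL ξ
  obtain ⟨W₂, e₂, hξ₂, he₂⟩ := exists_gen N hN ξ
  set V₀ : X.Opens := W₁ ⊓ W₂ with hV₀
  have hξ0 : ξ ∈ V₀ := ⟨hξ₁, hξ₂⟩
  set eL₀ : Γ(L, V₀) := res L (inf_le_left : V₀ ≤ W₁) e₁ with heL₀def
  set eN₀ : Γ(N, V₀) := res N (inf_le_right : V₀ ≤ W₂) e₂ with heN₀def
  have heL₀ : IsGen L V₀ eL₀ := he₁.mono inf_le_left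
  have heN₀ : IsGen N V₀ eN₀ := he₂.mono inf_le_right
  have heT₀ : IsGen (CohB1.tensorMod L N) V₀ (tm L N V₀ eL₀ eN₀) := isGen_tm L N V₀ eL₀ eN₀ heL₀ heN₀
  set γL₀ := L.presheaf.germ V₀ ξ hξ0 eL₀ with hγL₀def
  set γN₀ := N.presheaf.germ V₀ ξ hξ0 eN₀ with hγN₀def
  set γT₀ := (CohB1.tensorMod L N).presheaf.germ V₀ ξ hξ0 (tm L N V₀ eL₀ eN₀) with hγT₀def
  have hγL₀ := bijective_germ_of_isGen L V₀ eL₀ heL₀ ξ hξ0
  have hγN₀ := bijective_germ_of_isGen N V₀ eN₀ heN₀ ξ hξ0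
  have hγT₀ := bijective_germ_of_isGen _ V₀ _ heT₀ ξ hξ0
  obtain ⟨σ, rfl⟩ := Submodule.Quotient.mk_surjective _ s
  obtain ⟨τ, rfl⟩ := Submodule.Quotient.mk_surjective _ t
  obtain ⟨a₀, ha₀⟩ : ∃ a₀ : X.presheaf.stalk ξ, a₀ • γL₀ = σ := hγL₀.2 σ
  obtain ⟨b₀, hb₀⟩ : ∃ b₀ : X.presheaf.stalk ξ, b₀ • γN₀ = τ := hγN₀.2 τ
  subst ha₀
  subst hb₀
  have ha₀m := mk_ne_zero_coef L ξ γL₀ hγL₀ a₀ hs
  have hb₀m := mk_ne_zero_coef N ξ γN₀ hγN₀ b₀ ht
  refine ⟨(a₀ * b₀) • (Submodule.Quotient.mk γT₀ : Cyc.secFibre (CohB1.tensorMod L N) ξ), ?_, ?_⟩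
  · intro hw
    rw [mk_eq_zero_iff _ ξ γT₀ hγT₀] at hw
    rcases (IsLocalRing.maximalIdeal.isMaximal _).isPrime.mem_or_mem hw with h | h
    · exact ha₀m h
    · exact hb₀m h
  · intro x h
    -- frame at `x`
    obtain ⟨W₁', e₁', hx₁, he₁'⟩ := exists_gen L hL x
    obtain ⟨W₂', e₂', hx₂, he₂'⟩ := exists_gen N hN x
    set W : X.Opens := W₁' ⊓ W₂' with hWdef
    have hx : x ∈ W := ⟨hx₁, hx₂⟩
    have hξW : ξ ∈ W := h.mem_open W.isOpen hx
    set eL : Γ(L, W) := res L (inf_le_left : W ≤ W₁') e₁' with heLdef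
    set eN : Γ(N, W) := res N (inf_le_right : W ≤ W₂') e₂' with heNdef
    have heL : IsGen L W eL := he₁'.mono inf_le_left
    have heN : IsGen N W eN := he₂'.mono inf_le_right
    have heT : IsGen (CohB1.tensorMod L N) W (tm L N W eL eN) := isGen_tm L N W eL eN heL heN
    set cL := X.presheaf.germ (W ⊓ V₀) ξ ⟨hξW, hξ0⟩
      (coef heL (inf_le_left : W ⊓ V₀ ≤ W) (res L (inf_le_right : W ⊓ V₀ ≤ V₀) eL₀)) with hcL
    set cN := X.presheaf.germ (W ⊓ V₀) ξ ⟨hξW, hξ0⟩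
      (coef heN (inf_le_left : W ⊓ V₀ ≤ W) (res N (inf_le_right : W ⊓ V₀ ≤ V₀) eN₀)) with hcN
    have e1 : γL₀ = cL • L.presheaf.germ W ξ hξW eL := germ_eq_coef_smul L heL eL₀ ξ hξW hξ0
    have e2 : γN₀ = cN • N.presheaf.germ W ξ hξW eN := germ_eq_coef_smul N heN eN₀ ξ hξW hξ0
    have e3 : γT₀ = (cL * cN) • (CohB1.tensorMod L N).presheaf.germ W ξ hξW (tm L N W eL eN) :=
      germ_tm_eq L N heL heN eL₀ eN₀ ξ hξW hξ0
    -- the three computations
    have hL1 := secOrdAt_eq L ξ x h (L.presheaf.germ W x hx eL)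
      (bijective_germ_of_isGen L W eL heL x hx)
      (by rw [sp_germ]; exact bijective_germ_of_isGen L W eL heL ξ hξW)
      (Submodule.Quotient.mk (a₀ • γL₀)) (a₀ * cL)
      (by rw [sp_germ, e1, smul_smul, Submodule.Quotient.mk_smul])
    have hN1 := secOrdAt_eq N ξ x h (N.presheaf.germ W x hx eN)
      (bijective_germ_of_isGen N W eN heN x hx)
      (by rw [sp_germ]; exact bijective_germ_of_isGen N W eN heN ξ hξW)
      (Submodule.Quotient.mk (b₀ • γN₀)) (b₀ * cN)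
      (by rw [sp_germ, e2, smul_smul, Submodule.Quotient.mk_smul])
    have hT1 := secOrdAt_eq (CohB1.tensorMod L N) ξ x h
      ((CohB1.tensorMod L N).presheaf.germ W x hx (tm L N W eL eN))
      (bijective_germ_of_isGen _ W _ heT x hx)
      (by rw [sp_germ]; exact bijective_germ_of_isGen _ W _ heT ξ hξW)
      ((a₀ * b₀) • (Submodule.Quotient.mk γT₀ : Cyc.secFibre (CohB1.tensorMod L N) ξ))
      ((a₀ * b₀) * (cL * cN))
      (by rw [sp_germ, e3, Submodule.Quotient.mk_smul, smul_smul])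
    rw [hL1, hN1, hT1]
    have hprod : X.residue ξ ((a₀ * b₀) * (cL * cN)) =
        X.residue ξ (a₀ * cL) * X.residue ξ (b₀ * cN) := by
      have h4 : (a₀ * b₀) * (cL * cN) = (a₀ * cL) * (b₀ * cN) := by ring
      rw [h4, map_mul]
    rw [hprod]
    apply ordAt_mul
    · rw [ne_eq, residue_eq_zero_iff]
      intro hmem
      apply hs
      rw [e1, smul_smul, Submodule.Quotient.mk_smul]
      exact (mk_eq_zero_iff L ξ _ (bijective_germ_of_isGen L W eL heL ξ hξW) _).mpr hmem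
    · rw [ne_eq, residue_eq_zero_iff]
      intro hmem
      apply ht
      rw [e2, smul_smul, Submodule.Quotient.mk_smul]
      exact (mk_eq_zero_iff N ξ _ (bijective_germ_of_isGen N W eN heN ξ hξW) _).mpr hmem

end Frames

end Groth.Agent.R2.H75.OrdTensor
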