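import Mathlib
import Groth.Agent.R2.H49PnLin
import Groth.Agent.R2.H75OrdTensor

/-!
# Pull-backs of linear forms along a morphism to projective space (helper49)

`f : X ⟶ P^n_k`, `L = f^* O(1)`, `s_c = ∑ c_i f^* T_i`.
* `germ_sc_mem_iff` : `s_c` vanishes at `P` iff the linear form `ℓ_c` vanishes at `f P`.
* `tangent_iff` : the sections vanishing at `P` span `m_P L_P / m_P² L_P` iff
  `m_{f P} O_{X,P} + m_P² = m_P`.
-/

set_option autoImplicit false
universe u

open CategoryTheory CategoryTheory.Limits AlgebraicGeometry TopologicalSpace Opposite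
  HomogeneousLocalization

namespace Groth.Agent.R2.H49.PnLinPull

section Algebra

variable {R M : Type*} [CommRing R] [AddCommGroup M] [Module R M]

theorem smul_top_eq_map (g : M) (hg : Function.Surjective (fun a : R => a • g)) (I : Ideal R) :
    I • (⊤ : Submodule R M) = Submodule.map (LinearMap.toSpanSingleton R M g) I := by
  have h1 : (⊤ : Submodule R M) = Submodule.map (LinearMap.toSpanSingleton R M g) ⊤ := by
    rw [Submodule.map_top]
    exact (LinearMap.range_eq_top.mpr hg).symm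
  rw [h1, ← Submodule.map_smul'', smul_eq_mul, Ideal.mul_top]

theorem smul_mem_smul_top_iff (g : M) (hg : Function.Bijective (fun a : R => a • g))
    (I : Ideal R) (t : R) : t • g ∈ I • (⊤ : Submodule R M) ↔ t ∈ I := by
  rw [smul_top_eq_map g hg.2 I]
  constructor
  · rintro ⟨a, ha, hag⟩
    have h : a = t := hg.1 hag
    exact h ▸ ha
  · intro ht
    exact ⟨t, ht, rfl⟩

theorem smul_top_le_iff (g : M) (hg : Function.Bijective (fun a : R => a • g)) (I J : Ideal R)
    (T : Set R) :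
    I • (⊤ : Submodule R M) ≤ Submodule.span R ((fun a : R => a • g) '' T) ⊔ J • ⊤ ↔
      I ≤ Ideal.span T ⊔ J := by
  rw [smul_top_eq_map g hg.2 I, smul_top_eq_map g hg.2 J]
  have h : Submodule.span R ((fun a : R => a • g) '' T) =
      Submodule.map (LinearMap.toSpanSingleton R M g) (Ideal.span T) := by
    rw [Ideal.span, Submodule.map_span]
    rfl
  rw [h, ← Submodule.map_sup]
  exact Submodule.map_le_map_iff_of_injective hg.1 _ _

end Algebra

section Main

open Groth.Agent.Lib.Helper27GrTildeSect Groth.Agent.Lib.Helper23.SecTw Groth.Agent.Lib.Helper6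
  Groth.Agent.Helper13PullbackUnit Groth.Agent.R2.H49.PnLin Groth.Agent.R2.H75.OrdTensor

variable (n : ℕ) (k : Type u) [Field k] {X : Scheme.{u}}

local notation "𝒬" => CohB1.polyGrading n k
local notation "𝒪1" => GrTilde.tilde (CohB1.polyGrading n k) (CohB1.polyGrading n k) ((1 : ℕ) : ℤ)

variable (f : X ⟶ Proj (CohB1.polyGrading n k))

/-- the section `s_c = ∑ c_i f^* T_i` of `f^* O(1)`. -/
noncomputable def sc (c : Fin (n + 1) → k) : Γ((Scheme.Modules.pullback f).obj 𝒪1, ⊤) :=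
  ∑ i, ProjUP.toGlobal (f ≫ toBase 𝒬) (c i) •
    ProjUP.pullSec f 𝒪1 (gsec 𝒬 1 ⊤ (Groth.Agent.Lib.Helper27ProjGamma.hX n k i))

theorem unitSec_top (h : (⊤ : X.Opens) ≤ f ⁻¹ᵁ ⊤) (x : ProjUP.Γm 𝒪1) :
    unitSec f 𝒪1 h x = ProjUP.pullSec f 𝒪1 x := by
  rw [unitSec_apply]
  exact res_self ((Scheme.Modules.pullback f).obj 𝒪1) (ProjUP.pullSec f 𝒪1 x)

theorem sc_eq (c : Fin (n + 1) → k) :
    sc n k f c = ProjUP.pullSec f 𝒪1 (gsec 𝒬 1 ⊤ (lin_mem n k c)) := by
  have h : (⊤ : X.Opens) ≤ f ⁻¹ᵁ ⊤ := le_top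
  rw [← unitSec_top n k f h, gsec_lin, map_sum, sc]
  refine Finset.sum_congr rfl fun i _ => ?_
  rw [unitSec_smul, unitSec_top]
  congr 1
  have e2 : f.appLE ⊤ ⊤ h = f.appTop := by
    have := Scheme.Hom.appLE_eq_app (f := f) (U := ⊤)
    exact this
  rw [e2, ProjUP.toGlobal, constFun, Scheme.Hom.comp_appTop]
  rfl

/-- the germ of `s_c` at `P`, in terms of the generator `f^* ℓ_{c'}` near `P`. -/
theorem germ_sc (c c' : Fin (n + 1) → k) (P : X)
    (hP : P ∈ f ⁻¹ᵁ Proj.basicOpen 𝒬 (lin n k c')) :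
    ((Scheme.Modules.pullback f).obj 𝒪1).presheaf.germ ⊤ P trivial (sc n k f c) =
      X.presheaf.germ (f ⁻¹ᵁ Proj.basicOpen 𝒬 (lin n k c')) P hP
          (f.appLE (Proj.basicOpen 𝒬 (lin n k c')) (f ⁻¹ᵁ Proj.basicOpen 𝒬 (lin n k c')) le_rfl
            (ratio n k c c')) •
        ((Scheme.Modules.pullback f).obj 𝒪1).presheaf.germ
          (f ⁻¹ᵁ Proj.basicOpen 𝒬 (lin n k c')) P hP (pj 𝒬 (lin n k) (lin_mem n k) f c') := by
  rw [sc_eq, ← germ_res' ((Scheme.Modules.pullback f).obj 𝒪1)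
    (le_top : f ⁻¹ᵁ Proj.basicOpen 𝒬 (lin n k c') ≤ ⊤) P hP,
    res_pullSec_eq 𝒬 (lin n k) (lin_mem n k) f c c', Mero.germ_smul]

theorem bijective_germ_pj (c' : Fin (n + 1) → k) (P : X)
    (hP : P ∈ f ⁻¹ᵁ Proj.basicOpen 𝒬 (lin n k c')) :
    Function.Bijective (fun a : X.presheaf.stalk P =>
      a • ((Scheme.Modules.pullback f).obj 𝒪1).presheaf.germ
          (f ⁻¹ᵁ Proj.basicOpen 𝒬 (lin n k c')) P hP (pj 𝒬 (lin n k) (lin_mem n k) f c')) :=
  bijective_germ_of_isGen _ _ _ (isGen_pj 𝒬 (lin n k) (lin_mem n k) f c') P hP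

/-- the coefficient of `s_c` with respect to the generator lies in `m_P` iff `ℓ_c` vanishes at `f P`. -/
theorem germ_appLE_ratio_mem_iff (c c' : Fin (n + 1) → k) (P : X)
    (hP : P ∈ f ⁻¹ᵁ Proj.basicOpen 𝒬 (lin n k c')) :
    X.presheaf.germ (f ⁻¹ᵁ Proj.basicOpen 𝒬 (lin n k c')) P hP
          (f.appLE (Proj.basicOpen 𝒬 (lin n k c')) (f ⁻¹ᵁ Proj.basicOpen 𝒬 (lin n k c')) le_rfl
            (ratio n k c c')) ∈ IsLocalRing.maximalIdeal (X.presheaf.stalk P) ↔
      lin n k c ∈ (show ProjectiveSpectrum 𝒬 from f P).asHomogeneousIdeal := by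
  rw [IsLocalRing.mem_maximalIdeal, mem_nonunits_iff, ← Scheme.mem_basicOpen X _ P hP,
    Scheme.Hom.appLE_eq_app, ← Scheme.preimage_basicOpen]
  have h := mem_basicOpen_ratio_iff n k c c' (show ProjectiveSpectrum 𝒬 from f P) hP
  constructor
  · intro h1
    by_contra h2
    exact h1 (h.mpr h2)
  · intro h1 h2
    exact h.mp h2 h1

theorem germ_sc_mem_iff (c : Fin (n + 1) → k) (P : X) :
    ((Scheme.Modules.pullback f).obj 𝒪1).presheaf.germ ⊤ P trivial (sc n k f c) ∈
        IsLocalRing.maximalIdeal (X.presheaf.stalk P) •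
          (⊤ : Submodule (X.presheaf.stalk P)
            (((Scheme.Modules.pullback f).obj 𝒪1).presheaf.stalk P)) ↔
      lin n k c ∈ (show ProjectiveSpectrum 𝒬 from f P).asHomogeneousIdeal := by
  obtain ⟨c', hc'⟩ := exists_lin_not_mem n k (show ProjectiveSpectrum 𝒬 from f P)
  have hP : P ∈ f ⁻¹ᵁ Proj.basicOpen 𝒬 (lin n k c') :=
    (ProjectiveSpectrum.mem_basicOpen 𝒬 (lin n k c') (f P)).mpr hc'
  rw [germ_sc n k f c c' P hP, smul_mem_smul_top_iff _ (bijective_germ_pj n k f c' P hP),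
    germ_appLE_ratio_mem_iff]

theorem map_mem_maximalIdeal_iff {A B : Type*} [CommRing A] [CommRing B] [IsLocalRing A]
    [IsLocalRing B] (φ : A →+* B) [IsLocalHom φ] (a : A) :
    φ a ∈ IsLocalRing.maximalIdeal B ↔ a ∈ IsLocalRing.maximalIdeal A := by
  rw [IsLocalRing.mem_maximalIdeal, IsLocalRing.mem_maximalIdeal, mem_nonunits_iff,
    mem_nonunits_iff, isUnit_map_iff]

/-- the sections `s_c` vanishing at `P` span `m_P L_P` modulo `m_P² L_P` iff
`m_{f P} O_{X,P} + m_P² = m_P`. -/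
theorem tangent_iff [IsAlgClosed k] (P : X) (hcl : IsClosed ({f P} : Set (Proj 𝒬))) :
    (IsLocalRing.maximalIdeal (X.presheaf.stalk P) •
        (⊤ : Submodule (X.presheaf.stalk P)
          (((Scheme.Modules.pullback f).obj 𝒪1).presheaf.stalk P)) ≤
      Submodule.span (X.presheaf.stalk P)
        {v | ∃ c : Fin (n + 1) → k,
          v = ((Scheme.Modules.pullback f).obj 𝒪1).presheaf.germ ⊤ P trivial (sc n k f c) ∧
          v ∈ IsLocalRing.maximalIdeal (X.presheaf.stalk P) •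
            (⊤ : Submodule (X.presheaf.stalk P)
              (((Scheme.Modules.pullback f).obj 𝒪1).presheaf.stalk P))} ⊔
        IsLocalRing.maximalIdeal (X.presheaf.stalk P) ^ 2 •
          (⊤ : Submodule (X.presheaf.stalk P)
            (((Scheme.Modules.pullback f).obj 𝒪1).presheaf.stalk P))) ↔
      Ideal.map (f.stalkMap P).hom (IsLocalRing.maximalIdeal ((Proj 𝒬).presheaf.stalk (f P))) ⊔
          IsLocalRing.maximalIdeal (X.presheaf.stalk P) ^ 2 =
        IsLocalRing.maximalIdeal (X.presheaf.stalk P) := by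
  obtain ⟨c', hc'⟩ := exists_lin_not_mem n k (show ProjectiveSpectrum 𝒬 from f P)
  have hP : P ∈ f ⁻¹ᵁ Proj.basicOpen 𝒬 (lin n k c') :=
    (ProjectiveSpectrum.mem_basicOpen 𝒬 (lin n k c') (f P)).mpr hc'
  set g := ((Scheme.Modules.pullback f).obj 𝒪1).presheaf.germ
      (f ⁻¹ᵁ Proj.basicOpen 𝒬 (lin n k c')) P hP (pj 𝒬 (lin n k) (lin_mem n k) f c') with hg
  have hgb := bijective_germ_pj n k f c' P hP
  set m := IsLocalRing.maximalIdeal (X.presheaf.stalk P) with hm
  let t : (Fin (n + 1) → k) → X.presheaf.stalk P := fun c =>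
    X.presheaf.germ (f ⁻¹ᵁ Proj.basicOpen 𝒬 (lin n k c')) P hP
      (f.appLE (Proj.basicOpen 𝒬 (lin n k c')) (f ⁻¹ᵁ Proj.basicOpen 𝒬 (lin n k c')) le_rfl
        (ratio n k c c'))
  have hsc : ∀ c, ((Scheme.Modules.pullback f).obj 𝒪1).presheaf.germ ⊤ P trivial (sc n k f c) =
      t c • g := fun c => germ_sc n k f c c' P hP
  have hset : {v | ∃ c : Fin (n + 1) → k,
          v = ((Scheme.Modules.pullback f).obj 𝒪1).presheaf.germ ⊤ P trivial (sc n k f c) ∧
          v ∈ m • (⊤ : Submodule (X.presheaf.stalk P)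
              (((Scheme.Modules.pullback f).obj 𝒪1).presheaf.stalk P))} =
      (fun a : X.presheaf.stalk P => a • g) '' {a | ∃ c, a = t c ∧ a ∈ m} := by
    ext v
    constructor
    · rintro ⟨c, rfl, hv⟩
      rw [hsc] at hv ⊢
      exact ⟨t c, ⟨c, rfl, (smul_mem_smul_top_iff g hgb m (t c)).mp hv⟩, rfl⟩
    · rintro ⟨_, ⟨c, rfl, ht⟩, rfl⟩
      refine ⟨c, (hsc c).symm, ?_⟩
      exact (smul_mem_smul_top_iff g hgb m (t c)).mpr ht
  rw [hset, smul_top_le_iff g hgb]
  -- the span of the coefficients is the image of the maximal ideal of `f P`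
  have htφ : ∀ c, t c = (f.stalkMap P).hom
      ((Proj 𝒬).presheaf.germ (Proj.basicOpen 𝒬 (lin n k c')) (f P) hP (ratio n k c c')) := by
    intro c
    have h1 := Scheme.Hom.germ_stalkMap_apply f (Proj.basicOpen 𝒬 (lin n k c')) P hP
      (ratio n k c c')
    rw [← Scheme.Hom.appLE_eq_app] at h1
    exact h1.symm
  have htm : ∀ c, t c ∈ m ↔
      lin n k c ∈ (show ProjectiveSpectrum 𝒬 from f P).asHomogeneousIdeal :=
    fun c => germ_appLE_ratio_mem_iff n k f c c' P hP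
  have hspan : Ideal.span {a | ∃ c, a = t c ∧ a ∈ m} =
      Ideal.map (f.stalkMap P).hom (IsLocalRing.maximalIdeal ((Proj 𝒬).presheaf.stalk (f P))) := by
    rw [maximalIdeal_eq_span n k c' (f P) hP hcl, Ideal.map_span]
    congr 1
    ext a
    constructor
    · rintro ⟨c, rfl, ht⟩
      exact ⟨_, ⟨c, (htm c).mp ht, rfl⟩, (htφ c).symm⟩
    · rintro ⟨_, ⟨c, hc, rfl⟩, rfl⟩
      refine ⟨c, (htφ c).symm, ?_⟩
      rw [← htφ c]
      exact (htm c).mpr hc
  rw [hspan]
  have hle1 : Ideal.map (f.stalkMap P).hom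
      (IsLocalRing.maximalIdeal ((Proj 𝒬).presheaf.stalk (f P))) ≤ m := by
    rw [Ideal.map_le_iff_le_comap]
    intro a ha
    exact (map_mem_maximalIdeal_iff (f.stalkMap P).hom a).mpr ha
  have hle2 : m ^ 2 ≤ m := Ideal.pow_le_self two_ne_zero
  constructor
  · intro h
    exact le_antisymm (sup_le hle1 hle2) h
  · intro h
    exact h.ge

end Main

end Groth.Agent.R2.H49.PnLinPull
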