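import Mathlib
import Groth.Agent.R2.H49PnLinPull
import Groth.Agent.R2.H49BertiniAlg
import Groth.Agent.Lib.Helper5RLR

/-!
# Bertini: the geometric glue (helper49)
-/

set_option autoImplicit false
universe u

open CategoryTheory CategoryTheory.Limits AlgebraicGeometry TopologicalSpace Opposite
  HomogeneousLocalization

namespace Groth.Agent.R2.H49.BertiniGeom

open MvPolynomial Groth.Agent.Lib.Helper27GrTildeSect Groth.Agent.Lib.Helper23.SecTw
  Groth.Agent.Lib.Helper6 Groth.Agent.R2.H49.PnLin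

section PSide

variable (n : ℕ) (k : Type u) [Field k]

local notation "𝒬" => CohB1.polyGrading n k

/-- a linear form is the combination of the coordinates given by its coefficients. -/
theorem eq_lin_of_mem (h : MvPolynomial (Fin (n + 1)) k) (hh : h ∈ 𝒬 1) :
    h = lin n k (fun i => coeff (Finsupp.single i 1) h) := by
  classical
  ext x
  rw [lin, coeff_sum]
  simp_rw [coeff_C_mul, coeff_X]
  by_cases hx1 : x.degree = 1
  · obtain ⟨j, hj⟩ : ∃ j, x = Finsupp.single j 1 := by
      have : x ∈ Set.range (fun a : Fin (n + 1) => Finsupp.single a 1) := by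
        rw [Finsupp.range_single_one]; exact hx1
      obtain ⟨j, hj⟩ := this
      exact ⟨j, hj.symm⟩
    subst hj
    rw [Finset.sum_eq_single j]
    · rw [if_pos rfl, mul_one]
    · intro i _ hij
      rw [if_neg, mul_zero]
      intro h'
      exact hij ((Finsupp.single_left_injective one_ne_zero) h')
    · intro h'; exact absurd (Finset.mem_univ j) h'
  · have hh' : h.IsHomogeneous 1 := hh
    rw [hh'.coeff_eq_zero hx1]
    symm
    refine Finset.sum_eq_zero fun i _ => ?_
    rw [if_neg, mul_zero]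
    rintro rfl
    apply hx1
    simp

theorem loc_mk_sum {R : Type*} [CommRing R] {M : Submonoid R} {ι : Type*} (s : Finset ι)
    (a : ι → R) (d : M) :
    ∑ i ∈ s, Localization.mk (a i) d = Localization.mk (∑ i ∈ s, a i) d := by
  classical
  induction s using Finset.induction_on with
  | empty => simp [Localization.mk_zero]
  | insert i s hi ih =>
    rw [Finset.sum_insert hi, Finset.sum_insert hi, ih, Localization.add_mk_self]

/-- evaluation of functions at a point, as a ring homomorphism. -/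
noncomputable def evHom (W : (Proj 𝒬).Opens) (y : ProjectiveSpectrum 𝒬) (hy : y ∈ W) :
    Γ(Proj 𝒬, W) →+* Twist.A0 𝒬 y where
  toFun c := funVal 𝒬 W c y hy
  map_one' := rfl
  map_mul' _ _ := rfl
  map_zero' := rfl
  map_add' _ _ := rfl

theorem ratio_eq_sum (c c' : Fin (n + 1) → k) :
    ratio n k c c' = ∑ i, resf (le_top : Proj.basicOpen 𝒬 (lin n k c') ≤ ⊤) (constFun 𝒬 (c i)) *
      ratio n k (Pi.single i 1) c' := by
  apply fun_ext_val
  intro y hy
  have hy' : lin n k c' ∉ y.asHomogeneousIdeal := not_mem_of_mem_basicOpen 𝒬 y hy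
  have h1 : funVal 𝒬 _ (∑ i, resf (le_top : Proj.basicOpen 𝒬 (lin n k c') ≤ ⊤)
      (constFun 𝒬 (c i)) * ratio n k (Pi.single i 1) c') y hy =
      ∑ i, funVal 𝒬 ⊤ (constFun 𝒬 (c i)) y trivial *
        funVal 𝒬 _ (ratio n k (Pi.single i 1) c') y hy :=
    map_sum (evHom n k _ y hy) _ _
  rw [h1]
  have h2 : ∀ (s : Finset (Fin (n + 1))) (F : Fin (n + 1) → Twist.A0 𝒬 y),
      (∑ i ∈ s, F i).val = ∑ i ∈ s, (F i).val := by
    intro s F
    have := map_sum (algebraMap (HomogeneousLocalization 𝒬 y.asHomogeneousIdeal.toIdeal.primeCompl)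
      (Localization y.asHomogeneousIdeal.toIdeal.primeCompl)) F s
    simpa only [HomogeneousLocalization.algebraMap_apply] using this
  rw [h2]
  simp_rw [HomogeneousLocalization.val_mul,
    Groth.Agent.Lib.Helper27PnSections.funVal_constFun_val 𝒬 (lin_mem n k c') Nat.one_pos _ y hy',
    ratio, cfun, funVal_fracFun, Localization.mk_mul, one_mul]
  rw [loc_mk_sum]
  have h3 : ∑ i, algebraMap k (MvPolynomial (Fin (n + 1)) k) (c i) * lin n k (Pi.single i 1) =
      lin n k c := by
    rw [lin]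
    refine Finset.sum_congr rfl fun i _ => ?_
    rw [lin_single, MvPolynomial.algebraMap_eq]
  rw [h3]


theorem funVal_ratio_eq (j : Fin (n + 1)) (h : 𝒬 1) (y : ProjectiveSpectrum 𝒬)
    (hj : (X j : MvPolynomial (Fin (n + 1)) k) ∉ y.asHomogeneousIdeal)
    (hy : y ∈ Proj.basicOpen 𝒬 (lin n k (Pi.single j 1))) :
    funVal 𝒬 _ (ratio n k (fun i => coeff (Finsupp.single i 1)
        (h : MvPolynomial (Fin (n + 1)) k)) (Pi.single j 1)) y hy =
      HomogeneousLocalization.mk ⟨1, h, ⟨X j, isHomogeneous_X k j⟩, hj⟩ := by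
  apply HomogeneousLocalization.val_injective
  rw [ratio, cfun, funVal_fracFun, HomogeneousLocalization.val_mk, Localization.mk_eq_mk_iff,
    Localization.r_iff_exists]
  refine ⟨1, ?_⟩
  simp only [OneMemClass.coe_one, one_mul]
  rw [← eq_lin_of_mem n k h h.2, lin_single]

/-- the element of the local ring appearing in the frozen statement is the germ of a ratio of
linear forms. -/
theorem symm_mk_eq_germ (j : Fin (n + 1)) (h : 𝒬 1) (y : Proj 𝒬)
    (hj : (X j : MvPolynomial (Fin (n + 1)) k) ∉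
      (show ProjectiveSpectrum 𝒬 from y).asHomogeneousIdeal)
    (hy : y ∈ Proj.basicOpen 𝒬 (lin n k (Pi.single j 1))) :
    (Proj.stalkIso' 𝒬 y).symm (HomogeneousLocalization.mk
        ⟨1, h, ⟨X j, isHomogeneous_X k j⟩, hj⟩) =
      (Proj 𝒬).presheaf.germ (Proj.basicOpen 𝒬 (lin n k (Pi.single j 1))) y hy
        (ratio n k (fun i => coeff (Finsupp.single i 1) (h : MvPolynomial (Fin (n + 1)) k))
          (Pi.single j 1)) := by
  symm
  refine ((Proj.stalkIso' 𝒬 y).eq_symm_apply).mpr ?_
  have h3 : (Proj.stalkIso' 𝒬 y) ((Proj 𝒬).presheaf.germ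
      (Proj.basicOpen 𝒬 (lin n k (Pi.single j 1))) y hy
      (ratio n k (fun i => coeff (Finsupp.single i 1) (h : MvPolynomial (Fin (n + 1)) k))
          (Pi.single j 1))) =
      funVal 𝒬 _ (ratio n k (fun i => coeff (Finsupp.single i 1)
        (h : MvPolynomial (Fin (n + 1)) k)) (Pi.single j 1)) y hy :=
    Proj.stalkIso'_germ 𝒬 _ y hy (toFun 𝒬 _ _)
  exact h3.trans (funVal_ratio_eq n k j h y hj hy)

end PSide


section General

variable {X : Scheme.{u}}

/-- on an affine open, a function whose germ at a closed point lies in `m_x²` lies in the square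
of the maximal ideal of the point. -/
theorem mem_sq_of_germ_mem_sq {U : X.Opens} (hU : IsAffineOpen U) (x : X) (hx : x ∈ U)
    (hmax : (hU.primeIdealOf ⟨x, hx⟩).asIdeal.IsMaximal) (f : Γ(X, U))
    (hf : X.presheaf.germ U x hx f ∈ IsLocalRing.maximalIdeal (X.presheaf.stalk x) ^ 2) :
    f ∈ (hU.primeIdealOf ⟨x, hx⟩).asIdeal ^ 2 := by
  let _ := TopCat.Presheaf.algebra_section_stalk X.presheaf ⟨x, hx⟩
  have := hU.isLocalization_stalk ⟨x, hx⟩
  set m := (hU.primeIdealOf ⟨x, hx⟩).asIdeal with hm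
  have h1 := IsLocalization.AtPrime.map_eq_maximalIdeal m (X.presheaf.stalk x)
  rw [← h1, ← Ideal.map_pow] at hf
  have hprim : (m ^ 2).IsPrimary := by
    apply Ideal.isPrimary_of_isMaximal_radical
    rw [Ideal.radical_pow m two_ne_zero, hmax.isPrime.radical]
    exact hmax
  have hdisj : Disjoint (m.primeCompl : Set Γ(X, U)) ((m ^ 2 : Ideal Γ(X, U)) : Set Γ(X, U)) := by
    rw [Set.disjoint_left]
    intro a ha ha2
    exact ha (Ideal.pow_le_self two_ne_zero ha2)
  have h2 := IsLocalization.under_map_of_isPrimary_disjoint m.primeCompl (X.presheaf.stalk x)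
    hprim hdisj
  rw [← h2]
  exact hf

/-- sections over an affine open of a scheme with regular local rings form a regular ring. -/
theorem isRegularRing_sections (hreg : ∀ x : X, IsRegularLocalRing (X.presheaf.stalk x))
    {V : X.Opens} (hV : IsAffineOpen V) [IsNoetherianRing Γ(X, V)] : IsRegularRing Γ(X, V) := by
  rw [isRegularRing_iff]
  intro p hp
  have hs : hV.fromSpec ⟨p, hp⟩ ∈ V := by
    have : hV.fromSpec ⟨p, hp⟩ ∈ Set.range hV.fromSpec := ⟨_, rfl⟩
    rwa [hV.range_fromSpec] at this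
  let _ := X.presheaf.algebra_section_stalk (U := V) ⟨hV.fromSpec ⟨p, hp⟩, hs⟩
  have : IsLocalization.AtPrime (X.presheaf.stalk (hV.fromSpec ⟨p, hp⟩)) p :=
    hV.isLocalization_stalk' ⟨p, hp⟩ hs
  let e : Localization.AtPrime p ≃ₐ[Γ(X, V)] X.presheaf.stalk (hV.fromSpec ⟨p, hp⟩) :=
    IsLocalization.algEquiv p.primeCompl _ _
  have := hreg (hV.fromSpec ⟨p, hp⟩)
  exact IsRegularLocalRing.of_ringEquiv e.symm.toRingEquiv

end General

section XSide

variable (n : ℕ) (k : Type u) [Field k] {X : Scheme.{u}}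
  (ι : X ⟶ Proj (CohB1.polyGrading n k))

local notation "𝒬" => CohB1.polyGrading n k

theorem appLE_comp_app {X Y Z : Scheme.{u}} (f : X ⟶ Y) (g : Y ⟶ Z) (W : Z.Opens) (D : Y.Opens)
    (h : D ≤ g ⁻¹ᵁ W) (h' : f ⁻¹ᵁ D ≤ (f ≫ g) ⁻¹ᵁ W) :
    g.appLE W D h ≫ f.app D = (f ≫ g).appLE W (f ⁻¹ᵁ D) h' := by
  rw [f.app_eq_appLE, Scheme.Hom.appLE_comp_appLE]

theorem const_app (D : (Proj 𝒬).Opens) (r : k) :
    (ι.app D).hom (const k (toBase 𝒬) D r) = const k (ι ≫ toBase 𝒬) (ι ⁻¹ᵁ D) r := by
  have h := appLE_comp_app ι (toBase 𝒬) ⊤ D (fun _ _ => trivial) (fun _ _ => trivial)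
  have h2 := congrArg (fun φ => φ.hom ((Scheme.ΓSpecIso (CommRingCat.of k)).inv.hom r)) h
  exact h2


variable [IsAlgClosed k] [IsIntegral X] [IsClosedImmersion ι]

/-- **Bertini on one chart.** -/
theorem chart (hreg : ∀ x : X, IsRegularLocalRing (X.presheaf.stalk x)) (j : Fin (n + 1)) :
    ∃ g : MvPolynomial (Fin (n + 1)) k, g ≠ 0 ∧ ∀ a : Fin (n + 1) → k,
      MvPolynomial.eval a g ≠ 0 →
      ∀ (x : X) (_ : IsClosed ({x} : Set X))
        (hx : x ∈ ι ⁻¹ᵁ Proj.basicOpen 𝒬 (lin n k (Pi.single j 1))),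
        X.presheaf.germ (ι ⁻¹ᵁ Proj.basicOpen 𝒬 (lin n k (Pi.single j 1))) x hx
          ((ι.app (Proj.basicOpen 𝒬 (lin n k (Pi.single j 1)))).hom
            (ratio n k a (Pi.single j 1))) ∉
          IsLocalRing.maximalIdeal (X.presheaf.stalk x) ^ 2 := by
  classical
  set c' : Fin (n + 1) → k := Pi.single j 1 with hc'
  set D := Proj.basicOpen 𝒬 (lin n k c') with hDdef
  have hD : IsAffineOpen D :=
    Proj.isAffineOpen_basicOpen 𝒬 (lin n k c') (lin_mem n k c') Nat.one_pos
  set U := ι ⁻¹ᵁ D with hUdef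
  have hU : IsAffineOpen U := hD.preimage ι
  by_cases hne : Nonempty U
  swap
  · exact ⟨1, one_ne_zero, fun a _ x _ hx => absurd ⟨⟨x, hx⟩⟩ hne⟩
  let q : X ⟶ Spec (CommRingCat.of k) := ι ≫ toBase 𝒬
  have hq : LocallyOfFiniteType q := inferInstance
  let _ : Algebra k Γ(X, U) := (const k q U).toAlgebra
  have hdom : IsDomain Γ(X, U) := inferInstance
  let ψ : Γ(Proj 𝒬, D) →+* Γ(X, U) := (ι.app D).hom
  have hψ : Function.Surjective ψ := ι.app_surjective D hD
  have hψc : ∀ r : k, ψ (resf (le_top : D ≤ ⊤) (constFun 𝒬 r)) = algebraMap k Γ(X, U) r :=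
    fun r => const_app n k ι D r
  let u : Fin (n + 1) → Γ(X, U) := fun i => ψ (ratio n k (Pi.single i 1) c')
  have hψratio : ∀ c : Fin (n + 1) → k, ψ (ratio n k c c') = ∑ i, c i • u i := by
    intro c
    rw [ratio_eq_sum, map_sum]
    refine Finset.sum_congr rfl fun i _ => ?_
    rw [map_mul, hψc, Algebra.smul_def]
  have hgen : Algebra.adjoin k (Set.range u) = ⊤ := by
    rw [eq_top_iff]
    rintro f -
    obtain ⟨b, rfl⟩ := hψ f
    set S := Algebra.adjoin k (Set.range u) with hS
    let E' : Subring Γ(Proj 𝒬, D) := Subring.comap ψ S.toSubring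
    let E : Subring (Away 𝒬 (lin n k c')) :=
      Subring.comap (Proj.awayToSection 𝒬 (lin n k c')).hom E'
    have hE : E = ⊤ := by
      apply Groth.Agent.Lib.Helper27AwayGen.subring_eq_top 𝒬 (lin_mem n k c') (lin n k)
        (lin_mem n k) (adjoin_range_lin n k) E
      · intro r
        change ψ ((Proj.awayToSection 𝒬 (lin n k c')).hom _) ∈ S
        rw [mk'_zero_eq, awayToSection_const 𝒬 (lin_mem n k c') Nat.one_pos]
        have := hψc r
        change ψ (resf (le_top : D ≤ ⊤) (constFun 𝒬 r)) ∈ S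
        rw [this]
        exact S.algebraMap_mem r
      · intro c
        change ψ ((Proj.awayToSection 𝒬 (lin n k c')).hom _) ∈ S
        rw [awayToSection_mk'_one]
        change ψ (ratio n k c c') ∈ S
        rw [hψratio]
        exact S.sum_mem fun i _ => S.smul_mem (Algebra.subset_adjoin ⟨i, rfl⟩) _
    obtain ⟨j', a', ha', h⟩ := exists_awayToSection_eq (lin_mem n k c') Nat.one_pos b
    have h2 : (Proj.awayToSection 𝒬 (lin n k c')).hom
        (Away.mk 𝒬 (lin_mem n k c') j' a' ha') ∈ E' := by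
      have : Away.mk 𝒬 (lin_mem n k c') j' a' ha' ∈ E := by rw [hE]; exact Subring.mem_top _
      exact this
    rw [h] at h2
    exact h2
  have hft : Algebra.FiniteType k Γ(X, U) :=
    ⟨⟨Finset.univ.image u, by
      rw [Finset.coe_image, Finset.coe_univ, Set.image_univ]
      exact hgen⟩⟩
  have hnoeth : IsNoetherianRing Γ(X, U) := Algebra.FiniteType.isNoetherianRing k _
  have hregA : IsRegularRing Γ(X, U) := isRegularRing_sections hreg hU
  have huj : u j = 1 := by
    change ψ (ratio n k (Pi.single j 1) c') = 1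
    rw [ratio, cfun_self, map_one]
  obtain ⟨g, hg0, hg⟩ := Groth.Agent.R2.H49.BertiniAlg.core k Γ(X, U) n u hgen j huj
  refine ⟨g, hg0, fun a ha x hcl hx hmem => ha ?_⟩
  have hmax := isMaximal_primeIdealOf hU x hx hcl
  apply hg a (hU.primeIdealOf ⟨x, hx⟩).asIdeal hmax
  rw [← hψratio]
  exact mem_sq_of_germ_mem_sq hU x hx hmax _ hmem


omit [IsIntegral X] [IsClosedImmersion ι] in
/-- modulo the ideal of a closed point, every linear form is a multiple of a fixed one not
vanishing there. -/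
theorem exists_lin_sub_smul_mem (y : Proj 𝒬) (hcl : IsClosed ({y} : Set (Proj 𝒬)))
    (c' : Fin (n + 1) → k)
    (hc' : lin n k c' ∉ (show ProjectiveSpectrum 𝒬 from y).asHomogeneousIdeal)
    (c : Fin (n + 1) → k) :
    ∃ r : k, lin n k (c - r • c') ∈ (show ProjectiveSpectrum 𝒬 from y).asHomogeneousIdeal := by
  have hy : y ∈ Proj.basicOpen 𝒬 (lin n k c') :=
    (ProjectiveSpectrum.mem_basicOpen 𝒬 (lin n k c') y).mpr hc'
  set hU := Proj.isAffineOpen_basicOpen 𝒬 (lin n k c') (lin_mem n k c') Nat.one_pos with hhU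
  obtain ⟨r, hr⟩ := exists_sub_const_mem k (toBase 𝒬) hU y hy hcl (ratio n k c c')
  refine ⟨r, ?_⟩
  by_contra hnot
  have h2 := (mem_basicOpen_ratio_iff n k (c - r • c') c' y hy).mpr hnot
  rw [ratio_sub_smul] at h2
  exact ((mem_basicOpen_iff_notMem hU y hy _).mp h2) hr

/-- the hyperplanes not containing `X` contain a nonempty open set of hyperplanes. -/
theorem exists_g0 :
    ∃ g : MvPolynomial (Fin (n + 1)) k, g ≠ 0 ∧ ∀ a : Fin (n + 1) → k,
      MvPolynomial.eval a g ≠ 0 →
        ∃ x : X, lin n k a ∉ (show ProjectiveSpectrum 𝒬 from ι x).asHomogeneousIdeal := by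
  classical
  have hprop : IsProper (toBase 𝒬) := Groth.Agent.S9705.isProper_projSpace_toSpec n k
  have hcpt : CompactSpace X := QuasiCompact.compactSpace_of_compactSpace (ι ≫ toBase 𝒬)
  have hne : Nonempty X := inferInstance
  obtain ⟨x₀, -, hx₀⟩ := IsClosed.exists_closed_singleton (isClosed_univ (X := X))
    Set.univ_nonempty
  have hy₀ : IsClosed ({ι x₀} : Set (Proj 𝒬)) := by
    have h1 := ι.isClosedMap _ hx₀
    rwa [Set.image_singleton] at h1
  set p := (show ProjectiveSpectrum 𝒬 from ι x₀).asHomogeneousIdeal with hp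
  obtain ⟨j, hj⟩ := Groth.Agent.Lib.Helper27PnSections.exists_X_not_mem n k
    (show ProjectiveSpectrum 𝒬 from ι x₀)
  have hj' : lin n k (Pi.single j 1) ∉ p := by rw [lin_single]; exact hj
  choose r hr using fun i : Fin (n + 1) =>
    exists_lin_sub_smul_mem n k (ι x₀) hy₀ (Pi.single j 1) hj' (Pi.single i 1)
  have hr' : ∀ i, (MvPolynomial.X i - C (r i) * MvPolynomial.X j : MvPolynomial (Fin (n + 1)) k) ∈ p := by
    intro i
    have := hr i
    rwa [lin_sub_smul, lin_single, lin_single] at this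
  have hprime : p.toIdeal.IsPrime := (show ProjectiveSpectrum 𝒬 from ι x₀).isPrime
  have hC : ∀ s : k, (C s * MvPolynomial.X j : MvPolynomial (Fin (n + 1)) k) ∈ p → s = 0 := by
    intro s hs
    by_contra hs0
    rcases hprime.mem_or_mem hs with h1 | h1
    · apply hprime.ne_top
      apply Ideal.eq_top_of_isUnit_mem _ h1
      exact (isUnit_iff_ne_zero.mpr hs0).map C
    · exact hj h1
  have key : ∀ a : Fin (n + 1) → k, lin n k a ∈ p → ∑ i, a i * r i = 0 := by
    intro a ha
    apply hC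
    have h1 : (C (∑ i, a i * r i) * MvPolynomial.X j : MvPolynomial (Fin (n + 1)) k) =
        lin n k a - ∑ i, C (a i) * (MvPolynomial.X i - C (r i) * MvPolynomial.X j) := by
      rw [lin, ← Finset.sum_sub_distrib, map_sum, Finset.sum_mul]
      refine Finset.sum_congr rfl fun i _ => ?_
      rw [C_mul]
      ring
    rw [h1]
    exact Ideal.sub_mem _ ha (Ideal.sum_mem _ fun i _ => Ideal.mul_mem_left _ _ (hr' i))
  refine ⟨∑ i, C (r i) * MvPolynomial.X i, ?_, ?_⟩
  · intro h0
    have h1 : MvPolynomial.eval (Pi.single j 1) (∑ i, C (r i) * MvPolynomial.X i :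
        MvPolynomial (Fin (n + 1)) k) = r j := by
      rw [map_sum, Finset.sum_eq_single j]
      · simp
      · intro i _ hij
        simp [Pi.single_eq_of_ne hij]
      · intro h; exact absurd (Finset.mem_univ j) h
    rw [h0, map_zero] at h1
    have h2 := hr' j
    rw [← h1, C_0, zero_mul, sub_zero] at h2
    exact hj h2
  · intro a ha
    refine ⟨x₀, fun hmem => ha ?_⟩
    have h1 := key a hmem
    rw [map_sum]
    simp only [map_mul, eval_C, MvPolynomial.eval_X]
    rw [← h1]
    exact Finset.sum_congr rfl fun i _ => mul_comm _ _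


/-- **Bertini** (Hartshorne II.8.18), in the shape of the frozen statement. -/
theorem main (hreg : ∀ x : X, IsRegularLocalRing (X.presheaf.stalk x)) :
    ∃ g : MvPolynomial (Fin (n + 1)) k, g ≠ 0 ∧
      ∀ h : ↥(CohB1.polyGrading n k 1),
        MvPolynomial.eval (fun i => MvPolynomial.coeff (Finsupp.single i 1)
            (h : MvPolynomial (Fin (n + 1)) k)) g ≠ 0 →
          (∃ x : ↥X, (h : MvPolynomial (Fin (n + 1)) k) ∉ (ι.base x).asHomogeneousIdeal) ∧
          ∀ x : ↥X, IsClosed ({x} : Set ↥X) →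
            (h : MvPolynomial (Fin (n + 1)) k) ∈ (ι.base x).asHomogeneousIdeal →
            ∀ (j : Fin (n + 1))
              (hj : (MvPolynomial.X j : MvPolynomial (Fin (n + 1)) k) ∉
                (ι.base x).asHomogeneousIdeal),
              IsRegularLocalRing (↑(X.presheaf.stalk x) ⧸ Ideal.span
                {(ι.stalkMap x).hom ((Proj.stalkIso' (CohB1.polyGrading n k) (ι.base x)).symm
                  (HomogeneousLocalization.mk
                    ⟨1, h, ⟨MvPolynomial.X j, MvPolynomial.isHomogeneous_X k j⟩, hj⟩))}) := by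
  classical
  obtain ⟨g0, hg0, hg0'⟩ := exists_g0 n k ι
  choose gj hgj hgj' using fun j => chart n k ι hreg j
  refine ⟨g0 * ∏ j, gj j, mul_ne_zero hg0 (Finset.prod_ne_zero_iff.mpr fun j _ => hgj j), ?_⟩
  intro h hne
  set a : Fin (n + 1) → k := fun i => MvPolynomial.coeff (Finsupp.single i 1)
    (h : MvPolynomial (Fin (n + 1)) k) with ha
  have hh : (h : MvPolynomial (Fin (n + 1)) k) = lin n k a := eq_lin_of_mem n k h h.2
  rw [map_mul, map_prod] at hne
  have hne0 : MvPolynomial.eval a g0 ≠ 0 := left_ne_zero_of_mul hne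
  have hnej : ∀ j, MvPolynomial.eval a (gj j) ≠ 0 := fun j =>
    (Finset.prod_ne_zero_iff.mp (right_ne_zero_of_mul hne)) j (Finset.mem_univ j)
  refine ⟨?_, ?_⟩
  · obtain ⟨x, hx⟩ := hg0' a hne0
    refine ⟨x, ?_⟩
    rw [hh]
    exact hx
  · intro x hcl hmem j hj
    have hxD : x ∈ ι ⁻¹ᵁ Proj.basicOpen 𝒬 (lin n k (Pi.single j 1)) :=
      (ProjectiveSpectrum.mem_basicOpen 𝒬 (lin n k (Pi.single j 1)) (ι x)).mpr
        (by rw [lin_single]; exact hj)
    set t := (ι.stalkMap x).hom ((Proj.stalkIso' (CohB1.polyGrading n k) (ι.base x)).symm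
      (HomogeneousLocalization.mk
        ⟨1, h, ⟨MvPolynomial.X j, MvPolynomial.isHomogeneous_X k j⟩, hj⟩)) with ht
    have ht_eq : t = X.presheaf.germ (ι ⁻¹ᵁ Proj.basicOpen 𝒬 (lin n k (Pi.single j 1))) x hxD
        ((ι.app (Proj.basicOpen 𝒬 (lin n k (Pi.single j 1)))).hom
          (ratio n k a (Pi.single j 1))) := by
      rw [ht, symm_mk_eq_germ n k j h (ι x) hj hxD]
      exact Scheme.Hom.germ_stalkMap_apply ι (Proj.basicOpen 𝒬 (lin n k (Pi.single j 1))) x hxD
        (ratio n k a (Pi.single j 1))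
    have htm : t ∈ IsLocalRing.maximalIdeal (X.presheaf.stalk x) := by
      rw [ht_eq]
      have h1 := (Groth.Agent.R2.H49.PnLinPull.germ_appLE_ratio_mem_iff n k ι a (Pi.single j 1) x
        hxD).mpr (by rw [← hh]; exact hmem)
      rwa [Scheme.Hom.appLE_eq_app] at h1
    have htsq : t ∉ IsLocalRing.maximalIdeal (X.presheaf.stalk x) ^ 2 := by
      rw [ht_eq]
      exact hgj' j a (hnej j) x hcl hxD
    have := hreg x
    have hloc : IsLocalRing (↑(X.presheaf.stalk x) ⧸ Ideal.span {t}) := by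
      apply Groth.Agent.Lib.Helper5.isLocalRing_quotient
      intro htop
      rw [Ideal.span_singleton_eq_top] at htop
      exact (IsLocalRing.mem_maximalIdeal _).mp htm htop
    exact (Groth.Agent.Lib.Helper5.isRegularLocalRing_quotient_span_singleton htm htsq).1

end XSide

end Groth.Agent.R2.H49.BertiniGeom
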