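import Mathlib
import Groth.Prelude.Def_PicF2
import Groth.Agent.Lib.Helper2FPAff
import Groth.Agent.Lib.Helper2LocFree
import Groth.Agent.Lib.Helper23SecTw3
import Groth.Agent.R2.H16ZeroScheme

/-!
# The zero scheme of a section of an invertible module: its ideal on affine opens (helper49)

For `L` invertible the ideals `PicF2.zeroIdealOn L s U` (`U` affine) form an ideal sheaf, so that
`(PicF2.zeroScheme L s).ideal U = PicF2.zeroIdealOn L s U`; on a frame `(W, e, c)` this is `(c)`.
-/

set_option autoImplicit false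
universe u
open CategoryTheory CategoryTheory.Limits AlgebraicGeometry TopologicalSpace Opposite

namespace Groth.Agent.R2.H49.ZeroSch

section Alg

/-- the ideal `(R s : M)`. -/
def colon (R : Type*) [CommRing R] (M : Type*) [AddCommGroup M] [Module R M] (s : M) : Ideal R where
  carrier := {a | ∀ m : M, ∃ b : R, a • m = b • s}
  add_mem' {a a'} ha ha' m := by
    obtain ⟨b, hb⟩ := ha m; obtain ⟨b', hb'⟩ := ha' m
    exact ⟨b + b', by rw [add_smul, add_smul, hb, hb']⟩
  zero_mem' m := ⟨0, by simp⟩
  smul_mem' c {a} ha m := by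
    obtain ⟨b, hb⟩ := ha m
    exact ⟨c * b, by rw [smul_eq_mul, mul_smul, hb, mul_smul]⟩

theorem mem_colon {R : Type*} [CommRing R] {M : Type*} [AddCommGroup M] [Module R M] (s : M)
    (a : R) : a ∈ colon R M s ↔ ∀ m : M, ∃ b : R, a • m = b • s := Iff.rfl

/-- the colon ideal `(R s : M)` of a finite module commutes with localization. -/
theorem colon_map_eq {R : Type*} [CommRing R] (S : Submonoid R) {R' : Type*} [CommRing R']
    [Algebra R R'] [IsLocalization S R'] {M M' : Type*} [AddCommGroup M] [Module R M]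
    [AddCommGroup M'] [Module R M'] [Module R' M'] [IsScalarTower R R' M'] (r : M →ₗ[R] M')
    [IsLocalizedModule S r] [Module.Finite R M] (s : M) :
    (colon R M s).map (algebraMap R R') = colon R' M' (r s) := by
  classical
  apply le_antisymm
  · rw [Ideal.map_le_iff_le_comap]
    intro a ha
    rw [Ideal.mem_comap, mem_colon]
    intro x
    obtain ⟨⟨m, t⟩, ht⟩ := IsLocalizedModule.surj S r x
    replace ht : (t : R) • x = r m := ht
    obtain ⟨b, hb⟩ := ha m
    refine ⟨IsLocalization.mk' R' b t, ?_⟩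
    apply IsLocalizedModule.smul_injective r t
    change (t : R) • (algebraMap R R' a • x) = (t : R) • (IsLocalization.mk' R' b t • r s)
    have h1 : (t : R) • (algebraMap R R' a • x) = a • ((t : R) • x) := by
      rw [algebraMap_smul, smul_comm]
    have h2 : (t : R) • (IsLocalization.mk' R' b t • r s) = b • r s := by
      rw [← algebraMap_smul R' (t : R), smul_smul, mul_comm, IsLocalization.mk'_spec,
        algebraMap_smul]
    rw [h1, h2, ht, ← map_smul, hb, map_smul]
  · intro y hy
    obtain ⟨a, t, rfl⟩ := IsLocalization.exists_mk'_eq S y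
    rw [IsLocalization.mk'_mem_map_algebraMap_iff]
    have ha : algebraMap R R' a ∈ colon R' M' (r s) := by
      rw [← IsLocalization.mk'_spec R' a t]
      exact Ideal.mul_mem_right _ _ hy
    obtain ⟨G, hG⟩ := (Module.Finite.fg_top : (⊤ : Submodule R M).FG)
    have h1 : ∀ m : M, ∃ T : S, ∃ b : R, (T : R) • (a • m) = b • s := by
      intro m
      obtain ⟨b', hb'⟩ := ha (r m)
      obtain ⟨b, t', rfl⟩ := IsLocalization.exists_mk'_eq S b'
      have h2 : r ((t' : R) • (a • m)) = r (b • s) := by
        rw [map_smul, map_smul, map_smul, ← algebraMap_smul R' a, hb',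
          ← algebraMap_smul R' (t' : R), smul_smul, mul_comm, IsLocalization.mk'_spec,
          algebraMap_smul]
      obtain ⟨c, hc⟩ := (IsLocalizedModule.eq_iff_exists S r).mp h2
      refine ⟨c * t', (c : R) * b, ?_⟩
      change (c : R) • ((t' : R) • (a • m)) = (c : R) • (b • s) at hc
      rw [Submonoid.coe_mul, mul_smul, mul_smul]
      exact hc
    choose T b hT using h1
    refine ⟨((∏ m ∈ G, T m : S) : R), (∏ m ∈ G, T m : S).2, ?_⟩
    rw [mem_colon]
    have hspan : ∀ m ∈ Submodule.span R (G : Set M),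
        ∃ b : R, (((∏ m ∈ G, T m : S) : R) * a) • m = b • s := by
      intro m hm
      induction hm using Submodule.span_induction with
      | mem x hx =>
        have hd : ((∏ m ∈ G, T m : S) : R) = ((∏ m ∈ G.erase x, T m : S) : R) * (T x : R) := by
          rw [← Finset.prod_erase_mul G _ hx]
          simp
        refine ⟨((∏ m ∈ G.erase x, T m : S) : R) * b x, ?_⟩
        rw [hd, mul_assoc, mul_smul, mul_smul, hT x, mul_smul]
      | zero => exact ⟨0, by rw [smul_zero, zero_smul]⟩
      | add x y _ _ hx hy =>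
        obtain ⟨b1, hb1⟩ := hx
        obtain ⟨b2, hb2⟩ := hy
        exact ⟨b1 + b2, by rw [smul_add, hb1, hb2, add_smul]⟩
      | smul c x _ hx =>
        obtain ⟨b1, hb1⟩ := hx
        exact ⟨c * b1, by rw [smul_comm, hb1, mul_smul]⟩
    intro m
    exact hspan m (hG ▸ Submodule.mem_top)

end Alg

open Groth.Agent.Lib.Helper2.FPAff Groth.Agent.Lib.Helper23.SecTw Groth.Agent.Lib.Helper6

variable {X : Scheme.{u}} (L : X.Modules) (s : Coh.structureModule X ⟶ L)

theorem zeroIdealOn_eq_colon (U : X.Opens) :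
    PicF2.zeroIdealOn L s U = colon Γ(X, U) Γ(L, U) (sv s U) := rfl

theorem map_zeroIdealOn_basicOpen [L.IsQuasicoherent] {U : X.Opens} (hU : IsAffineOpen U)
    (g : Γ(X, U)) [Module.Finite Γ(X, U) Γ(L, U)] :
    Ideal.map (X.presheaf.map (homOfLE (X.basicOpen_le g)).op).hom
        (show Ideal Γ(X, U) from PicF2.zeroIdealOn L s U) =
      (show Ideal Γ(X, X.basicOpen g) from PicF2.zeroIdealOn L s (X.basicOpen g)) := by
  let _ := moduleRes L (X.basicOpen_le g)
  have := isScalarTower_basicOpen L g
  have := isLocalizedModule_basicOpen L hU g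
  have : IsLocalization.Away g Γ(X, X.basicOpen g) := hU.isLocalization_basicOpen g
  have h := colon_map_eq (Submonoid.powers g) (R' := Γ(X, X.basicOpen g))
    (resₗ L (X.basicOpen_le g)) (sv s U)
  have h2 : resₗ L (X.basicOpen_le g) (sv s U) = sv s (X.basicOpen g) := res_sv s (X.basicOpen_le g)
  rw [h2] at h
  exact h

/-- the ideal sheaf `U ↦ zeroIdealOn L s U` of a quasi-coherent module with finite sections. -/
noncomputable def zsSheaf [L.IsQuasicoherent]
    (hfin : ∀ V : X.affineOpens, Module.Finite Γ(X, V.1) Γ(L, V.1)) : X.IdealSheafData where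
  ideal V := PicF2.zeroIdealOn L s V.1
  map_ideal_basicOpen V g := by
    have := hfin V
    exact map_zeroIdealOn_basicOpen L s V.2 g

theorem zeroScheme_eq_zsSheaf [L.IsQuasicoherent]
    (hfin : ∀ V : X.affineOpens, Module.Finite Γ(X, V.1) Γ(L, V.1)) :
    PicF2.zeroScheme L s = zsSheaf L s hfin :=
  Scheme.IdealSheafData.ofIdeals_ideal (zsSheaf L s hfin)

theorem isInvertible_of_rank_one (hL : FlatMod.IsFinLocFreeOfRank 1 L) : PicF.IsInvertible L := by
  intro x
  obtain ⟨U, hxU, ⟨ε⟩⟩ := hL x
  exact ⟨U, hxU, ⟨ε ≪≫ Limits.coproductUniqueIso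
    (fun _ : Fin 1 => Coh.structureModule (↑U : Scheme.{u}))⟩⟩

theorem finite_sections (hL : FlatMod.IsFinLocFreeOfRank 1 L) (V : X.affineOpens) :
    Module.Finite Γ(X, V.1) Γ(L, V.1) := by
  have hq : L.IsQuasicoherent := isQuasicoherent_of_isInvertible L (isInvertible_of_rank_one L hL)
  have : SheafOfModules.IsFinitePresentation (R := X.ringCatSheaf) L :=
    Groth.Agent.Lib.Helper2.LocFree.isFP_of_isFinLocFree L (fun x => by
      obtain ⟨U, hxU, h⟩ := hL x
      exact ⟨U, 1, hxU, h⟩)
  have := finitePresentation_sections L V.2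
  infer_instance

/-- the ideal of the zero scheme of a section of an invertible module on an affine open. -/
theorem zeroScheme_ideal (hL : FlatMod.IsFinLocFreeOfRank 1 L) (V : X.affineOpens) :
    (PicF2.zeroScheme L s).ideal V = PicF2.zeroIdealOn L s V.1 := by
  have hq : L.IsQuasicoherent := isQuasicoherent_of_isInvertible L (isInvertible_of_rank_one L hL)
  rw [zeroScheme_eq_zsSheaf L s (finite_sections L hL)]
  rfl

/-- the ideal of the zero scheme on a frame. -/
theorem zeroScheme_ideal_of_frame (hL : FlatMod.IsFinLocFreeOfRank 1 L) {W : X.Opens}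
    (hW : IsAffineOpen W) (e : Γ(L, W)) (c : Γ(X, W)) (he : IsGen L W e) (hs : sv s W = c • e) :
    (PicF2.zeroScheme L s).ideal ⟨W, hW⟩ = Ideal.span {c} := by
  have h1 : (PicF2.zeroScheme L s).ideal ⟨W, hW⟩ =
      (show Ideal Γ(X, W) from PicF2.zeroIdealOn L s W) := zeroScheme_ideal L s hL ⟨W, hW⟩
  rw [h1]
  apply le_antisymm
  · exact Groth.Agent.R2.H16.ZeroScheme.zeroIdealOn_le_span_of_frame L s e c he hs
  · intro a ha
    obtain ⟨r, rfl⟩ := Ideal.mem_span_singleton'.1 ha
    have h := Groth.Agent.R2.H16.ZeroScheme.mem_zeroIdealOn_of_frame L s e c he hs (le_refl W) r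
    have h2 : resf (le_refl W) c = c := by
      change X.presheaf.map (𝟙 _) c = c
      rw [X.presheaf.map_id]; rfl
    rw [h2] at h
    exact h

end Groth.Agent.R2.H49.ZeroSch
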