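import Mathlib
import Groth.Prelude.Def_PicF2
import Groth.Prelude.Def_Formal
import Groth.Prelude.Def_FlatMod2
import Groth.Agent.R2.H49BertiniAff
import Groth.Agent.R2.H49BertiniGeom
import Groth.Agent.R2.H49ZeroSch
import Groth.Agent.Lib.Helper4NorLocusGen
import Groth.Agent.Lib.Helper23SecTw9
import Groth.Agent.Lib.Helper23Restr

/-!
# Bertini via jets: the geometric glue (helper49)
-/

set_option autoImplicit false
universe u

open CategoryTheory CategoryTheory.Limits AlgebraicGeometry TopologicalSpace Opposite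

namespace Groth.Agent.R2.H49.BertiniJet

open Groth.Agent.R2.H49.PnLin Groth.Agent.Lib.Helper23.SecTw Groth.Agent.Lib.Helper6

section Cover

variable (k : Type u) [Field k] {Y : Scheme.{u}} (q : Y ⟶ Spec (CommRingCat.of k))

theorem const_eq_comp (W : Y.Opens) :
    const k q W = (q.appLE ⊤ W le_top).hom.comp (Scheme.ΓSpecIso (CommRingCat.of k)).inv.hom := rfl

theorem smooth_comp_appLE_of_const {A' : Type u} [CommRing A'] (W : Y.Opens)
    (φ : Γ(Y, W) →+* A') (h : RingHom.Smooth (φ.comp (const k q W))) :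
    RingHom.Smooth (φ.comp (q.appLE ⊤ W le_top).hom) := by
  let ε : Γ(Spec (CommRingCat.of k), ⊤) ≃+* k :=
    (Scheme.ΓSpecIso (CommRingCat.of k)).commRingCatIsoToRingEquiv
  have h1 := RingHom.Smooth.respectsIso.2 _ ε h
  have h2 : (φ.comp (const k q W)).comp ε.toRingHom = φ.comp (q.appLE ⊤ W le_top).hom := by
    ext x
    simp only [RingHom.comp_apply, const_eq_comp]
    congr 2
    exact congrArg (fun f => f.hom x) (Scheme.ΓSpecIso (CommRingCat.of k)).hom_inv_id
  rw [← h2]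
  exact h1

/-- smoothness of a closed subscheme over a field can be checked on an affine cover. -/
theorem smooth_subscheme_of_cover (I : Y.IdealSheafData) {ι : Type*} (W : ι → Y.affineOpens)
    (hW : ⨆ j, (W j).1 = ⊤)
    (H : ∀ j, RingHom.Smooth ((Ideal.Quotient.mk (I.ideal (W j))).comp (const k q (W j).1))) :
    Smooth (I.subschemeι ≫ q) := by
  let U : ι → I.subscheme.affineOpens := fun j =>
    ⟨I.subschemeι ⁻¹ᵁ (W j).1, (W j).2.preimage I.subschemeι⟩
  have hU : ⨆ j, (U j : I.subscheme.Opens) = ⊤ := by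
    have := congrArg (fun V => I.subschemeι ⁻¹ᵁ V) hW
    simp only [Scheme.Hom.preimage_iSup, Scheme.Hom.preimage_top] at this
    exact this
  refine HasRingHomProperty.of_iSup_eq_top (P := @Smooth) U hU fun j => ?_
  have h1 : (I.subschemeι ≫ q).appLE ⊤ (U j).1 le_top =
      q.appLE ⊤ (W j).1 le_top ≫ I.subschemeι.app (W j).1 :=
    (Groth.Agent.R2.H49.BertiniGeom.appLE_comp_app I.subschemeι q ⊤ (W j).1
      (fun _ _ => trivial) (fun _ _ => trivial)).symm
  rw [h1, I.subschemeι_app (W j)]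
  have h2 := smooth_comp_appLE_of_const k q (W j).1 _ (H j)
  have h3 := RingHom.Smooth.respectsIso.1 _
    (I.subschemeObjIso (W j)).symm.commRingCatIsoToRingEquiv h2
  exact h3

/-- sections of a smooth `k`-scheme over an affine open are a smooth `k`-algebra. -/
theorem smooth_const [Smooth q] {W : Y.Opens} (hW : IsAffineOpen W) :
    RingHom.Smooth (const k q W) := by
  have h1 : RingHom.Smooth (q.appLE ⊤ W le_top).hom :=
    HasRingHomProperty.appLE (P := @Smooth) q inferInstance ⟨⊤, isAffineOpen_top _⟩ ⟨W, hW⟩ le_top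
  let ε : k ≃+* Γ(Spec (CommRingCat.of k), ⊤) :=
    (Scheme.ΓSpecIso (CommRingCat.of k)).symm.commRingCatIsoToRingEquiv
  exact RingHom.Smooth.respectsIso.2 _ ε h1

end Cover

section Sections

variable (k : Type u) [Field k] {Y : Scheme.{u}} [Y.Over (Spec (CommRingCat.of k))]

theorem smulMod_app (M : Y.Modules) (c : k) (W : Y.Opens) (x : Γ(M, W)) :
    (Formal.smulMod k M c).app W x =
      const k (Y ↘ Spec (CommRingCat.of k)) W c • x := rfl

theorem sv_smulMod_comp {L : Y.Modules} (s : Coh.structureModule Y ⟶ L) (c : k) (W : Y.Opens) :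
    sv (Formal.smulMod k (Coh.structureModule Y) c ≫ s) W =
      const k (Y ↘ Spec (CommRingCat.of k)) W c • sv s W := by
  rw [sv_comp, val_eq_app, smulMod_app, Scheme.Modules.Hom.app_smul]
  rfl

theorem sv_sum {L : Y.Modules} {ι : Type*} (t : Finset ι) (σ : ι → (Coh.structureModule Y ⟶ L))
    (W : Y.Opens) : sv (∑ i ∈ t, σ i) W = ∑ i ∈ t, sv (σ i) W := by
  classical
  induction t using Finset.induction_on with
  | empty => simp [Groth.Agent.Lib.Helper23.SecTw.sv_zero]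
  | insert j t hj ih =>
    rw [Finset.sum_insert hj, Finset.sum_insert hj, Groth.Agent.Lib.Helper23.SecTw.sv_add, ih]

end Sections

section Jets

variable (k : Type u) [Field k] [IsAlgClosed k] {Y : Scheme.{u}} [Y.Over (Spec (CommRingCat.of k))]
  [LocallyOfFiniteType (Y ↘ Spec (CommRingCat.of k))]

omit [IsAlgClosed k] in
include k in
theorem isClosed_fromSpec_of_isMaximal {W : Y.Opens} (hW : IsAffineOpen W) (𝔪 : Ideal Γ(Y, W))
    (h𝔪 : 𝔪.IsMaximal) : IsClosed ({hW.fromSpec ⟨𝔪, h𝔪.isPrime⟩} : Set Y) := by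
  have : JacobsonSpace Y := LocallyOfFiniteType.jacobsonSpace (Y ↘ Spec (CommRingCat.of k))
  have h1 := hW.fromSpec.isOpenEmbedding.preimage_closedPoints
  have h2 : IsClosed ({(⟨𝔪, h𝔪.isPrime⟩ : PrimeSpectrum Γ(Y, W))} :
      Set (PrimeSpectrum Γ(Y, W))) :=
    (PrimeSpectrum.isClosed_singleton_iff_isMaximal _).mpr h𝔪
  have h3 : (⟨𝔪, h𝔪.isPrime⟩ : Spec Γ(Y, W)) ∈ hW.fromSpec ⁻¹' closedPoints Y := by
    rw [h1]
    exact h2
  exact h3

omit [IsAlgClosed k] in
open Groth.Agent.Lib.Helper2.QCoh Groth.Agent.R2.H49.PnLinPull Groth.Agent.R2.H49.BertiniGeom in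
theorem jets_chart (L : Y.Modules) (m : ℕ) (s : Fin m → (Coh.structureModule Y ⟶ L))
    (hjet : ∀ p : Y, IsClosed ({p} : Set Y) → ∀ l : ↥(L.presheaf.stalk p), ∃ c : Fin m → k,
      (L.presheaf.germ ⊤ p trivial)
          (PicF2.secVal L (∑ i : Fin m, Formal.smulMod k (Coh.structureModule Y) (c i) ≫ s i) ⊤) - l ∈
        (IsLocalRing.maximalIdeal ↥(Y.presheaf.stalk p)) ^ 2 •
          (⊤ : Submodule ↥(Y.presheaf.stalk p) ↥(L.presheaf.stalk p)))
    {W : Y.Opens} (hW : IsAffineOpen W) (e : Γ(L, W)) (he : IsGen L W e)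
    (u : Fin m → Γ(Y, W)) (hu : ∀ i, sv (s i) W = u i • e)
    (𝔪 : Ideal Γ(Y, W)) (h𝔪 : 𝔪.IsMaximal) (a : Γ(Y, W)) :
    ∃ c : Fin m → k,
      ∑ i, const k (Y ↘ Spec (CommRingCat.of k)) W (c i) * u i - a ∈ 𝔪 ^ 2 := by
  set p := hW.fromSpec ⟨𝔪, h𝔪.isPrime⟩ with hp
  have hpW : p ∈ W := fromSpec_mem hW _
  have hcl := isClosed_fromSpec_of_isMaximal k hW 𝔪 h𝔪
  obtain ⟨c, hc⟩ := hjet p hcl (L.presheaf.germ W p hpW (a • e))
  refine ⟨c, ?_⟩
  set τ := ∑ i : Fin m, Formal.smulMod k (Coh.structureModule Y) (c i) ≫ s i with hτ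
  have h1 : L.presheaf.germ ⊤ p trivial (PicF2.secVal L τ ⊤) =
      L.presheaf.germ W p hpW (sv τ W) := by
    rw [← res_sv τ (le_top : W ≤ ⊤)]
    exact (TopCat.Presheaf.germ_res_apply L.presheaf (homOfLE (le_top : W ≤ ⊤)) p hpW _).symm
  have h2 : sv τ W = (∑ i, const k (Y ↘ Spec (CommRingCat.of k)) W (c i) * u i) • e := by
    rw [hτ, sv_sum, Finset.sum_smul]
    refine Finset.sum_congr rfl fun i _ => ?_
    rw [sv_smulMod_comp, hu, smul_smul]
  rw [h1, h2, ← map_sub, ← sub_smul, germ_smul] at hc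
  have hbij := Groth.Agent.R2.H75.OrdTensor.bijective_germ_of_isGen L W e he p hpW
  rw [smul_mem_smul_top_iff _ hbij] at hc
  have hprime : (hW.primeIdealOf ⟨p, hpW⟩).asIdeal = 𝔪 := by rw [primeIdealOf_fromSpec]
  have := mem_sq_of_germ_mem_sq hW p hpW (hprime ▸ h𝔪) _ hc
  rw [hprime] at this
  exact this

section Chart

variable [Smooth (Y ↘ Spec (CommRingCat.of k))]

omit [LocallyOfFiniteType (Y ↘ Spec (CommRingCat.of k))] in
/-- sections of a smooth scheme over an algebraically closed field over an affine open form a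
regular ring of finite type. -/
theorem regular_sections {W : Y.Opens} (hW : IsAffineOpen W) :
    (const k (Y ↘ Spec (CommRingCat.of k)) W).FiniteType ∧ IsRegularRing Γ(Y, W) := by
  have hsm := smooth_const k (Y ↘ Spec (CommRingCat.of k)) hW
  algebraize [const k (Y ↘ Spec (CommRingCat.of k)) W]
  have hft : Algebra.FiniteType k Γ(Y, W) := inferInstance
  refine ⟨?_, (Groth.Agent.Lib.Helper19.SmVar.isRegularRing_iff_formallySmooth k Γ(Y, W)).mpr
    inferInstance⟩
  exact (RingHom.finiteType_algebraMap (A := k) (B := Γ(Y, W))).mpr hft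

omit [LocallyOfFiniteType (Y ↘ Spec (CommRingCat.of k))] in
include k in
/-- charts: affine opens with a generator of `L` and a domain of sections. -/
theorem exists_chart (L : Y.Modules) (hL : PicF.IsInvertible L) (x : Y) :
    ∃ (W : Y.Opens) (_ : IsAffineOpen W) (e : Γ(L, W)),
      x ∈ W ∧ IsGen L W e ∧ IsDomain Γ(Y, W) := by
  obtain ⟨W₀, hxW₀, hW₀, e₀, -, -, -, he₀⟩ := exists_frame L hL 0 x
  obtain ⟨hft, hreg⟩ := regular_sections k hW₀
  set p := (hW₀.primeIdealOf ⟨x, hxW₀⟩).asIdeal with hp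
  have : IsRegularLocalRing (Localization.AtPrime p) :=
    IsRegularRing.isRegularLocalRing_localization p
  have : IsDomain (Localization.AtPrime p) :=
    Groth.Agent.Lib.Helper5.isDomain_of_isRegularLocalRing _
  obtain ⟨g, hgp, hdom⟩ := Groth.Agent.Lib.Helper4.NorLocusGen.exists_isDomain_away p
  refine ⟨Y.basicOpen g, hW₀.basicOpen g, res L (Y.basicOpen_le g) e₀, ?_,
    he₀.mono (Y.basicOpen_le g), ?_⟩
  · exact (mem_basicOpen_iff_notMem hW₀ x hxW₀ g).mpr hgp
  · have : IsLocalization.Away g Γ(Y, Y.basicOpen g) := hW₀.isLocalization_basicOpen g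
    let ε : Γ(Y, Y.basicOpen g) ≃ₐ[Γ(Y, W₀)] Localization.Away g :=
      IsLocalization.algEquiv (Submonoid.powers g) _ _
    exact ε.toMulEquiv.isDomain _

open Groth.Agent.R2.H49.BertiniAff in
/-- the polynomial of a chart. -/
theorem chart_poly (L : Y.Modules) (m : ℕ) (s : Fin m → (Coh.structureModule Y ⟶ L))
    (f : Coh.structureModule Y ⟶ L)
    (hjet : ∀ p : Y, IsClosed ({p} : Set Y) → ∀ l : ↥(L.presheaf.stalk p), ∃ c : Fin m → k,
      (L.presheaf.germ ⊤ p trivial)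
          (PicF2.secVal L (∑ i : Fin m, Formal.smulMod k (Coh.structureModule Y) (c i) ≫ s i) ⊤) - l ∈
        (IsLocalRing.maximalIdeal ↥(Y.presheaf.stalk p)) ^ 2 •
          (⊤ : Submodule ↥(Y.presheaf.stalk p) ↥(L.presheaf.stalk p)))
    {W : Y.Opens} (hW : IsAffineOpen W) (hdom : IsDomain Γ(Y, W)) (e : Γ(L, W))
    (he : IsGen L W e) :
    ∃ g : MvPolynomial (Fin m) k, g ≠ 0 ∧ ∀ c : Fin m → k, MvPolynomial.eval c g ≠ 0 →
      ∀ t : Γ(Y, W),
        sv (f + ∑ i, Formal.smulMod k (Coh.structureModule Y) (c i) ≫ s i) W = t • e →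
          RingHom.Smooth ((Ideal.Quotient.mk (Ideal.span {t})).comp
            (const k (Y ↘ Spec (CommRingCat.of k)) W)) := by
  have hex : ∀ σ : Coh.structureModule Y ⟶ L, ∃ r : Γ(Y, W), sv σ W = r • e := fun σ => by
    obtain ⟨r, hr⟩ := (he W le_rfl).2 (sv σ W)
    refine ⟨r, ?_⟩
    have h : r • res L (le_refl W) e = sv σ W := hr
    rw [res_self] at h
    exact h.symm
  choose u hu using fun i => hex (s i)
  obtain ⟨u0, hu0⟩ := hex f
  obtain ⟨hft, hreg⟩ := regular_sections k hW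
  algebraize [const k (Y ↘ Spec (CommRingCat.of k)) W]
  have hsmul : ∀ (r : k) (a : Γ(Y, W)), r • a = const k (Y ↘ Spec (CommRingCat.of k)) W r * a :=
    fun r a => Algebra.smul_def r a
  obtain ⟨g, hg0, hg⟩ := coreJet k Γ(Y, W) m u u0 (fun 𝔪 h𝔪 a => by
    obtain ⟨c, hc⟩ := jets_chart k L m s hjet hW e he u hu 𝔪 h𝔪 a
    refine ⟨c, ?_⟩
    simp only [hsmul]
    exact hc)
  refine ⟨g, hg0, fun c hc t ht => ?_⟩
  have htc : t = u0 + ∑ i, c i • u i := by
    apply (he W le_rfl).1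
    change t • res L (le_refl W) e = (u0 + ∑ i, c i • u i) • res L (le_refl W) e
    rw [res_self, ← ht, Groth.Agent.Lib.Helper23.SecTw.sv_add, sv_sum, hu0, add_smul,
      Finset.sum_smul]
    congr 1
    refine Finset.sum_congr rfl fun i _ => ?_
    rw [sv_smulMod_comp, hu, smul_smul, hsmul]
  have hnot : ∀ 𝔪 : Ideal Γ(Y, W), 𝔪.IsMaximal → t ∈ 𝔪 → t ∉ 𝔪 ^ 2 := by
    intro 𝔪 h𝔪 _ h2
    rw [htc] at h2
    exact hc (hg c 𝔪 h𝔪 h2)
  have hS := smooth_quotient k Γ(Y, W) t hnot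
  exact RingHom.smooth_algebraMap.mpr hS

end Chart

end Jets

section Main

theorem smooth_mk_congr {A B : Type u} [CommRing A] [CommRing B] (φ : B →+* A) {J J' : Ideal A}
    (h : J = J') (H : RingHom.Smooth ((Ideal.Quotient.mk J').comp φ)) :
    RingHom.Smooth ((Ideal.Quotient.mk J).comp φ) := by
  subst h
  exact H

open Groth.Agent.R2.H49.ZeroSch in
/-- **Bertini via jets** (S14990). -/
theorem main (k : Type u) [Field k] [IsAlgClosed k]
    (Y : Scheme.{u}) [Y.Over (Spec (CommRingCat.of k))] [Smooth (Y ↘ Spec (CommRingCat.of k))]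
    [QuasiCompact (Y ↘ Spec (CommRingCat.of k))]
    (L : Y.Modules) (hL : FlatMod.IsFinLocFreeOfRank 1 L) (m : ℕ)
    (s : Fin m → (Coh.structureModule Y ⟶ L)) (f : Coh.structureModule Y ⟶ L)
    (hjet : ∀ p : Y, IsClosed ({p} : Set Y) → ∀ l : ↥(L.presheaf.stalk p), ∃ c : Fin m → k,
      (L.presheaf.germ ⊤ p trivial)
          (PicF2.secVal L (∑ i : Fin m, Formal.smulMod k (Coh.structureModule Y) (c i) ≫ s i) ⊤) - l ∈
        (IsLocalRing.maximalIdeal ↥(Y.presheaf.stalk p)) ^ 2 •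
          (⊤ : Submodule ↥(Y.presheaf.stalk p) ↥(L.presheaf.stalk p))) :
    ∃ q : MvPolynomial (Fin m) k, q ≠ 0 ∧ ∀ c : Fin m → k, MvPolynomial.eval c q ≠ 0 →
      Smooth ((PicF2.zeroScheme L (f + ∑ i : Fin m, Formal.smulMod k (Coh.structureModule Y) (c i) ≫ s i)).subschemeι ≫
        (Y ↘ Spec (CommRingCat.of k))) := by
  classical
  have hinv := isInvertible_of_rank_one L hL
  have : CompactSpace Y :=
    QuasiCompact.compactSpace_of_compactSpace (Y ↘ Spec (CommRingCat.of k))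
  choose W hW e hxW he hdom using exists_chart k L hinv
  choose g hg0 hg using fun x => chart_poly k L m s f hjet (hW x) (hdom x) (e x) (he x)
  obtain ⟨T, hT⟩ := CompactSpace.elim_nhds_subcover (fun x => (W x : Set Y))
    (fun x => (W x).isOpen.mem_nhds (hxW x))
  refine ⟨∏ x ∈ T, g x, Finset.prod_ne_zero_iff.mpr fun x _ => hg0 x, fun c hc => ?_⟩
  rw [map_prod] at hc
  have hcx : ∀ x ∈ T, MvPolynomial.eval c (g x) ≠ 0 := fun x hx =>
    (Finset.prod_ne_zero_iff.mp hc) x hx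
  set σ := f + ∑ i : Fin m, Formal.smulMod k (Coh.structureModule Y) (c i) ≫ s i with hσ
  refine smooth_subscheme_of_cover k (Y ↘ Spec (CommRingCat.of k)) (PicF2.zeroScheme L σ)
    (ι := T) (fun x => ⟨W x.1, hW x.1⟩) ?_ ?_
  · rw [eq_top_iff]
    intro y _
    have hy : y ∈ ⋃ x ∈ T, (W x : Set Y) := by rw [hT]; trivial
    obtain ⟨x, hx, hyx⟩ := Set.mem_iUnion₂.mp hy
    exact Opens.mem_iSup.mpr ⟨⟨x, hx⟩, hyx⟩
  · rintro ⟨x, hx⟩
    obtain ⟨t, ht⟩ : ∃ t : Γ(Y, W x), sv σ (W x) = t • e x := by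
      obtain ⟨r, hr⟩ := (he x (W x) le_rfl).2 (sv σ (W x))
      refine ⟨r, ?_⟩
      have h : r • res L (le_refl (W x)) (e x) = sv σ (W x) := hr
      rw [res_self] at h
      exact h.symm
    have hI := zeroScheme_ideal_of_frame L σ hL (hW x) (e x) t (he x) ht
    exact smooth_mk_congr _ hI (hg x c (hcx x hx) t ht)

end Main

end Groth.Agent.R2.H49.BertiniJet
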