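import Mathlib
import Groth.Agent.R2.H49BertiniAffine
import Groth.Agent.R2.H49BertiniJet
import Groth.Agent.Lib.Helper22IdealComap
import Groth.Agent.Lib.Helper21UnitHom
import Groth.Agent.Lib.Helper27PnChart

/-!
# Bertini over an infinite field for closed subschemes of projective space (helper49)
-/

set_option autoImplicit false
universe u

open CategoryTheory CategoryTheory.Limits AlgebraicGeometry TopologicalSpace Opposite
  HomogeneousLocalization TensorProduct

namespace Groth.Agent.R2.H49.BertiniPn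

section Alg

open KaehlerDifferential

/-- the differentials of algebra generators generate the module of differentials. -/
theorem span_D_of_adjoin (k A : Type u) [CommRing k] [CommRing A] [Algebra k A] {ι : Type*}
    (u : ι → A) (h : Algebra.adjoin k (Set.range u) = ⊤) :
    Submodule.span A (Set.range fun i => D k A (u i)) = ⊤ := by
  set N := Submodule.span A (Set.range fun i => D k A (u i)) with hN
  rw [eq_top_iff, ← KaehlerDifferential.span_range_derivation k A, Submodule.span_le]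
  rintro _ ⟨a, rfl⟩
  have ha : a ∈ Algebra.adjoin k (Set.range u) := by rw [h]; exact Algebra.mem_top
  induction ha using Algebra.adjoin_induction with
  | mem x hx =>
    obtain ⟨i, rfl⟩ := hx
    exact Submodule.subset_span ⟨i, rfl⟩
  | algebraMap r =>
    rw [Derivation.map_algebraMap]
    exact N.zero_mem
  | add x y _ _ hx hy =>
    rw [map_add]
    exact N.add_mem hx hy
  | mul x y _ _ hx hy =>
    rw [Derivation.leibniz]
    exact N.add_mem (N.smul_mem _ hy) (N.smul_mem _ hx)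

/-- a hypersurface section of a smooth algebra is smooth if the equation and its differential have
no common zero at a field valued point. -/
theorem smooth_quotient_of_generic (k C : Type u) [Field k] [CommRing C] [Algebra k C]
    [Algebra.Smooth k C] (t : C)
    (hgen : ∀ (F : Type u) [Field F] [Algebra C F], algebraMap C F t = 0 →
      (1 : F) ⊗ₜ[C] D k C t ≠ 0) :
    Algebra.Smooth k (C ⧸ Ideal.span {t}) := by
  classical
  have hft : Algebra.FiniteType k C := inferInstance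
  have hftB : Algebra.FiniteType k (C ⧸ Ideal.span {t}) :=
    Algebra.FiniteType.of_surjective (Ideal.Quotient.mkₐ k (Ideal.span {t}))
      Ideal.Quotient.mk_surjective
  have hfpB : Algebra.FinitePresentation k (C ⧸ Ideal.span {t}) :=
    (Algebra.FinitePresentation.of_finiteType (R := k) (A := C ⧸ Ideal.span {t})).mp hftB
  suffices h : Algebra.FormallySmooth k (C ⧸ Ideal.span {t}) from ⟨h, hfpB⟩
  rw [← Algebra.smoothLocus_eq_univ_iff, Set.eq_univ_iff_forall]
  intro q
  have hq'prime : (q.asIdeal.comap (Ideal.Quotient.mk (Ideal.span {t}))).IsPrime :=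
    Ideal.comap_isPrime _ _
  have htq : t ∈ q.asIdeal.comap (Ideal.Quotient.mk (Ideal.span {t})) := by
    rw [Ideal.mem_comap]
    have h0 : (Ideal.Quotient.mk (Ideal.span {t})) t = 0 :=
      Ideal.Quotient.eq_zero_iff_mem.mpr (Ideal.subset_span (Set.mem_singleton t))
    rw [h0]
    exact zero_mem _
  have hsmC : Algebra.IsSmoothAt k (q.asIdeal.comap (Ideal.Quotient.mk (Ideal.span {t}))) := by
    have h1 : (⟨_, hq'prime⟩ : PrimeSpectrum C) ∈ Algebra.smoothLocus k C := by
      rw [Algebra.smoothLocus_eq_univ]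
      exact Set.mem_univ _
    exact h1
  have hne := hgen (q.asIdeal.comap (Ideal.Quotient.mk (Ideal.span {t}))).ResidueField
    ((Ideal.algebraMap_residueField_eq_zero).mpr htq)
  change Algebra.IsSmoothAt k q.asIdeal
  rw [Groth.Agent.Lib.Helper6.Jac.isSmoothAt_quotient_iff k C (Ideal.span {t}) q.asIdeal
    (q.asIdeal.comap (Ideal.Quotient.mk (Ideal.span {t}))) rfl]
  refine ⟨{t}, ?_, ?_, ?_⟩
  · rw [Finset.coe_singleton, Set.singleton_subset_iff]
    exact Ideal.subset_span rfl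
  · rw [Ideal.map_span, Finset.coe_singleton]
  · rw [linearIndependent_subsingleton_index_iff]
    rintro ⟨g, hg⟩
    rw [Finset.mem_singleton] at hg
    subst hg
    exact hne

end Alg

section Chart

open MvPolynomial Groth.Agent.Lib.Helper27GrTildeSect Groth.Agent.Lib.Helper23.SecTw
  Groth.Agent.Lib.Helper6 Groth.Agent.R2.H49.PnLin Groth.Agent.R2.H49.BertiniGeom
  Groth.Agent.R2.H49.BertiniSm Groth.Agent.R2.H49.BertiniJet

variable (n : ℕ) (k : Type u) [Field k] {X : Scheme.{u}}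
  (ι : X ⟶ Proj (CohB1.polyGrading n k))

local notation "𝒬" => CohB1.polyGrading n k

/-- **Bertini on one chart, over an arbitrary field.** -/
theorem chartSm [IsIntegral X] [IsClosedImmersion ι] [Smooth (ι ≫ toBase 𝒬)] (j : Fin (n + 1)) :
    ∃ g : MvPolynomial (Fin (n + 1)) k, g ≠ 0 ∧ ∀ a : Fin (n + 1) → k,
      MvPolynomial.eval a g ≠ 0 →
      RingHom.Smooth ((Ideal.Quotient.mk (Ideal.span
        {(ι.app (Proj.basicOpen 𝒬 (lin n k (Pi.single j 1)))).hom
          (ratio n k a (Pi.single j 1))})).comp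
        (const k (ι ≫ toBase 𝒬) (ι ⁻¹ᵁ Proj.basicOpen 𝒬 (lin n k (Pi.single j 1))))) := by
  classical
  set c' : Fin (n + 1) → k := Pi.single j 1 with hc'
  set D := Proj.basicOpen 𝒬 (lin n k c') with hDdef
  have hD : IsAffineOpen D :=
    Proj.isAffineOpen_basicOpen 𝒬 (lin n k c') (lin_mem n k c') Nat.one_pos
  set U := ι ⁻¹ᵁ D with hUdef
  have hU : IsAffineOpen U := hD.preimage ι
  let q : X ⟶ Spec (CommRingCat.of k) := ι ≫ toBase 𝒬
  have hsmU : RingHom.Smooth (const k q U) := smooth_const k q hU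
  by_cases hne : Nonempty U
  swap
  · refine ⟨1, one_ne_zero, fun a _ => ?_⟩
    have hUbot : U = ⊥ := by
      ext x
      simp only [TopologicalSpace.Opens.coe_bot, Set.mem_empty_iff_false, iff_false]
      exact fun hx => hne ⟨⟨x, hx⟩⟩
    have hsub : Subsingleton Γ(X, U) := by
      rw [hUbot]
      infer_instance
    let e : Γ(X, U) ≃+* Γ(X, U) ⧸ Ideal.span
        {(ι.app D).hom (ratio n k a c')} :=
      RingEquiv.ofBijective (Ideal.Quotient.mk _)
        ⟨fun x y _ => Subsingleton.elim x y, Ideal.Quotient.mk_surjective⟩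
    exact RingHom.Smooth.respectsIso.1 _ e hsmU
  have hq : LocallyOfFiniteType q := inferInstance
  let _ : Algebra k Γ(X, U) := (const k q U).toAlgebra
  have hdom : IsDomain Γ(X, U) := inferInstance
  let ψ : Γ(Proj 𝒬, D) →+* Γ(X, U) := (ι.app D).hom
  have hψ : Function.Surjective ψ := ι.app_surjective D hD
  have hψc : ∀ r : k, ψ (resf (le_top : D ≤ ⊤) (constFun 𝒬 r)) = algebraMap k Γ(X, U) r :=
    fun r => const_app n k ι D r
  let u : Fin (n + 1) → Γ(X, U) := fun i => ψ (ratio n k (Pi.single i 1) c')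
  have hψratio : ∀ c : Fin (n + 1) → k, ψ (ratio n k c c') = ∑ i, c i • u i := by
    intro c
    rw [ratio_eq_sum, map_sum]
    refine Finset.sum_congr rfl fun i _ => ?_
    rw [map_mul, hψc, Algebra.smul_def]
  have hgen : Algebra.adjoin k (Set.range u) = ⊤ := by
    rw [eq_top_iff]
    rintro f -
    obtain ⟨b, rfl⟩ := hψ f
    set S := Algebra.adjoin k (Set.range u) with hS
    let E' : Subring Γ(Proj 𝒬, D) := Subring.comap ψ S.toSubring
    let E : Subring (Away 𝒬 (lin n k c')) :=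
      Subring.comap (Proj.awayToSection 𝒬 (lin n k c')).hom E'
    have hE : E = ⊤ := by
      apply Groth.Agent.Lib.Helper27AwayGen.subring_eq_top 𝒬 (lin_mem n k c') (lin n k)
        (lin_mem n k) (adjoin_range_lin n k) E
      · intro r
        change ψ ((Proj.awayToSection 𝒬 (lin n k c')).hom _) ∈ S
        rw [mk'_zero_eq, awayToSection_const 𝒬 (lin_mem n k c') Nat.one_pos]
        have := hψc r
        change ψ (resf (le_top : D ≤ ⊤) (constFun 𝒬 r)) ∈ S
        rw [this]
        exact S.algebraMap_mem r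
      · intro c
        change ψ ((Proj.awayToSection 𝒬 (lin n k c')).hom _) ∈ S
        rw [awayToSection_mk'_one]
        change ψ (ratio n k c c') ∈ S
        rw [hψratio]
        exact S.sum_mem fun i _ => S.smul_mem (Algebra.subset_adjoin ⟨i, rfl⟩) _
    obtain ⟨j', a', ha', h⟩ := exists_awayToSection_eq (lin_mem n k c') Nat.one_pos b
    have h2 : (Proj.awayToSection 𝒬 (lin n k c')).hom
        (Away.mk 𝒬 (lin_mem n k c') j' a' ha') ∈ E' := by
      have : Away.mk 𝒬 (lin_mem n k c') j' a' ha' ∈ E := by rw [hE]; exact Subring.mem_top _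
      exact this
    rw [h] at h2
    exact h2
  have hft : Algebra.FiniteType k Γ(X, U) :=
    ⟨⟨Finset.univ.image u, by
      rw [Finset.coe_image, Finset.coe_univ, Set.image_univ]
      exact hgen⟩⟩
  have huj : u j = 1 := by
    change ψ (ratio n k (Pi.single j 1) c') = 1
    rw [ratio, cfun_self, map_one]
  have hsm : Algebra.Smooth k Γ(X, U) := hsmU
  have hproj : Module.Projective Γ(X, U) Ω[Γ(X, U)⁄k] :=
    Algebra.FormallySmooth.projective_kaehlerDifferential
  obtain ⟨r, -, hr, -⟩ := Groth.Agent.Lib.Helper14.FTDim.exists_dim k Γ(X, U)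
  obtain ⟨g, hg0, hg⟩ := coreSm k Γ(X, U) n u r hr.le
    (fun F _ _ => finrank_tensor_kaehler k Γ(X, U) r hr F)
    (span_D_of_adjoin k Γ(X, U) u hgen) j huj
  refine ⟨g, hg0, fun a ha => ?_⟩
  have hsmq : Algebra.Smooth k (Γ(X, U) ⧸ Ideal.span {∑ i, a i • u i}) := by
    apply smooth_quotient_of_generic
    intro F _ _ h1 h2
    exact ha (hg a F h1 h2)
  rw [← hψratio] at hsmq
  exact hsmq

end Chart

section Geom

open MvPolynomial Groth.Agent.Lib.Helper27GrTildeSect Groth.Agent.Lib.Helper23.SecTw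
  Groth.Agent.Lib.Helper6 Groth.Agent.R2.H49.PnLin Groth.Agent.R2.H49.BertiniGeom
  Groth.Agent.R2.H49.ZeroSch

variable (n : ℕ) (k : Type u) [Field k]

local notation "𝒬" => CohB1.polyGrading n k

/-- `ℓ_a / 1 = (ℓ_a / ℓ_c) • (ℓ_c / 1)` on `D₊(ℓ_c)`. -/
theorem gsec_ratio (a c' : Fin (n + 1) → k) :
    gsec 𝒬 1 (Proj.basicOpen 𝒬 (lin n k c')) (lin_mem n k a) =
      ratio n k a c' • gsec 𝒬 1 (Proj.basicOpen 𝒬 (lin n k c')) (lin_mem n k c') := by
  apply sec_ext
  intro y hy
  change (secVal 𝒬 𝒬 ((1 : ℕ) : ℤ) (Proj.basicOpen 𝒬 (lin n k c'))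
      (gsec 𝒬 1 (Proj.basicOpen 𝒬 (lin n k c')) (lin_mem n k a)) y hy : Twist.Loc 𝒬 y) =
    (secVal 𝒬 𝒬 ((1 : ℕ) : ℤ) (Proj.basicOpen 𝒬 (lin n k c'))
      (ratio n k a c' • gsec 𝒬 1 (Proj.basicOpen 𝒬 (lin n k c')) (lin_mem n k c')) y hy :
        Twist.Loc 𝒬 y)
  rw [secVal_smul', ratio, cfun, funVal_fracFun]
  change Localization.mk (lin n k a) (1 : y.asHomogeneousIdeal.toIdeal.primeCompl) =
    Localization.mk (lin n k a) _ *
      Localization.mk (lin n k c') (1 : y.asHomogeneousIdeal.toIdeal.primeCompl)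
  rw [Localization.mk_mul, Localization.mk_eq_mk_iff, Localization.r_iff_exists]
  refine ⟨1, ?_⟩
  simp only [OneMemClass.coe_one, one_mul, mul_one]
  ring

theorem isFinLocFreeOfRank_one :
    FlatMod.IsFinLocFreeOfRank 1 (GrTilde.tilde 𝒬 𝒬 ((1 : ℕ) : ℤ)) := by
  have hinv : PicF.IsInvertible (GrTilde.tilde 𝒬 𝒬 ((1 : ℕ) : ℤ)) :=
    isInvertible_tilde 𝒬 (fun y => by
      obtain ⟨i, hi⟩ := Groth.Agent.Lib.Helper27PnSections.exists_X_not_mem n k y
      exact ⟨⟨MvPolynomial.X i, Groth.Agent.Lib.Helper27ProjGamma.hX n k i⟩,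
        (ProjectiveSpectrum.mem_basicOpen _ _ y).mpr hi⟩) _
  intro x
  obtain ⟨U, hxU, ⟨ε⟩⟩ := hinv x
  exact ⟨U, hxU, ⟨ε ≪≫ (Limits.coproductUniqueIso
    (fun _ : Fin 1 => Coh.structureModule (↑U : Scheme.{u}))).symm⟩⟩

variable {n k}

/-- the ideal of the zero scheme of the section `ℓ_a` of `O(1)` on the chart `D₊(ℓ_c)`. -/
theorem zeroScheme_ideal_chart
    (s : Coh.structureModule (Proj 𝒬) ⟶ GrTilde.tilde 𝒬 𝒬 ((1 : ℕ) : ℤ))
    (a : Fin (n + 1) → k) (hs : sv s ⊤ = gsec 𝒬 1 ⊤ (lin_mem n k a)) (c' : Fin (n + 1) → k) :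
    (PicF2.zeroScheme _ s).ideal ⟨Proj.basicOpen 𝒬 (lin n k c'),
        Proj.isAffineOpen_basicOpen 𝒬 (lin n k c') (lin_mem n k c') Nat.one_pos⟩ =
      Ideal.span {ratio n k a c'} := by
  apply zeroScheme_ideal_of_frame _ s (isFinLocFreeOfRank_one n k) _
    (gsec 𝒬 1 (Proj.basicOpen 𝒬 (lin n k c')) (lin_mem n k c')) (ratio n k a c')
    (isGen_gsec 𝒬 1 (lin_mem n k c'))
  rw [← gsec_ratio, ← res_sv s (le_top : Proj.basicOpen 𝒬 (lin n k c') ≤ ⊤), hs]
  rfl

/-- a point where `ℓ_a` does not vanish is not in the support of the zero scheme. -/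
theorem not_mem_support
    (s : Coh.structureModule (Proj 𝒬) ⟶ GrTilde.tilde 𝒬 𝒬 ((1 : ℕ) : ℤ))
    (a : Fin (n + 1) → k) (hs : sv s ⊤ = gsec 𝒬 1 ⊤ (lin_mem n k a)) (y : Proj 𝒬)
    (hy : lin n k a ∉ (show ProjectiveSpectrum 𝒬 from y).asHomogeneousIdeal) :
    y ∉ (PicF2.zeroScheme _ s).support := by
  obtain ⟨j, hj⟩ := Groth.Agent.Lib.Helper27PnSections.exists_X_not_mem n k
    (show ProjectiveSpectrum 𝒬 from y)
  have hyD : y ∈ Proj.basicOpen 𝒬 (lin n k (Pi.single j 1)) :=
    (ProjectiveSpectrum.mem_basicOpen 𝒬 (lin n k (Pi.single j 1)) y).mpr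
      (by rw [lin_single]; exact hj)
  intro hmem
  rw [Scheme.IdealSheafData.mem_support_iff_of_mem (U := ⟨Proj.basicOpen 𝒬 (lin n k (Pi.single j 1)),
    Proj.isAffineOpen_basicOpen 𝒬 (lin n k (Pi.single j 1)) (lin_mem n k (Pi.single j 1))
      Nat.one_pos⟩) hyD, zeroScheme_ideal_chart s a hs, Scheme.zeroLocus_span,
    Scheme.zeroLocus_singleton] at hmem
  exact hmem ((mem_basicOpen_ratio_iff n k a (Pi.single j 1) y hyD).mpr hy)

end Geom

section Main

open MvPolynomial Groth.Agent.Lib.Helper27GrTildeSect Groth.Agent.Lib.Helper23.SecTw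
  Groth.Agent.Lib.Helper6 Groth.Agent.R2.H49.PnLin Groth.Agent.R2.H49.BertiniGeom
  Groth.Agent.R2.H49.BertiniJet

variable (n : ℕ) (k : Type u) [Field k]

local notation "𝒬" => CohB1.polyGrading n k

/-- the hyperplanes not containing a nonempty `X` contain a nonempty open set of hyperplanes
(over an arbitrary field). -/
theorem exists_g0' {Y : Scheme.{u}} [Nonempty Y] (ι : Y ⟶ Proj 𝒬) :
    ∃ g : MvPolynomial (Fin (n + 1)) k, g ≠ 0 ∧ ∀ a : Fin (n + 1) → k,
      MvPolynomial.eval a g ≠ 0 →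
        ∃ x : Y, lin n k a ∉ (show ProjectiveSpectrum 𝒬 from ι x).asHomogeneousIdeal := by
  classical
  obtain ⟨x₀⟩ := ‹Nonempty Y›
  set p := (show ProjectiveSpectrum 𝒬 from ι x₀).asHomogeneousIdeal with hp
  obtain ⟨j, hj⟩ := Groth.Agent.Lib.Helper27PnSections.exists_X_not_mem n k
    (show ProjectiveSpectrum 𝒬 from ι x₀)
  -- the linear map `a ↦ ℓ_a`
  let linL : (Fin (n + 1) → k) →ₗ[k] MvPolynomial (Fin (n + 1)) k :=
    Fintype.linearCombination k (fun i => (X i : MvPolynomial (Fin (n + 1)) k))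
  have hlinL : ∀ a, linL a = lin n k a := by
    intro a
    rw [Fintype.linearCombination_apply, lin]
    exact Finset.sum_congr rfl fun i _ => smul_eq_C_mul _ _
  let K : Submodule k (Fin (n + 1) → k) :=
    Submodule.comap linL (p.toIdeal.restrictScalars k)
  have hK : ∀ a, a ∈ K ↔ lin n k a ∈ p := by
    intro a
    change linL a ∈ p.toIdeal ↔ _
    rw [hlinL]
    rfl
  have hej : (Pi.single j 1 : Fin (n + 1) → k) ∉ K := by
    rw [hK, lin_single]
    exact hj
  obtain ⟨φ, hφj, hφK⟩ := Submodule.exists_le_ker_of_notMem hej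
  have heval : ∀ a : Fin (n + 1) → k,
      MvPolynomial.eval a (∑ i, C (φ (Pi.single i 1)) * X i :
        MvPolynomial (Fin (n + 1)) k) = φ a := by
    intro a
    rw [map_sum]
    simp only [map_mul, eval_C, eval_X]
    have h1 : a = ∑ i, a i • (Pi.single i 1 : Fin (n + 1) → k) := by
      funext l
      simp [Finset.sum_apply, Pi.single_apply]
    conv_rhs => rw [h1, map_sum]
    refine Finset.sum_congr rfl fun i _ => ?_
    rw [map_smul, smul_eq_mul, mul_comm]
  refine ⟨∑ i, C (φ (Pi.single i 1)) * X i, ?_, ?_⟩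
  · intro h0
    have := heval (Pi.single j 1)
    rw [h0, map_zero] at this
    exact hφj this.symm
  · intro a ha
    refine ⟨x₀, fun hmem => ha ?_⟩
    rw [heval]
    exact hφK ((hK a).mpr hmem)

/-- **A smooth projective variety over an infinite field has a smooth hyperplane section.** -/
theorem main [Infinite k] (M : (CohB1.ProjSpace n k).Modules)
    (hM : M = GrTilde.tilde 𝒬 𝒬 ((1 : ℕ) : ℤ))
    (X : Scheme.{u}) [IsIntegral X] (ι : X ⟶ CohB1.ProjSpace n k) [IsClosedImmersion ι]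
    [Smooth (ι ≫ CohB1.ProjSpace.toSpec n k)] :
    ∃ s : Coh.structureModule (CohB1.ProjSpace n k) ⟶ M,
      (∃ x : ↥X, ι.base x ∉ (PicF2.zeroScheme M s).support) ∧
      Smooth (pullback.fst ι (PicF2.zeroScheme M s).subschemeι ≫ ι ≫
        CohB1.ProjSpace.toSpec n k) := by
  classical
  subst hM
  let ι' : X ⟶ Proj 𝒬 := ι
  have hcl : IsClosedImmersion ι' := ‹IsClosedImmersion ι›
  have hsm : Smooth (ι' ≫ toBase 𝒬) := ‹Smooth (ι ≫ CohB1.ProjSpace.toSpec n k)›
  obtain ⟨g0, hg0, hg0'⟩ := exists_g0' n k ι'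
  choose gj hgj hgj' using fun j => chartSm n k ι' j
  have hgne : g0 * ∏ j, gj j ≠ 0 :=
    mul_ne_zero hg0 (Finset.prod_ne_zero_iff.mpr fun j _ => hgj j)
  obtain ⟨a, ha⟩ : ∃ a : Fin (n + 1) → k, MvPolynomial.eval a (g0 * ∏ j, gj j) ≠ 0 := by
    by_contra hcon
    push Not at hcon
    exact hgne (MvPolynomial.funext fun x => by rw [hcon x, map_zero])
  rw [map_mul, map_prod] at ha
  have hne0 : MvPolynomial.eval a g0 ≠ 0 := left_ne_zero_of_mul ha
  have hnej : ∀ j, MvPolynomial.eval a (gj j) ≠ 0 := fun j =>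
    (Finset.prod_ne_zero_iff.mp (right_ne_zero_of_mul ha)) j (Finset.mem_univ j)
  -- the section
  have hT : Limits.IsTerminal (⊤ : TopologicalSpace.Opens (Proj 𝒬)) := Limits.isTerminalTop
  let L : SheafOfModules.{u} (Proj 𝒬).ringCatSheaf := GrTilde.tilde 𝒬 𝒬 ((1 : ℕ) : ℤ)
  let uL := Groth.Agent.Lib.Helper21.UnitHom.unitHomAddEquiv hT L
  let s : Coh.structureModule (Proj 𝒬) ⟶ GrTilde.tilde 𝒬 𝒬 ((1 : ℕ) : ℤ) :=
    uL.symm (gsec 𝒬 1 ⊤ (lin_mem n k a))
  have hs : sv s ⊤ = gsec 𝒬 1 ⊤ (lin_mem n k a) := uL.apply_symm_apply _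
  refine ⟨s, ?_, ?_⟩
  · obtain ⟨x, hx⟩ := hg0' a hne0
    exact ⟨x, not_mem_support s a hs (ι' x) hx⟩
  · set I := PicF2.zeroScheme (GrTilde.tilde 𝒬 𝒬 ((1 : ℕ) : ℤ)) s with hI
    have h1 : pullback.fst ι' I.subschemeι =
        (I.comapIso ι').inv ≫ (I.comap ι').subschemeι :=
      (Scheme.IdealSheafData.comapIso_inv_subschemeι I ι').symm
    change Smooth (pullback.fst ι' I.subschemeι ≫ ι' ≫ toBase 𝒬)
    rw [h1, Category.assoc]
    suffices hsuff : Smooth ((I.comap ι').subschemeι ≫ ι' ≫ toBase 𝒬) from inferInstance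
    have hD : ∀ j : Fin (n + 1), IsAffineOpen (Proj.basicOpen 𝒬 (lin n k (Pi.single j 1))) :=
      fun j => Proj.isAffineOpen_basicOpen 𝒬 (lin n k (Pi.single j 1))
        (lin_mem n k (Pi.single j 1)) Nat.one_pos
    refine smooth_subscheme_of_cover k (ι' ≫ toBase 𝒬) (I.comap ι')
      (fun j : Fin (n + 1) => ⟨ι' ⁻¹ᵁ Proj.basicOpen 𝒬 (lin n k (Pi.single j 1)),
        (hD j).preimage ι'⟩) ?_ ?_
    · have h2 := Groth.Agent.Lib.Helper27PnChart.iSup_basicOpen_X n k
      have h3 : (⨆ j : Fin (n + 1), Proj.basicOpen 𝒬 (lin n k (Pi.single j 1))) = ⊤ := by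
        rw [← h2]
        congr 1
        funext j
        rw [lin_single]
      have h4 := congrArg (fun V => ι' ⁻¹ᵁ V) h3
      simp only [Scheme.Hom.preimage_iSup, Scheme.Hom.preimage_top] at h4
      exact h4
    · intro j
      have hideal : (I.comap ι').ideal ⟨ι' ⁻¹ᵁ Proj.basicOpen 𝒬 (lin n k (Pi.single j 1)),
          (hD j).preimage ι'⟩ = Ideal.span
          {(ι'.app (Proj.basicOpen 𝒬 (lin n k (Pi.single j 1)))).hom
            (ratio n k a (Pi.single j 1))} := by
        rw [Groth.Agent.Lib.Helper22.IdealComap.ideal_comap_eq_map ι' I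
          ⟨ι' ⁻¹ᵁ Proj.basicOpen 𝒬 (lin n k (Pi.single j 1)), (hD j).preimage ι'⟩
          ⟨Proj.basicOpen 𝒬 (lin n k (Pi.single j 1)), hD j⟩ le_rfl,
          zeroScheme_ideal_chart s a hs, Ideal.map_span, Set.image_singleton,
          ← Scheme.Hom.app_eq_appLE]
      rw [hideal]
      exact hgj' j a (hnej j)

end Main

end Groth.Agent.R2.H49.BertiniPn
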