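import Mathlib
import Groth.Agent.R2.H49BertiniPn
import Groth.Prelude.Def_LefPen
import Groth.Agent.Lib.Helper6SmGeom

/-!
# Bertini for hypersurface sections of degree `d` (helper49)

Supporting lemmas for `S4026` (`LefPen.isGeneric_transversal`).
-/

set_option autoImplicit false
universe u

open CategoryTheory CategoryTheory.Limits AlgebraicGeometry TopologicalSpace Opposite
  HomogeneousLocalization TensorProduct

namespace Groth.Agent.R2.H49.BertiniDeg

section Alg

open KaehlerDifferential Groth.Agent.R2.H49.BertiniSm Groth.Agent.R2.H49.BertiniAffine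

/-- the local conclusion on a smooth integral `k`-algebra of dimension `r`: if `h` and `d h` do not
vanish simultaneously at field valued points, then `C/(h)` is standard smooth of relative dimension
`r - 1` near every point. -/
theorem final' (k C : Type u) [Field k] [CommRing C] [Algebra k C] [IsDomain C]
    [Algebra.Smooth k C] (r : ℕ) (hC : ringKrullDim C = r) (h : C)
    (hgen : ∀ (F : Type u) [Field F] [Algebra C F], algebraMap C F h = 0 →
      (1 : F) ⊗ₜ[C] D k C h ≠ 0)
    (q : Ideal (C ⧸ Ideal.span {h})) [q.IsPrime] :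
    ∃ f' : C ⧸ Ideal.span {h}, f' ∉ q ∧
      Algebra.IsStandardSmoothOfRelativeDimension (r - 1) k (Localization.Away f') := by
  classical
  have hq'prime : (q.comap (Ideal.Quotient.mk (Ideal.span {h}))).IsPrime := Ideal.comap_isPrime _ _
  have hft : Algebra.FiniteType k C := inferInstance
  have hftB : Algebra.FiniteType k (C ⧸ Ideal.span {h}) :=
    Algebra.FiniteType.of_surjective (Ideal.Quotient.mkₐ k (Ideal.span {h}))
      Ideal.Quotient.mk_surjective
  have hfpB : Algebra.FinitePresentation k (C ⧸ Ideal.span {h}) :=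
    (Algebra.FinitePresentation.of_finiteType (R := k) (A := C ⧸ Ideal.span {h})).mp hftB
  have hIq : Ideal.span {h} ≤ q.comap (Ideal.Quotient.mk (Ideal.span {h})) := by
    intro x hx
    rw [Ideal.mem_comap, Ideal.Quotient.eq_zero_iff_mem.mpr hx]
    exact zero_mem _
  have hhq : h ∈ q.comap (Ideal.Quotient.mk (Ideal.span {h})) :=
    hIq (Ideal.subset_span (Set.mem_singleton h))
  let φB : C ⧸ Ideal.span {h} →+* (q.comap (Ideal.Quotient.mk (Ideal.span {h}))).ResidueField :=
    Ideal.Quotient.lift (Ideal.span {h})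
      (algebraMap C (q.comap (Ideal.Quotient.mk (Ideal.span {h}))).ResidueField)
      (fun a ha => (Ideal.algebraMap_residueField_eq_zero).mpr (hIq ha))
  let algB : Algebra (C ⧸ Ideal.span {h})
    (q.comap (Ideal.Quotient.mk (Ideal.span {h}))).ResidueField := φB.toAlgebra
  have towB : IsScalarTower C (C ⧸ Ideal.span {h})
      (q.comap (Ideal.Quotient.mk (Ideal.span {h}))).ResidueField :=
    IsScalarTower.of_algebraMap_eq (fun a => rfl)
  have hneA := hgen (q.comap (Ideal.Quotient.mk (Ideal.span {h}))).ResidueField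
    ((Ideal.algebraMap_residueField_eq_zero).mpr hhq)
  have hsmA : Algebra.IsSmoothAt k (q.comap (Ideal.Quotient.mk (Ideal.span {h}))) := by
    have h1 : (⟨_, hq'prime⟩ : PrimeSpectrum C) ∈ Algebra.smoothLocus k C := by
      rw [Algebra.smoothLocus_eq_univ]
      exact Set.mem_univ _
    exact h1
  have hsmB : Algebra.IsSmoothAt k q := by
    rw [Groth.Agent.Lib.Helper6.Jac.isSmoothAt_quotient_iff k C (Ideal.span {h}) q
      (q.comap (Ideal.Quotient.mk (Ideal.span {h}))) rfl]
    refine ⟨{h}, ?_, ?_, ?_⟩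
    · rw [Finset.coe_singleton, Set.singleton_subset_iff]
      exact Ideal.subset_span (Set.mem_singleton h)
    · rw [Ideal.map_span, Finset.coe_singleton]
    · rw [linearIndependent_subsingleton_index_iff]
      rintro ⟨g, hg⟩
      rw [Finset.mem_singleton] at hg
      subst hg
      exact hneA
  obtain ⟨f', hf', hstd⟩ := Algebra.IsSmoothAt.exists_notMem_isStandardSmooth k q
  refine ⟨f', hf', ?_⟩
  have huS : IsUnit (algebraMap (C ⧸ Ideal.span {h})
      (q.comap (Ideal.Quotient.mk (Ideal.span {h}))).ResidueField f') := by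
    obtain ⟨a, rfl⟩ := Ideal.Quotient.mk_surjective f'
    rw [isUnit_iff_ne_zero]
    change algebraMap C (q.comap (Ideal.Quotient.mk (Ideal.span {h}))).ResidueField a ≠ 0
    rw [Ne, Ideal.algebraMap_residueField_eq_zero]
    exact hf'
  let φS : Localization.Away f' →+* (q.comap (Ideal.Quotient.mk (Ideal.span {h}))).ResidueField :=
    IsLocalization.Away.lift f' huS
  let algS : Algebra (Localization.Away f')
    (q.comap (Ideal.Quotient.mk (Ideal.span {h}))).ResidueField := φS.toAlgebra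
  have towS : IsScalarTower (C ⧸ Ideal.span {h}) (Localization.Away f')
      (q.comap (Ideal.Quotient.mk (Ideal.span {h}))).ResidueField :=
    IsScalarTower.of_algebraMap_eq (fun a => (IsLocalization.Away.lift_eq f' huS a).symm)
  have hnontriv : Nontrivial (Localization.Away f') := RingHom.domain_nontrivial φS
  have hfeS : Algebra.FormallyEtale (C ⧸ Ideal.span {h}) (Localization.Away f') :=
    Algebra.FormallyEtale.of_isLocalization (Submonoid.powers f')
  have e1 := (fibEquiv k (C ⧸ Ideal.span {h}) (Localization.Away f')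
    (q.comap (Ideal.Quotient.mk (Ideal.span {h}))).ResidueField).finrank_eq
  have hQ := finrank_fib_quotient k C (C ⧸ Ideal.span {h})
    (q.comap (Ideal.Quotient.mk (Ideal.span {h}))).ResidueField Ideal.Quotient.mk_surjective h
    Ideal.mk_ker hneA
  have hrC := finrank_tensor_kaehler k C r hC
    (q.comap (Ideal.Quotient.mk (Ideal.span {h}))).ResidueField
  have hS : Module.finrank (Localization.Away f') Ω[Localization.Away f'⁄k] = r - 1 := by
    rw [← Module.finrank_baseChange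
      (R := (q.comap (Ideal.Quotient.mk (Ideal.span {h}))).ResidueField)]
    omega
  rw [Algebra.IsStandardSmoothOfRelativeDimension.iff_of_isStandardSmooth, ← hS,
    Module.finrank_eq_rank]

/-- a finite type domain over a field which is locally standard smooth of relative dimension `n`
has Krull dimension `n`. -/
theorem ringKrullDim_eq_of_locally (k C : Type u) [Field k] [CommRing C] [Algebra k C] [IsDomain C]
    [Algebra.FiniteType k C] (n : ℕ)
    (hloc : RingHom.Locally (RingHom.IsStandardSmoothOfRelativeDimension n) (algebraMap k C)) :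
    ringKrullDim C = n := by
  classical
  obtain ⟨s, hs, H⟩ := hloc
  obtain ⟨g, hgs, hg0⟩ : ∃ g ∈ s, g ≠ 0 := by
    by_contra hcon
    push Not at hcon
    have : Ideal.span s ≤ (⊥ : Ideal C) := by
      rw [Ideal.span_le]
      intro x hx
      rw [SetLike.mem_coe, Ideal.mem_bot]
      exact hcon x hx
    rw [hs] at this
    exact bot_ne_top (le_bot_iff.mp this).symm
  have hstd : Algebra.IsStandardSmoothOfRelativeDimension n k (Localization.Away g) := by
    have h1 := H g hgs
    rw [← IsScalarTower.algebraMap_eq k C (Localization.Away g),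
      RingHom.isStandardSmoothOfRelativeDimension_algebraMap] at h1
    exact h1
  have hdomg : IsDomain (Localization.Away g) :=
    IsLocalization.isDomain_localization (powers_le_nonZeroDivisors_of_noZeroDivisors hg0)
  obtain ⟨r, -, hr, -⟩ := Groth.Agent.Lib.Helper14.FTDim.exists_dim k C
  have hdim : ∀ P ∈ minimalPrimes C, ringKrullDim (C ⧸ P) = r := by
    intro P hP
    rw [IsDomain.minimalPrimes_eq_singleton_bot, Set.mem_singleton_iff] at hP
    subst hP
    rw [ringKrullDim_eq_of_ringEquiv (RingEquiv.quotientBot C)]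
    exact hr
  have hdimg := ringKrullDim_away k C r hdim g
  have hstd' : Algebra.IsStandardSmooth k (Localization.Away g) :=
    Algebra.IsStandardSmoothOfRelativeDimension.isStandardSmooth n
  have hsm : Algebra.Smooth k (Localization.Away g) := inferInstance
  have hftg : Algebra.FiniteType k (Localization.Away g) := inferInstance
  have h2 := finrank_kaehler_eq_dim k (Localization.Away g) r hdimg
  have h3 := Algebra.IsStandardSmoothOfRelativeDimension.rank_kaehlerDifferential
    (R := k) (S := Localization.Away g) (n := n)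
  rw [← Module.finrank_eq_rank, h2] at h3
  have hrn : r = n := by exact_mod_cast h3
  rw [hr, hrn]

end Alg

section Dehom

open MvPolynomial Groth.Agent.Lib.Helper27GrTildeSect Groth.Agent.Lib.Helper23.SecTw
  Groth.Agent.Lib.Helper6 Groth.Agent.R2.H49.PnLin Groth.Agent.R2.H49.BertiniGeom

variable (n : ℕ) (k : Type u) [Field k]

local notation "𝒬" => CohB1.polyGrading n k

variable {n k}

/-- `LefPen.dehom` with its type stated in terms of `Proj 𝒬`. -/
noncomputable def dh {d : ℕ} (G : LefPen.Form n k d) (j : Fin (n + 1)) :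
    Γ(Proj 𝒬, Proj.basicOpen 𝒬 (X j)) :=
  (Proj.awayToSection 𝒬 (X j)).hom
    (HomogeneousLocalization.Away.mk 𝒬 (LefPen.X_mem n k j) d G.1
      (by rw [smul_eq_mul, mul_one]; exact G.2))

theorem dehom_eq {d : ℕ} (G : LefPen.Form n k d) (j : Fin (n + 1)) :
    LefPen.dehom G j = dh G j := rfl

theorem val_dh {d : ℕ} (G : LefPen.Form n k d) (j : Fin (n + 1)) (y : ProjectiveSpectrum 𝒬)
    (hy : y ∈ Proj.basicOpen 𝒬 (X j)) :
    (funVal 𝒬 (Proj.basicOpen 𝒬 (X j)) (dh G j) y hy).val =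
      (Localization.mk G.1 (⟨X j ^ d, fun h => (ProjectiveSpectrum.mem_basicOpen 𝒬 (X j) y).mp hy
        (y.isPrime.mem_of_pow_mem d h)⟩ : y.asHomogeneousIdeal.toIdeal.primeCompl) :
        Twist.Loc 𝒬 y) := rfl

theorem dh_add {d : ℕ} (G G' : LefPen.Form n k d) (j : Fin (n + 1)) :
    dh (G + G') j = dh G j + dh G' j := by
  apply fun_ext_val
  intro y hy
  have h1 : funVal 𝒬 _ (dh G j + dh G' j) y hy =
      funVal 𝒬 _ (dh G j) y hy + funVal 𝒬 _ (dh G' j) y hy := rfl
  rw [h1, HomogeneousLocalization.val_add, val_dh, val_dh, val_dh,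
    Localization.add_mk_self]
  rfl

theorem dh_smul {d : ℕ} (c : k) (G : LefPen.Form n k d) (j : Fin (n + 1)) :
    dh (c • G) j =
      resf (le_top : Proj.basicOpen 𝒬 (X j) ≤ ⊤) (constFun 𝒬 c) * dh G j := by
  apply fun_ext_val
  intro y hy
  have hy' : (X j : MvPolynomial (Fin (n + 1)) k) ∉ y.asHomogeneousIdeal :=
    (ProjectiveSpectrum.mem_basicOpen 𝒬 (X j) y).mp hy
  have h1 : funVal 𝒬 _ (resf (le_top : Proj.basicOpen 𝒬 (X j) ≤ ⊤) (constFun 𝒬 c) *
      dh G j) y hy =
      funVal 𝒬 ⊤ (constFun 𝒬 c) y trivial * funVal 𝒬 _ (dh G j) y hy := rfl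
  rw [h1, HomogeneousLocalization.val_mul,
    Groth.Agent.Lib.Helper27PnSections.funVal_constFun_val 𝒬 (LefPen.X_mem n k j) Nat.one_pos c y hy',
    val_dh, val_dh, Localization.mk_mul, one_mul]
  congr 1
  change c • (G : MvPolynomial (Fin (n + 1)) k) = _
  rw [Algebra.smul_def]

theorem X_pow_mem (j : Fin (n + 1)) (d : ℕ) :
    (X j ^ d : MvPolynomial (Fin (n + 1)) k) ∈ 𝒬 d := by
  have h := (isHomogeneous_X k j).pow d
  have e : 1 * d = d := one_mul d
  rw [e] at h
  exact (mem_homogeneousSubmodule d _).mpr h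

theorem X_mul_X_pow_mem (i j : Fin (n + 1)) (d : ℕ) :
    (X i * X j ^ d : MvPolynomial (Fin (n + 1)) k) ∈ 𝒬 (d + 1) := by
  have h := (isHomogeneous_X k i).mul ((isHomogeneous_X k j).pow d)
  have e : 1 + 1 * d = d + 1 := by omega
  rw [e] at h
  exact (mem_homogeneousSubmodule (d + 1) _).mpr h

theorem dh_X_pow (j : Fin (n + 1)) (d : ℕ) :
    dh (⟨X j ^ d, X_pow_mem j d⟩ : LefPen.Form n k d) j = 1 := by
  apply fun_ext_val
  intro y hy
  have h1 : (funVal 𝒬 (Proj.basicOpen 𝒬 (X j)) 1 y hy).val = 1 := HomogeneousLocalization.val_one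
  rw [val_dh, h1]
  exact Localization.mk_self (⟨X j ^ d, _⟩ : y.asHomogeneousIdeal.toIdeal.primeCompl)

/-- the coordinate function `X_i / X_j` on `D₊(X_j)`. -/
noncomputable def coordFun (i j : Fin (n + 1)) : Γ(Proj 𝒬, Proj.basicOpen 𝒬 (X j)) :=
  (Proj.awayToSection 𝒬 (X j)).hom
    (Groth.Agent.Lib.Helper27AwayGen.mk' 𝒬 (LefPen.X_mem n k j) 1 (X i) (LefPen.X_mem n k i))

theorem val_coordFun (i j : Fin (n + 1)) (y : ProjectiveSpectrum 𝒬)
    (hy : y ∈ Proj.basicOpen 𝒬 (X j)) :
    (funVal 𝒬 (Proj.basicOpen 𝒬 (X j)) (coordFun i j) y hy).val =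
      (Localization.mk (X i) (⟨X j ^ 1, fun h => (ProjectiveSpectrum.mem_basicOpen 𝒬 (X j) y).mp hy
        (y.isPrime.mem_of_pow_mem 1 h)⟩ : y.asHomogeneousIdeal.toIdeal.primeCompl) :
        Twist.Loc 𝒬 y) := rfl

theorem dh_X_mul_X_pow (i j : Fin (n + 1)) (d : ℕ) :
    dh (⟨X i * X j ^ d, X_mul_X_pow_mem i j d⟩ : LefPen.Form n k (d + 1)) j =
      coordFun i j := by
  apply fun_ext_val
  intro y hy
  rw [val_dh, val_coordFun, Localization.mk_eq_mk_iff, Localization.r_iff_exists]
  refine ⟨1, ?_⟩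
  simp only [OneMemClass.coe_one, one_mul]
  ring

end Dehom

section Geom

open MvPolynomial Groth.Agent.Lib.Helper27GrTildeSect Groth.Agent.Lib.Helper23.SecTw
  Groth.Agent.Lib.Helper6 Groth.Agent.R2.H49.PnLin Groth.Agent.R2.H49.BertiniGeom
  Groth.Agent.R2.H49.ZeroSch

variable (n : ℕ) (k : Type u) [Field k]

local notation "𝒬" => CohB1.polyGrading n k

theorem res_bijective_of_le {Y : Scheme.{u}} {U V : Y.Opens} (h : U ≤ V) (h' : V ≤ U) :
    Function.Bijective (Y.presheaf.map (homOfLE h).op).hom := by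
  have : IsIso (homOfLE h) := ⟨⟨homOfLE h', Subsingleton.elim _ _, Subsingleton.elim _ _⟩⟩
  have : IsIso (Y.presheaf.map (homOfLE h).op) := inferInstance
  exact ConcreteCategory.bijective_of_isIso _

variable {n k}

/-- `G / 1 = (G / X_j^d) • (X_j^d / 1)` on `D₊(X_j)`. -/
theorem gsec_dh {d : ℕ} (G : LefPen.Form n k d) (j : Fin (n + 1)) :
    gsec 𝒬 d (Proj.basicOpen 𝒬 (X j)) G.2 =
      dh G j • gsec 𝒬 d (Proj.basicOpen 𝒬 (X j)) (X_pow_mem j d) := by
  apply sec_ext
  intro y hy
  change (secVal 𝒬 𝒬 ((d : ℕ) : ℤ) (Proj.basicOpen 𝒬 (X j))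
      (gsec 𝒬 d (Proj.basicOpen 𝒬 (X j)) G.2) y hy : Twist.Loc 𝒬 y) =
    (secVal 𝒬 𝒬 ((d : ℕ) : ℤ) (Proj.basicOpen 𝒬 (X j))
      (dh G j • gsec 𝒬 d (Proj.basicOpen 𝒬 (X j)) (X_pow_mem j d)) y hy : Twist.Loc 𝒬 y)
  rw [secVal_smul', val_dh]
  change Localization.mk G.1 (1 : y.asHomogeneousIdeal.toIdeal.primeCompl) =
    Localization.mk G.1 _ *
      Localization.mk (X j ^ d) (1 : y.asHomogeneousIdeal.toIdeal.primeCompl)
  rw [Localization.mk_mul, Localization.mk_eq_mk_iff, Localization.r_iff_exists]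
  refine ⟨1, ?_⟩
  simp only [OneMemClass.coe_one, one_mul, mul_one]
  ring

variable (n k) in
theorem isFinLocFreeOfRank_deg (d : ℕ) :
    FlatMod.IsFinLocFreeOfRank 1 (GrTilde.tilde 𝒬 𝒬 ((d : ℕ) : ℤ)) := by
  have hinv : PicF.IsInvertible (GrTilde.tilde 𝒬 𝒬 ((d : ℕ) : ℤ)) :=
    isInvertible_tilde 𝒬 (fun y => by
      obtain ⟨i, hi⟩ := Groth.Agent.Lib.Helper27PnSections.exists_X_not_mem n k y
      exact ⟨⟨MvPolynomial.X i, Groth.Agent.Lib.Helper27ProjGamma.hX n k i⟩,
        (ProjectiveSpectrum.mem_basicOpen _ _ y).mpr hi⟩) _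
  intro x
  obtain ⟨U, hxU, ⟨ε⟩⟩ := hinv x
  exact ⟨U, hxU, ⟨ε ≪≫ (Limits.coproductUniqueIso
    (fun _ : Fin 1 => Coh.structureModule (↑U : Scheme.{u}))).symm⟩⟩

theorem isAffineOpen_chart (j : Fin (n + 1)) : IsAffineOpen (Proj.basicOpen 𝒬 (X j)) :=
  Proj.isAffineOpen_basicOpen 𝒬 (X j) (LefPen.X_mem n k j) Nat.one_pos

/-- the ideal of the zero scheme of the section `G` of `O(d)` on the chart `D₊(X_j)`. -/
theorem zeroScheme_ideal_chartX {d : ℕ}
    (s : Coh.structureModule (Proj 𝒬) ⟶ GrTilde.tilde 𝒬 𝒬 ((d : ℕ) : ℤ))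
    (G : LefPen.Form n k d) (hs : sv s ⊤ = gsec 𝒬 d ⊤ G.2) (j : Fin (n + 1)) :
    (PicF2.zeroScheme _ s).ideal ⟨Proj.basicOpen 𝒬 (X j), isAffineOpen_chart j⟩ =
      Ideal.span {dh G j} := by
  apply zeroScheme_ideal_of_frame _ s (isFinLocFreeOfRank_deg n k d) _
    (gsec 𝒬 d (Proj.basicOpen 𝒬 (X j)) (X_pow_mem j d)) (dh G j)
    (isGen_fracSec 𝒬 ((d : ℕ) : ℤ) _ (X_pow_mem j d) _ _ _ (fun y => pow_not_mem d y))
  rw [← gsec_dh, ← res_sv s (le_top : Proj.basicOpen 𝒬 (X j) ≤ ⊤), hs]
  rfl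

theorem exists_sec {d : ℕ} (G : LefPen.Form n k d) :
    ∃ s : Coh.structureModule (Proj 𝒬) ⟶ GrTilde.tilde 𝒬 𝒬 ((d : ℕ) : ℤ),
      sv s ⊤ = gsec 𝒬 d ⊤ G.2 := by
  have hT : Limits.IsTerminal (⊤ : TopologicalSpace.Opens (Proj 𝒬)) := Limits.isTerminalTop
  let L : SheafOfModules.{u} (Proj 𝒬).ringCatSheaf := GrTilde.tilde 𝒬 𝒬 ((d : ℕ) : ℤ)
  let uL := Groth.Agent.Lib.Helper21.UnitHom.unitHomAddEquiv hT L
  exact ⟨uL.symm (gsec 𝒬 d ⊤ G.2), uL.apply_symm_apply _⟩

/-- `LefPen.hypFamily` with its type stated in terms of `Proj 𝒬`. -/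
noncomputable def hypFam {d : ℕ} (G : LefPen.Form n k d) (U : (Proj 𝒬).affineOpens) :
    Ideal Γ(Proj 𝒬, U) :=
  ⨅ i : Fin (n + 1),
    Ideal.comap
      ((Proj 𝒬).presheaf.map
        (homOfLE (inf_le_left : U.1 ⊓ Proj.basicOpen 𝒬 (X i) ≤ U.1)).op).hom
      (Ideal.span {((Proj 𝒬).presheaf.map
        (homOfLE (inf_le_right : U.1 ⊓ Proj.basicOpen 𝒬 (X i) ≤ Proj.basicOpen 𝒬 (X i))).op).hom
          (dh G i)})

/-- `LefPen.hypIdeal` with its type stated in terms of `Proj 𝒬`. -/
noncomputable def hypI {d : ℕ} (G : LefPen.Form n k d) : (Proj 𝒬).IdealSheafData :=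
  Scheme.IdealSheafData.ofIdeals (hypFam G)

theorem hypIdeal_eq {d : ℕ} (G : LefPen.Form n k d) : LefPen.hypIdeal G = hypI G := rfl

theorem zeroScheme_le_hypI {d : ℕ}
    (s : Coh.structureModule (Proj 𝒬) ⟶ GrTilde.tilde 𝒬 𝒬 ((d : ℕ) : ℤ))
    (G : LefPen.Form n k d) (hs : sv s ⊤ = gsec 𝒬 d ⊤ G.2) :
    PicF2.zeroScheme _ s ≤ hypI G := by
  rw [hypI, Scheme.IdealSheafData.le_ofIdeals_iff]
  intro U x hx
  rw [hypFam, Ideal.mem_iInf]
  intro i
  rw [Ideal.mem_comap]
  set J := PicF2.zeroScheme _ s with hJ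
  let Ui : (Proj 𝒬).affineOpens :=
    ⟨U.1 ⊓ Proj.basicOpen 𝒬 (X i), U.2.inf (isAffineOpen_chart i)⟩
  let Ci : (Proj 𝒬).affineOpens := ⟨Proj.basicOpen 𝒬 (X i), isAffineOpen_chart i⟩
  have hle1 : Ui ≤ U := (inf_le_left : U.1 ⊓ Proj.basicOpen 𝒬 (X i) ≤ U.1)
  have hle2 : Ui ≤ Ci :=
    (inf_le_right : U.1 ⊓ Proj.basicOpen 𝒬 (X i) ≤ Proj.basicOpen 𝒬 (X i))
  have h1 := J.ideal_le_comap_ideal (U := Ui) (V := U) hle1 hx
  have h2 := J.map_ideal (U := Ui) (V := Ci) hle2
  rw [Ideal.mem_comap, ← h2, zeroScheme_ideal_chartX s G hs i, Ideal.map_span,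
    Set.image_singleton] at h1
  exact h1

/-- the ideal of the hypersurface `V₊(G)` on the chart `D₊(X_j)` is generated by `G / X_j^d`. -/
theorem hypI_ideal_chart {d : ℕ} (G : LefPen.Form n k d) (j : Fin (n + 1)) :
    (hypI G).ideal ⟨Proj.basicOpen 𝒬 (X j), isAffineOpen_chart j⟩ =
      Ideal.span {dh G j} := by
  obtain ⟨s, hs⟩ := exists_sec G
  refine le_antisymm ?_ ?_
  · intro x hx
    have h1 := Scheme.IdealSheafData.ideal_ofIdeals_le (hypFam G)
      ⟨Proj.basicOpen 𝒬 (X j), isAffineOpen_chart j⟩ hx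
    rw [hypFam, Ideal.mem_iInf] at h1
    have h2 := h1 j
    rw [Ideal.mem_comap, Ideal.mem_span_singleton'] at h2
    obtain ⟨a, ha⟩ := h2
    have hbij := res_bijective_of_le (Y := Proj 𝒬)
      (inf_le_left : Proj.basicOpen 𝒬 (X j) ⊓ Proj.basicOpen 𝒬 (X j) ≤ Proj.basicOpen 𝒬 (X j))
      (le_inf le_rfl le_rfl)
    obtain ⟨a', rfl⟩ := hbij.2 a
    rw [Ideal.mem_span_singleton']
    refine ⟨a', hbij.1 ?_⟩
    rw [map_mul]
    exact ha
  · have := zeroScheme_le_hypI s G hs
    rw [← zeroScheme_ideal_chartX s G hs j]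
    exact this _

end Geom

section Cover

open Groth.Agent.R2.H49.PnLin Groth.Agent.R2.H49.BertiniJet

variable (k : Type u) [Field k] {Y : Scheme.{u}} (q : Y ⟶ Spec (CommRingCat.of k)) (m : ℕ)

theorem locally_comp_appLE_of_const {A' : Type u} [CommRing A'] (W : Y.Opens)
    (φ : Γ(Y, W) →+* A')
    (h : RingHom.Locally (RingHom.IsStandardSmoothOfRelativeDimension m)
      (φ.comp (const k q W))) :
    RingHom.Locally (RingHom.IsStandardSmoothOfRelativeDimension m)
      (φ.comp (q.appLE ⊤ W le_top).hom) := by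
  let ε : Γ(Spec (CommRingCat.of k), ⊤) ≃+* k :=
    (Scheme.ΓSpecIso (CommRingCat.of k)).commRingCatIsoToRingEquiv
  have h1 := (RingHom.locally_respectsIso
    RingHom.isStandardSmoothOfRelativeDimension_respectsIso).2 _ ε h
  have h2 : (φ.comp (const k q W)).comp ε.toRingHom = φ.comp (q.appLE ⊤ W le_top).hom := by
    ext x
    simp only [RingHom.comp_apply, const_eq_comp]
    congr 2
    exact congrArg (fun f => f.hom x) (Scheme.ΓSpecIso (CommRingCat.of k)).hom_inv_id
  rw [← h2]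
  exact h1

/-- smoothness of relative dimension `m` of a closed subscheme over a field can be checked on an
affine cover. -/
theorem smoothOfRelDim_subscheme_of_cover (I : Y.IdealSheafData) {ι : Type*}
    (W : ι → Y.affineOpens) (hW : ⨆ j, (W j).1 = ⊤)
    (H : ∀ j, RingHom.Locally (RingHom.IsStandardSmoothOfRelativeDimension m)
      ((Ideal.Quotient.mk (I.ideal (W j))).comp (const k q (W j).1))) :
    SmoothOfRelativeDimension m (I.subschemeι ≫ q) := by
  let U : ι → I.subscheme.affineOpens := fun j =>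
    ⟨I.subschemeι ⁻¹ᵁ (W j).1, (W j).2.preimage I.subschemeι⟩
  have hU : ⨆ j, (U j : I.subscheme.Opens) = ⊤ := by
    have := congrArg (fun V => I.subschemeι ⁻¹ᵁ V) hW
    simp only [Scheme.Hom.preimage_iSup, Scheme.Hom.preimage_top] at this
    exact this
  refine HasRingHomProperty.of_iSup_eq_top (P := @SmoothOfRelativeDimension m) U hU fun j => ?_
  have h1 : (I.subschemeι ≫ q).appLE ⊤ (U j).1 le_top =
      q.appLE ⊤ (W j).1 le_top ≫ I.subschemeι.app (W j).1 :=
    (Groth.Agent.R2.H49.BertiniGeom.appLE_comp_app I.subschemeι q ⊤ (W j).1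
      (fun _ _ => trivial) (fun _ _ => trivial)).symm
  rw [h1, I.subschemeι_app (W j)]
  have h2 := locally_comp_appLE_of_const k q m (W j).1 _ (H j)
  have h3 := (RingHom.locally_respectsIso
    RingHom.isStandardSmoothOfRelativeDimension_respectsIso).1 _
    (I.subschemeObjIso (W j)).symm.commRingCatIsoToRingEquiv h2
  exact h3

/-- sections of a `k`-scheme smooth of relative dimension `m` over an affine open are locally
standard smooth of relative dimension `m`. -/
theorem locally_const [SmoothOfRelativeDimension m q] {W : Y.Opens} (hW : IsAffineOpen W) :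
    RingHom.Locally (RingHom.IsStandardSmoothOfRelativeDimension m) (const k q W) := by
  have h1 : RingHom.Locally (RingHom.IsStandardSmoothOfRelativeDimension m)
      (q.appLE ⊤ W le_top).hom :=
    HasRingHomProperty.appLE (P := @SmoothOfRelativeDimension m) q inferInstance
      ⟨⊤, isAffineOpen_top _⟩ ⟨W, hW⟩ le_top
  let ε : k ≃+* Γ(Spec (CommRingCat.of k), ⊤) :=
    (Scheme.ΓSpecIso (CommRingCat.of k)).symm.commRingCatIsoToRingEquiv
  exact (RingHom.locally_respectsIso
    RingHom.isStandardSmoothOfRelativeDimension_respectsIso).2 _ ε h1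

end Cover

section AlgLoc

open KaehlerDifferential

theorem locally_of_final (k C : Type u) [Field k] [CommRing C] [Algebra k C] [IsDomain C]
    [Algebra.Smooth k C] (r : ℕ) (hC : ringKrullDim C = r) (h : C)
    (hgen : ∀ (F : Type u) [Field F] [Algebra C F], algebraMap C F h = 0 →
      (1 : F) ⊗ₜ[C] D k C h ≠ 0) :
    RingHom.Locally (RingHom.IsStandardSmoothOfRelativeDimension (r - 1))
      ((Ideal.Quotient.mk (Ideal.span {h})).comp (algebraMap k C)) := by
  classical
  let s : Set (C ⧸ Ideal.span {h}) :=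
    {f' | Algebra.IsStandardSmoothOfRelativeDimension (r - 1) k (Localization.Away f')}
  refine ⟨s, ?_, ?_⟩
  · by_contra hne
    obtain ⟨q, hq, hsq⟩ := Ideal.exists_le_maximal _ hne
    have : q.IsPrime := hq.isPrime
    obtain ⟨f', hf', hstd⟩ := final' k C r hC h hgen q
    exact hf' (hsq (Ideal.subset_span hstd))
  · intro t ht
    have h1 : Algebra.IsStandardSmoothOfRelativeDimension (r - 1) k (Localization.Away t) := ht
    rw [← RingHom.isStandardSmoothOfRelativeDimension_algebraMap,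
      IsScalarTower.algebraMap_eq k (C ⧸ Ideal.span {h}) (Localization.Away t)] at h1
    exact h1

end AlgLoc

section Chart

open MvPolynomial Groth.Agent.Lib.Helper27GrTildeSect Groth.Agent.Lib.Helper23.SecTw
  Groth.Agent.Lib.Helper6 Groth.Agent.R2.H49.PnLin Groth.Agent.R2.H49.BertiniGeom
  Groth.Agent.R2.H49.BertiniSm Groth.Agent.R2.H49.BertiniJet Groth.Agent.R2.H49.BertiniPn

variable (n : ℕ) (k : Type u) [Field k] {Z : Scheme.{u}}
  (ι : Z ⟶ Proj (CohB1.polyGrading n k))

local notation "𝒬" => CohB1.polyGrading n k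

/-- **Bertini for hypersurface sections of degree `d + 1` on one chart.** -/
theorem chartDeg [IsIntegral Z] [IsClosedImmersion ι] (m : ℕ)
    [SmoothOfRelativeDimension m (ι ≫ toBase 𝒬)] (d N : ℕ)
    (b : Module.Basis (Fin (N + 1)) k (LefPen.Form n k (d + 1))) (j : Fin (n + 1)) :
    ∃ g : MvPolynomial (Fin (N + 1)) k, g ≠ 0 ∧ ∀ H : LefPen.Form n k (d + 1),
      MvPolynomial.eval (fun l => b.repr H l) g ≠ 0 →
      RingHom.Locally (RingHom.IsStandardSmoothOfRelativeDimension (m - 1))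
        ((Ideal.Quotient.mk (Ideal.span {(ι.app (Proj.basicOpen 𝒬 (X j))).hom (dh H j)})).comp
          (const k (ι ≫ toBase 𝒬) (ι ⁻¹ᵁ Proj.basicOpen 𝒬 (X j)))) := by
  classical
  set D := Proj.basicOpen 𝒬 (X j) with hDdef
  have hD : IsAffineOpen D := isAffineOpen_chart j
  set U := ι ⁻¹ᵁ D with hUdef
  have hU : IsAffineOpen U := hD.preimage ι
  let q : Z ⟶ Spec (CommRingCat.of k) := ι ≫ toBase 𝒬
  have hsmq : Smooth q := SmoothOfRelativeDimension.smooth m q
  have hsmU : RingHom.Smooth (const k q U) := smooth_const k q hU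
  by_cases hne : Nonempty U
  swap
  · refine ⟨1, one_ne_zero, fun H _ => ?_⟩
    have hUbot : U = ⊥ := by
      ext x
      simp only [TopologicalSpace.Opens.coe_bot, Set.mem_empty_iff_false, iff_false]
      exact fun hx => hne ⟨⟨x, hx⟩⟩
    have hsub : Subsingleton Γ(Z, U) := by
      rw [hUbot]
      infer_instance
    have hsubq : Subsingleton (Γ(Z, U) ⧸ Ideal.span {(ι.app D).hom (dh H j)}) :=
      Ideal.Quotient.mk_surjective.subsingleton
    refine ⟨∅, ?_, fun t ht => absurd ht (Set.notMem_empty t)⟩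
    exact Ideal.ext fun x => by
      rw [Subsingleton.elim x 0]
      exact ⟨fun _ => zero_mem _, fun _ => zero_mem _⟩
  have hq : LocallyOfFiniteType q := inferInstance
  let _ : Algebra k Γ(Z, U) := (const k q U).toAlgebra
  have hdom : IsDomain Γ(Z, U) := inferInstance
  let ψ : Γ(Proj 𝒬, D) →+* Γ(Z, U) := (ι.app D).hom
  have hψ : Function.Surjective ψ := ι.app_surjective D hD
  have hψc : ∀ r : k, ψ (resf (le_top : D ≤ ⊤) (constFun 𝒬 r)) = algebraMap k Γ(Z, U) r :=
    fun r => const_app n k ι D r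
  let T : LefPen.Form n k (d + 1) →ₗ[k] Γ(Z, U) :=
    { toFun := fun H => ψ (dh H j)
      map_add' := fun G G' => by rw [dh_add, map_add]
      map_smul' := fun c G => by
        rw [dh_smul, map_mul, hψc, RingHom.id_apply, Algebra.smul_def] }
  let u : Fin (N + 1) → Γ(Z, U) := fun l => T (b l)
  have hTsum : ∀ H, T H = ∑ l, (b.repr H l) • u l := by
    intro H
    conv_lhs => rw [← b.sum_repr H]
    rw [map_sum]
    exact Finset.sum_congr rfl fun l _ => map_smul _ _ _
  let v : Fin (n + 1) → Γ(Z, U) := fun i => ψ (coordFun i j)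
  have hgen : Algebra.adjoin k (Set.range v) = ⊤ := by
    rw [eq_top_iff]
    rintro f -
    obtain ⟨b', rfl⟩ := hψ f
    set S := Algebra.adjoin k (Set.range v) with hS
    let E' : Subring Γ(Proj 𝒬, D) := Subring.comap ψ S.toSubring
    let E : Subring (Away 𝒬 (X j : MvPolynomial (Fin (n + 1)) k)) :=
      Subring.comap (Proj.awayToSection 𝒬 (X j)).hom E'
    have hE : E = ⊤ := by
      apply Groth.Agent.Lib.Helper27AwayGen.subring_eq_top 𝒬 (LefPen.X_mem n k j)
        (fun i => (X i : MvPolynomial (Fin (n + 1)) k))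
        (LefPen.X_mem n k) (MvPolynomial.adjoin_range_X) E
      · intro r
        change ψ ((Proj.awayToSection 𝒬 (X j)).hom _) ∈ S
        rw [mk'_zero_eq, awayToSection_const 𝒬 (LefPen.X_mem n k j) Nat.one_pos]
        have := hψc r
        change ψ (resf (le_top : D ≤ ⊤) (constFun 𝒬 r)) ∈ S
        rw [this]
        exact S.algebraMap_mem r
      · intro i
        change ψ (coordFun i j) ∈ S
        exact Algebra.subset_adjoin ⟨i, rfl⟩
    obtain ⟨j', a', ha', h⟩ := exists_awayToSection_eq (LefPen.X_mem n k j) Nat.one_pos b'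
    have h2 : (Proj.awayToSection 𝒬 (X j)).hom
        (Away.mk 𝒬 (LefPen.X_mem n k j) j' a' ha') ∈ E' := by
      have : Away.mk 𝒬 (LefPen.X_mem n k j) j' a' ha' ∈ E := by rw [hE]; exact Subring.mem_top _
      exact this
    rw [h] at h2
    exact h2
  have hft : Algebra.FiniteType k Γ(Z, U) :=
    ⟨⟨Finset.univ.image v, by
      rw [Finset.coe_image, Finset.coe_univ, Set.image_univ]
      exact hgen⟩⟩
  have hsm : Algebra.Smooth k Γ(Z, U) := hsmU
  have hproj : Module.Projective Γ(Z, U) Ω[Γ(Z, U)⁄k] :=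
    Algebra.FormallySmooth.projective_kaehlerDifferential
  have hloc : RingHom.Locally (RingHom.IsStandardSmoothOfRelativeDimension m)
      (algebraMap k Γ(Z, U)) := locally_const k q m hU
  have hr : ringKrullDim Γ(Z, U) = m := ringKrullDim_eq_of_locally k Γ(Z, U) m hloc
  have hvT : ∀ i, v i = T ⟨X i * X j ^ d, X_mul_X_pow_mem i j d⟩ := by
    intro i
    change ψ (coordFun i j) = ψ (dh _ j)
    rw [dh_X_mul_X_pow]
  have hspan : Submodule.span Γ(Z, U)
      (Set.range fun l => KaehlerDifferential.D k Γ(Z, U) (u l)) = ⊤ := by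
    rw [eq_top_iff, ← span_D_of_adjoin k Γ(Z, U) v hgen, Submodule.span_le]
    rintro _ ⟨i, rfl⟩
    change KaehlerDifferential.D k Γ(Z, U) (v i) ∈ _
    rw [hvT, hTsum, map_sum]
    refine Submodule.sum_mem _ fun l _ => ?_
    rw [Derivation.map_smul]
    exact Submodule.smul_of_tower_mem _ _ (Submodule.subset_span ⟨l, rfl⟩)
  let c₀ : Fin (N + 1) → k := fun l => b.repr ⟨X j ^ (d + 1), X_pow_mem j (d + 1)⟩ l
  have h1 : ∑ l, c₀ l • u l = 1 := by
    rw [← hTsum]
    change ψ (dh _ j) = 1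
    rw [dh_X_pow, map_one]
  obtain ⟨g, hg0, hg⟩ := coreSm' k Γ(Z, U) N u m hr.le
    (fun F _ _ => finrank_tensor_kaehler k Γ(Z, U) m hr F) hspan c₀ h1
  refine ⟨g, hg0, fun H hH => ?_⟩
  have hfin := locally_of_final k Γ(Z, U) m hr (T H) (fun F _ _ h1 h2 =>
    hH (hg (fun l => b.repr H l) F (by rw [← hTsum]; exact h1) (by rw [← hTsum]; exact h2)))
  exact hfin

end Chart

section Main

open MvPolynomial Groth.Agent.R2.H49.PnLin

theorem isPolyFun_eval {k : Type u} [Field k] {V : Type u} [AddCommGroup V] [Module k V] {N : ℕ}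
    (b : Module.Basis (Fin (N + 1)) k V) (G : MvPolynomial (Fin (N + 1)) k) :
    LefPen.IsPolyFun k (fun H : V => MvPolynomial.eval (fun l => b.repr H l) G) := by
  let c : Fin (N + 1) → (V → k) := fun l H => b.repr H l
  have h1 : (fun H : V => MvPolynomial.eval (fun l => b.repr H l) G) =
      MvPolynomial.aeval c G := by
    funext H
    have := MvPolynomial.comp_aeval_apply (R := k) (f := c)
      (Pi.evalAlgHom k (fun _ : V => k) H) G
    exact this.symm
  rw [LefPen.IsPolyFun, h1]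
  have h2 : MvPolynomial.aeval c G ∈ Algebra.adjoin k (Set.range c) := by
    rw [Algebra.adjoin_range_eq_range_aeval]
    exact ⟨G, rfl⟩
  refine Algebra.adjoin_mono ?_ h2
  rintro _ ⟨l, rfl⟩
  exact ⟨b.coord l, funext fun H => Module.Basis.coord_apply b l H⟩

variable (r : ℕ) (k : Type u) [Field k]

local notation "𝒬" => CohB1.polyGrading r k

theorem exists_basis (d : ℕ) :
    ∃ (N : ℕ), Nonempty (Module.Basis (Fin (N + 1)) k (LefPen.Form r k d)) := by
  have hfin : Module.Finite k (LefPen.Form r k d) :=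
    Module.Finite.iff_fg.mpr (MvPolynomial.homogeneousSubmodule_fg (Fin (r + 1)) k d)
  have hnt : Nontrivial (LefPen.Form r k d) := by
    refine ⟨⟨⟨X 0 ^ d, X_pow_mem 0 d⟩, 0, fun h => ?_⟩⟩
    have h2 : (X 0 ^ d : MvPolynomial (Fin (r + 1)) k) = 0 := congrArg Subtype.val h
    exact pow_ne_zero d (MvPolynomial.X_ne_zero 0) h2
  have hpos : 0 < Module.finrank k (LefPen.Form r k d) := Module.finrank_pos
  obtain ⟨N, hN⟩ : ∃ N, Module.finrank k (LefPen.Form r k d) = N + 1 :=
    ⟨Module.finrank k (LefPen.Form r k d) - 1, by omega⟩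
  exact ⟨N, ⟨(Module.finBasis k (LefPen.Form r k d)).reindex (finCongr hN)⟩⟩

/-- **Bertini for hypersurface sections of degree `d ≥ 1`.** -/
theorem main [IsAlgClosed k] (n : ℕ) (hn : 1 ≤ n)
    {Z : Scheme.{u}} (i : Z ⟶ CohB1.ProjSpace r k) [IsClosedImmersion i] [IrreducibleSpace Z]
    [SmoothOfRelativeDimension n (i ≫ CohB1.ProjSpace.toSpec r k)]
    (d : ℕ) (hd : 1 ≤ d) :
    LefPen.IsGeneric k {H : LefPen.Form r k d |
      LefPen.Transversal k n 1 (LefPen.secToSpec i ({H} : Set (LefPen.Form r k d)))} := by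
  classical
  obtain ⟨d', rfl⟩ : ∃ d', d = d' + 1 := ⟨d - 1, by omega⟩
  have hsm : Smooth (i ≫ CohB1.ProjSpace.toSpec r k) := SmoothOfRelativeDimension.smooth n _
  have hred : IsReduced Z :=
    Groth.Agent.Lib.Helper6.SmGeom.isReduced_of_smooth_over_field k Z
      (i ≫ CohB1.ProjSpace.toSpec r k)
  have hint : IsIntegral Z := isIntegral_of_irreducibleSpace_of_isReduced Z
  let ι' : Z ⟶ Proj 𝒬 := i
  have hcl : IsClosedImmersion ι' := ‹IsClosedImmersion i›
  have hsmd : SmoothOfRelativeDimension n (ι' ≫ Groth.Agent.Lib.Helper27GrTildeSect.toBase 𝒬) :=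
    ‹SmoothOfRelativeDimension n (i ≫ CohB1.ProjSpace.toSpec r k)›
  obtain ⟨N, ⟨b⟩⟩ := exists_basis r k (d' + 1)
  choose gj hgj hgj' using fun j => chartDeg r k ι' n d' N b j
  have hgne : ∏ j, gj j ≠ 0 := Finset.prod_ne_zero_iff.mpr fun j _ => hgj j
  refine ⟨fun H => MvPolynomial.eval (fun l => b.repr H l) (∏ j, gj j),
    isPolyFun_eval b _, ?_, ?_⟩
  · obtain ⟨a, ha⟩ : ∃ a : Fin (N + 1) → k, MvPolynomial.eval a (∏ j, gj j) ≠ 0 := by
      by_contra hcon
      push Not at hcon
      exact hgne (MvPolynomial.funext fun x => by rw [hcon x, map_zero])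
    refine ⟨b.equivFun.symm a, ?_⟩
    have h1 : (fun l => b.repr (b.equivFun.symm a) l) = a := by
      funext l
      exact congrFun (b.equivFun.apply_symm_apply a) l
    change MvPolynomial.eval (fun l => b.repr (b.equivFun.symm a) l) (∏ j, gj j) ≠ 0
    rw [h1]
    exact ha
  · intro H hH
    change MvPolynomial.eval (fun l => b.repr H l) (∏ j, gj j) ≠ 0 at hH
    rw [map_prod] at hH
    have hnej : ∀ j, MvPolynomial.eval (fun l => b.repr H l) (gj j) ≠ 0 := fun j =>
      (Finset.prod_ne_zero_iff.mp hH) j (Finset.mem_univ j)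
    refine Or.inl ⟨hn, ?_⟩
    have hsec : LefPen.secIdeal i ({H} : Set (LefPen.Form r k (d' + 1))) =
        (hypI H).comap ι' := by
      rw [LefPen.secIdeal, iSup_singleton]
      rfl
    change SmoothOfRelativeDimension (n - 1)
      ((LefPen.secIdeal i ({H} : Set (LefPen.Form r k (d' + 1)))).subschemeι ≫
        ι' ≫ Groth.Agent.Lib.Helper27GrTildeSect.toBase 𝒬)
    rw [hsec]
    have hD : ∀ j : Fin (r + 1), IsAffineOpen (Proj.basicOpen 𝒬 (X j)) :=
      fun j => isAffineOpen_chart j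
    refine smoothOfRelDim_subscheme_of_cover k (ι' ≫ Groth.Agent.Lib.Helper27GrTildeSect.toBase 𝒬) (n - 1)
      ((hypI H).comap ι')
      (fun j : Fin (r + 1) => ⟨ι' ⁻¹ᵁ Proj.basicOpen 𝒬 (X j), (hD j).preimage ι'⟩) ?_ ?_
    · have h2 := Groth.Agent.Lib.Helper27PnChart.iSup_basicOpen_X r k
      have h4 := congrArg (fun V => ι' ⁻¹ᵁ V) h2
      simp only [Scheme.Hom.preimage_iSup, Scheme.Hom.preimage_top] at h4
      exact h4
    · intro j
      have hideal : ((hypI H).comap ι').ideal ⟨ι' ⁻¹ᵁ Proj.basicOpen 𝒬 (X j),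
          (hD j).preimage ι'⟩ = Ideal.span
          {(ι'.app (Proj.basicOpen 𝒬 (X j))).hom (dh H j)} := by
        rw [Groth.Agent.Lib.Helper22.IdealComap.ideal_comap_eq_map ι' (hypI H)
          ⟨ι' ⁻¹ᵁ Proj.basicOpen 𝒬 (X j), (hD j).preimage ι'⟩
          ⟨Proj.basicOpen 𝒬 (X j), hD j⟩ le_rfl,
          hypI_ideal_chart H j, Ideal.map_span, Set.image_singleton,
          ← Scheme.Hom.app_eq_appLE]
      rw [hideal]
      exact hgj' j H (hnej j)

end Main

end Groth.Agent.R2.H49.BertiniDeg
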