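import Mathlib
import Groth.Agent.Lib.Helper10SepDense

/-!
# helper49: a flat birational surjective separated morphism of integral schemes is an isomorphism
(if it is affine or locally of finite presentation)
-/

set_option autoImplicit false
universe u

open CategoryTheory AlgebraicGeometry

namespace Groth.Agent.R2.H49.BirFlat

/-- a faithfully flat birational extension is trivial. -/
theorem bijective_of_flat_birational {A B : Type*} [CommRing A] [CommRing B] [IsDomain B]
    (φ : A →+* B) (hflat : φ.Flat) (hsurj : Function.Surjective (PrimeSpectrum.comap φ))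
    (hbir : ∀ b : B, ∃ a s : A, φ s ≠ 0 ∧ φ s * b = φ a) : Function.Bijective φ := by
  algebraize [φ]
  have hff : Module.FaithfullyFlat A B := Module.FaithfullyFlat.of_comap_surjective hsurj
  have hcm : ∀ I : Ideal A, (I.map φ).comap φ = I := fun I =>
    Ideal.comap_map_eq_self_of_faithfullyFlat (B := B) I
  constructor
  · rw [injective_iff_map_eq_zero]
    intro a ha
    have h1 : a ∈ ((⊥ : Ideal A).map φ).comap φ := by
      rw [Ideal.map_bot, Ideal.mem_comap, ha]
      exact Submodule.zero_mem _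
    rw [hcm] at h1
    exact h1
  · intro b
    obtain ⟨a, s, hs, hab⟩ := hbir b
    have h1 : a ∈ ((Ideal.span {s}).map φ).comap φ := by
      rw [Ideal.mem_comap, ← hab, Ideal.map_span, Set.image_singleton]
      exact Ideal.mul_mem_right _ _ (Ideal.mem_span_singleton_self _)
    rw [hcm, Ideal.mem_span_singleton'] at h1
    obtain ⟨a', rfl⟩ := h1
    refine ⟨a', ?_⟩
    rw [map_mul, mul_comm (φ a') (φ s)] at hab
    exact (mul_left_cancel₀ hs hab).symm

section Geometry

variable {X' X : Scheme.{u}} [IsIntegral X'] [IsIntegral X] (f : X' ⟶ X)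

omit [IsIntegral X] in
theorem bijective_appLE [Flat f] (hK : IsIso (f.stalkMap (genericPoint X')))
    {V : X.Opens} (hV : IsAffineOpen V) {U : X'.Opens} (hU : IsAffineOpen U) (e : U ≤ f ⁻¹ᵁ V)
    (hne : (U : Set X').Nonempty) (hsurj : (V : Set X) ⊆ f '' (U : Set X')) :
    Function.Bijective (f.appLE V U e).hom := by
  have : Nonempty U := ⟨⟨hne.some, hne.some_mem⟩⟩
  have : IsDomain Γ(X', U) := IsIntegral.component_integral U
  refine bijective_of_flat_birational _ (f.flat_appLE hV hU e) ?_ ?_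
  · -- surjectivity on spectra
    intro p
    have hpV : hV.fromSpec p ∈ (V : Set X) := by
      have : hV.fromSpec p ∈ Set.range hV.fromSpec := ⟨p, rfl⟩
      rw [hV.range_fromSpec] at this
      exact this
    obtain ⟨x, hxU, hx⟩ := hsurj hpV
    refine ⟨hU.primeIdealOf ⟨x, hxU⟩, ?_⟩
    apply hV.fromSpec.isOpenEmbedding.injective
    have h1 := IsAffineOpen.SpecMap_appLE_fromSpec f hV hU e
    have h2 := congrArg (fun g : Spec Γ(X', U) ⟶ X => g (hU.primeIdealOf ⟨x, hxU⟩)) h1
    simp only at h2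
    have h3 : hU.fromSpec (hU.primeIdealOf ⟨x, hxU⟩) = x := hU.fromSpec_primeIdealOf ⟨x, hxU⟩
    have h4 : (hU.fromSpec ≫ f) (hU.primeIdealOf ⟨x, hxU⟩) = f x := congrArg f h3
    exact h2.trans (h4.trans hx)
  · -- birationality
    intro b
    have hηU : genericPoint X' ∈ U :=
      ((genericPoint_spec X').mem_open_set_iff U.isOpen).mpr (by simpa using hne)
    have hηV : f (genericPoint X') ∈ V := e hηU
    have hbij := (ConcreteCategory.isIso_iff_bijective _).mp hK
    obtain ⟨t, ht⟩ := hbij.2 (X'.presheaf.germ U (genericPoint X') hηU b)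
    let algV : Algebra Γ(X, V) (X.presheaf.stalk (f (genericPoint X'))) :=
      TopCat.Presheaf.algebra_section_stalk X.presheaf ⟨f (genericPoint X'), hηV⟩
    have locV := hV.isLocalization_stalk ⟨f (genericPoint X'), hηV⟩
    obtain ⟨⟨a, s⟩, has⟩ := IsLocalization.surj
      (hV.primeIdealOf ⟨f (genericPoint X'), hηV⟩).asIdeal.primeCompl t
    -- `has : t * germ s = germ a`
    have hgerm : ∀ c : Γ(X, V), (f.stalkMap (genericPoint X')).hom
        (X.presheaf.germ V (f (genericPoint X')) hηV c) =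
        X'.presheaf.germ U (genericPoint X') hηU ((f.appLE V U e).hom c) := by
      intro c
      have h1 := Scheme.Hom.germ_stalkMap_apply f V (genericPoint X') hηV c
      rw [h1]
      have h2 : (f.appLE V U e).hom c = X'.presheaf.map (homOfLE e).op (f.app V c) := rfl
      rw [h2]
      exact (TopCat.Presheaf.germ_res_apply X'.presheaf (homOfLE e) (genericPoint X') hηU _).symm
    have h5 := congrArg (f.stalkMap (genericPoint X')).hom has
    rw [map_mul, ht] at h5
    have h6 : X'.presheaf.germ U (genericPoint X') hηU (b * (f.appLE V U e).hom s.1) =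
        X'.presheaf.germ U (genericPoint X') hηU ((f.appLE V U e).hom a) := by
      rw [map_mul, ← hgerm, ← hgerm]
      exact h5
    have h7 := germ_injective_of_isIntegral X' (genericPoint X') hηU h6
    refine ⟨a, s.1, ?_, ?_⟩
    · -- `φ s ≠ 0`
      intro h0
      have hunit : IsUnit (algebraMap Γ(X, V) (X.presheaf.stalk (f (genericPoint X'))) s.1) :=
        IsLocalization.map_units _ s
      have h8 := hgerm s.1
      rw [h0, map_zero] at h8
      have hunit' := hunit.map (f.stalkMap (genericPoint X')).hom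
      have : (f.stalkMap (genericPoint X')).hom (algebraMap Γ(X, V)
          (X.presheaf.stalk (f (genericPoint X'))) s.1) = 0 := h8
      rw [this] at hunit'
      exact not_isUnit_zero hunit'
    · rw [mul_comm]
      exact h7

omit [IsIntegral X'] [IsIntegral X] in
theorem isOpenImmersion_ι_comp_of_bijective_appLE
    {V : X.Opens} (hV : IsAffineOpen V) {U : X'.Opens} (hU : IsAffineOpen U) (e : U ≤ f ⁻¹ᵁ V)
    (hb : Function.Bijective (f.appLE V U e).hom) : IsOpenImmersion (U.ι ≫ f) := by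
  have hiso : IsIso (f.appLE V U e) := (ConcreteCategory.isIso_iff_bijective _).mpr hb
  have : IsAffine U.toScheme := hU
  have : IsAffine V.toScheme := hV
  have h1 : IsIso (f.resLE V U e) := by
    have h2 : IsIso (f.resLE V U e).appTop := by
      rw [Scheme.Hom.appTop, Scheme.Hom.resLE_app_top]; infer_instance
    exact (MorphismProperty.arrow_mk_iso_iff (MorphismProperty.isomorphisms _)
      (arrowIsoSpecΓOfIsAffine (f.resLE V U e))).mpr
      (inferInstanceAs (IsIso (Spec.map (f.resLE V U e).appTop)))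
  rw [← Scheme.Hom.resLE_comp_ι f e]
  infer_instance

theorem exists_open_nhd [Flat f] [Surjective f] (hK : IsIso (f.stalkMap (genericPoint X')))
    (h : IsAffineHom f ∨ LocallyOfFinitePresentation f) (x' : X') :
    ∃ U : X'.Opens, x' ∈ U ∧ IsOpenImmersion (U.ι ≫ f) := by
  obtain ⟨_, ⟨V₀, hV₀, rfl⟩, hxV₀, -⟩ :=
    X.isBasis_affineOpens.exists_subset_of_mem_open (Set.mem_univ (f x')) isOpen_univ
  rcases h with h | h
  · -- affine case
    have hU : IsAffineOpen (f ⁻¹ᵁ V₀) := hV₀.preimage f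
    refine ⟨f ⁻¹ᵁ V₀, hxV₀, ?_⟩
    refine isOpenImmersion_ι_comp_of_bijective_appLE f hV₀ hU le_rfl ?_
    refine bijective_appLE f hK hV₀ hU le_rfl ⟨x', hxV₀⟩ ?_
    intro y hy
    obtain ⟨x'', rfl⟩ := f.surjective y
    exact ⟨x'', hy, rfl⟩
  · -- locally of finite presentation: `f` is open
    obtain ⟨_, ⟨U₀, hU₀, rfl⟩, hxU₀, e₀ : U₀ ≤ f ⁻¹ᵁ V₀⟩ :=
      X'.isBasis_affineOpens.exists_subset_of_mem_open hxV₀ (f ⁻¹ᵁ V₀).2
    have hopen : IsOpen (f '' (U₀ : Set X')) := f.isOpenMap _ U₀.2
    obtain ⟨a, ha1, ha2⟩ := hV₀.exists_basicOpen_le (V := ⟨f '' (U₀ : Set X'), hopen⟩)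
      ⟨f x', ⟨x', hxU₀, rfl⟩⟩ hxV₀
    have hV : IsAffineOpen (X.basicOpen a) := hV₀.basicOpen a
    have hU : IsAffineOpen (X'.basicOpen (f.appLE V₀ U₀ e₀ a)) := hU₀.basicOpen _
    have hUeq : X'.basicOpen (f.appLE V₀ U₀ e₀ a) = U₀ ⊓ f ⁻¹ᵁ (X.basicOpen a) :=
      Scheme.basicOpen_appLE f U₀ V₀ e₀ a
    have e : X'.basicOpen (f.appLE V₀ U₀ e₀ a) ≤ f ⁻¹ᵁ (X.basicOpen a) := by
      rw [hUeq]; exact inf_le_right
    have hx'U : x' ∈ X'.basicOpen (f.appLE V₀ U₀ e₀ a) := by
      rw [hUeq]; exact ⟨hxU₀, ha2⟩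
    refine ⟨_, hx'U, ?_⟩
    refine isOpenImmersion_ι_comp_of_bijective_appLE f hV hU e ?_
    refine bijective_appLE f hK hV hU e ⟨x', hx'U⟩ ?_
    intro y hy
    obtain ⟨u, hu, rfl⟩ := ha1 hy
    refine ⟨u, ?_, rfl⟩
    rw [hUeq]
    exact ⟨hu, hy⟩

theorem isIso_of_flat [Flat f] [Surjective f] [IsSeparated f]
    (hK : IsIso (f.stalkMap (genericPoint X')))
    (h : IsAffineHom f ∨ LocallyOfFinitePresentation f) : IsIso f := by
  choose U hxU hU using exists_open_nhd f hK h
  have hcover : ⨆ x', U x' = ⊤ := by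
    rw [eq_top_iff]
    intro x' _
    exact TopologicalSpace.Opens.mem_iSup.mpr ⟨x', hxU x'⟩
  have hd : ∀ x', Dense (U x' : Set X') := fun x' => (U x').isOpen.dense ⟨x', hxU x'⟩
  have := Groth.Agent.Lib.Helper10.SepDense.isOpenImmersion_of_dense_cover f U hcover hd hU
  exact (isIso_iff_isOpenImmersion_and_surjective f).mpr ⟨this, inferInstance⟩

end Geometry

end Groth.Agent.R2.H49.BirFlat
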