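import Mathlib

/-!
# helper49: algebra for "injective on closed points + cotangent surjective ⇒ closed immersion"
-/

set_option autoImplicit false
universe u

namespace Groth.Agent.R2.H49.ClosedImmAlg

open Ideal

/-- Nakayama over a (semi)local quotient: if `q` is the only maximal ideal above `J`, is finitely
generated and is locally generated by `J` and `q ^ 2`, then `q ≤ J`. -/
theorem le_of_local_cotangent {B : Type*} [CommRing B] (J q : Ideal B) [hq : q.IsMaximal]
    (hmax : ∀ M : Ideal B, M.IsMaximal → J ≤ M → M = q) (hfg : q.FG)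
    (hloc : ∀ b ∈ q, ∃ s, s ∉ q ∧ s * b ∈ J ⊔ q ^ 2) : q ≤ J := by
  have hjac : q ≤ jacobson J := by
    rw [Ideal.jacobson]
    refine le_sInf ?_
    rintro M ⟨hJM, hM⟩
    rw [hmax M hM hJM]
  have hglob : q ≤ J ⊔ q • q := by
    intro b hb
    obtain ⟨s, hs, hsb⟩ := hloc b hb
    -- `(s) + J = ⊤`
    have htop : Ideal.span {s} ⊔ J = ⊤ := by
      by_contra hne
      obtain ⟨M, hM, hle⟩ := Ideal.exists_le_maximal _ hne
      have hMq : M = q := hmax M hM (le_trans le_sup_right hle)
      apply hs
      rw [← hMq]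
      exact hle (Ideal.mem_sup_left (Ideal.mem_span_singleton_self s))
    have h1 : (1 : B) ∈ Ideal.span {s} ⊔ J := by rw [htop]; trivial
    obtain ⟨u, hu, c, hc, huc⟩ := Submodule.mem_sup.mp h1
    obtain ⟨t, rfl⟩ := Ideal.mem_span_singleton'.mp hu
    have hb' : b = t * (s * b) + c * b := by linear_combination (-b) * huc
    rw [hb']
    have h2 : t * (s * b) ∈ J ⊔ q • q := by
      have : J ⊔ q ^ 2 = J ⊔ q • q := by rw [pow_two, smul_eq_mul]
      rw [← this]
      exact Ideal.mul_mem_left _ _ hsb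
    exact Ideal.add_mem _ h2 (Ideal.mem_sup_left (Ideal.mul_mem_right _ _ hc))
  have h3 := Submodule.sup_eq_sup_smul_of_le_smul_of_le_jacobson (N := J) hfg hjac hglob
  have h4 : J • q ≤ J := Ideal.mul_le_left
  rw [sup_eq_left.mpr h4] at h3
  exact sup_eq_left.mp h3

/-- the cotangent condition on local rings, expressed in the global rings. -/
theorem exists_mul_mem_of_cotangent {A B Sx Sy : Type*} [CommRing A] [CommRing B] [CommRing Sx]
    [CommRing Sy] (φ : A →+* B) (q : Ideal B) [q.IsPrime] (m : Ideal A) [m.IsPrime]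
    [Algebra B Sx] [IsLocalization.AtPrime Sx q] [Algebra A Sy] [IsLocalization.AtPrime Sy m]
    [IsLocalRing Sx] [IsLocalRing Sy]
    (σ : Sy →+* Sx) (hσ : σ.comp (algebraMap A Sy) = (algebraMap B Sx).comp φ)
    (hT : Ideal.map σ (IsLocalRing.maximalIdeal Sy) ⊔ IsLocalRing.maximalIdeal Sx ^ 2 =
      IsLocalRing.maximalIdeal Sx) :
    ∀ b ∈ q, ∃ s, s ∉ q ∧ s * b ∈ Ideal.map φ m ⊔ q ^ 2 := by
  have h1 : IsLocalRing.maximalIdeal Sx = Ideal.map (algebraMap B Sx) q :=
    (IsLocalization.AtPrime.map_eq_maximalIdeal q Sx).symm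
  have h2 : IsLocalRing.maximalIdeal Sy = Ideal.map (algebraMap A Sy) m :=
    (IsLocalization.AtPrime.map_eq_maximalIdeal m Sy).symm
  have h3 : Ideal.map σ (IsLocalRing.maximalIdeal Sy) =
      Ideal.map (algebraMap B Sx) (Ideal.map φ m) := by
    rw [h2, Ideal.map_map, hσ, ← Ideal.map_map]
  have h4 : Ideal.map (algebraMap B Sx) (Ideal.map φ m ⊔ q ^ 2) =
      Ideal.map (algebraMap B Sx) q := by
    rw [Ideal.map_sup, Ideal.map_pow, ← h3, ← h1, hT]
  intro b hb
  have hmem : algebraMap B Sx b ∈ Ideal.map (algebraMap B Sx) (Ideal.map φ m ⊔ q ^ 2) := by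
    rw [h4]; exact Ideal.mem_map_of_mem _ hb
  rw [IsLocalization.mem_map_algebraMap_iff q.primeCompl] at hmem
  obtain ⟨⟨⟨c, hc⟩, ⟨s, hs⟩⟩, h⟩ := hmem
  simp only at h
  rw [← map_mul, IsLocalization.eq_iff_exists q.primeCompl] at h
  obtain ⟨⟨s', hs'⟩, h⟩ := h
  simp only at h
  refine ⟨s' * s, q.primeCompl.mul_mem hs' hs, ?_⟩
  have h5 : s' * s * b = s' * c := by rw [← h]; ring
  rw [h5]
  exact Ideal.mul_mem_left _ _ hc

/-- global Nakayama: a submodule of a finite module which is everything modulo every maximal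
ideal is everything. -/
theorem eq_top_of_forall_maximal_sup_smul {A M : Type*} [CommRing A] [AddCommGroup M] [Module A M]
    [Module.Finite A M] (N : Submodule A M)
    (h : ∀ m : Ideal A, m.IsMaximal → N ⊔ m • (⊤ : Submodule A M) = ⊤) : N = ⊤ := by
  by_contra hne
  have hnt : Nontrivial (M ⧸ N) := Submodule.Quotient.nontrivial_iff.mpr hne
  have hann : Module.annihilator A (M ⧸ N) ≠ ⊤ := by
    rw [Ne, Module.annihilator_eq_top_iff]
    exact not_subsingleton _
  obtain ⟨m, hm, hle⟩ := Ideal.exists_le_maximal _ hann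
  have htop : (⊤ : Submodule A (M ⧸ N)) ≤ m • ⊤ := by
    have h1 := congrArg (Submodule.map N.mkQ) (h m hm)
    rw [Submodule.map_sup, Submodule.map_smul'', Submodule.map_top, Submodule.range_mkQ,
      Submodule.mkQ_map_self, bot_sup_eq] at h1
    rw [h1]
  obtain ⟨r, hr1, hr2⟩ := Submodule.exists_sub_one_mem_and_smul_eq_zero_of_fg_of_le_smul m
    (⊤ : Submodule A (M ⧸ N)) Module.Finite.fg_top htop
  have hr : r ∈ Module.annihilator A (M ⧸ N) := by
    rw [Module.mem_annihilator]
    intro n
    exact hr2 n trivial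
  have : (1 : A) ∈ m := by
    have := m.sub_mem (hle hr) hr1
    simpa using this
  exact hm.ne_top ((Ideal.eq_top_iff_one m).mpr this)

/-- A finite map of finite type algebras over an algebraically closed field which has at most
one prime over every maximal ideal and satisfies the cotangent condition there is surjective. -/
theorem surjective_of_fibres {k A B : Type u} [Field k] [IsAlgClosed k] [CommRing A] [CommRing B]
    (α : k →+* A) (φ : A →+* B) (hfin : φ.Finite) (hft : (φ.comp α).FiniteType)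
    (huniq : ∀ q q' : Ideal B, q.IsPrime → q'.IsPrime → (q.comap φ).IsMaximal →
      q.comap φ = q'.comap φ → q = q')
    (hloc : ∀ q : Ideal B, q.IsMaximal → (q.comap φ).IsMaximal →
      ∀ b ∈ q, ∃ s, s ∉ q ∧ s * b ∈ Ideal.map φ (q.comap φ) ⊔ q ^ 2) :
    Function.Surjective φ := by
  algebraize [φ, φ.comp α]
  have hNoeth : IsNoetherianRing B := Algebra.FiniteType.isNoetherianRing k B
  let N : Submodule A B := LinearMap.range (Algebra.linearMap A B)
  suffices hN : N = ⊤ by
    intro b
    have : b ∈ N := by rw [hN]; trivial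
    obtain ⟨a, ha⟩ := this
    exact ⟨a, ha⟩
  refine eq_top_of_forall_maximal_sup_smul N fun m hm => ?_
  rw [eq_top_iff]
  intro b _
  by_cases htop : Ideal.map φ m = ⊤
  · -- empty fibre
    have : b ∈ m • (⊤ : Submodule A B) := by
      rw [Ideal.smul_top_eq_map]
      show b ∈ Ideal.map (algebraMap A B) m
      rw [show algebraMap A B = φ from rfl, htop]
      trivial
    exact Submodule.mem_sup_right this
  · obtain ⟨q, hq, hle⟩ := Ideal.exists_le_maximal _ htop
    have hcomap : ∀ p : Ideal B, p.IsPrime → Ideal.map φ m ≤ p → p.comap φ = m := by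
      intro p hp hmp
      have h1 : m ≤ p.comap φ := Ideal.map_le_iff_le_comap.mp hmp
      exact (hm.eq_of_le (Ideal.comap_ne_top φ hp.ne_top) h1).symm
    have hqm : q.comap φ = m := hcomap q hq.isPrime hle
    have hqmax : (q.comap φ).IsMaximal := hqm ▸ hm
    have hmaxq : ∀ M : Ideal B, M.IsMaximal → Ideal.map φ m ≤ M → M = q := by
      intro M hM hmM
      refine huniq M q hM.isPrime hq.isPrime ?_ ?_
      · rw [hcomap M hM.isPrime hmM]; exact hm
      · rw [hcomap M hM.isPrime hmM, hqm]
    have hqJ : q ≤ Ideal.map φ m := by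
      refine le_of_local_cotangent (Ideal.map φ m) q hmaxq (IsNoetherian.noetherian q) ?_
      have := hloc q hq hqmax
      rw [hqm] at this
      exact this
    -- `B ⧸ q` is `k`
    have : Algebra.FiniteType k (B ⧸ q) := inferInstance
    letI : Field (B ⧸ q) := Ideal.Quotient.field q
    have hfinL : Module.Finite k (B ⧸ q) := finite_of_finite_type_of_isJacobsonRing k (B ⧸ q)
    have hsurj : Function.Surjective (algebraMap k (B ⧸ q)) :=
      (IsAlgClosed.algebraMap_bijective_of_isIntegral (k := k) (K := B ⧸ q)).2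
    obtain ⟨c, hc⟩ := hsurj (Ideal.Quotient.mk q b)
    have hc' : b - φ (α c) ∈ q := by
      rw [← Ideal.Quotient.eq_zero_iff_mem, map_sub, ← hc]
      have : algebraMap k (B ⧸ q) c = Ideal.Quotient.mk q (φ (α c)) := rfl
      rw [this, sub_self]
    have hb : b = algebraMap A B (α c) + (b - φ (α c)) := by
      show b = φ (α c) + (b - φ (α c))
      ring
    rw [hb]
    refine Submodule.add_mem _ (Submodule.mem_sup_left ⟨α c, rfl⟩) (Submodule.mem_sup_right ?_)
    rw [Ideal.smul_top_eq_map]
    exact hqJ hc'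

end Groth.Agent.R2.H49.ClosedImmAlg
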