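import Mathlib
import Groth.Agent.R2.H49ClosedImmAlg
import Groth.Agent.S10860

/-!
# helper49: proper + injective on closed points + injective tangent maps ⇒ closed immersion
(over an algebraically closed field)
-/

set_option autoImplicit false
universe u

open CategoryTheory AlgebraicGeometry

namespace Groth.Agent.R2.H49.ClosedImmGeom

section Jacobson

variable {X Y : Scheme.{u}} (f : X ⟶ Y) [JacobsonSpace X]

/-- if `f` is injective on closed points then the points in the fibre of a closed point are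
closed. -/
theorem isClosed_of_mem_fibre
    (hinj : Set.InjOn f.base {x : X | IsClosed ({x} : Set X)})
    (y : Y) (hy : IsClosed ({y} : Set Y)) (x : X) (hx : f x = y) : IsClosed ({x} : Set X) := by
  have hZ : closure {x} ⊆ f ⁻¹' {y} := by
    rw [(hy.preimage f.continuous).closure_subset_iff]
    rintro _ rfl
    exact hx
  obtain ⟨c, hcZ, hc⟩ := nonempty_inter_closedPoints (Z := closure {x})
    ⟨x, subset_closure rfl⟩ isClosed_closure.isLocallyClosed
  have hall : closure {x} ∩ closedPoints X ⊆ {c} := by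
    rintro c' ⟨hc'Z, hc'⟩
    exact hinj hc' hc ((hZ hc'Z).trans (hZ hcZ).symm)
  have h1 : closure ({x} : Set X) ⊆ {c} := by
    have h2 := JacobsonSpace.closure_inter_closedPoints_eq_closure
      (X := X) (S := closure {x}) isClosed_closure.isLocallyClosed
    rw [closure_closure] at h2
    rw [← h2]
    have hcc : IsClosed ({c} : Set X) := hc
    exact hcc.closure_subset_iff.mpr hall
  have hxc : x = c := h1 (subset_closure rfl)
  rw [hxc]
  exact hc

theorem fibre_subsingleton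
    (hinj : Set.InjOn f.base {x : X | IsClosed ({x} : Set X)})
    (y : Y) (hy : IsClosed ({y} : Set Y)) : (f ⁻¹' {y}).Subsingleton := by
  intro x₁ h₁ x₂ h₂
  exact hinj (isClosed_of_mem_fibre f hinj y hy x₁ h₁) (isClosed_of_mem_fibre f hinj y hy x₂ h₂)
    (h₁.trans h₂.symm)

end Jacobson

section Finite

variable {X Y : Scheme.{u}} (f : X ⟶ Y) [JacobsonSpace X] [JacobsonSpace Y] [IsProper f]

/-- a proper morphism of Jacobson schemes which is injective on closed points is finite. -/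
theorem isFinite_of_injOn_closedPoints
    (hinj : Set.InjOn f.base {x : X | IsClosed ({x} : Set X)}) : IsFinite f := by
  obtain ⟨V, hV, -⟩ := Groth.Agent.S10860.result f
  have hVtop : (V : Set Y) = Set.univ := by
    by_contra hne
    have hne' : ((V : Set Y)ᶜ).Nonempty := Set.nonempty_compl.mpr hne
    obtain ⟨y, hyV, hy⟩ := nonempty_inter_closedPoints hne'
      V.isOpen.isClosed_compl.isLocallyClosed
    apply hyV
    rw [hV]
    exact (fibre_subsingleton f hinj y hy).finite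
  have hfinfib : ∀ y : Y, (f ⁻¹' {y}).Finite := by
    intro y
    have : y ∈ (V : Set Y) := by rw [hVtop]; trivial
    rw [hV] at this
    exact this
  have : LocallyQuasiFinite f := LocallyQuasiFinite.of_finite_preimage_singleton f hfinfib
  exact .of_isProper_of_locallyQuasiFinite f

end Finite

section Main

theorem isClosedImmersion_of_injOn_closedPoints_of_cotangent
    (k : Type u) [Field k] [IsAlgClosed k]
    {X Y : Scheme.{u}} (f : X ⟶ Y) (q : Y ⟶ Spec (CommRingCat.of k)) [LocallyOfFiniteType q]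
    [LocallyOfFiniteType (f ≫ q)] [IsProper f]
    (hinj : Set.InjOn f.base {x : X | IsClosed ({x} : Set X)})
    (hT : ∀ x : X, IsClosed ({x} : Set X) →
      Ideal.map (f.stalkMap x).hom (IsLocalRing.maximalIdeal (Y.presheaf.stalk (f.base x))) ⊔
        IsLocalRing.maximalIdeal (X.presheaf.stalk x) ^ 2 =
          IsLocalRing.maximalIdeal (X.presheaf.stalk x)) :
    IsClosedImmersion f := by
  have hJY : JacobsonSpace Y := LocallyOfFiniteType.jacobsonSpace q
  have hJX : JacobsonSpace X := LocallyOfFiniteType.jacobsonSpace (f ≫ q)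
  have hFin : IsFinite f := isFinite_of_injOn_closedPoints f hinj
  rw [isClosedImmersion_iff_isAffineHom]
  refine ⟨inferInstance, fun W hW => ?_⟩
  have hU : IsAffineOpen (f ⁻¹ᵁ W) := hW.preimage f
  -- basic facts on points
  have F2 : ∀ p : PrimeSpectrum Γ(X, f ⁻¹ᵁ W),
      f (hU.fromSpec p) = hW.fromSpec (PrimeSpectrum.comap (f.app W).hom p) := by
    intro p
    have h := IsAffineOpen.SpecMap_appLE_fromSpec f hW hU le_rfl
    rw [Scheme.Hom.appLE_eq_app] at h
    have h' := congrArg (fun g : Spec Γ(X, f ⁻¹ᵁ W) ⟶ Y => g p) h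
    simp only at h'
    exact h'.symm
  have F3 : ∀ m : PrimeSpectrum Γ(Y, W), m.asIdeal.IsMaximal →
      IsClosed ({hW.fromSpec m} : Set Y) := by
    intro m hm
    have h1 : m ∈ closedPoints (PrimeSpectrum Γ(Y, W)) :=
      (PrimeSpectrum.isClosed_singleton_iff_isMaximal m).mpr hm
    have h2 := hW.fromSpec.isOpenEmbedding.preimage_closedPoints
    have h3 : m ∈ hW.fromSpec ⁻¹' closedPoints Y := by rw [h2]; exact h1
    exact h3
  have eW : W ≤ q ⁻¹ᵁ ⊤ := fun _ _ => trivial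
  have eU : f ⁻¹ᵁ W ≤ (f ≫ q) ⁻¹ᵁ ⊤ := fun _ _ => trivial
  let α : k →+* Γ(Y, W) :=
    (q.appLE ⊤ W eW).hom.comp (Scheme.ΓSpecIso (CommRingCat.of k)).inv.hom
  refine Groth.Agent.R2.H49.ClosedImmAlg.surjective_of_fibres α (f.app W).hom
    (f.finite_app W hW) ?_ ?_ ?_
  · -- finite type over `k`
    have h1 : ((f ≫ q).appLE ⊤ (f ⁻¹ᵁ W) eU).hom.FiniteType :=
      (f ≫ q).finiteType_appLE (isAffineOpen_top _) hU eU
    have h2 : (f ≫ q).appLE ⊤ (f ⁻¹ᵁ W) eU = q.appLE ⊤ W eW ≫ f.app W := by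
      rw [← Scheme.Hom.appLE_eq_app]
      exact (Scheme.Hom.appLE_comp_appLE f q ⊤ W (f ⁻¹ᵁ W) eW le_rfl).symm
    rw [h2] at h1
    have h3 : (f.app W).hom.comp α = (q.appLE ⊤ W eW ≫ f.app W).hom.comp
        (Scheme.ΓSpecIso (CommRingCat.of k)).inv.hom := rfl
    rw [h3]
    refine RingHom.FiniteType.comp h1 (RingHom.FiniteType.of_surjective _ ?_)
    exact ((ConcreteCategory.isIso_iff_bijective _).mp
      (inferInstanceAs (IsIso (Scheme.ΓSpecIso (CommRingCat.of k)).inv))).2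
  · -- uniqueness of primes over a maximal ideal
    intro p p' hp hp' hmax hpp'
    have e1 : f (hU.fromSpec ⟨p, hp⟩) = hW.fromSpec ⟨p.comap (f.app W).hom, inferInstance⟩ :=
      F2 ⟨p, hp⟩
    have e2 : f (hU.fromSpec ⟨p', hp'⟩) = hW.fromSpec ⟨p'.comap (f.app W).hom, inferInstance⟩ :=
      F2 ⟨p', hp'⟩
    have e3 : hW.fromSpec ⟨p'.comap (f.app W).hom, inferInstance⟩ =
        hW.fromSpec ⟨p.comap (f.app W).hom, inferInstance⟩ := by
      congr 1
      exact PrimeSpectrum.ext hpp'.symm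
    have hcl := F3 ⟨p.comap (f.app W).hom, inferInstance⟩ hmax
    have h4 := fibre_subsingleton f hinj _ hcl e1 (e2.trans e3)
    have h5 := hU.fromSpec.isOpenEmbedding.injective h4
    exact congrArg PrimeSpectrum.asIdeal h5
  · -- the cotangent condition
    intro p hp hmax b hb
    have hpp : p.IsPrime := hp.isPrime
    have hxU : hU.fromSpec ⟨p, hpp⟩ ∈ f ⁻¹ᵁ W := by
      have : hU.fromSpec ⟨p, hpp⟩ ∈ Set.range hU.fromSpec := ⟨_, rfl⟩
      rw [hU.range_fromSpec] at this
      exact this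
    have hfxW : f (hU.fromSpec ⟨p, hpp⟩) ∈ W := hxU
    have hfx : f (hU.fromSpec ⟨p, hpp⟩) =
        hW.fromSpec ⟨p.comap (f.app W).hom, inferInstance⟩ := F2 ⟨p, hpp⟩
    have hycl : IsClosed ({f (hU.fromSpec ⟨p, hpp⟩)} : Set Y) := by
      rw [hfx]; exact F3 _ hmax
    have hxcl : IsClosed ({hU.fromSpec ⟨p, hpp⟩} : Set X) :=
      isClosed_of_mem_fibre f hinj _ hycl _ rfl
    have hTx := hT _ hxcl
    let algX : Algebra Γ(X, f ⁻¹ᵁ W) (X.presheaf.stalk (hU.fromSpec ⟨p, hpp⟩)) :=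
      TopCat.Presheaf.algebra_section_stalk X.presheaf ⟨hU.fromSpec ⟨p, hpp⟩, hxU⟩
    have locX : IsLocalization.AtPrime (X.presheaf.stalk (hU.fromSpec ⟨p, hpp⟩)) p :=
      hU.isLocalization_stalk' ⟨p, hpp⟩ hxU
    let algY : Algebra Γ(Y, W) (Y.presheaf.stalk (f (hU.fromSpec ⟨p, hpp⟩))) :=
      TopCat.Presheaf.algebra_section_stalk Y.presheaf ⟨f (hU.fromSpec ⟨p, hpp⟩), hfxW⟩
    have locY : IsLocalization.AtPrime (Y.presheaf.stalk (f (hU.fromSpec ⟨p, hpp⟩)))
        (hW.primeIdealOf ⟨f (hU.fromSpec ⟨p, hpp⟩), hfxW⟩).asIdeal :=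
      hW.isLocalization_stalk ⟨f (hU.fromSpec ⟨p, hpp⟩), hfxW⟩
    have hσ : (f.stalkMap (hU.fromSpec ⟨p, hpp⟩)).hom.comp
        (algebraMap Γ(Y, W) (Y.presheaf.stalk (f (hU.fromSpec ⟨p, hpp⟩)))) =
        (algebraMap Γ(X, f ⁻¹ᵁ W) (X.presheaf.stalk (hU.fromSpec ⟨p, hpp⟩))).comp
          (f.app W).hom :=
      congrArg CommRingCat.Hom.hom (Scheme.Hom.germ_stalkMap f W (hU.fromSpec ⟨p, hpp⟩) hfxW)
    have key := Groth.Agent.R2.H49.ClosedImmAlg.exists_mul_mem_of_cotangent (f.app W).hom p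
      (hW.primeIdealOf ⟨f (hU.fromSpec ⟨p, hpp⟩), hfxW⟩).asIdeal
      (f.stalkMap (hU.fromSpec ⟨p, hpp⟩)).hom hσ hTx b hb
    have hm : (hW.primeIdealOf ⟨f (hU.fromSpec ⟨p, hpp⟩), hfxW⟩).asIdeal =
        p.comap (f.app W).hom := by
      have h1 : hW.fromSpec (hW.primeIdealOf ⟨f (hU.fromSpec ⟨p, hpp⟩), hfxW⟩) =
          f (hU.fromSpec ⟨p, hpp⟩) := hW.fromSpec_primeIdealOf ⟨_, hfxW⟩
      have h2 := hW.fromSpec.isOpenEmbedding.injective (h1.trans hfx)
      exact congrArg PrimeSpectrum.asIdeal h2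
    rw [hm] at key
    exact key

end Main

end Groth.Agent.R2.H49.ClosedImmGeom
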