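import Groth.Prelude.Def_Coh
import Groth.Prelude.Def_ModSite2
import Groth.Prelude.Def_ExtSupp
import Groth.Agent.Lib.Helper21ExtShDelta
import Mathlib.AlgebraicGeometry.Modules.Tilde
import Mathlib.Algebra.Category.ModuleCat.Ext.HasExt
import Mathlib.Algebra.Homology.DerivedCategory.Ext.Linear

/-!
# helper50: interface (Spec) for the project PROJ:ext-sheaf

Toolkit for the local Ext sheaves `ℰxt^i_{O_X}(F, G)` on schemes (Hartshorne III.6), the foundation of
the `ProjDual.*` cluster (III.7).  Rows served directly: S11328, S15518, S9503, S9524, S10943, S14409,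
S11323; then S19671/S15519 (III.6.9), S11324/S15513 (III.7.3), S14432/S11903 (III.7.5) ...

Each package is a closed `Prop`; a package file proves `theorem pkgX : ExtShSpec.PkgX` (possibly from
other packages as hypotheses).  The instance `ModSite.HasSheafHom M` always holds
(`Helper21.ExtShDelta.hasSheafHom`); it is a `Prop`, so any two instances agree.
-/

set_option autoImplicit false
universe u
open CategoryTheory CategoryTheory.Limits Opposite AlgebraicGeometry

namespace Groth.Agent.R2.H50.ExtShSpec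

/-! ### A. restriction to opens -/

/-- PkgRestrHom: `ℋom_X(F, -)|_Y ≅ ℋom_Y(F|_Y, (-)|_Y)` for an open immersion `j : Y ⟶ X`
(isomorphism of functors). -/
def PkgRestrHom : Prop :=
  ∀ {X Y : Scheme.{u}} (j : Y ⟶ X) [IsOpenImmersion j] (F : X.Modules)
    [ModSite.HasSheafHom (O := X.sheaf) F]
    [ModSite.HasSheafHom (O := Y.sheaf) ((Scheme.Modules.restrictFunctor j).obj F)],
    Nonempty ((ModSite.sheafHom (O := X.sheaf) F ⋙ Scheme.Modules.restrictFunctor j : X.Modules ⥤ Y.Modules) ≅
      (Scheme.Modules.restrictFunctor j ⋙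
        ModSite.sheafHom (O := Y.sheaf) ((Scheme.Modules.restrictFunctor j).obj F) : X.Modules ⥤ Y.Modules))

/-- PkgRestrExt: `ℰxt^q_X(F, -)|_Y ≅ ℰxt^q_Y(F|_Y, (-)|_Y)` for an open immersion `j : Y ⟶ X`
(isomorphism of functors).  [S11328 is the case `j = U.ι`.] -/
def PkgRestrExt : Prop :=
  ∀ {X Y : Scheme.{u}} (j : Y ⟶ X) [IsOpenImmersion j] (F : X.Modules)
    [ModSite.HasSheafHom (O := X.sheaf) F]
    [ModSite.HasSheafHom (O := Y.sheaf) ((Scheme.Modules.restrictFunctor j).obj F)]
    [HasInjectiveResolutions (ModSite.Mod X.sheaf)] [HasInjectiveResolutions (ModSite.Mod Y.sheaf)]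
    (q : ℕ),
    Nonempty ((ModSite.extSh (O := X.sheaf) F q ⋙ Scheme.Modules.restrictFunctor j : X.Modules ⥤ Y.Modules) ≅
      (Scheme.Modules.restrictFunctor j ⋙
        ModSite.extSh (O := Y.sheaf) ((Scheme.Modules.restrictFunctor j).obj F) q : X.Modules ⥤ Y.Modules))

/-! ### B. the affine core -/

/-- PkgTildeHom: a map `θ_M : Hom_R(M, N)~ ⟶ ℋom(M~, N~)` on `Spec R`, natural in `M`, which is an
isomorphism for `M` of finite presentation.  (`R` any commutative ring.) -/
def PkgTildeHom : Prop :=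
  ∀ (R : CommRingCat.{u}) (N : ModuleCat.{u} R)
    [∀ M : ModuleCat.{u} R, ModSite.HasSheafHom (O := (Spec R).sheaf) ((tilde.functor R).obj M)],
    ∃ θ : ∀ M : ModuleCat.{u} R, (tilde.functor R).obj (ModuleCat.of R (M →ₗ[R] N)) ⟶
        (ModSite.sheafHom (O := (Spec R).sheaf) ((tilde.functor R).obj M)).obj
          ((tilde.functor R).obj N),
      (∀ {M M' : ModuleCat.{u} R} (g : M' ⟶ M),
        θ M ≫ (ExtSupp.sheafHomMap (O := (Spec R).sheaf) ((tilde.functor R).map g)).app
            ((tilde.functor R).obj N) =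
          (tilde.functor R).map (ModuleCat.ofHom (LinearMap.lcomp R N g.hom)) ≫ θ M') ∧
      ∀ M : ModuleCat.{u} R, Module.FinitePresentation R M → IsIso (θ M)

/-- PkgExtFinite: `Ext^i_A(M, N)` is a finite `A`-module for finite modules over a Noetherian ring. -/
def PkgExtFinite : Prop :=
  ∀ (A : Type u) [CommRing A] [IsNoetherianRing A] (M N : ModuleCat.{u} A)
    [Module.Finite A M] [Module.Finite A N] (i : ℕ), Module.Finite A (Abelian.Ext M N i)

/-- PkgAffExt: `ℰxt^i(M~, N~) ≅ Ext^i_A(M, N)~` on `Spec A`, `A` Noetherian, `M` finite.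
[= S15518 with `ModuleCat` arguments.] -/
def PkgAffExt : Prop :=
  ∀ (R : CommRingCat.{u}) [IsNoetherianRing R] (M N : ModuleCat.{u} R) [Module.Finite R M]
    [ModSite.HasSheafHom (O := (Spec R).sheaf) (tilde M)]
    [HasInjectiveResolutions (ModSite.Mod (Spec R).sheaf)] (i : ℕ),
    Nonempty (((ModSite.extSh (O := (Spec R).sheaf) (tilde M) i).obj (tilde N)) ≅
      tilde (ModuleCat.of R (Abelian.Ext M N i)))

end Groth.Agent.R2.H50.ExtShSpec
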