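import Mathlib
import Groth.Agent.R2.H50ExtShSpec
import Groth.Agent.Lib.Helper8ExtBC

/-!
# PROJ:ext-sheaf package (B3) `PkgExtFinite` (helper49)

`Ext^i_A(M, N)` is a finite `A`-module for finite modules `M`, `N` over a Noetherian ring `A`
(dimension shifting along a presentation `0 → K → A^m → M → 0`).
-/

set_option autoImplicit false
universe u
open CategoryTheory CategoryTheory.Abelian

namespace Groth.Agent.R2.H49.ExtShExtFinite

open Groth.Agent.Lib.Helper8.ExtBC

/-- `Hom_A(M, N)` is finite for finite `M`, `N` over a Noetherian ring. -/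
theorem finite_linearMap (A : Type u) [CommRing A] [IsNoetherianRing A]
    (M N : Type u) [AddCommGroup M] [Module A M] [AddCommGroup N] [Module A N]
    [Module.Finite A M] [Module.Finite A N] : Module.Finite A (M →ₗ[A] N) := by
  obtain ⟨m, f, hf⟩ := Module.Finite.exists_fin' A M
  have : IsNoetherian A ((Fin m → A) →ₗ[A] N) := isNoetherian_of_isNoetherianRing_of_finite A _
  exact Module.Finite.of_injective (LinearMap.lcomp A N f)
    (fun g h hgh => LinearMap.ext fun x => by
      obtain ⟨y, rfl⟩ := hf x
      exact LinearMap.congr_fun hgh y)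

/-- The presentation short complex `0 → ker f → A^m → M → 0`. -/
noncomputable def presSC {A : Type u} [CommRing A] (M : ModuleCat.{u} A) {m : ℕ}
    (f : (Fin m → A) →ₗ[A] M) : ShortComplex (ModuleCat.{u} A) :=
  ShortComplex.mk (ModuleCat.ofHom (LinearMap.ker f).subtype)
    (ModuleCat.ofHom (X := ModuleCat.of A (Fin m → A)) (Y := M) f) (by
      ext x
      exact x.2)

theorem presSC_shortExact {A : Type u} [CommRing A] (M : ModuleCat.{u} A) {m : ℕ}
    (f : (Fin m → A) →ₗ[A] M) (hf : Function.Surjective f) : (presSC M f).ShortExact := by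
  have hex : (presSC M f).Exact := by
    rw [ShortComplex.ShortExact.moduleCat_exact_iff_function_exact]
    intro x
    constructor
    · intro hx
      exact ⟨⟨x, hx⟩, rfl⟩
    · rintro ⟨y, rfl⟩
      exact y.2
  exact
    { exact := hex
      mono_f := (ModuleCat.mono_iff_injective _).mpr Subtype.val_injective
      epi_g := (ModuleCat.epi_iff_surjective _).mpr hf }

theorem pkgExtFinite : Groth.Agent.R2.H50.ExtShSpec.PkgExtFinite := by
  intro A _ _ M N _ _ i
  induction i generalizing M with
  | zero =>
    have := finite_linearMap A M N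
    exact Module.Finite.equiv (ext0 M N).symm
  | succ n ih =>
    obtain ⟨m, f, hf⟩ := Module.Finite.exists_fin' A M
    have hSh := presSC_shortExact M f hf
    have : Projective (presSC M f).X₂ :=
      ModuleCat.projective_of_free (Pi.basisFun A (Fin m))
    have : IsNoetherian A (Fin m → A) := isNoetherian_of_isNoetherianRing_of_finite A _
    have : Module.Finite A ((presSC M f).X₁) :=
      inferInstanceAs (Module.Finite A (LinearMap.ker f))
    have hK := ih (presSC M f).X₁
    exact Module.Finite.of_surjective (δ (presSC M f) hSh N n (n + 1) (add_comm 1 n))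
      (δ_surjective (presSC M f) hSh N n)

end Groth.Agent.R2.H49.ExtShExtFinite
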