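import Mathlib
import Groth.Prelude.Def_Curv2
import Groth.Prelude.Def_Found
import Groth.Agent.Lib.Helper28RegDescent

/-!
# Descent of geometric regularity along flat local homomorphisms (helper49)

`A → B` a faithfully flat map of `k`-algebras, `B` geometrically regular over `k`
(Prelude `CAlg.IsGeometricallyRegular`) ⇒ `A` geometrically regular over `k`.
-/

universe u
open CategoryTheory CategoryTheory.Limits AlgebraicGeometry TensorProduct

namespace Groth.Agent.R2.H49.GeomRegDesc

/-- Descent of geometric regularity along a faithfully flat `k`-algebra map. -/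
theorem isGeometricallyRegular_of_faithfullyFlat (k : Type u) [Field k]
    (A B : Type u) [CommRing A] [CommRing B] [Algebra k A] [Algebra k B] [Algebra A B]
    [IsScalarTower k A B] [Module.FaithfullyFlat A B]
    (hB : CAlg.IsGeometricallyRegular k B) : CAlg.IsGeometricallyRegular k A := by
  intro k' _ _ hfin
  have hB' : IsRegularRing (k' ⊗[k] B) := hB k' hfin
  -- `(A ⊗ k') ⊗_A B ≃ B ⊗_A (A ⊗ k') ≃ B ⊗ k' ≃ k' ⊗ B`
  let e1 : (A ⊗[k] k') ⊗[A] B ≃ₐ[A] B ⊗[A] (A ⊗[k] k') :=
    Algebra.TensorProduct.comm A (A ⊗[k] k') B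
  let e2 : B ⊗[A] (A ⊗[k] k') ≃ₐ[A] B ⊗[k] k' :=
    Algebra.TensorProduct.cancelBaseChange k A A B k'
  let e3 : B ⊗[k] k' ≃ₐ[k] k' ⊗[k] B := Algebra.TensorProduct.comm k B k'
  have hreg : IsRegularRing ((A ⊗[k] k') ⊗[A] B) :=
    IsRegularRing.of_ringEquiv
      ((e1.toRingEquiv.trans e2.toRingEquiv).trans e3.toRingEquiv).symm
  have hA : IsRegularRing (A ⊗[k] k') :=
    Groth.Agent.Lib.Helper28.isRegularRing_of_faithfullyFlat
      (R := A ⊗[k] k') (S := (A ⊗[k] k') ⊗[A] B)
  exact IsRegularRing.of_ringEquiv (Algebra.TensorProduct.comm k A k').toRingEquiv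

end Groth.Agent.R2.H49.GeomRegDesc
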