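import Mathlib

/-!
# helper49: order of vanishing and open immersions

`Ring.ord`, `Ring.ordFrac` are invariant under ring isomorphisms; `Scheme.ord` is compatible with
open immersions of integral locally Noetherian schemes.
-/

set_option autoImplicit false
universe u
open CategoryTheory AlgebraicGeometry Order

namespace Groth.Agent.R2.H49.OrdOpen

section Algebra

theorem ord_ringEquiv {R R' : Type*} [CommRing R] [CommRing R'] (σ : R ≃+* R') (x : R) :
    Ring.ord R' (σ x) = Ring.ord R x := by
  let _ : Algebra R R' := σ.toRingHom.toAlgebra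
  have hsurj : Function.Surjective (algebraMap R R') := σ.surjective
  let σa : R ≃ₐ[R] R' := AlgEquiv.ofRingEquiv (f := σ) (fun r => rfl)
  have hIJ : Ideal.span {σ x} = (Ideal.span {x}).map (σa : R →+* R') := by
    rw [Ideal.map_span, Set.image_singleton]; rfl
  let e := Ideal.quotientEquivAlg (Ideal.span {x}) (Ideal.span {σ x}) σa hIJ
  unfold Ring.ord
  rw [← Module.length_eq_of_surjective (S := R) (M := R' ⧸ Ideal.span {σ x}) hsurj]
  exact (e.toLinearEquiv.length_eq).symm

variable {R R' K K' : Type*} [CommRing R] [IsDomain R] [IsNoetherianRing R] [Ring.KrullDimLE 1 R]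
  [CommRing R'] [IsDomain R'] [IsNoetherianRing R'] [Ring.KrullDimLE 1 R']
  [Field K] [Field K'] [Algebra R K] [IsFractionRing R K] [Algebra R' K'] [IsFractionRing R' K']

omit [IsNoetherianRing R] [Ring.KrullDimLE 1 R] [IsNoetherianRing R'] [Ring.KrullDimLE 1 R'] in
theorem ordMonoidWithZeroHom_ringEquiv (σ : R ≃+* R') (x : R) :
    Ring.ordMonoidWithZeroHom R' (σ x) = Ring.ordMonoidWithZeroHom R x := by
  by_cases hx : x = 0
  · subst hx; simp
  · have hx' : σ x ≠ 0 := by simpa using hx
    rw [Ring.ordMonoidWithZeroHom_eq_ord (mem_nonZeroDivisors_iff_ne_zero.mpr hx'),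
      Ring.ordMonoidWithZeroHom_eq_ord (mem_nonZeroDivisors_iff_ne_zero.mpr hx), ord_ringEquiv]

theorem ordFrac_ringEquiv (σ : R ≃+* R') (τ : K →+* K')
    (h : ∀ r, τ (algebraMap R K r) = algebraMap R' K' (σ r)) (z : K) :
    Ring.ordFrac R' (τ z) = Ring.ordFrac R z := by
  obtain ⟨a, b, hb, rfl⟩ := IsFractionRing.div_surjective (A := R) z
  have hb0 : b ≠ 0 := nonZeroDivisors.ne_zero hb
  rw [map_div₀, map_div₀, map_div₀, h, h]
  by_cases ha : a = 0
  · subst ha; simp
  · have ha' : σ a ≠ 0 := by simpa using ha
    have hb' : σ b ≠ 0 := by simpa using hb0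
    rw [Ring.ordFrac_eq_ord R' ha', Ring.ordFrac_eq_ord R' hb', Ring.ordFrac_eq_ord R ha,
      Ring.ordFrac_eq_ord R hb0, ordMonoidWithZeroHom_ringEquiv, ordMonoidWithZeroHom_ringEquiv]

end Algebra

section Geometry

variable {X Y : Scheme.{u}} [IsIntegral X] [IsIntegral Y] (j : Y ⟶ X) [IsOpenImmersion j]

theorem specializes_genericPoint : j (genericPoint Y) ⤳ genericPoint X :=
  (Inseparable.of_eq (genericPoint_eq_of_isOpenImmersion j)).specializes

/-- the induced map on function fields. -/
noncomputable def ffMap : X.functionField ⟶ Y.functionField :=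
  X.presheaf.stalkSpecializes (specializes_genericPoint j) ≫ j.stalkMap (genericPoint Y)

instance isIso_ffMap : IsIso (ffMap j) := by
  have h1 : IsIso (X.presheaf.stalkSpecializes (specializes_genericPoint j)) :=
    (X.presheaf.stalkCongr (Inseparable.of_eq (genericPoint_eq_of_isOpenImmersion j).symm)).isIso_hom
  unfold ffMap
  infer_instance

theorem ffMap_algebraMap (y : Y) (r : X.presheaf.stalk (j y)) :
    (ffMap j).hom (algebraMap (X.presheaf.stalk (j y)) X.functionField r) =
      algebraMap (Y.presheaf.stalk y) Y.functionField ((j.stalkMap y).hom r) := by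
  have hY : genericPoint Y ⤳ y := (genericPoint_spec Y).specializes trivial
  have key : X.presheaf.stalkSpecializes ((genericPoint_spec X).specializes trivial) ≫ ffMap j =
      j.stalkMap y ≫ Y.presheaf.stalkSpecializes hY := by
    unfold ffMap
    rw [← Category.assoc, TopCat.Presheaf.stalkSpecializes_comp]
    exact Scheme.Hom.stalkSpecializes_stalkMap j (genericPoint Y) y hY
  exact congrArg (fun φ => φ.hom r) key

omit [IsIntegral X] [IsIntegral Y] in
theorem coheight_eq (y : Y) : coheight (j y) = coheight y := by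
  have h := ringKrullDim_eq_of_ringEquiv (asIso (j.stalkMap y)).commRingCatIsoToRingEquiv
  rw [ringKrullDim_stalk_eq_coheight, ringKrullDim_stalk_eq_coheight] at h
  exact WithBot.coe_injective h

theorem ord_ffMap [IsLocallyNoetherian X] [IsLocallyNoetherian Y] (y : Y) (f : X.functionField) :
    Scheme.ord ((ffMap j).hom f) y = Scheme.ord f (j y) := by
  by_cases hy : coheight y = 1
  · have hy' : coheight (j y) = 1 := by rw [coheight_eq]; exact hy
    rw [Scheme.ord_eq_ordHom_of_coheight_eq_one hy, Scheme.ord_eq_ordHom_of_coheight_eq_one hy']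
    congr 2
    have : Ring.KrullDimLE 1 (X.presheaf.stalk (j y)) := krullDimLE_of_coheight_le hy'.le
    have : Ring.KrullDimLE 1 (Y.presheaf.stalk y) := krullDimLE_of_coheight_le hy.le
    exact ordFrac_ringEquiv (asIso (j.stalkMap y)).commRingCatIsoToRingEquiv (ffMap j).hom
      (fun r => ffMap_algebraMap j y r) f
  · have hy' : coheight (j y) ≠ 1 := by rw [coheight_eq]; exact hy
    rw [Scheme.ord_eq_zero_of_coheight_neq_one hy, Scheme.ord_eq_zero_of_coheight_neq_one hy']

theorem ffMap_surjective : Function.Surjective (ffMap j).hom :=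
  ((ConcreteCategory.isIso_iff_bijective _).mp (isIso_ffMap j)).2

theorem ffMap_injective : Function.Injective (ffMap j).hom :=
  ((ConcreteCategory.isIso_iff_bijective _).mp (isIso_ffMap j)).1

end Geometry

end Groth.Agent.R2.H49.OrdOpen
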