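import Mathlib
import Groth.Agent.R2.H49PnLinPull

/-!
# `Twist.twistProjSpace n R 1` is `GrTilde.tilde 𝒜 𝒜 1` (helper49)

The two frozen constructions of `O(1)` on projective space agree definitionally; the check is
expensive, so it is done once here.
-/

set_option autoImplicit false
universe u

open CategoryTheory CategoryTheory.Limits AlgebraicGeometry TopologicalSpace Opposite

namespace Groth.Agent.R2.H49.PnLinBridge

open Groth.Agent.Lib.Helper27GrTildeSect

set_option maxHeartbeats 4000000 in
theorem twistProjSpace_one_eq (n : ℕ) (R : Type u) [CommRing R] :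
    (Twist.twistProjSpace n R 1 : (CohB1.ProjSpace n R).Modules) =
      GrTilde.tilde (CohB1.polyGrading n R) (CohB1.polyGrading n R) ((1 : ℕ) : ℤ) := rfl

theorem coord_heq (n : ℕ) (R : Type u) [CommRing R] (i : Fin (n + 1)) :
    HEq (ProjUP.coord n R i)
      (gsec (CohB1.polyGrading n R) 1 ⊤ (Groth.Agent.Lib.Helper27ProjGamma.hX n R i)) := HEq.rfl

end Groth.Agent.R2.H49.PnLinBridge
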