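import Mathlib
import Groth.Agent.R2.H49PnLinPull
import Groth.Agent.R2.H49PnLinBridge
import Groth.Agent.R2.H49ClosedImmGeom

/-!
# Closed immersions into projective space: separating points and tangent vectors (helper49)

The criterion (Hartshorne II.7.3 over an algebraically closed field) for `O(1)` given as
`GrTilde.tilde 𝒜 𝒜 1`; stated for an abstract module `M` equal to it so that the frozen
`Twist.twistProjSpace n k 1` can be plugged in.
-/

set_option autoImplicit false
universe u

open CategoryTheory CategoryTheory.Limits AlgebraicGeometry TopologicalSpace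

namespace Groth.Agent.R2.H49.PnLinMain

open Groth.Agent.Lib.Helper27GrTildeSect

theorem aux (k : Type u) [Field k] [IsAlgClosed k] (n : ℕ)
    (M : (CohB1.ProjSpace n k).Modules) (t : Fin (n + 1) → ProjUP.Γm M)
    (hM : M = GrTilde.tilde (CohB1.polyGrading n k) (CohB1.polyGrading n k) ((1 : ℕ) : ℤ))
    (ht : ∀ i, HEq (t i) (gsec (CohB1.polyGrading n k) 1 ⊤ (Groth.Agent.Lib.Helper27ProjGamma.hX n k i)))
    (X : Scheme.{u}) (pX : X ⟶ Spec (CommRingCat.of k)) [IsIntegral X]
    (hproj : ∃ (N : ℕ) (ι : X ⟶ CohB1.ProjSpace N k),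
      IsClosedImmersion ι ∧ ι ≫ CohB1.ProjSpace.toSpec N k = pX)
    (f : X ⟶ CohB1.ProjSpace n k) (hf : f ≫ CohB1.ProjSpace.toSpec n k = pX) :
    IsClosedImmersion f ↔
      ((∀ P Q : ↥X, IsClosed ({P} : Set ↥X) → IsClosed ({Q} : Set ↥X) → P ≠ Q →
          ∃ c : Fin (n + 1) → k,
            (((Scheme.Modules.pullback f).obj M).presheaf.germ ⊤ P trivial).hom
                (∑ i, ProjUP.toGlobal pX (c i) •
                  ProjUP.pullSec f M (t i)) ∈
              (IsLocalRing.maximalIdeal ↑(X.presheaf.stalk P) •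
                (⊤ : Submodule ↑(X.presheaf.stalk P) ↑(((Scheme.Modules.pullback f).obj M).presheaf.stalk P))) ∧
            (((Scheme.Modules.pullback f).obj M).presheaf.germ ⊤ Q trivial).hom
                (∑ i, ProjUP.toGlobal pX (c i) •
                  ProjUP.pullSec f M (t i)) ∉
              (IsLocalRing.maximalIdeal ↑(X.presheaf.stalk Q) •
                (⊤ : Submodule ↑(X.presheaf.stalk Q) ↑(((Scheme.Modules.pullback f).obj M).presheaf.stalk Q)))) ∧
        ∀ P : ↥X, IsClosed ({P} : Set ↥X) →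
          (IsLocalRing.maximalIdeal ↑(X.presheaf.stalk P) •
                (⊤ : Submodule ↑(X.presheaf.stalk P) ↑(((Scheme.Modules.pullback f).obj M).presheaf.stalk P))) ≤
            Submodule.span ↑(X.presheaf.stalk P)
                {v | ∃ c : Fin (n + 1) → k,
                  v = (((Scheme.Modules.pullback f).obj M).presheaf.germ ⊤ P trivial).hom
                (∑ i, ProjUP.toGlobal pX (c i) •
                  ProjUP.pullSec f M (t i)) ∧
                  v ∈ (IsLocalRing.maximalIdeal ↑(X.presheaf.stalk P) •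
                (⊤ : Submodule ↑(X.presheaf.stalk P) ↑(((Scheme.Modules.pullback f).obj M).presheaf.stalk P)))} ⊔
              (IsLocalRing.maximalIdeal ↑(X.presheaf.stalk P) ^ 2 •
                (⊤ : Submodule ↑(X.presheaf.stalk P) ↑(((Scheme.Modules.pullback f).obj M).presheaf.stalk P)))) := by
  subst hM
  have ht' : t = fun i => gsec (CohB1.polyGrading n k) 1 ⊤
      (Groth.Agent.Lib.Helper27ProjGamma.hX n k i) := funext fun i => eq_of_heq (ht i)
  subst ht'
  subst hf
  -- properness
  have hq : IsProper (CohB1.ProjSpace.toSpec n k) := Groth.Agent.S9705.isProper_projSpace_toSpec n k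
  have hfq : IsProper (f ≫ CohB1.ProjSpace.toSpec n k) := by
    obtain ⟨N, ι, hι, hιp⟩ := hproj
    have hqN : IsProper (CohB1.ProjSpace.toSpec N k) :=
      Groth.Agent.S9705.isProper_projSpace_toSpec N k
    rw [← hιp]
    infer_instance
  have hfprop : IsProper f := IsProper.of_comp f (CohB1.ProjSpace.toSpec n k)
  have hclosed : ∀ P : ↥X, IsClosed ({P} : Set ↥X) →
      IsClosed ({f P} : Set ↥(Proj (CohB1.polyGrading n k))) := by
    intro P hP
    have h1 := f.isClosedMap _ hP
    rwa [Set.image_singleton] at h1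
  -- the translation lemmas
  have hvan := Groth.Agent.R2.H49.PnLinPull.germ_sc_mem_iff n k f
  have htan := Groth.Agent.R2.H49.PnLinPull.tangent_iff n k f
  constructor
  · intro hci
    refine ⟨fun P Q hP hQ hne => ?_, fun P hP => ?_⟩
    · have hne' : f P ≠ f Q := fun h => hne (f.isClosedEmbedding.injective h)
      obtain ⟨c, hc, hc'⟩ := Groth.Agent.R2.H49.PnLin.exists_lin_mem_not_mem n k (f P) (f Q)
        (hclosed P hP) hne'
      exact ⟨c, (hvan c P).mpr hc, fun h => hc' ((hvan c Q).mp h)⟩
    · refine (htan P (hclosed P hP)).mpr ?_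
      have hsurj := f.stalkMap_surjective P
      have hle1 : Ideal.map (f.stalkMap P).hom
          (IsLocalRing.maximalIdeal ((CohB1.ProjSpace n k).presheaf.stalk (f P))) ≤
          IsLocalRing.maximalIdeal (X.presheaf.stalk P) := by
        rw [Ideal.map_le_iff_le_comap]
        intro a ha
        exact (Groth.Agent.R2.H49.PnLinPull.map_mem_maximalIdeal_iff (f.stalkMap P).hom a).mpr ha
      have hle2 : IsLocalRing.maximalIdeal (X.presheaf.stalk P) ^ 2 ≤
          IsLocalRing.maximalIdeal (X.presheaf.stalk P) := Ideal.pow_le_self two_ne_zero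
      refine le_antisymm (sup_le hle1 hle2) (le_sup_of_le_left ?_)
      intro b hb
      obtain ⟨a, rfl⟩ := hsurj b
      exact Ideal.mem_map_of_mem _
        ((Groth.Agent.R2.H49.PnLinPull.map_mem_maximalIdeal_iff (f.stalkMap P).hom a).mp hb)
  · rintro ⟨hi, hii⟩
    have hlq : LocallyOfFiniteType (CohB1.ProjSpace.toSpec n k) := inferInstance
    have hlfq : LocallyOfFiniteType (f ≫ CohB1.ProjSpace.toSpec n k) := inferInstance
    refine Groth.Agent.R2.H49.ClosedImmGeom.isClosedImmersion_of_injOn_closedPoints_of_cotangent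
      k f (CohB1.ProjSpace.toSpec n k) ?_ ?_
    · intro P hP Q hQ heq
      by_contra hne
      obtain ⟨c, h1, h2⟩ := hi P Q hP hQ hne
      have h1' := (hvan c P).mp h1
      have heq' : f P = f Q := heq
      have htr : ∀ y y' : Proj (CohB1.polyGrading n k), y = y' →
          Groth.Agent.R2.H49.PnLin.lin n k c ∈
            (show ProjectiveSpectrum (CohB1.polyGrading n k) from y).asHomogeneousIdeal →
          Groth.Agent.R2.H49.PnLin.lin n k c ∈
            (show ProjectiveSpectrum (CohB1.polyGrading n k) from y').asHomogeneousIdeal := by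
        rintro _ _ rfl h
        exact h
      exact h2 ((hvan c Q).mpr (htr _ _ heq' h1'))
    · intro P hP
      exact (htan P (hclosed P hP)).mp (hii P hP)

/-- variant: `X` proper over `k`, symmetric separation of points. -/
theorem aux2 (k : Type u) [Field k] [IsAlgClosed k] (n : ℕ)
    (M : (CohB1.ProjSpace n k).Modules) (t : Fin (n + 1) → ProjUP.Γm M)
    (hM : M = GrTilde.tilde (CohB1.polyGrading n k) (CohB1.polyGrading n k) ((1 : ℕ) : ℤ))
    (ht : ∀ i, HEq (t i) (gsec (CohB1.polyGrading n k) 1 ⊤ (Groth.Agent.Lib.Helper27ProjGamma.hX n k i)))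
    (X : Scheme.{u}) (pX : X ⟶ Spec (CommRingCat.of k)) (hprop : IsProper pX)
    (f : X ⟶ CohB1.ProjSpace n k) (hf : f ≫ CohB1.ProjSpace.toSpec n k = pX) :
    IsClosedImmersion f ↔
      ((∀ P Q : ↥X, IsClosed ({P} : Set ↥X) → IsClosed ({Q} : Set ↥X) → P ≠ Q →
          ∃ c : Fin (n + 1) → k,
            ((((Scheme.Modules.pullback f).obj M).presheaf.germ ⊤ P trivial).hom (∑ j, ProjUP.toGlobal pX (c j) • ProjUP.pullSec f M (t j)) ∈ (IsLocalRing.maximalIdeal ↑(X.presheaf.stalk P) • (⊤ : Submodule ↑(X.presheaf.stalk P) ↑(((Scheme.Modules.pullback f).obj M).presheaf.stalk P))) ∧ (((Scheme.Modules.pullback f).obj M).presheaf.germ ⊤ Q trivial).hom (∑ j, ProjUP.toGlobal pX (c j) • ProjUP.pullSec f M (t j)) ∉ (IsLocalRing.maximalIdeal ↑(X.presheaf.stalk Q) • (⊤ : Submodule ↑(X.presheaf.stalk Q) ↑(((Scheme.Modules.pullback f).obj M).presheaf.stalk Q)))) ∨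
            ((((Scheme.Modules.pullback f).obj M).presheaf.germ ⊤ Q trivial).hom (∑ j, ProjUP.toGlobal pX (c j) • ProjUP.pullSec f M (t j)) ∈ (IsLocalRing.maximalIdeal ↑(X.presheaf.stalk Q) • (⊤ : Submodule ↑(X.presheaf.stalk Q) ↑(((Scheme.Modules.pullback f).obj M).presheaf.stalk Q))) ∧ (((Scheme.Modules.pullback f).obj M).presheaf.germ ⊤ P trivial).hom (∑ j, ProjUP.toGlobal pX (c j) • ProjUP.pullSec f M (t j)) ∉ (IsLocalRing.maximalIdeal ↑(X.presheaf.stalk P) • (⊤ : Submodule ↑(X.presheaf.stalk P) ↑(((Scheme.Modules.pullback f).obj M).presheaf.stalk P))))) ∧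
        ∀ P : ↥X, IsClosed ({P} : Set ↥X) →
          (IsLocalRing.maximalIdeal ↑(X.presheaf.stalk P) • (⊤ : Submodule ↑(X.presheaf.stalk P) ↑(((Scheme.Modules.pullback f).obj M).presheaf.stalk P))) ≤
            Submodule.span ↑(X.presheaf.stalk P)
                {v | ∃ c : Fin (n + 1) → k, v = (((Scheme.Modules.pullback f).obj M).presheaf.germ ⊤ P trivial).hom (∑ j, ProjUP.toGlobal pX (c j) • ProjUP.pullSec f M (t j)) ∧ v ∈ (IsLocalRing.maximalIdeal ↑(X.presheaf.stalk P) • (⊤ : Submodule ↑(X.presheaf.stalk P) ↑(((Scheme.Modules.pullback f).obj M).presheaf.stalk P)))} ⊔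
              (IsLocalRing.maximalIdeal ↑(X.presheaf.stalk P) ^ 2 • (⊤ : Submodule ↑(X.presheaf.stalk P) ↑(((Scheme.Modules.pullback f).obj M).presheaf.stalk P)))) := by
  subst hM
  have ht' : t = fun i => gsec (CohB1.polyGrading n k) 1 ⊤
      (Groth.Agent.Lib.Helper27ProjGamma.hX n k i) := funext fun i => eq_of_heq (ht i)
  subst ht'
  subst hf
  -- properness
  have hq : IsProper (CohB1.ProjSpace.toSpec n k) := Groth.Agent.S9705.isProper_projSpace_toSpec n k
  have hfq : IsProper (f ≫ CohB1.ProjSpace.toSpec n k) := hprop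
  have hfprop : IsProper f := IsProper.of_comp f (CohB1.ProjSpace.toSpec n k)
  have hclosed : ∀ P : ↥X, IsClosed ({P} : Set ↥X) →
      IsClosed ({f P} : Set ↥(Proj (CohB1.polyGrading n k))) := by
    intro P hP
    have h1 := f.isClosedMap _ hP
    rwa [Set.image_singleton] at h1
  -- the translation lemmas
  have hvan := Groth.Agent.R2.H49.PnLinPull.germ_sc_mem_iff n k f
  have htan := Groth.Agent.R2.H49.PnLinPull.tangent_iff n k f
  have htr : ∀ (c : Fin (n + 1) → k) (y y' : Proj (CohB1.polyGrading n k)), y = y' →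
      Groth.Agent.R2.H49.PnLin.lin n k c ∈
        (show ProjectiveSpectrum (CohB1.polyGrading n k) from y).asHomogeneousIdeal →
      Groth.Agent.R2.H49.PnLin.lin n k c ∈
        (show ProjectiveSpectrum (CohB1.polyGrading n k) from y').asHomogeneousIdeal := by
    rintro c _ _ rfl h
    exact h
  constructor
  · intro hci
    refine ⟨fun P Q hP hQ hne => ?_, fun P hP => ?_⟩
    · have hne' : f P ≠ f Q := fun h => hne (f.isClosedEmbedding.injective h)
      obtain ⟨c, hc, hc'⟩ := Groth.Agent.R2.H49.PnLin.exists_lin_mem_not_mem n k (f P) (f Q)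
        (hclosed P hP) hne'
      exact ⟨c, Or.inl ⟨(hvan c P).mpr hc, fun h => hc' ((hvan c Q).mp h)⟩⟩
    · refine (htan P (hclosed P hP)).mpr ?_
      have hsurj := f.stalkMap_surjective P
      have hle1 : Ideal.map (f.stalkMap P).hom
          (IsLocalRing.maximalIdeal ((CohB1.ProjSpace n k).presheaf.stalk (f P))) ≤
          IsLocalRing.maximalIdeal (X.presheaf.stalk P) := by
        rw [Ideal.map_le_iff_le_comap]
        intro a ha
        exact (Groth.Agent.R2.H49.PnLinPull.map_mem_maximalIdeal_iff (f.stalkMap P).hom a).mpr ha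
      have hle2 : IsLocalRing.maximalIdeal (X.presheaf.stalk P) ^ 2 ≤
          IsLocalRing.maximalIdeal (X.presheaf.stalk P) := Ideal.pow_le_self two_ne_zero
      refine le_antisymm (sup_le hle1 hle2) (le_sup_of_le_left ?_)
      intro b hb
      obtain ⟨a, rfl⟩ := hsurj b
      exact Ideal.mem_map_of_mem _
        ((Groth.Agent.R2.H49.PnLinPull.map_mem_maximalIdeal_iff (f.stalkMap P).hom a).mp hb)
  · rintro ⟨hi, hii⟩
    have hlq : LocallyOfFiniteType (CohB1.ProjSpace.toSpec n k) := inferInstance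
    have hlfq : LocallyOfFiniteType (f ≫ CohB1.ProjSpace.toSpec n k) := inferInstance
    refine Groth.Agent.R2.H49.ClosedImmGeom.isClosedImmersion_of_injOn_closedPoints_of_cotangent
      k f (CohB1.ProjSpace.toSpec n k) ?_ ?_
    · intro P hP Q hQ heq
      by_contra hne
      have heq' : f P = f Q := heq
      obtain ⟨c, ⟨h1, h2⟩ | ⟨h1, h2⟩⟩ := hi P Q hP hQ hne
      · exact h2 ((hvan c Q).mpr (htr c _ _ heq' ((hvan c P).mp h1)))
      · exact h2 ((hvan c P).mpr (htr c _ _ heq'.symm ((hvan c Q).mp h1)))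
    · intro P hP
      exact (htan P (hclosed P hP)).mp (hii P hP)

end Groth.Agent.R2.H49.PnLinMain
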