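import Mathlib
import Groth.Prelude.Def_CohB1
import Groth.Agent.Lib.Helper27PnChart
import Groth.Agent.R2.H87ProjSpaceOver

/-!
# Projective space is smooth over its base (helper85)
-/

set_option autoImplicit false
set_option backward.isDefEq.respectTransparency false
universe u

open CategoryTheory CategoryTheory.Limits AlgebraicGeometry MvPolynomial HomogeneousLocalization

namespace Groth.Agent.R2.H85.PnSmooth

open Groth.Agent.Lib.Helper27PnChart

variable (n : ℕ) (R : Type u) [CommRing R]

/-- the structure map `R → R[T]_(T_i)` is the chart composed with the constants. -/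
theorem chart_comp_C (i : Fin (n + 1)) :
    (chart n R i).comp (C : R →+* MvPolynomial {j : Fin (n + 1) // j ≠ i} R) =
      (HomogeneousLocalization.fromZeroRingHom (CohB1.polyGrading n R)
        (Submonoid.powers (MvPolynomial.X i))).comp
      (algebraMap R (CohB1.polyGrading n R 0)) := by
  ext r
  simp [chart]

theorem smooth_structure_away (i : Fin (n + 1)) :
    ((HomogeneousLocalization.fromZeroRingHom (CohB1.polyGrading n R)
        (Submonoid.powers (MvPolynomial.X i))).comp
      (algebraMap R (CohB1.polyGrading n R 0))).Smooth := by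
  rw [← chart_comp_C]
  refine RingHom.Smooth.comp ?_ (RingHom.Smooth.of_bijective (chart_bijective n R i))
  have : Algebra.Smooth R (MvPolynomial {j : Fin (n + 1) // j ≠ i} R) :=
    ⟨inferInstance, inferInstance⟩
  exact (RingHom.smooth_algebraMap).2 this

theorem smooth_aux : Smooth (Proj.toSpecZero (CohB1.polyGrading n R) ≫
    Spec.map (CommRingCat.ofHom (algebraMap R (CohB1.polyGrading n R 0)))) := by
  rw [IsZariskiLocalAtSource.iff_of_iSup_eq_top (P := @Smooth) _ (iSup_basicOpen_X n R)]
  intro i
  rw [← MorphismProperty.cancel_left_of_respectsIso (P := @Smooth)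
    (Proj.basicOpenIsoSpec (CohB1.polyGrading n R) (X i) (isHomogeneous_X R i) zero_lt_one).inv,
    ← Category.assoc, ← Category.assoc, Proj.basicOpenIsoSpec_inv_ι, Proj.awayι_toSpecZero,
    ← Spec.map_comp, HasRingHomProperty.Spec_iff (P := @Smooth)]
  exact smooth_structure_away n R i

/-- `P^n_R ⟶ Spec R` is smooth. -/
theorem smooth_projSpace_toSpec : Smooth (CohB1.ProjSpace.toSpec n R) :=
  smooth_aux n R

/-- `P^n_S ⟶ S` is smooth. -/
theorem smooth_toBase (S : Scheme.{u}) : Smooth (CohB1.ProjSpaceOver.toBase n S) := by
  haveI := smooth_projSpace_toSpec n (ULift.{u} ℤ)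
  unfold CohB1.ProjSpaceOver.toBase CohB1.ProjSpaceOver
  infer_instance

end Groth.Agent.R2.H85.PnSmooth
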