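import Mathlib
import Groth.Agent.R2.H49BertiniDeg
import Groth.Agent.R2.H85PnSmooth

/-!
# The Jacobian criterion for hypersurfaces in affine and projective space (helper49)

* `smooth_quotient_of_pderiv`, `exists_pderiv_ne_zero_of_smooth`: `k[x]/(p)` is smooth over the field
  `k` iff `p` and its partial derivatives have no common zero in any field extension (`p ≠ 0`).
* `smooth_hyp_iff`: the hypersurface `V₊(G) ⊆ P^n_k` (`LefPen.hypIdeal G`) is smooth over `k` iff
  `G` and its partial derivatives have no common zero with some coordinate equal to `1`.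
-/

set_option autoImplicit false
universe u

open CategoryTheory CategoryTheory.Limits AlgebraicGeometry TopologicalSpace Opposite
  HomogeneousLocalization TensorProduct

namespace Groth.Agent.R2.H49.ProjJac

section Alg

open KaehlerDifferential MvPolynomial

variable (k : Type u) [Field k] {σ : Type} [Finite σ]

/-- in `F ⊗ Ω_{k[x]/k}`, `1 ⊗ dp = ∑ (∂_i p)(pt) • (1 ⊗ dx_i)`; in particular it vanishes if all
partial derivatives vanish in `F`. -/
theorem one_tmul_D_eq_zero (F : Type u) [Field F] [Algebra (MvPolynomial σ k) F]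
    (p : MvPolynomial σ k)
    (h : ∀ i, algebraMap (MvPolynomial σ k) F (pderiv i p) = 0) :
    (1 : F) ⊗ₜ[MvPolynomial σ k] D k (MvPolynomial σ k) p = 0 := by
  classical
  have := Fintype.ofFinite σ
  have h1 := (mvPolynomialBasis k σ).sum_repr (D k (MvPolynomial σ k) p)
  rw [← h1, TensorProduct.tmul_sum]
  refine Finset.sum_eq_zero fun i _ => ?_
  rw [mvPolynomialBasis_repr_apply, TensorProduct.tmul_smul, TensorProduct.smul_tmul',
    Algebra.smul_def, h, zero_mul, TensorProduct.zero_tmul]

omit [Finite σ] in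
/-- the `i`-th coordinate of `1 ⊗ dp`. -/
theorem coord_one_tmul_D (F : Type u) [Field F] [Algebra (MvPolynomial σ k) F]
    (p : MvPolynomial σ k) (i : σ)
    (h : (1 : F) ⊗ₜ[MvPolynomial σ k] D k (MvPolynomial σ k) p = 0) :
    algebraMap (MvPolynomial σ k) F (pderiv i p) = 0 := by
  let ℓ : Ω[MvPolynomial σ k⁄k] →ₗ[MvPolynomial σ k] MvPolynomial σ k :=
    (mvPolynomialBasis k σ).coord i
  have h1 := congrArg (fun z => TensorProduct.rid (MvPolynomial σ k) F
    (LinearMap.lTensor F ℓ z)) h
  simp only [LinearMap.lTensor_tmul, TensorProduct.rid_tmul, map_zero] at h1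
  have h2 : ℓ (D k (MvPolynomial σ k) p) = pderiv i p := by
    change (mvPolynomialBasis k σ).repr (D k (MvPolynomial σ k) p) i = _
    rw [mvPolynomialBasis_repr_apply]
  rw [h2, Algebra.smul_def, mul_one] at h1
  exact h1

/-- **Jacobian criterion, sufficiency.** -/
theorem smooth_quotient_of_pderiv (p : MvPolynomial σ k)
    (h : ∀ (F : Type u) [Field F] [Algebra k F] (pt : σ → F), aeval pt p = 0 →
      ∃ i, aeval pt (pderiv i p) ≠ 0) :
    Algebra.Smooth k (MvPolynomial σ k ⧸ Ideal.span {p}) := by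
  have hsmR : Algebra.Smooth k (MvPolynomial σ k) := ⟨inferInstance, inferInstance⟩
  apply Groth.Agent.R2.H49.BertiniPn.smooth_quotient_of_generic
  intro F _ _ h0 hD
  let _ : Algebra k F := ((algebraMap (MvPolynomial σ k) F).comp
    (algebraMap k (MvPolynomial σ k))).toAlgebra
  have : IsScalarTower k (MvPolynomial σ k) F := IsScalarTower.of_algebraMap_eq (fun _ => rfl)
  let pt : σ → F := fun i => algebraMap (MvPolynomial σ k) F (X i)
  have hev : ∀ q : MvPolynomial σ k, algebraMap (MvPolynomial σ k) F q = aeval pt q := by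
    intro q
    have : (IsScalarTower.toAlgHom k (MvPolynomial σ k) F) = aeval pt := by
      apply MvPolynomial.algHom_ext
      intro i
      rw [aeval_X]
      rfl
    exact AlgHom.congr_fun this q
  obtain ⟨i, hi⟩ := h F pt (by rw [← hev]; exact h0)
  rw [← hev] at hi
  exact hi (coord_one_tmul_D k F p i hD)

/-- **Jacobian criterion, necessity.** -/
theorem exists_pderiv_ne_zero_of_smooth (p : MvPolynomial σ k) (hp : p ≠ 0)
    [hsm : Algebra.Smooth k (MvPolynomial σ k ⧸ Ideal.span {p})]
    (F : Type u) [Field F] [Algebra k F] (pt : σ → F) (h0 : aeval pt p = 0) :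
    ∃ i, aeval pt (pderiv i p) ≠ 0 := by
  classical
  by_contra hcon
  push Not at hcon
  have hsmR : Algebra.Smooth k (MvPolynomial σ k) := ⟨inferInstance, inferInstance⟩
  let φ : MvPolynomial σ k →ₐ[k] F := aeval pt
  let q' : Ideal (MvPolynomial σ k) := RingHom.ker φ.toRingHom
  have hq' : q'.IsPrime := RingHom.ker_isPrime φ.toRingHom
  have hpq : p ∈ q' := h0
  have hIq : Ideal.span {p} ≤ q' := (Ideal.span_singleton_le_iff_mem q').mpr hpq
  let ψ : MvPolynomial σ k ⧸ Ideal.span {p} →+* F :=
    Ideal.Quotient.lift (Ideal.span {p}) φ.toRingHom (fun a ha => hIq ha)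
  let P : Ideal (MvPolynomial σ k ⧸ Ideal.span {p}) := RingHom.ker ψ
  have hP : P.IsPrime := RingHom.ker_isPrime ψ
  have hq : q' = P.comap (Ideal.Quotient.mk (Ideal.span {p})) := by
    ext x
    rw [Ideal.mem_comap]
    rfl
  have hsmA : Algebra.IsSmoothAt k q' := by
    have h1 : (⟨q', hq'⟩ : PrimeSpectrum (MvPolynomial σ k)) ∈
        Algebra.smoothLocus k (MvPolynomial σ k) := by
      rw [Algebra.smoothLocus_eq_univ]
      exact Set.mem_univ _
    exact h1
  have hsmB : Algebra.IsSmoothAt k P := by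
    have h1 : (⟨P, hP⟩ : PrimeSpectrum (MvPolynomial σ k ⧸ Ideal.span {p})) ∈
        Algebra.smoothLocus k (MvPolynomial σ k ⧸ Ideal.span {p}) := by
      rw [Algebra.smoothLocus_eq_univ]
      exact Set.mem_univ _
    exact h1
  obtain ⟨s, hsI, hmap, hli⟩ := (Groth.Agent.Lib.Helper6.Jac.isSmoothAt_quotient_iff k
    (MvPolynomial σ k) (Ideal.span {p}) P q' hq).mp hsmB
  -- all `1 ⊗ dg` vanish
  have hker : ∀ i, algebraMap (MvPolynomial σ k) q'.ResidueField (pderiv i p) = 0 := by
    intro i
    rw [Ideal.algebraMap_residueField_eq_zero]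
    exact hcon i
  have hDp := one_tmul_D_eq_zero k q'.ResidueField p hker
  have hs : s = ∅ := by
    by_contra hne
    obtain ⟨g, hg⟩ := Finset.nonempty_iff_ne_empty.mpr hne
    have hgI : g ∈ Ideal.span {p} := hsI hg
    obtain ⟨c, rfl⟩ := Ideal.mem_span_singleton'.mp hgI
    have h1 := hli.ne_zero ⟨c * p, hg⟩
    apply h1
    change (1 : q'.ResidueField) ⊗ₜ[MvPolynomial σ k] D k (MvPolynomial σ k) (c * p) = 0
    rw [Derivation.leibniz, TensorProduct.tmul_add, TensorProduct.tmul_smul,
      TensorProduct.tmul_smul, hDp, smul_zero, zero_add, TensorProduct.smul_tmul',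
      Algebra.smul_def, (Ideal.algebraMap_residueField_eq_zero).mpr hpq, zero_mul,
      TensorProduct.zero_tmul]
  rw [hs, Finset.coe_empty, Set.image_empty, Ideal.span_empty, Ideal.map_span,
    Set.image_singleton, Ideal.span_singleton_eq_bot] at hmap
  have hinj : Function.Injective (algebraMap (MvPolynomial σ k) (Localization.AtPrime q')) :=
    IsLocalization.injective (Localization.AtPrime q') (Ideal.primeCompl_le_nonZeroDivisors q')
  exact hp (hinj (by rw [hmap, map_zero]))

end Alg

section Dehom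

open MvPolynomial Groth.Agent.Lib.Helper27PnChart

variable (n : ℕ) (k : Type u) [Field k] (j : Fin (n + 1))

/-- extend a point of the chart `x_j = 1` to a point of affine `n + 1`-space. -/
def ext1 {F : Type u} [One F] (pt' : {i : Fin (n + 1) // i ≠ j} → F) : Fin (n + 1) → F :=
  fun i => if h : i = j then 1 else pt' ⟨i, h⟩

theorem ext1_self {F : Type u} [One F] (pt' : {i : Fin (n + 1) // i ≠ j} → F) :
    ext1 n j pt' j = 1 := by
  rw [ext1, dif_pos rfl]

theorem ext1_restrict {F : Type u} [One F] (pt : Fin (n + 1) → F) (h : pt j = 1) :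
    ext1 n j (fun i : {i : Fin (n + 1) // i ≠ j} => pt i.1) = pt := by
  funext i
  by_cases hi : i = j
  · subst hi
    rw [ext1_self, h]
  · rw [ext1, dif_neg hi]

theorem aeval_dehom {F : Type u} [Field F] [Algebra k F]
    (pt' : {i : Fin (n + 1) // i ≠ j} → F) (q : MvPolynomial (Fin (n + 1)) k) :
    aeval pt' (dehom n k j q) = aeval (ext1 n j pt') q := by
  induction q using MvPolynomial.induction_on with
  | C a => rw [dehom_C, aeval_C, aeval_C]
  | add p q hp hq => rw [map_add, map_add, map_add, hp, hq]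
  | mul_X p i hp =>
    rw [map_mul, map_mul, map_mul, hp, aeval_X]
    congr 1
    by_cases h : i = j
    · subst h
      rw [dehom_X_self, map_one, ext1_self]
    · rw [dehom_X_ne n k j i h, aeval_X, ext1, dif_neg h]

theorem pderiv_dehom (i : {i : Fin (n + 1) // i ≠ j}) (q : MvPolynomial (Fin (n + 1)) k) :
    pderiv i (dehom n k j q) = dehom n k j (pderiv i.1 q) := by
  classical
  induction q using MvPolynomial.induction_on with
  | C a => rw [dehom_C, pderiv_C, pderiv_C, map_zero]
  | add p q hp hq => rw [map_add, map_add, map_add, map_add, hp, hq]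
  | mul_X p l hp =>
    rw [map_mul, Derivation.leibniz, Derivation.leibniz, hp, map_add, smul_eq_mul, smul_eq_mul,
      smul_eq_mul, smul_eq_mul, map_mul, map_mul]
    congr 2
    by_cases h : l = j
    · subst h
      rw [dehom_X_self, pderiv_one, pderiv_X_of_ne (Ne.symm i.2), map_zero]
    · rw [dehom_X_ne n k j l h]
      by_cases hil : i.1 = l
      · have : i = ⟨l, h⟩ := Subtype.ext hil
        subst this
        rw [pderiv_X_self, pderiv_X_self, map_one]
      · have hne : i ≠ ⟨l, h⟩ := fun e => hil (congrArg Subtype.val e)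
        rw [pderiv_X_of_ne (Ne.symm hne), pderiv_X_of_ne (Ne.symm hil), map_zero]

/-- the Jacobian condition on the chart `x_j = 1`, stated for the dehomogenised polynomial and for
the homogeneous polynomial. -/
theorem chart_criterion {d : ℕ} (G : MvPolynomial (Fin (n + 1)) k) (hG : G.IsHomogeneous d) :
    (∀ (F : Type u) [Field F] [Algebra k F] (pt' : {i : Fin (n + 1) // i ≠ j} → F),
      aeval pt' (dehom n k j G) = 0 → ∃ i', aeval pt' (pderiv i' (dehom n k j G)) ≠ 0) ↔
    (∀ (F : Type u) [Field F] [Algebra k F] (pt : Fin (n + 1) → F), pt j = 1 →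
      aeval pt G = 0 → ∃ i, aeval pt (pderiv i G) ≠ 0) := by
  constructor
  · intro H F _ _ pt hj h0
    have hpt := ext1_restrict n j pt hj
    obtain ⟨i', hi'⟩ := H F (fun i => pt i.1) (by rw [aeval_dehom, hpt]; exact h0)
    rw [pderiv_dehom, aeval_dehom, hpt] at hi'
    exact ⟨i'.1, hi'⟩
  · intro H F _ _ pt' h0
    rw [aeval_dehom] at h0
    obtain ⟨i, hi⟩ := H F (ext1 n j pt') (ext1_self n j pt') h0
    by_contra hcon
    push Not at hcon
    have hz : ∀ l : Fin (n + 1), l ≠ j → aeval (ext1 n j pt') (pderiv l G) = 0 := by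
      intro l hl
      have := hcon ⟨l, hl⟩
      rw [pderiv_dehom, aeval_dehom] at this
      exact this
    have hE := congrArg (aeval (R := k) (ext1 n j pt')) hG.sum_X_mul_pderiv
    rw [map_sum, map_nsmul, h0, smul_zero, Finset.sum_eq_single j] at hE
    · rw [map_mul, aeval_X, ext1_self, one_mul] at hE
      by_cases hij : i = j
      · subst hij
        exact hi hE
      · exact hi (hz i hij)
    · intro l _ hl
      rw [map_mul, hz l hl, mul_zero]
    · intro h
      exact absurd (Finset.mem_univ j) h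

end Dehom

section Cover

open Groth.Agent.R2.H49.PnLin Groth.Agent.R2.H49.BertiniJet

variable (k : Type u) [Field k] {Y : Scheme.{u}} (q : Y ⟶ Spec (CommRingCat.of k))

/-- converse of `smooth_subscheme_of_cover`: sections of a smooth closed subscheme over an affine
open of the ambient scheme form a smooth `k`-algebra. -/
theorem smooth_of_subscheme (I : Y.IdealSheafData) [Smooth (I.subschemeι ≫ q)]
    (W : Y.affineOpens) :
    RingHom.Smooth ((Ideal.Quotient.mk (I.ideal W)).comp (const k q W.1)) := by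
  let U : I.subscheme.affineOpens := ⟨I.subschemeι ⁻¹ᵁ W.1, W.2.preimage I.subschemeι⟩
  have h0 : RingHom.Smooth ((I.subschemeι ≫ q).appLE ⊤ U.1 le_top).hom :=
    HasRingHomProperty.appLE (P := @Smooth) (I.subschemeι ≫ q) inferInstance
      ⟨⊤, isAffineOpen_top _⟩ U le_top
  have h1 : (I.subschemeι ≫ q).appLE ⊤ U.1 le_top =
      q.appLE ⊤ W.1 le_top ≫ I.subschemeι.app W.1 :=
    (Groth.Agent.R2.H49.BertiniGeom.appLE_comp_app I.subschemeι q ⊤ W.1
      (fun _ _ => trivial) (fun _ _ => trivial)).symm
  rw [h1, I.subschemeι_app W] at h0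
  have h2 := RingHom.Smooth.respectsIso.1 _
    (I.subschemeObjIso W).commRingCatIsoToRingEquiv h0
  have h3 : ((I.subschemeObjIso W).commRingCatIsoToRingEquiv.toRingHom.comp
      (q.appLE ⊤ W.1 le_top ≫ CommRingCat.ofHom (Ideal.Quotient.mk (I.ideal W)) ≫
        (I.subschemeObjIso W).inv).hom) =
      (Ideal.Quotient.mk (I.ideal W)).comp (q.appLE ⊤ W.1 le_top).hom := by
    ext x
    simp only [RingHom.comp_apply, CommRingCat.hom_comp, CommRingCat.hom_ofHom]
    exact congrArg (fun f => f.hom (Ideal.Quotient.mk (I.ideal W) ((q.appLE ⊤ W.1 le_top).hom x)))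
      (I.subschemeObjIso W).inv_hom_id
  rw [h3] at h2
  let ε : k ≃+* Γ(Spec (CommRingCat.of k), ⊤) :=
    (Scheme.ΓSpecIso (CommRingCat.of k)).symm.commRingCatIsoToRingEquiv
  exact RingHom.Smooth.respectsIso.2 _ ε h2

end Cover

section Geom

open MvPolynomial Groth.Agent.Lib.Helper27PnChart Groth.Agent.R2.H49.PnLin
  Groth.Agent.R2.H49.BertiniDeg Groth.Agent.Lib.Helper27GrTildeSect Groth.Agent.Lib.Helper6

variable (n : ℕ) (k : Type u) [Field k]

local notation "𝒬" => CohB1.polyGrading n k

theorem bijective_awayToSection (j : Fin (n + 1)) :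
    Function.Bijective (Proj.awayToSection 𝒬 (X j)).hom := by
  have hiso : IsIso (Proj.awayToSection 𝒬 (X j)) := by
    have := (Proj.basicOpenIsoAway 𝒬 (X j) (LefPen.X_mem n k j) one_pos).isIso_hom
    rwa [Proj.basicOpenIsoAway_hom] at this
  exact ConcreteCategory.bijective_of_isIso (Proj.awayToSection 𝒬 (X j))

/-- the coordinate ring of the chart `D₊(X_j)` is the polynomial ring in the other variables. -/
noncomputable def rho (j : Fin (n + 1)) :
    Γ(Proj 𝒬, Proj.basicOpen 𝒬 (X j)) ≃+* MvPolynomial {i : Fin (n + 1) // i ≠ j} k :=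
  (RingEquiv.ofBijective (Proj.awayToSection 𝒬 (X j)).hom (bijective_awayToSection n k j)).symm.trans
    (RingEquiv.ofBijective (chart n k j) (chart_bijective n k j)).symm

theorem chart_back (j : Fin (n + 1)) (x : Away 𝒬 (X j : MvPolynomial (Fin (n + 1)) k)) :
    chart n k j (back n k j x) = x := by
  obtain ⟨y, rfl⟩ := chart_surjective n k j x
  rw [back_chart]

theorem back_mk (j : Fin (n + 1)) (d : ℕ) (G : MvPolynomial (Fin (n + 1)) k)
    (hG : G ∈ 𝒬 (d • 1)) :
    back n k j (Away.mk 𝒬 (LefPen.X_mem n k j) d G hG) = dehom n k j G := by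
  unfold back
  rw [RingHom.comp_apply, HomogeneousLocalization.algebraMap_apply, Away.val_mk]
  exact locTo_mk n k j G d

theorem rho_symm_apply (j : Fin (n + 1)) (p : MvPolynomial {i : Fin (n + 1) // i ≠ j} k) :
    (rho n k j).symm p = (Proj.awayToSection 𝒬 (X j)).hom (chart n k j p) := rfl

variable {n k}

theorem rho_dh {d : ℕ} (G : LefPen.Form n k d) (j : Fin (n + 1)) :
    rho n k j (dh G j) = dehom n k j G.1 := by
  rw [← (rho n k j).symm.injective.eq_iff, RingEquiv.symm_apply_apply, rho_symm_apply,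
    ← back_mk n k j d G.1 (by rw [smul_eq_mul, mul_one]; exact G.2), chart_back]
  rfl

theorem rho_const (j : Fin (n + 1)) (c : k) :
    rho n k j (const k (toBase 𝒬) (Proj.basicOpen 𝒬 (X j)) c) = C c := by
  rw [← (rho n k j).symm.injective.eq_iff, RingEquiv.symm_apply_apply, rho_symm_apply]
  have h1 : chart n k j (C c) = fromZeroRingHom 𝒬 (Submonoid.powers (X j))
      (algebraMap k (𝒬 0) c) :=
    RingHom.congr_fun (Groth.Agent.R2.H85.PnSmooth.chart_comp_C n k j) c
  rw [h1, awayToSection_const 𝒬 (LefPen.X_mem n k j)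
    Nat.one_pos]
  rfl

/-- smoothness on the chart `D₊(X_j)` in terms of the dehomogenised equation. -/
theorem smooth_chart_iff {d : ℕ} (G : LefPen.Form n k d) (j : Fin (n + 1)) :
    RingHom.Smooth ((Ideal.Quotient.mk (Ideal.span {dh G j})).comp
        (const k (toBase 𝒬) (Proj.basicOpen 𝒬 (X j)))) ↔
      Algebra.Smooth k (MvPolynomial {i : Fin (n + 1) // i ≠ j} k ⧸
        Ideal.span {dehom n k j G.1}) := by
  have hIJ : Ideal.span {dehom n k j G.1} =
      (Ideal.span {dh G j}).map ((rho n k j : Γ(Proj 𝒬, Proj.basicOpen 𝒬 (X j)) →+*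
        MvPolynomial {i : Fin (n + 1) // i ≠ j} k)) := by
    rw [Ideal.map_span, Set.image_singleton]
    congr 2
    exact (rho_dh G j).symm
  let e := Ideal.quotientEquiv (Ideal.span {dh G j}) (Ideal.span {dehom n k j G.1})
    (rho n k j) hIJ
  have hcomp : e.toRingHom.comp ((Ideal.Quotient.mk (Ideal.span {dh G j})).comp
      (const k (toBase 𝒬) (Proj.basicOpen 𝒬 (X j)))) =
      algebraMap k (MvPolynomial {i : Fin (n + 1) // i ≠ j} k ⧸
        Ideal.span {dehom n k j G.1}) := by
    ext c
    simp only [RingHom.comp_apply]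
    change e (Ideal.Quotient.mk _ _) = _
    rw [Ideal.quotientEquiv_mk, rho_const]
    rfl
  constructor
  · intro h
    have h1 := RingHom.Smooth.respectsIso.1 _ e h
    rw [hcomp] at h1
    exact RingHom.smooth_algebraMap.mp h1
  · intro h
    have h1 := RingHom.smooth_algebraMap.mpr h
    rw [← hcomp] at h1
    have h2 := RingHom.Smooth.respectsIso.1 _ e.symm h1
    have h3 : e.symm.toRingHom.comp (e.toRingHom.comp
        ((Ideal.Quotient.mk (Ideal.span {dh G j})).comp
          (const k (toBase 𝒬) (Proj.basicOpen 𝒬 (X j))))) =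
        (Ideal.Quotient.mk (Ideal.span {dh G j})).comp
          (const k (toBase 𝒬) (Proj.basicOpen 𝒬 (X j))) := by
      ext c
      simp only [RingHom.comp_apply]
      exact e.symm_apply_apply _
    rw [h3] at h2
    exact h2

end Geom

section Main

open MvPolynomial Groth.Agent.Lib.Helper27PnChart Groth.Agent.R2.H49.PnLin
  Groth.Agent.R2.H49.BertiniDeg Groth.Agent.Lib.Helper27GrTildeSect Groth.Agent.Lib.Helper6
  Groth.Agent.R2.H49.BertiniJet

variable {n : ℕ} {k : Type u} [Field k]

local notation "𝒬" => CohB1.polyGrading n k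

theorem isHomogeneous_form {d : ℕ} (G : LefPen.Form n k d) : G.1.IsHomogeneous d :=
  (mem_homogeneousSubmodule d _).mp G.2

theorem dehom_ne_zero {d : ℕ} (G : LefPen.Form n k d) (hG : G.1 ≠ 0) (j : Fin (n + 1)) :
    dehom n k j G.1 ≠ 0 := by
  intro h0
  have hmem : G.1 ∈ 𝒬 (d • 1) := by rw [smul_eq_mul, mul_one]; exact G.2
  have h1 : Away.mk 𝒬 (LefPen.X_mem n k j) d G.1 hmem = 0 := by
    rw [← chart_back n k j (Away.mk 𝒬 (LefPen.X_mem n k j) d G.1 hmem), back_mk, h0, map_zero]
  have h2 := congrArg HomogeneousLocalization.val h1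
  rw [Away.val_mk, HomogeneousLocalization.val_zero, Localization.mk_eq_mk',
    IsLocalization.mk'_eq_zero_iff] at h2
  obtain ⟨⟨m, e, rfl⟩, h3⟩ := h2
  exact hG ((mul_eq_zero.mp h3).resolve_left (pow_ne_zero e (X_ne_zero j)))

/-- the hypersurface `V₊(G)` is smooth iff its standard affine charts are. -/
theorem smooth_hyp_iff_charts {d : ℕ} (G : LefPen.Form n k d) :
    Smooth ((LefPen.hypIdeal G).subschemeι ≫ CohB1.ProjSpace.toSpec n k) ↔
      ∀ j : Fin (n + 1), Algebra.Smooth k (MvPolynomial {i : Fin (n + 1) // i ≠ j} k ⧸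
        Ideal.span {dehom n k j G.1}) := by
  constructor
  · intro h j
    have h' : Smooth ((hypI G).subschemeι ≫ toBase 𝒬) := h
    have h1 := smooth_of_subscheme k (toBase 𝒬) (hypI G)
      ⟨Proj.basicOpen 𝒬 (X j), isAffineOpen_chart j⟩
    rw [hypI_ideal_chart] at h1
    exact (smooth_chart_iff G j).mp h1
  · intro h
    change Smooth ((hypI G).subschemeι ≫ toBase 𝒬)
    refine smooth_subscheme_of_cover k (toBase 𝒬) (hypI G)
      (fun j : Fin (n + 1) => ⟨Proj.basicOpen 𝒬 (X j), isAffineOpen_chart j⟩)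
      (iSup_basicOpen_X n k) (fun j => ?_)
    rw [hypI_ideal_chart]
    exact (smooth_chart_iff G j).mpr (h j)

/-- **The projective Jacobian criterion**: for a nonzero form `G`, the hypersurface `V₊(G) ⊆ P^n_k`
is smooth over `k` iff `G` and its partial derivatives have no common zero, in any field extension,
with some coordinate equal to `1`. -/
theorem smooth_hyp_iff {d : ℕ} (G : LefPen.Form n k d) (hG : G.1 ≠ 0) :
    Smooth ((LefPen.hypIdeal G).subschemeι ≫ CohB1.ProjSpace.toSpec n k) ↔
      ∀ (j : Fin (n + 1)) (F : Type u) [Field F] [Algebra k F] (pt : Fin (n + 1) → F),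
        pt j = 1 → aeval pt G.1 = 0 → ∃ i, aeval pt (pderiv i G.1) ≠ 0 := by
  rw [smooth_hyp_iff_charts]
  constructor
  · intro h j
    have := h j
    exact (chart_criterion n k j G.1 (isHomogeneous_form G)).mp (fun F _ _ pt' h0 =>
      exists_pderiv_ne_zero_of_smooth k _ (dehom_ne_zero G hG j) F pt' h0)
  · intro h j
    exact smooth_quotient_of_pderiv k _
      ((chart_criterion n k j G.1 (isHomogeneous_form G)).mpr (h j))

end Main

end Groth.Agent.R2.H49.ProjJac
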