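import Mathlib

/-!
# helper49: separably generated function fields are function fields of hypersurfaces (algebra part)
-/

set_option autoImplicit false
universe u

open Polynomial IntermediateField

namespace Groth.Agent.R2.H49.SepHyp

variable (k : Type u) [Field k] {K : Type u} [Field K] [Algebra k K] {d : ℕ} (s : Fin d → K)

/-- the polynomial ring as a subring of `K` through an algebraically independent family -/
theorem exists_hypersurface_model (hs : AlgebraicIndependent k s)
    [Algebra.IsSeparable (IntermediateField.adjoin k (Set.range s)) K]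
    [FiniteDimensional (IntermediateField.adjoin k (Set.range s)) K] :
    ∃ (g : Polynomial (MvPolynomial (Fin d) k)) (ψ : AdjoinRoot g →ₐ[k] K), g.Monic ∧
      Irreducible (g.map (algebraMap (MvPolynomial (Fin d) k)
        (FractionRing (MvPolynomial (Fin d) k)))) ∧
      (g.map (algebraMap (MvPolynomial (Fin d) k)
        (FractionRing (MvPolynomial (Fin d) k)))).Separable ∧
      Function.Injective ψ ∧
      (∀ z : K, ∃ x y, ψ y ≠ 0 ∧ z = ψ x / ψ y) := by
  classical
  set R := MvPolynomial (Fin d) k with hR
  set F := IntermediateField.adjoin k (Set.range s) with hF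
  -- `R`-algebra structures
  have hsF : ∀ i, s i ∈ F := fun i => IntermediateField.subset_adjoin k _ ⟨i, rfl⟩
  let sF : Fin d → F := fun i => ⟨s i, hsF i⟩
  let φF : R →ₐ[k] F := MvPolynomial.aeval sF
  let φK : R →ₐ[k] K := MvPolynomial.aeval s
  let algRF : Algebra R F := φF.toRingHom.toAlgebra
  let algRK : Algebra R K := φK.toRingHom.toAlgebra
  have hφ : ∀ r : R, ((φF r : F) : K) = φK r := by
    intro r
    have : (IntermediateField.val F).comp φF = φK := by
      apply MvPolynomial.algHom_ext
      intro i
      simp [φF, φK, sF]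
    exact congrArg (fun f : R →ₐ[k] K => f r) this
  have towRFK : IsScalarTower R F K := IsScalarTower.of_algebraMap_eq (fun r => (hφ r).symm)
  have towkRF : IsScalarTower k R F := IsScalarTower.of_algebraMap_eq (fun c => by
    show algebraMap k F c = φF (algebraMap k R c)
    rw [AlgHom.commutes])
  have towkRK : IsScalarTower k R K := IsScalarTower.of_algebraMap_eq (fun c => by
    show algebraMap k K c = φK (algebraMap k R c)
    rw [AlgHom.commutes])
  have hinjK : Function.Injective φK := algebraicIndependent_iff_injective_aeval.1 hs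
  -- `F` is the fraction field of `R`
  have fracRF : IsFractionRing R F := by
    let e0 : FractionRing R ≃ₐ[k] F := hs.aevalEquivField
    have hcomm : ∀ r : R, e0 (algebraMap R (FractionRing R) r) = algebraMap R F r := by
      intro r
      apply Subtype.ext
      rw [AlgebraicIndependent.aevalEquivField_algebraMap_apply_coe]
      exact (hφ r).symm
    let e : FractionRing R ≃ₐ[R] F := AlgEquiv.ofRingEquiv (f := e0.toRingEquiv) hcomm
    exact IsLocalization.isLocalization_of_algEquiv (nonZeroDivisors R) e
  -- primitive element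
  obtain ⟨α, hα⟩ := Field.exists_primitive_element F K
  have hαalg : IsAlgebraic F α := Algebra.IsAlgebraic.isAlgebraic α
  have hαalgR : IsAlgebraic R α := (IsFractionRing.isAlgebraic_iff R F K).mpr hαalg
  obtain ⟨y, hy0, hyint⟩ := hαalgR.exists_integral_multiple
  set β : K := y • α with hβ
  have hyK : algebraMap R K y ≠ 0 := by
    intro h
    apply hy0
    apply hinjK
    rw [map_zero]
    exact h
  have hβα : β = algebraMap R K y * α := Algebra.smul_def y α
  -- `β` is still primitive
  have hβprim : F⟮β⟯ = ⊤ := by
    rw [eq_top_iff, ← hα, IntermediateField.adjoin_simple_le_iff]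
    have h1 : β ∈ F⟮β⟯ := IntermediateField.mem_adjoin_simple_self F β
    have h2 : algebraMap R K y ∈ F⟮β⟯ := by
      rw [IsScalarTower.algebraMap_apply R F K]
      exact IntermediateField.algebraMap_mem _ _
    have h3 : α = (algebraMap R K y)⁻¹ * β := by
      rw [hβα, ← mul_assoc, inv_mul_cancel₀ hyK, one_mul]
    rw [h3]
    exact mul_mem (inv_mem h2) h1
  -- the polynomial
  set g : R[X] := minpoly R β with hg
  have hgF : g.map (algebraMap R F) = minpoly F β :=
    (minpoly.isIntegrallyClosed_eq_field_fractions' F hyint).symm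
  have hgirrF : Irreducible (g.map (algebraMap R F)) := by
    rw [hgF]
    exact minpoly.irreducible (Algebra.IsIntegral.isIntegral β)
  have hgsepF : (g.map (algebraMap R F)).Separable := by
    rw [hgF]
    exact Algebra.IsSeparable.isSeparable F β
  -- transport to `FractionRing R`
  let eL : FractionRing R ≃ₐ[R] F := FractionRing.algEquiv R F
  have hmapL : (g.map (algebraMap R (FractionRing R))).map (eL : FractionRing R →+* F) =
      g.map (algebraMap R F) := by
    rw [Polynomial.map_map]
    congr 1
    exact RingHom.ext fun r => eL.commutes r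
  have hgirrL : Irreducible (g.map (algebraMap R (FractionRing R))) := by
    have h1 : Irreducible ((Polynomial.mapEquiv eL.toRingEquiv)
        (g.map (algebraMap R (FractionRing R)))) := by
      have : (Polynomial.mapEquiv eL.toRingEquiv) (g.map (algebraMap R (FractionRing R))) =
          g.map (algebraMap R F) := hmapL
      rw [this]
      exact hgirrF
    exact (MulEquiv.irreducible_iff (Polynomial.mapEquiv eL.toRingEquiv).toMulEquiv).mp h1
  have hgsepL : (g.map (algebraMap R (FractionRing R))).Separable := by
    rw [← Polynomial.separable_map (eL : FractionRing R →+* F), hmapL]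
    exact hgsepF
  -- the map from `AdjoinRoot g`
  have torsR : Module.IsTorsionFree R K :=
    (Module.isTorsionFree_iff_algebraMap_injective (R := R) (A := K)).mpr hinjK
  let B : Subalgebra R K := Algebra.adjoin R {β}
  let e1 : AdjoinRoot g ≃ₐ[R] B := minpoly.equivAdjoin hyint
  let ψR : AdjoinRoot g →ₐ[R] K := B.val.comp e1.toAlgHom
  let ψ : AdjoinRoot g →ₐ[k] K := ψR.restrictScalars k
  have hψinj : Function.Injective ψ := by
    show Function.Injective (B.val.comp e1.toAlgHom)
    exact (Subtype.val_injective).comp e1.injective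
  have hψrange : ∀ b : K, b ∈ B → ∃ x, ψ x = b := by
    intro b hb
    exact ⟨e1.symm ⟨b, hb⟩, by
      show (B.val (e1 (e1.symm ⟨b, hb⟩)) : K) = b
      rw [AlgEquiv.apply_symm_apply]; rfl⟩
  refine ⟨g, ψ, minpoly.monic hyint, hgirrL, hgsepL, hψinj, ?_⟩
  -- every element of `K` is a quotient
  have hβalg : IsAlgebraic F β := Algebra.IsAlgebraic.isAlgebraic β
  have htop : Algebra.adjoin F {β} = ⊤ :=
    (IntermediateField.adjoin_simple_eq_top_iff_of_isAlgebraic hβalg).mp hβprim
  -- the set of quotients `b / r`
  have key : ∀ z : K, z ∈ Algebra.adjoin F {β} →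
      ∃ b ∈ B, ∃ r : R, r ≠ 0 ∧ z * algebraMap R K r = b := by
    intro z hz
    induction hz using Algebra.adjoin_induction with
    | mem x hx =>
      rw [Set.mem_singleton_iff] at hx
      subst hx
      exact ⟨β, Algebra.subset_adjoin rfl, 1, one_ne_zero, by rw [map_one, mul_one]⟩
    | algebraMap f =>
      obtain ⟨a, r, hr, hf⟩ := IsFractionRing.div_surjective (A := R) f
      have hr0 : r ≠ 0 := nonZeroDivisors.ne_zero hr
      refine ⟨algebraMap R K a, Subalgebra.algebraMap_mem B a, r, hr0, ?_⟩
      rw [← hf, map_div₀, ← IsScalarTower.algebraMap_apply R F K,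
        ← IsScalarTower.algebraMap_apply R F K]
      have : algebraMap R K r ≠ 0 := fun h => hr0 (hinjK (by rw [map_zero]; exact h))
      field_simp
    | add x y _ _ hx hy =>
      obtain ⟨b1, hb1, r1, hr1, h1⟩ := hx
      obtain ⟨b2, hb2, r2, hr2, h2⟩ := hy
      refine ⟨b1 * algebraMap R K r2 + b2 * algebraMap R K r1,
        add_mem (mul_mem hb1 (Subalgebra.algebraMap_mem B r2))
          (mul_mem hb2 (Subalgebra.algebraMap_mem B r1)), r1 * r2, mul_ne_zero hr1 hr2, ?_⟩
      rw [← h1, ← h2, map_mul]
      ring
    | mul x y _ _ hx hy =>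
      obtain ⟨b1, hb1, r1, hr1, h1⟩ := hx
      obtain ⟨b2, hb2, r2, hr2, h2⟩ := hy
      refine ⟨b1 * b2, mul_mem hb1 hb2, r1 * r2, mul_ne_zero hr1 hr2, ?_⟩
      rw [← h1, ← h2, map_mul]
      ring
  intro z
  obtain ⟨b, hb, r, hr, hz⟩ := key z (by rw [htop]; trivial)
  obtain ⟨x, hx⟩ := hψrange b hb
  obtain ⟨x', hx'⟩ := hψrange (algebraMap R K r) (Subalgebra.algebraMap_mem B r)
  have hrK : algebraMap R K r ≠ 0 := fun h => hr (hinjK (by rw [map_zero]; exact h))
  refine ⟨x, x', by rw [hx']; exact hrK, ?_⟩
  rw [hx, hx', ← hz]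
  field_simp

end Groth.Agent.R2.H49.SepHyp
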