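import Mathlib
import Groth.Prelude.Def_CurvBase
import Groth.Agent.Lib.Helper4BirIsoFP

/-!
# helper49: function fields of `k`-schemes and birationality with affine models
-/

set_option autoImplicit false
universe u

open CategoryTheory AlgebraicGeometry

namespace Groth.Agent.R2.H49.SepHypGeom

attribute [local instance] Curv2.stalkAlgebra

section General

variable (k : Type u) [Field k] (X : Scheme.{u}) [X.Over (Spec (CommRingCat.of k))]

/-- the structure map `k → O_{X,x}` through the local ring of `Spec k`. -/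
theorem ofHom_stalkMap_eq (x : X) :
    CommRingCat.ofHom (Curv2.stalkMap k X x) =
      (Scheme.ΓSpecIso (CommRingCat.of k)).inv ≫
        (Spec (CommRingCat.of k)).presheaf.germ ⊤ ((X ↘ Spec (CommRingCat.of k)) x) trivial ≫
        (X ↘ Spec (CommRingCat.of k)).stalkMap x := by
  have h := Scheme.Hom.germ_stalkMap (X ↘ Spec (CommRingCat.of k)) ⊤ x trivial
  refine Eq.trans ?_ (congrArg (fun t => (Scheme.ΓSpecIso (CommRingCat.of k)).inv ≫ t) h.symm)
  rfl

/-- the canonical map from a ring to a stalk of its spectrum is essentially of finite type. -/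
theorem essFiniteType_toStalk (R : CommRingCat.{u}) (p : PrimeSpectrum R) :
    ((Scheme.ΓSpecIso R).inv ≫ (Spec R).presheaf.germ ⊤ p trivial).hom.EssFiniteType := by
  rw [show ((Scheme.ΓSpecIso R).inv ≫ (Spec R).presheaf.germ ⊤ p trivial) = _ from
    (Spec.algebraMap_stalkIso_inv (R := R) p).symm]
  rw [CommRingCat.hom_comp]
  refine RingHom.EssFiniteType.comp ?_ ?_
  · rw [CommRingCat.hom_ofHom, RingHom.essFiniteType_algebraMap]
    exact Algebra.EssFiniteType.of_isLocalization _ p.asIdeal.primeCompl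
  · refine RingHom.FiniteType.essFiniteType (RingHom.FiniteType.of_surjective _ ?_)
    exact ((ConcreteCategory.isIso_iff_bijective _).mp
      (inferInstanceAs (IsIso (Spec.stalkIso R p).inv))).2

/-- local rings of a scheme locally of finite type over a field are essentially of finite type. -/
theorem essFiniteType_stalk [LocallyOfFiniteType (X ↘ Spec (CommRingCat.of k))] (x : X) :
    Algebra.EssFiniteType k (X.presheaf.stalk x) := by
  rw [← RingHom.essFiniteType_algebraMap]
  have h1 : algebraMap k (X.presheaf.stalk x) = Curv2.stalkMap k X x := rfl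
  have h2 := congrArg CommRingCat.Hom.hom (ofHom_stalkMap_eq k X x)
  rw [CommRingCat.hom_ofHom] at h2
  rw [h1, h2, ← Category.assoc, CommRingCat.hom_comp]
  exact RingHom.EssFiniteType.comp (essFiniteType_toStalk _ _)
    (LocallyOfFiniteType.stalkMap (X ↘ Spec (CommRingCat.of k)) x)

/-- morphisms out of a stalk of `Spec R` are determined on `R`. -/
theorem hom_ext_stalk_Spec (R : CommRingCat.{u}) (p : PrimeSpectrum R) {T : CommRingCat.{u}}
    (f g : (Spec R).presheaf.stalk p ⟶ T)
    (h : (Scheme.ΓSpecIso R).inv ≫ (Spec R).presheaf.germ ⊤ p trivial ≫ f =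
      (Scheme.ΓSpecIso R).inv ≫ (Spec R).presheaf.germ ⊤ p trivial ≫ g) : f = g := by
  rw [← cancel_epi (Spec.stalkIso R p).inv]
  apply CommRingCat.hom_ext
  apply IsLocalization.ringHom_ext p.asIdeal.primeCompl
  have h' : CommRingCat.ofHom (algebraMap R (Localization.AtPrime p.asIdeal)) ≫
      (Spec.stalkIso R p).inv ≫ f =
      CommRingCat.ofHom (algebraMap R (Localization.AtPrime p.asIdeal)) ≫
      (Spec.stalkIso R p).inv ≫ g :=
    (Spec.algebraMap_stalkIso_inv_assoc p f).trans
      (h.trans (Spec.algebraMap_stalkIso_inv_assoc p g).symm)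
  exact congrArg CommRingCat.Hom.hom h'

end General

section Model

variable (k : Type u) [Field k] (X : Scheme.{u}) [X.Over (Spec (CommRingCat.of k))] [IsIntegral X]
  [LocallyOfFiniteType (X ↘ Spec (CommRingCat.of k))]
  (B : Type u) [CommRing B] [IsDomain B] [Algebra k B] [Algebra.FiniteType k B]
  (ψ : B →ₐ[k] X.presheaf.stalk (genericPoint X)) (hψ : Function.Injective ψ)
  (hfrac : ∀ z : X.presheaf.stalk (genericPoint X), ∃ x y, ψ y ≠ 0 ∧ z = ψ x / ψ y)

include hψ hfrac in
/-- an integral `k`-scheme of finite type is birational to any affine model of its function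
field. -/
theorem birationalOver_of_fractions :
    Scheme.BirationalOver (X ↘ Spec (CommRingCat.of k))
      (Spec.map (CommRingCat.ofHom (algebraMap k B))) := by
  have hlft : LocallyOfFiniteType (Spec.map (CommRingCat.ofHom (algebraMap k B))) := by
    rw [HasRingHomProperty.Spec_iff (P := @LocallyOfFiniteType)]
    exact RingHom.finiteType_algebraMap.mpr inferInstance
  let y₀ : Spec (CommRingCat.of B) := (⊥ : PrimeSpectrum B)
  have hpt : (X ↘ Spec (CommRingCat.of k)) (genericPoint X) =
      (Spec.map (CommRingCat.ofHom (algebraMap k B))) y₀ :=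
    Subsingleton.elim (α := PrimeSpectrum k) _ _
  let algBK : Algebra B (X.presheaf.stalk (genericPoint X)) := ψ.toRingHom.toAlgebra
  have hloc : IsLocalization.AtPrime (X.presheaf.stalk (genericPoint X))
      (⊥ : PrimeSpectrum B).asIdeal := by
    refine ⟨?_, ?_, ?_⟩
    · rintro ⟨y, hy⟩
      have hy0 : y ≠ 0 := fun h => hy (by rw [h]; exact Submodule.zero_mem _)
      have : ψ y ≠ 0 := fun h => hy0 (hψ (by rw [h, map_zero]))
      exact this.isUnit
    · intro z
      obtain ⟨x, y, hy, hz⟩ := hfrac z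
      have hy0 : y ∉ (⊥ : PrimeSpectrum B).asIdeal := by
        intro h
        have : y = 0 := h
        exact hy (by rw [this, map_zero])
      refine ⟨(x, ⟨y, hy0⟩), ?_⟩
      show z * ψ y = ψ x
      rw [hz, div_mul_cancel₀ _ hy]
    · intro a b hab
      exact ⟨1, by rw [hψ hab]⟩
  let e : Localization.AtPrime (⊥ : PrimeSpectrum B).asIdeal ≃ₐ[B]
      X.presheaf.stalk (genericPoint X) :=
    IsLocalization.algEquiv (⊥ : PrimeSpectrum B).asIdeal.primeCompl _ _
  let θ : (Spec (CommRingCat.of B)).presheaf.stalk y₀ ≅ X.presheaf.stalk (genericPoint X) :=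
    Spec.stalkIso (CommRingCat.of B) (⊥ : PrimeSpectrum B) ≪≫ e.toRingEquiv.toCommRingCatIso
  refine Groth.Agent.Lib.Helper4.BirIsoFP.birationalOver_of_stalk_iso_of_lfp
    (X ↘ Spec (CommRingCat.of k)) (Spec.map (CommRingCat.ofHom (algebraMap k B)))
    (genericPoint X) y₀ hpt θ ?_
  apply hom_ext_stalk_Spec
  have hR : (Scheme.ΓSpecIso (CommRingCat.of k)).inv ≫
      (Spec (CommRingCat.of k)).presheaf.germ ⊤
        ((Spec.map (CommRingCat.ofHom (algebraMap k B))) y₀) trivial ≫
        (Spec (CommRingCat.of k)).presheaf.stalkSpecializes (Inseparable.of_eq hpt).specializes ≫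
          Scheme.Hom.stalkMap (X ↘ Spec (CommRingCat.of k)) (genericPoint ↥X) =
      CommRingCat.ofHom (Curv2.stalkMap k X (genericPoint X)) :=
    (congrArg (fun t => (Scheme.ΓSpecIso (CommRingCat.of k)).inv ≫ t)
      (TopCat.Presheaf.germ_stalkSpecializes_assoc _ _ _ _)).trans
      (ofHom_stalkMap_eq k X _).symm
  have hL : (Scheme.ΓSpecIso (CommRingCat.of k)).inv ≫
      (Spec (CommRingCat.of k)).presheaf.germ ⊤
        ((Spec.map (CommRingCat.ofHom (algebraMap k B))) y₀) trivial ≫
        Scheme.Hom.stalkMap (Spec.map (CommRingCat.ofHom (algebraMap k B))) y₀ ≫ θ.hom =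
      CommRingCat.ofHom (Curv2.stalkMap k X (genericPoint X)) := by
    have hθ : θ.hom = (Spec.stalkIso (CommRingCat.of B) (⊥ : PrimeSpectrum B)).hom ≫
        CommRingCat.ofHom e.toRingEquiv.toRingHom := rfl
    have h1 := Scheme.Hom.germ_stalkMap_assoc (Spec.map (CommRingCat.ofHom (algebraMap k B)))
      ⊤ y₀ trivial θ.hom
    refine (congrArg (fun t => (Scheme.ΓSpecIso (CommRingCat.of k)).inv ≫ t) h1).trans ?_
    have h2 : (Spec (CommRingCat.of B)).presheaf.germ
        ((Spec.map (CommRingCat.ofHom (algebraMap k B))) ⁻¹ᵁ ⊤) y₀ trivial ≫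
        (Spec.stalkIso (CommRingCat.of B) (⊥ : PrimeSpectrum B)).hom =
        (Scheme.ΓSpecIso (CommRingCat.of B)).hom ≫ CommRingCat.ofHom (algebraMap B _) :=
      Spec.germ_stalkMapIso_hom (R := CommRingCat.of B) (⊥ : PrimeSpectrum B)
    have h3 : (Scheme.ΓSpecIso (CommRingCat.of k)).inv ≫
        (Spec.map (CommRingCat.ofHom (algebraMap k B))).app ⊤ =
        CommRingCat.ofHom (algebraMap k B) ≫ (Scheme.ΓSpecIso (CommRingCat.of B)).inv :=
      (Scheme.ΓSpecIso_inv_naturality (CommRingCat.ofHom (algebraMap k B))).symm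
    rw [hθ]
    dsimp only
    rw [← Category.assoc, h3, ← Category.assoc _ _ (CommRingCat.ofHom e.toRingEquiv.toRingHom), h2]
    ext c
    show e (algebraMap B _ ((Scheme.ΓSpecIso (CommRingCat.of B)).hom
      ((Scheme.ΓSpecIso (CommRingCat.of B)).inv (algebraMap k B c)))) = algebraMap k _ c
    rw [Iso.inv_hom_id_apply, e.commutes]
    exact ψ.commutes c
  rw [hL, hR]

end Model

end Groth.Agent.R2.H49.SepHypGeom
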