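import Mathlib
import Groth.Prelude.Def_Curv2
import Groth.Agent.Lib.Helper20SmoothSec
import Groth.Agent.Lib.Helper4IrrFib

/-!
# Closed points with finite separable residue field on smooth `k`-schemes (helper49)

* `finite_separable_residueField_of_unramified`: for `f` formally unramified and locally of finite
  type, `κ(x)/κ(f x)` is finite separable.
* `finite_separable_of_etale`: a point of an étale `k`-scheme has finite separable residue field.
* `dense_sep`: Stacks-style density of closed points with finite separable residue field on a
  smooth `k`-scheme.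
-/

set_option autoImplicit false
universe u
open CategoryTheory CategoryTheory.Limits AlgebraicGeometry IsLocalRing

namespace Groth.Agent.R2.H49.SepPoints

attribute [local instance] Curv2.resAlgebra

section unram

theorem transfer_aux {A B : Type*} [Field A] [Field B] (i1 i2 : Algebra A B) (h : i1 = i2)
    (h1 : @Module.Finite A B _ _ i1.toModule) (h2 : @Algebra.IsSeparable A B _ _ i1) :
    @Module.Finite A B _ _ i2.toModule ∧ @Algebra.IsSeparable A B _ _ i2 := by
  subst h
  exact ⟨h1, h2⟩

set_option backward.isDefEq.respectTransparency.types false in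
/-- Residue field extensions of a formally unramified morphism locally of finite type are finite
and separable. -/
theorem finite_separable_residueFieldMap {X Y : Scheme.{u}} (f : X ⟶ Y) [FormallyUnramified f]
    [LocallyOfFiniteType f] (x : X) :
    letI : Algebra (Y.residueField (f.base x)) (X.residueField x) :=
      (f.residueFieldMap x).hom.toAlgebra
    Module.Finite (Y.residueField (f.base x)) (X.residueField x) ∧
      Algebra.IsSeparable (Y.residueField (f.base x)) (X.residueField x) := by
  algebraize [(f.stalkMap x).hom]
  have : IsLocalHom (algebraMap (Y.presheaf.stalk (f x)) (X.presheaf.stalk x)) :=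
    inferInstanceAs <| IsLocalHom (f.stalkMap x).hom
  have : Algebra.EssFiniteType (Y.presheaf.stalk (f x)) (X.presheaf.stalk x) := by
    rw [← RingHom.essFiniteType_algebraMap, RingHom.algebraMap_toAlgebra]
    exact LocallyOfFiniteType.stalkMap f x
  have : Algebra.FormallyUnramified (Y.presheaf.stalk (f x)) (X.presheaf.stalk x) := by
    rw [← RingHom.formallyUnramified_algebraMap, RingHom.algebraMap_toAlgebra]
    exact FormallyUnramified.stalkMap f x
  have h1 : Module.Finite
      (IsLocalRing.ResidueField <| Y.presheaf.stalk (f x))
      (IsLocalRing.ResidueField <| X.presheaf.stalk x) := inferInstance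
  have h2 : Algebra.IsSeparable
      (IsLocalRing.ResidueField <| Y.presheaf.stalk (f x))
      (IsLocalRing.ResidueField <| X.presheaf.stalk x) := inferInstance
  have heq : (inferInstance :
      Algebra (IsLocalRing.ResidueField <| Y.presheaf.stalk (f x))
        (IsLocalRing.ResidueField <| X.presheaf.stalk x)) =
      (f.residueFieldMap x).hom.toAlgebra := by
    apply Algebra.algebra_ext
    intro a
    obtain ⟨a, rfl⟩ := IsLocalRing.residue_surjective a
    rfl
  exact transfer_aux _ _ heq h1 h2

end unram

section field

variable (k : Type u) [Field k]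

theorem over_self : (Spec (CommRingCat.of k) ↘ Spec (CommRingCat.of k)) = 𝟙 _ := by
  change Spec.map (CommRingCat.ofHom (algebraMap k k)) = 𝟙 _
  rw [Algebra.algebraMap_self, CommRingCat.ofHom_id, Spec.map_id]

set_option backward.isDefEq.respectTransparency.types false in
/-- `k → κ(y)` is surjective for the point of `Spec k` (identity over structure). -/
theorem surjective_resMap_spec (y : Spec (CommRingCat.of k)) :
    Function.Surjective (Curv2.resMap k (Spec (CommRingCat.of k)) y) := by
  have hmax : y.asIdeal.IsMaximal := by
    have : y.asIdeal = ⊥ := Ideal.eq_bot_of_prime y.asIdeal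
    rw [this]
    exact Ideal.bot_isMaximal
  have h := Scheme.Spec.algebraMap_residueFieldIso_inv (CommRingCat.of k) y
  have hfun : ∀ c : k, Curv2.resMap k (Spec (CommRingCat.of k)) y c =
      (Scheme.Spec.residueFieldIso (CommRingCat.of k) y).inv.hom
        (algebraMap k y.asIdeal.ResidueField c) := by
    intro c
    have := ConcreteCategory.congr_hom h c
    refine Eq.trans ?_ this.symm
    change ((Spec (CommRingCat.of k)).residue y).hom
      (((Spec (CommRingCat.of k)).presheaf.germ ⊤ y trivial).hom
        ((Spec (CommRingCat.of k) ↘ Spec (CommRingCat.of k)).appTop.hom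
          ((Scheme.ΓSpecIso (CommRingCat.of k)).inv.hom c))) = _
    rw [over_self k]
    rfl
  intro b
  obtain ⟨c, hc⟩ := Ideal.algebraMap_residueField_surjective y.asIdeal
    ((Scheme.Spec.residueFieldIso (CommRingCat.of k) y).hom.hom b)
  refine ⟨c, ?_⟩
  rw [hfun, hc]
  exact ConcreteCategory.congr_hom (Scheme.Spec.residueFieldIso (CommRingCat.of k) y).hom_inv_id b

open Groth.Agent.Lib.Helper4.VarDim in
/-- A point of an étale `k`-scheme has finite separable residue field. -/
theorem finite_separable_of_etale (S' : Scheme.{u}) [S'.Over (Spec (CommRingCat.of k))]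
    [Etale (S' ↘ Spec (CommRingCat.of k))] (s' : S') :
    FiniteDimensional k (S'.residueField s') ∧ Algebra.IsSeparable k (S'.residueField s') := by
  set g := S' ↘ Spec (CommRingCat.of k) with hg
  obtain ⟨h1, h2⟩ := finite_separable_residueFieldMap g s'
  let algAB : Algebra ((Spec (CommRingCat.of k)).residueField (g s')) (S'.residueField s') :=
    (g.residueFieldMap s').hom.toAlgebra
  have hgo : g ≫ (Spec (CommRingCat.of k) ↘ Spec (CommRingCat.of k)) =
      (S' ↘ Spec (CommRingCat.of k)) := by
    rw [over_self k, Category.comp_id]
  have htower : IsScalarTower k ((Spec (CommRingCat.of k)).residueField (g s'))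
      (S'.residueField s') :=
    IsScalarTower.of_algebraMap_eq fun c => (residueFieldMap_resMap k g hgo s' c).symm
  have hsurj := surjective_resMap_spec k (g s')
  have hfinA : Module.Finite k ((Spec (CommRingCat.of k)).residueField (g s')) :=
    Module.Finite.of_surjective
      (Algebra.linearMap k ((Spec (CommRingCat.of k)).residueField (g s'))) hsurj
  have hsepA : Algebra.IsSeparable k ((Spec (CommRingCat.of k)).residueField (g s')) :=
    AlgEquiv.Algebra.isSeparable (AlgEquiv.ofBijective
      (Algebra.ofId k ((Spec (CommRingCat.of k)).residueField (g s')))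
      ⟨(algebraMap k _).injective, hsurj⟩)
  exact ⟨Module.Finite.trans ((Spec (CommRingCat.of k)).residueField (g s')) _,
    Algebra.IsSeparable.trans k ((Spec (CommRingCat.of k)).residueField (g s')) _⟩

open Groth.Agent.Lib.Helper4.VarDim Groth.Agent.Lib.Helper4.IrrFib in
/-- On a smooth `k`-scheme the closed points with finite separable residue field are dense. -/
theorem dense_sep (X : Scheme.{u}) [X.Over (Spec (CommRingCat.of k))]
    [Smooth (X ↘ Spec (CommRingCat.of k))] :
    Dense {x : X | IsClosed ({x} : Set X) ∧ FiniteDimensional k (X.residueField x) ∧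
      Algebra.IsSeparable k (X.residueField x)} := by
  rw [dense_iff_inter_open]
  rintro U hU ⟨x₀, hx₀⟩
  let Uo : X.Opens := ⟨U, hU⟩
  obtain ⟨S', g, s', hg, -, h, hh⟩ :=
    Groth.Agent.Lib.Helper20.SmoothSec.exists_etale_section_of_smooth
      (Uo.ι ≫ (X ↘ Spec (CommRingCat.of k))) (⟨x₀, hx₀⟩ : Uo)
  let _ : S'.Over (Spec (CommRingCat.of k)) := ⟨g⟩
  have : Etale (S' ↘ Spec (CommRingCat.of k)) := hg
  obtain ⟨hfin, hsep⟩ := finite_separable_of_etale k S' s'
  let φ : S' ⟶ X := h ≫ Uo.ι
  have hφ : φ ≫ (X ↘ Spec (CommRingCat.of k)) = (S' ↘ Spec (CommRingCat.of k)) := by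
    rw [Category.assoc]
    exact hh
  let ψ := residueFieldAlgHom k φ hφ s'
  have hfinX : FiniteDimensional k (X.residueField (φ s')) :=
    FiniteDimensional.of_injective ψ.toLinearMap ψ.injective
  have hsepX : Algebra.IsSeparable k (X.residueField (φ s')) :=
    Algebra.IsSeparable.of_algHom k (S'.residueField s') ψ
  have hclosed : IsClosed ({φ s'} : Set X) := by
    apply isClosed_singleton_of_trdegNat_eq_zero k X
    apply trdegNat_eq_of_trdeg_eq k X (φ s') 0
    have : Algebra.IsAlgebraic k (X.residueField (φ s')) := Algebra.IsAlgebraic.of_finite k _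
    rw [trdeg_eq_zero]
    rfl
  refine ⟨φ s', ?_, hclosed, hfinX, hsepX⟩
  change (Uo.ι (h s')) ∈ U
  exact (h s').2

end field

end Groth.Agent.R2.H49.SepPoints
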