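import Mathlib
import Groth.Agent.R2.H49ProjJac

/-!
# Smoothness of the short Weierstrass cubic (helper49)

`V₊(Y²Z − X³ − aXZ² + bZ³) ⊆ P²_k` is smooth over `k` (`2 ≠ 0` in `k`) iff `4a³ + 27b² ≠ 0`; by the
projective Jacobian criterion `R2/H49ProjJac.smooth_hyp_iff`.
-/

set_option autoImplicit false
universe u

open CategoryTheory CategoryTheory.Limits AlgebraicGeometry MvPolynomial

namespace Groth.Agent.R2.H49.Weierstrass

variable {k : Type u} [Field k] (a b : k)

/-- the Weierstrass cubic -/
noncomputable def Wp : MvPolynomial (Fin 3) k :=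
  X 1 ^ 2 * X 2 - X 0 ^ 3 - C a * X 0 * X 2 ^ 2 + C b * X 2 ^ 3

section Eval

variable {F : Type u} [Field F] [Algebra k F] (pt : Fin 3 → F)

theorem aeval_Wp : aeval pt (Wp a b) =
    pt 1 ^ 2 * pt 2 - pt 0 ^ 3 - algebraMap k F a * pt 0 * pt 2 ^ 2 +
      algebraMap k F b * pt 2 ^ 3 := by
  simp [Wp]

theorem aeval_pderiv0 : aeval pt (pderiv 0 (Wp a b)) =
    -(3 * pt 0 ^ 2) - algebraMap k F a * pt 2 ^ 2 := by
  simp [Wp, pderiv_X]
  ring

theorem aeval_pderiv1 : aeval pt (pderiv 1 (Wp a b)) = 2 * pt 1 * pt 2 := by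
  simp [Wp, pderiv_X]
  ring

theorem aeval_pderiv2 : aeval pt (pderiv 2 (Wp a b)) =
    pt 1 ^ 2 - 2 * algebraMap k F a * pt 0 * pt 2 + 3 * algebraMap k F b * pt 2 ^ 2 := by
  simp [Wp, pderiv_X]
  ring

end Eval

theorem Wp_ne_zero : Wp a b ≠ 0 := by
  intro h
  by_cases hb : b = 0
  · have h1 := aeval_Wp (F := k) a b ![0, 1, 1]
    rw [h, map_zero] at h1
    simp [hb] at h1
  · have h1 := aeval_Wp (F := k) a b ![0, 0, 1]
    rw [h, map_zero] at h1
    simp at h1
    exact hb h1.symm

theorem forall_fin3 {P : Fin 3 → Prop} (h0 : P 0) (h1 : P 1) (h2 : P 2) : ∀ i, P i := by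
  intro i
  fin_cases i
  · exact h0
  · exact h1
  · exact h2

/-- the Jacobian condition for the Weierstrass cubic. -/
theorem criterion_iff (h2 : (2 : k) ≠ 0) :
    (∀ (j : Fin 3) (F : Type u) [Field F] [Algebra k F] (pt : Fin 3 → F),
        pt j = 1 → aeval pt (Wp a b) = 0 → ∃ i, aeval pt (pderiv i (Wp a b)) ≠ 0) ↔
      4 * a ^ 3 + 27 * b ^ 2 ≠ 0 := by
  constructor
  · intro H hdisc
    by_cases ha : a = 0
    · subst ha
      by_cases h3 : (3 : k) = 0
      · -- characteristic three: a cube root of `b` in the algebraic closure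
        obtain ⟨x, hx⟩ := IsAlgClosed.exists_pow_nat_eq
          (algebraMap k (AlgebraicClosure k) b) (by norm_num : 0 < 3)
        have h3' : (3 : AlgebraicClosure k) = 0 := by
          have := congrArg (algebraMap k (AlgebraicClosure k)) h3
          rw [map_ofNat, map_zero] at this
          exact this
        obtain ⟨i, hi⟩ := H 2 (AlgebraicClosure k) ![x, 0, 1] rfl (by
          rw [aeval_Wp]
          simp [hx])
        refine hi (forall_fin3
          (P := fun i => aeval ![x, 0, 1] (pderiv i (Wp (0 : k) b)) = 0) ?_ ?_ ?_ i)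
        · rw [aeval_pderiv0]
          simp [h3']
        · rw [aeval_pderiv1]
          simp
        · rw [aeval_pderiv2]
          simp [h3']
      · have hb : b = 0 := by
          have h27 : (27 : k) = 3 ^ 3 := by norm_num
          have h27b : (27 : k) * b ^ 2 = 0 := by
            have := hdisc
            simpa using this
          rcases mul_eq_zero.mp h27b with h | h
          · rw [h27] at h
            exact absurd (pow_eq_zero_iff (by norm_num) |>.mp h) h3
          · exact pow_eq_zero_iff (by norm_num) |>.mp h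
        subst hb
        obtain ⟨i, hi⟩ := H 2 k ![0, 0, 1] rfl (by
          rw [aeval_Wp]
          simp)
        refine hi (forall_fin3
          (P := fun i => aeval ![(0 : k), 0, 1] (pderiv i (Wp (0 : k) 0)) = 0) ?_ ?_ ?_ i)
        · rw [aeval_pderiv0]
          simp
        · rw [aeval_pderiv1]
          simp
        · rw [aeval_pderiv2]
          simp
    · have h2a : (2 : k) * a ≠ 0 := mul_ne_zero h2 ha
      obtain ⟨i, hi⟩ := H 2 k ![3 * b / (2 * a), 0, 1] rfl (by
        rw [aeval_Wp]
        simp only [Matrix.cons_val_zero, Matrix.cons_val_one, Matrix.cons_val_two,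
          Matrix.head_cons, Matrix.tail_cons, Algebra.algebraMap_self, RingHom.id_apply]
        field_simp
        linear_combination (-b) * hdisc)
      refine hi (forall_fin3
        (P := fun i => aeval ![3 * b / (2 * a), 0, 1] (pderiv i (Wp a b)) = 0) ?_ ?_ ?_ i)
      · rw [aeval_pderiv0]
        simp only [Matrix.cons_val_zero, Matrix.cons_val_one, Matrix.cons_val_two,
          Matrix.head_cons, Matrix.tail_cons, Algebra.algebraMap_self, RingHom.id_apply]
        field_simp
        linear_combination (-(1 : k)) * hdisc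
      · rw [aeval_pderiv1]
        simp
      · rw [aeval_pderiv2]
        simp only [Matrix.cons_val_zero, Matrix.cons_val_one, Matrix.cons_val_two,
          Matrix.head_cons, Matrix.tail_cons, Algebra.algebraMap_self, RingHom.id_apply]
        field_simp
        ring
  · intro hdisc j F _ _ pt hj h0
    by_contra hcon
    push Not at hcon
    have e0 := hcon 0
    have e1 := hcon 1
    have e2 := hcon 2
    rw [aeval_pderiv0] at e0
    rw [aeval_pderiv1] at e1
    rw [aeval_pderiv2] at e2
    rw [aeval_Wp] at h0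
    have h2F : (2 : F) ≠ 0 := by
      have : (2 : F) = algebraMap k F 2 := (map_ofNat (algebraMap k F) 2).symm
      rw [this]
      exact (map_ne_zero _).mpr h2
    by_cases hz : pt 2 = 0
    · rw [hz] at h0 e2
      have hx : pt 0 = 0 := by
        have : pt 0 ^ 3 = 0 := by linear_combination -h0
        exact pow_eq_zero_iff (by norm_num) |>.mp this
      have hy : pt 1 = 0 := by
        have : pt 1 ^ 2 = 0 := by linear_combination e2
        exact pow_eq_zero_iff (by norm_num) |>.mp this
      fin_cases j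
      · exact zero_ne_one (hx.symm.trans hj)
      · exact zero_ne_one (hy.symm.trans hj)
      · exact zero_ne_one (hz.symm.trans hj)
    · have hy : pt 1 = 0 := by
        rcases mul_eq_zero.mp e1 with h | h
        · exact (mul_eq_zero.mp h).resolve_left h2F
        · exact absurd h hz
      rw [hy] at h0 e2
      have hkey : (4 * algebraMap k F a ^ 3 + 27 * algebraMap k F b ^ 2) * pt 2 ^ 6 = 0 := by
        linear_combination
          (-(4 * (algebraMap k F a ^ 2 * pt 2 ^ 4 - 3 * algebraMap k F a * pt 0 ^ 2 * pt 2 ^ 2 +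
            9 * pt 0 ^ 4) + 27 * pt 0 * (algebraMap k F b * pt 2 ^ 3 - 2 * pt 0 ^ 3))) * e0 +
          (27 * (algebraMap k F b * pt 2 ^ 3 - 2 * pt 0 ^ 3)) * h0
      have hd : 4 * algebraMap k F a ^ 3 + 27 * algebraMap k F b ^ 2 = 0 :=
        (mul_eq_zero.mp hkey).resolve_right (pow_ne_zero 6 hz)
      apply hdisc
      apply (algebraMap k F).injective
      rw [map_zero, map_add, map_mul, map_mul, map_pow, map_pow, map_ofNat, map_ofNat]
      exact hd

/-- **The short Weierstrass cubic is smooth iff its discriminant is nonzero.** -/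
theorem main (h2 : (2 : k) ≠ 0) (W : LefPen.Form 2 k 3)
    (hW : (W : MvPolynomial (Fin (2 + 1)) k) = MvPolynomial.X 1 ^ 2 * MvPolynomial.X 2 -
      MvPolynomial.X 0 ^ 3 - MvPolynomial.C a * MvPolynomial.X 0 * MvPolynomial.X 2 ^ 2 +
      MvPolynomial.C b * MvPolynomial.X 2 ^ 3) :
    Smooth ((LefPen.hypIdeal W).subschemeι ≫ CohB1.ProjSpace.toSpec 2 k) ↔
      4 * a ^ 3 + 27 * b ^ 2 ≠ 0 := by
  have hW' : W.1 = Wp a b := hW
  rw [Groth.Agent.R2.H49.ProjJac.smooth_hyp_iff W (by rw [hW']; exact Wp_ne_zero a b), hW']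
  exact criterion_iff a b h2

end Groth.Agent.R2.H49.Weierstrass
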