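import Mathlib
import Groth.Agent.R2.H4EulerChar
import Groth.Agent.Lib.Helper18FittSh5
import Groth.Agent.Lib.Helper1Sky11
import Groth.Agent.R2.H4FlatFP
set_option backward.isDefEq.respectTransparency.types false

/-!
# Upper semicontinuity of the Betti numbers of a pseudo-coherent object (helper4, round 2)

`β_i(x) = dim_{κ(x)} H^i(E ⊗^L κ(x))`.  Locally `E` receives an `(i-1)`-connected map from a bounded
complex `P` of finite free modules; the derived pullback is right t-exact (helper1's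
`propM_lpull_map`), so `β_i(y) = dim H^i(P ⊗ κ(y)) = dim coker(d^{i-1}_y) + dim coker(d^i_y) - n_{i+1}`,
and the fibre dimension of a finitely presented module is controlled by its Fitting ideals
(helper18's `FittSh` library).
-/

set_option autoImplicit false
universe u
open CategoryTheory CategoryTheory.Limits AlgebraicGeometry HomologicalComplex Opposite
  TopologicalSpace

attribute [local instance] HasDerivedCategory.standard

namespace Groth.Agent.R2.H4.Betti

open DerivedCategory Groth.Agent.R2.H4.Perf Groth.Agent.R2.H4.Euler Groth.Agent.R2.H4.EulerChar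
open Groth.Agent.Helper18FittSh Groth.Agent.Helper18Fitt

section LinAlg

variable {K : Type u} [Field K]

lemma finrank_cokernel {M N : ModuleCat.{u} K} (f : M ⟶ N) [Module.Finite K N] :
    (Module.finrank K (cokernel f : ModuleCat.{u} K) : ℤ) =
      Module.finrank K N - Module.finrank K (LinearMap.range f.hom) := by
  have e := (ModuleCat.cokernelIsoRangeQuotient f).toLinearEquiv
  rw [e.finrank_eq]
  have := Submodule.finrank_quotient_add_finrank (LinearMap.range f.hom)
  show ((Module.finrank K (N ⧸ LinearMap.range f.hom) : ℕ) : ℤ) = _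
  omega

/-- the dimension of the homology in terms of the dimensions of the cokernels of the
differentials. -/
lemma finrank_homology_eq_cokernel (D : CochainComplex (ModuleCat.{u} K) ℤ) (i : ℤ)
    [Module.Finite K (D.X i)] [Module.Finite K (D.X (i + 1))] :
    (Module.finrank K (D.homology i) : ℤ) =
      Module.finrank K (cokernel (D.d (i - 1) i) : ModuleCat.{u} K) +
        Module.finrank K (cokernel (D.d i (i + 1)) : ModuleCat.{u} K) -
          Module.finrank K (D.X (i + 1)) := by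
  rw [finrank_homology_complex D i, finrank_cokernel, finrank_cokernel]
  ring

end LinAlg

lemma finrank_homology_eq_cokernel' {K : Type u} [inst : Ring K] (hK : IsField K)
    (D : CochainComplex (ModuleCat.{u} K) ℤ) (i : ℤ)
    (h1 : Module.Finite K (D.X i)) (h2 : Module.Finite K (D.X (i + 1))) :
    (Module.finrank K (D.homology i) : ℤ) =
      Module.finrank K (cokernel (D.d (i - 1) i) : ModuleCat.{u} K) +
        Module.finrank K (cokernel (D.d i (i + 1)) : ModuleCat.{u} K) -
          Module.finrank K (D.X (i + 1)) := by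
  obtain ⟨F, hF⟩ : ∃ F : Field K, F.toDivisionRing.toRing = inst := ⟨hK.toField, rfl⟩
  subst hF
  exact finrank_homology_eq_cokernel D i

/-- Fitting ideals of a finite dimensional vector space, for a commutative ring which is a
field. -/
lemma fitt_ne_bot_iff_of_isField {K : Type u} [inst : CommRing K] (hK : IsField K) {V : Type u}
    [AddCommGroup V] [Module K V] [Module.Finite K V] (k : ℕ) :
    Fitt.ideal K V k ≠ ⊥ ↔ Module.finrank K V ≤ k := by
  obtain ⟨F, hF⟩ : ∃ F : Field K, F.toCommRing = inst := ⟨hK.toField, rfl⟩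
  subst hF
  exact fitt_field k

lemma ideal_le_prime_iff_of_isField {K : Type u} [CommRing K] (hK : IsField K) (I p : Ideal K)
    [hp : p.IsPrime] : I ≤ p ↔ I = ⊥ := by
  letI := hK.toField
  rcases Ideal.eq_bot_or_top p with h | h
  · rw [h, le_bot_iff]
  · exact absurd h hp.ne_top

section Point

variable {Z X : Scheme.{u}} [IsAffine Z]

/-- the fibre dimension of a quasi-coherent module of finite type at a "field valued point" is
controlled by the Fitting ideals. -/
theorem finrank_pullback_le_iff (z : Z) (hK : IsField (Coh.Γtop Z)) (k : Z ⟶ X) (M : X.Modules)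
    (hM : Coh.IsQCoh M) (hft : CohB1.IsFT M) (r : ℕ) :
    Module.finrank (Coh.Γtop Z) ((secTop Z).obj ((Scheme.Modules.pullback k).obj M)) ≤ r ↔
      k z ∉ (Fitt.sheafIdeal M r).support := by
  haveI : M.IsQuasicoherent := hM
  have h1 : k z ∈ (Fitt.sheafIdeal M r).support ↔
      z ∈ (Fitt.sheafIdeal ((Scheme.Modules.pullback k).obj M) r).support := by
    rw [← main_S8872 k M hM hft r, Scheme.IdealSheafData.support_comap]
    rfl
  set G := (Scheme.Modules.pullback k).obj M with hG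
  haveI : G.IsQuasicoherent := Groth.Agent.Lib.Helper20.PullbackAff.isQuasicoherent_pullback k M
  have hGft : CohB1.IsFT G := by
    haveI : SheafOfModules.IsFiniteType (R := X.ringCatSheaf) M := hft
    exact Groth.Agent.Lib.Helper20.FormalPull.isFiniteType_pullback k M
  have hfin := finite_sections G hGft
  haveI := hfin ⟨⊤, isAffineOpen_top Z⟩
  have hK' : IsField Γ(Z, ⊤) := hK
  rw [h1, mem_support_iff G r hfin z ⟨⊤, isAffineOpen_top Z⟩ trivial,
    ideal_le_prime_iff_of_isField hK', ← Ne, fitt_ne_bot_iff_of_isField hK']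
  rfl

end Point

section PointB

variable {Z V : Scheme.{u}} [IsAffine Z]

open Groth.Agent.Lib.Helper1.Sky Groth.Agent.R2.H4.Conn

/-- the composite "pull back and take global sections". -/
noncomputable abbrev fib (k : Z ⟶ V) : V.Modules ⥤ ModuleCat.{u} (Coh.Γtop Z) :=
  Scheme.Modules.pullback k ⋙ secTop Z

theorem finrank_HD_lpull_eq (z : Z) (hz : ∀ W : Z.Opens, z ∈ W → W = ⊤)
    (hK : IsField (Coh.Γtop Z)) (k : Z ⟶ V) [DCoh.HasLpull k]
    (P : CochainComplex V.Modules ℤ) (a b : ℤ)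
    (hv : DCoh.VanishesOutside P a b) (n : ℤ → ℕ)
    (hn : ∀ j, Nonempty (P.X j ≅ FlatMod.freeMod V (n j)))
    (K : DCoh.D V) (α : Q.obj P ⟶ K) (i : ℤ) (hα : Conn (i - 1) α) :
    (Module.finrank (Coh.Γtop Z) ((DCoh.HD ((DCoh.Lpull k).obj K) i).val.obj (op ⊤)) : ℤ) =
      Module.finrank (Coh.Γtop Z) ((fib k).obj (cokernel (P.d (i - 1) i))) +
      Module.finrank (Coh.Γtop Z) ((fib k).obj (cokernel (P.d i (i + 1)))) - n (i + 1) := by
  haveI := preservesFiniteColimits_secTop z hz
  haveI := (Scheme.Modules.pullbackPushforwardAdjunction k).leftAdjoint_preservesColimits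
  have hP : DCoh.IsStrictlyPerfect P := by
    refine ⟨⟨a, b, hv⟩, fun j => ?_⟩
    obtain ⟨ej⟩ := hn j
    exact Groth.Agent.R2.H4.LocHtpy.isFinLocFree_of_iso ej.symm (isFinLocFree_freeMod _ (n j))
  have h1 : IsIso ((DerivedCategory.homologyFunctor _ i).map ((DCoh.Lpull k).map α)) :=
    (propM_lpull_map k (i - 1) α hα).1 i (by omega)
  let C := (pullC k).obj P
  let e1 : DCoh.HD ((DCoh.Lpull k).obj K) i ≅ C.homology i :=
    (asIso ((DerivedCategory.homologyFunctor _ i).map ((DCoh.Lpull k).map α))).symm ≪≫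
      (DerivedCategory.homologyFunctor _ i).mapIso
        (lpullIso k P (kffs_of_isStrictlyPerfect P hP)) ≪≫
      (homologyFunctorFactors _ i).app C
  let D := ((secTop Z).mapHomologicalComplex (ComplexShape.up ℤ)).obj C
  let e2 : (secTop Z).obj (C.homology i) ≅ D.homology i :=
    ((C.sc i).mapHomologyIso (secTop Z)).symm
  have h2 := ((secTop Z).mapIso e1 ≪≫ e2).toLinearEquiv.finrank_eq
  have hfr : ∀ j, Module.Finite (Coh.Γtop Z) (D.X j) ∧
      Module.finrank (Coh.Γtop Z) (D.X j) = n j := fun j => by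
    obtain ⟨ej⟩ := hn j
    exact finrank_sections_of_iso_freeMod hK (C.X j)
      ((Scheme.Modules.pullback k).mapIso ej ≪≫ pullbackFreeModIso k (n j))
  have h3 := finrank_homology_eq_cokernel' hK D i (hfr i).1 (hfr (i + 1)).1
  have h4 : ∀ j j' : ℤ, Module.finrank (Coh.Γtop Z)
      (cokernel (D.d j j') : ModuleCat.{u} (Coh.Γtop Z)) =
      Module.finrank (Coh.Γtop Z) ((fib k).obj (cokernel (P.d j j'))) := fun j j' =>
    (PreservesCokernel.iso (fib k) (P.d j j')).symm.toLinearEquiv.finrank_eq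
  rw [h4, h4, (hfr (i + 1)).2] at h3
  rw [← h3]
  exact congrArg _ h2

end PointB

section Global

open Groth.Agent.Lib.Helper1.Sky Groth.Agent.R2.H4.Conn Groth.Agent.R2.H4.LocHtpy

variable {X : Scheme.{u}}

/-- the derived pullback along an open immersion is the restriction. -/
noncomputable def lpullRestrictIso (V : X.Opens) [DCoh.HasLpull V.ι] (E : DCoh.D X) :
    (DCoh.Lpull V.ι).obj E ≅ (DCoh.restrictD V.ι).obj E :=
  (DCoh.Lpull V.ι).mapIso (Q.objObjPreimageIso E).symm ≪≫ lpullOpenIso V (Q.objPreimage E) ≪≫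
    (restrictDQIso V.ι (Q.objPreimage E)).symm ≪≫
    (DCoh.restrictD V.ι).mapIso (Q.objObjPreimageIso E)

theorem exists_betti_eq [∀ x : X, DCoh.HasLpull (X.fromSpecResidueField x)]
    (E : DCoh.D X) (V : X.Opens) (P : CochainComplex (V : Scheme.{u}).Modules ℤ) (a b : ℤ)
    (hv : DCoh.VanishesOutside P a b) (n : ℤ → ℕ)
    (hn : ∀ j, Nonempty (P.X j ≅ FlatMod.freeMod (V : Scheme.{u}) (n j)))
    (α : Q.obj P ⟶ (DCoh.restrictD V.ι).obj E) (i : ℤ) (hα : Conn (i - 1) α)
    (y : X) (hy : y ∈ V) :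
    ∃ (Z : Scheme.{u}) (_ : IsAffine Z) (z : Z) (k : Z ⟶ (V : Scheme.{u})),
      IsField (Coh.Γtop Z) ∧ k z = ⟨y, hy⟩ ∧
      (PerfD.betti E y i : ℤ) =
        Module.finrank (Coh.Γtop Z) ((fib k).obj (cokernel (P.d (i - 1) i))) +
        Module.finrank (Coh.Γtop Z) ((fib k).obj (cokernel (P.d i (i + 1)))) - n (i + 1) := by
  let Z : Scheme.{u} := Spec (X.residueField y)
  let iy : Z ⟶ X := X.fromSpecResidueField y
  have hr : Set.range iy ⊆ Set.range V.ι := by
    rw [Scheme.range_fromSpecResidueField, Scheme.Opens.range_ι]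
    simpa using hy
  let k : Z ⟶ V := IsOpenImmersion.lift V.ι iy hr
  have fac : k ≫ V.ι = iy := IsOpenImmersion.lift_fac _ _ _
  haveI : DCoh.HasLpull k := hasLpull _
  haveI : DCoh.HasLpull V.ι := hasLpull _
  haveI : DCoh.HasLpull (k ≫ V.ι) := hasLpull _
  obtain ⟨c1⟩ := nonempty_lpull_comp_iso k V.ι
  obtain ⟨c2⟩ := nonempty_lpull_congr fac
  let eL : (DCoh.Lpull iy).obj E ≅ (DCoh.Lpull k).obj ((DCoh.restrictD V.ι).obj E) :=
    (c2.app E).symm ≪≫ (c1.app E).symm ≪≫ (DCoh.Lpull k).mapIso (lpullRestrictIso V E)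
  have hR : IsField (X.residueField y) := Field.toIsField _
  obtain ⟨z⟩ : Nonempty Z := inferInstance
  have hz : ∀ W : Z.Opens, z ∈ W → W = ⊤ := fun W hW => opens_eq_top_of_isField _ hR z W hW
  have hK : IsField (Coh.Γtop Z) := isField_Γtop_Spec _ hR
  refine ⟨Z, inferInstance, z, k, hK, ?_, ?_⟩
  · apply Subtype.ext
    have h1 : (k ≫ V.ι) z = iy z := by rw [fac]
    have h2 : iy z ∈ Set.range iy := ⟨z, rfl⟩
    rw [Scheme.range_fromSpecResidueField] at h2
    exact h1.trans h2
  · rw [← finrank_HD_lpull_eq z hz hK k P a b hv n hn _ α i hα]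
    exact congrArg _ ((secTop Z).mapIso
      ((DerivedCategory.homologyFunctor _ i).mapIso eL)).toLinearEquiv.finrank_eq

/-- `K` receives an `m`-connected map from a bounded complex of finite free modules. -/
def SFApprox (m : ℤ) {U : Scheme.{u}} (K : DCoh.D U) : Prop :=
  ∃ (P : CochainComplex U.Modules ℤ) (a b : ℤ), DCoh.VanishesOutside P a b ∧
    (∀ i : ℤ, ∃ n : ℕ, Nonempty (P.X i ≅ FlatMod.freeMod U n)) ∧
    ∃ α : Q.obj P ⟶ K, Conn m α

lemma isLocalPred_sfApprox (m : ℤ) : IsLocalPred (fun U (K : DCoh.D U) => SFApprox m K) := by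
  refine ⟨?_, ?_⟩
  · rintro U K K' e ⟨P, a, b, hv, hfree, α, hα⟩
    exact ⟨P, a, b, hv, hfree, α ≫ e.hom, hα.comp (Conn.of_isIso m e.hom)⟩
  · rintro U' U j _ K ⟨P, a, b, hv, hfree, α, hα⟩
    refine ⟨(resC j).obj P, a, b,
      fun i hi => (Scheme.Modules.restrictFunctor j).map_isZero (hv i hi), fun i => ?_,
      (restrictDQIso j P).inv ≫ (DCoh.restrictD j).map α,
      (Conn.of_isIso m _).comp (conn_map _ α m hα)⟩
    obtain ⟨n, ⟨en⟩⟩ := hfree i
    exact ⟨n, ⟨(Scheme.Modules.restrictFunctor j).mapIso en ≪≫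
      Groth.Agent.Lib.Helper20.LocFree.restrictFreeMod j n⟩⟩

lemma exists_sfApprox_of_spApprox {m : ℤ} {U : Scheme.{u}} {K : DCoh.D U} (h : SPApprox m K)
    (y : U) :
    ∃ (U' : Scheme.{u}) (j' : U' ⟶ U) (_ : IsOpenImmersion j') (y' : U'), j' y' = y ∧
      SFApprox m ((DCoh.restrictD j').obj K) := by
  obtain ⟨L, α, hL, hα⟩ := h
  obtain ⟨U', j', hj', y', hy', P, a, b, hv, hfree, ⟨e⟩⟩ := hL.exists_sfRep y
  exact ⟨U', j', hj', y', hy', P, a, b, hv, hfree, e.hom ≫ (DCoh.restrictD j').map α,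
    (Conn.of_isIso m e.hom).comp (conn_map _ α m hα)⟩

theorem exists_sfApprox_of_isPseudoCoherentD {m : ℤ} (K : DCoh.D X)
    (hK : DCoh.IsPseudoCoherentD m K) (x : X) :
    ∃ V : X.Opens, x ∈ V ∧ SFApprox m ((DCoh.restrictD V.ι).obj K) := by
  have h1 := (isPseudoCoherentD_iff m K).1 hK
  have h2 : Loc (fun U (K : DCoh.D U) => SFApprox m K) K := by
    apply loc_of_loc_restrict (isLocalPred_sfApprox m)
    intro x
    obtain ⟨U, j, hj, y, hy, hU⟩ := h1 x
    exact ⟨U, j, hj, y, hy, exists_sfApprox_of_spApprox hU y⟩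
  exact (loc_iff_opens (isLocalPred_sfApprox m) K).1 h2 x

lemma isFP_cokernel_of_free {U : Scheme.{u}} {A B : U.Modules} (f : A ⟶ B) {m n : ℕ}
    (eA : A ≅ FlatMod.freeMod U m) (eB : B ≅ FlatMod.freeMod U n) :
    CohB1.IsFP (cokernel f) :=
  Groth.Agent.R2.H4.Flat.isFP_of_isCokernel f (cokernel.π f) (cokernel.condition f)
    (cokernelIsCokernel f)
    (Groth.Agent.R2.H4.LocHtpy.isFinLocFree_of_iso eA.symm (isFinLocFree_freeMod _ m))
    (Groth.Agent.R2.H4.LocHtpy.isFinLocFree_of_iso eB.symm (isFinLocFree_freeMod _ n))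

/-- S6199: the `i`-th Betti number of an `(i-1)`-pseudo-coherent object is upper
semicontinuous. -/
theorem isOpen_betti_lt_of [∀ x : X, DCoh.HasLpull (X.fromSpecResidueField x)]
    (E : DCoh.D X) (i : ℤ) (hE : DCoh.IsPseudoCoherentD (i - 1) E) (N : ℕ) :
    IsOpen {x : X | PerfD.betti E x i < N} := by
  rw [isOpen_iff_forall_mem_open]
  intro x₀ hx₀
  obtain ⟨V, hxV, P, a, b, hv, hfree, α, hα⟩ :=
    exists_sfApprox_of_isPseudoCoherentD E hE x₀
  choose n hn using hfree
  set M₁ : (V : Scheme.{u}).Modules := cokernel (P.d (i - 1) i) with hM₁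
  set M₂ : (V : Scheme.{u}).Modules := cokernel (P.d i (i + 1)) with hM₂
  have hfp₁ : CohB1.IsFP M₁ := isFP_cokernel_of_free _ (hn _).some (hn _).some
  have hfp₂ : CohB1.IsFP M₂ := isFP_cokernel_of_free _ (hn _).some (hn _).some
  have hq₁ : Coh.IsQCoh M₁ := Groth.Agent.Helper18Strict.isQCoh_of_isFP M₁ hfp₁
  have hq₂ : Coh.IsQCoh M₂ := Groth.Agent.Helper18Strict.isQCoh_of_isFP M₂ hfp₂
  have hft₁ : CohB1.IsFT M₁ := Groth.Agent.Helper18Strict.isFT_of_isFP M₁ hfp₁
  have hft₂ : CohB1.IsFT M₂ := Groth.Agent.Helper18Strict.isFT_of_isFP M₂ hfp₂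
  let W : Set (V : Scheme.{u}) := {y | ∃ r s : ℕ, r + s < N + n (i + 1) ∧
    y ∉ (Fitt.sheafIdeal M₁ r).support ∧ y ∉ (Fitt.sheafIdeal M₂ s).support}
  have hW : IsOpen W := by
    have : W = ⋃ (r : ℕ), ⋃ (s : ℕ), ⋃ (_ : r + s < N + n (i + 1)),
        ((Fitt.sheafIdeal M₁ r).support : Set (V : Scheme.{u}))ᶜ ∩
          ((Fitt.sheafIdeal M₂ s).support : Set (V : Scheme.{u}))ᶜ := by
      ext y
      simp only [W, Set.mem_ofPred_eq, Set.mem_iUnion, Set.mem_inter_iff, Set.mem_compl_iff,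
        SetLike.mem_coe, exists_prop]
    rw [this]
    exact isOpen_iUnion fun r => isOpen_iUnion fun s => isOpen_iUnion fun _ =>
      ((Fitt.sheafIdeal M₁ r).support.isClosed.isOpen_compl).inter
        ((Fitt.sheafIdeal M₂ s).support.isClosed.isOpen_compl)
  have key : ∀ (y : X) (hy : y ∈ V), PerfD.betti E y i < N ↔ (⟨y, hy⟩ : (V : Scheme.{u})) ∈ W := by
    intro y hy
    obtain ⟨Z, _, z, k, hK, hkz, hb⟩ := exists_betti_eq E V P a b hv n hn α i hα y hy
    change (PerfD.betti E y i : ℤ) =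
      (Module.finrank (Coh.Γtop Z) ((secTop Z).obj ((Scheme.Modules.pullback k).obj M₁)) : ℤ) +
      (Module.finrank (Coh.Γtop Z) ((secTop Z).obj ((Scheme.Modules.pullback k).obj M₂)) : ℤ) -
        n (i + 1) at hb
    have h1 := fun r => finrank_pullback_le_iff z hK k M₁ hq₁ hft₁ r
    have h2 := fun s => finrank_pullback_le_iff z hK k M₂ hq₂ hft₂ s
    rw [hkz] at h1 h2
    constructor
    · intro h
      refine ⟨_, _, ?_, (h1 _).1 le_rfl, (h2 _).1 le_rfl⟩
      omega
    · rintro ⟨r, s, hrs, hr, hs⟩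
      have := (h1 r).2 hr
      have := (h2 s).2 hs
      omega
  refine ⟨V.ι '' W, ?_, V.ι.isOpenEmbedding.isOpenMap _ hW,
    ⟨⟨x₀, hxV⟩, (key x₀ hxV).1 hx₀, rfl⟩⟩
  rintro _ ⟨⟨y, hy⟩, hyW, rfl⟩
  exact (key y hy).2 hyW

/-- S1060: the Betti numbers of a pseudo-coherent object are upper semicontinuous. -/
theorem isOpen_betti_lt [∀ x : X, DCoh.HasLpull (X.fromSpecResidueField x)]
    (E : DCoh.D X) (hE : ∀ m : ℤ, DCoh.IsPseudoCoherentD m E) (i : ℤ) (N : ℕ) :
    IsOpen {x : X | PerfD.betti E x i < N} :=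
  isOpen_betti_lt_of E i (hE (i - 1)) N

end Global

end Groth.Agent.R2.H4.Betti
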