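import Mathlib
import Groth.Agent.R2.H4PCTop
import Groth.Agent.R2.H4PerfTri
import Groth.Agent.R2.H4FlatPerf
import Groth.Agent.R2.H4PerfFree
set_option backward.isDefEq.respectTransparency.types false

/-!
# Pseudo-coherence of a single module (helper4, round 2)

`F[0]` is `0`-pseudo-coherent iff `F` is of finite type, and `(-1)`-pseudo-coherent iff `F` is of
finite presentation (S6518).
-/

set_option autoImplicit false
universe u
open CategoryTheory CategoryTheory.Limits AlgebraicGeometry HomologicalComplex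
  CategoryTheory.Pretriangulated

attribute [local instance] HasDerivedCategory.standard

namespace Groth.Agent.R2.H4.PCSingle

open DerivedCategory Groth.Agent.R2.H4.Conn Groth.Agent.R2.H4.LocHtpy Groth.Agent.R2.H4.Perf
  Groth.Agent.R2.H4.Flat Groth.Agent.R2.H4.FlatPerf Groth.Agent.R2.H4.PCTop

variable {X : Scheme.{u}}

/-- restriction commutes with placing a module in degree `0`. -/
noncomputable def restrictDInDIso {U : Scheme.{u}} (j : U ⟶ X) [IsOpenImmersion j]
    (F : X.Modules) :
    (DCoh.restrictD j).obj (DCoh.inD X F) ≅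
      DCoh.inD U ((Scheme.Modules.restrictFunctor j).obj F) :=
  ((Scheme.Modules.restrictFunctor j).mapDerivedCategorySingleFunctor 0).app F

lemma isZero_HD_inD (F : X.Modules) (i : ℤ) (hi : i ≠ 0) : IsZero (DCoh.HD (DCoh.inD X F) i) := by
  rcases lt_or_gt_of_ne hi with h | h
  · exact (DCoh.inD X F).isZero_of_isGE 0 i h
  · exact (DCoh.inD X F).isZero_of_isLE 0 i h

noncomputable def HDInDIso (F : X.Modules) : DCoh.HD (DCoh.inD X F) 0 ≅ F :=
  (singleFunctorCompHomologyFunctorIso X.Modules 0).app F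

/-- a finite locally free module in degree `0` is strictly perfect. -/
lemma spRep_inD (A : X.Modules) (hA : FlatMod.IsFinLocFree A) : SPRep (DCoh.inD X A) := by
  refine ⟨(HomologicalComplex.single X.Modules (ComplexShape.up ℤ) 0).obj A,
    ⟨⟨0, 0, fun i hi => ?_⟩, fun i => ?_⟩, ⟨Iso.refl _⟩⟩
  · exact HomologicalComplex.isZero_single_obj_X _ _ _ _ (by omega)
  · by_cases hi : i = 0
    · subst hi
      exact isFinLocFree_of_iso (HomologicalComplex.singleObjXSelf _ 0 A).symm hA
    · exact isFinLocFree_of_isZero _ (HomologicalComplex.isZero_single_obj_X _ _ _ _ hi)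

/-- a quotient of a finite locally free module is `0`-pseudo-coherent. -/
lemma spApprox_zero_inD_of_epi {A F : X.Modules} (hA : FlatMod.IsFinLocFree A) (π : A ⟶ F)
    [Epi π] : SPApprox 0 (DCoh.inD X F) := by
  refine ⟨DCoh.inD X A, (singleFunctor X.Modules 0).map π, spRep_inD A hA, fun i hi => ?_, ?_⟩
  · exact ⟨⟨0, (isZero_HD_inD A i (by omega)).eq_of_src _ _,
      (isZero_HD_inD F i (by omega)).eq_of_src _ _⟩⟩
  · have h := NatIso.naturality_2 (singleFunctorCompHomologyFunctorIso X.Modules 0) π
    dsimp at h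
    rw [← h]
    infer_instance

/-- pseudo-coherence is a local property. -/
lemma isPseudoCoherentD_of_locally (m : ℤ) (K : DCoh.D X)
    (h : ∀ x : X, ∃ V : X.Opens, x ∈ V ∧
      DCoh.IsPseudoCoherentD m ((DCoh.restrictD V.ι).obj K)) : DCoh.IsPseudoCoherentD m K := by
  rw [isPseudoCoherentD_iff]
  apply loc_of_loc_restrict (isLocalPred_spApprox m)
  intro x
  obtain ⟨V, hx, hV⟩ := h x
  rw [isPseudoCoherentD_iff] at hV
  obtain ⟨U', j', hj', y', hy', h'⟩ := hV ⟨x, hx⟩
  exact ⟨V, V.ι, inferInstance, ⟨x, hx⟩, rfl, U', j', hj', y', hy', h'⟩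

lemma isPseudoCoherentD_restrict (m : ℤ) (K : DCoh.D X) (hK : DCoh.IsPseudoCoherentD m K)
    {U : Scheme.{u}} (j : U ⟶ X) [IsOpenImmersion j] :
    DCoh.IsPseudoCoherentD m ((DCoh.restrictD j).obj K) := by
  rw [isPseudoCoherentD_iff] at hK ⊢
  exact Loc.restrict (isLocalPred_spApprox m) j hK

lemma isPseudoCoherentD_of_spApprox {m : ℤ} {K : DCoh.D X} (h : SPApprox m K) :
    DCoh.IsPseudoCoherentD m K := by
  rw [isPseudoCoherentD_iff, loc_iff_opens (isLocalPred_spApprox m)]
  exact fun x => ⟨⊤, trivial, h.restrict _⟩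

lemma isPseudoCoherentD_of_iso {m : ℤ} {K K' : DCoh.D X} (e : K ≅ K')
    (h : DCoh.IsPseudoCoherentD m K) : DCoh.IsPseudoCoherentD m K' := by
  rw [isPseudoCoherentD_iff] at h ⊢
  exact Loc.of_iso (isLocalPred_spApprox m) e h

/-- a module with a finite presentation by finite locally free modules is
`(-1)`-pseudo-coherent. -/
lemma isPseudoCoherentD_inD_of_presentation {A B F : X.Modules} (hA : FlatMod.IsFinLocFree A)
    (hB : FlatMod.IsFinLocFree B) (π : B ⟶ F) [Epi π] (l : A ⟶ kernel π) [Epi l] :
    DCoh.IsPseudoCoherentD (-1) (DCoh.inD X F) := by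
  let S : ShortComplex X.Modules := ShortComplex.mk (kernel.ι π) π (kernel.condition π)
  have hS : S.ShortExact :=
    { exact := ShortComplex.exact_of_f_is_kernel _ (kernelIsKernel π)
      mono_f := inferInstanceAs (Mono (kernel.ι π))
      epi_g := inferInstanceAs (Epi π) }
  have h1 : DCoh.IsPseudoCoherentD (-1 + 1) (DCoh.inD X (kernel π)) := by
    rw [show (-1 : ℤ) + 1 = 0 by norm_num]
    exact isPseudoCoherentD_of_spApprox (spApprox_zero_inD_of_epi hA l)
  have h2 : DCoh.IsPseudoCoherentD (-1) (DCoh.inD X B) :=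
    isPseudoCoherentD_of_spApprox ((spRep_inD B hB).spApprox (-1))
  exact (isPseudoCoherentD_triangle (-1) hS.singleTriangle hS.singleTriangle_distinguished).1 h1 h2

lemma isFinLocFree_free (I : Type u) [Finite I] :
    FlatMod.IsFinLocFree (SheafOfModules.free (R := X.ringCatSheaf) I) := by
  let e : Fin (Nat.card I) ≃ I := (Finite.equivFin I).symm
  exact isFinLocFree_of_iso (Sigma.whiskerEquiv
    (f := fun _ : Fin (Nat.card I) => Coh.structureModule X)
    (g := fun _ : I => SheafOfModules.unit X.ringCatSheaf) e (fun _ => Iso.refl _))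
    (isFinLocFree_freeMod X _)

lemma exists_mem_of_isOpenCover {ι : Type*} {U : ι → X.Opens} (hU : TopologicalSpace.IsOpenCover U)
    (x : X) : ∃ i, x ∈ U i := by
  have h1 : x ∈ (⨆ i, U i) := by
    rw [hU.iSup_eq_top]
    trivial
  exact TopologicalSpace.Opens.mem_iSup.1 h1

open Groth.Agent.Lib.Helper23.FinType Groth.Agent.Lib.Helper2.FinPres SheafOfModules in
/-- S6518. -/
theorem isPseudoCoherentD_single_iff (F : X.Modules) :
    (DCoh.IsPseudoCoherentD 0 (DCoh.inD X F) ↔ CohB1.IsFT F) ∧
    (DCoh.IsPseudoCoherentD (-1) (DCoh.inD X F) ↔ CohB1.IsFP F) := by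
  refine ⟨⟨fun h => ?_, fun h => ?_⟩, ⟨fun h => ?_, fun h => ?_⟩⟩
  · have h1 := (finiteType_top_cohomology_of_pseudoCoherent 0 _ h).1
      (fun i hi => isZero_HD_inD F i (by omega))
    haveI : SheafOfModules.IsFiniteType (R := X.ringCatSheaf) (DCoh.HD (DCoh.inD X F) 0) := h1
    exact Groth.Agent.Lib.Helper23.FinType.isFiniteType_of_iso (HDInDIso F)
  · haveI : SheafOfModules.IsFiniteType (R := X.ringCatSheaf) F := h
    obtain ⟨ι, U, G, hG, hU, -⟩ := exists_isOpenCover_generatingSections F
    apply isPseudoCoherentD_of_locally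
    intro x
    obtain ⟨i, hi⟩ := exists_mem_of_isOpenCover hU x
    refine ⟨U i, hi, isPseudoCoherentD_of_iso (restrictDInDIso (U i).ι F).symm ?_⟩
    haveI : Finite (G i).I := (hG i).finite
    exact isPseudoCoherentD_of_spApprox
      (@spApprox_zero_inD_of_epi _ _ _ (isFinLocFree_free _) (G i).π (G i).epi)
  · have h1 := (finiteType_top_cohomology_of_pseudoCoherent (-1) _ h).2
      (fun i hi => isZero_HD_inD F i (by omega))
    rw [show (-1 : ℤ) + 1 = 0 by norm_num] at h1
    exact isFP_of_iso (HDInDIso F) h1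
  · haveI : SheafOfModules.IsFinitePresentation (R := X.ringCatSheaf) F := h
    obtain ⟨ι, U, P, hP, hU, -⟩ := exists_isOpenCover_presentation_isFinite F
    apply isPseudoCoherentD_of_locally
    intro x
    obtain ⟨i, hi⟩ := exists_mem_of_isOpenCover hU x
    refine ⟨U i, hi, isPseudoCoherentD_of_iso (restrictDInDIso (U i).ι F).symm ?_⟩
    have := hP i
    haveI : Finite (P i).generators.I :=
      (Presentation.IsFinite.isFiniteType_generators (p := P i)).finite
    haveI : Finite (P i).relations.I :=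
      (Presentation.IsFinite.isFiniteType_relations (p := P i)).finite
    exact @isPseudoCoherentD_inD_of_presentation _ _ _ _ (isFinLocFree_free _)
      (isFinLocFree_free _) (P i).generators.π (P i).generators.epi (P i).relations.π
      (P i).relations.epi

end Groth.Agent.R2.H4.PCSingle
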