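import Mathlib
import Groth.Agent.R2.H4Betti
import Groth.Agent.R2.H4PCSingle
import Groth.Agent.Lib.Helper26ModRank
set_option backward.isDefEq.respectTransparency.types false

/-!
# Field valued points, their Betti numbers, and locally free modules placed in one degree
(helper4, round 2)
-/

set_option autoImplicit false
universe u
open CategoryTheory CategoryTheory.Limits AlgebraicGeometry HomologicalComplex Opposite
  TopologicalSpace

attribute [local instance] HasDerivedCategory.standard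

namespace Groth.Agent.R2.H4.FieldPt

open DerivedCategory Groth.Agent.R2.H4.Perf Groth.Agent.R2.H4.Euler Groth.Agent.R2.H4.EulerChar
  Groth.Agent.R2.H4.Betti Groth.Agent.R2.H4.Conn Groth.Agent.R2.H4.LocHtpy
  Groth.Agent.Lib.Helper1.Sky

attribute [local instance] hasLpull

/-- a "field valued point" of `X`: an affine scheme `Z` whose ring of global functions is a field
and all of whose points lie in every neighbourhood of `z`, with a morphism to `X`. -/
structure Pt (X : Scheme.{u}) where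
  /-- the source -/
  Z : Scheme.{u}
  aff : IsAffine Z
  /-- the point -/
  z : Z
  hz : ∀ W : Z.Opens, z ∈ W → W = ⊤
  hK : IsField (Coh.Γtop Z)
  /-- the morphism -/
  k : Z ⟶ X

attribute [instance] Pt.aff

variable {X : Scheme.{u}}

/-- the image point. -/
def Pt.base (pt : Pt X) : X := pt.k pt.z

/-- the point `Spec κ(x) ⟶ X`. -/
noncomputable def Pt.ofPoint (x : X) : Pt X where
  Z := Spec (X.residueField x)
  aff := inferInstance
  z := Classical.choice inferInstance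
  hz := fun W hW => opens_eq_top_of_isField _ (Field.toIsField _) _ W hW
  hK := isField_Γtop_Spec _ (Field.toIsField _)
  k := X.fromSpecResidueField x

lemma Pt.ofPoint_base (x : X) : (Pt.ofPoint x).base = x := by
  have h2 : (Pt.ofPoint x).base ∈ Set.range (X.fromSpecResidueField x) := ⟨_, rfl⟩
  rw [Scheme.range_fromSpecResidueField] at h2
  exact h2

/-- composition with a morphism. -/
def Pt.comp {Y : Scheme.{u}} (pt : Pt Y) (f : Y ⟶ X) : Pt X :=
  { pt with k := pt.k ≫ f }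

lemma Pt.comp_base {Y : Scheme.{u}} (pt : Pt Y) (f : Y ⟶ X) : (pt.comp f).base = f pt.base := rfl

lemma Pt.range_subset (pt : Pt X) (V : X.Opens) (h : pt.base ∈ V) :
    Set.range pt.k ⊆ Set.range V.ι := by
  rw [Scheme.Opens.range_ι]
  rintro _ ⟨w, rfl⟩
  have h1 : pt.k ⁻¹ᵁ V = ⊤ := pt.hz _ h
  have h2 : w ∈ pt.k ⁻¹ᵁ V := by rw [h1]; trivial
  exact h2

/-- lifting to an open subscheme. -/
noncomputable def Pt.lift (pt : Pt X) (V : X.Opens) (h : pt.base ∈ V) : Pt V :=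
  { pt with k := IsOpenImmersion.lift V.ι pt.k (pt.range_subset V h) }

lemma Pt.lift_k_ι (pt : Pt X) (V : X.Opens) (h : pt.base ∈ V) : (pt.lift V h).k ≫ V.ι = pt.k :=
  IsOpenImmersion.lift_fac _ _ _

lemma Pt.lift_base (pt : Pt X) (V : X.Opens) (h : pt.base ∈ V) :
    (pt.lift V h).base = ⟨pt.base, h⟩ := by
  apply Subtype.ext
  have h1 : ((pt.lift V h).k ≫ V.ι) pt.z = pt.k pt.z := by rw [Pt.lift_k_ι]; rfl
  exact h1

/-- the Betti numbers of `K` at a field valued point. -/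
noncomputable def betti (pt : Pt X) (K : DCoh.D X) (j : ℤ) : ℕ :=
  Module.finrank (Coh.Γtop pt.Z) ((DCoh.HD ((DCoh.Lpull pt.k).obj K) j).val.obj (op ⊤))

lemma betti_of_iso (pt : Pt X) {K K' : DCoh.D X} (e : K ≅ K') (j : ℤ) :
    betti pt K j = betti pt K' j :=
  ((secTop pt.Z).mapIso ((DerivedCategory.homologyFunctor _ j).mapIso
    ((DCoh.Lpull pt.k).mapIso e))).toLinearEquiv.finrank_eq

lemma betti_comp {Y : Scheme.{u}} (pt : Pt Y) (f : Y ⟶ X) (K : DCoh.D X) (j : ℤ) :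
    betti (pt.comp f) K j = betti pt ((DCoh.Lpull f).obj K) j := by
  obtain ⟨c1⟩ := nonempty_lpull_comp_iso pt.k f
  exact ((secTop pt.Z).mapIso ((DerivedCategory.homologyFunctor _ j).mapIso
    (c1.app K).symm)).toLinearEquiv.finrank_eq

lemma betti_lift (pt : Pt X) (V : X.Opens) (h : pt.base ∈ V) (K : DCoh.D X) (j : ℤ) :
    betti (pt.lift V h) ((DCoh.restrictD V.ι).obj K) j = betti pt K j := by
  obtain ⟨c1⟩ := nonempty_lpull_comp_iso (pt.lift V h).k V.ι
  obtain ⟨c2⟩ := nonempty_lpull_congr (pt.lift_k_ι V h)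
  exact ((secTop pt.Z).mapIso ((DerivedCategory.homologyFunctor _ j).mapIso
    ((DCoh.Lpull (pt.lift V h).k).mapIso (lpullRestrictIso V K).symm ≪≫ c1.app K ≪≫
      c2.app K))).toLinearEquiv.finrank_eq

/-- Betti numbers of a bounded complex of finite free modules. -/
theorem betti_eq_of_free (pt : Pt X) (P : CochainComplex X.Modules ℤ) (a b : ℤ)
    (hv : DCoh.VanishesOutside P a b) (n : ℤ → ℕ)
    (hn : ∀ j, Nonempty (P.X j ≅ FlatMod.freeMod X (n j))) (j : ℤ) :
    (betti pt (Q.obj P) j : ℤ) =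
      Module.finrank (Coh.Γtop pt.Z) ((fib pt.k).obj (cokernel (P.d (j - 1) j))) +
      Module.finrank (Coh.Γtop pt.Z) ((fib pt.k).obj (cokernel (P.d j (j + 1)))) - n (j + 1) :=
  finrank_HD_lpull_eq pt.z pt.hz pt.hK pt.k P a b hv n hn (Q.obj P) (𝟙 _) j (Conn.of_isIso _ _)

theorem finrank_fib_le_iff (pt : Pt X) (M : X.Modules) (hM : Coh.IsQCoh M) (hft : CohB1.IsFT M)
    (ρ : ℕ) :
    Module.finrank (Coh.Γtop pt.Z) ((fib pt.k).obj M) ≤ ρ ↔
      pt.base ∉ (Fitt.sheafIdeal M ρ).support :=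
  finrank_pullback_le_iff pt.z pt.hK pt.k M hM hft ρ

lemma finrank_fib_of_iso (pt : Pt X) {M N : X.Modules} (e : M ≅ N) :
    Module.finrank (Coh.Γtop pt.Z) ((fib pt.k).obj M) =
      Module.finrank (Coh.Γtop pt.Z) ((fib pt.k).obj N) :=
  ((fib pt.k).mapIso e).toLinearEquiv.finrank_eq

lemma finrank_fib_freeMod (pt : Pt X) {M : X.Modules} {n : ℕ} (e : M ≅ FlatMod.freeMod X n) :
    Module.finrank (Coh.Γtop pt.Z) ((fib pt.k).obj M) = n :=
  (finrank_sections_of_iso_freeMod pt.hK _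
    ((Scheme.Modules.pullback pt.k).mapIso e ≪≫ pullbackFreeModIso pt.k n)).2

section LFDeg

/-- `K` is a finite locally free module of rank `r` placed in degree `i`. -/
def LFDeg (i : ℤ) (r : ℕ) {Y : Scheme.{u}} (K : DCoh.D Y) : Prop :=
  ∃ V : Y.Modules, FlatMod.IsFinLocFreeOfRank r V ∧
    Nonempty (K ≅ (singleFunctor Y.Modules i).obj V)

lemma lfDeg_iff (i : ℤ) (r : ℕ) {Y : Scheme.{u}} (K : DCoh.D Y) :
    LFDeg i r K ↔ ∃ V : Y.Modules, FlatMod.IsFinLocFreeOfRank r V ∧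
      Nonempty (K ≅ (DCoh.inD Y V)⟦-i⟧) := by
  have e : ∀ V : Y.Modules, (DCoh.inD Y V)⟦-i⟧ ≅ (singleFunctor Y.Modules i).obj V := fun V =>
    ((singleFunctors Y.Modules).shiftIso (-i) i 0 (by omega)).app V
  constructor
  · rintro ⟨V, hV, ⟨e'⟩⟩
    exact ⟨V, hV, ⟨e' ≪≫ (e V).symm⟩⟩
  · rintro ⟨V, hV, ⟨e'⟩⟩
    exact ⟨V, hV, ⟨e' ≪≫ e V⟩⟩

lemma LFDeg.of_iso {i : ℤ} {r : ℕ} {Y : Scheme.{u}} {K K' : DCoh.D Y} (e : K ≅ K')
    (h : LFDeg i r K) : LFDeg i r K' := by
  obtain ⟨V, hV, ⟨e'⟩⟩ := h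
  exact ⟨V, hV, ⟨e.symm ≪≫ e'⟩⟩

lemma isFinLocFree_of_rank {Y : Scheme.{u}} {r : ℕ} {V : Y.Modules}
    (h : FlatMod.IsFinLocFreeOfRank r V) : FlatMod.IsFinLocFree V := fun y => by
  obtain ⟨U, hy, e⟩ := h y
  exact ⟨U, r, hy, e⟩

lemma isFinLocFreeOfRank_restrict {U Y : Scheme.{u}} (j : U ⟶ Y) [IsOpenImmersion j] {r : ℕ}
    {V : Y.Modules} (h : FlatMod.IsFinLocFreeOfRank r V) :
    FlatMod.IsFinLocFreeOfRank r ((Scheme.Modules.restrictFunctor j).obj V) := fun y => by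
  obtain ⟨W, hyW, ⟨e⟩⟩ := h (j y)
  refine ⟨j ⁻¹ᵁ W, hyW, ⟨?_⟩⟩
  exact ((Scheme.Modules.restrictFunctorComp (j ⁻¹ᵁ W).ι j).app V).symm ≪≫
    (Scheme.Modules.restrictFunctorCongr (morphismRestrict_ι j W).symm).app V ≪≫
    (Scheme.Modules.restrictFunctorComp (j ∣_ W) W.ι).app V ≪≫
    (Scheme.Modules.restrictFunctor (j ∣_ W)).mapIso e ≪≫
    Groth.Agent.Lib.Helper20.LocFree.restrictFreeMod _ r

lemma LFDeg.restrict {i : ℤ} {r : ℕ} {U Y : Scheme.{u}} (j : U ⟶ Y) [IsOpenImmersion j]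
    {K : DCoh.D Y} (h : LFDeg i r K) : LFDeg i r ((DCoh.restrictD j).obj K) := by
  obtain ⟨V, hV, ⟨e⟩⟩ := h
  exact ⟨(Scheme.Modules.restrictFunctor j).obj V, isFinLocFreeOfRank_restrict j hV,
    ⟨(DCoh.restrictD j).mapIso e ≪≫
      ((Scheme.Modules.restrictFunctor j).mapDerivedCategorySingleFunctor i).app V⟩⟩

lemma isLocalPred_lfDeg (i : ℤ) (r : ℕ) : IsLocalPred (fun U (K : DCoh.D U) => LFDeg i r K) :=
  ⟨fun e h => h.of_iso e, fun j _ _ h => h.restrict j⟩

/-- the derived pullback of a finite locally free module placed in degree `i`. -/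
lemma LFDeg.lpull {i : ℤ} {r : ℕ} {T Y : Scheme.{u}} (f : T ⟶ Y) {K : DCoh.D Y}
    (h : LFDeg i r K) : LFDeg i r ((DCoh.Lpull f).obj K) := by
  obtain ⟨V, hV, ⟨e⟩⟩ := h
  have hVf : FlatMod.IsFinLocFree V := isFinLocFree_of_rank hV
  haveI : V.IsQuasicoherent := Groth.Agent.Helper18Strict.isQCoh_of_isFP V
    (Groth.Agent.Lib.Helper2.LocFree.isFP_of_isFinLocFree V hVf)
  let C : CochainComplex Y.Modules ℤ :=
    (HomologicalComplex.single Y.Modules (ComplexShape.up ℤ) i).obj V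
  have hC : KFFs C := by
    refine kffs_of_vanishesOutside C i i (fun j hj => ?_) (fun j => ?_)
    · exact HomologicalComplex.isZero_single_obj_X _ _ _ _ (by omega)
    · by_cases hj : j = i
      · subst hj
        exact Groth.Agent.R2.H4.Flat.isFlat_of_iso
          (HomologicalComplex.singleObjXSelf (ComplexShape.up ℤ) j V).symm
          (isFlat_of_isFinLocFree' V hVf)
      · exact Groth.Agent.R2.H4.Flat.isFlat_of_isZero
          (HomologicalComplex.isZero_single_obj_X _ _ _ _ hj)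
  refine ⟨(Scheme.Modules.pullback f).obj V,
    Groth.Agent.Lib.Helper26.ModRank.isFinLocFreeOfRank_pullback f V hV, ⟨?_⟩⟩
  exact (DCoh.Lpull f).mapIso e ≪≫ lpullIso f C hC ≪≫
    Q.mapIso ((HomologicalComplex.singleMapHomologicalComplex (Scheme.Modules.pullback f)
      (ComplexShape.up ℤ) i).app V)

/-- the Betti numbers of a finite locally free module of rank `r` placed in degree `i`. -/
theorem betti_of_lfDeg {i : ℤ} {r : ℕ} {K : DCoh.D X} (h : LFDeg i r K) (pt : Pt X) (j : ℤ) :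
    betti pt K j = if j = i then r else 0 := by
  obtain ⟨V, hV, ⟨e⟩⟩ := h
  obtain ⟨U, hyU, ⟨eU⟩⟩ := hV pt.base
  rw [← betti_lift pt U hyU K j]
  let P : CochainComplex (U : Scheme.{u}).Modules ℤ :=
    (HomologicalComplex.single _ (ComplexShape.up ℤ) i).obj (FlatMod.freeMod (U : Scheme.{u}) r)
  have eK : (DCoh.restrictD U.ι).obj K ≅ Q.obj P :=
    (DCoh.restrictD U.ι).mapIso e ≪≫
      ((Scheme.Modules.restrictFunctor U.ι).mapDerivedCategorySingleFunctor i).app V ≪≫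
      (singleFunctor _ i).mapIso eU
  rw [betti_of_iso _ eK j]
  let n : ℤ → ℕ := fun j => if j = i then r else 0
  have hn : ∀ j, Nonempty (P.X j ≅ FlatMod.freeMod (U : Scheme.{u}) (n j)) := fun j => by
    by_cases hj : j = i
    · subst hj
      simp only [n, if_true]
      exact ⟨HomologicalComplex.singleObjXSelf (ComplexShape.up ℤ) j _⟩
    · simp only [n, if_neg hj]
      exact ⟨IsZero.iso (HomologicalComplex.isZero_single_obj_X _ _ _ _ hj)
        (isZero_freeMod_zero _)⟩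
  have hv : DCoh.VanishesOutside P i i := fun j hj =>
    HomologicalComplex.isZero_single_obj_X _ _ _ _ (by omega)
  have h1 := betti_eq_of_free (pt.lift U hyU) P i i hv n hn j
  have hd : ∀ p q : ℤ, P.d p q = 0 := fun p q => HomologicalComplex.single_obj_d _ _ _ _ _
  have hc : ∀ p q : ℤ, Module.finrank (Coh.Γtop (pt.lift U hyU).Z)
      ((fib (pt.lift U hyU).k).obj (cokernel (P.d p q))) = n q := fun p q => by
    rw [hd p q]
    obtain ⟨eq⟩ := hn q
    exact finrank_fib_freeMod _ (cokernelZeroIsoTarget ≪≫ eq)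
  rw [hc, hc] at h1
  have h2 : (betti (pt.lift U hyU) (Q.obj P) j : ℤ) = n j := by rw [h1]; ring
  exact_mod_cast h2

end LFDeg

end Groth.Agent.R2.H4.FieldPt
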