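import Mathlib
import Groth.Agent.Lib.Helper18FittSh5
import Groth.Agent.Lib.Helper20FormalPull
set_option backward.isDefEq.respectTransparency.types false

/-!
# The flattening strata of a quasi-coherent module of finite type (helper4, round 2)

Built on helper18's Fitting ideal sheaves (`Helper18FittSh*`): `f^*F` is locally free of rank `r`
iff `f` factors through the locally closed subscheme `V(Fitt_{<r}) ∖ V(Fitt_r)`.
-/

set_option autoImplicit false
universe u
open CategoryTheory CategoryTheory.Limits AlgebraicGeometry TopologicalSpace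

namespace Groth.Agent.R2.H4.FittStrat

open Groth.Agent.Helper18FittSh Groth.Agent.Helper18Fitt

variable {X : Scheme.{u}}

/-- a morphism factors through a closed subscheme iff the pullback of its ideal sheaf vanishes. -/
lemma exists_fac_subschemeι_iff {T : Scheme.{u}} (f : T ⟶ X) (I : X.IdealSheafData) :
    (∃ g : T ⟶ I.subscheme, g ≫ I.subschemeι = f) ↔ I.comap f = ⊥ := by
  constructor
  · rintro ⟨g, rfl⟩
    rw [Scheme.IdealSheafData.comap_comp]
    have : I.comap I.subschemeι = ⊥ := by
      rw [eq_bot_iff, ← Scheme.IdealSheafData.le_map_iff_comap_le, Scheme.IdealSheafData.map]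
      rw [Scheme.Hom.ker_comp_of_isIso, Scheme.IdealSheafData.ker_subschemeι]
    rw [this, Scheme.IdealSheafData.comap_bot]
  · intro h
    have h1 : I ≤ f.ker := by
      have h2 : I.comap f ≤ ⊥ := h.le
      rw [← Scheme.IdealSheafData.le_map_iff_comap_le, Scheme.IdealSheafData.map,
        Scheme.Hom.ker_comp_of_isIso] at h2
      exact h2
    refine ⟨IsClosedImmersion.lift I.subschemeι f ?_, IsClosedImmersion.lift_fac _ _ _⟩
    rwa [Scheme.IdealSheafData.ker_subschemeι]

lemma comap_eq_top_iff {T : Scheme.{u}} (f : T ⟶ X) (J : X.IdealSheafData) :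
    J.comap f = ⊤ ↔ ∀ t : T, f t ∉ J.support := by
  rw [← Scheme.IdealSheafData.support_eq_bot_iff, Scheme.IdealSheafData.support_comap]
  constructor
  · intro h t ht
    have h1 : t ∈ (J.support.preimage f.continuous : Closeds T) := ht
    rw [h] at h1
    exact h1
  · intro h
    ext t
    simp only [Closeds.coe_preimage, Set.mem_preimage, SetLike.mem_coe, Closeds.coe_bot,
      Set.mem_empty_iff_false, iff_false]
    exact h t

/-- the Fitting ideal sheaves of a quasi-coherent module of finite type increase. -/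
lemma sheafIdeal_mono (F : X.Modules) [F.IsQuasicoherent] (hF : CohB1.IsFT F) {k l : ℕ}
    (h : k ≤ l) : Fitt.sheafIdeal F k ≤ Fitt.sheafIdeal F l := by
  have hfin := finite_sections F hF
  rw [Scheme.IdealSheafData.le_def]
  intro U
  haveI := hfin U
  rw [sheafIdeal_ideal F k hfin U, sheafIdeal_ideal F l hfin U]
  exact fitt_mono h

/-- the pullback of `F` is locally free of rank `r` iff the pullbacks of the relevant Fitting
ideals are `0`, resp. `O`. -/
lemma isFinLocFreeOfRank_pullback_iff (F : X.Modules) [F.IsQuasicoherent] (hF : CohB1.IsFT F)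
    (r : ℕ) {T : Scheme.{u}} (f : T ⟶ X) :
    FlatMod.IsFinLocFreeOfRank r ((Scheme.Modules.pullback f).obj F) ↔
      (∀ k, k < r → (Fitt.sheafIdeal F k).comap f = ⊥) ∧ (Fitt.sheafIdeal F r).comap f = ⊤ := by
  have hq : Coh.IsQCoh F := inferInstance
  haveI : SheafOfModules.IsFiniteType (R := X.ringCatSheaf) F := hF
  have hGq : Coh.IsQCoh ((Scheme.Modules.pullback f).obj F) :=
    Groth.Agent.Lib.Helper20.PullbackAff.isQuasicoherent_pullback f F
  have hGft : CohB1.IsFT ((Scheme.Modules.pullback f).obj F) :=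
    Groth.Agent.Lib.Helper20.FormalPull.isFiniteType_pullback f F
  rw [main_S8875 T _ hGq hGft r]
  simp_rw [← main_S8872 f F hq hF]
  constructor
  · rintro ⟨h1, h2⟩
    exact ⟨h1, h2 r le_rfl⟩
  · rintro ⟨h1, h2⟩
    refine ⟨h1, fun k hk => ?_⟩
    rw [eq_top_iff, ← h2]
    exact Scheme.IdealSheafData.comap_mono f (sheafIdeal_mono F hF hk)

/-- S10847: the flattening stratum of rank `r` of a quasi-coherent module of finite type. -/
theorem exists_immersion_factors_iff (F : X.Modules) [F.IsQuasicoherent] (hF : CohB1.IsFT F)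
    (r : ℕ) :
    ∃ (Z : Scheme.{u}) (i : Z ⟶ X), IsImmersion i ∧ ∀ (T : Scheme.{u}) (f : T ⟶ X),
      (∃ g : T ⟶ Z, g ≫ i = f) ↔
        FlatMod.IsFinLocFreeOfRank r ((Scheme.Modules.pullback f).obj F) := by
  let I : X.IdealSheafData := ⨆ k : Fin r, Fitt.sheafIdeal F k
  let J := Fitt.sheafIdeal F r
  let W : X.Opens := ⟨(J.support : Set X)ᶜ, J.support.isClosed.isOpen_compl⟩
  let W' : I.subscheme.Opens := I.subschemeι ⁻¹ᵁ W
  refine ⟨W', W'.ι ≫ I.subschemeι, inferInstance, fun T f => ?_⟩
  rw [isFinLocFreeOfRank_pullback_iff F hF r f]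
  have hI : I.comap f = ⊥ ↔ ∀ k, k < r → (Fitt.sheafIdeal F k).comap f = ⊥ := by
    show (⨆ k : Fin r, Fitt.sheafIdeal F k).comap f = ⊥ ↔ _
    rw [(Scheme.IdealSheafData.map_gc f).l_iSup, iSup_eq_bot]
    exact ⟨fun h k hk => h ⟨k, hk⟩, fun h k => h k.1 k.2⟩
  rw [← hI, ← exists_fac_subschemeι_iff, comap_eq_top_iff]
  constructor
  · rintro ⟨g, rfl⟩
    refine ⟨⟨g ≫ W'.ι, by rw [Category.assoc]⟩, fun t => ?_⟩
    exact (g t).2
  · rintro ⟨⟨g₁, rfl⟩, h2⟩
    have hr : Set.range g₁ ⊆ Set.range W'.ι := by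
      rw [Scheme.Opens.range_ι]
      rintro _ ⟨t, rfl⟩
      exact h2 t
    exact ⟨IsOpenImmersion.lift W'.ι g₁ hr, by
      rw [← Category.assoc, IsOpenImmersion.lift_fac]⟩

end Groth.Agent.R2.H4.FittStrat
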