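import Mathlib
import Groth.Agent.R2.H27FlatAmp
import Groth.Agent.Lib.Helper1TorF
import Groth.Agent.R2.H4FlatPerf
import Groth.Agent.R2.H4PerfSummand
set_option backward.isDefEq.respectTransparency.types false

/-!
# Direct summands of perfect objects are perfect (helper4, round 2)
-/

set_option autoImplicit false
universe u
open CategoryTheory CategoryTheory.Limits AlgebraicGeometry HomologicalComplex
  CategoryTheory.Pretriangulated

attribute [local instance] HasDerivedCategory.standard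

namespace Groth.Agent.R2.H4.FlatPerf

open DerivedCategory Groth.Agent.R2.H4.Conn Groth.Agent.R2.H4.LocHtpy Groth.Agent.R2.H4.Perf
  Groth.Agent.R2.H4.Flat
open Groth.Agent.R2.H27.PushStalk Groth.Agent.R2.H27.FlatAmp Groth.Agent.Lib.Helper1.Tor

variable {X : Scheme.{u}}

lemma hasFlatAmplitudeIn_of_iso {K K' : DCoh.D X} (e : K ≅ K') (a b : ℤ)
    (h : DCoh.HasFlatAmplitudeIn a b K) : DCoh.HasFlatAmplitudeIn a b K' := by
  obtain ⟨E, hE, hfl, ⟨e'⟩⟩ := h
  exact ⟨E, hE, hfl, ⟨e' ≪≫ e⟩⟩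

/-- flat amplitude passes to retracts. -/
theorem hasFlatAmplitudeIn_of_retract (K M : DCoh.D X) (ι : K ⟶ M) (π : M ⟶ K)
    (h : ι ≫ π = 𝟙 K) (a b : ℤ) (hM : DCoh.HasFlatAmplitudeIn a b M) :
    DCoh.HasFlatAmplitudeIn a b K := by
  let FK := Q.objPreimage K
  let FM := Q.objPreimage M
  let eK : Q.obj FK ≅ K := Q.objObjPreimageIso K
  let eM : Q.obj FM ≅ M := Q.objObjPreimageIso M
  have hM' : DCoh.HasFlatAmplitudeIn a b (DCoh.toD X FM) :=
    hasFlatAmplitudeIn_of_iso eM.symm a b hM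
  have hst : StalkTorAmp a b FK := by
    intro x
    have h1 := hasTorAmp_stalk_of_hasFlatAmplitudeIn FM a b hM' x
    let ι' := (stalkDFactors x).inv.app FK ≫ (stalkD x).map (eK.hom ≫ ι ≫ eM.inv) ≫
      (stalkDFactors x).hom.app FM
    let π' := (stalkDFactors x).inv.app FM ≫ (stalkD x).map (eM.hom ≫ π ≫ eK.inv) ≫
      (stalkDFactors x).hom.app FK
    refine hasTorAmp_of_retract _ _ ι' π' ?_ a b h1
    dsimp only [ι', π']
    simp only [Category.assoc, Iso.hom_inv_id_app_assoc]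
    rw [← Functor.map_comp_assoc]
    simp only [Category.assoc, Iso.inv_hom_id_assoc]
    rw [reassoc_of% h]
    simp
  exact hasFlatAmplitudeIn_of_iso eK a b (hasFlatAmplitudeIn_of_stalkTorAmp FK a b hst)

/-- locally finite tor dimension passes to retracts. -/
theorem locHasFiniteTorDim_of_retract (K M : DCoh.D X) (ι : K ⟶ M) (π : M ⟶ K)
    (h : ι ≫ π = 𝟙 K) (hM : DCoh.LocHasFiniteTorDim M) : DCoh.LocHasFiniteTorDim K := by
  intro x
  obtain ⟨V, a, b, hx, hV⟩ := hM x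
  refine ⟨V, a, b, hx, fun F' ⟨eF'⟩ => ?_⟩
  have h1 := hV (Q.objPreimage M) ⟨Q.objObjPreimageIso M⟩
  have eM : Q.obj ((DCoh.restrictCx V).obj (Q.objPreimage M)) ≅ (DCoh.restrictD V.ι).obj M :=
    (restrictDQIso V.ι _).symm ≪≫ (DCoh.restrictD V.ι).mapIso (Q.objObjPreimageIso M)
  have eK : Q.obj ((DCoh.restrictCx V).obj F') ≅ (DCoh.restrictD V.ι).obj K :=
    (restrictDQIso V.ι _).symm ≪≫ (DCoh.restrictD V.ι).mapIso eF'
  refine hasFlatAmplitudeIn_of_iso eK.symm a b ?_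
  refine hasFlatAmplitudeIn_of_retract _ _ ((DCoh.restrictD V.ι).map ι)
    ((DCoh.restrictD V.ι).map π) ?_ a b (hasFlatAmplitudeIn_of_iso eM a b h1)
  rw [← Functor.map_comp, h, CategoryTheory.Functor.map_id]

/-- S0924. -/
theorem isPerfect_of_biprod (K L : DCoh.D X) [HasBinaryBiproduct K L]
    (h : DCoh.IsPerfect (K ⊞ L)) : DCoh.IsPerfect K ∧ DCoh.IsPerfect L := by
  rw [isPerfect_iff_pseudoCoherent_locFiniteTorDim] at h
  obtain ⟨h1, h2⟩ := h
  constructor
  · rw [isPerfect_iff_pseudoCoherent_locFiniteTorDim]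
    exact ⟨fun m => (isPseudoCoherentD_of_biprod m K L (h1 m)).1,
      locHasFiniteTorDim_of_retract K (K ⊞ L) biprod.inl biprod.fst (by simp) h2⟩
  · rw [isPerfect_iff_pseudoCoherent_locFiniteTorDim]
    exact ⟨fun m => (isPseudoCoherentD_of_biprod m K L (h1 m)).2,
      locHasFiniteTorDim_of_retract L (K ⊞ L) biprod.inr biprod.snd (by simp) h2⟩

end Groth.Agent.R2.H4.FlatPerf
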