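import Mathlib
import Groth.Agent.R2.H4PCTop
import Groth.Agent.Lib.Helper2RankLoc
set_option backward.isDefEq.respectTransparency.types false

/-!
# The locus where the cohomology sheaves of a perfect object are finite free (helper4, round 2)
-/

set_option autoImplicit false
universe u
open CategoryTheory CategoryTheory.Limits AlgebraicGeometry HomologicalComplex

attribute [local instance] HasDerivedCategory.standard

namespace Groth.Agent.R2.H4.FreeLocus

open DerivedCategory Groth.Agent.R2.H4.Conn Groth.Agent.R2.H4.LocHtpy Groth.Agent.R2.H4.Perf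
  Groth.Agent.R2.H4.Flat Groth.Agent.R2.H4.PCTop
open Groth.Agent.Lib.Helper1.Sky Groth.Agent.Lib.Helper1.FLF Groth.Agent.Lib.Helper20.LocFree
  Groth.Agent.Lib.Helper2.LocFree TopologicalSpace

section Algebra

open TensorProduct

/-- base change along a bijective ring homomorphism reflects finite freeness. -/
lemma free_finite_of_tensor {R S : Type*} [CommRing R] [CommRing S] [Algebra R S]
    (hσ : Function.Bijective (algebraMap R S)) (N : Type*) [AddCommGroup N] [Module R N]
    (h1 : Module.Free S (S ⊗[R] N)) (h2 : Module.Finite S (S ⊗[R] N)) :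
    Module.Free R N ∧ Module.Finite R N := by
  let τ : R ≃+* S := RingEquiv.ofBijective (algebraMap R S) hσ
  let φ : N ≃ₗ[R] S ⊗[R] N := (TensorProduct.lid R N).symm ≪≫ₗ
    TensorProduct.congr (LinearEquiv.ofBijective (Algebra.linearMap R S) hσ) (LinearEquiv.refl R N)
  have hfinS : Module.Finite R S := Module.Finite.of_surjective (Algebra.linearMap R S) hσ.2
  have h3 : Module.Finite R (S ⊗[R] N) := Module.Finite.trans S (S ⊗[R] N)
  let _ : RingHomInvPair (τ.symm : S →+* R) (τ : R →+* S) := RingHomInvPair.of_ringEquiv τ.symm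
  let _ : RingHomInvPair (τ : R →+* S) (τ.symm : S →+* R) := RingHomInvPair.of_ringEquiv τ
  let e : (S ⊗[R] N) ≃ₛₗ[(τ.symm : S →+* R)] (S ⊗[R] N) :=
    { AddEquiv.refl (S ⊗[R] N) with
      map_smul' := fun s x => by
        show s • x = (τ.symm s) • x
        rw [← algebraMap_smul S (τ.symm s) x]
        congr 1
        exact (τ.apply_symm_apply s).symm }
  have h4 : Module.Free R (S ⊗[R] N) := Module.Free.of_equiv e
  exact ⟨Module.Free.of_equiv φ.symm, Module.Finite.equiv φ.symm⟩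

end Algebra

section Stalk

variable {X : Scheme.{u}}

/-- the stalk of `M` at `x` is a finite free module over the local ring. -/
def StalkFF (M : X.Modules) (x : X) : Prop :=
  Module.Free (X.presheaf.stalk x) (M.presheaf.stalk x) ∧
    Module.Finite (X.presheaf.stalk x) (M.presheaf.stalk x)

lemma stalkFF_iff (M : X.Modules) (x : X) :
    StalkFF M x ↔ Module.Free (Ox x) ((stalkFun x).obj M) ∧
      Module.Finite (Ox x) ((stalkFun x).obj M) := Iff.rfl

lemma isFlatAt_iff (M : X.Modules) (x : X) :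
    FlatMod.IsFlatAt M x ↔ Module.Flat (Ox x) ((stalkFun x).obj M) := Iff.rfl

lemma stalkFF_of_iso {M N : X.Modules} (e : M ≅ N) (x : X) (h : StalkFF M x) : StalkFF N x := by
  rw [stalkFF_iff] at h ⊢
  obtain ⟨h1, h2⟩ := h
  let l := ((stalkFun x).mapIso e).toLinearEquiv
  exact ⟨Module.Free.of_equiv l, Module.Finite.equiv l⟩

lemma isFlatAt_of_iso {M N : X.Modules} (e : M ≅ N) (x : X) (h : FlatMod.IsFlatAt M x) :
    FlatMod.IsFlatAt N x := by
  rw [isFlatAt_iff] at h ⊢
  exact Module.Flat.of_linearEquiv ((stalkFun x).mapIso e).toLinearEquiv.symm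

lemma isFlatAt_of_stalkFF {M : X.Modules} {x : X} (h : StalkFF M x) : FlatMod.IsFlatAt M x := by
  obtain ⟨h1, h2⟩ := h
  exact Module.Flat.of_free

lemma stalkFF_of_isZero {M : X.Modules} (h : IsZero M) (x : X) : StalkFF M x := by
  rw [stalkFF_iff]
  have : Subsingleton ((stalkFun x).obj M) :=
    ModuleCat.subsingleton_of_isZero ((stalkFun x).map_isZero h)
  exact ⟨inferInstance, inferInstance⟩

/-- finite locally free modules have finite free stalks. -/
lemma stalkFF_of_isFinLocFree (N : X.Modules) (h : FlatMod.IsFinLocFree N) (x : X) :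
    StalkFF N x := by
  have := isFP_of_isFinLocFree N h
  exact ⟨(Groth.Agent.Lib.Helper2.RankLoc.isLocallyConstant_fibreRank_of_isFinLocFree N h).1 x,
    Groth.Agent.Lib.Helper2.FibreCrit.finite_stalk N x⟩

/-- the stalk of a restriction to an open subscheme, as a base change along the isomorphism of
local rings. -/
noncomputable def stalkRestrictIso {U : Scheme.{u}} (j : U ⟶ X) [IsOpenImmersion j]
    (M : X.Modules) (y : U) :
    (stalkFun y).obj ((Scheme.Modules.restrictFunctor j).obj M) ≅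
      (ModuleCat.extendScalars.{u, u, u} (j.stalkMap y).hom).obj ((stalkFun (j y)).obj M) :=
  (stalkFun y).mapIso ((Scheme.Modules.restrictFunctorIsoPullback j).app M) ≪≫
    (stalkPullbackIso j y).app M

lemma stalkFF_of_restrict {U : Scheme.{u}} (j : U ⟶ X) [IsOpenImmersion j] (M : X.Modules)
    (y : U) (h : StalkFF ((Scheme.Modules.restrictFunctor j).obj M) y) : StalkFF M (j y) := by
  rw [stalkFF_iff] at h ⊢
  obtain ⟨h1, h2⟩ := h
  letI : Algebra (Ox (j y)) (Ox y) := (j.stalkMap y).hom.toAlgebra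
  have hσ : Function.Bijective (algebraMap (Ox (j y)) (Ox y)) :=
    ConcreteCategory.bijective_of_isIso (j.stalkMap y)
  let l := (stalkRestrictIso j M y).toLinearEquiv
  have h3 : Module.Free (Ox y) (TensorProduct (Ox (j y)) (Ox y) ((stalkFun (j y)).obj M)) :=
    Module.Free.of_equiv l
  have h4 : Module.Finite (Ox y) (TensorProduct (Ox (j y)) (Ox y) ((stalkFun (j y)).obj M)) :=
    Module.Finite.equiv l
  exact free_finite_of_tensor hσ _ h3 h4

lemma isFlatAt_restrict {U : Scheme.{u}} (j : U ⟶ X) [IsOpenImmersion j] (M : X.Modules)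
    (y : U) (h : FlatMod.IsFlatAt M (j y)) :
    FlatMod.IsFlatAt ((Scheme.Modules.restrictFunctor j).obj M) y := by
  rw [isFlatAt_iff] at h ⊢
  have h1 := extendScalars_flat j y _ h
  exact @Module.Flat.of_linearEquiv _ _ _ _ _ _ _ _ h1 (stalkRestrictIso j M y).toLinearEquiv

end Stalk

section FreeAt

variable {X : Scheme.{u}}

/-- `M` is free of finite rank on a neighbourhood of `x`. -/
def FreeAt (M : X.Modules) (x : X) : Prop :=
  ∃ (U : X.Opens) (n : ℕ), x ∈ U ∧ Nonempty (M.restrict U.ι ≅ FlatMod.freeMod (↑U) n)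

lemma isFinLocFree_iff_freeAt (M : X.Modules) : FlatMod.IsFinLocFree M ↔ ∀ x, FreeAt M x :=
  Iff.rfl

lemma freeAt_of_iso {M N : X.Modules} (e : M ≅ N) (x : X) (h : FreeAt M x) : FreeAt N x := by
  obtain ⟨U, n, hx, ⟨i⟩⟩ := h
  exact ⟨U, n, hx, ⟨(Scheme.Modules.restrictFunctor U.ι).mapIso e.symm ≪≫ i⟩⟩

lemma freeAt_of_isZero {M : X.Modules} (h : IsZero M) (x : X) : FreeAt M x := by
  refine ⟨⊤, 0, trivial, ⟨IsZero.iso ((Scheme.Modules.restrictFunctor _).map_isZero h) ?_⟩⟩
  rw [IsZero.iff_id_eq_zero]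
  exact Sigma.hom_ext _ _ (fun j => Fin.elim0 j)

/-- the restriction of `M` to `V.ι ''ᵁ D` in terms of the iterated restriction. -/
noncomputable def restrictImageIso (M : X.Modules) (V : X.Opens) (D : (V : Scheme.{u}).Opens) :
    (Scheme.Modules.restrictFunctor (V.ι ''ᵁ D).ι).obj M ≅
      (Scheme.Modules.restrictFunctor (V.ι.isoImage D).inv).obj
        ((Scheme.Modules.restrictFunctor D.ι).obj ((Scheme.Modules.restrictFunctor V.ι).obj M)) :=
  (Scheme.Modules.restrictFunctorCongr (V.ι.isoImage_inv_ι D).symm).app M ≪≫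
    (Scheme.Modules.restrictFunctorComp (V.ι.isoImage D).inv (D.ι ≫ V.ι)).app M ≪≫
    (Scheme.Modules.restrictFunctor (V.ι.isoImage D).inv).mapIso
      ((Scheme.Modules.restrictFunctorComp D.ι V.ι).app M)

lemma freeAt_of_restrict (M : X.Modules) (V : X.Opens) (x : X) (hx : x ∈ V)
    (h : FreeAt ((Scheme.Modules.restrictFunctor V.ι).obj M) ⟨x, hx⟩) : FreeAt M x := by
  obtain ⟨D, n, hxD, ⟨e⟩⟩ := h
  exact ⟨V.ι ''ᵁ D, n, ⟨⟨x, hx⟩, hxD, rfl⟩, ⟨restrictImageIso M V D ≪≫
    (Scheme.Modules.restrictFunctor (V.ι.isoImage D).inv).mapIso e ≪≫ restrictFreeMod _ n⟩⟩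

lemma isFinLocFree_restrict_image (M : X.Modules) (V : X.Opens) (D : (V : Scheme.{u}).Opens)
    (h : FlatMod.IsFinLocFree ((Scheme.Modules.restrictFunctor D.ι).obj
      ((Scheme.Modules.restrictFunctor V.ι).obj M))) :
    FlatMod.IsFinLocFree ((Scheme.Modules.restrictFunctor (V.ι ''ᵁ D).ι).obj M) :=
  LocHtpy.isFinLocFree_of_iso (restrictImageIso M V D).symm (isFinLocFree_restrict _ _ h)

lemma freeAt_restrict (M : X.Modules) (V : X.Opens) (x : X) (hx : x ∈ V) (h : FreeAt M x) :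
    FreeAt ((Scheme.Modules.restrictFunctor V.ι).obj M) ⟨x, hx⟩ := by
  obtain ⟨U, n, hxU, ⟨e⟩⟩ := h
  refine ⟨V.ι ⁻¹ᵁ U, n, hxU, ⟨?_⟩⟩
  exact ((Scheme.Modules.restrictFunctorComp (V.ι ⁻¹ᵁ U).ι V.ι).app M).symm ≪≫
    (Scheme.Modules.restrictFunctorCongr (morphismRestrict_ι V.ι U).symm).app M ≪≫
    (Scheme.Modules.restrictFunctorComp (V.ι ∣_ U) U.ι).app M ≪≫
    (Scheme.Modules.restrictFunctor (V.ι ∣_ U)).mapIso e ≪≫ restrictFreeMod _ n

lemma exists_isFinLocFree_restrict {J : Type} [Finite J] (f : J → X.Modules) (x : X)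
    (hf : ∀ j, FreeAt (f j) x) :
    ∃ V : X.Opens, x ∈ V ∧
      ∀ j, FlatMod.IsFinLocFree ((Scheme.Modules.restrictFunctor V.ι).obj (f j)) := by
  choose U n hx e using hf
  refine ⟨⨅ j, U j, ?_, fun j => ?_⟩
  · have h : ((⨅ j, U j : X.Opens) : Set X) = ⋂ j, (U j : Set X) := Opens.coe_iInf U
    change x ∈ ((⨅ j, U j : X.Opens) : Set X)
    rw [h]
    exact Set.mem_iInter.2 hx
  · obtain ⟨e'⟩ := nonempty_restrict_iso_freeMod_of_le (f j) (iInf_le U j) (e j).some
    exact isFinLocFree_of_iso_freeMod _ e'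

lemma exists_isFinLocFree_restrict₂ {M₁ M₂ : X.Modules} {x : X} (h₁ : FreeAt M₁ x)
    (h₂ : FreeAt M₂ x) : ∃ V : X.Opens, x ∈ V ∧
      FlatMod.IsFinLocFree ((Scheme.Modules.restrictFunctor V.ι).obj M₁) ∧
      FlatMod.IsFinLocFree ((Scheme.Modules.restrictFunctor V.ι).obj M₂) := by
  obtain ⟨V, hxV, hV⟩ := exists_isFinLocFree_restrict (J := Bool)
    (fun b => if b then M₁ else M₂) x (fun b => by cases b <;> simpa)
  exact ⟨V, hxV, by simpa using hV true, by simpa using hV false⟩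

/-- a module whose restriction to `W` is finite locally free has finite free stalks on `W`. -/
lemma stalkFF_of_isFinLocFree_restrict (M : X.Modules) (W : X.Opens)
    (h : FlatMod.IsFinLocFree ((Scheme.Modules.restrictFunctor W.ι).obj M)) (y : X) (hy : y ∈ W) :
    StalkFF M y :=
  stalkFF_of_restrict W.ι M ⟨y, hy⟩ (stalkFF_of_isFinLocFree _ h ⟨y, hy⟩)

end FreeAt

section Pointwise

variable {X : Scheme.{u}}

/-- pointwise version of `isFinLocFree_X₁`. -/
theorem freeAt_X₁ (S : ShortComplex X.Modules) (hS : S.ShortExact) (x : X)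
    (h₂ : FreeAt S.X₂ x) (h₃ : FreeAt S.X₃ x) : FreeAt S.X₁ x := by
  obtain ⟨V, hxV, h₂', h₃'⟩ := exists_isFinLocFree_restrict₂ h₂ h₃
  let R := Scheme.Modules.restrictFunctor V.ι
  have hS' : (S.map R).ShortExact := hS.map_of_exact R
  have h1 := isFinLocFree_X₁ (S.map R) hS' h₂' h₃'
  exact freeAt_of_restrict S.X₁ V x hxV (h1 ⟨x, hxV⟩)

/-- a cokernel of a map between modules free near `x` which is flat at `x` is free near `x`. -/
theorem freeAt_of_isCokernel {A B C : X.Modules} (f : A ⟶ B) (g : B ⟶ C) (w : f ≫ g = 0)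
    (hc : IsColimit (CokernelCofork.ofπ g w)) (x : X) (hA : FreeAt A x) (hB : FreeAt B x)
    (hC : FlatMod.IsFlatAt C x) : FreeAt C x := by
  obtain ⟨V, hxV, hA', hB'⟩ := exists_isFinLocFree_restrict₂ hA hB
  let R := Scheme.Modules.restrictFunctor V.ι
  have w' : R.map f ≫ R.map g = 0 := by rw [← R.map_comp, w, R.map_zero]
  have hc' : IsColimit (CokernelCofork.ofπ (R.map g) w') := CokernelCofork.mapIsColimit _ hc R
  have := isFP_of_isCokernel (R.map f) (R.map g) w' hc' hA' hB'
  obtain ⟨D, m, hxD, h⟩ := exists_restrict_iso_freeMod_of_isFlatAt (R.obj C) ⟨x, hxV⟩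
    (isFlatAt_restrict V.ι C ⟨x, hxV⟩ hC)
  exact freeAt_of_restrict C V x hxV ⟨D, m, hxD, h⟩

/-- the kernel of a map between modules free near `x` whose cokernel is free near `x` is free
near `x`. -/
theorem freeAt_kernel {A B C K : X.Modules} (f : A ⟶ B) (g : B ⟶ C) (w : f ≫ g = 0)
    (hc : IsColimit (CokernelCofork.ofπ g w)) (k : K ⟶ A) (w' : k ≫ f = 0)
    (hk : IsLimit (KernelFork.ofι k w')) (x : X) (hA : FreeAt A x) (hB : FreeAt B x)
    (hC : FreeAt C x) : FreeAt K x := by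
  have hg : Epi g := epi_of_isColimit_cofork hc
  -- the image of `f`, as the kernel of `g`
  let S₁ : ShortComplex X.Modules := ShortComplex.mk (kernel.ι g) g (kernel.condition g)
  have hS₁ : S₁.ShortExact :=
    ShortComplex.ShortExact.mk' (ShortComplex.exact_of_f_is_kernel _ (kernelIsKernel g))
      (by dsimp [S₁]; infer_instance) hg
  have hI : FreeAt (kernel g) x := freeAt_X₁ S₁ hS₁ x hB hC
  let f' : A ⟶ kernel g := kernel.lift g f w
  have hf' : Epi f' := by
    have hS : (ShortComplex.mk f g w).Exact := ShortComplex.exact_of_g_is_cokernel _ hc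
    exact (ShortComplex.exact_iff_epi_kernel_lift _).1 hS
  have w'' : k ≫ f' = 0 := by
    rw [← cancel_mono (kernel.ι g), Category.assoc, kernel.lift_ι, w', zero_comp]
  have hk' : IsLimit (KernelFork.ofι k w'') :=
    isKernelOfComp (kernel.ι g) f hk w'' (kernel.lift_ι g f w)
  let S₂ : ShortComplex X.Modules := ShortComplex.mk k f' w''
  have hS₂ : S₂.ShortExact :=
    ShortComplex.ShortExact.mk' (ShortComplex.exact_of_f_is_kernel _ hk')
      (mono_of_isLimit_fork hk) hf'
  exact freeAt_X₁ S₂ hS₂ x hA hI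

end Pointwise

section Complex

variable {Y : Scheme.{u}}

lemma isZero_homology_of_isZero_X (P : CochainComplex Y.Modules ℤ) (i : ℤ) (h : IsZero (P.X i)) :
    IsZero (P.homology i) :=
  (exactAt_iff_isZero_homology P i).1 (HomologicalComplex.ExactAt.of_isZero h)

/-- the inclusion of the cycles is a kernel of `toCycles`. -/
noncomputable def iCyclesIsKernelToCycles (P : CochainComplex Y.Modules ℤ) (i : ℤ)
    (w : P.iCycles i ≫ P.toCycles i (i + 1) = 0) :
    IsLimit (KernelFork.ofι (P.iCycles i) w) :=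
  isKernelOfComp (P.iCycles (i + 1)) (P.d i (i + 1)) (P.cyclesIsKernel i (i + 1) (by simp)) w
    (P.toCycles_i i (i + 1))

lemma iCycles_toCycles (P : CochainComplex Y.Modules ℤ) (i : ℤ) :
    P.iCycles i ≫ P.toCycles i (i + 1) = 0 := by
  rw [← cancel_mono (P.iCycles (i + 1)), Category.assoc, toCycles_i, zero_comp]
  exact P.iCycles_d i (i + 1)

/-- in a strictly perfect complex whose cohomology sheaves are all flat at `x`, the cycles and the
cohomology sheaves are free of finite rank near `x`. -/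
theorem freeAt_cycles (P : CochainComplex Y.Modules ℤ) (hP : DCoh.IsStrictlyPerfect P) (x : Y)
    (hfl : ∀ i, FlatMod.IsFlatAt (P.homology i) x) :
    ∀ i, FreeAt (P.cycles i) x := by
  obtain ⟨⟨a, b, hv⟩, hflf⟩ := hP
  have key : ∀ (k : ℕ) (i : ℤ), b + 1 ≤ i + k → FreeAt (P.cycles i) x := by
    intro k
    induction k with
    | zero =>
      intro i hi
      have hz : IsZero (P.X i) := hv i (Or.inr (by simpa using hi))
      exact freeAt_of_isZero (IsZero.of_mono (P.iCycles i) hz) x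
    | succ k ih =>
      intro i hi
      have h1 : FreeAt (P.cycles (i + 1)) x := ih (i + 1) (by push_cast at hi ⊢; omega)
      have h2 : FreeAt (P.homology (i + 1)) x :=
        freeAt_of_isCokernel (P.toCycles i (i + 1)) (P.homologyπ (i + 1))
          (P.toCycles_comp_homologyπ i (i + 1)) (P.homologyIsCokernel i (i + 1) (by simp)) x
          (hflf i x) h1 (hfl (i + 1))
      exact freeAt_kernel (P.toCycles i (i + 1)) (P.homologyπ (i + 1))
        (P.toCycles_comp_homologyπ i (i + 1)) (P.homologyIsCokernel i (i + 1) (by simp))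
        (P.iCycles i) (iCycles_toCycles P i) (iCyclesIsKernelToCycles P i _) x (hflf i x) h1 h2
  intro i
  obtain ⟨k, hk⟩ : ∃ k : ℕ, b + 1 ≤ i + k := ⟨(b + 1 - i).toNat, by omega⟩
  exact key k i hk

theorem freeAt_homology (P : CochainComplex Y.Modules ℤ) (hP : DCoh.IsStrictlyPerfect P) (x : Y)
    (hfl : ∀ i, FlatMod.IsFlatAt (P.homology i) x) :
    ∀ i, FreeAt (P.homology i) x := by
  intro i
  have h1 := freeAt_cycles P hP x hfl i
  exact freeAt_of_isCokernel (P.toCycles (i - 1) i) (P.homologyπ i)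
    (P.toCycles_comp_homologyπ (i - 1) i) (P.homologyIsCokernel (i - 1) i (by simp)) x
    (hP.2 (i - 1) x) h1 (hfl i)

end Complex

section Main

variable {X : Scheme.{u}}

/-- near a point where all cohomology sheaves of the perfect object `E` have finite free stalks,
all cohomology sheaves are finite locally free. -/
theorem exists_opens_isFinLocFree_HD (E : DCoh.D X) (hE : DCoh.IsPerfect E) (x : X)
    (hx : ∀ i : ℤ, StalkFF (DCoh.HD E i) x) :
    ∃ V : X.Opens, x ∈ V ∧
      ∀ i : ℤ, FlatMod.IsFinLocFree ((Scheme.Modules.restrictFunctor V.ι).obj (DCoh.HD E i)) := by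
  rw [isPerfect_iff, loc_iff_opens isLocalPred_spRep] at hE
  obtain ⟨V₀, hxV₀, P, hP, ⟨e⟩⟩ := hE x
  have iso : ∀ i : ℤ, Nonempty (P.homology i ≅
      (Scheme.Modules.restrictFunctor V₀.ι).obj (DCoh.HD E i)) := fun i => by
    obtain ⟨eH⟩ := nonempty_HD_restrict_iso V₀.ι E i
    exact ⟨((DerivedCategory.homologyFunctorFactors _ i).app P).symm ≪≫
      (DerivedCategory.homologyFunctor _ i).mapIso e ≪≫ eH⟩
  have hfl : ∀ i, FlatMod.IsFlatAt (P.homology i) ⟨x, hxV₀⟩ := fun i => by
    obtain ⟨ei⟩ := iso i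
    exact isFlatAt_of_iso ei.symm _
      (isFlatAt_restrict V₀.ι _ ⟨x, hxV₀⟩ (isFlatAt_of_stalkFF (hx i)))
  have hfree := freeAt_homology P hP ⟨x, hxV₀⟩ hfl
  obtain ⟨⟨a, b, hv⟩, -⟩ := hP
  obtain ⟨D, hxD, hD⟩ := exists_isFinLocFree_restrict (J := Set.Icc a b)
    (fun i => P.homology i.1) ⟨x, hxV₀⟩ (fun i => hfree i.1)
  refine ⟨V₀.ι ''ᵁ D, ⟨⟨x, hxV₀⟩, hxD, rfl⟩, fun i => ?_⟩
  apply isFinLocFree_restrict_image
  obtain ⟨ei⟩ := iso i
  refine LocHtpy.isFinLocFree_of_iso ((Scheme.Modules.restrictFunctor D.ι).mapIso ei) ?_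
  by_cases hi : a ≤ i ∧ i ≤ b
  · exact hD ⟨i, hi⟩
  · exact isFinLocFree_of_isZero _ ((Scheme.Modules.restrictFunctor D.ι).map_isZero
      (isZero_homology_of_isZero_X P i (hv i (by omega))))

/-- S0892. -/
theorem locus_cohomology_finite_free_isOpen (E : DCoh.D X) (hE : DCoh.IsPerfect E) :
    ∃ U : X.Opens,
      (U : Set X) = {x : X | ∀ i : ℤ,
        Module.Free (X.presheaf.stalk x) ((DCoh.HD E i).presheaf.stalk x) ∧
        Module.Finite (X.presheaf.stalk x) ((DCoh.HD E i).presheaf.stalk x)} ∧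
      (∀ i : ℤ, FlatMod.IsFinLocFree ((DCoh.HD E i).restrict U.ι)) ∧
      ∀ W : X.Opens, (∀ i : ℤ, FlatMod.IsFinLocFree ((DCoh.HD E i).restrict W.ι)) → W ≤ U := by
  let S : Set X := {x : X | ∀ i : ℤ, StalkFF (DCoh.HD E i) x}
  have hmax : ∀ W : X.Opens,
      (∀ i : ℤ, FlatMod.IsFinLocFree ((DCoh.HD E i).restrict W.ι)) → (W : Set X) ⊆ S :=
    fun W hW y hy i => stalkFF_of_isFinLocFree_restrict _ W (hW i) y hy
  have hopen : IsOpen S := by
    rw [isOpen_iff_forall_mem_open]
    intro x hx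
    obtain ⟨V, hxV, hV⟩ := exists_opens_isFinLocFree_HD E hE x hx
    exact ⟨V, hmax V hV, V.2, hxV⟩
  refine ⟨⟨S, hopen⟩, rfl, fun i => ?_, fun W hW => hmax W hW⟩
  intro y
  obtain ⟨V, hyV, hV⟩ := exists_opens_isFinLocFree_HD E hE y.1 y.2
  exact freeAt_restrict _ ⟨S, hopen⟩ y.1 y.2 (freeAt_of_restrict _ V y.1 hyV (hV i ⟨y.1, hyV⟩))

end Main

end Groth.Agent.R2.H4.FreeLocus
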