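import Mathlib
import Groth.Agent.R2.H4FieldPt
import Groth.Agent.Lib.Helper23FinTypeLocal
import Groth.Agent.Lib.Helper18FittSh4
set_option backward.isDefEq.respectTransparency.types false

/-!
# Local structure of a map of finite free modules near a field valued point (helper4, round 2)

* an epimorphic endomorphism of a quasi-coherent module of finite type is an isomorphism;
* `O^s ⊞ O^c ≅ O^(s+c)`;
* a map `σ : O^s ⟶ O^t` whose cokernel has fibre rank `0` at a point is an epimorphism near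
  that point, and if the fibre rank is `t - s` then `σ` is, near the point, a monomorphism with
  free cokernel.
-/

set_option autoImplicit false
universe u
open CategoryTheory CategoryTheory.Limits AlgebraicGeometry HomologicalComplex Opposite
  TopologicalSpace

attribute [local instance] HasDerivedCategory.standard

namespace Groth.Agent.R2.H4.LocStruct

open DerivedCategory Groth.Agent.R2.H4.Perf Groth.Agent.R2.H4.Euler Groth.Agent.R2.H4.EulerChar
  Groth.Agent.R2.H4.Betti Groth.Agent.R2.H4.Conn Groth.Agent.R2.H4.LocHtpy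
  Groth.Agent.R2.H4.FieldPt Groth.Agent.Lib.Helper1.Sky

attribute [local instance] hasLpull

section Basis

variable {X : Scheme.{u}}

/-- morphisms of modules agreeing on a basis of opens are equal (as in helper18's `OmLS11`). -/
theorem hom_ext_basis {M N : X.Modules} (φ ψ : M ⟶ N) (B : Set X.Opens)
    (hB : TopologicalSpace.Opens.IsBasis B)
    (h : ∀ U ∈ B, ∀ s : Γ(M, U), φ.app U s = ψ.app U s) : φ = ψ := by
  apply Scheme.Modules.hom_ext
  intro O
  ext s
  refine N.isSheaf.section_ext (U := op O) fun x hx => ?_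
  obtain ⟨V, hVB, hxV, hVO⟩ := TopologicalSpace.Opens.isBasis_iff_nbhd.mp hB hx
  refine ⟨V, hVO, hxV, ?_⟩
  have n1 := congr($(φ.mapPresheaf.naturality (homOfLE hVO).op) s)
  have n2 := congr($(ψ.mapPresheaf.naturality (homOfLE hVO).op) s)
  exact n1.symm.trans ((h V hVB _).trans n2)

/-- a morphism of modules injective on sections over a basis of opens is a monomorphism. -/
theorem mono_of_injective_app_basis {M N : X.Modules} (φ : M ⟶ N) (B : Set X.Opens)
    (hB : TopologicalSpace.Opens.IsBasis B)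
    (h : ∀ U ∈ B, Function.Injective (φ.app U)) : Mono φ := by
  refine Preadditive.mono_of_cancel_zero _ fun {P} g hg => ?_
  refine hom_ext_basis g 0 B hB fun U hU s => ?_
  apply h U hU
  have h1 := congr($((congrArg (fun θ => Scheme.Modules.Hom.app θ U) hg)) s)
  refine h1.trans ?_
  exact (map_zero _).symm

/-- an epimorphic endomorphism of a quasi-coherent module of finite type is an isomorphism. -/
theorem isIso_of_epi_endo (F : X.Modules) [F.IsQuasicoherent]
    [SheafOfModules.IsFiniteType (R := X.ringCatSheaf) F] (φ : F ⟶ F) [Epi φ] : IsIso φ := by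
  haveI : Mono φ := by
    refine mono_of_injective_app_basis φ _ X.isBasis_affineOpens ?_
    intro U hU
    haveI : Module.Finite Γ(X, U) Γ(F, U) :=
      Groth.Agent.Lib.Helper23.FinType.finite_of_isFiniteType F hU
    let f : Γ(F, U) →ₗ[Γ(X, U)] Γ(F, U) :=
      { toFun := fun x => φ.app U x
        map_add' := fun x y => map_add _ x y
        map_smul' := fun r x => Scheme.Modules.Hom.app_smul φ r x }
    exact OrzechProperty.injective_of_surjective_endomorphism f
      (Groth.Agent.Lib.Helper23.FinType.surjective_app_of_epi φ hU)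
  exact isIso_of_mono_of_epi φ

end Basis

section Free

variable (X : Scheme.{u})

/-- `O^s ⊞ O^c ≅ O^(s+c)`. -/
lemma nonempty_biprod_freeMod_iso (s c : ℕ) :
    Nonempty ((FlatMod.freeMod X s ⊞ FlatMod.freeMod X c) ≅ FlatMod.freeMod X (s + c)) := by
  let Xf : Fin s ⊕ Fin c → X.Modules := fun _ => Coh.structureModule X
  let cc : Cofan Xf := Cofan.mk (∐ Xf) (Sigma.ι Xf)
  have hcc : IsColimit cc := coproductIsCoproduct Xf
  let c₁ : Cofan (Xf ∘ Sum.inl) := Cofan.mk (FlatMod.freeMod X s)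
    (Sigma.ι (fun _ : Fin s => Coh.structureModule X))
  have hc₁ : IsColimit c₁ := coproductIsCoproduct (fun _ : Fin s => Coh.structureModule X)
  let c₂ : Cofan (Xf ∘ Sum.inr) := Cofan.mk (FlatMod.freeMod X c)
    (Sigma.ι (fun _ : Fin c => Coh.structureModule X))
  have hc₂ : IsColimit c₂ := coproductIsCoproduct (fun _ : Fin c => Coh.structureModule X)
  have h := MonoCoprod.isColimitBinaryCofanSum cc c₁ c₂ hcc hc₁ hc₂
  have e1 : (∐ Xf) ≅ FlatMod.freeMod X s ⨿ FlatMod.freeMod X c :=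
    IsColimit.coconePointUniqueUpToIso h (colimit.isColimit _)
  have e2 : (∐ Xf) ≅ FlatMod.freeMod X (s + c) :=
    Sigma.whiskerEquiv (f := Xf) (g := fun _ : Fin (s + c) => Coh.structureModule X)
      finSumFinEquiv (fun _ => Iso.refl _)
  exact ⟨biprod.isoCoprod _ _ ≪≫ e1.symm ≪≫ e2⟩

instance (n : ℕ) : (FlatMod.freeMod X n).IsQuasicoherent :=
  Groth.Agent.Helper18Strict.isQCoh_of_isFP _
    (Groth.Agent.Lib.Helper2.LocFree.isFP_of_isFinLocFree _ (isFinLocFree_freeMod X n))

instance (n : ℕ) : SheafOfModules.IsFiniteType (R := X.ringCatSheaf) (FlatMod.freeMod X n) :=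
  Groth.Agent.Helper18Strict.isFT_of_isFP _
    (Groth.Agent.Lib.Helper2.LocFree.isFP_of_isFinLocFree _ (isFinLocFree_freeMod X n))

end Free

section Abstract

variable {C : Type*} [Category C] [Abelian C]

/-- if `ψ ≫ π` is an epimorphism, where `π` is a cokernel of `σ`, then `(σ, ψ)` is an
epimorphism. -/
lemma epi_biprod_desc {A B M E : C} (σ : A ⟶ B) (π : B ⟶ M) (w : σ ≫ π = 0)
    (hπ : IsColimit (CokernelCofork.ofπ π w)) (ψ : E ⟶ B) [Epi (ψ ≫ π)] :
    Epi (biprod.desc σ ψ) := by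
  refine Preadditive.epi_of_cancel_zero _ fun {Z} g hg => ?_
  have h1 : σ ≫ g = 0 := by
    have := congrArg (fun t => biprod.inl ≫ t) hg
    simpa using this
  have h2 : ψ ≫ g = 0 := by
    have := congrArg (fun t => biprod.inr ≫ t) hg
    simpa using this
  obtain ⟨l, hl⟩ := CokernelCofork.IsColimit.desc' hπ g h1
  have hl' : π ≫ l = g := hl
  have h3 : (ψ ≫ π) ≫ l = 0 := by rw [Category.assoc, hl', h2]
  have h4 : l = 0 := by
    rw [← cancel_epi (ψ ≫ π), h3, comp_zero]
  rw [← hl', h4, comp_zero]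

/-- if `(σ, ψ) : A ⊞ E ⟶ B` is an isomorphism, then `σ` is a monomorphism with cokernel `E`. -/
lemma mono_and_cokernel_of_isIso_desc {A B E : C} (σ : A ⟶ B) (ψ : E ⟶ B)
    [IsIso (biprod.desc σ ψ)] : Mono σ ∧ Nonempty (cokernel σ ≅ E) := by
  have h : σ = biprod.inl ≫ biprod.desc σ ψ := by simp
  constructor
  · rw [h]
    infer_instance
  · exact ⟨cokernelIsoOfEq h ≪≫ cokernelCompIsIso _ _ ≪≫ cokernelBiprodInlIso⟩

end Abstract

section Near

variable {Y : Scheme.{u}}

/-- an epimorphism between modules which are both isomorphic to `O^t` is an isomorphism. -/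
lemma isIso_of_epi_of_iso_freeMod {E B : Y.Modules} (φ : E ⟶ B) [Epi φ] {t : ℕ}
    (eE : E ≅ FlatMod.freeMod Y t) (eB : B ≅ FlatMod.freeMod Y t) : IsIso φ := by
  haveI : Epi (eE.inv ≫ φ ≫ eB.hom) := epi_comp _ _
  haveI : IsIso (eE.inv ≫ φ ≫ eB.hom) := isIso_of_epi_endo _ _
  have h : φ = eE.hom ≫ (eE.inv ≫ φ ≫ eB.hom) ≫ eB.inv := by simp
  rw [h]
  infer_instance

/-- a map `σ : O^s ⟶ O^(s+c)` whose cokernel is generated by `c` sections is, locally, a
monomorphism with cokernel `O^c`. -/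
theorem exists_mono_and_coker_free {A B : Y.Modules} (σ : A ⟶ B) {s c : ℕ}
    (eA : A ≅ FlatMod.freeMod Y s) (eB : B ≅ FlatMod.freeMod Y (s + c))
    (lam : FlatMod.freeMod Y c ⟶ cokernel σ) [Epi lam] (y : Y) :
    ∃ V : Y.Opens, y ∈ V ∧ Mono ((Scheme.Modules.restrictFunctor V.ι).map σ) ∧
      Nonempty (cokernel ((Scheme.Modules.restrictFunctor V.ι).map σ) ≅
        FlatMod.freeMod (V : Scheme.{u}) c) := by
  obtain ⟨V, ψ, hyV, hψ⟩ := exists_local_lift (cokernel.π σ) lam (isFinLocFree_freeMod Y c) y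
  refine ⟨V, hyV, ?_⟩
  let R := Scheme.Modules.restrictFunctor V.ι
  have w : R.map σ ≫ R.map (cokernel.π σ) = 0 := by
    rw [← R.map_comp, cokernel.condition, R.map_zero]
  have hπ : IsColimit (CokernelCofork.ofπ (R.map (cokernel.π σ)) w) :=
    isColimitOfHasCokernelOfPreservesColimit R σ
  haveI : Epi (ψ ≫ R.map (cokernel.π σ)) := by
    rw [hψ]
    infer_instance
  haveI : Epi (biprod.desc (R.map σ) ψ) := epi_biprod_desc _ _ w hπ ψ
  obtain ⟨e0⟩ := nonempty_biprod_freeMod_iso (V : Scheme.{u}) s c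
  let eC : R.obj (FlatMod.freeMod Y c) ≅ FlatMod.freeMod (V : Scheme.{u}) c :=
    Groth.Agent.Lib.Helper20.LocFree.restrictFreeMod V.ι c
  let eE : (R.obj A ⊞ R.obj (FlatMod.freeMod Y c)) ≅ FlatMod.freeMod (V : Scheme.{u}) (s + c) :=
    biprod.mapIso (R.mapIso eA ≪≫ Groth.Agent.Lib.Helper20.LocFree.restrictFreeMod V.ι s) eC ≪≫ e0
  let eB' : R.obj B ≅ FlatMod.freeMod (V : Scheme.{u}) (s + c) :=
    R.mapIso eB ≪≫ Groth.Agent.Lib.Helper20.LocFree.restrictFreeMod V.ι (s + c)
  haveI : IsIso (biprod.desc (R.map σ) ψ) := isIso_of_epi_of_iso_freeMod _ eE eB'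
  obtain ⟨h1, ⟨h2⟩⟩ := mono_and_cokernel_of_isIso_desc (R.map σ) ψ
  exact ⟨h1, ⟨h2 ≪≫ eC⟩⟩

end Near

section NearPt

variable {U : Scheme.{u}}

lemma mono_map_of_natIso {C D : Type*} [Category C] [Category D] {F G : C ⥤ D} (e : F ≅ G)
    {A B : C} (σ : A ⟶ B) (h : Mono (G.map σ)) : Mono (F.map σ) := by
  have h1 : F.map σ = e.hom.app A ≫ G.map σ ≫ e.inv.app B := by simp
  rw [h1]
  infer_instance

lemma isQCoh_isFT_cokernel_of_free {A B : U.Modules} (σ : A ⟶ B) {s t : ℕ}
    (eA : A ≅ FlatMod.freeMod U s) (eB : B ≅ FlatMod.freeMod U t) :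
    Coh.IsQCoh (cokernel σ) ∧ CohB1.IsFT (cokernel σ) :=
  ⟨Groth.Agent.Helper18Strict.isQCoh_of_isFP _ (isFP_cokernel_of_free σ eA eB),
    Groth.Agent.Helper18Strict.isFT_of_isFP _ (isFP_cokernel_of_free σ eA eB)⟩

/-- a map of finite free modules whose cokernel has fibre rank `0` at a field valued point is an
epimorphism near that point. -/
theorem exists_epi_restrict {A B : U.Modules} (σ : A ⟶ B) {s t : ℕ}
    (eA : A ≅ FlatMod.freeMod U s) (eB : B ≅ FlatMod.freeMod U t) (pt : Pt U)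
    (hc : Module.finrank (Coh.Γtop pt.Z) ((fib pt.k).obj (cokernel σ)) = 0) :
    ∃ W : U.Opens, pt.base ∈ W ∧ Epi ((Scheme.Modules.restrictFunctor W.ι).map σ) := by
  obtain ⟨hq, hft⟩ := isQCoh_isFT_cokernel_of_free σ eA eB
  have h1 : pt.base ∉ (Fitt.sheafIdeal (cokernel σ) 0).support :=
    (finrank_fib_le_iff pt _ hq hft 0).1 hc.le
  obtain ⟨W, hW, π, hπ⟩ :=
    (Groth.Agent.Helper18FittSh.main_S8874 U _ hq hft pt.base 0).2 h1
  refine ⟨W, hW, ?_⟩
  let R := Scheme.Modules.restrictFunctor W.ι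
  have hz : IsZero (R.obj (cokernel σ)) := IsZero.of_epi π (isZero_freeMod_zero _)
  exact Preadditive.epi_of_isZero_cokernel' _ (isColimitOfHasCokernelOfPreservesColimit R σ) hz

/-- a map `σ : O^s ⟶ O^(s+c)` whose cokernel has fibre rank `c` at a field valued point is, near
that point, a monomorphism with cokernel `O^c`. -/
theorem exists_mono_and_coker_free_of_pt {A B : U.Modules} (σ : A ⟶ B) {s c : ℕ}
    (eA : A ≅ FlatMod.freeMod U s) (eB : B ≅ FlatMod.freeMod U (s + c)) (pt : Pt U)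
    (hc : Module.finrank (Coh.Γtop pt.Z) ((fib pt.k).obj (cokernel σ)) = c) :
    ∃ (U' : Scheme.{u}) (j : U' ⟶ U) (_ : IsOpenImmersion j) (y' : U'), j y' = pt.base ∧
      Mono ((Scheme.Modules.restrictFunctor j).map σ) ∧
      Nonempty (cokernel ((Scheme.Modules.restrictFunctor j).map σ) ≅ FlatMod.freeMod U' c) := by
  obtain ⟨hq, hft⟩ := isQCoh_isFT_cokernel_of_free σ eA eB
  have h1 : pt.base ∉ (Fitt.sheafIdeal (cokernel σ) c).support :=
    (finrank_fib_le_iff pt _ hq hft c).1 hc.le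
  obtain ⟨W, hW, π, hπ⟩ :=
    (Groth.Agent.Helper18FittSh.main_S8874 U _ hq hft pt.base c).2 h1
  let R := Scheme.Modules.restrictFunctor W.ι
  let lam : FlatMod.freeMod (W : Scheme.{u}) c ⟶ cokernel (R.map σ) :=
    π ≫ (PreservesCokernel.iso R σ).hom
  haveI : Epi lam := epi_comp _ _
  obtain ⟨V, hV, hmono, ⟨ecok⟩⟩ := exists_mono_and_coker_free (R.map σ)
    (R.mapIso eA ≪≫ Groth.Agent.Lib.Helper20.LocFree.restrictFreeMod W.ι s)
    (R.mapIso eB ≪≫ Groth.Agent.Lib.Helper20.LocFree.restrictFreeMod W.ι (s + c)) lam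
    ⟨pt.base, hW⟩
  let e := Scheme.Modules.restrictFunctorComp V.ι W.ι
  refine ⟨V, V.ι ≫ W.ι, inferInstance, ⟨⟨pt.base, hW⟩, hV⟩, rfl,
    mono_map_of_natIso e σ hmono, ⟨?_ ≪≫ ecok⟩⟩
  exact cokernel.mapIso _ _ (e.app A) (e.app B) (e.hom.naturality σ)

end NearPt

end Groth.Agent.R2.H4.LocStruct
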