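import Mathlib
import Groth.Agent.R2.H4LocStruct
set_option backward.isDefEq.respectTransparency.types false

/-!
# The locus where a perfect object is a locally free module placed in one degree
(helper4, round 2)
-/

set_option autoImplicit false
universe u
open CategoryTheory CategoryTheory.Limits AlgebraicGeometry HomologicalComplex Opposite
  TopologicalSpace

attribute [local instance] HasDerivedCategory.standard

namespace Groth.Agent.R2.H4.LocFreeDeg

open DerivedCategory Groth.Agent.R2.H4.Perf Groth.Agent.R2.H4.Euler Groth.Agent.R2.H4.EulerChar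
  Groth.Agent.R2.H4.Betti Groth.Agent.R2.H4.Conn Groth.Agent.R2.H4.LocHtpy
  Groth.Agent.R2.H4.FieldPt Groth.Agent.R2.H4.LocStruct Groth.Agent.Lib.Helper1.Sky
  Groth.Agent.Lib.Helper1.FLF Groth.Agent.Lib.Helper20.LocFree

attribute [local instance] hasLpull

section RepIn

/-- `K` is isomorphic to a complex of finite free modules placed in degrees `[a, b]`. -/
def SFRepIn (a b : ℤ) {X : Scheme.{u}} (K : DCoh.D X) : Prop :=
  ∃ (P : CochainComplex X.Modules ℤ), DCoh.VanishesOutside P a b ∧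
    (∀ i : ℤ, ∃ n : ℕ, Nonempty (P.X i ≅ FlatMod.freeMod X n)) ∧ Nonempty (Q.obj P ≅ K)

/-- `K` is isomorphic to a complex of finite locally free modules placed in degrees `[a, b]`. -/
def SPRepIn (a b : ℤ) {X : Scheme.{u}} (K : DCoh.D X) : Prop :=
  ∃ (P : CochainComplex X.Modules ℤ), DCoh.VanishesOutside P a b ∧
    (∀ i : ℤ, FlatMod.IsFinLocFree (P.X i)) ∧ Nonempty (Q.obj P ≅ K)

lemma isLocalPred_sfRepIn (a b : ℤ) : IsLocalPred (fun U (K : DCoh.D U) => SFRepIn a b K) := by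
  refine ⟨?_, ?_⟩
  · rintro U K K' e ⟨P, hv, hfree, ⟨e'⟩⟩
    exact ⟨P, hv, hfree, ⟨e' ≪≫ e⟩⟩
  · rintro U' U j _ K ⟨P, hv, hfree, ⟨e⟩⟩
    refine ⟨(resC j).obj P,
      fun i hi => (Scheme.Modules.restrictFunctor j).map_isZero (hv i hi), fun i => ?_,
      ⟨(restrictDQIso j P).symm ≪≫ (DCoh.restrictD j).mapIso e⟩⟩
    obtain ⟨n, ⟨en⟩⟩ := hfree i
    exact ⟨n, ⟨(Scheme.Modules.restrictFunctor j).mapIso en ≪≫ restrictFreeMod j n⟩⟩

lemma SFRepIn.mono {a b a' b' : ℤ} (ha : a' ≤ a) (hb : b ≤ b') {X : Scheme.{u}} {K : DCoh.D X}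
    (h : SFRepIn a b K) : SFRepIn a' b' K := by
  obtain ⟨P, hv, hfree, e⟩ := h
  exact ⟨P, fun i hi => hv i (by omega), hfree, e⟩

lemma SFRep.exists_sfRepIn {X : Scheme.{u}} {K : DCoh.D X} (h : SFRep K) :
    ∃ a b : ℤ, SFRepIn a b K := by
  obtain ⟨P, a, b, hv, hfree, e⟩ := h
  exact ⟨a, b, P, hv, hfree, e⟩

/-- a complex of finite locally free modules in degrees `[a, b]` is locally a complex of finite
free modules in degrees `[a, b]`. -/
theorem SPRepIn.exists_sfRepIn {a b : ℤ} {U : Scheme.{u}} {K : DCoh.D U} (h : SPRepIn a b K)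
    (y : U) : ∃ W : U.Opens, y ∈ W ∧ SFRepIn a b ((DCoh.restrictD W.ι).obj K) := by
  obtain ⟨P, hv, hfl, ⟨e⟩⟩ := h
  obtain ⟨W, n, hyW, hW⟩ := exists_common_open (J := Set.Icc a b) (fun i => P.X i.1)
    (fun i => hfl i.1) y
  refine ⟨W, hyW, (resC W.ι).obj P,
    fun i hi => (Scheme.Modules.restrictFunctor W.ι).map_isZero (hv i hi), fun i => ?_,
    ⟨(restrictDQIso W.ι P).symm ≪≫ (DCoh.restrictD W.ι).mapIso e⟩⟩
  by_cases hi : a ≤ i ∧ i ≤ b
  · exact ⟨n ⟨i, hi⟩, hW ⟨i, hi⟩⟩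
  · refine ⟨0, ⟨IsZero.iso ?_ (isZero_freeMod_zero _)⟩⟩
    exact (Scheme.Modules.restrictFunctor W.ι).map_isZero (hv i (by omega))

end RepIn

section LocAt

/-- `Φ` holds for `K` near `x`. -/
def LocAt (Φ : ∀ (U : Scheme.{u}), DCoh.D U → Prop) {X : Scheme.{u}} (K : DCoh.D X) (x : X) :
    Prop :=
  ∃ (U : Scheme.{u}) (j : U ⟶ X) (_ : IsOpenImmersion j) (y : U), j y = x ∧
    Φ U ((DCoh.restrictD j).obj K)

variable {Φ : ∀ (U : Scheme.{u}), DCoh.D U → Prop}

lemma LocAt.of_restrict (hΦ : IsLocalPred Φ) {U X : Scheme.{u}} (j : U ⟶ X) [IsOpenImmersion j]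
    (K : DCoh.D X) (y : U) (h : LocAt Φ ((DCoh.restrictD j).obj K) y) : LocAt Φ K (j y) := by
  obtain ⟨U', j', hj', y', hy', hK⟩ := h
  refine ⟨U', j' ≫ j, inferInstance, y', ?_, hΦ.of_iso ((restrictDComp j' j).app K).symm hK⟩
  rw [Scheme.Hom.comp_base, TopCat.comp_app, hy']

lemma locAt_iff_opens (hΦ : IsLocalPred Φ) {X : Scheme.{u}} (K : DCoh.D X) (x : X) :
    LocAt Φ K x ↔ ∃ V : X.Opens, x ∈ V ∧ Φ V ((DCoh.restrictD V.ι).obj K) := by
  constructor
  · rintro ⟨U, j, hj, y, hy, hK⟩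
    refine ⟨j.opensRange, ⟨y, hy⟩, ?_⟩
    let e₀ : (j.opensRange : Scheme.{u}) ≅ U :=
      IsOpenImmersion.isoOfRangeEq j.opensRange.ι j (by simp)
    have fac : e₀.hom ≫ j = j.opensRange.ι := IsOpenImmersion.isoOfRangeEq_hom_fac _ _ _
    exact hΦ.of_fac e₀.hom j _ fac K hK
  · rintro ⟨V, hx, hK⟩
    exact ⟨V, V.ι, inferInstance, ⟨x, hx⟩, rfl, hK⟩

end LocAt

end Groth.Agent.R2.H4.LocFreeDeg

namespace Groth.Agent.R2.H4.FieldPt

open DerivedCategory Groth.Agent.R2.H4.Perf Groth.Agent.R2.H4.Euler Groth.Agent.R2.H4.EulerChar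
  Groth.Agent.R2.H4.Betti Groth.Agent.R2.H4.Conn Groth.Agent.R2.H4.LocHtpy
  Groth.Agent.Lib.Helper1.Sky

attribute [local instance] hasLpull

section LiftImm

variable {X : Scheme.{u}}

lemma Pt.range_subset_imm (pt : Pt X) {U : Scheme.{u}} (j : U ⟶ X) [IsOpenImmersion j]
    (h : pt.base ∈ Set.range j) : Set.range pt.k ⊆ Set.range j := by
  have h1 := pt.range_subset j.opensRange h
  rwa [Scheme.Opens.range_ι, Scheme.Hom.coe_opensRange] at h1

/-- lifting a field valued point along an open immersion. -/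
noncomputable def Pt.liftImm (pt : Pt X) {U : Scheme.{u}} (j : U ⟶ X) [IsOpenImmersion j]
    (h : pt.base ∈ Set.range j) : Pt U :=
  { pt with k := IsOpenImmersion.lift j pt.k (pt.range_subset_imm j h) }

lemma Pt.liftImm_k_fac (pt : Pt X) {U : Scheme.{u}} (j : U ⟶ X) [IsOpenImmersion j]
    (h : pt.base ∈ Set.range j) : (pt.liftImm j h).k ≫ j = pt.k :=
  IsOpenImmersion.lift_fac _ _ _

lemma Pt.liftImm_base (pt : Pt X) {U : Scheme.{u}} (j : U ⟶ X) [IsOpenImmersion j]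
    (h : pt.base ∈ Set.range j) : j (pt.liftImm j h).base = pt.base := by
  have h1 : ((pt.liftImm j h).k ≫ j) pt.z = pt.k pt.z := by rw [Pt.liftImm_k_fac]; rfl
  exact h1

lemma Pt.liftImm_base_eq (pt : Pt X) {U : Scheme.{u}} (j : U ⟶ X) [IsOpenImmersion j] (y : U)
    (hy : j y = pt.base) : (pt.liftImm j ⟨y, hy⟩).base = y := by
  apply j.isOpenEmbedding.injective
  rw [Pt.liftImm_base, hy]

/-- the derived pullback along an open immersion is the restriction. -/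
noncomputable def lpullRestrictIso' {U : Scheme.{u}} (j : U ⟶ X) [IsOpenImmersion j]
    (E : DCoh.D X) : (DCoh.Lpull j).obj E ≅ (DCoh.restrictD j).obj E :=
  haveI : PreservesFiniteLimits (Scheme.Modules.pullback j) :=
    Limits.preservesFiniteLimits_of_natIso (Scheme.Modules.restrictFunctorIsoPullback j)
  (DCoh.Lpull j).mapIso (Q.objObjPreimageIso E).symm ≪≫ lpullIsoOfExact j (Q.objPreimage E) ≪≫
    Q.mapIso ((NatIso.mapHomologicalComplex (Scheme.Modules.restrictFunctorIsoPullback j)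
      (ComplexShape.up ℤ)).app (Q.objPreimage E)).symm ≪≫
    (restrictDQIso j (Q.objPreimage E)).symm ≪≫
    (DCoh.restrictD j).mapIso (Q.objObjPreimageIso E)

lemma betti_liftImm (pt : Pt X) {U : Scheme.{u}} (j : U ⟶ X) [IsOpenImmersion j]
    (h : pt.base ∈ Set.range j) (K : DCoh.D X) (n : ℤ) :
    betti (pt.liftImm j h) ((DCoh.restrictD j).obj K) n = betti pt K n := by
  obtain ⟨c1⟩ := nonempty_lpull_comp_iso (pt.liftImm j h).k j
  obtain ⟨c2⟩ := nonempty_lpull_congr (pt.liftImm_k_fac j h)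
  exact ((secTop pt.Z).mapIso ((DerivedCategory.homologyFunctor _ n).mapIso
    ((DCoh.Lpull (pt.liftImm j h).k).mapIso (lpullRestrictIso' j K).symm ≪≫ c1.app K ≪≫
      c2.app K))).toLinearEquiv.finrank_eq

end LiftImm

end Groth.Agent.R2.H4.FieldPt

namespace Groth.Agent.R2.H4.LocFreeDeg

open DerivedCategory Groth.Agent.R2.H4.Perf Groth.Agent.R2.H4.Euler Groth.Agent.R2.H4.EulerChar
  Groth.Agent.R2.H4.Betti Groth.Agent.R2.H4.Conn Groth.Agent.R2.H4.LocHtpy
  Groth.Agent.R2.H4.FieldPt Groth.Agent.R2.H4.LocStruct Groth.Agent.Lib.Helper1.Sky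
  Groth.Agent.Lib.Helper1.FLF Groth.Agent.Lib.Helper20.LocFree

attribute [local instance] hasLpull

section Trunc

variable {Y : Scheme.{u}}

lemma exactAt_of_isZero_X (P : CochainComplex Y.Modules ℤ) (i : ℤ) (h : IsZero (P.X i)) :
    P.ExactAt i :=
  ShortComplex.exact_of_isZero_X₂ _ h

/-- canonical truncation above, when the last differential is an epimorphism. -/
lemma spRepIn_truncLE (P : CochainComplex Y.Modules ℤ) (a b : ℤ)
    (hv : DCoh.VanishesOutside P a b) (hfl : ∀ i, FlatMod.IsFinLocFree (P.X i))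
    (hepi : Epi (P.d (b - 1) b)) : SPRepIn a (b - 1) (Q.obj P) := by
  have hex : ∀ i : ℤ, b - 1 < i → P.ExactAt i := by
    intro i hi
    by_cases hib : i = b
    · subst hib
      rw [P.exactAt_iff' (i - 1) i (i + 1) (by simp) (by simp),
        ShortComplex.exact_iff_epi _ ((hv (i + 1) (Or.inr (by omega))).eq_of_tgt _ _)]
      exact hepi
    · exact exactAt_of_isZero_X P i (hv i (Or.inr (by omega)))
  haveI : P.IsLE (b - 1) := (P.isLE_iff (b - 1)).2 (fun i hi => hex i hi)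
  let T := P.truncLE (b - 1)
  have hcyc : FlatMod.IsFinLocFree (P.cycles (b - 1)) :=
    Groth.Agent.R2.H4.PCTop.isFinLocFree_cycles' P hfl b (fun i hi => hv i (Or.inr hi)) (b - 1) hex
  have hT : ∀ i, (i < b - 1 ∧ Nonempty (T.X i ≅ P.X i)) ∨
      (i = b - 1 ∧ Nonempty (T.X i ≅ P.cycles (b - 1))) ∨ (b - 1 < i ∧ IsZero (T.X i)) := by
    intro i
    rcases lt_trichotomy i (b - 1) with hi | hi | hi
    · exact Or.inl ⟨hi, ⟨P.truncLEXIso (b - 1) i hi⟩⟩
    · subst hi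
      exact Or.inr (Or.inl ⟨rfl, ⟨P.truncLEXIsoCycles (b - 1)⟩⟩)
    · exact Or.inr (Or.inr ⟨hi, CochainComplex.isZero_of_isStrictlyLE T (b - 1) i hi⟩)
  refine ⟨T, fun i hi => ?_, fun i => ?_, ⟨asIso (Q.map (P.ιTruncLE (b - 1)))⟩⟩
  · rcases hT i with ⟨h1, ⟨e⟩⟩ | ⟨h1, ⟨e⟩⟩ | ⟨h1, h2⟩
    · exact (hv i (by omega)).of_iso e
    · refine IsZero.of_iso ?_ e
      exact IsZero.of_mono (P.iCycles (b - 1)) (hv (b - 1) (by omega))
    · exact h2
  · rcases hT i with ⟨h1, ⟨e⟩⟩ | ⟨h1, ⟨e⟩⟩ | ⟨h1, h2⟩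
    · exact Groth.Agent.R2.H4.LocHtpy.isFinLocFree_of_iso e.symm (hfl i)
    · exact Groth.Agent.R2.H4.LocHtpy.isFinLocFree_of_iso e.symm hcyc
    · exact isFinLocFree_of_isZero _ h2

/-- canonical truncation below, when the first differential is a monomorphism with free
cokernel. -/
lemma sfRepIn_truncGE (P : CochainComplex Y.Modules ℤ) (a b : ℤ)
    (hv : DCoh.VanishesOutside P a b)
    (hfree : ∀ i : ℤ, ∃ n : ℕ, Nonempty (P.X i ≅ FlatMod.freeMod Y n))
    (hmono : Mono (P.d a (a + 1))) {c : ℕ}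
    (ecok : cokernel (P.d a (a + 1)) ≅ FlatMod.freeMod Y c) : SFRepIn (a + 1) b (Q.obj P) := by
  have hex : ∀ i : ℤ, i < a + 1 → P.ExactAt i := by
    intro i hi
    by_cases hia : i = a
    · subst hia
      rw [P.exactAt_iff' (i - 1) i (i + 1) (by simp) (by simp),
        ShortComplex.exact_iff_mono _ ((hv (i - 1) (Or.inl (by omega))).eq_of_src _ _)]
      exact hmono
    · exact exactAt_of_isZero_X P i (hv i (Or.inl (by omega)))
  haveI : P.IsGE (a + 1) := (P.isGE_iff (a + 1)).2 (fun i hi => hex i hi)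
  let T := P.truncGE (a + 1)
  have eop : P.opcycles (a + 1) ≅ cokernel (P.d a (a + 1)) :=
    IsColimit.coconePointUniqueUpToIso (P.opcyclesIsCokernel a (a + 1) (by simp))
      (colimit.isColimit _)
  have hT : ∀ i, (a + 1 < i ∧ Nonempty (T.X i ≅ P.X i)) ∨
      (i = a + 1 ∧ Nonempty (T.X i ≅ P.opcycles (a + 1))) ∨ (i < a + 1 ∧ IsZero (T.X i)) := by
    intro i
    rcases lt_trichotomy i (a + 1) with hi | hi | hi
    · exact Or.inr (Or.inr ⟨hi, CochainComplex.isZero_of_isStrictlyGE T (a + 1) i hi⟩)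
    · subst hi
      exact Or.inr (Or.inl ⟨rfl, ⟨P.truncGEXIsoOpcycles (a + 1)⟩⟩)
    · exact Or.inl ⟨hi, ⟨P.truncGEXIso (a + 1) i hi⟩⟩
  refine ⟨T, fun i hi => ?_, fun i => ?_, ⟨(asIso (Q.map (P.πTruncGE (a + 1)))).symm⟩⟩
  · rcases hT i with ⟨h1, ⟨e⟩⟩ | ⟨h1, ⟨e⟩⟩ | ⟨h1, h2⟩
    · exact (hv i (by omega)).of_iso e
    · refine IsZero.of_iso ?_ e
      exact IsZero.of_epi (P.pOpcycles (a + 1)) (hv (a + 1) (by omega))
    · exact h2
  · rcases hT i with ⟨h1, ⟨e⟩⟩ | ⟨h1, ⟨e⟩⟩ | ⟨h1, h2⟩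
    · obtain ⟨n, ⟨en⟩⟩ := hfree i
      exact ⟨n, ⟨e ≪≫ en⟩⟩
    · exact ⟨c, ⟨e ≪≫ eop ≪≫ ecok⟩⟩
    · exact ⟨0, ⟨IsZero.iso h2 (isZero_freeMod_zero _)⟩⟩

end Trunc

section Steps

variable {U : Scheme.{u}}

lemma finrank_fib_of_isZero (pt : Pt U) {M : U.Modules} (h : IsZero M) :
    Module.finrank (Coh.Γtop pt.Z) ((fib pt.k).obj M) = 0 :=
  finrank_fib_freeMod pt (IsZero.iso h (isZero_freeMod_zero _))

lemma finrank_fib_cokernel_of_isZero_src (pt : Pt U) {A B : U.Modules} (σ : A ⟶ B)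
    (hA : IsZero A) {t : ℕ} (eB : B ≅ FlatMod.freeMod U t) :
    Module.finrank (Coh.Γtop pt.Z) ((fib pt.k).obj (cokernel σ)) = t := by
  have h0 : σ = 0 := hA.eq_of_src _ _
  subst h0
  exact finrank_fib_freeMod pt (cokernelZeroIsoTarget ≪≫ eB)

lemma finrank_fib_cokernel_of_isZero_tgt (pt : Pt U) {A B : U.Modules} (σ : A ⟶ B)
    (hB : IsZero B) :
    Module.finrank (Coh.Γtop pt.Z) ((fib pt.k).obj (cokernel σ)) = 0 :=
  finrank_fib_of_isZero pt (IsZero.of_epi (cokernel.π σ) hB)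

lemma eq_zero_of_isZero_of_iso_freeMod (pt : Pt U) {M : U.Modules} (h : IsZero M) {n : ℕ}
    (e : M ≅ FlatMod.freeMod U n) : n = 0 := by
  rw [← finrank_fib_freeMod pt e, finrank_fib_of_isZero pt h]

/-- removing the top term of a complex of finite free modules. -/
theorem topStep {K : DCoh.D U} {a b : ℤ} (h : SFRepIn a b K) (pt : Pt U)
    (hb : betti pt K b = 0) :
    LocAt (fun U (K : DCoh.D U) => SFRepIn a (b - 1) K) K pt.base := by
  obtain ⟨P, hv, hfree, ⟨e⟩⟩ := h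
  choose n hn using hfree
  have h1 := betti_eq_of_free pt P a b hv n hn b
  rw [← betti_of_iso pt e.symm b, hb,
    finrank_fib_cokernel_of_isZero_tgt pt (P.d b (b + 1)) (hv (b + 1) (Or.inr (by omega))),
    eq_zero_of_isZero_of_iso_freeMod pt (hv (b + 1) (Or.inr (by omega))) (hn (b + 1)).some] at h1
  have hc : Module.finrank (Coh.Γtop pt.Z) ((fib pt.k).obj (cokernel (P.d (b - 1) b))) = 0 := by
    push_cast at h1
    omega
  obtain ⟨W, hW, hepi⟩ := exists_epi_restrict (P.d (b - 1) b) (hn (b - 1)).some (hn b).some pt hc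
  have h2 : SPRepIn a (b - 1) (Q.obj ((resC W.ι).obj P)) := by
    refine spRepIn_truncLE _ a b
      (fun i hi => (Scheme.Modules.restrictFunctor W.ι).map_isZero (hv i hi)) (fun i => ?_) hepi
    exact isFinLocFree_restrict W.ι _
      (Groth.Agent.R2.H4.LocHtpy.isFinLocFree_of_iso (hn i).some.symm (isFinLocFree_freeMod U _))
  obtain ⟨W', hW', h3⟩ := h2.exists_sfRepIn ⟨pt.base, hW⟩
  have h4 : LocAt (fun U (K : DCoh.D U) => SFRepIn a (b - 1) K)
      ((DCoh.restrictD W.ι).obj K) ⟨pt.base, hW⟩ :=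
    ⟨W', W'.ι, inferInstance, ⟨⟨pt.base, hW⟩, hW'⟩, rfl,
      (isLocalPred_sfRepIn a (b - 1)).of_iso ((DCoh.restrictD W'.ι).mapIso
        ((restrictDQIso W.ι P).symm ≪≫ (DCoh.restrictD W.ι).mapIso e)) h3⟩
  exact LocAt.of_restrict (isLocalPred_sfRepIn a (b - 1)) W.ι K ⟨pt.base, hW⟩ h4

/-- removing the bottom term of a complex of finite free modules. -/
theorem botStep {K : DCoh.D U} {a b : ℤ} (h : SFRepIn a b K) (pt : Pt U)
    (hb : betti pt K a = 0) :
    LocAt (fun U (K : DCoh.D U) => SFRepIn (a + 1) b K) K pt.base := by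
  obtain ⟨P, hv, hfree, ⟨e⟩⟩ := h
  choose n hn using hfree
  have h1 := betti_eq_of_free pt P a b hv n hn a
  rw [← betti_of_iso pt e.symm a, hb,
    finrank_fib_cokernel_of_isZero_src pt (P.d (a - 1) a) (hv (a - 1) (Or.inl (by omega)))
      (hn a).some] at h1
  have hst : n (a + 1) = n a +
      Module.finrank (Coh.Γtop pt.Z) ((fib pt.k).obj (cokernel (P.d a (a + 1)))) := by
    push_cast at h1
    omega
  have hB : Nonempty (P.X (a + 1) ≅ FlatMod.freeMod U (n a +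
      Module.finrank (Coh.Γtop pt.Z) ((fib pt.k).obj (cokernel (P.d a (a + 1)))))) := by
    rw [← hst]
    exact hn (a + 1)
  obtain ⟨U', j, hj, y', hy', hmono, ⟨ecok⟩⟩ :=
    exists_mono_and_coker_free_of_pt (P.d a (a + 1)) (hn a).some hB.some pt rfl
  have h2 : SFRepIn (a + 1) b (Q.obj ((resC j).obj P)) := by
    refine sfRepIn_truncGE _ a b
      (fun i hi => (Scheme.Modules.restrictFunctor j).map_isZero (hv i hi)) (fun i => ?_)
      hmono ecok
    exact ⟨n i, ⟨(Scheme.Modules.restrictFunctor j).mapIso (hn i).some ≪≫ restrictFreeMod j _⟩⟩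
  exact ⟨U', j, hj, y', hy', (isLocalPred_sfRepIn (a + 1) b).of_iso
    ((restrictDQIso j P).symm ≪≫ (DCoh.restrictD j).mapIso e) h2⟩

/-- a complex of finite free modules placed in the single degree `i`. -/
theorem lfDeg_of_sfRepIn_single {K : DCoh.D U} {i : ℤ} (h : SFRepIn i i K) (pt : Pt U) (r : ℕ)
    (hb : betti pt K i = r) : LFDeg i r K := by
  obtain ⟨P, hv, hfree, ⟨e⟩⟩ := h
  choose n hn using hfree
  have h1 := betti_eq_of_free pt P i i hv n hn i
  rw [← betti_of_iso pt e.symm i, hb,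
    finrank_fib_cokernel_of_isZero_src pt (P.d (i - 1) i) (hv (i - 1) (Or.inl (by omega)))
      (hn i).some,
    finrank_fib_cokernel_of_isZero_tgt pt (P.d i (i + 1)) (hv (i + 1) (Or.inr (by omega))),
    eq_zero_of_isZero_of_iso_freeMod pt (hv (i + 1) (Or.inr (by omega))) (hn (i + 1)).some] at h1
  have hr : n i = r := by
    push_cast at h1
    omega
  haveI : P.IsStrictlyGE i := (P.isStrictlyGE_iff i).2 (fun j hj => hv j (Or.inl hj))
  haveI : P.IsStrictlyLE i := (P.isStrictlyLE_iff i).2 (fun j hj => hv j (Or.inr hj))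
  obtain ⟨M, ⟨eM⟩⟩ := CochainComplex.exists_iso_single P i
  have e1 : M ≅ FlatMod.freeMod U r :=
    (HomologicalComplex.singleObjXSelf (ComplexShape.up ℤ) i M).symm ≪≫
      ((HomologicalComplex.eval _ _ i).mapIso eM).symm ≪≫ (hn i).some ≪≫ eqToIso (by rw [hr])
  refine ⟨M, fun y => ⟨⊤, trivial,
    ⟨(Scheme.Modules.restrictFunctor (⊤ : U.Opens).ι).mapIso e1 ≪≫ restrictFreeMod _ r⟩⟩, ⟨?_⟩⟩
  exact e.symm ≪≫ Q.mapIso eM ≪≫ ((singleFunctorIsoCompQ U.Modules i).app M).symm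

/-- the local structure theorem: if the Betti numbers of a bounded complex of finite free modules
at a field valued point are those of a vector space of dimension `r` placed in degree `i`, then
near that point the complex is a finite free module of rank `r` placed in degree `i`. -/
theorem locAt_lfDeg (i : ℤ) (r : ℕ) : ∀ (N : ℕ) {U : Scheme.{u}} (K : DCoh.D U) (pt : Pt U)
    (a b : ℤ), (∀ j, betti pt K j = if j = i then r else 0) → a ≤ i → i ≤ b → b - a ≤ N →
    SFRepIn a b K → LocAt (fun U (K : DCoh.D U) => LFDeg i r K) K pt.base := by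
  intro N
  induction N with
  | zero =>
    intro U K pt a b hb hai hib hN h
    have ha : a = i := by omega
    have hb2 : b = i := by omega
    rw [ha, hb2] at h
    have h1 : LFDeg i r K := lfDeg_of_sfRepIn_single h pt r (by rw [hb i, if_pos rfl])
    exact (locAt_iff_opens (isLocalPred_lfDeg i r) K pt.base).2
      ⟨⊤, trivial, (isLocalPred_lfDeg i r).restrict _ K h1⟩
  | succ N ih =>
    intro U K pt a b hb hai hib hN h
    by_cases ha : a < i
    · obtain ⟨U₁, j₁, hj₁, y₁, hy₁, h₁⟩ := botStep h pt (by rw [hb a, if_neg (by omega)])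
      have hbase := pt.liftImm_base_eq j₁ y₁ hy₁
      have h2 := ih ((DCoh.restrictD j₁).obj K) (pt.liftImm j₁ ⟨y₁, hy₁⟩) (a + 1) b
        (fun j => by rw [betti_liftImm, hb j]) (by omega) hib (by omega) h₁
      rw [hbase] at h2
      have h3 := LocAt.of_restrict (isLocalPred_lfDeg i r) j₁ K y₁ h2
      rwa [hy₁] at h3
    · by_cases hb' : i < b
      · obtain ⟨U₁, j₁, hj₁, y₁, hy₁, h₁⟩ := topStep h pt (by rw [hb b, if_neg (by omega)])
        have hbase := pt.liftImm_base_eq j₁ y₁ hy₁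
        have h2 := ih ((DCoh.restrictD j₁).obj K) (pt.liftImm j₁ ⟨y₁, hy₁⟩) a (b - 1)
          (fun j => by rw [betti_liftImm, hb j]) hai (by omega) (by omega) h₁
        rw [hbase] at h2
        have h3 := LocAt.of_restrict (isLocalPred_lfDeg i r) j₁ K y₁ h2
        rwa [hy₁] at h3
      · exact ih K pt a b hb hai hib (by omega) h

end Steps

section Glue

variable {Y : Scheme.{u}}

lemma isFinLocFreeOfRank_of_iso {r : ℕ} {M N : Y.Modules} (e : M ≅ N)
    (h : FlatMod.IsFinLocFreeOfRank r M) : FlatMod.IsFinLocFreeOfRank r N := fun y => by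
  obtain ⟨V, hy, ⟨φ⟩⟩ := h y
  exact ⟨V, hy, ⟨(Scheme.Modules.restrictFunctor V.ι).mapIso e.symm ≪≫ φ⟩⟩

/-- being finite locally free of rank `r` is a local property. -/
theorem isFinLocFreeOfRank_of_locally (r : ℕ) (M : Y.Modules)
    (h : ∀ y : Y, ∃ V : Y.Opens, y ∈ V ∧
      FlatMod.IsFinLocFreeOfRank r ((Scheme.Modules.restrictFunctor V.ι).obj M)) :
    FlatMod.IsFinLocFreeOfRank r M := by
  intro x
  obtain ⟨V, hxV, hV⟩ := h x
  obtain ⟨D, hxD, ⟨e⟩⟩ := hV ⟨x, hxV⟩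
  refine ⟨V.ι ''ᵁ D, ⟨⟨x, hxV⟩, hxD, rfl⟩, ⟨?_⟩⟩
  let g : ((V.ι ''ᵁ D : Y.Opens) : Scheme.{u}) ⟶ (D : Scheme.{u}) := (V.ι.isoImage D).inv
  have hg : g ≫ (D.ι ≫ V.ι) = (V.ι ''ᵁ D).ι := V.ι.isoImage_inv_ι D
  exact (Scheme.Modules.restrictFunctorCongr hg.symm).app M ≪≫
    (Scheme.Modules.restrictFunctorComp g (D.ι ≫ V.ι)).app M ≪≫
    (Scheme.Modules.restrictFunctor g).mapIso
      ((Scheme.Modules.restrictFunctorComp D.ι V.ι).app M ≪≫ e) ≪≫ restrictFreeMod g r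

lemma isZero_HD_of_lfDeg {i : ℤ} {r : ℕ} {K : DCoh.D Y} (h : LFDeg i r K) (j : ℤ) (hj : j ≠ i) :
    IsZero (DCoh.HD K j) := by
  obtain ⟨V, -, ⟨e⟩⟩ := h
  refine IsZero.of_iso ?_ ((DerivedCategory.homologyFunctor _ j).mapIso e)
  rcases lt_or_gt_of_ne hj with h1 | h1
  · exact DerivedCategory.isZero_of_isGE ((singleFunctor Y.Modules i).obj V) i j h1
  · exact DerivedCategory.isZero_of_isLE ((singleFunctor Y.Modules i).obj V) i j h1

/-- being a finite locally free module of rank `r` placed in degree `i` is a local property. -/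
theorem lfDeg_of_locally (i : ℤ) (r : ℕ) (L : DCoh.D Y)
    (h : ∀ y : Y, ∃ V : Y.Opens, y ∈ V ∧ LFDeg i r ((DCoh.restrictD V.ι).obj L)) :
    LFDeg i r L := by
  choose V hV hL using h
  have hz : ∀ j : ℤ, j ≠ i → IsZero (DCoh.HD L j) := by
    intro j hj
    refine Groth.Agent.Lib.Helper23.ModLocal.isZero_of_isZero_restrict
      (fun y : Y => ((V y : Y.Opens) : Scheme.{u})) (fun y => (V y).ι)
      (fun y => ⟨y, ⟨y, hV y⟩, rfl⟩) (fun y => ?_)
    obtain ⟨e⟩ := Groth.Agent.R2.H4.PCTop.nonempty_HD_restrict_iso (V y).ι L j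
    exact IsZero.of_iso (isZero_HD_of_lfDeg (hL y) j hj) e.symm
  haveI : L.IsGE i := (DerivedCategory.isGE_iff L i).2 (fun j hj => hz j (by omega))
  haveI : L.IsLE i := (DerivedCategory.isLE_iff L i).2 (fun j hj => hz j (by omega))
  obtain ⟨M, ⟨eM⟩⟩ := DerivedCategory.exists_iso_singleFunctor_obj_of_isGE_of_isLE L i
  refine ⟨M, isFinLocFreeOfRank_of_locally r M (fun y => ⟨V y, hV y, ?_⟩), ⟨eM⟩⟩
  obtain ⟨W, hW, ⟨eW⟩⟩ := hL y
  have e1 : (singleFunctor _ i).obj ((Scheme.Modules.restrictFunctor (V y).ι).obj M) ≅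
      (singleFunctor _ i).obj W :=
    (((Scheme.Modules.restrictFunctor (V y).ι).mapDerivedCategorySingleFunctor i).app M).symm ≪≫
      (DCoh.restrictD (V y).ι).mapIso eM.symm ≪≫ eW
  exact isFinLocFreeOfRank_of_iso ((singleFunctor _ i).preimageIso e1).symm hW

end Glue

section Main

variable {X : Scheme.{u}}

/-- restriction of a derived pullback to the preimage of an open subset. -/
lemma nonempty_restrict_lpull_iso {Y : Scheme.{u}} (f : Y ⟶ X) (V : X.Opens) (E : DCoh.D X) :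
    Nonempty ((DCoh.restrictD (f ⁻¹ᵁ V).ι).obj ((DCoh.Lpull f).obj E) ≅
      (DCoh.Lpull (f ∣_ V)).obj ((DCoh.restrictD V.ι).obj E)) := by
  obtain ⟨c1⟩ := nonempty_lpull_comp_iso (f ⁻¹ᵁ V).ι f
  obtain ⟨c2⟩ := nonempty_lpull_comp_iso (f ∣_ V) V.ι
  obtain ⟨c3⟩ := nonempty_lpull_congr (morphismRestrict_ι f V).symm
  exact ⟨(lpullRestrictIso (f ⁻¹ᵁ V) _).symm ≪≫ c1.app E ≪≫ c3.app E ≪≫ (c2.app E).symm ≪≫
    (DCoh.Lpull (f ∣_ V)).mapIso (lpullRestrictIso V E)⟩

/-- S1064: the locus where a perfect object is a finite locally free module of rank `r` placed in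
degree `i` is open, and it represents this property for derived pullbacks. -/
theorem open_locus (E : DCoh.D X) (hE : DCoh.IsPerfect E) (i : ℤ) (r : ℕ) :
    ∃ U : X.Opens, ∀ (Y : Scheme.{u}) (f : Y ⟶ X) [DCoh.HasLpull f],
      Set.range f.base ⊆ (U : Set X) ↔
        ∃ V : Y.Modules, FlatMod.IsFinLocFreeOfRank r V ∧
          Nonempty ((DCoh.Lpull f).obj E ≅ (DCoh.inD Y V)⟦-i⟧) := by
  let S : Set X := {x | ∃ V : X.Opens, x ∈ V ∧ LFDeg i r ((DCoh.restrictD V.ι).obj E)}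
  have hS : IsOpen S := by
    rw [isOpen_iff_forall_mem_open]
    rintro x ⟨V, hxV, hV⟩
    exact ⟨V, fun x' hx' => ⟨V, hx', hV⟩, V.isOpen, hxV⟩
  refine ⟨⟨S, hS⟩, fun Y f _ => ?_⟩
  rw [← lfDeg_iff]
  constructor
  · intro hf
    apply lfDeg_of_locally
    intro y
    obtain ⟨V, hyV, hV⟩ : f y ∈ S := hf ⟨y, rfl⟩
    obtain ⟨e⟩ := nonempty_restrict_lpull_iso f V E
    exact ⟨f ⁻¹ᵁ V, hyV, (hV.lpull (f ∣_ V)).of_iso e.symm⟩
  · rintro h _ ⟨y, rfl⟩
    let pt : Pt X := (Pt.ofPoint y).comp f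
    have hpt : pt.base = f y := by
      rw [Pt.comp_base, Pt.ofPoint_base]
    have hb : ∀ j, betti pt E j = if j = i then r else 0 := fun j => by
      rw [betti_comp]
      exact betti_of_lfDeg h _ j
    have h1 : Loc (fun U (K : DCoh.D U) => SFRep K) E :=
      (loc_sfRep_iff E).2 ((isPerfect_iff E).1 hE)
    obtain ⟨U₁, j₁, hj₁, y₁, hy₁, h₁⟩ := h1 pt.base
    obtain ⟨a, b, h₂⟩ := SFRep.exists_sfRepIn h₁
    have h₃ : SFRepIn (min a i) (max b i) ((DCoh.restrictD j₁).obj E) :=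
      h₂.mono (min_le_left a i) (le_max_left b i)
    have hbase := pt.liftImm_base_eq j₁ y₁ hy₁
    have h4 := locAt_lfDeg i r (max b i - min a i).toNat ((DCoh.restrictD j₁).obj E)
      (pt.liftImm j₁ ⟨y₁, hy₁⟩) (min a i) (max b i) (fun j => by rw [betti_liftImm, hb j])
      (min_le_right a i) (le_max_right b i) (by omega) h₃
    rw [hbase] at h4
    have h5 := LocAt.of_restrict (isLocalPred_lfDeg i r) j₁ E y₁ h4
    rw [hy₁, hpt] at h5
    exact (locAt_iff_opens (isLocalPred_lfDeg i r) E (f y)).1 h5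

end Main

end Groth.Agent.R2.H4.LocFreeDeg
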