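import Mathlib
import Groth.Prelude.Def_KSix
import Groth.Prelude.Def_DTor2
import Groth.Agent.R2.H27FlatDesc
import Groth.Agent.R2.H27PushStalk
import Groth.Agent.R2.H4LocFreeDeg
import Groth.Agent.R2.H4LocRep
import Groth.Agent.R2.H4FlatPerf
import Groth.Agent.R2.H4PCTop
set_option backward.isDefEq.respectTransparency.types false

/-!
# Perfect amplitude = pseudo-coherence + flat amplitude (helper4, round 2)
-/

set_option autoImplicit false
set_option linter.style.haveILetI false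
universe u
open CategoryTheory CategoryTheory.Limits AlgebraicGeometry HomologicalComplex
  CategoryTheory.Pretriangulated

attribute [local instance] HasDerivedCategory.standard

namespace Groth.Agent.R2.H4.PerfAmp

open DerivedCategory Groth.Agent.R2.H4.Conn Groth.Agent.R2.H4.LocHtpy Groth.Agent.R2.H4.Perf
  Groth.Agent.R2.H4.Flat Groth.Agent.R2.H4.FlatPerf Groth.Agent.R2.H4.LocFreeDeg
  Groth.Agent.R2.H27.FlatAmp Groth.Agent.R2.H27.FlatDesc Groth.Agent.Lib.Helper1.Tor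
  Groth.Agent.Lib.Helper1.Sky Groth.Agent.Lib.Helper1.Extend Groth.Agent.Lib.Helper1.KBC
  Groth.Agent.Lib.Helper1.BKF

section Stalk

variable {X Y : Scheme.{u}} (f : X ⟶ Y)

/-- pointwise form of helper27's `stalkTorAmp_of_pullC`. -/
theorem hasTorAmp_stalk_of_pullC [Flat f] (K : CochainComplex Y.Modules ℤ) (a b : ℤ) (x : X)
    (h1 : DRing.HasTorAmplitudeIn (X.presheaf.stalk x) a b
      (DRing.toD (((DerSch.stalkFunctor X x).mapHomologicalComplex (ComplexShape.up ℤ)).obj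
        ((pullC f).obj K)))) :
    DRing.HasTorAmplitudeIn (Y.presheaf.stalk (f x)) a b
      (DRing.toD (((DerSch.stalkFunctor Y (f x)).mapHomologicalComplex (ComplexShape.up ℤ)).obj
        K)) := by
  letI := (f.stalkMap x).hom.toAlgebra
  haveI : Module.Flat (Y.presheaf.stalk (f x)) (X.presheaf.stalk x) := Flat.stalkMap f x
  haveI : IsLocalHom (algebraMap (Y.presheaf.stalk (f x)) (X.presheaf.stalk x)) :=
    inferInstanceAs (IsLocalHom (f.stalkMap x).hom)
  haveI : Module.FaithfullyFlat (Y.presheaf.stalk (f x)) (X.presheaf.stalk x) :=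
    Module.FaithfullyFlat.of_flat_of_isLocalHom
  refine hasTorAmp_of_iso (DerivedCategory.Q.mapIso (stalkCIso K (f x)).symm)
    (hasTorAmp_of_extCx (B := X.presheaf.stalk x) ((stalkC (f x)).obj K) a b ?_)
  exact hasTorAmp_of_iso (DerivedCategory.Q.mapIso (stalkCIso _ x ≪≫ stalkPullCIso f K x)) h1

end Stalk

section Main

variable {X : Scheme.{u}}

lemma SPRepIn.of_iso {a b : ℤ} {K K' : DCoh.D X} (e : K ≅ K') (h : SPRepIn a b K) :
    SPRepIn a b K' := by
  obtain ⟨P, hv, hfl, ⟨e'⟩⟩ := h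
  exact ⟨P, hv, hfl, ⟨e' ≪≫ e⟩⟩

lemma isLocalPred_spRepIn (a b : ℤ) : IsLocalPred (fun U (K : DCoh.D U) => SPRepIn a b K) := by
  refine ⟨fun e h => SPRepIn.of_iso e h, ?_⟩
  rintro U' U j _ K ⟨P, hv, hfl, ⟨e⟩⟩
  exact ⟨(resC j).obj P, fun i hi => (Scheme.Modules.restrictFunctor j).map_isZero (hv i hi),
    fun i => isFinLocFree_restrict j _ (hfl i),
    ⟨(restrictDQIso j P).symm ≪≫ (DCoh.restrictD j).mapIso e⟩⟩

lemma SPRepIn.spRep {a b : ℤ} {K : DCoh.D X} (h : SPRepIn a b K) : SPRep K := by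
  obtain ⟨P, hv, hfl, e⟩ := h
  exact ⟨P, ⟨⟨a, b, hv⟩, hfl⟩, e⟩

/-- canonical truncation above of a bounded complex of finite locally free modules which is exact
in degrees `> b`. -/
lemma spRepIn_truncLE' (P : CochainComplex X.Modules ℤ) (a b' b : ℤ)
    (hv : DCoh.VanishesOutside P a b') (hfl : ∀ i, FlatMod.IsFinLocFree (P.X i))
    (hex : ∀ i : ℤ, b < i → P.ExactAt i) : SPRepIn a b (Q.obj P) := by
  haveI : P.IsLE b := (P.isLE_iff b).2 (fun i hi => hex i hi)
  let T := P.truncLE b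
  have hcyc : FlatMod.IsFinLocFree (P.cycles b) :=
    Groth.Agent.R2.H4.PCTop.isFinLocFree_cycles' P hfl b' (fun i hi => hv i (Or.inr hi)) b hex
  have hT : ∀ i, (i < b ∧ Nonempty (T.X i ≅ P.X i)) ∨
      (i = b ∧ Nonempty (T.X i ≅ P.cycles b)) ∨ (b < i ∧ IsZero (T.X i)) := by
    intro i
    rcases lt_trichotomy i b with hi | hi | hi
    · exact Or.inl ⟨hi, ⟨P.truncLEXIso b i hi⟩⟩
    · subst hi
      exact Or.inr (Or.inl ⟨rfl, ⟨P.truncLEXIsoCycles i⟩⟩)
    · exact Or.inr (Or.inr ⟨hi, CochainComplex.isZero_of_isStrictlyLE T b i hi⟩)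
  refine ⟨T, fun i hi => ?_, fun i => ?_, ⟨asIso (Q.map (P.ιTruncLE b))⟩⟩
  · rcases hT i with ⟨h1, ⟨e⟩⟩ | ⟨h1, ⟨e⟩⟩ | ⟨h1, h2⟩
    · exact (hv i (Or.inl (by omega))).of_iso e
    · refine IsZero.of_iso ?_ e
      exact IsZero.of_mono (P.iCycles b) (hv b (Or.inl (by omega)))
    · exact h2
  · rcases hT i with ⟨h1, ⟨e⟩⟩ | ⟨h1, ⟨e⟩⟩ | ⟨h1, h2⟩
    · exact Groth.Agent.R2.H4.LocHtpy.isFinLocFree_of_iso e.symm (hfl i)
    · exact Groth.Agent.R2.H4.LocHtpy.isFinLocFree_of_iso e.symm hcyc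
    · exact isFinLocFree_of_isZero _ h2

/-- bounded form of `spRep_of_flat_of_conn`: a complex of flat modules in degrees `[a, b]`
receiving an `(a-1)`-connected map from a strictly perfect complex is quasi-isomorphic to a
complex of finite locally free modules in degrees `[a, b]`. -/
theorem spRepIn_of_flat_of_conn {P F : CochainComplex X.Modules ℤ}
    (hP : DCoh.IsStrictlyPerfect P) (a b : ℤ) (hF : DCoh.VanishesOutside F a b)
    (hfl : ∀ i, FlatMod.IsFlat (F.X i)) (β : P ⟶ F) (hβ : Conn (a - 1) (Q.map β)) :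
    SPRepIn a b (Q.obj F) := by
  obtain ⟨⟨a₀, b₀, hv⟩, hflf⟩ := hP
  have : F.IsStrictlyGE a := (F.isStrictlyGE_iff a).2 (fun i hi => hF i (Or.inl hi))
  have h1 : QuasiIso (CochainComplex.truncGEMap β a) := by
    rw [CochainComplex.quasiIso_truncGEMap_iff]
    intro i hi
    exact quasiIsoAt_of_conn β (a - 1) hβ i (by omega)
  let P' := P.truncGE a
  let β' : P' ⟶ F := CochainComplex.truncGEMap β a ≫ inv (F.πTruncGE a)
  have h2 : QuasiIso β' := by
    dsimp only [β']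
    infer_instance
  let C' := CochainComplex.mappingCone β'
  have hex : ∀ i, C'.ExactAt i := by
    intro i
    rw [exactAt_iff_isZero_homology]
    refine Groth.Agent.R2.H4.LocHtpy.isZero_homology_mappingCone β' (i - 1) (fun j _ => ?_) ?_ i
      (by omega)
    · exact (quasiIsoAt_iff_isIso_homologyMap β' j).1 inferInstance
    · have : IsIso (homologyMap β' (i - 1)) :=
        (quasiIsoAt_iff_isIso_homologyMap β' (i - 1)).1 inferInstance
      infer_instance
  have hP'X : ∀ i, a < i → Nonempty (P'.X i ≅ P.X i) := fun i hi => ⟨P.truncGEXIso a i hi⟩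
  have hP'0 : ∀ i, i < a → IsZero (P'.X i) := fun i hi =>
    CochainComplex.isZero_of_isStrictlyGE P' a i hi
  have hC'b : ∀ i, max (max b b₀) a < i → IsZero (C'.X i) := by
    intro i hi
    have h3 := le_max_left (max b b₀) a
    have h4 := le_max_right (max b b₀) a
    have h5 := le_max_left b b₀
    have h6 := le_max_right b b₀
    rw [CochainComplex.mappingCone.isZero_X_iff]
    constructor
    · obtain ⟨e⟩ := hP'X (i + 1) (by omega)
      exact (hv (i + 1) (Or.inr (by omega))).of_iso e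
    · exact hF i (Or.inr (by omega))
  have hC'fl : ∀ i, a - 1 < i → FlatMod.IsFlat (C'.X i) := by
    intro i hi
    have := HomologicalComplex.HasHomotopyCofiber.hasBinaryBiproduct β' i (i + 1) rfl
    refine isFlat_of_iso (HomologicalComplex.homotopyCofiber.XIsoBiprod β' i (i + 1) rfl).symm ?_
    refine isFlat_biprod _ _ ?_ (hfl i)
    obtain ⟨e⟩ := hP'X (i + 1) (by omega)
    exact isFlat_of_iso e.symm (Groth.Agent.R2.H4.Flat.isFlat_of_isFinLocFree' _ (hflf (i + 1)))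
  have h7 : FlatMod.IsFlat (C'.opcycles (a - 1)) :=
    isFlat_opcycles' C' _ hC'b (a - 1) hC'fl (fun i _ => hex i)
  have h8 : IsZero (C'.X (a - 2)) := by
    rw [CochainComplex.mappingCone.isZero_X_iff]
    exact ⟨hP'0 _ (by omega), hF _ (Or.inl (by omega))⟩
  have h9 : IsIso (C'.pOpcycles (a - 1)) :=
    C'.isIso_pOpcycles (a - 2) (a - 1) (by simp; omega) (h8.eq_of_src _ _)
  have h10 : FlatMod.IsFlat (C'.X (a - 1)) := isFlat_of_iso (asIso (C'.pOpcycles (a - 1))).symm h7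
  have hrel : (ComplexShape.up ℤ).Rel (a - 1) a := by simp
  have := HomologicalComplex.HasHomotopyCofiber.hasBinaryBiproduct β' (a - 1) a hrel
  have h11 : FlatMod.IsFlat (P'.X a) :=
    isFlat_of_iso ((HomologicalComplex.homotopyCofiber.XIsoBiprod β' (a - 1) a hrel) ≪≫
      (isoBiprodZero (hF (a - 1) (Or.inl (by omega)))).symm) h10
  have h12 : FlatMod.IsFlat (P.opcycles a) := isFlat_of_iso (P.truncGEXIsoOpcycles a) h11
  have h13 : FlatMod.IsFinLocFree (P.opcycles a) :=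
    isFinLocFree_of_isCokernel (P.d (a - 1) a) (P.pOpcycles a) (P.d_pOpcycles (a - 1) a)
      (P.opcyclesIsCokernel (a - 1) a (by simp)) (hflf _) (hflf _) h12
  have hP'v : DCoh.VanishesOutside P' a (max a b₀) := by
    intro i hi
    rcases hi with hi | hi
    · exact hP'0 i hi
    · have h3 := le_max_left a b₀
      have h4 := le_max_right a b₀
      obtain ⟨e⟩ := hP'X i (by omega)
      exact (hv i (Or.inr (by omega))).of_iso e
  have hP'fl : ∀ i, FlatMod.IsFinLocFree (P'.X i) := by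
    intro i
    rcases lt_trichotomy i a with hi | rfl | hi
    · exact isFinLocFree_of_isZero _ (hP'0 i hi)
    · exact Groth.Agent.R2.H4.LocHtpy.isFinLocFree_of_iso (P.truncGEXIsoOpcycles i).symm h13
    · obtain ⟨e⟩ := hP'X i hi
      exact Groth.Agent.R2.H4.LocHtpy.isFinLocFree_of_iso e.symm (hflf i)
  have hexP' : ∀ i : ℤ, b < i → P'.ExactAt i := fun i hi =>
    (quasiIsoAt_iff_exactAt' β' i (exactAt_of_isZero_X F i (hF i (Or.inr hi)))).1 inferInstance
  have h14 : IsIso (Q.map β') := (DerivedCategory.isIso_Q_map_iff_quasiIso (C := X.Modules) β').2 h2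
  exact SPRepIn.of_iso (asIso (Q.map β')) (spRepIn_truncLE' P' a (max a b₀) b hP'v hP'fl hexP')

/-- local form for a complex of flat modules. -/
theorem loc_spRepIn_of_flat_of_loc_spApprox (F : CochainComplex X.Modules ℤ) (a b : ℤ)
    (hF : DCoh.VanishesOutside F a b) (hfl : ∀ i, FlatMod.IsFlat (F.X i))
    (h2 : Loc (fun U (K : DCoh.D U) => SPApprox (a - 1) K) (Q.obj F)) :
    Loc (fun U (K : DCoh.D U) => SPRepIn a b K) (Q.obj F) := by
  apply loc_of_loc_restrict (isLocalPred_spRepIn a b)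
  intro x
  obtain ⟨U, j, hj, y, hy, P₀, α₀, ⟨P, hP, ⟨eP⟩⟩, hα₀⟩ := h2 x
  refine ⟨U, j, hj, y, hy, ?_⟩
  let FU := (resC j).obj F
  let α : Q.obj P ⟶ Q.obj FU := eP.hom ≫ α₀ ≫ (restrictDQIso j F).hom
  have hα : Conn (a - 1) α :=
    (Conn.of_isIso _ eP.hom).comp (hα₀.comp (Conn.of_isIso _ (restrictDQIso j F).hom))
  obtain ⟨V, hyV, hV⟩ := Groth.Agent.R2.H4.LocHtpy.exists_local_chain_map hP α y
  obtain ⟨β, hβ⟩ := hV
  refine ⟨V, V.ι, inferInstance, ⟨y, hyV⟩, rfl, ?_⟩
  have h3 : Conn (a - 1) ((DCoh.restrictD V.ι).map α) := conn_map _ α (a - 1) hα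
  have h4 : Conn (a - 1) (Q.map β) := by
    have e1 : Q.map β = (Scheme.Modules.restrictFunctor V.ι).mapDerivedCategoryFactors.inv.app P ≫
        (DCoh.restrictD V.ι).map α ≫
          (Scheme.Modules.restrictFunctor V.ι).mapDerivedCategoryFactors.hom.app FU := by
      rw [hβ]
      simp
    rw [e1]
    exact (Conn.of_isIso _ _).comp (h3.comp (Conn.of_isIso _ _))
  have h5 : SPRepIn a b (Q.obj ((resC V.ι).obj FU)) :=
    spRepIn_of_flat_of_conn (isStrictlyPerfect_resC V.ι hP) a b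
      (fun i hi => (Scheme.Modules.restrictFunctor V.ι).map_isZero
        ((Scheme.Modules.restrictFunctor j).map_isZero (hF i hi)))
      (fun i => isFlat_restrict V.ι _ (isFlat_restrict j _ (hfl i))) β h4
  exact SPRepIn.of_iso ((restrictDQIso V.ι FU).symm ≪≫
    (DCoh.restrictD V.ι).mapIso (restrictDQIso j F).symm) h5

theorem hasPerfectAmplitudeIn_iff_loc (K : DCoh.D X) (m n : ℤ) :
    KSix.HasPerfectAmplitudeIn m n K ↔ Loc (fun U (K : DCoh.D U) => SPRepIn m n K) K := by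
  rw [loc_iff_opens (isLocalPred_spRepIn m n)]
  constructor
  · intro h x
    obtain ⟨V, hx, hV⟩ := h x
    refine ⟨V, hx, ?_⟩
    obtain ⟨E, hv, hfl, ⟨e⟩⟩ := hV (Q.objPreimage K) ⟨Q.objObjPreimageIso K⟩
    exact ⟨E, hv, hfl, ⟨e.symm ≪≫ (restrictDQIso V.ι _).symm ≪≫
      (DCoh.restrictD V.ι).mapIso (Q.objObjPreimageIso K)⟩⟩
  · intro h x
    obtain ⟨V, hx, E, hv, hfl, ⟨e⟩⟩ := h x
    refine ⟨V, hx, fun F ⟨eF⟩ => ⟨E, hv, hfl, ⟨?_⟩⟩⟩
    exact (restrictDQIso V.ι F).symm ≪≫ (DCoh.restrictD V.ι).mapIso eF ≪≫ e.symm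

/-- S4275. -/
theorem hasPerfectAmplitudeIn_iff (E : DCoh.D X) (m n : ℤ) :
    KSix.HasPerfectAmplitudeIn m n E ↔
      DCoh.IsPseudoCoherentD (m - 1) E ∧ DCoh.HasFlatAmplitudeIn m n E := by
  constructor
  · intro h
    have hloc := (hasPerfectAmplitudeIn_iff_loc E m n).1 h
    refine ⟨?_, ?_⟩
    · apply isPseudoCoherentD_of_isPerfect
      rw [isPerfect_iff]
      intro x
      obtain ⟨U, j, hj, y, hy, hK⟩ := hloc x
      exact ⟨U, j, hj, y, hy, SPRepIn.spRep hK⟩
    · let F := Q.objPreimage E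
      have hst : StalkTorAmp m n F := by
        intro x
        obtain ⟨V, hxV, hV⟩ := h x
        obtain ⟨P, hv, hfl, ⟨e⟩⟩ := hV F ⟨Q.objObjPreimageIso E⟩
        have h1 : DCoh.HasFlatAmplitudeIn m n (DCoh.toD (V : Scheme.{u}) ((pullC V.ι).obj F)) :=
          ⟨P, hv, fun i => Groth.Agent.R2.H4.Flat.isFlat_of_isFinLocFree' _ (hfl i),
            ⟨e.symm ≪≫ Q.mapIso ((restrictCxIso V).app F)⟩⟩
        have h2 := Groth.Agent.R2.H27.PushStalk.hasTorAmp_stalk_of_hasFlatAmplitudeIn _ m n h1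
          ⟨x, hxV⟩
        exact hasTorAmp_stalk_of_pullC V.ι F m n ⟨x, hxV⟩ h2
      exact hasFlatAmplitudeIn_of_iso (Q.objObjPreimageIso E) m n
        (hasFlatAmplitudeIn_of_stalkTorAmp F m n hst)
  · rintro ⟨h1, F, hF, hfl, ⟨e⟩⟩
    rw [hasPerfectAmplitudeIn_iff_loc]
    refine Loc.of_iso (isLocalPred_spRepIn m n) e ?_
    exact loc_spRepIn_of_flat_of_loc_spApprox F m n hF hfl
      (Loc.of_iso (isLocalPred_spApprox (m - 1)) e.symm ((isPseudoCoherentD_iff (m - 1) E).1 h1))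

end Main

end Groth.Agent.R2.H4.PerfAmp
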