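import Mathlib
import Groth.Prelude.Def_KSix
import Groth.Prelude.Def_DTor2
import Groth.Agent.Lib.Helper1TorG
import Groth.Agent.Lib.Helper1TorDim
import Groth.Agent.R2.H4PerfAmp
import Groth.Agent.R2.H4FreeLocus
set_option backward.isDefEq.respectTransparency.types false

/-!
# Perfectness near a point from the tor amplitude of the stalk (helper4, round 2)
-/

set_option autoImplicit false
set_option linter.style.haveILetI false
universe u
open CategoryTheory CategoryTheory.Limits AlgebraicGeometry HomologicalComplex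
  CategoryTheory.Pretriangulated

attribute [local instance] HasDerivedCategory.standard

namespace Groth.Agent.R2.H4.PerfStalk

open DerivedCategory

section Ring

open Groth.Agent.Lib.Helper1.Tor Groth.Agent.Lib.Helper1.Sky Groth.Agent.Lib.Helper1.Cone
  Groth.Agent.Lib.Helper1.TorDim Groth.Agent.S14388

variable {R : Type u} [CommRing R]

/-- partial version of helper1's Lemma T: tensoring a map between bounded above termwise flat
complexes preserves `m`-connectedness. -/
theorem propM_TC {P E : DRing.Cx R} (f : P ⟶ E) (b b' : ℤ) (hPb : DRing.VanishesAbove P b)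
    (hEb : DRing.VanishesAbove E b') (hP : DRing.TermwiseFlat P) (hE : DRing.TermwiseFlat E)
    (m : ℤ) (hf : PropM m (Q.map f)) (M : ModuleCat.{u} R) :
    PropM m (Q.map ((TC M).map f)) := by
  rw [propM_Q_map_iff] at hf ⊢
  have hex : ∀ j : ℤ, m - 1 < j → (CochainComplex.mappingCone f).ExactAt j := fun j hj => by
    rw [HomologicalComplex.exactAt_iff_isZero_homology]
    exact hf j (by omega)
  intro i hi
  have h1 : ((TC M).obj (CochainComplex.mappingCone f)).ExactAt i :=
    exactAt_TC_of_flat _ _ (vanishesAbove_mappingCone f b b' hPb hEb)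
      (termwiseFlat_mappingCone f hP hE) (m - 1) hex M i (by omega)
  rw [HomologicalComplex.exactAt_iff_isZero_homology] at h1
  exact h1.of_iso ((HomologicalComplex.homologyFunctor _ _ i).mapIso
    (CochainComplex.mappingCone.mapHomologicalComplexIso f (T M))).symm

lemma exactAt_of_isIso_H {K L : DRing.Cx R} (f : K ⟶ L) (j : ℤ)
    (h : IsIso ((DerivedCategory.homologyFunctor (ModuleCat.{u} R) j).map (Q.map f)))
    (hL : IsZero (L.X j)) : K.ExactAt j := by
  rw [exactAt_iff_isZero_H]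
  have h1 := exactAt_of_isZero_X L j hL
  rw [exactAt_iff_isZero_H] at h1
  exact h1.of_iso (asIso ((DerivedCategory.homologyFunctor (ModuleCat.{u} R) j).map (Q.map f)))

/-- the key algebra: if a bounded above complex `P` of projective modules maps to an object of
tor amplitude `[a, b]` by an `(a - 2)`-connected map, the cokernel of `P^{a-1} → P^a` is flat. -/
theorem flat_of_propM (P : DRing.Cx R) (bP : ℤ) (hPb : DRing.VanishesAbove P bP)
    (hPproj : ∀ i, Module.Projective R (P.X i)) {K : Dual.D R} (α : Q.obj P ⟶ K) (a b : ℤ)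
    (hα : PropM (a - 2) α) (hK : DRing.HasTorAmplitudeIn R a b K)
    {C : Type*} [AddCommGroup C] [Module R C] (p : P.X a →ₗ[R] C) (hp : Function.Surjective p)
    (hdp : Function.Exact (P.d (a - 1) a).hom p) : Module.Flat R C := by
  obtain ⟨E, hE, hEf, ⟨e⟩⟩ := hK
  have hPle : P.IsStrictlyLE bP := (CochainComplex.isStrictlyLE_iff _ _).2 hPb
  have : ∀ i : ℤ, Projective (P.X i) := fun i =>
    have := hPproj i
    ModuleCat.projective_of_categoryTheory_projective _
  have : P.IsKProjective := CochainComplex.isKProjective_of_projective P bP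
  obtain ⟨g, hg⟩ := exists_chain_map P E (α ≫ e.inv)
  have hg' : PropM (a - 2) (Q.map g) := by
    rw [hg]
    exact (propM_iff_of_arrow_iso (a - 2) (α := α) (α' := α ≫ e.inv)
      (Arrow.isoMk (Iso.refl _) e.symm (by simp))).1 hα
  have hPf : DRing.TermwiseFlat P := fun i =>
    have := hPproj i
    inferInstance
  have hEb : DRing.VanishesAbove E b := fun i hi => hE i (Or.inr hi)
  have := hPf a
  refine flat_of_forall_exact_lTensor (P.d (a - 1 - 1) (a - 1)).hom (P.d (a - 1) a).hom p hp hdp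
    ?_ ?_
  · refine (exactAt_iff_fexact P (a - 1 - 1) (a - 1) a (by lia) (by lia)).1 ?_
    exact exactAt_of_isIso_H g (a - 1) (hg'.1 (a - 1) (by omega)) (hE _ (Or.inl (by omega)))
  · intro I
    have h1 := propM_TC g bP b hPb hEb hPf hEf (a - 2) hg' (ModuleCat.of R (R ⧸ I))
    have h2 : ((TC (ModuleCat.of R (R ⧸ I))).obj P).ExactAt (a - 1) :=
      exactAt_of_isIso_H _ (a - 1) (h1.1 (a - 1) (by omega))
        ((T _).map_isZero (hE _ (Or.inl (by omega))))
    rw [exactAt_TC_iff _ P (a - 1 - 1) (a - 1) a (by lia) (by lia)] at h2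
    exact h2

/-- over a ring all of whose modules have finite tor dimension, cohomologically bounded objects
have finite tor amplitude. -/
theorem exists_hasTorAmp_of_bounded
    (hR : ∀ (M : Type u) [AddCommGroup M] [Module R M], DRing.HasFiniteTorDim R M) (k : ℕ) :
    ∀ (K : Dual.D R) (c : ℤ), K.IsGE c → K.IsLE (c + k - 1) →
      ∃ a : ℤ, a ≤ c ∧ DRing.HasTorAmplitudeIn R a (c + k - 1) K := by
  induction k with
  | zero =>
    intro K c _ _
    exact ⟨c, le_rfl, hasTorAmp_of_isZero K (tt.isZero K (c + ((0 : ℕ) : ℤ) - 1) c (by simp)) _ _⟩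
  | succ k ih =>
    intro K c hGE hLE
    obtain ⟨d, hd⟩ : ∃ d : ℤ, d = c + k := ⟨_, rfl⟩
    have hc : c + ((k + 1 : ℕ) : ℤ) - 1 = d := by push_cast; omega
    rw [hc] at hLE ⊢
    have hT := tt.triangleLTGE_distinguished d K
    have hQGE : ((tt.truncGE d).obj K).IsGE d := inferInstance
    have hQLE : ((tt.truncGE d).obj K).IsLE d := inferInstance
    obtain ⟨M, ⟨eM⟩⟩ :=
      DerivedCategory.exists_iso_singleFunctor_obj_of_isGE_of_isLE ((tt.truncGE d).obj K) d
    obtain ⟨n, hn⟩ := hR M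
    have h0 : DRing.HasTorAmplitudeIn R (-(n : ℤ)) 0 (Dual.inD R M) :=
      (hasTorDimLE_iff_hasTorAmp M n).1 hn
    have h3 : DRing.HasTorAmplitudeIn R (d - n) d ((tt.truncGE d).obj K) := by
      refine hasTorAmp_of_iso eM.symm (hasTorAmp_single M (d - n) d d ?_)
      have e1 : d - (n : ℤ) - d = -(n : ℤ) := by ring
      have e2 : d - d = 0 := by ring
      rw [e1, e2]
      exact h0
    have hL1 : ((tt.truncLT d).obj K).IsGE c := inferInstance
    have hL2 : ((tt.truncLT d).obj K).IsLE (c + k - 1) := by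
      have : ((tt.truncLT d).obj K).IsLE (d - 1) := inferInstance
      have e' : c + (k : ℤ) - 1 = d - 1 := by rw [hd]
      rw [e']
      exact this
    obtain ⟨a', ha', h1⟩ := ih ((tt.truncLT d).obj K) c hL1 hL2
    refine ⟨min a' (d - n), (min_le_left _ _).trans ha', ?_⟩
    exact (hasTorAmp_two_out_of_three (min a' (d - n)) d _ hT).2.1
      (hasTorAmp_mono (min_le_left _ _) (by omega) h1)
      (hasTorAmp_mono (min_le_right _ _) le_rfl h3)

end Ring

section Stalk

open Groth.Agent.Lib.Helper1.Tor Groth.Agent.Lib.Helper1.Sky Groth.Agent.Lib.Helper1.KBC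
  Groth.Agent.Lib.Helper1.BKF Groth.Agent.R2.H27.FlatAmp Groth.Agent.R2.H4.Flat
  Groth.Agent.R2.H4.Conn Groth.Agent.R2.H4.LocFreeDeg Groth.Agent.R2.H4.PerfAmp
  Groth.Agent.R2.H4.Perf Groth.Agent.R2.H4.LocHtpy Groth.Agent.R2.H4.FreeLocus

variable {U : Scheme.{u}}

lemma propM_stalkC {P F : CochainComplex U.Modules ℤ} (β : P ⟶ F) (m : ℤ)
    (h : PropM m (Q.map β)) (y : U) : PropM m (Q.map ((stalkC y).map β)) := by
  rw [propM_Q_map_iff] at h ⊢
  intro i hi
  have h1 : ((stalkC y).obj (CochainComplex.mappingCone β)).ExactAt i := by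
    refine Groth.Agent.R2.H4.Conn.exactAt_map (stalkFun y) _ i ?_
    rw [HomologicalComplex.exactAt_iff_isZero_homology]
    exact h i hi
  rw [HomologicalComplex.exactAt_iff_isZero_homology] at h1
  exact h1.of_iso ((HomologicalComplex.homologyFunctor _ _ i).mapIso
    (CochainComplex.mappingCone.mapHomologicalComplexIso β (stalkFun y))).symm

/-- if a strictly perfect complex `P` maps to `F` by an `(a - 2)`-connected chain map and the
complex of stalks of `F` at `y` has tor amplitude in `[a, b]`, then `coker (P^{a-1} → P^a)` is flat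
at `y`. -/
theorem isFlatAt_opcycles_of_stalk (P F : CochainComplex U.Modules ℤ)
    (hP : DCoh.IsStrictlyPerfect P) (β : P ⟶ F) (a b : ℤ) (hβ : PropM (a - 2) (Q.map β)) (y : U)
    (hst : DRing.HasTorAmplitudeIn (U.presheaf.stalk y) a b
      (DRing.toD (((DerSch.stalkFunctor U y).mapHomologicalComplex (ComplexShape.up ℤ)).obj F))) :
    FlatMod.IsFlatAt (P.opcycles a) y := by
  obtain ⟨⟨a₀, b₀, hv⟩, hfl⟩ := hP
  rw [isFlatAt_iff]
  have hst' : DRing.HasTorAmplitudeIn (Ox y) a b (Q.obj ((stalkC y).obj F)) :=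
    hasTorAmp_of_iso (Q.mapIso (stalkCIso F y)) hst
  refine flat_of_propM ((stalkC y).obj P) b₀
    (fun i hi => (stalkFun y).map_isZero (hv i (Or.inr hi))) (fun i => ?_)
    (Q.map ((stalkC y).map β)) a b (propM_stalkC β _ hβ y) hst'
    ((stalkFun y).map (P.pOpcycles a)).hom ?_ ?_
  · obtain ⟨h1, h2⟩ := (stalkFF_iff _ _).1 (stalkFF_of_isFinLocFree (P.X i) (hfl i) y)
    exact @Module.Projective.of_free _ _ _ _ _ h1
  · exact (ModuleCat.epi_iff_surjective _).1 inferInstance
  · have hex : (ShortComplex.mk (P.d (a - 1) a) (P.pOpcycles a) (P.d_pOpcycles _ _)).Exact :=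
      ShortComplex.exact_of_g_is_cokernel _ (P.opcyclesIsCokernel (a - 1) a (by simp))
    have h2 := hex.map (stalkFun y)
    exact (ShortComplex.ShortExact.moduleCat_exact_iff_function_exact _).1 h2

lemma exactAt_of_Q_iso' {A : Type*} [Category A] [Abelian A] [HasDerivedCategory A]
    {K L : CochainComplex A ℤ} (e : Q.obj K ≅ Q.obj L) (j : ℤ) (h : K.ExactAt j) :
    L.ExactAt j := by
  rw [HomologicalComplex.exactAt_iff_isZero_homology] at h ⊢
  have h1 : IsZero ((DerivedCategory.homologyFunctor A j).obj (Q.obj K)) :=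
    ((DerivedCategory.homologyFunctorFactors A j).app K).isZero_iff.2 h
  exact ((DerivedCategory.homologyFunctorFactors A j).app L).isZero_iff.1
    (h1.of_iso ((DerivedCategory.homologyFunctor A j).mapIso e.symm))

/-- second half of `spRepIn_of_flat_of_conn`: once `coker (P^{a-1} → P^a)` is finite locally
free, the truncation of `P` computes `F`. -/
theorem spRepIn_of_isFinLocFree_opcycles {P F : CochainComplex U.Modules ℤ}
    (hP : DCoh.IsStrictlyPerfect P) (β : P ⟶ F) (a b : ℤ)
    (hβ : ∀ i : ℤ, a ≤ i → QuasiIsoAt β i) (hGE : F.IsGE a)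
    (hex : ∀ i : ℤ, b < i → F.ExactAt i) (hop : FlatMod.IsFinLocFree (P.opcycles a)) :
    SPRepIn a b (Q.obj F) := by
  obtain ⟨⟨a₀, b₀, hv⟩, hflf⟩ := hP
  have h1 : QuasiIso (CochainComplex.truncGEMap β a) := by
    rw [CochainComplex.quasiIso_truncGEMap_iff]
    exact hβ
  have h2 : QuasiIso (F.πTruncGE a) := (F.quasiIso_πTruncGE_iff a).2 hGE
  have h1' : IsIso (Q.map (CochainComplex.truncGEMap β a)) :=
    (DerivedCategory.isIso_Q_map_iff_quasiIso (C := U.Modules) _).2 h1
  have h2' : IsIso (Q.map (F.πTruncGE a)) :=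
    (DerivedCategory.isIso_Q_map_iff_quasiIso (C := U.Modules) _).2 h2
  let P' := P.truncGE a
  let e : Q.obj P' ≅ Q.obj F :=
    asIso (Q.map (CochainComplex.truncGEMap β a)) ≪≫ (asIso (Q.map (F.πTruncGE a))).symm
  have hP'X : ∀ i, a < i → Nonempty (P'.X i ≅ P.X i) := fun i hi => ⟨P.truncGEXIso a i hi⟩
  have hP'0 : ∀ i, i < a → IsZero (P'.X i) := fun i hi =>
    CochainComplex.isZero_of_isStrictlyGE P' a i hi
  have hP'v : DCoh.VanishesOutside P' a (max a b₀) := by
    intro i hi
    rcases hi with hi | hi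
    · exact hP'0 i hi
    · have h3 := le_max_left a b₀
      have h4 := le_max_right a b₀
      obtain ⟨e⟩ := hP'X i (by omega)
      exact (hv i (Or.inr (by omega))).of_iso e
  have hP'fl : ∀ i, FlatMod.IsFinLocFree (P'.X i) := by
    intro i
    rcases lt_trichotomy i a with hi | rfl | hi
    · exact isFinLocFree_of_isZero _ (hP'0 i hi)
    · exact Groth.Agent.R2.H4.LocHtpy.isFinLocFree_of_iso (P.truncGEXIsoOpcycles i).symm hop
    · obtain ⟨e⟩ := hP'X i hi
      exact Groth.Agent.R2.H4.LocHtpy.isFinLocFree_of_iso e.symm (hflf i)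
  have hexP' : ∀ i : ℤ, b < i → P'.ExactAt i := fun i hi =>
    exactAt_of_Q_iso' e.symm i (hex i hi)
  exact SPRepIn.of_iso e (spRepIn_truncLE' P' a (max a b₀) b hP'v hP'fl hexP')

end Stalk

section Ascent

open Groth.Agent.Lib.Helper1.Tor Groth.Agent.Lib.Helper1.Sky Groth.Agent.Lib.Helper1.KBC
  Groth.Agent.Lib.Helper1.BKF Groth.Agent.Lib.Helper1.Extend Groth.Agent.R2.H27.FlatAmp
  Groth.Agent.R2.H27.FlatDesc Groth.Agent.R2.H4.LocHtpy

variable {X Y : Scheme.{u}} (f : X ⟶ Y)

/-- tor amplitude of the stalk complex ascends along flat morphisms. -/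
theorem hasTorAmp_stalk_pullC [Flat f] (K : CochainComplex Y.Modules ℤ) (a b : ℤ) (x : X) (y : Y)
    (hxy : f x = y)
    (h : DRing.HasTorAmplitudeIn (Y.presheaf.stalk y) a b
      (DRing.toD (((DerSch.stalkFunctor Y y).mapHomologicalComplex (ComplexShape.up ℤ)).obj K))) :
    DRing.HasTorAmplitudeIn (X.presheaf.stalk x) a b
      (DRing.toD (((DerSch.stalkFunctor X x).mapHomologicalComplex (ComplexShape.up ℤ)).obj
        ((pullC f).obj K))) := by
  subst hxy
  letI := (f.stalkMap x).hom.toAlgebra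
  haveI : Module.Flat (Y.presheaf.stalk (f x)) (X.presheaf.stalk x) := Flat.stalkMap f x
  have h1 : DRing.HasTorAmplitudeIn (Y.presheaf.stalk (f x)) a b
      (DRing.toD ((stalkC (f x)).obj K)) :=
    hasTorAmp_of_iso (Q.mapIso (stalkCIso K (f x))) h
  have h2 := hasTorAmp_extD (B := X.presheaf.stalk x) _ a b h1
  have h3 : DRing.HasTorAmplitudeIn (X.presheaf.stalk x) a b
      (DRing.toD ((extCx (Y.presheaf.stalk (f x)) (X.presheaf.stalk x)).obj
        ((stalkC (f x)).obj K))) :=
    hasTorAmp_of_iso (mapQIso (ext _ _) _) h2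
  exact hasTorAmp_of_iso (Q.mapIso (stalkCIso _ x ≪≫ stalkPullCIso f K x).symm) h3

/-- the same for the restriction along an open immersion. -/
theorem hasTorAmp_stalk_resC {U : Scheme.{u}} (j : U ⟶ X) [IsOpenImmersion j]
    (K : CochainComplex X.Modules ℤ) (a b : ℤ) (y : U) (x : X) (hxy : j y = x)
    (h : DRing.HasTorAmplitudeIn (X.presheaf.stalk x) a b
      (DRing.toD (((DerSch.stalkFunctor X x).mapHomologicalComplex (ComplexShape.up ℤ)).obj K))) :
    DRing.HasTorAmplitudeIn (U.presheaf.stalk y) a b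
      (DRing.toD (((DerSch.stalkFunctor U y).mapHomologicalComplex (ComplexShape.up ℤ)).obj
        ((resC j).obj K))) := by
  have h1 := hasTorAmp_stalk_pullC j K a b y x hxy h
  let e : (resC j).obj K ≅ (pullC j).obj K :=
    (NatIso.mapHomologicalComplex (Scheme.Modules.restrictFunctorIsoPullback j)
      (ComplexShape.up ℤ)).app K
  exact hasTorAmp_of_iso (Q.mapIso
    ((((DerSch.stalkFunctor U y).mapHomologicalComplex (ComplexShape.up ℤ)).mapIso e).symm)) h1

end Ascent

section Main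

open Groth.Agent.Lib.Helper1.Tor Groth.Agent.Lib.Helper1.Sky Groth.Agent.Lib.Helper1.KBC
  Groth.Agent.Lib.Helper1.BKF Groth.Agent.R2.H27.FlatAmp Groth.Agent.R2.H4.Flat
  Groth.Agent.R2.H4.Conn Groth.Agent.R2.H4.LocFreeDeg Groth.Agent.R2.H4.PerfAmp
  Groth.Agent.R2.H4.Perf Groth.Agent.R2.H4.LocHtpy Groth.Agent.R2.H4.FreeLocus
  Groth.Agent.R2.H4.FlatPerf Groth.Agent.Lib.Helper2.LocFree Groth.Agent.S14388

lemma LocAt.of_iso {Φ : ∀ (U : Scheme.{u}), DCoh.D U → Prop} (hΦ : IsLocalPred Φ)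
    {X : Scheme.{u}} {K K' : DCoh.D X} (e : K ≅ K') {x : X} (h : LocAt Φ K x) : LocAt Φ K' x := by
  obtain ⟨U, j, hj, y, hy, hK⟩ := h
  exact ⟨U, j, hj, y, hy, hΦ.of_iso ((DCoh.restrictD j).mapIso e) hK⟩

lemma isGE_resC {U X : Scheme.{u}} (j : U ⟶ X) [IsOpenImmersion j]
    (F : CochainComplex X.Modules ℤ) (a : ℤ) (h : F.IsGE a) : ((resC j).obj F).IsGE a := by
  rw [CochainComplex.isGE_iff] at h ⊢
  exact fun i hi => Groth.Agent.R2.H4.Conn.exactAt_map (Scheme.Modules.restrictFunctor j) F i (h i hi)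

lemma isLE_resC {U X : Scheme.{u}} (j : U ⟶ X) [IsOpenImmersion j]
    (F : CochainComplex X.Modules ℤ) (b : ℤ) (h : F.IsLE b) : ((resC j).obj F).IsLE b := by
  rw [CochainComplex.isLE_iff] at h ⊢
  exact fun i hi => Groth.Agent.R2.H4.Conn.exactAt_map (Scheme.Modules.restrictFunctor j) F i (h i hi)

variable {U : Scheme.{u}}

/-- the local statement on a scheme carrying a global approximation. -/
theorem locAt_spRepIn_of_approx (F P : CochainComplex U.Modules ℤ) (hP : DCoh.IsStrictlyPerfect P)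
    (α : Q.obj P ⟶ Q.obj F) (a b : ℤ) (hα : Conn (a - 2) α) (hGE : F.IsGE a) (hLE : F.IsLE b)
    (y : U)
    (hst : DRing.HasTorAmplitudeIn (U.presheaf.stalk y) a b
      (DRing.toD (((DerSch.stalkFunctor U y).mapHomologicalComplex (ComplexShape.up ℤ)).obj F))) :
    LocAt (fun V (K : DCoh.D V) => SPRepIn a b K) (Q.obj F) y := by
  obtain ⟨V, hyV, hV⟩ := exists_local_chain_map hP α y
  obtain ⟨β, hβ⟩ := hV
  let PV := (resC V.ι).obj P
  let FV := (resC V.ι).obj F
  have h3 : Conn (a - 2) ((DCoh.restrictD V.ι).map α) := conn_map _ α (a - 2) hα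
  have h4 : Conn (a - 2) (Q.map β) := by
    have e1 : Q.map β = (Scheme.Modules.restrictFunctor V.ι).mapDerivedCategoryFactors.inv.app P ≫
        (DCoh.restrictD V.ι).map α ≫
          (Scheme.Modules.restrictFunctor V.ι).mapDerivedCategoryFactors.hom.app F := by
      rw [hβ]
      simp
    rw [e1]
    exact (Conn.of_isIso _ _).comp (h3.comp (Conn.of_isIso _ _))
  let y' : (V : Scheme.{u}) := ⟨y, hyV⟩
  have hPV : DCoh.IsStrictlyPerfect PV := isStrictlyPerfect_resC V.ι hP
  have hstV := hasTorAmp_stalk_resC V.ι F a b y' y rfl hst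
  have hflat : FlatMod.IsFlatAt (PV.opcycles a) y' :=
    isFlatAt_opcycles_of_stalk PV FV hPV β a b ⟨h4.1, h4.2⟩ y' hstV
  have hfp : SheafOfModules.IsFinitePresentation (R := (V : Scheme.{u}).ringCatSheaf)
      (PV.opcycles a) :=
    isFP_of_isCokernel (PV.d (a - 1) a) (PV.pOpcycles a) (PV.d_pOpcycles _ _)
      (PV.opcyclesIsCokernel (a - 1) a (by simp)) (hPV.2 _) (hPV.2 _)
  obtain ⟨W, n, hyW, ⟨eW⟩⟩ := exists_restrict_iso_freeMod_of_isFlatAt (PV.opcycles a) y' hflat
  let PW := (resC W.ι).obj PV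
  let FW := (resC W.ι).obj FV
  let βW : PW ⟶ FW := (resC W.ι).map β
  have hPW : DCoh.IsStrictlyPerfect PW := isStrictlyPerfect_resC W.ι hPV
  have hqi : ∀ i : ℤ, a ≤ i → QuasiIsoAt βW i := by
    intro i hi
    have : QuasiIsoAt β i := quasiIsoAt_of_conn β (a - 2) h4 i (by omega)
    exact inferInstanceAs (QuasiIsoAt
      (((Scheme.Modules.restrictFunctor W.ι).mapHomologicalComplex (ComplexShape.up ℤ)).map β) i)
  have hop : FlatMod.IsFinLocFree (PW.opcycles a) := by
    have e1 : PW.opcycles a ≅ (Scheme.Modules.restrictFunctor W.ι).obj (PV.opcycles a) :=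
      (PV.sc a).mapOpcyclesIso (Scheme.Modules.restrictFunctor W.ι)
    exact isFinLocFree_of_iso_freeMod _ (e1 ≪≫ eW)
  have hFW1 : FW.IsGE a := isGE_resC W.ι FV a (isGE_resC V.ι F a hGE)
  have hFW2 : FW.IsLE b := isLE_resC W.ι FV b (isLE_resC V.ι F b hLE)
  have hFW2' : ∀ i : ℤ, b < i → FW.ExactAt i := (CochainComplex.isLE_iff _ _).1 hFW2
  have hrep : SPRepIn a b (Q.obj FW) :=
    spRepIn_of_isFinLocFree_opcycles hPW βW a b hqi hFW1 hFW2' hop
  refine ⟨(W : Scheme.{u}), W.ι ≫ V.ι, inferInstance, ⟨y', hyW⟩, rfl, ?_⟩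
  exact SPRepIn.of_iso ((restrictDQIso W.ι FV).symm ≪≫
    (DCoh.restrictD W.ι).mapIso (restrictDQIso V.ι F).symm ≪≫
    ((restrictDComp W.ι V.ι).app (Q.obj F)).symm) hrep

/-- **Perfectness near a point**: an `(a - 2)`-pseudo-coherent complex with cohomology in
`[a, b]`, whose complex of stalks at `x` has tor amplitude in `[a, b]`, is near `x` a complex of
finite locally free modules placed in `[a, b]`. -/
theorem locAt_spRepIn_of_stalk {X : Scheme.{u}} (F : CochainComplex X.Modules ℤ) (a b : ℤ)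
    (hpc : DCoh.IsPseudoCoherentD (a - 2) (Q.obj F)) (hGE : F.IsGE a) (hLE : F.IsLE b) (x : X)
    (hst : DRing.HasTorAmplitudeIn (X.presheaf.stalk x) a b
      (DRing.toD (((DerSch.stalkFunctor X x).mapHomologicalComplex (ComplexShape.up ℤ)).obj F))) :
    LocAt (fun V (K : DCoh.D V) => SPRepIn a b K) (Q.obj F) x := by
  obtain ⟨U, j, hj, y, hy, P₀, α₀, ⟨P, hP, ⟨eP⟩⟩, hα₀⟩ :=
    (isPseudoCoherentD_iff (a - 2) _).1 hpc x
  let FU := (resC j).obj F
  let α : Q.obj P ⟶ Q.obj FU := eP.hom ≫ α₀ ≫ (restrictDQIso j F).hom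
  have hα : Conn (a - 2) α :=
    (Conn.of_isIso _ eP.hom).comp (hα₀.comp (Conn.of_isIso _ (restrictDQIso j F).hom))
  have hstU := hasTorAmp_stalk_resC j F a b y x hy hst
  have h1 := locAt_spRepIn_of_approx FU P hP α a b hα (isGE_resC j F a hGE) (isLE_resC j F b hLE)
    y hstU
  have h2 := LocAt.of_iso (isLocalPred_spRepIn a b) (restrictDQIso j F).symm h1
  have h3 := LocAt.of_restrict (isLocalPred_spRepIn a b) j (Q.obj F) y h2
  rw [hy] at h3
  exact h3

/-- S6194. -/
theorem isPerfect_iff_of_stalks {X : Scheme.{u}}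
    (hX : ∀ (x : X) (M : Type u) [AddCommGroup M] [Module (X.presheaf.stalk x) M],
      DRing.HasFiniteTorDim (X.presheaf.stalk x) M)
    (F : CochainComplex X.Modules ℤ) (c d : ℤ) [(DCoh.toD X F).IsGE c] [(DCoh.toD X F).IsLE d] :
    (∀ m : ℤ, DCoh.IsPseudoCoherentD m (DCoh.toD X F)) ↔ DCoh.IsPerfect (DCoh.toD X F) := by
  constructor
  · intro hpc
    rw [isPerfect_iff]
    intro x
    obtain ⟨c', hc'c, hc'd⟩ : ∃ c' : ℤ, c' ≤ c ∧ c' ≤ d + 1 :=
      ⟨min c (d + 1), min_le_left _ _, min_le_right _ _⟩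
    obtain ⟨k, hk⟩ : ∃ k : ℕ, (k : ℤ) = d + 1 - c' :=
      ⟨(d + 1 - c').toNat, Int.toNat_of_nonneg (by omega)⟩
    have hFGE : F.IsGE c := (DerivedCategory.isGE_Q_obj_iff _ _).1 inferInstance
    have hFLE : F.IsLE d := (DerivedCategory.isLE_Q_obj_iff _ _).1 inferInstance
    have hFGE' := (CochainComplex.isGE_iff _ _).1 hFGE
    have hFLE' := (CochainComplex.isLE_iff _ _).1 hFLE
    let Kx : DRing.Cx (X.presheaf.stalk x) := (stalkC x).obj F
    have h1 : Kx.IsGE c' := by
      rw [CochainComplex.isGE_iff]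
      intro i hi
      exact Groth.Agent.R2.H4.Conn.exactAt_map (stalkFun x) F i (hFGE' i (by omega))
    have h2 : Kx.IsLE d := by
      rw [CochainComplex.isLE_iff]
      intro i hi
      exact Groth.Agent.R2.H4.Conn.exactAt_map (stalkFun x) F i (hFLE' i hi)
    have h1' : (Q.obj Kx).IsGE c' := (DerivedCategory.isGE_Q_obj_iff _ _).2 h1
    have hd : c' + (k : ℤ) - 1 = d := by omega
    have h2' : (Q.obj Kx).IsLE (c' + k - 1) := by
      rw [hd]
      exact (DerivedCategory.isLE_Q_obj_iff _ _).2 h2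
    obtain ⟨a, ha, hamp⟩ := exists_hasTorAmp_of_bounded (hX x) k (Q.obj Kx) c' h1' h2'
    rw [hd] at hamp
    have hamp' : DRing.HasTorAmplitudeIn (X.presheaf.stalk x) a d
        (DRing.toD (((DerSch.stalkFunctor X x).mapHomologicalComplex (ComplexShape.up ℤ)).obj
          F)) :=
      hasTorAmp_of_iso (Q.mapIso (stalkCIso F x).symm) hamp
    have hFGEa : F.IsGE a := by
      rw [CochainComplex.isGE_iff]
      intro i hi
      exact hFGE' i (by omega)
    obtain ⟨U, j, hj, y, hy, hK⟩ :=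
      locAt_spRepIn_of_stalk F a d (hpc (a - 2)) hFGEa hFLE x hamp'
    exact ⟨U, j, hj, y, hy, SPRepIn.spRep hK⟩
  · exact isPseudoCoherentD_of_isPerfect _

end Main

end Groth.Agent.R2.H4.PerfStalk
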