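import Mathlib
import Groth.Prelude.Def_DCoh3
import Groth.Agent.R2.H4FlatPerf
set_option backward.isDefEq.respectTransparency.types false
set_option autoImplicit false
universe u
open CategoryTheory CategoryTheory.Limits AlgebraicGeometry HomologicalComplex

attribute [local instance] HasDerivedCategory.standard

namespace Groth.Agent.R2.H4.RelPerf

open DerivedCategory Groth.Agent.R2.H4.Perf Groth.Agent.R2.H4.Flat Groth.Agent.R2.H4.LocHtpy
  Groth.Agent.R2.H4.FlatPerf

variable {X S : Scheme.{u}}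

/-- a flat module on the source of a flat morphism is flat over the base. -/
lemma isFlatOverAt_of_isFlatAt (f : X ⟶ S) [Flat f] (M : X.Modules) (x : X)
    (h : FlatMod.IsFlatAt M x) : FlatMod.IsFlatOverAt f M x := by
  letI : Algebra (S.presheaf.stalk (f.base x)) (X.presheaf.stalk x) :=
    (f.stalkMap x).hom.toAlgebra
  letI := FlatMod.moduleStalkOver f M x
  haveI : IsScalarTower (S.presheaf.stalk (f.base x)) (X.presheaf.stalk x)
      (M.presheaf.stalk x) := IsScalarTower.of_algebraMap_smul (fun r m => rfl)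
  haveI : Module.Flat (S.presheaf.stalk (f.base x)) (X.presheaf.stalk x) := Flat.stalkMap f x
  haveI : Module.Flat (X.presheaf.stalk x) (M.presheaf.stalk x) := h
  exact Module.Flat.trans (S.presheaf.stalk (f.base x)) (X.presheaf.stalk x) (M.presheaf.stalk x)

/-- S7248. -/
theorem relativelyPerfect_of_perfect (f : X ⟶ S) [Flat f] (E : DCoh.D X)
    (hE : DCoh.IsPerfect E) :
    (∀ m : ℤ, DCoh.IsPseudoCoherentD m E) ∧ DCoh.LocHasFiniteRelTorDim f E := by
  refine ⟨isPseudoCoherentD_of_isPerfect E hE, ?_⟩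
  rw [isPerfect_iff, loc_iff_opens isLocalPred_spRep] at hE
  intro x
  obtain ⟨V, hx, P, ⟨⟨a, b, hv⟩, hflf⟩, ⟨e⟩⟩ := hE x
  refine ⟨V, a, b, hx, fun F' ⟨eF'⟩ => ⟨P, hv, fun i y => ?_, ⟨?_⟩⟩⟩
  · exact isFlatOverAt_of_isFlatAt (V.ι ≫ f) _ y
      (Groth.Agent.Lib.Helper1.Sky.isFlat_of_isFinLocFree' _ (hflf i) y)
  · exact e ≪≫ (DCoh.restrictD V.ι).mapIso eF'.symm ≪≫ restrictDQIso V.ι F'

end Groth.Agent.R2.H4.RelPerf
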