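import Mathlib

/-!
# Subobjects of `L F` for an adjoint triple `L ⊣ R ⊣ R'` with `R'` fully faithful and mono counit (helper50)

Abstract form of: for an open immersion `j`, a sub-`O_X`-module of `j_! F` is determined by its restriction
to `U` (`L = j_!`, `R = j^*`, `R' = j_*`).  Consequence: ACC for subobjects of `R L F ≅ F` implies ACC for
subobjects of `L F`.
-/

set_option autoImplicit false
set_option linter.unusedSectionVars false
set_option linter.style.haveILetI false
universe v₁ v₂ u₁ u₂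
open CategoryTheory CategoryTheory.Limits

namespace Groth.Agent.R2.H50.AdjTriple

variable {𝒜 : Type u₁} {ℬ : Type u₂} [Category.{v₁} 𝒜] [Category.{v₂} ℬ] [Abelian 𝒜] [Abelian ℬ]
  {L : ℬ ⥤ 𝒜} {R : 𝒜 ⥤ ℬ} {R' : ℬ ⥤ 𝒜} (adj₁ : L ⊣ R) (adj₂ : R ⊣ R')

include adj₂ in
theorem isIso_unit [IsIso adj₂.counit] : IsIso adj₁.unit :=
  (Adjunction.Triple.mk adj₁ adj₂).isIso_unit_iff_isIso_counit.2 inferInstance

/-- the canonical map `L F ⟶ R' F` (`j_! F ⟶ j_* F`) -/
noncomputable def lr [IsIso adj₂.counit] (F : ℬ) : L.obj F ⟶ R'.obj F :=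
  inv (L.map (adj₂.counit.app F)) ≫ adj₁.counit.app (R'.obj F)

instance mono_lr [IsIso adj₂.counit] (F : ℬ) [Mono (adj₁.counit.app (R'.obj F))] :
    Mono (lr adj₁ adj₂ F) := by
  unfold lr
  infer_instance

variable [IsIso adj₂.counit] (hmono : ∀ M : 𝒜, Mono (adj₁.counit.app M))

include adj₂ hmono in
/-- a morphism into `L F` killed by `R` is zero -/
theorem eq_zero_of_map_eq_zero {G : 𝒜} {F : ℬ} (g : G ⟶ L.obj F) (hg : R.map g = 0) : g = 0 := by
  haveI := hmono (R'.obj F)
  haveI : R.IsLeftAdjoint := adj₂.isLeftAdjoint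
  rw [← cancel_mono (lr adj₁ adj₂ F), zero_comp]
  apply (adj₂.homEquiv _ _).symm.injective
  rw [Adjunction.homEquiv_counit, Adjunction.homEquiv_counit, Functor.map_comp, hg, zero_comp,
    Functor.map_zero, zero_comp]

include adj₂ hmono in
/-- a subobject of `L F` is in the essential image of `L`: the counit is an isomorphism -/
theorem isIso_counit_of_mono {G : 𝒜} {F : ℬ} (i : G ⟶ L.obj F) [Mono i] :
    IsIso (adj₁.counit.app G) := by
  haveI := isIso_unit adj₁ adj₂
  haveI := hmono G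
  haveI : L.IsLeftAdjoint := adj₁.isLeftAdjoint
  haveI : R.IsLeftAdjoint := adj₂.isLeftAdjoint
  haveI : PreservesColimitsOfSize.{0, 0} L := adj₁.leftAdjoint_preservesColimits
  let hL : L.FullyFaithful := adj₁.fullyFaithfulLOfIsIsoUnit
  -- `a = ε_G ≫ i = L a'`
  let a' : R.obj G ⟶ F := hL.preimage (adj₁.counit.app G ≫ i)
  have ha' : L.map a' = adj₁.counit.app G ≫ i := hL.map_preimage _
  let e : L.obj (cokernel a') ≅ cokernel (L.map a') := PreservesCokernel.iso L a'
  -- `R ε_G` is an isomorphism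
  haveI hRε : IsIso (R.map (adj₁.counit.app G)) := by
    have h := adj₁.right_triangle_components G
    haveI : IsIso (adj₁.unit.app (R.obj G)) := inferInstance
    exact IsIso.of_isIso_fac_left h
  -- `i ≫ cokernel.π (L a')` is killed by `R`, hence zero
  have h0 : i ≫ cokernel.π (L.map a') = 0 := by
    have h1 : (i ≫ cokernel.π (L.map a')) ≫ e.inv = 0 := by
      apply eq_zero_of_map_eq_zero adj₁ adj₂ hmono
      rw [← cancel_epi (R.map (adj₁.counit.app G)), comp_zero, ← Functor.map_comp,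
        ← Category.assoc, ← Category.assoc, ← ha', cokernel.condition, zero_comp, Functor.map_zero]
    rw [← cancel_mono e.inv, h1, zero_comp]
  -- so `i` factors through `L a'`, a kernel of its cokernel
  haveI : Mono (L.map a') := by rw [ha']; infer_instance
  let s : G ⟶ L.obj (R.obj G) :=
    (Abelian.monoIsKernelOfCokernel _ (cokernelIsCokernel (L.map a'))).lift (KernelFork.ofι i h0)
  have hs : s ≫ L.map a' = i :=
    (Abelian.monoIsKernelOfCokernel _ (cokernelIsCokernel (L.map a'))).fac (KernelFork.ofι i h0)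
      WalkingParallelPair.zero
  have hs' : s ≫ adj₁.counit.app G = 𝟙 G := by
    rw [← cancel_mono i, Category.assoc, ← ha', hs, Category.id_comp]
  haveI : IsSplitEpi (adj₁.counit.app G) := ⟨⟨⟨s, hs'⟩⟩⟩
  exact isIso_of_mono_of_isSplitEpi _

include adj₂ hmono in
/-- a morphism between subobjects of `L F` which becomes an isomorphism after `R` is an isomorphism -/
theorem isIso_of_isIso_map {G₁ G₂ : 𝒜} {F : ℬ} (i₁ : G₁ ⟶ L.obj F) (i₂ : G₂ ⟶ L.obj F) [Mono i₁] [Mono i₂]
    (f : G₁ ⟶ G₂) [IsIso (R.map f)] : IsIso f := by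
  haveI := isIso_counit_of_mono adj₁ adj₂ hmono i₁
  haveI := isIso_counit_of_mono adj₁ adj₂ hmono i₂
  have h : L.map (R.map f) ≫ adj₁.counit.app G₂ = adj₁.counit.app G₁ ≫ f :=
    adj₁.counit.naturality f
  have h2 : f = inv (adj₁.counit.app G₁) ≫ L.map (R.map f) ≫ adj₁.counit.app G₂ := by
    rw [h, IsIso.inv_hom_id_assoc]
  rw [h2]
  infer_instance

include adj₂ hmono in
/-- **ACC transfer**: if ascending chains of subobjects of `R (L F)` stabilise, so do those of `L F`. -/
theorem chain_stabilizes (F : ℬ)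
    (hF : ∀ d : ℕ →o Subobject (R.obj (L.obj F)), ∃ n : ℕ, ∀ m : ℕ, n ≤ m → d n = d m)
    (c : ℕ →o Subobject (L.obj F)) : ∃ n : ℕ, ∀ m : ℕ, n ≤ m → c n = c m := by
  haveI : R.PreservesMonomorphisms := Functor.preservesMonomorphisms_of_adjunction adj₁
  let d : ℕ →o Subobject (R.obj (L.obj F)) :=
    ⟨fun n => Subobject.mk (R.map (c n).arrow), fun n m h =>
      Subobject.mk_le_mk_of_comm (R.map (Subobject.ofLE _ _ (c.monotone h)))
        (by rw [← Functor.map_comp, Subobject.ofLE_arrow])⟩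
  obtain ⟨N, hN⟩ := hF d
  refine ⟨N, fun m h => le_antisymm (c.monotone h) ?_⟩
  have hd : Subobject.mk (R.map (c N).arrow) = Subobject.mk (R.map (c m).arrow) := hN m h
  have h1 : R.map (Subobject.ofLE _ _ (c.monotone h)) = (Subobject.isoOfMkEqMk _ _ hd).hom := by
    rw [← cancel_mono (R.map (c m).arrow), ← Functor.map_comp, Subobject.ofLE_arrow]
    exact (Subobject.ofMkLEMk_comp hd.le).symm
  haveI : IsIso (R.map (Subobject.ofLE _ _ (c.monotone h))) := by rw [h1]; infer_instance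
  haveI := isIso_of_isIso_map adj₁ adj₂ hmono (c N).arrow (c m).arrow
    (Subobject.ofLE _ _ (c.monotone h))
  refine Subobject.le_of_comm (inv (Subobject.ofLE (c N) (c m) (c.monotone h))) ?_
  rw [IsIso.inv_comp_eq, Subobject.ofLE_arrow]

include adj₂ hmono in
/-- `lr` is natural -/
theorem lr_naturality {A B : ℬ} (m : A ⟶ B) :
    L.map m ≫ lr adj₁ adj₂ B = lr adj₁ adj₂ A ≫ R'.map m := by
  have n1 : L.map (R.map (R'.map m)) ≫ L.map (adj₂.counit.app B) =
      L.map (adj₂.counit.app A) ≫ L.map m := by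
    rw [← L.map_comp, ← L.map_comp]
    exact congrArg L.map (adj₂.counit.naturality m)
  have n2 : L.map (R.map (R'.map m)) ≫ adj₁.counit.app (R'.obj B) =
      adj₁.counit.app (R'.obj A) ≫ R'.map m := adj₁.counit.naturality (R'.map m)
  unfold lr
  rw [← cancel_epi (L.map (adj₂.counit.app A))]
  simp only [Category.assoc, IsIso.hom_inv_id_assoc]
  rw [← reassoc_of% n1, IsIso.hom_inv_id_assoc, n2]

include adj₂ hmono in
/-- in the situation of the adjoint triple, the left adjoint `L` preserves monomorphisms -/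
theorem preservesMonomorphisms_left : L.PreservesMonomorphisms where
  preserves {A B} m _ := by
    haveI := hmono (R'.obj A)
    haveI := hmono (R'.obj B)
    haveI : R'.PreservesMonomorphisms := Functor.preservesMonomorphisms_of_adjunction adj₂
    haveI : Mono (L.map m ≫ lr adj₁ adj₂ B) := by
      rw [lr_naturality adj₁ adj₂ hmono m]
      infer_instance
    exact mono_of_mono (L.map m) (lr adj₁ adj₂ B)

include adj₂ hmono in
/-- hence the middle functor `R` preserves injective objects -/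
theorem injective_map_of_injective (Q : 𝒜) [Injective Q] : Injective (R.obj Q) := by
  haveI := preservesMonomorphisms_left adj₁ adj₂ hmono
  exact Injective.injective_of_adjoint adj₁ Q

include adj₂ hmono in
/-- extension of morphisms from subobjects of `L F` into `Q`, when `R Q` is injective -/
theorem exists_extension_of_injective_map {F : ℬ} {S Q : 𝒜} (i : S ⟶ L.obj F) [Mono i]
    [Injective (R.obj Q)] (φ : S ⟶ Q) : ∃ ψ : L.obj F ⟶ Q, i ≫ ψ = φ := by
  haveI := isIso_counit_of_mono adj₁ adj₂ hmono i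
  haveI := isIso_counit_of_mono adj₁ adj₂ hmono (𝟙 (L.obj F))
  haveI : R.PreservesMonomorphisms := Functor.preservesMonomorphisms_of_adjunction adj₁
  let φ'' : R.obj S ⟶ R.obj Q := adj₁.homEquiv _ _ (adj₁.counit.app S ≫ φ)
  let ψ'' : R.obj (L.obj F) ⟶ R.obj Q := Injective.factorThru φ'' (R.map i)
  have hψ'' : R.map i ≫ ψ'' = φ'' := Injective.comp_factorThru _ _
  refine ⟨inv (adj₁.counit.app (L.obj F)) ≫ (adj₁.homEquiv _ _).symm ψ'', ?_⟩
  have n3 : L.map (R.map i) ≫ adj₁.counit.app (L.obj F) = adj₁.counit.app S ≫ i :=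
    adj₁.counit.naturality i
  rw [← cancel_epi (adj₁.counit.app S), ← reassoc_of% n3, IsIso.hom_inv_id_assoc]
  have h1 : L.map (R.map i) ≫ (adj₁.homEquiv _ _).symm ψ'' =
      (adj₁.homEquiv _ _).symm (R.map i ≫ ψ'') :=
    (adj₁.homEquiv_naturality_left_symm _ _).symm
  exact h1.trans (by rw [hψ'', Equiv.symm_apply_apply])

section Transport

universe v₃ v₄ u₃ u₄
variable {𝒞 : Type u₃} [Category.{v₃} 𝒞] {ℬ₁ : Type u₄} [Category.{v₄} ℬ₁] {ℬ₂ : Type u₂} [Category.{v₂} ℬ₂]

/-- mono-ness of the counit at `M` is insensitive to replacing the source category by an equivalent one -/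
theorem mono_counit_of_equiv {L₁ : ℬ₁ ⥤ 𝒞} {R₁ : 𝒞 ⥤ ℬ₁} (a₁ : L₁ ⊣ R₁)
    {L₂ : ℬ₂ ⥤ 𝒞} {R₂ : 𝒞 ⥤ ℬ₂} (a₂ : L₂ ⊣ R₂)
    {E : ℬ₂ ⥤ ℬ₁} {E' : ℬ₁ ⥤ ℬ₂} (aE : E ⊣ E') (hE : IsIso aE.counit) (γ : R₁ ⋙ E' ≅ R₂) (M : 𝒞)
    (hM : Mono (a₁.counit.app M)) : Mono (a₂.counit.app M) := by
  let a₃ : E ⋙ L₁ ⊣ R₂ := (aE.comp a₁).ofNatIsoRight γ
  rw [← Adjunction.leftAdjointUniq_hom_app_counit a₂ a₃ M]
  have h3 : a₃.counit.app M =
      L₁.map (E.map (γ.inv.app M)) ≫ L₁.map (aE.counit.app (R₁.obj M)) ≫ a₁.counit.app M := by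
    simp [a₃]
  rw [h3]
  infer_instance

end Transport

end Groth.Agent.R2.H50.AdjTriple
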