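import Mathlib
import Groth.Prelude.Def_CAlg
import Groth.Agent.Lib.Helper28DepthBC
import Groth.Agent.Lib.Helper28RegSeqExact
import Groth.Agent.Lib.Helper28PolyCM
import Groth.Agent.Lib.Helper5CM

/-!
# Cohen–Macaulay criteria (helper50)

* `cmLocal_of_quotient_regular`: a Noetherian local ring is CM if its quotient by a regular element of the maximal
  ideal is.
* `cmLocal_quotient_inf`: gluing: `B/I`, `B/J` CM of dimension `δ`, `B/(I+J)` CM of dimension `≥ δ - 1`
  ⇒ `B/(I ∩ J)` CM of dimension `δ`.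
-/

set_option autoImplicit false

universe u

namespace Groth.Agent.R2.H50.CM

open Groth.Agent.Lib.Helper28
open scoped Pointwise

section Local

variable {B : Type u} [CommRing B] [IsNoetherianRing B] [IsLocalRing B]

theorem cmLocal_of_le (h : ringKrullDim B ≤ ((LocCoh.depth B B : ℕ∞) : WithBot ℕ∞)) :
    LocCoh.IsCohenMacaulayLocalRing B :=
  { supportDim_eq_depth := le_antisymm (by rw [Module.supportDim_self_eq_ringKrullDim]; exact h)
      Groth.Agent.Lib.Helper5.depth_le_supportDim }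

theorem dim_eq_depth_of_cmLocal [h : LocCoh.IsCohenMacaulayLocalRing B] :
    ringKrullDim B = ((LocCoh.depth B B : ℕ∞) : WithBot ℕ∞) := by
  rw [← Module.supportDim_self_eq_ringKrullDim]
  exact h.supportDim_eq_depth

/-- the depth of a quotient ring over itself is its depth as a module over the ring. -/
theorem depth_quotient_eq (I : Ideal B) (hI : I ≠ ⊤) :
    haveI : Nontrivial (B ⧸ I) := Ideal.Quotient.nontrivial_iff.2 hI
    haveI : IsLocalRing (B ⧸ I) := IsLocalRing.of_surjective' (Ideal.Quotient.mk I) Ideal.Quotient.mk_surjective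
    LocCoh.depth B (B ⧸ I) = LocCoh.depth (B ⧸ I) (B ⧸ I) := by
  haveI : Nontrivial (B ⧸ I) := Ideal.Quotient.nontrivial_iff.2 hI
  haveI : IsLocalRing (B ⧸ I) := IsLocalRing.of_surjective' (Ideal.Quotient.mk I) Ideal.Quotient.mk_surjective
  haveI : IsLocalHom (algebraMap B (B ⧸ I)) :=
    IsLocalHom.of_surjective _ Ideal.Quotient.mk_surjective
  exact depth_eq_depth_of_isLocalHom_of_finite (A := B) (B := B ⧸ I) (M := B ⧸ I)

/-- A Noetherian local ring whose quotient by a regular element of the maximal ideal is Cohen–Macaulay is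
Cohen–Macaulay. -/
theorem cmLocal_of_quotient_regular (x : B) (hx : x ∈ IsLocalRing.maximalIdeal B) (hreg : IsSMulRegular B x)
    [hq : LocCoh.IsCohenMacaulayLocalRing (B ⧸ Ideal.span {x})] : LocCoh.IsCohenMacaulayLocalRing B := by
  have hI : Ideal.span {x} ≠ ⊤ := by
    intro h
    have : x ∈ IsLocalRing.maximalIdeal B := hx
    have h1 : Ideal.span {x} ≤ IsLocalRing.maximalIdeal B := (Ideal.span_singleton_le_iff_mem _).2 hx
    rw [h] at h1
    exact (IsLocalRing.maximalIdeal.isMaximal B).ne_top (top_le_iff.1 h1)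
  have hdim : ringKrullDim (B ⧸ Ideal.span {x}) + 1 = ringKrullDim B :=
    ringKrullDim_quotient_span_singleton_succ_eq_ringKrullDim hreg hx
  have hIM : IsLocalRing.maximalIdeal B • (⊤ : Submodule B B) ≠ ⊤ := maximalIdeal_smul_top_ne_top
  have hdepth : LocCoh.depth B (QuotSMulTop x B) + 1 = LocCoh.depth B B :=
    idealDepth_quotSMulTop_add_one (IsLocalRing.maximalIdeal B) B hIM x hx hreg
  have heq : (x • (⊤ : Submodule B B)) = (Ideal.span {x} : Submodule B B) := by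
    rw [← Submodule.ideal_span_singleton_smul, smul_eq_mul, Ideal.mul_top]
  have hcongr : LocCoh.depth B (QuotSMulTop x B) = LocCoh.depth B (B ⧸ Ideal.span {x}) :=
    idealDepth_congr (Submodule.quotEquivOfEq _ _ heq) _
  have h2 := depth_quotient_eq (Ideal.span {x}) hI
  have h3 := dim_eq_depth_of_cmLocal (B := B ⧸ Ideal.span {x})
  apply cmLocal_of_le
  rw [← hdim, h3, ← hdepth, hcongr, h2]
  exact le_of_eq rfl

end Local

section Dim

variable {R : Type u} [CommRing R]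

/-- the dimension of `R/(I ∩ J)` is at most the maximum of the dimensions of `R/I` and `R/J`. -/
theorem ringKrullDim_quotient_inf_le (I J : Ideal R) :
    ringKrullDim (R ⧸ (I ⊓ J)) ≤ max (ringKrullDim (R ⧸ I)) (ringKrullDim (R ⧸ J)) := by
  rw [ringKrullDim_quotient, ringKrullDim_quotient, ringKrullDim_quotient]
  unfold Order.krullDim
  refine iSup_le fun s => ?_
  have hhead : I ⊓ J ≤ s.head.1.asIdeal := (PrimeSpectrum.mem_zeroLocus _ _).1 s.head.2
  have key : ∀ K : Ideal R, K ≤ s.head.1.asIdeal →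
      (s.length : WithBot ℕ∞) ≤ ⨆ p : LTSeries (PrimeSpectrum.zeroLocus (K : Set R)), (p.length : WithBot ℕ∞) := by
    intro K hK
    let t : LTSeries (PrimeSpectrum.zeroLocus (K : Set R)) :=
      { length := s.length
        toFun := fun i => ⟨(s i).1, (PrimeSpectrum.mem_zeroLocus _ _).2
          (le_trans hK (show s.head.1.asIdeal ≤ (s i).1.asIdeal from
            (PrimeSpectrum.asIdeal_le_asIdeal _ _).2 (LTSeries.head_le s i)))⟩
        step := fun i => s.step i }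
    exact le_iSup (fun p : LTSeries (PrimeSpectrum.zeroLocus (K : Set R)) => (p.length : WithBot ℕ∞)) t
  rcases (Ideal.IsPrime.inf_le s.head.1.isPrime).1 hhead with h | h
  · exact le_trans (key I h) (le_max_left _ _)
  · exact le_trans (key J h) (le_max_right _ _)

end Dim

section Glue

variable {B : Type u} [CommRing B] [IsNoetherianRing B] [IsLocalRing B]

theorem depth_prod_ge (M N : Type u) [AddCommGroup M] [Module B M] [AddCommGroup N] [Module B N]
    [Module.Finite B M] [Module.Finite B N] :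
    min (LocCoh.depth B M) (LocCoh.depth B N) ≤ LocCoh.depth B (M × N) :=
  min_idealDepth_le_mid (IsLocalRing.maximalIdeal B) (LinearMap.inl B M N) (LinearMap.snd B M N)
    LinearMap.inl_injective LinearMap.snd_surjective Function.Exact.inl_snd

/-- gluing: if `B/I`, `B/J` are Cohen–Macaulay of dimension `δ` and `B/(I+J)` is Cohen–Macaulay of dimension at least
`δ - 1`, then `B/(I ∩ J)` is Cohen–Macaulay of dimension `δ`. -/
theorem cmLocal_quotient_inf (I J : Ideal B) (hI : I ≠ ⊤) (hJ : J ≠ ⊤)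
    [hcI : LocCoh.IsCohenMacaulayLocalRing (B ⧸ I)] [hcJ : LocCoh.IsCohenMacaulayLocalRing (B ⧸ J)]
    [hcIJ : LocCoh.IsCohenMacaulayLocalRing (B ⧸ (I ⊔ J))] (δ : ℕ)
    (hdI : ringKrullDim (B ⧸ I) = δ) (hdJ : ringKrullDim (B ⧸ J) = δ)
    (hdIJ : (δ : WithBot ℕ∞) ≤ ringKrullDim (B ⧸ (I ⊔ J)) + 1) :
    LocCoh.IsCohenMacaulayLocalRing (B ⧸ (I ⊓ J)) ∧ ringKrullDim (B ⧸ (I ⊓ J)) = δ := by
  have hIJ : I ⊔ J ≠ ⊤ := by
    intro h
    have : Nontrivial (B ⧸ (I ⊔ J)) := inferInstance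
    exact (Ideal.Quotient.nontrivial_iff.1 this) h
  have hinf : I ⊓ J ≠ ⊤ := fun h => hI (top_le_iff.1 (h ▸ inf_le_left))
  have e1 : LocCoh.depth B (B ⧸ I) = δ := by
    rw [depth_quotient_eq I hI]
    have := dim_eq_depth_of_cmLocal (B := B ⧸ I)
    rw [hdI] at this
    exact_mod_cast this.symm
  have e2 : LocCoh.depth B (B ⧸ J) = δ := by
    rw [depth_quotient_eq J hJ]
    have := dim_eq_depth_of_cmLocal (B := B ⧸ J)
    rw [hdJ] at this
    exact_mod_cast this.symm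
  have e3 : (δ : ℕ∞) ≤ LocCoh.depth B (B ⧸ (I ⊔ J)) + 1 := by
    rw [depth_quotient_eq (I ⊔ J) hIJ]
    have := dim_eq_depth_of_cmLocal (B := B ⧸ (I ⊔ J))
    rw [this] at hdIJ
    exact_mod_cast hdIJ
  have e4 : (δ : ℕ∞) ≤ LocCoh.depth B ((B ⧸ I) × (B ⧸ J)) := by
    refine le_trans ?_ (depth_prod_ge (B ⧸ I) (B ⧸ J))
    rw [e1, e2, min_self]
  have e5 : (δ : ℕ∞) ≤ LocCoh.depth B (B ⧸ (I ⊓ J)) := by
    refine le_trans (le_min e4 e3) ?_
    exact min_idealDepth_le_left (IsLocalRing.maximalIdeal B) (quotInfToProd I J) (prodToQuotSup I J)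
      (quotInfToProd_injective I J) (prodToQuotSup_surjective I J) (quotInfToProd_prodToQuotSup_exact I J)
  have e6 : ringKrullDim (B ⧸ (I ⊓ J)) ≤ δ := by
    refine le_trans (ringKrullDim_quotient_inf_le I J) ?_
    rw [hdI, hdJ, max_self]
  haveI : Nontrivial (B ⧸ (I ⊓ J)) := Ideal.Quotient.nontrivial_iff.2 hinf
  haveI : IsLocalRing (B ⧸ (I ⊓ J)) :=
    IsLocalRing.of_surjective' (Ideal.Quotient.mk (I ⊓ J)) Ideal.Quotient.mk_surjective
  have e7 : ((δ : ℕ∞) : WithBot ℕ∞) ≤ ((LocCoh.depth (B ⧸ (I ⊓ J)) (B ⧸ (I ⊓ J)) : ℕ∞) : WithBot ℕ∞) := by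
    rw [← depth_quotient_eq (I ⊓ J) hinf]
    exact WithBot.coe_le_coe.2 e5
  have hcm : LocCoh.IsCohenMacaulayLocalRing (B ⧸ (I ⊓ J)) := cmLocal_of_le (le_trans e6 e7)
  refine ⟨hcm, le_antisymm e6 ?_⟩
  rw [dim_eq_depth_of_cmLocal (B := B ⧸ (I ⊓ J))]
  exact e7

end Glue

section Global

variable {A : Type u} [CommRing A]

/-- the quotient of the localisation of `A` at `p` by the extension of `𝔞`: the localisation of `A/𝔞` at `p/𝔞`. -/
abbrev LQ (𝔞 p : Ideal A) [p.IsPrime] : Type u :=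
  Localization.AtPrime p ⧸ 𝔞.map (algebraMap A (Localization.AtPrime p))

theorem map_ne_top (𝔞 p : Ideal A) [p.IsPrime] (h : 𝔞 ≤ p) :
    𝔞.map (algebraMap A (Localization.AtPrime p)) ≠ ⊤ := by
  intro htop
  have h1 : 𝔞.map (algebraMap A (Localization.AtPrime p)) ≤ IsLocalRing.maximalIdeal (Localization.AtPrime p) := by
    rw [← Localization.AtPrime.map_eq_maximalIdeal]
    exact Ideal.map_mono h
  rw [htop] at h1
  exact (IsLocalRing.maximalIdeal.isMaximal _).ne_top (top_le_iff.1 h1)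

theorem isLocalRing_LQ (𝔞 p : Ideal A) [p.IsPrime] (h : 𝔞 ≤ p) : IsLocalRing (LQ 𝔞 p) := by
  haveI : Nontrivial (LQ 𝔞 p) := Ideal.Quotient.nontrivial_iff.2 (map_ne_top 𝔞 p h)
  exact IsLocalRing.of_surjective' (Ideal.Quotient.mk _) Ideal.Quotient.mk_surjective

theorem algebraMapSubmonoid_comap (𝔞 : Ideal A) (P : Ideal (A ⧸ 𝔞)) [P.IsPrime] :
    Algebra.algebraMapSubmonoid (A ⧸ 𝔞) (P.comap (Ideal.Quotient.mk 𝔞)).primeCompl = P.primeCompl := by
  ext x
  obtain ⟨a, rfl⟩ := Ideal.Quotient.mk_surjective x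
  constructor
  · rintro ⟨b, hb, hba⟩
    have hb' : Ideal.Quotient.mk 𝔞 b ∉ P := hb
    have : algebraMap A (A ⧸ 𝔞) b = Ideal.Quotient.mk 𝔞 b := rfl
    rw [this] at hba
    rw [← hba]
    exact hb'
  · intro ha
    exact ⟨a, ha, rfl⟩

/-- the localisation of `A/𝔞` at a prime `P` is the quotient of the localisation of `A` at the preimage of `P`. -/
noncomputable def locQuotEquiv (𝔞 : Ideal A) (P : Ideal (A ⧸ 𝔞)) [P.IsPrime] :
    Localization.AtPrime P ≃+* LQ 𝔞 (P.comap (Ideal.Quotient.mk 𝔞)) := by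
  haveI : IsLocalization P.primeCompl (LQ 𝔞 (P.comap (Ideal.Quotient.mk 𝔞))) := by
    rw [← algebraMapSubmonoid_comap]
    infer_instance
  exact (IsLocalization.algEquiv P.primeCompl (Localization.AtPrime P)
    (LQ 𝔞 (P.comap (Ideal.Quotient.mk 𝔞)))).toRingEquiv

/-- every prime containing `𝔞` is the preimage of a prime of the quotient -/
theorem exists_comap_eq (𝔞 p : Ideal A) [hp : p.IsPrime] (h : 𝔞 ≤ p) :
    ∃ (P : Ideal (A ⧸ 𝔞)) (_ : P.IsPrime), P.comap (Ideal.Quotient.mk 𝔞) = p := by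
  refine ⟨p.map (Ideal.Quotient.mk 𝔞), ?_, ?_⟩
  · refine Ideal.map_isPrime_of_surjective Ideal.Quotient.mk_surjective ?_
    rw [Ideal.mk_ker]
    exact h
  · rw [Ideal.comap_map_of_surjective _ Ideal.Quotient.mk_surjective, ← RingHom.ker_eq_comap_bot, Ideal.mk_ker,
      sup_eq_left]
    exact h

theorem cmRing_quotient_of_forall [IsNoetherianRing A] (𝔞 : Ideal A)
    (h : ∀ (p : Ideal A) [p.IsPrime], 𝔞 ≤ p → LocCoh.IsCohenMacaulayLocalRing (LQ 𝔞 p)) :
    LocCoh.IsCohenMacaulayRing (A ⧸ 𝔞) := by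
  refine ⟨fun P hP => ?_⟩
  have hle : 𝔞 ≤ P.comap (Ideal.Quotient.mk 𝔞) := by
    intro a ha
    rw [Ideal.mem_comap, Ideal.Quotient.eq_zero_iff_mem.2 ha]
    exact P.zero_mem
  haveI := h (P.comap (Ideal.Quotient.mk 𝔞)) hle
  exact isCohenMacaulayLocalRing_of_ringEquiv (locQuotEquiv 𝔞 P).symm

theorem cmLocal_LQ_of_cmRing (𝔞 : Ideal A) [hA : LocCoh.IsCohenMacaulayRing (A ⧸ 𝔞)] (p : Ideal A) [p.IsPrime]
    (h : 𝔞 ≤ p) : LocCoh.IsCohenMacaulayLocalRing (LQ 𝔞 p) := by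
  obtain ⟨P, hP, rfl⟩ := exists_comap_eq 𝔞 p h
  haveI := hA.isCohenMacaulayLocalRing_localization P
  exact isCohenMacaulayLocalRing_of_ringEquiv (locQuotEquiv 𝔞 P)

/-- the dimension of the localisation of `A/𝔞` at `p/𝔞` -/
theorem ringKrullDim_LQ (𝔞 : Ideal A) (P : Ideal (A ⧸ 𝔞)) [P.IsPrime] :
    ringKrullDim (LQ 𝔞 (P.comap (Ideal.Quotient.mk 𝔞))) = P.height := by
  rw [← ringKrullDim_eq_of_ringEquiv (locQuotEquiv 𝔞 P)]
  exact IsLocalization.AtPrime.ringKrullDim_eq_height P _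

theorem map_inf_eq_of_not_le (I J p : Ideal A) [p.IsPrime] (h : ¬ I ≤ p) :
    (I ⊓ J).map (algebraMap A (Localization.AtPrime p)) = J.map (algebraMap A (Localization.AtPrime p)) := by
  rw [IsLocalization.map_inf p.primeCompl]
  have : I.map (algebraMap A (Localization.AtPrime p)) = ⊤ := by
    obtain ⟨a, haI, hap⟩ := Set.not_subset.1 h
    refine Ideal.eq_top_of_isUnit_mem _ (Ideal.mem_map_of_mem _ haI) ?_
    exact IsLocalization.map_units (Localization.AtPrime p) (⟨a, hap⟩ : p.primeCompl)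
  rw [this, top_inf_eq]

/-- regular element criterion at the level of localised quotients -/
theorem cmLocal_LQ_of_regular [IsNoetherianRing A] (𝔞 : Ideal A) (x : A) (p : Ideal A) [p.IsPrime]
    (h𝔞 : 𝔞 ≤ p) (hx : x ∈ p)
    (hreg : IsSMulRegular (LQ 𝔞 p) (Ideal.Quotient.mk (𝔞.map (algebraMap A (Localization.AtPrime p)))
      (algebraMap A (Localization.AtPrime p) x)))
    (hcm : LocCoh.IsCohenMacaulayLocalRing (LQ (𝔞 ⊔ Ideal.span {x}) p)) :
    LocCoh.IsCohenMacaulayLocalRing (LQ 𝔞 p) ∧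
      ringKrullDim (LQ 𝔞 p) = ringKrullDim (LQ (𝔞 ⊔ Ideal.span {x}) p) + 1 := by
  haveI := isLocalRing_LQ 𝔞 p h𝔞
  set B := Localization.AtPrime p with hB
  set x' := algebraMap A B x with hx'
  set xbar : LQ 𝔞 p := Ideal.Quotient.mk _ x' with hxbar
  have hmem : xbar ∈ IsLocalRing.maximalIdeal (LQ 𝔞 p) := by
    rw [IsLocalRing.mem_maximalIdeal, mem_nonunits_iff]
    intro hu
    haveI : IsLocalHom (Ideal.Quotient.mk (𝔞.map (algebraMap A B))) :=
      IsLocalHom.of_surjective _ Ideal.Quotient.mk_surjective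
    have hu' : IsUnit x' := isUnit_of_map_unit (Ideal.Quotient.mk (𝔞.map (algebraMap A B))) x' hu
    have : x' ∈ IsLocalRing.maximalIdeal B := (IsLocalization.AtPrime.to_map_mem_maximal_iff B p x).2 hx
    exact (IsLocalRing.mem_maximalIdeal _).1 this hu'
  -- the quotient by `xbar`
  have e1 : (Ideal.span {x'}).map (Ideal.Quotient.mk (𝔞.map (algebraMap A B))) = Ideal.span {xbar} := by
    rw [Ideal.map_span, Set.image_singleton]
  have e2 : 𝔞.map (algebraMap A B) ⊔ Ideal.span {x'} = (𝔞 ⊔ Ideal.span {x}).map (algebraMap A B) := by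
    rw [Ideal.map_sup, Ideal.map_span, Set.image_singleton]
  let e : (LQ 𝔞 p ⧸ Ideal.span {xbar}) ≃+* LQ (𝔞 ⊔ Ideal.span {x}) p :=
    ((Ideal.quotEquivOfEq e1.symm).trans
      (DoubleQuot.quotQuotEquivQuotSup (𝔞.map (algebraMap A B)) (Ideal.span {x'}))).trans
      (Ideal.quotEquivOfEq e2)
  haveI : LocCoh.IsCohenMacaulayLocalRing (LQ 𝔞 p ⧸ Ideal.span {xbar}) :=
    isCohenMacaulayLocalRing_of_ringEquiv e.symm
  refine ⟨cmLocal_of_quotient_regular xbar hmem hreg, ?_⟩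
  rw [← ringKrullDim_quotient_span_singleton_succ_eq_ringKrullDim hreg hmem, ringKrullDim_eq_of_ringEquiv e]

/-- gluing at the level of localised quotients -/
theorem cmLocal_LQ_inf [IsNoetherianRing A] (I J : Ideal A) (p : Ideal A) [p.IsPrime] (hI : I ≤ p) (hJ : J ≤ p)
    (hcI : LocCoh.IsCohenMacaulayLocalRing (LQ I p)) (hcJ : LocCoh.IsCohenMacaulayLocalRing (LQ J p))
    (hcIJ : LocCoh.IsCohenMacaulayLocalRing (LQ (I ⊔ J) p)) (δ : ℕ)
    (hdI : ringKrullDim (LQ I p) = δ) (hdJ : ringKrullDim (LQ J p) = δ)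
    (hdIJ : (δ : WithBot ℕ∞) ≤ ringKrullDim (LQ (I ⊔ J) p) + 1) :
    LocCoh.IsCohenMacaulayLocalRing (LQ (I ⊓ J) p) ∧ ringKrullDim (LQ (I ⊓ J) p) = δ := by
  unfold LQ at hcIJ hdIJ ⊢
  rw [IsLocalization.map_inf p.primeCompl]
  rw [Ideal.map_sup] at hcIJ hdIJ
  exact cmLocal_quotient_inf _ _ (map_ne_top I p hI) (map_ne_top J p hJ) δ hdI hdJ hdIJ

end Global

end Groth.Agent.R2.H50.CM
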