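import Mathlib
import Groth.Prelude.Def_CAlg
import Groth.Agent.R2.H50CM
import Groth.Agent.Lib.Helper28Unmixed

/-!
# Cohen–Macaulay rings and localisation (helper50)

* `atPrimeComapEquiv`: for a localisation `L` of `R` and a prime `q` of `L`, `R_{q ∩ R} ≃ L_q`.
* `cmRing_of_isLocalization`: a localisation of a Cohen–Macaulay ring is Cohen–Macaulay.
* `cmLocal_atPrime_of_isLocalization`: if a localisation `L` of `R` is Cohen–Macaulay then `R_P` is Cohen–Macaulay for
  the primes `P` that survive in `L`.
* `cmRing_mvPolynomial`: polynomial rings in finitely many variables over a field are Cohen–Macaulay.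
* `cmLocal_of_isField`: fields are Cohen–Macaulay local rings.
-/

set_option autoImplicit false

universe u

namespace Groth.Agent.R2.H50.CM

open Groth.Agent.Lib.Helper28

section Loc

variable {R : Type u} [CommRing R] (M : Submonoid R) (L : Type u) [CommRing L] [Algebra R L] [IsLocalization M L]


/-- the localisation of `R` at the preimage of a prime `q` of a localisation `L` of `R` is `L_q`. -/
noncomputable def atPrimeComapEquiv (q : Ideal L) [q.IsPrime] :
    Localization.AtPrime (q.comap (algebraMap R L)) ≃+* Localization.AtPrime q := by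
  haveI : IsLocalization.AtPrime (Localization.AtPrime q) (q.comap (algebraMap R L)) :=
    IsLocalization.isLocalization_isLocalization_atPrime_isLocalization M (Localization.AtPrime q) q
  exact (IsLocalization.algEquiv (q.comap (algebraMap R L)).primeCompl
    (Localization.AtPrime (q.comap (algebraMap R L))) (Localization.AtPrime q)).toRingEquiv

include M

/-- a localisation of a Cohen–Macaulay ring is Cohen–Macaulay. -/
theorem cmRing_of_isLocalization [hR : LocCoh.IsCohenMacaulayRing R] : LocCoh.IsCohenMacaulayRing L := by
  haveI : IsNoetherianRing L := IsLocalization.isNoetherianRing M L inferInstance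
  refine ⟨fun q hq => ?_⟩
  haveI := hR.isCohenMacaulayLocalRing_localization (q.comap (algebraMap R L))
  exact isCohenMacaulayLocalRing_of_ringEquiv (atPrimeComapEquiv M L q)

/-- if a localisation `L` of `R` is Cohen–Macaulay, then `R_P` is Cohen–Macaulay for every prime `P` disjoint from the
multiplicative set. -/
theorem cmLocal_atPrime_of_isLocalization [hL : LocCoh.IsCohenMacaulayRing L] (P : Ideal R) [hP : P.IsPrime]
    (hd : Disjoint (M : Set R) (P : Set R)) : LocCoh.IsCohenMacaulayLocalRing (Localization.AtPrime P) := by
  have hP' : (P.map (algebraMap R L)).IsPrime := IsLocalization.isPrime_of_isPrime_disjoint M L P hP hd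
  have hcomap : (P.map (algebraMap R L)).comap (algebraMap R L) = P :=
    IsLocalization.comap_map_of_isPrime_disjoint M L hP hd
  have key : ∀ (q : Ideal L) [q.IsPrime] (P₁ : Ideal R) [P₁.IsPrime], q.comap (algebraMap R L) = P₁ →
      LocCoh.IsCohenMacaulayLocalRing (Localization.AtPrime P₁) := by
    intro q hq P₁ hP₁ h
    subst h
    haveI := hL.isCohenMacaulayLocalRing_localization q
    exact isCohenMacaulayLocalRing_of_ringEquiv (atPrimeComapEquiv M L q).symm
  exact key (P.map (algebraMap R L)) P hcomap

end Loc

/-- polynomial rings in finitely many variables over a field are Cohen–Macaulay. -/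
theorem cmRing_mvPolynomial (K : Type u) [Field K] (σ : Type*) [Finite σ] :
    LocCoh.IsCohenMacaulayRing (MvPolynomial σ K) := by
  haveI := Fintype.ofFinite σ
  haveI : LocCoh.IsCohenMacaulayRing K := isCohenMacaulayRing_of_field K
  haveI : LocCoh.IsCohenMacaulayRing (MvPolynomial (Fin (Fintype.card σ)) K) :=
    isCohenMacaulayRing_mvPolynomial_fin (Fintype.card σ)
  exact isCohenMacaulayRing_of_ringEquiv (MvPolynomial.renameEquiv K (Fintype.equivFin σ)).symm.toRingEquiv

/-- a field is a Cohen–Macaulay local ring. -/
theorem cmLocal_of_isField {F : Type u} [CommRing F] (hF : IsField F) : LocCoh.IsCohenMacaulayLocalRing F := by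
  letI := hF.toField
  haveI : IsNoetherianRing F := inferInstance
  haveI : IsLocalRing F := inferInstance
  apply cmLocal_of_le
  rw [ringKrullDim_eq_zero_of_field]
  exact_mod_cast (bot_le : (0 : ℕ∞) ≤ LocCoh.depth F F)

section Quot

variable {A : Type u} [CommRing A]

/-- `A/(P ∩ A) ≃ (A/𝔞)/P` for an ideal `P` of `A/𝔞`. -/
noncomputable def quotComapEquiv (𝔞 : Ideal A) (P : Ideal (A ⧸ 𝔞)) :
    (A ⧸ P.comap (Ideal.Quotient.mk 𝔞)) ≃+* ((A ⧸ 𝔞) ⧸ P) :=
  (Ideal.quotEquivOfEq (by
    rw [RingHom.ker_eq_comap_bot, ← Ideal.comap_comap, ← RingHom.ker_eq_comap_bot, Ideal.mk_ker])).trans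
    (RingHom.quotientKerEquivOfSurjective
      (f := (Ideal.Quotient.mk P).comp (Ideal.Quotient.mk 𝔞))
      (Ideal.Quotient.mk_surjective.comp Ideal.Quotient.mk_surjective))

/-- the quotient of the localisation at a maximal ideal by the extension of that ideal is a field, hence CM. -/
theorem cmLocal_LQ_self (p : Ideal A) [hp : p.IsMaximal] :
    LocCoh.IsCohenMacaulayLocalRing (LQ p p) ∧ ringKrullDim (LQ p p) = 0 := by
  have h1 : p.map (algebraMap A (Localization.AtPrime p)) = IsLocalRing.maximalIdeal (Localization.AtPrime p) :=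
    Localization.AtPrime.map_eq_maximalIdeal
  have hF : IsField (LQ p p) := by
    unfold LQ
    rw [h1]
    exact (Ideal.Quotient.maximal_ideal_iff_isField_quotient _).1 inferInstance
  refine ⟨cmLocal_of_isField hF, ?_⟩
  letI := hF.toField
  exact ringKrullDim_eq_zero_of_field _

end Quot

end Groth.Agent.R2.H50.CM
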