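import Mathlib
import Groth.Prelude.Def_CAlg
import Groth.Agent.R2.H50CMLoc

/-!
# Quotients of Cohen–Macaulay rings by regular elements (helper50)

* `cmLocal_quotient_of_regular`: `B` CM local, `x ∈ 𝔪` regular ⇒ `B/(x)` CM local.
* `cmLocal_LQ_quotient_regular`: the same for the localised quotients `LQ 𝔞 p`.
* `isSMulRegular_LQ_of_isPrime`: an element outside a prime `𝔞` is regular on `LQ 𝔞 p`.
-/

set_option autoImplicit false

universe u

namespace Groth.Agent.R2.H50.CM

open Groth.Agent.Lib.Helper28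
open scoped Pointwise

section Local

variable {B : Type u} [CommRing B] [IsNoetherianRing B] [IsLocalRing B]

theorem cmLocal_quotient_of_regular [hB : LocCoh.IsCohenMacaulayLocalRing B] (x : B)
    (hx : x ∈ IsLocalRing.maximalIdeal B) (hreg : IsSMulRegular B x) :
    LocCoh.IsCohenMacaulayLocalRing (B ⧸ Ideal.span {x}) := by
  have hI : Ideal.span {x} ≠ ⊤ := by
    intro h
    have h1 : Ideal.span {x} ≤ IsLocalRing.maximalIdeal B := (Ideal.span_singleton_le_iff_mem _).2 hx
    rw [h] at h1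
    exact (IsLocalRing.maximalIdeal.isMaximal B).ne_top (top_le_iff.1 h1)
  haveI : Nontrivial (B ⧸ Ideal.span {x}) := Ideal.Quotient.nontrivial_iff.2 hI
  haveI : IsLocalRing (B ⧸ Ideal.span {x}) :=
    IsLocalRing.of_surjective' (Ideal.Quotient.mk _) Ideal.Quotient.mk_surjective
  have hdim : ringKrullDim (B ⧸ Ideal.span {x}) + 1 = ringKrullDim B :=
    ringKrullDim_quotient_span_singleton_succ_eq_ringKrullDim hreg hx
  have hIM : IsLocalRing.maximalIdeal B • (⊤ : Submodule B B) ≠ ⊤ := maximalIdeal_smul_top_ne_top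
  have hdepth : LocCoh.depth B (QuotSMulTop x B) + 1 = LocCoh.depth B B :=
    idealDepth_quotSMulTop_add_one (IsLocalRing.maximalIdeal B) B hIM x hx hreg
  have heq : (x • (⊤ : Submodule B B)) = (Ideal.span {x} : Submodule B B) := by
    rw [← Submodule.ideal_span_singleton_smul, smul_eq_mul, Ideal.mul_top]
  have hcongr : LocCoh.depth B (QuotSMulTop x B) = LocCoh.depth B (B ⧸ Ideal.span {x}) :=
    idealDepth_congr (Submodule.quotEquivOfEq _ _ heq) _
  have h2 := depth_quotient_eq (Ideal.span {x}) hI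
  have h3 := dim_eq_depth_of_cmLocal (B := B)
  apply cmLocal_of_le
  obtain ⟨a, ha⟩ : ∃ a : ℕ∞, ringKrullDim (B ⧸ Ideal.span {x}) = (a : WithBot ℕ∞) := by
    have : ringKrullDim (B ⧸ Ideal.span {x}) ≠ ⊥ := ringKrullDim_ne_bot
    exact ⟨_, (WithBot.coe_unbot _ this).symm⟩
  rw [ha] at hdim ⊢
  rw [h3, ← hdepth, hcongr, h2] at hdim
  have h4 : a + 1 = LocCoh.depth (B ⧸ Ideal.span {x}) (B ⧸ Ideal.span {x}) + 1 := by
    exact_mod_cast hdim
  have h5 := ENat.add_left_injective_of_ne_top (n := 1) (by simp) h4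
  rw [h5]

end Local

section Global

variable {A : Type u} [CommRing A]

theorem cmLocal_LQ_quotient_regular [IsNoetherianRing A] (𝔞 : Ideal A) (x : A) (p : Ideal A) [p.IsPrime]
    (h𝔞 : 𝔞 ≤ p) (hx : x ∈ p)
    (hreg : IsSMulRegular (LQ 𝔞 p) (Ideal.Quotient.mk (𝔞.map (algebraMap A (Localization.AtPrime p)))
      (algebraMap A (Localization.AtPrime p) x)))
    (hcm : LocCoh.IsCohenMacaulayLocalRing (LQ 𝔞 p)) :
    LocCoh.IsCohenMacaulayLocalRing (LQ (𝔞 ⊔ Ideal.span {x}) p) ∧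
      ringKrullDim (LQ 𝔞 p) = ringKrullDim (LQ (𝔞 ⊔ Ideal.span {x}) p) + 1 := by
  haveI := isLocalRing_LQ 𝔞 p h𝔞
  set B := Localization.AtPrime p with hB
  set x' := algebraMap A B x with hx'
  set xbar : LQ 𝔞 p := Ideal.Quotient.mk _ x' with hxbar
  have hmem : xbar ∈ IsLocalRing.maximalIdeal (LQ 𝔞 p) := by
    rw [IsLocalRing.mem_maximalIdeal, mem_nonunits_iff]
    intro hu
    haveI : IsLocalHom (Ideal.Quotient.mk (𝔞.map (algebraMap A B))) :=
      IsLocalHom.of_surjective _ Ideal.Quotient.mk_surjective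
    have hu' : IsUnit x' := isUnit_of_map_unit (Ideal.Quotient.mk (𝔞.map (algebraMap A B))) x' hu
    have : x' ∈ IsLocalRing.maximalIdeal B := (IsLocalization.AtPrime.to_map_mem_maximal_iff B p x).2 hx
    exact (IsLocalRing.mem_maximalIdeal _).1 this hu'
  have e1 : (Ideal.span {x'}).map (Ideal.Quotient.mk (𝔞.map (algebraMap A B))) = Ideal.span {xbar} := by
    rw [Ideal.map_span, Set.image_singleton]
  have e2 : 𝔞.map (algebraMap A B) ⊔ Ideal.span {x'} = (𝔞 ⊔ Ideal.span {x}).map (algebraMap A B) := by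
    rw [Ideal.map_sup, Ideal.map_span, Set.image_singleton]
  let e : (LQ 𝔞 p ⧸ Ideal.span {xbar}) ≃+* LQ (𝔞 ⊔ Ideal.span {x}) p :=
    ((Ideal.quotEquivOfEq e1.symm).trans
      (DoubleQuot.quotQuotEquivQuotSup (𝔞.map (algebraMap A B)) (Ideal.span {x'}))).trans
      (Ideal.quotEquivOfEq e2)
  haveI : LocCoh.IsCohenMacaulayLocalRing (LQ 𝔞 p ⧸ Ideal.span {xbar}) :=
    cmLocal_quotient_of_regular xbar hmem hreg
  refine ⟨isCohenMacaulayLocalRing_of_ringEquiv (R := LQ 𝔞 p ⧸ Ideal.span {xbar}) e, ?_⟩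
  rw [← ringKrullDim_quotient_span_singleton_succ_eq_ringKrullDim hreg hmem, ringKrullDim_eq_of_ringEquiv e]

/-- an element outside a prime `𝔞 ⊆ p` is regular on `A_p/𝔞A_p`. -/
theorem isSMulRegular_LQ_of_isPrime (𝔞 : Ideal A) [h𝔞p : 𝔞.IsPrime] (x : A) (hx : x ∉ 𝔞) (p : Ideal A) [p.IsPrime]
    (h𝔞 : 𝔞 ≤ p) :
    IsSMulRegular (LQ 𝔞 p) (Ideal.Quotient.mk (𝔞.map (algebraMap A (Localization.AtPrime p)))
      (algebraMap A (Localization.AtPrime p) x)) := by
  have hdisj : Disjoint (p.primeCompl : Set A) (𝔞 : Set A) := by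
    rw [Set.disjoint_left]
    intro y hy hyJ
    exact hy (h𝔞 hyJ)
  haveI hmp : (𝔞.map (algebraMap A (Localization.AtPrime p))).IsPrime :=
    IsLocalization.isPrime_of_isPrime_disjoint p.primeCompl _ _ h𝔞p hdisj
  have hcomap : (𝔞.map (algebraMap A (Localization.AtPrime p))).comap
      (algebraMap A (Localization.AtPrime p)) = 𝔞 :=
    IsLocalization.comap_map_of_isPrime_disjoint p.primeCompl _ h𝔞p hdisj
  have hne : (Ideal.Quotient.mk (𝔞.map (algebraMap A (Localization.AtPrime p)))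
      (algebraMap A (Localization.AtPrime p) x)) ≠ 0 := by
    intro h0
    rw [Ideal.Quotient.eq_zero_iff_mem] at h0
    have : x ∈ (𝔞.map (algebraMap A (Localization.AtPrime p))).comap
      (algebraMap A (Localization.AtPrime p)) := h0
    rw [hcomap] at this
    exact hx this
  haveI : IsDomain (LQ 𝔞 p) := Ideal.Quotient.isDomain _
  exact smul_right_injective _ hne

end Global

end Groth.Agent.R2.H50.CM
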