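import Mathlib
import Groth.Prelude.Def_W4bk4grassmannianPl

/-!
# Evaluation of signed Plücker coordinates at the minors of a matrix (helper50)
-/

set_option autoImplicit false

noncomputable section

namespace Groth.Agent.R2.H50.PlCoord

open MvPolynomial W4bk4grassmannian

variable {d n : ℕ}

/-- the sign of a permutation of `Fin d` is `(-1)` to the number of inversions. -/
theorem sign_eq_neg_one_pow_card (σ : Equiv.Perm (Fin d)) :
    ((Equiv.Perm.sign σ : ℤˣ) : ℤ) =
      (-1) ^ (Finset.univ.filter fun p : Fin d × Fin d => p.1 < p.2 ∧ σ p.2 < σ p.1).card := by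
  classical
  rw [Equiv.Perm.sign_eq_prod_prod_Ioi, Units.coe_prod]
  simp only [Units.coe_prod]
  have h1 : ∀ i : Fin d, ∏ j ∈ Finset.Ioi i, (((if σ i < σ j then 1 else -1 : ℤˣ) : ℤˣ) : ℤ) =
      ∏ j : Fin d, if i < j ∧ σ j < σ i then (-1 : ℤ) else 1 := by
    intro i
    rw [← Finset.filter_lt_eq_Ioi, Finset.prod_filter]
    refine Finset.prod_congr rfl fun j _ => ?_
    by_cases hij : i < j
    · have hne : σ i ≠ σ j := fun h => (ne_of_lt hij) (σ.injective h)
      by_cases h : σ i < σ j
      · have h' : ¬ σ j < σ i := not_lt.2 h.le
        simp [hij, h, h']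
      · have h' : σ j < σ i := lt_of_le_of_ne (not_lt.1 h) (Ne.symm hne)
        simp [hij, h, h']
    · simp [hij]
  rw [Finset.prod_congr rfl fun i _ => h1 i, ← Fintype.prod_prod_type'
    (f := fun i j : Fin d => if i < j ∧ σ j < σ i then (-1 : ℤ) else 1)]
  rw [Finset.prod_ite, Finset.prod_const_one, mul_one, Finset.prod_const]

variable (K : Type*) [CommRing K]

/-- the position of `a t` in the sorted tuple -/
def sortFun (a : Fin d → Fin n) (h : (Finset.univ.image a).card = d) (t : Fin d) : Fin d :=
  ((Finset.univ.image a).orderIsoOfFin h).symm ⟨a t, Finset.mem_image_of_mem a (Finset.mem_univ t)⟩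

theorem sortFun_bijective (a : Fin d → Fin n) (h : (Finset.univ.image a).card = d) :
    Function.Bijective (sortFun a h) := by
  have hinj : Function.Injective (sortFun a h) := by
    intro s t hst
    have h1 := ((Finset.univ.image a).orderIsoOfFin h).symm.injective hst
    have h2 : a s = a t := congrArg Subtype.val h1
    have hcard : (Finset.univ.image a).card = (Finset.univ : Finset (Fin d)).card := by simpa using h
    exact Finset.card_image_iff.mp hcard (Finset.mem_coe.2 (Finset.mem_univ s))
      (Finset.mem_coe.2 (Finset.mem_univ t)) h2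
  exact ⟨hinj, Finite.surjective_of_injective hinj⟩

/-- the permutation sorting an injective tuple -/
def sortPerm (a : Fin d → Fin n) (h : (Finset.univ.image a).card = d) : Equiv.Perm (Fin d) :=
  Equiv.ofBijective (sortFun a h) (sortFun_bijective a h)

theorem sortIdx_sortPerm (a : Fin d → Fin n) (h : (Finset.univ.image a).card = d) (t : Fin d) :
    (sortIdx d n a h).1 (sortPerm a h t) = a t := by
  show (sortIdx d n a h).1 (sortFun a h t) = a t
  unfold sortIdx sortFun
  simp only
  rw [← Finset.coe_orderIsoOfFin_apply, OrderIso.apply_symm_apply]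

theorem invCount_eq (a : Fin d → Fin n) (h : (Finset.univ.image a).card = d) :
    invCount d n a =
      (Finset.univ.filter fun p : Fin d × Fin d =>
        p.1 < p.2 ∧ sortPerm a h p.2 < sortPerm a h p.1).card := by
  unfold invCount
  congr 1
  refine Finset.filter_congr fun p _ => ?_
  have hmono := (sortIdx d n a h).2
  rw [← sortIdx_sortPerm a h p.1, ← sortIdx_sortPerm a h p.2, hmono.lt_iff_lt]

/-- Evaluating the signed coordinate of an arbitrary tuple of rows gives the minor on these rows. -/
theorem evalMinors_coord (A : Matrix (Fin n) (Fin d) K) (a : Fin d → Fin n) :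
    evalMinors K d n A (coord K d n a) = (A.submatrix a id).det := by
  classical
  unfold coord
  split_ifs with h
  · rw [map_mul, map_pow, map_neg, map_one]
    unfold evalMinors
    rw [aeval_X]
    have e1 : A.submatrix a id = (A.submatrix (sortIdx d n a h).1 id).submatrix (sortPerm a h) id := by
      ext s t
      simp only [Matrix.submatrix_apply, id_eq]
      rw [sortIdx_sortPerm]
    rw [e1, Matrix.det_permute, invCount_eq a h]
    congr 1
    have := sign_eq_neg_one_pow_card (sortPerm a h)
    rw [this]
    push_cast
    rfl
  · rw [map_zero]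
    -- `a` is not injective, so two rows coincide
    have hninj : ¬ Function.Injective a := by
      intro hinj
      apply h
      rw [Finset.card_image_of_injective _ hinj]
      simp
    rw [Function.Injective] at hninj
    push Not at hninj
    obtain ⟨s, t, hst, hne⟩ := hninj
    symm
    apply Matrix.det_zero_of_row_eq hne
    ext c
    simp [Matrix.submatrix_apply, hst]

end Groth.Agent.R2.H50.PlCoord
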