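import Mathlib
import Groth.Prelude.Def_W4bk4grassmannianPl
import Groth.Prelude.Def_CAlgX
import Groth.Agent.R2.H50PlCoord

/-!
# Minors of `[I ; Z]` and minors of `Z` (helper50)

* `minorIdeal_antitone`: the ideals of minors decrease with the size.
* `det_mem_minorIdeal_of_rows`: a determinant with at least `t` rows taken from `Z` lies in the ideal of `t`-minors of `Z`.
* `cellMinor_mem_minorIdeal`, `minor_mem_span_cellMinor`: the two inclusions between the ideal of the Plücker coordinates
  `q_θ`, `θ_{d-t} ≥ d`, of the opposite cell and the ideal of `t`-minors of `Z`.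
-/

set_option autoImplicit false

noncomputable section

namespace Groth.Agent.R2.H50.CellMinor

open MvPolynomial W4bk4grassmannian

section General

variable {R : Type*} [CommRing R] {ρ γ : Type} [Fintype ρ] [Fintype γ]

theorem minorIdeal_zero (Z : Matrix ρ γ R) : CAlgX.minorIdeal Z 0 = ⊤ := by
  rw [Ideal.eq_top_iff_one]
  refine Ideal.subset_span ⟨(Fin.elim0, Fin.elim0), ?_⟩
  simp

theorem minorIdeal_succ_le (Z : Matrix ρ γ R) (k : ℕ) : CAlgX.minorIdeal Z (k + 1) ≤ CAlgX.minorIdeal Z k := by
  unfold CAlgX.minorIdeal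
  rw [Ideal.span_le]
  rintro _ ⟨⟨f, g⟩, rfl⟩
  simp only
  rw [Matrix.det_succ_row_zero]
  refine Ideal.sum_mem _ fun j _ => ?_
  refine Ideal.mul_mem_left _ _ ?_
  exact Ideal.subset_span ⟨(f ∘ Fin.succ, g ∘ j.succAbove), rfl⟩

theorem minorIdeal_antitone (Z : Matrix ρ γ R) {t k : ℕ} (h : t ≤ k) :
    CAlgX.minorIdeal Z k ≤ CAlgX.minorIdeal Z t := by
  induction k, h using Nat.le_induction with
  | base => exact le_rfl
  | succ k _ ih => exact le_trans (minorIdeal_succ_le Z k) ih

/-- a determinant at least `t` of whose rows are rows of (a column-reindexing of) `Z` lies in the ideal of `t`-minors. -/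
theorem det_mem_minorIdeal_of_rows (Z : Matrix ρ γ R) (t : ℕ) :
    ∀ (k : ℕ) (N : Matrix (Fin k) (Fin k) R) (col : Fin k → γ) (T : Finset (Fin k)), t ≤ T.card →
      (∀ s ∈ T, ∃ ρs : ρ, ∀ j, N s j = Z ρs (col j)) → N.det ∈ CAlgX.minorIdeal Z t := by
  intro k
  induction k with
  | zero =>
    intro N col T hT _
    have h0 : T.card = 0 := by
      rw [Finset.card_eq_zero]
      exact Finset.eq_empty_of_isEmpty T
    have ht : t = 0 := by omega
    rw [ht, minorIdeal_zero]
    exact Submodule.mem_top
  | succ k ih =>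
    intro N col T hT hrows
    by_cases hall : ∃ s, s ∉ T
    · obtain ⟨s, hs⟩ := hall
      rw [Matrix.det_succ_row N s]
      refine Ideal.sum_mem _ fun j _ => Ideal.mul_mem_left _ _ ?_
      refine ih (N.submatrix s.succAbove j.succAbove) (col ∘ j.succAbove)
        (Finset.univ.filter fun s' => s.succAbove s' ∈ T) ?_ ?_
      · have himg : (Finset.univ.filter fun s' => s.succAbove s' ∈ T).image s.succAbove = T := by
          ext x
          simp only [Finset.mem_image, Finset.mem_filter, Finset.mem_univ, true_and]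
          constructor
          · rintro ⟨s', hs', rfl⟩
            exact hs'
          · intro hx
            have hne : x ≠ s := fun h => hs (h ▸ hx)
            obtain ⟨s', rfl⟩ := Fin.exists_succAbove_eq hne
            exact ⟨s', hx, rfl⟩
        rw [← Finset.card_image_of_injective _ Fin.succAbove_right_injective, himg]
        exact hT
      · intro s' hs'
        obtain ⟨ρs, h⟩ := hrows _ (Finset.mem_filter.1 hs').2
        exact ⟨ρs, fun j' => h _⟩
    · push Not at hall
      have hrows' : ∀ s, ∃ ρs : ρ, ∀ j, N s j = Z ρs (col j) := fun s => hrows s (hall s)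
      choose ρf hρf using hrows'
      have hN : N = Z.submatrix ρf col := by
        ext s j
        exact hρf s j
      rw [hN]
      have hk : t ≤ k + 1 := by
        refine le_trans hT ?_
        have := Finset.card_le_univ T
        simpa using this
      exact minorIdeal_antitone Z hk (Ideal.subset_span ⟨(ρf, col), rfl⟩)

end General

section Cell

variable (K : Type*) [CommRing K] (d r : ℕ)

theorem cellMatrix_apply_lt (i : Fin (d + r)) (j : Fin d) (h : i.val < d) :
    cellMatrix K d r i j = if i.val = j.val then 1 else 0 := by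
  unfold cellMatrix
  simp [h]

theorem cellMatrix_apply_ge (i : Fin (d + r)) (j : Fin d) (h : d ≤ i.val) :
    cellMatrix K d r i j = genMatrix K r d ⟨i.val - d, by have := i.isLt; omega⟩ j := by
  unfold cellMatrix genMatrix
  have : ¬ i.val < d := by omega
  simp [this]

/-- `q_θ` lies in the ideal of `t`-minors of `Z` when at least `t` rows of `θ` are rows of `Z`. -/
theorem cellMinor_mem_minorIdeal (t : ℕ) (hd : 0 < d) (ht : 0 < t) (htd : t ≤ d) (θ : Idx d (d + r))
    (hθ : d ≤ (θ.1 ⟨d - t, Nat.sub_lt hd ht⟩).val) :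
    cellMinor K d r θ ∈ CAlgX.minorIdeal (genMatrix K r d) t := by
  unfold cellMinor
  let emb : Fin t ↪ Fin d := ⟨fun i => ⟨d - t + i.val, by have := i.isLt; omega⟩, fun i j h => by
    have := Fin.mk.inj_iff.1 h
    exact Fin.ext (by omega)⟩
  refine det_mem_minorIdeal_of_rows (genMatrix K r d) t d _ id (Finset.univ.map emb) ?_ ?_
  · rw [Finset.card_map, Finset.card_univ, Fintype.card_fin]
  · intro s hs
    obtain ⟨i, -, rfl⟩ := Finset.mem_map.1 hs
    have hle : θ.1 ⟨d - t, Nat.sub_lt hd ht⟩ ≤ θ.1 (emb i) :=
      θ.2.monotone (Fin.le_def.2 (by show d - t ≤ d - t + i.val; omega))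
    have hge : d ≤ (θ.1 (emb i)).val := le_trans hθ (Fin.le_def.1 hle)
    refine ⟨⟨(θ.1 (emb i)).val - d, by have := (θ.1 (emb i)).isLt; omega⟩, fun j => ?_⟩
    rw [Matrix.submatrix_apply, cellMatrix_apply_ge K d r _ _ hge]

/-- the evaluation of a Plücker variable at `[I ; Z]` is the cell minor -/
theorem evalMinors_cellMatrix_X (θ : Idx d (d + r)) :
    evalMinors (CellRing K d r) d (d + r) (cellMatrix K d r) (X θ) = cellMinor K d r θ := by
  unfold evalMinors cellMinor
  rw [aeval_X]

/-- every `t`-minor of `Z` is, up to sign, a Plücker coordinate `q_θ` with `θ_{d-t} ≥ d`. -/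
theorem minor_mem_span_cellMinor (t : ℕ) (hd : 0 < d) (ht : 0 < t) (htd : t ≤ d) (f : Fin t → Fin r)
    (g : Fin t → Fin d) :
    ((genMatrix K r d).submatrix f g).det ∈ Ideal.span {q : CellRing K d r | ∃ θ : Idx d (d + r),
        d ≤ (θ.1 ⟨d - t, Nat.sub_lt hd ht⟩).val ∧ q = cellMinor K d r θ} := by
  classical
  by_cases hg : Function.Injective g
  swap
  · rw [Function.not_injective_iff] at hg
    obtain ⟨i, j, hij, hne⟩ := hg
    rw [Matrix.det_zero_of_column_eq hne]
    · exact Ideal.zero_mem _
    · intro k
      simp [Matrix.submatrix_apply, hij]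
  by_cases hf : Function.Injective f
  swap
  · rw [Function.not_injective_iff] at hf
    obtain ⟨i, j, hij, hne⟩ := hf
    rw [Matrix.det_zero_of_row_eq hne]
    · exact Ideal.zero_mem _
    · ext k
      simp [Matrix.submatrix_apply, hij]
  -- the complementary columns
  let e₀ : (↥(Set.range g)ᶜ) ⊕ Fin t ≃ Fin d :=
    (Equiv.sumComm _ _).trans ((Equiv.sumCongr (Equiv.ofInjective g hg) (Equiv.refl _)).trans
      (Equiv.Set.sumCompl (Set.range g)))
  have he₀l : ∀ u : ↥(Set.range g)ᶜ, e₀ (Sum.inl u) = u.1 := fun u => rfl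
  have he₀r : ∀ i : Fin t, e₀ (Sum.inr i) = g i := fun i => rfl
  let a : (↥(Set.range g)ᶜ) ⊕ Fin t → Fin (d + r) :=
    Sum.elim (fun u => Fin.castAdd r u.1) (fun i => Fin.natAdd d (f i))
  have ha : Function.Injective a := by
    rintro (u | i) (u' | i') h
    · simp only [a, Sum.elim_inl] at h
      exact congrArg Sum.inl (Subtype.ext (Fin.castAdd_injective _ _ h))
    · simp only [a, Sum.elim_inl, Sum.elim_inr] at h
      have := congrArg Fin.val h
      simp only [Fin.val_castAdd, Fin.val_natAdd] at this
      have := u.1.isLt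
      omega
    · simp only [a, Sum.elim_inl, Sum.elim_inr] at h
      have := congrArg Fin.val h
      simp only [Fin.val_castAdd, Fin.val_natAdd] at this
      have := u'.1.isLt
      omega
    · simp only [a, Sum.elim_inr] at h
      have := congrArg Fin.val h
      simp only [Fin.val_natAdd] at this
      exact congrArg Sum.inr (hf (Fin.ext (by omega)))
  let b : Fin d → Fin (d + r) := a ∘ e₀.symm
  have hb : Function.Injective b := ha.comp e₀.symm.injective
  have hcard : (Finset.univ.image b).card = d := by
    rw [Finset.card_image_of_injective _ hb, Finset.card_univ, Fintype.card_fin]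
  -- the block decomposition
  have hblock : ((cellMatrix K d r).submatrix b id).submatrix e₀ e₀ =
      Matrix.fromBlocks (1 : Matrix (↥(Set.range g)ᶜ) (↥(Set.range g)ᶜ) (CellRing K d r)) 0
        (Matrix.of fun (i : Fin t) (u : ↥(Set.range g)ᶜ) => genMatrix K r d (f i) u.1)
        ((genMatrix K r d).submatrix f g) := by
    ext x y
    rw [Matrix.submatrix_apply, Matrix.submatrix_apply, id]
    have hbx : b (e₀ x) = a x := by simp [b]
    rw [hbx]
    rcases x with u | i
    · have hlt : (a (Sum.inl u)).val < d := by simp [a]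
      rw [cellMatrix_apply_lt K d r _ _ hlt]
      rcases y with u' | j
      · rw [he₀l, Matrix.fromBlocks_apply₁₁, Matrix.one_apply]
        simp only [a, Sum.elim_inl, Fin.val_castAdd]
        by_cases h : u = u'
        · subst h
          simp
        · have : (u.1 : ℕ) ≠ (u'.1 : ℕ) := fun h' => h (Subtype.ext (Fin.ext h'))
          simp [h, this]
      · rw [he₀r, Matrix.fromBlocks_apply₁₂, Matrix.zero_apply]
        simp only [a, Sum.elim_inl, Fin.val_castAdd]
        have : (u.1 : ℕ) ≠ (g j : ℕ) := by
          intro h'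
          exact u.2 ⟨j, (Fin.ext h').symm⟩
        simp [this]
    · have hge : d ≤ (a (Sum.inr i)).val := by simp [a]
      rw [cellMatrix_apply_ge K d r _ _ hge]
      have hrow : (⟨(a (Sum.inr i)).val - d, by have := (a (Sum.inr i)).isLt; omega⟩ : Fin r) = f i := by
        apply Fin.ext
        simp [a]
      rw [hrow]
      rcases y with u' | j
      · rw [he₀l, Matrix.fromBlocks_apply₂₁, Matrix.of_apply]
      · rw [he₀r, Matrix.fromBlocks_apply₂₂, Matrix.submatrix_apply]
  have hdet : ((cellMatrix K d r).submatrix b id).det = ((genMatrix K r d).submatrix f g).det := by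
    rw [← Matrix.det_submatrix_equiv_self e₀, hblock, Matrix.det_fromBlocks_zero₁₂, Matrix.det_one, one_mul]
  -- the sorted index
  have hcoord := Groth.Agent.R2.H50.PlCoord.evalMinors_coord (CellRing K d r) (cellMatrix K d r) b
  unfold coord at hcoord
  rw [dif_pos hcard, map_mul, map_pow, map_neg, map_one, evalMinors_cellMatrix_X, hdet] at hcoord
  rw [← hcoord]
  refine Ideal.mul_mem_left _ _ (Ideal.subset_span ⟨sortIdx d (d + r) b hcard, ?_, rfl⟩)
  -- the position `d - t` of the sorted index is a row of `Z`
  by_contra hlt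
  push Not at hlt
  set θ := sortIdx d (d + r) b hcard with hθ
  let h : Fin t → Fin d := fun i => Groth.Agent.R2.H50.PlCoord.sortPerm b hcard (e₀ (Sum.inr i))
  have hh : ∀ i, d ≤ (θ.1 (h i)).val := by
    intro i
    have : θ.1 (h i) = b (e₀ (Sum.inr i)) := Groth.Agent.R2.H50.PlCoord.sortIdx_sortPerm b hcard _
    rw [this]
    simp [b, a]
  have hmaps : ∀ i ∈ (Finset.univ : Finset (Fin t)), h i ∈ Finset.Ioi (⟨d - t, Nat.sub_lt hd ht⟩ : Fin d) := by
    intro i _
    rw [Finset.mem_Ioi]
    by_contra hcon
    push Not at hcon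
    have h1 : θ.1 (h i) ≤ θ.1 ⟨d - t, Nat.sub_lt hd ht⟩ := θ.2.monotone hcon
    have h2 := hh i
    have h3 := Fin.le_def.1 h1
    omega
  have hinj : Set.InjOn h (Finset.univ : Finset (Fin t)) := by
    intro i _ j _ hij
    have h1 := (Groth.Agent.R2.H50.PlCoord.sortPerm b hcard).injective hij
    have h2 := e₀.injective h1
    exact Sum.inr_injective h2
  have hle := Finset.card_le_card_of_injOn h hmaps hinj
  rw [Fin.card_Ioi, Finset.card_univ, Fintype.card_fin] at hle
  simp only at hle
  omega

end Cell

end Groth.Agent.R2.H50.CellMinor
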