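import Groth.Agent.Lib.Helper21CoDelta

/-!
# helper50: operations on contravariant cohomological δ-functors (`Helper21.CoDeltaLib.CoDelta`)

* `precomp Δ Φ`, `postcomp Δ Ψ`: composition with exact functors.
* `nonempty_iso_of_natIso`: two `CoDelta`s which agree (naturally) in degree `0` on a class `Cl` of
  objects, every member of which is a quotient of a common acyclic object with kernel in `Cl`, agree in
  all degrees on `Cl` (dimension shifting).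
-/

set_option autoImplicit false
set_option linter.style.haveILetI false
open CategoryTheory CategoryTheory.Limits

namespace Groth.Agent.R2.H50.CoDeltaCmp

open Groth.Agent.Lib.Helper21.CoDeltaLib

universe v v' v'' u u' u''

variable {𝒜 : Type u} [Category.{v} 𝒜] [Abelian 𝒜] {𝒟 : Type u'} [Category.{v'} 𝒟] [Abelian 𝒟]

/-- precomposition of a `CoDelta` with an exact functor. -/
noncomputable def precomp (Δ : CoDelta 𝒜 𝒟) {𝒜' : Type u''} [Category.{v''} 𝒜'] [Abelian 𝒜']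
    (Φ : 𝒜' ⥤ 𝒜) [Φ.Additive] [PreservesFiniteLimits Φ] [PreservesFiniteColimits Φ] :
    CoDelta 𝒜' 𝒟 where
  E p M := Δ.E p (Φ.obj M)
  map p {_ _} u := Δ.map p (Φ.map u)
  map_comp p {_ _ _} u v := by rw [Φ.map_comp, Δ.map_comp]
  mono_zero S hS := Δ.mono_zero (S.map Φ) (hS.map_of_exact Φ)
  exact₂ S hS p := Δ.exact₂ (S.map Φ) (hS.map_of_exact Φ) p
  δ S hS p := Δ.δ (S.map Φ) (hS.map_of_exact Φ) p
  exact₃ S hS p := Δ.exact₃ (S.map Φ) (hS.map_of_exact Φ) p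
  exact₁ S hS p := Δ.exact₁ (S.map Φ) (hS.map_of_exact Φ) p

/-- postcomposition of a `CoDelta` with an exact functor. -/
noncomputable def postcomp (Δ : CoDelta 𝒜 𝒟) {𝒟' : Type u''} [Category.{v''} 𝒟'] [Abelian 𝒟']
    (Ψ : 𝒟 ⥤ 𝒟') [Ψ.Additive] [PreservesFiniteLimits Ψ] [PreservesFiniteColimits Ψ] :
    CoDelta 𝒜 𝒟' where
  E p M := Ψ.obj (Δ.E p M)
  map p {_ _} u := Ψ.map (Δ.map p u)
  map_comp p {_ _ _} u v := by rw [Δ.map_comp, Ψ.map_comp]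
  mono_zero S hS := by
    haveI := Δ.mono_zero S hS
    infer_instance
  exact₂ S hS p := by
    obtain ⟨w, hw⟩ := Δ.exact₂ S hS p
    exact ⟨by rw [← Ψ.map_comp, w, Ψ.map_zero], hw.map Ψ⟩
  δ S hS p := Ψ.map (Δ.δ S hS p)
  exact₃ S hS p := by
    obtain ⟨w, hw⟩ := Δ.exact₃ S hS p
    exact ⟨by rw [← Ψ.map_comp, w, Ψ.map_zero], hw.map Ψ⟩
  exact₁ S hS p := by
    obtain ⟨w, hw⟩ := Δ.exact₁ S hS p
    exact ⟨by rw [← Ψ.map_comp, w, Ψ.map_zero], hw.map Ψ⟩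

section cmp

variable (Δ Δ' : CoDelta 𝒜 𝒟) (Cl Pr : 𝒜 → Prop)
  (hres : ∀ M, Cl M → ∃ (K P : 𝒜) (i : K ⟶ P) (π : P ⟶ M) (w : i ≫ π = 0),
    (ShortComplex.mk i π w).ShortExact ∧ Pr P ∧ Cl P ∧ Cl K)
  (τ : ∀ M, Cl M → (Δ.E 0 M ≅ Δ'.E 0 M))
  (hτ : ∀ (M M' : 𝒜) (hM : Cl M) (hM' : Cl M') (g : M' ⟶ M),
    Δ.map 0 g ≫ (τ M' hM').hom = (τ M hM).hom ≫ Δ'.map 0 g)
  (hacyc : ∀ P, Pr P → ∀ p : ℕ, IsZero (Δ.E (p + 1) P))
  (hacyc' : ∀ P, Pr P → ∀ p : ℕ, IsZero (Δ'.E (p + 1) P))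

/-- `E¹ M` is the cokernel of `E⁰ P ⟶ E⁰ K`. -/
theorem nonempty_cokernel_iso (S : ShortComplex 𝒜) (hS : S.ShortExact)
    (h : IsZero (Δ.E 1 S.X₂)) : Nonempty (cokernel (Δ.map 0 S.f) ≅ Δ.E 1 S.X₃) := by
  obtain ⟨w₃, h₃⟩ := Δ.exact₃ S hS 0
  haveI : Epi (ShortComplex.mk _ _ w₃).g := Δ.epi_δ S hS 0 h
  exact ⟨IsColimit.coconePointUniqueUpToIso (colimit.isColimit _) h₃.gIsCokernel⟩

include hres hτ hacyc hacyc' in
theorem nonempty_iso_of_natIso (i : ℕ) : ∀ M, Cl M → Nonempty (Δ.E i M ≅ Δ'.E i M) := by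
  induction i using Nat.strong_induction_on with
  | _ i ih =>
    intro M hM
    match i, ih with
    | 0, _ => exact ⟨τ M hM⟩
    | 1, _ =>
      obtain ⟨K, P, f, π, w, hS, hP, hPC, hK⟩ := hres M hM
      obtain ⟨e₁⟩ := nonempty_cokernel_iso Δ _ hS (hacyc P hP 0)
      obtain ⟨e₂⟩ := nonempty_cokernel_iso Δ' _ hS (hacyc' P hP 0)
      exact ⟨e₁.symm ≪≫ cokernel.mapIso _ _ (τ P hPC) (τ K hK) (hτ P K hPC hK f) ≪≫ e₂⟩
    | (n + 2), ih =>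
      obtain ⟨K, P, f, π, w, hS, hP, hPC, hK⟩ := hres M hM
      haveI := Δ.isIso_δ _ hS (n + 1) (hacyc P hP n) (hacyc P hP (n + 1))
      haveI := Δ'.isIso_δ _ hS (n + 1) (hacyc' P hP n) (hacyc' P hP (n + 1))
      obtain ⟨e⟩ := ih (n + 1) (by omega) K hK
      exact ⟨(asIso (Δ.δ _ hS (n + 1))).symm ≪≫ e ≪≫ asIso (Δ'.δ _ hS (n + 1))⟩

end cmp

end Groth.Agent.R2.H50.CoDeltaCmp
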