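import Mathlib
import Groth.Agent.S11180

/-!
# Compatible families over complete local flat algebras (helper50)

For a Noetherian ring `A`, the family of all `A`-algebras `B` which are complete Noetherian local
rings flat over `A` detects finite `A`-modules: every compatible family of elements
`x_B ∈ B ⊗[A] M` is of the form `1 ⊗ m`.
-/

set_option autoImplicit false
universe u
open scoped TensorProduct
open IsLocalRing

namespace Groth.Agent.R2.H50.ComplFamily

/-- A member of the family: a complete Noetherian local flat `A`-algebra. -/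
structure Mem (A : Type u) [CommRing A] where
  /-- the underlying algebra -/
  B : Type u
  [ring : CommRing B]
  [alg : Algebra A B]
  [noeth : IsNoetherianRing B]
  [loc : IsLocalRing B]
  complete : IsAdicComplete (maximalIdeal B) B
  flat : Module.Flat A B

attribute [instance] Mem.ring Mem.alg Mem.noeth Mem.loc

variable {A : Type u} [CommRing A]

/-- the prime of `A` under the maximal ideal of a member -/
def Mem.center (T : Mem A) : Ideal A := (maximalIdeal T.B).comap (algebraMap A T.B)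

instance (T : Mem A) : T.center.IsPrime := by
  unfold Mem.center; infer_instance

section Compl

variable (R : Type u) [CommRing R] [Algebra A R] [IsNoetherianRing R] (hR : Module.Flat A R)
  (q : Ideal R) [q.IsPrime]

/-- The completion of the localisation of a flat Noetherian `A`-algebra at a prime. -/
noncomputable def Mem.compl : Mem A :=
  letI R' := Localization.AtPrime q
  { B := AdicCompletion (maximalIdeal R') R'
    ring := inferInstance
    alg := inferInstance
    noeth := Groth.Agent.S0543.result R' _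
    loc := inferInstance
    complete := inferInstance
    flat := by
      have : Module.Flat A R := hR
      have : Module.Flat R R' := IsLocalization.flat R' q.primeCompl
      have : Module.Flat A R' := Module.Flat.trans A R R'
      exact Module.Flat.trans A R' _ }

instance : Algebra R (Mem.compl R hR q).B :=
  inferInstanceAs (Algebra R (AdicCompletion (maximalIdeal (Localization.AtPrime q))
    (Localization.AtPrime q)))

instance : IsScalarTower A R (Mem.compl R hR q).B :=
  inferInstanceAs (IsScalarTower A R (AdicCompletion (maximalIdeal (Localization.AtPrime q))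
    (Localization.AtPrime q)))

instance : Module.Flat R (Mem.compl R hR q).B := by
  have : Module.Flat R (Localization.AtPrime q) := IsLocalization.flat _ q.primeCompl
  exact Module.Flat.trans R (Localization.AtPrime q) (AdicCompletion (maximalIdeal (Localization.AtPrime q))
    (Localization.AtPrime q))

theorem Mem.compl_comap : (maximalIdeal (Mem.compl R hR q).B).comap (algebraMap R (Mem.compl R hR q).B) = q := by
  let R' := Localization.AtPrime q
  change (maximalIdeal (AdicCompletion (maximalIdeal R') R')).comap (algebraMap R (AdicCompletion (maximalIdeal R') R')) = q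
  rw [IsScalarTower.algebraMap_eq R R' (AdicCompletion (maximalIdeal R') R'), ← Ideal.comap_comap,
    IsLocalRing.maximalIdeal_comap]
  exact Localization.AtPrime.under_maximalIdeal

theorem Mem.compl_center : (Mem.compl R hR q).center = q.comap (algebraMap A R) := by
  unfold Mem.center
  rw [IsScalarTower.algebraMap_eq A R (Mem.compl R hR q).B, ← Ideal.comap_comap, Mem.compl_comap]

/-- the structure map `R → (R_q)^` as an `A`-algebra map -/
noncomputable def complMap : R →ₐ[A] (Mem.compl R hR q).B := IsScalarTower.toAlgHom A R _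

theorem exists_notMem_smul_eq_zero (N : Type u) [AddCommGroup N] [Module A N] (z : R ⊗[A] N)
    (hz : LinearMap.rTensor N (complMap R hR q).toLinearMap z = 0) :
    ∃ s : R, s ∉ q ∧ s • z = 0 := by
  by_contra H
  push Not at H
  let B' := (Mem.compl R hR q).B
  refine Groth.Agent.S11180.key R (R ⊗[A] N) z B' ?_ ?_
  · intro a ha
    have h1 : a ∈ q := by
      by_contra h; exact H a h ha
    rw [← Mem.compl_comap R hR q] at h1
    exact h1
  · let e := TensorProduct.AlgebraTensorModule.cancelBaseChange A R R B' N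
    apply e.injective
    rw [map_zero, ← hz]
    clear hz H
    induction z using TensorProduct.induction_on with
    | zero => simp
    | tmul β n =>
      rw [TensorProduct.AlgebraTensorModule.cancelBaseChange_tmul, LinearMap.rTensor_tmul]
      congr 1
      rw [Algebra.smul_def, mul_one]; rfl
    | add x y hx hy =>
      rw [TensorProduct.tmul_add, map_add, map_add, hx, hy]

end Compl

section Tensor

variable (B : Type u) [CommRing B] [Algebra A B]

theorem smul_eq_zero_of_mem (J : Ideal A) {a : A} (ha : a ∈ J) (w : B ⊗[A] (A ⧸ J)) :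
    a • w = 0 := by
  induction w using TensorProduct.induction_on with
  | zero => simp
  | tmul β c =>
    obtain ⟨c, rfl⟩ := Ideal.Quotient.mk_surjective c
    rw [TensorProduct.smul_tmul', TensorProduct.smul_tmul]
    have : a • (Ideal.Quotient.mk J c) = 0 := by
      rw [Algebra.smul_def, Ideal.Quotient.algebraMap_eq, ← map_mul]
      exact Ideal.Quotient.eq_zero_iff_mem.2 (J.mul_mem_right _ ha)
    rw [this, TensorProduct.tmul_zero]
  | add x y hx hy => rw [smul_add, hx, hy, add_zero]

theorem eq_zero_of_smul_eq_zero [Module.Flat A B] (𝔭 : Ideal A) [𝔭.IsPrime] {s : A} (hs : s ∉ 𝔭)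
    (w : B ⊗[A] (A ⧸ 𝔭)) (h : s • w = 0) : w = 0 := by
  let μ : (A ⧸ 𝔭) →ₗ[A] (A ⧸ 𝔭) := s • LinearMap.id
  have hμ : Function.Injective μ := by
    rw [← LinearMap.ker_eq_bot, LinearMap.ker_eq_bot']
    intro c hc
    obtain ⟨c, rfl⟩ := Ideal.Quotient.mk_surjective c
    have h1 : Ideal.Quotient.mk 𝔭 (s * c) = 0 := by
      rw [map_mul]
      simpa [μ, Algebra.smul_def] using hc
    rw [Ideal.Quotient.eq_zero_iff_mem] at h1 ⊢
    exact (Ideal.IsPrime.mem_or_mem inferInstance h1).resolve_left hs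
  have hinj := Module.Flat.lTensor_preserves_injective_linearMap (M := B) μ hμ
  apply hinj
  rw [map_zero]
  have : μ.lTensor B = s • LinearMap.id := by
    simp only [μ, LinearMap.lTensor_smul, LinearMap.lTensor_id]
  rw [this]
  simpa using h

end Tensor

theorem exists_tmul_one (B : Type u) [CommRing B] [Algebra A B] (J : Ideal A) (w : B ⊗[A] (A ⧸ J)) :
    ∃ β : B, w = β ⊗ₜ[A] (1 : A ⧸ J) := by
  induction w using TensorProduct.induction_on with
  | zero => exact ⟨0, by simp⟩
  | tmul β c =>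
    obtain ⟨c, rfl⟩ := Ideal.Quotient.mk_surjective c
    refine ⟨c • β, ?_⟩
    rw [TensorProduct.smul_tmul]
    congr 1
    rw [Algebra.smul_def, mul_one]; rfl
  | add x y hx hy =>
    obtain ⟨β, rfl⟩ := hx
    obtain ⟨γ, rfl⟩ := hy
    exact ⟨β + γ, by rw [TensorProduct.add_tmul]⟩

theorem tmul_one_eq_zero_of_mem_map (B : Type u) [CommRing B] [Algebra A B] (J : Ideal A)
    (ε : B) (hε : ε ∈ J.map (algebraMap A B)) : ε ⊗ₜ[A] (1 : A ⧸ J) = 0 := by
  unfold Ideal.map at hε
  induction hε using Submodule.span_induction with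
  | mem x hx =>
    obtain ⟨p, hp, rfl⟩ := hx
    rw [Algebra.algebraMap_eq_smul_one, TensorProduct.smul_tmul]
    have : p • (1 : A ⧸ J) = 0 := by
      rw [Algebra.smul_def, mul_one, Ideal.Quotient.algebraMap_eq]
      exact Ideal.Quotient.eq_zero_iff_mem.2 hp
    rw [this, TensorProduct.tmul_zero]
  | zero => simp
  | add x y _ _ hx hy => rw [TensorProduct.add_tmul, hx, hy, add_zero]
  | smul γ x _ hx =>
    have : (γ • x) ⊗ₜ[A] (1 : A ⧸ J) = γ • (x ⊗ₜ[A] (1 : A ⧸ J)) := by
      rw [TensorProduct.smul_tmul']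
    rw [this, hx, smul_zero]

section Base

variable [IsNoetherianRing A] (𝔭 : Ideal A) [𝔭.IsPrime]

/-- the completion of `A_𝔭` as a member -/
noncomputable def Mem.base : Mem A := Mem.compl A Module.Flat.self 𝔭

local notation "R'" => Localization.AtPrime 𝔭
local notation "B₀" => AdicCompletion (maximalIdeal (Localization.AtPrime 𝔭)) (Localization.AtPrime 𝔭)

theorem base_fraction_aux (w : B₀ ⊗[A] (A ⧸ 𝔭)) :
    ∃ a b : A, b ∉ 𝔭 ∧ b • w = (1 : B₀) ⊗ₜ[A] (Ideal.Quotient.mk 𝔭 a) := by
  obtain ⟨β, rfl⟩ := exists_tmul_one B₀ 𝔭 w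
  obtain ⟨ρ, hρ⟩ := Ideal.Quotient.mk_surjective (AdicCompletion.evalOneₐ (maximalIdeal R') β)
  obtain ⟨r, s, rfl⟩ := IsLocalization.exists_mk'_eq 𝔭.primeCompl ρ
  refine ⟨r, s, s.2, ?_⟩
  have hfg : (maximalIdeal R').FG := (isNoetherianRing_iff_ideal_fg R').1 inferInstance _
  have hε : β - algebraMap R' B₀ (IsLocalization.mk' R' r s) ∈ (maximalIdeal R').map (algebraMap R' B₀) := by
    rw [← AdicCompletion.ker_evalOneₐ_eq_map _ hfg, RingHom.mem_ker, map_sub]
    rw [sub_eq_zero]
    exact hρ.symm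
  have hmap : (maximalIdeal R').map (algebraMap R' B₀) = 𝔭.map (algebraMap A B₀) := by
    rw [← Localization.AtPrime.map_eq_maximalIdeal, Ideal.map_map,
      ← IsScalarTower.algebraMap_eq]
  rw [hmap] at hε
  have h0 := tmul_one_eq_zero_of_mem_map B₀ 𝔭 _ hε
  rw [TensorProduct.sub_tmul, sub_eq_zero] at h0
  rw [h0, TensorProduct.smul_tmul']
  rw [Algebra.smul_def (s : A) (algebraMap R' B₀ (IsLocalization.mk' R' r s)),
    IsScalarTower.algebraMap_apply A R' B₀, ← map_mul, IsLocalization.mk'_spec',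
    ← IsScalarTower.algebraMap_apply A R' B₀, Algebra.algebraMap_eq_smul_one,
    TensorProduct.smul_tmul]
  congr 1
  rw [Algebra.smul_def, mul_one]; rfl

theorem base_fraction (w : (Mem.base 𝔭).B ⊗[A] (A ⧸ 𝔭)) :
    ∃ a b : A, b ∉ 𝔭 ∧ b • w = (1 : (Mem.base 𝔭).B) ⊗ₜ[A] (Ideal.Quotient.mk 𝔭 a) := 
  base_fraction_aux 𝔭 w

end Base

section Lift

variable (𝔭 : Ideal A) [𝔭.IsPrime] (T : Mem A) (hT : T.center = 𝔭)

include hT in
theorem isUnit_algebraMap_of_notMem (y : 𝔭.primeCompl) : IsUnit (algebraMap A T.B y) := by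
  by_contra h
  have h1 : algebraMap A T.B y ∈ maximalIdeal T.B := (IsLocalRing.mem_maximalIdeal _).2 h
  have h2 : (y : A) ∈ T.center := h1
  rw [hT] at h2
  exact y.2 h2

/-- the map `A_𝔭 → B` for a member with centre `𝔭` -/
noncomputable def locHom : Localization.AtPrime 𝔭 →ₐ[A] T.B :=
  IsLocalization.liftAlgHom (M := 𝔭.primeCompl) (f := Algebra.ofId A T.B)
    (fun y => isUnit_algebraMap_of_notMem 𝔭 T hT y)

theorem locHom_le : maximalIdeal (Localization.AtPrime 𝔭) ≤
    (maximalIdeal T.B).comap (locHom 𝔭 T hT) := by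
  rw [← Localization.AtPrime.map_eq_maximalIdeal, Ideal.map_le_iff_le_comap]
  intro a ha
  rw [Ideal.mem_comap, Ideal.mem_comap]
  have : (locHom 𝔭 T hT) (algebraMap A (Localization.AtPrime 𝔭) a) = algebraMap A T.B a := by
    simp [locHom]
  rw [this]
  have h2 : a ∈ T.center := hT ▸ ha
  exact h2

theorem locHom_pow_le (n : ℕ) : maximalIdeal (Localization.AtPrime 𝔭) ^ n ≤
    ((maximalIdeal T.B) ^ n).comap (locHom 𝔭 T hT) :=
  (Ideal.pow_right_mono (locHom_le 𝔭 T hT) n).trans (Ideal.le_comap_pow _ n)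

/-- the `n`-th level of the lift -/
noncomputable def liftLevel (n : ℕ) :
    AdicCompletion (maximalIdeal (Localization.AtPrime 𝔭)) (Localization.AtPrime 𝔭) →ₐ[A]
      T.B ⧸ (maximalIdeal T.B) ^ n :=
  (Ideal.quotientMapₐ ((maximalIdeal T.B) ^ n) (locHom 𝔭 T hT) (locHom_pow_le 𝔭 T hT n)).comp
    ((AdicCompletion.evalₐ (maximalIdeal (Localization.AtPrime 𝔭)) n).restrictScalars A)

theorem liftLevel_mk (n : ℕ) (c : AdicCompletion.AdicCauchySequence (maximalIdeal (Localization.AtPrime 𝔭)) (Localization.AtPrime 𝔭)) :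
    liftLevel 𝔭 T hT n (AdicCompletion.mk _ _ c) = Ideal.Quotient.mk _ (locHom 𝔭 T hT (c n)) := by
  simp [liftLevel]

theorem liftLevel_compat {m n : ℕ} (hle : m ≤ n) :
    (Ideal.Quotient.factorₐ A (Ideal.pow_le_pow_right hle)).comp (liftLevel 𝔭 T hT n) =
      liftLevel 𝔭 T hT m := by
  ext x
  obtain ⟨c, rfl⟩ := AdicCompletion.mk_surjective _ _ x
  simp only [AlgHom.comp_apply, liftLevel_mk]
  simp only [Ideal.Quotient.factorₐ_apply_mk]
  rw [Ideal.Quotient.eq]
  rw [← map_sub]
  apply locHom_pow_le 𝔭 T hT m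
  have h1 := c.2 hle
  rw [SModEq.sub_mem] at h1
  have h2 : c m - c n ∈ maximalIdeal (Localization.AtPrime 𝔭) ^ m := by simpa using h1
  have h3 := (maximalIdeal (Localization.AtPrime 𝔭) ^ m).neg_mem h2
  simpa using h3

/-- an `A`-algebra map from the completion of `A_𝔭` to any member with centre `𝔭` -/
noncomputable def liftHom [IsNoetherianRing A] : (Mem.base 𝔭).B →ₐ[A] T.B :=
  letI := T.complete
  IsAdicComplete.liftAlgHom (maximalIdeal T.B) (liftLevel 𝔭 T hT)
    (fun hle => liftLevel_compat 𝔭 T hT hle)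

end Lift

section Main

/-- compatibility of a family of elements of `B ⊗[A] M` -/
def Compat (M : Type u) [AddCommGroup M] [Module A M] (x : ∀ T : Mem A, T.B ⊗[A] M) : Prop :=
  ∀ (T T' : Mem A) (g : T.B →ₐ[A] T'.B), LinearMap.rTensor M g.toLinearMap (x T) = x T'

variable [IsNoetherianRing A]

theorem prime_case_step (𝔭 : Ideal A) [𝔭.IsPrime] (x : ∀ T : Mem A, T.B ⊗[A] (A ⧸ 𝔭))
    (hx : Compat (A ⧸ 𝔭) x) (a b : A)
    (h0 : b • x (Mem.base 𝔭) = (1 : (Mem.base 𝔭).B) ⊗ₜ[A] (Ideal.Quotient.mk 𝔭 a)) (T : Mem A) :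
    b • x T = (1 : T.B) ⊗ₜ[A] (Ideal.Quotient.mk 𝔭 a) := by
  by_contra hne
  have hflat : Module.Flat A T.B := T.flat
  set z := b • x T - (1 : T.B) ⊗ₜ[A] (Ideal.Quotient.mk 𝔭 a) with hz
  have hz0 : z ≠ 0 := sub_ne_zero.2 hne
  obtain ⟨q, hq, hle⟩ := exists_le_isAssociatedPrime_of_isNoetherianRing T.B z hz0
  rw [isAssociatedPrime_iff] at hq
  obtain ⟨hqp, w, hw⟩ := hq
  have hw0 : w ≠ 0 := by
    rintro rfl
    apply hqp.ne_top
    rw [hw, Ideal.eq_top_iff_one, Submodule.mem_colon_singleton]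
    simp
  have hmem : ∀ s : A, algebraMap A T.B s ∈ q ↔ s • w = 0 := by
    intro s
    rw [hw, Submodule.mem_colon_singleton, Submodule.mem_bot, algebraMap_smul]
  have hcen : (Mem.compl T.B T.flat q).center = 𝔭 := by
    rw [Mem.compl_center]
    ext s
    rw [Ideal.mem_comap, hmem]
    constructor
    · intro hs
      by_contra hs𝔭
      exact hw0 (eq_zero_of_smul_eq_zero T.B 𝔭 hs𝔭 w hs)
    · intro hs
      exact smul_eq_zero_of_mem T.B 𝔭 hs w
  have e1 := hx T (Mem.compl T.B T.flat q) (complMap T.B T.flat q)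
  have e2 := hx (Mem.base 𝔭) (Mem.compl T.B T.flat q) (liftHom 𝔭 (Mem.compl T.B T.flat q) hcen)
  have h1 : LinearMap.rTensor (A ⧸ 𝔭) (complMap T.B T.flat q).toLinearMap z = 0 := by
    rw [hz, map_sub, map_smul, e1, LinearMap.rTensor_tmul, ← e2, ← map_smul, h0,
      LinearMap.rTensor_tmul]
    simp
  obtain ⟨s, hsq, hsz⟩ := exists_notMem_smul_eq_zero T.B T.flat q _ z h1
  exact hsq (hle (Submodule.mem_colon_singleton.2 (by simpa using hsz)))

theorem prime_case (𝔭 : Ideal A) [𝔭.IsPrime] (x : ∀ T : Mem A, T.B ⊗[A] (A ⧸ 𝔭))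
    (hx : Compat (A ⧸ 𝔭) x) : ∃ m : A ⧸ 𝔭, ∀ T : Mem A, x T = (1 : T.B) ⊗ₜ[A] m := by
  obtain ⟨a, b, hb, h0⟩ := base_fraction 𝔭 (x (Mem.base 𝔭))
  have h2 := prime_case_step 𝔭 x hx a b h0
  let J : Ideal A := 𝔭 ⊔ Ideal.span {b}
  have h𝔭J : 𝔭 ≤ J := le_sup_left
  have hbJ : b ∈ J := Ideal.mem_sup_right (Ideal.mem_span_singleton_self b)
  have h3 : Ideal.Quotient.mk J a = 0 := by
    apply Groth.Agent.S11180.result A (A ⧸ J) (Ideal.Quotient.mk J a)
    intro B _ _ _ _ hc hf
    let T : Mem A := { B := B, complete := hc, flat := hf }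
    have h4 := congrArg (LinearMap.lTensor B (Ideal.Quotient.factorₐ A h𝔭J).toLinearMap) (h2 T)
    rw [map_smul, LinearMap.lTensor_tmul] at h4
    rw [smul_eq_zero_of_mem B J hbJ] at h4
    rw [h4]
    rfl
  rw [Ideal.Quotient.eq_zero_iff_mem] at h3
  obtain ⟨p, hp, y, hy, hpy⟩ := Submodule.mem_sup.1 h3
  obtain ⟨c, rfl⟩ := Ideal.mem_span_singleton'.1 hy
  refine ⟨Ideal.Quotient.mk 𝔭 c, fun T => ?_⟩
  have hflat : Module.Flat A T.B := T.flat
  have h5 : Ideal.Quotient.mk 𝔭 a = b • Ideal.Quotient.mk 𝔭 c := by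
    rw [← hpy, map_add, Ideal.Quotient.eq_zero_iff_mem.2 hp, zero_add, Algebra.smul_def,
      Ideal.Quotient.algebraMap_eq, ← map_mul, mul_comm]
  have h6 : b • (x T - (1 : T.B) ⊗ₜ[A] (Ideal.Quotient.mk 𝔭 c)) = 0 := by
    rw [smul_sub, h2 T, h5, TensorProduct.tmul_smul, sub_self]
  exact sub_eq_zero.1 (eq_zero_of_smul_eq_zero T.B 𝔭 hb _ h6)

/-- the descent property for a module -/
def Descends (M : Type u) [AddCommGroup M] [Module A M] : Prop :=
  ∀ x : (∀ T : Mem A, T.B ⊗[A] M), Compat M x → ∃ m : M, ∀ T : Mem A, x T = (1 : T.B) ⊗ₜ[A] m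

omit [IsNoetherianRing A] in
theorem descends_of_subsingleton (M : Type u) [AddCommGroup M] [Module A M] [Subsingleton M] :
    Descends (A := A) M := by
  intro x _
  refine ⟨0, fun T => ?_⟩
  have : ∀ w : T.B ⊗[A] M, w = 0 := by
    intro w
    induction w using TensorProduct.induction_on with
    | zero => rfl
    | tmul β m => rw [Subsingleton.elim m 0, TensorProduct.tmul_zero]
    | add x y hx hy => rw [hx, hy, add_zero]
  rw [this (x T), TensorProduct.tmul_zero]

omit [IsNoetherianRing A] in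
theorem rTensor_lTensor_comm {B B' : Type u} [CommRing B] [Algebra A B] [CommRing B'] [Algebra A B']
    (φ : B →ₗ[A] B') {N N' : Type u} [AddCommGroup N] [Module A N] [AddCommGroup N'] [Module A N']
    (g : N →ₗ[A] N') (y : B ⊗[A] N) :
    LinearMap.rTensor N' φ (LinearMap.lTensor B g y) = LinearMap.lTensor B' g (LinearMap.rTensor N φ y) := by
  have h1 := LinearMap.congr_fun (LinearMap.rTensor_comp_lTensor _ φ g) y
  have h2 := LinearMap.congr_fun (LinearMap.lTensor_comp_rTensor _ φ g) y
  rw [LinearMap.comp_apply] at h1 h2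
  rw [h1, h2]

omit [IsNoetherianRing A] in
theorem descends_of_exact {N₁ N₂ N₃ : Type u} [AddCommGroup N₁] [Module A N₁] [AddCommGroup N₂]
    [Module A N₂] [AddCommGroup N₃] [Module A N₃] (f : N₁ →ₗ[A] N₂) (g : N₂ →ₗ[A] N₃)
    (hf : Function.Injective f) (hg : Function.Surjective g) (hfg : Function.Exact f g)
    (P₁ : Descends (A := A) N₁) (P₃ : Descends (A := A) N₃) : Descends (A := A) N₂ := by
  intro x hx
  -- image family on N₃
  obtain ⟨m₃, hm₃⟩ := P₃ (fun T => LinearMap.lTensor T.B g (x T)) (by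
    intro T T' φ
    rw [rTensor_lTensor_comm, hx T T' φ])
  obtain ⟨m₂, rfl⟩ := hg m₃
  have hinj : ∀ T : Mem A, Function.Injective (LinearMap.lTensor T.B f) := fun T =>
    haveI := T.flat
    Module.Flat.lTensor_preserves_injective_linearMap f hf
  have hex : ∀ T : Mem A, ∃ z : T.B ⊗[A] N₁,
      LinearMap.lTensor T.B f z = x T - (1 : T.B) ⊗ₜ[A] m₂ := by
    intro T
    have := (lTensor_exact T.B hfg hg) (x T - (1 : T.B) ⊗ₜ[A] m₂)
    rw [map_sub, hm₃ T, LinearMap.lTensor_tmul, sub_self] at this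
    exact this.1 rfl
  choose z hz using hex
  obtain ⟨m₁, hm₁⟩ := P₁ z (by
    intro T T' φ
    apply hinj T'
    rw [← rTensor_lTensor_comm, hz, hz, map_sub, hx T T' φ, LinearMap.rTensor_tmul]
    simp)
  refine ⟨m₂ + f m₁, fun T => ?_⟩
  have := hz T
  rw [hm₁ T, LinearMap.lTensor_tmul] at this
  rw [TensorProduct.tmul_add, this]
  abel

theorem descends_of_finite (M : Type u) [AddCommGroup M] [Module A M] [hM : Module.Finite A M] :
    Descends (A := A) M := by
  induction hM using IsNoetherianRing.induction_on_isQuotientEquivQuotientPrime A with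
  | subsingleton N => exact descends_of_subsingleton N
  | quotient N p e =>
    have h1 : Descends (A := A) (A ⧸ p.1) := fun x hx => prime_case p.1 x hx
    exact descends_of_exact (N₃ := PUnit.{u + 1}) e.symm.toLinearMap 0 e.symm.injective
      (Function.surjective_to_subsingleton _)
      ((e.symm.exact_zero_iff_surjective _).2 e.symm.surjective) h1
      (descends_of_subsingleton _)
  | exact N₁ N₂ N₃ f g hf hg hfg h₁ h₃ => exact descends_of_exact f g hf hg hfg h₁ h₃

end Main


end Groth.Agent.R2.H50.ComplFamily
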