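import Mathlib
import Groth.Agent.Lib.Helper5CMLocusOpen
import Groth.Agent.Lib.Helper28PolyCM
import Groth.Agent.Lib.Helper28Unmixed

/-!
# A cone is Cohen–Macaulay iff it is so at its vertex (helper50)

`K` an infinite field, `I` a proper ideal of `S = K[x_1..x_N]` generated by homogeneous polynomials.  The non-CM locus of
`S/I` is closed (`Helper5.CMLocusOpen.isOpen_cm_locus`) and stable under the scaling automorphisms `x_i ↦ t x_i`; hence
if nonempty it contains the vertex.
-/

set_option autoImplicit false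
universe u

namespace Groth.Agent.R2.H50.ConeCM

open Groth.Agent.Lib.Helper28

section Transport

/-- Cohen–Macaulayness of the localisation at a prime is transported by ring isomorphisms. -/
theorem cm_atPrime_comap_ringEquiv {R R' : Type u} [CommRing R] [CommRing R'] (e : R ≃+* R') (p : Ideal R')
    [p.IsPrime] [h : LocCoh.IsCohenMacaulayLocalRing (Localization.AtPrime p)] :
    LocCoh.IsCohenMacaulayLocalRing (Localization.AtPrime (p.comap (e : R →+* R'))) := by
  have H : (p.comap (e : R →+* R')).primeCompl.map e.toMonoidHom = p.primeCompl := by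
    ext x
    constructor
    · rintro ⟨y, hy, rfl⟩
      exact hy
    · intro hx
      refine ⟨e.symm x, ?_, by simp⟩
      show e.symm x ∉ p.comap (e : R →+* R')
      rw [Ideal.mem_comap]
      simpa using hx
  exact isCohenMacaulayLocalRing_of_ringEquiv
    (IsLocalization.ringEquivOfRingEquiv (Localization.AtPrime (p.comap (e : R →+* R')))
      (Localization.AtPrime p) e H).symm

end Transport

section Scale

variable {K : Type u} [Field K] {N : ℕ}

/-- the scaling endomorphism `x_i ↦ t x_i` -/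
noncomputable def scale (t : K) : MvPolynomial (Fin N) K →ₐ[K] MvPolynomial (Fin N) K :=
  MvPolynomial.aeval (fun i => MvPolynomial.C t * MvPolynomial.X i)

@[simp] theorem scale_X (t : K) (i : Fin N) : scale t (MvPolynomial.X i) = MvPolynomial.C t * MvPolynomial.X i := by
  simp [scale]

theorem scale_one : scale (N := N) (1 : K) = AlgHom.id K _ := by
  ext i
  simp

theorem scale_comp (s t : K) : (scale (N := N) s).comp (scale t) = scale (s * t) := by
  ext i
  simp only [AlgHom.comp_apply, scale_X, map_mul, MvPolynomial.algHom_C, MvPolynomial.algebraMap_eq]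
  congr 1
  ring

theorem scale_monomial (t : K) (d : Fin N →₀ ℕ) (c : K) :
    scale t (MvPolynomial.monomial d c) = MvPolynomial.C (t ^ d.degree) * MvPolynomial.monomial d c := by
  unfold scale
  rw [MvPolynomial.aeval_monomial, MvPolynomial.algebraMap_eq]
  simp only [mul_pow, Finsupp.prod_mul]
  rw [MvPolynomial.monomial_eq]
  have : (d.prod fun i k => (MvPolynomial.C t : MvPolynomial (Fin N) K) ^ k) = MvPolynomial.C (t ^ d.degree) := by
    rw [Finsupp.prod, Finset.prod_pow_eq_pow_sum, map_pow]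
    rfl
  rw [this]
  ring

theorem scale_homogeneous (t : K) (f : MvPolynomial (Fin N) K) (k : ℕ) (hf : f.IsHomogeneous k) :
    scale t f = MvPolynomial.C (t ^ k) * f := by
  conv_lhs => rw [f.as_sum]
  conv_rhs => rw [f.as_sum]
  rw [map_sum, Finset.mul_sum]
  refine Finset.sum_congr rfl fun d hd => ?_
  rw [scale_monomial, hf.degree_eq_sum_deg_support hd]
  rfl

theorem eval_scale (t : K) (a : Fin N → K) (f : MvPolynomial (Fin N) K) :
    MvPolynomial.eval a (scale t f) = MvPolynomial.eval (fun i => t * a i) f := by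
  have : (MvPolynomial.eval a).comp (scale (N := N) t).toRingHom = MvPolynomial.eval (fun i => t * a i) := by
    apply MvPolynomial.ringHom_ext
    · intro c
      simp
    · intro i
      simp
  exact RingHom.congr_fun this f

/-- the scaling automorphism for `t ≠ 0` -/
noncomputable def scaleEquiv (t : K) (ht : t ≠ 0) : MvPolynomial (Fin N) K ≃ₐ[K] MvPolynomial (Fin N) K :=
  AlgEquiv.ofAlgHom (scale t) (scale t⁻¹)
    (by rw [scale_comp, mul_inv_cancel₀ ht, scale_one])
    (by rw [scale_comp, inv_mul_cancel₀ ht, scale_one])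

theorem map_scale_le (t : K) (I : Ideal (MvPolynomial (Fin N) K))
    (hI : ∃ T : Set (MvPolynomial (Fin N) K), (∀ f ∈ T, ∃ k : ℕ, f.IsHomogeneous k) ∧ I = Ideal.span T) :
    I.map (scale (N := N) t).toRingHom ≤ I := by
  obtain ⟨T, hT, rfl⟩ := hI
  rw [Ideal.map_span, Ideal.span_le]
  rintro _ ⟨f, hf, rfl⟩
  obtain ⟨k, hk⟩ := hT f hf
  show scale t f ∈ _
  rw [scale_homogeneous t f k hk]
  exact Ideal.mul_mem_left _ _ (Ideal.subset_span hf)

theorem map_scaleEquiv_eq (t : K) (ht : t ≠ 0) (I : Ideal (MvPolynomial (Fin N) K))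
    (hI : ∃ T : Set (MvPolynomial (Fin N) K), (∀ f ∈ T, ∃ k : ℕ, f.IsHomogeneous k) ∧ I = Ideal.span T) :
    I = I.map (((scaleEquiv (N := N) t ht).toRingEquiv : MvPolynomial (Fin N) K ≃+* MvPolynomial (Fin N) K) :
      MvPolynomial (Fin N) K →+* MvPolynomial (Fin N) K) := by
  apply le_antisymm
  · intro f hf
    have h1 : scale t⁻¹ f ∈ I := map_scale_le t⁻¹ I hI (Ideal.mem_map_of_mem _ hf)
    have h2 : scale t (scale t⁻¹ f) = f := by
      have := scale_comp (N := N) t t⁻¹
      rw [mul_inv_cancel₀ ht, scale_one] at this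
      exact AlgHom.congr_fun this f
    rw [← h2]
    exact Ideal.mem_map_of_mem _ h1
  · exact map_scale_le t I hI

/-- the scaling automorphism of the quotient by an ideal generated by homogeneous polynomials -/
noncomputable def quotScale (t : K) (ht : t ≠ 0) (I : Ideal (MvPolynomial (Fin N) K))
    (hI : ∃ T : Set (MvPolynomial (Fin N) K), (∀ f ∈ T, ∃ k : ℕ, f.IsHomogeneous k) ∧ I = Ideal.span T) :
    (MvPolynomial (Fin N) K ⧸ I) ≃+* (MvPolynomial (Fin N) K ⧸ I) :=
  Ideal.quotientEquiv I I (scaleEquiv t ht).toRingEquiv (map_scaleEquiv_eq t ht I hI)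

theorem quotScale_mk (t : K) (ht : t ≠ 0) (I : Ideal (MvPolynomial (Fin N) K))
    (hI : ∃ T : Set (MvPolynomial (Fin N) K), (∀ f ∈ T, ∃ k : ℕ, f.IsHomogeneous k) ∧ I = Ideal.span T)
    (f : MvPolynomial (Fin N) K) :
    quotScale t ht I hI (Ideal.Quotient.mk I f) = Ideal.Quotient.mk I (scale t f) := by
  unfold quotScale
  rw [Ideal.quotientEquiv_mk]
  rfl

end Scale

section Main

open Groth.Agent.Lib.Helper5.CodepthOpen Groth.Agent.Lib.Helper5.CMLocusOpen

variable (K : Type u) [Field K] [IsAlgClosed K] (N : ℕ)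

theorem comap_comap_symm {R : Type u} [CommRing R] (e : R ≃+* R) (M : Ideal R) :
    (M.comap (e : R →+* R)).comap (e.symm : R →+* R) = M := by
  ext x
  show e (e.symm x) ∈ M ↔ x ∈ M
  rw [e.apply_symm_apply]

theorem cm_atPrime_of_eq {R : Type u} [CommRing R] (p q : Ideal R) [hp : p.IsPrime] [hq : q.IsPrime] (h : p = q)
    (hcm : LocCoh.IsCohenMacaulayLocalRing (Localization.AtPrime p)) :
    LocCoh.IsCohenMacaulayLocalRing (Localization.AtPrime q) := by
  subst h
  exact hcm

theorem not_cm_comap {R : Type u} [CommRing R] (e : R ≃+* R) (M : Ideal R) [M.IsPrime]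
    (h : ¬ LocCoh.IsCohenMacaulayLocalRing (Localization.AtPrime M)) :
    ¬ LocCoh.IsCohenMacaulayLocalRing (Localization.AtPrime (M.comap (RingEquiv.toRingHom e))) := by
  intro hcm
  apply h
  have h2 := cm_atPrime_comap_ringEquiv e.symm (M.comap (RingEquiv.toRingHom e))
  exact cm_atPrime_of_eq _ _ (comap_comap_symm e M) h2

/-- a cone which is Cohen–Macaulay at its vertex is Cohen–Macaulay -/
theorem cmRing_of_cm_vertex (I : Ideal (MvPolynomial (Fin N) K))
    (hI : ∃ T : Set (MvPolynomial (Fin N) K), (∀ f ∈ T, ∃ k : ℕ, f.IsHomogeneous k) ∧ I = Ideal.span T)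
    [hm : ((RingHom.ker (MvPolynomial.constantCoeff : MvPolynomial (Fin N) K →+* K)).map
      (Ideal.Quotient.mk I)).IsPrime]
    (hv : LocCoh.IsCohenMacaulayLocalRing (Localization.AtPrime
        ((RingHom.ker (MvPolynomial.constantCoeff : MvPolynomial (Fin N) K →+* K)).map
          (Ideal.Quotient.mk I)))) :
    LocCoh.IsCohenMacaulayRing (MvPolynomial (Fin N) K ⧸ I) := by
  classical
  haveI hk : LocCoh.IsCohenMacaulayRing K := isCohenMacaulayRing_of_field K
  haveI hS : LocCoh.IsCohenMacaulayRing (MvPolynomial (Fin N) K) := isCohenMacaulayRing_mvPolynomial_fin N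
  haveI : IsNoetherianRing (MvPolynomial (Fin N) K ⧸ I) := inferInstance
  have hcmu : CMU (MvPolynomial (Fin N) K ⧸ I) :=
    cmu_of_surjective (R := MvPolynomial (Fin N) K) Ideal.Quotient.mk_surjective cmu_of_isCohenMacaulayRing
  have hopen := isOpen_cm_locus hcmu
  obtain ⟨𝔞, h𝔞⟩ := (PrimeSpectrum.isClosed_iff_zeroLocus_ideal _).1 hopen.isClosed_compl
  refine ⟨fun P hP => ?_⟩
  by_contra hcon
  have hPZ : (⟨P, hP⟩ : PrimeSpectrum (MvPolynomial (Fin N) K ⧸ I)) ∈ PrimeSpectrum.zeroLocus (𝔞 : Set _) := by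
    rw [← h𝔞]
    exact hcon
  have h𝔞ne : 𝔞 ≠ ⊤ := by
    rintro rfl
    simp at hPZ
  obtain ⟨M, hM, h𝔞M⟩ := Ideal.exists_le_maximal 𝔞 h𝔞ne
  haveI hMp : M.IsPrime := hM.isPrime
  have hM' : (M.comap (Ideal.Quotient.mk I)).IsMaximal :=
    Ideal.comap_isMaximal_of_surjective _ Ideal.Quotient.mk_surjective
  obtain ⟨a, ha⟩ := MvPolynomial.isMaximal_iff_eq_vanishingIdeal_singleton.1 hM'
  have hMZ : ¬ LocCoh.IsCohenMacaulayLocalRing (Localization.AtPrime M) := by
    have h1 : (⟨M, hMp⟩ : PrimeSpectrum (MvPolynomial (Fin N) K ⧸ I)) ∈ PrimeSpectrum.zeroLocus (𝔞 : Set _) := h𝔞M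
    rw [← h𝔞] at h1
    exact h1
  have key : ∀ (t : K) (ht : t ≠ 0) (f : MvPolynomial (Fin N) K), Ideal.Quotient.mk I f ∈ 𝔞 →
      MvPolynomial.eval (fun i => t * a i) f = 0 := by
    intro t ht f hf
    have h0 := not_cm_comap (quotScale t ht I hI) M hMZ
    have h1 : (⟨M.comap (RingEquiv.toRingHom (quotScale t ht I hI)), Ideal.comap_isPrime _ _⟩ :
        PrimeSpectrum (MvPolynomial (Fin N) K ⧸ I)) ∈ PrimeSpectrum.zeroLocus (𝔞 : Set _) := by
      rw [← h𝔞]
      exact h0
    have h2 : quotScale t ht I hI (Ideal.Quotient.mk I f) ∈ M := h1 hf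
    rw [quotScale_mk] at h2
    have h3 : scale t f ∈ M.comap (Ideal.Quotient.mk I) := h2
    rw [ha, MvPolynomial.mem_vanishingIdeal_singleton_iff, MvPolynomial.aeval_eq_eval, eval_scale] at h3
    exact h3
  have hcc : ∀ f : MvPolynomial (Fin N) K, Ideal.Quotient.mk I f ∈ 𝔞 → MvPolynomial.constantCoeff f = 0 := by
    intro f hf
    let g : Polynomial K := MvPolynomial.aeval (fun i => Polynomial.C (a i) * Polynomial.X) f
    have hg : ∀ t : K, g.eval t = MvPolynomial.eval (fun i => t * a i) f := by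
      intro t
      have : (Polynomial.evalRingHom t).comp
          (MvPolynomial.aeval (fun i => Polynomial.C (a i) * Polynomial.X) :
            MvPolynomial (Fin N) K →ₐ[K] Polynomial K).toRingHom = MvPolynomial.eval (fun i => t * a i) := by
        apply MvPolynomial.ringHom_ext
        · intro c
          simp only [RingHom.comp_apply, AlgHom.toRingHom_eq_coe, RingHom.coe_coe, MvPolynomial.aeval_C,
            Polynomial.algebraMap_eq, Polynomial.coe_evalRingHom, Polynomial.eval_C, MvPolynomial.eval_C]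
        · intro i
          simp only [RingHom.comp_apply, AlgHom.toRingHom_eq_coe, RingHom.coe_coe, MvPolynomial.aeval_X,
            Polynomial.coe_evalRingHom, Polynomial.eval_mul, Polynomial.eval_C, Polynomial.eval_X,
            MvPolynomial.eval_X, mul_comm]
      exact RingHom.congr_fun this f
    have hg0 : g = 0 := by
      apply Polynomial.eq_zero_of_infinite_isRoot
      apply Set.Infinite.mono (s := {t : K | t ≠ 0})
      · intro t ht
        show g.IsRoot t
        rw [Polynomial.IsRoot, hg]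
        exact key t ht f hf
      · exact (Set.finite_singleton (0 : K)).infinite_compl
    have h0 := hg 0
    rw [hg0, Polynomial.eval_zero] at h0
    simp only [zero_mul] at h0
    rw [MvPolynomial.eval_zero'] at h0
    exact h0.symm
  have hle : 𝔞 ≤ (RingHom.ker (MvPolynomial.constantCoeff : MvPolynomial (Fin N) K →+* K)).map
      (Ideal.Quotient.mk I) := by
    intro x hx
    obtain ⟨f, rfl⟩ := Ideal.Quotient.mk_surjective x
    exact Ideal.mem_map_of_mem _ (hcc f hx)
  have hv' : (⟨_, hm⟩ : PrimeSpectrum (MvPolynomial (Fin N) K ⧸ I)) ∈ PrimeSpectrum.zeroLocus (𝔞 : Set _) := hle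
  rw [← h𝔞] at hv'
  exact hv' hv

end Main

end Groth.Agent.R2.H50.ConeCM
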