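import Groth.Agent.R2.H41CptSpec

/-!
# helper50: PkgFin of PROJ:compact (helper41)

Induction on the degree, using `PkgFinStep`: a compact retract of a bounded complex of sums of
members of `S` is a retract of a bounded complex of finite sums.
-/

set_option autoImplicit false
universe v u
open CategoryTheory CategoryTheory.Limits Opposite

namespace Groth.Agent.R2.H50.CptFin

open Groth.Agent.R2.H41 Groth.Agent.R2.H41.CptSpec

section

variable {A : Type u} [Category.{v} A] [Abelian A] [HasFiniteBiproducts A]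

lemma isZero_biproduct_fin_zero (E : Fin 0 → A) : IsZero (⨁ E) := by
  rw [IsZero.iff_id_eq_zero]
  ext j
  exact j.elim0

lemma isFinSum_of_isZero (S : Set A) {M : A} (hM : IsZero M) : IsFinSum S M :=
  ⟨0, fun j => j.elim0, fun j => j.elim0, ⟨hM.iso (isZero_biproduct_fin_zero _)⟩⟩

end

theorem pkgFin (h : PkgFinStep.{v, u}) : PkgFin.{v, u} := by
  intro A _ _ _ _ _ _ S hS K hK L a b hL hz hr
  -- the inductive claim
  have key : ∀ n : ℕ, ∃ L' : CochainComplex A ℤ, (∀ i, IsSum S (L'.X i)) ∧
      (∀ i : ℤ, i < a + (n : ℤ) → IsFinSum S (L'.X i)) ∧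
      (∀ i : ℤ, i < a ∨ b < i → IsZero (L'.X i)) ∧
      Nonempty (Retract K (DerivedCategory.Q.obj L')) := by
    intro n
    induction n with
    | zero =>
      refine ⟨L, hL, ?_, hz, hr⟩
      intro i hi
      refine isFinSum_of_isZero S (hz i (Or.inl ?_))
      simpa using hi
    | succ n ih =>
      obtain ⟨L₁, h1, h2, h3, h4⟩ := ih
      obtain ⟨L₂, g1, g2, g3, g4⟩ := h S hS K hK L₁ (a + (n : ℤ)) h1 h2 h4
      refine ⟨L₂, g1, ?_, fun i hi => g3 i (h3 i hi), g4⟩
      intro i hi
      refine g2 i ?_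
      push_cast at hi
      omega
  obtain ⟨L', h1, h2, h3, h4⟩ := key (b + 1 - a).toNat
  refine ⟨L', h3, ?_, h4⟩
  intro i
  by_cases hi : i < a + ((b + 1 - a).toNat : ℤ)
  · exact h2 i hi
  · refine isFinSum_of_isZero S (h3 i (Or.inr ?_))
    have : b + 1 - a ≤ ((b + 1 - a).toNat : ℤ) := Int.self_le_toNat _
    omega

end Groth.Agent.R2.H50.CptFin
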