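import Groth.Agent.R2.H41CptSpec
import Groth.Agent.Lib.Helper17Tot1

/-!
# helper50: PkgStupid of PROJ:compact (helper41)

A cochain complex is the colimit of its stupid truncations `σ_{≥ b - m}` (as `m → ∞`).
The stupid truncations are `Helper17.Tot.tr` along the predicate `b - m ≤ i`.
-/

set_option autoImplicit false
universe v u
open CategoryTheory CategoryTheory.Limits

namespace Groth.Agent.R2.H50.CptStupid

open Groth.Agent.R2.H41 Groth.Agent.Lib.Helper17.Tot

variable {A : Type u} [Category.{v} A] [Abelian A]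

/-- the predicate `b - m ≤ i`. -/
def P (b : ℤ) (m : ℕ) : ℤ → Prop := fun i => b - (m : ℤ) ≤ i

instance (b : ℤ) (m : ℕ) : DecidablePred (P b m) := fun i => Int.decLe _ i

lemma P_iff (b : ℤ) (m : ℕ) (i : ℤ) : P b m i ↔ b - (m : ℤ) ≤ i := Iff.rfl

lemma P_succ {b : ℤ} {m : ℕ} {i : ℤ} (h : P b m i) : P b (m + 1) i := by
  rw [P_iff] at h ⊢
  push_cast
  omega

lemma P_next {b : ℤ} {m : ℕ} {i j : ℤ} (hij : (ComplexShape.up ℤ).Rel i j) (h : P b m i) :
    P b m j := by
  rw [P_iff] at h ⊢
  have : i + 1 = j := hij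
  omega

/-- the stupid truncation `σ_{≥ b - m} L`. -/
noncomputable def obj (b : ℤ) (L : CochainComplex A ℤ) (m : ℕ) : CochainComplex A ℤ :=
  tr (P b m) L

/-- the transition maps. -/
noncomputable def step (b : ℤ) (L : CochainComplex A ℤ) (m : ℕ) : obj b L m ⟶ obj b L (m + 1) :=
  trTrans (P b m) (P b (m + 1))
    (fun _ _ hij hi _ => ⟨fun _ => P_next hij hi, fun _ => P_succ hi⟩) L

/-- the inclusions. -/
noncomputable def incl' (b : ℤ) (L : CochainComplex A ℤ) (m : ℕ) : obj b L m ⟶ L :=
  trIncl (P b m) (fun _ _ hij hi => P_next hij hi) L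

lemma incl'_f (b : ℤ) (L : CochainComplex A ℤ) (m : ℕ) (i : ℤ) :
    (incl' b L m).f i = trι (P b m) L i := rfl

lemma step_incl' (b : ℤ) (L : CochainComplex A ℤ) (m : ℕ) :
    step b L m ≫ incl' b L (m + 1) = incl' b L m := by
  ext i
  rw [HomologicalComplex.comp_f, incl'_f, incl'_f]
  change (trι (P b m) L i ≫ trπ (P b (m + 1)) L i) ≫ _ = _
  by_cases hi : P b m i
  · rw [Category.assoc, trπ_ι_pos (P b (m + 1)) L (P_succ hi), Category.comp_id]
  · rw [trι_neg (P b m) L hi, zero_comp, zero_comp]

/-- the tower of stupid truncations. -/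
noncomputable def F (b : ℤ) (L : CochainComplex A ℤ) : ℕ ⥤ CochainComplex A ℤ :=
  Functor.ofSequence (step b L)

lemma F_obj (b : ℤ) (L : CochainComplex A ℤ) (m : ℕ) : (F b L).obj m = obj b L m := rfl

lemma F_map_succ (b : ℤ) (L : CochainComplex A ℤ) (m : ℕ) :
    (F b L).map (homOfLE (Nat.le_add_right m 1)) = step b L m :=
  Functor.ofSequence_map_homOfLE_succ _ m

/-- the inclusions, typed on the tower. -/
noncomputable def incl (b : ℤ) (L : CochainComplex A ℤ) (m : ℕ) : (F b L).obj m ⟶ L :=
  incl' b L m

lemma incl_f (b : ℤ) (L : CochainComplex A ℤ) (m : ℕ) (i : ℤ) :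
    (incl b L m).f i = trι (P b m) L i := rfl

lemma step_incl (b : ℤ) (L : CochainComplex A ℤ) (m : ℕ) :
    (F b L).map (homOfLE (Nat.le_add_right m 1)) ≫ incl b L (m + 1) = incl b L m := by
  rw [F_map_succ]
  exact step_incl' b L m

lemma isIso_incl_f (b : ℤ) (L : CochainComplex A ℤ) (m : ℕ) (i : ℤ) (hi : P b m i) :
    IsIso ((incl b L m).f i) := by
  rw [incl_f]
  exact isIso_trι (P b m) L hi

theorem pkgStupid : CptSpec.PkgStupid.{v, u} := by
  intro A _ _ _ b L _
  -- the cocone
  let α : F b L ⟶ (Functor.const ℕ).obj L := NatTrans.ofSequence (incl b L) (by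
    intro n
    simp only [Functor.const_obj_obj, Functor.const_obj_map]
    rw [Category.comp_id]
    exact step_incl b L n)
  let s : Cocone (F b L) := ⟨L, α⟩
  have hs : ∀ n, s.ι.app n = incl b L n := fun n => rfl
  have hiso : IsIso (colimit.desc (F b L) s) := by
    have : ∀ i : ℤ, IsIso ((colimit.desc (F b L) s).f i) := by
      intro i
      let H := HomologicalComplex.eval A (ComplexShape.up ℤ) i
      change IsIso (H.map (colimit.desc (F b L) s))
      let N : ℕ := (b - i).toNat
      have hN : ∀ n : ℕ, N ≤ n → P b n i := by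
        intro n hn
        rw [P_iff]
        have : b - i ≤ (N : ℤ) := Int.self_le_toNat (b - i)
        have h2 : (N : ℤ) ≤ (n : ℤ) := by exact_mod_cast hn
        omega
      have hf : ∀ n : ℕ, N ≤ n → IsIso (H.map (incl b L n)) := fun n hn =>
        isIso_incl_f b L n i (hN n hn)
      have hconst : (F b L ⋙ H).IsEventuallyConstantFrom N := by
        intro n φ
        have hn : N ≤ n := leOfHom φ
        have h1 : (F b L ⋙ H).map φ ≫ H.map (incl b L n) = H.map (incl b L N) := by
          have := α.naturality φ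
          simp only [Functor.const_obj_obj, Functor.const_obj_map, Category.comp_id] at this
          rw [Functor.comp_map, ← H.map_comp]
          exact congrArg H.map this
        have := hf n hn
        have := hf N le_rfl
        exact IsIso.of_isIso_fac_right h1
      have hcol : IsColimit (H.mapCocone (colimit.cocone (F b L))) :=
        isColimitOfPreserves H (colimit.isColimit (F b L))
      have h3 : IsIso (H.map (colimit.ι (F b L) N)) := hconst.isIso_ι_of_isColimit hcol
      have h4 : H.map (colimit.ι (F b L) N) ≫ H.map (colimit.desc (F b L) s) =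
          H.map (incl b L N) := by
        rw [← H.map_comp]
        exact congrArg H.map (colimit.ι_desc s N)
      have h5 := hf N le_rfl
      exact @IsIso.of_isIso_fac_left _ _ _ _ _ _ _ _ h3 h5 h4
    exact HomologicalComplex.Hom.isIso_of_components _
  refine ⟨F b L, asIso (colimit.desc (F b L) s), ?_⟩
  intro m
  constructor
  · intro i hi
    refine isZero_trX (P b m) L ?_
    rw [P_iff]
    omega
  · intro i
    by_cases hi : P b m i
    · exact Or.inr ⟨eqToIso (trX_pos (P b m) L hi)⟩
    · exact Or.inl (isZero_trX (P b m) L hi)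

end Groth.Agent.R2.H50.CptStupid
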