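import Mathlib
import Groth.Prelude.Def_CAlgX
import Groth.Prelude.Def_W4bk4grassmannianPl
import Groth.Agent.Lib.Helper5IntDim

/-!
# Dimension of quotients of polynomial rings under algebraic extension of the base field; minor ideals (helper50)
-/

set_option autoImplicit false
universe u

namespace Groth.Agent.R2.H50.DetBaseChange

open MvPolynomial

section BaseChange

attribute [local instance] MvPolynomial.algebraMvPolynomial

variable (k K : Type u) [Field k] [Field K] [Algebra k K] (σ : Type*)

instance : Module.Free (MvPolynomial σ k) (MvPolynomial σ K) :=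
  (Algebra.IsPushout.out (R := k) (S := MvPolynomial σ k) (R' := K) (S' := MvPolynomial σ K)).free

theorem comap_map_map (I : Ideal (MvPolynomial σ k)) :
    (I.map (MvPolynomial.map (algebraMap k K) : MvPolynomial σ k →+* MvPolynomial σ K)).comap
      (MvPolynomial.map (algebraMap k K)) = I :=
  Ideal.comap_map_eq_self_of_faithfullyFlat (A := MvPolynomial σ k) (B := MvPolynomial σ K) I

/-- the dimension of `k[σ]/I` does not change under an algebraic extension of the field -/
theorem ringKrullDim_quotient_map_eq [Algebra.IsAlgebraic k K] (I : Ideal (MvPolynomial σ k)) :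
    ringKrullDim (MvPolynomial σ K ⧸ I.map (MvPolynomial.map (algebraMap k K) : MvPolynomial σ k →+* MvPolynomial σ K)) =
      ringKrullDim (MvPolynomial σ k ⧸ I) := by
  haveI : Algebra.IsIntegral k K := Algebra.IsAlgebraic.isIntegral
  set φ : MvPolynomial σ k →+* MvPolynomial σ K := MvPolynomial.map (algebraMap k K) with hφ
  set f : MvPolynomial σ k →+* (MvPolynomial σ K ⧸ I.map φ) := (Ideal.Quotient.mk (I.map φ)).comp φ with hf
  have hint : f.IsIntegral := by
    apply RingHom.IsIntegral.trans
    · exact algebraMap_isIntegral_iff.2 (inferInstance : Algebra.IsIntegral (MvPolynomial σ k) (MvPolynomial σ K))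
    · exact RingHom.isIntegral_of_surjective _ Ideal.Quotient.mk_surjective
  have hker : RingHom.ker f = I := by
    rw [hf, ← RingHom.comap_ker, Ideal.mk_ker]
    exact comap_map_map k K σ I
  rw [Groth.Agent.Lib.Helper5.ringKrullDim_eq_ringKrullDim_quotient_ker_of_isIntegral f hint]
  exact ringKrullDim_eq_of_ringEquiv (Ideal.quotEquivOfEq hker)

end BaseChange

section Minor

open W4bk4grassmannian

variable (k K : Type u) [Field k] [Field K] [Algebra k K]

theorem map_minorIdeal (m n t : ℕ) :
    (CAlgX.minorIdeal (genMatrix k m n) t).map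
        (MvPolynomial.map (algebraMap k K) : MvPolynomial (Fin m × Fin n) k →+* MvPolynomial (Fin m × Fin n) K) =
      CAlgX.minorIdeal (genMatrix K m n) t := by
  unfold CAlgX.minorIdeal
  rw [Ideal.map_span]
  congr 1
  ext x
  simp only [Set.mem_image, Set.mem_range]
  have key : ∀ fg : (Fin t → Fin m) × (Fin t → Fin n),
      (MvPolynomial.map (algebraMap k K)) ((genMatrix k m n).submatrix fg.1 fg.2).det =
        ((genMatrix K m n).submatrix fg.1 fg.2).det := by
    intro fg
    rw [RingHom.map_det]
    congr 1
    ext i j
    simp [genMatrix]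
  constructor
  · rintro ⟨_, ⟨fg, rfl⟩, rfl⟩
    exact ⟨fg, (key fg).symm⟩
  · rintro ⟨fg, rfl⟩
    exact ⟨_, ⟨fg, rfl⟩, key fg⟩

/-- minors of size larger than the matrix vanish -/
theorem minorIdeal_eq_bot_of_lt (m n t : ℕ) (h : m < t ∨ n < t) : CAlgX.minorIdeal (genMatrix k m n) t = ⊥ := by
  unfold CAlgX.minorIdeal
  rw [Ideal.span_eq_bot]
  rintro _ ⟨fg, rfl⟩
  rcases h with h | h
  · obtain ⟨i, j, hij, hfij⟩ : ∃ i j, i ≠ j ∧ fg.1 i = fg.1 j := by
      by_contra hcon
      push_neg at hcon
      have hinj : Function.Injective fg.1 := fun i j hij => by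
        by_contra hne
        exact hcon i j hne hij
      have := Fintype.card_le_of_injective _ hinj
      simp at this
      omega
    exact Matrix.det_zero_of_row_eq hij (by ext c; simp [Matrix.submatrix_apply, hfij])
  · obtain ⟨i, j, hij, hfij⟩ : ∃ i j, i ≠ j ∧ fg.2 i = fg.2 j := by
      by_contra hcon
      push_neg at hcon
      have hinj : Function.Injective fg.2 := fun i j hij => by
        by_contra hne
        exact hcon i j hne hij
      have := Fintype.card_le_of_injective _ hinj
      simp at this
      omega
    exact Matrix.det_zero_of_column_eq hij (by intro c; simp [Matrix.submatrix_apply, hfij])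

end Minor

end Groth.Agent.R2.H50.DetBaseChange
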