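import Mathlib
import Groth.Prelude.Def_W4bk4grassmannianPl

/-!
# The Schubert index of a determinantal variety (helper50)

`detIdx d r t = (t-1, …, d-1, d+r+1-t, …, d+r-1) ∈ I(d, d+r)`: the Schubert variety whose opposite cell is the variety of
`r × d` matrices of rank `< t`.
-/

set_option autoImplicit false

namespace Groth.Agent.R2.H50.DetIdx

open W4bk4grassmannian

variable {d n : ℕ}

theorem add_le_of_le (θ : Idx d n) : ∀ (k : ℕ) (s s' : Fin d), s'.val = s.val + k →
    (θ.1 s).val + k ≤ (θ.1 s').val := by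
  intro k
  induction k with
  | zero =>
    intro s s' h
    have : s' = s := Fin.ext (by omega)
    rw [this]
    omega
  | succ k ih =>
    intro s s' h
    have hlt : s.val + k < d := by have := s'.isLt; omega
    have h1 := ih s ⟨s.val + k, hlt⟩ rfl
    have h2 : θ.1 ⟨s.val + k, hlt⟩ < θ.1 s' := θ.2 (by rw [Fin.lt_def]; simp; omega)
    rw [Fin.lt_def] at h2
    omega

/-- the least element `(0, 1, …, d-1)` of `I(d, d+r)` -/
def bot (d r : ℕ) : Idx d (d + r) := ⟨fun s => Fin.castAdd r s, fun _ _ h => h⟩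

theorem bot_le (r : ℕ) (θ : Idx d (d + r)) : bot d r ≤ θ := by
  intro s
  rw [Fin.le_def]
  have := add_le_of_le θ s.val ⟨0, by have := s.isLt; omega⟩ s (by simp)
  simp only [bot, Fin.val_castAdd]
  omega

/-- the Schubert index of the determinantal variety of `r × d` matrices of rank `< t` -/
def detIdx (d r t : ℕ) (ht : 0 < t) (htr : t ≤ r) : Idx d (d + r) :=
  ⟨fun s => if h : s.val + t ≤ d then ⟨t - 1 + s.val, by have := s.isLt; omega⟩
    else ⟨r + s.val, by have := s.isLt; omega⟩, by
    intro s s' hss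
    rw [Fin.lt_def] at hss
    rw [Fin.lt_def]
    by_cases h : s.val + t ≤ d
    · by_cases h' : s'.val + t ≤ d
      · simp only [h, h', dif_pos]
        omega
      · simp only [h, h', dif_pos, dif_neg, not_false_eq_true]
        omega
    · have h' : ¬ s'.val + t ≤ d := by omega
      simp only [h, h', dif_neg, not_false_eq_true]
      omega⟩

theorem le_detIdx_iff (d r t : ℕ) (hd : 0 < d) (ht : 0 < t) (htd : t ≤ d) (htr : t ≤ r) (θ : Idx d (d + r)) :
    θ ≤ detIdx d r t ht htr ↔ (θ.1 ⟨d - t, Nat.sub_lt hd ht⟩).val < d := by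
  constructor
  · intro h
    have h1 := Fin.le_def.1 (h ⟨d - t, Nat.sub_lt hd ht⟩)
    have h2 : d - t + t ≤ d := by omega
    simp only [detIdx, h2, dif_pos] at h1
    omega
  · intro h s
    rw [Fin.le_def]
    by_cases hs : s.val + t ≤ d
    · simp only [detIdx, hs, dif_pos]
      have := add_le_of_le θ (d - t - s.val) s ⟨d - t, Nat.sub_lt hd ht⟩ (by simp; omega)
      omega
    · simp only [detIdx, hs, dif_neg, not_false_eq_true]
      have h1 := add_le_of_le θ (d - 1 - s.val) s ⟨d - 1, by omega⟩ (by have := s.isLt; simp; omega)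
      have h2 := (θ.1 ⟨d - 1, by omega⟩).isLt
      have := s.isLt
      omega

theorem not_le_detIdx_iff (d r t : ℕ) (hd : 0 < d) (ht : 0 < t) (htd : t ≤ d) (htr : t ≤ r) (θ : Idx d (d + r)) :
    ¬ θ ≤ detIdx d r t ht htr ↔ d ≤ (θ.1 ⟨d - t, Nat.sub_lt hd ht⟩).val := by
  rw [le_detIdx_iff d r t hd ht htd htr θ]
  omega

theorem codeg_detIdx (d r t : ℕ) (ht : 0 < t) (htd : t ≤ d) (htr : t ≤ r) :
    codeg (detIdx d r t ht htr) = (t - 1) * (r + d - t + 1) := by
  unfold codeg
  have h1 : ∀ s : Fin d, ((detIdx d r t ht htr).1 s).val - s.val = if s.val + t ≤ d then t - 1 else r := by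
    intro s
    by_cases hs : s.val + t ≤ d
    · simp only [detIdx, hs, dif_pos, if_true]
      omega
    · simp only [detIdx, hs, dif_neg, not_false_eq_true, if_false]
      omega
  simp_rw [h1]
  rw [Fin.sum_univ_eq_sum_range (fun i => if i + t ≤ d then t - 1 else r) d]
  have hsplit : d = (d - t + 1) + (t - 1) := by omega
  rw [hsplit, Finset.sum_range_add]
  have e1 : ∑ x ∈ Finset.range (d - t + 1), (if x + t ≤ d - t + 1 + (t - 1) then t - 1 else r) =
      (d - t + 1) * (t - 1) := by
    rw [Finset.sum_congr rfl (g := fun _ => t - 1)]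
    · rw [Finset.sum_const, Finset.card_range, smul_eq_mul]
    · intro x hx
      have := Finset.mem_range.1 hx
      rw [if_pos (by omega)]
  have e2 : ∑ x ∈ Finset.range (t - 1), (if d - t + 1 + x + t ≤ d - t + 1 + (t - 1) then t - 1 else r) =
      (t - 1) * r := by
    rw [Finset.sum_congr rfl (g := fun _ => r)]
    · rw [Finset.sum_const, Finset.card_range, smul_eq_mul]
    · intro x hx
      rw [if_neg (by omega)]
  rw [e1, e2]
  have : r + (d - t + 1 + (t - 1)) - t + 1 = (d - t + 1) + r := by omega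
  rw [this]
  ring

end Groth.Agent.R2.H50.DetIdx
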