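import Mathlib

/-!
# Linear independence from distinct leading monomials (helper50)
-/

set_option autoImplicit false

namespace Groth.Agent.R2.H50.MonOrd

open MvPolynomial
open scoped MonomialOrder

variable {σ : Type*} (m : MonomialOrder σ) {K : Type*} [Field K]

/-- A family of nonzero polynomials with pairwise distinct leading monomials is linearly independent. -/
theorem linearIndependent_of_degree_injective {ι : Type*} (f : ι → MvPolynomial σ K)
    (hf0 : ∀ i, f i ≠ 0) (hinj : Function.Injective fun i => m.degree (f i)) :
    LinearIndependent K f := by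
  classical
  rw [linearIndependent_iff']
  intro s g hsum
  by_contra hcon
  push Not at hcon
  obtain ⟨i0, hi0s, hi0⟩ := hcon
  -- the set of indices with nonzero coefficient
  set s' := s.filter (fun i => g i ≠ 0) with hs'
  have hs'ne : s'.Nonempty := ⟨i0, by simp [hs', hi0s, hi0]⟩
  obtain ⟨i, his', hmax⟩ := Finset.exists_max_image s' (fun i => m.toSyn (m.degree (f i))) hs'ne
  have his : i ∈ s := (Finset.mem_filter.1 his').1
  have hgi : g i ≠ 0 := (Finset.mem_filter.1 his').2
  have hc := congrArg (fun p => coeff (m.degree (f i)) p) hsum
  simp only [coeff_sum, coeff_smul, coeff_zero, smul_eq_mul] at hc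
  rw [Finset.sum_eq_single i] at hc
  · have : coeff (m.degree (f i)) (f i) ≠ 0 := by
      rw [← MonomialOrder.leadingCoeff]
      exact (m.leadingCoeff_ne_zero_iff).2 (hf0 i)
    exact (mul_ne_zero hgi this) hc
  · intro j hjs hji
    by_cases hgj : g j = 0
    · rw [hgj, zero_mul]
    · have hjs' : j ∈ s' := by simp [hs', hjs, hgj]
      have hle := hmax j hjs'
      have hne : m.degree (f j) ≠ m.degree (f i) := fun h => hji (hinj h)
      have hlt : m.degree (f j) ≺[m] m.degree (f i) :=
        lt_of_le_of_ne hle (fun h => hne (m.toSyn.injective h))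
      rw [m.coeff_eq_zero_of_lt hlt, mul_zero]
  · intro h
    exact absurd his h

end Groth.Agent.R2.H50.MonOrd
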