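import Mathlib
import Groth.Prelude.Def_W4bk4grassmannianPl
import Groth.Agent.R2.H50MonOrd

/-!
# Leading monomials of minors of the generic Schubert-shaped matrix (helper50)
-/

set_option autoImplicit false

noncomputable section

namespace Groth.Agent.R2.H50.PlLead

open MvPolynomial W4bk4grassmannian
open scoped MonomialOrder

variable {d n : ℕ}

/-- variable index: column first, then row, ordered lexicographically -/
abbrev Var (d n : ℕ) : Type := Fin d ×ₗ Fin n

/-- exponent vector of the term of the permutation `σ` in the Leibniz expansion of the minor on rows `θ`. -/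
def termExp (θ : Fin d → Fin n) (σ : Equiv.Perm (Fin d)) : Var d n →₀ ℕ :=
  ∑ t, Finsupp.single (toLex (t, θ (σ t))) 1

theorem termExp_apply (θ : Fin d → Fin n) (σ : Equiv.Perm (Fin d)) (t : Fin d) (i : Fin n) :
    termExp θ σ (toLex (t, i)) = if θ (σ t) = i then 1 else 0 := by
  classical
  unfold termExp
  rw [Finsupp.finsetSum_apply]
  simp only [Finsupp.single_apply]
  rw [Finset.sum_eq_single t]
  · by_cases h : θ (σ t) = i
    · simp [h]
    · rw [if_neg h, if_neg]
      intro h'
      apply h
      have := congrArg (fun p => (ofLex p).2) h'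
      simpa using this
  · intro t' _ ht'
    rw [if_neg]
    intro h
    apply ht'
    have := congrArg (fun p => (ofLex p).1) h
    simpa using this
  · intro h
    exact absurd (Finset.mem_univ t) h

theorem termExp_one_apply (θ : Fin d → Fin n) (t : Fin d) (i : Fin n) :
    termExp θ 1 (toLex (t, i)) = if θ t = i then 1 else 0 := by
  rw [termExp_apply]
  rfl

theorem termExp_lt (θ : Fin d → Fin n) (hθ : StrictMono θ) (σ : Equiv.Perm (Fin d)) (hσ : σ ≠ 1) :
    termExp θ σ ≺[MonomialOrder.lex] termExp θ 1 := by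
  classical
  rw [MonomialOrder.lex_lt_iff, Finsupp.Lex.lt_iff]
  have hex : (Finset.univ.filter fun t => σ t ≠ t).Nonempty := by
    by_contra h
    rw [Finset.not_nonempty_iff_eq_empty, Finset.filter_eq_empty_iff] at h
    apply hσ
    ext t
    have := h (Finset.mem_univ t)
    push Not at this
    simp [this]
  obtain ⟨t0, ht0, hmin⟩ := Finset.exists_min_image _ (fun t : Fin d => t) hex
  have ht0' : σ t0 ≠ t0 := (Finset.mem_filter.1 ht0).2
  have hfix : ∀ t, t < t0 → σ t = t := by
    intro t ht
    by_contra h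
    have := hmin t (by simp [h])
    exact absurd ht (not_lt.2 this)
  have hgt : t0 < σ t0 := by
    rcases lt_trichotomy (σ t0) t0 with h | h | h
    · exfalso
      have := hfix _ h
      exact ht0' (σ.injective this)
    · exact absurd h ht0'
    · exact h
  refine ⟨toLex (t0, θ t0), ?_, ?_⟩
  · intro j hj
    obtain ⟨⟨t, i⟩, rfl⟩ := toLex.surjective j
    rw [Prod.Lex.toLex_lt_toLex] at hj
    simp only [ofLex_toLex]
    rw [termExp_apply, termExp_one_apply]
    rcases hj with h | ⟨h1, h2⟩
    · simp only at h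
      rw [hfix t h]
    · simp only at h1 h2
      subst h1
      have h3 : θ t < θ (σ t) := hθ hgt
      rw [if_neg (ne_of_gt h2), if_neg (ne_of_gt (lt_trans h2 h3))]
  · simp only [ofLex_toLex]
    rw [termExp_apply, termExp_one_apply, if_pos rfl, if_neg]
    · exact Nat.zero_lt_one
    · intro h
      exact ht0' (hθ.injective h)

variable (K : Type*) [Field K]

/-- The generic Schubert-shaped matrix: entry `(i, t)` is the variable `(t, i)` if `i ≤ τ t`, else `0`. -/
def genSchubert (τ : Idx d n) : Matrix (Fin n) (Fin d) (MvPolynomial (Var d n) K) :=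
  Matrix.of fun i t => if i ≤ τ.1 t then X (toLex (t, i)) else 0

/-- the minor of the generic Schubert-shaped matrix on the rows `θ`. -/
def minorG (τ θ : Idx d n) : MvPolynomial (Var d n) K := ((genSchubert K τ).submatrix θ.1 id).det

/-- the `σ`-term of the Leibniz expansion is a monomial with exponent `termExp θ σ`. -/
theorem prod_entries (τ θ : Idx d n) (σ : Equiv.Perm (Fin d)) :
    ∏ t, ((genSchubert K τ).submatrix θ.1 id) (σ t) t =
      monomial (termExp θ.1 σ) (∏ t, if θ.1 (σ t) ≤ τ.1 t then (1 : K) else 0) := by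
  unfold termExp
  rw [monomial_sum_prod]
  refine Finset.prod_congr rfl fun t _ => ?_
  simp only [genSchubert, Matrix.submatrix_apply, Matrix.of_apply, id_eq]
  split_ifs with h
  · rfl
  · simp

theorem minorG_eq (τ θ : Idx d n) (hθτ : θ ≤ τ) (hd : 0 < d) :
    ∃ R : MvPolynomial (Var d n) K, minorG K τ θ = monomial (termExp θ.1 1) 1 + R ∧
      (MonomialOrder.lex (σ := Var d n)).degree R ≺[MonomialOrder.lex] termExp θ.1 1 := by
  classical
  refine ⟨∑ σ ∈ Finset.univ.erase (1 : Equiv.Perm (Fin d)),
    Equiv.Perm.sign σ • ∏ t, ((genSchubert K τ).submatrix θ.1 id) (σ t) t, ?_, ?_⟩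
  · unfold minorG
    rw [Matrix.det_apply, ← Finset.add_sum_erase _ _ (Finset.mem_univ (1 : Equiv.Perm (Fin d)))]
    congr 1
    rw [Equiv.Perm.sign_one, one_smul, prod_entries]
    congr 1
    refine Finset.prod_eq_one fun t _ => ?_
    rw [if_pos]
    exact hθτ t
  · have hpos : (⊥ : (MonomialOrder.lex (σ := Var d n)).syn) <
        (MonomialOrder.lex (σ := Var d n)).toSyn (termExp θ.1 1) := by
      rw [bot_lt_iff_ne_bot, MonomialOrder.bot_eq_zero, Ne, MonomialOrder.toSyn_eq_zero_iff]
      intro h
      have h1 := termExp_one_apply θ.1 ⟨0, hd⟩ (θ.1 ⟨0, hd⟩)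
      rw [h, if_pos rfl] at h1
      simp at h1
    refine lt_of_le_of_lt MonomialOrder.degree_sum_le ?_
    rw [Finset.sup_lt_iff hpos]
    intro σ hσ
    have hσ1 : σ ≠ 1 := Finset.ne_of_mem_erase hσ
    refine lt_of_le_of_lt ?_ (termExp_lt θ.1 θ.2 σ hσ1)
    rw [prod_entries, Units.smul_def, ← Int.cast_smul_eq_zsmul K]
    exact le_trans MonomialOrder.degree_smul_le (MonomialOrder.degree_monomial_le _)

theorem monic_minorG (τ θ : Idx d n) (hθτ : θ ≤ τ) (hd : 0 < d) :
    (MonomialOrder.lex (σ := Var d n)).Monic (minorG K τ θ) := by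
  obtain ⟨R, hR, hlt⟩ := minorG_eq K τ θ hθτ hd
  rw [hR]
  refine MonomialOrder.Monic.add_of_lt MonomialOrder.monic_monomial_one ?_
  classical
  rw [MonomialOrder.degree_monomial, if_neg one_ne_zero]
  exact hlt

theorem degree_minorG (τ θ : Idx d n) (hθτ : θ ≤ τ) (hd : 0 < d) :
    (MonomialOrder.lex (σ := Var d n)).degree (minorG K τ θ) = termExp θ.1 1 := by
  classical
  obtain ⟨R, hR, hlt⟩ := minorG_eq K τ θ hθτ hd
  rw [hR, MonomialOrder.degree_add_of_lt]
  · rw [MonomialOrder.degree_monomial, if_neg one_ne_zero]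
  · rw [MonomialOrder.degree_monomial, if_neg one_ne_zero]
    exact hlt

/-- an antitone tuple is determined by the cardinalities of its fibres. -/
theorem antitone_eq_of_card_fiber_eq {m n : ℕ} (f g : Fin m → Fin n) (hf : Antitone f) (hg : Antitone g)
    (h : ∀ i, (Finset.univ.filter fun k => f k = i).card = (Finset.univ.filter fun k => g k = i).card) :
    f = g := by
  classical
  apply List.ofFn_injective
  apply List.Perm.eq_of_pairwise' (r := (· ≥ ·)) hf.sortedGE_ofFn.pairwise hg.sortedGE_ofFn.pairwise
  rw [← Multiset.coe_eq_coe, ← Fin.univ_val_map, ← Fin.univ_val_map]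
  ext i
  rw [Multiset.count_map, Multiset.count_map]
  have e1 : ∀ u : Fin m → Fin n, Multiset.card (Multiset.filter (fun a => i = u a) Finset.univ.val) =
      (Finset.univ.filter fun k => u k = i).card := by
    intro u
    rw [Finset.card_def, Finset.filter_val]
    congr 1
    refine Multiset.filter_congr fun x _ => ?_
    exact eq_comm
  rw [e1, e1, h]

/-- exponent vector of the product of the diagonal terms along a tuple of indices -/
def chainExp {m : ℕ} (c : Fin m → Idx d n) : Var d n →₀ ℕ := ∑ k, termExp (c k).1 1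

theorem chainExp_apply {m : ℕ} (c : Fin m → Idx d n) (t : Fin d) (i : Fin n) :
    chainExp c (toLex (t, i)) = (Finset.univ.filter fun k => (c k).1 t = i).card := by
  classical
  unfold chainExp
  rw [Finsupp.finsetSum_apply]
  simp only [termExp_one_apply]
  rw [Finset.card_filter]

theorem chainExp_injective (hd : 0 < d) :
    Function.Injective (fun c : (Σ m : ℕ, {c : Fin m → Idx d n // Antitone c}) => chainExp c.2.1) := by
  classical
  rintro ⟨m, c, hc⟩ ⟨m', c', hc'⟩ h
  simp only at h
  have hcard : ∀ (m : ℕ) (c : Fin m → Idx d n), ∑ i, chainExp c (toLex ((⟨0, hd⟩ : Fin d), i)) = m := by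
    intro m c
    simp only [chainExp_apply]
    rw [← Finset.card_eq_sum_card_fiberwise (f := fun k => (c k).1 ⟨0, hd⟩) (t := Finset.univ)
      (fun _ _ => Finset.mem_univ _)]
    simp
  have hm : m = m' := by
    rw [← hcard m c, ← hcard m' c', h]
  subst hm
  have : c = c' := by
    funext k
    apply Subtype.ext
    funext t
    have := antitone_eq_of_card_fiber_eq (fun k => (c k).1 t) (fun k => (c' k).1 t)
      (fun a b hab => hc hab t) (fun a b hab => hc' hab t) (fun i => by
        rw [← chainExp_apply, ← chainExp_apply, h])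
    exact congrFun this k
  subst this
  rfl

/-- evaluation of Plücker polynomials at the minors of the generic Schubert-shaped matrix -/
def evG (τ : Idx d n) : PlRing K d n →ₐ[K] MvPolynomial (Var d n) K :=
  aeval fun θ : Idx d n => minorG K τ θ

theorem evG_X (τ θ : Idx d n) : evG K τ (X θ) = minorG K τ θ := by
  unfold evG
  rw [aeval_X]

theorem evG_chainMon (τ : Idx d n) {m : ℕ} (c : Fin m → Idx d n) :
    evG K τ (chainMon K c) = ∏ k, minorG K τ (c k) := by
  unfold chainMon
  rw [map_prod]
  refine Finset.prod_congr rfl fun k _ => evG_X K τ (c k)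

theorem monic_evG_chainMon (τ : Idx d n) (hd : 0 < d) {m : ℕ} (c : Fin m → Idx d n) (hc : ∀ k, c k ≤ τ) :
    (MonomialOrder.lex (σ := Var d n)).Monic (evG K τ (chainMon K c)) := by
  rw [evG_chainMon]
  exact MonomialOrder.Monic.prod fun k _ => monic_minorG K τ (c k) (hc k) hd

theorem degree_evG_chainMon (τ : Idx d n) (hd : 0 < d) {m : ℕ} (c : Fin m → Idx d n) (hc : ∀ k, c k ≤ τ) :
    (MonomialOrder.lex (σ := Var d n)).degree (evG K τ (chainMon K c)) = chainExp c := by
  rw [evG_chainMon, MonomialOrder.degree_prod]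
  · unfold chainExp
    refine Finset.sum_congr rfl fun k _ => degree_minorG K τ (c k) (hc k) hd
  · intro k _
    exact (monic_minorG K τ (c k) (hc k) hd).ne_zero

/-- Standard monomials on `X(τ)` are linearly independent after evaluation at the generic Schubert-shaped matrix. -/
theorem linearIndependent_evG (τ : Idx d n) (hd : 0 < d) :
    LinearIndependent K (fun c : (Σ m : ℕ, {c : Fin m → Idx d n // Antitone c ∧ ∀ k, c k ≤ τ}) =>
      evG K τ (chainMon K c.2.1)) := by
  apply Groth.Agent.R2.H50.MonOrd.linearIndependent_of_degree_injective (MonomialOrder.lex (σ := Var d n))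
  · intro c
    exact (monic_evG_chainMon K τ hd c.2.1 c.2.2.2).ne_zero
  · intro c c' h
    simp only at h
    rw [degree_evG_chainMon K τ hd c.2.1 c.2.2.2, degree_evG_chainMon K τ hd c'.2.1 c'.2.2.2] at h
    have h2 := chainExp_injective hd (a₁ := ⟨c.1, c.2.1, c.2.2.1⟩) (a₂ := ⟨c'.1, c'.2.1, c'.2.2.1⟩) h
    obtain ⟨m, c, hc1, hc2⟩ := c
    obtain ⟨m', c', hc1', hc2'⟩ := c'
    simp only [Sigma.mk.injEq] at h2
    obtain ⟨rfl, h3⟩ := h2
    have h4 := eq_of_heq h3
    simp only [Subtype.mk.injEq] at h4
    subst h4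
    rfl

end Groth.Agent.R2.H50.PlLead
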