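import Mathlib
import Groth.Prelude.Def_W4bk4grassmannianPl
import Groth.Agent.R2.H50PlLead

/-!
# Schubert-shaped matrices and the vanishing ideal of a Schubert variety (helper50)
-/

set_option autoImplicit false

noncomputable section

namespace Groth.Agent.R2.H50.PlSchubert

open MvPolynomial W4bk4grassmannian Groth.Agent.R2.H50.PlLead

variable {d n : ℕ} (K : Type*) [Field K]

/-- pigeonhole: a permutation of `Fin d` sends some `t ≤ t0` to some `σ t ≥ t0`. -/
theorem exists_le_le (σ : Equiv.Perm (Fin d)) (t0 : Fin d) : ∃ t, t ≤ t0 ∧ t0 ≤ σ t := by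
  by_contra h
  push Not at h
  have h1 : (Finset.Iic t0).card ≤ (Finset.Iio t0).card :=
    Finset.card_le_card_of_injOn σ (fun t ht => Finset.mem_Iio.2 (h t (Finset.mem_Iic.1 ht)))
      (fun a _ b _ hab => σ.injective hab)
  rw [Fin.card_Iic, Fin.card_Iio] at h1
  omega

/-- A Schubert-shaped matrix (entries `(i, t)` with `i > τ t` vanish) has vanishing minors on all rows `φ ≰ τ`. -/
theorem det_submatrix_eq_zero_of_not_le (τ φ : Idx d n) (A : Matrix (Fin n) (Fin d) K)
    (hA : ∀ i t, τ.1 t < i → A i t = 0) (h : ¬ φ ≤ τ) : (A.submatrix φ.1 id).det = 0 := by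
  have h' : ∃ t0, τ.1 t0 < φ.1 t0 := by
    by_contra hcon
    push Not at hcon
    exact h hcon
  obtain ⟨t0, ht0⟩ := h'
  rw [Matrix.det_apply]
  refine Finset.sum_eq_zero fun σ _ => ?_
  obtain ⟨t, ht1, ht2⟩ := exists_le_le σ t0
  have hz : (A.submatrix φ.1 id) (σ t) t = 0 := by
    simp only [Matrix.submatrix_apply, id_eq]
    apply hA
    calc τ.1 t ≤ τ.1 t0 := τ.2.monotone ht1
      _ < φ.1 t0 := ht0
      _ ≤ φ.1 (σ t) := φ.2.monotone ht2
  have hp : ∏ i, (A.submatrix φ.1 id) (σ i) i = 0 := Finset.prod_eq_zero (Finset.mem_univ t) hz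
  rw [hp, smul_zero]

/-- the Schubert-shaped matrix with entries given by a point `a`. -/
def pointMatrix (τ : Idx d n) (a : Var d n → K) : Matrix (Fin n) (Fin d) K :=
  Matrix.of fun i t => if i ≤ τ.1 t then a (toLex (t, i)) else 0

theorem eval_evG (τ : Idx d n) (a : Var d n → K) (f : PlRing K d n) :
    eval a (evG K τ f) = evalMinors K d n (pointMatrix K τ a) f := by
  have : ((MvPolynomial.aeval a : MvPolynomial (Var d n) K →ₐ[K] K).comp (evG K τ)) =
      evalMinors K d n (pointMatrix K τ a) := by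
    apply MvPolynomial.algHom_ext
    intro θ
    rw [AlgHom.comp_apply, evG_X]
    unfold evalMinors minorG
    rw [aeval_X, ← AlgHom.coe_toRingHom, RingHom.map_det]
    congr 1
    ext s t
    simp only [genSchubert, pointMatrix, RingHom.mapMatrix_apply, Matrix.map_apply,
      Matrix.submatrix_apply, Matrix.of_apply, id_eq]
    split_ifs with h
    · simp
    · simp
  have h2 := congrArg (fun g => g f) this
  simp only [AlgHom.comp_apply] at h2
  rw [← h2]
  rfl

theorem schubertVanishing_le_ker_evG [Infinite K] (τ : Idx d n) :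
    schubertVanishing K d n τ ≤ RingHom.ker (evG K τ).toRingHom := by
  intro f hf
  rw [RingHom.mem_ker]
  apply MvPolynomial.funext
  intro a
  rw [map_zero]
  show eval a (evG K τ f) = 0
  rw [eval_evG]
  unfold schubertVanishing at hf
  rw [Ideal.mem_iInf] at hf
  have h1 := hf (pointMatrix K τ a)
  rw [Ideal.mem_iInf] at h1
  have h2 := h1 (fun φ hφ => det_submatrix_eq_zero_of_not_le K τ φ _ (fun i t hit => by
    simp only [pointMatrix, Matrix.of_apply]
    rw [if_neg (not_le.2 hit)]) hφ)
  exact h2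

end Groth.Agent.R2.H50.PlSchubert
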