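import Mathlib

/-!
# The wedge product of two alternating forms, as a sum over subsets, is alternating (helper50)
-/

set_option autoImplicit false

noncomputable section

namespace Groth.Agent.R2.H50.Wedge

open Function

section AdjAlt

variable {R M M' : Type*} [CommRing R] [AddCommGroup M] [Module R M] [AddCommGroup M'] [Module R M']
  {N : ℕ}

/-- A multilinear map in `N` variables which vanishes when two adjacent arguments are equal changes sign under
an adjacent transposition. -/
theorem map_swap_adj (f : MultilinearMap R (fun _ : Fin N => M) M')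
    (hadj : ∀ (v : Fin N → M) (i j : Fin N), j.val = i.val + 1 → v i = v j → f v = 0)
    (v : Fin N → M) (i j : Fin N) (hij : j.val = i.val + 1) :
    f (v ∘ Equiv.swap i j) = - f v := by
  classical
  have hne : i ≠ j := by
    intro h
    rw [h] at hij
    omega
  have h0 : f (update (update v i (v i + v j)) j (v i + v j)) = 0 := by
    apply hadj _ i j hij
    rw [update_self, update_of_ne hne, update_self]
  have e1 : f (update (update v i (v i + v j)) j (v i + v j)) =
      f (update (update v i (v i + v j)) j (v i)) + f (update (update v i (v i + v j)) j (v j)) :=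
    f.map_update_add _ j (v i) (v j)
  have e2 : ∀ c : M, f (update (update v i (v i + v j)) j c) =
      f (update (update v j c) i (v i)) + f (update (update v j c) i (v j)) := by
    intro c
    rw [update_comm hne (v i + v j) c v]
    exact f.map_update_add _ i (v i) (v j)
  have h1 : f (update (update v j (v i)) i (v i)) = 0 := by
    apply hadj _ i j hij
    rw [update_self, update_comm hne.symm, update_self]
  have h2 : f (update (update v j (v j)) i (v j)) = 0 := by
    apply hadj _ i j hij
    rw [update_self, update_comm hne.symm, update_self]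
  have h3 : update (update v j (v i)) i (v j) = v ∘ Equiv.swap i j := by
    ext k
    simp only [comp_apply]
    by_cases hki : k = i
    · subst hki
      rw [update_self, Equiv.swap_apply_left]
    · rw [update_of_ne hki]
      by_cases hkj : k = j
      · subst hkj
        rw [update_self, Equiv.swap_apply_right]
      · rw [update_of_ne hkj, Equiv.swap_apply_of_ne_of_ne hki hkj]
  have h4 : update (update v j (v j)) i (v i) = v := by
    rw [update_eq_self, update_eq_self]
  rw [e1, e2 (v i), e2 (v j), h1, h2, h3, h4, zero_add, add_zero] at h0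
  have : f (v ∘ Equiv.swap i j) + f v = 0 := h0
  exact eq_neg_of_add_eq_zero_left this

/-- A multilinear map in `N` variables which vanishes when two adjacent arguments are equal vanishes whenever two
arguments are equal. -/
theorem map_eq_zero_of_adj (f : MultilinearMap R (fun _ : Fin N => M) M')
    (hadj : ∀ (v : Fin N → M) (i j : Fin N), j.val = i.val + 1 → v i = v j → f v = 0) :
    ∀ (v : Fin N → M) (i j : Fin N), v i = v j → i ≠ j → f v = 0 := by
  -- reduce to `i < j` and induct on `j - i`
  have key : ∀ (k : ℕ) (v : Fin N → M) (i j : Fin N), j.val = i.val + 1 + k → v i = v j → f v = 0 := by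
    intro k
    induction k with
    | zero =>
      intro v i j hij h
      exact hadj v i j (by omega) h
    | succ k ih =>
      intro v i j hij h
      have hj' : j.val - 1 < N := by omega
      let j' : Fin N := ⟨j.val - 1, hj'⟩
      have hj'j : j.val = j'.val + 1 := by simp only [j']; omega
      have hsw := map_swap_adj f hadj v j' j hj'j
      have hij' : i ≠ j' := by
        intro h'
        have := congrArg Fin.val h'
        simp only [j'] at this
        omega
      have hij2 : i ≠ j := by
        intro h'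
        have := congrArg Fin.val h'
        omega
      have h0 : f (v ∘ Equiv.swap j' j) = 0 := by
        apply ih (v ∘ Equiv.swap j' j) i j'
        · simp only [j']; omega
        · simp only [comp_apply]
          rw [Equiv.swap_apply_of_ne_of_ne hij' hij2, Equiv.swap_apply_left]
          exact h
      rw [hsw, neg_eq_zero] at h0
      exact h0
  intro v i j h hne
  rcases lt_or_gt_of_ne hne with hlt | hlt
  · exact key (j.val - i.val - 1) v i j (by have : i.val < j.val := hlt; omega) h
  · exact key (i.val - j.val - 1) v j i (by have : j.val < i.val := hlt; omega) h.symm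

end AdjAlt

section Wedge

variable {K W : Type*} [CommRing K] [AddCommGroup W] [Module K W]
  {N a b : ℕ}

theorem card_compl_of_card (hab : a + b = N) (S : Finset (Fin N)) (hS : S.card = a) : Sᶜ.card = b := by
  rw [Finset.card_compl, Fintype.card_fin, hS]; omega

variable (hab : a + b = N) (φ : W [⋀^Fin a]→ₗ[K] K) (ψ : W [⋀^Fin b]→ₗ[K] K)

/-- one term of the wedge sum: the subset `S` (in increasing order) goes to `φ`, its complement to `ψ`. -/
def term (S : Finset (Fin N)) (hS : S.card = a) (u : Fin N → W) : K :=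
  (-1) ^ (∑ x ∈ S, x.val) * φ (u ∘ S.orderEmbOfFin hS) *
    ψ (u ∘ Sᶜ.orderEmbOfFin (card_compl_of_card hab S hS))

/-- the wedge product of `φ` and `ψ` as a sum over subsets. -/
def wedgeFun (u : Fin N → W) : K :=
  ∑ S : Finset (Fin N), if hS : S.card = a then term hab φ ψ S hS u else 0

theorem orderEmb_ne (S : Finset (Fin N)) (hS : S.card = a) (s : Fin a) (t : Fin b) :
    Sᶜ.orderEmbOfFin (card_compl_of_card hab S hS) t ≠ S.orderEmbOfFin hS s := by
  intro h
  have h1 := Finset.orderEmbOfFin_mem Sᶜ (card_compl_of_card hab S hS) t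
  have h2 := Finset.orderEmbOfFin_mem S hS s
  rw [h] at h1
  exact (Finset.mem_compl.1 h1) h2

theorem exists_orderEmb_eq (S : Finset (Fin N)) {k : ℕ} (hS : S.card = k) (x : Fin N) (hx : x ∈ S) :
    ∃ s, S.orderEmbOfFin hS s = x := by
  have : x ∈ Set.range (S.orderEmbOfFin hS) := by
    rw [Finset.range_orderEmbOfFin]
    exact hx
  exact this

theorem term_update_add (S : Finset (Fin N)) (hS : S.card = a) (u : Fin N → W)
    (k : Fin N) (x y : W) :
    term hab φ ψ S hS (update u k (x + y)) =
      term hab φ ψ S hS (update u k x) + term hab φ ψ S hS (update u k y) := by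
  by_cases hk : k ∈ S
  · obtain ⟨s, rfl⟩ := exists_orderEmb_eq S hS k hk
    have e1 : ∀ z, update u (S.orderEmbOfFin hS s) z ∘ S.orderEmbOfFin hS =
        update (u ∘ S.orderEmbOfFin hS) s z :=
      fun z => update_comp_eq_of_injective u (S.orderEmbOfFin hS).injective s z
    have e2 : ∀ z, update u (S.orderEmbOfFin hS s) z ∘ Sᶜ.orderEmbOfFin (card_compl_of_card hab S hS) =
        u ∘ Sᶜ.orderEmbOfFin (card_compl_of_card hab S hS) :=
      fun z => update_comp_eq_of_forall_ne u z (fun t => orderEmb_ne hab S hS s t)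
    unfold term
    rw [e1, e1, e1, e2, e2, e2, φ.map_update_add]
    ring
  · have hk' : k ∈ Sᶜ := Finset.mem_compl.2 hk
    obtain ⟨t, rfl⟩ := exists_orderEmb_eq Sᶜ (card_compl_of_card hab S hS) k hk'
    have e1 : ∀ z, update u (Sᶜ.orderEmbOfFin (card_compl_of_card hab S hS) t) z ∘
        Sᶜ.orderEmbOfFin (card_compl_of_card hab S hS) =
        update (u ∘ Sᶜ.orderEmbOfFin (card_compl_of_card hab S hS)) t z :=
      fun z => update_comp_eq_of_injective u (Sᶜ.orderEmbOfFin _).injective t z
    have e2 : ∀ z, update u (Sᶜ.orderEmbOfFin (card_compl_of_card hab S hS) t) z ∘ S.orderEmbOfFin hS =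
        u ∘ S.orderEmbOfFin hS :=
      fun z => update_comp_eq_of_forall_ne u z (fun s => (orderEmb_ne hab S hS s t).symm)
    unfold term
    rw [e1, e1, e1, e2, e2, e2, ψ.map_update_add]
    ring

theorem term_update_smul (S : Finset (Fin N)) (hS : S.card = a) (u : Fin N → W)
    (k : Fin N) (c : K) (x : W) :
    term hab φ ψ S hS (update u k (c • x)) = c • term hab φ ψ S hS (update u k x) := by
  by_cases hk : k ∈ S
  · obtain ⟨s, rfl⟩ := exists_orderEmb_eq S hS k hk
    have e1 : ∀ z, update u (S.orderEmbOfFin hS s) z ∘ S.orderEmbOfFin hS =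
        update (u ∘ S.orderEmbOfFin hS) s z :=
      fun z => update_comp_eq_of_injective u (S.orderEmbOfFin hS).injective s z
    have e2 : ∀ z, update u (S.orderEmbOfFin hS s) z ∘ Sᶜ.orderEmbOfFin (card_compl_of_card hab S hS) =
        u ∘ Sᶜ.orderEmbOfFin (card_compl_of_card hab S hS) :=
      fun z => update_comp_eq_of_forall_ne u z (fun t => orderEmb_ne hab S hS s t)
    unfold term
    rw [e1, e1, e2, e2, φ.map_update_smul, smul_eq_mul, smul_eq_mul]
    ring
  · have hk' : k ∈ Sᶜ := Finset.mem_compl.2 hk
    obtain ⟨t, rfl⟩ := exists_orderEmb_eq Sᶜ (card_compl_of_card hab S hS) k hk'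
    have e1 : ∀ z, update u (Sᶜ.orderEmbOfFin (card_compl_of_card hab S hS) t) z ∘
        Sᶜ.orderEmbOfFin (card_compl_of_card hab S hS) =
        update (u ∘ Sᶜ.orderEmbOfFin (card_compl_of_card hab S hS)) t z :=
      fun z => update_comp_eq_of_injective u (Sᶜ.orderEmbOfFin _).injective t z
    have e2 : ∀ z, update u (Sᶜ.orderEmbOfFin (card_compl_of_card hab S hS) t) z ∘ S.orderEmbOfFin hS =
        u ∘ S.orderEmbOfFin hS :=
      fun z => update_comp_eq_of_forall_ne u z (fun s => (orderEmb_ne hab S hS s t).symm)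
    unfold term
    rw [e1, e1, e2, e2, ψ.map_update_smul, smul_eq_mul, smul_eq_mul]
    ring

/-- the wedge sum as a multilinear map -/
def wedgeMulti : MultilinearMap K (fun _ : Fin N => W) K where
  toFun := wedgeFun hab φ ψ
  map_update_add' := by
    intro inst u k x y
    obtain rfl : inst = instDecidableEqFin N := Subsingleton.elim _ _
    unfold wedgeFun
    rw [← Finset.sum_add_distrib]
    refine Finset.sum_congr rfl fun S _ => ?_
    by_cases hS : S.card = a
    · rw [dif_pos hS, dif_pos hS, dif_pos hS]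
      exact term_update_add hab φ ψ S hS u k x y
    · rw [dif_neg hS, dif_neg hS, dif_neg hS, add_zero]
  map_update_smul' := by
    intro inst u k c x
    obtain rfl : inst = instDecidableEqFin N := Subsingleton.elim _ _
    unfold wedgeFun
    rw [Finset.smul_sum]
    refine Finset.sum_congr rfl fun S _ => ?_
    by_cases hS : S.card = a
    · rw [dif_pos hS, dif_pos hS]
      exact term_update_smul hab φ ψ S hS u k c x
    · rw [dif_neg hS, dif_neg hS, smul_zero]

end Wedge

section Adjacent

variable {N : ℕ}

/-- composing a strictly monotone enumeration of a set containing at most one of two adjacent indices with the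
transposition of these indices stays strictly monotone. -/
theorem strictMono_swap_comp (p p' : Fin N) (hpp' : p'.val = p.val + 1) (T : Finset (Fin N)) {k : ℕ}
    (f : Fin k → Fin N) (hf : StrictMono f) (hfT : ∀ s, f s ∈ T) (hone : ¬(p ∈ T ∧ p' ∈ T)) :
    StrictMono (fun s => Equiv.swap p p' (f s)) := by
  have key : ∀ x y : Fin N, x ∈ T → y ∈ T → x.val < y.val →
      (Equiv.swap p p' x).val < (Equiv.swap p p' y).val := by
    intro x y hx hy hxy
    have c1 : ¬ (x.val = p.val ∧ y.val = p'.val) := by
      rintro ⟨h1, h2⟩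
      have e1 : x = p := Fin.ext h1
      have e2 : y = p' := Fin.ext h2
      exact hone ⟨e1 ▸ hx, e2 ▸ hy⟩
    have c2 : ¬ (x.val = p'.val ∧ y.val = p.val) := by
      rintro ⟨h1, h2⟩
      have e1 : x = p' := Fin.ext h1
      have e2 : y = p := Fin.ext h2
      exact hone ⟨e2 ▸ hy, e1 ▸ hx⟩
    rw [Equiv.swap_apply_def, Equiv.swap_apply_def]
    split_ifs with h1 h2 h3 h4 h5 h6 h7 h8 <;> simp only [Fin.ext_iff] at * <;> omega
  intro s t hst
  exact key (f s) (f t) (hfT s) (hfT t) (hf hst)

theorem swap_comp_orderEmbOfFin (p p' : Fin N) (hpp' : p'.val = p.val + 1) (T T' : Finset (Fin N)) {k : ℕ}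
    (hT : T.card = k) (hT' : T'.card = k) (hmem : ∀ x ∈ T, Equiv.swap p p' x ∈ T')
    (hone : ¬(p ∈ T ∧ p' ∈ T)) :
    (fun s => Equiv.swap p p' (T.orderEmbOfFin hT s)) = T'.orderEmbOfFin hT' :=
  Finset.orderEmbOfFin_unique hT' (fun s => hmem _ (Finset.orderEmbOfFin_mem T hT s))
    (strictMono_swap_comp p p' hpp' T _ (T.orderEmbOfFin hT).strictMono
      (fun s => Finset.orderEmbOfFin_mem T hT s) hone)

end Adjacent

section AdjVanish

variable {K W : Type*} [CommRing K] [AddCommGroup W] [Module K W]
  {N a b : ℕ} (hab : a + b = N) (φ : W [⋀^Fin a]→ₗ[K] K) (ψ : W [⋀^Fin b]→ₗ[K] K)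

theorem term_eq_zero_of_mem_mem (S : Finset (Fin N)) (hS : S.card = a) (u : Fin N → W) (p p' : Fin N)
    (hne : p ≠ p') (hu : u p = u p') (hp : p ∈ S) (hp' : p' ∈ S) : term hab φ ψ S hS u = 0 := by
  obtain ⟨s, hs⟩ := exists_orderEmb_eq S hS p hp
  obtain ⟨s', hs'⟩ := exists_orderEmb_eq S hS p' hp'
  have h0 : φ (u ∘ S.orderEmbOfFin hS) = 0 := by
    refine φ.map_eq_zero_of_eq _ (i := s) (j := s') ?_ ?_
    · simp only [comp_apply, hs, hs', hu]
    · rintro rfl
      exact hne (hs.symm.trans hs')
  unfold term
  rw [h0]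
  ring

theorem term_eq_zero_of_notMem_notMem (S : Finset (Fin N)) (hS : S.card = a) (u : Fin N → W) (p p' : Fin N)
    (hne : p ≠ p') (hu : u p = u p') (hp : p ∉ S) (hp' : p' ∉ S) : term hab φ ψ S hS u = 0 := by
  obtain ⟨s, hs⟩ := exists_orderEmb_eq Sᶜ (card_compl_of_card hab S hS) p (Finset.mem_compl.2 hp)
  obtain ⟨s', hs'⟩ := exists_orderEmb_eq Sᶜ (card_compl_of_card hab S hS) p' (Finset.mem_compl.2 hp')
  have h0 : ψ (u ∘ Sᶜ.orderEmbOfFin (card_compl_of_card hab S hS)) = 0 := by
    refine ψ.map_eq_zero_of_eq _ (i := s) (j := s') ?_ ?_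
    · simp only [comp_apply, hs, hs', hu]
    · rintro rfl
      exact hne (hs.symm.trans hs')
  unfold term
  rw [h0]
  ring

theorem sign_map_swap (S : Finset (Fin N)) (p p' : Fin N) (hpp' : p'.val = p.val + 1)
    (hone : (p ∈ S ∧ p' ∉ S) ∨ (p ∉ S ∧ p' ∈ S)) :
    ((-1 : K) ^ (∑ x ∈ S.map (Equiv.swap p p').toEmbedding, x.val)) = - (-1) ^ (∑ x ∈ S, x.val) := by
  classical
  rw [Finset.sum_map]
  simp only [Equiv.toEmbedding_apply]
  rw [← Finset.prod_pow_eq_pow_sum, ← Finset.prod_pow_eq_pow_sum]
  have hpne : p ≠ p' := by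
    intro h
    rw [← h] at hpp'
    omega
  rcases hone with ⟨hp, hp'⟩ | ⟨hp, hp'⟩
  · rw [← Finset.mul_prod_erase S _ hp, ← Finset.mul_prod_erase S (fun x => (-1 : K) ^ x.val) hp]
    rw [Equiv.swap_apply_left, hpp', pow_succ]
    have : ∏ x ∈ S.erase p, (-1 : K) ^ (Equiv.swap p p' x).val = ∏ x ∈ S.erase p, (-1 : K) ^ x.val := by
      refine Finset.prod_congr rfl fun x hx => ?_
      have hx1 : x ≠ p := Finset.ne_of_mem_erase hx
      have hx2 : x ≠ p' := fun h => hp' (h ▸ Finset.mem_of_mem_erase hx)
      rw [Equiv.swap_apply_of_ne_of_ne hx1 hx2]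
    rw [this]
    ring
  · rw [← Finset.mul_prod_erase S _ hp', ← Finset.mul_prod_erase S (fun x => (-1 : K) ^ x.val) hp']
    rw [Equiv.swap_apply_right, hpp', pow_succ]
    have : ∏ x ∈ S.erase p', (-1 : K) ^ (Equiv.swap p p' x).val = ∏ x ∈ S.erase p', (-1 : K) ^ x.val := by
      refine Finset.prod_congr rfl fun x hx => ?_
      have hx2 : x ≠ p' := Finset.ne_of_mem_erase hx
      have hx1 : x ≠ p := fun h => hp (h ▸ Finset.mem_of_mem_erase hx)
      rw [Equiv.swap_apply_of_ne_of_ne hx1 hx2]
    rw [this]
    ring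

theorem term_map_swap (S : Finset (Fin N)) (hS : S.card = a) (u : Fin N → W) (p p' : Fin N)
    (hpp' : p'.val = p.val + 1) (hu : ∀ x, u (Equiv.swap p p' x) = u x)
    (hone : (p ∈ S ∧ p' ∉ S) ∨ (p ∉ S ∧ p' ∈ S))
    (hS' : (S.map (Equiv.swap p p').toEmbedding).card = a) :
    term hab φ ψ (S.map (Equiv.swap p p').toEmbedding) hS' u = - term hab φ ψ S hS u := by
  have hone1 : ¬(p ∈ S ∧ p' ∈ S) := by
    rintro ⟨h1, h2⟩
    rcases hone with ⟨_, h⟩ | ⟨h, _⟩
    · exact h h2
    · exact h h1
  have hone2 : ¬(p ∈ Sᶜ ∧ p' ∈ Sᶜ) := by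
    rintro ⟨h1, h2⟩
    rw [Finset.mem_compl] at h1 h2
    rcases hone with ⟨h, _⟩ | ⟨_, h⟩
    · exact h1 h
    · exact h2 h
  have e1 : u ∘ (S.map (Equiv.swap p p').toEmbedding).orderEmbOfFin hS' = u ∘ S.orderEmbOfFin hS := by
    rw [← swap_comp_orderEmbOfFin p p' hpp' S _ hS hS'
      (fun x hx => Finset.mem_map_of_mem _ hx) hone1]
    funext s
    simp only [comp_apply, hu]
  have e2 : u ∘ (S.map (Equiv.swap p p').toEmbedding)ᶜ.orderEmbOfFin
      (card_compl_of_card hab _ hS') = u ∘ Sᶜ.orderEmbOfFin (card_compl_of_card hab S hS) := by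
    rw [← swap_comp_orderEmbOfFin p p' hpp' Sᶜ _ (card_compl_of_card hab S hS)
      (card_compl_of_card hab _ hS') ?_ hone2]
    · funext s
      simp only [comp_apply, hu]
    · intro x hx
      rw [Finset.mem_compl] at hx ⊢
      rw [Finset.mem_map_equiv, Equiv.symm_swap, Equiv.swap_apply_self]
      exact hx
  unfold term
  rw [e1, e2, sign_map_swap S p p' hpp' hone]
  ring

/-- the wedge sum vanishes when two adjacent arguments are equal. -/
theorem wedgeFun_adj (u : Fin N → W) (p p' : Fin N) (hpp' : p'.val = p.val + 1) (hu : u p = u p') :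
    wedgeFun hab φ ψ u = 0 := by
  classical
  have hpne : p ≠ p' := by
    intro h
    rw [← h] at hpp'
    omega
  have hu' : ∀ x, u (Equiv.swap p p' x) = u x := by
    intro x
    rw [Equiv.swap_apply_def]
    split_ifs with h1 h2
    · rw [h1, hu]
    · rw [h2, hu]
    · rfl
  have hcard : ∀ S : Finset (Fin N), (S.map (Equiv.swap p p').toEmbedding).card = S.card :=
    fun S => Finset.card_map _
  -- the terms which are fixed by the involution vanish
  have hfix : ∀ (S : Finset (Fin N)) (hS : S.card = a), (p ∈ S ↔ p' ∈ S) → term hab φ ψ S hS u = 0 := by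
    intro S hS hiff
    by_cases hp : p ∈ S
    · exact term_eq_zero_of_mem_mem hab φ ψ S hS u p p' hpne hu hp (hiff.1 hp)
    · exact term_eq_zero_of_notMem_notMem hab φ ψ S hS u p p' hpne hu hp (fun h => hp (hiff.2 h))
  have hmemiff : ∀ (S : Finset (Fin N)) (x : Fin N),
      x ∈ S.map (Equiv.swap p p').toEmbedding ↔ Equiv.swap p p' x ∈ S := by
    intro S x
    rw [Finset.mem_map_equiv, Equiv.symm_swap]
  unfold wedgeFun
  refine Finset.sum_involution (fun S _ => S.map (Equiv.swap p p').toEmbedding) ?_ ?_ ?_ ?_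
  · intro S _
    by_cases hS : S.card = a
    · have hS' : (S.map (Equiv.swap p p').toEmbedding).card = a := (hcard S).trans hS
      rw [dif_pos hS, dif_pos hS']
      by_cases hiff : (p ∈ S ↔ p' ∈ S)
      · rw [hfix S hS hiff, hfix _ hS', add_zero]
        rw [hmemiff, hmemiff, Equiv.swap_apply_left, Equiv.swap_apply_right]
        exact hiff.symm
      · have hone : (p ∈ S ∧ p' ∉ S) ∨ (p ∉ S ∧ p' ∈ S) := by
          by_cases hp : p ∈ S
          · left
            exact ⟨hp, fun h => hiff ⟨fun _ => h, fun _ => hp⟩⟩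
          · right
            refine ⟨hp, ?_⟩
            by_contra h
            exact hiff ⟨fun h' => absurd h' hp, fun h' => absurd h' h⟩
        rw [term_map_swap hab φ ψ S hS u p p' hpp' hu' hone hS', add_neg_cancel]
    · have hS' : ¬ (S.map (Equiv.swap p p').toEmbedding).card = a := by
        rw [hcard]
        exact hS
      rw [dif_neg hS, dif_neg hS', add_zero]
  · intro S _ hne hEq
    apply hne
    by_cases hS : S.card = a
    · rw [dif_pos hS]
      apply hfix S hS
      constructor
      · intro hp
        have : Equiv.swap p p' p ∈ S.map (Equiv.swap p p').toEmbedding :=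
          Finset.mem_map_of_mem _ hp
        rw [Equiv.swap_apply_left, hEq] at this
        exact this
      · intro hp'
        have : Equiv.swap p p' p' ∈ S.map (Equiv.swap p p').toEmbedding :=
          Finset.mem_map_of_mem _ hp'
        rw [Equiv.swap_apply_right, hEq] at this
        exact this
    · rw [dif_neg hS]
  · intro S _
    exact Finset.mem_univ _
  · intro S _
    ext x
    rw [hmemiff, hmemiff, Equiv.swap_apply_self]

/-- the wedge sum of two alternating forms, as an alternating map. -/
def wedge : W [⋀^Fin N]→ₗ[K] K :=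
  { wedgeMulti hab φ ψ with
    map_eq_zero_of_eq' := by
      intro v i j hv hij
      exact map_eq_zero_of_adj (wedgeMulti hab φ ψ)
        (fun v i j hij hv => wedgeFun_adj hab φ ψ v i j hij hv) v i j hv hij }

theorem wedge_apply (u : Fin N → W) : wedge hab φ ψ u = wedgeFun hab φ ψ u := rfl

end AdjVanish

end Groth.Agent.R2.H50.Wedge
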