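import Mathlib
import Groth.Prelude.Def_W4bk4grassmannianPl
import Groth.Agent.Lib.Helper24Grass
import Groth.Agent.R2.H50Wedge
import Groth.Agent.R2.H50PlCoord

/-!
# The shuffle relations vanish at the minors of every matrix (helper50)
-/

set_option autoImplicit false

noncomputable section

namespace Groth.Agent.R2.H50.PlShuffle

open MvPolynomial W4bk4grassmannian Function
open Groth.Agent.R2.H50.Wedge Groth.Agent.R2.H50.PlCoord

variable {d n : ℕ} {K : Type*} [CommRing K]

/-- the matrix whose rows `t ≤ r` are the arguments `x` and whose other rows are `w`. -/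
def matI (r : ℕ) (w : Fin d → (Fin d → K)) (x : Fin (r + 1) → (Fin d → K)) : Matrix (Fin d) (Fin d) K :=
  Matrix.of fun t : Fin d => if h : t.val ≤ r then x ⟨t.val, Nat.lt_succ_of_le h⟩ else w t

/-- the matrix whose rows `t < r` are `v` and whose other rows are the arguments `y`. -/
def matJ (r : ℕ) (v : Fin d → (Fin d → K)) (y : Fin (d - r) → (Fin d → K)) : Matrix (Fin d) (Fin d) K :=
  Matrix.of fun t : Fin d => if h : t.val < r then v t
    else y ⟨t.val - r, by have := t.isLt; omega⟩

theorem matI_update (r : ℕ) (hr : r < d) (w : Fin d → (Fin d → K)) (x : Fin (r + 1) → (Fin d → K))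
    (s : Fin (r + 1)) (z : Fin d → K) :
    matI r w (update x s z) = Matrix.updateRow (matI r w x) ⟨s.val, by have := s.isLt; omega⟩ z := by
  ext t c
  by_cases ht : t = ⟨s.val, by have := s.isLt; omega⟩
  · subst ht
    rw [Matrix.updateRow_self]
    have hs : s.val ≤ r := by have := s.isLt; omega
    simp only [matI, Matrix.of_apply, dif_pos hs]
    rw [show (⟨s.val, Nat.lt_succ_of_le hs⟩ : Fin (r + 1)) = s from Fin.ext rfl, update_self]
  · rw [Matrix.updateRow_ne ht]
    simp only [matI, Matrix.of_apply]
    by_cases h : t.val ≤ r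
    · rw [dif_pos h, dif_pos h, update_of_ne]
      intro h'
      apply ht
      apply Fin.ext
      have := congrArg Fin.val h'
      simpa using this
    · rw [dif_neg h, dif_neg h]

theorem matJ_update (r : ℕ) (v : Fin d → (Fin d → K)) (y : Fin (d - r) → (Fin d → K))
    (s : Fin (d - r)) (z : Fin d → K) :
    matJ r v (update y s z) = Matrix.updateRow (matJ r v y) ⟨s.val + r, by have := s.isLt; omega⟩ z := by
  ext t c
  by_cases ht : t = ⟨s.val + r, by have := s.isLt; omega⟩
  · subst ht
    rw [Matrix.updateRow_self]
    have hs : ¬ (s.val + r < r) := by omega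
    simp only [matJ, Matrix.of_apply, dif_neg hs]
    rw [show (⟨s.val + r - r, by have := s.isLt; omega⟩ : Fin (d - r)) = s from
      Fin.ext (by simp), update_self]
  · rw [Matrix.updateRow_ne ht]
    simp only [matJ, Matrix.of_apply]
    by_cases h : t.val < r
    · rw [dif_pos h, dif_pos h]
    · rw [dif_neg h, dif_neg h, update_of_ne]
      intro h'
      apply ht
      apply Fin.ext
      have := congrArg Fin.val h'
      simp only at this
      simp only
      omega

/-- `x ↦ det (matI r w x)` as an alternating map. -/
def phiI (r : ℕ) (hr : r < d) (w : Fin d → (Fin d → K)) : (Fin d → K) [⋀^Fin (r + 1)]→ₗ[K] K where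
  toFun x := (matI r w x).det
  map_update_add' := by
    intro inst x s y z
    obtain rfl : inst = instDecidableEqFin (r + 1) := Subsingleton.elim _ _
    rw [matI_update r hr, matI_update r hr, matI_update r hr, Matrix.det_updateRow_add]
  map_update_smul' := by
    intro inst x s c z
    obtain rfl : inst = instDecidableEqFin (r + 1) := Subsingleton.elim _ _
    rw [matI_update r hr, matI_update r hr, Matrix.det_updateRow_smul, smul_eq_mul]
  map_eq_zero_of_eq' := by
    intro x s s' hx hne
    have hs : s.val ≤ r := by have := s.isLt; omega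
    have hs' : s'.val ≤ r := by have := s'.isLt; omega
    apply Matrix.det_zero_of_row_eq (i := ⟨s.val, by omega⟩) (j := ⟨s'.val, by omega⟩)
    · intro h
      apply hne
      apply Fin.ext
      have := congrArg Fin.val h
      simpa using this
    · ext c
      simp only [matI, Matrix.of_apply, dif_pos hs, dif_pos hs']
      exact congrFun hx c

/-- `y ↦ det (matJ r v y)` as an alternating map. -/
def psiJ (r : ℕ) (v : Fin d → (Fin d → K)) : (Fin d → K) [⋀^Fin (d - r)]→ₗ[K] K where
  toFun y := (matJ r v y).det
  map_update_add' := by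
    intro inst y s z z'
    obtain rfl : inst = instDecidableEqFin (d - r) := Subsingleton.elim _ _
    rw [matJ_update, matJ_update, matJ_update, Matrix.det_updateRow_add]
  map_update_smul' := by
    intro inst y s c z
    obtain rfl : inst = instDecidableEqFin (d - r) := Subsingleton.elim _ _
    rw [matJ_update, matJ_update, Matrix.det_updateRow_smul, smul_eq_mul]
  map_eq_zero_of_eq' := by
    intro y s s' hy hne
    have hs : ¬ (s.val + r < r) := by omega
    have hs' : ¬ (s'.val + r < r) := by omega
    apply Matrix.det_zero_of_row_eq (i := ⟨s.val + r, by have := s.isLt; omega⟩)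
      (j := ⟨s'.val + r, by have := s'.isLt; omega⟩)
    · intro h
      apply hne
      apply Fin.ext
      have := congrArg Fin.val h
      simp only at this
      omega
    · ext c
      simp only [matJ, Matrix.of_apply, dif_neg hs, dif_neg hs']
      have e1 : (⟨s.val + r - r, by have := s.isLt; omega⟩ : Fin (d - r)) = s := Fin.ext (by simp)
      have e2 : (⟨s'.val + r - r, by have := s'.isLt; omega⟩ : Fin (d - r)) = s' := Fin.ext (by simp)
      rw [e1, e2]
      exact congrFun hy c

/-- the sum of the values of a `k`-element subset of `Fin N` is at least `0 + 1 + ⋯ + (k - 1)`. -/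
theorem sum_val_ge {N : ℕ} (S : Finset (Fin N)) (k : ℕ) (hS : S.card = k) :
    k * (k - 1) / 2 ≤ ∑ x ∈ S, x.val := by
  have h1 : ∑ x ∈ S, x.val = ∑ s : Fin k, (S.orderEmbOfFin hS s).val := by
    conv_lhs => rw [← Finset.map_orderEmbOfFin_univ S hS]
    rw [Finset.sum_map]
    rfl
  have h2 : ∑ s : Fin k, s.val ≤ ∑ s : Fin k, (S.orderEmbOfFin hS s).val :=
    Finset.sum_le_sum fun s _ =>
      Groth.Agent.Lib.Helper24Grass.val_le_of_strictMono _ (S.orderEmbOfFin hS).strictMono s
  have h3 : ∑ s : Fin k, s.val = k * (k - 1) / 2 := by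
    rw [Fin.sum_univ_eq_sum_range (fun i => i) k, Finset.sum_range_id]
  omega

theorem neg_one_pow_sub {c m : ℕ} (h : c ≤ m) : ((-1 : K) ^ (m - c)) = (-1) ^ c * (-1) ^ m := by
  obtain ⟨e, rfl⟩ := Nat.exists_eq_add_of_le h
  rw [Nat.add_sub_cancel_left, pow_add, ← mul_assoc, ← pow_add, ← two_mul, pow_mul, neg_one_sq, one_pow,
    one_mul]

variable (K) in
theorem evalMinors_shuffleTerm (A : Matrix (Fin n) (Fin d) K) (i j : Idx d n) (r : Fin d)
    (S : Finset (Fin (d + 1))) (hS : S.card = r.val + 1)
    (hab : (r.val + 1) + (d - r.val) = d + 1) :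
    evalMinors K d n A (shuffleTerm K i j r S) =
      (-1) ^ (r.val * (r.val + 1) / 2) *
        term hab (phiI r.val r.isLt (fun t => A (i.1 t))) (psiJ r.val (fun t => A (j.1 t))) S hS
          (fun k => A (movingRows i j r k)) := by
  unfold shuffleTerm
  rw [dif_pos hS, map_mul, map_mul, map_pow, map_neg, map_one, evalMinors_coord, evalMinors_coord]
  unfold term
  have e1 : A.submatrix (shuffleI i j r S hS) id =
      matI r.val (fun t => A (i.1 t)) ((fun k => A (movingRows i j r k)) ∘ S.orderEmbOfFin hS) := by
    ext t c
    simp only [Matrix.submatrix_apply, id_eq, shuffleI, matI, Matrix.of_apply, comp_apply]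
    split_ifs with h
    · rfl
    · rfl
  have e2 : A.submatrix (shuffleJ i j r S hS) id =
      matJ r.val (fun t => A (j.1 t)) ((fun k => A (movingRows i j r k)) ∘
        Sᶜ.orderEmbOfFin (card_compl_of_card hab S hS)) := by
    ext t c
    simp only [Matrix.submatrix_apply, id_eq, shuffleJ, matJ, Matrix.of_apply, comp_apply]
    split_ifs with h
    · rfl
    · rfl
  have hge : r.val * (r.val + 1) / 2 ≤ ∑ x ∈ S, x.val := by
    have := sum_val_ge S (r.val + 1) hS
    rw [Nat.add_sub_cancel, Nat.mul_comm] at this
    exact this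
  unfold shuffleSign
  rw [neg_one_pow_sub hge, e1, e2]
  show _ = _ * (_ * (matI _ _ _).det * (matJ _ _ _).det)
  ring

/-- Every shuffle relation vanishes at the minors of every matrix over a field. -/
theorem evalMinors_shuffleRel {F : Type*} [Field F] (A : Matrix (Fin n) (Fin d) F) (i j : Idx d n)
    (r : Fin d) : evalMinors F d n A (shuffleRel F i j r) = 0 := by
  have hab : (r.val + 1) + (d - r.val) = d + 1 := by have := r.isLt; omega
  unfold shuffleRel
  rw [map_sum]
  have h1 : ∀ S : Finset (Fin (d + 1)), evalMinors F d n A (shuffleTerm F i j r S) =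
      (-1) ^ (r.val * (r.val + 1) / 2) *
        (if hS : S.card = r.val + 1 then
          term hab (phiI r.val r.isLt (fun t => A (i.1 t))) (psiJ r.val (fun t => A (j.1 t))) S hS
            (fun k => A (movingRows i j r k)) else 0) := by
    intro S
    by_cases hS : S.card = r.val + 1
    · rw [dif_pos hS]
      exact evalMinors_shuffleTerm F A i j r S hS hab
    · rw [dif_neg hS, mul_zero]
      unfold shuffleTerm
      rw [dif_neg hS, map_zero]
  rw [Finset.sum_congr rfl fun S _ => h1 S, ← Finset.mul_sum]
  have h2 : wedge hab (phiI r.val r.isLt (fun t => A (i.1 t))) (psiJ r.val (fun t => A (j.1 t)))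
      (fun k => A (movingRows i j r k)) = 0 := by
    apply AlternatingMap.map_linearDependent
    intro hli
    have := hli.fintype_card_le_finrank
    rw [Fintype.card_fin, Module.finrank_fin_fun] at this
    omega
  rw [wedge_apply] at h2
  unfold wedgeFun at h2
  rw [h2, mul_zero]

end Groth.Agent.R2.H50.PlShuffle
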