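import Mathlib
import Groth.Prelude.Def_W4bk4grassmannianPl
import Groth.Agent.Lib.Helper24Grass
import Groth.Agent.R2.H50PlLead
import Groth.Agent.R2.H50PlSchubert
import Groth.Agent.R2.H50PlShuffle

/-!
# Standard monomial theory for Schubert varieties in the Grassmannian: main lemmas (helper50)

* `plIdealTop_le_schubertVanishing`, `plIdeal_le_schubertVanishing`: the shuffle relations (and the coordinates
  `X φ`, `φ ≰ τ`) vanish on the Schubert variety.
* `exists_rep`: every Plücker polynomial is, modulo the shuffle relations, a linear combination of standard monomials.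
* `coeff_eq_zero_of_mem`: if a linear combination of standard monomials vanishes on `X(τ)`, the coefficients of the
  standard monomials on `X(τ)` vanish.
-/

set_option autoImplicit false

noncomputable section

namespace Groth.Agent.R2.H50.PlMain

open MvPolynomial W4bk4grassmannian
open Groth.Agent.R2.H50.PlLead Groth.Agent.R2.H50.PlSchubert Groth.Agent.R2.H50.PlShuffle

variable {d n : ℕ} (K : Type*) [Field K]

/-- all standard monomial data: antitone chains of any length -/
abbrev AllStd (d n : ℕ) : Type := Σ m : ℕ, {c : Fin m → Idx d n // Antitone c}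

/-- the standard monomial of a chain -/
def stdMon (c : AllStd d n) : PlRing K d n := chainMon K c.2.1

/-- the chains all of whose members lie below `τ` -/
def onSet (τ : Idx d n) : Set (AllStd d n) := {c | ∀ k, c.2.1 k ≤ τ}

theorem plIdealTop_le_ker_evalMinors (A : Matrix (Fin n) (Fin d) K) :
    plIdealTop (d := d) (n := n) K ≤ RingHom.ker (evalMinors K d n A).toRingHom := by
  unfold plIdealTop
  rw [Ideal.span_le]
  rintro f ⟨i, j, r, _, rfl⟩
  exact evalMinors_shuffleRel A i j r

theorem plIdealTop_le_schubertVanishing (τ : Idx d n) :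
    plIdealTop (d := d) (n := n) K ≤ schubertVanishing K d n τ := by
  unfold schubertVanishing
  exact le_iInf fun A => le_iInf fun _ => plIdealTop_le_ker_evalMinors K A

theorem X_mem_schubertVanishing (τ φ : Idx d n) (h : ¬ φ ≤ τ) : X φ ∈ schubertVanishing K d n τ := by
  unfold schubertVanishing
  rw [Ideal.mem_iInf]
  intro A
  rw [Ideal.mem_iInf]
  intro hA
  rw [RingHom.mem_ker]
  show evalMinors K d n A (X φ) = 0
  unfold evalMinors
  rw [aeval_X]
  exact hA φ h

theorem plIdealTop_le_plIdeal (τ : Idx d n) : plIdealTop (d := d) (n := n) K ≤ plIdeal K τ := by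
  unfold plIdealTop plIdeal
  exact Ideal.span_mono Set.subset_union_left

theorem plIdeal_le_schubertVanishing (τ : Idx d n) : plIdeal K τ ≤ schubertVanishing K d n τ := by
  unfold plIdeal
  rw [Ideal.span_le]
  rintro f (⟨i, j, r, hp, rfl⟩ | ⟨φ, hφ, rfl⟩)
  · exact plIdealTop_le_schubertVanishing K τ (Ideal.subset_span ⟨i, j, r, hp, rfl⟩)
  · exact X_mem_schubertVanishing K τ φ hφ

theorem schubertVanishing_mono {τ τ' : Idx d n} (h : τ ≤ τ') :
    schubertVanishing K d n τ' ≤ schubertVanishing K d n τ := by
  unfold schubertVanishing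
  refine le_iInf fun A => le_iInf fun hA => ?_
  exact iInf_le_of_le A (iInf_le _ (fun φ hφ => hA φ (fun h' => hφ (le_trans h' h))))

/-- a monomial containing a coordinate in an ideal lies in the ideal. -/
theorem chainMon_mem_of_X_mem (I : Ideal (PlRing K d n)) {m : ℕ} (c : Fin m → Idx d n) (k : Fin m)
    (h : X (c k) ∈ I) : chainMon K c ∈ I := by
  unfold chainMon
  exact Ideal.mem_of_dvd I (Finset.dvd_prod_of_mem _ (Finset.mem_univ k)) h

theorem stdMon_mem_schubertVanishing (τ : Idx d n) (c : AllStd d n) (hc : c ∉ onSet τ) :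
    stdMon K c ∈ schubertVanishing K d n τ := by
  unfold onSet at hc
  rw [Set.mem_ofPred_eq] at hc
  push Not at hc
  obtain ⟨k, hk⟩ := hc
  exact chainMon_mem_of_X_mem K _ c.2.1 k (X_mem_schubertVanishing K τ _ hk)

theorem stdMon_mem_plIdeal (τ : Idx d n) (c : AllStd d n) (hc : c ∉ onSet τ) :
    stdMon K c ∈ plIdeal K τ := by
  unfold onSet at hc
  rw [Set.mem_ofPred_eq] at hc
  push Not at hc
  obtain ⟨k, hk⟩ := hc
  refine chainMon_mem_of_X_mem K _ c.2.1 k ?_
  unfold plIdeal
  exact Ideal.subset_span (Or.inr ⟨_, hk, rfl⟩)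

/-- Every polynomial is, modulo the shuffle relations, a linear combination of standard monomials. -/
theorem exists_rep (f : PlRing K d n) :
    ∃ l : AllStd d n →₀ K, f - Finsupp.linearCombination K (stdMon K) l ∈ plIdealTop (d := d) (n := n) K := by
  have h1 : Ideal.Quotient.mk (plIdealTop (d := d) (n := n) K) f ∈
      Groth.Agent.Lib.Helper24Grass.Std K d n := by
    rw [Groth.Agent.Lib.Helper24Grass.std_eq_top]
    trivial
  unfold Groth.Agent.Lib.Helper24Grass.Std at h1
  rw [Finsupp.mem_span_range_iff_exists_finsupp] at h1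
  obtain ⟨l, hl⟩ := h1
  refine ⟨l, ?_⟩
  rw [← Ideal.Quotient.eq, ← hl, Finsupp.linearCombination_apply, Finsupp.sum, Finsupp.sum, map_sum]
  refine Finset.sum_congr rfl fun c _ => ?_
  exact map_smul (Ideal.Quotient.mkₐ K (plIdealTop (d := d) (n := n) K)) (l c) (stdMon K c)

/-- standard monomials on `X(τ)` are linearly independent after evaluation at the generic Schubert-shaped matrix -/
theorem linearIndepOn_evG (τ : Idx d n) (hd : 0 < d) :
    LinearIndepOn K (fun c : AllStd d n => evG K τ (stdMon K c)) (onSet τ) := by
  unfold LinearIndepOn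
  apply Groth.Agent.R2.H50.MonOrd.linearIndependent_of_degree_injective
    (MonomialOrder.lex (σ := Var d n))
  · intro c
    exact (monic_evG_chainMon K τ hd c.1.2.1 c.2).ne_zero
  · intro c c' h
    simp only [stdMon] at h
    rw [degree_evG_chainMon K τ hd c.1.2.1 c.2, degree_evG_chainMon K τ hd c'.1.2.1 c'.2] at h
    exact Subtype.ext (chainExp_injective hd h)

/-- If a linear combination of standard monomials vanishes on the Schubert variety `X(τ)`, then the coefficients of
the standard monomials on `X(τ)` are zero. -/
theorem coeff_eq_zero_of_mem [Infinite K] (τ : Idx d n) (hd : 0 < d) (l : AllStd d n →₀ K)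
    (hl : Finsupp.linearCombination K (stdMon K) l ∈ schubertVanishing K d n τ) :
    ∀ c ∈ onSet τ, l c = 0 := by
  classical
  have hker := schubertVanishing_le_ker_evG K τ
  have hv0 : ∀ c, c ∉ onSet τ → evG K τ (stdMon K c) = 0 := fun c hc =>
    hker (stdMon_mem_schubertVanishing K τ c hc)
  have h1 : Finsupp.linearCombination K (fun c : AllStd d n => evG K τ (stdMon K c)) l = 0 := by
    have := hker hl
    rw [RingHom.mem_ker] at this
    have e : (evG K τ).toRingHom (Finsupp.linearCombination K (stdMon K) l) =
        (evG K τ).toLinearMap (Finsupp.linearCombination K (stdMon K) l) := rfl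
    rw [e, Finsupp.apply_linearCombination] at this
    exact this
  have h2 : Finsupp.linearCombination K (fun c : AllStd d n => evG K τ (stdMon K c))
      (l.filter (· ∈ onSet τ)) = 0 := by
    rw [← h1]
    conv_rhs => rw [← Finsupp.filter_add_filter_not l (· ∈ onSet τ)]
    rw [map_add]
    have : Finsupp.linearCombination K (fun c : AllStd d n => evG K τ (stdMon K c))
        (l.filter fun c => ¬ c ∈ onSet τ) = 0 := by
      rw [Finsupp.linearCombination_apply, Finsupp.sum]
      refine Finset.sum_eq_zero fun c hc => ?_
      have hc' : ¬ c ∈ onSet τ := by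
        rw [Finsupp.support_filter, Finset.mem_filter] at hc
        exact hc.2
      rw [hv0 c hc', smul_zero]
    rw [this, add_zero]
  have h3 := (linearIndepOn_iff.1 (linearIndepOn_evG K τ hd)) (l.filter (· ∈ onSet τ))
    (by
      rw [Finsupp.mem_supported]
      intro c hc
      rw [Finset.mem_coe, Finsupp.support_filter, Finset.mem_filter] at hc
      exact hc.2) h2
  intro c hc
  have := congrArg (fun g => g c) h3
  simp only [Finsupp.coe_zero, Pi.zero_apply] at this
  rw [Finsupp.filter_apply_pos (· ∈ onSet τ) l hc] at this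
  exact this

/-- The ideal of the Schubert variety is generated by the shuffle relations and the vanishing coordinates. -/
theorem schubertVanishing_le_plIdeal [Infinite K] (τ : Idx d n) (hd : 0 < d) :
    schubertVanishing K d n τ ≤ plIdeal K τ := by
  classical
  intro f hf
  obtain ⟨l, hl⟩ := exists_rep K f
  have h1 : Finsupp.linearCombination K (stdMon K) l ∈ schubertVanishing K d n τ := by
    have := (schubertVanishing K d n τ).sub_mem hf (plIdealTop_le_schubertVanishing K τ hl)
    rwa [sub_sub_cancel] at this
  have h2 := coeff_eq_zero_of_mem K τ hd l h1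
  have h3 : Finsupp.linearCombination K (stdMon K) l ∈ plIdeal K τ := by
    rw [Finsupp.linearCombination_apply, Finsupp.sum]
    refine (plIdeal K τ).sum_mem fun c _ => ?_
    by_cases hc : c ∈ onSet τ
    · rw [h2 c hc, zero_smul]
      exact (plIdeal K τ).zero_mem
    · exact Submodule.smul_of_tower_mem _ _ (stdMon_mem_plIdeal K τ c hc)
  have := (plIdeal K τ).add_mem (plIdealTop_le_plIdeal K τ hl) h3
  rwa [sub_add_cancel] at this

theorem plIdeal_eq_schubertVanishing [Infinite K] (τ : Idx d n) (hd : 0 < d) :
    plIdeal K τ = schubertVanishing K d n τ :=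
  le_antisymm (plIdeal_le_schubertVanishing K τ) (schubertVanishing_le_plIdeal K τ hd)

end Groth.Agent.R2.H50.PlMain
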