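import Mathlib
import Groth.Prelude.Def_W4bk4grassmannianPl
import Groth.Agent.R2.H50PlMain

/-!
# Standard monomial theory for unions of Schubert varieties (helper50)

* `coeff_eq_zero_of_mem_iInf`: a linear combination of standard monomials vanishing on a union of Schubert varieties has
  zero coefficients at the standard monomials on the union.
* `mem_iInf_iff`: the ideal of a union of Schubert varieties consists of the polynomials that are, modulo the shuffle
  relations, combinations of standard monomials not on the union.
* `schubertVanishing_isRadical`.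
-/

set_option autoImplicit false

noncomputable section

namespace Groth.Agent.R2.H50.PlUnion

open MvPolynomial W4bk4grassmannian
open Groth.Agent.R2.H50.PlMain

variable {d n : ℕ} (K : Type*) [Field K]

/-- chains lying on some member of a family of Schubert varieties -/
def onUnion {ι : Sort*} (τs : ι → Idx d n) : Set (AllStd d n) := {c | ∃ i, ∀ k, c.2.1 k ≤ τs i}

theorem coeff_eq_zero_of_mem_iInf [Infinite K] {ι : Sort*} (τs : ι → Idx d n) (hd : 0 < d)
    (l : AllStd d n →₀ K)
    (hl : Finsupp.linearCombination K (stdMon K) l ∈ ⨅ i, schubertVanishing K d n (τs i)) :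
    ∀ c ∈ onUnion τs, l c = 0 := by
  rintro c ⟨i, hi⟩
  exact coeff_eq_zero_of_mem K (τs i) hd l ((Ideal.mem_iInf.1 hl) i) c hi

theorem stdMon_mem_iInf {ι : Sort*} (τs : ι → Idx d n) (c : AllStd d n) (hc : c ∉ onUnion τs) :
    stdMon K c ∈ ⨅ i, schubertVanishing K d n (τs i) := by
  rw [Ideal.mem_iInf]
  intro i
  refine stdMon_mem_schubertVanishing K (τs i) c ?_
  intro h
  exact hc ⟨i, h⟩

theorem plIdealTop_le_iInf {ι : Sort*} (τs : ι → Idx d n) :
    plIdealTop (d := d) (n := n) K ≤ ⨅ i, schubertVanishing K d n (τs i) :=
  le_iInf fun i => plIdealTop_le_schubertVanishing K (τs i)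

/-- a combination of standard monomials with coefficients vanishing on `U` lies in any ideal containing the standard
monomials outside `U`. -/
theorem linearCombination_mem (I : Ideal (PlRing K d n)) (U : Set (AllStd d n))
    (hI : ∀ c, c ∉ U → stdMon K c ∈ I) (l : AllStd d n →₀ K) (hl : ∀ c ∈ U, l c = 0) :
    Finsupp.linearCombination K (stdMon K) l ∈ I := by
  classical
  rw [Finsupp.linearCombination_apply, Finsupp.sum]
  refine I.sum_mem fun c _ => ?_
  by_cases hc : c ∈ U
  · rw [hl c hc, zero_smul]
    exact I.zero_mem
  · exact Submodule.smul_of_tower_mem _ _ (hI c hc)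

theorem mem_iInf_iff [Infinite K] {ι : Sort*} (τs : ι → Idx d n) (hd : 0 < d) (f : PlRing K d n) :
    f ∈ ⨅ i, schubertVanishing K d n (τs i) ↔
      ∃ l : AllStd d n →₀ K, f - Finsupp.linearCombination K (stdMon K) l ∈ plIdealTop (d := d) (n := n) K ∧
        ∀ c ∈ onUnion τs, l c = 0 := by
  constructor
  · intro hf
    obtain ⟨l, hl⟩ := exists_rep K f
    refine ⟨l, hl, ?_⟩
    have h1 : Finsupp.linearCombination K (stdMon K) l ∈ ⨅ i, schubertVanishing K d n (τs i) := by
      have := (⨅ i, schubertVanishing K d n (τs i)).sub_mem hf (plIdealTop_le_iInf K τs hl)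
      rwa [sub_sub_cancel] at this
    exact coeff_eq_zero_of_mem_iInf K τs hd l h1
  · rintro ⟨l, hl, h0⟩
    have h3 := linearCombination_mem K (⨅ i, schubertVanishing K d n (τs i)) (onUnion τs)
      (fun c hc => stdMon_mem_iInf K τs c hc) l h0
    have := (⨅ i, schubertVanishing K d n (τs i)).add_mem (plIdealTop_le_iInf K τs hl) h3
    rwa [sub_add_cancel] at this

/-- a general upper bound: the ideal of a union of Schubert varieties lies in any ideal containing the shuffle relations
and the standard monomials not on the union. -/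
theorem iInf_le_of_stdMon_mem [Infinite K] {ι : Sort*} (τs : ι → Idx d n) (hd : 0 < d) (I : Ideal (PlRing K d n))
    (h1 : plIdealTop (d := d) (n := n) K ≤ I) (h2 : ∀ c, c ∉ onUnion τs → stdMon K c ∈ I) :
    ⨅ i, schubertVanishing K d n (τs i) ≤ I := by
  intro f hf
  obtain ⟨l, hl, h0⟩ := (mem_iInf_iff K τs hd f).1 hf
  have h3 := linearCombination_mem K I (onUnion τs) h2 l h0
  have := I.add_mem (h1 hl) h3
  rwa [sub_add_cancel] at this

theorem schubertVanishing_isRadical (τ : Idx d n) : (schubertVanishing K d n τ).IsRadical := by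
  unfold schubertVanishing
  refine Ideal.isRadical_iInf _ fun A => Ideal.isRadical_iInf _ fun _ => ?_
  exact (RingHom.ker_isPrime _).isRadical

end Groth.Agent.R2.H50.PlUnion
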