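import Mathlib
import Groth.Prelude.Def_W4bk4grassmannianPl
import Groth.Agent.R2.H50PlUnion
import Groth.Agent.R2.H50PlCoord

/-!
# The open cell of a Schubert variety (helper50)

For `τ ∈ I(d,n)`, the cone over the Schubert variety `X(τ)` minus the hyperplane `p_τ = 0` is the product of an affine
space (coordinates `YIdx τ`) and a punctured line.  Algebraically: the map `cellMap : PlRing → K[Y, s]`,
`X θ ↦ s * minor_θ (normalised matrix)` has kernel `J(τ)`, sends `X τ` to `s`, and becomes surjective after inverting `s`.
-/

set_option autoImplicit false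

noncomputable section

namespace Groth.Agent.R2.H50.PlCell

open MvPolynomial W4bk4grassmannian
open Groth.Agent.R2.H50.PlLead Groth.Agent.R2.H50.PlSchubert Groth.Agent.R2.H50.PlMain

variable {d n : ℕ} (K : Type*) [Field K]

/-! ### the kernel of the evaluation at the generic Schubert matrix -/

theorem coeff_eq_zero_of_evG (τ : Idx d n) (hd : 0 < d) (l : AllStd d n →₀ K)
    (h1 : evG K τ (Finsupp.linearCombination K (stdMon K) l) = 0)
    (hv0 : ∀ c, c ∉ onSet τ → evG K τ (stdMon K c) = 0) :
    ∀ c ∈ onSet τ, l c = 0 := by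
  classical
  have h1' : Finsupp.linearCombination K (fun c : AllStd d n => evG K τ (stdMon K c)) l = 0 := by
    have e : (evG K τ) (Finsupp.linearCombination K (stdMon K) l) =
        (evG K τ).toLinearMap (Finsupp.linearCombination K (stdMon K) l) := rfl
    rw [e, Finsupp.apply_linearCombination] at h1
    exact h1
  have h2 : Finsupp.linearCombination K (fun c : AllStd d n => evG K τ (stdMon K c))
      (l.filter (· ∈ onSet τ)) = 0 := by
    rw [← h1']
    conv_rhs => rw [← Finsupp.filter_add_filter_not l (· ∈ onSet τ)]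
    rw [map_add]
    have : Finsupp.linearCombination K (fun c : AllStd d n => evG K τ (stdMon K c))
        (l.filter fun c => ¬ c ∈ onSet τ) = 0 := by
      rw [Finsupp.linearCombination_apply, Finsupp.sum]
      refine Finset.sum_eq_zero fun c hc => ?_
      have hc' : ¬ c ∈ onSet τ := by
        rw [Finsupp.support_filter, Finset.mem_filter] at hc
        exact hc.2
      rw [hv0 c hc', smul_zero]
    rw [this, add_zero]
  have h3 := (linearIndepOn_iff.1 (linearIndepOn_evG K τ hd)) (l.filter (· ∈ onSet τ))
    (by
      rw [Finsupp.mem_supported]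
      intro c hc
      rw [Finset.mem_coe, Finsupp.support_filter, Finset.mem_filter] at hc
      exact hc.2) h2
  intro c hc
  have := congrArg (fun g => g c) h3
  simp only [Finsupp.coe_zero, Pi.zero_apply] at this
  rw [Finsupp.filter_apply_pos (· ∈ onSet τ) l hc] at this
  exact this

theorem ker_evG_eq [Infinite K] (τ : Idx d n) (hd : 0 < d) :
    RingHom.ker (evG K τ).toRingHom = schubertVanishing K d n τ := by
  apply le_antisymm
  · intro f hf
    have hker := schubertVanishing_le_ker_evG K τ
    obtain ⟨l, hl⟩ := exists_rep K f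
    have h0 : evG K τ (Finsupp.linearCombination K (stdMon K) l) = 0 := by
      have h1 : f - Finsupp.linearCombination K (stdMon K) l ∈ RingHom.ker (evG K τ).toRingHom :=
        hker (plIdealTop_le_schubertVanishing K τ hl)
      have h2 := (RingHom.ker (evG K τ).toRingHom).sub_mem hf h1
      rw [sub_sub_cancel] at h2
      exact h2
    have h2 := coeff_eq_zero_of_evG K τ hd l h0
      (fun c hc => hker (stdMon_mem_schubertVanishing K τ c hc))
    have h3 := Groth.Agent.R2.H50.PlUnion.linearCombination_mem K (schubertVanishing K d n τ) (onSet τ)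
      (fun c hc => stdMon_mem_schubertVanishing K τ c hc) l h2
    have := (schubertVanishing K d n τ).add_mem (plIdealTop_le_schubertVanishing K τ hl) h3
    rwa [sub_add_cancel] at this
  · exact schubertVanishing_le_ker_evG K τ

theorem schubertVanishing_isPrime [Infinite K] (τ : Idx d n) (hd : 0 < d) :
    (schubertVanishing K d n τ).IsPrime := by
  rw [← ker_evG_eq K τ hd]
  exact RingHom.ker_isPrime _

theorem X_notMem_schubertVanishing [Infinite K] (τ θ : Idx d n) (hd : 0 < d) (h : θ ≤ τ) :
    X θ ∉ schubertVanishing K d n τ := by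
  rw [← ker_evG_eq K τ hd]
  intro hmem
  rw [RingHom.mem_ker] at hmem
  have h1 : evG K τ (X θ) = 0 := hmem
  rw [evG_X] at h1
  exact (monic_minorG K τ θ h hd).ne_zero h1

/-! ### the normalised matrix of the cell -/

/-- coordinates of the cell: positions `(i, t)` below `τ t` in rows not occurring in `τ` -/
def YIdx (τ : Idx d n) : Type := {p : Fin n × Fin d // p.1 < τ.1 p.2 ∧ ∀ s, τ.1 s ≠ p.1}

/-- the normalised matrix: identity on the rows `τ`, coordinates `y` at the positions `YIdx τ`, zero elsewhere. -/
def cellMat {F : Type*} [CommRing F] (τ : Idx d n) (y : YIdx τ → F) : Matrix (Fin n) (Fin d) F :=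
  Matrix.of fun i t => if τ.1 t = i then 1
    else if h : i < τ.1 t ∧ ∀ s, τ.1 s ≠ i then y ⟨(i, t), h⟩ else 0

theorem cellMat_map {F F' : Type*} [CommRing F] [CommRing F'] (g : F →+* F') (τ : Idx d n) (y : YIdx τ → F) :
    (cellMat τ y).map g = cellMat τ (fun p => g (y p)) := by
  ext i t
  simp only [cellMat, Matrix.map_apply, Matrix.of_apply]
  split_ifs <;> simp

theorem cellMat_shape {F : Type*} [CommRing F] (τ : Idx d n) (y : YIdx τ → F) (i : Fin n) (t : Fin d)
    (h : τ.1 t < i) : cellMat τ y i t = 0 := by
  simp only [cellMat, Matrix.of_apply]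
  rw [if_neg (ne_of_lt h), dif_neg]
  intro h'
  exact absurd h'.1 (not_lt.2 (le_of_lt h))

theorem cellMat_submatrix_self {F : Type*} [CommRing F] (τ : Idx d n) (y : YIdx τ → F) :
    (cellMat τ y).submatrix τ.1 id = 1 := by
  ext s t
  simp only [cellMat, Matrix.submatrix_apply, Matrix.of_apply, id_eq, Matrix.one_apply]
  by_cases hst : s = t
  · subst hst
    simp
  · rw [if_neg (fun h => hst (τ.2.injective h).symm), if_neg hst, dif_neg]
    intro h'
    exact h'.2 s rfl

/-- the coordinate ring of the cone over the cell: coordinates `YIdx τ` and the scaling `none`. -/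
abbrev CellQ (τ : Idx d n) : Type _ := MvPolynomial (Option (YIdx τ)) K

/-- the generic normalised matrix -/
def genCell (τ : Idx d n) : Matrix (Fin n) (Fin d) (CellQ K τ) := cellMat τ fun p => X (some p)

/-- the comorphism of the parametrisation of the cone over the cell. -/
def cellMap (τ : Idx d n) : PlRing K d n →ₐ[K] CellQ K τ :=
  aeval fun θ : Idx d n => X none * ((genCell K τ).submatrix θ.1 id).det

theorem cellMap_X (τ θ : Idx d n) :
    cellMap K τ (X θ) = X none * ((genCell K τ).submatrix θ.1 id).det := by
  unfold cellMap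
  rw [aeval_X]

theorem cellMap_X_self (τ : Idx d n) : cellMap K τ (X τ) = X none := by
  rw [cellMap_X, genCell, cellMat_submatrix_self, Matrix.det_one, mul_one]

/-- specialising the cell map -/
theorem aeval_cellMap {F : Type*} [CommRing F] [Algebra K F] (τ : Idx d n) (s₀ : F) (y : YIdx τ → F)
    (f : PlRing K d n) :
    aeval (fun o : Option (YIdx τ) => Option.elim o s₀ y) (cellMap K τ f) =
      aeval (fun θ : Idx d n => s₀ * ((cellMat τ y).submatrix θ.1 id).det) f := by
  have : ((aeval (fun o : Option (YIdx τ) => Option.elim o s₀ y) : CellQ K τ →ₐ[K] F).comp (cellMap K τ)) =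
      aeval (fun θ : Idx d n => s₀ * ((cellMat τ y).submatrix θ.1 id).det) := by
    apply MvPolynomial.algHom_ext
    intro θ
    rw [AlgHom.comp_apply, cellMap_X, map_mul, aeval_X, aeval_X]
    congr 1
    rw [← AlgHom.coe_toRingHom, RingHom.map_det]
    congr 1
    rw [RingHom.mapMatrix_apply, ← Matrix.submatrix_map, genCell, cellMat_map]
    congr 2
    funext p
    simp
  have h2 := congrArg (fun g => g f) this
  simpa only [AlgHom.comp_apply] using h2

/-! ### the cell map kills the ideal of the Schubert variety -/

/-- scaled normalised matrix: the first column is multiplied by `s₀`. -/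
def scaledCell (τ : Idx d n) (hd : 0 < d) (s₀ : K) (y : YIdx τ → K) : Matrix (Fin n) (Fin d) K :=
  cellMat τ y * Matrix.diagonal (fun t : Fin d => if t = ⟨0, hd⟩ then s₀ else 1)

theorem det_scaledCell (τ : Idx d n) (hd : 0 < d) (s₀ : K) (y : YIdx τ → K) (θ : Fin d → Fin n) :
    ((scaledCell K τ hd s₀ y).submatrix θ id).det = s₀ * ((cellMat τ y).submatrix θ id).det := by
  unfold scaledCell
  rw [Matrix.submatrix_mul _ _ θ id id Function.bijective_id, Matrix.submatrix_id_id, Matrix.det_mul,
    Matrix.det_diagonal, Finset.prod_ite_eq' Finset.univ (⟨0, hd⟩ : Fin d) (fun _ => s₀), if_pos (Finset.mem_univ _),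
    mul_comm]

theorem scaledCell_shape (τ : Idx d n) (hd : 0 < d) (s₀ : K) (y : YIdx τ → K) (i : Fin n) (t : Fin d)
    (h : τ.1 t < i) : scaledCell K τ hd s₀ y i t = 0 := by
  unfold scaledCell
  rw [Matrix.mul_diagonal, cellMat_shape τ y i t h, zero_mul]

theorem schubertVanishing_le_ker_cellMap [Infinite K] (τ : Idx d n) (hd : 0 < d) :
    schubertVanishing K d n τ ≤ RingHom.ker (cellMap K τ).toRingHom := by
  intro f hf
  rw [RingHom.mem_ker]
  apply MvPolynomial.funext
  intro a
  rw [map_zero]
  show eval a (cellMap K τ f) = 0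
  have h1 : eval a (cellMap K τ f) =
      aeval (fun o : Option (YIdx τ) => Option.elim o (a none) (fun p => a (some p))) (cellMap K τ f) := by
    rw [← MvPolynomial.aeval_eq_eval]
    congr 2
    funext o
    cases o <;> rfl
  rw [h1, aeval_cellMap]
  have h2 : (aeval (fun θ : Idx d n => a none * ((cellMat τ (fun p => a (some p))).submatrix θ.1 id).det) :
      PlRing K d n →ₐ[K] K) = evalMinors K d n (scaledCell K τ hd (a none) (fun p => a (some p))) := by
    unfold evalMinors
    congr 1
    funext θ
    rw [det_scaledCell]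
  rw [h2]
  unfold schubertVanishing at hf
  rw [Ideal.mem_iInf] at hf
  have h3 := hf (scaledCell K τ hd (a none) (fun p => a (some p)))
  rw [Ideal.mem_iInf] at h3
  exact h3 (fun φ hφ => det_submatrix_eq_zero_of_not_le K τ φ _
    (fun i t hit => scaledCell_shape K τ hd _ _ i t hit) hφ)

/-! ### factorisation of Schubert-shaped matrices -/

/-- A Schubert-shaped matrix with invertible `τ`-minor is, up to right multiplication by its `τ`-rows, normalised. -/
theorem cell_factor {F : Type*} [Field F] (τ : Idx d n) (A : Matrix (Fin n) (Fin d) F)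
    (hA : ∀ i t, τ.1 t < i → A i t = 0) (hT : (A.submatrix τ.1 id).det ≠ 0) :
    A * (A.submatrix τ.1 id)⁻¹ =
      cellMat τ (fun p : YIdx τ => (A * (A.submatrix τ.1 id)⁻¹) p.1.1 p.1.2) := by
  set T := A.submatrix τ.1 id with hTdef
  have hu : IsUnit T.det := hT.isUnit
  have : Invertible T := Matrix.invertibleOfIsUnitDet T hu
  have htri : T.BlockTriangular id := by
    intro s t hst
    simp only [id_eq] at hst
    exact hA _ _ (τ.2 hst)
  have htri' : T⁻¹.BlockTriangular id := Matrix.blockTriangular_inv_of_blockTriangular htri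
  have hrow : ∀ s t, (A * T⁻¹) (τ.1 s) t = (1 : Matrix (Fin d) (Fin d) F) s t := by
    intro s t
    rw [← Matrix.mul_nonsing_inv T hu]
    rfl
  ext i t
  simp only [cellMat, Matrix.of_apply]
  by_cases h1 : τ.1 t = i
  · rw [if_pos h1, ← h1, hrow, Matrix.one_apply_eq]
  · rw [if_neg h1]
    by_cases h2 : i < τ.1 t ∧ ∀ s, τ.1 s ≠ i
    · rw [dif_pos h2]
    · rw [dif_neg h2]
      by_cases h3 : ∃ s, τ.1 s = i
      · obtain ⟨s, rfl⟩ := h3
        rw [hrow, Matrix.one_apply_ne]
        intro hst
        exact h1 (by rw [hst])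
      · push Not at h3
        have h4 : τ.1 t < i := by
          rcases lt_trichotomy (τ.1 t) i with h | h | h
          · exact h
          · exact absurd h h1
          · exact absurd ⟨h, h3⟩ h2
        rw [Matrix.mul_apply]
        refine Finset.sum_eq_zero fun u _ => ?_
        by_cases h5 : τ.1 u < i
        · rw [hA i u h5, zero_mul]
        · have h6 : τ.1 t < τ.1 u := lt_of_lt_of_le h4 (not_lt.1 h5)
          have h7 : t < u := τ.2.lt_iff_lt.1 h6
          rw [htri' (show id t < id u from h7), mul_zero]

theorem det_submatrix_eq_of_shape {F : Type*} [Field F] (τ : Idx d n) (A : Matrix (Fin n) (Fin d) F)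
    (hA : ∀ i t, τ.1 t < i → A i t = 0) (hT : (A.submatrix τ.1 id).det ≠ 0) (θ : Fin d → Fin n) :
    (A.submatrix θ id).det = (A.submatrix τ.1 id).det *
      ((cellMat τ (fun p : YIdx τ => (A * (A.submatrix τ.1 id)⁻¹) p.1.1 p.1.2)).submatrix θ id).det := by
  rw [← cell_factor τ A hA hT, Matrix.submatrix_mul _ _ θ id id Function.bijective_id, Matrix.submatrix_id_id,
    Matrix.det_mul, Matrix.det_nonsing_inv, Ring.inverse_eq_inv']
  field_simp

/-! ### the kernel of the cell map -/

theorem ker_cellMap_le [Infinite K] (τ : Idx d n) (hd : 0 < d) :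
    RingHom.ker (cellMap K τ).toRingHom ≤ schubertVanishing K d n τ := by
  rw [← ker_evG_eq K τ hd]
  intro f hf
  have hf' : cellMap K τ f = 0 := hf
  let A : Matrix (Fin n) (Fin d) (FractionRing (MvPolynomial (Var d n) K)) :=
    (genSchubert K τ).map (algebraMap (MvPolynomial (Var d n) K) (FractionRing (MvPolynomial (Var d n) K)))
  have hA : ∀ i t, τ.1 t < i → A i t = 0 := by
    intro i t hit
    simp only [A, genSchubert, Matrix.map_apply, Matrix.of_apply]
    rw [if_neg (not_le.2 hit), map_zero]
  have hdet : ∀ θ : Fin d → Fin n, (A.submatrix θ id).det =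
      algebraMap (MvPolynomial (Var d n) K) (FractionRing (MvPolynomial (Var d n) K))
        (((genSchubert K τ).submatrix θ id).det) := by
    intro θ
    rw [RingHom.map_det]
    rfl
  have hinj := IsFractionRing.injective (MvPolynomial (Var d n) K) (FractionRing (MvPolynomial (Var d n) K))
  have hT : (A.submatrix τ.1 id).det ≠ 0 := by
    rw [hdet]
    intro h0
    rw [← map_zero (algebraMap (MvPolynomial (Var d n) K) (FractionRing (MvPolynomial (Var d n) K)))] at h0
    exact (monic_minorG K τ τ le_rfl hd).ne_zero (hinj h0)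
  have h1 : algebraMap (MvPolynomial (Var d n) K) (FractionRing (MvPolynomial (Var d n) K)) (evG K τ f) =
      aeval (fun θ : Idx d n => (A.submatrix θ.1 id).det) f := by
    have : ((IsScalarTower.toAlgHom K (MvPolynomial (Var d n) K)
        (FractionRing (MvPolynomial (Var d n) K))).comp (evG K τ)) =
        aeval (fun θ : Idx d n => (A.submatrix θ.1 id).det) := by
      apply MvPolynomial.algHom_ext
      intro θ
      rw [AlgHom.comp_apply, evG_X, aeval_X, hdet]
      rfl
    have h2 := congrArg (fun g => g f) this
    simp only [AlgHom.comp_apply] at h2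
    exact h2
  rw [RingHom.mem_ker]
  apply hinj
  rw [map_zero]
  show algebraMap (MvPolynomial (Var d n) K) (FractionRing (MvPolynomial (Var d n) K)) (evG K τ f) = 0
  rw [h1]
  have h2 : (fun θ : Idx d n => (A.submatrix θ.1 id).det) = fun θ : Idx d n =>
      (A.submatrix τ.1 id).det *
        ((cellMat τ (fun p : YIdx τ => (A * (A.submatrix τ.1 id)⁻¹) p.1.1 p.1.2)).submatrix θ.1 id).det :=
    funext fun θ => det_submatrix_eq_of_shape τ A hA hT θ.1
  rw [h2, ← aeval_cellMap, hf', map_zero]

theorem ker_cellMap_eq [Infinite K] (τ : Idx d n) (hd : 0 < d) :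
    RingHom.ker (cellMap K τ).toRingHom = schubertVanishing K d n τ :=
  le_antisymm (ker_cellMap_le K τ hd) (schubertVanishing_le_ker_cellMap K τ hd)

/-! ### the cell map is surjective after inverting the scaling coordinate -/

theorem det_updateRow_one {R : Type*} [CommRing R] {m : Type*} [Fintype m] [DecidableEq m] (t : m) (v : m → R) :
    (Matrix.updateRow (1 : Matrix m m R) t v).det = v t := by
  rw [← Matrix.cramer_transpose_apply, Matrix.transpose_one, Matrix.cramer_one]
  rfl

/-- the index `τ` with its `t`-th entry replaced by `i` -/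
def replRow (τ : Idx d n) (p : YIdx τ) : Fin d → Fin n := Function.update τ.1 p.1.2 p.1.1

theorem replRow_injective (τ : Idx d n) (p : YIdx τ) : Function.Injective (replRow τ p) := by
  intro s s' h
  unfold replRow at h
  by_cases h1 : s = p.1.2 <;> by_cases h2 : s' = p.1.2
  · rw [h1, h2]
  · rw [h1, Function.update_self, Function.update_of_ne h2] at h
    exact absurd h.symm (p.2.2 s')
  · rw [h2, Function.update_self, Function.update_of_ne h1] at h
    exact absurd h (p.2.2 s)
  · rw [Function.update_of_ne h1, Function.update_of_ne h2] at h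
    exact τ.2.injective h

theorem replRow_card (τ : Idx d n) (p : YIdx τ) : (Finset.univ.image (replRow τ p)).card = d := by
  rw [Finset.card_image_of_injective _ (replRow_injective τ p), Finset.card_univ, Fintype.card_fin]

theorem det_cellMat_replRow {F : Type*} [CommRing F] (τ : Idx d n) (y : YIdx τ → F) (p : YIdx τ) :
    ((cellMat τ y).submatrix (replRow τ p) id).det = y p := by
  have e : (cellMat τ y).submatrix (replRow τ p) id =
      Matrix.updateRow (1 : Matrix (Fin d) (Fin d) F) p.1.2 (fun t' => cellMat τ y p.1.1 t') := by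
    ext s t'
    by_cases hs : s = p.1.2
    · subst hs
      rw [Matrix.updateRow_self, Matrix.submatrix_apply]
      unfold replRow
      rw [Function.update_self]
      rfl
    · rw [Matrix.updateRow_ne hs, Matrix.submatrix_apply]
      unfold replRow
      rw [Function.update_of_ne hs, ← cellMat_submatrix_self τ y]
      rfl
  rw [e, det_updateRow_one]
  simp only [cellMat, Matrix.of_apply]
  rw [if_neg (p.2.2 p.1.2), dif_pos p.2]
  rfl

/-- the coordinate `y p` of the cell is, up to sign and the scaling, the image of a Plücker coordinate. -/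
theorem cellMap_X_sortIdx (τ : Idx d n) (p : YIdx τ) :
    cellMap K τ (X (sortIdx d n (replRow τ p) (replRow_card τ p))) =
      (-1) ^ invCount d n (replRow τ p) * (X none * X (some p)) := by
  have h1 := Groth.Agent.R2.H50.PlCoord.evalMinors_coord (K := CellQ K τ) (genCell K τ) (replRow τ p)
  unfold coord at h1
  rw [dif_pos (replRow_card τ p), map_mul, map_pow, map_neg, map_one] at h1
  unfold evalMinors at h1
  rw [aeval_X] at h1
  rw [cellMap_X]
  have h2 : ((genCell K τ).submatrix (replRow τ p) id).det = X (some p) := by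
    unfold genCell
    rw [det_cellMat_replRow]
  rw [h2] at h1
  have h3 : ((genCell K τ).submatrix (sortIdx d n (replRow τ p) (replRow_card τ p)).1 id).det =
      (-1) ^ invCount d n (replRow τ p) * X (some p) := by
    rw [← h1, ← mul_assoc, ← pow_add, ← two_mul, pow_mul]
    simp
  rw [h3]
  ring

theorem exists_pow_mul_mem_range (τ : Idx d n) (q : CellQ K τ) :
    ∃ (k : ℕ) (f : PlRing K d n), cellMap K τ f = X none ^ k * q := by
  induction q using MvPolynomial.induction_on with
  | C a =>
    refine ⟨0, C a, ?_⟩
    rw [pow_zero, one_mul]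
    exact (cellMap K τ).commutes a
  | add p q hp hq =>
    obtain ⟨k1, f1, h1⟩ := hp
    obtain ⟨k2, f2, h2⟩ := hq
    refine ⟨k1 + k2, X τ ^ k2 * f1 + X τ ^ k1 * f2, ?_⟩
    rw [map_add, map_mul, map_mul, map_pow, map_pow, cellMap_X_self, h1, h2]
    ring
  | mul_X p o hp =>
    obtain ⟨k, f, h⟩ := hp
    cases o with
    | none =>
      refine ⟨k, f * X τ, ?_⟩
      rw [map_mul, cellMap_X_self, h]
      ring
    | some y =>
      refine ⟨k + 1, f * ((-1) ^ invCount d n (replRow τ y) * X (sortIdx d n (replRow τ y) (replRow_card τ y))), ?_⟩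
      rw [map_mul, map_mul, map_pow, map_neg, map_one, cellMap_X_sortIdx, h, ← mul_assoc ((-1) ^ _),
        ← pow_add, ← two_mul, pow_mul]
      simp only [even_two, Even.neg_pow, one_pow, one_mul]
      ring

/-! ### the coordinate ring of the cone over a Schubert variety and its cell -/

/-- the coordinate ring of the cone over the Schubert variety -/
abbrev SchubertRing (τ : Idx d n) : Type _ := PlRing K d n ⧸ schubertVanishing K d n τ

/-- the embedding of the Schubert coordinate ring into the cell ring -/
def cellQuot [Infinite K] (τ : Idx d n) (hd : 0 < d) : SchubertRing K τ →ₐ[K] CellQ K τ :=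
  Ideal.Quotient.liftₐ (schubertVanishing K d n τ) (cellMap K τ)
    (fun f hf => schubertVanishing_le_ker_cellMap K τ hd hf)

theorem cellQuot_mk [Infinite K] (τ : Idx d n) (hd : 0 < d) (f : PlRing K d n) :
    cellQuot K τ hd (Ideal.Quotient.mk _ f) = cellMap K τ f := rfl

theorem cellQuot_injective [Infinite K] (τ : Idx d n) (hd : 0 < d) : Function.Injective (cellQuot K τ hd) := by
  rw [injective_iff_map_eq_zero]
  intro x hx
  obtain ⟨f, rfl⟩ := Ideal.Quotient.mk_surjective x
  rw [cellQuot_mk] at hx
  rw [Ideal.Quotient.eq_zero_iff_mem]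
  exact ker_cellMap_le K τ hd hx

theorem isDomain_schubertRing [Infinite K] (τ : Idx d n) (hd : 0 < d) : IsDomain (SchubertRing K τ) := by
  have := schubertVanishing_isPrime K τ hd
  exact Ideal.Quotient.isDomain _

theorem exists_pow_mul_eq_cellQuot [Infinite K] (τ : Idx d n) (hd : 0 < d) (q : CellQ K τ) :
    ∃ (k : ℕ) (r : SchubertRing K τ), cellQuot K τ hd r = X none ^ k * q := by
  obtain ⟨k, f, hf⟩ := exists_pow_mul_mem_range K τ q
  exact ⟨k, Ideal.Quotient.mk _ f, hf⟩

/-- the localisation of the cell ring at the scaling coordinate is the localisation of the Schubert ring at `X τ`. -/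
theorem isLocalization_cell [Infinite K] (τ : Idx d n) (hd : 0 < d) :
    letI : Algebra (SchubertRing K τ) (Localization.Away (X none : CellQ K τ)) :=
      ((algebraMap (CellQ K τ) (Localization.Away (X none : CellQ K τ))).comp
        (cellQuot K τ hd).toRingHom).toAlgebra
    IsLocalization.Away (Ideal.Quotient.mk (schubertVanishing K d n τ) (X τ))
      (Localization.Away (X none : CellQ K τ)) := by
  letI : Algebra (SchubertRing K τ) (Localization.Away (X none : CellQ K τ)) :=
      ((algebraMap (CellQ K τ) (Localization.Away (X none : CellQ K τ))).comp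
        (cellQuot K τ hd).toRingHom).toAlgebra
  have halg : ∀ r : SchubertRing K τ, algebraMap (SchubertRing K τ) (Localization.Away (X none : CellQ K τ)) r =
      algebraMap (CellQ K τ) (Localization.Away (X none : CellQ K τ)) (cellQuot K τ hd r) := fun _ => rfl
  have hs : cellQuot K τ hd (Ideal.Quotient.mk (schubertVanishing K d n τ) (X τ)) = X none := by
    rw [cellQuot_mk, cellMap_X_self]
  have hinjQ : Function.Injective (algebraMap (CellQ K τ) (Localization.Away (X none : CellQ K τ))) :=
    IsLocalization.injective _ (powers_le_nonZeroDivisors_of_noZeroDivisors (X_ne_zero none))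
  show IsLocalization (Submonoid.powers _) _
  rw [isLocalization_iff]
  refine ⟨?_, ?_, ?_⟩
  · rintro ⟨_, k, rfl⟩
    rw [halg, map_pow, hs, map_pow]
    exact (IsLocalization.Away.algebraMap_isUnit (X none : CellQ K τ)).pow k
  · intro z
    obtain ⟨q, ⟨_, k, rfl⟩, rfl⟩ := IsLocalization.exists_mk'_eq (Submonoid.powers (X none : CellQ K τ)) z
    obtain ⟨j, r, hr⟩ := exists_pow_mul_eq_cellQuot K τ hd q
    refine ⟨⟨r, ⟨(Ideal.Quotient.mk (schubertVanishing K d n τ) (X τ)) ^ (j + k), j + k, rfl⟩⟩, ?_⟩
    simp only
    rw [halg, halg, map_pow, hs, hr, map_mul, pow_add, map_mul, ← mul_assoc, mul_comm _ (algebraMap _ _ (X none ^ j)),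
      mul_assoc]
    congr 1
    exact IsLocalization.mk'_spec (Localization.Away (X none : CellQ K τ)) q
      (⟨X none ^ k, k, rfl⟩ : Submonoid.powers (X none : CellQ K τ))
  · intro a b hab
    rw [halg, halg] at hab
    refine ⟨1, ?_⟩
    rw [cellQuot_injective K τ hd (hinjQ hab)]

end Groth.Agent.R2.H50.PlCell
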