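import Mathlib
import Groth.Prelude.Def_W4bk4grassmannianPl
import Groth.Prelude.Def_CAlgX
import Groth.Agent.R2.H50CellMinor
import Groth.Agent.R2.H50DetIdx
import Groth.Agent.R2.H50PlCell

/-!
# Determinantal rings as opposite cells of Schubert varieties (helper50)

`B = K[Z]/I_t(Z)`, `R = S/J(φ)` with `φ = detIdx d r t`.  The `K`-algebra map `ψ₀ : S → B[u]`, `X_θ ↦ q_θ u` has kernel
`J(φ)`, sends `X_⊥` to `u`, and is surjective up to powers of `u`.
-/

set_option autoImplicit false

noncomputable section

namespace Groth.Agent.R2.H50.DetCell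

open MvPolynomial W4bk4grassmannian
open Groth.Agent.R2.H50.PlMain Groth.Agent.R2.H50.CellMinor Groth.Agent.R2.H50.DetIdx Groth.Agent.R2.H50.PlCell

section Scaling

variable (K : Type*) [CommRing K] {d n : ℕ} {Q : Type*} [CommRing Q] [Algebra K Q]

theorem aeval_mul_coord (c : Q) (v : Idx d n → Q) (a : Fin d → Fin n) :
    aeval (fun θ => c * v θ) (coord K d n a) = c * aeval v (coord K d n a) := by
  unfold coord
  split_ifs with h
  · simp only [map_mul, map_pow, map_neg, map_one, aeval_X]
    ring
  · simp

theorem aeval_mul_shuffleRel (c : Q) (v : Idx d n → Q) (i j : Idx d n) (r : Fin d) :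
    aeval (fun θ => c * v θ) (shuffleRel K i j r) = c ^ 2 * aeval v (shuffleRel K i j r) := by
  unfold shuffleRel
  rw [map_sum, map_sum, Finset.mul_sum]
  refine Finset.sum_congr rfl fun A _ => ?_
  unfold shuffleTerm
  split_ifs with h
  · simp only [map_mul, map_pow, map_neg, map_one, aeval_mul_coord]
    ring
  · simp

end Scaling

variable (K : Type*) [Field K] (d r : ℕ)

/-- restriction of Plücker polynomials to the opposite big cell `[I ; Z]` -/
def cellEv : PlRing K d (d + r) →ₐ[K] CellRing K d r := aeval fun θ => cellMinor K d r θ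

theorem cellEv_X (θ : Idx d (d + r)) : cellEv K d r (X θ) = cellMinor K d r θ := by
  unfold cellEv
  rw [aeval_X]

/-- the matrix `[I ; Z₀]` -/
def pointCell (z : Fin r × Fin d → K) : Matrix (Fin (d + r)) (Fin d) K :=
  (cellMatrix K d r).map (MvPolynomial.eval z)

theorem eval_cellMinor (z : Fin r × Fin d → K) (a : Fin d → Fin (d + r)) :
    MvPolynomial.eval z ((cellMatrix K d r).submatrix a id).det = ((pointCell K d r z).submatrix a id).det := by
  unfold pointCell
  rw [RingHom.map_det]
  rfl

theorem eval_cellEv (z : Fin r × Fin d → K) (F : PlRing K d (d + r)) :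
    MvPolynomial.eval z (cellEv K d r F) = evalMinors K d (d + r) (pointCell K d r z) F := by
  have h : (MvPolynomial.eval z).comp (cellEv K d r).toRingHom = (evalMinors K d (d + r) (pointCell K d r z)).toRingHom := by
    refine MvPolynomial.ringHom_ext (fun k => ?_) (fun θ => ?_)
    · simp
    · simp only [RingHom.comp_apply, AlgHom.toRingHom_eq_coe, RingHom.coe_coe, cellEv_X]
      unfold cellMinor evalMinors
      rw [aeval_X, eval_cellMinor]
  exact RingHom.congr_fun h F

theorem cellEv_plIdealTop [Infinite K] : plIdealTop (d := d) (n := d + r) K ≤ RingHom.ker (cellEv K d r).toRingHom := by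
  intro F hF
  rw [RingHom.mem_ker]
  apply MvPolynomial.funext
  intro z
  rw [map_zero]
  show MvPolynomial.eval z (cellEv K d r F) = 0
  rw [eval_cellEv]
  exact plIdealTop_le_ker_evalMinors K (pointCell K d r z) hF

theorem cellEv_coord (a : Fin d → Fin (d + r)) :
    cellEv K d r (coord K d (d + r) a) = ((cellMatrix K d r).submatrix a id).det := by
  rw [← Groth.Agent.R2.H50.PlCoord.evalMinors_coord (CellRing K d r) (cellMatrix K d r) a]
  unfold coord
  split_ifs with h
  · simp only [map_mul, map_pow, map_neg, map_one, cellEv_X, evalMinors_cellMatrix_X]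
  · simp

theorem cellMinor_bot : cellMinor K d r (bot d r) = 1 := by
  unfold cellMinor
  have : (cellMatrix K d r).submatrix (bot d r).1 id = 1 := by
    ext i j
    rw [Matrix.submatrix_apply, cellMatrix_apply_lt K d r _ _ (by simp [bot]), Matrix.one_apply]
    simp only [bot, Fin.val_castAdd, id]
    by_cases h : i = j
    · simp [h]
    · have : (i : ℕ) ≠ (j : ℕ) := fun h' => h (Fin.ext h')
      simp [h, this]
  rw [this, Matrix.det_one]

/-- the tuple `(0, …, d+i, …, d-1)` whose minor on `[I ; Z]` is `z_{ij}` -/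
def entryRows (i : Fin r) (j : Fin d) : Fin d → Fin (d + r) :=
  Function.update (fun s => Fin.castAdd r s) j (Fin.natAdd d i)

theorem cellEv_coord_entryRows (i : Fin r) (j : Fin d) :
    cellEv K d r (coord K d (d + r) (entryRows d r i j)) = X (i, j) := by
  classical
  rw [cellEv_coord]
  have : (cellMatrix K d r).submatrix (entryRows d r i j) id =
      Matrix.updateRow (1 : Matrix (Fin d) (Fin d) (CellRing K d r)) j (fun j' => X (i, j')) := by
    ext s j'
    rw [Matrix.submatrix_apply, id]
    by_cases hs : s = j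
    · subst hs
      rw [Matrix.updateRow_self]
      have hge : d ≤ (entryRows d r i s s).val := by simp [entryRows]
      rw [cellMatrix_apply_ge K d r _ _ hge]
      unfold genMatrix
      rw [Matrix.of_apply]
      have hrow : (⟨(entryRows d r i s s).val - d, by have := (entryRows d r i s s).isLt; omega⟩ : Fin r) = i := by
        apply Fin.ext
        simp [entryRows]
      rw [hrow]
    · rw [Matrix.updateRow_ne hs]
      have hlt : (entryRows d r i j s).val < d := by simp [entryRows, Function.update_of_ne hs]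
      rw [cellMatrix_apply_lt K d r _ _ hlt, Matrix.one_apply]
      simp only [entryRows, Function.update_of_ne hs, Fin.val_castAdd]
      by_cases h : s = j'
      · simp [h]
      · have : (s : ℕ) ≠ (j' : ℕ) := fun h' => h (Fin.ext h')
        simp [h, this]
  rw [this, det_updateRow_one]

/-! ### the map to `B[u]` -/

variable (t : ℕ)

/-- the determinantal ring `K[Z]/I_t(Z)` -/
abbrev DetRing : Type _ := CellRing K d r ⧸ CAlgX.minorIdeal (genMatrix K r d) t

/-- `X_θ ↦ q_θ u` -/
def psi0 : PlRing K d (d + r) →ₐ[K] Polynomial (DetRing K d r t) :=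
  aeval fun θ => Polynomial.X * Polynomial.C (Ideal.Quotient.mk _ (cellMinor K d r θ))

theorem psi0_X (θ : Idx d (d + r)) :
    psi0 K d r t (X θ) = Polynomial.X * Polynomial.C (Ideal.Quotient.mk _ (cellMinor K d r θ)) := by
  unfold psi0
  rw [aeval_X]

theorem aeval_C_mk (F : PlRing K d (d + r)) :
    aeval (fun θ => (Polynomial.C (Ideal.Quotient.mk (CAlgX.minorIdeal (genMatrix K r d) t) (cellMinor K d r θ)) :
      Polynomial (DetRing K d r t))) F = Polynomial.C (Ideal.Quotient.mk _ (cellEv K d r F)) := by
  have h : (aeval (fun θ => (Polynomial.C (Ideal.Quotient.mk (CAlgX.minorIdeal (genMatrix K r d) t)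
      (cellMinor K d r θ)) : Polynomial (DetRing K d r t))) : PlRing K d (d + r) →ₐ[K] _).toRingHom =
      (Polynomial.C.comp (Ideal.Quotient.mk (CAlgX.minorIdeal (genMatrix K r d) t))).comp
        (cellEv K d r).toRingHom := by
    refine MvPolynomial.ringHom_ext (fun k => ?_) (fun θ => ?_)
    · simp only [AlgHom.toRingHom_eq_coe, RingHom.coe_coe, RingHom.comp_apply, MvPolynomial.algHom_C]
      rfl
    · simp only [AlgHom.toRingHom_eq_coe, RingHom.coe_coe, RingHom.comp_apply, aeval_X, cellEv_X]
  exact RingHom.congr_fun h F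

theorem psi0_bot : psi0 K d r t (X (bot d r)) = Polynomial.X := by
  rw [psi0_X, cellMinor_bot, map_one, map_one, mul_one]

theorem psi0_coord_entryRows (i : Fin r) (j : Fin d) :
    psi0 K d r t (coord K d (d + r) (entryRows d r i j)) =
      Polynomial.X * Polynomial.C (Ideal.Quotient.mk _ (X (i, j))) := by
  unfold psi0
  rw [aeval_mul_coord, aeval_C_mk, cellEv_coord_entryRows]

/-- evaluation at `u = 1` recovers the restriction to the cell. -/
theorem eval_one_psi0 (F : PlRing K d (d + r)) :
    Polynomial.eval 1 (psi0 K d r t F) = Ideal.Quotient.mk _ (cellEv K d r F) := by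
  have h : (Polynomial.evalRingHom (1 : DetRing K d r t)).comp (psi0 K d r t).toRingHom =
      (Ideal.Quotient.mk (CAlgX.minorIdeal (genMatrix K r d) t)).comp (cellEv K d r).toRingHom := by
    refine MvPolynomial.ringHom_ext (fun k => ?_) (fun θ => ?_)
    · simp only [AlgHom.toRingHom_eq_coe, RingHom.coe_coe, RingHom.comp_apply, MvPolynomial.algHom_C]
      rw [Polynomial.algebraMap_apply, Polynomial.coe_evalRingHom, Polynomial.eval_C]
      rfl
    · simp only [AlgHom.toRingHom_eq_coe, RingHom.coe_coe, RingHom.comp_apply, psi0_X, cellEv_X,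
        Polynomial.coe_evalRingHom, Polynomial.eval_mul, Polynomial.eval_X, Polynomial.eval_C, one_mul]
  exact RingHom.congr_fun h F

variable {t}

theorem schubertVanishing_le_ker_psi0 [Infinite K] (hd : 0 < d) (ht : 0 < t) (htd : t ≤ d) (htr : t ≤ r) :
    schubertVanishing K d (d + r) (detIdx d r t ht htr) ≤ RingHom.ker (psi0 K d r t).toRingHom := by
  rw [← plIdeal_eq_schubertVanishing K _ hd]
  unfold plIdeal
  rw [Ideal.span_le]
  rintro F (⟨i, j, s, hpiv, rfl⟩ | ⟨θ, hθ, rfl⟩)
  · rw [SetLike.mem_coe, RingHom.mem_ker]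
    show psi0 K d r t (shuffleRel K i j s) = 0
    unfold psi0
    rw [aeval_mul_shuffleRel, aeval_C_mk]
    have h0 : cellEv K d r (shuffleRel K i j s) = 0 := by
      have := cellEv_plIdealTop K d r (Ideal.subset_span ⟨i, j, s, hpiv, rfl⟩)
      exact this
    rw [h0, map_zero, map_zero, mul_zero]
  · rw [SetLike.mem_coe, RingHom.mem_ker]
    show psi0 K d r t (X θ) = 0
    rw [psi0_X]
    have hmem : cellMinor K d r θ ∈ CAlgX.minorIdeal (genMatrix K r d) t :=
      cellMinor_mem_minorIdeal K d r t hd ht htd θ ((not_le_detIdx_iff d r t hd ht htd htr θ).1 hθ)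
    rw [Ideal.Quotient.eq_zero_iff_mem.2 hmem, map_zero, mul_zero]

theorem pointCell_apply_lt (z : Fin r × Fin d → K) (i : Fin (d + r)) (j : Fin d) (h : i.val < d) :
    pointCell K d r z i j = if i.val = j.val then 1 else 0 := by
  unfold pointCell
  rw [Matrix.map_apply, cellMatrix_apply_lt K d r i j h]
  split_ifs <;> simp

theorem pointCell_apply_ge (z : Fin r × Fin d → K) (i : Fin (d + r)) (j : Fin d) (h : d ≤ i.val) :
    pointCell K d r z i j = z (⟨i.val - d, by have := i.isLt; omega⟩, j) := by
  unfold pointCell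
  rw [Matrix.map_apply, cellMatrix_apply_ge K d r i j h]
  unfold genMatrix
  rw [Matrix.of_apply, eval_X]

/-- a matrix with invertible top block is `[I ; Z₀] g`. -/
theorem exists_pointCell_mul (A : Matrix (Fin (d + r)) (Fin d) K)
    (hA : (A.submatrix (bot d r).1 id).det ≠ 0) :
    ∃ z : Fin r × Fin d → K, pointCell K d r z * A.submatrix (bot d r).1 id = A := by
  classical
  set g : Matrix (Fin d) (Fin d) K := A.submatrix (bot d r).1 id with hg
  have hu : IsUnit g.det := isUnit_iff_ne_zero.2 hA
  let Z₀ : Matrix (Fin r) (Fin d) K := (A.submatrix (Fin.natAdd d) id) * g⁻¹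
  refine ⟨fun p => Z₀ p.1 p.2, ?_⟩
  ext i j
  rw [Matrix.mul_apply]
  by_cases hi : i.val < d
  · have h1 : ∀ k : Fin d, pointCell K d r (fun p => Z₀ p.1 p.2) i k * g k j =
        if k = ⟨i.val, hi⟩ then g k j else 0 := by
      intro k
      rw [pointCell_apply_lt K d r _ i k hi]
      by_cases hk : k = ⟨i.val, hi⟩
      · rw [if_pos hk, if_pos (by rw [hk]), one_mul]
      · have : ¬ i.val = k.val := fun h' => hk (Fin.ext h'.symm)
        rw [if_neg hk, if_neg this, zero_mul]
    simp_rw [h1]
    rw [Finset.sum_ite_eq' Finset.univ (⟨i.val, hi⟩ : Fin d) (fun k => g k j), if_pos (Finset.mem_univ _)]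
    rw [hg, Matrix.submatrix_apply]
    congr 1
  · have hge : d ≤ i.val := by omega
    have h1 : ∀ k : Fin d, pointCell K d r (fun p => Z₀ p.1 p.2) i k * g k j =
        Z₀ ⟨i.val - d, by have := i.isLt; omega⟩ k * g k j := by
      intro k
      rw [pointCell_apply_ge K d r _ i k hge]
    simp_rw [h1]
    rw [← Matrix.mul_apply]
    have h2 : Z₀ * g = A.submatrix (Fin.natAdd d) id := by
      show (A.submatrix (Fin.natAdd d) id) * g⁻¹ * g = _
      rw [Matrix.mul_assoc, Matrix.nonsing_inv_mul g hu, Matrix.mul_one]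
    rw [h2, Matrix.submatrix_apply]
    congr 1
    apply Fin.ext
    simp only [Fin.val_natAdd]
    omega

theorem det_submatrix_mul (P : Matrix (Fin (d + r)) (Fin d) K) (g : Matrix (Fin d) (Fin d) K)
    (a : Fin d → Fin (d + r)) : ((P * g).submatrix a id).det = (P.submatrix a id).det * g.det := by
  have : (P * g).submatrix a id = P.submatrix a id * g := by
    ext i j
    rw [Matrix.submatrix_apply, Matrix.mul_apply, Matrix.mul_apply]
    rfl
  rw [this, Matrix.det_mul]

theorem ker_psi0_le [Infinite K] (hd : 0 < d) (ht : 0 < t) (htd : t ≤ d) (htr : t ≤ r) :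
    RingHom.ker (psi0 K d r t).toRingHom ≤ schubertVanishing K d (d + r) (detIdx d r t ht htr) := by
  intro F hF
  have hF0 : psi0 K d r t F = 0 := hF
  have hprime := schubertVanishing_isPrime K (detIdx d r t ht htr) hd
  have hbot := X_notMem_schubertVanishing K (detIdx d r t ht htr) (bot d r) hd (bot_le r _)
  have key : X (bot d r) * F ∈ schubertVanishing K d (d + r) (detIdx d r t ht htr) := by
    unfold schubertVanishing
    rw [Ideal.mem_iInf]
    intro A
    rw [Ideal.mem_iInf]
    intro hA
    rw [RingHom.mem_ker]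
    show evalMinors K d (d + r) A (X (bot d r) * F) = 0
    rw [map_mul]
    by_cases hδ : (A.submatrix (bot d r).1 id).det = 0
    · have : evalMinors K d (d + r) A (X (bot d r)) = 0 := by
        unfold evalMinors
        rw [aeval_X]
        exact hδ
      rw [this, zero_mul]
    · obtain ⟨z, hz⟩ := exists_pointCell_mul K d r A hδ
      set δ := (A.submatrix (bot d r).1 id).det with hδdef
      have hdet : ∀ a : Fin d → Fin (d + r), (A.submatrix a id).det =
          ((pointCell K d r z).submatrix a id).det * δ := by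
        intro a
        conv_lhs => rw [← hz]
        exact det_submatrix_mul K d r _ _ a
      -- the point `z` has rank `< t`
      have hvan : ∀ f ∈ CAlgX.minorIdeal (genMatrix K r d) t, MvPolynomial.eval z f = 0 := by
        intro f hf
        have hle : CAlgX.minorIdeal (genMatrix K r d) t ≤ RingHom.ker (MvPolynomial.eval z) := by
          unfold CAlgX.minorIdeal
          rw [Ideal.span_le]
          rintro _ ⟨⟨f', g'⟩, rfl⟩
          have hmem := minor_mem_span_cellMinor K d r t hd ht htd f' g'
          have hle2 : Ideal.span {q : CellRing K d r | ∃ θ : Idx d (d + r),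
              d ≤ (θ.1 ⟨d - t, Nat.sub_lt hd ht⟩).val ∧ q = cellMinor K d r θ} ≤
              RingHom.ker (MvPolynomial.eval z) := by
            rw [Ideal.span_le]
            rintro _ ⟨θ, hθ, rfl⟩
            rw [SetLike.mem_coe, RingHom.mem_ker]
            unfold cellMinor
            rw [eval_cellMinor]
            have h1 := hA θ ((not_le_detIdx_iff d r t hd ht htd htr θ).2 hθ)
            rw [hdet] at h1
            exact (mul_eq_zero.1 h1).resolve_right hδ
          exact hle2 hmem
        exact hle hf
      let ev : DetRing K d r t →+* K := Ideal.Quotient.lift _ (MvPolynomial.eval z) hvan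
      have hcomp : (Polynomial.eval₂RingHom ev δ).comp (psi0 K d r t).toRingHom =
          (evalMinors K d (d + r) A).toRingHom := by
        refine MvPolynomial.ringHom_ext (fun k => ?_) (fun θ => ?_)
        · simp only [AlgHom.toRingHom_eq_coe, RingHom.coe_coe, RingHom.comp_apply, MvPolynomial.algHom_C]
          rw [Polynomial.algebraMap_apply, Polynomial.coe_eval₂RingHom, Polynomial.eval₂_C]
          show ev (Ideal.Quotient.mk _ (C k)) = _
          rw [Ideal.Quotient.lift_mk, eval_C]
          rfl
        · simp only [AlgHom.toRingHom_eq_coe, RingHom.coe_coe, RingHom.comp_apply, psi0_X,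
            Polynomial.coe_eval₂RingHom, Polynomial.eval₂_mul, Polynomial.eval₂_X, Polynomial.eval₂_C]
          show δ * ev (Ideal.Quotient.mk _ (cellMinor K d r θ)) = _
          rw [Ideal.Quotient.lift_mk]
          unfold cellMinor evalMinors
          rw [aeval_X, eval_cellMinor, hdet, mul_comm]
      have h2 : evalMinors K d (d + r) A F = Polynomial.eval₂RingHom ev δ (psi0 K d r t F) :=
        (RingHom.congr_fun hcomp F).symm
      rw [h2, hF0, map_zero, mul_zero]
  exact (hprime.mem_or_mem key).resolve_left hbot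

/-- the property of being hit by `ψ₀` up to a power of `u` -/
def Hit (q : Polynomial (DetRing K d r t)) : Prop :=
  ∃ (k : ℕ) (F : PlRing K d (d + r)), psi0 K d r t F = Polynomial.X ^ k * q

theorem hit_add {q₁ q₂ : Polynomial (DetRing K d r t)} (h₁ : Hit K d r q₁) (h₂ : Hit K d r q₂) :
    Hit K d r (q₁ + q₂) := by
  obtain ⟨k₁, F₁, h₁⟩ := h₁
  obtain ⟨k₂, F₂, h₂⟩ := h₂
  refine ⟨k₁ + k₂, X (bot d r) ^ k₂ * F₁ + X (bot d r) ^ k₁ * F₂, ?_⟩
  rw [map_add, map_mul, map_mul, map_pow, map_pow, psi0_bot, h₁, h₂]
  ring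

theorem hit_mul {q₁ q₂ : Polynomial (DetRing K d r t)} (h₁ : Hit K d r q₁) (h₂ : Hit K d r q₂) :
    Hit K d r (q₁ * q₂) := by
  obtain ⟨k₁, F₁, h₁⟩ := h₁
  obtain ⟨k₂, F₂, h₂⟩ := h₂
  refine ⟨k₁ + k₂, F₁ * F₂, ?_⟩
  rw [map_mul, h₁, h₂]
  ring

theorem hit_C_mk (f : CellRing K d r) :
    Hit K d r (Polynomial.C (Ideal.Quotient.mk (CAlgX.minorIdeal (genMatrix K r d) t) f)) := by
  induction f using MvPolynomial.induction_on with
  | C a =>
    refine ⟨0, C a, ?_⟩
    rw [pow_zero, one_mul, MvPolynomial.algHom_C, Polynomial.algebraMap_apply]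
    rfl
  | add f g hf hg =>
    rw [map_add, map_add]
    exact hit_add K d r hf hg
  | mul_X f p hf =>
    rw [map_mul, map_mul]
    refine hit_mul K d r hf ?_
    obtain ⟨i, j⟩ := p
    exact ⟨1, coord K d (d + r) (entryRows d r i j), by rw [psi0_coord_entryRows, pow_one]⟩

theorem hit_all (q : Polynomial (DetRing K d r t)) : Hit K d r q := by
  induction q using Polynomial.induction_on with
  | C a =>
    obtain ⟨f, rfl⟩ := Ideal.Quotient.mk_surjective a
    exact hit_C_mk K d r f
  | add p q hp hq => exact hit_add K d r hp hq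
  | monomial n a h =>
    rw [pow_succ, ← mul_assoc]
    exact hit_mul K d r h ⟨0, X (bot d r), by rw [psi0_bot, pow_zero, one_mul]⟩

end Groth.Agent.R2.H50.DetCell
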