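import Mathlib
import Groth.Prelude.Def_W4bk4grassmannianPl
import Groth.Agent.R2.H50MonOrd
import Groth.Agent.R2.H50PlLead
import Groth.Agent.R2.H50PlMain

/-!
# Leading monomials of minors of generic matrices with prescribed zero pattern (helper50)

Generalises `H50PlLead` from Schubert-shaped generic matrices to generic matrices with an arbitrary zero pattern
(`mask`) containing the relevant diagonals.  Used for Richardson-shaped matrices.
-/

set_option autoImplicit false

noncomputable section

namespace Groth.Agent.R2.H50.PlMask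

open MvPolynomial W4bk4grassmannian
open scoped MonomialOrder
open Groth.Agent.R2.H50.PlLead Groth.Agent.R2.H50.PlMain

variable {d n : ℕ} (K : Type*) [Field K]

/-- degrees in a linear combination of polynomials with pairwise distinct leading monomials -/
theorem degree_le_degree_sum {σ : Type*} (m : MonomialOrder σ) {ι : Type*} (f : ι → MvPolynomial σ K)
    (hf0 : ∀ i, f i ≠ 0) (hinj : Function.Injective fun i => m.degree (f i)) (s : Finset ι) (g : ι → K)
    (i : ι) (his : i ∈ s) (hgi : g i ≠ 0) :
    m.degree (f i) ≼[m] m.degree (∑ j ∈ s, g j • f j) := by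
  classical
  set s' := s.filter (fun i => g i ≠ 0) with hs'
  have hs'ne : s'.Nonempty := ⟨i, by simp [hs', his, hgi]⟩
  obtain ⟨i', his', hmax⟩ := Finset.exists_max_image s' (fun i => m.toSyn (m.degree (f i))) hs'ne
  have hi's : i' ∈ s := (Finset.mem_filter.1 his').1
  have hgi' : g i' ≠ 0 := (Finset.mem_filter.1 his').2
  have hc : coeff (m.degree (f i')) (∑ j ∈ s, g j • f j) ≠ 0 := by
    simp only [coeff_sum, coeff_smul, smul_eq_mul]
    rw [Finset.sum_eq_single i']
    · have : coeff (m.degree (f i')) (f i') ≠ 0 := by
        rw [← MonomialOrder.leadingCoeff]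
        exact (m.leadingCoeff_ne_zero_iff).2 (hf0 i')
      exact mul_ne_zero hgi' this
    · intro j hjs hji
      by_cases hgj : g j = 0
      · rw [hgj, zero_mul]
      · have hjs' : j ∈ s' := by simp [hs', hjs, hgj]
        have hle := hmax j hjs'
        have hne : m.degree (f j) ≠ m.degree (f i') := fun h => hji (hinj h)
        have hlt : m.degree (f j) ≺[m] m.degree (f i') :=
          lt_of_le_of_ne hle (fun h => hne (m.toSyn.injective h))
        rw [m.coeff_eq_zero_of_lt hlt, mul_zero]
    · intro h
      exact absurd hi's h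
  have h1 : m.degree (f i') ≼[m] m.degree (∑ j ∈ s, g j • f j) := m.le_degree (mem_support_iff.2 hc)
  exact le_trans (hmax i (by simp [hs', his, hgi])) h1

/-- The generic matrix with zero pattern `S`: entry `(i, t)` is the variable `(t, i)` if `S i t`, else `0`. -/
def genMask (S : Fin n → Fin d → Prop) [∀ i t, Decidable (S i t)] :
    Matrix (Fin n) (Fin d) (MvPolynomial (Var d n) K) :=
  Matrix.of fun i t => if S i t then X (toLex (t, i)) else 0

variable (S : Fin n → Fin d → Prop) [∀ i t, Decidable (S i t)]

/-- the minor of the generic masked matrix on the rows `θ`. -/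
def minorM (θ : Idx d n) : MvPolynomial (Var d n) K := ((genMask K S).submatrix θ.1 id).det

theorem prod_entries (θ : Idx d n) (σ : Equiv.Perm (Fin d)) :
    ∏ t, ((genMask K S).submatrix θ.1 id) (σ t) t =
      monomial (termExp θ.1 σ) (∏ t, if S (θ.1 (σ t)) t then (1 : K) else 0) := by
  unfold termExp
  rw [monomial_sum_prod]
  refine Finset.prod_congr rfl fun t _ => ?_
  simp only [genMask, Matrix.submatrix_apply, Matrix.of_apply, id_eq]
  split_ifs with h
  · rfl
  · simp

theorem minorM_eq (θ : Idx d n) (hθ : ∀ t, S (θ.1 t) t) (hd : 0 < d) :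
    ∃ R : MvPolynomial (Var d n) K, minorM K S θ = monomial (termExp θ.1 1) 1 + R ∧
      (MonomialOrder.lex (σ := Var d n)).degree R ≺[MonomialOrder.lex] termExp θ.1 1 := by
  classical
  refine ⟨∑ σ ∈ Finset.univ.erase (1 : Equiv.Perm (Fin d)),
    Equiv.Perm.sign σ • ∏ t, ((genMask K S).submatrix θ.1 id) (σ t) t, ?_, ?_⟩
  · unfold minorM
    rw [Matrix.det_apply, ← Finset.add_sum_erase _ _ (Finset.mem_univ (1 : Equiv.Perm (Fin d)))]
    congr 1
    rw [Equiv.Perm.sign_one, one_smul, prod_entries]
    congr 1
    refine Finset.prod_eq_one fun t _ => ?_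
    rw [if_pos]
    exact hθ t
  · have hpos : (⊥ : (MonomialOrder.lex (σ := Var d n)).syn) <
        (MonomialOrder.lex (σ := Var d n)).toSyn (termExp θ.1 1) := by
      rw [bot_lt_iff_ne_bot, MonomialOrder.bot_eq_zero, Ne, MonomialOrder.toSyn_eq_zero_iff]
      intro h
      have h1 := termExp_one_apply θ.1 ⟨0, hd⟩ (θ.1 ⟨0, hd⟩)
      rw [h, if_pos rfl] at h1
      simp at h1
    refine lt_of_le_of_lt MonomialOrder.degree_sum_le ?_
    rw [Finset.sup_lt_iff hpos]
    intro σ hσ
    have hσ1 : σ ≠ 1 := Finset.ne_of_mem_erase hσ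
    refine lt_of_le_of_lt ?_ (termExp_lt θ.1 θ.2 σ hσ1)
    rw [prod_entries, Units.smul_def, ← Int.cast_smul_eq_zsmul K]
    exact le_trans MonomialOrder.degree_smul_le (MonomialOrder.degree_monomial_le _)

theorem monic_minorM (θ : Idx d n) (hθ : ∀ t, S (θ.1 t) t) (hd : 0 < d) :
    (MonomialOrder.lex (σ := Var d n)).Monic (minorM K S θ) := by
  obtain ⟨R, hR, hlt⟩ := minorM_eq K S θ hθ hd
  rw [hR]
  refine MonomialOrder.Monic.add_of_lt MonomialOrder.monic_monomial_one ?_
  classical
  rw [MonomialOrder.degree_monomial, if_neg one_ne_zero]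
  exact hlt

theorem degree_minorM (θ : Idx d n) (hθ : ∀ t, S (θ.1 t) t) (hd : 0 < d) :
    (MonomialOrder.lex (σ := Var d n)).degree (minorM K S θ) = termExp θ.1 1 := by
  classical
  obtain ⟨R, hR, hlt⟩ := minorM_eq K S θ hθ hd
  rw [hR, MonomialOrder.degree_add_of_lt]
  · rw [MonomialOrder.degree_monomial, if_neg one_ne_zero]
  · rw [MonomialOrder.degree_monomial, if_neg one_ne_zero]
    exact hlt

/-- evaluation of Plücker polynomials at the minors of the generic masked matrix -/
def evM : PlRing K d n →ₐ[K] MvPolynomial (Var d n) K :=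
  aeval fun θ : Idx d n => minorM K S θ

theorem evM_X (θ : Idx d n) : evM K S (X θ) = minorM K S θ := by
  unfold evM
  rw [aeval_X]

theorem evM_chainMon {m : ℕ} (c : Fin m → Idx d n) :
    evM K S (chainMon K c) = ∏ k, minorM K S (c k) := by
  unfold chainMon
  rw [map_prod]
  refine Finset.prod_congr rfl fun k _ => evM_X K S (c k)

theorem monic_evM_chainMon (hd : 0 < d) {m : ℕ} (c : Fin m → Idx d n) (hc : ∀ k t, S ((c k).1 t) t) :
    (MonomialOrder.lex (σ := Var d n)).Monic (evM K S (chainMon K c)) := by
  rw [evM_chainMon]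
  exact MonomialOrder.Monic.prod fun k _ => monic_minorM K S (c k) (hc k) hd

theorem degree_evM_chainMon (hd : 0 < d) {m : ℕ} (c : Fin m → Idx d n) (hc : ∀ k t, S ((c k).1 t) t) :
    (MonomialOrder.lex (σ := Var d n)).degree (evM K S (chainMon K c)) = chainExp c := by
  rw [evM_chainMon, MonomialOrder.degree_prod]
  · unfold chainExp
    refine Finset.sum_congr rfl fun k _ => degree_minorM K S (c k) (hc k) hd
  · intro k _
    exact (monic_minorM K S (c k) (hc k) hd).ne_zero

/-- the chains all of whose members have their diagonal in the mask -/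
def onMask : Set (AllStd d n) := {c | ∀ k t, S ((c.2.1 k).1 t) t}

theorem linearIndepOn_evM (hd : 0 < d) :
    LinearIndepOn K (fun c : AllStd d n => evM K S (stdMon K c)) (onMask S) := by
  unfold LinearIndepOn
  apply Groth.Agent.R2.H50.MonOrd.linearIndependent_of_degree_injective
    (MonomialOrder.lex (σ := Var d n))
  · intro c
    exact (monic_evM_chainMon K S hd c.1.2.1 c.2).ne_zero
  · intro c c' h
    simp only [stdMon] at h
    rw [degree_evM_chainMon K S hd c.1.2.1 c.2, degree_evM_chainMon K S hd c'.1.2.1 c'.2] at h
    exact Subtype.ext (chainExp_injective hd h)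

/-- the matrix with zero pattern `S` and entries given by a point `a`. -/
def pointMatrix (a : Var d n → K) : Matrix (Fin n) (Fin d) K :=
  Matrix.of fun i t => if S i t then a (toLex (t, i)) else 0

theorem eval_evM (a : Var d n → K) (f : PlRing K d n) :
    eval a (evM K S f) = evalMinors K d n (pointMatrix K S a) f := by
  have : ((MvPolynomial.aeval a : MvPolynomial (Var d n) K →ₐ[K] K).comp (evM K S)) =
      evalMinors K d n (pointMatrix K S a) := by
    apply MvPolynomial.algHom_ext
    intro θ
    rw [AlgHom.comp_apply, evM_X]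
    unfold evalMinors minorM
    rw [aeval_X, ← AlgHom.coe_toRingHom, RingHom.map_det]
    congr 1
    ext s t
    simp only [genMask, pointMatrix, RingHom.mapMatrix_apply, Matrix.map_apply,
      Matrix.submatrix_apply, Matrix.of_apply, id_eq]
    split_ifs with h
    · simp
    · simp
  have h2 := congrArg (fun g => g f) this
  simp only [AlgHom.comp_apply] at h2
  rw [← h2]
  rfl

/-- a Plücker polynomial vanishing at all matrices with zero pattern `S` is killed by `evM`. -/
theorem evM_eq_zero_of_forall [Infinite K] (f : PlRing K d n)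
    (h : ∀ a : Var d n → K, evalMinors K d n (pointMatrix K S a) f = 0) : evM K S f = 0 := by
  apply MvPolynomial.funext
  intro a
  rw [map_zero, eval_evM]
  exact h a

theorem vanishing_le_ker_evM [Infinite K] : vanishing K d n ≤ RingHom.ker (evM K S).toRingHom := by
  intro f hf
  rw [RingHom.mem_ker]
  apply evM_eq_zero_of_forall
  intro a
  unfold vanishing at hf
  rw [Ideal.mem_iInf] at hf
  exact hf (pointMatrix K S a)

/-- the coefficients of standard monomials on the mask in a combination killed by `evM` vanish, provided the other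
standard monomials are killed. -/
theorem coeff_eq_zero_of_evM (hd : 0 < d) (l : AllStd d n →₀ K)
    (h1 : evM K S (Finsupp.linearCombination K (stdMon K) l) = 0)
    (hv0 : ∀ c, c ∉ onMask S → evM K S (stdMon K c) = 0) :
    ∀ c ∈ onMask S, l c = 0 := by
  classical
  have h1' : Finsupp.linearCombination K (fun c : AllStd d n => evM K S (stdMon K c)) l = 0 := by
    have e : (evM K S) (Finsupp.linearCombination K (stdMon K) l) =
        (evM K S).toLinearMap (Finsupp.linearCombination K (stdMon K) l) := rfl
    rw [e, Finsupp.apply_linearCombination] at h1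
    exact h1
  have h2 : Finsupp.linearCombination K (fun c : AllStd d n => evM K S (stdMon K c))
      (l.filter (· ∈ onMask S)) = 0 := by
    rw [← h1']
    conv_rhs => rw [← Finsupp.filter_add_filter_not l (· ∈ onMask S)]
    rw [map_add]
    have : Finsupp.linearCombination K (fun c : AllStd d n => evM K S (stdMon K c))
        (l.filter fun c => ¬ c ∈ onMask S) = 0 := by
      rw [Finsupp.linearCombination_apply, Finsupp.sum]
      refine Finset.sum_eq_zero fun c hc => ?_
      have hc' : ¬ c ∈ onMask S := by
        rw [Finsupp.support_filter, Finset.mem_filter] at hc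
        exact hc.2
      rw [hv0 c hc', smul_zero]
    rw [this, add_zero]
  have h3 := (linearIndepOn_iff.1 (linearIndepOn_evM K S hd)) (l.filter (· ∈ onMask S))
    (by
      rw [Finsupp.mem_supported]
      intro c hc
      rw [Finset.mem_coe, Finsupp.support_filter, Finset.mem_filter] at hc
      exact hc.2) h2
  intro c hc
  have := congrArg (fun g => g c) h3
  simp only [Finsupp.coe_zero, Pi.zero_apply] at this
  rw [Finsupp.filter_apply_pos (· ∈ onMask S) l hc] at this
  exact this

end Groth.Agent.R2.H50.PlMask
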