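import Mathlib
import Groth.Prelude.Def_W4bk4grassmannianPl
import Groth.Agent.R2.H50PlMask
import Groth.Agent.R2.H50PlUnion

/-!
# Richardson-shaped generic matrices (helper50)

The generic matrix with entries `(i, t)`, `v t ≤ i ≤ w t`, parametrises the Richardson variety `X(w) ∩ X^v`.
* `ker_evM_rich_eq`: the kernel of the evaluation at its minors is `J(w) + (X θ : θ ≱ v)`; hence this ideal is prime.
* opposite Schubert conditions `oppMask`.
-/

set_option autoImplicit false

noncomputable section

namespace Groth.Agent.R2.H50.PlRich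

open MvPolynomial W4bk4grassmannian
open Groth.Agent.R2.H50.PlLead Groth.Agent.R2.H50.PlMain Groth.Agent.R2.H50.PlMask
  Groth.Agent.R2.H50.PlSchubert Groth.Agent.R2.H50.PlUnion

variable {d n : ℕ} (K : Type*) [Field K]

/-- pigeonhole: a permutation of `Fin d` sends some `t ≥ t0` to some `σ t ≤ t0`. -/
theorem exists_ge_ge (σ : Equiv.Perm (Fin d)) (t0 : Fin d) : ∃ t, t0 ≤ t ∧ σ t ≤ t0 := by
  by_contra h
  push Not at h
  have h1 : (Finset.Ici t0).card ≤ (Finset.Ioi t0).card :=
    Finset.card_le_card_of_injOn σ (fun t ht => Finset.mem_Ioi.2 (h t (Finset.mem_Ici.1 ht)))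
      (fun a _ b _ hab => σ.injective hab)
  rw [Fin.card_Ici, Fin.card_Ioi] at h1
  have := t0.2
  omega

/-- A matrix whose entries `(i, t)` with `i < v t` vanish has vanishing minors on all rows `φ ≱ v`. -/
theorem det_submatrix_eq_zero_of_not_ge (v φ : Idx d n) (A : Matrix (Fin n) (Fin d) K)
    (hA : ∀ i t, i < v.1 t → A i t = 0) (h : ¬ v ≤ φ) : (A.submatrix φ.1 id).det = 0 := by
  have h' : ∃ t0, φ.1 t0 < v.1 t0 := by
    by_contra hcon
    push Not at hcon
    exact h hcon
  obtain ⟨t0, ht0⟩ := h'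
  rw [Matrix.det_apply]
  refine Finset.sum_eq_zero fun σ _ => ?_
  obtain ⟨t, ht1, ht2⟩ := exists_ge_ge σ t0
  have hz : (A.submatrix φ.1 id) (σ t) t = 0 := by
    simp only [Matrix.submatrix_apply, id_eq]
    apply hA
    calc φ.1 (σ t) ≤ φ.1 t0 := φ.2.monotone ht2
      _ < v.1 t0 := ht0
      _ ≤ v.1 t := v.2.monotone ht1
  have hp : ∏ i, (A.submatrix φ.1 id) (σ i) i = 0 := Finset.prod_eq_zero (Finset.mem_univ t) hz
  rw [hp, smul_zero]

/-- the Richardson zero pattern -/
def richMask (v w : Idx d n) : Fin n → Fin d → Prop := fun i t => v.1 t ≤ i ∧ i ≤ w.1 t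

instance (v w : Idx d n) (i : Fin n) (t : Fin d) : Decidable (richMask v w i t) := by
  unfold richMask
  infer_instance

theorem mem_onMask_rich (v w : Idx d n) (c : AllStd d n) :
    c ∈ onMask (richMask v w) ↔ ∀ k, v ≤ c.2.1 k ∧ c.2.1 k ≤ w := by
  unfold onMask richMask
  constructor
  · intro h k
    exact ⟨fun t => (h k t).1, fun t => (h k t).2⟩
  · intro h k t
    exact ⟨(h k).1 t, (h k).2 t⟩

theorem evM_rich_X_eq_zero [Infinite K] (v w θ : Idx d n) (h : ¬ (v ≤ θ ∧ θ ≤ w)) :
    evM K (richMask v w) (X θ) = 0 := by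
  apply evM_eq_zero_of_forall
  intro a
  unfold evalMinors
  rw [aeval_X]
  by_cases h1 : v ≤ θ
  · have h2 : ¬ θ ≤ w := fun h2 => h ⟨h1, h2⟩
    refine det_submatrix_eq_zero_of_not_le K w θ _ (fun i t hit => ?_) h2
    simp only [PlMask.pointMatrix, Matrix.of_apply]
    rw [if_neg]
    intro hS
    exact absurd hS.2 (not_le.2 hit)
  · refine det_submatrix_eq_zero_of_not_ge K v θ _ (fun i t hit => ?_) h1
    simp only [PlMask.pointMatrix, Matrix.of_apply]
    rw [if_neg]
    intro hS
    exact absurd hS.1 (not_le.2 hit)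

theorem evM_rich_stdMon_eq_zero [Infinite K] (v w : Idx d n) (c : AllStd d n)
    (hc : c ∉ onMask (richMask v w)) : evM K (richMask v w) (stdMon K c) = 0 := by
  rw [mem_onMask_rich] at hc
  push Not at hc
  obtain ⟨k, hk⟩ := hc
  unfold stdMon
  rw [evM_chainMon]
  refine Finset.prod_eq_zero (Finset.mem_univ k) ?_
  rw [← evM_X]
  exact evM_rich_X_eq_zero K v w _ (fun h => hk h.1 h.2)

theorem schubertVanishing_le_ker_evM_rich [Infinite K] (v w : Idx d n) :
    schubertVanishing K d n w ≤ RingHom.ker (evM K (richMask v w)).toRingHom := by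
  intro f hf
  rw [RingHom.mem_ker]
  apply evM_eq_zero_of_forall
  intro a
  unfold schubertVanishing at hf
  rw [Ideal.mem_iInf] at hf
  have h1 := hf (PlMask.pointMatrix K (richMask v w) a)
  rw [Ideal.mem_iInf] at h1
  exact h1 (fun φ hφ => det_submatrix_eq_zero_of_not_le K w φ _ (fun i t hit => by
    simp only [PlMask.pointMatrix, Matrix.of_apply]
    rw [if_neg]
    intro hS
    exact absurd hS.2 (not_le.2 hit)) hφ)

/-- the ideal of the Richardson variety `X(w) ∩ X^v` -/
def richIdeal (v w : Idx d n) : Ideal (PlRing K d n) :=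
  schubertVanishing K d n w ⊔ Ideal.span {f | ∃ θ : Idx d n, ¬ v ≤ θ ∧ f = X θ}

theorem ker_evM_rich_eq [Infinite K] (v w : Idx d n) (hd : 0 < d) :
    RingHom.ker (evM K (richMask v w)).toRingHom = richIdeal K v w := by
  apply le_antisymm
  · intro f hf
    obtain ⟨l, hl⟩ := exists_rep K f
    have hker := schubertVanishing_le_ker_evM_rich K v w
    have h0 : evM K (richMask v w) (Finsupp.linearCombination K (stdMon K) l) = 0 := by
      have h1 : f - Finsupp.linearCombination K (stdMon K) l ∈ RingHom.ker (evM K (richMask v w)).toRingHom :=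
        hker (plIdealTop_le_schubertVanishing K w hl)
      have h2 := (RingHom.ker (evM K (richMask v w)).toRingHom).sub_mem hf h1
      rw [sub_sub_cancel] at h2
      exact h2
    have h2 := coeff_eq_zero_of_evM K (richMask v w) hd l h0
      (fun c hc => evM_rich_stdMon_eq_zero K v w c hc)
    have h3 := linearCombination_mem K (richIdeal K v w) (onMask (richMask v w)) ?_ l h2
    · have := (richIdeal K v w).add_mem
        ((le_trans (plIdealTop_le_schubertVanishing K w) le_sup_left : _ ≤ richIdeal K v w) hl) h3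
      rwa [sub_add_cancel] at this
    · intro c hc
      rw [mem_onMask_rich] at hc
      push Not at hc
      obtain ⟨k, hk⟩ := hc
      by_cases h1 : v ≤ c.2.1 k
      · refine (le_sup_left : schubertVanishing K d n w ≤ richIdeal K v w) ?_
        exact chainMon_mem_of_X_mem K _ c.2.1 k (X_mem_schubertVanishing K w _ (hk h1))
      · refine (le_sup_right : _ ≤ richIdeal K v w) ?_
        exact chainMon_mem_of_X_mem K _ c.2.1 k (Ideal.subset_span ⟨_, h1, rfl⟩)
  · unfold richIdeal
    refine sup_le (schubertVanishing_le_ker_evM_rich K v w) ?_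
    rw [Ideal.span_le]
    rintro f ⟨θ, hθ, rfl⟩
    rw [SetLike.mem_coe, RingHom.mem_ker]
    exact evM_rich_X_eq_zero K v w θ (fun h => hθ h.1)

theorem richIdeal_isPrime [Infinite K] (v w : Idx d n) (hd : 0 < d) : (richIdeal K v w).IsPrime := by
  rw [← ker_evM_rich_eq K v w hd]
  exact RingHom.ker_isPrime _

/-! ### opposite Schubert conditions -/

/-- the opposite Schubert zero pattern -/
def oppMask (v : Idx d n) : Fin n → Fin d → Prop := fun i t => v.1 t ≤ i

instance (v : Idx d n) (i : Fin n) (t : Fin d) : Decidable (oppMask v i t) := by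
  unfold oppMask
  infer_instance

theorem mem_onMask_opp (v : Idx d n) (c : AllStd d n) :
    c ∈ onMask (oppMask v) ↔ ∀ k, v ≤ c.2.1 k := by
  unfold onMask oppMask
  constructor
  · intro h k t
    exact h k t
  · intro h k t
    exact h k t

theorem evM_opp_X_eq_zero [Infinite K] (v θ : Idx d n) (h : ¬ v ≤ θ) :
    evM K (oppMask v) (X θ) = 0 := by
  apply evM_eq_zero_of_forall
  intro a
  unfold evalMinors
  rw [aeval_X]
  refine det_submatrix_eq_zero_of_not_ge K v θ _ (fun i t hit => ?_) h
  simp only [PlMask.pointMatrix, Matrix.of_apply]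
  rw [if_neg]
  intro hS
  exact absurd hS (not_le.2 hit)

theorem evM_opp_stdMon_eq_zero [Infinite K] (v : Idx d n) (c : AllStd d n)
    (hc : c ∉ onMask (oppMask v)) : evM K (oppMask v) (stdMon K c) = 0 := by
  rw [mem_onMask_opp] at hc
  push Not at hc
  obtain ⟨k, hk⟩ := hc
  unfold stdMon
  rw [evM_chainMon]
  refine Finset.prod_eq_zero (Finset.mem_univ k) ?_
  rw [← evM_X]
  exact evM_opp_X_eq_zero K v _ hk

end Groth.Agent.R2.H50.PlRich
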