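import Mathlib
import Groth.Prelude.Def_W4bk4grassmannianPl
import Groth.Agent.S11268

/-!
# Combinatorics of Schubert divisors (helper50)
-/

set_option autoImplicit false

namespace Groth.Agent.R2.H50.PlDivisors

open W4bk4grassmannian

variable {d n : ℕ}

theorem le_val (a : Idx d n) (t : Fin d) : t.val ≤ (a.1 t).val :=
  Groth.Agent.S11268.le_val d n a t.val t.2

theorem sum_deficit (φ τ : Idx d n) (h : φ ≤ τ) :
    codeg φ + ∑ t, ((τ.1 t).val - (φ.1 t).val) = codeg τ := by
  unfold codeg
  rw [← Finset.sum_add_distrib]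
  refine Finset.sum_congr rfl fun t _ => ?_
  have h1 := le_val φ t
  have h2 : (φ.1 t).val ≤ (τ.1 t).val := Fin.le_def.1 (h t)
  omega

theorem eq_of_le_of_codeg_eq (φ φ' : Idx d n) (h : φ ≤ φ') (hc : codeg φ = codeg φ') : φ = φ' := by
  have h1 := sum_deficit φ φ' h
  have h2 : ∑ t, ((φ'.1 t).val - (φ.1 t).val) = 0 := by omega
  rw [Finset.sum_eq_zero_iff] at h2
  apply Subtype.ext
  funext t
  have h3 := h2 t (Finset.mem_univ t)
  have h4 : (φ.1 t).val ≤ (φ'.1 t).val := Fin.le_def.1 (h t)
  apply Fin.ext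
  omega

theorem deficit_unique (τ φ : Idx d n) (hφ : φ ∈ divisors τ) (t₁ t₂ : Fin d) (hne : t₁ ≠ t₂)
    (h1 : φ.1 t₁ < τ.1 t₁) (h2 : φ.1 t₂ < τ.1 t₂) : False := by
  classical
  have hle : φ ≤ τ := le_of_lt hφ.1
  have h3 := sum_deficit φ τ hle
  have h4 : ∑ t, ((τ.1 t).val - (φ.1 t).val) = 1 := by
    have := hφ.2
    omega
  have h5 : ∑ t ∈ ({t₁, t₂} : Finset (Fin d)), ((τ.1 t).val - (φ.1 t).val) ≤
      ∑ t, ((τ.1 t).val - (φ.1 t).val) :=
    Finset.sum_le_sum_of_subset (Finset.subset_univ _)
  rw [Finset.sum_pair hne, h4] at h5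
  have h6 := Fin.lt_def.1 h1
  have h7 := Fin.lt_def.1 h2
  omega

/-- decreasing a movable entry of `τ` gives a Schubert divisor -/
theorem exists_dec (τ : Idx d n) (t₀ : Fin d) (h1 : 0 < (τ.1 t₀).val)
    (h2 : ∀ t' : Fin d, t'.val + 1 = t₀.val → (τ.1 t').val + 1 < (τ.1 t₀).val) :
    ∃ φ ∈ divisors τ, (φ.1 t₀).val + 1 = (τ.1 t₀).val ∧ ∀ t', t' ≠ t₀ → φ.1 t' = τ.1 t' := by
  classical
  let φf : Fin d → Fin n := fun t => if t = t₀ then ⟨(τ.1 t₀).val - 1, by omega⟩ else τ.1 t
  have hφt₀ : (φf t₀).val = (τ.1 t₀).val - 1 := by simp [φf]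
  have hφne : ∀ t, t ≠ t₀ → φf t = τ.1 t := by
    intro t ht
    simp [φf, ht]
  have hφmono : StrictMono φf := by
    intro s t hst
    by_cases hs : s = t₀
    · have ht : t ≠ t₀ := by
        rintro rfl
        rw [hs] at hst
        exact lt_irrefl _ hst
      rw [hφne t ht, Fin.lt_def, hs, hφt₀]
      have := Fin.lt_def.mp (τ.2 (hs ▸ hst))
      omega
    · by_cases ht : t = t₀
      · rw [hφne s hs, Fin.lt_def, ht, hφt₀]
        subst ht
        have hst' := Fin.lt_def.1 hst
        -- the predecessor of `t`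
        have hpred : t.val - 1 < d := by omega
        have h3 := h2 ⟨t.val - 1, hpred⟩ (by simp only; omega)
        have h4 : τ.1 s ≤ τ.1 ⟨t.val - 1, hpred⟩ := τ.2.monotone (by rw [Fin.le_def]; simp only; omega)
        have h5 := Fin.le_def.1 h4
        omega
      · rw [hφne s hs, hφne t ht]
        exact τ.2 hst
  have hge := le_val τ t₀
  have hgt : t₀.val < (τ.1 t₀).val := by
    by_cases h0 : t₀.val = 0
    · omega
    · have hpred : t₀.val - 1 < d := by omega
      have h3 := h2 ⟨t₀.val - 1, hpred⟩ (by simp only; omega)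
      have h4 := le_val τ ⟨t₀.val - 1, hpred⟩
      simp only at h4
      omega
  refine ⟨⟨φf, hφmono⟩, ⟨?_, ?_⟩, ?_, ?_⟩
  · rw [lt_iff_le_not_ge]
    constructor
    · intro t
      change φf t ≤ τ.1 t
      by_cases ht : t = t₀
      · rw [ht, Fin.le_def, hφt₀]
        omega
      · rw [hφne t ht]
    · intro hcon
      have := hcon t₀
      change τ.1 t₀ ≤ φf t₀ at this
      rw [Fin.le_def, hφt₀] at this
      omega
  · unfold codeg
    rw [← Finset.add_sum_erase Finset.univ _ (Finset.mem_univ t₀),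
      ← Finset.add_sum_erase Finset.univ (fun t => (τ.1 t).val - t.val) (Finset.mem_univ t₀)]
    have herase : ∑ x ∈ Finset.univ.erase t₀, ((φf x).val - x.val) =
        ∑ x ∈ Finset.univ.erase t₀, ((τ.1 x).val - x.val) := by
      refine Finset.sum_congr rfl (fun x hx => ?_)
      rw [hφne x (Finset.ne_of_mem_erase hx)]
    change ((φf t₀).val - t₀.val) + ∑ x ∈ Finset.univ.erase t₀, ((φf x).val - x.val) + 1 = _
    rw [herase, hφt₀]
    omega
  · change (φf t₀).val + 1 = _
    rw [hφt₀]
    omega
  · intro t' ht'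
    exact hφne t' ht'

theorem divisors_subsingleton_iff (τ : Idx d n) :
    (divisors τ).Subsingleton ↔
      ∃ s : ℕ, (∀ t : Fin d, t.val < s → (τ.1 t).val = t.val) ∧
        ∀ t t' : Fin d, s ≤ t.val → t.val + 1 = t'.val → (τ.1 t).val + 1 = (τ.1 t').val := by
  classical
  constructor
  · intro hsub
    by_cases hall : ∀ t : Fin d, (τ.1 t).val = t.val
    · refine ⟨d, fun t _ => hall t, fun t _ ht _ => ?_⟩
      have := t.2
      omega
    · push Not at hall
      have hne : (Finset.univ.filter (fun t : Fin d => (τ.1 t).val ≠ t.val)).Nonempty := by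
        obtain ⟨t, ht⟩ := hall
        exact ⟨t, by simp [ht]⟩
      set t₀ := (Finset.univ.filter (fun t : Fin d => (τ.1 t).val ≠ t.val)).min' hne with ht₀
      have ht₀ne : (τ.1 t₀).val ≠ t₀.val := by
        have := Finset.min'_mem _ hne
        simpa using this
      have hmin : ∀ t : Fin d, t < t₀ → (τ.1 t).val = t.val := by
        intro t ht
        by_contra hns
        have : t₀ ≤ t := Finset.min'_le _ t (by simp [hns])
        exact absurd ht (not_lt.mpr this)
      refine ⟨t₀.val, fun t ht => hmin t (Fin.lt_def.2 ht), ?_⟩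
      intro t t' hst htt'
      by_contra hcon
      have hlt : (τ.1 t).val + 1 < (τ.1 t').val := by
        have := Fin.lt_def.1 (τ.2 (show t < t' from Fin.lt_def.2 (by omega)))
        omega
      have hge := le_val τ t₀
      obtain ⟨φ₁, hφ₁, h11, h12⟩ := exists_dec τ t₀ (by omega) (by
        intro t'' ht''
        have := hmin t'' (Fin.lt_def.2 (by omega))
        omega)
      obtain ⟨φ₂, hφ₂, h21, h22⟩ := exists_dec τ t' (by omega) (by
        intro t'' ht''
        have : t'' = t := Fin.ext (by omega)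
        rw [this]
        exact hlt)
      have heq := hsub hφ₁ hφ₂
      have hne' : t₀ ≠ t' := by
        intro h
        rw [h] at hst
        omega
      have := h22 t₀ hne'
      rw [← heq] at this
      rw [this] at h11
      omega
  · rintro ⟨s, hs1, hs2⟩
    have key : ∀ φ ∈ divisors τ, ∀ t : Fin d, t.val ≠ s → φ.1 t = τ.1 t := by
      intro φ hφ t hts
      have hle : φ ≤ τ := le_of_lt hφ.1
      have h1 : (φ.1 t).val ≤ (τ.1 t).val := Fin.le_def.1 (hle t)
      rcases lt_or_gt_of_ne hts with h | h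
      · have := hs1 t h
        have := le_val φ t
        apply Fin.ext
        omega
      · by_contra hne
        have hlt : φ.1 t < τ.1 t := lt_of_le_of_ne (hle t) hne
        have hpred : t.val - 1 < d := by have := t.2; omega
        have h2 := hs2 ⟨t.val - 1, hpred⟩ t (by simp only; omega) (by simp only; omega)
        have h3 : φ.1 ⟨t.val - 1, hpred⟩ < φ.1 t := φ.2 (Fin.lt_def.2 (by simp only; omega))
        have h4 : φ.1 ⟨t.val - 1, hpred⟩ < τ.1 ⟨t.val - 1, hpred⟩ := by
          rw [Fin.lt_def] at h3 hlt ⊢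
          omega
        refine deficit_unique τ φ hφ ⟨t.val - 1, hpred⟩ t ?_ h4 hlt
        intro h
        have := congrArg Fin.val h
        simp only at this
        omega
    intro φ₁ hφ₁ φ₂ hφ₂
    have hc : codeg φ₁ = codeg φ₂ := by
      have := hφ₁.2
      have := hφ₂.2
      omega
    apply Subtype.ext
    funext t
    by_cases hts : t.val = s
    · unfold codeg at hc
      rw [← Finset.add_sum_erase Finset.univ _ (Finset.mem_univ t),
        ← Finset.add_sum_erase Finset.univ (fun t => (φ₂.1 t).val - t.val) (Finset.mem_univ t)] at hc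
      have herase : ∑ x ∈ Finset.univ.erase t, ((φ₁.1 x).val - x.val) =
          ∑ x ∈ Finset.univ.erase t, ((φ₂.1 x).val - x.val) := by
        refine Finset.sum_congr rfl (fun x hx => ?_)
        have hx' : x.val ≠ s := by
          intro h
          exact Finset.ne_of_mem_erase hx (Fin.ext (by omega))
        rw [key φ₁ hφ₁ x hx', key φ₂ hφ₂ x hx']
      rw [herase] at hc
      have h1 := le_val φ₁ t
      have h2 := le_val φ₂ t
      apply Fin.ext
      omega
    · rw [key φ₁ hφ₁ t hts, key φ₂ hφ₂ t hts]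

end Groth.Agent.R2.H50.PlDivisors
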