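import Mathlib

/-!
# Nagata's criterion for factoriality (helper50)

`ufm_of_prime_of_ufm_away`: a Noetherian domain `R` with a prime element `s` such that `R[1/s]` is a UFD
is a UFD.
-/

set_option autoImplicit false

namespace Groth.Agent.R2.H50.Nagata

open UniqueFactorizationMonoid

variable {R : Type*} [CommRing R] [IsDomain R]

/-- if `s` is prime, `s ∤ y` and `s ^ k * a = y * c` then `y ∣ a`. -/
theorem dvd_of_pow_mul_eq {s y : R} (hs : Prime s) (hy : ¬ s ∣ y) :
    ∀ (k : ℕ) (a c : R), s ^ k * a = y * c → y ∣ a := by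
  intro k
  induction k with
  | zero =>
    intro a c h
    exact ⟨c, by simpa using h⟩
  | succ k ih =>
    intro a c h
    have h1 : s ∣ y * c := ⟨s ^ k * a, by rw [← h]; ring⟩
    rcases hs.dvd_or_dvd h1 with h2 | h2
    · exact absurd h2 hy
    · obtain ⟨c', rfl⟩ := h2
      apply ih a c'
      have hs0 : s ≠ 0 := hs.ne_zero
      apply mul_left_cancel₀ hs0
      rw [← mul_assoc, ← pow_succ', h]
      ring

/-- Nagata's criterion: a Noetherian domain in which `s` is prime and whose localization away from `s`
is a UFD is a UFD. -/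
theorem ufm_of_prime_of_ufm_away [IsNoetherianRing R] (s : R) (hs : Prime s)
    (L : Type*) [CommRing L] [Algebra R L] [IsLocalization.Away s L]
    [hL : UniqueFactorizationMonoid L] : UniqueFactorizationMonoid R := by
  classical
  have hs0 : s ≠ 0 := hs.ne_zero
  have hM : Submonoid.powers s ≤ nonZeroDivisors R :=
    powers_le_nonZeroDivisors_of_noZeroDivisors hs0
  have hinj : Function.Injective (algebraMap R L) := IsLocalization.injective L hM
  have : IsDomain L := IsLocalization.isDomain_of_le_nonZeroDivisors (S := L) hM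
  refine iff_exists_prime_mem_of_isPrime.2 fun P hP0 hPp => ?_
  by_cases hsP : s ∈ P
  · exact ⟨s, hsP, hs⟩
  -- `P` is disjoint from the powers of `s`
  have hdisj : Disjoint (Submonoid.powers s : Set R) (P : Set R) := by
    rw [Set.disjoint_left]
    rintro x ⟨n, rfl⟩ hx
    exact hsP (hPp.mem_of_pow_mem n hx)
  have hPL : (Ideal.map (algebraMap R L) P).IsPrime :=
    IsLocalization.isPrime_of_isPrime_disjoint (Submonoid.powers s) L P hPp hdisj
  have hPL0 : Ideal.map (algebraMap R L) P ≠ ⊥ := by
    intro h
    apply hP0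
    rw [eq_bot_iff]
    intro x hx
    have : algebraMap R L x ∈ Ideal.map (algebraMap R L) P := Ideal.mem_map_of_mem _ hx
    rw [h, Ideal.mem_bot] at this
    rw [Ideal.mem_bot]
    exact hinj (this.trans (map_zero _).symm)
  obtain ⟨π, hπmem, hπ⟩ := (iff_exists_prime_mem_of_isPrime.1 hL) _ hPL0 hPL
  obtain ⟨⟨⟨x, hxP⟩, ⟨m, hm⟩⟩, hxm⟩ :=
    (IsLocalization.mem_map_algebraMap_iff (Submonoid.powers s) L).1 hπmem
  simp only at hxm
  have hunit : IsUnit (algebraMap R L m) := IsLocalization.map_units L ⟨m, hm⟩
  have hxprime : Prime (algebraMap R L x) := by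
    rw [← hxm]
    exact (associated_mul_unit_right π _ hunit).prime hπ
  have hx0 : x ≠ 0 := by
    rintro rfl
    exact hxprime.ne_zero (map_zero _)
  obtain ⟨n, y, hsy, rfl⟩ := WfDvdMonoid.max_power_factor hx0 hs.irreducible
  have hyP : y ∈ P := by
    rcases hPp.mem_or_mem hxP with h | h
    · exact absurd (hPp.mem_of_pow_mem n h) hsP
    · exact h
  have hunit2 : IsUnit (algebraMap R L (s ^ n)) :=
    IsLocalization.map_units L (⟨s ^ n, ⟨n, rfl⟩⟩ : Submonoid.powers s)
  have hyprime : Prime (algebraMap R L y) := by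
    have h1 : Associated (algebraMap R L y) (algebraMap R L (s ^ n * y)) := by
      rw [map_mul, mul_comm]
      exact associated_mul_unit_right _ _ hunit2
    exact h1.symm.prime hxprime
  refine ⟨y, hyP, ?_, ?_, ?_⟩
  · rintro rfl
    exact hyprime.ne_zero (map_zero _)
  · intro hu
    exact hPp.ne_top (Ideal.eq_top_of_isUnit_mem _ hyP hu)
  · intro a b hab
    have hab' : algebraMap R L y ∣ algebraMap R L a * algebraMap R L b := by
      rw [← map_mul]
      exact map_dvd _ hab
    -- helper: from divisibility in `L` to divisibility in `R`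
    have key : ∀ a : R, algebraMap R L y ∣ algebraMap R L a → y ∣ a := by
      intro a ⟨z, hz⟩
      obtain ⟨⟨c, ⟨m', k, rfl⟩⟩, hc⟩ := IsLocalization.surj (Submonoid.powers s) z
      simp only at hc
      have h2 : algebraMap R L (s ^ k * a) = algebraMap R L (y * c) := by
        rw [map_mul, map_mul, hz, ← hc]
        ring
      exact dvd_of_pow_mul_eq hs hsy k a c (hinj h2)
    rcases hyprime.dvd_or_dvd hab' with h | h
    · exact Or.inl (key a h)
    · exact Or.inr (key b h)

end Groth.Agent.R2.H50.Nagata
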