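import Mathlib
import Groth.Prelude.Def_W4bk4grassmannianPl
import Groth.Agent.R2.H50PlUnion

/-!
# The hyperplane section `p_τ = 0` of a Schubert variety is reduced (helper50)

`sup_span_X_eq`: `J(τ) + (X τ)` is the intersection of the irrelevant ideal with the ideals `J(φ)`, `φ < τ`.
-/

set_option autoImplicit false

noncomputable section

namespace Groth.Agent.R2.H50.PlRadical

open MvPolynomial W4bk4grassmannian
open Groth.Agent.R2.H50.PlMain Groth.Agent.R2.H50.PlUnion

variable {d n : ℕ} (K : Type*) [Field K]

/-- the irrelevant ideal, as the kernel of the evaluation at the zero matrix -/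
def irr (d n : ℕ) : Ideal (PlRing K d n) := RingHom.ker (evalMinors K d n 0).toRingHom

theorem evalMinors_zero_X (hd : 0 < d) (θ : Idx d n) : evalMinors K d n 0 (X θ) = 0 := by
  unfold evalMinors
  rw [aeval_X]
  have : Nonempty (Fin d) := ⟨⟨0, hd⟩⟩
  have : (0 : Matrix (Fin n) (Fin d) K).submatrix θ.1 id = 0 := by
    ext s t
    rfl
  rw [this, Matrix.det_zero]

theorem X_mem_irr (hd : 0 < d) (θ : Idx d n) : X θ ∈ irr K d n := by
  unfold irr
  rw [RingHom.mem_ker]
  exact evalMinors_zero_X K hd θ

theorem schubertVanishing_le_irr (hd : 0 < d) (τ : Idx d n) : schubertVanishing K d n τ ≤ irr K d n := by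
  unfold schubertVanishing irr
  refine iInf_le_of_le 0 (iInf_le _ ?_)
  intro φ _
  have : Nonempty (Fin d) := ⟨⟨0, hd⟩⟩
  have : (0 : Matrix (Fin n) (Fin d) K).submatrix φ.1 id = 0 := by
    ext s t
    rfl
  rw [this, Matrix.det_zero]

theorem irr_isRadical : (irr K d n).IsRadical := by
  unfold irr
  exact (RingHom.ker_isPrime _).isRadical

theorem evalMinors_zero_stdMon (hd : 0 < d) (c : AllStd d n) :
    evalMinors K d n 0 (stdMon K c) = if c.1 = 0 then 1 else 0 := by
  obtain ⟨m, c, hc⟩ := c
  unfold stdMon chainMon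
  rw [map_prod]
  simp only
  cases m with
  | zero => simp
  | succ m =>
    rw [if_neg (Nat.succ_ne_zero m)]
    exact Finset.prod_eq_zero (Finset.mem_univ 0) (evalMinors_zero_X K hd _)

/-- the coefficient of the empty chain vanishes for combinations in the irrelevant ideal -/
theorem coeff_empty_eq_zero (hd : 0 < d) (l : AllStd d n →₀ K)
    (hl : Finsupp.linearCombination K (stdMon K) l ∈ irr K d n) (c : AllStd d n) (hc : c.1 = 0) : l c = 0 := by
  classical
  unfold irr at hl
  rw [RingHom.mem_ker] at hl
  have h1 : evalMinors K d n 0 (Finsupp.linearCombination K (stdMon K) l) = 0 := hl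
  rw [Finsupp.linearCombination_apply, Finsupp.sum, map_sum] at h1
  have h2 : ∀ c' ∈ l.support, evalMinors K d n 0 (l c' • stdMon K c') = if c' = c then l c else 0 := by
    intro c' _
    rw [map_smul, evalMinors_zero_stdMon K hd, smul_eq_mul]
    by_cases h : c' = c
    · rw [if_pos h, h, if_pos hc, mul_one]
    · rw [if_neg h]
      by_cases h' : c'.1 = 0
      · exfalso
        apply h
        obtain ⟨m, c, hcc⟩ := c
        obtain ⟨m', c', hcc'⟩ := c'
        simp only at hc h'
        subst hc
        subst h'
        congr 1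
        apply Subtype.ext
        funext k
        exact k.elim0
      · rw [if_neg h', mul_zero]
  rw [Finset.sum_congr rfl h2, Finset.sum_ite_eq' l.support c (fun _ => l c)] at h1
  by_cases hcs : c ∈ l.support
  · rw [if_pos hcs] at h1
    exact h1
  · exact Finsupp.notMem_support_iff.1 hcs

theorem sup_span_X_eq [Infinite K] (τ : Idx d n) (hd : 0 < d) :
    schubertVanishing K d n τ ⊔ Ideal.span {X τ} =
      irr K d n ⊓ ⨅ φ : {φ : Idx d n // φ < τ}, schubertVanishing K d n φ.1 := by
  apply le_antisymm
  · refine le_inf ?_ (le_iInf fun φ => ?_)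
    · refine sup_le (schubertVanishing_le_irr K hd τ) ?_
      rw [Ideal.span_le, Set.singleton_subset_iff]
      exact X_mem_irr K hd τ
    · refine sup_le (schubertVanishing_mono K (le_of_lt φ.2)) ?_
      rw [Ideal.span_le, Set.singleton_subset_iff]
      exact X_mem_schubertVanishing K φ.1 τ (not_le_of_gt φ.2)
  · intro f hf
    obtain ⟨l, hl⟩ := exists_rep K f
    have hle : plIdealTop (d := d) (n := n) K ≤
        irr K d n ⊓ ⨅ φ : {φ : Idx d n // φ < τ}, schubertVanishing K d n φ.1 :=
      le_inf (le_trans (plIdealTop_le_schubertVanishing K τ) (schubertVanishing_le_irr K hd τ))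
        (plIdealTop_le_iInf K _)
    have h1 : Finsupp.linearCombination K (stdMon K) l ∈
        irr K d n ⊓ ⨅ φ : {φ : Idx d n // φ < τ}, schubertVanishing K d n φ.1 := by
      have := Ideal.sub_mem _ hf (hle hl)
      rwa [sub_sub_cancel] at this
    have h2 := coeff_eq_zero_of_mem_iInf K (fun φ : {φ : Idx d n // φ < τ} => φ.1) hd l h1.2
    have h3 := coeff_empty_eq_zero K hd l h1.1
    have h4 : Finsupp.linearCombination K (stdMon K) l ∈ schubertVanishing K d n τ ⊔ Ideal.span {X τ} := by
      refine linearCombination_mem K _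
        {c | c.1 = 0 ∨ c ∈ onUnion (fun φ : {φ : Idx d n // φ < τ} => φ.1)} ?_ l ?_
      · intro c hc
        simp only [Set.mem_ofPred_eq, not_or] at hc
        obtain ⟨hc1, hc2⟩ := hc
        by_cases hcτ : c ∈ onSet τ
        · obtain ⟨m, c, hanti⟩ := c
          cases m with
          | zero => exact absurd rfl hc1
          | succ m =>
            have h0 : c 0 ≤ τ := hcτ 0
            rcases eq_or_lt_of_le h0 with h0 | h0
            · refine (le_sup_right : Ideal.span {X τ} ≤ _) ?_
              refine chainMon_mem_of_X_mem K _ c 0 ?_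
              rw [h0]
              exact Ideal.subset_span rfl
            · exact absurd ⟨⟨c 0, h0⟩, fun k => hanti (Fin.zero_le k)⟩ hc2
        · exact (le_sup_left : schubertVanishing K d n τ ≤ _) (stdMon_mem_schubertVanishing K τ c hcτ)
      · rintro c (hc | hc)
        · exact h3 c hc
        · exact h2 c hc
    have := Ideal.add_mem _ ((le_trans (plIdealTop_le_schubertVanishing K τ) le_sup_left) hl) h4
    rwa [sub_add_cancel] at this

theorem sup_span_X_isRadical [Infinite K] (τ : Idx d n) (hd : 0 < d) :
    (schubertVanishing K d n τ ⊔ Ideal.span {X τ}).IsRadical := by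
  rw [sup_span_X_eq K τ hd]
  exact (irr_isRadical K).inf (Ideal.isRadical_iInf _ fun φ => schubertVanishing_isRadical K φ.1)

/-- the ideal generated by the class of `X τ` in the coordinate ring of the Schubert variety is radical. -/
theorem span_mk_X_isRadical [Infinite K] (τ : Idx d n) (hd : 0 < d) :
    (Ideal.span {Ideal.Quotient.mk (schubertVanishing K d n τ) (X τ)}).IsRadical := by
  have h := sup_span_X_isRadical K τ hd
  intro x hx
  obtain ⟨f, rfl⟩ := Ideal.Quotient.mk_surjective x
  obtain ⟨m, hm⟩ := hx
  have key : ∀ g : PlRing K d n, Ideal.Quotient.mk (schubertVanishing K d n τ) g ∈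
      Ideal.span {Ideal.Quotient.mk (schubertVanishing K d n τ) (X τ)} ↔
      g ∈ schubertVanishing K d n τ ⊔ Ideal.span {X τ} := by
    intro g
    rw [← Set.image_singleton, ← Ideal.map_span, Ideal.mem_quotient_iff_mem_sup, sup_comm]
  rw [key]
  apply h
  refine ⟨m, ?_⟩
  rw [← key, map_pow]
  exact hm

end Groth.Agent.R2.H50.PlRadical
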