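import Mathlib
import Groth.Prelude.Def_W4bk4grassmannianPl
import Groth.Agent.R2.H50DetCell
import Groth.Agent.R2.H50PlRich
import Groth.Agent.S11270

/-!
# The first fundamental theorem for `SL_d` acting on `n × d` matrices (helper50)
-/

set_option autoImplicit false

noncomputable section

namespace Groth.Agent.R2.H50.FFT

open MvPolynomial W4bk4grassmannian
open Groth.Agent.R2.H50.PlMain Groth.Agent.R2.H50.CellMinor Groth.Agent.R2.H50.DetIdx Groth.Agent.R2.H50.PlCell
open Groth.Agent.R2.H50.DetCell

section Basic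

variable (K : Type*) [Field K] (d n : ℕ)

/-- the point of matrix space -/
def pt (A : Matrix (Fin n) (Fin d) K) : Fin n × Fin d → K := fun p => A p.1 p.2

theorem eval_rightTranslate (g : Matrix.SpecialLinearGroup (Fin d) K) (A : Matrix (Fin n) (Fin d) K)
    (f : MatRing K d n) :
    MvPolynomial.eval (pt K d n A) (rightTranslate K d n g f) =
      MvPolynomial.eval (pt K d n (A * (g : Matrix (Fin d) (Fin d) K))) f := by
  have h : (MvPolynomial.eval (pt K d n A)).comp (rightTranslate K d n g).toRingHom =
      MvPolynomial.eval (pt K d n (A * (g : Matrix (Fin d) (Fin d) K))) := by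
    refine MvPolynomial.ringHom_ext (fun k => ?_) (fun p => ?_)
    · simp
    · simp only [RingHom.comp_apply, AlgHom.toRingHom_eq_coe, RingHom.coe_coe, eval_X]
      unfold rightTranslate
      rw [aeval_X, map_sum]
      simp only [map_mul, eval_X, eval_C, pt]
      rw [Matrix.mul_apply]
  exact RingHom.congr_fun h f

theorem eval_minor (A : Matrix (Fin n) (Fin d) K) (a : Fin d → Fin n) :
    MvPolynomial.eval (pt K d n A) (minor K d n a) = (A.submatrix a id).det := by
  unfold minor
  rw [RingHom.map_det]
  congr 1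
  ext s t
  simp [pt]

theorem eval_pluckerMap (A : Matrix (Fin n) (Fin d) K) (F : PlRing K d n) :
    MvPolynomial.eval (pt K d n A) (pluckerMap K d n F) = evalMinors K d n A F := by
  have h : (MvPolynomial.eval (pt K d n A)).comp (pluckerMap K d n).toRingHom =
      (evalMinors K d n A).toRingHom := by
    refine MvPolynomial.ringHom_ext (fun k => ?_) (fun θ => ?_)
    · simp
    · simp only [RingHom.comp_apply, AlgHom.toRingHom_eq_coe, RingHom.coe_coe]
      unfold pluckerMap evalMinors
      rw [aeval_X, aeval_X, eval_minor]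
  exact RingHom.congr_fun h F

/-- minors are invariant under right translation by `SL_d`. -/
theorem rightTranslate_minor (g : Matrix.SpecialLinearGroup (Fin d) K) (a : Fin d → Fin n) :
    rightTranslate K d n g (minor K d n a) = minor K d n a := by
  unfold minor
  rw [AlgHom.map_det]
  have : (rightTranslate K d n g).mapMatrix (Matrix.of fun s t : Fin d => (X (a s, t) : MatRing K d n)) =
      (Matrix.of fun s t : Fin d => (X (a s, t) : MatRing K d n)) *
        ((g : Matrix (Fin d) (Fin d) K).map (C : K →+* MatRing K d n)) := by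
    ext s t
    rw [AlgHom.mapMatrix_apply, Matrix.map_apply, Matrix.of_apply, Matrix.mul_apply]
    unfold rightTranslate
    rw [aeval_X]
    rfl
  rw [this, Matrix.det_mul, ← RingHom.mapMatrix_apply, ← RingHom.map_det, g.det_coe, map_one, mul_one]

theorem mem_adjoin_invariant (f : MatRing K d n)
    (hf : f ∈ Algebra.adjoin K (Set.range fun θ : Idx d n => minor K d n θ.1))
    (g : Matrix.SpecialLinearGroup (Fin d) K) : rightTranslate K d n g f = f := by
  induction hf using Algebra.adjoin_induction with
  | mem x hx =>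
    obtain ⟨θ, rfl⟩ := hx
    exact rightTranslate_minor K d n g θ.1
  | algebraMap k => exact AlgHom.commutes _ k
  | add x y _ _ hx hy => rw [map_add, hx, hy]
  | mul x y _ _ hx hy => rw [map_mul, hx, hy]

theorem adjoin_eq_range : Algebra.adjoin K (Set.range fun θ : Idx d n => minor K d n θ.1) =
    (pluckerMap K d n).range := by
  unfold pluckerMap
  exact Algebra.adjoin_range_eq_range_aeval K _

end Basic

section Cell

variable (K : Type*) [Field K] (d r : ℕ)

/-- `X_θ ↦ q_θ u` with values in `K[Z][u]` -/
def psiTop : PlRing K d (d + r) →ₐ[K] Polynomial (CellRing K d r) :=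
  aeval fun θ => Polynomial.X * Polynomial.C (cellMinor K d r θ)

theorem psiTop_X (θ : Idx d (d + r)) :
    psiTop K d r (X θ) = Polynomial.X * Polynomial.C (cellMinor K d r θ) := by
  unfold psiTop
  rw [aeval_X]

theorem aeval_C_cellMinor (F : PlRing K d (d + r)) :
    aeval (fun θ => (Polynomial.C (cellMinor K d r θ) : Polynomial (CellRing K d r))) F =
      Polynomial.C (cellEv K d r F) := by
  have h : (aeval (fun θ => (Polynomial.C (cellMinor K d r θ) : Polynomial (CellRing K d r))) :
      PlRing K d (d + r) →ₐ[K] _).toRingHom = Polynomial.C.comp (cellEv K d r).toRingHom := by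
    refine MvPolynomial.ringHom_ext (fun k => ?_) (fun θ => ?_)
    · simp only [AlgHom.toRingHom_eq_coe, RingHom.coe_coe, RingHom.comp_apply, MvPolynomial.algHom_C]
      rfl
    · simp only [AlgHom.toRingHom_eq_coe, RingHom.coe_coe, RingHom.comp_apply, aeval_X, cellEv_X]
  exact RingHom.congr_fun h F

theorem psiTop_bot : psiTop K d r (X (bot d r)) = Polynomial.X := by
  rw [psiTop_X, cellMinor_bot, map_one, mul_one]

theorem psiTop_coord_entryRows (i : Fin r) (j : Fin d) :
    psiTop K d r (coord K d (d + r) (entryRows d r i j)) = Polynomial.X * Polynomial.C (X (i, j)) := by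
  unfold psiTop
  rw [aeval_mul_coord, aeval_C_cellMinor, cellEv_coord_entryRows]

/-- the property of being hit by `psiTop` up to a power of `u` -/
def HitTop (q : Polynomial (CellRing K d r)) : Prop :=
  ∃ (k : ℕ) (F : PlRing K d (d + r)), psiTop K d r F = Polynomial.X ^ k * q

theorem hitTop_add {q₁ q₂ : Polynomial (CellRing K d r)} (h₁ : HitTop K d r q₁) (h₂ : HitTop K d r q₂) :
    HitTop K d r (q₁ + q₂) := by
  obtain ⟨k₁, F₁, h₁⟩ := h₁
  obtain ⟨k₂, F₂, h₂⟩ := h₂
  refine ⟨k₁ + k₂, X (bot d r) ^ k₂ * F₁ + X (bot d r) ^ k₁ * F₂, ?_⟩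
  rw [map_add, map_mul, map_mul, map_pow, map_pow, psiTop_bot, h₁, h₂]
  ring

theorem hitTop_mul {q₁ q₂ : Polynomial (CellRing K d r)} (h₁ : HitTop K d r q₁) (h₂ : HitTop K d r q₂) :
    HitTop K d r (q₁ * q₂) := by
  obtain ⟨k₁, F₁, h₁⟩ := h₁
  obtain ⟨k₂, F₂, h₂⟩ := h₂
  refine ⟨k₁ + k₂, F₁ * F₂, ?_⟩
  rw [map_mul, h₁, h₂]
  ring

theorem hitTop_C (f : CellRing K d r) : HitTop K d r (Polynomial.C f) := by
  induction f using MvPolynomial.induction_on with
  | C a =>
    refine ⟨0, C a, ?_⟩
    rw [pow_zero, one_mul, MvPolynomial.algHom_C, Polynomial.algebraMap_apply]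
    rfl
  | add f g hf hg =>
    rw [map_add]
    exact hitTop_add K d r hf hg
  | mul_X f p hf =>
    rw [map_mul]
    refine hitTop_mul K d r hf ?_
    obtain ⟨i, j⟩ := p
    exact ⟨1, coord K d (d + r) (entryRows d r i j), by rw [psiTop_coord_entryRows, pow_one]⟩

theorem hitTop_all (q : Polynomial (CellRing K d r)) : HitTop K d r q := by
  induction q using Polynomial.induction_on with
  | C a => exact hitTop_C K d r a
  | add p q hp hq => exact hitTop_add K d r hp hq
  | monomial n a h =>
    rw [pow_succ, ← mul_assoc]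
    exact hitTop_mul K d r h ⟨0, X (bot d r), by rw [psiTop_bot, pow_zero, one_mul]⟩

/-- evaluation of Plücker polynomials at a matrix with invertible top block, through `psiTop` -/
theorem evalMinors_eq_eval₂_psiTop (A : Matrix (Fin (d + r)) (Fin d) K) (z : Fin r × Fin d → K)
    (hz : pointCell K d r z * A.submatrix (bot d r).1 id = A) (F : PlRing K d (d + r)) :
    evalMinors K d (d + r) A F =
      Polynomial.eval₂ (MvPolynomial.eval z) (A.submatrix (bot d r).1 id).det (psiTop K d r F) := by
  set δ := (A.submatrix (bot d r).1 id).det with hδ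
  have hdet : ∀ a : Fin d → Fin (d + r), (A.submatrix a id).det =
      ((pointCell K d r z).submatrix a id).det * δ := by
    intro a
    conv_lhs => rw [← hz]
    exact det_submatrix_mul K d r _ _ a
  have hcomp : (Polynomial.eval₂RingHom (MvPolynomial.eval z) δ).comp (psiTop K d r).toRingHom =
      (evalMinors K d (d + r) A).toRingHom := by
    refine MvPolynomial.ringHom_ext (fun k => ?_) (fun θ => ?_)
    · simp only [AlgHom.toRingHom_eq_coe, RingHom.coe_coe, RingHom.comp_apply, MvPolynomial.algHom_C]
      rw [Polynomial.algebraMap_apply, Polynomial.coe_eval₂RingHom, Polynomial.eval₂_C]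
      show MvPolynomial.eval z (C k) = _
      rw [eval_C]
      rfl
    · simp only [AlgHom.toRingHom_eq_coe, RingHom.coe_coe, RingHom.comp_apply, psiTop_X,
        Polynomial.coe_eval₂RingHom, Polynomial.eval₂_mul, Polynomial.eval₂_X, Polynomial.eval₂_C]
      unfold cellMinor evalMinors
      rw [aeval_X, eval_cellMinor, hdet, mul_comm]
  exact (RingHom.congr_fun hcomp F).symm

/-- the scaling matrix `diag(c, 1, …, 1)` -/
def scal (c : K) : Matrix (Fin d) (Fin d) K := Matrix.diagonal fun j => if j.val = 0 then c else 1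

theorem det_scal (hd : 0 < d) (c : K) : (scal K d c).det = c := by
  unfold scal
  rw [Matrix.det_diagonal, Finset.prod_eq_single (⟨0, hd⟩ : Fin d)]
  · simp
  · intro j _ hj
    have : j.val ≠ 0 := fun h => hj (Fin.ext h)
    simp [this]
  · intro h
    exact absurd (Finset.mem_univ _) h

theorem scal_mul_scal (c : K) (hc : c ≠ 0) : scal K d c * scal K d c⁻¹ = 1 := by
  unfold scal
  rw [Matrix.diagonal_mul_diagonal, ← Matrix.diagonal_one]
  congr 1
  funext j
  by_cases hj : j.val = 0
  · simp [hj, mul_inv_cancel₀ hc]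
  · simp [hj]

/-- evaluation at `[I ; Z] diag(u, 1, …, 1)` -/
def lam : MatRing K d (d + r) →ₐ[K] Polynomial (CellRing K d r) :=
  aeval fun p => Polynomial.C (cellMatrix K d r p.1 p.2) * (if p.2.val = 0 then Polynomial.X else 1)

theorem eval₂_lam (z : Fin r × Fin d → K) (δ : K) (f : MatRing K d (d + r)) :
    Polynomial.eval₂ (MvPolynomial.eval z) δ (lam K d r f) =
      MvPolynomial.eval (pt K d (d + r) (pointCell K d r z * scal K d δ)) f := by
  have h : (Polynomial.eval₂RingHom (MvPolynomial.eval z) δ).comp (lam K d r).toRingHom =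
      MvPolynomial.eval (pt K d (d + r) (pointCell K d r z * scal K d δ)) := by
    refine MvPolynomial.ringHom_ext (fun k => ?_) (fun p => ?_)
    · simp only [AlgHom.toRingHom_eq_coe, RingHom.coe_coe, RingHom.comp_apply, MvPolynomial.algHom_C]
      rw [Polynomial.algebraMap_apply, Polynomial.coe_eval₂RingHom, Polynomial.eval₂_C]
      show MvPolynomial.eval z (C k) = _
      rw [eval_C, eval_C]
    · simp only [AlgHom.toRingHom_eq_coe, RingHom.coe_coe, RingHom.comp_apply, eval_X]
      unfold lam
      rw [aeval_X, Polynomial.coe_eval₂RingHom, Polynomial.eval₂_mul, Polynomial.eval₂_C]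
      unfold pt scal
      rw [Matrix.mul_diagonal]
      unfold pointCell
      rw [Matrix.map_apply]
      congr 1
      split_ifs
      · rw [Polynomial.eval₂_X]
      · rw [Polynomial.eval₂_one]
  exact RingHom.congr_fun h f

/-- an invariant takes the same value at `A = [I ; Z₀] g₀` and at `[I ; Z₀] diag(det g₀, 1, …, 1)`. -/
theorem eval_eq_of_invariant (hd : 0 < d) (f : MatRing K d (d + r))
    (hf : ∀ g : Matrix.SpecialLinearGroup (Fin d) K, rightTranslate K d (d + r) g f = f)
    (A : Matrix (Fin (d + r)) (Fin d) K) (hδ : (A.submatrix (bot d r).1 id).det ≠ 0)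
    (z : Fin r × Fin d → K) (hz : pointCell K d r z * A.submatrix (bot d r).1 id = A) :
    MvPolynomial.eval (pt K d (d + r) A) f =
      MvPolynomial.eval (pt K d (d + r) (pointCell K d r z * scal K d (A.submatrix (bot d r).1 id).det)) f := by
  set g₀ := A.submatrix (bot d r).1 id with hg₀
  set δ := g₀.det with hδdef
  have hdet : (scal K d δ⁻¹ * g₀).det = 1 := by
    rw [Matrix.det_mul, det_scal K d hd, inv_mul_cancel₀ hδ]
  let g : Matrix.SpecialLinearGroup (Fin d) K := ⟨scal K d δ⁻¹ * g₀, hdet⟩
  have hA : pointCell K d r z * scal K d δ * (g : Matrix (Fin d) (Fin d) K) = A := by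
    show pointCell K d r z * scal K d δ * (scal K d δ⁻¹ * g₀) = A
    rw [Matrix.mul_assoc, ← Matrix.mul_assoc (scal K d δ), scal_mul_scal K d δ hδ, Matrix.one_mul, hz]
  conv_rhs => rw [← hf g]
  rw [eval_rightTranslate, hA]

/-- the bottom minor is a nonzero polynomial. -/
theorem minor_bot_ne_zero : minor K d (d + r) (bot d r).1 ≠ 0 := by
  intro h
  have h1 := eval_minor K d (d + r) (pointCell K d r 0) (bot d r).1
  rw [h, map_zero, ← eval_cellMinor] at h1
  have h2 : ((cellMatrix K d r).submatrix (bot d r).1 id).det = 1 := cellMinor_bot K d r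
  rw [h2, map_one] at h1
  exact zero_ne_one h1

/-- an invariant becomes a polynomial in the minors after multiplication by a power of the bottom minor. -/
theorem exists_pluckerMap_eq [Infinite K] (hd : 0 < d) (f : MatRing K d (d + r))
    (hf : ∀ g : Matrix.SpecialLinearGroup (Fin d) K, rightTranslate K d (d + r) g f = f) :
    ∃ (k : ℕ) (F : PlRing K d (d + r)),
      pluckerMap K d (d + r) F = minor K d (d + r) (bot d r).1 ^ k * f := by
  obtain ⟨k, F, hF⟩ := hitTop_all K d r (lam K d r f)
  refine ⟨k, F, ?_⟩
  apply mul_left_cancel₀ (minor_bot_ne_zero K d r)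
  apply MvPolynomial.funext
  intro x
  have hx : x = pt K d (d + r) (Matrix.of fun i j => x (i, j)) := by
    funext p
    rfl
  set A : Matrix (Fin (d + r)) (Fin d) K := Matrix.of fun i j => x (i, j) with hA
  rw [hx, map_mul, map_mul, map_mul, map_pow, eval_minor, eval_pluckerMap]
  by_cases hδ : (A.submatrix (bot d r).1 id).det = 0
  · rw [hδ, zero_mul, zero_mul]
  · obtain ⟨z, hz⟩ := exists_pointCell_mul K d r A hδ
    rw [evalMinors_eq_eval₂_psiTop K d r A z hz F, hF, Polynomial.eval₂_mul, Polynomial.eval₂_pow,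
      Polynomial.eval₂_X, eval₂_lam, ← eval_eq_of_invariant K d r hd f hf A hδ z hz]

/-- the greatest element of `I(d, d+r)` -/
def top (d r : ℕ) : Idx d (d + r) :=
  ⟨fun s => ⟨r + s.val, by have := s.isLt; omega⟩, fun a b h => by
    rw [Fin.lt_def] at h ⊢
    simp only
    omega⟩

theorem le_top' (θ : Idx d (d + r)) : θ ≤ top d r := by
  intro s
  rw [Fin.le_def]
  by_cases hd : 0 < d
  · have h1 := add_le_of_le θ (d - 1 - s.val) s ⟨d - 1, by omega⟩ (by have := s.isLt; simp; omega)
    have h2 := (θ.1 ⟨d - 1, by omega⟩).isLt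
    have := s.isLt
    simp only [top]
    omega
  · have := s.isLt
    omega

theorem pluckerMap_eq_zero_of_mem_top [Infinite K] (F : PlRing K d (d + r))
    (hF : F ∈ schubertVanishing K d (d + r) (top d r)) : pluckerMap K d (d + r) F = 0 := by
  apply MvPolynomial.funext
  intro x
  have hx : x = pt K d (d + r) (Matrix.of fun i j => x (i, j)) := by
    funext p
    rfl
  rw [hx, eval_pluckerMap, map_zero]
  unfold schubertVanishing at hF
  rw [Ideal.mem_iInf] at hF
  have h1 := hF (Matrix.of fun i j => x (i, j))
  rw [Ideal.mem_iInf] at h1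
  exact h1 (fun φ hφ => absurd (le_top' d r φ) hφ)

theorem iota_eq_bot (hdn : d < d + r) : Groth.Agent.S11270.iota d (d + r) hdn = bot d r :=
  Subtype.ext (funext fun _ => Fin.ext rfl)

theorem mem_range_of_pow_mul [Infinite K] (hd : 0 < d) (hr : 0 < r) :
    ∀ (k : ℕ) (F : PlRing K d (d + r)) (f : MatRing K d (d + r)),
      pluckerMap K d (d + r) F = minor K d (d + r) (bot d r).1 ^ k * f →
      f ∈ (pluckerMap K d (d + r)).range := by
  have hdn : d < d + r := by omega
  intro k
  induction k with
  | zero =>
    intro F f h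
    rw [pow_zero, one_mul] at h
    exact ⟨F, h⟩
  | succ k ih =>
    intro F f h
    set v := Groth.Agent.S11270.iota' d (d + r) hdn with hv
    have hker : F ∈ RingHom.ker (PlMask.evM K (PlRich.richMask v (top d r))).toRingHom := by
      rw [RingHom.mem_ker]
      apply PlMask.evM_eq_zero_of_forall
      intro a
      rw [← eval_pluckerMap, h, map_mul, map_pow, eval_minor]
      have h0 : ((PlMask.pointMatrix K (PlRich.richMask v (top d r)) a).submatrix (bot d r).1 id).det = 0 := by
        apply Matrix.det_eq_zero_of_column_eq_zero (⟨d - 1, by omega⟩ : Fin d)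
        intro i
        rw [Matrix.submatrix_apply]
        unfold PlMask.pointMatrix
        rw [Matrix.of_apply, if_neg]
        unfold PlRich.richMask
        intro hcon
        have h1 := Fin.le_def.1 hcon.1
        have h2 : (v.1 (⟨d - 1, by omega⟩ : Fin d)).val = d := by
          simp only [hv, Groth.Agent.S11270.iota']
          rw [if_pos (by show d - 1 + 1 = d; omega)]
        rw [id, h2] at h1
        have h3 : ((bot d r).1 i).val = i.val := rfl
        have := i.isLt
        omega
      rw [h0, zero_pow (Nat.succ_ne_zero k), zero_mul]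
    rw [PlRich.ker_evM_rich_eq K v (top d r) hd] at hker
    unfold PlRich.richIdeal at hker
    have hset : {f : PlRing K d (d + r) | ∃ θ : Idx d (d + r), ¬ v ≤ θ ∧ f = X θ} = {X (bot d r)} := by
      ext g
      simp only [Set.mem_ofPred_eq, Set.mem_singleton_iff]
      constructor
      · rintro ⟨θ, hθ, rfl⟩
        rw [(Groth.Agent.S11270.not_iota'_le_iff d (d + r) hd hdn θ).1 hθ, iota_eq_bot]
      · rintro rfl
        exact ⟨bot d r, (Groth.Agent.S11270.not_iota'_le_iff d (d + r) hd hdn _).2 (iota_eq_bot d r hdn).symm, rfl⟩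
    rw [hset] at hker
    obtain ⟨F₀, hF₀, G, hG, hsum⟩ := Submodule.mem_sup.1 hker
    obtain ⟨c, rfl⟩ := Ideal.mem_span_singleton'.1 hG
    have h1 : pluckerMap K d (d + r) F = pluckerMap K d (d + r) c * minor K d (d + r) (bot d r).1 := by
      rw [← hsum, map_add, pluckerMap_eq_zero_of_mem_top K d r F₀ hF₀, zero_add, map_mul]
      congr 1
      unfold pluckerMap
      rw [aeval_X]
    apply ih c f
    apply mul_left_cancel₀ (minor_bot_ne_zero K d r)
    rw [mul_comm, ← h1, h, pow_succ]
    ring

end Cell

end Groth.Agent.R2.H50.FFT
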