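import Mathlib
import Groth.Prelude.Def_W4bk4grassmannianPl
import Groth.Prelude.Def_CAlgX
import Groth.Agent.R2.H50DetCell
import Groth.Agent.R2.H50FFT

/-!
# Standard monomial basis of a determinantal ring, in Plücker form (helper50)

If the kernel of `ψ₀ : S → (K[Z]/I_t)[u]`, `X_θ ↦ q_θ u`, is the ideal `J(φ)` of a Schubert variety, then the products
`q_{θ_1} ⋯ q_{θ_k}` over the chains `φ ≥ θ_1 ≥ ⋯ ≥ θ_k > ⊥` form a `K`-basis of `K[Z]/I_t`.  The kernel condition holds for
`φ = detIdx d r t` (`1 ≤ t ≤ min(d, r)`) and for `φ = ⊤` when `I_t = 0`.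
-/

set_option autoImplicit false

universe u

noncomputable section

namespace Groth.Agent.R2.H50.DetBasis

open MvPolynomial W4bk4grassmannian
open Groth.Agent.R2.H50.PlMain Groth.Agent.R2.H50.CellMinor Groth.Agent.R2.H50.DetIdx Groth.Agent.R2.H50.PlCell
open Groth.Agent.R2.H50.DetCell

variable (K : Type u) [Field K] (d r : ℕ) (t : ℕ)

/-- the classes of the cell minors in the determinantal ring -/
def q (θ : Idx d (d + r)) : DetRing K d r t := Ideal.Quotient.mk _ (cellMinor K d r θ)

theorem q_bot : q K d r t (bot d r) = 1 := by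
  unfold q
  rw [cellMinor_bot, map_one]

/-- restriction to the cell, as an algebra map -/
def pi0A : PlRing K d (d + r) →ₐ[K] DetRing K d r t :=
  (Ideal.Quotient.mkₐ K _).comp (cellEv K d r)

theorem pi0A_eq (F : PlRing K d (d + r)) : pi0A K d r t F = Polynomial.eval 1 (psi0 K d r t F) :=
  (eval_one_psi0 K d r t F).symm

theorem pi0A_X (θ : Idx d (d + r)) : pi0A K d r t (X θ) = q K d r t θ := by
  unfold pi0A q
  rw [AlgHom.comp_apply, cellEv_X]
  rfl

theorem pi0A_surjective : Function.Surjective (pi0A K d r t) := by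
  intro b
  obtain ⟨k, F, hF⟩ := hit_all K d r (Polynomial.C b)
  refine ⟨F, ?_⟩
  rw [pi0A_eq, hF, Polynomial.eval_mul, Polynomial.eval_pow, Polynomial.eval_X, one_pow, one_mul,
    Polynomial.eval_C]

theorem pi0A_chainMon {m : ℕ} (c : Fin m → Idx d (d + r)) :
    pi0A K d r t (chainMon K c) = ∏ i, q K d r t (c i) := by
  unfold chainMon
  rw [map_prod]
  exact Finset.prod_congr rfl fun i _ => pi0A_X K d r t (c i)

theorem psi0_chainMon {m : ℕ} (c : Fin m → Idx d (d + r)) :
    psi0 K d r t (chainMon K c) = Polynomial.X ^ m * Polynomial.C (∏ i, q K d r t (c i)) := by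
  unfold chainMon
  rw [map_prod]
  simp only [psi0_X]
  rw [Finset.prod_mul_distrib, Finset.prod_const, Finset.card_univ, Fintype.card_fin, map_prod]
  rfl

variable {d r}

/-- the chains `φ ≥ θ_1 ≥ ⋯ ≥ θ_k > ⊥` -/
abbrev Gidx (φ : Idx d (d + r)) : Type :=
  Σ k : ℕ, {c : Fin k → Idx d (d + r) // Antitone c ∧ (∀ i, c i ≤ φ) ∧ ∀ i, c i ≠ bot d r}

/-- the standard products -/
def G (φ : Idx d (d + r)) (c : Gidx φ) : DetRing K d r t := ∏ i, q K d r t (c.2.1 i)

theorem prod_q_mem_span (φ : Idx d (d + r)) : ∀ (m : ℕ) (c : Fin m → Idx d (d + r)), Antitone c →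
    (∀ i, c i ≤ φ) → ∏ i, q K d r t (c i) ∈ Submodule.span K (Set.range (G K t φ)) := by
  intro m
  induction m with
  | zero =>
    intro c hc hφ
    exact Submodule.subset_span ⟨⟨0, c, hc, hφ, fun i => i.elim0⟩, rfl⟩
  | succ m ih =>
    intro c hc hφ
    by_cases hlast : c (Fin.last m) = bot d r
    · rw [Fin.prod_univ_castSucc, hlast, q_bot, mul_one]
      exact ih (fun i => c (Fin.castSucc i)) (fun i j hij => hc (Fin.castSucc_le_castSucc_iff.2 hij))
        (fun i => hφ _)
    · refine Submodule.subset_span ⟨⟨m + 1, c, hc, hφ, fun i hi => hlast ?_⟩, rfl⟩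
      have h1 : c (Fin.last m) ≤ c i := hc (Fin.le_last i)
      rw [hi] at h1
      exact le_antisymm h1 (bot_le r _)

theorem span_G [Infinite K] (φ : Idx d (d + r))
    (hle : schubertVanishing K d (d + r) φ ≤ RingHom.ker (psi0 K d r t).toRingHom) :
    Submodule.span K (Set.range (G K t φ)) = ⊤ := by
  rw [eq_top_iff]
  rintro x -
  obtain ⟨F, rfl⟩ := pi0A_surjective K d r t x
  obtain ⟨l, hl⟩ := exists_rep K F
  have hker : ∀ f ∈ schubertVanishing K d (d + r) φ, pi0A K d r t f = 0 := by
    intro f hf
    have h0 : psi0 K d r t f = 0 := RingHom.mem_ker.1 (hle hf)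
    rw [pi0A_eq, h0, Polynomial.eval_zero]
  have h1 : pi0A K d r t F = pi0A K d r t (Finsupp.linearCombination K (stdMon K) l) := by
    have := hker _ (plIdealTop_le_schubertVanishing K φ hl)
    rw [map_sub, sub_eq_zero] at this
    exact this
  rw [h1, Finsupp.linearCombination_apply, Finsupp.sum, map_sum]
  refine Submodule.sum_mem _ fun c _ => ?_
  rw [map_smul]
  refine Submodule.smul_mem _ _ ?_
  by_cases hc : c ∈ onSet φ
  · unfold stdMon
    rw [pi0A_chainMon]
    exact prod_q_mem_span K t φ c.1 c.2.1 c.2.2 hc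
  · rw [hker _ (stdMon_mem_schubertVanishing K φ c hc)]
    exact Submodule.zero_mem _

/-- pad a chain by `m` copies of `⊥` -/
def padA (φ : Idx d (d + r)) (m : ℕ) (c : Gidx φ) : AllStd d (d + r) :=
  ⟨c.1 + m, Fin.append c.2.1 (fun _ => bot d r), by
    intro i j hij
    induction i using Fin.addCases with
    | left a =>
      induction j using Fin.addCases with
      | left b =>
        rw [Fin.append_left, Fin.append_left]
        have hab : a ≤ b := by
          rw [Fin.le_def] at hij ⊢
          simp only [Fin.val_castAdd] at hij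
          exact hij
        exact c.2.2.1 hab
      | right b =>
        rw [Fin.append_right]
        exact bot_le r _
    | right a =>
      induction j using Fin.addCases with
      | left b =>
        exfalso
        rw [Fin.le_def] at hij
        simp only [Fin.val_natAdd, Fin.val_castAdd] at hij
        have := b.isLt
        omega
      | right b =>
        rw [Fin.append_right, Fin.append_right]⟩

theorem padA_mem_onSet (φ : Idx d (d + r)) (m : ℕ) (c : Gidx φ) : padA φ m c ∈ onSet φ := by
  intro i
  show Fin.append c.2.1 (fun _ => bot d r) i ≤ φ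
  induction i using Fin.addCases with
  | left a =>
    rw [Fin.append_left]
    exact c.2.2.2.1 a
  | right b =>
    rw [Fin.append_right]
    exact bot_le r _

theorem psi0_stdMon_padA (φ : Idx d (d + r)) (m : ℕ) (c : Gidx φ) :
    psi0 K d r t (stdMon K (padA φ m c)) = Polynomial.X ^ (c.1 + m) * Polynomial.C (G K t φ c) := by
  unfold stdMon padA
  rw [psi0_chainMon]
  congr 2
  rw [Fin.prod_univ_add]
  simp only [Fin.append_left, Fin.append_right, q_bot, Finset.prod_const_one, mul_one]
  rfl

open Classical in
/-- the number of members of a chain different from `⊥` -/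
def cntNB (c : AllStd d (d + r)) : ℕ := (Finset.univ.filter fun i => c.2.1 i ≠ bot d r).card

theorem cntNB_padA (φ : Idx d (d + r)) (m : ℕ) (c : Gidx φ) : cntNB (padA φ m c) = c.1 := by
  classical
  unfold cntNB padA
  rw [Finset.card_filter, Fin.sum_univ_add]
  simp only [Fin.append_left, Fin.append_right, ne_eq, not_true_eq_false, if_false, Finset.sum_const_zero,
    add_zero]
  rw [Finset.sum_congr rfl (fun i _ => if_pos (c.2.2.2.2 i))]
  simp

theorem padA_injective (φ : Idx d (d + r)) {m m' : ℕ} {c c' : Gidx φ} (h : padA φ m c = padA φ m' c') :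
    c = c' := by
  have hk : c.1 = c'.1 := by
    have := congrArg cntNB h
    rwa [cntNB_padA, cntNB_padA] at this
  obtain ⟨k, c, hc⟩ := c
  obtain ⟨k', c', hc'⟩ := c'
  simp only at hk
  subst hk
  have hm : m = m' := by
    have := congrArg Sigma.fst h
    simp only [padA] at this
    omega
  subst hm
  simp only [padA, Sigma.mk.injEq, heq_eq_eq, true_and] at h
  have h' := congrArg Subtype.val h
  simp only at h'
  have : c = c' := by
    funext i
    have := congrFun h' (Fin.castAdd m i)
    rwa [Fin.append_left, Fin.append_left] at this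
  subst this
  rfl

theorem linearIndependent_G [Infinite K] (hd : 0 < d) (φ : Idx d (d + r))
    (hker : RingHom.ker (psi0 K d r t).toRingHom ≤ schubertVanishing K d (d + r) φ) :
    LinearIndependent K (G K t φ) := by
  classical
  rw [linearIndependent_iff']
  intro s g hg c₀ hc₀
  set N := s.sup (fun c => c.1) with hNdef
  have hN : ∀ c ∈ s, c.1 + (N - c.1) = N := by
    intro c hc
    have := Finset.le_sup (f := fun c : Gidx φ => c.1) hc
    omega
  set l : AllStd d (d + r) →₀ K := ∑ c ∈ s, Finsupp.single (padA φ (N - c.1) c) (g c) with hl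
  have hmem : Finsupp.linearCombination K (stdMon K) l ∈ schubertVanishing K d (d + r) φ := by
    apply hker
    rw [RingHom.mem_ker]
    show psi0 K d r t (Finsupp.linearCombination K (stdMon K) l) = 0
    rw [hl, map_sum, map_sum]
    simp only [Finsupp.linearCombination_single, map_smul, psi0_stdMon_padA]
    have h1 : ∑ c ∈ s, g c • ((Polynomial.X : Polynomial (DetRing K d r t)) ^ (c.1 + (N - c.1)) *
        Polynomial.C (G K t φ c)) = Polynomial.X ^ N * Polynomial.C (∑ c ∈ s, g c • G K t φ c) := by
      rw [map_sum, Finset.mul_sum]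
      refine Finset.sum_congr rfl fun c hc => ?_
      rw [hN c hc, ← Polynomial.smul_C, mul_smul_comm]
    rw [h1, hg, map_zero, mul_zero]
  have h2 := coeff_eq_zero_of_mem K φ hd l hmem (padA φ (N - c₀.1) c₀) (padA_mem_onSet φ _ c₀)
  rw [hl, Finsupp.finsetSum_apply, Finset.sum_eq_single c₀] at h2
  · rwa [Finsupp.single_eq_same] at h2
  · intro c _ hne
    rw [Finsupp.single_apply, if_neg]
    intro h
    exact hne (padA_injective φ h)
  · intro h
    exact absurd hc₀ h


/-! ### the kernel of `ψ₀` -/

variable (d r)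

theorem le_ker_psi0_of [Infinite K] (hd : 0 < d) (φ : Idx d (d + r))
    (hQ : ∀ θ : Idx d (d + r), ¬ θ ≤ φ → cellMinor K d r θ ∈ CAlgX.minorIdeal (genMatrix K r d) t) :
    schubertVanishing K d (d + r) φ ≤ RingHom.ker (psi0 K d r t).toRingHom := by
  rw [← plIdeal_eq_schubertVanishing K _ hd]
  unfold plIdeal
  rw [Ideal.span_le]
  rintro F (⟨i, j, s, hpiv, rfl⟩ | ⟨θ, hθ, rfl⟩)
  · rw [SetLike.mem_coe, RingHom.mem_ker]
    show psi0 K d r t (shuffleRel K i j s) = 0
    unfold psi0
    rw [aeval_mul_shuffleRel, aeval_C_mk]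
    have h0 : cellEv K d r (shuffleRel K i j s) = 0 := by
      have := cellEv_plIdealTop K d r (Ideal.subset_span ⟨i, j, s, hpiv, rfl⟩)
      exact this
    rw [h0, map_zero, map_zero, mul_zero]
  · rw [SetLike.mem_coe, RingHom.mem_ker]
    show psi0 K d r t (X θ) = 0
    rw [psi0_X, Ideal.Quotient.eq_zero_iff_mem.2 (hQ θ hθ), map_zero, mul_zero]

theorem ker_psi0_le_of [Infinite K] (hd : 0 < d) (φ : Idx d (d + r))
    (hR : CAlgX.minorIdeal (genMatrix K r d) t ≤
      Ideal.span {p : CellRing K d r | ∃ θ : Idx d (d + r), ¬ θ ≤ φ ∧ p = cellMinor K d r θ}) :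
    RingHom.ker (psi0 K d r t).toRingHom ≤ schubertVanishing K d (d + r) φ := by
  intro F hF
  have hF0 : psi0 K d r t F = 0 := hF
  have hprime := schubertVanishing_isPrime K φ hd
  have hbot := X_notMem_schubertVanishing K φ (bot d r) hd (bot_le r _)
  have key : X (bot d r) * F ∈ schubertVanishing K d (d + r) φ := by
    unfold schubertVanishing
    rw [Ideal.mem_iInf]
    intro A
    rw [Ideal.mem_iInf]
    intro hA
    rw [RingHom.mem_ker]
    show evalMinors K d (d + r) A (X (bot d r) * F) = 0
    rw [map_mul]
    by_cases hδ : (A.submatrix (bot d r).1 id).det = 0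
    · have : evalMinors K d (d + r) A (X (bot d r)) = 0 := by
        unfold evalMinors
        rw [aeval_X]
        exact hδ
      rw [this, zero_mul]
    · obtain ⟨z, hz⟩ := exists_pointCell_mul K d r A hδ
      set δ := (A.submatrix (bot d r).1 id).det with hδdef
      have hdet : ∀ a : Fin d → Fin (d + r), (A.submatrix a id).det =
          ((pointCell K d r z).submatrix a id).det * δ := by
        intro a
        conv_lhs => rw [← hz]
        exact det_submatrix_mul K d r _ _ a
      have hvan : ∀ f ∈ CAlgX.minorIdeal (genMatrix K r d) t, MvPolynomial.eval z f = 0 := by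
        intro f hf
        have hle2 : Ideal.span {p : CellRing K d r | ∃ θ : Idx d (d + r), ¬ θ ≤ φ ∧ p = cellMinor K d r θ} ≤
            RingHom.ker (MvPolynomial.eval z) := by
          rw [Ideal.span_le]
          rintro _ ⟨θ, hθ, rfl⟩
          rw [SetLike.mem_coe, RingHom.mem_ker]
          unfold cellMinor
          rw [eval_cellMinor]
          have h1 := hA θ hθ
          rw [hdet] at h1
          exact (mul_eq_zero.1 h1).resolve_right hδ
        exact hle2 (hR hf)
      let ev : DetRing K d r t →+* K := Ideal.Quotient.lift _ (MvPolynomial.eval z) hvan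
      have hcomp : (Polynomial.eval₂RingHom ev δ).comp (psi0 K d r t).toRingHom =
          (evalMinors K d (d + r) A).toRingHom := by
        refine MvPolynomial.ringHom_ext (fun k => ?_) (fun θ => ?_)
        · simp only [AlgHom.toRingHom_eq_coe, RingHom.coe_coe, RingHom.comp_apply, MvPolynomial.algHom_C]
          rw [Polynomial.algebraMap_apply, Polynomial.coe_eval₂RingHom, Polynomial.eval₂_C]
          show ev (Ideal.Quotient.mk _ (C k)) = _
          rw [Ideal.Quotient.lift_mk, eval_C]
          rfl
        · simp only [AlgHom.toRingHom_eq_coe, RingHom.coe_coe, RingHom.comp_apply, psi0_X,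
            Polynomial.coe_eval₂RingHom, Polynomial.eval₂_mul, Polynomial.eval₂_X, Polynomial.eval₂_C]
          show δ * ev (Ideal.Quotient.mk _ (cellMinor K d r θ)) = _
          rw [Ideal.Quotient.lift_mk]
          unfold cellMinor evalMinors
          rw [aeval_X, eval_cellMinor, hdet, mul_comm]
      have h2 : evalMinors K d (d + r) A F = Polynomial.eval₂RingHom ev δ (psi0 K d r t F) :=
        (RingHom.congr_fun hcomp F).symm
      rw [h2, hF0, map_zero, mul_zero]
  exact (hprime.mem_or_mem key).resolve_left hbot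

theorem minorIdeal_eq_bot (h : r < t ∨ d < t) : CAlgX.minorIdeal (genMatrix K r d) t = ⊥ := by
  unfold CAlgX.minorIdeal
  rw [Ideal.span_eq_bot]
  rintro _ ⟨⟨f, g⟩, rfl⟩
  rcases h with h | h
  · obtain ⟨i, j, hij, hf⟩ : ∃ i j, i ≠ j ∧ f i = f j := by
      by_contra hcon
      push Not at hcon
      have hinj : Function.Injective f := fun i j h => by_contra fun hne => hcon i j hne h
      have := Fintype.card_le_of_injective f hinj
      simp only [Fintype.card_fin] at this
      omega
    exact Matrix.det_zero_of_row_eq hij (by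
      ext k
      simp only [Matrix.submatrix_apply, hf])
  · obtain ⟨i, j, hij, hg⟩ : ∃ i j, i ≠ j ∧ g i = g j := by
      by_contra hcon
      push Not at hcon
      have hinj : Function.Injective g := fun i j h => by_contra fun hne => hcon i j hne h
      have := Fintype.card_le_of_injective g hinj
      simp only [Fintype.card_fin] at this
      omega
    exact Matrix.det_zero_of_column_eq hij (by
      intro k
      simp only [Matrix.submatrix_apply, hg])

/-- the kernel of `ψ₀` in the determinantal case -/
theorem ker_psi0_detIdx [Infinite K] (hd : 0 < d) (ht : 0 < t) (htd : t ≤ d) (htr : t ≤ r) :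
    RingHom.ker (psi0 K d r t).toRingHom = schubertVanishing K d (d + r) (detIdx d r t ht htr) :=
  le_antisymm (ker_psi0_le K d r hd ht htd htr) (schubertVanishing_le_ker_psi0 K d r hd ht htd htr)

/-- the kernel of `ψ₀` when there are no `t`-minors -/
theorem ker_psi0_top [Infinite K] (hd : 0 < d) (h : r < t ∨ d < t) :
    RingHom.ker (psi0 K d r t).toRingHom = schubertVanishing K d (d + r) (FFT.top d r) := by
  apply le_antisymm
  · apply ker_psi0_le_of K d r t hd
    rw [minorIdeal_eq_bot K d r t h]
    exact bot_le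
  · apply le_ker_psi0_of K d r t hd
    intro θ hθ
    exact absurd (FFT.le_top' d r θ) hθ

end Groth.Agent.R2.H50.DetBasis
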