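import Mathlib

/-!
# Normality descends to ring retracts (helper50)

`isIntegrallyClosed_of_retract`: if `B → T → B` is the identity (ring maps) with `T` an integrally closed domain and `B`
a domain, then `B` is integrally closed.
-/

set_option autoImplicit false

namespace Groth.Agent.R2.H50.Retract

theorem isIntegrallyClosed_of_retract {B T : Type*} [CommRing B] [IsDomain B] [CommRing T] [IsDomain T]
    [IsIntegrallyClosed T] (ι : B →+* T) (ρ : T →+* B) (hρ : ∀ b, ρ (ι b) = b) : IsIntegrallyClosed B := by
  have hι : Function.Injective ι := Function.LeftInverse.injective hρ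
  rw [isIntegrallyClosed_iff (FractionRing B)]
  intro z hz
  have hinj := IsFractionRing.injective B (FractionRing B)
  have hinjT := IsFractionRing.injective T (FractionRing T)
  have hle : nonZeroDivisors B ≤ (nonZeroDivisors T).comap ι :=
    nonZeroDivisors_le_comap_nonZeroDivisors_of_injective ι hι
  let ιL : FractionRing B →+* FractionRing T := IsLocalization.map (FractionRing T) ι hle
  have hιL : ∀ a : B, ιL (algebraMap B (FractionRing B) a) = algebraMap T (FractionRing T) (ι a) :=
    fun a => IsLocalization.map_eq hle a
  have hz' : IsIntegral T (ιL z) := by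
    refine hz.map_of_comp_eq ι ιL ?_
    ext a
    exact (hιL a).symm
  obtain ⟨τ, hτ⟩ := IsIntegrallyClosed.isIntegral_iff.1 hz'
  obtain ⟨a, b, hb, rfl⟩ := IsFractionRing.div_surjective (A := B) z
  have hb0 : b ≠ 0 := nonZeroDivisors.ne_zero hb
  have hb' : algebraMap B (FractionRing B) b ≠ 0 := by
    intro h0
    exact hb0 (hinj (h0.trans (map_zero _).symm))
  have hιb : algebraMap T (FractionRing T) (ι b) ≠ 0 := by
    intro h0
    have := hinjT (h0.trans (map_zero _).symm)
    exact hb0 (hι (this.trans (map_zero _).symm))
  have h1 : τ * ι b = ι a := by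
    apply hinjT
    rw [map_mul, hτ, map_div₀, hιL, hιL, div_mul_cancel₀ _ hιb]
  have h2 : ρ τ * b = a := by
    have := congrArg ρ h1
    rwa [map_mul, hρ, hρ] at this
  refine ⟨ρ τ, ?_⟩
  rw [← h2, map_mul, mul_div_assoc, div_self hb', mul_one]

end Groth.Agent.R2.H50.Retract
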