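import Mathlib
import Groth.Prelude.Def_W4bk4grassmannianPl
import Groth.Prelude.Def_CAlgX
import Groth.Agent.R2.H50DetCell
import Groth.Agent.R2.H50Retract

/-!
# Determinantal rings are normal domains (helper50)

With `B = K[Z]/I_t(Z)`, `R = S/J(φ)`: `R ↪ B[u]`, `R[1/x_⊥] = B[u, u⁻¹]`, and `B` is a ring retract of `B[u, u⁻¹]`.
-/

set_option autoImplicit false

universe u

noncomputable section

namespace Groth.Agent.R2.H50.DetRing

open MvPolynomial W4bk4grassmannian
open Groth.Agent.R2.H50.PlMain Groth.Agent.R2.H50.CellMinor Groth.Agent.R2.H50.DetIdx Groth.Agent.R2.H50.PlCell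
open Groth.Agent.R2.H50.DetCell

variable (K : Type u) [Field K] [Infinite K] (d r : ℕ) {t : ℕ} (hd : 0 < d) (ht : 0 < t) (htd : t ≤ d) (htr : t ≤ r)

/-- the embedding `S/J(φ) → B[u]` -/
def psi : SchubertRing K (detIdx d r t ht htr) →ₐ[K] Polynomial (DetRing K d r t) :=
  Ideal.Quotient.liftₐ (schubertVanishing K d (d + r) (detIdx d r t ht htr)) (psi0 K d r t)
    (fun _ hF => schubertVanishing_le_ker_psi0 K d r hd ht htd htr hF)

theorem psi_mk (F : PlRing K d (d + r)) :
    psi K d r hd ht htd htr (Ideal.Quotient.mk _ F) = psi0 K d r t F := rfl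

theorem psi_injective : Function.Injective (psi K d r hd ht htd htr) := by
  rw [injective_iff_map_eq_zero]
  intro x hx
  obtain ⟨F, rfl⟩ := Ideal.Quotient.mk_surjective x
  rw [psi_mk] at hx
  rw [Ideal.Quotient.eq_zero_iff_mem]
  exact ker_psi0_le K d r hd ht htd htr hx

theorem psi_bot : psi K d r hd ht htd htr (Ideal.Quotient.mk _ (X (bot d r))) = Polynomial.X := by
  rw [psi_mk, psi0_bot]

theorem exists_pow_mul_eq_psi (q : Polynomial (DetRing K d r t)) :
    ∃ (k : ℕ) (a : SchubertRing K (detIdx d r t ht htr)), psi K d r hd ht htd htr a = Polynomial.X ^ k * q := by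
  obtain ⟨k, F, hF⟩ := hit_all K d r q
  exact ⟨k, Ideal.Quotient.mk _ F, hF⟩

/-- `B[u, u⁻¹]` -/
abbrev T (K : Type u) [Field K] (d r t : ℕ) : Type u := Localization.Away (Polynomial.X : Polynomial (DetRing K d r t))

omit [Infinite K] in
theorem algebraMap_T_injective :
    Function.Injective (algebraMap (Polynomial (DetRing K d r t)) (T K d r t)) :=
  IsLocalization.injective _ (Submonoid.powers_le.2 Polynomial.X_mem_nonzeroDivisors)

/-- `B[u, u⁻¹]` is the localisation of the Schubert ring at the bottom Plücker coordinate. -/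
theorem isLocalization_T :
    letI : Algebra (SchubertRing K (detIdx d r t ht htr)) (T K d r t) :=
      ((algebraMap (Polynomial (DetRing K d r t)) (T K d r t)).comp
        (psi K d r hd ht htd htr).toRingHom).toAlgebra
    IsLocalization.Away (Ideal.Quotient.mk (schubertVanishing K d (d + r) (detIdx d r t ht htr)) (X (bot d r)))
      (T K d r t) := by
  letI : Algebra (SchubertRing K (detIdx d r t ht htr)) (T K d r t) :=
      ((algebraMap (Polynomial (DetRing K d r t)) (T K d r t)).comp
        (psi K d r hd ht htd htr).toRingHom).toAlgebra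
  have halg : ∀ a : SchubertRing K (detIdx d r t ht htr),
      algebraMap (SchubertRing K (detIdx d r t ht htr)) (T K d r t) a =
      algebraMap (Polynomial (DetRing K d r t)) (T K d r t) (psi K d r hd ht htd htr a) := fun _ => rfl
  have hs := psi_bot K d r hd ht htd htr
  have hinjQ := algebraMap_T_injective K d r (t := t)
  show IsLocalization (Submonoid.powers _) _
  rw [isLocalization_iff]
  refine ⟨?_, ?_, ?_⟩
  · rintro ⟨_, k, rfl⟩
    rw [halg, map_pow, hs, map_pow]
    exact (IsLocalization.Away.algebraMap_isUnit (Polynomial.X : Polynomial (DetRing K d r t))).pow k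
  · intro z
    obtain ⟨q, ⟨_, k, rfl⟩, rfl⟩ := IsLocalization.exists_mk'_eq
      (Submonoid.powers (Polynomial.X : Polynomial (DetRing K d r t))) z
    obtain ⟨j, a, ha⟩ := exists_pow_mul_eq_psi K d r hd ht htd htr q
    refine ⟨⟨a, ⟨(Ideal.Quotient.mk (schubertVanishing K d (d + r) (detIdx d r t ht htr)) (X (bot d r))) ^ (j + k),
      j + k, rfl⟩⟩, ?_⟩
    simp only
    rw [halg, halg, map_pow, hs, ha, map_mul, pow_add, map_mul, ← mul_assoc,
      mul_comm _ (algebraMap _ _ (Polynomial.X ^ j)), mul_assoc]
    congr 1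
    exact IsLocalization.mk'_spec (T K d r t) q
      (⟨Polynomial.X ^ k, k, rfl⟩ : Submonoid.powers (Polynomial.X : Polynomial (DetRing K d r t)))
  · intro a b hab
    rw [halg, halg] at hab
    refine ⟨1, ?_⟩
    rw [psi_injective K d r hd ht htd htr (hinjQ hab)]

include hd in
theorem mk_bot_ne_zero :
    Ideal.Quotient.mk (schubertVanishing K d (d + r) (detIdx d r t ht htr)) (X (bot d r)) ≠ 0 := by
  intro h0
  rw [Ideal.Quotient.eq_zero_iff_mem] at h0
  exact X_notMem_schubertVanishing K (detIdx d r t ht htr) (bot d r) hd (bot_le r _) h0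

include hd ht htd htr in
theorem isDomain_T : IsDomain (T K d r t) := by
  letI : Algebra (SchubertRing K (detIdx d r t ht htr)) (T K d r t) :=
      ((algebraMap (Polynomial (DetRing K d r t)) (T K d r t)).comp
        (psi K d r hd ht htd htr).toRingHom).toAlgebra
  haveI := isLocalization_T K d r hd ht htd htr
  haveI := isDomain_schubertRing K (detIdx d r t ht htr) hd
  exact IsLocalization.isDomain_of_le_nonZeroDivisors (T K d r t)
    (M := Submonoid.powers (Ideal.Quotient.mk (schubertVanishing K d (d + r) (detIdx d r t ht htr)) (X (bot d r))))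
    (powers_le_nonZeroDivisors_of_noZeroDivisors (mk_bot_ne_zero K d r hd ht htr))

include hd ht htd htr in
theorem isIntegrallyClosed_T [IsIntegrallyClosed (SchubertRing K (detIdx d r t ht htr))] :
    IsIntegrallyClosed (T K d r t) := by
  letI : Algebra (SchubertRing K (detIdx d r t ht htr)) (T K d r t) :=
      ((algebraMap (Polynomial (DetRing K d r t)) (T K d r t)).comp
        (psi K d r hd ht htd htr).toRingHom).toAlgebra
  haveI := isLocalization_T K d r hd ht htd htr
  haveI := isDomain_schubertRing K (detIdx d r t ht htr) hd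
  exact isIntegrallyClosed_of_isLocalization (T K d r t)
    (Submonoid.powers (Ideal.Quotient.mk (schubertVanishing K d (d + r) (detIdx d r t ht htr)) (X (bot d r))))
    (powers_le_nonZeroDivisors_of_noZeroDivisors (mk_bot_ne_zero K d r hd ht htr))

/-- `B → B[u, u⁻¹]` -/
def iotaB (K : Type u) [Field K] (d r t : ℕ) : DetRing K d r t →+* T K d r t :=
  (algebraMap (Polynomial (DetRing K d r t)) (T K d r t)).comp Polynomial.C

/-- `B[u, u⁻¹] → B`, `u ↦ 1` -/
def rhoB (K : Type u) [Field K] (d r t : ℕ) : T K d r t →+* DetRing K d r t :=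
  IsLocalization.Away.lift (Polynomial.X : Polynomial (DetRing K d r t))
    (g := Polynomial.evalRingHom (1 : DetRing K d r t)) (by
      rw [Polynomial.coe_evalRingHom, Polynomial.eval_X]
      exact isUnit_one)

omit [Infinite K] in
theorem rhoB_iotaB (b : DetRing K d r t) : rhoB K d r t (iotaB K d r t b) = b := by
  unfold rhoB iotaB
  rw [RingHom.comp_apply, IsLocalization.Away.lift_eq, Polynomial.coe_evalRingHom, Polynomial.eval_C]

include hd ht htd htr in
theorem isDomain_detRing : IsDomain (DetRing K d r t) := by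
  haveI := isDomain_T K d r hd ht htd htr
  have hinj : Function.Injective (iotaB K d r t) := Function.LeftInverse.injective (rhoB_iotaB K d r)
  exact hinj.isDomain _

include hd ht htd htr in
theorem isIntegrallyClosed_detRing [IsIntegrallyClosed (SchubertRing K (detIdx d r t ht htr))] :
    IsIntegrallyClosed (DetRing K d r t) := by
  haveI := isDomain_T K d r hd ht htd htr
  haveI := isIntegrallyClosed_T K d r hd ht htd htr
  haveI := isDomain_detRing K d r hd ht htd htr
  exact Groth.Agent.R2.H50.Retract.isIntegrallyClosed_of_retract (iotaB K d r t) (rhoB K d r t) (rhoB_iotaB K d r)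

end Groth.Agent.R2.H50.DetRing
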