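import Mathlib
import Groth.Prelude.Def_W4bk4grassmannianPl
import Groth.Agent.R2.H50PlUnion
import Groth.Agent.R2.H50PlDivisors

/-!
# Meets of Schubert divisors and distributivity of Schubert ideals (helper50)

* `inf_mem_divisors`: the meet of two distinct Schubert divisors of `τ` is a Schubert divisor of each of them.
* `iInf_sup_eq`: `(⋂ J(τ_i)) + J(φ) = ⋂ J(τ_i ∧ φ)`.
-/

set_option autoImplicit false

noncomputable section

namespace Groth.Agent.R2.H50.PlCMComb

open MvPolynomial W4bk4grassmannian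
open Groth.Agent.R2.H50.PlMain Groth.Agent.R2.H50.PlUnion Groth.Agent.R2.H50.PlDivisors

variable {d n : ℕ}

theorem inf_le_left' (a b : Idx d n) : W4bk4grassmannian.inf a b ≤ a := fun t => min_le_left _ _

theorem inf_le_right' (a b : Idx d n) : W4bk4grassmannian.inf a b ≤ b := fun t => min_le_right _ _

theorem le_inf' {a b c : Idx d n} (h1 : c ≤ a) (h2 : c ≤ b) : c ≤ W4bk4grassmannian.inf a b :=
  fun t => le_min (h1 t) (h2 t)

theorem le_sup_left' (a b : Idx d n) : a ≤ W4bk4grassmannian.sup a b := fun t => le_max_left _ _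

theorem le_sup_right' (a b : Idx d n) : b ≤ W4bk4grassmannian.sup a b := fun t => le_max_right _ _

theorem sup_le' {a b c : Idx d n} (h1 : a ≤ c) (h2 : b ≤ c) : W4bk4grassmannian.sup a b ≤ c :=
  fun t => max_le (h1 t) (h2 t)

theorem codeg_mono {a b : Idx d n} (h : a ≤ b) : codeg a ≤ codeg b := by
  have := sum_deficit a b h
  omega

theorem codeg_strictMono {a b : Idx d n} (h : a < b) : codeg a < codeg b := by
  rcases Nat.lt_or_ge (codeg a) (codeg b) with h1 | h1
  · exact h1
  · exfalso
    have h2 := codeg_mono (le_of_lt h)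
    exact (ne_of_lt h) (eq_of_le_of_codeg_eq a b (le_of_lt h) (le_antisymm h2 h1))

theorem codeg_inf_add_codeg_sup (a b : Idx d n) :
    codeg (W4bk4grassmannian.inf a b) + codeg (W4bk4grassmannian.sup a b) = codeg a + codeg b := by
  unfold codeg
  rw [← Finset.sum_add_distrib, ← Finset.sum_add_distrib]
  refine Finset.sum_congr rfl fun t _ => ?_
  have h1 := le_val a t
  have h2 := le_val b t
  show (min (a.1 t) (b.1 t)).val - t.val + ((max (a.1 t) (b.1 t)).val - t.val) = _
  rcases le_total (a.1 t) (b.1 t) with h | h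
  · rw [min_eq_left h, max_eq_right h]
  · rw [min_eq_right h, max_eq_left h]
    omega

/-- the meet of two distinct Schubert divisors of `τ` is a Schubert divisor of each of them. -/
theorem inf_mem_divisors (τ φ φ' : Idx d n) (hφ : φ ∈ divisors τ) (hφ' : φ' ∈ divisors τ) (hne : φ' ≠ φ) :
    W4bk4grassmannian.inf φ' φ ∈ divisors φ := by
  have hs1 : W4bk4grassmannian.sup φ' φ ≤ τ := sup_le' (le_of_lt hφ'.1) (le_of_lt hφ.1)
  have hs2 : φ ≤ W4bk4grassmannian.sup φ' φ := le_sup_right' _ _
  have hs3 : φ ≠ W4bk4grassmannian.sup φ' φ := by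
    intro h
    have h1 : φ' ≤ φ := by
      rw [h]
      exact le_sup_left' _ _
    have h2 : codeg φ' = codeg φ := by
      have := hφ.2
      have := hφ'.2
      omega
    exact hne (eq_of_le_of_codeg_eq φ' φ h1 h2)
  have hs4 : codeg φ < codeg (W4bk4grassmannian.sup φ' φ) := codeg_strictMono (lt_of_le_of_ne hs2 hs3)
  have hs5 : codeg (W4bk4grassmannian.sup φ' φ) ≤ codeg τ := codeg_mono hs1
  have hs6 := codeg_inf_add_codeg_sup φ' φ
  have h1 := hφ.2
  have h2 := hφ'.2
  have hc : codeg (W4bk4grassmannian.inf φ' φ) + 1 = codeg φ := by omega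
  refine ⟨lt_of_le_of_ne (inf_le_right' _ _) ?_, hc⟩
  intro h
  rw [h] at hc
  omega

variable (K : Type*) [Field K]

/-- distributivity: `(⋂ J(τ_i)) + J(φ) = ⋂ J(τ_i ∧ φ)`. -/
theorem iInf_sup_eq [Infinite K] {ι : Sort*} (τs : ι → Idx d n) (φ : Idx d n) (hd : 0 < d) :
    (⨅ i, schubertVanishing K d n (τs i)) ⊔ schubertVanishing K d n φ =
      ⨅ i, schubertVanishing K d n (W4bk4grassmannian.inf (τs i) φ) := by
  apply le_antisymm
  · refine sup_le (le_iInf fun i => ?_) (le_iInf fun i => ?_)
    · exact le_trans (iInf_le _ i) (schubertVanishing_mono K (inf_le_left' _ _))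
    · exact schubertVanishing_mono K (inf_le_right' _ _)
  · refine iInf_le_of_stdMon_mem K (fun i => W4bk4grassmannian.inf (τs i) φ) hd _ ?_ ?_
    · exact le_trans (plIdealTop_le_schubertVanishing K φ) le_sup_right
    · intro c hc
      by_cases hcφ : c ∈ onSet φ
      · refine (le_sup_left : (⨅ i, schubertVanishing K d n (τs i)) ≤ _) (stdMon_mem_iInf K τs c ?_)
        rintro ⟨i, hi⟩
        exact hc ⟨i, fun k => le_inf' (hi k) (hcφ k)⟩
      · exact (le_sup_right : schubertVanishing K d n φ ≤ _) (stdMon_mem_schubertVanishing K φ c hcφ)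

end Groth.Agent.R2.H50.PlCMComb
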