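import Mathlib
import Groth.Prelude.Def_W4bk4grassmannianPl
import Groth.Agent.R2.H50PlCell
import Groth.Agent.R2.H50PlDivisors
import Groth.Agent.Lib.Helper14FTDim

/-!
# The dimension of the cone over a Schubert variety (helper50)
-/

set_option autoImplicit false

noncomputable section

namespace Groth.Agent.R2.H50.PlDim

open MvPolynomial W4bk4grassmannian
open Groth.Agent.R2.H50.PlCell Groth.Agent.R2.H50.PlDivisors

variable {d n : ℕ}

instance (τ : Idx d n) : Finite (YIdx τ) := Subtype.finite

/-- the number of coordinates of the cell is the dimension of the Schubert variety -/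
theorem card_YIdx (τ : Idx d n) : Nat.card (YIdx τ) = codeg τ := by
  classical
  unfold YIdx
  rw [Nat.card_eq_fintype_card, Fintype.card_subtype, Finset.card_filter, Fintype.sum_prod_type_right]
  unfold codeg
  refine Finset.sum_congr rfl fun t _ => ?_
  rw [← Finset.card_filter]
  have h1 : (Finset.univ.filter fun i : Fin n => i < τ.1 t ∧ ∀ s, τ.1 s ≠ i) =
      Finset.Iio (τ.1 t) \ (Finset.Iio t).image τ.1 := by
    ext i
    simp only [Finset.mem_filter, Finset.mem_univ, true_and, Finset.mem_sdiff, Finset.mem_Iio,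
      Finset.mem_image, not_exists, not_and]
    constructor
    · rintro ⟨h1, h2⟩
      exact ⟨h1, fun s _ => h2 s⟩
    · rintro ⟨h1, h2⟩
      refine ⟨h1, fun s hs => ?_⟩
      refine h2 s ?_ hs
      rw [← τ.2.lt_iff_lt, hs]
      exact h1
  have h2 : (Finset.Iio t).image τ.1 ⊆ Finset.Iio (τ.1 t) := by
    intro i hi
    rw [Finset.mem_image] at hi
    obtain ⟨s, hs, rfl⟩ := hi
    rw [Finset.mem_Iio] at hs ⊢
    exact τ.2 hs
  rw [h1, Finset.card_sdiff_of_subset h2, Fin.card_Iio, Finset.card_image_of_injective _ τ.2.injective,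
    Fin.card_Iio]

universe u

variable (K : Type u) [Field K]

/-- the fraction fields of the Schubert ring and of the cell ring are isomorphic -/
theorem trdeg_eq [Infinite K] (τ : Idx d n) (hd : 0 < d) :
    haveI := isDomain_schubertRing K τ hd
    Algebra.trdeg K (FractionRing (SchubertRing K τ)) = Algebra.trdeg K (FractionRing (CellQ K τ)) := by
  haveI := isDomain_schubertRing K τ hd
  have hinj := cellQuot_injective K τ hd
  have hinjQ := IsFractionRing.injective (CellQ K τ) (FractionRing (CellQ K τ))
  have hinjR := IsFractionRing.injective (SchubertRing K τ) (FractionRing (SchubertRing K τ))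
  let g : SchubertRing K τ →ₐ[K] FractionRing (CellQ K τ) :=
    (IsScalarTower.toAlgHom K (CellQ K τ) (FractionRing (CellQ K τ))).comp (cellQuot K τ hd)
  have hg : Function.Injective g := hinjQ.comp hinj
  let φL : FractionRing (SchubertRing K τ) →ₐ[K] FractionRing (CellQ K τ) := IsFractionRing.liftAlgHom hg
  have hφL : ∀ r : SchubertRing K τ, φL (algebraMap _ _ r) =
      algebraMap (CellQ K τ) (FractionRing (CellQ K τ)) (cellQuot K τ hd r) := by
    intro r
    exact IsFractionRing.lift_algebraMap hg r
  have hs : cellQuot K τ hd (Ideal.Quotient.mk (schubertVanishing K d n τ) (X τ)) = X none := by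
    rw [cellQuot_mk, cellMap_X_self]
  have hsurj : Function.Surjective φL := by
    intro z
    obtain ⟨a, b, hb, rfl⟩ := IsFractionRing.div_surjective (A := CellQ K τ) z
    have hb0 : b ≠ 0 := nonZeroDivisors.ne_zero hb
    obtain ⟨k, ra, hra⟩ := exists_pow_mul_eq_cellQuot K τ hd a
    obtain ⟨j, rb, hrb⟩ := exists_pow_mul_eq_cellQuot K τ hd b
    set x := Ideal.Quotient.mk (schubertVanishing K d n τ) (X τ) with hx
    have hden : cellQuot K τ hd (x ^ k * rb) ≠ 0 := by
      rw [map_mul, map_pow, hs, hrb]
      exact mul_ne_zero (pow_ne_zero _ (X_ne_zero none)) (mul_ne_zero (pow_ne_zero _ (X_ne_zero none)) hb0)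
    refine ⟨algebraMap _ _ (x ^ j * ra) / algebraMap _ _ (x ^ k * rb), ?_⟩
    rw [map_div₀, hφL, hφL, map_mul (cellQuot K τ hd), map_mul (cellQuot K τ hd), map_pow, map_pow, hs, hra, hrb]
    have h1 : algebraMap (CellQ K τ) (FractionRing (CellQ K τ)) b ≠ 0 := by
      intro h0
      exact hb0 (hinjQ (h0.trans (map_zero _).symm))
    have h2 : algebraMap (CellQ K τ) (FractionRing (CellQ K τ)) (X none) ≠ 0 := by
      intro h0
      exact (X_ne_zero (none : Option (YIdx τ))) (hinjQ (h0.trans (map_zero _).symm))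
    simp only [map_mul, map_pow]
    field_simp
  exact (AlgEquiv.ofBijective φL ⟨φL.toRingHom.injective, hsurj⟩).trdeg_eq

theorem ringKrullDim_schubertRing [Infinite K] (τ : Idx d n) (hd : 0 < d) :
    ringKrullDim (SchubertRing K τ) = ((codeg τ + 1 : ℕ) : WithBot ℕ∞) := by
  haveI := isDomain_schubertRing K τ hd
  obtain ⟨n₁, h11, h12, -⟩ := Groth.Agent.Lib.Helper14.FTDim.exists_dim K (SchubertRing K τ)
  obtain ⟨n₂, h21, h22, -⟩ := Groth.Agent.Lib.Helper14.FTDim.exists_dim K (CellQ K τ)
  have h3 := trdeg_eq K τ hd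
  rw [h11, h21] at h3
  have h4 : n₁ = n₂ := by exact_mod_cast h3
  rw [h12, h4, ← h22, MvPolynomial.ringKrullDim_of_isNoetherianRing, ringKrullDim_eq_zero_of_field, zero_add,
    Finite.card_option, card_YIdx]

end Groth.Agent.R2.H50.PlDim
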