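import Mathlib
import Groth.Prelude.Def_W4bk4grassmannianPl
import Groth.Prelude.Def_CAlg
import Groth.Agent.R2.H50CMLoc
import Groth.Agent.R2.H50PlCMComb
import Groth.Agent.R2.H50PlCell
import Groth.Agent.R2.H50PlDim
import Groth.Agent.R2.H50PlRadical
import Groth.Agent.S11254
import Groth.Agent.Lib.Helper14FTDimB

/-!
# Schubert varieties and unions of Schubert divisors are arithmetically Cohen–Macaulay (helper50)

`Good 𝔞 N`: `S/𝔞` is Cohen–Macaulay and every prime `p ⊇ 𝔞` satisfies `ht(p/𝔞) + dim S/p = N`.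

* `good_schubert`: `Good J(τ) (codeg τ + 1)`.
* `good_divisors`: `Good (⋂_{φ ∈ G} J(φ)) (codeg τ)` for a nonempty set `G` of Schubert divisors of `τ`.
-/

set_option autoImplicit false

universe u

noncomputable section

namespace Groth.Agent.R2.H50.PlCM

open MvPolynomial W4bk4grassmannian
open Groth.Agent.R2.H50.PlMain Groth.Agent.R2.H50.PlUnion Groth.Agent.R2.H50.PlDivisors
open Groth.Agent.R2.H50.PlCell Groth.Agent.R2.H50.PlCMComb Groth.Agent.R2.H50.PlRadical
open Groth.Agent.R2.H50 Groth.Agent.Lib.Helper28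

variable (K : Type u) [Field K] {d n : ℕ}

/-- `S/𝔞` is Cohen–Macaulay, equidimensional of dimension `N` in the strong sense. -/
def Good (𝔞 : Ideal (PlRing K d n)) (N : ℕ) : Prop :=
  ∀ (p : Ideal (PlRing K d n)) [p.IsPrime], 𝔞 ≤ p → ∃ δ c : ℕ,
    ringKrullDim (PlRing K d n ⧸ p) = (c : WithBot ℕ∞) ∧ δ + c = N ∧
    LocCoh.IsCohenMacaulayLocalRing (CM.LQ 𝔞 p) ∧ ringKrullDim (CM.LQ 𝔞 p) = (δ : WithBot ℕ∞)

theorem cmRing_of_good (𝔞 : Ideal (PlRing K d n)) (N : ℕ) (h : Good K 𝔞 N) :
    LocCoh.IsCohenMacaulayRing (PlRing K d n ⧸ 𝔞) := by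
  refine CM.cmRing_quotient_of_forall 𝔞 fun p hp hle => ?_
  obtain ⟨δ, c, -, -, hcm, -⟩ := h p hle
  exact hcm

theorem good_inf (I J : Ideal (PlRing K d n)) (N M : ℕ) (hMN : M + 1 = N) (hI : Good K I N) (hJ : Good K J N)
    (hIJ : Good K (I ⊔ J) M) : Good K (I ⊓ J) N := by
  intro p hp hle
  by_cases h1 : I ≤ p
  · by_cases h2 : J ≤ p
    · obtain ⟨δ₁, c₁, hc₁, hs₁, hcm₁, hd₁⟩ := hI p h1
      obtain ⟨δ₂, c₂, hc₂, hs₂, hcm₂, hd₂⟩ := hJ p h2
      obtain ⟨δ₃, c₃, hc₃, hs₃, hcm₃, hd₃⟩ := hIJ p (sup_le h1 h2)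
      have e12 : c₁ = c₂ := by
        have := hc₁.symm.trans hc₂
        exact_mod_cast this
      have e13 : c₁ = c₃ := by
        have := hc₁.symm.trans hc₃
        exact_mod_cast this
      have e1 : δ₂ = δ₁ := by omega
      have e2 : δ₁ = δ₃ + 1 := by omega
      rw [e1] at hd₂
      have h3 : ((δ₁ : ℕ) : WithBot ℕ∞) ≤ ringKrullDim (CM.LQ (I ⊔ J) p) + 1 := by
        rw [hd₃, e2]
        exact le_of_eq (by push_cast; rfl)
      obtain ⟨h4, h5⟩ := CM.cmLocal_LQ_inf I J p h1 h2 hcm₁ hcm₂ hcm₃ δ₁ hd₁ hd₂ h3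
      exact ⟨δ₁, c₁, hc₁, hs₁, h4, h5⟩
    · obtain ⟨δ₁, c₁, hc₁, hs₁, hcm₁, hd₁⟩ := hI p h1
      have e : (I ⊓ J).map (algebraMap (PlRing K d n) (Localization.AtPrime p)) =
          I.map (algebraMap (PlRing K d n) (Localization.AtPrime p)) := by
        rw [inf_comm]
        exact CM.map_inf_eq_of_not_le J I p h2
      refine ⟨δ₁, c₁, hc₁, hs₁, ?_, ?_⟩
      · unfold CM.LQ
        rw [e]
        exact hcm₁
      · unfold CM.LQ
        rw [e]
        exact hd₁
  · have h2 : J ≤ p := by
      rcases (Ideal.IsPrime.inf_le hp).1 hle with h | h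
      · exact absurd h h1
      · exact h
    obtain ⟨δ₂, c₂, hc₂, hs₂, hcm₂, hd₂⟩ := hJ p h2
    have e : (I ⊓ J).map (algebraMap (PlRing K d n) (Localization.AtPrime p)) =
        J.map (algebraMap (PlRing K d n) (Localization.AtPrime p)) := CM.map_inf_eq_of_not_le I J p h1
    refine ⟨δ₂, c₂, hc₂, hs₂, ?_, ?_⟩
    · unfold CM.LQ
      rw [e]
      exact hcm₂
    · unfold CM.LQ
      rw [e]
      exact hd₂

variable [Infinite K]

/-- the dimension formula on a Schubert variety -/
theorem schubert_dim (τ : Idx d n) (hd : 0 < d) (p : Ideal (PlRing K d n)) [p.IsPrime]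
    (hp : schubertVanishing K d n τ ≤ p) : ∃ δ c : ℕ,
      ringKrullDim (PlRing K d n ⧸ p) = (c : WithBot ℕ∞) ∧ δ + c = codeg τ + 1 ∧
      ringKrullDim (CM.LQ (schubertVanishing K d n τ) p) = (δ : WithBot ℕ∞) := by
  obtain ⟨P, hP, rfl⟩ := CM.exists_comap_eq _ p hp
  haveI := isDomain_schubertRing K τ hd
  obtain ⟨m, c, hcm, hdim, hht, hq⟩ := Groth.Agent.Lib.Helper14.FTDim.exists_dim_height (k := K) (SchubertRing K τ) P
  rw [PlDim.ringKrullDim_schubertRing K τ hd] at hdim
  have hm : m = codeg τ + 1 := by exact_mod_cast hdim.symm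
  refine ⟨c, m - c, ?_, by omega, ?_⟩
  · rw [ringKrullDim_eq_of_ringEquiv (R := PlRing K d n ⧸ P.comap (Ideal.Quotient.mk (schubertVanishing K d n τ)))
      (S := SchubertRing K τ ⧸ P) (CM.quotComapEquiv (schubertVanishing K d n τ) P)]
    exact hq
  · rw [CM.ringKrullDim_LQ, hht]
    rfl

/-- away from the vertex direction `X τ = 0`, the Schubert cone is locally a localisation of a polynomial ring. -/
theorem cmLocal_LQ_of_X_notMem (τ : Idx d n) (hd : 0 < d) (p : Ideal (PlRing K d n)) [p.IsPrime]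
    (hp : schubertVanishing K d n τ ≤ p) (hX : X τ ∉ p) :
    LocCoh.IsCohenMacaulayLocalRing (CM.LQ (schubertVanishing K d n τ) p) := by
  obtain ⟨P, hP, rfl⟩ := CM.exists_comap_eq _ p hp
  have hxP : Ideal.Quotient.mk (schubertVanishing K d n τ) (X τ) ∉ P := hX
  letI : Algebra (SchubertRing K τ) (Localization.Away (X none : CellQ K τ)) :=
    ((algebraMap (CellQ K τ) (Localization.Away (X none : CellQ K τ))).comp
      (cellQuot K τ hd).toRingHom).toAlgebra
  haveI : IsLocalization.Away (Ideal.Quotient.mk (schubertVanishing K d n τ) (X τ))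
      (Localization.Away (X none : CellQ K τ)) := isLocalization_cell K τ hd
  haveI : LocCoh.IsCohenMacaulayRing (CellQ K τ) := CM.cmRing_mvPolynomial K _
  haveI : LocCoh.IsCohenMacaulayRing (Localization.Away (X none : CellQ K τ)) :=
    CM.cmRing_of_isLocalization (Submonoid.powers (X none : CellQ K τ)) _
  haveI : LocCoh.IsCohenMacaulayLocalRing (Localization.AtPrime P) :=
    CM.cmLocal_atPrime_of_isLocalization
      (Submonoid.powers (Ideal.Quotient.mk (schubertVanishing K d n τ) (X τ)))
      (Localization.Away (X none : CellQ K τ)) P (by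
        rw [Set.disjoint_left]
        rintro y ⟨k, rfl⟩ hyP
        exact hxP (hP.mem_of_pow_mem k hyP))
  exact isCohenMacaulayLocalRing_of_ringEquiv (R := Localization.AtPrime P) (CM.locQuotEquiv _ P)

omit [Infinite K] in
theorem irr_isMaximal : (irr K d n).IsMaximal := by
  unfold irr
  refine RingHom.ker_isMaximal_of_surjective _ ?_
  intro a
  exact ⟨C a, by simp [evalMinors]⟩

/-- the inductive step: the Schubert cone is Cohen–Macaulay if the union of its divisors is. -/
theorem good_schubert_step (τ : Idx d n) (hd : 0 < d)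
    (hdiv : (∃ φ : Idx d n, φ < τ) → Good K (schubertVanishing K d n τ ⊔ Ideal.span {X τ}) (codeg τ)) :
    Good K (schubertVanishing K d n τ) (codeg τ + 1) := by
  intro p hp hle
  obtain ⟨δ, c, h1, h2, h3⟩ := schubert_dim K τ hd p hle
  refine ⟨δ, c, h1, h2, ?_, h3⟩
  by_cases hX : X τ ∈ p
  · -- `X τ` is a regular element
    have hJp : (schubertVanishing K d n τ).IsPrime := schubertVanishing_isPrime K τ hd
    have hdisj : Disjoint (p.primeCompl : Set (PlRing K d n)) (schubertVanishing K d n τ : Set (PlRing K d n)) := by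
      rw [Set.disjoint_left]
      intro y hy hyJ
      exact hy (hle hyJ)
    haveI hmp : ((schubertVanishing K d n τ).map (algebraMap (PlRing K d n) (Localization.AtPrime p))).IsPrime :=
      IsLocalization.isPrime_of_isPrime_disjoint p.primeCompl _ _ hJp hdisj
    have hcomap : ((schubertVanishing K d n τ).map (algebraMap (PlRing K d n) (Localization.AtPrime p))).comap
        (algebraMap (PlRing K d n) (Localization.AtPrime p)) = schubertVanishing K d n τ :=
      IsLocalization.comap_map_of_isPrime_disjoint p.primeCompl _ hJp hdisj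
    have hne : (Ideal.Quotient.mk ((schubertVanishing K d n τ).map
        (algebraMap (PlRing K d n) (Localization.AtPrime p)))
        (algebraMap (PlRing K d n) (Localization.AtPrime p) (X τ))) ≠ 0 := by
      intro h0
      rw [Ideal.Quotient.eq_zero_iff_mem] at h0
      have : X τ ∈ ((schubertVanishing K d n τ).map (algebraMap (PlRing K d n) (Localization.AtPrime p))).comap
        (algebraMap (PlRing K d n) (Localization.AtPrime p)) := h0
      rw [hcomap] at this
      exact X_notMem_schubertVanishing K τ τ hd le_rfl this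
    have hreg : IsSMulRegular (CM.LQ (schubertVanishing K d n τ) p)
        (Ideal.Quotient.mk ((schubertVanishing K d n τ).map
        (algebraMap (PlRing K d n) (Localization.AtPrime p)))
        (algebraMap (PlRing K d n) (Localization.AtPrime p) (X τ))) := by
      haveI : IsDomain (CM.LQ (schubertVanishing K d n τ) p) := Ideal.Quotient.isDomain _
      exact smul_right_injective _ hne
    have hsup : schubertVanishing K d n τ ⊔ Ideal.span {X τ} ≤ p := by
      refine sup_le hle ?_
      rw [Ideal.span_le, Set.singleton_subset_iff]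
      exact hX
    have hcm : LocCoh.IsCohenMacaulayLocalRing (CM.LQ (schubertVanishing K d n τ ⊔ Ideal.span {X τ}) p) := by
      by_cases hex : ∃ φ : Idx d n, φ < τ
      · obtain ⟨δ', c', -, -, hcm', -⟩ := hdiv hex p hsup
        exact hcm'
      · -- the vertex
        have hirr : schubertVanishing K d n τ ⊔ Ideal.span {X τ} = irr K d n := by
          rw [sup_span_X_eq K τ hd]
          haveI : IsEmpty {φ : Idx d n // φ < τ} := ⟨fun φ => hex ⟨φ.1, φ.2⟩⟩
          rw [iInf_of_empty, inf_top_eq]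
        haveI hmax := irr_isMaximal K (d := d) (n := n)
        rw [hirr] at hsup ⊢
        have hpe : irr K d n = p := hmax.eq_of_le (Ideal.IsPrime.ne_top hp) hsup
        subst hpe
        exact (CM.cmLocal_LQ_self (irr K d n)).1
    exact (CM.cmLocal_LQ_of_regular (schubertVanishing K d n τ) (X τ) p hle hX hreg hcm).1
  · exact cmLocal_LQ_of_X_notMem K τ hd p hle hX

omit [Infinite K] in
theorem finset_inf_eq_iInf (F : Finset (Idx d n)) (f : Idx d n → Ideal (PlRing K d n)) :
    F.inf f = ⨅ x : {a // a ∈ F}, f x.1 := by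
  apply le_antisymm
  · exact le_iInf fun x => Finset.inf_le x.2
  · exact Finset.le_inf fun a ha => iInf_le (fun x : {a // a ∈ F} => f x.1) ⟨a, ha⟩

theorem finset_inf_sup_eq (F : Finset (Idx d n)) (φ : Idx d n) (hd : 0 < d) :
    F.inf (fun ψ => schubertVanishing K d n ψ) ⊔ schubertVanishing K d n φ =
      (F.image fun ψ => W4bk4grassmannian.inf ψ φ).inf (fun ψ => schubertVanishing K d n ψ) := by
  classical
  rw [Finset.inf_image, finset_inf_eq_iInf, finset_inf_eq_iInf]
  exact iInf_sup_eq K (fun x : {a // a ∈ F} => x.1) φ hd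

section Main

variable [IsAlgClosed K]

/-- Schubert varieties and unions of Schubert divisors are arithmetically Cohen–Macaulay, equidimensional. -/
theorem good_main (hd : 0 < d) (hdn : d < n) : ∀ (e : ℕ) (τ : Idx d n), codeg τ = e →
    Good K (schubertVanishing K d n τ) (e + 1) ∧
    ∀ G : Finset (Idx d n), G.Nonempty → (∀ φ ∈ G, φ ∈ divisors τ) →
      Good K (G.inf fun φ => schubertVanishing K d n φ) e := by
  classical
  intro e
  induction e using Nat.strong_induction_on with
  | _ e ih =>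
    intro τ hτ
    have hA : ∀ G : Finset (Idx d n), G.Nonempty → (∀ φ ∈ G, φ ∈ divisors τ) →
        Good K (G.inf fun φ => schubertVanishing K d n φ) e := by
      intro G hG
      induction hG using Finset.Nonempty.cons_induction with
      | singleton φ =>
        intro hsub
        have hφ := hsub φ (Finset.mem_singleton_self φ)
        rw [Finset.inf_singleton]
        have h1 : codeg φ + 1 = e := hτ ▸ hφ.2
        have := (ih (codeg φ) (by omega) φ rfl).1
        rwa [h1] at this
      | cons φ F hφF hF ihF =>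
        intro hsub
        have hφ := hsub φ (Finset.mem_cons_self φ F)
        have hF' : ∀ ψ ∈ F, ψ ∈ divisors τ := fun ψ hψ => hsub ψ (Finset.mem_cons.2 (Or.inr hψ))
        rw [Finset.inf_cons]
        have h1 : codeg φ + 1 = e := hτ ▸ hφ.2
        refine good_inf K _ _ e (codeg φ) h1 ?_ (ihF hF') ?_
        · have := (ih (codeg φ) (by omega) φ rfl).1
          rwa [h1] at this
        · rw [sup_comm, finset_inf_sup_eq K F φ hd]
          refine (ih (codeg φ) (by omega) φ rfl).2 _ (hF.image _) ?_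
          intro ψ hψ
          obtain ⟨ψ', hψ', rfl⟩ := Finset.mem_image.1 hψ
          exact inf_mem_divisors τ φ ψ' hφ (hF' ψ' hψ') (fun h => hφF (h ▸ hψ'))
    refine ⟨?_, hA⟩
    rw [← hτ]
    refine good_schubert_step K τ hd fun hex => ?_
    rw [Groth.Agent.S11254.result K d n hd hdn τ hex]
    have e1 : (⨅ φ ∈ divisors τ, schubertVanishing K d n φ) =
        (Finset.univ.filter (fun φ : Idx d n => φ ∈ divisors τ)).inf fun φ => schubertVanishing K d n φ := by
      rw [Finset.inf_eq_iInf]
      simp only [Finset.mem_filter, Finset.mem_univ, true_and]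
    rw [e1, hτ]
    refine hA _ ?_ ?_
    · obtain ⟨φ₀, hφ₀⟩ := hex
      obtain ⟨ψ, hψ, -⟩ := Groth.Agent.S11268.result d n φ₀ τ hφ₀
      exact ⟨ψ, Finset.mem_filter.2 ⟨Finset.mem_univ _, hψ⟩⟩
    · intro φ hφ
      exact (Finset.mem_filter.1 hφ).2

theorem good_schubert (hd : 0 < d) (hdn : d < n) (τ : Idx d n) :
    Good K (schubertVanishing K d n τ) (codeg τ + 1) :=
  (good_main K hd hdn (codeg τ) τ rfl).1

theorem good_divisors (hd : 0 < d) (hdn : d < n) (τ : Idx d n) (G : Finset (Idx d n)) (hG : G.Nonempty)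
    (hsub : ∀ φ ∈ G, φ ∈ divisors τ) : Good K (G.inf fun φ => schubertVanishing K d n φ) (codeg τ) :=
  (good_main K hd hdn (codeg τ) τ rfl).2 G hG hsub

end Main

end Groth.Agent.R2.H50.PlCM
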