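import Mathlib
import Groth.Prelude.Def_W4bk4grassmannianPl
import Groth.Prelude.Def_CAlgX
import Groth.Agent.R2.H50DetRing
import Groth.Agent.R2.H50PlCMMain
import Groth.Agent.R2.H50CMReg

/-!
# Determinantal rings are Cohen–Macaulay, with their dimension (helper50)

`K[Z]/I_t ≃ S/(J(φ) + (X_⊥ - 1))`, and `X_⊥ - 1` is a regular element on the Cohen–Macaulay ring `S/J(φ)`.
-/

set_option autoImplicit false

universe u

noncomputable section

namespace Groth.Agent.R2.H50.DetCM

open MvPolynomial W4bk4grassmannian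
open Groth.Agent.R2.H50.PlMain Groth.Agent.R2.H50.CellMinor Groth.Agent.R2.H50.DetIdx Groth.Agent.R2.H50.PlCell
open Groth.Agent.R2.H50.DetCell Groth.Agent.R2.H50.DetRing Groth.Agent.R2.H50.PlCM Groth.Agent.R2.H50
open Groth.Agent.Lib.Helper28

section General

variable (K : Type u) [Field K] {d n : ℕ}

/-- the Krull dimension of a quotient satisfying `Good`. -/
theorem ringKrullDim_of_good (𝔞 : Ideal (PlRing K d n)) (N : ℕ) (h : Good K 𝔞 N) (hne : 𝔞 ≠ ⊤) :
    ringKrullDim (PlRing K d n ⧸ 𝔞) = (N : WithBot ℕ∞) := by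
  haveI : Nontrivial (PlRing K d n ⧸ 𝔞) := Ideal.Quotient.nontrivial_iff.2 hne
  have hle𝔞 : ∀ M : Ideal (PlRing K d n ⧸ 𝔞), 𝔞 ≤ M.comap (Ideal.Quotient.mk 𝔞) := by
    intro M a ha
    rw [Ideal.mem_comap, Ideal.Quotient.eq_zero_iff_mem.2 ha]
    exact M.zero_mem
  apply le_antisymm
  · rw [ringKrullDim_le_iff_isMaximal_height_le]
    intro M hM
    haveI := hM.isPrime
    obtain ⟨δ, c, -, hs, -, hdim⟩ := h (M.comap (Ideal.Quotient.mk 𝔞)) (hle𝔞 M)
    rw [CM.ringKrullDim_LQ] at hdim
    rw [hdim]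
    exact_mod_cast (by omega : δ ≤ N)
  · obtain ⟨M, hM⟩ := Ideal.exists_maximal (PlRing K d n ⧸ 𝔞)
    haveI := hM.isPrime
    haveI hmax : (M.comap (Ideal.Quotient.mk 𝔞)).IsMaximal :=
      Ideal.comap_isMaximal_of_surjective _ Ideal.Quotient.mk_surjective
    obtain ⟨δ, c, hc, hs, -, hdim⟩ := h (M.comap (Ideal.Quotient.mk 𝔞)) (hle𝔞 M)
    have hfield : ringKrullDim (PlRing K d n ⧸ M.comap (Ideal.Quotient.mk 𝔞)) = 0 := by
      letI := Ideal.Quotient.field (M.comap (Ideal.Quotient.mk 𝔞))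
      exact ringKrullDim_eq_zero_of_field _
    rw [hfield] at hc
    have hc0 : c = 0 := by exact_mod_cast hc.symm
    rw [CM.ringKrullDim_LQ] at hdim
    have : (N : WithBot ℕ∞) = M.height := by
      rw [hdim]
      congr 1
      omega
    rw [this]
    exact Ideal.height_le_ringKrullDim_of_isPrime

end General

variable (K : Type u) [Field K] [Infinite K] (d r : ℕ) {t : ℕ} (hd : 0 < d) (ht : 0 < t) (htd : t ≤ d) (htr : t ≤ r)

/-- `S → B = K[Z]/I_t`: restriction to the opposite cell -/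
def pi0 (K : Type u) [Field K] (d r t : ℕ) : PlRing K d (d + r) →+* DetRing K d r t :=
  (Ideal.Quotient.mk _).comp (cellEv K d r).toRingHom

omit [Infinite K] in
theorem pi0_eq (F : PlRing K d (d + r)) : pi0 K d r t F = Polynomial.eval 1 (psi0 K d r t F) :=
  (eval_one_psi0 K d r t F).symm

omit [Infinite K] in
theorem pi0_surjective : Function.Surjective (pi0 K d r t) := by
  intro b
  obtain ⟨k, F, hF⟩ := hit_all K d r (Polynomial.C b)
  refine ⟨F, ?_⟩
  rw [pi0_eq, hF, Polynomial.eval_mul, Polynomial.eval_pow, Polynomial.eval_X, one_pow, one_mul, Polynomial.eval_C]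

/-- the ideal of the determinantal variety in the Plücker ring -/
def detIdeal : Ideal (PlRing K d (d + r)) :=
  schubertVanishing K d (d + r) (detIdx d r t ht htr) ⊔ Ideal.span {X (bot d r) - 1}

include hd htd in
theorem ker_pi0 : RingHom.ker (pi0 K d r t) = detIdeal K d r ht htr := by
  apply le_antisymm
  · intro F hF
    rw [RingHom.mem_ker, pi0_eq] at hF
    have hroot : Polynomial.IsRoot (psi0 K d r t F) 1 := hF
    obtain ⟨q, hq⟩ := Polynomial.dvd_iff_isRoot.2 hroot
    obtain ⟨k, F', hF'⟩ := hit_all K d r q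
    have h1 : X (bot d r) ^ k * F - (X (bot d r) - 1) * F' ∈
        schubertVanishing K d (d + r) (detIdx d r t ht htr) := by
      apply ker_psi0_le K d r hd ht htd htr
      rw [RingHom.mem_ker]
      show psi0 K d r t _ = 0
      rw [map_sub, map_mul, map_mul, map_pow, map_sub, map_one, psi0_bot, hF', hq, map_one]
      ring
    have h2 : X (bot d r) ^ k - 1 ∈ Ideal.span {X (bot d r) - (1 : PlRing K d (d + r))} := by
      rw [Ideal.mem_span_singleton]
      have := sub_dvd_pow_sub_pow (X (bot d r) : PlRing K d (d + r)) 1 k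
      rwa [one_pow] at this
    have h3 : F = (X (bot d r) ^ k * F - (X (bot d r) - 1) * F') + ((X (bot d r) - 1) * F' -
        (X (bot d r) ^ k - 1) * F) := by ring
    rw [h3]
    unfold detIdeal
    refine Ideal.add_mem _ (Ideal.mem_sup_left h1) (Ideal.mem_sup_right ?_)
    refine Ideal.sub_mem _ (Ideal.mul_mem_right _ _ (Ideal.subset_span rfl)) (Ideal.mul_mem_right _ _ h2)
  · unfold detIdeal
    refine sup_le ?_ ?_
    · intro F hF
      rw [RingHom.mem_ker, pi0_eq]
      have : psi0 K d r t F = 0 := schubertVanishing_le_ker_psi0 K d r hd ht htd htr hF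
      rw [this, Polynomial.eval_zero]
    · rw [Ideal.span_le, Set.singleton_subset_iff, SetLike.mem_coe, RingHom.mem_ker, pi0_eq, map_sub, map_one,
        psi0_bot, Polynomial.eval_sub, Polynomial.eval_X, Polynomial.eval_one, sub_self]

/-- `S/(J(φ) + (X_⊥ - 1)) ≃ K[Z]/I_t` -/
def detEquiv : (PlRing K d (d + r) ⧸ detIdeal K d r ht htr) ≃+* DetRing K d r t :=
  (Ideal.quotEquivOfEq (ker_pi0 K d r hd ht htd htr).symm).trans
    (RingHom.quotientKerEquivOfSurjective (pi0_surjective K d r))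

omit [Infinite K] in
include hd in
theorem bot_sub_one_notMem :
    X (bot d r) - 1 ∉ schubertVanishing K d (d + r) (detIdx d r t ht htr) := by
  intro h
  have h1 := PlRadical.schubertVanishing_le_irr K hd (detIdx d r t ht htr) h
  have h2 := PlRadical.X_mem_irr K (n := d + r) hd (bot d r)
  have h3 : (1 : PlRing K d (d + r)) ∈ PlRadical.irr K d (d + r) := by
    have := Ideal.sub_mem _ h2 h1
    rwa [sub_sub_cancel] at this
  have hmax := irr_isMaximal K (d := d) (n := d + r)
  exact hmax.ne_top ((Ideal.eq_top_iff_one _).2 h3)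

include hd in
theorem good_detIdeal (hgood : Good K (schubertVanishing K d (d + r) (detIdx d r t ht htr))
    (codeg (detIdx d r t ht htr) + 1)) :
    Good K (detIdeal K d r ht htr) (codeg (detIdx d r t ht htr)) := by
  intro p hp hle
  have hJ : schubertVanishing K d (d + r) (detIdx d r t ht htr) ≤ p := le_trans le_sup_left hle
  have hx : X (bot d r) - 1 ∈ p := hle (Ideal.mem_sup_right (Ideal.subset_span rfl))
  obtain ⟨δ, c, hc, hs, hcm, hdim⟩ := hgood p hJ
  haveI := schubertVanishing_isPrime K (detIdx d r t ht htr) hd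
  have hreg := CM.isSMulRegular_LQ_of_isPrime (schubertVanishing K d (d + r) (detIdx d r t ht htr))
    (X (bot d r) - 1) (bot_sub_one_notMem K d r hd ht htr) p hJ
  obtain ⟨hcm', hdim'⟩ := CM.cmLocal_LQ_quotient_regular _ _ p hJ hx hreg hcm
  rw [hdim] at hdim'
  -- the dimension drops by one
  haveI : Nontrivial (CM.LQ (detIdeal K d r ht htr) p) :=
    Ideal.Quotient.nontrivial_iff.2 (CM.map_ne_top _ p hle)
  obtain ⟨a, ha⟩ : ∃ a : ℕ∞, ringKrullDim (CM.LQ (detIdeal K d r ht htr) p) = (a : WithBot ℕ∞) := by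
    have : ringKrullDim (CM.LQ (detIdeal K d r ht htr) p) ≠ ⊥ := ringKrullDim_ne_bot
    exact ⟨_, (WithBot.coe_unbot _ this).symm⟩
  have ha' : ringKrullDim (CM.LQ (schubertVanishing K d (d + r) (detIdx d r t ht htr) ⊔
      Ideal.span {X (bot d r) - 1}) p) = (a : WithBot ℕ∞) := ha
  rw [ha'] at hdim'
  have h4 : (δ : ℕ∞) = a + 1 := by exact_mod_cast hdim'
  have hatop : a ≠ ⊤ := by
    intro h
    rw [h] at h4
    simp at h4
  obtain ⟨δ', rfl⟩ := ENat.ne_top_iff_exists.1 hatop
  have h5 : δ = δ' + 1 := by exact_mod_cast h4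
  refine ⟨δ', c, hc, by omega, hcm', ?_⟩
  rw [ha]
  rfl

end Groth.Agent.R2.H50.DetCM
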