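import Mathlib
import Groth.Prelude.Def_W4bk4grassmannianPl
import Groth.Prelude.Def_CAlgX
import Groth.Agent.R2.H50DetCM
import Groth.Agent.S11254

/-!
# Points of determinantal varieties and the top Plücker coordinate (helper50)

* `det_submatrix_eq_cellMinor`: a minor of `Z` is `± q_θ` for the index `θ` made of the complementary unit rows and the
  chosen rows of `Z`.
* `exists_eval_point`: a point of the cone over `X(φ)` with invertible top block comes from a point of the determinantal
  variety.
* `mem_sup_span_of_forall_eval`: a polynomial vanishing on `D_t ∩ V(q_φ)` lies in `I_t + (q_φ)`.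
-/

set_option autoImplicit false

universe u

noncomputable section

namespace Groth.Agent.R2.H50.DetPoint

open MvPolynomial W4bk4grassmannian
open Groth.Agent.R2.H50.PlMain Groth.Agent.R2.H50.CellMinor Groth.Agent.R2.H50.DetIdx Groth.Agent.R2.H50.PlCell
open Groth.Agent.R2.H50.DetCell

section Minor

variable (K : Type*) [CommRing K] (d r : ℕ)

theorem det_submatrix_eq_cellMinor {t : ℕ} (f : Fin t → Fin r) (g : Fin t → Fin d)
    (hf : Function.Injective f) (hg : Function.Injective g) (θ : Idx d (d + r))
    (hθ : ∀ s, (∃ u : Fin d, u ∉ Set.range g ∧ θ.1 s = Fin.castAdd r u) ∨ (∃ i, θ.1 s = Fin.natAdd d (f i))) :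
    ∃ e : ℕ, ((genMatrix K r d).submatrix f g).det = (-1) ^ e * cellMinor K d r θ := by
  classical
  let e₀ : (↥(Set.range g)ᶜ) ⊕ Fin t ≃ Fin d :=
    (Equiv.sumComm _ _).trans ((Equiv.sumCongr (Equiv.ofInjective g hg) (Equiv.refl _)).trans
      (Equiv.Set.sumCompl (Set.range g)))
  have he₀l : ∀ u : ↥(Set.range g)ᶜ, e₀ (Sum.inl u) = u.1 := fun u => rfl
  have he₀r : ∀ i : Fin t, e₀ (Sum.inr i) = g i := fun i => rfl
  let a : (↥(Set.range g)ᶜ) ⊕ Fin t → Fin (d + r) :=
    Sum.elim (fun u => Fin.castAdd r u.1) (fun i => Fin.natAdd d (f i))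
  have ha : Function.Injective a := by
    rintro (u | i) (u' | i') h
    · simp only [a, Sum.elim_inl] at h
      exact congrArg Sum.inl (Subtype.ext (Fin.castAdd_injective _ _ h))
    · simp only [a, Sum.elim_inl, Sum.elim_inr] at h
      have := congrArg Fin.val h
      simp only [Fin.val_castAdd, Fin.val_natAdd] at this
      have := u.1.isLt
      omega
    · simp only [a, Sum.elim_inl, Sum.elim_inr] at h
      have := congrArg Fin.val h
      simp only [Fin.val_castAdd, Fin.val_natAdd] at this
      have := u'.1.isLt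
      omega
    · simp only [a, Sum.elim_inr] at h
      have := congrArg Fin.val h
      simp only [Fin.val_natAdd] at this
      exact congrArg Sum.inr (hf (Fin.ext (by omega)))
  let b : Fin d → Fin (d + r) := a ∘ e₀.symm
  have hb : Function.Injective b := ha.comp e₀.symm.injective
  have hcard : (Finset.univ.image b).card = d := by
    rw [Finset.card_image_of_injective _ hb, Finset.card_univ, Fintype.card_fin]
  have hblock : ((cellMatrix K d r).submatrix b id).submatrix e₀ e₀ =
      Matrix.fromBlocks (1 : Matrix (↥(Set.range g)ᶜ) (↥(Set.range g)ᶜ) (CellRing K d r)) 0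
        (Matrix.of fun (i : Fin t) (u : ↥(Set.range g)ᶜ) => genMatrix K r d (f i) u.1)
        ((genMatrix K r d).submatrix f g) := by
    ext x y
    rw [Matrix.submatrix_apply, Matrix.submatrix_apply, id]
    have hbx : b (e₀ x) = a x := by simp [b]
    rw [hbx]
    rcases x with u | i
    · have hlt : (a (Sum.inl u)).val < d := by simp [a]
      rw [cellMatrix_apply_lt K d r _ _ hlt]
      rcases y with u' | j
      · rw [he₀l, Matrix.fromBlocks_apply₁₁, Matrix.one_apply]
        simp only [a, Sum.elim_inl, Fin.val_castAdd]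
        by_cases h : u = u'
        · subst h
          simp
        · have : (u.1 : ℕ) ≠ (u'.1 : ℕ) := fun h' => h (Subtype.ext (Fin.ext h'))
          simp [h, this]
      · rw [he₀r, Matrix.fromBlocks_apply₁₂, Matrix.zero_apply]
        simp only [a, Sum.elim_inl, Fin.val_castAdd]
        have : (u.1 : ℕ) ≠ (g j : ℕ) := by
          intro h'
          exact u.2 ⟨j, (Fin.ext h').symm⟩
        simp [this]
    · have hge : d ≤ (a (Sum.inr i)).val := by simp [a]
      rw [cellMatrix_apply_ge K d r _ _ hge]
      have hrow : (⟨(a (Sum.inr i)).val - d, by have := (a (Sum.inr i)).isLt; omega⟩ : Fin r) = f i := by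
        apply Fin.ext
        simp [a]
      rw [hrow]
      rcases y with u' | j
      · rw [he₀l, Matrix.fromBlocks_apply₂₁, Matrix.of_apply]
      · rw [he₀r, Matrix.fromBlocks_apply₂₂, Matrix.submatrix_apply]
  have hdet : ((cellMatrix K d r).submatrix b id).det = ((genMatrix K r d).submatrix f g).det := by
    rw [← Matrix.det_submatrix_equiv_self e₀, hblock, Matrix.det_fromBlocks_zero₁₂, Matrix.det_one, one_mul]
  have hcoord := Groth.Agent.R2.H50.PlCoord.evalMinors_coord (CellRing K d r) (cellMatrix K d r) b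
  unfold coord at hcoord
  rw [dif_pos hcard, map_mul, map_pow, map_neg, map_one, evalMinors_cellMatrix_X, hdet] at hcoord
  -- the sorted index is `θ`
  have hsort : sortIdx d (d + r) b hcard = θ := by
    apply Subtype.ext
    have h1 : θ.1 = fun s => (Finset.univ.image b).orderEmbOfFin hcard s := by
      have := Finset.orderEmbOfFin_unique hcard (f := θ.1) (fun s => ?_) θ.2
      · rw [this]
      · rw [Finset.mem_image]
        rcases hθ s with ⟨u, hu, hs⟩ | ⟨i, hs⟩
        · refine ⟨e₀ (Sum.inl ⟨u, hu⟩), Finset.mem_univ _, ?_⟩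
          rw [hs]
          simp [b, a]
        · refine ⟨e₀ (Sum.inr i), Finset.mem_univ _, ?_⟩
          rw [hs]
          simp [b, a]
    rw [h1]
    rfl
  rw [hsort] at hcoord
  exact ⟨invCount d (d + r) b, hcoord.symm⟩

end Minor

section Point

variable (K : Type u) [Field K] (d r : ℕ) {t : ℕ}

/-- a point of the cone over `X(φ)` with invertible top block comes from a point of the determinantal variety. -/
theorem exists_eval_point (hd : 0 < d) (ht : 0 < t) (htd : t ≤ d) (htr : t ≤ r)
    (A : Matrix (Fin (d + r)) (Fin d) K)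
    (hA : ∀ θ : Idx d (d + r), ¬ θ ≤ detIdx d r t ht htr → (A.submatrix θ.1 id).det = 0)
    (hδ : (A.submatrix (bot d r).1 id).det ≠ 0) :
    ∃ z : Fin r × Fin d → K, (∀ g ∈ CAlgX.minorIdeal (genMatrix K r d) t, MvPolynomial.eval z g = 0) ∧
      (∀ θ : Idx d (d + r), MvPolynomial.eval z (cellMinor K d r θ) * (A.submatrix (bot d r).1 id).det =
        (A.submatrix θ.1 id).det) ∧
      ∀ (F : PlRing K d (d + r)) (k : ℕ) (G : CellRing K d r),
        psi0 K d r t F = Polynomial.X ^ k * Polynomial.C (Ideal.Quotient.mk _ G) →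
        evalMinors K d (d + r) A F = (A.submatrix (bot d r).1 id).det ^ k * MvPolynomial.eval z G := by
  obtain ⟨z, hz⟩ := exists_pointCell_mul K d r A hδ
  set δ := (A.submatrix (bot d r).1 id).det with hδdef
  have hdet : ∀ a : Fin d → Fin (d + r), (A.submatrix a id).det =
      ((pointCell K d r z).submatrix a id).det * δ := by
    intro a
    conv_lhs => rw [← hz]
    exact det_submatrix_mul K d r _ _ a
  have hvan : ∀ g ∈ CAlgX.minorIdeal (genMatrix K r d) t, MvPolynomial.eval z g = 0 := by
    intro g hg
    have hle : CAlgX.minorIdeal (genMatrix K r d) t ≤ RingHom.ker (MvPolynomial.eval z) := by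
      unfold CAlgX.minorIdeal
      rw [Ideal.span_le]
      rintro _ ⟨⟨f', g'⟩, rfl⟩
      have hmem := minor_mem_span_cellMinor K d r t hd ht htd f' g'
      have hle2 : Ideal.span {q : CellRing K d r | ∃ θ : Idx d (d + r),
          d ≤ (θ.1 ⟨d - t, Nat.sub_lt hd ht⟩).val ∧ q = cellMinor K d r θ} ≤
          RingHom.ker (MvPolynomial.eval z) := by
        rw [Ideal.span_le]
        rintro _ ⟨θ, hθ, rfl⟩
        rw [SetLike.mem_coe, RingHom.mem_ker]
        unfold cellMinor
        rw [eval_cellMinor]
        have h1 := hA θ ((not_le_detIdx_iff d r t hd ht htd htr θ).2 hθ)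
        rw [hdet] at h1
        exact (mul_eq_zero.1 h1).resolve_right hδ
      exact hle2 hmem
    exact hle hg
  refine ⟨z, hvan, ?_, ?_⟩
  · intro θ
    unfold cellMinor
    rw [eval_cellMinor, hdet]
  · intro F k G hF
    let ev : DetRing K d r t →+* K := Ideal.Quotient.lift _ (MvPolynomial.eval z) hvan
    have hcomp : (Polynomial.eval₂RingHom ev δ).comp (psi0 K d r t).toRingHom =
        (evalMinors K d (d + r) A).toRingHom := by
      refine MvPolynomial.ringHom_ext (fun k => ?_) (fun θ => ?_)
      · simp only [AlgHom.toRingHom_eq_coe, RingHom.coe_coe, RingHom.comp_apply, MvPolynomial.algHom_C]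
        rw [Polynomial.algebraMap_apply, Polynomial.coe_eval₂RingHom, Polynomial.eval₂_C]
        show ev (Ideal.Quotient.mk _ (C k)) = _
        rw [Ideal.Quotient.lift_mk, eval_C]
        rfl
      · simp only [AlgHom.toRingHom_eq_coe, RingHom.coe_coe, RingHom.comp_apply, psi0_X,
          Polynomial.coe_eval₂RingHom, Polynomial.eval₂_mul, Polynomial.eval₂_X, Polynomial.eval₂_C]
        show δ * ev (Ideal.Quotient.mk _ (cellMinor K d r θ)) = _
        rw [Ideal.Quotient.lift_mk]
        unfold cellMinor evalMinors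
        rw [aeval_X, eval_cellMinor, hdet, mul_comm]
    have h2 : evalMinors K d (d + r) A F = Polynomial.eval₂RingHom ev δ (psi0 K d r t F) :=
      (RingHom.congr_fun hcomp F).symm
    rw [h2, hF, Polynomial.coe_eval₂RingHom, Polynomial.eval₂_mul, Polynomial.eval₂_C, Polynomial.eval₂_pow,
      Polynomial.eval₂_X]
    rfl

/-- a polynomial vanishing on `D_t ∩ V(q_φ)` lies in `I_t + (q_φ)`. -/
theorem mem_sup_span_of_forall_eval [IsAlgClosed K] (hd : 0 < d) (hr : 0 < r) (ht : 1 < t) (htd : t ≤ d)
    (htr : t ≤ r) (h : CellRing K d r)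
    (hh : ∀ z : Fin r × Fin d → K, (∀ g ∈ CAlgX.minorIdeal (genMatrix K r d) t, MvPolynomial.eval z g = 0) →
      MvPolynomial.eval z (cellMinor K d r (detIdx d r t (by omega) htr)) = 0 → MvPolynomial.eval z h = 0) :
    h ∈ CAlgX.minorIdeal (genMatrix K r d) t ⊔
      Ideal.span {cellMinor K d r (detIdx d r t (by omega) htr)} := by
  have ht0 : 0 < t := by omega
  haveI : Infinite K := IsAlgClosed.instInfinite
  set φ := detIdx d r t ht0 htr with hφ
  obtain ⟨k, H, hH⟩ := hit_all K d r
    (Polynomial.C (Ideal.Quotient.mk (CAlgX.minorIdeal (genMatrix K r d) t) h))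
  -- `H` vanishes on every Schubert divisor of `X(φ)`
  have hdiv : ∀ φ' ∈ divisors φ, H ∈ schubertVanishing K d (d + r) φ' := by
    intro φ' hφ'
    have hprime := schubertVanishing_isPrime K φ' hd
    have hbot := X_notMem_schubertVanishing K φ' (bot d r) hd (bot_le r _)
    have key : X (bot d r) * H ∈ schubertVanishing K d (d + r) φ' := by
      unfold schubertVanishing
      rw [Ideal.mem_iInf]
      intro A
      rw [Ideal.mem_iInf]
      intro hA
      rw [RingHom.mem_ker]
      show evalMinors K d (d + r) A (X (bot d r) * H) = 0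
      rw [map_mul]
      by_cases hδ : (A.submatrix (bot d r).1 id).det = 0
      · have : evalMinors K d (d + r) A (X (bot d r)) = 0 := by
          unfold evalMinors
          rw [aeval_X]
          exact hδ
        rw [this, zero_mul]
      · have hA' : ∀ θ : Idx d (d + r), ¬ θ ≤ φ → (A.submatrix θ.1 id).det = 0 :=
          fun θ hθ => hA θ (fun hle => hθ (le_trans hle (le_of_lt hφ'.1)))
        obtain ⟨z, hvan, hmin, hev⟩ := exists_eval_point K d r hd ht0 htd htr A hA' hδ
        have hφ0 : MvPolynomial.eval z (cellMinor K d r φ) = 0 := by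
          have h1 := hmin φ
          rw [hA φ (not_le_of_gt hφ'.1)] at h1
          exact (mul_eq_zero.1 h1).resolve_right hδ
        rw [hev H k h hH, hh z hvan hφ0, mul_zero, mul_zero]
    exact (hprime.mem_or_mem key).resolve_left hbot
  have hlt : bot d r < φ := by
    refine lt_of_le_of_ne (bot_le r φ) ?_
    intro heq
    have h1 := congrArg (fun θ : Idx d (d + r) => (θ.1 ⟨0, hd⟩).val) heq
    simp only [bot, Fin.val_castAdd] at h1
    have h2 : ((detIdx d r t ht0 htr).1 ⟨0, hd⟩).val = t - 1 := by
      have h3 : (⟨0, hd⟩ : Fin d).val + t ≤ d := by simp; omega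
      simp only [detIdx, h3, dif_pos]
      omega
    rw [← hφ] at h2
    omega
  have hdn : d < d + r := by omega
  have hmem : H ∈ schubertVanishing K d (d + r) φ ⊔ Ideal.span {X φ} := by
    rw [Groth.Agent.S11254.result K d (d + r) hd hdn φ ⟨bot d r, hlt⟩, Ideal.mem_iInf]
    intro φ'
    rw [Ideal.mem_iInf]
    exact hdiv φ'
  obtain ⟨H₀, hH₀, G, hG, hsum⟩ := Submodule.mem_sup.1 hmem
  obtain ⟨c, rfl⟩ := Ideal.mem_span_singleton'.1 hG
  -- apply the restriction to the cell
  have h1 : Groth.Agent.R2.H50.DetCM.pi0 K d r t H = Ideal.Quotient.mk _ h := by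
    rw [Groth.Agent.R2.H50.DetCM.pi0_eq, hH, Polynomial.eval_mul, Polynomial.eval_pow, Polynomial.eval_X,
      one_pow, one_mul, Polynomial.eval_C]
  have h2 : Groth.Agent.R2.H50.DetCM.pi0 K d r t H₀ = 0 := by
    rw [Groth.Agent.R2.H50.DetCM.pi0_eq,
      show psi0 K d r t H₀ = 0 from schubertVanishing_le_ker_psi0 K d r hd ht0 htd htr hH₀, Polynomial.eval_zero]
  have h3 : Ideal.Quotient.mk (CAlgX.minorIdeal (genMatrix K r d) t) h =
      Ideal.Quotient.mk _ (cellEv K d r c * cellMinor K d r φ) := by
    rw [← h1, ← hsum, map_add, h2, zero_add, map_mul]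
    unfold Groth.Agent.R2.H50.DetCM.pi0
    simp only [RingHom.comp_apply, AlgHom.toRingHom_eq_coe, RingHom.coe_coe, cellEv_X, map_mul]
  have h4 : h - cellEv K d r c * cellMinor K d r φ ∈ CAlgX.minorIdeal (genMatrix K r d) t := by
    rw [← Ideal.Quotient.eq_zero_iff_mem, map_sub, h3, sub_self]
  have h5 : h = (h - cellEv K d r c * cellMinor K d r φ) + cellEv K d r c * cellMinor K d r φ := by ring
  rw [h5]
  exact Ideal.add_mem _ (Ideal.mem_sup_left h4)
    (Ideal.mem_sup_right (Ideal.mul_mem_left _ _ (Ideal.subset_span rfl)))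

end Point

end Groth.Agent.R2.H50.DetPoint
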