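import Mathlib
import Groth.Prelude.Def_W4bk4grassmannianPl
import Groth.Agent.Lib.Helper24Grass
import Groth.Agent.R2.H50DetIdx

/-!
# Minors of an `r × d` matrix and Schubert indices in `I(d, d+r)` (helper50)

`Mθ M` is the index whose Plücker coordinate restricts, on the opposite cell `[I ; Z]`, to the minor `[rev A | B]` of `Z`
(rows reversed): its members are the unit rows outside `B` and the rows `d + rev(A_i)`.  The order `MinorGE` corresponds to
the reverse of the entrywise order, sizes correspond to the number of members `≥ d`, and every index `≠ ⊥` arises.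
-/

set_option autoImplicit false

namespace Groth.Agent.R2.H50.MinorComb

open W4bk4grassmannian Groth.Agent.R2.H50.DetIdx

/-! ### counting functions -/

/-- number of entries of a tuple below `x` -/
def cnt {p N : ℕ} (a : Fin p → Fin N) (x : ℕ) : ℕ := (Finset.univ.filter fun j => (a j).val < x).card

theorem cnt_le {p N : ℕ} (a : Fin p → Fin N) (x : ℕ) : cnt a x ≤ p := by
  unfold cnt
  calc _ ≤ (Finset.univ : Finset (Fin p)).card := Finset.card_filter_le _ _
    _ = p := by simp

theorem cnt_eq_of_le {p N : ℕ} (a : Fin p → Fin N) {x : ℕ} (hx : N ≤ x) : cnt a x = p := by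
  unfold cnt
  rw [Finset.filter_true_of_mem (fun j _ => lt_of_lt_of_le (a j).isLt hx)]
  simp

theorem lt_iff_lt_cnt {p N : ℕ} (a : Fin p → Fin N) (ha : StrictMono a) (j : Fin p) (x : ℕ) :
    (a j).val < x ↔ j.val < cnt a x := by
  constructor
  · intro h
    have hsub : Finset.Iic j ⊆ Finset.univ.filter fun j' => (a j').val < x := by
      intro j' hj'
      rw [Finset.mem_Iic] at hj'
      rw [Finset.mem_filter]
      refine ⟨Finset.mem_univ _, lt_of_le_of_lt ?_ h⟩
      exact Fin.le_def.1 (ha.monotone hj')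
    have := Finset.card_le_card hsub
    rw [Fin.card_Iic] at this
    unfold cnt
    omega
  · intro h
    by_contra hcon
    have hsub : (Finset.univ.filter fun j' => (a j').val < x) ⊆ Finset.Iio j := by
      intro j' hj'
      rw [Finset.mem_filter] at hj'
      rw [Finset.mem_Iio]
      by_contra hle
      have h1 : a j ≤ a j' := ha.monotone (not_lt.1 hle)
      have h2 := Fin.le_def.1 h1
      omega
    have := Finset.card_le_card hsub
    rw [Fin.card_Iio] at this
    unfold cnt at h
    omega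

theorem cnt_le_self {p N : ℕ} (a : Fin p → Fin N) (ha : StrictMono a) (x : ℕ) : cnt a x ≤ x := by
  by_contra hcon
  push Not at hcon
  have hp := cnt_le a x
  have h1 := (lt_iff_lt_cnt a ha ⟨x, by omega⟩ x).2 hcon
  have h2 := Groth.Agent.Lib.Helper24Grass.val_le_of_strictMono a ha ⟨x, by omega⟩
  simp only at h1 h2
  omega

/-- the dominance order on increasing tuples in terms of counting functions -/
theorem dominance {p p' N : ℕ} (a : Fin p → Fin N) (a' : Fin p' → Fin N) (ha : StrictMono a)
    (ha' : StrictMono a') :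
    (p ≤ p' ∧ ∀ (j : Fin p) (j' : Fin p'), j.val = j'.val → a' j' ≤ a j) ↔ ∀ x, cnt a x ≤ cnt a' x := by
  constructor
  · rintro ⟨hp, h⟩ x
    by_contra hcon
    push Not at hcon
    have h1 := cnt_le a x
    have h2 : ((a ⟨cnt a' x, by omega⟩ : Fin N) : ℕ) < x := (lt_iff_lt_cnt a ha ⟨cnt a' x, by omega⟩ x).2 hcon
    have h3 := h ⟨cnt a' x, by omega⟩ ⟨cnt a' x, by omega⟩ rfl
    have h4 : ((a' ⟨cnt a' x, by omega⟩ : Fin N) : ℕ) < x := lt_of_le_of_lt (Fin.le_def.1 h3) h2
    have h5 := (lt_iff_lt_cnt a' ha' ⟨cnt a' x, by omega⟩ x).1 h4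
    simp only at h5
    omega
  · intro h
    have hp : p ≤ p' := by
      have := h N
      rwa [cnt_eq_of_le a le_rfl, cnt_eq_of_le a' le_rfl] at this
    refine ⟨hp, fun j j' hjj => ?_⟩
    have h1 : j.val < cnt a ((a j).val + 1) := (lt_iff_lt_cnt a ha j _).1 (Nat.lt_succ_self _)
    have h2 : j'.val < cnt a' ((a j).val + 1) := by
      have := h ((a j).val + 1)
      omega
    have h3 := (lt_iff_lt_cnt a' ha' j' _).2 h2
    rw [Fin.le_def]
    omega

theorem le_iff_cnt {d N : ℕ} (θ θ' : Idx d N) : θ ≤ θ' ↔ ∀ x, cnt θ'.1 x ≤ cnt θ.1 x := by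
  rw [← dominance θ'.1 θ.1 θ'.2 θ.2]
  constructor
  · intro h
    refine ⟨le_rfl, fun j j' hjj => ?_⟩
    have : j = j' := Fin.ext hjj
    rw [this]
    exact h j'
  · rintro ⟨-, h⟩ j
    exact h j j rfl

theorem eq_of_cnt_eq {d N : ℕ} (θ θ' : Idx d N) (h : ∀ x, cnt θ.1 x = cnt θ'.1 x) : θ = θ' :=
  le_antisymm ((le_iff_cnt θ θ').2 fun x => (h x).ge) ((le_iff_cnt θ' θ).2 fun x => (h x).le)

theorem minorGE_iff {m n : ℕ} (M M' : MinorIdx m n) :
    MinorGE M M' ↔ (∀ x, cnt M.2.1.1 x ≤ cnt M'.2.1.1 x) ∧ (∀ x, cnt M.2.2.1 x ≤ cnt M'.2.2.1 x) := by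
  rw [← dominance M.2.1.1 M'.2.1.1 M.2.1.2 M'.2.1.2, ← dominance M.2.2.1 M'.2.2.1 M.2.2.2 M'.2.2.2]
  unfold MinorGE
  constructor
  · rintro ⟨hs, h⟩
    exact ⟨⟨by omega, fun j j' hjj => (h j j' hjj).1⟩, ⟨by omega, fun j j' hjj => (h j j' hjj).2⟩⟩
  · rintro ⟨⟨hs, h1⟩, ⟨-, h2⟩⟩
    exact ⟨by omega, fun j j' hjj => ⟨h1 j j' hjj, h2 j j' hjj⟩⟩

theorem minorGE_antisymm {m n : ℕ} {M M' : MinorIdx m n} (h : MinorGE M M') (h' : MinorGE M' M) : M = M' := by
  obtain ⟨s, A, B⟩ := M
  obtain ⟨s', A', B'⟩ := M'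
  have hs : s = s' := le_antisymm h.1 h'.1
  subst hs
  have hA : A = A' := by
    apply Subtype.ext
    funext j
    exact le_antisymm (h'.2 j j rfl).1 (h.2 j j rfl).1
  have hB : B = B' := by
    apply Subtype.ext
    funext j
    exact le_antisymm (h'.2 j j rfl).2 (h.2 j j rfl).2
  rw [hA, hB]


/-! ### counting lemmas for ranges of injective tuples -/

theorem card_range_filter {p N : ℕ} (a : Fin p → Fin N) (ha : Function.Injective a) (Q : Fin N → Prop)
    [DecidablePred Q] [DecidablePred fun y => y ∈ Set.range a] :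
    (Finset.univ.filter fun y => y ∈ Set.range a ∧ Q y).card = (Finset.univ.filter fun j => Q (a j)).card := by
  classical
  have : (Finset.univ.filter fun y => y ∈ Set.range a ∧ Q y) = (Finset.univ.filter fun j => Q (a j)).image a := by
    ext y
    simp only [Finset.mem_filter, Finset.mem_univ, true_and, Finset.mem_image, Set.mem_range]
    constructor
    · rintro ⟨⟨j, rfl⟩, hQ⟩
      exact ⟨j, hQ, rfl⟩
    · rintro ⟨j, hQ, rfl⟩
      exact ⟨⟨j, rfl⟩, hQ⟩
  rw [this, Finset.card_image_of_injective _ ha]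

theorem card_not_range_filter {p N : ℕ} (a : Fin p → Fin N) (ha : Function.Injective a) (Q : Fin N → Prop)
    [DecidablePred Q] [DecidablePred fun y => y ∈ Set.range a] :
    (Finset.univ.filter fun y => y ∉ Set.range a ∧ Q y).card + (Finset.univ.filter fun j => Q (a j)).card =
      (Finset.univ.filter Q).card := by
  classical
  rw [← card_range_filter a ha Q]
  have h1 := Finset.card_filter_add_card_filter_not (s := Finset.univ.filter Q) (fun y => y ∈ Set.range a)
  rw [Finset.filter_filter, Finset.filter_filter] at h1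
  rw [← h1, add_comm]
  congr 2
  · ext y
    simp only [Finset.mem_filter, Finset.mem_univ, true_and]
    tauto
  · ext y
    simp only [Finset.mem_filter, Finset.mem_univ, true_and]
    tauto

/-! ### the index attached to a minor -/

variable {d r : ℕ}

open Classical in
/-- the rows of `[I ; Z]` attached to a minor `[A | B]`: the unit rows outside `B` and the rows `d + rev(A_i)` -/
def memSet (M : MinorIdx r d) : Finset (Fin (d + r)) :=
  Finset.univ.filter fun y => (∃ u : Fin d, u ∉ Set.range M.2.2.1 ∧ y = Fin.castAdd r u) ∨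
    (∃ i, y = Fin.natAdd d (Fin.rev (M.2.1.1 i)))

theorem size_le_cols (M : MinorIdx r d) : M.1 + 1 ≤ d := by
  have := Fintype.card_le_of_injective M.2.2.1 M.2.2.2.injective
  simpa using this

theorem size_le_rows (M : MinorIdx r d) : M.1 + 1 ≤ r := by
  have := Fintype.card_le_of_injective M.2.1.1 M.2.1.2.injective
  simpa using this

/-- the number of members of `memSet M` below `x` -/
theorem card_memSet_filter (M : MinorIdx r d) (x : ℕ) :
    ((memSet M).filter fun y => y.val < x).card =
      (min d x - cnt M.2.2.1 x) + ((M.1 + 1) - cnt M.2.1.1 (r - (x - d))) := by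
  classical
  unfold memSet
  rw [Finset.filter_filter, Finset.card_filter, Fin.sum_univ_add]
  congr 1
  · -- the unit rows
    have h1 : ∀ u : Fin d, (((∃ u' : Fin d, u' ∉ Set.range M.2.2.1 ∧ Fin.castAdd r u = Fin.castAdd r u') ∨
        (∃ i, Fin.castAdd r u = Fin.natAdd d (Fin.rev (M.2.1.1 i)))) ∧ (Fin.castAdd r u).val < x) ↔
        (u ∉ Set.range M.2.2.1 ∧ u.val < x) := by
      intro u
      constructor
      · rintro ⟨⟨u', hu', he⟩ | ⟨i, he⟩, hx⟩
        · rw [Fin.castAdd_inj] at he
          subst he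
          exact ⟨hu', hx⟩
        · exfalso
          have := congrArg Fin.val he
          simp only [Fin.val_castAdd, Fin.val_natAdd] at this
          have := u.isLt
          omega
      · rintro ⟨hu, hx⟩
        exact ⟨Or.inl ⟨u, hu, rfl⟩, hx⟩
    simp only [h1]
    rw [← Finset.card_filter]
    have h2 := card_not_range_filter M.2.2.1 M.2.2.2.injective (fun u => u.val < x)
    have h3 : (Finset.univ.filter fun u : Fin d => u.val < x).card = min d x := Fin.card_filter_val_lt
    unfold cnt
    omega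
  · -- the rows of `Z`
    have h1 : ∀ v : Fin r, (((∃ u' : Fin d, u' ∉ Set.range M.2.2.1 ∧ Fin.natAdd d v = Fin.castAdd r u') ∨
        (∃ i, Fin.natAdd d v = Fin.natAdd d (Fin.rev (M.2.1.1 i)))) ∧ (Fin.natAdd d v).val < x) ↔
        (Fin.rev v ∈ Set.range M.2.1.1 ∧ d + v.val < x) := by
      intro v
      simp only [Fin.val_natAdd]
      constructor
      · rintro ⟨⟨u', hu', he⟩ | ⟨i, he⟩, hx⟩
        · exfalso
          have := congrArg Fin.val he
          simp only [Fin.val_castAdd, Fin.val_natAdd] at this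
          have := u'.isLt
          omega
        · rw [Fin.natAdd_inj] at he
          exact ⟨⟨i, by rw [he, Fin.rev_rev]⟩, hx⟩
      · rintro ⟨⟨i, hi⟩, hx⟩
        exact ⟨Or.inr ⟨i, by rw [hi, Fin.rev_rev]⟩, hx⟩
    simp only [h1]
    rw [← Finset.card_filter]
    have h2 : (Finset.univ.filter fun v : Fin r => Fin.rev v ∈ Set.range M.2.1.1 ∧ d + v.val < x).card =
        (Finset.univ.filter fun a : Fin r => a ∈ Set.range M.2.1.1 ∧ d + (Fin.rev a).val < x).card := by
      refine Finset.card_bij (fun v _ => Fin.rev v) ?_ ?_ ?_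
      · intro v hv
        simp only [Finset.mem_filter, Finset.mem_univ, true_and] at hv ⊢
        rw [Fin.rev_rev]
        exact hv
      · intro v _ v' _ h
        exact Fin.rev_injective h
      · intro a ha
        simp only [Finset.mem_filter, Finset.mem_univ, true_and] at ha
        refine ⟨Fin.rev a, ?_, Fin.rev_rev a⟩
        simp only [Finset.mem_filter, Finset.mem_univ, true_and]
        rw [Fin.rev_rev]
        exact ha
    rw [h2, card_range_filter M.2.1.1 M.2.1.2.injective (fun a => d + (Fin.rev a).val < x)]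
    have h3 := Finset.card_filter_add_card_filter_not (s := (Finset.univ : Finset (Fin (M.1 + 1))))
      (fun i => d + (Fin.rev (M.2.1.1 i)).val < x)
    rw [Finset.card_univ, Fintype.card_fin] at h3
    have h4 : (Finset.univ.filter fun i : Fin (M.1 + 1) => ¬ d + (Fin.rev (M.2.1.1 i)).val < x) =
        Finset.univ.filter fun i => (M.2.1.1 i).val < r - (x - d) := by
      ext i
      simp only [Finset.mem_filter, Finset.mem_univ, true_and, Fin.val_rev]
      have := (M.2.1.1 i).isLt
      omega
    rw [h4] at h3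
    unfold cnt
    omega

theorem card_memSet (M : MinorIdx r d) : (memSet M).card = d := by
  classical
  have h := card_memSet_filter M (d + r)
  rw [Finset.filter_true_of_mem (fun y _ => y.isLt)] at h
  rw [h, cnt_eq_of_le M.2.2.1 (by omega)]
  have h2 : cnt M.2.1.1 (r - (d + r - d)) = 0 := by
    unfold cnt
    rw [Finset.card_eq_zero, Finset.filter_eq_empty_iff]
    intro i _
    omega
  rw [h2]
  have := size_le_cols M
  omega

/-- the index attached to a minor -/
def Mθ (M : MinorIdx r d) : Idx d (d + r) :=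
  ⟨fun j => (memSet M).orderEmbOfFin (card_memSet M) j, ((memSet M).orderEmbOfFin (card_memSet M)).strictMono⟩

theorem Mθ_mem (M : MinorIdx r d) (j : Fin d) : (Mθ M).1 j ∈ memSet M :=
  Finset.orderEmbOfFin_mem _ _ j

theorem cnt_eq_card_image {N : ℕ} (θ : Idx d N) (x : ℕ) :
    cnt θ.1 x = ((Finset.univ.image θ.1).filter fun y => y.val < x).card := by
  classical
  unfold cnt
  rw [Finset.filter_image, Finset.card_image_of_injective _ θ.2.injective]

theorem image_Mθ (M : MinorIdx r d) : Finset.univ.image (Mθ M).1 = memSet M :=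
  Finset.image_orderEmbOfFin_univ _ _

theorem cnt_Mθ (M : MinorIdx r d) (x : ℕ) :
    cnt (Mθ M).1 x = (min d x - cnt M.2.2.1 x) + ((M.1 + 1) - cnt M.2.1.1 (r - (x - d))) := by
  rw [cnt_eq_card_image, image_Mθ, card_memSet_filter]


/-! ### order, size, injectivity -/

theorem minorGE_iff_Mθ_le (M M' : MinorIdx r d) : MinorGE M M' ↔ Mθ M ≤ Mθ M' := by
  rw [minorGE_iff, le_iff_cnt]
  have s1 := size_le_cols M
  have s1' := size_le_cols M'
  constructor
  · rintro ⟨hA, hB⟩ x
    rw [cnt_Mθ, cnt_Mθ]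
    have a1 := hB x
    have a2 := hA (r - (x - d))
    have b1 := cnt_le_self M.2.2.1 M.2.2.2 x
    have b1' := cnt_le_self M'.2.2.1 M'.2.2.2 x
    have c1 := cnt_le M.2.2.1 x
    have c1' := cnt_le M'.2.2.1 x
    have c2 := cnt_le M.2.1.1 (r - (x - d))
    have c2' := cnt_le M'.2.1.1 (r - (x - d))
    by_cases hx : x ≤ d
    · have e1 : cnt M.2.1.1 (r - (x - d)) = M.1 + 1 := cnt_eq_of_le _ (by omega)
      have e1' : cnt M'.2.1.1 (r - (x - d)) = M'.1 + 1 := cnt_eq_of_le _ (by omega)
      omega
    · have e1 : cnt M.2.2.1 x = M.1 + 1 := cnt_eq_of_le _ (by omega)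
      have e1' : cnt M'.2.2.1 x = M'.1 + 1 := cnt_eq_of_le _ (by omega)
      omega
  · intro h
    have hsize : M.1 + 1 ≤ M'.1 + 1 := by
      have h0 := h d
      rw [cnt_Mθ, cnt_Mθ] at h0
      have e1 : cnt M.2.2.1 d = M.1 + 1 := cnt_eq_of_le _ le_rfl
      have e1' : cnt M'.2.2.1 d = M'.1 + 1 := cnt_eq_of_le _ le_rfl
      have e2 : cnt M.2.1.1 (r - (d - d)) = M.1 + 1 := cnt_eq_of_le _ (by omega)
      have e2' : cnt M'.2.1.1 (r - (d - d)) = M'.1 + 1 := cnt_eq_of_le _ (by omega)
      omega
    constructor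
    · intro y
      by_cases hy : y ≤ r
      · have h0 := h (d + (r - y))
        rw [cnt_Mθ, cnt_Mθ] at h0
        have e : r - (d + (r - y) - d) = y := by omega
        rw [e] at h0
        have e1 : cnt M.2.2.1 (d + (r - y)) = M.1 + 1 := cnt_eq_of_le _ (by omega)
        have e1' : cnt M'.2.2.1 (d + (r - y)) = M'.1 + 1 := cnt_eq_of_le _ (by omega)
        have c2 := cnt_le M.2.1.1 y
        have c2' := cnt_le M'.2.1.1 y
        omega
      · have e1 : cnt M.2.1.1 y = M.1 + 1 := cnt_eq_of_le _ (by omega)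
        have e1' : cnt M'.2.1.1 y = M'.1 + 1 := cnt_eq_of_le _ (by omega)
        omega
    · intro x
      by_cases hx : x ≤ d
      · have h0 := h x
        rw [cnt_Mθ, cnt_Mθ] at h0
        have e1 : cnt M.2.1.1 (r - (x - d)) = M.1 + 1 := cnt_eq_of_le _ (by omega)
        have e1' : cnt M'.2.1.1 (r - (x - d)) = M'.1 + 1 := cnt_eq_of_le _ (by omega)
        have b1 := cnt_le_self M.2.2.1 M.2.2.2 x
        have b1' := cnt_le_self M'.2.2.1 M'.2.2.2 x
        omega
      · have e1 : cnt M.2.2.1 x = M.1 + 1 := cnt_eq_of_le _ (by omega)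
        have e1' : cnt M'.2.2.1 x = M'.1 + 1 := cnt_eq_of_le _ (by omega)
        omega

theorem cnt_Mθ_d (M : MinorIdx r d) : cnt (Mθ M).1 d = d - (M.1 + 1) := by
  rw [cnt_Mθ]
  have e1 : cnt M.2.2.1 d = M.1 + 1 := cnt_eq_of_le _ le_rfl
  have e2 : cnt M.2.1.1 (r - (d - d)) = M.1 + 1 := cnt_eq_of_le _ (by omega)
  rw [e1, e2]
  omega

theorem Mθ_le_detIdx_iff (M : MinorIdx r d) (t : ℕ) (hd : 0 < d) (ht : 0 < t) (htd : t ≤ d) (htr : t ≤ r) :
    Mθ M ≤ detIdx d r t ht htr ↔ M.1 + 1 ≤ t - 1 := by
  rw [le_detIdx_iff d r t hd ht htd htr, lt_iff_lt_cnt (Mθ M).1 (Mθ M).2, cnt_Mθ_d]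
  have := size_le_cols M
  simp only
  omega

theorem cnt_bot (d r : ℕ) : cnt (bot d r).1 d = d := by
  unfold cnt
  rw [Finset.filter_true_of_mem (fun j _ => by simp [bot])]
  simp

theorem Mθ_ne_bot (M : MinorIdx r d) : Mθ M ≠ bot d r := by
  intro h
  have h1 := cnt_Mθ_d M
  rw [h, cnt_bot] at h1
  have := size_le_cols M
  omega

theorem Mθ_injective : Function.Injective (Mθ (d := d) (r := r)) := by
  intro M M' h
  exact minorGE_antisymm ((minorGE_iff_Mθ_le M M').2 (le_of_eq h)) ((minorGE_iff_Mθ_le M' M).2 (le_of_eq h.symm))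


/-! ### surjectivity -/

theorem eq_bot_of_forall_lt (θ : Idx d (d + r)) (h : ∀ j, (θ.1 j).val < d) : θ = bot d r := by
  apply Subtype.ext
  funext j
  apply Fin.ext
  have hd : 0 < d := lt_of_le_of_lt (Nat.zero_le _) j.isLt
  have h1 := add_le_of_le θ (d - 1 - j.val) j ⟨d - 1, by omega⟩ (by have := j.isLt; simp only; omega)
  have h2 := h ⟨d - 1, by omega⟩
  have h3 := Groth.Agent.Lib.Helper24Grass.val_le_of_strictMono θ.1 θ.2 j
  have := j.isLt
  simp only [bot, Fin.val_castAdd]
  omega

theorem exists_Mθ_eq (θ : Idx d (d + r)) (hθ : θ ≠ bot d r) : ∃ M : MinorIdx r d, Mθ M = θ := by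
  classical
  set Sθ : Finset (Fin (d + r)) := Finset.univ.image θ.1 with hSθ
  have hcardS : Sθ.card = d := by
    rw [hSθ, Finset.card_image_of_injective _ θ.2.injective]
    simp
  set Aset : Finset (Fin r) := Finset.univ.filter fun a => Fin.natAdd d (Fin.rev a) ∈ Sθ with hAset
  set Bset : Finset (Fin d) := Finset.univ.filter fun u => Fin.castAdd r u ∉ Sθ with hBset
  -- cardinalities
  have hsplit : (Finset.univ.filter fun u : Fin d => Fin.castAdd r u ∈ Sθ).card +
      (Finset.univ.filter fun v : Fin r => Fin.natAdd d v ∈ Sθ).card = d := by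
    have h1 : Sθ.card = (Finset.univ.filter fun y : Fin (d + r) => y ∈ Sθ).card := by
      congr 1
      ext y
      simp
    rw [Finset.card_filter, Fin.sum_univ_add, ← Finset.card_filter, ← Finset.card_filter] at h1
    rw [← h1]
    exact hcardS
  have hA : Aset.card = (Finset.univ.filter fun v : Fin r => Fin.natAdd d v ∈ Sθ).card := by
    refine Finset.card_bij (fun a _ => Fin.rev a) ?_ ?_ ?_
    · intro a ha
      simp only [hAset, Finset.mem_filter, Finset.mem_univ, true_and] at ha ⊢
      exact ha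
    · intro a _ a' _ h
      exact Fin.rev_injective h
    · intro v hv
      simp only [Finset.mem_filter, Finset.mem_univ, true_and] at hv
      refine ⟨Fin.rev v, ?_, Fin.rev_rev v⟩
      simp only [hAset, Finset.mem_filter, Finset.mem_univ, true_and, Fin.rev_rev]
      exact hv
  have hB : Bset.card + (Finset.univ.filter fun u : Fin d => Fin.castAdd r u ∈ Sθ).card = d := by
    have := Finset.card_filter_add_card_filter_not (s := (Finset.univ : Finset (Fin d)))
      (fun u => Fin.castAdd r u ∈ Sθ)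
    rw [Finset.card_univ, Fintype.card_fin] at this
    rw [hBset]
    omega
  have hAB : Bset.card = Aset.card := by omega
  have hpos : 0 < Aset.card := by
    rw [Finset.card_pos]
    by_contra hne
    rw [Finset.not_nonempty_iff_eq_empty] at hne
    apply hθ
    apply eq_bot_of_forall_lt
    intro j
    by_contra hj
    have hmem : θ.1 j ∈ Sθ := Finset.mem_image_of_mem _ (Finset.mem_univ j)
    have hge : d ≤ (θ.1 j).val := not_lt.1 hj
    have hv : (θ.1 j).val - d < r := by have := (θ.1 j).isLt; omega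
    have h2 : Fin.rev (⟨(θ.1 j).val - d, hv⟩ : Fin r) ∈ Aset := by
      simp only [hAset, Finset.mem_filter, Finset.mem_univ, true_and, Fin.rev_rev]
      have : Fin.natAdd d (⟨(θ.1 j).val - d, hv⟩ : Fin r) = θ.1 j := by
        apply Fin.ext
        simp only [Fin.val_natAdd]
        omega
      rw [this]
      exact hmem
    rw [hne] at h2
    exact absurd h2 (Finset.notMem_empty _)
  obtain ⟨s, hs⟩ : ∃ s, Aset.card = s + 1 := ⟨Aset.card - 1, by omega⟩
  have hsB : Bset.card = s + 1 := by omega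
  let M : MinorIdx r d := ⟨s, ⟨fun i => Aset.orderEmbOfFin hs i, (Aset.orderEmbOfFin hs).strictMono⟩,
    ⟨fun i => Bset.orderEmbOfFin hsB i, (Bset.orderEmbOfFin hsB).strictMono⟩⟩
  have hrA : Set.range M.2.1.1 = ↑Aset := Finset.range_orderEmbOfFin Aset hs
  have hrB : Set.range M.2.2.1 = ↑Bset := Finset.range_orderEmbOfFin Bset hsB
  have hmem : ∀ y, y ∈ Sθ → y ∈ memSet M := by
    intro y hy
    unfold memSet
    rw [Finset.mem_filter]
    refine ⟨Finset.mem_univ _, ?_⟩
    induction y using Fin.addCases with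
    | left u =>
      left
      refine ⟨u, ?_, rfl⟩
      rw [hrB, Finset.mem_coe, hBset, Finset.mem_filter]
      intro h
      exact h.2 hy
    | right v =>
      right
      have h1 : Fin.rev v ∈ Set.range M.2.1.1 := by
        rw [hrA, Finset.mem_coe, hAset, Finset.mem_filter, Fin.rev_rev]
        exact ⟨Finset.mem_univ _, hy⟩
      obtain ⟨i, hi⟩ := h1
      exact ⟨i, by rw [hi, Fin.rev_rev]⟩
  refine ⟨M, ?_⟩
  apply Subtype.ext
  have := Finset.orderEmbOfFin_unique (card_memSet M) (f := θ.1)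
    (fun j => hmem _ (Finset.mem_image_of_mem _ (Finset.mem_univ j))) θ.2
  rw [this]
  rfl

end Groth.Agent.R2.H50.MinorComb
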