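import Mathlib
import Groth.Prelude.Def_W4bk4grassmannianPl
import Groth.Prelude.Def_CAlgX
import Groth.Agent.R2.H50DetBasis
import Groth.Agent.R2.H50DetPoint
import Groth.Agent.R2.H50MinorComb

/-!
# Standard bitableaux basis of a determinantal ring (helper50)

Transfer of the Plücker-form standard monomial basis of `K[Z]/I_t` (`H50DetBasis`) to products of minors along
`MinorGE`-chains, through the row reversal `x_{ij} ↦ x_{rev i, j}` and the correspondence `Mθ` of `H50MinorComb`.
-/

set_option autoImplicit false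

universe u

noncomputable section

namespace Groth.Agent.R2.H50.DetBitab

open MvPolynomial W4bk4grassmannian
open Groth.Agent.R2.H50.DetIdx Groth.Agent.R2.H50.DetCell Groth.Agent.R2.H50.DetBasis
open Groth.Agent.R2.H50.MinorComb

variable (K : Type u) [Field K] (m n t : ℕ)

/-- reversal of the rows -/
def sig : MvPolynomial (Fin m × Fin n) K →ₐ[K] MvPolynomial (Fin m × Fin n) K :=
  rename (Prod.map Fin.rev id)

theorem sig_sig (f : MvPolynomial (Fin m × Fin n) K) : sig K m n (sig K m n f) = f := by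
  unfold sig
  rw [rename_rename]
  have : (Prod.map Fin.rev id ∘ Prod.map Fin.rev id : Fin m × Fin n → Fin m × Fin n) = id := by
    funext p
    simp [Prod.map, Fin.rev_rev]
  rw [this, rename_id]
  rfl

theorem sig_det {k : ℕ} (f : Fin k → Fin m) (g : Fin k → Fin n) :
    sig K m n ((genMatrix K m n).submatrix f g).det =
      ((genMatrix K m n).submatrix (fun i => Fin.rev (f i)) g).det := by
  rw [AlgHom.map_det]
  congr 1
  ext i j
  simp only [AlgHom.mapMatrix_apply, Matrix.map_apply, Matrix.submatrix_apply, genMatrix, Matrix.of_apply]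
  unfold sig
  rw [rename_X]
  rfl

theorem sig_minorIdeal_le : CAlgX.minorIdeal (genMatrix K m n) t ≤
    (CAlgX.minorIdeal (genMatrix K m n) t).comap (sig K m n) := by
  unfold CAlgX.minorIdeal
  rw [Ideal.span_le]
  rintro _ ⟨⟨f, g⟩, rfl⟩
  rw [SetLike.mem_coe, Ideal.mem_comap]
  simp only
  rw [sig_det]
  exact Ideal.subset_span ⟨(fun i => Fin.rev (f i), g), rfl⟩

/-- the induced involution of the determinantal ring -/
def sigB : DetRing K n m t →ₐ[K] DetRing K n m t :=
  Ideal.quotientMapₐ _ (sig K m n) (sig_minorIdeal_le K m n t)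

theorem sigB_mk (f : MvPolynomial (Fin m × Fin n) K) :
    sigB K m n t (Ideal.Quotient.mk _ f) = Ideal.Quotient.mk _ (sig K m n f) := rfl

theorem sigB_sigB (x : DetRing K n m t) : sigB K m n t (sigB K m n t x) = x := by
  obtain ⟨f, rfl⟩ := Ideal.Quotient.mk_surjective x
  rw [sigB_mk, sigB_mk, sig_sig]

/-- the minor `[A | B]` becomes, after reversing the rows, `±` the cell minor of `Mθ M` -/
theorem exists_sig_minorOf (M : MinorIdx m n) :
    ∃ e : ℕ, sig K m n (minorOf K M) = (-1) ^ e * cellMinor K n m (Mθ M) := by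
  unfold minorOf
  rw [sig_det]
  refine Groth.Agent.R2.H50.DetPoint.det_submatrix_eq_cellMinor K n m (fun i => Fin.rev (M.2.1.1 i)) M.2.2.1
    (fun i j h => M.2.1.2.injective (Fin.rev_injective h)) M.2.2.2.injective (Mθ M) (fun s => ?_)
  have h := Mθ_mem M s
  unfold memSet at h
  rw [Finset.mem_filter] at h
  exact h.2

/-- the sign exponent -/
def sgnE (M : MinorIdx m n) : ℕ := Classical.choose (exists_sig_minorOf K m n M)

theorem sig_minorOf (M : MinorIdx m n) :
    sig K m n (minorOf K M) = (-1) ^ sgnE K m n M * cellMinor K n m (Mθ M) :=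
  Classical.choose_spec (exists_sig_minorOf K m n M)

theorem sigB_minorOf (M : MinorIdx m n) :
    sigB K m n t (Ideal.Quotient.mk _ (minorOf K M)) = (-1) ^ sgnE K m n M * q K n m t (Mθ M) := by
  rw [sigB_mk, sig_minorOf, map_mul, map_pow, map_neg, map_one]
  rfl

/-- the index set of standard bitableaux -/
abbrev Fidx : Type :=
  Σ k : ℕ, {c : Fin k → MinorIdx m n // (∀ i, (c i).1 + 1 ≤ t - 1) ∧ ∀ i j, i < j → MinorGE (c i) (c j)}

/-- the standard bitableaux -/
def F (c : Fidx m n t) : DetRing K n m t :=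
  Ideal.Quotient.mk (CAlgX.minorIdeal (genMatrix K m n) t) (Finset.univ.prod fun i => minorOf K (c.2.1 i))

variable {m n t}

/-- the chain of Schubert indices attached to a standard bitableau -/
def eF (φ : Idx n (n + m)) (hφ : ∀ M : MinorIdx m n, Mθ M ≤ φ ↔ M.1 + 1 ≤ t - 1) (c : Fidx m n t) : Gidx φ :=
  ⟨c.1, fun i => Mθ (c.2.1 (Fin.rev i)), by
    intro i j hij
    show Mθ (c.2.1 (Fin.rev j)) ≤ Mθ (c.2.1 (Fin.rev i))
    rcases eq_or_lt_of_le (Fin.rev_le_rev.2 hij) with h | h
    · rw [h]
    · exact (minorGE_iff_Mθ_le _ _).1 (c.2.2.2 _ _ h), fun i => (hφ _).2 (c.2.2.1 _), fun i => Mθ_ne_bot _⟩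

theorem eF_injective (φ : Idx n (n + m)) (hφ : ∀ M : MinorIdx m n, Mθ M ≤ φ ↔ M.1 + 1 ≤ t - 1) :
    Function.Injective (eF φ hφ) := by
  rintro ⟨k, c, hc⟩ ⟨k', c', hc'⟩ h
  have hk : k = k' := congrArg Sigma.fst h
  subst hk
  simp only [eF, Sigma.mk.injEq, heq_eq_eq, true_and] at h
  have h' := congrArg Subtype.val h
  simp only at h'
  have : c = c' := by
    funext i
    have := congrFun h' (Fin.rev i)
    simp only [Fin.rev_rev] at this
    exact Mθ_injective this
  subst this
  rfl

theorem eF_surjective (φ : Idx n (n + m)) (hφ : ∀ M : MinorIdx m n, Mθ M ≤ φ ↔ M.1 + 1 ≤ t - 1) :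
    Function.Surjective (eF φ hφ) := by
  rintro ⟨k, θs, hanti, hle, hne⟩
  choose Ms hMs using fun i => exists_Mθ_eq (θs i) (hne i)
  refine ⟨⟨k, fun i => Ms (Fin.rev i), fun i => (hφ _).1 (by rw [hMs]; exact hle _), fun i j hij => ?_⟩, ?_⟩
  · rw [minorGE_iff_Mθ_le, hMs, hMs]
    exact hanti (Fin.rev_le_rev.2 (le_of_lt hij))
  · simp only [eF]
    congr 1
    apply Subtype.ext
    funext i
    simp only [Fin.rev_rev]
    exact hMs i

variable (m n t)

/-- the sign of a standard bitableau -/
def eps (c : Fidx m n t) : Kˣ := ∏ i, (-1 : Kˣ) ^ sgnE K m n (c.2.1 i)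

variable {m n t}

theorem sigB_F (φ : Idx n (n + m)) (hφ : ∀ M : MinorIdx m n, Mθ M ≤ φ ↔ M.1 + 1 ≤ t - 1) (c : Fidx m n t) :
    sigB K m n t (F K m n t c) = eps K m n t c • G K t φ (eF φ hφ c) := by
  unfold F G eps
  rw [map_prod, map_prod]
  simp only [sigB_minorOf]
  rw [Finset.prod_mul_distrib, Units.smul_def, Algebra.smul_def]
  congr 1
  · rw [Units.coe_prod, map_prod]
    refine Finset.prod_congr rfl fun i _ => ?_
    simp
  · exact (Equiv.prod_comp Fin.revPerm (fun i => q K n m t (Mθ (c.2.1 i)))).symm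

/-- transfer of the basis property -/
theorem basis_F (φ : Idx n (n + m)) (hφ : ∀ M : MinorIdx m n, Mθ M ≤ φ ↔ M.1 + 1 ≤ t - 1)
    (hli : LinearIndependent K (G K t φ)) (hsp : Submodule.span K (Set.range (G K t φ)) = ⊤) :
    LinearIndependent K (F K m n t) ∧ Submodule.span K (Set.range (F K m n t)) = ⊤ := by
  constructor
  · have h1 : LinearIndependent K ((G K t φ) ∘ eF φ hφ) := hli.comp _ (eF_injective φ hφ)
    have h2 := h1.units_smul (eps K m n t)
    have h3 : (sigB K m n t).toLinearMap ∘ F K m n t = eps K m n t • ((G K t φ) ∘ eF φ hφ) := by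
      funext c
      rw [Function.comp_apply, AlgHom.toLinearMap_apply, sigB_F K φ hφ c]
      rfl
    rw [← h3] at h2
    exact LinearIndependent.of_comp _ h2
  · rw [eq_top_iff]
    have key : ∀ y ∈ Submodule.span K (Set.range (G K t φ)),
        sigB K m n t y ∈ Submodule.span K (Set.range (F K m n t)) := by
      intro y hy
      induction hy using Submodule.span_induction with
      | mem y hy =>
        obtain ⟨c', rfl⟩ := hy
        obtain ⟨c, rfl⟩ := eF_surjective φ hφ c'
        have h1 : G K t φ (eF φ hφ c) = (eps K m n t c)⁻¹ • sigB K m n t (F K m n t c) := by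
          rw [sigB_F K φ hφ c, smul_smul, inv_mul_cancel, one_smul]
        rw [h1, Units.smul_def, map_smul, sigB_sigB]
        exact Submodule.smul_mem _ _ (Submodule.subset_span ⟨c, rfl⟩)
      | zero => rw [map_zero]; exact Submodule.zero_mem _
      | add x y _ _ hx hy => rw [map_add]; exact Submodule.add_mem _ hx hy
      | smul a x _ hx => rw [map_smul]; exact Submodule.smul_mem _ _ hx
    rintro x -
    have := key (sigB K m n t x) (by rw [hsp]; trivial)
    rwa [sigB_sigB] at this

end Groth.Agent.R2.H50.DetBitab
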