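import Mathlib
import Groth.Prelude.Def_CAlgX
import Groth.Prelude.Def_W4bk4grassmannianPl
import Groth.Agent.Lib.Helper7JacCrit

/-!
# The smooth locus of the generic determinantal variety (helper50)

Jacobi's formula for derivations of determinants, bordered minors, and the Jacobian criterion.
-/

set_option autoImplicit false
universe u

namespace Groth.Agent.R2.H50.DetSmooth

open Matrix

section Jacobi

variable {R B : Type*} [CommRing R] [CommRing B] [Algebra R B]

theorem derivation_prod (D : Derivation R B B) {ι : Type*} [DecidableEq ι] (s : Finset ι) (f : ι → B) :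
    D (∏ i ∈ s, f i) = ∑ i ∈ s, (∏ j ∈ s.erase i, f j) * D (f i) := by
  induction s using Finset.induction_on with
  | empty => simp
  | insert a s ha ih =>
    rw [Finset.prod_insert ha, D.leibniz, ih, Finset.sum_insert ha, Finset.erase_insert ha, smul_eq_mul, smul_eq_mul,
      Finset.mul_sum, add_comm]
    congr 1
    refine Finset.sum_congr rfl fun i hi => ?_
    have hia : i ≠ a := fun h => ha (h ▸ hi)
    rw [Finset.erase_insert_of_ne (Ne.symm hia), Finset.prod_insert (fun h => ha (Finset.mem_of_mem_erase h))]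
    ring

/-- Jacobi's formula: the derivative of a determinant -/
theorem derivation_det (D : Derivation R B B) {n : Type*} [Fintype n] [DecidableEq n] (M : Matrix n n B) :
    D M.det = ∑ i, ∑ k, M.adjugate i k * D (M k i) := by
  have h1 : ∀ i : n, (M.updateCol i (fun k => D (M k i))).det =
      ∑ σ : Equiv.Perm n, Equiv.Perm.sign σ • ((∏ j ∈ Finset.univ.erase i, M (σ j) j) * D (M (σ i) i)) := by
    intro i
    rw [Matrix.det_apply]
    refine Finset.sum_congr rfl fun σ _ => ?_
    congr 1
    rw [← Finset.prod_erase_mul _ _ (Finset.mem_univ i)]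
    congr 1
    · refine Finset.prod_congr rfl fun j hj => ?_
      rw [Matrix.updateCol_ne (Finset.ne_of_mem_erase hj)]
    · rw [Matrix.updateCol_self]
  have h2 : ∀ i : n, ∑ k, M.adjugate i k * D (M k i) = (M.updateCol i (fun k => D (M k i))).det := by
    intro i
    rw [← Matrix.cramer_apply, Matrix.cramer_eq_adjugate_mulVec]
    rfl
  rw [Finset.sum_congr rfl fun i _ => h2 i, Finset.sum_congr rfl fun i _ => h1 i, Finset.sum_comm,
    Matrix.det_apply, map_sum]
  refine Finset.sum_congr rfl fun σ _ => ?_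
  rw [← Finset.smul_sum]
  have : D (Equiv.Perm.sign σ • ∏ i, M (σ i) i) = Equiv.Perm.sign σ • D (∏ i, M (σ i) i) := by
    rcases Int.units_eq_one_or (Equiv.Perm.sign σ) with h | h <;> rw [h] <;> simp
  rw [this, derivation_prod]

end Jacobi

section Minors

variable {B : Type u} [CommRing B] {n m : ℕ} (A : Matrix (Fin n) (Fin m) B)

theorem det_submatrix_mem (t : ℕ) (f : Fin t → Fin n) (g : Fin t → Fin m) :
    (A.submatrix f g).det ∈ CAlgX.minorIdeal A t :=
  Ideal.subset_span ⟨(f, g), rfl⟩

theorem minorIdeal_succ_le (t : ℕ) : CAlgX.minorIdeal A (t + 1) ≤ CAlgX.minorIdeal A t := by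
  unfold CAlgX.minorIdeal
  rw [Ideal.span_le]
  rintro _ ⟨fg, rfl⟩
  show ((A.submatrix fg.1 fg.2).det) ∈ CAlgX.minorIdeal A t
  rw [Matrix.det_succ_row_zero]
  refine Ideal.sum_mem _ fun j _ => Ideal.mul_mem_left _ _ ?_
  exact det_submatrix_mem A t (fg.1 ∘ Fin.succ) (fg.2 ∘ j.succAbove)

theorem adjugate_mem (t : ℕ) (f : Fin (t + 1) → Fin n) (g : Fin (t + 1) → Fin m) (i j : Fin (t + 1)) :
    (A.submatrix f g).adjugate i j ∈ CAlgX.minorIdeal A t := by
  rw [Matrix.adjugate_fin_succ_eq_det_submatrix]
  exact Ideal.mul_mem_left _ _ (det_submatrix_mem A t (f ∘ j.succAbove) (g ∘ i.succAbove))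

theorem derivation_mem {R : Type*} [CommRing R] [Algebra R B] (D : Derivation R B B) (t : ℕ) (x : B)
    (hx : x ∈ CAlgX.minorIdeal A (t + 1)) : D x ∈ CAlgX.minorIdeal A t := by
  unfold CAlgX.minorIdeal at hx
  induction hx using Submodule.span_induction with
  | mem y hy =>
    obtain ⟨fg, rfl⟩ := hy
    show D ((A.submatrix fg.1 fg.2).det) ∈ _
    rw [derivation_det]
    exact Ideal.sum_mem _ fun i _ => Ideal.sum_mem _ fun k _ =>
      Ideal.mul_mem_right _ _ (adjugate_mem A t fg.1 fg.2 i k)
  | zero => rw [map_zero]; exact Ideal.zero_mem _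
  | add y z _ _ hy hz => rw [map_add]; exact Ideal.add_mem _ hy hz
  | smul b y hy hDy =>
    rw [smul_eq_mul, D.leibniz, smul_eq_mul, smul_eq_mul]
    refine Ideal.add_mem _ (Ideal.mul_mem_left _ _ hDy) (Ideal.mul_mem_right _ _ ?_)
    exact minorIdeal_succ_le A t hy

/-- a determinant of positive size with entries in an ideal lies in the ideal -/
theorem det_mem_of_entries {k : ℕ} (I : Ideal B) (N : Matrix (Fin (k + 1)) (Fin (k + 1)) B)
    (h : ∀ i j, N i j ∈ I) : N.det ∈ I := by
  rw [Matrix.det_succ_row_zero]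
  exact Ideal.sum_mem _ fun j _ => Ideal.mul_mem_right _ _ (Ideal.mul_mem_left _ _ (h 0 j))

end Minors

section Rank

variable {C : Type*} [CommRing C]

/-- a product of an `(r+1) × r` and an `r × (r+1)` matrix has determinant zero -/
theorem det_mul_eq_zero_of_lt {r : ℕ} (C1 : Matrix (Fin (r + 1)) (Fin r) C) (C2 : Matrix (Fin r) (Fin (r + 1)) C) :
    (C1 * C2).det = 0 := by
  let C1' : Matrix (Fin (r + 1)) (Fin (r + 1)) C := fun s u => Fin.lastCases 0 (fun u' => C1 s u') u
  let C2' : Matrix (Fin (r + 1)) (Fin (r + 1)) C := fun u t => Fin.lastCases 0 (fun u' => C2 u' t) u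
  have h1 : C1 * C2 = C1' * C2' := by
    ext s t
    rw [Matrix.mul_apply, Matrix.mul_apply, Fin.sum_univ_castSucc]
    simp [C1', C2']
  have h2 : C1'.det = 0 := Matrix.det_eq_zero_of_column_eq_zero (Fin.last r) (fun s => by simp [C1'])
  rw [h1, Matrix.det_mul, h2, zero_mul]

variable {n m r : ℕ} (Z : Matrix (Fin n) (Fin m) C) (a : Fin r → Fin n) (b : Fin r → Fin m)

/-- if an `r`-minor is a unit and all its bordered `(r+1)`-minors vanish, every row is a combination of the rows of the
minor -/
theorem exists_row_comb (hδ : IsUnit (Z.submatrix a b).det)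
    (hb : ∀ i j, (Z.submatrix (Fin.snoc a i : Fin (r + 1) → Fin n) (Fin.snoc b j : Fin (r + 1) → Fin m)).det = 0)
    (i : Fin n) : ∃ c : Fin r → C, ∀ j, Z i j = ∑ s, c s * Z (a s) j := by
  obtain ⟨u, hu⟩ := hδ
  let w : Fin r → C := fun s =>
    (-1 : C) ^ ((s : ℕ) + r) * (Z.submatrix ((Fin.snoc a i : Fin (r + 1) → Fin n) ∘ s.castSucc.succAbove) b).det
  refine ⟨fun s => - (↑u⁻¹ : C) * w s, fun j => ?_⟩
  have h := hb i j
  rw [Matrix.det_succ_column _ (Fin.last r), Fin.sum_univ_castSucc] at h
  have e1 : ∀ s : Fin (r + 1), ((Z.submatrix (Fin.snoc a i : Fin (r + 1) → Fin n)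
      (Fin.snoc b j : Fin (r + 1) → Fin m)).submatrix s.succAbove (Fin.last r).succAbove) =
      Z.submatrix ((Fin.snoc a i : Fin (r + 1) → Fin n) ∘ s.succAbove) b := by
    intro s
    ext x y
    simp [Fin.succAbove_last]
  have e2 : (Fin.snoc a i : Fin (r + 1) → Fin n) ∘ (Fin.last r).succAbove = a := by
    ext x
    simp [Fin.succAbove_last]
  simp only [e1, e2, Matrix.submatrix_apply, Fin.snoc_last, Fin.snoc_castSucc, Fin.val_last, Fin.val_castSucc] at h
  have hpow : (-1 : C) ^ (r + r) = 1 := by rw [← two_mul, pow_mul]; simp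
  rw [hpow, one_mul, hu.symm] at h
  -- h : ∑ s, (-1)^(s + r) * Z (a s) j * det(..) + Z i j * u = 0
  have h3 : Z i j * (u : C) = - ∑ s : Fin r, (-1 : C) ^ ((s : ℕ) + r) * Z (a s) j *
      (Z.submatrix ((Fin.snoc a i : Fin (r + 1) → Fin n) ∘ s.castSucc.succAbove) b).det := by
    rw [eq_neg_iff_add_eq_zero, add_comm]
    exact h
  have h4 : Z i j = Z i j * (u : C) * (↑u⁻¹ : C) := by
    rw [mul_assoc, Units.mul_inv, mul_one]
  rw [h4, h3, neg_mul, Finset.sum_mul, ← Finset.sum_neg_distrib]
  refine Finset.sum_congr rfl fun s _ => ?_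
  simp only [w]
  ring

/-- if an `r`-minor is a unit and all its bordered `(r+1)`-minors vanish, then all `(r+1)`-minors vanish -/
theorem det_eq_zero_of_bordered (hδ : IsUnit (Z.submatrix a b).det)
    (hb : ∀ i j, (Z.submatrix (Fin.snoc a i : Fin (r + 1) → Fin n) (Fin.snoc b j : Fin (r + 1) → Fin m)).det = 0)
    (α : Fin (r + 1) → Fin n) (β : Fin (r + 1) → Fin m) : (Z.submatrix α β).det = 0 := by
  choose c hc using exists_row_comb Z a b hδ hb
  have : Z.submatrix α β = (Matrix.of fun s u => c (α s) u) * (Matrix.of fun u t => Z (a u) (β t)) := by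
    ext s t
    rw [Matrix.submatrix_apply, hc, Matrix.mul_apply]
    rfl
  rw [this]
  exact det_mul_eq_zero_of_lt _ _

end Rank

section Generic

open MvPolynomial W4bk4grassmannian Groth.Agent.Lib.Helper7.JacCrit

variable (k : Type u) [Field k] (n m r : ℕ)

/-- a top-left minor of the generic matrix is nonzero -/
theorem det_castLE_ne_zero (t : ℕ) (h1 : t ≤ n) (h2 : t ≤ m) :
    ((genMatrix k n m).submatrix (Fin.castLE h1) (Fin.castLE h2)).det ≠ 0 := by
  classical
  intro h
  have h' := congrArg (MvPolynomial.eval (fun p : Fin n × Fin m => if (p.1 : ℕ) = (p.2 : ℕ) then (1 : k) else 0)) h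
  rw [RingHom.map_det, map_zero] at h'
  have : (MvPolynomial.eval (fun p : Fin n × Fin m => if (p.1 : ℕ) = (p.2 : ℕ) then (1 : k) else 0)).mapMatrix
      ((genMatrix k n m).submatrix (Fin.castLE h1) (Fin.castLE h2)) = 1 := by
    ext s t
    simp [genMatrix, Matrix.one_apply, Fin.ext_iff]
  rw [this, Matrix.det_one] at h'
  exact one_ne_zero h'

variable {k n m r}

/-- points where all `r`-minors vanish are not smooth -/
theorem not_formallySmooth_of_le (hn : r + 1 ≤ n) (hm : r + 1 ≤ m)
    (q : Ideal (MvPolynomial (Fin n × Fin m) k)) [q.IsPrime]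
    (hJq : CAlgX.minorIdeal (genMatrix k n m) (r + 1) ≤ q)
    [(q.map (Ideal.Quotient.mk (CAlgX.minorIdeal (genMatrix k n m) (r + 1)))).IsPrime]
    (hle : CAlgX.minorIdeal (genMatrix k n m) r ≤ q) :
    ¬ Algebra.FormallySmooth k (Localization.AtPrime
      (q.map (Ideal.Quotient.mk (CAlgX.minorIdeal (genMatrix k n m) (r + 1))))) := by
  intro hsm
  have hJfg : (CAlgX.minorIdeal (genMatrix k n m) (r + 1)).FG := IsNoetherian.noetherian _
  obtain ⟨m', f, D, hf, hspan, hdet⟩ := (jacobian_criterion _ q hJq hJfg).1 hsm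
  rcases Nat.eq_zero_or_pos m' with rfl | hpos
  · have h0 : (CAlgX.minorIdeal (genMatrix k n m) (r + 1)).map
        (algebraMap (MvPolynomial (Fin n × Fin m) k) (Localization.AtPrime q)) = ⊥ := by
      rw [hspan]
      have : (Set.range fun i : Fin 0 => algebraMap (MvPolynomial (Fin n × Fin m) k) (Localization.AtPrime q) (f i)) = ∅ :=
        Set.range_eq_empty _
      rw [this, Ideal.span_empty]
    have hΔ := det_submatrix_mem (genMatrix k n m) (r + 1) (Fin.castLE hn) (Fin.castLE hm)
    have h1 := Ideal.mem_map_of_mem (algebraMap (MvPolynomial (Fin n × Fin m) k) (Localization.AtPrime q)) hΔ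
    rw [h0, Ideal.mem_bot] at h1
    have hinj : Function.Injective (algebraMap (MvPolynomial (Fin n × Fin m) k) (Localization.AtPrime q)) :=
      IsLocalization.injective _ q.primeCompl_le_nonZeroDivisors
    exact det_castLE_ne_zero k n m (r + 1) hn hm (hinj (h1.trans (map_zero _).symm))
  · obtain ⟨k', rfl⟩ : ∃ k', m' = k' + 1 := ⟨m' - 1, by omega⟩
    apply hdet
    apply hle
    apply det_mem_of_entries
    intro i j
    exact derivation_mem (genMatrix k n m) (D j) r (f i) (hf i)


/-- partial derivative of a bordered minor with respect to a variable outside the rows/columns of the minor -/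
theorem pderiv_bordered (a : Fin r → Fin n) (b : Fin r → Fin m) (p p' : Fin n × Fin m)
    (h1 : p'.1 ∉ Set.range a) (h2 : p'.2 ∉ Set.range b) :
    MvPolynomial.pderiv p' ((genMatrix k n m).submatrix (Fin.snoc a p.1 : Fin (r + 1) → Fin n)
      (Fin.snoc b p.2 : Fin (r + 1) → Fin m)).det =
      if p = p' then ((genMatrix k n m).submatrix a b).det else 0 := by
  classical
  rw [derivation_det]
  have hentry : ∀ (i k' : Fin (r + 1)),
      MvPolynomial.pderiv p' (((genMatrix k n m).submatrix (Fin.snoc a p.1 : Fin (r + 1) → Fin n)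
        (Fin.snoc b p.2 : Fin (r + 1) → Fin m)) k' i) =
      if k' = Fin.last r ∧ i = Fin.last r ∧ p = p' then 1 else 0 := by
    intro i k'
    rw [Matrix.submatrix_apply]
    show MvPolynomial.pderiv p' (MvPolynomial.X (_, _)) = _
    rw [MvPolynomial.pderiv_X, Pi.single_apply]
    refine if_congr ?_ rfl rfl
    constructor
    · intro h
      have e1 : p'.1 = (Fin.snoc a p.1 : Fin (r + 1) → Fin n) k' := (congrArg Prod.fst h).symm
      have e2 : p'.2 = (Fin.snoc b p.2 : Fin (r + 1) → Fin m) i := (congrArg Prod.snd h).symm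
      have hk : k' = Fin.last r := by
        induction k' using Fin.lastCases with
        | last => rfl
        | cast s => exact absurd ⟨s, by rw [e1, Fin.snoc_castSucc]⟩ h1
      have hi : i = Fin.last r := by
        induction i using Fin.lastCases with
        | last => rfl
        | cast s => exact absurd ⟨s, by rw [e2, Fin.snoc_castSucc]⟩ h2
      subst hk hi
      rw [Fin.snoc_last] at e1 e2
      exact ⟨rfl, rfl, Prod.ext e1.symm e2.symm⟩
    · rintro ⟨rfl, rfl, rfl⟩
      rw [Fin.snoc_last, Fin.snoc_last]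
  simp only [hentry]
  rw [Finset.sum_eq_single (Fin.last r)]
  · rw [Finset.sum_eq_single (Fin.last r)]
    · by_cases hp : p = p'
      · simp only [hp, and_self, if_true, mul_one]
        rw [Matrix.adjugate_fin_succ_eq_det_submatrix]
        have hpow : (-1 : MvPolynomial (Fin n × Fin m) k) ^ ((Fin.last r : ℕ) + (Fin.last r : ℕ)) = 1 := by
          rw [← two_mul, pow_mul]; simp
        rw [hpow, one_mul]
        congr 1
        ext x y
        simp [Fin.succAbove_last]
      · simp [hp]
    · intro k' _ hk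
      simp [hk]
    · intro h; exact absurd (Finset.mem_univ _) h
  · intro i _ hi
    refine Finset.sum_eq_zero fun k' _ => ?_
    simp [hi]
  · intro h; exact absurd (Finset.mem_univ _) h

/-- points where some `r`-minor does not vanish are smooth -/
theorem formallySmooth_of_not_le
    (q : Ideal (MvPolynomial (Fin n × Fin m) k)) [q.IsPrime]
    (hJq : CAlgX.minorIdeal (genMatrix k n m) (r + 1) ≤ q)
    [(q.map (Ideal.Quotient.mk (CAlgX.minorIdeal (genMatrix k n m) (r + 1)))).IsPrime]
    (hle : ¬ CAlgX.minorIdeal (genMatrix k n m) r ≤ q) :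
    Algebra.FormallySmooth k (Localization.AtPrime
      (q.map (Ideal.Quotient.mk (CAlgX.minorIdeal (genMatrix k n m) (r + 1))))) := by
  classical
  have hJfg : (CAlgX.minorIdeal (genMatrix k n m) (r + 1)).FG := IsNoetherian.noetherian _
  -- a nonvanishing r-minor
  obtain ⟨a, b, hδ⟩ : ∃ (a : Fin r → Fin n) (b : Fin r → Fin m),
      ((genMatrix k n m).submatrix a b).det ∉ q := by
    by_contra hcon
    push Not at hcon
    apply hle
    unfold CAlgX.minorIdeal
    rw [Ideal.span_le]
    rintro _ ⟨fg, rfl⟩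
    exact hcon fg.1 fg.2
  set δ := ((genMatrix k n m).submatrix a b).det with hδdef
  let T := {p : Fin n × Fin m // p.1 ∉ Set.range a ∧ p.2 ∉ Set.range b}
  let e : T ≃ Fin (Fintype.card T) := Fintype.equivFin T
  let f : Fin (Fintype.card T) → MvPolynomial (Fin n × Fin m) k := fun i =>
    ((genMatrix k n m).submatrix (Fin.snoc a (e.symm i).1.1 : Fin (r + 1) → Fin n)
      (Fin.snoc b (e.symm i).1.2 : Fin (r + 1) → Fin m)).det
  let D : Fin (Fintype.card T) → Derivation k (MvPolynomial (Fin n × Fin m) k) (MvPolynomial (Fin n × Fin m) k) :=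
    fun j => MvPolynomial.pderiv (e.symm j).1
  have hfJ : ∀ i, f i ∈ CAlgX.minorIdeal (genMatrix k n m) (r + 1) := fun i =>
    det_submatrix_mem (genMatrix k n m) (r + 1) _ _
  refine (jacobian_criterion _ q hJq hJfg).2 ⟨Fintype.card T, f, D, hfJ, ?_, ?_⟩
  · -- the ideal equality
    apply le_antisymm
    · unfold CAlgX.minorIdeal
      rw [Ideal.map_span, Ideal.span_le]
      rintro _ ⟨_, ⟨fg, rfl⟩, rfl⟩
      set K := Ideal.span (Set.range fun i => algebraMap (MvPolynomial (Fin n × Fin m) k) (Localization.AtPrime q) (f i))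
        with hK
      show algebraMap (MvPolynomial (Fin n × Fin m) k) (Localization.AtPrime q)
        ((genMatrix k n m).submatrix fg.1 fg.2).det ∈ K
      let π : MvPolynomial (Fin n × Fin m) k →+* (Localization.AtPrime q ⧸ K) :=
        (Ideal.Quotient.mk K).comp (algebraMap (MvPolynomial (Fin n × Fin m) k) (Localization.AtPrime q))
      have hπ : ∀ (t : ℕ) (α : Fin t → Fin n) (β : Fin t → Fin m),
          (((genMatrix k n m).map π).submatrix α β).det = π ((genMatrix k n m).submatrix α β).det := by
        intro t α β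
        exact (RingHom.map_det (S := Localization.AtPrime q ⧸ K) π ((genMatrix k n m).submatrix α β)).symm
      have hunit : IsUnit (((genMatrix k n m).map π).submatrix a b).det := by
        rw [hπ]
        exact (IsLocalization.map_units (Localization.AtPrime q) (⟨δ, hδ⟩ : q.primeCompl)).map (Ideal.Quotient.mk K)
      have hbord : ∀ i j, (((genMatrix k n m).map π).submatrix (Fin.snoc a i : Fin (r + 1) → Fin n)
          (Fin.snoc b j : Fin (r + 1) → Fin m)).det = 0 := by
        intro i j
        by_cases hi : i ∈ Set.range a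
        · obtain ⟨s, rfl⟩ := hi
          apply Matrix.det_zero_of_row_eq (i := s.castSucc) (j := Fin.last r) (Fin.castSucc_lt_last s).ne
          ext y
          simp
        by_cases hj : j ∈ Set.range b
        · obtain ⟨s, rfl⟩ := hj
          apply Matrix.det_zero_of_column_eq (i := s.castSucc) (j := Fin.last r) (Fin.castSucc_lt_last s).ne
          intro y
          simp
        rw [hπ]
        have hmem : algebraMap (MvPolynomial (Fin n × Fin m) k) (Localization.AtPrime q)
            (f (e ⟨(i, j), hi, hj⟩)) ∈ K := Ideal.subset_span ⟨_, rfl⟩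
        have : f (e ⟨(i, j), hi, hj⟩) = ((genMatrix k n m).submatrix (Fin.snoc a i : Fin (r + 1) → Fin n)
          (Fin.snoc b j : Fin (r + 1) → Fin m)).det := by
          simp only [f, Equiv.symm_apply_apply]
        rw [this] at hmem
        exact Ideal.Quotient.eq_zero_iff_mem.mpr hmem
      have := det_eq_zero_of_bordered ((genMatrix k n m).map π) a b hunit hbord fg.1 fg.2
      rw [hπ] at this
      exact Ideal.Quotient.eq_zero_iff_mem.mp this
    · rw [Ideal.span_le]
      rintro _ ⟨i, rfl⟩
      exact Ideal.mem_map_of_mem _ (hfJ i)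
  · -- the Jacobian determinant
    have hmat : (Matrix.of fun i j => D j (f i)) = Matrix.diagonal fun _ : Fin (Fintype.card T) => δ := by
      apply Matrix.ext
      intro i j
      simp only [Matrix.of_apply, D, f]
      rw [pderiv_bordered a b (e.symm i).1 (e.symm j).1 (e.symm j).2.1 (e.symm j).2.2, Matrix.diagonal_apply]
      refine if_congr ?_ rfl rfl
      rw [← Subtype.ext_iff, e.symm.injective.eq_iff]
    rw [hmat, Matrix.det_diagonal, Finset.prod_const]
    exact fun h => hδ (Ideal.IsPrime.mem_of_pow_mem inferInstance _ h)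

end Generic

end Groth.Agent.R2.H50.DetSmooth
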