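import Mathlib
import Groth.Prelude.Def_W4bk4grassmannianPl
import Groth.Prelude.Def_CAlgX
import Groth.Agent.R2.H50DetCell

/-!
# The ideal of `t`-minors is the vanishing ideal of the determinantal variety (helper50)

`mem_minorIdeal_of_forall_eval`: over an infinite field, a polynomial vanishing at every `r × d` matrix all of whose
`t`-minors vanish lies in the ideal of `t`-minors of the generic matrix (`1 ≤ t ≤ min(d, r)`).
-/

set_option autoImplicit false

noncomputable section

namespace Groth.Agent.R2.H50.DetVanish

open MvPolynomial W4bk4grassmannian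
open Groth.Agent.R2.H50.PlMain Groth.Agent.R2.H50.CellMinor Groth.Agent.R2.H50.DetIdx Groth.Agent.R2.H50.PlCell
open Groth.Agent.R2.H50.DetCell

variable (K : Type*) [Field K] (d r : ℕ) {t : ℕ}

theorem mem_minorIdeal_of_forall_eval [Infinite K] (hd : 0 < d) (ht : 0 < t) (htd : t ≤ d) (htr : t ≤ r)
    (f : CellRing K d r)
    (hf : ∀ z : Fin r × Fin d → K, (∀ g ∈ CAlgX.minorIdeal (genMatrix K r d) t, MvPolynomial.eval z g = 0) →
      MvPolynomial.eval z f = 0) :
    f ∈ CAlgX.minorIdeal (genMatrix K r d) t := by
  obtain ⟨k, F, hF⟩ := hit_all K d r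
    (Polynomial.C (Ideal.Quotient.mk (CAlgX.minorIdeal (genMatrix K r d) t) f))
  have hprime := schubertVanishing_isPrime K (detIdx d r t ht htr) hd
  have hbot := X_notMem_schubertVanishing K (detIdx d r t ht htr) (bot d r) hd (bot_le r _)
  have key : X (bot d r) * F ∈ schubertVanishing K d (d + r) (detIdx d r t ht htr) := by
    unfold schubertVanishing
    rw [Ideal.mem_iInf]
    intro A
    rw [Ideal.mem_iInf]
    intro hA
    rw [RingHom.mem_ker]
    show evalMinors K d (d + r) A (X (bot d r) * F) = 0
    rw [map_mul]
    by_cases hδ : (A.submatrix (bot d r).1 id).det = 0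
    · have : evalMinors K d (d + r) A (X (bot d r)) = 0 := by
        unfold evalMinors
        rw [aeval_X]
        exact hδ
      rw [this, zero_mul]
    · obtain ⟨z, hz⟩ := exists_pointCell_mul K d r A hδ
      set δ := (A.submatrix (bot d r).1 id).det with hδdef
      have hdet : ∀ a : Fin d → Fin (d + r), (A.submatrix a id).det =
          ((pointCell K d r z).submatrix a id).det * δ := by
        intro a
        conv_lhs => rw [← hz]
        exact det_submatrix_mul K d r _ _ a
      have hvan : ∀ g ∈ CAlgX.minorIdeal (genMatrix K r d) t, MvPolynomial.eval z g = 0 := by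
        intro g hg
        have hle : CAlgX.minorIdeal (genMatrix K r d) t ≤ RingHom.ker (MvPolynomial.eval z) := by
          unfold CAlgX.minorIdeal
          rw [Ideal.span_le]
          rintro _ ⟨⟨f', g'⟩, rfl⟩
          have hmem := minor_mem_span_cellMinor K d r t hd ht htd f' g'
          have hle2 : Ideal.span {q : CellRing K d r | ∃ θ : Idx d (d + r),
              d ≤ (θ.1 ⟨d - t, Nat.sub_lt hd ht⟩).val ∧ q = cellMinor K d r θ} ≤
              RingHom.ker (MvPolynomial.eval z) := by
            rw [Ideal.span_le]
            rintro _ ⟨θ, hθ, rfl⟩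
            rw [SetLike.mem_coe, RingHom.mem_ker]
            unfold cellMinor
            rw [eval_cellMinor]
            have h1 := hA θ ((not_le_detIdx_iff d r t hd ht htd htr θ).2 hθ)
            rw [hdet] at h1
            exact (mul_eq_zero.1 h1).resolve_right hδ
          exact hle2 hmem
        exact hle hg
      let ev : DetRing K d r t →+* K := Ideal.Quotient.lift _ (MvPolynomial.eval z) hvan
      have hcomp : (Polynomial.eval₂RingHom ev δ).comp (psi0 K d r t).toRingHom =
          (evalMinors K d (d + r) A).toRingHom := by
        refine MvPolynomial.ringHom_ext (fun k => ?_) (fun θ => ?_)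
        · simp only [AlgHom.toRingHom_eq_coe, RingHom.coe_coe, RingHom.comp_apply, MvPolynomial.algHom_C]
          rw [Polynomial.algebraMap_apply, Polynomial.coe_eval₂RingHom, Polynomial.eval₂_C]
          show ev (Ideal.Quotient.mk _ (C k)) = _
          rw [Ideal.Quotient.lift_mk, eval_C]
          rfl
        · simp only [AlgHom.toRingHom_eq_coe, RingHom.coe_coe, RingHom.comp_apply, psi0_X,
            Polynomial.coe_eval₂RingHom, Polynomial.eval₂_mul, Polynomial.eval₂_X, Polynomial.eval₂_C]
          show δ * ev (Ideal.Quotient.mk _ (cellMinor K d r θ)) = _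
          rw [Ideal.Quotient.lift_mk]
          unfold cellMinor evalMinors
          rw [aeval_X, eval_cellMinor, hdet, mul_comm]
      have h2 : evalMinors K d (d + r) A F = Polynomial.eval₂RingHom ev δ (psi0 K d r t F) :=
        (RingHom.congr_fun hcomp F).symm
      rw [h2, hF, Polynomial.coe_eval₂RingHom, Polynomial.eval₂_mul, Polynomial.eval₂_C]
      show _ * (_ * MvPolynomial.eval z f) = 0
      rw [hf z hvan, mul_zero, mul_zero]
  have hFmem : F ∈ schubertVanishing K d (d + r) (detIdx d r t ht htr) :=
    (hprime.mem_or_mem key).resolve_left hbot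
  have h0 : psi0 K d r t F = 0 := schubertVanishing_le_ker_psi0 K d r hd ht htd htr hFmem
  rw [h0] at hF
  have h1 := congrArg (fun p => Polynomial.coeff p k) hF
  simp only [Polynomial.coeff_zero, Polynomial.coeff_X_pow_mul', le_refl, if_true, Nat.sub_self,
    Polynomial.coeff_C_zero] at h1
  exact Ideal.Quotient.eq_zero_iff_mem.1 h1.symm

end Groth.Agent.R2.H50.DetVanish
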