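import Groth.Agent.R2.H50CoDeltaCmp
import Mathlib.Algebra.Category.ModuleCat.Ext.HasExt
import Mathlib.Algebra.Homology.DerivedCategory.Ext.Linear
import Mathlib.Algebra.Homology.DerivedCategory.Ext.ExactSequences

/-!
# helper50: `Ext^•_A(-, N)` as a `ModuleCat A`-valued contravariant δ-functor

* `extDelta A N : CoDelta (ModuleCat A) (ModuleCat A)` with `E p M = ModuleCat.of A (Ext M N p)`.
* `extDeltaZeroIso`: `E 0 M ≅ ModuleCat.of A (M →ₗ[A] N)`, natural in `M`.
* `isZero_extDelta_of_projective`.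
-/

set_option autoImplicit false
set_option linter.style.haveILetI false
universe u
open CategoryTheory CategoryTheory.Limits CategoryTheory.Abelian

namespace Groth.Agent.R2.H50.ExtDelta

open Groth.Agent.Lib.Helper21.CoDeltaLib

variable (A : Type u) [CommRing A] (N : ModuleCat.{u} A)

/-- `Ext^p(M, N)` as an `A`-module. -/
noncomputable abbrev E (p : ℕ) (M : ModuleCat.{u} A) : ModuleCat.{u} A :=
  ModuleCat.of A (Ext.{u} M N p)

/-- contravariant functoriality. -/
noncomputable abbrev map (p : ℕ) {M M' : ModuleCat.{u} A} (g : M' ⟶ M) : E A N p M ⟶ E A N p M' :=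
  ModuleCat.ofHom (Ext.precompOfLinear (Ext.mk₀ g) A N (zero_add p))

/-- the connecting maps. -/
noncomputable abbrev δ (S : ShortComplex (ModuleCat.{u} A)) (hS : S.ShortExact) (p : ℕ) :
    E A N p S.X₁ ⟶ E A N (p + 1) S.X₃ :=
  ModuleCat.ofHom (Ext.precompOfLinear hS.extClass A N (add_comm 1 p))

lemma map_apply (p : ℕ) {M M' : ModuleCat.{u} A} (g : M' ⟶ M) (x : Ext.{u} M N p) :
    (map A N p g).hom x = (Ext.mk₀ g).comp x (zero_add p) := rfl

lemma δ_apply (S : ShortComplex (ModuleCat.{u} A)) (hS : S.ShortExact) (p : ℕ)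
    (x : Ext.{u} S.X₁ N p) : (δ A N S hS p).hom x = hS.extClass.comp x (add_comm 1 p) := rfl

/-- `Ext^•_A(-, N)` as a contravariant δ-functor with values in `A`-modules. -/
noncomputable def extDelta : CoDelta (ModuleCat.{u} A) (ModuleCat.{u} A) where
  E p M := E A N p M
  map p {_ _} g := map A N p g
  map_comp p {M M' M''} a b := by
    ext x
    change (Ext.mk₀ (a ≫ b)).comp x (zero_add p) =
      (Ext.mk₀ a).comp ((Ext.mk₀ b).comp x (zero_add p)) (zero_add p)
    rw [← Ext.mk₀_comp_mk₀, Ext.comp_assoc_of_second_deg_zero]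
  mono_zero S hS := by
    haveI := hS.epi_g
    rw [ModuleCat.mono_iff_injective]
    exact Ext.precomp_mk₀_injective_of_epi N S.g
  exact₂ S hS p := by
    have w : map A N p S.g ≫ map A N p S.f = 0 := by
      ext x
      change (Ext.mk₀ S.f).comp ((Ext.mk₀ S.g).comp x (zero_add p)) (zero_add p) = 0
      rw [← Ext.comp_assoc_of_second_deg_zero, Ext.mk₀_comp_mk₀, S.zero, Ext.mk₀_zero,
        Ext.zero_comp]
    refine ⟨w, ?_⟩
    rw [ShortComplex.moduleCat_exact_iff]
    intro x hx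
    exact Ext.contravariant_sequence_exact₂ hS N x hx
  δ S hS p := δ A N S hS p
  exact₃ S hS p := by
    have w : map A N p S.f ≫ δ A N S hS p = 0 := by
      ext x
      change hS.extClass.comp ((Ext.mk₀ S.f).comp x (zero_add p)) (add_comm 1 p) = 0
      rw [← Ext.comp_assoc (a₁₂ := 1) _ _ _ (add_zero 1) (zero_add p) (by omega),
        hS.extClass_comp, Ext.zero_comp]
    refine ⟨w, ?_⟩
    rw [ShortComplex.moduleCat_exact_iff]
    intro x hx
    exact Ext.contravariant_sequence_exact₁ hS N x (add_comm 1 p) hx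
  exact₁ S hS p := by
    have w : δ A N S hS p ≫ map A N (p + 1) S.g = 0 := by
      ext x
      change (Ext.mk₀ S.g).comp (hS.extClass.comp x (add_comm 1 p)) (zero_add (p + 1)) = 0
      rw [← Ext.comp_assoc (a₁₂ := 1) _ _ _ (zero_add 1) (add_comm 1 p) (by omega),
        hS.comp_extClass, Ext.zero_comp]
    refine ⟨w, ?_⟩
    rw [ShortComplex.moduleCat_exact_iff]
    intro x hx
    exact Ext.contravariant_sequence_exact₃ hS N x hx (add_comm 1 p)

lemma extDelta_E (p : ℕ) (M : ModuleCat.{u} A) :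
    (extDelta A N).E p M = ModuleCat.of A (Ext.{u} M N p) := rfl

/-- `Ext^0(M, N) ≃ Hom_A(M, N)` as `A`-modules. -/
noncomputable def ext0 (M : ModuleCat.{u} A) : Ext.{u} M N 0 ≃ₗ[A] (M →ₗ[A] N) :=
  (Ext.linearEquiv₀ (R := A)).trans (ModuleCat.homLinearEquiv (S := A))

lemma ext0_symm_apply (M : ModuleCat.{u} A) (φ : M →ₗ[A] N) :
    (ext0 A N M).symm φ = Ext.mk₀ (ModuleCat.ofHom φ) := rfl

lemma ext0_mk₀ (M : ModuleCat.{u} A) (φ : M ⟶ N) : ext0 A N M (Ext.mk₀ φ) = φ.hom := by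
  rw [← LinearEquiv.eq_symm_apply, ext0_symm_apply]
  rfl

/-- `Ext^0(M, N) ≅ Hom_A(M, N)` as `A`-modules. -/
noncomputable def zeroIso (M : ModuleCat.{u} A) :
    (extDelta A N).E 0 M ≅ ModuleCat.of A (M →ₗ[A] N) :=
  (ext0 A N M).toModuleIso

lemma zeroIso_hom_apply (M : ModuleCat.{u} A) (x : Ext.{u} M N 0) :
    (zeroIso A N M).hom.hom x = ext0 A N M x := rfl

lemma zeroIso_naturality {M M' : ModuleCat.{u} A} (g : M' ⟶ M) :
    (extDelta A N).map 0 g ≫ (zeroIso A N M').hom =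
      (zeroIso A N M).hom ≫ ModuleCat.ofHom (LinearMap.lcomp A N g.hom) := by
  apply ModuleCat.hom_ext
  apply LinearMap.ext
  intro x
  obtain ⟨f, rfl⟩ := (Ext.mk₀_bijective M N).2 x
  change ext0 A N M' ((Ext.mk₀ g).comp (Ext.mk₀ f) (zero_add 0)) =
    LinearMap.lcomp A N g.hom (ext0 A N M (Ext.mk₀ f))
  rw [Ext.mk₀_comp_mk₀, ext0_mk₀, ext0_mk₀]
  rfl

theorem isZero_of_projective (M : ModuleCat.{u} A) [Projective M] (p : ℕ) :
    IsZero ((extDelta A N).E (p + 1) M) := by
  rw [extDelta_E]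
  haveI : Subsingleton (Ext.{u} M N (p + 1)) := ⟨fun a b => by
    rw [Ext.eq_zero_of_projective a, Ext.eq_zero_of_projective b]⟩
  exact ModuleCat.isZero_of_subsingleton _

end Groth.Agent.R2.H50.ExtDelta
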