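import Groth.Agent.R2.H50ExtShSpec
import Groth.Agent.R2.H50ExtDelta
import Groth.Agent.Lib.Helper21RelExt
import Groth.Agent.S9498

/-!
# helper50: the affine core of PROJ:ext-sheaf

`pkgAffExt (h : PkgTildeHom) : PkgAffExt`: on `Spec R`, `R` Noetherian, `M` finite,
`ℰxt^i(M~, N~) ≅ Ext^i_R(M, N)~`, by comparison of the two contravariant δ-functors
`M ↦ ℰxt^•(M~, N~)` and `M ↦ Ext^•_R(M, N)~` on finite modules (dimension shifting along
`0 → K → R^n → M → 0`).
-/

set_option autoImplicit false
set_option linter.style.haveILetI false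
universe u
open CategoryTheory CategoryTheory.Limits Opposite AlgebraicGeometry

namespace Groth.Agent.R2.H50.ExtShAff

open Groth.Agent.R2.H50.ExtShSpec Groth.Agent.R2.H50.CoDeltaCmp Groth.Agent.R2.H50.ExtDelta
  Groth.Agent.Lib.Helper21.CoDeltaLib Groth.Agent.Lib.Helper21.ExtShDelta

attribute [local instance] hasSheafHom

variable (R : CommRingCat.{u})

instance : PreservesFiniteLimits (tilde.functor R) := (Groth.Agent.S9498.aux R).1
instance : PreservesFiniteColimits (tilde.functor R) := (Groth.Agent.S9498.aux R).2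

/-- the finite free module `R^n`, in the form suitable for `tildeFinsupp`. -/
noncomputable abbrev freeMod (n : ℕ) : ModuleCat.{u} R := ModuleCat.of R (ULift.{u} (Fin n) →₀ R)

/-- `(R^n)~` is a finite free `O`-module. -/
noncomputable def tildeFreeIso (n : ℕ) :
    (tilde.functor R).obj (freeMod R n) ≅
      ∐ fun _ : Fin n => ModSite.unit (Spec R).sheaf :=
  tildeFinsupp (R := R) (ULift.{u} (Fin n)) ≪≫
    (Sigma.whiskerEquiv (f := fun _ : ULift.{u} (Fin n) => SheafOfModules.unit.{u} (Spec R).ringCatSheaf)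
      (g := fun _ : Fin n => ModSite.unit (Spec R).sheaf) Equiv.ulift (fun _ => Iso.refl _))

/-- every finite module over a Noetherian ring is a quotient of some `R^n` with finite kernel. -/
theorem exists_presentation [IsNoetherianRing R] (M : ModuleCat.{u} R) [Module.Finite R M] :
    ∃ (n : ℕ) (K : ModuleCat.{u} R) (i : K ⟶ freeMod R n) (π : freeMod R n ⟶ M) (w : i ≫ π = 0),
      (ShortComplex.mk i π w).ShortExact ∧ Module.Finite R K := by
  obtain ⟨n, s, hs⟩ := Module.Finite.exists_fin (R := R) (M := M)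
  let f : (ULift.{u} (Fin n) →₀ R) →ₗ[R] M := Finsupp.linearCombination R (fun j => s j.down)
  have hf : Function.Surjective f := by
    rw [← LinearMap.range_eq_top, Finsupp.range_linearCombination]
    have : Set.range (fun j : ULift.{u} (Fin n) => s j.down) = Set.range s := by
      ext x
      constructor
      · rintro ⟨j, rfl⟩
        exact ⟨j.down, rfl⟩
      · rintro ⟨j, rfl⟩
        exact ⟨⟨j⟩, rfl⟩
    rw [this, hs]
  refine ⟨n, ModuleCat.of R (LinearMap.ker f), ModuleCat.ofHom (LinearMap.ker f).subtype,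
    ModuleCat.ofHom f, ?_, ?_, ?_⟩
  · ext x
    exact x.2
  · refine ShortComplex.ShortExact.mk' ?_ ?_ ?_
    · rw [ShortComplex.moduleCat_exact_iff]
      intro x hx
      exact ⟨⟨x, hx⟩, rfl⟩
    · rw [ModuleCat.mono_iff_injective]
      exact Subtype.val_injective
    · rw [ModuleCat.epi_iff_surjective]
      exact hf
  · change Module.Finite R (LinearMap.ker f)
    infer_instance

theorem pkgAffExt (h : PkgTildeHom.{u}) : PkgAffExt.{u} := by
  intro R _ M N _ _ _ i
  let G : ModSite.Mod (Spec R).sheaf := (tilde.functor R).obj N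
  let T : ModuleCat.{u} R ⥤ ModSite.Mod (Spec R).sheaf := tilde.functor R
  haveI : T.Additive := inferInstanceAs (tilde.functor R).Additive
  haveI : PreservesFiniteLimits T := inferInstanceAs (PreservesFiniteLimits (tilde.functor R))
  haveI : PreservesFiniteColimits T := inferInstanceAs (PreservesFiniteColimits (tilde.functor R))
  let Δ : CoDelta (ModuleCat.{u} R) (ModSite.Mod (Spec R).sheaf) :=
    precomp (extShDelta (O := (Spec R).sheaf) G) T
  let Δ' : CoDelta (ModuleCat.{u} R) (ModSite.Mod (Spec R).sheaf) :=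
    postcomp (extDelta R N) T
  obtain ⟨θ, hθnat, hθiso⟩ := @h R N (fun M => hasSheafHom _ _)
  -- the classes
  let Cl : ModuleCat.{u} R → Prop := fun M => Module.Finite R M
  let Pr : ModuleCat.{u} R → Prop := fun P => ∃ n : ℕ, P = freeMod R n
  have hres : ∀ M, Cl M → ∃ (K P : ModuleCat.{u} R) (i : K ⟶ P) (π : P ⟶ M) (w : i ≫ π = 0),
      (ShortComplex.mk i π w).ShortExact ∧ Pr P ∧ Cl P ∧ Cl K := by
    intro M hM
    haveI : Module.Finite R M := hM
    obtain ⟨n, K, i, π, w, hS, hK⟩ := exists_presentation R M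
    refine ⟨K, freeMod R n, i, π, w, hS, ⟨n, rfl⟩, ?_, hK⟩
    change Module.Finite R (ULift.{u} (Fin n) →₀ R)
    infer_instance
  have hacyc : ∀ P, Pr P → ∀ p : ℕ, IsZero (Δ.E (p + 1) P) := by
    rintro P ⟨n, rfl⟩ p
    exact isZero_extSh_free (O := (Spec R).sheaf) G (T.obj (freeMod R n)) (tildeFreeIso R n) p
  have hacyc' : ∀ P, Pr P → ∀ p : ℕ, IsZero (Δ'.E (p + 1) P) := by
    rintro P ⟨n, rfl⟩ p
    haveI : Projective (freeMod R n) := by
      have : Module.Projective R (ULift.{u} (Fin n) →₀ R) := inferInstance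
      exact (IsProjective.iff_projective _).mp this
    exact T.map_isZero (isZero_of_projective R N (freeMod R n) p)
  -- the comparison in degree `0`
  let θ' : ∀ M : ModuleCat.{u} R, T.obj (ModuleCat.of R (M →ₗ[R] N)) ⟶
      (ModSite.sheafHom (T.obj M)).obj G := θ
  let σ : ∀ M : ModuleCat.{u} R, Δ'.E 0 M ⟶ Δ.E 0 M := fun M =>
    T.map (zeroIso R N M).hom ≫ θ' M ≫ (ModSite.sheafHom (T.obj M)).toRightDerivedZero.app G
  have hσnat : ∀ {M M' : ModuleCat.{u} R} (g : M' ⟶ M),
      σ M ≫ Δ.map 0 g = Δ'.map 0 g ≫ σ M' := by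
    intro M M' g
    haveI := sheafHom_preservesFiniteLimits (Spec R).sheaf (T.obj M)
    haveI := sheafHom_preservesFiniteLimits (Spec R).sheaf (T.obj M')
    have h1 := Groth.Agent.Lib.Helper21.RelExt.toRightDerivedZero_nat
      (ExtSupp.sheafHomMap (O := (Spec R).sheaf) (T.map g)) G
    have h2 : θ' M ≫ (ExtSupp.sheafHomMap (O := (Spec R).sheaf) (T.map g)).app G =
        T.map (ModuleCat.ofHom (LinearMap.lcomp R N g.hom)) ≫ θ' M' := hθnat g
    have h3 := congrArg T.map (zeroIso_naturality R N g)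
    rw [T.map_comp, T.map_comp] at h3
    change (T.map (zeroIso R N M).hom ≫ θ' M ≫
        (ModSite.sheafHom (T.obj M)).toRightDerivedZero.app G) ≫
        (NatTrans.rightDerived (ExtSupp.sheafHomMap (O := (Spec R).sheaf) (T.map g)) 0).app G =
      T.map ((extDelta R N).map 0 g) ≫ T.map (zeroIso R N M').hom ≫ θ' M' ≫
        (ModSite.sheafHom (T.obj M')).toRightDerivedZero.app G
    rw [Category.assoc, Category.assoc, ← h1, ← Category.assoc (θ' M), h2, Category.assoc,
      ← Category.assoc, ← Category.assoc (T.map ((extDelta R N).map 0 g)), h3]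
  have hσiso : ∀ M : ModuleCat.{u} R, Cl M → IsIso (σ M) := by
    intro M hM
    haveI : Module.Finite R M := hM
    haveI := sheafHom_preservesFiniteLimits (Spec R).sheaf (T.obj M)
    haveI : IsIso (θ' M) := hθiso M (Module.finitePresentation_of_finite R M)
    have i1 : IsIso (T.map (zeroIso R N M).hom) := inferInstance
    have i3 : IsIso ((ModSite.sheafHom (T.obj M)).toRightDerivedZero.app G) := inferInstance
    exact IsIso.comp_isIso' i1 (IsIso.comp_isIso' ‹IsIso (θ' M)› i3)
  let τ : ∀ M, Cl M → (Δ.E 0 M ≅ Δ'.E 0 M) := fun M hM =>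
    (@asIso _ _ _ _ (σ M) (hσiso M hM)).symm
  have hτ : ∀ (M M' : ModuleCat.{u} R) (hM : Cl M) (hM' : Cl M') (g : M' ⟶ M),
      Δ.map 0 g ≫ (τ M' hM').hom = (τ M hM).hom ≫ Δ'.map 0 g := by
    intro M M' hM hM' g
    haveI := hσiso M hM
    haveI := hσiso M' hM'
    change Δ.map 0 g ≫ inv (σ M') = inv (σ M) ≫ Δ'.map 0 g
    rw [IsIso.comp_inv_eq, Category.assoc, IsIso.eq_inv_comp]
    exact hσnat g
  obtain ⟨e⟩ := nonempty_iso_of_natIso Δ Δ' Cl Pr hres τ hτ hacyc hacyc' i M
    (inferInstanceAs (Module.Finite R M))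
  exact ⟨e⟩

end Groth.Agent.R2.H50.ExtShAff
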