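import Groth.Agent.R2.H50ExtShSpec
import Groth.Prelude.Def_CohB1
import Groth.Prelude.Def_Twist2
import Groth.Prelude.Def_KLin
import Mathlib.AlgebraicGeometry.Morphisms.ClosedImmersion
import Mathlib.LinearAlgebra.Dual.Defs
import Mathlib.Algebra.Category.ModuleCat.Localization

/-!
# helper50: interface (Spec), second part, for PROJ:ext-sheaf — layers 2 and 3

* `PkgExtShZeroOfLocal`: vanishing of `ℰxt^j(F, G)` from vanishing of the local `Ext` groups.
* `PkgPnDualNat`: Serre duality on `P^N_k` in the NATURAL form `Ext^r(G, ω) ≃ H^{N-r}(G)^*`.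
* `PkgClosedImmHomExt` (Hartshorne III.7.4): `Hom_X(F, ω) ≃ Ext^r_P(ι_* F, G)` naturally in `F`
  when `ι_* ω ≅ ℰxt^r_P(ι_* O_X, G)` and the lower `ℰxt` sheaves vanish.
* `PkgPushHH`: `H^j(P, ι_* F) ≃ H^j(X, F)` naturally in `F`.
* `DualizingFor`: the conclusion of III.7.5 (shape of S14432 / S11903 / S11924).
-/

set_option autoImplicit false
universe u
open CategoryTheory CategoryTheory.Limits Opposite AlgebraicGeometry

namespace Groth.Agent.R2.H50.ExtShSpec

/-- PkgExtShZeroOfLocal: on a locally Noetherian scheme, `ℰxt^j(F, G) = 0` for coherent `F`, `G` as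
soon as `Ext^j_{A_p}(M_p, N_p) = 0` for every affine open `U` (`A = Γ(X,U)`, `M = F(U)`, `N = G(U)`)
and every prime `p` of `A`. -/
def PkgExtShZeroOfLocal : Prop :=
  ∀ (X : Scheme.{u}) [IsLocallyNoetherian X] (F G : X.Modules), Coh.IsCoh F → Coh.IsCoh G →
    ∀ [ModSite.HasSheafHom (O := X.sheaf) F] [HasInjectiveResolutions (ModSite.Mod X.sheaf)] (j : ℕ),
    (∀ (U : X.affineOpens) (p : PrimeSpectrum Γ(X, U)),
      Subsingleton (Abelian.Ext
        ((ModuleCat.localizedModuleFunctor.{u} p.asIdeal.primeCompl).obj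
          (ModuleCat.of Γ(X, U) (F.val.obj (op U.1))))
        ((ModuleCat.localizedModuleFunctor.{u} p.asIdeal.primeCompl).obj
          (ModuleCat.of Γ(X, U) (G.val.obj (op U.1)))) j)) →
    IsZero ((ModSite.extSh (O := X.sheaf) F j).obj G)

/-- PkgPnDualNat: natural Serre duality on `P = P^N_k`: a `k`-linear map
`Φ_G : Ext^r_P(G, O(-N-1)) → H^{N-r}(P, G)^*`, natural in `G` (all `O_P`-modules), bijective for
coherent `G`.  (Yoneda pairing with `Ext^{N-r}(O_P, G) ≅ H^{N-r}(P, G)` and a trace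
`H^N(P, O(-N-1)) ≅ k`; bijectivity by induction on `r` along `0 → K → ⊕ O(-q) → G → 0`.) -/
def PkgPnDualNat : Prop :=
  ∀ (k : Type u) [Field k] (N r : ℕ), r ≤ N → ∀ [HasExt.{u} (CohB1.ProjSpace N k).Modules],
    ∃ Φ : ∀ G : (CohB1.ProjSpace N k).Modules,
        Abelian.Ext G (Twist.twistProjSpace N k (-((N : ℤ) + 1))) r →ₗ[k]
          Module.Dual k (Coh.HH (CohB1.ProjSpace N k) G (N - r)),
      (∀ {G G' : (CohB1.ProjSpace N k).Modules} (g : G' ⟶ G)
          (e : Abelian.Ext G (Twist.twistProjSpace N k (-((N : ℤ) + 1))) r)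
          (x : Coh.HH (CohB1.ProjSpace N k) G' (N - r)),
          Φ G' ((Abelian.Ext.mk₀ g).comp e (zero_add r)) x =
            Φ G e (Sheaf.H.map ((SheafOfModules.toSheaf _).map g) (N - r) x)) ∧
      ∀ G, Coh.IsCoh G → Function.Bijective (Φ G)

/-- PkgClosedImmHomExt (III.7.4): for a closed immersion `ι : X ⟶ P`, an `O_P`-module `G` and `r`
with `ℰxt^q_P(ι_* O_X, G) = 0` for `q < r` and `ι_* ω ≅ ℰxt^r_P(ι_* O_X, G)`: a bijection
`Hom_X(F, ω) ≃ Ext^r_P(ι_* F, G)`, natural in `F`. -/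
def PkgClosedImmHomExt : Prop :=
  ∀ {X P : Scheme.{u}} (ι : X ⟶ P) [IsClosedImmersion ι] (G : P.Modules) (r : ℕ)
    [ModSite.HasSheafHom (O := P.sheaf) ((Scheme.Modules.pushforward ι).obj (Coh.structureModule X))]
    [HasInjectiveResolutions (ModSite.Mod P.sheaf)] [HasExt.{u} P.Modules] (ω : X.Modules),
    (∀ q : ℕ, q < r → IsZero ((ModSite.extSh (O := P.sheaf)
      ((Scheme.Modules.pushforward ι).obj (Coh.structureModule X)) q).obj G)) →
    Nonempty ((Scheme.Modules.pushforward ι).obj ω ≅ (ModSite.extSh (O := P.sheaf)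
      ((Scheme.Modules.pushforward ι).obj (Coh.structureModule X)) r).obj G) →
    ∃ Ψ : ∀ F : X.Modules, (F ⟶ ω) ≃ Abelian.Ext ((Scheme.Modules.pushforward ι).obj F) G r,
      ∀ {F F' : X.Modules} (g : F' ⟶ F) (φ : F ⟶ ω),
        Ψ F' (g ≫ φ) =
          (Abelian.Ext.mk₀ ((Scheme.Modules.pushforward ι).map g)).comp (Ψ F φ) (zero_add r)

/-- PkgPushHH: for a closed immersion `ι : X ⟶ P` over `Spec k` and quasi-coherent `F`, a
`k`-linear bijection `H^j(P, ι_* F) ≃ H^j(X, F)`, natural in `F`. -/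
def PkgPushHH : Prop :=
  ∀ (k : Type u) [Field k] {X P : Scheme.{u}} [X.Over (Spec (CommRingCat.of k))]
    [P.Over (Spec (CommRingCat.of k))] (ι : X ⟶ P) [IsClosedImmersion ι],
    ι ≫ (P ↘ Spec (CommRingCat.of k)) = (X ↘ Spec (CommRingCat.of k)) → ∀ (j : ℕ),
    ∃ ε : ∀ F : X.Modules, Coh.HH P ((Scheme.Modules.pushforward ι).obj F) j →ₗ[k] Coh.HH X F j,
      (∀ {F F' : X.Modules} (g : F' ⟶ F) (x : Coh.HH P ((Scheme.Modules.pushforward ι).obj F') j),
        ε F (Sheaf.H.map ((SheafOfModules.toSheaf _).map ((Scheme.Modules.pushforward ι).map g)) j x) =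
          Sheaf.H.map ((SheafOfModules.toSheaf _).map g) j (ε F' x)) ∧
      ∀ F : X.Modules, Coh.IsQCoh F → Function.Bijective (ε F)

/-- `(ω, t)` is a dualizing pair in degree `n` for some `t` (conclusion of III.7.5; the shape of
S14432, S11903, S11924). -/
def DualizingFor (k : Type u) [Field k] (X : Scheme.{u}) [X.Over (Spec (CommRingCat.of k))]
    (ω : X.Modules) (n : ℕ) : Prop :=
  ∃ t : Coh.HH X ω n →ₗ[k] k, ∀ F : X.Modules, Coh.IsCoh F → ∀ ψ : Coh.HH X F n →ₗ[k] k,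
    ∃! φ : F ⟶ ω, ∀ x : Coh.HH X F n,
      ψ x = t (Sheaf.H.map ((SheafOfModules.toSheaf X.ringCatSheaf).map φ) n x)

end Groth.Agent.R2.H50.ExtShSpec
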