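import Mathlib
import Groth.Prelude.Def_FlatMod2
import Groth.Agent.Lib.Helper23StalkLin
import Groth.Agent.Lib.Helper23UnitStalk
import Groth.Agent.Lib.Helper2QCoh
import Groth.Agent.Lib.Helper2ModExact

/-!
# Finitely many local sections generating all stalks of a subsheaf of `O_X` (helper50)

`X` Noetherian, `ι : G ⟶ O_X` a monomorphism of `O_X`-modules (no quasi-coherence).  Then there is a
finite list of pairs `(U, t ∈ G(U))` whose germs generate every stalk `G_x`.
-/

set_option autoImplicit false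
universe u
open CategoryTheory CategoryTheory.Limits AlgebraicGeometry Opposite TopologicalSpace

namespace Groth.Agent.R2.H50.IdealGen

open Groth.Agent.Lib.Helper4.NormDelta Groth.Agent.Lib.Helper23.StalkLin
open Groth.Agent.Lib.Helper23.GenLocus Groth.Agent.Lib.Helper23.UnitStalk
open Groth.Agent.Lib.Helper2.QCoh Groth.Agent.Lib.Helper2.ModExact

variable {X : Scheme.{u}} (G : X.Modules)

/-- the germs at `x` of the sections in the list `L` defined near `x` -/
def genSet (L : List (Σ U : X.Opens, Γ(G, U))) (x : X) : Set (G.presheaf.stalk x) :=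
  {v | ∃ p ∈ L, ∃ h : x ∈ p.1, v = G.presheaf.germ p.1 x h p.2}

/-- the sections of `L` generate the stalk at `x` -/
def Gen (L : List (Σ U : X.Opens, Γ(G, U))) (x : X) : Prop :=
  Submodule.span (X.presheaf.stalk x) (genSet G L x) = ⊤

variable {G}

theorem genSet_mono {L L' : List (Σ U : X.Opens, Γ(G, U))} (h : L ⊆ L') (x : X) :
    genSet G L x ⊆ genSet G L' x := by
  rintro v ⟨p, hp, hx, rfl⟩
  exact ⟨p, h hp, hx, rfl⟩

theorem Gen.mono {L L' : List (Σ U : X.Opens, Γ(G, U))} (h : L ⊆ L') {x : X} (hx : Gen G L x) :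
    Gen G L' x := by
  unfold Gen at hx ⊢
  exact top_le_iff.1 (hx ▸ Submodule.span_mono (genSet_mono h x))

/-- a function on `U` whose germ at `ξ` lies in the image of `G_ξ` lifts to a section of `G` near `ξ` -/
theorem exists_local_lift (ι : G ⟶ Coh.structureModule X) (ξ : X) (U : X.Opens) (hξ : ξ ∈ U)
    (a : Γ(X, U))
    (ha : toUnitStalk ξ (X.presheaf.germ U ξ hξ a) ∈ LinearMap.range (stalkLin ι ξ)) :
    ∃ (W : X.Opens) (hW : W ≤ U) (_ : ξ ∈ W) (t : Γ(G, W)),
      Scheme.Modules.Hom.app ι W t = toS W (X.presheaf.map (homOfLE hW).op a) := by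
  obtain ⟨u, hu⟩ := ha
  obtain ⟨V, hξV, t', rfl⟩ := G.presheaf.exists_germ_eq u
  rw [stalkLin_germ, toUnitStalk_germ] at hu
  obtain ⟨W, hξW, i₁, i₂, hW⟩ := (Coh.structureModule X).presheaf.germ_eq ξ hξV hξ _ _ hu
  refine ⟨W, i₂.le, hξW, G.presheaf.map i₁.op t', ?_⟩
  rw [app_map, hW, map_toS]
  rfl

/-- the ideal of functions on `U` whose germ at `ξ` comes from `G_ξ` -/
noncomputable def germIdeal (ι : G ⟶ Coh.structureModule X) (ξ : X) (U : X.Opens) (hξ : ξ ∈ U) :
    Ideal Γ(X, U) :=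
  Ideal.comap (X.presheaf.germ U ξ hξ).hom
    (Submodule.comap (toUnitStalk ξ) (LinearMap.range (stalkLin ι ξ)))

theorem mem_germIdeal (ι : G ⟶ Coh.structureModule X) (ξ : X) (U : X.Opens) (hξ : ξ ∈ U)
    (a : Γ(X, U)) :
    a ∈ germIdeal ι ξ U hξ ↔
      toUnitStalk ξ (X.presheaf.germ U ξ hξ a) ∈ LinearMap.range (stalkLin ι ξ) := Iff.rfl

/-- **Key local statement.**  If `a_j` generate the ideal of functions on the affine open `U` whose germ at
`ξ` comes from `G_ξ`, and `t_j ∈ G(W_j)` are local lifts of the `a_j`, then the `t_j` generate `G_y` for every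
specialisation `y` of `ξ` lying in `U` and in all the `W_j`. -/
theorem gen_of_specializes (ι : G ⟶ Coh.structureModule X) [Mono ι] (ξ : X) (U : X.Opens)
    (hU : IsAffineOpen U) (hξ : ξ ∈ U) {n : ℕ} (a : Fin n → Γ(X, U))
    (ha : germIdeal ι ξ U hξ ≤ Ideal.span (Set.range a))
    (W : Fin n → X.Opens) (hWU : ∀ j, W j ≤ U) (t : ∀ j, Γ(G, W j))
    (ht : ∀ j, Scheme.Modules.Hom.app ι (W j) (t j) =
      toS (W j) (X.presheaf.map (homOfLE (hWU j)).op (a j)))
    (y : X) (hyU : y ∈ U) (hyW : ∀ j, y ∈ W j) (hξy : ξ ⤳ y) :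
    Gen G (List.ofFn fun j => (⟨W j, t j⟩ : Σ U : X.Opens, Γ(G, U))) y := by
  unfold Gen
  rw [eq_top_iff]
  rintro u -
  obtain ⟨W', hyW', t', rfl⟩ := G.presheaf.exists_germ_eq u
  obtain ⟨g, hgW', hyg⟩ := hU.exists_basicOpen_le (V := W') ⟨y, hyW'⟩ hyU
  have hDU : X.basicOpen g ≤ U := X.basicOpen_le g
  have hloc := hU.isLocalization_basicOpen g
  obtain ⟨⟨a0, s⟩, hs⟩ := IsLocalization.surj (Submonoid.powers g)
    (ofS (X.basicOpen g) (Scheme.Modules.Hom.app ι (X.basicOpen g)
      (G.presheaf.map (homOfLE hgW').op t')))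
  obtain ⟨N, hN⟩ := s.2
  have hξD : ξ ∈ X.basicOpen g := hξy.mem_open (X.basicOpen g).2 hyg
  -- the basic identity on `D(g)`
  have hE : (X.presheaf.map (homOfLE hDU).op g) ^ N •
      Scheme.Modules.Hom.app ι (X.basicOpen g) (G.presheaf.map (homOfLE hgW').op t') =
      toS (X.basicOpen g) (X.presheaf.map (homOfLE hDU).op a0) := by
    have h1 : Scheme.Modules.Hom.app ι (X.basicOpen g) (G.presheaf.map (homOfLE hgW').op t') =
        toS (X.basicOpen g) (ofS (X.basicOpen g) (Scheme.Modules.Hom.app ι (X.basicOpen g)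
          (G.presheaf.map (homOfLE hgW').op t'))) := rfl
    rw [h1, smul_toS]
    congr 1
    have h2 : algebraMap Γ(X, U) Γ(X, X.basicOpen g) (s : Γ(X, U)) =
        (X.presheaf.map (homOfLE hDU).op g) ^ N := by
      rw [← hN, map_pow]
      rfl
    have h3 : algebraMap Γ(X, U) Γ(X, X.basicOpen g) a0 = X.presheaf.map (homOfLE hDU).op a0 := rfl
    rw [← h2, ← h3, mul_comm]
    exact hs
  -- `a0` lies in the germ ideal at `ξ`
  have ha0 : a0 ∈ germIdeal ι ξ U hξ := by
    rw [mem_germIdeal]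
    refine ⟨G.presheaf.germ (X.basicOpen g) ξ hξD ((X.presheaf.map (homOfLE hDU).op g) ^ N •
      G.presheaf.map (homOfLE hgW').op t'), ?_⟩
    rw [stalkLin_germ, app_smul, toUnitStalk_germ, hE,
      ← TopCat.Presheaf.germ_res_apply (Coh.structureModule X).presheaf (homOfLE hDU) ξ hξD
        (toS U a0), map_toS]
  obtain ⟨c, hc⟩ := (Submodule.mem_span_range_iff_exists_fun _).1 (ha ha0)
  -- the identity in the stalk at `y`
  have key : (X.presheaf.germ U y hyU g) ^ N • G.presheaf.germ W' y hyW' t' =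
      ∑ j, X.presheaf.germ U y hyU (c j) • G.presheaf.germ (W j) y (hyW j) (t j) := by
    apply stalkLin_injective ι y
    rw [map_smul, map_sum, stalkLin_germ]
    have hL : (X.presheaf.germ U y hyU g) ^ N •
        (Coh.structureModule X).presheaf.germ W' y hyW' (Scheme.Modules.Hom.app ι W' t') =
        toUnitStalk y (X.presheaf.germ U y hyU a0) := by
      rw [toUnitStalk_germ,
        ← TopCat.Presheaf.germ_res_apply (Coh.structureModule X).presheaf (homOfLE hDU) y hyg
          (toS U a0), map_toS, ← hE, germ_smul, map_pow,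
        TopCat.Presheaf.germ_res_apply X.presheaf (homOfLE hDU) y hyg g, app_map,
        TopCat.Presheaf.germ_res_apply (Coh.structureModule X).presheaf (homOfLE hgW') y hyg]
    rw [hL, ← hc, map_sum, map_sum]
    refine Finset.sum_congr rfl fun j _ => ?_
    have hl : toUnitStalk y (X.presheaf.germ U y hyU (c j • a j)) =
        X.presheaf.germ U y hyU (c j) • toUnitStalk y (X.presheaf.germ U y hyU (a j)) := by
      rw [smul_eq_mul, map_mul]
      exact (toUnitStalk y).map_smul _ _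
    rw [hl, (stalkLin ι y).map_smul, stalkLin_germ, ht j, toUnitStalk_germ,
      ← TopCat.Presheaf.germ_res_apply (Coh.structureModule X).presheaf (homOfLE (hWU j)) y
        (hyW j) (toS U (a j)), map_toS]
  have hunit : IsUnit ((X.presheaf.germ U y hyU g) ^ N) :=
    ((Scheme.mem_basicOpen X g y hyU).1 hyg).pow N
  obtain ⟨v, hv⟩ := hunit
  have hu : G.presheaf.germ W' y hyW' t' =
      (↑v⁻¹ : X.presheaf.stalk y) • ∑ j, X.presheaf.germ U y hyU (c j) •
        G.presheaf.germ (W j) y (hyW j) (t j) := by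
    rw [← key, ← hv, smul_smul, Units.inv_mul, one_smul]
  rw [hu]
  refine Submodule.smul_mem _ _ (Submodule.sum_mem _ fun j _ => Submodule.smul_mem _ _
    (Submodule.subset_span ?_))
  exact ⟨⟨W j, t j⟩, (List.mem_ofFn' _ _).2 ⟨j, rfl⟩, hyW j, rfl⟩

/-- Every point `ξ` has an open neighbourhood `V` and a finite list of local sections of `G` generating the
stalks at all specialisations of `ξ` inside `V`. -/
theorem exists_open_gen [IsNoetherian X] (ι : G ⟶ Coh.structureModule X) [Mono ι] (ξ : X) :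
    ∃ (V : X.Opens) (_ : ξ ∈ V) (L : List (Σ U : X.Opens, Γ(G, U))),
      ∀ y ∈ V, ξ ⤳ y → Gen G L y := by
  obtain ⟨U, hU, hξ, -⟩ := exists_isAffineOpen_mem_and_subset (x := ξ) (U := ⊤) trivial
  have : IsNoetherianRing Γ(X, U) := IsLocallyNoetherian.component_noetherian ⟨U, hU⟩
  obtain ⟨n, a, ha⟩ := Submodule.fg_iff_exists_fin_generating_family.1
    (IsNoetherian.noetherian (germIdeal ι ξ U hξ))
  have hmem : ∀ j, a j ∈ germIdeal ι ξ U hξ := fun j => ha ▸ Submodule.subset_span ⟨j, rfl⟩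
  choose W hWU hξW t ht using fun j => exists_local_lift ι ξ U hξ (a j) ((mem_germIdeal ι ξ U hξ _).1 (hmem j))
  refine ⟨⟨(U : Set X) ∩ ⋂ j, (W j : Set X),
      U.2.inter (isOpen_iInter_of_finite fun j => (W j).2)⟩,
    ⟨hξ, Set.mem_iInter.2 hξW⟩, List.ofFn fun j => (⟨W j, t j⟩ : Σ U : X.Opens, Γ(G, U)), ?_⟩
  rintro y ⟨hyU, hyW⟩ hξy
  exact gen_of_specializes ι ξ U hU hξ a ha.ge W hWU t ht y hyU (Set.mem_iInter.1 hyW) hξy

/-- Noetherian induction on closed subsets. -/
theorem exists_list_gen_closed [IsNoetherian X] (ι : G ⟶ Coh.structureModule X) [Mono ι]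
    (Z : Closeds X) :
    ∃ L : List (Σ U : X.Opens, Γ(G, U)), ∀ y ∈ (Z : Set X), Gen G L y := by
  induction Z using WellFoundedLT.induction with
  | ind Z IH =>
    by_cases hZ : (Z : Set X) = ∅
    · exact ⟨[], fun y hy => by rw [hZ] at hy; exact hy.elim⟩
    by_cases hirr : IsPreirreducible (Z : Set X)
    · have hZirr : IsIrreducible (Z : Set X) := ⟨Set.nonempty_iff_ne_empty.2 hZ, hirr⟩
      obtain ⟨ξ, hξ⟩ := QuasiSober.sober hZirr Z.isClosed
      obtain ⟨V, hξV, L, hL⟩ := exists_open_gen ι ξ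
      let Z' : Closeds X := ⟨(Z : Set X) \ V, Z.isClosed.sdiff V.2⟩
      have hle : Z' ≤ Z := fun y hy => hy.1
      have hlt : Z' < Z := by
        refine lt_of_le_of_ne hle fun h => ?_
        have : ξ ∈ (Z' : Set X) := by rw [h]; exact hξ.mem
        exact this.2 hξV
      obtain ⟨L', hL'⟩ := IH Z' hlt
      refine ⟨L ++ L', fun y hy => ?_⟩
      by_cases hyV : y ∈ V
      · exact (hL y hyV (hξ.specializes hy)).mono (List.subset_append_left _ _)
      · exact (hL' y ⟨hy, hyV⟩).mono (List.subset_append_right _ _)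
    · rw [isPreirreducible_iff_isClosed_union_isClosed] at hirr
      push Not at hirr
      obtain ⟨Z1, Z2, h1, h2, hsub, hn1, hn2⟩ := hirr
      let Y1 : Closeds X := ⟨(Z : Set X) ∩ Z1, Z.isClosed.inter h1⟩
      let Y2 : Closeds X := ⟨(Z : Set X) ∩ Z2, Z.isClosed.inter h2⟩
      have hlt1 : Y1 < Z := by
        refine lt_of_le_of_ne (fun y hy => hy.1) fun h => hn1 fun y hy => ?_
        have : y ∈ (Y1 : Set X) := by rw [h]; exact hy
        exact this.2
      have hlt2 : Y2 < Z := by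
        refine lt_of_le_of_ne (fun y hy => hy.1) fun h => hn2 fun y hy => ?_
        have : y ∈ (Y2 : Set X) := by rw [h]; exact hy
        exact this.2
      obtain ⟨L1, hL1⟩ := IH Y1 hlt1
      obtain ⟨L2, hL2⟩ := IH Y2 hlt2
      refine ⟨L1 ++ L2, fun y hy => ?_⟩
      rcases hsub hy with hy1 | hy2
      · exact (hL1 y ⟨hy, hy1⟩).mono (List.subset_append_left _ _)
      · exact (hL2 y ⟨hy, hy2⟩).mono (List.subset_append_right _ _)

/-- **Main result**: finitely many local sections of `G` generate all stalks. -/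
theorem exists_list_gen [IsNoetherian X] (ι : G ⟶ Coh.structureModule X) [Mono ι] :
    ∃ L : List (Σ U : X.Opens, Γ(G, U)), ∀ y : X, Gen G L y := by
  obtain ⟨L, hL⟩ := exists_list_gen_closed ι (⊤ : Closeds X)
  exact ⟨L, fun y => hL y trivial⟩

end Groth.Agent.R2.H50.IdealGen
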