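import Mathlib
import Groth.Agent.R2.H50IdealGen

/-!
# Ascending chains of sub-`O_X`-modules of `O_X` on a Noetherian scheme stabilise (helper50)

Chain version of `H50IdealGen`: if `M ↪ O_X` and `d : ℕ →o Subobject M`, then `d` is eventually constant.
-/

set_option autoImplicit false
set_option linter.unusedSectionVars false
universe u
open CategoryTheory CategoryTheory.Limits AlgebraicGeometry Opposite TopologicalSpace

namespace Groth.Agent.R2.H50.IdealChain

open Groth.Agent.Lib.Helper4.NormDelta Groth.Agent.Lib.Helper23.StalkLin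
open Groth.Agent.Lib.Helper23.GenLocus Groth.Agent.Lib.Helper23.UnitStalk
open Groth.Agent.Lib.Helper2.QCoh Groth.Agent.Lib.Helper2.ModExact
open Groth.Agent.R2.H50.IdealGen

variable {X : Scheme.{u}}

/-! ### Functoriality of `stalkLin` and epimorphisms -/

theorem stalkLin_comp {F G H : X.Modules} (f : F ⟶ G) (g : G ⟶ H) (x : X) :
    stalkLin (f ≫ g) x = (stalkLin g x).comp (stalkLin f x) := by
  ext u
  obtain ⟨V, hxV, t, rfl⟩ := F.presheaf.exists_germ_eq u
  rw [LinearMap.comp_apply, stalkLin_germ, stalkLin_germ, stalkLin_germ]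
  rfl

theorem stalkLin_zero {F G : X.Modules} (x : X) : stalkLin (0 : F ⟶ G) x = 0 := by
  ext u
  obtain ⟨V, hxV, t, rfl⟩ := F.presheaf.exists_germ_eq u
  rw [stalkLin_germ, LinearMap.zero_apply]
  exact map_zero _

theorem epi_of_stalkLin_surjective {M N : X.Modules} (φ : M ⟶ N)
    (h : ∀ x, Function.Surjective (stalkLin φ x)) : Epi φ := by
  refine Preadditive.epi_of_cancel_zero _ (fun {P} g hg => ?_)
  apply Scheme.Modules.hom_ext
  intro U
  ext s
  refine TopCat.Presheaf.section_ext ⟨P.presheaf, P.isSheaf⟩ U _ _ (fun y hy => ?_)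
  obtain ⟨t, ht⟩ := h y (N.presheaf.germ U y hy s)
  have h1 : P.presheaf.germ U y hy (Scheme.Modules.Hom.app g U s) = stalkLin g y (stalkLin φ y t) := by
    rw [ht, stalkLin_germ]
  have h2 : stalkLin g y (stalkLin φ y t) = 0 := by
    rw [← LinearMap.comp_apply, ← stalkLin_comp, hg, stalkLin_zero, LinearMap.zero_apply]
  rw [h1, h2]
  exact (map_zero _).symm

/-! ### The image of the stalk in `O_{X,y}` is determined by the germ ideal at a generisation -/

/-- In the situation of `gen_of_specializes`, the image of `G_y` in the stalk of the structure module is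
spanned by the germs of the `a_j`. -/
theorem range_stalkLin_eq_span {G : X.Modules} (ι : G ⟶ Coh.structureModule X) [Mono ι] (ξ : X)
    (U : X.Opens) (hU : IsAffineOpen U) (hξ : ξ ∈ U) {n : ℕ} (a : Fin n → Γ(X, U))
    (ha : germIdeal ι ξ U hξ ≤ Ideal.span (Set.range a))
    (W : Fin n → X.Opens) (hWU : ∀ j, W j ≤ U) (t : ∀ j, Γ(G, W j))
    (ht : ∀ j, Scheme.Modules.Hom.app ι (W j) (t j) =
      toS (W j) (X.presheaf.map (homOfLE (hWU j)).op (a j)))
    (y : X) (hyU : y ∈ U) (hyW : ∀ j, y ∈ W j) (hξy : ξ ⤳ y) :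
    LinearMap.range (stalkLin ι y) =
      Submodule.span (X.presheaf.stalk y) (Set.range fun j =>
        (Coh.structureModule X).presheaf.germ U y hyU (toS U (a j))) := by
  have hgen := gen_of_specializes ι ξ U hU hξ a ha W hWU t ht y hyU hyW hξy
  unfold Gen at hgen
  have hgerm : ∀ (j : Fin n) (h : y ∈ W j),
      (Coh.structureModule X).presheaf.germ (W j) y h
        (toS (W j) (X.presheaf.map (homOfLE (hWU j)).op (a j))) =
      (Coh.structureModule X).presheaf.germ U y hyU (toS U (a j)) := by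
    intro j h
    rw [← TopCat.Presheaf.germ_res_apply (Coh.structureModule X).presheaf (homOfLE (hWU j)) y
        h (toS U (a j)), map_toS]
  rw [← Submodule.map_top, ← hgen, Submodule.map_span]
  congr 1
  ext v
  constructor
  · rintro ⟨_, ⟨p, hp, hyp, rfl⟩, rfl⟩
    obtain ⟨j, rfl⟩ := (List.mem_ofFn' _ _).1 hp
    refine ⟨j, ?_⟩
    rw [stalkLin_germ]
    exact (hgerm j hyp).symm.trans (congrArg _ (ht j).symm)
  · rintro ⟨j, rfl⟩
    refine ⟨G.presheaf.germ (W j) y (hyW j) (t j),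
      ⟨⟨W j, t j⟩, (List.mem_ofFn' _ _).2 ⟨j, rfl⟩, hyW j, rfl⟩, ?_⟩
    rw [stalkLin_germ, ht j]
    exact hgerm j (hyW j)

/-! ### Ascending families of submodules of `O_X` -/

section Chain

variable (G : ℕ → X.Modules) (ιn : ∀ n, G n ⟶ Coh.structureModule X) [∀ n, Mono (ιn n)]
  (f : ∀ n m, n ≤ m → (G n ⟶ G m)) (hf : ∀ n m h, f n m h ≫ ιn m = ιn n)

include hf in
theorem range_mono {n m : ℕ} (h : n ≤ m) (y : X) :
    LinearMap.range (stalkLin (ιn n) y) ≤ LinearMap.range (stalkLin (ιn m) y) := by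
  rintro _ ⟨u, rfl⟩
  refine ⟨stalkLin (f n m h) y u, ?_⟩
  rw [← LinearMap.comp_apply, ← stalkLin_comp, hf]

include hf in
theorem germIdeal_mono (ξ : X) (U : X.Opens) (hξ : ξ ∈ U) {n m : ℕ} (h : n ≤ m) :
    germIdeal (ιn n) ξ U hξ ≤ germIdeal (ιn m) ξ U hξ := by
  intro a ha
  rw [mem_germIdeal] at ha ⊢
  exact range_mono G ιn f hf h ξ ha

include hf in
/-- local stabilisation near a point, along specialisations -/
theorem exists_open_stable [IsNoetherian X] (ξ : X) :
    ∃ (V : X.Opens) (_ : ξ ∈ V) (N : ℕ), ∀ m, N ≤ m → ∀ y ∈ V, ξ ⤳ y →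
      LinearMap.range (stalkLin (ιn N) y) = LinearMap.range (stalkLin (ιn m) y) := by
  obtain ⟨U, hU, hξ, -⟩ := exists_isAffineOpen_mem_and_subset (x := ξ) (U := ⊤) trivial
  have : IsNoetherianRing Γ(X, U) := IsLocallyNoetherian.component_noetherian ⟨U, hU⟩
  obtain ⟨N, hN⟩ := monotone_stabilizes_iff_noetherian.2 ‹IsNoetherianRing Γ(X, U)›
    ⟨fun n => germIdeal (ιn n) ξ U hξ, fun n m h => germIdeal_mono G ιn f hf ξ U hξ h⟩
  obtain ⟨k, a, ha⟩ := Submodule.fg_iff_exists_fin_generating_family.1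
    (IsNoetherian.noetherian (germIdeal (ιn N) ξ U hξ))
  have hmem : ∀ j, a j ∈ germIdeal (ιn N) ξ U hξ := fun j => ha ▸ Submodule.subset_span ⟨j, rfl⟩
  choose W hWU hξW t ht using fun j =>
    exists_local_lift (ιn N) ξ U hξ (a j) ((mem_germIdeal (ιn N) ξ U hξ _).1 (hmem j))
  refine ⟨⟨(U : Set X) ∩ ⋂ j, (W j : Set X),
      U.2.inter (isOpen_iInter_of_finite fun j => (W j).2)⟩,
    ⟨hξ, Set.mem_iInter.2 hξW⟩, N, ?_⟩
  rintro m hm y ⟨hyU, hyW⟩ hξy
  have hyW' := Set.mem_iInter.1 hyW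
  rw [range_stalkLin_eq_span (ιn N) ξ U hU hξ a ha.ge W hWU t ht y hyU hyW' hξy]
  have ha' : germIdeal (ιn m) ξ U hξ ≤ Ideal.span (Set.range a) := by
    have : germIdeal (ιn N) ξ U hξ = germIdeal (ιn m) ξ U hξ := hN m hm
    rw [← this]
    exact ha.ge
  refine (range_stalkLin_eq_span (ιn m) ξ U hU hξ a ha' W hWU
    (fun j => Scheme.Modules.Hom.app (f N m hm) (W j) (t j)) (fun j => ?_) y hyU hyW' hξy).symm
  rw [← ht j, ← hf N m hm]
  rfl

include hf in
/-- Noetherian induction on closed subsets -/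
theorem exists_stable_closed [IsNoetherian X] (Z : Closeds X) :
    ∃ N : ℕ, ∀ m, N ≤ m → ∀ y ∈ (Z : Set X),
      LinearMap.range (stalkLin (ιn N) y) = LinearMap.range (stalkLin (ιn m) y) := by
  -- enlarging `N` is harmless
  have hup : ∀ (S : Set X) (N N' : ℕ), N ≤ N' →
      (∀ m, N ≤ m → ∀ y ∈ S,
        LinearMap.range (stalkLin (ιn N) y) = LinearMap.range (stalkLin (ιn m) y)) →
      ∀ m, N' ≤ m → ∀ y ∈ S,
        LinearMap.range (stalkLin (ιn N') y) = LinearMap.range (stalkLin (ιn m) y) := by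
    intro S N N' hNN' h m hm y hy
    rw [← h N' hNN' y hy, h m (hNN'.trans hm) y hy]
  induction Z using WellFoundedLT.induction with
  | ind Z IH =>
    by_cases hZ : (Z : Set X) = ∅
    · exact ⟨0, fun m _ y hy => by rw [hZ] at hy; exact hy.elim⟩
    by_cases hirr : IsPreirreducible (Z : Set X)
    · have hZirr : IsIrreducible (Z : Set X) := ⟨Set.nonempty_iff_ne_empty.2 hZ, hirr⟩
      obtain ⟨ξ, hξ⟩ := QuasiSober.sober hZirr Z.isClosed
      obtain ⟨V, hξV, N₁, hN₁⟩ := exists_open_stable G ιn f hf ξ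
      let Z' : Closeds X := ⟨(Z : Set X) \ V, Z.isClosed.sdiff V.2⟩
      have hle : Z' ≤ Z := fun y hy => hy.1
      have hlt : Z' < Z := by
        refine lt_of_le_of_ne hle fun h => ?_
        have : ξ ∈ (Z' : Set X) := by rw [h]; exact hξ.mem
        exact this.2 hξV
      obtain ⟨N₂, hN₂⟩ := IH Z' hlt
      refine ⟨max N₁ N₂, fun m hm y hy => ?_⟩
      by_cases hyV : y ∈ V
      · exact hup {y | y ∈ V ∧ ξ ⤳ y} N₁ _ (le_max_left _ _)
          (fun m hm y hy => hN₁ m hm y hy.1 hy.2) m hm y ⟨hyV, hξ.specializes hy⟩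
      · exact hup (Z' : Set X) N₂ _ (le_max_right _ _) hN₂ m hm y ⟨hy, hyV⟩
    · rw [isPreirreducible_iff_isClosed_union_isClosed] at hirr
      push Not at hirr
      obtain ⟨Z1, Z2, h1, h2, hsub, hn1, hn2⟩ := hirr
      let Y1 : Closeds X := ⟨(Z : Set X) ∩ Z1, Z.isClosed.inter h1⟩
      let Y2 : Closeds X := ⟨(Z : Set X) ∩ Z2, Z.isClosed.inter h2⟩
      have hlt1 : Y1 < Z := by
        refine lt_of_le_of_ne (fun y hy => hy.1) fun h => hn1 fun y hy => ?_
        have : y ∈ (Y1 : Set X) := by rw [h]; exact hy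
        exact this.2
      have hlt2 : Y2 < Z := by
        refine lt_of_le_of_ne (fun y hy => hy.1) fun h => hn2 fun y hy => ?_
        have : y ∈ (Y2 : Set X) := by rw [h]; exact hy
        exact this.2
      obtain ⟨N₁, hN₁⟩ := IH Y1 hlt1
      obtain ⟨N₂, hN₂⟩ := IH Y2 hlt2
      refine ⟨max N₁ N₂, fun m hm y hy => ?_⟩
      rcases hsub hy with hy1 | hy2
      · exact hup (Y1 : Set X) N₁ _ (le_max_left _ _) hN₁ m hm y ⟨hy, hy1⟩
      · exact hup (Y2 : Set X) N₂ _ (le_max_right _ _) hN₂ m hm y ⟨hy, hy2⟩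

include hf in
/-- the transition maps are eventually isomorphisms -/
theorem exists_isIso_transition [IsNoetherian X] :
    ∃ N : ℕ, ∀ m (h : N ≤ m), IsIso (f N m h) := by
  obtain ⟨N, hN⟩ := exists_stable_closed G ιn f hf (⊤ : Closeds X)
  refine ⟨N, fun m h => ?_⟩
  have hmono : Mono (f N m h) := by
    have : Mono (f N m h ≫ ιn m) := by rw [hf]; infer_instance
    exact mono_of_mono (f N m h) (ιn m)
  have hepi : Epi (f N m h) := by
    refine epi_of_stalkLin_surjective _ fun y u => ?_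
    have hu : stalkLin (ιn m) y u ∈ LinearMap.range (stalkLin (ιn N) y) := by
      rw [hN m h y trivial]
      exact ⟨u, rfl⟩
    obtain ⟨v, hv⟩ := hu
    refine ⟨v, stalkLin_injective (ιn m) y ?_⟩
    rw [← LinearMap.comp_apply, ← stalkLin_comp, hf, hv]
  exact isIso_of_mono_of_epi _

end Chain

/-- **Ascending chain condition** for subobjects of a submodule of `O_X` on a Noetherian scheme. -/
theorem chain_stabilizes [IsNoetherian X] (M : X.Modules) (ι : M ⟶ Coh.structureModule X) [Mono ι]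
    (d : ℕ →o Subobject M) : ∃ n : ℕ, ∀ m : ℕ, n ≤ m → d n = d m := by
  obtain ⟨N, hN⟩ := exists_isIso_transition (fun n => ((d n : Subobject M) : X.Modules))
    (fun n => (d n).arrow ≫ ι) (fun n m h => Subobject.ofLE (d n) (d m) (d.monotone h))
    (fun n m h => by rw [← Category.assoc, Subobject.ofLE_arrow])
  refine ⟨N, fun m h => le_antisymm (d.monotone h) ?_⟩
  have := hN m h
  refine Subobject.le_of_comm (inv (Subobject.ofLE (d N) (d m) (d.monotone h))) ?_
  rw [IsIso.inv_comp_eq, Subobject.ofLE_arrow]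

end Groth.Agent.R2.H50.IdealChain
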