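import Mathlib
import Groth.Prelude.Def_CxOX
import Groth.Agent.Lib.Helper21Subterm
import Groth.Agent.R2.H50AdjTriple
import Groth.Agent.R2.H50IdealChain

/-!
# Extension by zero along an open immersion of schemes: the counit is a monomorphism (helper50)
-/

set_option autoImplicit false
set_option linter.style.haveILetI false
universe u
open CategoryTheory CategoryTheory.Limits AlgebraicGeometry Opposite TopologicalSpace

namespace Groth.Agent.R2.H50.ExtZero

open Groth.Agent.R2.H50.AdjTriple

variable {X : Scheme.{u}}

/-- for an open `V ⊆ X`, the counit `j_! j^* M ⟶ M` is a monomorphism -/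
theorem mono_counit_opens (V : X.Opens) (M : X.Modules) :
    Mono ((CxOX.extZeroAdj V.ι).counit.app M) := by
  have h1 : Mono ((ModSite.extZeroAdj X.sheaf V).counit.app M) :=
    Groth.Agent.Lib.Helper21.Subterm.mono_ε (C := Opens X) X.sheaf V
      (fun W => ⟨fun a b => Subsingleton.elim a b⟩) M
  have h2 : IsIso (Scheme.Modules.overEquiv V).symm.toAdjunction.counit :=
    inferInstanceAs (IsIso (Scheme.Modules.overEquiv V).symm.counitIso.hom)
  exact mono_counit_of_equiv (ModSite.extZeroAdj X.sheaf V) (CxOX.extZeroAdj V.ι)
    (Scheme.Modules.overEquiv V).symm.toAdjunction h2 (Scheme.Modules.overFunctorEquiv V) M h1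

/-- restriction along an isomorphism of schemes is an equivalence -/
noncomputable def restrictEquivOfIso {U V : Scheme.{u}} (e : U ≅ V) : U.Modules ≌ V.Modules :=
  CategoryTheory.Equivalence.mk (Scheme.Modules.restrictFunctor e.inv) (Scheme.Modules.restrictFunctor e.hom)
    ((Scheme.Modules.restrictFunctorId (X := U)).symm ≪≫
      Scheme.Modules.restrictFunctorCongr (e.hom_inv_id).symm ≪≫
      Scheme.Modules.restrictFunctorComp e.hom e.inv)
    ((Scheme.Modules.restrictFunctorComp e.inv e.hom).symm ≪≫
      Scheme.Modules.restrictFunctorCongr (e.inv_hom_id) ≪≫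
      Scheme.Modules.restrictFunctorId (X := V))

/-- for an open immersion `j : U ⟶ X`, the counit `j_! j^* M ⟶ M` is a monomorphism -/
theorem mono_counit {U : Scheme.{u}} (j : U ⟶ X) [IsOpenImmersion j] (M : X.Modules) :
    Mono ((CxOX.extZeroAdj j).counit.app M) := by
  let V := j.opensRange
  let e : U ≅ V := j.isoOpensRange
  have h2 : IsIso (restrictEquivOfIso e).toAdjunction.counit :=
    inferInstanceAs (IsIso (restrictEquivOfIso e).counitIso.hom)
  let γ : Scheme.Modules.restrictFunctor V.ι ⋙ (restrictEquivOfIso e).inverse ≅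
      Scheme.Modules.restrictFunctor j :=
    (Scheme.Modules.restrictFunctorComp e.hom V.ι).symm ≪≫
      Scheme.Modules.restrictFunctorCongr j.isoOpensRange_hom_ι
  exact mono_counit_of_equiv (CxOX.extZeroAdj V.ι) (CxOX.extZeroAdj j)
    (restrictEquivOfIso e).toAdjunction h2 γ M (mono_counit_opens V M)

end Groth.Agent.R2.H50.ExtZero
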