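import Mathlib

/-!
# Rank factorisation from vanishing minors (helper50)

* `det_submatrix_mul_eq_zero`: the `(n+1)`-minors of a product `U W` with inner dimension `n` vanish.
* `exists_mul_eq_of_minors`: a matrix over a field all of whose `(n+1)`-minors vanish is a product `U W` with inner
  dimension `n` (skeleton decomposition).
-/

set_option autoImplicit false

namespace Groth.Agent.R2.H50.Skeleton

variable {K : Type*} [Field K] {m q : ℕ}

theorem det_submatrix_mul_eq_zero {n : ℕ} (U : Matrix (Fin m) (Fin n) K) (W : Matrix (Fin n) (Fin q) K)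
    (f : Fin (n + 1) → Fin m) (g : Fin (n + 1) → Fin q) : ((U * W).submatrix f g).det = 0 := by
  by_contra hne
  have h1 : (U * W).submatrix f g = U.submatrix f id * W.submatrix id g := by
    ext i j
    rw [Matrix.submatrix_apply, Matrix.mul_apply, Matrix.mul_apply]
    rfl
  have hunit : IsUnit ((U * W).submatrix f g) := (Matrix.isUnit_iff_isUnit_det _).2 (isUnit_iff_ne_zero.2 hne)
  have h2 := Matrix.rank_of_isUnit _ hunit
  rw [Fintype.card_fin, h1] at h2
  have h3 := Matrix.rank_mul_le_left (U.submatrix f id) (W.submatrix id g)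
  have h4 := Matrix.rank_le_width (U.submatrix f id)
  omega

/-- the Schur complement identity for a bordered invertible minor with vanishing determinant -/
theorem entry_eq_of_bordered {k : ℕ} (Y : Matrix (Fin m) (Fin q) K) (f : Fin k → Fin m) (g : Fin k → Fin q)
    (hM : (Y.submatrix f g).det ≠ 0)
    (hvan : ∀ (f' : Fin (k + 1) → Fin m) (g' : Fin (k + 1) → Fin q), (Y.submatrix f' g').det = 0)
    (i : Fin m) (j : Fin q) :
    Y i j = ((Y.submatrix id g) * (Y.submatrix f g)⁻¹ * (Y.submatrix f id)) i j := by
  classical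
  set M := Y.submatrix f g with hMdef
  have hu : IsUnit M.det := isUnit_iff_ne_zero.2 hM
  haveI : Invertible M := Matrix.invertibleOfIsUnitDet M hu
  let B : Matrix (Fin k) (Fin 1) K := Y.submatrix f (fun _ => j)
  let C : Matrix (Fin 1) (Fin k) K := Y.submatrix (fun _ => i) g
  let D : Matrix (Fin 1) (Fin 1) K := Y.submatrix (fun _ => i) (fun _ => j)
  have hblock : Matrix.fromBlocks M B C D =
      Y.submatrix (Sum.elim f (fun _ : Fin 1 => i)) (Sum.elim g (fun _ : Fin 1 => j)) := by
    ext (a | a) (b | b) <;> rfl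
  have hdet0 : (Matrix.fromBlocks M B C D).det = 0 := by
    rw [hblock, ← Matrix.det_submatrix_equiv_self finSumFinEquiv.symm]
    exact hvan _ _
  rw [Matrix.det_fromBlocks₁₁] at hdet0
  have h1 : (D - C * ⅟M * B).det = 0 := (mul_eq_zero.1 hdet0).resolve_left hM
  rw [Matrix.det_fin_one] at h1
  rw [Matrix.sub_apply, sub_eq_zero] at h1
  have h2 : D 0 0 = Y i j := rfl
  rw [h2] at h1
  rw [h1, Matrix.invOf_eq_nonsing_inv]
  rw [Matrix.mul_apply, Matrix.mul_apply]
  refine Finset.sum_congr rfl fun b _ => ?_
  rw [Matrix.mul_apply, Matrix.mul_apply]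
  rfl

theorem exists_mul_eq_of_minors {n : ℕ} (Y : Matrix (Fin m) (Fin q) K)
    (hY : ∀ (f : Fin (n + 1) → Fin m) (g : Fin (n + 1) → Fin q), (Y.submatrix f g).det = 0) :
    ∃ (U : Matrix (Fin m) (Fin n) K) (W : Matrix (Fin n) (Fin q) K), Y = U * W := by
  classical
  let P : ℕ → Prop := fun k => ∃ (f : Fin k → Fin m) (g : Fin k → Fin q), (Y.submatrix f g).det ≠ 0
  have hP0 : P 0 := ⟨Fin.elim0, Fin.elim0, by simp⟩
  set k := Nat.findGreatest P n with hk
  have hPk : P k := Nat.findGreatest_spec (Nat.zero_le n) hP0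
  have hkn : k ≤ n := Nat.findGreatest_le n
  have hvan : ∀ (f' : Fin (k + 1) → Fin m) (g' : Fin (k + 1) → Fin q), (Y.submatrix f' g').det = 0 := by
    intro f' g'
    by_cases hlt : k < n
    · by_contra hne
      have : P (k + 1) := ⟨f', g', hne⟩
      exact Nat.findGreatest_is_greatest (Nat.lt_succ_self k) hlt this
    · have hkeq : k = n := by omega
      have key : ∀ (k' : ℕ) (hk' : k' = n) (f' : Fin (k' + 1) → Fin m) (g' : Fin (k' + 1) → Fin q),
          (Y.submatrix f' g').det = 0 := by
        rintro k' rfl f' g'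
        exact hY f' g'
      exact key k hkeq f' g'
  obtain ⟨f, g, hM⟩ := hPk
  -- the skeleton decomposition
  have hdecomp : Y = ((Y.submatrix id g) * (Y.submatrix f g)⁻¹) * (Y.submatrix f id) := by
    ext i j
    exact entry_eq_of_bordered Y f g hM hvan i j
  -- pad the inner dimension from `k` to `n`
  let e : Fin k → Fin n := Fin.castLE hkn
  have he : Function.Injective e := Fin.castLE_injective hkn
  let E : Matrix (Fin k) (Fin n) K := Matrix.of fun b c => if e b = c then 1 else 0
  have hE : E * E.transpose = 1 := by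
    ext b b'
    rw [Matrix.mul_apply, Matrix.one_apply]
    simp only [E, Matrix.transpose_apply, Matrix.of_apply]
    by_cases hbb : b = b'
    · subst hbb
      rw [if_pos rfl, Finset.sum_eq_single (e b)]
      · simp
      · intro c _ hc
        simp [Ne.symm hc]
      · intro h
        exact absurd (Finset.mem_univ _) h
    · rw [if_neg hbb]
      apply Finset.sum_eq_zero
      intro c _
      by_cases h1 : e b = c
      · have h2 : ¬ e b' = c := fun h2 => hbb (he (h1.trans h2.symm))
        simp [h1, h2]
      · simp [h1]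
  refine ⟨((Y.submatrix id g) * (Y.submatrix f g)⁻¹) * E, E.transpose * (Y.submatrix f id), ?_⟩
  rw [Matrix.mul_assoc, ← Matrix.mul_assoc E, hE, Matrix.one_mul]
  exact hdecomp

end Groth.Agent.R2.H50.Skeleton
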