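import Mathlib
import Groth.Prelude.Def_W4bk4grassmannianPl
import Groth.Prelude.Def_CAlgX
import Groth.Agent.R2.H50DetPoint
import Groth.Agent.R2.H50Skeleton

/-!
# The first fundamental theorem for `GL_n` acting on pairs of matrices (helper50)
-/

set_option autoImplicit false

universe u

noncomputable section

namespace Groth.Agent.R2.H50.GLFFT

open MvPolynomial W4bk4grassmannian

section Basic

variable (K : Type u) [Field K] (m n q : ℕ)

/-- the point `(U, W)` of `M_{m,n} × M_{n,q}` -/
def pp (U : Matrix (Fin m) (Fin n) K) (W : Matrix (Fin n) (Fin q) K) :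
    (Fin m × Fin n) ⊕ (Fin n × Fin q) → K :=
  Sum.elim (fun p => U p.1 p.2) (fun p => W p.1 p.2)

/-- the point `Y` of `M_{m,q}` -/
def pt (Y : Matrix (Fin m) (Fin q) K) : Fin m × Fin q → K := fun p => Y p.1 p.2

theorem eq_pp (x : (Fin m × Fin n) ⊕ (Fin n × Fin q) → K) :
    x = pp K m n q (Matrix.of fun i k => x (Sum.inl (i, k))) (Matrix.of fun k j => x (Sum.inr (k, j))) := by
  funext p
  rcases p with p | p <;> rfl

theorem eval_glTranslate (A : GL (Fin n) K) (U : Matrix (Fin m) (Fin n) K) (W : Matrix (Fin n) (Fin q) K)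
    (f : PairRing K n m q) :
    MvPolynomial.eval (pp K m n q U W) (glTranslate K n m q A f) =
      MvPolynomial.eval (pp K m n q (U * ((A⁻¹ : GL (Fin n) K) : Matrix (Fin n) (Fin n) K))
        ((A : Matrix (Fin n) (Fin n) K) * W)) f := by
  have h : (MvPolynomial.eval (pp K m n q U W)).comp (glTranslate K n m q A).toRingHom =
      MvPolynomial.eval (pp K m n q (U * ((A⁻¹ : GL (Fin n) K) : Matrix (Fin n) (Fin n) K))
        ((A : Matrix (Fin n) (Fin n) K) * W)) := by
    refine MvPolynomial.ringHom_ext (fun k => ?_) (fun p => ?_)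
    · simp
    · simp only [RingHom.comp_apply, AlgHom.toRingHom_eq_coe, RingHom.coe_coe, eval_X]
      unfold glTranslate
      rw [aeval_X]
      rcases p with p | p
      · simp only [Sum.elim_inl, map_sum, map_mul, eval_X, eval_C, pp, Matrix.mul_apply]
      · simp only [Sum.elim_inr, map_sum, map_mul, eval_X, eval_C, pp, Matrix.mul_apply]
  exact RingHom.congr_fun h f

theorem eval_pairingMap (U : Matrix (Fin m) (Fin n) K) (W : Matrix (Fin n) (Fin q) K)
    (h : MvPolynomial (Fin m × Fin q) K) :
    MvPolynomial.eval (pp K m n q U W) (pairingMap K n m q h) = MvPolynomial.eval (pt K m q (U * W)) h := by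
  have hh : (MvPolynomial.eval (pp K m n q U W)).comp (pairingMap K n m q).toRingHom =
      MvPolynomial.eval (pt K m q (U * W)) := by
    refine MvPolynomial.ringHom_ext (fun c => ?_) (fun p => ?_)
    · simp
    · simp only [RingHom.comp_apply, AlgHom.toRingHom_eq_coe, RingHom.coe_coe, eval_X]
      unfold pairingMap
      rw [aeval_X, map_sum]
      simp only [map_mul, eval_X, pp, pt, Sum.elim_inl, Sum.elim_inr, Matrix.mul_apply]
  exact RingHom.congr_fun hh h

theorem eval_genMinor {t : ℕ} (Y : Matrix (Fin m) (Fin q) K) (f : Fin t → Fin m) (g : Fin t → Fin q) :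
    MvPolynomial.eval (pt K m q Y) ((genMatrix K m q).submatrix f g).det = (Y.submatrix f g).det := by
  rw [RingHom.map_det]
  congr 1
  ext a b
  simp [genMatrix, pt]

end Basic

section Slice

variable (K : Type u) [Field K] (m n q : ℕ) (f : Fin n → Fin m) (g : Fin n → Fin q)

theorem genMatrix_map (Y : Matrix (Fin m) (Fin q) K) :
    (genMatrix K m q).map (MvPolynomial.eval (pt K m q Y)) = Y := by
  ext i j
  simp [genMatrix, pt]

/-- the slice comorphism: `U ↦ s Y_{·,g} adj(Y_{f,g})`, `W ↦ Y_{f,·}` -/
def xi : PairRing K n m q →ₐ[K] Polynomial (MvPolynomial (Fin m × Fin q) K) :=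
  aeval (Sum.elim
    (fun p : Fin m × Fin n => Polynomial.X * Polynomial.C
      (((genMatrix K m q).submatrix id g * ((genMatrix K m q).submatrix f g).adjugate) p.1 p.2))
    (fun p : Fin n × Fin q => Polynomial.C (genMatrix K m q (f p.1) p.2)))

theorem eval₂_xi (Y : Matrix (Fin m) (Fin q) K) (c : K) (F : PairRing K n m q) :
    Polynomial.eval₂ (MvPolynomial.eval (pt K m q Y)) c (xi K m n q f g F) =
      MvPolynomial.eval (pp K m n q (c • (Y.submatrix id g * (Y.submatrix f g).adjugate))
        (Y.submatrix f id)) F := by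
  have h : (Polynomial.eval₂RingHom (MvPolynomial.eval (pt K m q Y)) c).comp (xi K m n q f g).toRingHom =
      MvPolynomial.eval (pp K m n q (c • (Y.submatrix id g * (Y.submatrix f g).adjugate))
        (Y.submatrix f id)) := by
    refine MvPolynomial.ringHom_ext (fun k => ?_) (fun p => ?_)
    · simp only [AlgHom.toRingHom_eq_coe, RingHom.coe_coe, RingHom.comp_apply, MvPolynomial.algHom_C]
      rw [Polynomial.algebraMap_apply, Polynomial.coe_eval₂RingHom, Polynomial.eval₂_C]
      show MvPolynomial.eval (pt K m q Y) (C k) = _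
      rw [eval_C, eval_C]
    · simp only [AlgHom.toRingHom_eq_coe, RingHom.coe_coe, RingHom.comp_apply, eval_X]
      unfold xi
      rw [aeval_X]
      rcases p with p | p
      · simp only [Sum.elim_inl, Polynomial.coe_eval₂RingHom, Polynomial.eval₂_mul, Polynomial.eval₂_X,
          Polynomial.eval₂_C, pp, Matrix.smul_apply, smul_eq_mul]
        congr 1
        have h1 : MvPolynomial.eval (pt K m q Y)
            (((genMatrix K m q).submatrix id g * ((genMatrix K m q).submatrix f g).adjugate) p.1 p.2) =
            (((genMatrix K m q).submatrix id g * ((genMatrix K m q).submatrix f g).adjugate).map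
              (MvPolynomial.eval (pt K m q Y))) p.1 p.2 := rfl
        rw [h1, Matrix.map_mul]
        have h2 : ((genMatrix K m q).submatrix id g).map (MvPolynomial.eval (pt K m q Y)) =
            Y.submatrix id g := by
          rw [← Matrix.submatrix_map, genMatrix_map]
        have h3 : (((genMatrix K m q).submatrix f g).adjugate).map (MvPolynomial.eval (pt K m q Y)) =
            (Y.submatrix f g).adjugate := by
          rw [← RingHom.mapMatrix_apply, RingHom.map_adjugate, RingHom.mapMatrix_apply, ← Matrix.submatrix_map,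
            genMatrix_map]
        rw [h2, h3]
      · simp only [Sum.elim_inr, Polynomial.coe_eval₂RingHom, Polynomial.eval₂_C, pp, Matrix.submatrix_apply, id]
        simp [genMatrix, pt]
  exact RingHom.congr_fun h F

/-- the value of an invariant at `(U, W)` in terms of the product `U W`, on the slice. -/
theorem eval_eq_eval₂_xi (F : PairRing K n m q) (hF : ∀ A : GL (Fin n) K, glTranslate K n m q A F = F)
    (U : Matrix (Fin m) (Fin n) K) (W : Matrix (Fin n) (Fin q) K)
    (hc : ((U * W).submatrix f g).det ≠ 0) :
    MvPolynomial.eval (pp K m n q U W) F =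
      Polynomial.eval₂ (MvPolynomial.eval (pt K m q (U * W))) (((U * W).submatrix f g).det)⁻¹
        (xi K m n q f g F) := by
  classical
  set Uf := U.submatrix f id with hUf
  set Wg := W.submatrix id g with hWg
  have hM : (U * W).submatrix f g = Uf * Wg := by
    ext i j
    rw [Matrix.submatrix_apply, Matrix.mul_apply, Matrix.mul_apply]
    rfl
  have hdet : ((U * W).submatrix f g).det = Uf.det * Wg.det := by rw [hM, Matrix.det_mul]
  have hUf0 : Uf.det ≠ 0 := fun h => hc (by rw [hdet, h, zero_mul])
  have hWg0 : Wg.det ≠ 0 := fun h => hc (by rw [hdet, h, mul_zero])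
  have hUfu : IsUnit Uf.det := isUnit_iff_ne_zero.2 hUf0
  have hWgu : IsUnit Wg.det := isUnit_iff_ne_zero.2 hWg0
  let A : GL (Fin n) K := Matrix.GeneralLinearGroup.mkOfDetNeZero Uf hUf0
  have hA : (A : Matrix (Fin n) (Fin n) K) = Uf := rfl
  have hAinv : ((A⁻¹ : GL (Fin n) K) : Matrix (Fin n) (Fin n) K) = Uf⁻¹ := by
    rw [Matrix.coe_units_inv, hA]
  rw [eval₂_xi]
  conv_lhs => rw [← hF A]
  rw [eval_glTranslate, hA, hAinv]
  have e1 : U * Uf⁻¹ = (((U * W).submatrix f g).det)⁻¹ •
      ((U * W).submatrix id g * ((U * W).submatrix f g).adjugate) := by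
    have h1 : (U * W).submatrix id g = U * Wg := by
      ext i j
      rw [Matrix.submatrix_apply, Matrix.mul_apply, Matrix.mul_apply]
      rfl
    have h2 : Uf⁻¹ = Uf.det⁻¹ • Uf.adjugate := by
      rw [Matrix.inv_def, Ring.inverse_eq_inv']
    have h3 : U * Wg * (Wg.adjugate * Uf.adjugate) = Wg.det • (U * Uf.adjugate) := by
      rw [← Matrix.mul_assoc, Matrix.mul_assoc U, Matrix.mul_adjugate, Matrix.mul_smul, Matrix.mul_one,
        Matrix.smul_mul]
    rw [h1, hM, Matrix.adjugate_mul_distrib, h3, smul_smul, h2, Matrix.mul_smul, Matrix.det_mul]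
    congr 1
    field_simp
  have e2 : Uf * W = (U * W).submatrix f id := by
    ext i j
    rw [Matrix.submatrix_apply, Matrix.mul_apply, Matrix.mul_apply]
    rfl
  rw [e1, e2]

/-- clearing denominators in a polynomial evaluated at an inverse -/
theorem pow_mul_eval₂_inv {R : Type*} [CommRing R] (φ : R →+* K) (P : Polynomial R) (δ : R) (hc : φ δ ≠ 0)
    (N : ℕ) (hN : P.natDegree ≤ N) :
    φ δ ^ N * Polynomial.eval₂ φ (φ δ)⁻¹ P =
      φ (∑ i ∈ Finset.range (N + 1), P.coeff i * δ ^ (N - i)) := by
  rw [Polynomial.eval₂_eq_sum_range' φ (Nat.lt_succ_of_le hN), Finset.mul_sum, map_sum]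
  refine Finset.sum_congr rfl fun i hi => ?_
  have hi' : i ≤ N := Nat.lt_succ_iff.1 (Finset.mem_range.1 hi)
  rw [map_mul, map_pow, inv_pow]
  have h1 : φ δ ^ N = φ δ ^ (N - i) * φ δ ^ i := by rw [← pow_add, Nat.sub_add_cancel hi']
  have h2 : φ δ ^ i ≠ 0 := pow_ne_zero _ hc
  rw [h1]
  field_simp

/-- the chosen minor of the product is a nonzero polynomial. -/
theorem pairingMap_minor_ne_zero (hf : Function.Injective f) (hg : Function.Injective g) :
    pairingMap K n m q ((genMatrix K m q).submatrix f g).det ≠ 0 := by
  classical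
  intro h0
  let U₀ : Matrix (Fin m) (Fin n) K := Matrix.of fun i k => if i = f k then 1 else 0
  let W₀ : Matrix (Fin n) (Fin q) K := Matrix.of fun k j => if j = g k then 1 else 0
  have h1 := eval_pairingMap K m n q U₀ W₀ ((genMatrix K m q).submatrix f g).det
  rw [h0, map_zero, eval_genMinor] at h1
  have h2 : (U₀ * W₀).submatrix f g = 1 := by
    ext a b
    rw [Matrix.submatrix_apply, Matrix.mul_apply, Matrix.one_apply]
    simp only [U₀, W₀, Matrix.of_apply]
    rw [Finset.sum_eq_single a]
    · by_cases hab : a = b
      · subst hab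
        simp
      · have : ¬ g b = g a := fun h => hab (hg h).symm
        simp [hab, this]
    · intro k _ hk
      have : ¬ f a = f k := fun h => hk (hf h).symm
      simp [this]
    · intro h
      exact absurd (Finset.mem_univ _) h
  rw [h2, Matrix.det_one] at h1
  exact zero_ne_one h1

/-- an invariant becomes a polynomial in the entries of the product after multiplication by a power of the minor. -/
theorem exists_pow_mul_eq [Infinite K] (hf : Function.Injective f) (hg : Function.Injective g)
    (F : PairRing K n m q) (hF : ∀ A : GL (Fin n) K, glTranslate K n m q A F = F) :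
    ∃ (N : ℕ) (h : MvPolynomial (Fin m × Fin q) K),
      F * pairingMap K n m q ((genMatrix K m q).submatrix f g).det ^ N = pairingMap K n m q h := by
  set δ' := ((genMatrix K m q).submatrix f g).det with hδ'
  set P := xi K m n q f g F with hP
  refine ⟨P.natDegree, ∑ i ∈ Finset.range (P.natDegree + 1), P.coeff i * δ' ^ (P.natDegree - i), ?_⟩
  apply mul_left_cancel₀ (pairingMap_minor_ne_zero K m n q f g hf hg)
  apply MvPolynomial.funext
  intro x
  rw [eq_pp K m n q x]
  set U : Matrix (Fin m) (Fin n) K := Matrix.of fun i k => x (Sum.inl (i, k)) with hU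
  set W : Matrix (Fin n) (Fin q) K := Matrix.of fun k j => x (Sum.inr (k, j)) with hW
  rw [map_mul, map_mul, map_mul, map_pow, eval_pairingMap, eval_pairingMap, eval_genMinor]
  by_cases hc : ((U * W).submatrix f g).det = 0
  · rw [hc, zero_mul, zero_mul]
  · congr 1
    rw [eval_eq_eval₂_xi K m n q f g F hF U W hc, mul_comm]
    have h1 := pow_mul_eval₂_inv K (MvPolynomial.eval (pt K m q (U * W))) P δ'
      (by rw [hδ', eval_genMinor]; exact hc) P.natDegree le_rfl
    rw [hδ', eval_genMinor] at h1
    exact h1

end Slice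

section Induct

open Groth.Agent.R2.H50.DetIdx Groth.Agent.R2.H50.DetPoint

variable (K : Type u) [Field K] (m n q : ℕ)

/-- the last `n` rows -/
def rowsB (h : n ≤ m) : Fin n → Fin m := fun i => ⟨m - n + i.val, by have := i.isLt; omega⟩

/-- the first `n` columns -/
def colsL (h : n ≤ q) : Fin n → Fin q := fun j => ⟨j.val, by have := j.isLt; omega⟩

theorem rowsB_injective (h : n ≤ m) : Function.Injective (rowsB m n h) := by
  intro a b hab
  have := congrArg Fin.val hab
  simp only [rowsB] at this
  exact Fin.ext (by omega)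

theorem colsL_injective (h : n ≤ q) : Function.Injective (colsL n q h) := by
  intro a b hab
  have := congrArg Fin.val hab
  simp only [colsL] at this
  exact Fin.ext this

/-- the corner minor is, up to sign, the top Plücker coordinate of the determinantal Schubert variety. -/
theorem minor_eq_cellMinor (hnm : n < m) (hnq : n < q) :
    ∃ e : ℕ, ((genMatrix K m q).submatrix (rowsB m n (le_of_lt hnm)) (colsL n q (le_of_lt hnq))).det =
      (-1) ^ e * cellMinor K q m (detIdx q m (n + 1) (Nat.succ_pos n) hnm) := by
  refine det_submatrix_eq_cellMinor K q m _ _ (rowsB_injective m n _) (colsL_injective n q _) _ ?_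
  intro s
  by_cases h : s.val + (n + 1) ≤ q
  · left
    refine ⟨⟨n + s.val, by omega⟩, ?_, ?_⟩
    · rintro ⟨j, hj⟩
      have := congrArg Fin.val hj
      simp only [colsL] at this
      have := j.isLt
      omega
    · apply Fin.ext
      simp only [detIdx, h, dif_pos, Fin.val_castAdd]
      omega
  · right
    have hs := s.isLt
    refine ⟨⟨s.val - (q - n), by omega⟩, ?_⟩
    apply Fin.ext
    simp only [detIdx, h, dif_neg, not_false_eq_true, Fin.val_natAdd, rowsB]
    omega

theorem mem_range_of_pow_mul [IsAlgClosed K] (hn : 0 < n) (hnm : n < m) (hnq : n < q) :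
    ∀ (k : ℕ) (h : MvPolynomial (Fin m × Fin q) K) (F : PairRing K n m q),
      F * pairingMap K n m q
        ((genMatrix K m q).submatrix (rowsB m n (le_of_lt hnm)) (colsL n q (le_of_lt hnq))).det ^ k =
        pairingMap K n m q h → F ∈ (pairingMap K n m q).range := by
  haveI : Infinite K := IsAlgClosed.instInfinite
  obtain ⟨e, he⟩ := minor_eq_cellMinor K m n q hnm hnq
  set δ' := ((genMatrix K m q).submatrix (rowsB m n (le_of_lt hnm)) (colsL n q (le_of_lt hnq))).det with hδ'
  have hq : 0 < q := by omega
  have hm : 0 < m := by omega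
  intro k
  induction k with
  | zero =>
    intro h F hF
    rw [pow_zero, mul_one] at hF
    exact ⟨h, hF.symm⟩
  | succ k ih =>
    intro h F hF
    -- `h` vanishes on the determinantal variety where the corner minor vanishes
    have hmem : h ∈ CAlgX.minorIdeal (genMatrix K m q) (n + 1) ⊔
        Ideal.span {cellMinor K q m (detIdx q m (n + 1) (Nat.succ_pos n) hnm)} := by
      refine mem_sup_span_of_forall_eval K q m hq hm (by omega) hnq hnm h ?_
      intro z hz hz0
      have hminors : ∀ (f' : Fin (n + 1) → Fin m) (g' : Fin (n + 1) → Fin q),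
          ((Matrix.of fun i j => z (i, j) : Matrix (Fin m) (Fin q) K).submatrix f' g').det = 0 := by
        intro f' g'
        have := hz _ (Ideal.subset_span ⟨(f', g'), rfl⟩)
        rwa [show z = pt K m q (Matrix.of fun i j => z (i, j)) from rfl, eval_genMinor] at this
      obtain ⟨U, W, hUW⟩ := Groth.Agent.R2.H50.Skeleton.exists_mul_eq_of_minors _ hminors
      have h1 := eval_pairingMap K m n q U W h
      rw [← hF, map_mul, map_pow, eval_pairingMap, ← hUW] at h1
      have hz' : z = pt K m q (Matrix.of fun i j => z (i, j)) := rfl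
      rw [← hz'] at h1
      have h2 : MvPolynomial.eval z δ' = 0 := by
        rw [he, map_mul, hz0, mul_zero]
      rw [h2, zero_pow (Nat.succ_ne_zero k), mul_zero] at h1
      exact h1.symm
    obtain ⟨h₀, hh₀, G, hG, hsum⟩ := Submodule.mem_sup.1 hmem
    obtain ⟨c, rfl⟩ := Ideal.mem_span_singleton'.1 hG
    -- the part in the ideal of minors dies
    have hh₀' : pairingMap K n m q h₀ = 0 := by
      have hle : CAlgX.minorIdeal (genMatrix K m q) (n + 1) ≤ RingHom.ker (pairingMap K n m q).toRingHom := by
        unfold CAlgX.minorIdeal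
        rw [Ideal.span_le]
        rintro _ ⟨⟨f', g'⟩, rfl⟩
        rw [SetLike.mem_coe, RingHom.mem_ker]
        show pairingMap K n m q _ = 0
        apply MvPolynomial.funext
        intro x
        rw [eq_pp K m n q x, map_zero, eval_pairingMap, eval_genMinor]
        exact Groth.Agent.R2.H50.Skeleton.det_submatrix_mul_eq_zero _ _ f' g'
      exact hle hh₀
    have hq' : cellMinor K q m (detIdx q m (n + 1) (Nat.succ_pos n) hnm) = (-1) ^ e * δ' := by
      rw [he, ← mul_assoc, ← pow_add, ← two_mul, pow_mul]
      simp
    have h3 : pairingMap K n m q h = pairingMap K n m q (c * (-1) ^ e) * pairingMap K n m q δ' := by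
      rw [← hsum, map_add, hh₀', zero_add, hq', ← map_mul]
      congr 1
      ring
    apply ih (c * (-1) ^ e) F
    apply mul_right_cancel₀ (pairingMap_minor_ne_zero K m n q _ _ (rowsB_injective m n _) (colsL_injective n q _))
    rw [mul_assoc, ← pow_succ, hF, h3]

/-- the first fundamental theorem for `GL_n` when `0 < n < min(m, q)`. -/
theorem fft_of_lt [IsAlgClosed K] (hn : 0 < n) (hnm : n < m) (hnq : n < q) (F : PairRing K n m q)
    (hF : ∀ A : GL (Fin n) K, glTranslate K n m q A F = F) : F ∈ (pairingMap K n m q).range := by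
  haveI : Infinite K := IsAlgClosed.instInfinite
  obtain ⟨N, h, hh⟩ := exists_pow_mul_eq K m n q _ _ (rowsB_injective m n (le_of_lt hnm))
    (colsL_injective n q (le_of_lt hnq)) F hF
  exact mem_range_of_pow_mul K m n q hn hnm hnq N h F hh

end Induct

section Reduce

variable (K : Type u) [Field K] (m n q m' q' : ℕ) (hm : m ≤ m') (hq : q ≤ q')

/-- extension by ignoring the extra rows of `U` and columns of `W` -/
def extend : PairRing K n m q →ₐ[K] PairRing K n m' q' :=
  MvPolynomial.rename (Sum.map (Prod.map (Fin.castLE hm) id) (Prod.map id (Fin.castLE hq)))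

/-- restriction: the extra rows of `U` and columns of `W` are set to zero -/
def restrict : PairRing K n m' q' →ₐ[K] PairRing K n m q :=
  aeval (Sum.elim
    (fun p : Fin m' × Fin n => if h : p.1.val < m then X (Sum.inl (⟨p.1.val, h⟩, p.2)) else 0)
    (fun p : Fin n × Fin q' => if h : p.2.val < q then X (Sum.inr (p.1, ⟨p.2.val, h⟩)) else 0))

/-- restriction of the product matrix -/
def restrictY : MvPolynomial (Fin m' × Fin q') K →ₐ[K] MvPolynomial (Fin m × Fin q) K :=
  aeval fun p : Fin m' × Fin q' =>
    if h : p.1.val < m ∧ p.2.val < q then X ((⟨p.1.val, h.1⟩ : Fin m), (⟨p.2.val, h.2⟩ : Fin q)) else 0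

theorem restrict_extend (F : PairRing K n m q) :
    restrict K m n q m' q' (extend K m n q m' q' hm hq F) = F := by
  have h : (restrict K m n q m' q').comp (extend K m n q m' q' hm hq) = AlgHom.id K _ := by
    apply MvPolynomial.algHom_ext
    intro p
    rcases p with ⟨i, k⟩ | ⟨k, j⟩
    · simp only [AlgHom.comp_apply, extend, rename_X, Sum.map_inl, Prod.map_apply, id, restrict, aeval_X,
        Sum.elim_inl, Fin.val_castLE, AlgHom.id_apply]
      rw [dif_pos i.isLt]
    · simp only [AlgHom.comp_apply, extend, rename_X, Sum.map_inr, Prod.map_apply, id, restrict, aeval_X,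
        Sum.elim_inr, Fin.val_castLE, AlgHom.id_apply]
      rw [dif_pos j.isLt]
  exact AlgHom.congr_fun h F

theorem glTranslate_extend (A : GL (Fin n) K) (F : PairRing K n m q) :
    glTranslate K n m' q' A (extend K m n q m' q' hm hq F) =
      extend K m n q m' q' hm hq (glTranslate K n m q A F) := by
  have h : (glTranslate K n m' q' A).comp (extend K m n q m' q' hm hq) =
      (extend K m n q m' q' hm hq).comp (glTranslate K n m q A) := by
    apply MvPolynomial.algHom_ext
    intro p
    rcases p with ⟨i, k⟩ | ⟨k, j⟩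
    · simp only [AlgHom.comp_apply, extend, rename_X, Sum.map_inl, Prod.map_apply, id, glTranslate, aeval_X,
        Sum.elim_inl, map_sum, map_mul, rename_C]
    · simp only [AlgHom.comp_apply, extend, rename_X, Sum.map_inr, Prod.map_apply, id, glTranslate, aeval_X,
        Sum.elim_inr, map_sum, map_mul, rename_C]
  exact AlgHom.congr_fun h F

theorem restrict_pairingMap (h : MvPolynomial (Fin m' × Fin q') K) :
    restrict K m n q m' q' (pairingMap K n m' q' h) = pairingMap K n m q (restrictY K m q m' q' h) := by
  have hh : (restrict K m n q m' q').comp (pairingMap K n m' q') =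
      (pairingMap K n m q).comp (restrictY K m q m' q') := by
    apply MvPolynomial.algHom_ext
    rintro ⟨i, j⟩
    simp only [AlgHom.comp_apply, pairingMap, aeval_X, map_sum, map_mul, restrict, Sum.elim_inl, Sum.elim_inr,
      restrictY]
    by_cases hi : i.val < m
    · by_cases hj : j.val < q
      · simp only [hi, hj, dif_pos, and_self, aeval_X]
      · simp only [hi, hj, dif_pos, dif_neg, not_false_eq_true, and_false, mul_zero, Finset.sum_const_zero,
          map_zero]
    · simp only [hi, dif_neg, not_false_eq_true, false_and, zero_mul, Finset.sum_const_zero, map_zero]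
  exact AlgHom.congr_fun hh h

include hm hq in
/-- the first fundamental theorem passes to smaller outer dimensions. -/
theorem fft_reduce
    (H : ∀ F' : PairRing K n m' q', (∀ A : GL (Fin n) K, glTranslate K n m' q' A F' = F') →
      F' ∈ (pairingMap K n m' q').range)
    (F : PairRing K n m q) (hF : ∀ A : GL (Fin n) K, glTranslate K n m q A F = F) :
    F ∈ (pairingMap K n m q).range := by
  have h1 : ∀ A : GL (Fin n) K, glTranslate K n m' q' A (extend K m n q m' q' hm hq F) =
      extend K m n q m' q' hm hq F := by
    intro A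
    rw [glTranslate_extend, hF A]
  obtain ⟨h', hh'⟩ := H _ h1
  refine ⟨restrictY K m q m' q' h', ?_⟩
  have := restrict_pairingMap K m n q m' q' h'
  rw [show (pairingMap K n m' q') h' = _ from hh', restrict_extend] at this
  exact this.symm

end Reduce

section Final

variable (K : Type u) [Field K] [IsAlgClosed K] (m n q : ℕ)

/-- the first fundamental theorem for `GL_n`: invariants are polynomials in the entries of the product. -/
theorem fft (F : PairRing K n m q) (hF : ∀ A : GL (Fin n) K, glTranslate K n m q A F = F) :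
    F ∈ (pairingMap K n m q).range := by
  rcases Nat.eq_zero_or_pos n with hn | hn
  · subst hn
    haveI : IsEmpty ((Fin m × Fin 0) ⊕ (Fin 0 × Fin q)) := by
      constructor
      rintro (⟨_, k⟩ | ⟨k, _⟩) <;> exact k.elim0
    obtain ⟨c, rfl⟩ : ∃ c : K, F = C c := ⟨_, MvPolynomial.eq_C_of_isEmpty F⟩
    exact ⟨C c, by
      show pairingMap K 0 m q (C c) = C c
      rw [MvPolynomial.algHom_C]
      rfl⟩
  · refine fft_reduce K m n q (max m (n + 1)) (max q (n + 1)) (le_max_left _ _) (le_max_left _ _) ?_ F hF
    intro F' hF'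
    exact fft_of_lt K _ n _ hn (lt_of_lt_of_le (Nat.lt_succ_self n) (le_max_right _ _))
      (lt_of_lt_of_le (Nat.lt_succ_self n) (le_max_right _ _)) F' hF'

/-- polynomials in the entries of the product are invariant. -/
theorem invariant_of_mem_range (F : PairRing K n m q) (hF : F ∈ (pairingMap K n m q).range)
    (A : GL (Fin n) K) : glTranslate K n m q A F = F := by
  haveI : Infinite K := IsAlgClosed.instInfinite
  obtain ⟨h, rfl⟩ := hF
  apply MvPolynomial.funext
  intro x
  rw [eq_pp K m n q x, eval_glTranslate]
  show MvPolynomial.eval _ (pairingMap K n m q h) = MvPolynomial.eval _ (pairingMap K n m q h)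
  rw [eval_pairingMap, eval_pairingMap]
  congr 2
  rw [Matrix.mul_assoc, ← Matrix.mul_assoc _ (A : Matrix (Fin n) (Fin n) K), ← Matrix.GeneralLinearGroup.coe_mul,
    inv_mul_cancel, Matrix.GeneralLinearGroup.coe_one, Matrix.one_mul]

end Final

end Groth.Agent.R2.H50.GLFFT
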