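import Mathlib
import Groth.Agent.Lib.Helper28FGDim
import Groth.Agent.Lib.Helper4DimFormulaF
import Groth.Agent.R2.H50CM

/-!
# Dimension at the irrelevant ideal of a graded algebra over a field (helper50)

`A` a Noetherian `ℕ`-graded `K`-algebra with `A_0 = K`, `I` a proper homogeneous ideal.  Then the irrelevant ideal `A_+` is
maximal, contains `I`, and the height of `A_+/I` in `A/I` is the Krull dimension of `A/I`.
-/

set_option autoImplicit false

universe u v

open DirectSum

namespace Groth.Agent.R2.H50.GradedDim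

section FT

variable {R : Type u} {A : Type v} [CommRing R] [CommRing A] [Algebra R A]
    (𝒜 : ℕ → Submodule R A) [GradedAlgebra 𝒜]

/-- If all graded pieces lie in a subalgebra (over `𝒜 0`), then it is everything. -/
theorem subalgebra_eq_top_of_forall_le (B : Subalgebra (𝒜 0) A)
    (h : ∀ n, ∀ x ∈ 𝒜 n, x ∈ B) : B = ⊤ := by
  classical
  rw [eq_top_iff]
  rintro x -
  rw [← DirectSum.sum_support_decompose 𝒜 x]
  exact Subalgebra.sum_mem _ fun i _ => h i _ (SetLike.coe_mem _)

theorem adjoin_eq_top_of_irrelevant_eq_span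
    (E : Set A) (hE : ∀ e ∈ E, ∃ d : ℕ, 0 < d ∧ e ∈ 𝒜 d)
    (h : (HomogeneousIdeal.irrelevant 𝒜).toIdeal = Ideal.span E) :
    Algebra.adjoin (𝒜 0) E = ⊤ := by
  classical
  apply subalgebra_eq_top_of_forall_le
  intro n
  induction n using Nat.strong_induction_on with
  | _ n ih =>
    intro x hx
    rcases Nat.eq_zero_or_pos n with rfl | hn
    · exact Subalgebra.algebraMap_mem _ (⟨x, hx⟩ : 𝒜 0)
    · have hxI : x ∈ Ideal.span E := by
        rw [← h]; exact HomogeneousIdeal.mem_irrelevant_of_mem _ hn hx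
      have key : ∀ y ∈ Ideal.span E, ∀ a : A,
          (DirectSum.decompose 𝒜 (a * y) n : A) ∈ Algebra.adjoin (𝒜 0) E := by
        intro y hy
        induction hy using Submodule.span_induction with
        | mem e he =>
          intro a
          obtain ⟨d, hd, hed⟩ := hE e he
          rw [DirectSum.coe_decompose_mul_of_right_mem 𝒜 n hed]
          split_ifs with hdn
          · exact Subalgebra.mul_mem _ (ih (n - d) (by omega) _ (SetLike.coe_mem _))
              (Algebra.subset_adjoin he)
          · exact Subalgebra.zero_mem _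
        | zero => intro a; simp [Subalgebra.zero_mem]
        | add y z _ _ hy hz =>
          intro a
          rw [mul_add, DirectSum.decompose_add, DirectSum.add_apply, Submodule.coe_add]
          exact Subalgebra.add_mem _ (hy a) (hz a)
        | smul b y _ hy =>
          intro a
          rw [smul_eq_mul, ← mul_assoc]
          exact hy (a * b)
      have := key x hxI 1
      rwa [one_mul, DirectSum.decompose_of_mem_same 𝒜 hx] at this

theorem finiteType_of_irrelevant_fg (hfg : (HomogeneousIdeal.irrelevant 𝒜).toIdeal.FG) :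
    Algebra.FiniteType (𝒜 0) A := by
  classical
  obtain ⟨T, hT⟩ := hfg
  let E : Finset A := T.biUnion fun t =>
    ((DirectSum.decompose 𝒜 t).support.filter (0 < ·)).image
      fun i => (DirectSum.decompose 𝒜 t i : A)
  have hE : ∀ e ∈ (E : Set A), ∃ d : ℕ, 0 < d ∧ e ∈ 𝒜 d := by
    intro e he
    simp only [E, Finset.coe_biUnion, Set.mem_iUnion, Finset.coe_image, Set.mem_image,
      Finset.mem_coe, Finset.mem_filter] at he
    obtain ⟨t, _, i, ⟨_, hi⟩, rfl⟩ := he
    exact ⟨i, hi, SetLike.coe_mem _⟩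
  have hspan : (HomogeneousIdeal.irrelevant 𝒜).toIdeal = Ideal.span (E : Set A) := by
    apply le_antisymm
    · rw [← hT, Ideal.span_le]
      intro t ht
      have ht0 : (DirectSum.decompose 𝒜 t 0 : A) = 0 := by
        have : t ∈ (HomogeneousIdeal.irrelevant 𝒜).toIdeal := by
          rw [← hT]; exact Ideal.subset_span ht
        exact this
      rw [← DirectSum.sum_support_decompose 𝒜 t]
      refine Ideal.sum_mem _ fun i hi => Ideal.subset_span ?_
      have hi0 : 0 < i := by
        rcases Nat.eq_zero_or_pos i with rfl | h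
        · exfalso
          have h1 : DirectSum.decompose 𝒜 t 0 ≠ 0 := DFinsupp.mem_support_iff.mp hi
          exact h1 (Subtype.ext ht0)
        · exact h
      simp only [E, Finset.coe_biUnion, Set.mem_iUnion, Finset.coe_image, Set.mem_image,
        Finset.mem_coe, Finset.mem_filter]
      exact ⟨t, ht, i, ⟨hi, hi0⟩, rfl⟩
    · rw [Ideal.span_le]
      intro e he
      obtain ⟨d, hd, hed⟩ := hE e he
      exact HomogeneousIdeal.mem_irrelevant_of_mem _ hd hed
  exact ⟨⟨E, adjoin_eq_top_of_irrelevant_eq_span 𝒜 _ hE hspan⟩⟩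

end FT

section Field

variable {K : Type u} [Field K] {A : Type v} [CommRing A] [Algebra K A] (𝒜 : ℕ → Submodule K A) [GradedAlgebra 𝒜]
  (h0 : ∀ a ∈ 𝒜 0, ∃ c : K, algebraMap K A c = a)

include h0

theorem le_irrelevant_of_ne_top (I : Ideal A) (hI : I.IsHomogeneous 𝒜) (hne : I ≠ ⊤) :
    I ≤ (HomogeneousIdeal.irrelevant 𝒜).toIdeal := by
  intro a ha
  show (DirectSum.decompose 𝒜 a 0 : A) = 0
  by_contra hne0
  apply hne
  have h1 : (DirectSum.decompose 𝒜 a 0 : A) ∈ I := hI 0 ha
  obtain ⟨c, hc⟩ := h0 _ (SetLike.coe_mem (DirectSum.decompose 𝒜 a 0))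
  have hc0 : c ≠ 0 := by
    rintro rfl
    rw [map_zero] at hc
    exact hne0 hc.symm
  rw [Ideal.eq_top_iff_one]
  have : (1 : A) = algebraMap K A c⁻¹ * (DirectSum.decompose 𝒜 a 0 : A) := by
    rw [← hc, ← map_mul, inv_mul_cancel₀ hc0, map_one]
  rw [this]
  exact I.mul_mem_left _ h1

theorem irrelevant_isMaximal [Nontrivial A] : (HomogeneousIdeal.irrelevant 𝒜).toIdeal.IsMaximal := by
  rw [Ideal.isMaximal_iff]
  refine ⟨?_, ?_⟩
  · intro h
    have h1 : (DirectSum.decompose 𝒜 (1 : A) 0 : A) = 0 := h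
    rw [DirectSum.decompose_of_mem_same 𝒜 SetLike.GradedOne.one_mem] at h1
    exact one_ne_zero h1
  · intro J x hJ hx hxJ
    set x0 : A := (DirectSum.decompose 𝒜 x 0 : A) with hx0def
    have hx0 : x0 ≠ 0 := fun h => hx h
    obtain ⟨c, hc⟩ := h0 x0 (SetLike.coe_mem _)
    have hc0 : c ≠ 0 := by
      rintro rfl
      rw [map_zero] at hc
      exact hx0 hc.symm
    have hsub : x - x0 ∈ (HomogeneousIdeal.irrelevant 𝒜).toIdeal := by
      show (DirectSum.decompose 𝒜 (x - x0) 0 : A) = 0
      rw [DirectSum.decompose_sub, DirectSum.sub_apply, AddSubgroupClass.coe_sub,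
        DirectSum.decompose_of_mem_same 𝒜 (SetLike.coe_mem (DirectSum.decompose 𝒜 x 0)), sub_self]
    have hx0J : x0 ∈ J := by
      have := J.sub_mem hxJ (hJ hsub)
      rwa [sub_sub_cancel] at this
    have : (1 : A) = algebraMap K A c⁻¹ * x0 := by
      rw [← hc, ← map_mul, inv_mul_cancel₀ hc0, map_one]
    rw [this]
    exact J.mul_mem_left _ hx0J

omit h0 in
theorem isHomogeneous_of_mem_minimalPrimes (I : Ideal A) (hI : I.IsHomogeneous 𝒜) (p : Ideal A)
    (hp : p ∈ I.minimalPrimes) : p.IsHomogeneous 𝒜 := by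
  have hpp : p.IsPrime := hp.1.1
  have hcore : (p.homogeneousCore 𝒜).toIdeal.IsPrime := hpp.homogeneousCore
  have hle : I ≤ (p.homogeneousCore 𝒜).toIdeal := by
    have := Ideal.homogeneousCore_mono 𝒜 hp.1.2
    rw [← hI.toIdeal_homogeneousCore_eq_self]
    exact this
  have hcp : (p.homogeneousCore 𝒜).toIdeal ≤ p := Ideal.toIdeal_homogeneousCore_le 𝒜 p
  have heq : (p.homogeneousCore 𝒜).toIdeal = p := le_antisymm hcp (hp.2 ⟨hcore, hle⟩ hcp)
  rw [← heq]
  exact (p.homogeneousCore 𝒜).isHomogeneous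

theorem isField_gradeZero [Nontrivial A] : IsField (𝒜 0) where
  exists_pair_ne := ⟨0, 1, fun h => zero_ne_one (α := A) (congrArg Subtype.val h)⟩
  mul_comm := mul_comm
  mul_inv_cancel := by
    intro a ha
    obtain ⟨c, hc⟩ := h0 a.1 a.2
    have hc0 : c ≠ 0 := by
      rintro rfl
      rw [map_zero] at hc
      exact ha (Subtype.ext hc.symm)
    refine ⟨algebraMap K (𝒜 0) c⁻¹, Subtype.ext ?_⟩
    rw [SetLike.GradeZero.coe_mul, SetLike.GradeZero.coe_one, SetLike.GradeZero.coe_algebraMap, ← hc,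
      ← map_mul, mul_inv_cancel₀ hc0, map_one]

end Field

section Height

theorem height_map_quotientMk_le {S : Type*} [CommRing S] (q p : Ideal S) [p.IsPrime]
    (hqp : q ≤ p) : (p.map (Ideal.Quotient.mk q)).height ≤ p.height := by
  haveI : (p.map (Ideal.Quotient.mk q)).IsPrime := Ideal.isPrime_map_quotientMk_of_isPrime hqp
  have h := Order.height_le_height_apply_of_strictMono _
    (RingHom.strictMono_comap_of_surjective (Ideal.Quotient.mk_surjective (I := q)))
    (⟨p.map (Ideal.Quotient.mk q), inferInstance⟩ : PrimeSpectrum (S ⧸ q))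
  rw [← PrimeSpectrum.height_eq_orderHeight, ← PrimeSpectrum.height_eq_orderHeight] at h
  have h2 : (PrimeSpectrum.comap (Ideal.Quotient.mk q)
      (⟨p.map (Ideal.Quotient.mk q), inferInstance⟩ : PrimeSpectrum (S ⧸ q))).asIdeal = p := by
    rw [PrimeSpectrum.comap_asIdeal]
    exact Ideal.comap_map_mk hqp
  rw [h2] at h
  exact h

/-- in a finite type algebra over a field, a maximal ideal containing all minimal primes has height the dimension -/
theorem height_eq_ringKrullDim_of_minimalPrimes_le (k : Type v) [Field k] (S : Type v) [CommRing S] [Algebra k S]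
    [Algebra.FiniteType k S] (P : Ideal S) [hP : P.IsMaximal] (hmin : ∀ q ∈ minimalPrimes S, q ≤ P) :
    ((P.height : ℕ∞) : WithBot ℕ∞) = ringKrullDim S := by
  haveI : IsNoetherianRing S := Algebra.FiniteType.isNoetherianRing k S
  haveI : P.IsPrime := hP.isPrime
  apply le_antisymm Ideal.height_le_ringKrullDim_of_isPrime
  rw [ringKrullDim_le_iff_isMaximal_height_le]
  intro M hM
  haveI : M.IsPrime := hM.isPrime
  obtain ⟨q, hq, hqM, hle⟩ := Groth.Agent.Lib.Helper4.DimFormula.exists_minimalPrimes_height_le M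
  haveI : q.IsPrime := hq.1.1
  have hqP := hmin q hq
  haveI hM' : (M.map (Ideal.Quotient.mk q)).IsMaximal :=
    Ideal.IsMaximal.map_of_surjective_of_ker_le Ideal.Quotient.mk_surjective (by rwa [Ideal.mk_ker])
  haveI hP' : (P.map (Ideal.Quotient.mk q)).IsMaximal :=
    Ideal.IsMaximal.map_of_surjective_of_ker_le Ideal.Quotient.mk_surjective (by rwa [Ideal.mk_ker])
  have h1 := Groth.Agent.Lib.Helper28.height_eq_ringKrullDim_quotient_of_isMaximal_of_finiteType k S q
    (M.map (Ideal.Quotient.mk q))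
  have h2 := Groth.Agent.Lib.Helper28.height_eq_ringKrullDim_quotient_of_isMaximal_of_finiteType k S q
    (P.map (Ideal.Quotient.mk q))
  have h3 : (M.map (Ideal.Quotient.mk q)).height = (P.map (Ideal.Quotient.mk q)).height := by
    have := h1.trans h2.symm
    exact_mod_cast this
  exact_mod_cast (hle.trans (h3.le.trans (height_map_quotientMk_le q P hqP)))

end Height

section Field2

variable {K : Type u} [Field K] {A : Type v} [CommRing A] [Algebra K A] [IsNoetherianRing A]
  (𝒜 : ℕ → Submodule K A) [GradedAlgebra 𝒜]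
  (h0 : ∀ a ∈ 𝒜 0, ∃ c : K, algebraMap K A c = a)

include h0

theorem map_irrelevant_isMaximal (I : Ideal A) (hI : I.IsHomogeneous 𝒜) (hne : I ≠ ⊤) :
    ((HomogeneousIdeal.irrelevant 𝒜).toIdeal.map (Ideal.Quotient.mk I)).IsMaximal := by
  haveI : Nontrivial A := by
    by_contra h
    rw [not_nontrivial_iff_subsingleton] at h
    exact hne (Subsingleton.elim _ _)
  have hle := le_irrelevant_of_ne_top 𝒜 h0 I hI hne
  haveI hmax := irrelevant_isMaximal 𝒜 h0
  exact Ideal.IsMaximal.map_of_surjective_of_ker_le Ideal.Quotient.mk_surjective (by rwa [Ideal.mk_ker])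

/-- the height of the irrelevant ideal of `A/I` is the dimension of `A/I` -/
theorem height_map_irrelevant (I : Ideal A) (hI : I.IsHomogeneous 𝒜) (hne : I ≠ ⊤) :
    ((((HomogeneousIdeal.irrelevant 𝒜).toIdeal.map (Ideal.Quotient.mk I)).height : ℕ∞) : WithBot ℕ∞) =
      ringKrullDim (A ⧸ I) := by
  haveI : Nontrivial A := by
    by_contra h
    rw [not_nontrivial_iff_subsingleton] at h
    exact hne (Subsingleton.elim _ _)
  letI : Field (𝒜 0) := (isField_gradeZero 𝒜 h0).toField
  haveI : Algebra.FiniteType (𝒜 0) A := finiteType_of_irrelevant_fg 𝒜 (IsNoetherian.noetherian _)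
  haveI : Algebra.FiniteType (𝒜 0) (A ⧸ I) :=
    Algebra.FiniteType.of_surjective (Ideal.Quotient.mkₐ (𝒜 0) I) (Ideal.Quotient.mkₐ_surjective _ _)
  haveI := map_irrelevant_isMaximal 𝒜 h0 I hI hne
  apply height_eq_ringKrullDim_of_minimalPrimes_le (𝒜 0) (A ⧸ I)
  intro q hq
  have h1 : q.comap (Ideal.Quotient.mk I) ∈ I.minimalPrimes := by
    rw [Ideal.minimalPrimes_eq_comap]
    exact ⟨q, hq, rfl⟩
  have h2 := isHomogeneous_of_mem_minimalPrimes 𝒜 I hI _ h1
  have h3 : q.comap (Ideal.Quotient.mk I) ≤ (HomogeneousIdeal.irrelevant 𝒜).toIdeal :=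
    le_irrelevant_of_ne_top 𝒜 h0 _ h2 h1.1.1.ne_top
  rw [← Ideal.map_comap_of_surjective (Ideal.Quotient.mk I) Ideal.Quotient.mk_surjective q]
  exact Ideal.map_mono h3

end Field2

end Groth.Agent.R2.H50.GradedDim
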