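import Mathlib
import Groth.Agent.S11277
import Groth.Agent.R2.H50Nagata

/-!
# Factoriality of a graded domain from its homogeneous localization at a prime element of degree one (helper50)
-/

set_option autoImplicit false
universe u v

namespace Groth.Agent.R2.H50.GradedUFD

open Polynomial

variable {K : Type u} [Field K] {R : Type v} [CommRing R] [IsDomain R] [Algebra K R]
  (𝒜 : ℕ → Submodule K R) [GradedAlgebra 𝒜]

/-- `R[1/s]` is the localization of the polynomial ring `R_(s)[X]` at the powers of `X` (with `X ↦ s`), when `s` is homogeneous of degree one. -/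
theorem ufm_localization_away (s : R) (hs : s ∈ 𝒜 1)
    [h : UniqueFactorizationMonoid (HomogeneousLocalization.Away 𝒜 s)] :
    UniqueFactorizationMonoid (Localization.Away s) := by
  classical
  have htr : Transcendental (HomogeneousLocalization.Away 𝒜 s) (algebraMap R (Localization.Away s) s) :=
    Groth.Agent.S11277.result K R 𝒜 1 Nat.one_pos s hs
  have hinj : Function.Injective
      (aeval (R := HomogeneousLocalization.Away 𝒜 s) (algebraMap R (Localization.Away s) s)) :=
    transcendental_iff_injective.1 htr
  let alg : Algebra (HomogeneousLocalization.Away 𝒜 s)[X] (Localization.Away s) :=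
    (aeval (R := HomogeneousLocalization.Away 𝒜 s) (algebraMap R (Localization.Away s) s)).toRingHom.toAlgebra
  have halg : ∀ p : (HomogeneousLocalization.Away 𝒜 s)[X],
      algebraMap (HomogeneousLocalization.Away 𝒜 s)[X] (Localization.Away s) p =
        aeval (algebraMap R (Localization.Away s) s) p := fun _ => rfl
  have hunit : IsUnit (algebraMap R (Localization.Away s) s) :=
    IsLocalization.Away.algebraMap_isUnit s
  have : IsLocalization (Submonoid.powers (X : (HomogeneousLocalization.Away 𝒜 s)[X]))
      (Localization.Away s) := by
    refine ⟨?_, ?_, ?_⟩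
    · rintro ⟨_, n, rfl⟩
      rw [halg, map_pow, aeval_X]
      exact hunit.pow n
    · intro z
      obtain ⟨r, ⟨_, k, rfl⟩, rfl⟩ := IsLocalization.exists_mk'_eq (Submonoid.powers s) z
      refine ⟨⟨∑ i ∈ (DirectSum.decompose 𝒜 r).support,
          C (HomogeneousLocalization.Away.mk 𝒜 hs i (DirectSum.decompose 𝒜 r i : R)
            (by simp)) * X ^ i, ⟨X ^ k, k, rfl⟩⟩, ?_⟩
      simp only
      rw [halg, halg, map_pow, aeval_X, map_sum]
      have h1 : IsLocalization.mk' (Localization.Away s) r (⟨s ^ k, k, rfl⟩ : Submonoid.powers s) *
          (algebraMap R (Localization.Away s) s) ^ k = algebraMap R (Localization.Away s) r := by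
        rw [← map_pow]
        exact IsLocalization.mk'_spec (Localization.Away s) r (⟨s ^ k, k, rfl⟩ : Submonoid.powers s)
      rw [h1]
      conv_lhs => rw [← DirectSum.sum_support_decompose 𝒜 r, map_sum]
      refine Finset.sum_congr rfl fun i _ => ?_
      rw [map_mul, aeval_C, map_pow, aeval_X, HomogeneousLocalization.algebraMap_apply,
        HomogeneousLocalization.Away.val_mk, ← map_pow, Localization.mk_eq_mk']
      exact (IsLocalization.mk'_spec (Localization.Away s) _
        (⟨s ^ i, i, rfl⟩ : Submonoid.powers s)).symm
    · intro p q hpq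
      rw [halg, halg] at hpq
      exact ⟨1, by rw [hinj hpq]⟩
  exact UniqueFactorizationMonoid.of_isLocalization
    (Submonoid.powers (X : (HomogeneousLocalization.Away 𝒜 s)[X])) (Localization.Away s)

/-- Unique factorization lifts from the homogeneous localization at a prime element of degree one. -/
theorem ufm_of_ufm_away [IsNoetherianRing R] (s : R) (hs : s ∈ 𝒜 1) (hp : Prime s)
    [h : UniqueFactorizationMonoid (HomogeneousLocalization.Away 𝒜 s)] :
    UniqueFactorizationMonoid R := by
  have := ufm_localization_away 𝒜 s hs
  exact Groth.Agent.R2.H50.Nagata.ufm_of_prime_of_ufm_away s hp (Localization.Away s)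

end Groth.Agent.R2.H50.GradedUFD
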