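import Mathlib
import Groth.Prelude.Def_W4bk4grassmannianPl
import Groth.Agent.R2.H50PlMain

/-!
# Weight components of relations among minors (helper50)

Scaling the rows of a matrix by powers `s ^ r i` multiplies the minor on the rows `θ` by `s ^ (∑ t, r (θ t))`.
Hence the ideal of relations among the minors is homogeneous for the corresponding weight: `filter_mem_vanishing`.
-/

set_option autoImplicit false

noncomputable section

namespace Groth.Agent.R2.H50.PlWeight

open MvPolynomial W4bk4grassmannian
open Groth.Agent.R2.H50.PlMain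

variable {d n : ℕ} (K : Type*) [Field K] (r : Fin n → ℕ)

/-- the weight of a Plücker coordinate -/
def uW (θ : Idx d n) : ℕ := ∑ t, r (θ.1 t)

/-- the weight of a standard monomial -/
def UW (c : AllStd d n) : ℕ := ∑ k, uW r (c.2.1 k)

/-- evaluation at the minors of `A` with the weights recorded as powers of a variable -/
def evW (A : Matrix (Fin n) (Fin d) K) : PlRing K d n →ₐ[K] Polynomial K :=
  aeval fun θ : Idx d n => Polynomial.C ((A.submatrix θ.1 id).det) * Polynomial.X ^ uW r θ

theorem evW_X (A : Matrix (Fin n) (Fin d) K) (θ : Idx d n) :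
    evW K r A (X θ) = Polynomial.C (evalMinors K d n A (X θ)) * Polynomial.X ^ uW r θ := by
  unfold evW evalMinors
  rw [aeval_X, aeval_X]

theorem evW_stdMon (A : Matrix (Fin n) (Fin d) K) (c : AllStd d n) :
    evW K r A (stdMon K c) = Polynomial.C (evalMinors K d n A (stdMon K c)) * Polynomial.X ^ UW r c := by
  unfold stdMon chainMon UW
  rw [map_prod, map_prod, map_prod, ← Finset.prod_pow_eq_pow_sum, ← Finset.prod_mul_distrib]
  refine Finset.prod_congr rfl fun k _ => ?_
  exact evW_X K r A _

/-- the matrix with rows scaled by `s₀ ^ r i` -/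
def scaleRows (s₀ : K) (A : Matrix (Fin n) (Fin d) K) : Matrix (Fin n) (Fin d) K :=
  Matrix.of fun i t => s₀ ^ r i * A i t

theorem det_scaleRows (s₀ : K) (A : Matrix (Fin n) (Fin d) K) (θ : Idx d n) :
    ((scaleRows K r s₀ A).submatrix θ.1 id).det = s₀ ^ uW r θ * (A.submatrix θ.1 id).det := by
  have e : (scaleRows K r s₀ A).submatrix θ.1 id =
      Matrix.diagonal (fun t : Fin d => s₀ ^ r (θ.1 t)) * A.submatrix θ.1 id := by
    ext s t
    rw [Matrix.diagonal_mul]
    rfl
  rw [e, Matrix.det_mul, Matrix.det_diagonal, Finset.prod_pow_eq_pow_sum]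
  rfl

theorem eval_evW (A : Matrix (Fin n) (Fin d) K) (s₀ : K) (f : PlRing K d n) :
    Polynomial.eval s₀ (evW K r A f) = evalMinors K d n (scaleRows K r s₀ A) f := by
  have : ((Polynomial.aeval s₀ : Polynomial K →ₐ[K] K).comp (evW K r A)) =
      evalMinors K d n (scaleRows K r s₀ A) := by
    apply MvPolynomial.algHom_ext
    intro θ
    rw [AlgHom.comp_apply, evW_X]
    unfold evalMinors
    rw [aeval_X, aeval_X, det_scaleRows, map_mul, map_pow, Polynomial.aeval_X, Polynomial.aeval_C]
    rw [mul_comm]
    rfl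
  have h2 := congrArg (fun g => g f) this
  simp only [AlgHom.comp_apply] at h2
  rw [← h2]
  rfl

theorem mem_vanishing_iff (f : PlRing K d n) :
    f ∈ vanishing K d n ↔ ∀ A : Matrix (Fin n) (Fin d) K, evalMinors K d n A f = 0 := by
  unfold vanishing
  rw [Ideal.mem_iInf]
  exact Iff.rfl

theorem evW_eq_zero_of_mem_vanishing [Infinite K] (A : Matrix (Fin n) (Fin d) K) (f : PlRing K d n)
    (hf : f ∈ vanishing K d n) : evW K r A f = 0 := by
  apply Polynomial.funext
  intro s₀
  rw [eval_evW, Polynomial.eval_zero]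
  exact (mem_vanishing_iff K f).1 hf _

/-- extraction of a weight component of a relation among minors -/
theorem filter_mem_vanishing [Infinite K] (g : PlRing K d n) (N₀ : ℕ)
    (hg : ∀ A : Matrix (Fin n) (Fin d) K,
      evW K r A g = Polynomial.C (evalMinors K d n A g) * Polynomial.X ^ N₀)
    (l : AllStd d n →₀ K) (h : g - Finsupp.linearCombination K (stdMon K) l ∈ vanishing K d n) :
    g - Finsupp.linearCombination K (stdMon K) (l.filter fun c => UW r c = N₀) ∈ vanishing K d n := by
  classical
  rw [mem_vanishing_iff]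
  intro A
  have h1 := evW_eq_zero_of_mem_vanishing K r A _ h
  rw [map_sub, hg A, Finsupp.linearCombination_apply, Finsupp.sum, map_sum] at h1
  have h2 := congrArg (fun p => Polynomial.coeff p N₀) h1
  simp only [Polynomial.coeff_sub, Polynomial.coeff_C_mul, Polynomial.coeff_X_pow, if_true, mul_one,
    Polynomial.finsetSum_coeff, Polynomial.coeff_zero] at h2
  rw [map_sub, Finsupp.linearCombination_apply, Finsupp.sum, map_sum, Finsupp.support_filter,
    Finset.sum_filter]
  rw [sub_eq_zero] at h2 ⊢
  rw [h2]
  refine Finset.sum_congr rfl fun c _ => ?_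
  rw [map_smul, evW_stdMon, Polynomial.smul_eq_C_mul, ← mul_assoc, ← Polynomial.C_mul, Polynomial.coeff_C_mul,
    Polynomial.coeff_X_pow]
  by_cases hc : UW r c = N₀
  · rw [if_pos hc, if_pos hc.symm, mul_one, Finsupp.filter_apply_pos (fun c => UW r c = N₀) l hc, map_smul,
      smul_eq_mul]
  · rw [if_neg hc, if_neg (fun h' => hc h'.symm), mul_zero]

end Groth.Agent.R2.H50.PlWeight
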