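import Mathlib
import Groth.Prelude.Def_W4bk4grassmannianPl
import Groth.Agent.Lib.Helper24Grass
import Groth.Agent.R2.H50PlMain
import Groth.Agent.R2.H50PlMask
import Groth.Agent.R2.H50PlRich
import Groth.Agent.R2.H50PlWeight

/-!
# The shape of the straightening relation of a skew pair (helper50)
-/

set_option autoImplicit false

noncomputable section

namespace Groth.Agent.R2.H50.PlStraight

open MvPolynomial W4bk4grassmannian
open scoped MonomialOrder
open Groth.Agent.R2.H50.PlLead Groth.Agent.R2.H50.PlMain Groth.Agent.R2.H50.PlMask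
  Groth.Agent.R2.H50.PlRich Groth.Agent.R2.H50.PlWeight Groth.Agent.Lib.Helper24Grass

variable {d n : ℕ} (K : Type*) [Field K]

/-- a chain of length two -/
def mk2 (a b : Idx d n) (h : b ≤ a) : AllStd d n :=
  ⟨2, ⟨![a, b], by
    intro i j hij
    fin_cases i <;> fin_cases j
    · exact le_rfl
    · exact h
    · exact absurd hij (by decide)
    · exact le_rfl⟩⟩

theorem stdMon_mk2 (a b : Idx d n) (h : b ≤ a) : stdMon K (mk2 a b h) = X a * X b := by
  unfold stdMon chainMon mk2
  rw [Fin.prod_univ_two]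
  rfl

theorem mk2_congr {a a' b b' : Idx d n} (h : b ≤ a) (h' : b' ≤ a') (ha : a = a') (hb : b = b') :
    mk2 a b h = mk2 a' b' h' := by
  subst ha
  subst hb
  rfl

/-- every chain of length two is of the form `mk2` -/
theorem eq_mk2 (c : Fin 2 → Idx d n) (hc : Antitone c) :
    (⟨2, ⟨c, hc⟩⟩ : AllStd d n) = mk2 (c 0) (c 1) (hc (by decide)) := by
  unfold mk2
  congr 1
  apply Subtype.ext
  funext k
  fin_cases k <;> rfl

/-- the row weights used to isolate degree and weight -/
def rw0 (n : ℕ) : Fin n → ℕ := fun i => (2 * n + 1) + i.val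

theorem uW_rw0 (θ : Idx d n) : uW (rw0 n) θ = d * (2 * n + 1) + wt θ.1 := by
  unfold uW rw0 wt
  rw [Finset.sum_add_distrib, Finset.sum_const, Finset.card_univ, Fintype.card_fin, smul_eq_mul]

theorem UW_rw0 (c : AllStd d n) :
    UW (rw0 n) c = c.1 * (d * (2 * n + 1)) + ∑ k, wt (c.2.1 k).1 := by
  unfold UW
  simp only [uW_rw0]
  rw [Finset.sum_add_distrib, Finset.sum_const, Finset.card_univ, Fintype.card_fin, smul_eq_mul]

theorem len_two_of_UW_eq (hd : 0 < d) (τ φ : Idx d n) (c : AllStd d n)
    (h : UW (rw0 n) c = uW (rw0 n) τ + uW (rw0 n) φ) :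
    c.1 = 2 ∧ ∑ k, wt (c.2.1 k).1 = wt τ.1 + wt φ.1 := by
  rw [UW_rw0, uW_rw0, uW_rw0] at h
  obtain ⟨m, c, hc⟩ := c
  simp only at h ⊢
  have hW : ∑ k, wt (c k).1 ≤ m * (d * n) := by
    calc ∑ k, wt (c k).1 ≤ ∑ _k : Fin m, d * n := Finset.sum_le_sum fun k _ => wt_le _
      _ = m * (d * n) := by simp
  have h1 := wt_le τ.1
  have h2 := wt_le φ.1
  have hM : d * (2 * n + 1) = 2 * (d * n) + d := by ring
  rw [hM] at h
  set B := d * n with hB
  set W := ∑ k, wt (c k).1 with hWdef
  rcases m with _ | _ | _ | m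
  · simp at h hW
    omega
  · simp at h hW
    omega
  · refine ⟨rfl, ?_⟩
    omega
  · exfalso
    have h3 : 3 * (2 * B + d) ≤ (m + 1 + 1 + 1) * (2 * B + d) := Nat.mul_le_mul_right _ (by omega)
    omega

theorem wt_sup_add_wt_inf (τ φ : Idx d n) :
    wt (W4bk4grassmannian.sup τ φ).1 + wt (W4bk4grassmannian.inf τ φ).1 = wt τ.1 + wt φ.1 := by
  unfold wt
  rw [← Finset.sum_add_distrib, ← Finset.sum_add_distrib]
  refine Finset.sum_congr rfl fun t _ => ?_
  simp only [W4bk4grassmannian.sup, W4bk4grassmannian.inf]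
  rcases le_total (τ.1 t) (φ.1 t) with h | h
  · rw [max_eq_right h, min_eq_left h, add_comm]
  · rw [max_eq_left h, min_eq_right h]

theorem termExp_sup_add_inf (τ φ : Idx d n) :
    termExp (W4bk4grassmannian.sup τ φ).1 1 + termExp (W4bk4grassmannian.inf τ φ).1 1 =
      termExp τ.1 1 + termExp φ.1 1 := by
  ext p
  obtain ⟨⟨t, i⟩, rfl⟩ := toLex.surjective p
  simp only [Finsupp.add_apply, termExp_one_apply, W4bk4grassmannian.sup, W4bk4grassmannian.inf]
  rcases le_total (τ.1 t) (φ.1 t) with h | h
  · rw [max_eq_right h, min_eq_left h, add_comm]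
  · rw [max_eq_left h, min_eq_right h]

theorem plIdealTop_le_vanishing : plIdealTop (d := d) (n := n) K ≤ vanishing K d n := by
  unfold vanishing
  exact le_iInf fun A => plIdealTop_le_ker_evalMinors K A

theorem vanishing_le_schubertVanishing (a : Idx d n) : vanishing K d n ≤ schubertVanishing K d n a := by
  unfold vanishing schubertVanishing
  exact le_iInf fun A => le_iInf fun _ => iInf_le _ A

/-- two monic polynomials with the same nonzero leading monomial: a combination of polynomials with distinct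
leading monomials representing their difference does not involve this leading monomial. -/
theorem coeff_eq_zero_of_monic_sub {σ : Type*} (m : MonomialOrder σ) {ι : Type*}
    (f : ι → MvPolynomial σ K) (hf0 : ∀ i, f i ≠ 0) (hinj : Function.Injective fun i => m.degree (f i))
    (p₁ p₂ : MvPolynomial σ K) (hp₁ : m.Monic p₁) (hp₂ : m.Monic p₂) (hdeg : m.degree p₁ = m.degree p₂)
    (hE : m.degree p₁ ≠ 0) (l : ι →₀ K) (hl : ∑ j ∈ l.support, l j • f j = p₁ - p₂)
    (i : ι) (hi : m.degree (f i) = m.degree p₁) : l i = 0 := by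
  by_contra hne
  have his : i ∈ l.support := Finsupp.mem_support_iff.2 hne
  have h1 := degree_le_degree_sum K m f hf0 hinj l.support l i his hne
  rw [hl, hi] at h1
  have h2 : m.toSyn (m.degree (p₁ - p₂)) ≤ m.toSyn (m.degree p₁) := by
    have := m.degree_sub_le (f := p₁) (g := p₂)
    rwa [← hdeg, sup_idem] at this
  have h3 : m.degree (p₁ - p₂) = m.degree p₁ := m.toSyn.injective (le_antisymm h2 h1)
  have h4 : m.leadingCoeff (p₁ - p₂) = 0 := by
    unfold MonomialOrder.leadingCoeff
    rw [h3, coeff_sub, hp₁.coeff_degree]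
    rw [hdeg, hp₂.coeff_degree, sub_self]
  rw [m.leadingCoeff_eq_zero_iff] at h4
  rw [h4, m.degree_zero] at h3
  exact hE h3.symm

theorem straightening_shape [Infinite K] (hd : 0 < d) (τ φ : Idx d n) :
    ∃ g ∈ Submodule.span K {f : PlRing K d n | ∃ α β : Idx d n,
        β ≤ α ∧ W4bk4grassmannian.sup τ φ < α ∧ β < W4bk4grassmannian.inf τ φ ∧ f = X α * X β},
      X τ * X φ - X (W4bk4grassmannian.sup τ φ) * X (W4bk4grassmannian.inf τ φ) - g ∈ vanishing K d n := by
  classical
  obtain ⟨l, hl⟩ := exists_rep K (X τ * X φ)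
  have hl' : X τ * X φ - Finsupp.linearCombination K (stdMon K) l ∈ vanishing K d n :=
    plIdealTop_le_vanishing K hl
  set N₀ := uW (rw0 n) τ + uW (rw0 n) φ with hN₀
  have hg : ∀ A : Matrix (Fin n) (Fin d) K, evW K (rw0 n) A (X τ * X φ) =
      Polynomial.C (evalMinors K d n A (X τ * X φ)) * Polynomial.X ^ N₀ := by
    intro A
    rw [map_mul, evW_X, evW_X, map_mul, Polynomial.C_mul, hN₀, pow_add]
    ring
  set l' := l.filter (fun c => UW (rw0 n) c = N₀) with hl'def
  have hD : X τ * X φ - Finsupp.linearCombination K (stdMon K) l' ∈ vanishing K d n :=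
    filter_mem_vanishing K (rw0 n) _ N₀ hg l hl'
  have hsupp : ∀ c, l' c ≠ 0 → c.1 = 2 ∧ ∑ k, wt (c.2.1 k).1 = wt τ.1 + wt φ.1 := by
    intro c hc
    have hc' : c ∈ l'.support := Finsupp.mem_support_iff.2 hc
    rw [hl'def, Finsupp.support_filter, Finset.mem_filter] at hc'
    exact len_two_of_UW_eq hd τ φ c hc'.2
  -- Step 1a: the larger index dominates τ and φ
  have h1a : ∀ (a b : Idx d n) (hab : b ≤ a), l' (mk2 a b hab) ≠ 0 → τ ≤ a ∧ φ ≤ a := by
    intro a b hab hne
    by_contra hcon
    have hmem : X τ * X φ ∈ schubertVanishing K d n a := by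
      by_cases h1 : τ ≤ a
      · have h2 : ¬ φ ≤ a := fun h2 => hcon ⟨h1, h2⟩
        exact Ideal.mul_mem_left _ _ (X_mem_schubertVanishing K a φ h2)
      · exact Ideal.mul_mem_right _ _ (X_mem_schubertVanishing K a τ h1)
    have h3 : Finsupp.linearCombination K (stdMon K) l' ∈ schubertVanishing K d n a := by
      have := Ideal.sub_mem _ hmem (vanishing_le_schubertVanishing K a hD)
      rwa [sub_sub_cancel] at this
    apply hne
    refine coeff_eq_zero_of_mem K a hd l' h3 _ ?_
    intro k
    fin_cases k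
    · exact le_rfl
    · exact hab
  -- Step 1b: the smaller index is dominated by τ and φ
  have h1b : ∀ (a b : Idx d n) (hab : b ≤ a), l' (mk2 a b hab) ≠ 0 → b ≤ τ ∧ b ≤ φ := by
    intro a b hab hne
    by_contra hcon
    have h0 : evM K (oppMask b) (X τ * X φ) = 0 := by
      rw [map_mul]
      by_cases h1 : b ≤ τ
      · have h2 : ¬ b ≤ φ := fun h2 => hcon ⟨h1, h2⟩
        rw [evM_opp_X_eq_zero K b φ h2, mul_zero]
      · rw [evM_opp_X_eq_zero K b τ h1, zero_mul]
    have h3 : evM K (oppMask b) (Finsupp.linearCombination K (stdMon K) l') = 0 := by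
      have := vanishing_le_ker_evM K (oppMask b) hD
      rw [RingHom.mem_ker] at this
      have e : evM K (oppMask b) (X τ * X φ - Finsupp.linearCombination K (stdMon K) l') = 0 := this
      rw [map_sub, h0, zero_sub, neg_eq_zero] at e
      exact e
    apply hne
    refine coeff_eq_zero_of_evM K (oppMask b) hd l' h3
      (fun c hc => evM_opp_stdMon_eq_zero K b c hc) _ ?_
    rw [mem_onMask_opp]
    intro k
    fin_cases k
    · exact hab
    · exact le_rfl
  -- Step 2: the coefficient of the reference monomial is one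
  have hinfsup : W4bk4grassmannian.inf τ φ ≤ W4bk4grassmannian.sup τ φ :=
    fun t => le_trans (min_le_left _ _) (le_max_left _ _)
  set ref := mk2 (W4bk4grassmannian.sup τ φ) (W4bk4grassmannian.inf τ φ) hinfsup with href
  let S : Fin n → Fin d → Prop := fun _ _ => True
  have hall : ∀ c : AllStd d n, ∀ k t, S ((c.2.1 k).1 t) t := fun c k t => trivial
  have hf0 : ∀ c : AllStd d n, evM K S (stdMon K c) ≠ 0 :=
    fun c => (monic_evM_chainMon K S hd c.2.1 (hall c)).ne_zero
  have hfinj : Function.Injective fun c : AllStd d n =>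
      (MonomialOrder.lex (σ := Var d n)).degree (evM K S (stdMon K c)) := by
    intro c c' h
    simp only [stdMon] at h
    rw [degree_evM_chainMon K S hd c.2.1 (hall c), degree_evM_chainMon K S hd c'.2.1 (hall c')] at h
    exact chainExp_injective hd h
  set l'' := l' - Finsupp.single ref 1 with hl''
  have hmonic₁ : (MonomialOrder.lex (σ := Var d n)).Monic (evM K S (X τ * X φ)) := by
    rw [map_mul, evM_X, evM_X]
    exact (monic_minorM K S τ (fun t => trivial) hd).mul (monic_minorM K S φ (fun t => trivial) hd)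
  have hdeg₁ : (MonomialOrder.lex (σ := Var d n)).degree (evM K S (X τ * X φ)) =
      termExp τ.1 1 + termExp φ.1 1 := by
    rw [map_mul, evM_X, evM_X, MonomialOrder.degree_mul (monic_minorM K S τ (fun t => trivial) hd).ne_zero
      (monic_minorM K S φ (fun t => trivial) hd).ne_zero, degree_minorM K S τ (fun t => trivial) hd,
      degree_minorM K S φ (fun t => trivial) hd]
  have hmonic₂ : (MonomialOrder.lex (σ := Var d n)).Monic (evM K S (stdMon K ref)) :=
    monic_evM_chainMon K S hd ref.2.1 (hall ref)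
  have hdeg₂ : (MonomialOrder.lex (σ := Var d n)).degree (evM K S (stdMon K ref)) =
      termExp τ.1 1 + termExp φ.1 1 := by
    unfold stdMon
    rw [degree_evM_chainMon K S hd ref.2.1 (hall ref), ← termExp_sup_add_inf]
    unfold chainExp
    rw [href]
    unfold mk2
    rw [Fin.sum_univ_two]
    rfl
  have hE : (MonomialOrder.lex (σ := Var d n)).degree (evM K S (X τ * X φ)) ≠ 0 := by
    rw [hdeg₁]
    intro h
    have h1 := congrArg (fun e => e (toLex ((⟨0, hd⟩ : Fin d), τ.1 ⟨0, hd⟩))) h
    simp only [Finsupp.add_apply, termExp_one_apply, if_true, Finsupp.coe_zero, Pi.zero_apply] at h1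
    omega
  have hsum : ∑ j ∈ l''.support, l'' j • evM K S (stdMon K j) =
      evM K S (X τ * X φ) - evM K S (stdMon K ref) := by
    have e : evM K S (X τ * X φ - Finsupp.linearCombination K (stdMon K) l') = 0 :=
      RingHom.mem_ker.1 (vanishing_le_ker_evM K S hD)
    rw [map_sub, sub_eq_zero] at e
    have e2 : evM K S (Finsupp.linearCombination K (stdMon K) l'') =
        ∑ j ∈ l''.support, l'' j • evM K S (stdMon K j) := by
      rw [Finsupp.linearCombination_apply, Finsupp.sum, map_sum]
      refine Finset.sum_congr rfl fun j _ => ?_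
      rw [map_smul]
    rw [← e2, hl'', map_sub, Finsupp.linearCombination_single, one_smul, map_sub, e]
  have href0 : l'' ref = 0 :=
    coeff_eq_zero_of_monic_sub K (MonomialOrder.lex (σ := Var d n)) (fun c : AllStd d n => evM K S (stdMon K c))
      hf0 hfinj _ _ hmonic₁ hmonic₂ (hdeg₁.trans hdeg₂.symm) hE l'' hsum ref (hdeg₂.trans hdeg₁.symm)
  -- the remainder
  refine ⟨Finsupp.linearCombination K (stdMon K) l'', ?_, ?_⟩
  · rw [Finsupp.linearCombination_apply, Finsupp.sum]
    refine Submodule.sum_mem _ fun c hc => Submodule.smul_mem _ _ (Submodule.subset_span ?_)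
    have hc0 : l'' c ≠ 0 := Finsupp.mem_support_iff.1 hc
    have hcref : c ≠ ref := fun h => hc0 (h ▸ href0)
    have hc1 : l' c ≠ 0 := by
      rw [hl'', Finsupp.sub_apply, Finsupp.single_apply, if_neg (Ne.symm hcref), sub_zero] at hc0
      exact hc0
    obtain ⟨hlen, hwt⟩ := hsupp c hc1
    obtain ⟨m, c, hanti⟩ := c
    simp only at hlen hwt
    subst hlen
    rw [eq_mk2 c hanti] at hc1 hcref ⊢
    rw [Fin.sum_univ_two] at hwt
    have hba : c 1 ≤ c 0 := hanti (by decide)
    obtain ⟨h1, h2⟩ := h1a (c 0) (c 1) hba hc1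
    obtain ⟨h3, h4⟩ := h1b (c 0) (c 1) hba hc1
    have hsup : W4bk4grassmannian.sup τ φ ≤ c 0 := fun t => max_le (h1 t) (h2 t)
    have hinf : c 1 ≤ W4bk4grassmannian.inf τ φ := fun t => le_min (h3 t) (h4 t)
    have hwt2 := wt_sup_add_wt_inf τ φ
    have hm1 := wt_mono hsup
    have hm2 := wt_mono hinf
    refine ⟨c 0, c 1, hba, lt_of_le_of_ne hsup ?_, lt_of_le_of_ne hinf ?_, stdMon_mk2 K _ _ hba⟩
    · intro heq
      apply hcref
      have h5 : c 1 = W4bk4grassmannian.inf τ φ := eq_of_le_of_wt_eq hinf (by rw [← heq] at hwt; omega)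
      rw [href]
      exact mk2_congr _ _ heq.symm h5
    · intro heq
      apply hcref
      have h5 : W4bk4grassmannian.sup τ φ = c 0 := eq_of_le_of_wt_eq hsup (by rw [heq] at hwt; omega)
      rw [href]
      exact mk2_congr _ _ h5.symm heq
  · have e : X τ * X φ - X (W4bk4grassmannian.sup τ φ) * X (W4bk4grassmannian.inf τ φ) -
        Finsupp.linearCombination K (stdMon K) l'' =
        X τ * X φ - Finsupp.linearCombination K (stdMon K) l' := by
      rw [hl'', map_sub, Finsupp.linearCombination_single, one_smul, href, stdMon_mk2]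
      ring
    rw [e]
    exact hD

end Groth.Agent.R2.H50.PlStraight
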