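import Mathlib

/-!
# Rees algebra of a filtration given by a weighted basis (helper50)

`A` a commutative `K`-algebra with a `K`-basis `b : ι → A` (given as a linearly independent spanning family) and weights
`ν : ι → ℕ`.  `Fil K b ν n = span {b c | ν c ≤ n}`.  If the filtration is multiplicative (`Mult K b ν`), the Rees algebra
`rees b ν h = {q ∈ A[t] | ∀ n, q.coeff n ∈ Fil n}` is a `K[t]`-algebra, free with basis `b c t^{ν c}`, whose fibre at
`t = c₀ ≠ 0` is `A` and whose fibre at `t = 0` is the associated graded ring (identified by `bijective_of_span`).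
-/

set_option autoImplicit false

noncomputable section

namespace Groth.Agent.R2.H50.Rees

open Polynomial

variable (K : Type*) [Field K] {A : Type*} [CommRing A] [Algebra K A] {ι : Type*} (b : ι → A) (ν : ι → ℕ)

/-- the filtration spanned by the basis elements of weight at most `n` -/
def Fil (n : ℕ) : Submodule K A := Submodule.span K (b '' {c | ν c ≤ n})

theorem fil_mono {m n : ℕ} (h : m ≤ n) : Fil K b ν m ≤ Fil K b ν n :=
  Submodule.span_mono (Set.image_mono fun _ hc => le_trans hc h)

theorem b_mem (c : ι) {n : ℕ} (h : ν c ≤ n) : b c ∈ Fil K b ν n :=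
  Submodule.subset_span ⟨c, h, rfl⟩

/-- the filtration is multiplicative -/
structure Mult : Prop where
  one_mem : (1 : A) ∈ Fil K b ν 0
  mul_mem : ∀ c c', b c * b c' ∈ Fil K b ν (ν c + ν c')

variable {K b ν}

theorem fil_mul (h : Mult K b ν) {m n : ℕ} {x y : A} (hx : x ∈ Fil K b ν m) (hy : y ∈ Fil K b ν n) :
    x * y ∈ Fil K b ν (m + n) := by
  unfold Fil at hx
  induction hx using Submodule.span_induction with
  | mem x hx =>
    obtain ⟨c, hc, rfl⟩ := hx
    unfold Fil at hy
    induction hy using Submodule.span_induction with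
    | mem y hy =>
      obtain ⟨c', hc', rfl⟩ := hy
      exact fil_mono K b ν (Nat.add_le_add hc hc') (h.mul_mem c c')
    | zero => rw [mul_zero]; exact Submodule.zero_mem _
    | add y z _ _ hy hz => rw [mul_add]; exact Submodule.add_mem _ hy hz
    | smul a y _ hy => rw [mul_smul_comm]; exact Submodule.smul_mem _ _ hy
  | zero => rw [zero_mul]; exact Submodule.zero_mem _
  | add x z _ _ hx hz => rw [add_mul]; exact Submodule.add_mem _ hx hz
  | smul a x _ hx => rw [smul_mul_assoc]; exact Submodule.smul_mem _ _ hx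

/-- the Rees algebra of the filtration, inside `A[t]` -/
def rees (h : Mult K b ν) : Subalgebra K (Polynomial A) where
  carrier := {q | ∀ n, q.coeff n ∈ Fil K b ν n}
  mul_mem' := by
    intro p q hp hq n
    rw [Polynomial.coeff_mul]
    refine Submodule.sum_mem _ fun x hx => ?_
    have hx' : x.1 + x.2 = n := Finset.HasAntidiagonal.mem_antidiagonal.1 hx
    rw [← hx']
    exact fil_mul h (hp _) (hq _)
  add_mem' := by
    intro p q hp hq n
    rw [Polynomial.coeff_add]
    exact Submodule.add_mem _ (hp n) (hq n)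
  algebraMap_mem' := by
    intro k n
    rw [Polynomial.algebraMap_apply, Polynomial.coeff_C]
    split_ifs with hn
    · rw [hn, Algebra.algebraMap_eq_smul_one]
      exact Submodule.smul_mem _ _ h.one_mem
    · exact Submodule.zero_mem _

theorem mem_rees (h : Mult K b ν) (q : Polynomial A) : q ∈ rees h ↔ ∀ n, q.coeff n ∈ Fil K b ν n := Iff.rfl

theorem C_mul_X_pow_mem (h : Mult K b ν) {a : A} {n : ℕ} (ha : a ∈ Fil K b ν n) :
    (C a * X ^ n : Polynomial A) ∈ rees h := by
  intro m
  rw [Polynomial.coeff_C_mul_X_pow]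
  split_ifs
  · subst_vars; exact ha
  · exact Submodule.zero_mem _

theorem X_mem (h : Mult K b ν) : (X : Polynomial A) ∈ rees h := by
  have := C_mul_X_pow_mem h (fil_mono K b ν (Nat.zero_le 1) h.one_mem)
  rwa [map_one, one_mul, pow_one] at this

/-- the parameter `t` -/
def tR (h : Mult K b ν) : rees h := ⟨X, X_mem h⟩

instance algebraPoly (h : Mult K b ν) : Algebra (Polynomial K) (rees h) :=
  (Polynomial.aeval (tR h)).toRingHom.toAlgebra

theorem algebraMap_poly (h : Mult K b ν) (p : Polynomial K) :
    algebraMap (Polynomial K) (rees h) p = Polynomial.aeval (tR h) p := rfl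

instance isScalarTower (h : Mult K b ν) : IsScalarTower K (Polynomial K) (rees h) :=
  IsScalarTower.of_algebraMap_eq fun k => by
    rw [algebraMap_poly, Polynomial.algebraMap_apply, Polynomial.aeval_C]
    rfl

theorem coe_algebraMap_poly (h : Mult K b ν) (p : Polynomial K) :
    ((algebraMap (Polynomial K) (rees h) p : rees h) : Polynomial A) = p.map (algebraMap K A) := by
  rw [algebraMap_poly]
  have h1 : ((Polynomial.aeval (tR h) p : rees h) : Polynomial A) = (rees h).val (Polynomial.aeval (tR h) p) := rfl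
  rw [h1, ← Polynomial.aeval_algHom_apply]
  show Polynomial.aeval (X : Polynomial A) p = _
  rw [Polynomial.aeval_def, Polynomial.map]
  rfl

theorem coe_smul_poly (h : Mult K b ν) (p : Polynomial K) (r : rees h) :
    ((p • r : rees h) : Polynomial A) = p.map (algebraMap K A) * (r : Polynomial A) := by
  rw [Algebra.smul_def, MulMemClass.coe_mul, coe_algebraMap_poly]


/-! ### the basis `b c t^{ν c}` -/

variable (h : Mult K b ν)

/-- the basis elements `b c t^{ν c}` -/
def e (c : ι) : rees h := ⟨C (b c) * X ^ ν c, C_mul_X_pow_mem h (b_mem K b ν c le_rfl)⟩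

theorem coe_e (c : ι) : ((e h c : rees h) : Polynomial A) = C (b c) * X ^ ν c := rfl

theorem coeff_smul_e (p : Polynomial K) (c : ι) (n : ℕ) :
    ((p • e h c : rees h) : Polynomial A).coeff n = if ν c ≤ n then p.coeff (n - ν c) • b c else 0 := by
  rw [coe_smul_poly, coe_e, ← mul_assoc, Polynomial.coeff_mul_X_pow', Polynomial.coeff_mul_C, Polynomial.coeff_map]
  split_ifs
  · rw [Algebra.smul_def]
  · rfl

theorem linearIndependent_e (hli : LinearIndependent K b) : LinearIndependent (Polynomial K) (e h) := by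
  classical
  rw [linearIndependent_iff']
  intro s g hg c₀ hc₀
  ext k
  rw [Polynomial.coeff_zero]
  have h1 := congrArg (fun r : rees h => (r : Polynomial A).coeff (k + ν c₀)) hg
  simp only [AddSubmonoidClass.coe_finsetSum, Polynomial.finsetSum_coeff, coeff_smul_e,
    ZeroMemClass.coe_zero, Polynomial.coeff_zero] at h1
  have h2 : ∑ c ∈ s, (if ν c ≤ k + ν c₀ then (g c).coeff (k + ν c₀ - ν c) else 0) • b c = 0 := by
    rw [← h1]
    refine Finset.sum_congr rfl fun c _ => ?_
    split_ifs
    · rfl
    · rw [zero_smul]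
  have h3 := linearIndependent_iff'.1 hli s _ h2 c₀ hc₀
  rw [if_pos (Nat.le_add_left _ _), Nat.add_sub_cancel] at h3
  exact h3

theorem exists_of_fil {a : A} {n : ℕ} (ha : a ∈ Fil K b ν n) :
    ∃ r ∈ Submodule.span (Polynomial K) (Set.range (e h)), ((r : rees h) : Polynomial A) = C a * X ^ n := by
  unfold Fil at ha
  induction ha using Submodule.span_induction with
  | mem a ha =>
    obtain ⟨c, hc, rfl⟩ := ha
    refine ⟨(X ^ (n - ν c) : Polynomial K) • e h c,
      Submodule.smul_mem _ _ (Submodule.subset_span ⟨c, rfl⟩), ?_⟩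
    rw [coe_smul_poly, coe_e, Polynomial.map_pow, Polynomial.map_X]
    have hc' : ν c ≤ n := hc
    calc (X : Polynomial A) ^ (n - ν c) * (C (b c) * X ^ ν c) = C (b c) * (X ^ (n - ν c) * X ^ ν c) := by ring
      _ = C (b c) * X ^ n := by rw [← pow_add, Nat.sub_add_cancel hc']
  | zero =>
    exact ⟨0, Submodule.zero_mem _, by rw [map_zero, zero_mul]; rfl⟩
  | add x y _ _ hx hy =>
    obtain ⟨r₁, hr₁, e₁⟩ := hx
    obtain ⟨r₂, hr₂, e₂⟩ := hy
    refine ⟨r₁ + r₂, Submodule.add_mem _ hr₁ hr₂, ?_⟩
    rw [AddMemClass.coe_add, e₁, e₂, map_add, add_mul]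
  | smul k x _ hx =>
    obtain ⟨r₁, hr₁, e₁⟩ := hx
    refine ⟨(C k : Polynomial K) • r₁, Submodule.smul_mem _ _ hr₁, ?_⟩
    rw [coe_smul_poly, e₁, Polynomial.map_C, Algebra.smul_def, map_mul, mul_assoc]

theorem span_e : Submodule.span (Polynomial K) (Set.range (e h)) = ⊤ := by
  rw [eq_top_iff]
  rintro ⟨q, hq⟩ -
  choose! r hr hr' using fun n => exists_of_fil h (hq n)
  have : (⟨q, hq⟩ : rees h) = ∑ n ∈ q.support, r n := by
    apply Subtype.ext
    rw [AddSubmonoidClass.coe_finsetSum]
    simp only [hr']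
    exact q.as_sum_support_C_mul_X_pow
  rw [this]
  exact Submodule.sum_mem _ fun n _ => hr n

/-- the `K[t]`-basis of the Rees algebra -/
def basis (hli : LinearIndependent K b) : Module.Basis ι (Polynomial K) (rees h) :=
  Module.Basis.mk (linearIndependent_e h hli) (span_e h).ge

theorem basis_apply (hli : LinearIndependent K b) (c : ι) : basis h hli c = e h c := by
  unfold basis
  rw [Module.Basis.mk_apply]

theorem free (hli : LinearIndependent K b) : Module.Free (Polynomial K) (rees h) :=
  Module.Free.of_basis (basis h hli)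


/-! ### the fibre at `t = c₀ ≠ 0` -/

/-- evaluation at `t = c₀` -/
def ev (c₀ : K) : rees h →ₐ[K] A :=
  ((Polynomial.aeval (R := A) (algebraMap K A c₀)).restrictScalars K).comp (rees h).val

theorem ev_apply (c₀ : K) (r : rees h) : ev h c₀ r = (r : Polynomial A).eval (algebraMap K A c₀) := by
  unfold ev
  rw [AlgHom.comp_apply, AlgHom.restrictScalars_apply, Polynomial.coe_aeval_eq_eval]
  rfl

theorem ev_smul (c₀ : K) (p : Polynomial K) (r : rees h) :
    ev h c₀ (p • r) = algebraMap K A (p.eval c₀) * ev h c₀ r := by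
  rw [ev_apply, ev_apply, coe_smul_poly, Polynomial.eval_mul, Polynomial.eval_map, Polynomial.eval₂_at_apply]

theorem ev_e (c₀ : K) (c : ι) : ev h c₀ (e h c) = b c * algebraMap K A c₀ ^ ν c := by
  rw [ev_apply, coe_e, Polynomial.eval_mul, Polynomial.eval_C, Polynomial.eval_pow, Polynomial.eval_X]

theorem ev_surjective (hsp : Submodule.span K (Set.range b) = ⊤) {c₀ : K} (hc : c₀ ≠ 0) :
    Function.Surjective (ev h c₀) := by
  intro a
  have ha : a ∈ Submodule.span K (Set.range b) := by rw [hsp]; trivial
  have hle : Submodule.span K (Set.range b) ≤ LinearMap.range (ev h c₀).toLinearMap := by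
    rw [Submodule.span_le]
    rintro _ ⟨c, rfl⟩
    refine ⟨(c₀⁻¹ ^ ν c) • e h c, ?_⟩
    rw [AlgHom.toLinearMap_apply, map_smul, ev_e, Algebra.smul_def, mul_comm, mul_assoc, ← map_pow, ← map_mul,
      ← mul_pow, mul_inv_cancel₀ hc, one_pow, map_one, mul_one]
  obtain ⟨r, hr⟩ := hle ha
  exact ⟨r, hr⟩

theorem ker_ev (hli : LinearIndependent K b) {c₀ : K} (hc : c₀ ≠ 0) :
    RingHom.ker (ev h c₀) = Ideal.span {algebraMap (Polynomial K) (rees h) (X - C c₀)} := by
  classical
  apply le_antisymm
  · intro r hr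
    rw [RingHom.mem_ker] at hr
    set l := (basis h hli).repr r with hl
    have hr2 : r = ∑ c ∈ l.support, l c • e h c := by
      have := (basis h hli).linearCombination_repr r
      rw [Finsupp.linearCombination_apply, Finsupp.sum] at this
      rw [← this]
      refine Finset.sum_congr rfl fun c _ => ?_
      rw [basis_apply]
    have h1 : ∑ c ∈ l.support, ((l c).eval c₀ * c₀ ^ ν c) • b c = 0 := by
      rw [← hr, hr2, map_sum]
      refine Finset.sum_congr rfl fun c _ => ?_
      rw [ev_smul, ev_e, Algebra.smul_def, map_mul, map_pow]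
      ring
    have h2 : ∀ c ∈ l.support, (l c).eval c₀ = 0 := by
      intro c hcs
      have := linearIndependent_iff'.1 hli l.support _ h1 c hcs
      exact (mul_eq_zero.1 this).resolve_right (pow_ne_zero _ hc)
    rw [hr2]
    refine Ideal.sum_mem _ fun c hcs => ?_
    obtain ⟨q, hq⟩ := Polynomial.dvd_iff_isRoot.2 (h2 c hcs)
    rw [hq, mul_smul, Algebra.smul_def (X - C c₀)]
    exact Ideal.mul_mem_right _ _ (Ideal.subset_span rfl)
  · rw [Ideal.span_le]
    rintro _ rfl
    rw [SetLike.mem_coe, RingHom.mem_ker, Algebra.algebraMap_eq_smul_one, ev_smul]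
    simp

theorem nonempty_fibre (hli : LinearIndependent K b) (hsp : Submodule.span K (Set.range b) = ⊤)
    {c₀ : K} (hc : c₀ ≠ 0) :
    Nonempty ((rees h ⧸ Ideal.span {algebraMap (Polynomial K) (rees h) (X - C c₀)}) ≃ₐ[K] A) :=
  ⟨(Ideal.quotientEquivAlgOfEq K (ker_ev h hli hc).symm).trans
    (Ideal.quotientKerAlgEquivOfSurjective (ev_surjective h hsp hc))⟩

/-! ### the fibre at `t = 0` -/

/-- the ideal `t R` -/
def tI : Ideal (rees h) := Ideal.span {algebraMap (Polynomial K) (rees h) X}

theorem smul_sub_mem (p : Polynomial K) (r : rees h) : p • r - (p.coeff 0) • r ∈ tI h := by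
  have h1 : p • r = (p.divX * X) • r + (C (p.coeff 0) : Polynomial K) • r := by
    rw [← add_smul, Polynomial.divX_mul_X_add]
  have h2 : (C (p.coeff 0) : Polynomial K) • r = (p.coeff 0) • r := by
    rw [← Polynomial.algebraMap_eq, algebraMap_smul]
  rw [h1, h2, add_sub_cancel_right, mul_comm, mul_smul, Algebra.smul_def]
  exact Ideal.mul_mem_right _ _ (Ideal.subset_span rfl)

theorem C_mul_X_pow_succ_mem {a : A} {n : ℕ} (ha : a ∈ Fil K b ν n) (r : rees h)
    (hr : (r : Polynomial A) = C a * X ^ (n + 1)) : r ∈ tI h := by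
  have : r = algebraMap (Polynomial K) (rees h) X * ⟨C a * X ^ n, C_mul_X_pow_mem h ha⟩ := by
    apply Subtype.ext
    rw [MulMemClass.coe_mul, coe_algebraMap_poly, Polynomial.map_X, hr]
    ring
  rw [this]
  exact Ideal.mul_mem_right _ _ (Ideal.subset_span rfl)

theorem span_mk_e (hli : LinearIndependent K b) :
    Submodule.span K (Set.range fun c => Ideal.Quotient.mk (tI h) (e h c)) = ⊤ := by
  classical
  rw [eq_top_iff]
  rintro x -
  obtain ⟨r, rfl⟩ := Ideal.Quotient.mk_surjective x
  set l := (basis h hli).repr r with hl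
  have hr2 : r = ∑ c ∈ l.support, l c • e h c := by
    have := (basis h hli).linearCombination_repr r
    rw [Finsupp.linearCombination_apply, Finsupp.sum] at this
    rw [← this]
    refine Finset.sum_congr rfl fun c _ => ?_
    rw [basis_apply]
  rw [hr2, map_sum]
  refine Submodule.sum_mem _ fun c _ => ?_
  have h1 : Ideal.Quotient.mk (tI h) (l c • e h c) = (l c).coeff 0 • Ideal.Quotient.mk (tI h) (e h c) := by
    have h2 : Ideal.Quotient.mk (tI h) ((l c).coeff 0 • e h c) =
        (l c).coeff 0 • Ideal.Quotient.mk (tI h) (e h c) :=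
      map_smul (Ideal.Quotient.mkₐ K (tI h)) _ _
    rw [← h2, Ideal.Quotient.eq]
    exact smul_sub_mem h _ _
  rw [h1]
  exact Submodule.smul_mem _ _ (Submodule.subset_span ⟨c, rfl⟩)

theorem linearIndependent_mk_e (hli : LinearIndependent K b) :
    LinearIndependent K (fun c => Ideal.Quotient.mk (tI h) (e h c)) := by
  classical
  rw [linearIndependent_iff']
  intro s g hg c₀ hc₀
  have h1 : Ideal.Quotient.mk (tI h) (∑ c ∈ s, g c • e h c) = 0 := by
    rw [map_sum, ← hg]
    refine Finset.sum_congr rfl fun c _ => ?_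
    exact map_smul (Ideal.Quotient.mkₐ K (tI h)) _ _
  rw [Ideal.Quotient.eq_zero_iff_mem] at h1
  unfold tI at h1
  obtain ⟨r', hr'⟩ := Ideal.mem_span_singleton'.1 h1
  have h2 : (basis h hli).repr (r' * algebraMap (Polynomial K) (rees h) X) c₀ =
      (basis h hli).repr (∑ c ∈ s, g c • e h c) c₀ := by rw [hr']
  rw [mul_comm, ← Algebra.smul_def, map_smul, Finsupp.smul_apply, map_sum, Finsupp.finsetSum_apply] at h2
  have h3 : ∀ c ∈ s, ((basis h hli).repr (g c • e h c)) c₀ = if c = c₀ then C (g c) else 0 := by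
    intro c _
    have : g c • e h c = (C (g c) : Polynomial K) • basis h hli c := by
      rw [basis_apply, ← Polynomial.algebraMap_eq, algebraMap_smul]
    rw [this, map_smul, Module.Basis.repr_self, Finsupp.smul_apply, Finsupp.single_apply, smul_eq_mul]
    split_ifs <;> simp
  rw [Finset.sum_congr rfl h3, Finset.sum_ite_eq' s c₀, if_pos hc₀] at h2
  have h4 := congrArg (fun p : Polynomial K => p.coeff 0) h2
  simp only [smul_eq_mul, Polynomial.coeff_X_mul_zero, Polynomial.coeff_C_zero] at h4
  exact h4.symm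

/-- identification of the special fibre: a `K`-algebra map from a `K`-algebra spanned by a family `g` indexed like the
basis, sending `g c` to the class of `b c t^{ν c}`, is bijective. -/
theorem bijective_of_span (hli : LinearIndependent K b) {G : Type*} [CommRing G] [Algebra K G]
    (κ : G →ₐ[K] rees h ⧸ tI h) (g : ι → G) (hg : Submodule.span K (Set.range g) = ⊤)
    (hκ : ∀ c, κ (g c) = Ideal.Quotient.mk (tI h) (e h c)) : Function.Bijective κ := by
  classical
  constructor
  · rw [injective_iff_map_eq_zero]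
    intro x hx
    have hx' : x ∈ Submodule.span K (Set.range g) := by rw [hg]; trivial
    obtain ⟨l, rfl⟩ := (Finsupp.mem_span_range_iff_exists_finsupp).1 hx'
    rw [Finsupp.sum, map_sum] at hx
    have h1 : ∑ c ∈ l.support, l c • Ideal.Quotient.mk (tI h) (e h c) = 0 := by
      rw [← hx]
      refine Finset.sum_congr rfl fun c _ => ?_
      rw [map_smul, hκ]
    have h2 := linearIndependent_iff'.1 (linearIndependent_mk_e h hli) l.support _ h1
    rw [Finsupp.sum]
    refine Finset.sum_eq_zero fun c hc => ?_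
    rw [h2 c hc, zero_smul]
  · intro y
    have hy : y ∈ Submodule.span K (Set.range fun c => Ideal.Quotient.mk (tI h) (e h c)) := by
      rw [span_mk_e h hli]; trivial
    have hle : Submodule.span K (Set.range fun c => Ideal.Quotient.mk (tI h) (e h c)) ≤
        LinearMap.range κ.toLinearMap := by
      rw [Submodule.span_le]
      rintro _ ⟨c, rfl⟩
      exact ⟨g c, hκ c⟩
    obtain ⟨x, hx⟩ := hle hy
    exact ⟨x, hx⟩

end Groth.Agent.R2.H50.Rees
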