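import Mathlib

/-!
# Weighted leading monomials in polynomial rings (helper50)

`Plt ω N`: polynomials all of whose monomials have `ω`-weight `< N`.  `Lead ω f e`: `f = x^e + (terms of weight < weight e)`.
Products of such polynomials are of the same shape, and a linear combination of polynomials with pairwise different
leading exponents which lies in `Plt ω (N + 1)` only involves leading exponents of weight `≤ N`.
-/

set_option autoImplicit false

noncomputable section

namespace Groth.Agent.R2.H50.WLead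

open MvPolynomial

variable {K : Type*} [Field K] {σ : Type*} (ω : σ → ℕ)

/-- the weight of an exponent vector -/
abbrev wt (e : σ →₀ ℕ) : ℕ := Finsupp.weight ω e

/-- polynomials all of whose monomials have weight `< N` -/
def Plt (K : Type*) [Field K] {σ : Type*} (ω : σ → ℕ) (N : ℕ) : Submodule K (MvPolynomial σ K) where
  carrier := {f | ∀ e ∈ f.support, wt ω e < N}
  add_mem' := by
    classical
    intro f g hf hg e he
    rcases Finset.mem_union.1 (MvPolynomial.support_add he) with h | h
    · exact hf e h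
    · exact hg e h
  zero_mem' := by
    intro e he
    simp at he
  smul_mem' := by
    intro k f hf e he
    exact hf e (MvPolynomial.support_smul he)

theorem mem_Plt {N : ℕ} {f : MvPolynomial σ K} : f ∈ Plt K ω N ↔ ∀ e ∈ f.support, wt ω e < N := Iff.rfl

theorem Plt_mono {M N : ℕ} (h : M ≤ N) : Plt K ω M ≤ Plt K ω N :=
  fun _ hf e he => lt_of_lt_of_le (hf e he) h

theorem monomial_mem_Plt {N : ℕ} (e : σ →₀ ℕ) (k : K) (h : wt ω e < N) : monomial e k ∈ Plt K ω N := by
  classical
  intro e' he'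
  have := MvPolynomial.support_monomial_subset he'
  rw [Finset.mem_singleton] at this
  rw [this]
  exact h

theorem mul_mem_Plt {M N : ℕ} {f g : MvPolynomial σ K} (hf : f ∈ Plt K ω (M + 1)) (hg : g ∈ Plt K ω N) :
    f * g ∈ Plt K ω (M + N) := by
  classical
  intro e he
  obtain ⟨e₁, h₁, e₂, h₂, rfl⟩ := Finset.mem_add.1 (MvPolynomial.support_mul f g he)
  have a1 := hf e₁ h₁
  have a2 := hg e₂ h₂
  show Finsupp.weight ω (e₁ + e₂) < M + N
  rw [map_add]
  have a1' : Finsupp.weight ω e₁ < M + 1 := a1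
  have a2' : Finsupp.weight ω e₂ < N := a2
  omega

theorem mul_mem_Plt' {M N : ℕ} {f g : MvPolynomial σ K} (hf : f ∈ Plt K ω M) (hg : g ∈ Plt K ω (N + 1)) :
    f * g ∈ Plt K ω (M + N) := by
  rw [mul_comm, add_comm]
  exact mul_mem_Plt ω hg hf

theorem mul_mem_Plt_succ {M N : ℕ} {f g : MvPolynomial σ K} (hf : f ∈ Plt K ω (M + 1))
    (hg : g ∈ Plt K ω (N + 1)) : f * g ∈ Plt K ω (M + N + 1) := by
  have := mul_mem_Plt ω hf hg
  rwa [← add_assoc] at this

/-- `f = x^e + (terms of weight < weight e)` -/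
def Lead (f : MvPolynomial σ K) (e : σ →₀ ℕ) : Prop := f - monomial e 1 ∈ Plt K ω (wt ω e)

variable {ω}

theorem Lead.mem_succ {f : MvPolynomial σ K} {e : σ →₀ ℕ} (h : Lead ω f e) : f ∈ Plt K ω (wt ω e + 1) := by
  have h1 : f = (f - monomial e 1) + monomial e 1 := by ring
  rw [h1]
  exact Submodule.add_mem _ (Plt_mono ω (Nat.le_succ _) h) (monomial_mem_Plt ω e 1 (Nat.lt_succ_self _))

theorem Lead.sub_mem {f g : MvPolynomial σ K} {e : σ →₀ ℕ} (hf : Lead ω f e) (hg : Lead ω g e) :
    f - g ∈ Plt K ω (wt ω e) := by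
  have h1 : f - g = (f - monomial e 1) - (g - monomial e 1) := by ring
  rw [h1]
  exact Submodule.sub_mem _ hf hg

theorem lead_one : Lead ω (1 : MvPolynomial σ K) 0 := by
  unfold Lead
  have : (1 : MvPolynomial σ K) - monomial 0 1 = 0 := by
    rw [sub_eq_zero]
    rfl
  rw [this]
  exact Submodule.zero_mem _

theorem Lead.mul {f g : MvPolynomial σ K} {e e' : σ →₀ ℕ} (hf : Lead ω f e) (hg : Lead ω g e') :
    Lead ω (f * g) (e + e') := by
  unfold Lead
  have h1 : f * g - monomial (e + e') 1 = (f - monomial e 1) * g + monomial e 1 * (g - monomial e' 1) := by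
    have hmm : (monomial (e + e') (1 : K) : MvPolynomial σ K) = monomial e 1 * monomial e' 1 := by
      rw [MvPolynomial.monomial_mul, mul_one]
    rw [hmm]
    ring
  rw [h1]
  have hw : wt ω (e + e') = wt ω e + wt ω e' := map_add _ _ _
  rw [hw]
  refine Submodule.add_mem _ ?_ ?_
  · exact mul_mem_Plt' ω hf hg.mem_succ
  · exact mul_mem_Plt ω (monomial_mem_Plt ω e 1 (Nat.lt_succ_self _)) hg

theorem Lead.prod {ι : Type*} (s : Finset ι) (f : ι → MvPolynomial σ K) (e : ι → (σ →₀ ℕ))
    (h : ∀ i ∈ s, Lead ω (f i) (e i)) : Lead ω (∏ i ∈ s, f i) (∑ i ∈ s, e i) := by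
  classical
  induction s using Finset.induction_on with
  | empty =>
    rw [Finset.prod_empty, Finset.sum_empty]
    exact lead_one
  | insert a s ha ih =>
    rw [Finset.prod_insert ha, Finset.sum_insert ha]
    exact (h a (Finset.mem_insert_self a s)).mul (ih fun i hi => h i (Finset.mem_insert_of_mem hi))

theorem Lead.coeff_self {f : MvPolynomial σ K} {e : σ →₀ ℕ} (h : Lead ω f e) : f.coeff e = 1 := by
  classical
  have h1 : (f - monomial e 1).coeff e = 0 := by
    by_contra hne
    have := h e (MvPolynomial.mem_support_iff.2 hne)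
    exact lt_irrefl _ this
  rw [MvPolynomial.coeff_sub, MvPolynomial.coeff_monomial, if_pos rfl, sub_eq_zero] at h1
  exact h1

theorem Lead.coeff_of_le {f : MvPolynomial σ K} {e e' : σ →₀ ℕ} (h : Lead ω f e) (hne : e ≠ e')
    (hle : wt ω e ≤ wt ω e') : f.coeff e' = 0 := by
  classical
  have h1 : (f - monomial e 1).coeff e' = 0 := by
    by_contra hne'
    have := h e' (MvPolynomial.mem_support_iff.2 hne')
    omega
  rw [MvPolynomial.coeff_sub, MvPolynomial.coeff_monomial, if_neg hne, sub_zero] at h1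
  exact h1

/-- a linear combination of polynomials with distinct leading exponents lying in weights `≤ N` only involves leading
exponents of weight `≤ N`. -/
theorem weight_le_of_sum_mem {ι : Type*} (v : ι → MvPolynomial σ K) (m : ι → (σ →₀ ℕ))
    (hm : Function.Injective m) (hv : ∀ c, Lead ω (v c) (m c)) (s : Finset ι) (l : ι → K)
    (hl : ∀ c ∈ s, l c ≠ 0) (N : ℕ) (hmem : ∑ c ∈ s, l c • v c ∈ Plt K ω (N + 1)) :
    ∀ c ∈ s, wt ω (m c) ≤ N := by
  classical
  by_contra hcon
  push Not at hcon
  obtain ⟨c₁, hc₁, hc₁N⟩ := hcon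
  obtain ⟨c₀, hc₀, hmax⟩ := Finset.exists_max_image s (fun c => wt ω (m c)) ⟨c₁, hc₁⟩
  have hc₀N : N < wt ω (m c₀) := lt_of_lt_of_le hc₁N (hmax c₁ hc₁)
  have hcoeff : (∑ c ∈ s, l c • v c).coeff (m c₀) = l c₀ := by
    rw [MvPolynomial.coeff_sum, Finset.sum_eq_single c₀]
    · rw [MvPolynomial.coeff_smul, (hv c₀).coeff_self, smul_eq_mul, mul_one]
    · intro c hc hne
      rw [MvPolynomial.coeff_smul, (hv c).coeff_of_le (fun h => hne (hm h)) (hmax c hc), smul_zero]
    · intro h
      exact absurd hc₀ h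
  have hsupp : m c₀ ∈ (∑ c ∈ s, l c • v c).support := by
    rw [MvPolynomial.mem_support_iff, hcoeff]
    exact hl c₀ hc₀
  have := hmem (m c₀) hsupp
  omega

end Groth.Agent.R2.H50.WLead
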