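import Mathlib
import Groth.Prelude.Def_W4bk4grassmannianPl
import Groth.Agent.Lib.Helper24Grass
import Groth.Agent.R2.H50PlMain
import Groth.Agent.R2.H50PlStraight
import Groth.Agent.R2.H50Rees
import Groth.Agent.R2.H50WLead

/-!
# The toric (Hibi) degeneration of the cone over a Schubert variety (helper50)

The coordinate ring `A = S/J(w)` embeds into the polynomial ring of the generic Schubert-shaped matrix; with the diagonal
weights `ω(x_{i t}) = (t+1)(i+1)` every Plücker coordinate has its diagonal term as unique term of maximal weight.  The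
induced filtration of `A` is multiplicative, the standard monomials are adapted to it, and its Rees algebra is a free
`K[t]`-algebra with general fibre `A` and special fibre the Hibi ring of `H(w)`.
-/

set_option autoImplicit false

noncomputable section

namespace Groth.Agent.R2.H50.HibiDeg

open MvPolynomial W4bk4grassmannian
open Groth.Agent.R2.H50.PlLead Groth.Agent.R2.H50.PlSchubert Groth.Agent.R2.H50.PlMain
open Groth.Agent.R2.H50.WLead Groth.Agent.R2.H50

variable {d n : ℕ}

/-- the diagonal weights -/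
def om (d n : ℕ) : Var d n → ℕ := fun p => ((ofLex p).1.val + 1) * ((ofLex p).2.val + 1)

theorem wt_termExp (θ : Fin d → Fin n) (σ : Equiv.Perm (Fin d)) :
    Finsupp.weight (om d n) (termExp θ σ) = ∑ t : Fin d, (t.val + 1) * ((θ (σ t)).val + 1) := by
  unfold termExp
  rw [map_sum]
  refine Finset.sum_congr rfl fun t _ => ?_
  rw [Finsupp.weight_single, smul_eq_mul, one_mul]
  rfl

theorem wt_termExp_lt (θ : Fin d → Fin n) (hθ : StrictMono θ) (σ : Equiv.Perm (Fin d)) (hσ : σ ≠ 1) :
    Finsupp.weight (om d n) (termExp θ σ) < Finsupp.weight (om d n) (termExp θ 1) := by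
  rw [wt_termExp, wt_termExp]
  have hmv : Monovary (fun t : Fin d => t.val + 1) (fun t : Fin d => (θ t).val + 1) := by
    intro i j hij
    have h1 : θ i < θ j := by
      rw [Fin.lt_def]
      simp only at hij
      omega
    have h2 := hθ.lt_iff_lt.1 h1
    rw [Fin.lt_def] at h2
    simp only
    omega
  have key := (hmv.sum_mul_comp_perm_lt_sum_mul_iff (σ := σ)).2 (by
    intro hmv'
    apply hσ
    have hτ : StrictMono σ.symm := by
      intro a b hab
      have h1 : σ.symm a ≤ σ.symm b := by
        have h2 : (fun t : Fin d => (θ t).val + 1) (σ (σ.symm a)) <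
            (fun t : Fin d => (θ t).val + 1) (σ (σ.symm b)) := by
          simp only [Equiv.apply_symm_apply]
          have := hθ hab
          rw [Fin.lt_def] at this
          omega
        have h3 := hmv' h2
        simp only at h3
        rw [Fin.le_def]
        omega
      exact lt_of_le_of_ne h1 (fun h => (ne_of_lt hab) (σ.symm.injective h))
    have h4 : (σ.symm : Fin d → Fin d) = id := (hτ.range_inj strictMono_id).1 (by
      rw [σ.symm.surjective.range_eq, Set.range_id])
    ext t
    have h5 := congrFun h4 (σ t)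
    simp only [Equiv.symm_apply_apply, id] at h5
    rw [← h5]
    rfl)
  exact key

variable (K : Type*) [Field K]

theorem lead_minorG (w θ : Idx d n) (hθ : θ ≤ w) :
    Lead (K := K) (om d n) (minorG K w θ) (termExp θ.1 1) := by
  classical
  unfold Lead
  have h1 : minorG K w θ - monomial (termExp θ.1 1) 1 = ∑ σ ∈ Finset.univ.erase (1 : Equiv.Perm (Fin d)),
      Equiv.Perm.sign σ • ∏ t, ((genSchubert K w).submatrix θ.1 id) (σ t) t := by
    unfold minorG
    rw [Matrix.det_apply, ← Finset.add_sum_erase _ _ (Finset.mem_univ (1 : Equiv.Perm (Fin d))),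
      Equiv.Perm.sign_one, one_smul, prod_entries]
    have : (∏ t, if θ.1 ((1 : Equiv.Perm (Fin d)) t) ≤ w.1 t then (1 : K) else 0) = 1 :=
      Finset.prod_eq_one fun t _ => if_pos (hθ t)
    rw [this]
    ring
  rw [h1]
  refine Submodule.sum_mem _ fun σ hσ => ?_
  rw [prod_entries, Units.smul_def, ← Int.cast_smul_eq_zsmul K]
  exact Submodule.smul_mem _ _
    (monomial_mem_Plt _ _ _ (wt_termExp_lt θ.1 θ.2 σ (Finset.ne_of_mem_erase hσ)))

theorem lead_evG_chainMon (w : Idx d n) {m : ℕ} (c : Fin m → Idx d n) (hc : ∀ k, c k ≤ w) :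
    Lead (K := K) (om d n) (evG K w (chainMon K c)) (chainExp c) := by
  rw [evG_chainMon]
  unfold chainExp
  exact Lead.prod Finset.univ _ _ fun k _ => lead_minorG K w (c k) (hc k)

/-- standard chains on `X(w)` -/
abbrev Cw (w : Idx d n) : Type := Σ m : ℕ, {c : Fin m → Idx d n // Antitone c ∧ ∀ k, c k ≤ w}

/-- the coordinate ring of the cone over `X(w)` -/
abbrev SA (w : Idx d n) : Type _ := PlRing K d n ⧸ schubertVanishing K d n w

/-- the standard monomials -/
def bb (w : Idx d n) (c : Cw w) : SA K w := Ideal.Quotient.mk _ (chainMon K c.2.1)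

/-- their weights -/
def nu (w : Idx d n) (c : Cw w) : ℕ := Finsupp.weight (om d n) (chainExp c.2.1)

theorem chainExp_injective' (hd : 0 < d) (w : Idx d n) :
    Function.Injective (fun c : Cw w => chainExp c.2.1) := by
  intro c c' h
  have h2 := chainExp_injective hd (a₁ := ⟨c.1, c.2.1, c.2.2.1⟩) (a₂ := ⟨c'.1, c'.2.1, c'.2.2.1⟩) h
  obtain ⟨m, c, hc1, hc2⟩ := c
  obtain ⟨m', c', hc1', hc2'⟩ := c'
  simp only [Sigma.mk.injEq] at h2
  obtain ⟨rfl, h3⟩ := h2
  have h4 := eq_of_heq h3
  simp only [Subtype.mk.injEq] at h4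
  subst h4
  rfl

variable [Infinite K]

/-- the embedding into the polynomial ring of the generic Schubert-shaped matrix -/
def iotaP (w : Idx d n) : SA K w →ₐ[K] MvPolynomial (Var d n) K :=
  Ideal.Quotient.liftₐ (schubertVanishing K d n w) (evG K w)
    (fun _ ha => RingHom.mem_ker.1 (schubertVanishing_le_ker_evG K w ha))

theorem iotaP_bb (w : Idx d n) (c : Cw w) : iotaP K w (bb K w c) = evG K w (chainMon K c.2.1) := by
  rfl

theorem lead_iotaP_bb (w : Idx d n) (c : Cw w) :
    Lead (K := K) (om d n) (iotaP K w (bb K w c)) (chainExp c.2.1) := by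
  rw [iotaP_bb]
  exact lead_evG_chainMon K w c.2.1 c.2.2.2

theorem linearIndependent_bb (hd : 0 < d) (w : Idx d n) : LinearIndependent K (bb K w) := by
  have h := linearIndependent_evG K w hd
  have e : (fun c : Cw w => evG K w (chainMon K c.2.1)) = (iotaP K w).toLinearMap ∘ bb K w := by
    funext c
    rw [Function.comp_apply, AlgHom.toLinearMap_apply, iotaP_bb]
  rw [e] at h
  exact LinearIndependent.of_comp _ h

omit [Infinite K] in
theorem span_bb (w : Idx d n) : Submodule.span K (Set.range (bb K w)) = ⊤ := by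
  rw [eq_top_iff]
  rintro x -
  obtain ⟨f, rfl⟩ := Ideal.Quotient.mk_surjective x
  obtain ⟨l, hl⟩ := exists_rep K f
  have h1 : Ideal.Quotient.mk (schubertVanishing K d n w) f =
      Ideal.Quotient.mk _ (Finsupp.linearCombination K (stdMon K) l) :=
    Ideal.Quotient.eq.2 (plIdealTop_le_schubertVanishing K w hl)
  rw [h1, Finsupp.linearCombination_apply, Finsupp.sum, map_sum]
  refine Submodule.sum_mem _ fun c _ => ?_
  have h2 : Ideal.Quotient.mk (schubertVanishing K d n w) (l c • stdMon K c) =
      l c • Ideal.Quotient.mk _ (stdMon K c) := map_smul (Ideal.Quotient.mkₐ K _) _ _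
  rw [h2]
  refine Submodule.smul_mem _ _ ?_
  by_cases hc : c ∈ onSet w
  · exact Submodule.subset_span ⟨⟨c.1, c.2.1, c.2.2, hc⟩, rfl⟩
  · rw [Ideal.Quotient.eq_zero_iff_mem.2 (stdMon_mem_schubertVanishing K w c hc)]
    exact Submodule.zero_mem _

/-- adaptedness of the standard monomial basis to the weight filtration -/
theorem mem_fil_of_iotaP (hd : 0 < d) (w : Idx d n) (a : SA K w) (N : ℕ)
    (ha : iotaP K w a ∈ Plt K (om d n) (N + 1)) : a ∈ Rees.Fil K (bb K w) (nu w) N := by
  classical
  have ha' : a ∈ Submodule.span K (Set.range (bb K w)) := by rw [span_bb]; trivial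
  obtain ⟨l, rfl⟩ := Finsupp.mem_span_range_iff_exists_finsupp.1 ha'
  have h1 : ∑ c ∈ l.support, l c • iotaP K w (bb K w c) ∈ Plt K (om d n) (N + 1) := by
    rw [Finsupp.sum, map_sum] at ha
    simp only [map_smul] at ha
    exact ha
  have h2 := weight_le_of_sum_mem (ω := om d n) (fun c => iotaP K w (bb K w c))
    (fun c : Cw w => chainExp c.2.1) (chainExp_injective' hd w) (fun c => lead_iotaP_bb K w c) l.support l
    (fun c hc => Finsupp.mem_support_iff.1 hc) N h1
  rw [Finsupp.sum]
  exact Submodule.sum_mem _ fun c hc => Submodule.smul_mem _ _ (Rees.b_mem K _ _ c (h2 c hc))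

/-- the empty chain -/
def emptyC (w : Idx d n) : Cw w := ⟨0, Fin.elim0, fun a => a.elim0, fun k => k.elim0⟩

theorem mult (hd : 0 < d) (w : Idx d n) : Rees.Mult K (bb K w) (nu w) where
  one_mem := by
    have h1 : (1 : SA K w) = bb K w (emptyC w) := by
      unfold bb chainMon emptyC
      rw [Finset.univ_eq_empty, Finset.prod_empty, map_one]
    rw [h1]
    refine Rees.b_mem K _ _ _ ?_
    unfold nu chainExp emptyC
    rw [Finset.univ_eq_empty, Finset.sum_empty, map_zero]
  mul_mem := fun c c' => mem_fil_of_iotaP K hd w _ _ (by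
    rw [map_mul]
    exact mul_mem_Plt_succ _ (lead_iotaP_bb K w c).mem_succ (lead_iotaP_bb K w c').mem_succ)


/-! ### the Hibi ring is spanned by the standard monomials -/

section Hibi

omit [Infinite K]

/-- the Hibi ring of `H(w)` -/
abbrev HibiRing (w : Idx d n) : Type _ := MvPolynomial (Below w) K ⧸ hibiIdeal K w

/-- the standard monomials of the Hibi ring -/
def gg (w : Idx d n) (c : Cw w) : HibiRing K w :=
  Ideal.Quotient.mk _ (∏ k, X (⟨c.2.1 k, c.2.2.2 k⟩ : Below w))

/-- the potential `Σ (wt θ)²` -/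
def pot2 {w : Idx d n} {k : ℕ} (s : Fin k → Below w) : ℕ :=
  ∑ j, (Groth.Agent.Lib.Helper24Grass.wt (s j).1.1) ^ 2

theorem pot2_le {w : Idx d n} {k : ℕ} (s : Fin k → Below w) : pot2 s ≤ k * (d * n) ^ 2 := by
  unfold pot2
  calc ∑ j, (Groth.Agent.Lib.Helper24Grass.wt (s j).1.1) ^ 2 ≤ ∑ _j : Fin k, (d * n) ^ 2 :=
        Finset.sum_le_sum fun j _ => Nat.pow_le_pow_left (Groth.Agent.Lib.Helper24Grass.wt_le _) 2
    _ = k * (d * n) ^ 2 := by simp

theorem wt_lt_wt_sup {a b : Idx d n} (h : ¬ b ≤ a) :
    Groth.Agent.Lib.Helper24Grass.wt a.1 < Groth.Agent.Lib.Helper24Grass.wt (W4bk4grassmannian.sup a b).1 := by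
  have hle : a ≤ W4bk4grassmannian.sup a b := fun t => le_max_left _ _
  refine lt_of_le_of_ne (Groth.Agent.Lib.Helper24Grass.wt_mono hle) fun heq => h ?_
  have := Groth.Agent.Lib.Helper24Grass.eq_of_le_of_wt_eq hle heq
  intro t
  have h2 : (W4bk4grassmannian.sup a b).1 t = a.1 t := by rw [← this]
  rw [← h2]
  exact le_max_right _ _

theorem wt_lt_wt_sup' {a b : Idx d n} (h : ¬ a ≤ b) :
    Groth.Agent.Lib.Helper24Grass.wt b.1 < Groth.Agent.Lib.Helper24Grass.wt (W4bk4grassmannian.sup a b).1 := by
  have hle : b ≤ W4bk4grassmannian.sup a b := fun t => le_max_right _ _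
  refine lt_of_le_of_ne (Groth.Agent.Lib.Helper24Grass.wt_mono hle) fun heq => h ?_
  have := Groth.Agent.Lib.Helper24Grass.eq_of_le_of_wt_eq hle heq
  intro t
  have h2 : (W4bk4grassmannian.sup a b).1 t = b.1 t := by rw [← this]
  rw [← h2]
  exact le_max_left _ _

theorem sq_add_sq_lt {a b g e : ℕ} (hsum : g + e = a + b) (h1 : a < g) (h2 : b < g) :
    a ^ 2 + b ^ 2 < g ^ 2 + e ^ 2 := by
  have h3 : e < a := by omega
  have h4 : e < b := by omega
  obtain ⟨x, rfl⟩ := Nat.exists_eq_add_of_lt h3
  obtain ⟨y, hy⟩ := Nat.exists_eq_add_of_lt h2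
  have hg : g = b + x + 1 := by omega
  subst hg
  nlinarith

theorem mk_prod_mem (w : Idx d n) : ∀ (N k : ℕ) (s : Fin k → Below w), k * (d * n) ^ 2 - pot2 s = N →
    Ideal.Quotient.mk (hibiIdeal K w) (∏ j, X (s j)) ∈ Submodule.span K (Set.range (gg K w)) := by
  intro N
  induction N using Nat.strong_induction_on with
  | _ N ih =>
    intro k s hN
    by_cases hc : ∀ j₁ j₂, (s j₁).1 ≤ (s j₂).1 ∨ (s j₂).1 ≤ (s j₁).1
    · obtain ⟨σ, hσ⟩ := Groth.Agent.Lib.Helper24Grass.sortable (fun j => (s j).1) hc
      have h1 : ∏ j, (X (s j) : MvPolynomial (Below w) K) = ∏ j, X (s (σ j)) :=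
        (Equiv.prod_comp σ (fun j => (X (s j) : MvPolynomial (Below w) K))).symm
      rw [h1]
      exact Submodule.subset_span ⟨⟨k, fun j => (s (σ j)).1, hσ, fun j => (s (σ j)).2⟩, rfl⟩
    · push Not at hc
      obtain ⟨j₁, j₂, h1, h2⟩ := hc
      have hj : j₁ ≠ j₂ := by
        rintro rfl
        exact h1 le_rfl
      set a := s j₁ with ha
      set b := s j₂ with hb
      set s' : Fin k → Below w := Function.update (Function.update s j₁ (Below.sup a b)) j₂ (Below.inf a b)
        with hs'
      have hs'1 : s' j₁ = Below.sup a b := by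
        rw [hs', Function.update_of_ne hj, Function.update_self]
      have hs'2 : s' j₂ = Below.inf a b := by
        rw [hs', Function.update_self]
      have hs'o : ∀ j ∈ (Finset.univ.erase j₁).erase j₂, s' j = s j := by
        intro j hjm
        rw [hs', Function.update_of_ne (Finset.ne_of_mem_erase hjm),
          Function.update_of_ne (Finset.ne_of_mem_erase (Finset.mem_of_mem_erase hjm))]
      have hmk : Ideal.Quotient.mk (hibiIdeal K w) (∏ j, X (s j)) =
          Ideal.Quotient.mk (hibiIdeal K w) (∏ j, X (s' j)) := by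
        have hrest : ∏ j ∈ (Finset.univ.erase j₁).erase j₂, (X (s' j) : MvPolynomial (Below w) K) =
            ∏ j ∈ (Finset.univ.erase j₁).erase j₂, X (s j) :=
          Finset.prod_congr rfl (fun j hjm => by rw [hs'o j hjm])
        rw [Ideal.Quotient.eq,
          Groth.Agent.Lib.Helper24Grass.prod_split (fun j => (X (s j) : MvPolynomial (Below w) K)) j₁ j₂ hj,
          Groth.Agent.Lib.Helper24Grass.prod_split (fun j => (X (s' j) : MvPolynomial (Below w) K)) j₁ j₂ hj,
          hs'1, hs'2, hrest, ← sub_mul]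
        refine Ideal.mul_mem_right _ _ (Ideal.subset_span ⟨a, b, rfl⟩)
      rw [hmk]
      have hpot : pot2 s < pot2 s' := by
        unfold pot2
        have hrest : ∑ j ∈ (Finset.univ.erase j₁).erase j₂, (Groth.Agent.Lib.Helper24Grass.wt (s' j).1.1) ^ 2 =
            ∑ j ∈ (Finset.univ.erase j₁).erase j₂, (Groth.Agent.Lib.Helper24Grass.wt (s j).1.1) ^ 2 :=
          Finset.sum_congr rfl (fun j hjm => by rw [hs'o j hjm])
        rw [Groth.Agent.Lib.Helper24Grass.sum_split
            (fun j => (Groth.Agent.Lib.Helper24Grass.wt (s j).1.1) ^ 2) j₁ j₂ hj,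
          Groth.Agent.Lib.Helper24Grass.sum_split
            (fun j => (Groth.Agent.Lib.Helper24Grass.wt (s' j).1.1) ^ 2) j₁ j₂ hj, hrest]
        simp only [hs'1, hs'2, ← ha, ← hb]
        have h3 := Groth.Agent.R2.H50.PlStraight.wt_sup_add_wt_inf a.1 b.1
        have h4 := wt_lt_wt_sup (a := a.1) (b := b.1) h2
        have h5 := wt_lt_wt_sup' (a := a.1) (b := b.1) h1
        have h6 := sq_add_sq_lt h3 h4 h5
        have e1 : (Below.sup a b).1 = W4bk4grassmannian.sup a.1 b.1 := rfl
        have e2 : (Below.inf a b).1 = W4bk4grassmannian.inf a.1 b.1 := rfl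
        rw [e1, e2]
        omega
      have hle := pot2_le s'
      exact ih (k * (d * n) ^ 2 - pot2 s') (by omega) k s' rfl

theorem exists_prod_eq_monomial (w : Idx d n) (u : Below w →₀ ℕ) :
    ∃ (k : ℕ) (s : Fin k → Below w), (monomial u (1 : K) : MvPolynomial (Below w) K) = ∏ j, X (s j) := by
  induction u using Finsupp.induction with
  | zero => exact ⟨0, Fin.elim0, by rw [Finset.univ_eq_empty, Finset.prod_empty]; rfl⟩
  | single_add θ m u _ hm ih =>
    obtain ⟨k, s, hs⟩ := ih
    clear hm
    induction m with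
    | zero => exact ⟨k, s, by rw [Finsupp.single_zero, zero_add, hs]⟩
    | succ m ihm =>
      obtain ⟨k', s', hs'⟩ := ihm
      refine ⟨k' + 1, Fin.snoc s' θ, ?_⟩
      rw [Fin.prod_univ_castSucc]
      simp only [Fin.snoc_castSucc, Fin.snoc_last]
      rw [← hs', Finsupp.single_add, add_assoc, add_comm (Finsupp.single θ 1), ← add_assoc,
        ← mul_one (1 : K), ← MvPolynomial.monomial_mul, mul_one]
      rfl

theorem span_gg (w : Idx d n) : Submodule.span K (Set.range (gg K w)) = ⊤ := by
  rw [eq_top_iff]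
  rintro x -
  obtain ⟨f, rfl⟩ := Ideal.Quotient.mk_surjective x
  induction f using MvPolynomial.induction_on' with
  | monomial u a =>
    have h1 : (monomial u a : MvPolynomial (Below w) K) = a • monomial u 1 := by
      rw [MvPolynomial.smul_monomial, smul_eq_mul, mul_one]
    have h2 : Ideal.Quotient.mk (hibiIdeal K w) (a • monomial u 1) =
        a • Ideal.Quotient.mk (hibiIdeal K w) (monomial u 1) := map_smul (Ideal.Quotient.mkₐ K _) _ _
    rw [h1, h2]
    refine Submodule.smul_mem _ _ ?_
    have h3 := exists_prod_eq_monomial K w u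
    obtain ⟨k, s, hs⟩ := h3
    rw [hs]
    exact mk_prod_mem K w _ k s rfl
  | add p q hp hq =>
    rw [map_add]
    exact Submodule.add_mem _ hp hq

end Hibi


/-! ### the special fibre -/

section Kappa

variable (hd : 0 < d) (w : Idx d n)

/-- the chain of length one -/
def single1 (θ : Below w) : Cw w := ⟨1, fun _ => θ.1, fun _ _ _ => le_rfl, fun _ => θ.2⟩

omit [Infinite K] in
theorem bb_single1 (θ : Below w) : bb K w (single1 w θ) = Ideal.Quotient.mk _ (X θ.1) := by
  unfold bb chainMon single1
  rw [Fin.prod_univ_one]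

theorem chainExp_single1 (θ : Below w) : chainExp (single1 w θ).2.1 = termExp θ.1.1 1 := by
  unfold chainExp single1
  rw [Fin.sum_univ_one]

theorem nu_single1 (θ : Below w) : nu w (single1 w θ) = Finsupp.weight (om d n) (termExp θ.1.1 1) := by
  unfold nu
  rw [chainExp_single1]

include hd in
theorem nu_single1_pos (θ : Below w) : 0 < nu w (single1 w θ) := by
  rw [nu_single1, wt_termExp]
  have h1 : ((⟨0, hd⟩ : Fin d).val + 1) * ((θ.1.1 ((1 : Equiv.Perm (Fin d)) ⟨0, hd⟩)).val + 1) ≤
      ∑ t : Fin d, (t.val + 1) * ((θ.1.1 ((1 : Equiv.Perm (Fin d)) t)).val + 1) :=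
    Finset.single_le_sum (f := fun t : Fin d => (t.val + 1) * ((θ.1.1 ((1 : Equiv.Perm (Fin d)) t)).val + 1))
      (fun _ _ => Nat.zero_le _) (Finset.mem_univ _)
  have h2 : 0 < ((⟨0, hd⟩ : Fin d).val + 1) * ((θ.1.1 ((1 : Equiv.Perm (Fin d)) ⟨0, hd⟩)).val + 1) :=
    Nat.mul_pos (Nat.succ_pos _) (Nat.succ_pos _)
  omega

theorem chainExp_sup_add_inf (a b : Below w) :
    chainExp (single1 w (Below.sup a b)).2.1 + chainExp (single1 w (Below.inf a b)).2.1 =
      chainExp (single1 w a).2.1 + chainExp (single1 w b).2.1 := by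
  rw [chainExp_single1, chainExp_single1, chainExp_single1, chainExp_single1]
  exact Groth.Agent.R2.H50.PlStraight.termExp_sup_add_inf a.1 b.1

/-- `x_θ ↦` class of `X_θ t^{ν θ}` -/
def kappa0 : MvPolynomial (Below w) K →ₐ[K] (Rees.rees (mult K hd w) ⧸ Rees.tI (mult K hd w)) :=
  aeval fun θ => Ideal.Quotient.mk _ (Rees.e (mult K hd w) (single1 w θ))

theorem kappa0_X (θ : Below w) :
    kappa0 K hd w (X θ) = Ideal.Quotient.mk _ (Rees.e (mult K hd w) (single1 w θ)) := by
  unfold kappa0
  rw [aeval_X]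

theorem rel_mem_tI (a b : Below w) :
    Rees.e (mult K hd w) (single1 w a) * Rees.e (mult K hd w) (single1 w b) -
      Rees.e (mult K hd w) (single1 w (Below.sup a b)) * Rees.e (mult K hd w) (single1 w (Below.inf a b)) ∈
      Rees.tI (mult K hd w) := by
  have hexp := chainExp_sup_add_inf w a b
  have hnu : nu w (single1 w (Below.sup a b)) + nu w (single1 w (Below.inf a b)) =
      nu w (single1 w a) + nu w (single1 w b) := by
    unfold nu
    rw [← map_add, ← map_add, hexp]
  obtain ⟨N', hN'⟩ : ∃ N', nu w (single1 w a) + nu w (single1 w b) = N' + 1 := by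
    have := nu_single1_pos hd w a
    exact ⟨nu w (single1 w a) + nu w (single1 w b) - 1, by omega⟩
  refine Rees.C_mul_X_pow_succ_mem (mult K hd w)
    (a := bb K w (single1 w a) * bb K w (single1 w b) -
      bb K w (single1 w (Below.sup a b)) * bb K w (single1 w (Below.inf a b))) (n := N') ?_ _ ?_
  · apply mem_fil_of_iotaP K hd w
    rw [map_sub, map_mul, map_mul]
    have L1 := (lead_iotaP_bb K w (single1 w a)).mul (lead_iotaP_bb K w (single1 w b))
    have L2 := (lead_iotaP_bb K w (single1 w (Below.sup a b))).mul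
      (lead_iotaP_bb K w (single1 w (Below.inf a b)))
    rw [hexp] at L2
    have h3 := L1.sub_mem L2
    have h4 : WLead.wt (om d n) (chainExp (single1 w a).2.1 + chainExp (single1 w b).2.1) = N' + 1 := by
      rw [← hN']
      unfold nu
      exact map_add _ _ _
    rw [h4] at h3
    exact h3
  · rw [AddSubgroupClass.coe_sub, MulMemClass.coe_mul, MulMemClass.coe_mul, Rees.coe_e, Rees.coe_e,
      Rees.coe_e, Rees.coe_e, map_sub, map_mul, map_mul, sub_mul]
    have e1 : (Polynomial.X : Polynomial (SA K w)) ^ nu w (single1 w a) * Polynomial.X ^ nu w (single1 w b) =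
        Polynomial.X ^ (N' + 1) := by rw [← pow_add, hN']
    have e2 : (Polynomial.X : Polynomial (SA K w)) ^ nu w (single1 w (Below.sup a b)) *
        Polynomial.X ^ nu w (single1 w (Below.inf a b)) = Polynomial.X ^ (N' + 1) := by
      rw [← pow_add, hnu, hN']
    linear_combination (Polynomial.C (bb K w (single1 w a)) * Polynomial.C (bb K w (single1 w b))) * e1 -
      (Polynomial.C (bb K w (single1 w (Below.sup a b))) * Polynomial.C (bb K w (single1 w (Below.inf a b)))) * e2

theorem kappa0_eq_zero (f : MvPolynomial (Below w) K) (hf : f ∈ hibiIdeal K w) : kappa0 K hd w f = 0 := by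
  have hle : hibiIdeal K w ≤ RingHom.ker (kappa0 K hd w).toRingHom := by
    unfold hibiIdeal
    rw [Ideal.span_le]
    rintro _ ⟨a, b, rfl⟩
    rw [SetLike.mem_coe, RingHom.mem_ker]
    show kappa0 K hd w (X a * X b - X (Below.sup a b) * X (Below.inf a b)) = 0
    rw [map_sub, map_mul, map_mul, kappa0_X, kappa0_X, kappa0_X, kappa0_X, ← map_mul, ← map_mul, ← map_sub,
      Ideal.Quotient.eq_zero_iff_mem]
    exact rel_mem_tI K hd w a b
  exact RingHom.mem_ker.1 (hle hf)

/-- the comparison map from the Hibi ring to the special fibre -/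
def kappa : HibiRing K w →ₐ[K] (Rees.rees (mult K hd w) ⧸ Rees.tI (mult K hd w)) :=
  Ideal.Quotient.liftₐ (hibiIdeal K w) (kappa0 K hd w) (kappa0_eq_zero K hd w)

theorem kappa_gg (c : Cw w) :
    kappa K hd w (gg K w c) = Ideal.Quotient.mk _ (Rees.e (mult K hd w) c) := by
  have h1 : kappa K hd w (gg K w c) = kappa0 K hd w (∏ k, X (⟨c.2.1 k, c.2.2.2 k⟩ : Below w)) := rfl
  rw [h1, map_prod]
  simp only [kappa0_X]
  rw [← map_prod]
  congr 1
  apply Subtype.ext
  rw [SubmonoidClass.coe_finsetProd]
  simp only [Rees.coe_e]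
  rw [Finset.prod_mul_distrib, ← map_prod, Finset.prod_pow_eq_pow_sum]
  congr 2
  · simp only [bb_single1]
    rw [← map_prod]
    rfl
  · simp only [nu_single1]
    rw [← map_sum]
    rfl

theorem bijective_kappa : Function.Bijective (kappa K hd w) :=
  Rees.bijective_of_span (mult K hd w) (linearIndependent_bb K hd w) (kappa K hd w) (gg K w) (span_gg K w)
    (kappa_gg K hd w)

end Kappa

end Groth.Agent.R2.H50.HibiDeg
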