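import Mathlib

/-!
# Base change of injective modules along flat maps with "unramified primes" (helper8)

Part 1: a decomposition lemma.  Let `A → B` be a ring map with `B` Noetherian, `p` a prime of `A`,
`J = pB`, and `M` a `B`-module which is `J`-power torsion and on which the elements of `A ∖ p` act
bijectively.  Assume that for every prime `q` of `B` over `p` and `x ∈ q` some `t ∉ q` has
`t * x ∈ J` (i.e. `J B_q = q B_q`).  Then there are only finitely many primes of `B` over `p` and
`M → ∏_q M_q` is bijective.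
-/

set_option autoImplicit false
set_option linter.style.haveILetI false
universe u v

namespace Groth.Agent.R2.H8.InjBC

open scoped TensorProduct

section Decomp

variable {A : Type*} {B : Type*} [CommRing A] [CommRing B] [Algebra A B]
variable (p : Ideal A)

/-- the primes of `B` lying over `p` -/
def PrimesOver : Set (Ideal B) := {q | q.IsPrime ∧ q.comap (algebraMap A B) = p}

variable (B) in
/-- the extended ideal `pB` -/
abbrev extIdeal : Ideal B := p.map (algebraMap A B)

/-- "`pB_q = qB_q` for all primes `q` over `p`", in elementary form -/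
def Unram : Prop := ∀ q ∈ PrimesOver (B := B) p, ∀ x ∈ q, ∃ t, t ∉ q ∧ t * x ∈ extIdeal B p

variable {p}

lemma extIdeal_le_of_mem {q : Ideal B} (hq : q ∈ PrimesOver (B := B) p) : extIdeal B p ≤ q := by
  rw [extIdeal, Ideal.map_le_iff_le_comap, hq.2]

lemma primesOver_eq_of_le (h : Unram (B := B) p) {q q' : Ideal B} (hq : q ∈ PrimesOver (B := B) p)
    (hq' : q' ∈ PrimesOver (B := B) p) (hle : q' ≤ q) : q' = q := by
  refine le_antisymm hle fun x hx => ?_
  obtain ⟨t, ht, htx⟩ := h q hq x hx
  have h1 : t * x ∈ q' := extIdeal_le_of_mem hq' htx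
  have := hq'.1
  rcases Ideal.IsPrime.mem_or_mem hq'.1 h1 with h2 | h2
  · exact absurd (hle h2) ht
  · exact h2

lemma primesOver_subset_minimalPrimes (h : Unram (B := B) p) :
    PrimesOver (B := B) p ⊆ (extIdeal B p).minimalPrimes := by
  intro q hq
  refine ⟨⟨hq.1, extIdeal_le_of_mem hq⟩, ?_⟩
  rintro q'' ⟨hq''prime, hJ⟩ hle
  have hq''mem : q'' ∈ PrimesOver (B := B) p := by
    refine ⟨hq''prime, le_antisymm ?_ ?_⟩
    · rw [← hq.2]; exact Ideal.comap_mono hle
    · rw [← Ideal.map_le_iff_le_comap]; exact hJ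
  exact (primesOver_eq_of_le h hq hq''mem hle).ge

lemma finite_primesOver [IsNoetherianRing B] (h : Unram (B := B) p) :
    (PrimesOver (B := B) p).Finite :=
  (Ideal.finite_minimalPrimes_of_isNoetherianRing B _).subset (primesOver_subset_minimalPrimes h)

variable {M : Type*} [AddCommGroup M] [Module B M]

/-- `M` is `pB`-power torsion -/
def PowTors (p : Ideal A) (M : Type*) [AddCommGroup M] [Module B M] : Prop :=
  ∀ m : M, ∃ k : ℕ, ∀ b ∈ (extIdeal B p) ^ k, b • m = 0

/-- L1 -/
lemma exists_kill (h : Unram (B := B) p) (hT : PowTors (B := B) p M) {q q' : Ideal B}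
    (hq : q ∈ PrimesOver (B := B) p) (hq' : q' ∈ PrimesOver (B := B) p) (hne : q ≠ q') (m : M) :
    ∃ v w : B, v ∉ q ∧ w ∉ q' ∧ (w * v) • m = 0 := by
  have hnle : ¬ q' ≤ q := fun hle => hne (primesOver_eq_of_le h hq hq' hle).symm
  obtain ⟨s, hsq', hsq⟩ := Set.not_subset.mp hnle
  obtain ⟨t, ht, hts⟩ := h q' hq' s hsq'
  obtain ⟨k, hk⟩ := hT m
  have := hq.1
  have := hq'.1
  refine ⟨s ^ k, t ^ k, fun hc => hsq (Ideal.IsPrime.mem_of_pow_mem hq.1 k hc),
    fun hc => ht (Ideal.IsPrime.mem_of_pow_mem hq'.1 k hc), ?_⟩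
  rw [← mul_pow]
  exact hk _ (Ideal.pow_mem_pow hts k)

/-- L2 -/
lemma exists_primeCompl_mem [p.IsPrime] (𝔞 : Ideal B) (k : ℕ) (hk : (extIdeal B p) ^ k ≤ 𝔞)
    (hq : ∀ q ∈ PrimesOver (B := B) p, ¬ 𝔞 ≤ q) : ∃ s ∈ p.primeCompl, algebraMap A B s ∈ 𝔞 := by
  by_contra hcon
  push Not at hcon
  have hdisj : Disjoint (𝔞 : Set B) (p.primeCompl.map (algebraMap A B) : Submonoid B) := by
    rw [Set.disjoint_left]
    rintro x hx ⟨s, hs, rfl⟩
    exact hcon s hs hx
  obtain ⟨P, hP, haP, hPdisj⟩ := Ideal.exists_le_prime_disjoint 𝔞 _ hdisj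
  refine hq P ⟨hP, le_antisymm ?_ ?_⟩ haP
  · intro a ha
    by_contra hap
    exact Set.disjoint_left.mp hPdisj ha ⟨a, hap, rfl⟩
  · rw [← Ideal.map_le_iff_le_comap]
    exact Ideal.IsPrime.le_of_pow_le (hk.trans haP)

end Decomp


section Main

variable {A : Type*} {B : Type*} [CommRing A] [CommRing B] [Algebra A B]
variable (p : Ideal A) (M : Type*) [AddCommGroup M] [Module B M]

instance primesOver_isPrime (q : PrimesOver (B := B) p) : q.1.IsPrime := q.2.1

/-- the localization of `M` at a prime over `p` -/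
abbrev Loc (q : PrimesOver (B := B) p) : Type _ := LocalizedModule q.1.primeCompl M

/-- the canonical map to the product of the localizations at the primes over `p` -/
noncomputable def toProd : M →ₗ[B] (∀ q : PrimesOver (B := B) p, Loc p M q) :=
  LinearMap.pi fun q => LocalizedModule.mkLinearMap q.1.primeCompl M

variable {p M}

lemma toProd_apply (m : M) (q : PrimesOver (B := B) p) :
    toProd p M m q = LocalizedModule.mk m 1 := rfl

lemma loc_eq_zero_of_smul_eq_zero (S : Submonoid B) (b : B) (hb : ∀ m : M, b • m = 0 → m = 0)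
    (y : LocalizedModule S M) (hy : b • y = 0) : y = 0 := by
  induction y using LocalizedModule.induction_on with
  | h m t =>
    rw [LocalizedModule.smul'_mk, ← LocalizedModule.zero_mk (1 : S), LocalizedModule.mk_eq] at hy
    obtain ⟨u, hu⟩ := hy
    rw [smul_zero, smul_zero, one_smul, Submonoid.smul_def, smul_comm] at hu
    have h0 := hb _ hu
    rw [← LocalizedModule.zero_mk (1 : S), LocalizedModule.mk_eq]
    exact ⟨u, by rw [one_smul, smul_zero, smul_zero]; exact h0⟩

lemma loc_mk_eq_zero (S : Submonoid B) (m : M) (t : S) (w : B) (hw : w ∈ S) (h : w • m = 0) :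
    LocalizedModule.mk m t = 0 := by
  rw [← LocalizedModule.zero_mk (1 : S), LocalizedModule.mk_eq]
  exact ⟨⟨w, hw⟩, by rw [one_smul, smul_zero, smul_zero, Submonoid.mk_smul, h]⟩

variable [IsNoetherianRing B] [p.IsPrime]

open Classical in
theorem single_mem_range (h : Unram (B := B) p) (hT : PowTors (B := B) p M)
    (hS : ∀ s ∈ p.primeCompl, Function.Bijective (fun m : M => algebraMap A B s • m))
    (q : PrimesOver (B := B) p) (y : Loc p M q) :
    Pi.single q y ∈ LinearMap.range (toProd p M) := by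
  haveI : Fintype (PrimesOver (B := B) p) := (finite_primesOver h).fintype
  induction y using LocalizedModule.induction_on with
  | h m t =>
  set n : (∀ q : PrimesOver (B := B) p, Loc p M q) := Pi.single q (LocalizedModule.mk m t) with hn
  let 𝔞 : Ideal B := (LinearMap.range (toProd p M)).comap (LinearMap.toSpanSingleton B _ n)
  have hmem : ∀ b, b ∈ 𝔞 ↔ b • n ∈ LinearMap.range (toProd p M) := by
    intro b
    simp only [𝔞, Submodule.mem_comap, LinearMap.toSpanSingleton_apply]
  have hsmul : ∀ b : B, b • n = Pi.single q (LocalizedModule.mk (b • m) t) := by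
    intro b
    rw [hn, ← Pi.single_smul, LocalizedModule.smul'_mk]
  obtain ⟨k, hk⟩ := hT m
  have h1 : (extIdeal B p) ^ k ≤ 𝔞 := by
    intro b hb
    rw [hmem, hsmul, hk b hb, LocalizedModule.zero_mk, Pi.single_zero]
    exact zero_mem _
  have h2 : ∀ q'' ∈ PrimesOver (B := B) p, ¬ 𝔞 ≤ q'' := by
    intro q'' hq'' hle
    by_cases hqq : q'' = q.1
    · -- the main case
      have key : ∀ q' : PrimesOver (B := B) p, ∃ v w : B, v ∉ q.1 ∧ w ∉ q'.1 ∧
          (q' ≠ q → (w * v) • m = 0) := by
        intro q'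
        by_cases hq' : q' = q
        · exact ⟨1, 1, (Ideal.ne_top_iff_one _).1 q.2.1.ne_top,
            (Ideal.ne_top_iff_one _).1 q'.2.1.ne_top, fun hne => absurd hq' hne⟩
        · obtain ⟨v, w, hv, hw, hvw⟩ := exists_kill h hT q.2 q'.2
            (fun hc => hq' (Subtype.ext hc.symm)) m
          exact ⟨v, w, hv, hw, fun _ => hvw⟩
      choose v w hv hw hvw using key
      let V : B := ∏ q', v q'
      have hV : V ∉ q.1 := by
        intro hc
        obtain ⟨q', -, hq'⟩ := (Ideal.IsPrime.prod_mem_iff (p := q.1)).1 hc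
        exact hv q' hq'
      have hu : (t : B) * V ∈ 𝔞 := by
        rw [hmem]
        refine ⟨V • m, ?_⟩
        funext q'
        rw [toProd_apply, hsmul]
        by_cases hq' : q' = q
        · subst hq'
          rw [Pi.single_eq_same, mul_smul, ← Submonoid.smul_def, LocalizedModule.mk_cancel]
        · rw [Pi.single_eq_of_ne hq']
          refine loc_mk_eq_zero _ _ _ (w q') (hw q') ?_
          have : V = v q' * ∏ x ∈ Finset.univ.erase q', v x :=
            (Finset.mul_prod_erase _ _ (Finset.mem_univ q')).symm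
          rw [this, ← mul_smul, ← mul_assoc, mul_smul, smul_comm, hvw q' hq', smul_zero]
      have := hle hu
      rw [hqq] at this
      rcases Ideal.IsPrime.mem_or_mem q.2.1 this with h3 | h3
      · exact t.2 h3
      · exact hV h3
    · obtain ⟨v, w, hv, hw, hvw⟩ := exists_kill h hT hq'' q.2 hqq m
      have hva : v ∈ 𝔞 := by
        rw [hmem, hsmul]
        have : LocalizedModule.mk (v • m) t = 0 :=
          loc_mk_eq_zero _ _ _ w hw (by rw [← mul_smul]; exact hvw)
        rw [this, Pi.single_zero]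
        exact zero_mem _
      exact hv (hle hva)
  obtain ⟨s, hs, hsa⟩ := exists_primeCompl_mem 𝔞 k h1 h2
  obtain ⟨m0, hm0⟩ := (hmem _).1 hsa
  obtain ⟨m1, hm1⟩ := (hS s hs).2 m0
  refine ⟨m1, ?_⟩
  have hinj : ∀ x : (∀ q : PrimesOver (B := B) p, Loc p M q), algebraMap A B s • x = 0 → x = 0 := by
    intro x hx
    funext q'
    refine loc_eq_zero_of_smul_eq_zero _ (algebraMap A B s) ?_ (x q') (congrFun hx q')
    intro m' hm'
    exact (hS s hs).1 (by simpa using hm')
  have : toProd p M m1 - n = 0 := by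
    apply hinj
    rw [smul_sub, ← map_smul]
    simp only at hm1
    rw [hm1, hm0, sub_self]
  exact sub_eq_zero.mp this

open Classical in
theorem toProd_bijective (h : Unram (B := B) p) (hT : PowTors (B := B) p M)
    (hS : ∀ s ∈ p.primeCompl, Function.Bijective (fun m : M => algebraMap A B s • m)) :
    Function.Bijective (toProd (B := B) p M) := by
  haveI : Fintype (PrimesOver (B := B) p) := (finite_primesOver h).fintype
  constructor
  · rw [injective_iff_map_eq_zero]
    intro m hm
    let 𝔞 : Ideal B := LinearMap.ker (LinearMap.toSpanSingleton B M m)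
    have hmem : ∀ b, b ∈ 𝔞 ↔ b • m = 0 := by
      intro b
      simp only [𝔞, LinearMap.mem_ker, LinearMap.toSpanSingleton_apply]
    obtain ⟨k, hk⟩ := hT m
    obtain ⟨s, hs, hsa⟩ := exists_primeCompl_mem 𝔞 k (fun b hb => (hmem b).2 (hk b hb)) (by
      intro q hq hle
      have h0 : toProd p M m ⟨q, hq⟩ = 0 := by rw [hm]; rfl
      have h1 : m ∈ LinearMap.ker (LocalizedModule.mkLinearMap (Ideal.primeCompl q (hp := hq.1)) M) := h0
      rw [LocalizedModule.mem_ker_mkLinearMap_iff] at h1
      obtain ⟨r, hr, hrm⟩ := h1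
      exact hr (hle ((hmem r).2 hrm)))
    exact (hS s hs).1 (by simpa using (hmem _).1 hsa)
  · intro n
    rw [← Finset.univ_sum_single n]
    exact (LinearMap.range (toProd p M)).sum_mem fun q _ => single_mem_range h hT hS q (n q)

end Main

end Groth.Agent.R2.H8.InjBC
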