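import Mathlib
import Groth.Agent.R2.H8InjBC
import Groth.Agent.S0312
import Groth.Agent.S8925
import Groth.Agent.S0311
import Groth.Agent.S0299
import Groth.Agent.S0302
import Groth.Agent.S0306
import Groth.Agent.S0307
import Groth.Agent.S0300

/-!
# Base change of injective modules, part 2 (helper8)

The localizations of `B ⊗_A E` at the primes over `p` are injective `B`-modules, when `E` is the
injective hull of the residue field of `A_p`.
-/

set_option autoImplicit false
set_option linter.style.haveILetI false
universe u

namespace Groth.Agent.R2.H8.InjBC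

open scoped TensorProduct
open IsLocalRing

lemma injective_of_linearEquiv {R : Type u} [CommRing R] {M N : Type u} [AddCommGroup M]
    [AddCommGroup N] [Module R M] [Module R N] (e : M ≃ₗ[R] N) (h : Module.Injective R M) :
    Module.Injective R N :=
  (Module.Baer.of_equiv e (Module.Baer.of_injective h)).injective

section Part2

variable (A B : Type u) [CommRing A] [CommRing B] [Algebra A B] [IsNoetherianRing A]
  [IsNoetherianRing B] [Module.Flat A B]
variable (p : Ideal A) [p.IsPrime] (q : Ideal B) [q.IsPrime] [q.LiesOver p]
variable (E : Type u) [AddCommGroup E] [Module A E] [Module (Localization.AtPrime p) E]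
  [IsScalarTower A (Localization.AtPrime p) E]

theorem injective_loc_tensor
    (hq : (p.map (algebraMap A B)).map (algebraMap B (Localization.AtPrime q)) =
      maximalIdeal (Localization.AtPrime q))
    (f : ResidueField (Localization.AtPrime p) →ₗ[Localization.AtPrime p] E)
    (hf : InjHull.IsInjectiveHull f) :
    Module.Injective B (LocalizedModule q.primeCompl (B ⊗[A] E)) := by
  letI : Algebra (Localization.AtPrime p) (Localization.AtPrime q) :=
    Localization.AtPrime.algebraOfLiesOver p q
  haveI : IsScalarTower A (Localization.AtPrime p) (Localization.AtPrime q) := inferInstance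
  haveI : IsLocalHom (algebraMap (Localization.AtPrime p) (Localization.AtPrime q)) :=
    Localization.isLocalHom_localRingHom _ _ _ Ideal.LiesOver.over
  haveI : Module.Flat (Localization.AtPrime p) (Localization.AtPrime q) := inferInstance
  have hm : (maximalIdeal (Localization.AtPrime p)).map
      (algebraMap (Localization.AtPrime p) (Localization.AtPrime q)) =
      maximalIdeal (Localization.AtPrime q) := by
    rw [← Localization.AtPrime.map_eq_maximalIdeal, Ideal.map_map, ← hq, Ideal.map_map,
      ← IsScalarTower.algebraMap_eq, ← IsScalarTower.algebraMap_eq]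
  obtain ⟨g, hg⟩ := Groth.Agent.S0312.result (Localization.AtPrime p) (Localization.AtPrime q)
    hm E f hf
  have inj1 : Module.Injective (Localization.AtPrime q)
      ((Localization.AtPrime q) ⊗[Localization.AtPrime p] E) := hg.isInjective
  haveI : IsLocalizedModule p.primeCompl (LinearMap.id : E →ₗ[A] E) :=
    isLocalizedModule_id p.primeCompl E (Localization.AtPrime p)
  let e0 : (Localization.AtPrime p) ⊗[A] E ≃ₗ[Localization.AtPrime p] E :=
    (IsLocalizedModule.isBaseChange p.primeCompl (Localization.AtPrime p)
      (LinearMap.id : E →ₗ[A] E)).equiv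
  let e1 : (Localization.AtPrime q) ⊗[Localization.AtPrime p] ((Localization.AtPrime p) ⊗[A] E)
      ≃ₗ[Localization.AtPrime q] (Localization.AtPrime q) ⊗[Localization.AtPrime p] E :=
    TensorProduct.AlgebraTensorModule.congr (LinearEquiv.refl _ _) e0
  let e2 : (Localization.AtPrime q) ⊗[Localization.AtPrime p] ((Localization.AtPrime p) ⊗[A] E)
      ≃ₗ[Localization.AtPrime q] (Localization.AtPrime q) ⊗[A] E :=
    TensorProduct.AlgebraTensorModule.cancelBaseChange A (Localization.AtPrime p)
      (Localization.AtPrime q) (Localization.AtPrime q) E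
  let e3 : (Localization.AtPrime q) ⊗[B] (B ⊗[A] E)
      ≃ₗ[Localization.AtPrime q] (Localization.AtPrime q) ⊗[A] E :=
    TensorProduct.AlgebraTensorModule.cancelBaseChange A B
      (Localization.AtPrime q) (Localization.AtPrime q) E
  let e4 : (Localization.AtPrime q) ⊗[B] (B ⊗[A] E)
      ≃ₗ[Localization.AtPrime q] LocalizedModule q.primeCompl (B ⊗[A] E) :=
    (LocalizedModule.isBaseChange q.primeCompl (B ⊗[A] E)).equiv
  have inj2 : Module.Injective (Localization.AtPrime q)
      (LocalizedModule q.primeCompl (B ⊗[A] E)) :=
    injective_of_linearEquiv (e1.symm ≪≫ₗ e2 ≪≫ₗ e3.symm ≪≫ₗ e4) inj1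
  exact Groth.Agent.S8925.result B (Localization.AtPrime q) _

end Part2

end Groth.Agent.R2.H8.InjBC
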