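import Mathlib
import Groth.Agent.R2.H8InjBC2

/-!
# Base change of injective modules, part 3 (helper8): assembling.
-/

set_option autoImplicit false
set_option linter.style.haveILetI false
universe u

namespace Groth.Agent.R2.H8.InjBC

open scoped TensorProduct
open IsLocalRing

section Part3

variable (A B : Type u) [CommRing A] [CommRing B] [Algebra A B]

/-- the hypothesis of the statement, for all primes of `B` -/
def UnramAll : Prop := ∀ q : PrimeSpectrum B,
  Ideal.map (algebraMap B (Localization.AtPrime q.asIdeal))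
    ((q.asIdeal.comap (algebraMap A B)).map (algebraMap A B)) =
    IsLocalRing.maximalIdeal (Localization.AtPrime q.asIdeal)

variable {A B}

lemma unram_of_unramAll (h : UnramAll A B) (p : Ideal A) : Unram (B := B) p := by
  intro q hq x hx
  haveI := hq.1
  have h1 := h ⟨q, hq.1⟩
  simp only [hq.2] at h1
  have hx' : algebraMap B (Localization.AtPrime q) x ∈
      IsLocalRing.maximalIdeal (Localization.AtPrime q) := by
    rw [← Localization.AtPrime.map_eq_maximalIdeal]
    exact Ideal.mem_map_of_mem _ hx
  rw [← h1, IsLocalization.mem_map_algebraMap_iff q.primeCompl] at hx'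
  obtain ⟨⟨a, t⟩, hat⟩ := hx'
  rw [← map_mul, IsLocalization.eq_iff_exists q.primeCompl] at hat
  obtain ⟨c, hc⟩ := hat
  refine ⟨c * t, ?_, ?_⟩
  · exact fun hmem => (c * t).2 hmem
  · have : (c : B) * (t : B) * x = c * a := by
      rw [mul_assoc, mul_comm (t : B) x]; exact hc
    rw [this]
    exact Ideal.mul_mem_left _ _ a.2

variable (p : Ideal A) [p.IsPrime]
variable (E : Type u) [AddCommGroup E] [Module A E] [Module (Localization.AtPrime p) E]
  [IsScalarTower A (Localization.AtPrime p) E]

omit [p.IsPrime] [Module (Localization.AtPrime p) E] [IsScalarTower A (Localization.AtPrime p) E] in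
lemma powTors_tensor (hE : ∀ e : E, ∃ k : ℕ, ∀ a ∈ p ^ k, a • e = 0) :
    PowTors (B := B) p (B ⊗[A] E) := by
  intro m
  induction m using TensorProduct.induction_on with
  | zero => exact ⟨0, fun b _ => smul_zero b⟩
  | tmul b e =>
    obtain ⟨k, hk⟩ := hE e
    refine ⟨k, fun b' hb' => ?_⟩
    rw [extIdeal, ← Ideal.map_pow] at hb'
    refine Submodule.span_induction (p := fun c _ => c • (b ⊗ₜ[A] e) = 0) ?_ ?_ ?_ ?_ hb'
    · rintro _ ⟨a, ha, rfl⟩
      rw [TensorProduct.smul_tmul', smul_eq_mul, ← Algebra.smul_def, TensorProduct.smul_tmul,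
        hk a ha, TensorProduct.tmul_zero]
    · exact zero_smul _ _
    · intro c d _ _ hc hd
      rw [add_smul, hc, hd, add_zero]
    · intro c d _ hd
      rw [smul_eq_mul, mul_smul, hd, smul_zero]
  | add x y hx hy =>
    obtain ⟨k, hk⟩ := hx
    obtain ⟨l, hl⟩ := hy
    refine ⟨max k l, fun b hb => ?_⟩
    rw [smul_add, hk b (Ideal.pow_le_pow_right (le_max_left k l) hb),
      hl b (Ideal.pow_le_pow_right (le_max_right k l) hb), add_zero]

lemma powTors_of_hull [IsNoetherianRing A]
    (f : ResidueField (Localization.AtPrime p) →ₗ[Localization.AtPrime p] E)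
    (hf : InjHull.IsInjectiveHull f) : ∀ e : E, ∃ k : ℕ, ∀ a ∈ p ^ k, a • e = 0 := by
  intro e
  obtain ⟨k, hk⟩ := Groth.Agent.S0311.result (Localization.AtPrime p) E f hf e
  refine ⟨k, fun a ha => ?_⟩
  rw [← algebraMap_smul (Localization.AtPrime p) a e]
  apply hk
  rw [← Localization.AtPrime.map_eq_maximalIdeal, ← Ideal.map_pow]
  exact Ideal.mem_map_of_mem _ ha

lemma smul_bijective_tensor (s : A) (hs : s ∈ p.primeCompl) :
    Function.Bijective (fun m : B ⊗[A] E => algebraMap A B s • m) := by
  have hu : IsUnit (algebraMap A (Localization.AtPrime p) s) :=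
    IsLocalization.map_units (Localization.AtPrime p) ⟨s, hs⟩
  obtain ⟨u, hu⟩ := hu
  let ψ : E →ₗ[A] E := s • LinearMap.id
  let ψi : E →ₗ[A] E :=
    ((↑u⁻¹ : Localization.AtPrime p) • (LinearMap.id : E →ₗ[Localization.AtPrime p] E)).restrictScalars A
  have h1 : ψi ∘ₗ ψ = LinearMap.id := by
    ext e
    simp only [ψ, ψi, LinearMap.comp_apply, LinearMap.smul_apply, LinearMap.id_apply,
      LinearMap.restrictScalars_apply]
    rw [← algebraMap_smul (Localization.AtPrime p) s e, ← hu, ← mul_smul, Units.inv_mul, one_smul]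
  have h2 : ψ ∘ₗ ψi = LinearMap.id := by
    ext e
    simp only [ψ, ψi, LinearMap.comp_apply, LinearMap.smul_apply, LinearMap.id_apply,
      LinearMap.restrictScalars_apply]
    rw [← algebraMap_smul (Localization.AtPrime p) s, ← hu, ← mul_smul, Units.mul_inv, one_smul]
  have h3 : ∀ m : B ⊗[A] E, algebraMap A B s • m = LinearMap.lTensor B ψ m := by
    intro m
    induction m using TensorProduct.induction_on with
    | zero => simp
    | tmul b e =>
      rw [LinearMap.lTensor_tmul, TensorProduct.smul_tmul', smul_eq_mul, ← Algebra.smul_def,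
        TensorProduct.smul_tmul]
      rfl
    | add x y hx hy => rw [smul_add, hx, hy, map_add]
  rw [Function.bijective_iff_has_inverse]
  refine ⟨LinearMap.lTensor B ψi, fun m => ?_, fun m => ?_⟩
  · simp only [h3]
    rw [← LinearMap.comp_apply, ← LinearMap.lTensor_comp, h1, LinearMap.lTensor_id,
      LinearMap.id_apply]
  · simp only [h3]
    rw [← LinearMap.comp_apply, ← LinearMap.lTensor_comp, h2, LinearMap.lTensor_id,
      LinearMap.id_apply]

open Classical in
/-- the case of the injective hull of the residue field of `A_p` -/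
theorem injective_tensor_hull [IsNoetherianRing A] [IsNoetherianRing B] [Module.Flat A B]
    (h : UnramAll A B)
    (f : ResidueField (Localization.AtPrime p) →ₗ[Localization.AtPrime p] E)
    (hf : InjHull.IsInjectiveHull f) : Module.Injective B (B ⊗[A] E) := by
  have hU := unram_of_unramAll h p
  have hT : PowTors (B := B) p (B ⊗[A] E) := powTors_tensor p E (powTors_of_hull p E f hf)
  have hS : ∀ s ∈ p.primeCompl, Function.Bijective (fun m : B ⊗[A] E => algebraMap A B s • m) :=
    fun s hs => smul_bijective_tensor p E s hs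
  have hbij := toProd_bijective hU hT hS
  haveI : ∀ q : PrimesOver (B := B) p, Module.Injective B (Loc p (B ⊗[A] E) q) := by
    intro q
    haveI : q.1.LiesOver p := ⟨q.2.2.symm⟩
    have h1 := h ⟨q.1, q.2.1⟩
    simp only [q.2.2] at h1
    exact injective_loc_tensor A B p q.1 E h1 f hf
  have hprod : Module.Injective B (∀ q : PrimesOver (B := B) p, Loc p (B ⊗[A] E) q) :=
    inferInstance
  exact (Module.Baer.of_equiv (LinearEquiv.ofBijective _ hbij).symm
    (Module.Baer.of_injective hprod)).injective

end Part3


section Part4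

variable {A : Type u} [CommRing A] (p : Ideal A) [p.IsPrime]
variable (E : Type u) [AddCommGroup E] [Module A E] [Module (Localization.AtPrime p) E]
  [IsScalarTower A (Localization.AtPrime p) E]

/-- the injective hull of the residue field of `A_p` over `A_p` is also its injective hull over `A` -/
lemma isInjectiveHull_restrictScalars
    (f : p.ResidueField →ₗ[Localization.AtPrime p] E) (hf : InjHull.IsInjectiveHull f) :
    InjHull.IsInjectiveHull (f.restrictScalars A) := by
  refine ⟨⟨hf.injective, ?_⟩, ?_⟩
  · intro N hN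
    obtain ⟨x, hxN, hx0⟩ := Submodule.exists_mem_ne_zero_of_ne_bot hN
    have hN' : Submodule.span (Localization.AtPrime p) {x} ≠ ⊥ := by
      rw [Ne, Submodule.span_singleton_eq_bot]
      exact hx0
    obtain ⟨y, hy, hy0⟩ := Submodule.exists_mem_ne_zero_of_ne_bot (hf.essential _ hN')
    obtain ⟨hy1, ⟨z, hz⟩⟩ := hy
    obtain ⟨c, hc⟩ := Submodule.mem_span_singleton.mp hy1
    obtain ⟨a, s, rfl⟩ := IsLocalization.exists_mk'_eq p.primeCompl c
    have hsy : (s : A) • y = a • x := by
      rw [← hc, ← algebraMap_smul (Localization.AtPrime p) (s : A), ← mul_smul,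
        IsLocalization.mk'_spec', algebraMap_smul]
    have hne : (s : A) • y ≠ 0 := by
      intro h0
      rw [← algebraMap_smul (Localization.AtPrime p) (s : A)] at h0
      have hu : IsUnit (algebraMap A (Localization.AtPrime p) (s : A)) :=
        IsLocalization.map_units (Localization.AtPrime p) s
      exact hy0 ((hu.smul_eq_zero).mp h0)
    intro hbot
    have hmem : (s : A) • y ∈ N ⊓ LinearMap.range (f.restrictScalars A) := by
      refine ⟨?_, ⟨(s : A) • z, ?_⟩⟩
      · rw [hsy]; exact N.smul_mem a hxN
      · rw [map_smul, LinearMap.restrictScalars_apply, hz]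
    rw [hbot] at hmem
    exact hne ((Submodule.mem_bot A).mp hmem)
  · haveI := hf.isInjective
    exact Groth.Agent.S8925.result A (Localization.AtPrime p) E

end Part4

end Groth.Agent.R2.H8.InjBC
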