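import Groth.Agent.S0306
import Groth.Agent.S0307
import Groth.Agent.S0299
import Groth.Agent.S0302
import Groth.Agent.S0308
import Groth.Agent.S5157
import Groth.Agent.S0311
import Groth.Agent.R2.H8InjBC3
import Mathlib.RingTheory.HopkinsLevitzki

/-!
# Injective modules over Noetherian rings as filtered colimits of modules finite over Artinian algebras

helper50, for S10787.
-/

set_option autoImplicit false
set_option linter.style.haveILetI false
universe u
open CategoryTheory CategoryTheory.Limits

namespace Groth.Agent.R2.H50.InjArt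

/-- `X` carries a compatible structure of finite module over some Artinian `A`-algebra. -/
def Good (A : Type u) [CommRing A] (X : Type u) [AddCommGroup X] [Module A X] : Prop :=
  ∃ (B : Type u) (_ : CommRing B) (_ : Algebra A B) (_ : IsArtinianRing B)
    (_ : Module B X) (_ : IsScalarTower A B X), Module.Finite B X

section Local

open IsLocalRing

variable (R : Type u) [CommRing R] [IsLocalRing R] [IsNoetherianRing R]

lemma isArtinianRing_quot_pow (n : ℕ) : IsArtinianRing (R ⧸ maximalIdeal R ^ (n + 1)) := by
  have hmin : maximalIdeal R ∈ (maximalIdeal R ^ (n + 1)).minimalPrimes := by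
    refine ⟨⟨inferInstance, Ideal.pow_le_self (Nat.succ_ne_zero n)⟩, ?_⟩
    rintro q ⟨hq, hle⟩ _
    exact hq.le_of_pow_le hle
  exact IsLocalRing.quotient_artinian_of_mem_minimalPrimes_of_isLocalRing _ hmin

variable (E : Type u) [AddCommGroup E] [Module R E]
  (f : IsLocalRing.ResidueField R →ₗ[R] E) (hf : InjHull.IsInjectiveHull f)

include hf in
/-- `E[m^(n+1)]` is a finite module over `R/m^(n+1)`. -/
lemma finite_torsion (n : ℕ) :
    Module.Finite (R ⧸ maximalIdeal R ^ (n + 1))
      (Submodule.torsionBySet R E ((maximalIdeal R ^ (n + 1) : Ideal R) : Set R)) := by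
  haveI : Nontrivial (R ⧸ maximalIdeal R ^ (n + 1)) :=
    Ideal.Quotient.nontrivial_iff.mpr
      (fun h => (maximalIdeal.isMaximal R).ne_top
        (top_le_iff.mp (h ▸ Ideal.pow_le_self (Nat.succ_ne_zero n))))
  haveI : IsLocalRing (R ⧸ maximalIdeal R ^ (n + 1)) :=
    IsLocalRing.of_surjective' (Ideal.Quotient.mk _) Ideal.Quotient.mk_surjective
  haveI : IsArtinianRing (R ⧸ maximalIdeal R ^ (n + 1)) := isArtinianRing_quot_pow R n
  obtain ⟨g, hg⟩ := Groth.Agent.S5157.result R (maximalIdeal R ^ (n + 1)) E f hf
  have h1 := Groth.Agent.S0308.result (R ⧸ maximalIdeal R ^ (n + 1))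
    (LocCoh.torsionBy (maximalIdeal R ^ (n + 1)) E) g hg (R ⧸ maximalIdeal R ^ (n + 1))
  have h2 : Module.length (R ⧸ maximalIdeal R ^ (n + 1))
      (LocCoh.torsionBy (maximalIdeal R ^ (n + 1)) E) =
      Module.length (R ⧸ maximalIdeal R ^ (n + 1)) (R ⧸ maximalIdeal R ^ (n + 1)) := by
    rw [← h1]
    exact (LinearMap.ringLmapEquivSelf (R ⧸ maximalIdeal R ^ (n + 1))
      (R ⧸ maximalIdeal R ^ (n + 1)) _).symm.length_eq
  have h3 : IsFiniteLength (R ⧸ maximalIdeal R ^ (n + 1))
      (LocCoh.torsionBy (maximalIdeal R ^ (n + 1)) E) := by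
    rw [← Module.length_ne_top_iff, h2, Module.length_ne_top_iff]
    exact (isArtinianRing_iff_isFiniteLength _).mp inferInstance
  haveI := (isFiniteLength_iff_isNoetherian_isArtinian.mp h3).1
  exact Module.IsNoetherian.finite _ _

end Local


section GoodLemmas

variable {A : Type u} [CommRing A]

/-- `Good` transfers along `A`-linear equivalences. -/
lemma Good.of_linearEquiv {X Y : Type u} [AddCommGroup X] [Module A X] [AddCommGroup Y]
    [Module A Y] (e : X ≃ₗ[A] Y) (h : Good A Y) : Good A X := by
  obtain ⟨B, _, _, hB, _, _, hfin⟩ := h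
  letI : SMul B X := ⟨fun b x => e.symm (b • e x)⟩
  have hsmul : ∀ (b : B) (x : X), b • x = e.symm (b • e x) := fun _ _ => rfl
  letI : Module B X :=
    Function.Injective.module B e.toAddMonoidHom e.injective (fun b x => by
      change e (b • x) = b • e x
      rw [hsmul, LinearEquiv.apply_symm_apply])
  have hT : IsScalarTower A B X := ⟨fun a b x => by
    rw [hsmul, hsmul, smul_assoc, map_smul]⟩
  refine ⟨B, inferInstance, inferInstance, hB, inferInstance, hT, ?_⟩
  let eB : X ≃ₗ[B] Y :=
    { e.toAddEquiv with
      map_smul' := fun b x => by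
        change e (b • x) = b • e x
        rw [hsmul, LinearEquiv.apply_symm_apply] }
  exact Module.Finite.equiv eB.symm

/-- finiteness over a finite product of rings, componentwise -/
lemma finite_pi' {κ : Type u} [Finite κ] (B : κ → Type u) [∀ k, CommRing (B k)]
    (X : κ → Type u) [∀ k, AddCommGroup (X k)] [∀ k, Module (B k) (X k)]
    [∀ k, Module.Finite (B k) (X k)] : Module.Finite (∀ k, B k) (∀ k, X k) := by
  classical
  cases nonempty_fintype κ
  choose s hs using fun k => (Module.finite_def.mp (inferInstance : Module.Finite (B k) (X k)))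
  refine ⟨⟨Finset.univ.biUnion fun k => (s k).image (Pi.single k), ?_⟩⟩
  rw [eq_top_iff]
  rintro y -
  have hy : y = ∑ k, Pi.single k (y k) := by
    ext j
    simp [Finset.sum_apply]
  rw [hy]
  refine Submodule.sum_mem _ fun k _ => ?_
  have hk : y k ∈ Submodule.span (B k) (s k : Set (X k)) := by rw [hs k]; trivial
  generalize y k = z at hk
  induction hk using Submodule.span_induction with
  | mem x hx =>
    refine Submodule.subset_span ?_
    simp only [Finset.coe_biUnion, Finset.coe_univ, Set.mem_univ, Set.iUnion_true,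
      Finset.coe_image, Set.mem_iUnion, Set.mem_image, Finset.mem_coe]
    exact ⟨k, x, hx, rfl⟩
  | zero => simp
  | add x x' _ _ hx hx' =>
    rw [Pi.single_add]
    exact Submodule.add_mem _ hx hx'
  | smul b x _ hx =>
    have : (Pi.single k (b • x) : ∀ k, X k) = (Pi.single k b : ∀ k, B k) • Pi.single k x := by
      ext j
      by_cases hj : j = k
      · subst hj; simp
      · simp [Pi.single_eq_of_ne hj]
    rw [this]
    exact Submodule.smul_mem _ _ hx

/-- `Good` for finite products. -/
lemma Good.pi {κ : Type u} [Finite κ] (X : κ → Type u) [∀ k, AddCommGroup (X k)]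
    [∀ k, Module A (X k)] (h : ∀ k, Good A (X k)) : Good A (∀ k, X k) := by
  choose B hB1 hB2 hB3 hB4 hB5 hB6 using h
  letI := hB1
  letI := hB2
  letI := hB4
  haveI := hB3
  haveI := hB5
  haveI := hB6
  exact ⟨∀ k, B k, inferInstance, inferInstance, inferInstance, inferInstance, inferInstance,
    finite_pi' B X⟩

end GoodLemmas

section Piece

open IsLocalRing

variable {A : Type u} [CommRing A] [IsNoetherianRing A] {J : Type u} [AddCommGroup J] [Module A J]

/-- the power-torsion pieces of the injective hull of the residue field of a localization are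
`Good` over the base ring -/
lemma good_torsion (p : Ideal A) [p.IsPrime] (E' : Type u) [AddCommGroup E']
    [Module (Localization.AtPrime p) E'] [Module A E']
    [IsScalarTower A (Localization.AtPrime p) E']
    (f' : p.ResidueField →ₗ[Localization.AtPrime p] E') (hf' : InjHull.IsInjectiveHull f') (n : ℕ) :
    Good A (Submodule.torsionBySet (Localization.AtPrime p) E'
      ((maximalIdeal (Localization.AtPrime p) ^ (n + 1) : Ideal (Localization.AtPrime p)) :
        Set (Localization.AtPrime p))) :=
  ⟨Localization.AtPrime p ⧸ maximalIdeal (Localization.AtPrime p) ^ (n + 1), inferInstance,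
    inferInstance, isArtinianRing_quot_pow _ n, inferInstance, inferInstance,
    finite_torsion (Localization.AtPrime p) E' f' hf' n⟩

/-- an indecomposable injective submodule is an increasing union of `Good` submodules -/
lemma exists_filtration (E : Submodule A J) (hE : InjHull.IsIndecomposable A E)
    (hinj : Module.Injective A E) :
    ∃ N : ℕ → Submodule A J, Monotone N ∧ (∀ n, N n ≤ E) ∧ (∀ x ∈ E, ∃ n, x ∈ N n) ∧
      ∀ n, Good A (N n) := by
  obtain ⟨p, hp, g, hg⟩ := Groth.Agent.S0306.result A E hE hinj
  obtain ⟨E', _, _, f', hf'⟩ := Groth.Agent.S0299.result (Localization.AtPrime p) p.ResidueField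
  letI : Module A E' := Module.compHom E' (algebraMap A (Localization.AtPrime p))
  haveI : IsScalarTower A (Localization.AtPrime p) E' :=
    IsScalarTower.of_algebraMap_smul fun _ _ => rfl
  have hres := Groth.Agent.R2.H8.InjBC.isInjectiveHull_restrictScalars p E' f' hf'
  obtain ⟨e, -⟩ := Groth.Agent.S0302.result A p.ResidueField E E' g hg (f'.restrictScalars A) hres
  let T : ℕ → Submodule (Localization.AtPrime p) E' := fun n =>
    Submodule.torsionBySet (Localization.AtPrime p) E'
      ((maximalIdeal (Localization.AtPrime p) ^ (n + 1) : Ideal (Localization.AtPrime p)) :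
        Set (Localization.AtPrime p))
  have hT : Monotone T := by
    intro n m hnm
    exact Submodule.torsionBySet_le_torsionBySet_of_subset
      (Ideal.pow_le_pow_right (Nat.succ_le_succ hnm))
  refine ⟨fun n => (((T n).restrictScalars A).comap e.toLinearMap).map E.subtype, ?_, ?_, ?_, ?_⟩
  · intro n m hnm
    exact Submodule.map_mono (Submodule.comap_mono (fun x hx => hT hnm hx))
  · intro n
    exact Submodule.map_subtype_le _ _
  · intro x hx
    obtain ⟨n, hn⟩ := Groth.Agent.S0311.result (Localization.AtPrime p) E' f' hf' (e ⟨x, hx⟩)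
    refine ⟨n, Submodule.mem_map.mpr ⟨⟨x, hx⟩, ?_, rfl⟩⟩
    change e ⟨x, hx⟩ ∈ T n
    rw [Submodule.mem_torsionBySet_iff]
    rintro ⟨a, ha⟩
    exact hn a (Ideal.pow_le_pow_right (Nat.le_succ n) ha)
  · intro n
    have e1 := (Submodule.equivMapOfInjective E.subtype (Submodule.injective_subtype E)
      (((T n).restrictScalars A).comap e.toLinearMap)).symm
    have e2 := LinearEquiv.ofSubmodule' e ((T n).restrictScalars A)
    have e3 : ↥((T n).restrictScalars A) ≃ₗ[A] ↥(T n) :=
      (Submodule.restrictScalarsEquiv A (Localization.AtPrime p) E' (T n)).restrictScalars A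
    exact Good.of_linearEquiv ((e1.trans e2).trans e3) (good_torsion p E' f' hf' n)

end Piece

section Global

variable (A : Type u) [CommRing A] [IsNoetherianRing A] (J : Type u) [AddCommGroup J] [Module A J]

omit [IsNoetherianRing A] in
/-- independent finite sums of `Good` submodules are `Good` -/
lemma good_biSup {ι : Type u} (N : ι → Submodule A J) (hind : iSupIndep N)
    (hgood : ∀ i, Good A (N i)) (S : Finset ι) : Good A ↥(⨆ i ∈ S, N i) := by
  classical
  have hind' : iSupIndep (fun i : S => N i) := hind.comp Subtype.val_injective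
  let ψ : (∀ i : S, N i) →ₗ[A] J :=
    (DFinsupp.lsum ℕ fun i : S => (N i).subtype) ∘ₗ
      (DFinsupp.linearEquivFunOnFintype (R := A) (M := fun i : S => N i)).symm.toLinearMap
  have hψ : Function.Injective ψ := by
    intro x y hxy
    exact (DFinsupp.linearEquivFunOnFintype (R := A) (M := fun i : S => N i)).symm.injective
      (hind'.dfinsupp_lsum_injective hxy)
  have hrange : LinearMap.range ψ = ⨆ i ∈ S, N i := by
    rw [LinearMap.range_comp, LinearEquiv.range, Submodule.map_top,
      ← Submodule.iSup_eq_range_dfinsupp_lsum, iSup_subtype']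
  have e1 : (∀ i : S, N i) ≃ₗ[A] ↥(⨆ i ∈ S, N i) :=
    (LinearEquiv.ofInjective ψ hψ).trans (LinearEquiv.ofEq _ _ hrange)
  exact Good.of_linearEquiv e1.symm (Good.pi (fun i : S => ↥(N i)) fun i => hgood i)

/-- an injective module over a Noetherian ring is a directed union of `Good` submodules -/
lemma exists_directed_good [Module.Injective A J] :
    ∃ (ι : Type u) (M : Finset ι × ℕ → Submodule A J), Monotone M ∧ (∀ x : J, ∃ k, x ∈ M k) ∧
      ∀ k, Good A (M k) := by
  classical
  obtain ⟨ι, E, hInt, hE⟩ := Groth.Agent.S0307.result A J inferInstance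
  choose N hNmono hNle hNex hNgood using
    fun i => exists_filtration (E i) (hE i).1 (hE i).2
  have hmono : Monotone (fun k : Finset ι × ℕ => ⨆ i ∈ k.1, N i k.2) := by
    rintro ⟨S, n⟩ ⟨S', n'⟩ ⟨hS, hn⟩
    exact iSup₂_le fun i hi => le_iSup₂_of_le i (hS hi) (hNmono i hn)
  refine ⟨ι, fun k => ⨆ i ∈ k.1, N i k.2, hmono, ?_, ?_⟩
  · intro x
    have hx : x ∈ ⨆ i, E i := by rw [hInt.submodule_iSup_eq_top]; trivial
    induction hx using Submodule.iSup_induction' with
    | mem i x hx =>
      obtain ⟨n, hn⟩ := hNex i x hx
      refine ⟨({i}, n), ?_⟩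
      exact Submodule.mem_iSup_of_mem i (Submodule.mem_iSup_of_mem (Finset.mem_singleton_self i) hn)
    | zero => exact ⟨(∅, 0), Submodule.zero_mem _⟩
    | add x y _ _ hx hy =>
      obtain ⟨k, hk⟩ := hx
      obtain ⟨k', hk'⟩ := hy
      exact ⟨k ⊔ k', Submodule.add_mem _ (hmono le_sup_left hk) (hmono le_sup_right hk')⟩
  · rintro ⟨S, n⟩
    exact good_biSup A J (fun i => N i n)
      (hInt.submodule_iSupIndep.mono fun i => hNle i n) (fun i => hNgood i n) S

end Global

section Colimit

variable {A : Type u} [CommRing A] {J : Type u} [AddCommGroup J] [Module A J]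
  {P : Type u} [Preorder P] (M : P → Submodule A J) (hM : Monotone M)

/-- the diagram of a monotone family of submodules -/
noncomputable def diagram : P ⥤ ModuleCat.{u} A where
  obj k := ModuleCat.of A (M k)
  map f := ModuleCat.ofHom (Submodule.inclusion (hM (leOfHom f)))
  map_id k := by ext x; rfl
  map_comp f g := by ext x; rfl

/-- the cocone of inclusions into the ambient module -/
noncomputable def cocone : Cocone (diagram M hM) where
  pt := ModuleCat.of A J
  ι :=
    { app := fun k => ModuleCat.ofHom (M k).subtype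
      naturality := fun k l f => by ext x; rfl }

/-- a directed exhaustive family of submodules has the ambient module as its colimit -/
noncomputable def isColimitCocone [IsFiltered P] (hex : ∀ x : J, ∃ k, x ∈ M k) :
    IsColimit (cocone M hM) := by
  haveI : ReflectsColimit (diagram M hM) (forget (ModuleCat.{u} A)) :=
    reflectsColimit_of_reflectsIsomorphisms _ _
  apply isColimitOfReflects (forget (ModuleCat.{u} A))
  apply Types.FilteredColimit.isColimitOf
  · intro x
    obtain ⟨k, hk⟩ := hex x
    exact ⟨k, (⟨x, hk⟩ : M k), rfl⟩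
  · intro i j xi xj h
    refine ⟨IsFiltered.max i j, IsFiltered.leftToMax i j, IsFiltered.rightToMax i j, ?_⟩
    exact Subtype.ext h

end Colimit

/-- S10787: an injective module over a Noetherian ring is a filtered colimit of modules which are
finite over Artinian algebras. -/
theorem exists_filtered_colimit (A : Type u) [CommRing A] [IsNoetherianRing A]
    (J : Type u) [AddCommGroup J] [Module A J] [Module.Injective A J] :
    ∃ (ι : Type u) (_ : SmallCategory ι) (_ : IsFiltered ι) (D : ι ⥤ ModuleCat.{u} A)
      (c : Cocone D) (_ : IsColimit c), Nonempty (c.pt ≅ ModuleCat.of A J) ∧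
      ∀ i : ι, ∃ (B : Type u) (_ : CommRing B) (_ : Algebra A B) (_ : IsArtinianRing B)
        (_ : Module B (D.obj i)) (_ : IsScalarTower A B (D.obj i)), Module.Finite B (D.obj i) := by
  classical
  obtain ⟨ι, M, hM, hex, hgood⟩ := exists_directed_good A J
  exact ⟨Finset ι × ℕ, Preorder.smallCategory _, inferInstance, diagram M hM, cocone M hM,
    isColimitCocone M hM hex, ⟨Iso.refl _⟩, fun k => hgood k⟩

end Groth.Agent.R2.H50.InjArt
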