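import Mathlib

/-!
# Noetherian objects of a Grothendieck abelian category are compact for filtered colimits of monomorphisms
(helper50)

Variant of Mathlib's `IsGrothendieckAbelian.IsPresentable.surjectivity` with the cardinality hypothesis on
`Subobject X` replaced by `IsNoetherianObject X` (and `κ`-filtered by filtered).  Application: a morphism from a
Noetherian object to a coproduct factors through a finite subcoproduct; hence an extension criterion for
coproducts of injectives.
-/

set_option autoImplicit false
set_option linter.unusedSectionVars false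
set_option linter.style.haveILetI false
universe w v u

open CategoryTheory CategoryTheory.Limits Opposite

namespace Groth.Agent.R2.H50.NoethCompact

attribute [local instance] IsFiltered.isConnected

variable {C : Type u} [Category.{v} C] [Abelian C] [IsGrothendieckAbelian.{w} C]
  {X : C} {J : Type w} [SmallCategory J]

open IsGrothendieckAbelian

/-- a filtered family of subobjects of a Noetherian object whose colimit maps epimorphically onto it contains
the whole object -/
lemma exists_isIso_of_functor_from_monoOver [IsFiltered J] [IsNoetherianObject X]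
    (F : J ⥤ MonoOver X)
    (c : Cocone (F ⋙ MonoOver.forget _ ⋙ Over.forget _)) (hc : IsColimit c)
    (f : c.pt ⟶ X) (hf : ∀ (j : J), c.ι.app j ≫ f = (F.obj j).obj.hom) (h : Epi f) :
    ∃ (j : J), IsIso (F.obj j).obj.hom := by
  have := mono_of_isColimit_monoOver F hc f hf
  rw [Subobject.epi_iff_mk_eq_top f, subobjectMk_of_isColimit_eq_iSup F hc f hf] at h
  let s (j : J) : Subobject X := Subobject.mk (F.obj j).obj.hom
  have hs : ∀ {j j' : J} (_ : j ⟶ j'), s j ≤ s j' := fun φ =>
    MonoOver.subobjectMk_le_mk_of_hom (F.map φ)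
  -- a maximal element of the range of `s`
  obtain ⟨_, ⟨j₀, rfl⟩, hmax⟩ :=
    (wellFounded_gt (α := Subobject X)).has_min (Set.range s) ⟨s (Classical.arbitrary J), ⟨_, rfl⟩⟩
  refine ⟨j₀, ?_⟩
  rw [Subobject.isIso_iff_mk_eq_top, ← top_le_iff, ← h, iSup_le_iff]
  intro j
  have h1 : s j₀ ≤ s (IsFiltered.max j₀ j) := hs (IsFiltered.leftToMax j₀ j)
  have h2 : s j ≤ s (IsFiltered.max j₀ j) := hs (IsFiltered.rightToMax j₀ j)
  have h3 : ¬ s (IsFiltered.max j₀ j) > s j₀ := hmax _ ⟨_, rfl⟩
  have h4 : s (IsFiltered.max j₀ j) = s j₀ := by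
    by_contra hne
    exact h3 (lt_of_le_of_ne h1 (Ne.symm hne))
  exact h2.trans h4.le

set_option backward.defeqAttrib.useBackward true in
set_option backward.isDefEq.respectTransparency false in
open IsPresentable IsPresentable.surjectivity in
/-- a morphism from a Noetherian object to a filtered colimit of monomorphisms factors through a stage -/
theorem exists_factor [IsFiltered J] [IsNoetherianObject X] {Y : J ⥤ C} {c : Cocone Y}
    (hc : IsColimit c) [∀ (j j' : J) (φ : j ⟶ j'), Mono (Y.map φ)] (z : X ⟶ c.pt) :
    ∃ (j₀ : J) (y : X ⟶ Y.obj j₀), z = y ≫ c.ι.app j₀ := by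
  have := hc.mono_ι_app_of_isFiltered
  have := NatTrans.mono_of_mono_app c.ι
  obtain ⟨j, _⟩ := exists_isIso_of_functor_from_monoOver (F z) _
    (colimit.isColimit _) (f z) (hf z) (epi_f hc z)
  refine ⟨j, inv ((F z).obj j).obj.hom ≫ (pullback.fst c.ι _).app j, ?_⟩
  dsimp
  rw [Category.assoc, IsIso.eq_inv_comp, ← NatTrans.comp_app, pullback.condition,
    NatTrans.comp_app, Functor.const_map_app]

open CoproductsFromFiniteFiltered

/-- the transition maps between finite subcoproducts are (split) monomorphisms -/
instance mono_liftToFinsetObj_map {ι : Type w} (I : ι → C) {S T : Finset (Discrete ι)} (φ : S ⟶ T) :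
    Mono ((liftToFinsetObj (Discrete.functor I)).map φ) := by
  classical
  let r : (∐ fun x : T => (Discrete.functor I).obj x) ⟶ ∐ fun x : S => (Discrete.functor I).obj x :=
    Sigma.desc fun y => if h : y.1 ∈ S then
      Sigma.ι (fun x : S => (Discrete.functor I).obj x) ⟨y.1, h⟩ else 0
  have hr : (liftToFinsetObj (Discrete.functor I)).map φ ≫ r = 𝟙 _ := by
    apply Sigma.hom_ext
    intro x
    have h1 : Sigma.ι (fun x : S => (Discrete.functor I).obj x) x ≫
        (liftToFinsetObj (Discrete.functor I)).map φ =
        Sigma.ι (fun x : T => (Discrete.functor I).obj x) ⟨x.1, (leOfHom φ) x.2⟩ :=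
      Sigma.ι_desc _ _
    have h2 : Sigma.ι (fun x : T => (Discrete.functor I).obj x) ⟨x.1, (leOfHom φ) x.2⟩ ≫ r =
        Sigma.ι (fun x : S => (Discrete.functor I).obj x) x :=
      (Sigma.ι_desc _ _).trans (dif_pos x.2)
    exact (Category.assoc _ _ _).symm.trans ((congrArg (· ≫ r) h1).trans
      (h2.trans (Category.comp_id _).symm))
  haveI : IsSplitMono ((liftToFinsetObj (Discrete.functor I)).map φ) := ⟨⟨⟨r, hr⟩⟩⟩
  infer_instance

/-- a morphism from a Noetherian object to a coproduct factors through a finite subcoproduct -/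
theorem exists_factor_coprod [IsNoetherianObject X] {ι : Type w} (I : ι → C) (z : X ⟶ ∐ I) :
    ∃ (T : Finset (Discrete ι)) (y : X ⟶ ∐ fun x : T => I x.1.as),
      z = y ≫ Sigma.desc (fun x : T => Sigma.ι I x.1.as) := by
  obtain ⟨T, y, hy⟩ := exists_factor (isColimitFiniteSubproductsCocone I) z
  exact ⟨T, y, hy⟩

/-- a finite coproduct of injective objects is injective -/
theorem injective_finite_coprod {α : Type w} [Finite α] (f : α → C) [∀ a, Injective (f a)] :
    Injective (∐ f) := by
  haveI : HasFiniteBiproducts C := Abelian.hasFiniteBiproducts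
  exact Injective.of_iso (biproduct.isoCoproduct f) inferInstance

/-- **Extension property**: a morphism from a subobject of a Noetherian object to a coproduct of injectives
extends to the whole object. -/
theorem exists_extension {N S : C} [IsNoetherianObject N] (i : S ⟶ N) [Mono i] {ι : Type w}
    (I : ι → C) [∀ j, Injective (I j)] (φ : S ⟶ ∐ I) : ∃ ψ : N ⟶ ∐ I, i ≫ ψ = φ := by
  haveI : IsNoetherianObject S := isNoetherianObject_of_mono i
  obtain ⟨T, y, hy⟩ := exists_factor_coprod I φ
  haveI : Injective (∐ fun x : T => I x.1.as) := injective_finite_coprod _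
  refine ⟨Injective.factorThru y i ≫ Sigma.desc (fun x : T => Sigma.ι I x.1.as), ?_⟩
  rw [← Category.assoc, Injective.comp_factorThru, hy]

end Groth.Agent.R2.H50.NoethCompact
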