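import Mathlib
import Groth.Prelude.Def_CxOX
import Groth.Agent.S0484
import Groth.Agent.Lib.Helper16BaerFamily
import Groth.Agent.Lib.Helper20Triv
import Groth.Agent.R2.H50ExtZero
import Groth.Agent.R2.H50NoethCompact
import Groth.Agent.S11158

/-!
# Baer criterion for `O_X`-modules with the generators `j_! O_U` (`U` affine open), and coproducts of
injectives on locally Noetherian schemes (helper50)
-/

set_option autoImplicit false
set_option linter.style.haveILetI false
set_option linter.unusedSectionVars false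
universe u
open CategoryTheory CategoryTheory.Limits AlgebraicGeometry Opposite TopologicalSpace MorphismProperty

namespace Groth.Agent.R2.H50.InjCoprod

open Groth.Agent.Lib.Helper4.NormDelta Groth.Agent.R2.H50.IdealChain
open Groth.Agent.Lib.Helper16.BaerFamily

variable {X : Scheme.{u}}

/-- a global section of a module is the image of `1` under a morphism from the structure module -/
theorem exists_hom_of_section {Y : Scheme.{u}} (N : Y.Modules) (s : Γ(N, ⊤)) :
    ∃ ψ : Coh.structureModule Y ⟶ N, ψ.app ⊤ (1 : Γ(Y, ⊤)) = s := by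
  let σ := Groth.Agent.Lib.Helper21.UnitHom.secOf (Groth.Agent.Lib.Helper20.Triv.isTerminalTop Y) N s
  refine ⟨(SheafOfModules.unitHomEquiv N).symm σ, ?_⟩
  change ((SheafOfModules.unitHomEquiv N) ((SheafOfModules.unitHomEquiv N).symm σ)).val (Opposite.op ⊤) = s
  rw [Equiv.apply_symm_apply]
  change N.val.map ((Groth.Agent.Lib.Helper20.Triv.isTerminalTop Y).from ⊤).op s = s
  have h : ((Groth.Agent.Lib.Helper20.Triv.isTerminalTop Y).from ⊤).op = 𝟙 (Opposite.op ⊤) := by
    apply Quiver.Hom.unop_inj
    exact Subsingleton.elim _ _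
  rw [h]
  exact Groth.Agent.Lib.Helper21.UnitHom.map_id_apply' _ _ _

/-- a monomorphism through which every morphism from every `j_! O_U` (`U` affine open) factors is an
isomorphism -/
theorem isIso_of_factor {A B : X.Modules} (p : A ⟶ B) [Mono p]
    (h : ∀ (U : X.affineOpens) (f : CxOX.extZeroUnit U.1.ι ⟶ B),
      ∃ a : CxOX.extZeroUnit U.1.ι ⟶ A, a ≫ p = f) : IsIso p := by
  haveI : Epi p := by
    refine epi_of_stalkLin_surjective p fun y b => ?_
    obtain ⟨W, hyW, s0, rfl⟩ := B.presheaf.exists_germ_eq b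
    obtain ⟨U, hU, hyU, hUW⟩ := exists_isAffineOpen_mem_and_subset (x := y) (U := W) hyW
    have hU' : U.ι ''ᵁ ⊤ = U := U.ι_image_top
    have hle : U.ι ''ᵁ ⊤ ≤ W := hU'.le.trans hUW
    have hy' : y ∈ U.ι ''ᵁ ⊤ := by rw [hU']; exact hyU
    let s : Γ(B.restrict U.ι, ⊤) := B.presheaf.map (homOfLE hle).op s0
    obtain ⟨σ, hσ⟩ := exists_hom_of_section (B.restrict U.ι) s
    obtain ⟨a, ha⟩ := h ⟨U, hU⟩ (((CxOX.extZeroAdj U.ι).homEquiv _ _).symm σ)
    let a' := (CxOX.extZeroAdj U.ι).homEquiv _ _ a
    have h1 : a' ≫ (Scheme.Modules.restrictFunctor U.ι).map p = σ := by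
      rw [← Adjunction.homEquiv_naturality_right, ha, Equiv.apply_symm_apply]
    let t : Γ(A, U.ι ''ᵁ ⊤) := a'.app ⊤ (1 : Γ((U : Scheme.{u}), ⊤))
    refine ⟨A.presheaf.germ (U.ι ''ᵁ ⊤) y hy' t, ?_⟩
    rw [stalkLin_germ]
    have h2 : Scheme.Modules.Hom.app p (U.ι ''ᵁ ⊤) t = s := by
      rw [← hσ, ← h1]
      rfl
    rw [h2]
    exact TopCat.Presheaf.germ_res_apply B.presheaf (homOfLE hle) y hy' s0
  exact isIso_of_mono_of_epi p

/-- the class of inclusions of subobjects of the `j_! O_U` (`U` affine open), together with the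
isomorphisms -/
def W (X : Scheme.{u}) : MorphismProperty X.Modules :=
  (⨆ U : X.affineOpens,
    IsGrothendieckAbelian.generatingMonomorphisms (CxOX.extZeroUnit U.1.ι)) ⊔
    MorphismProperty.isomorphisms _

theorem gen_W : Gen (W X) where
  iso_le := le_trans le_sup_right (MorphismProperty.le_pushouts _)
  exists_pushouts {A B} p _ hp := by
    have : ¬ ∀ (U : X.affineOpens) (f : CxOX.extZeroUnit U.1.ι ⟶ B),
        ∃ a : CxOX.extZeroUnit U.1.ι ⟶ A, a ≫ p = f :=
      fun h => hp (isIso_of_factor p h)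
    push Not at this
    obtain ⟨U, f, hf⟩ := this
    obtain ⟨X', i, p', hi, h1, h2, h3⟩ := exists_pushouts_of_not_factor p f hf
    refine ⟨X', i, p', ?_, h1, h2, h3⟩
    exact MorphismProperty.pushouts_monotone
      (le_trans (le_iSup (fun U : X.affineOpens => IsGrothendieckAbelian.generatingMonomorphisms
        (CxOX.extZeroUnit U.1.ι)) U) le_sup_left) _ hi

/-- **Baer criterion** for `O_X`-modules: it suffices to extend morphisms from subobjects of the `j_! O_U`,
`U` affine open. -/
theorem injective_of_extends (Q : X.Modules)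
    (h : ∀ (U : X.affineOpens) (S : Subobject (CxOX.extZeroUnit U.1.ι)) (φ : (S : X.Modules) ⟶ Q),
      ∃ ψ : CxOX.extZeroUnit U.1.ι ⟶ Q, S.arrow ≫ ψ = φ) : Injective Q := by
  haveI : IsGrothendieckAbelian.{u} X.Modules :=
    Groth.Agent.S0484.result (Opens.grothendieckTopology X) X.ringCatSheaf
  rw [injective_iff_rlp_monomorphisms_zero]
  apply rlp_le.{u} (gen_W (X := X))
  intro A B i hi
  rcases hi with hi | hi
  · rw [MorphismProperty.iSup_iff] at hi
    obtain ⟨U₀, hU₀⟩ := hi
    obtain ⟨S⟩ := hU₀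
    refine ⟨fun {f g} sq => ?_⟩
    obtain ⟨ψ, hψ⟩ := h U₀ S f
    exact CommSq.HasLift.mk' ⟨ψ, hψ, (isZero_zero _).eq_of_tgt _ _⟩
  · haveI : IsIso i := hi
    exact HasLiftingProperty.of_left_iso i _

/-- `j_! O_U` is a Noetherian object for `U` affine open in a locally Noetherian scheme -/
theorem isNoetherianObject_extZeroUnit [IsLocallyNoetherian X] (U : X.affineOpens) :
    IsNoetherianObject (CxOX.extZeroUnit U.1.ι) := by
  rw [isNoetherianObject_iff_monotone_chain_condition]
  intro c
  haveI : IsAffine (U.1 : Scheme.{u}) := U.2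
  exact Groth.Agent.S11158.result U.1.ι c

/-- On a locally Noetherian scheme, a coproduct of injective `O_X`-modules is injective. -/
theorem injective_coprod [IsLocallyNoetherian X] {ι : Type u} (I : ι → X.Modules)
    (hI : ∀ j, Injective (I j)) : Injective (∐ I) := by
  haveI : IsGrothendieckAbelian.{u} X.Modules :=
    Groth.Agent.S0484.result (Opens.grothendieckTopology X) X.ringCatSheaf
  haveI := hI
  apply injective_of_extends
  intro U S φ
  haveI := isNoetherianObject_extZeroUnit U
  exact Groth.Agent.R2.H50.NoethCompact.exists_extension S.arrow I φ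

end Groth.Agent.R2.H50.InjCoprod
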