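import Mathlib
import Groth.Agent.R2.H50InjCoprod

/-!
# Injectivity of `O_X`-modules is local (helper50)

* Baer criterion relative to any family of opens forming a basis.
* `j^*` preserves injectives for every open immersion `j`.
* an `O_X`-module which is locally injective is injective (any scheme `X`).
-/

set_option autoImplicit false
set_option linter.style.haveILetI false
set_option linter.unusedSectionVars false
universe u
open CategoryTheory CategoryTheory.Limits AlgebraicGeometry Opposite TopologicalSpace MorphismProperty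

namespace Groth.Agent.R2.H50.LocInj

open Groth.Agent.Lib.Helper4.NormDelta Groth.Agent.R2.H50.IdealChain
open Groth.Agent.Lib.Helper16.BaerFamily Groth.Agent.R2.H50.InjCoprod

variable {X : Scheme.{u}}

section Basis

variable (𝒰 : Set X.Opens)
  (h𝒰 : ∀ (y : X) (W : X.Opens), y ∈ W → ∃ U ∈ 𝒰, y ∈ U ∧ U ≤ W)

include h𝒰 in
theorem isIso_of_factor {A B : X.Modules} (p : A ⟶ B) [Mono p]
    (h : ∀ (U : 𝒰) (f : CxOX.extZeroUnit U.1.ι ⟶ B),
      ∃ a : CxOX.extZeroUnit U.1.ι ⟶ A, a ≫ p = f) : IsIso p := by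
  haveI : Epi p := by
    refine epi_of_stalkLin_surjective p fun y b => ?_
    obtain ⟨W, hyW, s0, rfl⟩ := B.presheaf.exists_germ_eq b
    obtain ⟨U, hU, hyU, hUW⟩ := h𝒰 y W hyW
    have hU' : U.ι ''ᵁ ⊤ = U := U.ι_image_top
    have hle : U.ι ''ᵁ ⊤ ≤ W := hU'.le.trans hUW
    have hy' : y ∈ U.ι ''ᵁ ⊤ := by rw [hU']; exact hyU
    let s : Γ(B.restrict U.ι, ⊤) := B.presheaf.map (homOfLE hle).op s0
    obtain ⟨σ, hσ⟩ := exists_hom_of_section (B.restrict U.ι) s
    obtain ⟨a, ha⟩ := h ⟨U, hU⟩ (((CxOX.extZeroAdj U.ι).homEquiv _ _).symm σ)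
    let a' := (CxOX.extZeroAdj U.ι).homEquiv _ _ a
    have h1 : a' ≫ (Scheme.Modules.restrictFunctor U.ι).map p = σ := by
      rw [← Adjunction.homEquiv_naturality_right, ha, Equiv.apply_symm_apply]
    let t : Γ(A, U.ι ''ᵁ ⊤) := a'.app ⊤ (1 : Γ((U : Scheme.{u}), ⊤))
    refine ⟨A.presheaf.germ (U.ι ''ᵁ ⊤) y hy' t, ?_⟩
    rw [stalkLin_germ]
    have h2 : Scheme.Modules.Hom.app p (U.ι ''ᵁ ⊤) t = s := by
      rw [← hσ, ← h1]
      rfl
    rw [h2]
    exact TopCat.Presheaf.germ_res_apply B.presheaf (homOfLE hle) y hy' s0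
  exact isIso_of_mono_of_epi p

/-- inclusions of subobjects of the `j_! O_U`, `U ∈ 𝒰`, together with the isomorphisms -/
def W : MorphismProperty X.Modules :=
  (⨆ U : 𝒰, IsGrothendieckAbelian.generatingMonomorphisms (CxOX.extZeroUnit U.1.ι)) ⊔
    MorphismProperty.isomorphisms _

include h𝒰 in
theorem gen_W : Gen (W 𝒰) where
  iso_le := le_trans le_sup_right (MorphismProperty.le_pushouts _)
  exists_pushouts {A B} p _ hp := by
    have : ¬ ∀ (U : 𝒰) (f : CxOX.extZeroUnit U.1.ι ⟶ B),
        ∃ a : CxOX.extZeroUnit U.1.ι ⟶ A, a ≫ p = f :=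
      fun h => hp (isIso_of_factor 𝒰 h𝒰 p h)
    push Not at this
    obtain ⟨U, f, hf⟩ := this
    obtain ⟨X', i, p', hi, h1, h2, h3⟩ := exists_pushouts_of_not_factor p f hf
    refine ⟨X', i, p', ?_, h1, h2, h3⟩
    exact MorphismProperty.pushouts_monotone
      (le_trans (le_iSup (fun U : 𝒰 => IsGrothendieckAbelian.generatingMonomorphisms
        (CxOX.extZeroUnit U.1.ι)) U) le_sup_left) _ hi

include h𝒰 in
/-- **Baer criterion** relative to a basis `𝒰` of opens. -/
theorem injective_of_extends (Q : X.Modules)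
    (h : ∀ (U : 𝒰) (S : Subobject (CxOX.extZeroUnit U.1.ι)) (φ : (S : X.Modules) ⟶ Q),
      ∃ ψ : CxOX.extZeroUnit U.1.ι ⟶ Q, S.arrow ≫ ψ = φ) : Injective Q := by
  haveI : IsGrothendieckAbelian.{u} X.Modules :=
    Groth.Agent.S0484.result (Opens.grothendieckTopology X) X.ringCatSheaf
  rw [injective_iff_rlp_monomorphisms_zero]
  apply rlp_le.{u} (gen_W 𝒰 h𝒰)
  intro A B i hi
  rcases hi with hi | hi
  · rw [MorphismProperty.iSup_iff] at hi
    obtain ⟨U₀, hU₀⟩ := hi
    obtain ⟨S⟩ := hU₀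
    refine ⟨fun {f g} sq => ?_⟩
    obtain ⟨ψ, hψ⟩ := h U₀ S f
    exact CommSq.HasLift.mk' ⟨ψ, hψ, (isZero_zero _).eq_of_tgt _ _⟩
  · haveI : IsIso i := hi
    exact HasLiftingProperty.of_left_iso i _

end Basis

/-- restriction along an open immersion preserves injective objects -/
theorem injective_restrict {U : Scheme.{u}} (j : U ⟶ X) [IsOpenImmersion j] (Q : X.Modules)
    [Injective Q] : Injective ((Scheme.Modules.restrictFunctor j).obj Q) :=
  Groth.Agent.R2.H50.AdjTriple.injective_map_of_injective (CxOX.extZeroAdj j)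
    (Scheme.Modules.restrictAdjunction j) (fun M => Groth.Agent.R2.H50.ExtZero.mono_counit j M) Q

/-- if `Q|_U` is injective, morphisms from subobjects of `j_! O_U` to `Q` extend -/
theorem exists_extension {U : Scheme.{u}} (j : U ⟶ X) [IsOpenImmersion j] {S Q : X.Modules}
    (F : U.Modules) (i : S ⟶ (CxOX.extZero j).obj F) [Mono i]
    [Injective ((Scheme.Modules.restrictFunctor j).obj Q)] (φ : S ⟶ Q) :
    ∃ ψ : (CxOX.extZero j).obj F ⟶ Q, i ≫ ψ = φ :=
  Groth.Agent.R2.H50.AdjTriple.exists_extension_of_injective_map (CxOX.extZeroAdj j)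
    (Scheme.Modules.restrictAdjunction j) (fun M => Groth.Agent.R2.H50.ExtZero.mono_counit j M) i φ

/-- if `F|_V` is injective and `U ≤ V`, then `F|_U` is injective -/
theorem injective_restrict_of_le (F : X.Modules) {U V : X.Opens} (h : U ≤ V)
    (hV : Injective ((Scheme.Modules.restrictFunctor V.ι).obj F)) :
    Injective ((Scheme.Modules.restrictFunctor U.ι).obj F) := by
  haveI := hV
  have h2 : Injective ((Scheme.Modules.restrictFunctor V.ι ⋙
      Scheme.Modules.restrictFunctor (X.homOfLE h)).obj F) :=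
    injective_restrict (X.homOfLE h) ((Scheme.Modules.restrictFunctor V.ι).obj F)
  let e : Scheme.Modules.restrictFunctor U.ι ≅
      Scheme.Modules.restrictFunctor V.ι ⋙ Scheme.Modules.restrictFunctor (X.homOfLE h) :=
    Scheme.Modules.restrictFunctorCongr (X.homOfLE_ι h).symm ≪≫
      Scheme.Modules.restrictFunctorComp (X.homOfLE h) V.ι
  exact Injective.of_iso (e.app F).symm h2

/-- **Injectivity is local**: an `O_X`-module whose restrictions to the members of an open cover are
injective is injective. -/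
theorem injective_of_locally_injective (F : X.Modules)
    (hF : ∀ x : X, ∃ U : X.Opens, x ∈ U ∧ Injective ((Scheme.Modules.restrictFunctor U.ι).obj F)) :
    Injective F := by
  let 𝒰 : Set X.Opens := {U | Injective ((Scheme.Modules.restrictFunctor U.ι).obj F)}
  have h𝒰 : ∀ (y : X) (W : X.Opens), y ∈ W → ∃ U ∈ 𝒰, y ∈ U ∧ U ≤ W := by
    intro y W hyW
    obtain ⟨V, hyV, hV⟩ := hF y
    exact ⟨W ⊓ V, injective_restrict_of_le F inf_le_right hV, ⟨hyW, hyV⟩, inf_le_left⟩
  refine injective_of_extends 𝒰 h𝒰 F fun U S φ => ?_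
  haveI : Injective ((Scheme.Modules.restrictFunctor U.1.ι).obj F) := U.2
  exact exists_extension U.1.ι (Coh.structureModule _) S.arrow φ

end Groth.Agent.R2.H50.LocInj
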