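import Mathlib
import Groth.Agent.R2.H50GradedDim

/-!
# The nilpotent cone (helper50)

The variety of nilpotent `n × n` matrices over an algebraically closed field is irreducible of dimension `n² - n`.
-/

set_option autoImplicit false
universe u v

namespace Groth.Agent.R2.H50.NilCone

open Matrix Module

section Upper

variable {R : Type*} [CommRing R] {n : ℕ}

/-- strictly upper triangular matrices -/
def StrictUpper (U : Matrix (Fin n) (Fin n) R) : Prop := ∀ i j : Fin n, j ≤ i → U i j = 0

theorem StrictUpper.pow_apply {U : Matrix (Fin n) (Fin n) R} (hU : StrictUpper U) (j : ℕ) (a b : Fin n)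
    (hab : (b : ℕ) < (a : ℕ) + j) : (U ^ j) a b = 0 := by
  induction j generalizing a b with
  | zero =>
    rw [pow_zero, Matrix.one_apply, if_neg]
    intro h
    rw [h] at hab
    omega
  | succ j ih =>
    rw [pow_succ, Matrix.mul_apply]
    refine Finset.sum_eq_zero fun c _ => ?_
    by_cases hc : (c : ℕ) < (a : ℕ) + j
    · rw [ih a c hc, zero_mul]
    · rw [hU c b (by rw [Fin.le_def]; omega), mul_zero]

theorem StrictUpper.pow_eq_zero {U : Matrix (Fin n) (Fin n) R} (hU : StrictUpper U) : U ^ n = 0 := by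
  ext a b
  rw [hU.pow_apply n a b (by have := b.2; omega)]
  rfl

theorem conjAdj_pow (G U : Matrix (Fin n) (Fin n) R) (j : ℕ) :
    (G * U * G.adjugate) ^ (j + 1) = G.det ^ j • (G * U ^ (j + 1) * G.adjugate) := by
  induction j with
  | zero => simp
  | succ j ih =>
    rw [pow_succ, ih]
    have : G * U ^ (j + 1) * G.adjugate * (G * U * G.adjugate) =
        G * U ^ (j + 1) * (G.adjugate * G) * U * G.adjugate := by
      simp only [Matrix.mul_assoc]
    rw [Matrix.smul_mul, this, Matrix.adjugate_mul, Matrix.mul_smul, Matrix.mul_one, Matrix.smul_mul, Matrix.smul_mul,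
      smul_smul, ← pow_succ, Matrix.mul_assoc G, ← pow_succ]

theorem conjAdj_pow_eq_zero {G U : Matrix (Fin n) (Fin n) R} (hU : StrictUpper U) (hn : 1 ≤ n) :
    (G * U * G.adjugate) ^ n = 0 := by
  obtain ⟨j, rfl⟩ : ∃ j, n = j + 1 := ⟨n - 1, by omega⟩
  rw [conjAdj_pow, hU.pow_eq_zero, Matrix.mul_zero, Matrix.zero_mul, smul_zero]

end Upper

section Basis

variable {K : Type u} [Field K]

theorem exists_adapted_basis (m : ℕ) : ∀ (V : Type v) [AddCommGroup V] [Module K V] [FiniteDimensional K V]
    (f : V →ₗ[K] V), finrank K V = m → IsNilpotent f →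
    ∃ b : Basis (Fin m) K V, ∀ j, f (b j) ∈ Submodule.span K (b '' {i | i < j}) := by
  induction m using Nat.strong_induction_on with
  | _ m ih =>
    intro V _ _ _ f hm hf
    rcases Nat.eq_zero_or_pos m with rfl | hpos
    · exact ⟨Module.finBasisOfFinrankEq K V hm, fun j => j.elim0⟩
    -- the range of `f`
    set W := LinearMap.range f with hW
    have hWf : ∀ x ∈ W, f x ∈ W := fun x _ => LinearMap.mem_range_self f x
    have hWlt : W < ⊤ := by
      rw [lt_top_iff_ne_top]
      intro htop
      have hsurj : Function.Surjective f := LinearMap.range_eq_top.mp htop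
      obtain ⟨k, hk⟩ := hf
      have hsurjk : Function.Surjective (f ^ k) := by
        rw [Module.End.coe_pow]
        exact hsurj.iterate k
      have : Nontrivial V := Module.nontrivial_of_finrank_pos (R := K) (by omega)
      obtain ⟨v, hv⟩ := exists_ne (0 : V)
      obtain ⟨w, hw⟩ := hsurjk v
      rw [hk] at hw
      exact hv hw.symm
    have ha : finrank K W < m := hm ▸ Submodule.finrank_lt hWlt.ne
    have hnil : IsNilpotent (f.restrict hWf) := by
      obtain ⟨k, hk⟩ := hf
      refine ⟨k, ?_⟩
      rw [Module.End.pow_restrict, ]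
      ext x
      simp [hk]
    obtain ⟨bW, hbW⟩ := ih (finrank K W) ha W (f.restrict hWf) rfl hnil
    obtain ⟨W', hc⟩ := Submodule.exists_isCompl W
    have hsum : finrank K W + finrank K W' = m := hm ▸ Submodule.finrank_add_eq_of_isCompl hc
    let b' : Basis (Fin (finrank K W')) K W' := Module.finBasis K W'
    let e : Fin (finrank K W) ⊕ Fin (finrank K W') ≃ Fin m := finSumFinEquiv.trans (finCongr hsum)
    let b0 : Basis (Fin m) K V := ((bW.prod b').map (Submodule.prodEquivOfIsCompl W W' hc)).reindex e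
    have hb0l : ∀ i, b0 (e (Sum.inl i)) = (bW i : V) := by
      intro i
      simp [b0]
    have hb0r : ∀ i, b0 (e (Sum.inr i)) = (b' i : V) := by
      intro i
      simp [b0]
    have hel : ∀ i, ((e (Sum.inl i) : Fin m) : ℕ) = i := by
      intro i; simp [e]
    have her : ∀ i, ((e (Sum.inr i) : Fin m) : ℕ) = finrank K W + i := by
      intro i; simp [e]
    refine ⟨b0, fun j => ?_⟩
    obtain ⟨j', rfl⟩ := e.surjective j
    rcases j' with j0 | i
    · rw [hb0l]
      have h1 := hbW j0
      have h2 : f (bW j0 : V) = ((f.restrict hWf) (bW j0) : V) := rfl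
      rw [h2]
      have h3 := Submodule.mem_map_of_mem (f := W.subtype) h1
      rw [Submodule.map_span] at h3
      refine Submodule.span_mono ?_ h3
      rintro _ ⟨_, ⟨i, hi, rfl⟩, rfl⟩
      refine ⟨e (Sum.inl i), ?_, hb0l i⟩
      show e (Sum.inl i) < e (Sum.inl j0)
      rw [Fin.lt_def, hel, hel]
      exact hi
    · have h1 : f (b0 (e (Sum.inr i))) ∈ W := LinearMap.mem_range_self f _
      have h2 : W = Submodule.span K (Set.range fun i => (bW i : V)) := by
        have := congrArg (Submodule.map W.subtype) bW.span_eq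
        rw [Submodule.map_span, Submodule.map_top, Submodule.range_subtype, ← Set.range_comp] at this
        exact this.symm
      have h1' : f (b0 (e (Sum.inr i))) ∈ Submodule.span K (Set.range fun i => (bW i : V)) := h2 ▸ h1
      refine Submodule.span_mono ?_ h1'
      rintro _ ⟨i0, rfl⟩
      refine ⟨e (Sum.inl i0), ?_, hb0l i0⟩
      show e (Sum.inl i0) < e (Sum.inr i)
      rw [Fin.lt_def, hel, her]
      have := i0.2
      omega

end Basis

section Tri

theorem exists_conjAdj {K : Type u} [Field K] {n : ℕ} (A : Matrix (Fin n) (Fin n) K) (hA : IsNilpotent A) :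
    ∃ (G U : Matrix (Fin n) (Fin n) K), StrictUpper U ∧ A = G * U * G.adjugate := by
  have hf : IsNilpotent (Matrix.toLin' A) := by
    have := hA.map (Matrix.toLinAlgEquiv' (R := K) (n := Fin n))
    exact this
  obtain ⟨b, hb⟩ := exists_adapted_basis n (Fin n → K) (Matrix.toLin' A) (Module.finrank_fin_fun K) hf
  set e := Pi.basisFun K (Fin n) with he
  have h1 : e.toMatrix b * LinearMap.toMatrix b b (Matrix.toLin' A) * b.toMatrix e = A := by
    rw [basis_toMatrix_mul_linearMap_toMatrix_mul_basis_toMatrix, LinearMap.toMatrix_eq_toMatrix',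
      LinearMap.toMatrix'_toLin']
  have h2 : e.toMatrix b * b.toMatrix e = 1 := Basis.toMatrix_mul_toMatrix_flip e b
  have h3 : b.toMatrix e * e.toMatrix b = 1 := Basis.toMatrix_mul_toMatrix_flip b e
  set G := e.toMatrix b with hG
  set H := b.toMatrix e with hH
  set U := LinearMap.toMatrix b b (Matrix.toLin' A) with hU
  have hdet : G.det * H.det = 1 := by rw [← Matrix.det_mul, h2, Matrix.det_one]
  have hdet0 : G.det ≠ 0 := fun h => by rw [h, zero_mul] at hdet; exact zero_ne_one hdet
  have hadj : G.adjugate = G.det • H := by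
    calc G.adjugate = (H * G) * G.adjugate := by rw [h3, Matrix.one_mul]
      _ = H * (G * G.adjugate) := Matrix.mul_assoc _ _ _
      _ = G.det • H := by rw [Matrix.mul_adjugate, Matrix.mul_smul, Matrix.mul_one]
  refine ⟨G, (G.det)⁻¹ • U, ?_, ?_⟩
  · intro i j hji
    rw [Matrix.smul_apply, hU, LinearMap.toMatrix_apply]
    have hmem := hb j
    rw [Basis.mem_span_image] at hmem
    have : i ∉ (b.repr ((Matrix.toLin' A) (b j))).support := fun hi => by
      have := hmem hi
      exact absurd (this : i < j) (not_lt.mpr hji)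
    rw [Finsupp.notMem_support_iff] at this
    rw [this, smul_zero]
  · rw [hadj, Matrix.mul_smul, Matrix.mul_smul, Matrix.smul_mul, smul_smul, mul_inv_cancel₀ hdet0, one_smul, h1]


end Tri


section Cone

open MvPolynomial

variable (k : Type u) [Field k] (n : ℕ)

/-- the ideal of the nilpotent cone -/
noncomputable def coneIdeal : Ideal (MvPolynomial (Fin n × Fin n) k) :=
  Ideal.span (Set.range fun i : Fin n => (Matrix.charpoly (Matrix.mvPolynomialX (Fin n) (Fin n) k)).coeff (i : ℕ))

/-- generic matrix `g` -/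
noncomputable def GM : Matrix (Fin n) (Fin n) (MvPolynomial ((Fin n × Fin n) ⊕ (Fin n × Fin n)) k) :=
  Matrix.of fun i j => X (Sum.inl (i, j))

/-- generic strictly upper triangular matrix -/
noncomputable def UM : Matrix (Fin n) (Fin n) (MvPolynomial ((Fin n × Fin n) ⊕ (Fin n × Fin n)) k) :=
  Matrix.of fun i j => if i < j then X (Sum.inr (i, j)) else 0

theorem strictUpper_UM : StrictUpper (UM k n) := fun i j hji => by
  simp [UM, not_lt.mpr hji]

/-- the parametrisation `(g, u) ↦ g u adj(g)` of the nilpotent cone -/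
noncomputable def MM : Matrix (Fin n) (Fin n) (MvPolynomial ((Fin n × Fin n) ⊕ (Fin n × Fin n)) k) :=
  GM k n * UM k n * (GM k n).adjugate

/-- the corresponding ring homomorphism -/
noncomputable def phi : MvPolynomial (Fin n × Fin n) k →+* MvPolynomial ((Fin n × Fin n) ⊕ (Fin n × Fin n)) k :=
  eval₂Hom C (fun p => MM k n p.1 p.2)

theorem charpoly_eq_pow_of_pow_eq_zero {R : Type*} [CommRing R] [IsDomain R] (M : Matrix (Fin n) (Fin n) R)
    (hM : IsNilpotent M) : M.charpoly = Polynomial.X ^ n := by
  have h := Matrix.isNilpotent_charpoly_sub_pow_of_isNilpotent hM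
  rw [Fintype.card_fin] at h
  exact sub_eq_zero.mp h.eq_zero

theorem coneIdeal_le_ker (hn : 1 ≤ n) : coneIdeal k n ≤ RingHom.ker (phi k n) := by
  unfold coneIdeal
  rw [Ideal.span_le]
  rintro _ ⟨i, rfl⟩
  rw [SetLike.mem_coe, RingHom.mem_ker]
  have h1 : phi k n ((Matrix.charpoly (Matrix.mvPolynomialX (Fin n) (Fin n) k)).coeff (i : ℕ)) =
      (Matrix.charpoly (MM k n)).coeff (i : ℕ) :=
    Matrix.charpoly.univ_coeff_eval₂Hom (Fin n) C (fun p => MM k n p.1 p.2) (i : ℕ)
  rw [h1, charpoly_eq_pow_of_pow_eq_zero n (MM k n) ⟨n, conjAdj_pow_eq_zero (strictUpper_UM k n) hn⟩,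
    Polynomial.coeff_X_pow, if_neg i.2.ne]

variable {k n}

theorem isNilpotent_of_mem_zeroLocus (x : Fin n × Fin n → k) (hx : x ∈ zeroLocus k (coneIdeal k n)) :
    IsNilpotent (Matrix.of (Function.curry x)) := by
  set A : Matrix (Fin n) (Fin n) k := Matrix.of (Function.curry x) with hA
  have hc : ∀ i : Fin n, A.charpoly.coeff (i : ℕ) = 0 := by
    intro i
    have h1 := hx _ (Ideal.subset_span ⟨i, rfl⟩)
    have h2 : aeval x ((Matrix.charpoly (Matrix.mvPolynomialX (Fin n) (Fin n) k)).coeff (i : ℕ)) =
        A.charpoly.coeff (i : ℕ) :=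
      Matrix.charpoly.univ_coeff_eval₂Hom (Fin n) (algebraMap k k) x (i : ℕ)
    rw [← h2]
    exact h1
  have hcp : A.charpoly = Polynomial.X ^ n := by
    ext j
    rw [Polynomial.coeff_X_pow]
    rcases lt_trichotomy j n with hj | hj | hj
    · rw [if_neg hj.ne]
      exact hc ⟨j, hj⟩
    · rw [if_pos hj, hj]
      have := (Matrix.charpoly_monic A).coeff_natDegree
      rwa [Matrix.charpoly_natDegree_eq_dim, Fintype.card_fin] at this
    · rw [if_neg hj.ne']
      apply Polynomial.coeff_eq_zero_of_natDegree_lt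
      rwa [Matrix.charpoly_natDegree_eq_dim, Fintype.card_fin]
  refine ⟨n, ?_⟩
  have := Matrix.aeval_self_charpoly A
  rwa [hcp, map_pow, Polynomial.aeval_X] at this

theorem ker_le_radical [IsAlgClosed k] : RingHom.ker (phi k n) ≤ (coneIdeal k n).radical := by
  intro f hf
  rw [RingHom.mem_ker] at hf
  rw [← vanishingIdeal_zeroLocus_eq_radical (K := k), mem_vanishingIdeal_iff]
  intro x hx
  obtain ⟨G, U, hU, hGU⟩ := exists_conjAdj _ (isNilpotent_of_mem_zeroLocus x hx)
  let y : (Fin n × Fin n) ⊕ (Fin n × Fin n) → k := Sum.elim (fun p => G p.1 p.2) (fun p => U p.1 p.2)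
  have h1 : eval y (phi k n f) = 0 := by rw [hf, map_zero]
  have hG : (eval y).mapMatrix (GM k n) = G := by
    ext i j
    simp [GM, y]
  have hUM : (eval y).mapMatrix (UM k n) = U := by
    ext i j
    by_cases hij : i < j
    · simp [UM, y, hij]
    · simp [UM, hij, hU i j (not_lt.mp hij)]
  have hM : (eval y).mapMatrix (MM k n) = G * U * G.adjugate := by
    unfold MM
    rw [map_mul, map_mul, RingHom.map_adjugate, hG, hUM]
  have h2 : eval y (phi k n f) = eval x f := by
    show (eval y) (eval₂ C (fun p => MM k n p.1 p.2) f) = eval₂ (RingHom.id k) x f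
    rw [eval₂_comp_left (eval y)]
    congr 1
    · ext c
      simp
    · funext p
      have := congrFun (congrFun hM p.1) p.2
      rw [← hGU] at this
      simpa using this
  rw [aeval_eq_eval]
  exact h2 ▸ h1

end Cone


section Irr

open MvPolynomial

variable {k : Type u} [Field k] [IsAlgClosed k] {n : ℕ}

theorem radical_coneIdeal (hn : 1 ≤ n) : (coneIdeal k n).radical = RingHom.ker (phi k n) := by
  apply le_antisymm
  · exact (Ideal.IsPrime.radical_le_iff (RingHom.ker_isPrime _)).mpr (coneIdeal_le_ker k n hn)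
  · exact ker_le_radical

theorem radical_coneIdeal_isPrime (hn : 1 ≤ n) : (coneIdeal k n).radical.IsPrime := by
  rw [radical_coneIdeal hn]
  exact RingHom.ker_isPrime _

theorem nilradical_quotient_isPrime (hn : 1 ≤ n) :
    (nilradical (MvPolynomial (Fin n × Fin n) k ⧸ coneIdeal k n)).IsPrime := by
  have h1 : (nilradical (MvPolynomial (Fin n × Fin n) k ⧸ coneIdeal k n)).comap (Ideal.Quotient.mk (coneIdeal k n)) =
      (coneIdeal k n).radical := by
    unfold nilradical
    rw [Ideal.comap_radical, Ideal.zero_eq_bot, ← RingHom.ker_eq_comap_bot, Ideal.mk_ker]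
  have h2 : nilradical (MvPolynomial (Fin n × Fin n) k ⧸ coneIdeal k n) =
      (coneIdeal k n).radical.map (Ideal.Quotient.mk (coneIdeal k n)) := by
    rw [← h1, Ideal.map_comap_of_surjective _ Ideal.Quotient.mk_surjective]
  rw [h2]
  have := radical_coneIdeal_isPrime (k := k) hn
  exact Ideal.map_isPrime_of_surjective Ideal.Quotient.mk_surjective (by rw [Ideal.mk_ker]; exact Ideal.le_radical)

theorem irreducibleSpace (hn : 1 ≤ n) :
    IrreducibleSpace (PrimeSpectrum (MvPolynomial (Fin n × Fin n) k ⧸ coneIdeal k n)) :=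
  PrimeSpectrum.irreducibleSpace_iff_isPrime_nilradical.mpr (nilradical_quotient_isPrime hn)

end Irr


section Dim

open MvPolynomial

variable {k : Type u} [Field k] {n : ℕ}

theorem idealOfVars_eq_ker (σ : Type*) : idealOfVars σ k = RingHom.ker (constantCoeff : MvPolynomial σ k →+* k) := by
  apply le_antisymm
  · rw [Ideal.span_le]
    rintro _ ⟨i, rfl⟩
    rw [SetLike.mem_coe, RingHom.mem_ker, constantCoeff_X]
  · intro p hp
    rw [RingHom.mem_ker] at hp
    rw [← pow_one (idealOfVars σ k), mem_pow_idealOfVars_iff']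
    intro x hx
    have hx0 : x = 0 := by
      have : x.degree = 0 := by omega
      exact (Finsupp.degree_eq_zero_iff x).mp this
    rw [hx0, ← constantCoeff_eq]
    exact hp

theorem idealOfVars_isMaximal (σ : Type*) : (idealOfVars σ k).IsMaximal := by
  rw [idealOfVars_eq_ker]
  exact RingHom.ker_isMaximal_of_surjective _ (fun a => ⟨C a, constantCoeff_C _ a⟩)

theorem coneIdeal_le_idealOfVars : coneIdeal k n ≤ idealOfVars (Fin n × Fin n) k := by
  rw [idealOfVars_eq_ker]
  unfold coneIdeal
  rw [Ideal.span_le]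
  rintro _ ⟨i, rfl⟩
  rw [SetLike.mem_coe, RingHom.mem_ker, ← eval_zero]
  have h2 : eval (0 : Fin n × Fin n → k) ((Matrix.charpoly (Matrix.mvPolynomialX (Fin n) (Fin n) k)).coeff (i : ℕ)) =
      (Matrix.charpoly (Matrix.of (Function.curry (0 : Fin n × Fin n → k)))).coeff (i : ℕ) :=
    Matrix.charpoly.univ_coeff_eval₂Hom (Fin n) (RingHom.id k) 0 (i : ℕ)
  rw [h2]
  have : (Matrix.of (Function.curry (0 : Fin n × Fin n → k))) = 0 := by
    ext a b
    rfl
  rw [this, Matrix.charpoly_zero, Fintype.card_fin, Polynomial.coeff_X_pow, if_neg i.2.ne]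

/-- modulo the cone ideal and the off-diagonal variables, the diagonal variables are nilpotent -/
theorem X_pow_mem_sup (a : Fin n) :
    (X (a, a) : MvPolynomial (Fin n × Fin n) k) ^ n ∈ coneIdeal k n ⊔
      Ideal.span ((fun p : Fin n × Fin n => (X p : MvPolynomial (Fin n × Fin n) k)) ''
        ((Finset.univ : Finset (Fin n)).offDiag : Set (Fin n × Fin n))) := by
  set J := coneIdeal k n ⊔
      Ideal.span ((fun p : Fin n × Fin n => (X p : MvPolynomial (Fin n × Fin n) k)) ''
        ((Finset.univ : Finset (Fin n)).offDiag : Set (Fin n × Fin n))) with hJ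
  rw [← Ideal.Quotient.eq_zero_iff_mem, map_pow]
  rcases subsingleton_or_nontrivial (MvPolynomial (Fin n × Fin n) k ⧸ J) with hsub | hnt
  · exact Subsingleton.elim _ _
  set π := Ideal.Quotient.mk J with hπ
  set A : Matrix (Fin n) (Fin n) (MvPolynomial (Fin n × Fin n) k ⧸ J) :=
    (Matrix.mvPolynomialX (Fin n) (Fin n) k).map π with hA
  have hc : ∀ i : Fin n, A.charpoly.coeff (i : ℕ) = 0 := by
    intro i
    rw [hA, Matrix.charpoly_map, Polynomial.coeff_map, Ideal.Quotient.eq_zero_iff_mem]
    exact Ideal.mem_sup_left (Ideal.subset_span ⟨i, rfl⟩)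
  have hcp : A.charpoly = Polynomial.X ^ n := by
    ext j
    rw [Polynomial.coeff_X_pow]
    rcases lt_trichotomy j n with hj | hj | hj
    · rw [if_neg hj.ne]
      exact hc ⟨j, hj⟩
    · rw [if_pos hj, hj]
      have := (Matrix.charpoly_monic A).coeff_natDegree
      rwa [Matrix.charpoly_natDegree_eq_dim, Fintype.card_fin] at this
    · rw [if_neg hj.ne']
      apply Polynomial.coeff_eq_zero_of_natDegree_lt
      rwa [Matrix.charpoly_natDegree_eq_dim, Fintype.card_fin]
  have hAn : A ^ n = 0 := by
    have := Matrix.aeval_self_charpoly A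
    rwa [hcp, map_pow, Polynomial.aeval_X] at this
  have hdiag : A = Matrix.diagonal fun a => π (X (a, a)) := by
    ext a b
    rw [Matrix.diagonal_apply]
    by_cases hab : a = b
    · subst hab
      rw [if_pos rfl]
      rfl
    · rw [if_neg hab]
      show π (X (a, b)) = 0
      rw [Ideal.Quotient.eq_zero_iff_mem]
      refine Ideal.mem_sup_right (Ideal.subset_span ⟨(a, b), ?_, rfl⟩)
      rw [Finset.mem_coe, Finset.mem_offDiag]
      exact ⟨Finset.mem_univ _, Finset.mem_univ _, hab⟩
  rw [hdiag, Matrix.diagonal_pow] at hAn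
  have := congrFun (congrFun hAn a) a
  rw [Matrix.diagonal_apply_eq] at this
  exact this

end Dim


section DimMain

open MvPolynomial Groth.Agent.R2.H50.GradedDim

variable {k : Type u} [Field k] [IsAlgClosed k] {n : ℕ}

theorem ringKrullDim_quotient (hn : 1 ≤ n) :
    ringKrullDim (MvPolynomial (Fin n × Fin n) k ⧸ coneIdeal k n) = ((n * n - n : ℕ) : WithBot ℕ∞) := by
  have hm0 : (idealOfVars (Fin n × Fin n) k).IsMaximal := idealOfVars_isMaximal _
  have hm0p : (idealOfVars (Fin n × Fin n) k).IsPrime := hm0.isPrime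
  have hIm : coneIdeal k n ≤ idealOfVars (Fin n × Fin n) k := coneIdeal_le_idealOfVars
  -- the height of the vertex in the polynomial ring
  have h1 : (((idealOfVars (Fin n × Fin n) k).height : ℕ∞) : WithBot ℕ∞) =
      ringKrullDim (MvPolynomial (Fin n × Fin n) k) :=
    height_eq_ringKrullDim_of_minimalPrimes_le k _ _ (by
      intro q hq
      rw [IsDomain.minimalPrimes_eq_singleton_bot] at hq
      rw [hq]
      exact bot_le)
  have h2 : ringKrullDim (MvPolynomial (Fin n × Fin n) k) = ((n * n : ℕ) : WithBot ℕ∞) := by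
    rw [MvPolynomial.ringKrullDim_of_isNoetherianRing, ringKrullDim_eq_zero_of_field, zero_add,
      Nat.card_eq_fintype_card, Fintype.card_prod, Fintype.card_fin]
  have h3 : (idealOfVars (Fin n × Fin n) k).height = ((n * n : ℕ) : ℕ∞) := by
    exact_mod_cast h1.trans h2
  -- the vertex of the cone
  have hm : ((idealOfVars (Fin n × Fin n) k).map (Ideal.Quotient.mk (coneIdeal k n))).IsMaximal :=
    Ideal.IsMaximal.map_of_surjective_of_ker_le Ideal.Quotient.mk_surjective (by rwa [Ideal.mk_ker])
  have hmp : ((idealOfVars (Fin n × Fin n) k).map (Ideal.Quotient.mk (coneIdeal k n))).IsPrime := hm.isPrime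
  have h4 : (idealOfVars (Fin n × Fin n) k).height ≤
      ((idealOfVars (Fin n × Fin n) k).map (Ideal.Quotient.mk (coneIdeal k n))).height + (n : ℕ∞) := by
    have h := Ideal.height_le_height_add_encard_of_subset
      (Set.range fun i : Fin n => (Matrix.charpoly (Matrix.mvPolynomialX (Fin n) (Fin n) k)).coeff (i : ℕ))
      (p := idealOfVars (Fin n × Fin n) k) (by rw [← Ideal.span_le]; exact hIm)
    refine h.trans (add_le_add le_rfl ?_)
    rw [← Set.image_univ]
    refine (Set.encard_image_le _ _).trans ?_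
    rw [Set.encard_univ, ENat.card_eq_coe_fintype_card, Fintype.card_fin]
  -- the off-diagonal variables
  set s₂ : Set (MvPolynomial (Fin n × Fin n) k ⧸ coneIdeal k n) :=
    (fun p : Fin n × Fin n => Ideal.Quotient.mk (coneIdeal k n) (X p)) ''
      ((Finset.univ : Finset (Fin n)).offDiag : Set (Fin n × Fin n)) with hs₂
  have hsub : s₂ ⊆ ((idealOfVars (Fin n × Fin n) k).map (Ideal.Quotient.mk (coneIdeal k n)) : Set _) := by
    rintro _ ⟨p, _, rfl⟩
    exact Ideal.mem_map_of_mem _ (Ideal.subset_span ⟨p, rfl⟩)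
  have h5 := Ideal.height_le_height_add_encard_of_subset s₂ hsub
  have h6 : s₂.encard ≤ ((n * n - n : ℕ) : ℕ∞) := by
    refine (Set.encard_image_le _ _).trans ?_
    rw [Set.encard_coe_eq_coe_finsetCard, Finset.offDiag_card, Finset.card_univ, Fintype.card_fin]
  have hspan : ∀ a : Fin n, Ideal.Quotient.mk (coneIdeal k n) (X (a, a) ^ n) ∈ Ideal.span s₂ := by
    intro a
    have h := Ideal.mem_map_of_mem (Ideal.Quotient.mk (coneIdeal k n)) (X_pow_mem_sup (k := k) a)
    rw [Ideal.map_sup, Ideal.map_quotient_self, bot_sup_eq, Ideal.map_span, Set.image_image] at h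
    exact h
  have h7 : (((idealOfVars (Fin n × Fin n) k).map (Ideal.Quotient.mk (coneIdeal k n))).map
      (Ideal.Quotient.mk (Ideal.span s₂))).height = 0 := by
    have : (((idealOfVars (Fin n × Fin n) k).map (Ideal.Quotient.mk (coneIdeal k n))).map
      (Ideal.Quotient.mk (Ideal.span s₂))).IsPrime :=
      Ideal.isPrime_map_quotientMk_of_isPrime (Ideal.span_le.mpr hsub)
    rw [Ideal.height_eq_zero_iff]
    refine ⟨⟨inferInstance, bot_le⟩, fun q hq _ => ?_⟩
    have : q.IsPrime := hq.1
    rw [Ideal.map_map, Ideal.map_span, Ideal.span_le]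
    rintro _ ⟨_, ⟨p, rfl⟩, rfl⟩
    obtain ⟨a, b⟩ := p
    by_cases hab : a = b
    · subst hab
      apply Ideal.IsPrime.mem_of_pow_mem inferInstance n
      rw [← map_pow, RingHom.comp_apply, Ideal.Quotient.eq_zero_iff_mem.mpr (hspan a)]
      exact Ideal.zero_mem _
    · rw [RingHom.comp_apply]
      have : Ideal.Quotient.mk (coneIdeal k n) (X (a, b)) ∈ Ideal.span s₂ := by
        refine Ideal.subset_span ⟨(a, b), ?_, rfl⟩
        rw [Finset.mem_coe, Finset.mem_offDiag]
        exact ⟨Finset.mem_univ _, Finset.mem_univ _, hab⟩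
      rw [Ideal.Quotient.eq_zero_iff_mem.mpr this]
      exact Ideal.zero_mem _
  rw [h7, zero_add] at h5
  have h8 : ((idealOfVars (Fin n × Fin n) k).map (Ideal.Quotient.mk (coneIdeal k n))).height =
      ((n * n - n : ℕ) : ℕ∞) := by
    have hle := h5.trans h6
    rw [h3] at h4
    have hfin : ((idealOfVars (Fin n × Fin n) k).map (Ideal.Quotient.mk (coneIdeal k n))).height ≠ ⊤ :=
      ne_top_of_le_ne_top (ENat.natCast_ne_top _) hle
    lift ((idealOfVars (Fin n × Fin n) k).map (Ideal.Quotient.mk (coneIdeal k n))).height to ℕ using hfin with t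
    norm_cast at hle h4 ⊢
    omega
  -- the dimension is the height of the vertex
  have h9 := height_eq_ringKrullDim_of_minimalPrimes_le k (MvPolynomial (Fin n × Fin n) k ⧸ coneIdeal k n)
    ((idealOfVars (Fin n × Fin n) k).map (Ideal.Quotient.mk (coneIdeal k n))) (by
      intro q hq
      have hN := nilradical_quotient_isPrime (k := k) hn
      have : q.IsPrime := hq.1.1
      have h1 : nilradical (MvPolynomial (Fin n × Fin n) k ⧸ coneIdeal k n) ≤ q := nilradical_le_prime q
      have h2 := hq.2 ⟨hN, bot_le⟩ h1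
      exact h2.trans (nilradical_le_prime _))
  rw [← h9, h8]
  rfl

end DimMain

end Groth.Agent.R2.H50.NilCone
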