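import Mathlib

/-!
# A normality criterion (helper50)

`isIntegrallyClosed_of_embedding`: let `R` be a domain, `x ≠ 0` an element generating a radical ideal, and
`φ : R → Q` an injective ring map to an integrally closed domain which becomes surjective after inverting `x`.
Then `R` is integrally closed.  (Bruns–Vetter 16.24 in the form used for Schubert varieties.)
-/

set_option autoImplicit false

namespace Groth.Agent.R2.H50.Normal

variable {R : Type*} [CommRing R] [IsDomain R]

/-- if `x` generates a radical ideal and `x ^ k * z = r` with `z` integral over `R`, then `z ∈ R`. -/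
theorem exists_eq_of_pow_mul_eq (x : R) (hx : x ≠ 0) (hrad : (Ideal.span {x}).IsRadical)
    (z : FractionRing R) (hz : IsIntegral R z) :
    ∀ (k : ℕ) (r : R), algebraMap R (FractionRing R) x ^ k * z = algebraMap R (FractionRing R) r →
      ∃ y : R, algebraMap R (FractionRing R) y = z := by
  have hinj := IsFractionRing.injective R (FractionRing R)
  obtain ⟨p, hp, hpz⟩ := hz
  intro k
  induction k with
  | zero =>
    intro r h
    exact ⟨r, by rw [← h, pow_zero, one_mul]⟩
  | succ k ih =>
    intro r h
    have h1 : x ^ (k + 1) ∣ r ^ p.natDegree :=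
      Polynomial.dvd_pow_natDegree_of_eval₂_eq_zero hinj hp (x ^ (k + 1)) r z hpz (by rw [map_pow, h])
    have h2 : x ∣ r ^ p.natDegree := dvd_trans (dvd_pow_self x (Nat.succ_ne_zero k)) h1
    have h3 : r ∈ Ideal.span {x} := hrad ⟨p.natDegree, Ideal.mem_span_singleton.2 h2⟩
    obtain ⟨r', rfl⟩ := Ideal.mem_span_singleton.1 h3
    apply ih r'
    have hx' : algebraMap R (FractionRing R) x ≠ 0 := by
      intro h0
      exact hx (hinj (h0.trans (map_zero _).symm))
    apply mul_left_cancel₀ hx'
    rw [← mul_assoc, ← pow_succ', h, map_mul]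

theorem isIntegrallyClosed_of_embedding {Q : Type*} [CommRing Q] [IsDomain Q] [IsIntegrallyClosed Q]
    (φ : R →+* Q) (hφ : Function.Injective φ) (x : R) (hx : x ≠ 0)
    (hrad : (Ideal.span {x}).IsRadical)
    (hsurj : ∀ q : Q, ∃ (k : ℕ) (r : R), φ r = φ x ^ k * q) : IsIntegrallyClosed R := by
  rw [isIntegrallyClosed_iff (FractionRing R)]
  intro z hz
  have hinj := IsFractionRing.injective R (FractionRing R)
  have hinjQ := IsFractionRing.injective Q (FractionRing Q)
  have hle : nonZeroDivisors R ≤ (nonZeroDivisors Q).comap φ :=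
    nonZeroDivisors_le_comap_nonZeroDivisors_of_injective φ hφ
  let φL : FractionRing R →+* FractionRing Q := IsLocalization.map (FractionRing Q) φ hle
  have hφL : ∀ a : R, φL (algebraMap R (FractionRing R) a) = algebraMap Q (FractionRing Q) (φ a) :=
    fun a => IsLocalization.map_eq hle a
  have hz' : IsIntegral Q (φL z) := by
    refine hz.map_of_comp_eq φ φL ?_
    ext a
    exact (hφL a).symm
  obtain ⟨q, hq⟩ := IsIntegrallyClosed.isIntegral_iff.1 hz'
  obtain ⟨a, b, hb, rfl⟩ := IsFractionRing.div_surjective (A := R) z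
  have hb0 : b ≠ 0 := nonZeroDivisors.ne_zero hb
  have hb' : algebraMap R (FractionRing R) b ≠ 0 := by
    intro h0
    exact hb0 (hinj (h0.trans (map_zero _).symm))
  have hφb : algebraMap Q (FractionRing Q) (φ b) ≠ 0 := by
    intro h0
    have := hinjQ (h0.trans (map_zero _).symm)
    exact hb0 (hφ (this.trans (map_zero _).symm))
  have h1 : q * φ b = φ a := by
    apply hinjQ
    rw [map_mul, hq, map_div₀, hφL, hφL, div_mul_cancel₀ _ hφb]
  obtain ⟨k, r, hr⟩ := hsurj q
  have h2 : x ^ k * a = r * b := by
    apply hφ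
    rw [map_mul, map_mul, map_pow, hr, ← h1]
    ring
  refine exists_eq_of_pow_mul_eq x hx hrad _ hz k r ?_
  rw [← map_pow, mul_div_assoc', ← map_mul, h2, map_mul, mul_div_assoc, div_self hb', mul_one]

end Groth.Agent.R2.H50.Normal
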