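import Mathlib
import Groth.Prelude.Def_W4bk4grassmannianPl
import Groth.Agent.R2.H50PlCoord

/-!
# The Plücker quadrics cut out the decomposable vectors (helper50)
-/

set_option autoImplicit false

noncomputable section

namespace Groth.Agent.R2.H50.PlQuadric

open MvPolynomial W4bk4grassmannian Groth.Agent.R2.H50.PlCoord

section Vanish

variable (K : Type*) [Field K] {e n : ℕ}

/-- `v ↦ det [w_0, …, w_{e-1}, v]` -/
def lastRowDet (W : Fin e → (Fin (e + 1) → K)) : (Fin (e + 1) → K) →ₗ[K] K :=
  (Matrix.detRowAlternating (n := Fin (e + 1)) (R := K)).toMultilinearMap.toLinearMap (Fin.snoc W 0) (Fin.last e)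

theorem lastRowDet_apply (W : Fin e → (Fin (e + 1) → K)) (v : Fin (e + 1) → K) :
    lastRowDet K W v = Matrix.det (Matrix.of (Fin.snoc W v : Fin (e + 1) → (Fin (e + 1) → K))) := by
  unfold lastRowDet
  rw [MultilinearMap.toLinearMap_apply]
  rw [Fin.update_snoc_last]
  rfl

/-- the Plücker quadrics vanish at the minors of a matrix -/
theorem evalMinors_quadric (A : Matrix (Fin n) (Fin (e + 1)) K) (i' : Idx e n) (j' : Idx (e + 2) n) :
    evalMinors K (e + 1) n A (quadric K i' j') = 0 := by
  classical
  unfold quadric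
  rw [map_sum]
  simp only [map_mul, map_pow, map_neg, map_one, evalMinors_coord]
  -- the alternating map
  let W : Fin e → (Fin (e + 1) → K) := fun s => A (i'.1 s)
  let f : (Fin (e + 1) → K) →ₗ[K] (Fin (e + 1) → K) [⋀^Fin (e + 1)]→ₗ[K] K :=
    (lastRowDet K W).smulRight (Matrix.detRowAlternating (n := Fin (e + 1)) (R := K))
  let F := AlternatingMap.alternatizeUncurryFin f
  let v : Fin (e + 2) → (Fin (e + 1) → K) := fun h => A (j'.1 h)
  have hF : F v = 0 := by
    apply AlternatingMap.map_linearDependent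
    intro hli
    have := hli.fintype_card_le_finrank
    rw [Module.finrank_fin_fun, Fintype.card_fin] at this
    omega
  rw [AlternatingMap.alternatizeUncurryFin_apply] at hF
  have hF' : ∑ h : Fin (e + 2), (-1 : K) ^ (h : ℕ) * (f (v h) (Fin.removeNth h v)) = 0 := by
    rw [← hF]
    refine Finset.sum_congr rfl fun h _ => ?_
    rcases Nat.even_or_odd (h : ℕ) with hh | hh
    · rw [hh.neg_one_pow, hh.neg_one_pow, one_mul, one_smul]
    · rw [hh.neg_one_pow, hh.neg_one_pow, neg_one_mul, neg_smul, one_smul]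
  have key : ∀ h : Fin (e + 2), (-1 : K) ^ (h.val + 1) * (A.submatrix (Fin.snoc i'.1 (j'.1 h)) id).det *
      (A.submatrix (j'.1 ∘ h.succAbove) id).det = - ((-1 : K) ^ (h : ℕ) * f (v h) (Fin.removeNth h v)) := by
    intro h
    have e1 : f (v h) (Fin.removeNth h v) = lastRowDet K W (v h) * Matrix.det (Matrix.of (Fin.removeNth h v)) := by
      simp only [f, LinearMap.smulRight_apply, AlternatingMap.smul_apply, smul_eq_mul]
      rfl
    rw [e1, lastRowDet_apply]
    have e2 : (Matrix.of (Fin.snoc W (v h) : Fin (e + 1) → (Fin (e + 1) → K))) =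
        A.submatrix (Fin.snoc i'.1 (j'.1 h)) id := by
      ext s t
      simp only [Matrix.of_apply, Matrix.submatrix_apply, id_eq]
      refine Fin.lastCases ?_ (fun s' => ?_) s
      · simp [v]
      · simp [W]
    have e3 : Matrix.of (Fin.removeNth h v) = A.submatrix (j'.1 ∘ h.succAbove) id := by
      ext s t
      rfl
    rw [e2, e3, pow_succ]
    ring
  rw [Finset.sum_congr rfl fun h _ => key h, Finset.sum_neg_distrib, hF', neg_zero]

end Vanish

section Ext

variable (K : Type*) [Field K] {d n : ℕ}

/-- value of `q` at an arbitrary tuple (signed, zero on repeats) -/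
def ext (q : Idx d n → K) (a : Fin d → Fin n) : K := MvPolynomial.eval q (coord K d n a)

theorem ext_of_not (q : Idx d n → K) (a : Fin d → Fin n) (h : ¬ (Finset.univ.image a).card = d) :
    ext K q a = 0 := by
  unfold ext coord
  rw [dif_neg h, map_zero]

theorem ext_of_card (q : Idx d n → K) (a : Fin d → Fin n) (h : (Finset.univ.image a).card = d) :
    ext K q a = (-1) ^ (invCount d n a) * q (sortIdx d n a h) := by
  unfold ext coord
  rw [dif_pos h]
  simp

theorem ext_congr (q1 q2 : Idx d n → K) (a : Fin d → Fin n)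
    (h : ∀ h : (Finset.univ.image a).card = d, q1 (sortIdx d n a h) = q2 (sortIdx d n a h)) :
    ext K q1 a = ext K q2 a := by
  by_cases hc : (Finset.univ.image a).card = d
  · rw [ext_of_card _ _ _ hc, ext_of_card _ _ _ hc, h hc]
  · rw [ext_of_not _ _ _ hc, ext_of_not _ _ _ hc]

theorem ext_smul (c : K) (q : Idx d n → K) (a : Fin d → Fin n) :
    ext K (fun θ => c * q θ) a = c * ext K q a := by
  by_cases hc : (Finset.univ.image a).card = d
  · rw [ext_of_card _ _ _ hc, ext_of_card _ _ _ hc]
    ring
  · rw [ext_of_not _ _ _ hc, ext_of_not _ _ _ hc, mul_zero]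

/-- the set of rows of an index -/
def supp (θ : Idx d n) : Finset (Fin n) := Finset.univ.image θ.1

theorem card_supp (θ : Idx d n) : (supp θ).card = d := by
  unfold supp
  rw [Finset.card_image_of_injective _ θ.2.injective, Finset.card_univ, Fintype.card_fin]

theorem supp_sortIdx (a : Fin d → Fin n) (h : (Finset.univ.image a).card = d) :
    supp (sortIdx d n a h) = Finset.univ.image a := by
  unfold supp sortIdx
  exact Finset.image_orderEmbOfFin_univ _ h

theorem idx_eq_of_supp {θ θ' : Idx d n} (h : supp θ = supp θ') : θ = θ' := by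
  apply Subtype.ext
  rw [← StrictMono.range_inj θ.2 θ'.2]
  have := congrArg (fun S : Finset (Fin n) => (S : Set (Fin n))) h
  simpa [supp] using this

theorem ext_idx (q : Idx d n → K) (θ : Idx d n) : ext K q θ.1 = q θ := by
  have hc : (Finset.univ.image θ.1).card = d := card_supp θ
  rw [ext_of_card _ _ _ hc]
  have h1 : sortIdx d n θ.1 hc = θ := idx_eq_of_supp (supp_sortIdx θ.1 hc)
  have h2 : invCount d n θ.1 = 0 := by
    unfold invCount
    rw [Finset.card_eq_zero, Finset.filter_eq_empty_iff]
    rintro p - ⟨hp1, hp2⟩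
    exact absurd (θ.2 hp1) (not_lt.2 hp2.le)
  rw [h1, h2, pow_zero, one_mul]

/-- the index with a given set of rows -/
def idxOf (S : Finset (Fin n)) (h : S.card = d) : Idx d n := ⟨S.orderEmbOfFin h, (S.orderEmbOfFin h).strictMono⟩

theorem supp_idxOf (S : Finset (Fin n)) (h : S.card = d) : supp (idxOf S h) = S := by
  unfold supp idxOf
  exact Finset.image_orderEmbOfFin_univ _ h

theorem image_snoc {e : ℕ} (f : Fin e → Fin n) (y : Fin n) :
    Finset.univ.image (Fin.snoc f y : Fin (e + 1) → Fin n) = insert y (Finset.univ.image f) := by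
  ext z
  simp only [Finset.mem_image, Finset.mem_univ, true_and, Finset.mem_insert]
  constructor
  · rintro ⟨s, rfl⟩
    refine Fin.lastCases ?_ (fun s' => ?_) s
    · left; simp
    · right; exact ⟨s', by simp⟩
  · rintro (rfl | ⟨s', rfl⟩)
    · exact ⟨Fin.last e, by simp⟩
    · exact ⟨s'.castSucc, by simp⟩

theorem image_comp_succAbove {e : ℕ} (j' : Idx (e + 1) n) (h : Fin (e + 1)) :
    Finset.univ.image (j'.1 ∘ h.succAbove) = (supp j').erase (j'.1 h) := by
  ext z
  simp only [Finset.mem_image, Finset.mem_univ, true_and, Finset.mem_erase, supp, Function.comp_apply]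
  constructor
  · rintro ⟨s, rfl⟩
    exact ⟨fun hh => Fin.succAbove_ne h s (j'.2.injective hh), ⟨_, rfl⟩⟩
  · rintro ⟨hne, s, rfl⟩
    have hs : s ≠ h := fun hh => hne (by rw [hh])
    obtain ⟨s', rfl⟩ := Fin.exists_succAbove_eq hs
    exact ⟨s', rfl⟩

/-- removing one row from an index -/
def removeRow {e : ℕ} (j' : Idx (e + 1) n) (h : Fin (e + 1)) : Idx e n :=
  ⟨j'.1 ∘ h.succAbove, j'.2.comp (Fin.strictMono_succAbove h)⟩

theorem supp_removeRow {e : ℕ} (j' : Idx (e + 1) n) (h : Fin (e + 1)) :
    supp (removeRow j' h) = (supp j').erase (j'.1 h) := image_comp_succAbove j' h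

theorem eval_quadric {e : ℕ} (q : Idx (e + 1) n → K) (i' : Idx e n) (j' : Idx (e + 2) n) :
    MvPolynomial.eval q (quadric K i' j') = ∑ h : Fin (e + 2),
      (-1 : K) ^ (h.val + 1) * ext K q (Fin.snoc i'.1 (j'.1 h)) * q (removeRow j' h) := by
  unfold quadric
  rw [map_sum]
  refine Finset.sum_congr rfl fun h _ => ?_
  rw [map_mul, map_mul, map_pow, map_neg, map_one]
  congr 1
  exact ext_idx K q (removeRow j' h)

end Ext

section Unique

variable (K : Type*) [Field K] {e n : ℕ}

/-- a solution of the quadrics is determined by its values at distance `≤ 1` from an index where it does not vanish -/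
theorem unique_of_quadrics (q1 q2 : Idx (e + 1) n → K)
    (h1 : ∀ (i' : Idx e n) (j' : Idx (e + 2) n), MvPolynomial.eval q1 (quadric K i' j') = 0)
    (h2 : ∀ (i' : Idx e n) (j' : Idx (e + 2) n), MvPolynomial.eval q2 (quadric K i' j') = 0)
    (θ0 : Idx (e + 1) n) (h0 : q1 θ0 ≠ 0)
    (hd : ∀ θ : Idx (e + 1) n, (supp θ \ supp θ0).card ≤ 1 → q1 θ = q2 θ) : q1 = q2 := by
  classical
  funext θ
  obtain ⟨k, hk⟩ : ∃ k, (supp θ \ supp θ0).card = k := ⟨_, rfl⟩
  induction k using Nat.strong_induction_on generalizing θ with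
  | _ k ih =>
    rcases Nat.lt_or_ge k 2 with hk2 | hk2
    · exact hd θ (by omega)
    have hcard : (supp θ0 \ supp θ).card = k := by
      rw [Finset.card_sdiff_comm (by rw [card_supp, card_supp]), hk]
    obtain ⟨x, hx⟩ : (supp θ0 \ supp θ).Nonempty := by
      rw [← Finset.card_pos]; omega
    rw [Finset.mem_sdiff] at hx
    obtain ⟨hx0, hxθ⟩ := hx
    have hSi : ((supp θ0).erase x).card = e := by
      rw [Finset.card_erase_of_mem hx0, card_supp]; rfl
    have hSj : (insert x (supp θ)).card = e + 2 := by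
      rw [Finset.card_insert_of_notMem hxθ, card_supp]
    set i' : Idx e n := idxOf _ hSi with hi'
    set j' : Idx (e + 2) n := idxOf _ hSj with hj'
    have hsi : supp i' = (supp θ0).erase x := supp_idxOf _ _
    have hsj : supp j' = insert x (supp θ) := supp_idxOf _ _
    obtain ⟨hh0, hhx⟩ : ∃ hh0 : Fin (e + 2), j'.1 hh0 = x := by
      have : x ∈ supp j' := by rw [hsj]; exact Finset.mem_insert_self _ _
      simpa [supp] using this
    have e1 := h1 i' j'
    have e2 := h2 i' j'
    rw [eval_quadric] at e1 e2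
    have hoff : ∀ h : Fin (e + 2), h ≠ hh0 →
        (-1 : K) ^ (h.val + 1) * ext K q1 (Fin.snoc i'.1 (j'.1 h)) * q1 (removeRow j' h) =
        (-1 : K) ^ (h.val + 1) * ext K q2 (Fin.snoc i'.1 (j'.1 h)) * q2 (removeRow j' h) := by
      intro h hne
      have hy : j'.1 h ∈ supp θ := by
        have : j'.1 h ∈ supp j' := Finset.mem_image_of_mem _ (Finset.mem_univ _)
        rw [hsj, Finset.mem_insert] at this
        rcases this with h' | h'
        · exact absurd (j'.2.injective (h'.trans hhx.symm)) hne
        · exact h'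
      have hyx : j'.1 h ≠ x := fun h' => hxθ (h' ▸ hy)
      have himg : Finset.univ.image (Fin.snoc i'.1 (j'.1 h) : Fin (e + 1) → Fin n) =
          insert (j'.1 h) ((supp θ0).erase x) := by
        rw [image_snoc]
        exact congrArg _ hsi
      by_cases hy0 : j'.1 h ∈ supp θ0
      · have hnot : ¬ (Finset.univ.image (Fin.snoc i'.1 (j'.1 h) : Fin (e + 1) → Fin n)).card = e + 1 := by
          rw [himg, Finset.insert_eq_of_mem (Finset.mem_erase.2 ⟨hyx, hy0⟩), hSi]
          omega
        rw [ext_of_not _ _ _ hnot, ext_of_not _ _ _ hnot, mul_zero, zero_mul, zero_mul]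
      · have hE : ext K q1 (Fin.snoc i'.1 (j'.1 h)) = ext K q2 (Fin.snoc i'.1 (j'.1 h)) := by
          apply ext_congr
          intro hc
          apply hd
          rw [supp_sortIdx, himg]
          apply (Finset.card_le_card _).trans (Finset.card_singleton (j'.1 h)).le
          intro z hz
          rw [Finset.mem_sdiff, Finset.mem_insert] at hz
          rcases hz.1 with rfl | hz1
          · exact Finset.mem_singleton_self _
          · exact absurd (Finset.mem_of_mem_erase hz1) hz.2
        have hR : q1 (removeRow j' h) = q2 (removeRow j' h) := by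
          apply ih (k - 1) (by omega)
          rw [supp_removeRow, hsj]
          have : ((insert x (supp θ)).erase (j'.1 h)) \ supp θ0 = (supp θ \ supp θ0).erase (j'.1 h) := by
            ext z
            simp only [Finset.mem_sdiff, Finset.mem_erase, Finset.mem_insert]
            constructor
            · rintro ⟨⟨hz1, rfl | hz2⟩, hz3⟩
              · exact absurd hx0 hz3
              · exact ⟨hz1, hz2, hz3⟩
            · rintro ⟨hz1, hz2, hz3⟩
              exact ⟨⟨hz1, Or.inr hz2⟩, hz3⟩
          rw [this, Finset.card_erase_of_mem (Finset.mem_sdiff.2 ⟨hy, hy0⟩), hk]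
        rw [hE, hR]
    have hdiff : ∑ h : Fin (e + 2),
        ((-1 : K) ^ (h.val + 1) * ext K q1 (Fin.snoc i'.1 (j'.1 h)) * q1 (removeRow j' h) -
         (-1 : K) ^ (h.val + 1) * ext K q2 (Fin.snoc i'.1 (j'.1 h)) * q2 (removeRow j' h)) = 0 := by
      rw [Finset.sum_sub_distrib, e1, e2, sub_zero]
    rw [Finset.sum_eq_single hh0 (fun h _ hne => by rw [hoff h hne, sub_self])
      (fun h => absurd (Finset.mem_univ _) h)] at hdiff
    have hR0 : removeRow j' hh0 = θ :=
      idx_eq_of_supp (by rw [supp_removeRow, hsj, hhx, Finset.erase_insert hxθ])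
    have himg0 : Finset.univ.image (Fin.snoc i'.1 (j'.1 hh0) : Fin (e + 1) → Fin n) = supp θ0 := by
      rw [image_snoc, hhx]
      have : Finset.univ.image i'.1 = (supp θ0).erase x := hsi
      rw [this, Finset.insert_erase hx0]
    have hc0 : (Finset.univ.image (Fin.snoc i'.1 (j'.1 hh0) : Fin (e + 1) → Fin n)).card = e + 1 := by
      rw [himg0, card_supp]
    have hs0 : sortIdx (e + 1) n _ hc0 = θ0 := idx_eq_of_supp (by rw [supp_sortIdx, himg0])
    rw [ext_of_card _ _ _ hc0, ext_of_card _ _ _ hc0, hs0, hR0] at hdiff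
    have h00 : q1 θ0 = q2 θ0 := hd θ0 (by simp)
    rw [← h00, ← mul_sub] at hdiff
    have hne : (-1 : K) ^ (hh0.val + 1) *
        ((-1) ^ (invCount (e + 1) n (Fin.snoc i'.1 (j'.1 hh0))) * q1 θ0) ≠ 0 :=
      mul_ne_zero (pow_ne_zero _ (neg_ne_zero.2 one_ne_zero))
        (mul_ne_zero (pow_ne_zero _ (neg_ne_zero.2 one_ne_zero)) h0)
    exact sub_eq_zero.1 ((mul_eq_zero.1 hdiff).resolve_left hne)

end Unique

section Construct

variable (K : Type*) [Field K] {e n : ℕ}

theorem injective_of_card_image {d : ℕ} (a : Fin d → Fin n) (h : (Finset.univ.image a).card = d) :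
    Function.Injective a := by
  intro s t hst
  have hcard : (Finset.univ.image a).card = (Finset.univ : Finset (Fin d)).card := by simpa using h
  exact Finset.card_image_iff.mp hcard (Finset.mem_coe.2 (Finset.mem_univ s))
    (Finset.mem_coe.2 (Finset.mem_univ t)) hst

/-- the matrix of normalised coordinates at distance one from `θ0` -/
def matOf (q : Idx (e + 1) n → K) (θ0 : Idx (e + 1) n) : Matrix (Fin n) (Fin (e + 1)) K :=
  fun r t => ext K q (Function.update θ0.1 t r) / q θ0

theorem matOf_submatrix_self (q : Idx (e + 1) n → K) (θ0 : Idx (e + 1) n) (h0 : q θ0 ≠ 0) :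
    (matOf K q θ0).submatrix θ0.1 id = 1 := by
  ext s t
  simp only [Matrix.submatrix_apply, id_eq, matOf]
  by_cases hst : s = t
  · subst hst
    rw [Function.update_eq_self, ext_idx, div_self h0, Matrix.one_apply_eq]
  · rw [Matrix.one_apply_ne hst]
    have hnot : ¬ (Finset.univ.image (Function.update θ0.1 t (θ0.1 s))).card = e + 1 := by
      intro hc
      have hinj := injective_of_card_image _ hc
      have : Function.update θ0.1 t (θ0.1 s) t = Function.update θ0.1 t (θ0.1 s) s := by
        rw [Function.update_self, Function.update_of_ne hst]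
      exact hst (hinj this).symm
    rw [ext_of_not _ _ _ hnot, zero_div]

theorem det_matOf_update (q : Idx (e + 1) n → K) (θ0 : Idx (e + 1) n) (h0 : q θ0 ≠ 0) (t : Fin (e + 1))
    (r : Fin n) :
    ((matOf K q θ0).submatrix (Function.update θ0.1 t r) id).det =
      ext K q (Function.update θ0.1 t r) / q θ0 := by
  classical
  have e1 : (matOf K q θ0).submatrix (Function.update θ0.1 t r) id =
      Matrix.updateRow (1 : Matrix (Fin (e + 1)) (Fin (e + 1)) K) t (matOf K q θ0 r) := by
    rw [← matOf_submatrix_self K q θ0 h0]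
    ext s t'
    simp only [Matrix.submatrix_apply, id_eq, Matrix.updateRow_apply]
    by_cases hs : s = t
    · subst hs
      simp
    · simp [hs, Function.update_of_ne hs]
  rw [e1, ← Matrix.cramer_transpose_apply, Matrix.transpose_one, Matrix.cramer_one]
  rfl

theorem eq_insert_erase_of_sdiff {α : Type*} [DecidableEq α] (S T : Finset α) (r x : α)
    (h1 : S \ T = {r}) (h2 : T \ S = {x}) : S = insert r (T.erase x) := by
  ext z
  have a1 := Finset.ext_iff.1 h1 z
  have a2 := Finset.ext_iff.1 h2 z
  simp only [Finset.mem_sdiff, Finset.mem_singleton, Finset.mem_insert, Finset.mem_erase] at *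
  by_cases hzS : z ∈ S <;> by_cases hzT : z ∈ T <;> simp_all

theorem image_update (θ0 : Idx (e + 1) n) (t : Fin (e + 1)) (r : Fin n) :
    Finset.univ.image (Function.update θ0.1 t r) = insert r ((supp θ0).erase (θ0.1 t)) := by
  classical
  ext z
  simp only [Finset.mem_image, Finset.mem_univ, true_and, Finset.mem_insert, Finset.mem_erase, supp]
  constructor
  · rintro ⟨s, rfl⟩
    by_cases hs : s = t
    · left; rw [hs, Function.update_self]
    · right
      rw [Function.update_of_ne hs]
      exact ⟨fun h => hs (θ0.2.injective h), ⟨s, rfl⟩⟩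
  · rintro (rfl | ⟨hne, s, rfl⟩)
    · exact ⟨t, Function.update_self _ _ _⟩
    · have hs : s ≠ t := fun h => hne (by rw [h])
      exact ⟨s, Function.update_of_ne hs _ _⟩

theorem agree_dist_le_one (q : Idx (e + 1) n → K) (θ0 : Idx (e + 1) n) (h0 : q θ0 ≠ 0) (θ : Idx (e + 1) n)
    (hθ : (supp θ \ supp θ0).card ≤ 1) :
    q θ = q θ0 * ((matOf K q θ0).submatrix θ.1 id).det := by
  classical
  rcases Nat.lt_or_ge (supp θ \ supp θ0).card 1 with hlt | hge
  · have h0c : supp θ \ supp θ0 = ∅ := Finset.card_eq_zero.1 (by omega)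
    have hsub : supp θ ⊆ supp θ0 := Finset.sdiff_eq_empty_iff_subset.1 h0c
    have heq : supp θ = supp θ0 := Finset.eq_of_subset_of_card_le hsub (by rw [card_supp, card_supp])
    have : θ = θ0 := idx_eq_of_supp heq
    subst this
    rw [matOf_submatrix_self K q θ h0, Matrix.det_one, mul_one]
  · have h1c : (supp θ \ supp θ0).card = 1 := by omega
    obtain ⟨r, hr⟩ := Finset.card_eq_one.1 h1c
    have h1c' : (supp θ0 \ supp θ).card = 1 := by
      rw [Finset.card_sdiff_comm (by rw [card_supp, card_supp]), h1c]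
    obtain ⟨x, hx⟩ := Finset.card_eq_one.1 h1c'
    have hx0 : x ∈ supp θ0 := by
      have : x ∈ supp θ0 \ supp θ := by rw [hx]; exact Finset.mem_singleton_self _
      exact (Finset.mem_sdiff.1 this).1
    obtain ⟨t, ht⟩ : ∃ t, θ0.1 t = x := by simpa [supp] using hx0
    have himg : Finset.univ.image (Function.update θ0.1 t r) = supp θ := by
      rw [image_update, ht]
      exact (eq_insert_erase_of_sdiff _ _ r x hr hx).symm
    have hc : (Finset.univ.image (Function.update θ0.1 t r)).card = e + 1 := by rw [himg, card_supp]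
    have hs : sortIdx (e + 1) n _ hc = θ := idx_eq_of_supp (by rw [supp_sortIdx, himg])
    have hdet := det_matOf_update K q θ0 h0 t r
    have hcoord := evalMinors_coord K (matOf K q θ0) (Function.update θ0.1 t r)
    unfold coord at hcoord
    rw [dif_pos hc] at hcoord
    simp only [map_mul, map_pow, map_neg, map_one] at hcoord
    unfold evalMinors at hcoord
    rw [aeval_X, hs, hdet, ext_of_card _ _ _ hc, hs, mul_div_assoc] at hcoord
    have hsign : (-1 : K) ^ invCount (e + 1) n (Function.update θ0.1 t r) ≠ 0 :=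
      pow_ne_zero _ (neg_ne_zero.2 one_ne_zero)
    have := mul_left_cancel₀ hsign hcoord
    rw [this, mul_div_cancel₀ _ h0]

theorem eval_smul_quadric (c : K) (m : Idx (e + 1) n → K) (i' : Idx e n) (j' : Idx (e + 2) n) :
    MvPolynomial.eval (fun θ => c * m θ) (quadric K i' j') = c ^ 2 * MvPolynomial.eval m (quadric K i' j') := by
  rw [eval_quadric, eval_quadric, Finset.mul_sum]
  refine Finset.sum_congr rfl fun h _ => ?_
  rw [ext_smul]
  ring

/-- a nonzero solution of the Plücker quadrics is the vector of minors of a matrix -/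
theorem exists_matrix_of_quadrics (q : Idx (e + 1) n → K) (hq : q ≠ 0)
    (h : ∀ (i' : Idx e n) (j' : Idx (e + 2) n), MvPolynomial.eval q (quadric K i' j') = 0) :
    ∃ A : Matrix (Fin n) (Fin (e + 1)) K, ∀ θ : Idx (e + 1) n, q θ = (A.submatrix θ.1 id).det := by
  classical
  obtain ⟨θ0, h0⟩ : ∃ θ0, q θ0 ≠ 0 := by
    by_contra hh
    push_neg at hh
    exact hq (funext hh)
  have hq2 : ∀ (i' : Idx e n) (j' : Idx (e + 2) n),
      MvPolynomial.eval (fun θ => q θ0 * ((matOf K q θ0).submatrix θ.1 id).det) (quadric K i' j') = 0 := by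
    intro i' j'
    rw [eval_smul_quadric]
    have := evalMinors_quadric K (matOf K q θ0) i' j'
    have e1 : MvPolynomial.eval (fun θ : Idx (e + 1) n => ((matOf K q θ0).submatrix θ.1 id).det) (quadric K i' j') =
        evalMinors K (e + 1) n (matOf K q θ0) (quadric K i' j') := rfl
    rw [e1, this, mul_zero]
  have huniq := unique_of_quadrics K q _ h hq2 θ0 h0 (fun θ hθ => agree_dist_le_one K q θ0 h0 θ hθ)
  set D : Matrix (Fin (e + 1)) (Fin (e + 1)) K :=
    Matrix.diagonal (Function.update (fun _ => (1 : K)) (0 : Fin (e + 1)) (q θ0)) with hD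
  refine ⟨matOf K q θ0 * D, fun θ => ?_⟩
  have hθ := congrFun huniq θ
  have e2 : (matOf K q θ0 * D).submatrix θ.1 id = (matOf K q θ0).submatrix θ.1 id * D := by
    ext s t
    simp [Matrix.mul_apply]
  rw [e2, Matrix.det_mul, hD]
  rw [Matrix.det_diagonal, Finset.prod_update_of_mem (Finset.mem_univ _)]
  simp only [Finset.prod_const_one, mul_one]
  rw [mul_comm]
  exact hθ

end Construct

end Groth.Agent.R2.H50.PlQuadric
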