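import Groth.Agent.R2.H41ResSpec
import Groth.Agent.Lib.Helper13HomologyColim

/-!
# helper50: PkgColim of PROJ:pres (helper41, S9078)

With exact `ℕ`-indexed colimits, the colimit of a compatible system of resolutions of the
truncations `τ_{≤ n+1} G` is a resolution of `G`.
-/

set_option autoImplicit false
universe v u
open CategoryTheory CategoryTheory.Limits

namespace Groth.Agent.R2.H50.ResColim

open Groth.Agent.R2.H41

theorem pkgColim : ResSpec.PkgColim.{v, u} := by
  intro 𝒜 _ _ _ _ G Kc π hcompat hq
  -- the cocone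
  let f : ∀ n : ℕ, Kc.obj n ⟶ G := fun n => π n ≫ G.ιTruncLE ((n : ℤ) + 1)
  let α : Kc ⟶ (Functor.const ℕ).obj G := NatTrans.ofSequence f (by
    intro n
    simp only [Functor.const_obj_obj, Functor.const_obj_map, Category.comp_id, f]
    exact hcompat n)
  let s : Cocone Kc := ⟨G, α⟩
  refine ⟨colimit.desc Kc s, fun n => colimit.ι_desc s n, ?_⟩
  rw [quasiIso_iff]
  intro i
  rw [quasiIsoAt_iff_isIso_homologyMap]
  let H := HomologicalComplex.homologyFunctor 𝒜 (ComplexShape.up ℤ) i
  -- the index from which things are constant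
  let N : ℕ := (i - 1).toNat
  have hN : ∀ n : ℕ, N ≤ n → i ≤ (n : ℤ) + 1 := by
    intro n hn
    have : i - 1 ≤ (N : ℤ) := Int.self_le_toNat (i - 1)
    have h2 : (N : ℤ) ≤ (n : ℤ) := by exact_mod_cast hn
    omega
  have hf : ∀ n : ℕ, N ≤ n → IsIso (H.map (f n)) := by
    intro n hn
    have h1 : IsIso (H.map (π n)) := by
      have := hq n
      have h3 : QuasiIsoAt (π n) i := inferInstance
      rw [quasiIsoAt_iff_isIso_homologyMap] at h3
      exact h3
    have h2 : IsIso (H.map (G.ιTruncLE ((n : ℤ) + 1))) := by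
      have h3 : QuasiIsoAt (G.ιTruncLE ((n : ℤ) + 1)) i :=
        G.quasiIsoAt_ιTruncLE _ _ (hN n hn)
      rw [quasiIsoAt_iff_isIso_homologyMap] at h3
      exact h3
    simp only [f, Functor.map_comp]
    infer_instance
  have hconst : (Kc ⋙ H).IsEventuallyConstantFrom N := by
    intro n φ
    have hn : N ≤ n := leOfHom φ
    have h1 : (Kc ⋙ H).map φ ≫ H.map (f n) = H.map (f N) := by
      have := α.naturality φ
      simp only [Functor.const_obj_obj, Functor.const_obj_map, Category.comp_id] at this
      rw [Functor.comp_map, ← H.map_comp]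
      exact congrArg H.map this
    have := hf n hn
    have := hf N le_rfl
    exact IsIso.of_isIso_fac_right h1
  have hcol : IsColimit (H.mapCocone (colimit.cocone Kc)) :=
    isColimitOfPreserves H (colimit.isColimit Kc)
  have h3 : IsIso (H.map (colimit.ι Kc N)) := hconst.isIso_ι_of_isColimit hcol
  have h4 : H.map (colimit.ι Kc N) ≫ H.map (colimit.desc Kc s) = H.map (f N) := by
    rw [← H.map_comp]
    exact congrArg H.map (colimit.ι_desc s N)
  have h5 := hf N le_rfl
  exact @IsIso.of_isIso_fac_left _ _ _ _ _ _ _ _ h3 h5 h4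

end Groth.Agent.R2.H50.ResColim
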