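import Groth.Agent.R2.H41ResSpec

/-!
# helper50: PkgTower of PROJ:pres (helper41, S9078), from PkgStep
-/

set_option autoImplicit false
universe v u
open CategoryTheory CategoryTheory.Limits ZeroObject

namespace Groth.Agent.R2.H50.ResTower

open Groth.Agent.R2.H41

variable {𝒜 : Type u} [Category.{v} 𝒜] [Abelian 𝒜]

/-- a stage of the tower: a resolution of `τ_{≤ n+1} G`. -/
structure Stage (P : 𝒜 → Prop) (G : CochainComplex 𝒜 ℤ) (n : ℕ) where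
  /-- the complex -/
  K : CochainComplex 𝒜 ℤ
  /-- the augmentation -/
  π : K ⟶ G.truncLE ((n : ℤ) + 1)
  qi : QuasiIso π
  epi : ∀ i, Epi (π.f i)
  le : K.IsStrictlyLE ((n : ℤ) + 1)
  mem : ∀ i, P (K.X i)

variable {P : 𝒜 → Prop}

theorem isStrictlyLE_zero (b : ℤ) : (0 : CochainComplex 𝒜 ℤ).IsStrictlyLE b := by
  rw [CochainComplex.isStrictlyLE_iff]
  intro i _
  exact (HomologicalComplex.eval 𝒜 (ComplexShape.up ℤ) i).map_isZero (isZero_zero _)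

theorem exists_stage_zero (h : ResSpec.PkgStep.{v, u}) (hP : ResSpec.Good P)
    (G : CochainComplex 𝒜 ℤ) : Nonempty (Stage P G 0) := by
  have := isStrictlyLE_zero (𝒜 := 𝒜) (((0 : ℕ) : ℤ) + 1)
  obtain ⟨K', i, g', hle, hmem, -, hqi, hepi, -⟩ :=
    h P hP (((0 : ℕ) : ℤ) + 1) 0 (G.truncLE (((0 : ℕ) : ℤ) + 1)) 0
      (fun i => hP.zero _ ((HomologicalComplex.eval 𝒜 (ComplexShape.up ℤ) i).map_isZero
        (isZero_zero _)))
  exact ⟨⟨K', g', hqi, hepi, hle, hmem⟩⟩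

theorem exists_stage_succ (h : ResSpec.PkgStep.{v, u}) (hP : ResSpec.Good P)
    (G : CochainComplex 𝒜 ℤ) (n : ℕ) (S : Stage P G n) :
    ∃ (S' : Stage P G (n + 1)) (t : S.K ⟶ S'.K),
      t ≫ S'.π ≫ G.ιTruncLE (((n + 1 : ℕ) : ℤ) + 1) = S.π ≫ G.ιTruncLE ((n : ℤ) + 1) ∧
      ∀ i, ∃ r : S'.K.X i ⟶ S.K.X i, t.f i ≫ r = 𝟙 _ ∧ P (cokernel (t.f i)) := by
  have := S.le
  have : S.K.IsStrictlyLE (((n + 1 : ℕ) : ℤ) + 1) :=
    S.K.isStrictlyLE_of_le ((n : ℤ) + 1) _ (by push_cast; omega)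
  let φ : S.K ⟶ G := S.π ≫ G.ιTruncLE ((n : ℤ) + 1)
  let g : S.K ⟶ G.truncLE (((n + 1 : ℕ) : ℤ) + 1) :=
    inv (S.K.ιTruncLE (((n + 1 : ℕ) : ℤ) + 1)) ≫ CochainComplex.truncLEMap φ _
  have hg : g ≫ G.ιTruncLE (((n + 1 : ℕ) : ℤ) + 1) = φ := by
    simp only [g, Category.assoc, CochainComplex.ιTruncLE_naturality, IsIso.inv_hom_id_assoc]
  obtain ⟨K', i, g', hle, hmem, hfac, hqi, hepi, hsplit⟩ :=
    h P hP (((n + 1 : ℕ) : ℤ) + 1) S.K (G.truncLE (((n + 1 : ℕ) : ℤ) + 1)) g S.mem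
  refine ⟨⟨K', g', hqi, hepi, hle, hmem⟩, i, ?_, hsplit⟩
  show i ≫ g' ≫ _ = _
  rw [← Category.assoc, hfac, hg]

/-- the stages -/
noncomputable def stage (h : ResSpec.PkgStep.{v, u}) (hP : ResSpec.Good P)
    (G : CochainComplex 𝒜 ℤ) : ∀ n : ℕ, Stage P G n
  | 0 => (exists_stage_zero h hP G).some
  | n + 1 => (exists_stage_succ h hP G n (stage h hP G n)).choose

/-- the transition maps -/
noncomputable def trans (h : ResSpec.PkgStep.{v, u}) (hP : ResSpec.Good P)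
    (G : CochainComplex 𝒜 ℤ) (n : ℕ) : (stage h hP G n).K ⟶ (stage h hP G (n + 1)).K :=
  (exists_stage_succ h hP G n (stage h hP G n)).choose_spec.choose

theorem trans_spec (h : ResSpec.PkgStep.{v, u}) (hP : ResSpec.Good P)
    (G : CochainComplex 𝒜 ℤ) (n : ℕ) :
    trans h hP G n ≫ (stage h hP G (n + 1)).π ≫ G.ιTruncLE (((n + 1 : ℕ) : ℤ) + 1) =
      (stage h hP G n).π ≫ G.ιTruncLE ((n : ℤ) + 1) ∧
    ∀ i, ∃ r : (stage h hP G (n + 1)).K.X i ⟶ (stage h hP G n).K.X i,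
      (trans h hP G n).f i ≫ r = 𝟙 _ ∧ P (cokernel ((trans h hP G n).f i)) :=
  (exists_stage_succ h hP G n (stage h hP G n)).choose_spec.choose_spec

theorem pkgTower (h : ResSpec.PkgStep.{v, u}) : ResSpec.PkgTower.{v, u} := by
  intro 𝒜 _ _ P hP G
  let Kc : ℕ ⥤ CochainComplex 𝒜 ℤ :=
    Functor.ofSequence (X := fun n => (stage h hP G n).K) (fun n => trans h hP G n)
  have hmap : ∀ n : ℕ, Kc.map (homOfLE (Nat.le_succ n)) = trans h hP G n := fun n =>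
    Functor.ofSequence_map_homOfLE_succ _ n
  refine ⟨Kc, fun n => (stage h hP G n).π, ?_, ?_, ?_, ?_, ?_⟩
  · intro n
    rw [hmap]
    exact (trans_spec h hP G n).1
  · intro n
    exact ⟨(stage h hP G n).qi, (stage h hP G n).epi⟩
  · intro n
    exact (stage h hP G n).le
  · intro n i
    exact (stage h hP G n).mem i
  · intro n i
    have key : ∀ t' : Kc.obj n ⟶ Kc.obj (n + 1), t' = trans h hP G n →
        ∃ r : (Kc.obj (n + 1)).X i ⟶ (Kc.obj n).X i, t'.f i ≫ r = 𝟙 _ ∧ P (cokernel (t'.f i)) := by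
      rintro _ rfl
      exact (trans_spec h hP G n).2 i
    exact key _ (hmap n)

end Groth.Agent.R2.H50.ResTower
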