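import Mathlib
import Groth.Prelude.Def_W4bk4grassmannianPl
import Groth.Agent.Lib.Helper24Grass
import Groth.Agent.R2.H50PlMain
import Groth.Agent.R2.H50PlStraight
import Groth.Agent.R2.H50Rees
import Groth.Agent.R2.H50HibiDeg

/-!
# The degeneration of the cone over a Schubert variety to the Stanley–Reisner ring of `H(w)` (helper50)

Weights `ν(θ) = (dn)² - (Σ θ_t)²`: every standard monomial in the straightening relation of a skew pair has strictly smaller
weight than the pair, so the filtration of `A = S/J(w)` by weights of standard monomials is multiplicative and products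
of skew pairs drop in the associated graded ring.
-/

set_option autoImplicit false

noncomputable section

namespace Groth.Agent.R2.H50.SRDeg

open MvPolynomial W4bk4grassmannian
open Groth.Agent.R2.H50.PlLead Groth.Agent.R2.H50.PlMain Groth.Agent.R2.H50.PlStraight
  Groth.Agent.R2.H50.PlWeight Groth.Agent.Lib.Helper24Grass Groth.Agent.R2.H50.HibiDeg Groth.Agent.R2.H50

variable {d n : ℕ} (K : Type*) [Field K]

/-- straightening of a product of two coordinates, with control of the weights -/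
theorem straightening_wt [Infinite K] (hd : 0 < d) (τ φ : Idx d n) :
    ∃ g ∈ Submodule.span K {f : PlRing K d n | ∃ α β : Idx d n,
        β ≤ α ∧ τ ≤ α ∧ φ ≤ α ∧ wt α.1 + wt β.1 = wt τ.1 + wt φ.1 ∧ f = X α * X β},
      X τ * X φ - g ∈ vanishing K d n := by
  classical
  obtain ⟨l, hl⟩ := exists_rep K (X τ * X φ)
  have hl' : X τ * X φ - Finsupp.linearCombination K (stdMon K) l ∈ vanishing K d n :=
    plIdealTop_le_vanishing K hl
  set N₀ := uW (rw0 n) τ + uW (rw0 n) φ with hN₀
  have hg : ∀ A : Matrix (Fin n) (Fin d) K, evW K (rw0 n) A (X τ * X φ) =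
      Polynomial.C (evalMinors K d n A (X τ * X φ)) * Polynomial.X ^ N₀ := by
    intro A
    rw [map_mul, evW_X, evW_X, map_mul, Polynomial.C_mul, hN₀, pow_add]
    ring
  set l' := l.filter (fun c => UW (rw0 n) c = N₀) with hl'def
  have hD : X τ * X φ - Finsupp.linearCombination K (stdMon K) l' ∈ vanishing K d n :=
    filter_mem_vanishing K (rw0 n) _ N₀ hg l hl'
  have hsupp : ∀ c, l' c ≠ 0 → c.1 = 2 ∧ ∑ k, wt (c.2.1 k).1 = wt τ.1 + wt φ.1 := by
    intro c hc
    have hc' : c ∈ l'.support := Finsupp.mem_support_iff.2 hc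
    rw [hl'def, Finsupp.support_filter, Finset.mem_filter] at hc'
    exact len_two_of_UW_eq hd τ φ c hc'.2
  have h1a : ∀ (a b : Idx d n) (hab : b ≤ a), l' (mk2 a b hab) ≠ 0 → τ ≤ a ∧ φ ≤ a := by
    intro a b hab hne
    by_contra hcon
    have hmem : X τ * X φ ∈ schubertVanishing K d n a := by
      by_cases h1 : τ ≤ a
      · have h2 : ¬ φ ≤ a := fun h2 => hcon ⟨h1, h2⟩
        exact Ideal.mul_mem_left _ _ (X_mem_schubertVanishing K a φ h2)
      · exact Ideal.mul_mem_right _ _ (X_mem_schubertVanishing K a τ h1)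
    have h3 : Finsupp.linearCombination K (stdMon K) l' ∈ schubertVanishing K d n a := by
      have := Ideal.sub_mem _ hmem (vanishing_le_schubertVanishing K a hD)
      rwa [sub_sub_cancel] at this
    apply hne
    refine coeff_eq_zero_of_mem K a hd l' h3 _ ?_
    intro k
    fin_cases k
    · exact le_rfl
    · exact hab
  refine ⟨Finsupp.linearCombination K (stdMon K) l', ?_, hD⟩
  rw [Finsupp.linearCombination_apply, Finsupp.sum]
  refine Submodule.sum_mem _ fun c hc => Submodule.smul_mem _ _ (Submodule.subset_span ?_)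
  have hc1 : l' c ≠ 0 := Finsupp.mem_support_iff.1 hc
  obtain ⟨hlen, hwt⟩ := hsupp c hc1
  obtain ⟨m, c, hanti⟩ := c
  simp only at hlen hwt
  subst hlen
  rw [eq_mk2 c hanti] at hc1 ⊢
  rw [Fin.sum_univ_two] at hwt
  have hba : c 1 ≤ c 0 := hanti (by decide)
  obtain ⟨h1, h2⟩ := h1a (c 0) (c 1) hba hc1
  exact ⟨c 0, c 1, hba, h1, h2, hwt, stdMon_mk2 K _ _ hba⟩

/-- the weight of a coordinate -/
def nuS0 (θ : Idx d n) : ℕ := (d * n) ^ 2 - (wt θ.1) ^ 2

theorem nuS0_add (θ : Idx d n) : nuS0 θ + (wt θ.1) ^ 2 = (d * n) ^ 2 := by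
  unfold nuS0
  have := Nat.pow_le_pow_left (wt_le θ.1) 2
  omega

/-- the weight of a monomial -/
def V {k : ℕ} (s : Fin k → Idx d n) : ℕ := ∑ j, nuS0 (s j)

/-- the weight of a standard monomial -/
def nuS (w : Idx d n) (c : Cw w) : ℕ := V c.2.1

theorem nuS0_lt {τ φ α β : Idx d n} (h₁ : ¬ τ ≤ φ) (h₂ : ¬ φ ≤ τ) (hτ : τ ≤ α) (hφ : φ ≤ α)
    (hwt : wt α.1 + wt β.1 = wt τ.1 + wt φ.1) : nuS0 α + nuS0 β < nuS0 τ + nuS0 φ := by
  have hsup : W4bk4grassmannian.sup τ φ ≤ α := fun t => max_le (hτ t) (hφ t)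
  have h3 := wt_mono hsup
  have h4 := wt_lt_wt_sup (a := τ) (b := φ) h₂
  have h5 := wt_lt_wt_sup' (a := τ) (b := φ) h₁
  have h6 := sq_add_sq_lt hwt (lt_of_lt_of_le h4 h3) (lt_of_lt_of_le h5 h3)
  have e1 := nuS0_add α
  have e2 := nuS0_add β
  have e3 := nuS0_add τ
  have e4 := nuS0_add φ
  omega

theorem V_repl_lt {k : ℕ} (s : Fin k → Idx d n) (j₁ j₂ : Fin k) (hj : j₁ ≠ j₂) (α β : Idx d n)
    (h : nuS0 α + nuS0 β < nuS0 (s j₁) + nuS0 (s j₂)) : V (repl s j₁ j₂ α β) < V s := by
  unfold V
  rw [sum_split (fun j => nuS0 (s j)) j₁ j₂ hj, sum_split (fun j => nuS0 (repl s j₁ j₂ α β j)) j₁ j₂ hj]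
  simp only [repl_k₁ s j₁ j₂ hj, repl_k₂]
  have e : ∑ j ∈ (Finset.univ.erase j₁).erase j₂, nuS0 (repl s j₁ j₂ α β j) =
      ∑ j ∈ (Finset.univ.erase j₁).erase j₂, nuS0 (s j) :=
    Finset.sum_congr rfl (fun j hjm => by rw [repl_other s j₁ j₂ α β j hjm])
  rw [e]
  omega

variable [Infinite K]

/-- the class of any monomial lies in the step of the filtration given by its weight -/
theorem mk_chainMon_mem_fil (hd : 0 < d) (w : Idx d n) : ∀ (N k : ℕ) (s : Fin k → Idx d n), V s = N →
    Ideal.Quotient.mk (schubertVanishing K d n w) (chainMon K s) ∈ Rees.Fil K (bb K w) (nuS w) N := by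
  intro N
  induction N using Nat.strong_induction_on with
  | _ N ih =>
    intro k s hN
    by_cases hw : ∀ j, s j ≤ w
    · by_cases hc : ∀ j₁ j₂, s j₁ ≤ s j₂ ∨ s j₂ ≤ s j₁
      · obtain ⟨σ, hσ⟩ := sortable s hc
        have h1 : chainMon K s = chainMon K (s ∘ σ) := by
          unfold chainMon
          exact (Equiv.prod_comp σ (fun j => (X (s j) : PlRing K d n))).symm
        rw [h1]
        refine Rees.b_mem K (bb K w) (nuS w) ⟨k, s ∘ σ, hσ, fun j => hw (σ j)⟩ (le_of_eq ?_)
        rw [← hN]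
        unfold nuS V
        exact Equiv.sum_comp σ (fun j => nuS0 (s j))
      · push Not at hc
        obtain ⟨j₁, j₂, h1, h2⟩ := hc
        have hj : j₁ ≠ j₂ := by
          rintro rfl
          exact h1 le_rfl
        obtain ⟨g, hg, hmem⟩ := straightening_wt K hd (s j₁) (s j₂)
        set rest : PlRing K d n := ∏ j ∈ (Finset.univ.erase j₁).erase j₂, (X (s j) : PlRing K d n) with hrest
        have h3 : Ideal.Quotient.mk (schubertVanishing K d n w) (chainMon K s) =
            Ideal.Quotient.mk (schubertVanishing K d n w) (g * rest) := by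
          rw [Ideal.Quotient.eq, chainMon_split K s j₁ j₂ hj, ← sub_mul]
          exact Ideal.mul_mem_right _ _ (vanishing_le_schubertVanishing K w hmem)
        rw [h3]
        clear h3 hmem
        induction hg using Submodule.span_induction with
        | mem f hf =>
          obtain ⟨α, β, hβα, hτα, hφα, hwt, rfl⟩ := hf
          rw [← chainMon_repl K s j₁ j₂ hj α β]
          have hlt : V (repl s j₁ j₂ α β) < N := by
            rw [← hN]
            exact V_repl_lt s j₁ j₂ hj α β (nuS0_lt h1 h2 hτα hφα hwt)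
          exact Rees.fil_mono K _ _ (le_of_lt hlt) (ih _ hlt k _ rfl)
        | zero => rw [zero_mul, map_zero]; exact Submodule.zero_mem _
        | add x y _ _ hx hy => rw [add_mul, map_add]; exact Submodule.add_mem _ hx hy
        | smul a x _ hx =>
          rw [smul_mul_assoc]
          have : Ideal.Quotient.mk (schubertVanishing K d n w) (a • (x * rest)) =
              a • Ideal.Quotient.mk (schubertVanishing K d n w) (x * rest) :=
            map_smul (Ideal.Quotient.mkₐ K _) _ _
          rw [this]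
          exact Submodule.smul_mem _ _ hx
    · push Not at hw
      obtain ⟨j, hj⟩ := hw
      rw [Ideal.Quotient.eq_zero_iff_mem.2
        (chainMon_mem_of_X_mem K _ s j (X_mem_schubertVanishing K w _ hj))]
      exact Submodule.zero_mem _


omit [Infinite K] in
theorem nuS_emptyC (w : Idx d n) : nuS w (emptyC w) = 0 := by
  unfold nuS V emptyC
  rw [Finset.univ_eq_empty, Finset.sum_empty]

theorem multS (hd : 0 < d) (w : Idx d n) : Rees.Mult K (bb K w) (nuS w) where
  one_mem := by
    have h1 : (1 : SA K w) = bb K w (emptyC w) := by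
      unfold bb chainMon emptyC
      rw [Finset.univ_eq_empty, Finset.prod_empty, map_one]
    rw [h1]
    exact Rees.b_mem K _ _ _ (le_of_eq (nuS_emptyC w))
  mul_mem := fun c c' => by
    have h1 : bb K w c * bb K w c' =
        Ideal.Quotient.mk (schubertVanishing K d n w) (chainMon K (Fin.append c.2.1 c'.2.1)) := by
      unfold bb chainMon
      rw [← map_mul, Fin.prod_univ_add]
      simp only [Fin.append_left, Fin.append_right]
    rw [h1]
    refine mk_chainMon_mem_fil K hd w _ _ _ ?_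
    unfold nuS V
    rw [Fin.sum_univ_add]
    simp only [Fin.append_left, Fin.append_right]

/-! ### the Stanley–Reisner ring is spanned by the standard monomials -/

section SR

omit [Infinite K]

/-- the Stanley–Reisner ring of the order complex of `H(w)` -/
abbrev SRRing (w : Idx d n) : Type _ := MvPolynomial (Below w) K ⧸ srIdeal K w

/-- the standard monomials of the Stanley–Reisner ring -/
def ggS (w : Idx d n) (c : Cw w) : SRRing K w :=
  Ideal.Quotient.mk _ (∏ k, X (⟨c.2.1 k, c.2.2.2 k⟩ : Below w))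

theorem mk_prod_mem_S (w : Idx d n) (k : ℕ) (s : Fin k → Below w) :
    Ideal.Quotient.mk (srIdeal K w) (∏ j, X (s j)) ∈ Submodule.span K (Set.range (ggS K w)) := by
  by_cases hc : ∀ j₁ j₂, (s j₁).1 ≤ (s j₂).1 ∨ (s j₂).1 ≤ (s j₁).1
  · obtain ⟨σ, hσ⟩ := sortable (fun j => (s j).1) hc
    have h1 : ∏ j, (X (s j) : MvPolynomial (Below w) K) = ∏ j, X (s (σ j)) :=
      (Equiv.prod_comp σ (fun j => (X (s j) : MvPolynomial (Below w) K))).symm
    rw [h1]
    exact Submodule.subset_span ⟨⟨k, fun j => (s (σ j)).1, hσ, fun j => (s (σ j)).2⟩, rfl⟩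
  · push Not at hc
    obtain ⟨j₁, j₂, h1, h2⟩ := hc
    have hj : j₁ ≠ j₂ := by
      rintro rfl
      exact h1 le_rfl
    have h0 : Ideal.Quotient.mk (srIdeal K w) (∏ j, X (s j)) = 0 := by
      rw [Ideal.Quotient.eq_zero_iff_mem,
        prod_split (fun j => (X (s j) : MvPolynomial (Below w) K)) j₁ j₂ hj]
      exact Ideal.mul_mem_right _ _ (Ideal.subset_span ⟨s j₁, s j₂, h1, h2, rfl⟩)
    rw [h0]
    exact Submodule.zero_mem _

theorem span_ggS (w : Idx d n) : Submodule.span K (Set.range (ggS K w)) = ⊤ := by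
  rw [eq_top_iff]
  rintro x -
  obtain ⟨f, rfl⟩ := Ideal.Quotient.mk_surjective x
  induction f using MvPolynomial.induction_on' with
  | monomial u a =>
    have h1 : (monomial u a : MvPolynomial (Below w) K) = a • monomial u 1 := by
      rw [MvPolynomial.smul_monomial, smul_eq_mul, mul_one]
    have h2 : Ideal.Quotient.mk (srIdeal K w) (a • monomial u 1) =
        a • Ideal.Quotient.mk (srIdeal K w) (monomial u 1) := map_smul (Ideal.Quotient.mkₐ K _) _ _
    rw [h1, h2]
    refine Submodule.smul_mem _ _ ?_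
    obtain ⟨k, s, hs⟩ := exists_prod_eq_monomial K w u
    rw [hs]
    exact mk_prod_mem_S K w k s
  | add p q hp hq =>
    rw [map_add]
    exact Submodule.add_mem _ hp hq

end SR

/-! ### the special fibre -/

section Kappa

variable (hd : 0 < d) (w : Idx d n)

omit [Infinite K] in
theorem nuS_single1 (θ : Below w) : nuS w (single1 w θ) = nuS0 θ.1 := by
  unfold nuS V single1
  rw [Fin.sum_univ_one]

omit [Infinite K] in
include hd in
theorem nuS0_pos (θ : Idx d n) : 0 < nuS0 θ := by
  unfold nuS0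
  have h1 : wt θ.1 < d * n := by
    unfold wt
    calc ∑ t, (θ.1 t).val < ∑ _t : Fin d, n :=
          Finset.sum_lt_sum_of_nonempty ⟨⟨0, hd⟩, Finset.mem_univ _⟩ (fun t _ => (θ.1 t).isLt)
      _ = d * n := by simp
  have h2 : (wt θ.1) ^ 2 < (d * n) ^ 2 := Nat.pow_lt_pow_left h1 (by norm_num)
  omega

/-- `x_θ ↦` class of `X_θ t^{ν θ}` -/
def kappaS0 : MvPolynomial (Below w) K →ₐ[K] (Rees.rees (multS K hd w) ⧸ Rees.tI (multS K hd w)) :=
  aeval fun θ => Ideal.Quotient.mk _ (Rees.e (multS K hd w) (single1 w θ))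

theorem kappaS0_X (θ : Below w) :
    kappaS0 K hd w (X θ) = Ideal.Quotient.mk _ (Rees.e (multS K hd w) (single1 w θ)) := by
  unfold kappaS0
  rw [aeval_X]

include hd in
theorem skew_mem_fil (a b : Below w) (h1 : ¬ a ≤ b) (h2 : ¬ b ≤ a) (N' : ℕ)
    (hN' : nuS0 a.1 + nuS0 b.1 = N' + 1) :
    bb K w (single1 w a) * bb K w (single1 w b) ∈ Rees.Fil K (bb K w) (nuS w) N' := by
  rw [bb_single1, bb_single1, ← map_mul]
  obtain ⟨g, hg, hmem⟩ := straightening_wt K hd a.1 b.1
  have h3 : Ideal.Quotient.mk (schubertVanishing K d n w) (X a.1 * X b.1) =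
      Ideal.Quotient.mk (schubertVanishing K d n w) g := by
    rw [Ideal.Quotient.eq]
    exact vanishing_le_schubertVanishing K w hmem
  rw [h3]
  clear h3 hmem
  induction hg using Submodule.span_induction with
  | mem f hf =>
    obtain ⟨α, β, hβα, hτα, hφα, hwt, rfl⟩ := hf
    have hlt := nuS0_lt (τ := a.1) (φ := b.1) h1 h2 hτα hφα hwt
    have e1 : (X α * X β : PlRing K d n) = chainMon K ![α, β] := by
      unfold chainMon
      rw [Fin.prod_univ_two]
      rfl
    rw [e1]
    have hV : V ![α, β] = nuS0 α + nuS0 β := by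
      unfold V
      rw [Fin.sum_univ_two]
      rfl
    exact Rees.fil_mono K _ _ (by omega) (mk_chainMon_mem_fil K hd w _ 2 ![α, β] rfl)
  | zero => rw [map_zero]; exact Submodule.zero_mem _
  | add x y _ _ hx hy => rw [map_add]; exact Submodule.add_mem _ hx hy
  | smul c x _ hx =>
    have : Ideal.Quotient.mk (schubertVanishing K d n w) (c • x) =
        c • Ideal.Quotient.mk (schubertVanishing K d n w) x := map_smul (Ideal.Quotient.mkₐ K _) _ _
    rw [this]
    exact Submodule.smul_mem _ _ hx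

theorem skew_mem_tI (a b : Below w) (h1 : ¬ a ≤ b) (h2 : ¬ b ≤ a) :
    Rees.e (multS K hd w) (single1 w a) * Rees.e (multS K hd w) (single1 w b) ∈ Rees.tI (multS K hd w) := by
  obtain ⟨N', hN'⟩ : ∃ N', nuS0 a.1 + nuS0 b.1 = N' + 1 := by
    have := nuS0_pos hd a.1
    exact ⟨nuS0 a.1 + nuS0 b.1 - 1, by omega⟩
  refine Rees.C_mul_X_pow_succ_mem (multS K hd w) (skew_mem_fil K hd w a b h1 h2 N' hN') _ ?_
  rw [MulMemClass.coe_mul, Rees.coe_e, Rees.coe_e, map_mul, nuS_single1, nuS_single1, ← hN', pow_add]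
  ring

theorem kappaS0_eq_zero (f : MvPolynomial (Below w) K) (hf : f ∈ srIdeal K w) : kappaS0 K hd w f = 0 := by
  have hle : srIdeal K w ≤ RingHom.ker (kappaS0 K hd w).toRingHom := by
    unfold srIdeal
    rw [Ideal.span_le]
    rintro _ ⟨a, b, h1, h2, rfl⟩
    rw [SetLike.mem_coe, RingHom.mem_ker]
    show kappaS0 K hd w (X a * X b) = 0
    rw [map_mul, kappaS0_X, kappaS0_X, ← map_mul, Ideal.Quotient.eq_zero_iff_mem]
    exact skew_mem_tI K hd w a b h1 h2
  exact RingHom.mem_ker.1 (hle hf)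

/-- the comparison map from the Stanley–Reisner ring to the special fibre -/
def kappaS : SRRing K w →ₐ[K] (Rees.rees (multS K hd w) ⧸ Rees.tI (multS K hd w)) :=
  Ideal.Quotient.liftₐ (srIdeal K w) (kappaS0 K hd w) (kappaS0_eq_zero K hd w)

theorem kappaS_ggS (c : Cw w) :
    kappaS K hd w (ggS K w c) = Ideal.Quotient.mk _ (Rees.e (multS K hd w) c) := by
  have h1 : kappaS K hd w (ggS K w c) = kappaS0 K hd w (∏ k, X (⟨c.2.1 k, c.2.2.2 k⟩ : Below w)) := rfl
  rw [h1, map_prod]
  simp only [kappaS0_X]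
  rw [← map_prod]
  congr 1
  apply Subtype.ext
  rw [SubmonoidClass.coe_finsetProd]
  simp only [Rees.coe_e]
  rw [Finset.prod_mul_distrib, ← map_prod, Finset.prod_pow_eq_pow_sum]
  congr 2
  · simp only [bb_single1]
    rw [← map_prod]
    rfl

theorem bijective_kappaS : Function.Bijective (kappaS K hd w) :=
  Rees.bijective_of_span (multS K hd w) (linearIndependent_bb K hd w) (kappaS K hd w) (ggS K w) (span_ggS K w)
    (kappaS_ggS K hd w)

end Kappa

end Groth.Agent.R2.H50.SRDeg
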