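import Groth.Prelude.Def_AlgGrp
import Groth.Agent.Lib.Helper12Act

/-!
# Actions of group objects described on generalized points (helper51)
-/

set_option autoImplicit false
universe u

open CategoryTheory MonoidalCategory CartesianMonoidalCategory MonObj AlgebraicGeometry

namespace Groth.Agent.R2.H51.ActPts

variable {S : Scheme.{u}} {G X : Over S} [GrpObj G]

/-- An action from its description on generalized points. -/
noncomputable def ofPoints (act : G ⊗ X ⟶ X)
    (h1 : ∀ (T : Over S) (x : T ⟶ X), lift (1 : T ⟶ G) x ≫ act = x)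
    (h2 : ∀ (T : Over S) (g h : T ⟶ G) (x : T ⟶ X),
      lift (g * h) x ≫ act = lift g (lift h x ≫ act) ≫ act) :
    AlgGrp.Action G X where
  act := act
  one_act := by
    have h := h1 (𝟙_ (Over S) ⊗ X) (snd _ X)
    have e : lift (1 : 𝟙_ (Over S) ⊗ X ⟶ G) (snd _ X) = η[G] ▷ X := by
      apply CartesianMonoidalCategory.hom_ext
      · rw [lift_fst, whiskerRight_fst, Hom.one_def]
        congr 1
      · rw [lift_snd, whiskerRight_snd]
    rw [← e, h, leftUnitor_hom]
  mul_act := by
    have h := h2 ((G ⊗ G) ⊗ X) (fst _ X ≫ fst G G) (fst _ X ≫ snd G G) (snd _ X)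
    have e1 : lift ((fst (G ⊗ G) X ≫ fst G G) * (fst (G ⊗ G) X ≫ snd G G)) (snd (G ⊗ G) X) =
        μ[G] ▷ X := by
      apply CartesianMonoidalCategory.hom_ext
      · rw [lift_fst, whiskerRight_fst, ← MonObj.comp_mul, Hom.mul_def, lift_fst_snd,
          Category.id_comp]
      · rw [lift_snd, whiskerRight_snd]
    have e2 : lift (fst (G ⊗ G) X ≫ fst G G)
        (lift (fst (G ⊗ G) X ≫ snd G G) (snd (G ⊗ G) X) ≫ act) =
        (α_ G G X).hom ≫ (G ◁ act) := by
      have e3 : (α_ G G X).hom ≫ snd G (G ⊗ X) =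
          lift (fst (G ⊗ G) X ≫ snd G G) (snd (G ⊗ G) X) := by
        apply CartesianMonoidalCategory.hom_ext <;> simp
      apply CartesianMonoidalCategory.hom_ext
      · simp
      · rw [lift_snd, Category.assoc, whiskerLeft_snd, ← Category.assoc, e3]
    rw [← e1, h, e2, Category.assoc]

@[simp]
theorem ofPoints_act (act : G ⊗ X ⟶ X)
    (h1 : ∀ (T : Over S) (x : T ⟶ X), lift (1 : T ⟶ G) x ≫ act = x)
    (h2 : ∀ (T : Over S) (g h : T ⟶ G) (x : T ⟶ X),
      lift (g * h) x ≫ act = lift g (lift h x ≫ act) ≫ act) :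
    (ofPoints act h1 h2).act = act := rfl

/-- Two actions with the same action morphism are equal. -/
theorem action_ext {a b : AlgGrp.Action G X} (h : a.act = b.act) : a = b := by
  cases a
  cases b
  congr

/-- A morphism out of a binary product is determined by its values on generalized points. -/
theorem hom_ext_points {A B Z : Over S} {f f' : A ⊗ B ⟶ Z}
    (h : ∀ (T : Over S) (x : T ⟶ A) (y : T ⟶ B), lift x y ≫ f = lift x y ≫ f') : f = f' := by
  have := h (A ⊗ B) (fst A B) (snd A B)
  rwa [lift_fst_snd, Category.id_comp, Category.id_comp] at this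

end Groth.Agent.R2.H51.ActPts
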