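import Mathlib
import Groth.Agent.Lib.Helper5NilSup
import Groth.Agent.Lib.Helper5NilLift

/-!
# Lifting automorphisms of deformations of a formally smooth algebra (helper51)

Let `A` be a local Artin `k`-algebra with residue field `k`, `B` a flat `A`-algebra whose closed
fibre `B₀ = B/m_A B` is formally smooth over `k`.  Then `B ≅ A ⊗_k B₀` (the deformation is trivial),
and every `A`-algebra automorphism of `B/tB` (`t ∈ m_A`, `m_A t = 0`) lifts to an `A`-algebra
automorphism of `B`.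
-/

set_option autoImplicit false
universe u v w
open scoped TensorProduct

namespace Groth.Agent.R2.H51.AutLift

open Groth.Agent.Lib.Helper5

section Bij

variable {A : Type u} [CommRing A] {I : Ideal A} {P : Type v} {Q : Type w} [AddCommGroup P]
  [Module A P] [AddCommGroup Q] [Module A Q]

/-- A linear map into a flat module which is bijective modulo a nilpotent ideal is bijective. -/
theorem bijective_of_mod_nilpotent (hI : IsNilpotent I) [Module.Flat A Q] (f : P →ₗ[A] Q)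
    (hsurj : ∀ q : Q, ∃ p : P, q - f p ∈ (I • ⊤ : Submodule A Q))
    (hinj : ∀ z : P, f z ∈ (I • ⊤ : Submodule A Q) → z ∈ (I • ⊤ : Submodule A P)) :
    Function.Bijective f := by
  have hs : Function.Surjective f := by
    rw [← LinearMap.range_eq_top, eq_top_iff]
    apply le_of_le_sup_smul_of_isNilpotent hI
    intro q _
    obtain ⟨p, hp⟩ := hsurj q
    have : q = f p + (q - f p) := by abel
    rw [this]
    exact Submodule.add_mem_sup ⟨p, rfl⟩ hp
  refine ⟨?_, hs⟩
  apply injective_of_lTensor_quotient_injective_of_isNilpotent hI f hs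
  rw [lTensor_quotient_injective_iff]
  exact hinj

end Bij

section Main

variable {k : Type u} [Field k] {A : Type u} [CommRing A] [Algebra k A] [IsLocalRing A]
  [IsArtinianRing A] {B : Type u} [CommRing B] [Algebra A B] [Algebra k B] [IsScalarTower k A B]

omit [IsLocalRing A] [IsArtinianRing A] in
theorem mem_smul_top_iff (I : Ideal A) (b : B) :
    b ∈ (I • ⊤ : Submodule A B) ↔ b ∈ I.map (algebraMap A B) := by
  rw [Ideal.smul_top_eq_map, Submodule.restrictScalars_mem]

variable (A) in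
theorem isNilpotent_maximalIdeal : IsNilpotent (IsLocalRing.maximalIdeal A) := by
  obtain ⟨n, hn⟩ := IsArtinianRing.isNilpotent_jacobson_bot (R := A)
  rw [IsLocalRing.jacobson_eq_maximalIdeal ⊥ bot_ne_top] at hn
  exact ⟨n, hn⟩

omit [Algebra k B] [IsScalarTower k A B] in
theorem isNilpotent_map_maximalIdeal :
    IsNilpotent ((IsLocalRing.maximalIdeal A).map (algebraMap A B)) := by
  obtain ⟨n, hn⟩ := isNilpotent_maximalIdeal A
  refine ⟨n, ?_⟩
  rw [← Ideal.map_pow, hn, Ideal.zero_eq_bot, Ideal.map_bot]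
  rfl

/-- A `k`-algebra section of `B → B/m_A B`. -/
theorem exists_section
    (hsm : Algebra.FormallySmooth k (B ⧸ (IsLocalRing.maximalIdeal A).map (algebraMap A B))) :
    ∃ s : (B ⧸ (IsLocalRing.maximalIdeal A).map (algebraMap A B)) →ₐ[k] B,
      ∀ b₀, Ideal.Quotient.mk ((IsLocalRing.maximalIdeal A).map (algebraMap A B)) (s b₀) = b₀ := by
  have hsurj : Function.Surjective
      (Ideal.Quotient.mkₐ k ((IsLocalRing.maximalIdeal A).map (algebraMap A B))) :=
    Ideal.Quotient.mkₐ_surjective k _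
  have hnil : IsNilpotent (RingHom.ker
      ((Ideal.Quotient.mkₐ k ((IsLocalRing.maximalIdeal A).map (algebraMap A B)) :
        B →ₐ[k] B ⧸ (IsLocalRing.maximalIdeal A).map (algebraMap A B)) :
          B →+* B ⧸ (IsLocalRing.maximalIdeal A).map (algebraMap A B))) := by
    have : RingHom.ker
      ((Ideal.Quotient.mkₐ k ((IsLocalRing.maximalIdeal A).map (algebraMap A B)) :
        B →ₐ[k] B ⧸ (IsLocalRing.maximalIdeal A).map (algebraMap A B)) :
          B →+* B ⧸ (IsLocalRing.maximalIdeal A).map (algebraMap A B)) =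
        (IsLocalRing.maximalIdeal A).map (algebraMap A B) := Ideal.mk_ker
    rw [this]
    exact isNilpotent_map_maximalIdeal
  refine ⟨Algebra.FormallySmooth.liftOfSurjective (AlgHom.id k _)
    (Ideal.Quotient.mkₐ k ((IsLocalRing.maximalIdeal A).map (algebraMap A B))) hsurj hnil,
    fun b₀ => ?_⟩
  exact Algebra.FormallySmooth.liftOfSurjective_apply (AlgHom.id k _)
    (Ideal.Quotient.mkₐ k ((IsLocalRing.maximalIdeal A).map (algebraMap A B))) hsurj hnil b₀

variable (hres : ∀ a : A, ∃ c : k, a - algebraMap k A c ∈ IsLocalRing.maximalIdeal A)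

include hres in
omit [IsArtinianRing A] [Algebra k B] [IsScalarTower k A B] in
/-- Every element of `A ⊗_k B₀` is congruent to some `1 ⊗ b₀` modulo `m_A`. -/
theorem exists_sub_one_tmul_mem {B₀ : Type u} [CommRing B₀] [Algebra k B₀] (z : A ⊗[k] B₀) :
    ∃ b₀ : B₀, z - (1 : A) ⊗ₜ[k] b₀ ∈
      (IsLocalRing.maximalIdeal A • ⊤ : Submodule A (A ⊗[k] B₀)) := by
  induction z using TensorProduct.induction_on with
  | zero => exact ⟨0, by simp⟩
  | tmul a b =>
    obtain ⟨c, hc⟩ := hres a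
    refine ⟨c • b, ?_⟩
    have h1 : a ⊗ₜ[k] b - (1 : A) ⊗ₜ[k] (c • b) =
        (a - algebraMap k A c) • ((1 : A) ⊗ₜ[k] b) := by
      calc a ⊗ₜ[k] b - (1 : A) ⊗ₜ[k] (c • b)
          = a ⊗ₜ[k] b - (algebraMap k A c) ⊗ₜ[k] b := by
            rw [TensorProduct.tmul_smul, TensorProduct.smul_tmul', Algebra.algebraMap_eq_smul_one]
        _ = (a - algebraMap k A c) ⊗ₜ[k] b := (TensorProduct.sub_tmul _ _ _).symm
        _ = (a - algebraMap k A c) • ((1 : A) ⊗ₜ[k] b) := by
            rw [TensorProduct.smul_tmul', smul_eq_mul, mul_one]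
    rw [h1]
    exact Submodule.smul_mem_smul hc Submodule.mem_top
  | add z₁ z₂ h₁ h₂ =>
    obtain ⟨b₁, hb₁⟩ := h₁
    obtain ⟨b₂, hb₂⟩ := h₂
    refine ⟨b₁ + b₂, ?_⟩
    have : z₁ + z₂ - (1 : A) ⊗ₜ[k] (b₁ + b₂) =
        (z₁ - (1 : A) ⊗ₜ[k] b₁) + (z₂ - (1 : A) ⊗ₜ[k] b₂) := by
      rw [TensorProduct.tmul_add]
      abel
    rw [this]
    exact Submodule.add_mem _ hb₁ hb₂

variable [Module.Flat A B]

include hres in
/-- The deformation `B` is trivial: `B ≅ A ⊗_k B₀`. -/
theorem exists_algEquiv_tensor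
    (hsm : Algebra.FormallySmooth k (B ⧸ (IsLocalRing.maximalIdeal A).map (algebraMap A B))) :
    ∃ (s : (B ⧸ (IsLocalRing.maximalIdeal A).map (algebraMap A B)) →ₐ[k] B)
      (e : (A ⊗[k] (B ⧸ (IsLocalRing.maximalIdeal A).map (algebraMap A B))) ≃ₐ[A] B),
      (∀ b₀, Ideal.Quotient.mk ((IsLocalRing.maximalIdeal A).map (algebraMap A B)) (s b₀) = b₀) ∧
      ∀ a b₀, e (a ⊗ₜ[k] b₀) = algebraMap A B a * s b₀ := by
  obtain ⟨s, hs⟩ := exists_section (A := A) (B := B) hsm
  obtain ⟨ψ, hψ⟩ : ∃ ψ : (A ⊗[k] (B ⧸ (IsLocalRing.maximalIdeal A).map (algebraMap A B))) →ₐ[A] B,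
      ∀ a b₀, ψ (a ⊗ₜ[k] b₀) = algebraMap A B a * s b₀ :=
    ⟨Algebra.TensorProduct.lift (Algebra.ofId A B) s (fun _ _ => Commute.all _ _), fun a b₀ => by
      rw [Algebra.TensorProduct.lift_tmul]
      rfl⟩
  have hbij : Function.Bijective ψ.toLinearMap := by
    apply bijective_of_mod_nilpotent (isNilpotent_maximalIdeal A)
    · intro q
      refine ⟨(1 : A) ⊗ₜ[k] Ideal.Quotient.mk _ q, ?_⟩
      rw [mem_smul_top_iff, ← Ideal.Quotient.eq_zero_iff_mem, AlgHom.toLinearMap_apply, hψ, map_one,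
        one_mul, map_sub, hs, sub_self]
    · intro z hz
      obtain ⟨b₀, hb₀⟩ := exists_sub_one_tmul_mem hres z
      have h1 : ψ.toLinearMap (z - (1 : A) ⊗ₜ[k] b₀) ∈
          (IsLocalRing.maximalIdeal A • ⊤ : Submodule A B) := by
        have h2 : ψ.toLinearMap (z - (1 : A) ⊗ₜ[k] b₀) ∈
            (IsLocalRing.maximalIdeal A • ⊤ : Submodule A _).map ψ.toLinearMap :=
          Submodule.mem_map_of_mem hb₀
        rw [Submodule.map_smul''] at h2
        exact Submodule.smul_mono le_rfl le_top h2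
      have h3 : s b₀ ∈ (IsLocalRing.maximalIdeal A • ⊤ : Submodule A B) := by
        have h4 : s b₀ = ψ.toLinearMap z - ψ.toLinearMap (z - (1 : A) ⊗ₜ[k] b₀) := by
          rw [map_sub, sub_sub_cancel, AlgHom.toLinearMap_apply, hψ, map_one, one_mul]
        rw [h4]
        exact Submodule.sub_mem _ hz h1
      rw [mem_smul_top_iff, ← Ideal.Quotient.eq_zero_iff_mem, hs] at h3
      rw [h3, TensorProduct.tmul_zero, sub_zero] at hb₀
      exact hb₀
  exact ⟨s, AlgEquiv.ofBijective ψ hbij, hs, fun a b₀ => hψ a b₀⟩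

include hres in
/-- Automorphisms of `B/tB` lift to automorphisms of `B`. -/
theorem exists_algEquiv_lift (t : A) (ht : t ∈ IsLocalRing.maximalIdeal A)
    (htm : ∀ a ∈ IsLocalRing.maximalIdeal A, a * t = 0)
    (hsm : Algebra.FormallySmooth k (B ⧸ (IsLocalRing.maximalIdeal A).map (algebraMap A B)))
    (σ : (B ⧸ Ideal.span {algebraMap A B t}) ≃ₐ[A] (B ⧸ Ideal.span {algebraMap A B t})) :
    ∃ τ : B ≃ₐ[A] B, ∀ b : B,
      Ideal.Quotient.mk (Ideal.span {algebraMap A B t}) (τ b) =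
        σ (Ideal.Quotient.mk (Ideal.span {algebraMap A B t}) b) := by
  obtain ⟨s, e, hs, he⟩ := exists_algEquiv_tensor hres hsm
  have htt : t * t = 0 := htm t ht
  -- the ideal `(t)` of `A` is nilpotent
  have hnilt : IsNilpotent (Ideal.span {t} : Ideal A) := by
    refine ⟨2, ?_⟩
    rw [pow_two, Ideal.span_singleton_mul_span_singleton, htt, Ideal.zero_eq_bot]
    exact Ideal.span_singleton_eq_bot.mpr rfl
  have hmapt : (Ideal.span {t} : Ideal A).map (algebraMap A B) =
      Ideal.span {algebraMap A B t} := by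
    rw [Ideal.map_span, Set.image_singleton]
  -- the quotient map
  obtain ⟨mkt, hmkt⟩ : ∃ mkt : B →ₐ[k] B ⧸ Ideal.span {algebraMap A B t},
      ∀ b, mkt b = Ideal.Quotient.mk (Ideal.span {algebraMap A B t}) b :=
    ⟨Ideal.Quotient.mkₐ k _, fun b => rfl⟩
  have hmkts : Function.Surjective mkt := by
    intro y
    obtain ⟨b, rfl⟩ := Ideal.Quotient.mk_surjective y
    exact ⟨b, hmkt b⟩
  have hmkt0 : ∀ b, mkt b = 0 ↔ b ∈ Ideal.span {algebraMap A B t} := by
    intro b
    rw [hmkt]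
    exact Ideal.Quotient.eq_zero_iff_mem
  have hnilker : IsNilpotent (RingHom.ker (mkt : B →+* B ⧸ Ideal.span {algebraMap A B t})) := by
    have : RingHom.ker (mkt : B →+* B ⧸ Ideal.span {algebraMap A B t}) =
        Ideal.span {algebraMap A B t} := by
      ext b
      rw [RingHom.mem_ker]
      exact hmkt0 b
    rw [this, ← hmapt]
    obtain ⟨n, hn⟩ := hnilt
    refine ⟨n, ?_⟩
    rw [← Ideal.map_pow, hn, Ideal.zero_eq_bot, Ideal.map_bot]
    rfl
  -- `σ` as a `k`-algebra map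
  obtain ⟨σk, hσk⟩ : ∃ σk : (B ⧸ Ideal.span {algebraMap A B t}) →ₐ[k]
      (B ⧸ Ideal.span {algebraMap A B t}), ∀ y, σk y = σ y :=
    ⟨σ.toAlgHom.restrictScalars k, fun y => rfl⟩
  -- the lifted section
  obtain ⟨s', hs'⟩ : ∃ s' : (B ⧸ (IsLocalRing.maximalIdeal A).map (algebraMap A B)) →ₐ[k] B,
      ∀ b₀, mkt (s' b₀) = σ (mkt (s b₀)) := by
    refine ⟨Algebra.FormallySmooth.liftOfSurjective (σk.comp (mkt.comp s)) mkt hmkts hnilker,
      fun b₀ => ?_⟩
    have h := Algebra.FormallySmooth.liftOfSurjective_apply (σk.comp (mkt.comp s)) mkt hmkts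
      hnilker b₀
    rw [AlgHom.comp_apply, AlgHom.comp_apply, hσk] at h
    exact h
  obtain ⟨τ', hτ'⟩ : ∃ τ' : (A ⊗[k] (B ⧸ (IsLocalRing.maximalIdeal A).map (algebraMap A B))) →ₐ[A] B,
      ∀ a b₀, τ' (a ⊗ₜ[k] b₀) = algebraMap A B a * s' b₀ :=
    ⟨Algebra.TensorProduct.lift (Algebra.ofId A B) s' (fun _ _ => Commute.all _ _), fun a b₀ => by
      rw [Algebra.TensorProduct.lift_tmul]
      rfl⟩
  have hmkta : ∀ (a : A) (b : B), mkt (algebraMap A B a * b) =
      algebraMap A (B ⧸ Ideal.span {algebraMap A B t}) a * mkt b := by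
    intro a b
    rw [map_mul, hmkt]
    rfl
  have hkey : ∀ z, mkt (τ' z) = σ (mkt (e z)) := by
    intro z
    induction z using TensorProduct.induction_on with
    | zero => simp
    | tmul a b₀ =>
      rw [hτ', he, hmkta, hmkta, hs', map_mul, AlgEquiv.commutes]
    | add z₁ z₂ h₁ h₂ => simp only [map_add, h₁, h₂]
  obtain ⟨τ₀, hτ₀⟩ : ∃ τ₀ : B →ₐ[A] B, ∀ b, τ₀ b = τ' (e.symm b) :=
    ⟨τ'.comp e.symm.toAlgHom, fun b => rfl⟩
  have hτ₀mk : ∀ b, mkt (τ₀ b) = σ (mkt b) := by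
    intro b
    rw [hτ₀, hkey, AlgEquiv.apply_symm_apply]
  have hmem : ∀ b : B, b ∈ ((Ideal.span {t} : Ideal A) • ⊤ : Submodule A B) ↔ mkt b = 0 := by
    intro b
    rw [mem_smul_top_iff, hmapt, hmkt0]
  have hbij : Function.Bijective τ₀.toLinearMap := by
    apply bijective_of_mod_nilpotent hnilt
    · intro q
      obtain ⟨p, hp⟩ := hmkts (σ.symm (mkt q))
      refine ⟨p, ?_⟩
      rw [hmem, map_sub, AlgHom.toLinearMap_apply, hτ₀mk, hp, AlgEquiv.apply_symm_apply, sub_self]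
    · intro z hz
      rw [hmem, AlgHom.toLinearMap_apply, hτ₀mk] at hz
      rw [hmem]
      exact (map_eq_zero_iff σ σ.injective).mp hz
  refine ⟨AlgEquiv.ofBijective τ₀ hbij, fun b => ?_⟩
  rw [← hmkt, ← hmkt]
  exact hτ₀mk b

end Main

end Groth.Agent.R2.H51.AutLift
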