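import Mathlib
import Groth.Agent.R2.H11CbcCx
import Groth.Agent.R2.H11CbcQis

/-!
# PROJ:cbc — Eilenberg–Watts uniqueness for functors to complexes (helper51)

Namespace `Groth.Agent.R2.H51.BcEW`.

Two additive functors `K' K'' : ModuleCat A ⥤ HomologicalComplex Ab c` whose term functors are right
exact and commute with direct sums, together with an isomorphism of complexes `K'(A) ≅ K''(A)` which is
equivariant for the functorial `A`-actions, have naturally isomorphic homology functors.
-/

set_option autoImplicit false
set_option linter.style.haveILetI false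
universe u
open CategoryTheory CategoryTheory.Limits MonoidalCategory

namespace Groth.Agent.R2.H51.BcEW

open Groth.Agent.R2.H11.CbcLin Groth.Agent.R2.H11.CbcEW Groth.Agent.R2.H11.CbcCx
  Groth.Agent.R2.H11.CbcQis

variable {A : Type u} [CommRing A] {ι : Type} {c : ComplexShape ι}

/-- an isomorphism of complexes induces an isomorphism of the functors `TFun`. -/
noncomputable def TFunIsoOfIso {L P : HomologicalComplex (ModuleCat.{u} A) c} (u : L ≅ P) (i : ι) :
    CohIII.TFun L i ≅ CohIII.TFun P i :=
  NatIso.ofComponents (fun M =>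
    HomologicalComplex.homologyMapIso (((tensorRight M).mapHomologicalComplex c).mapIso u) i) (by
    intro M N g
    show HomologicalComplex.homologyMap (CohIII.tensorMap L g) i ≫
        HomologicalComplex.homologyMap (tensorMapL u.hom N) i =
      HomologicalComplex.homologyMap (tensorMapL u.hom M) i ≫
        HomologicalComplex.homologyMap (CohIII.tensorMap P g) i
    rw [← HomologicalComplex.homologyMap_comp, ← HomologicalComplex.homologyMap_comp,
      tensorMapL_comm])

section EWU

variable (K' K'' : ModuleCat.{u} A ⥤ HomologicalComplex AddCommGrpCat.{u} c)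
  [K'.Additive] [K''.Additive]
  (θ : K'.obj (ModuleCat.of A A) ≅ K''.obj (ModuleCat.of A A))
  (hθ : ∀ a : A, K'.map (a • 𝟙 (ModuleCat.of A A)) ≫ θ.hom =
    θ.hom ≫ K''.map (a • 𝟙 (ModuleCat.of A A)))

/-- the termwise linear equivalence -/
noncomputable def termLinEquiv (i : ι) :
    (Lin (Tq K' i)).obj (ModuleCat.of A A) ≃ₗ[A] (Lin (Tq K'' i)).obj (ModuleCat.of A A) where
  toFun x := (θ.hom.f i).hom x
  invFun y := (θ.inv.f i).hom y
  map_add' x y := map_add _ x y
  map_smul' a x := by
    have h := congrArg (fun φ => (φ.f i).hom x) (hθ a)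
    exact h
  left_inv x := by
    have h := congrArg (fun φ => (φ.f i).hom x) θ.hom_inv_id
    exact h
  right_inv y := by
    have h := congrArg (fun φ => (φ.f i).hom y) θ.inv_hom_id
    exact h

variable [∀ i, PreservesFiniteColimits (Tq K' i)]
  [∀ (i : ι) (J : Type u), PreservesColimitsOfShape (Discrete J) (Tq K' i)]
  [∀ i, PreservesFiniteColimits (Tq K'' i)]
  [∀ (i : ι) (J : Type u), PreservesColimitsOfShape (Discrete J) (Tq K'' i)]

/-- the isomorphism of complexes of `A`-modules `K'(A) ≅ K''(A)` -/
noncomputable def p0Iso : P0 K' ≅ P0 K'' :=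
  HomologicalComplex.Hom.isoOfComponents (fun i => (termLinEquiv K' K'' θ hθ i).toModuleIso) (by
    intro i j _
    ext x
    have h := congrArg (fun φ => φ.hom x) (θ.hom.comm i j)
    exact h)

/-- **Eilenberg–Watts uniqueness** on homology. -/
noncomputable def homologyIsoOfEquivariant (i : ι) :
    K' ⋙ HomologicalComplex.homologyFunctor AddCommGrpCat.{u} c i ≅
      K'' ⋙ HomologicalComplex.homologyFunctor AddCommGrpCat.{u} c i :=
  homologyIso K' i ≪≫
    Functor.isoWhiskerRight (TFunIsoOfIso (p0Iso K' K'' θ hθ) i) _ ≪≫ (homologyIso K'' i).symm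

end EWU

end Groth.Agent.R2.H51.BcEW
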