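import Mathlib
import Groth.Agent.R2.H51BcEW
import Groth.Agent.R2.H16CbcFI

/-!
# PROJ:cbc — base change of the functors `T^p` along an arbitrary ring map (helper51)

Namespace `Groth.Agent.R2.H51.BcGeom`.

For `X` quasi-compact and separated over `Spec A`, `F` quasi-coherent on `X`, `A → A'` any ring map and
`X' = X ×_A A'` with projection `g'`, `F' = g'^*F`:
`H^p(X', F' ⊗_{A'} M') ≅ H^p(X, F ⊗_A M')` naturally in the `A'`-module `M'`
(`bcIso`; no flatness, Noetherian or finiteness hypotheses).
-/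

set_option autoImplicit false
set_option linter.style.haveILetI false
set_option linter.unusedSectionVars false
universe u
open CategoryTheory CategoryTheory.Limits AlgebraicGeometry Opposite TopologicalSpace

namespace Groth.Agent.R2.H51.BcGeom

open Groth.Agent.R2.H11.CbcSpec Groth.Agent.R2.H11.CbcCx Groth.Agent.R2.H11.CbcLin
  Groth.Agent.R2.H16.CbcTerms Groth.Agent.R2.H16.CbcG2 Groth.Agent.R2.H16.CbcFITerm
  Groth.Agent.R2.H16.CbcFINat Groth.Agent.R2.H16.CbcFI Groth.Agent.Lib.Helper16.CechLow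
  Groth.Agent.R2.H79.CechNat

section general

variable {B : Type u} [CommRing B] {X : Scheme.{u}} (G : ModuleCat.{u} B ⥤ X.Modules) [G.Additive]
  {ι : Type u} (U : ι → X.Opens)

/-- the Čech complex functor of a functor with values in `O_X`-modules -/
noncomputable abbrev cechG : ModuleCat.{u} B ⥤ CochainComplex AddCommGrpCat.{u} ℕ :=
  G ⋙ cechFun U

instance additive_cechG : (cechG G U).Additive := inferInstance

/-- the projection of the `n`-th term functor to the factor `x`. -/
noncomputable def prNatG (n : ℕ) (x : Fin (n + 1) → ι) :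
    Tq (cechG G U) n ⟶ G ⋙ ΓAb X (Ux U x) where
  app M := pr U ((toPsh X).obj (G.obj M)) n x
  naturality _ _ f := map_pr U ((toPsh X).map (G.map f)) n x

/-- the terms are pointwise products. -/
noncomputable def isLimitPrNatG (n : ℕ) (M : ModuleCat.{u} B) :
    IsLimit (Fan.mk ((Tq (cechG G U) n).obj M) (fun x => (prNatG G U n x).app M)) :=
  isLimitPr U ((toPsh X).obj (G.obj M)) n

theorem preservesColimitsOfSize_TqG [Finite ι]
    (h : ∀ (n : ℕ) (x : Fin (n + 1) → ι), PreservesColimitsOfSize.{u, u} (G ⋙ ΓAb X (Ux U x)))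
    (n : ℕ) : PreservesColimitsOfSize.{u, u} (Tq (cechG G U) n) := by
  classical
  haveI := Fintype.ofFinite ι
  constructor
  intro S _
  haveI : ∀ x : Fin (n + 1) → ι, PreservesColimitsOfShape S (G ⋙ ΓAb X (Ux U x)) := fun x => by
    haveI := h n x
    infer_instance
  exact preservesColimitsOfShape_of_fan (Tq (cechG G U) n) (fun x => G ⋙ ΓAb X (Ux U x))
    (prNatG G U n) (isLimitPrNatG G U n) S

end general

section edge

variable {X X' : Scheme.{u}} (g' : X' ⟶ X)

instance additive_pushforward : (Scheme.Modules.pushforward g').Additive :=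
  (Scheme.Modules.pullbackPushforwardAdjunction g').right_adjoint_additive

/-- sections of a pushforward -/
noncomputable def pushΓIso (W : X.Opens) :
    Scheme.Modules.pushforward g' ⋙ ΓAb X W ≅ ΓAb X' (g' ⁻¹ᵁ W) :=
  NatIso.ofComponents (fun M => Iso.refl _) (by
    intro M N f
    ext x
    rfl)

/-- for an affine morphism `g'`, cohomology of quasi-coherent modules on `X'` is the cohomology of
their direct images, functorially. -/
theorem nonempty_edgeIso [IsAffineHom g'] {D : Type (u + 1)} [Category.{u} D] (G : D ⥤ X'.Modules)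
    (hG : ∀ d, (G.obj d).IsQuasicoherent) (p : ℕ) :
    Nonempty ((G ⋙ Scheme.Modules.pushforward g') ⋙ CohIII.HAb X p ≅ G ⋙ CohIII.HAb X' p) := by
  have hbij : ∀ d, Function.Bijective
      (Groth.Agent.R2.H70.Edge.edge g'.base (Coh.toAb (G.obj d)) p) := by
    intro d
    haveI : Coh.IsQCoh (G.obj d) := hG d
    have hb := Groth.Agent.R2.H70.Edge.pushEdge_bijective_of_isAffineHom g' (G.obj d) p
    have : (CohPull.pushEdge g' (G.obj d) p :
        Coh.HH X ((Scheme.Modules.pushforward g').obj (G.obj d)) p → Coh.HH X' (G.obj d) p) =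
        Groth.Agent.R2.H70.Edge.edge g'.base (Coh.toAb (G.obj d)) p :=
      funext (Groth.Agent.R2.H70.Edge.pushEdge_apply g' (G.obj d) p)
    rw [← this]
    exact hb
  refine ⟨NatIso.ofComponents (fun d => (AddEquiv.ofBijective
    (Groth.Agent.R2.H70.Edge.edge g'.base (Coh.toAb (G.obj d)) p) (hbij d)).toAddCommGrpIso) ?_⟩
  intro d d' f
  ext x
  exact Groth.Agent.R2.H70.Edge.edge_naturality g'.base
    ((SheafOfModules.toSheaf X'.ringCatSheaf).map (G.map f)) p x

end edge

section bc

variable (A A' : Type u) [CommRing A] [CommRing A'] [Algebra A A']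
  {X X' : Scheme.{u}} [X.Over (Spec (CommRingCat.of A))] [X'.Over (Spec (CommRingCat.of A'))]
  (g' : X' ⟶ X) (F : X.Modules)

/-- `M' ↦ g'_*(g'^*F ⊗_{A'} M')` -/
noncomputable abbrev Phi : ModuleCat.{u} A' ⥤ X.Modules :=
  CohIII.tensorAFunctor A' ((Scheme.Modules.pullback g').obj F) ⋙ Scheme.Modules.pushforward g'

/-- `M' ↦ F ⊗_A M'` -/
noncomputable abbrev Psi : ModuleCat.{u} A' ⥤ X.Modules :=
  ModuleCat.restrictScalars (algebraMap A A') ⋙ CohIII.tensorAFunctor A F

instance additive_Phi : (Phi A' g' F).Additive := inferInstance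

instance additive_Psi : (Psi A A' F).Additive := inferInstance

variable {A A'}

theorem preservesColimits_Phi_Γ [IsAffineHom g'] [F.IsQuasicoherent] {W : X.Opens}
    (hW : IsAffineOpen W) : PreservesColimitsOfSize.{u, u} (Phi A' g' F ⋙ ΓAb X W) := by
  haveI : ((Scheme.Modules.pullback g').obj F).IsQuasicoherent :=
    Groth.Agent.Lib.Helper2.PullbackSec.isQuasicoherent_pullback g' F
  haveI := preservesColimitsOfSize_TW A' ((Scheme.Modules.pullback g').obj F) (hW.preimage g')
  exact preservesColimits_of_natIso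
    (Functor.isoWhiskerLeft (CohIII.tensorAFunctor A' ((Scheme.Modules.pullback g').obj F))
      (pushΓIso g' W)).symm

theorem preservesColimits_Psi_Γ [F.IsQuasicoherent] {W : X.Opens}
    (hW : IsAffineOpen W) : PreservesColimitsOfSize.{u, u} (Psi A A' F ⋙ ΓAb X W) := by
  haveI := preservesColimitsOfSize_TW A F hW
  show PreservesColimitsOfSize.{u, u} (ModuleCat.restrictScalars (algebraMap A A') ⋙ TW A F W)
  infer_instance

section theta

variable (hsq : IsPullback g' (X' ↘ Spec (CommRingCat.of A')) (X ↘ Spec (CommRingCat.of A))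
  (Spec.map (CommRingCat.ofHom (algebraMap A A')))) [F.IsQuasicoherent]
  {ι : Type u} (U : ι → X.Opens)
  (hU : ∀ s : Finset ι, s.Nonempty → IsAffineOpen (⨅ i ∈ s, U i))

variable (A A') in
/-- `g'^*(F ⊗_A A) ≅ g'^*F ⊗_{A'} A'` -/
noncomputable def kappa : G₁ A g' F ≅
    (CohIII.tensorAFunctor A' ((Scheme.Modules.pullback g').obj F)).obj (ModuleCat.of A' A') :=
  (Scheme.Modules.pullback g').mapIso (Groth.Agent.R2.H8.CbcG9.tensorAFunctorSelfIso A F) ≪≫
    (Groth.Agent.R2.H8.CbcG9.tensorAFunctorSelfIso A' ((Scheme.Modules.pullback g').obj F)).symm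

variable (A A') in
/-- the comparison of presheaves `W ↦ Γ(g'⁻¹W, g'^*F ⊗_{A'} A')` and `QQ`. -/
noncomputable def kappaP :
    (toPsh X).obj ((Phi A' g' F).obj (ModuleCat.of A' A')) ≅ QQ A g' F :=
  (toPsh X).mapIso ((Scheme.Modules.pushforward g').mapIso (kappa A A' g' F).symm)

theorem kappaP_equivariant (a' : A') :
    (toPsh X).map ((Phi A' g' F).map (a' • 𝟙 (ModuleCat.of A' A'))) ≫ (kappaP A A' g' F).hom =
      (kappaP A A' g' F).hom ≫ σ A g' (X' ↘ Spec (CommRingCat.of A')) F a' := by
  have h1 := Groth.Agent.R2.H51.CbcG1.g1 A' ((Scheme.Modules.pullback g').obj F)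
    (ModuleCat.of A' A') a'
  show (toPsh X).map ((Scheme.Modules.pushforward g').map
      ((CohIII.tensorAFunctor A' ((Scheme.Modules.pullback g').obj F)).map
        (a' • 𝟙 (ModuleCat.of A' A')))) ≫ _ = _
  rw [h1]
  ext W m
  exact Scheme.Modules.Hom.app_smul (kappa A A' g' F).inv _ m

/-- the isomorphism of Čech complexes at the generator `A'`. -/
noncomputable def theta : (cechG (Phi A' g' F) U).obj (ModuleCat.of A' A') ≅
    (cechG (Psi A A' F) U).obj (ModuleCat.of A' A') :=
  (cechComplexFunctor U).mapIso (kappaP A A' g' F) ≪≫ (cechIso F hsq U hU).symm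

theorem theta_equivariant (a' : A') :
    (cechG (Phi A' g' F) U).map (a' • 𝟙 (ModuleCat.of A' A')) ≫ (theta g' F hsq U hU).hom =
      (theta g' F hsq U hU).hom ≫
        (cechG (Psi A A' F) U).map (a' • 𝟙 (ModuleCat.of A' A')) := by
  have h1 := congrArg (fun t => (cechComplexFunctor U).map t) (kappaP_equivariant (A := A) g' F a')
  simp only [Functor.map_comp] at h1
  have h2 := cechIso_equivariant F hsq U hU a'
  have h3 : (cechComplexFunctor U).map (σ A g' (X' ↘ Spec (CommRingCat.of A')) F a') ≫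
      (cechIso F hsq U hU).inv = (cechIso F hsq U hU).inv ≫
        (cechComplexFunctor U).map (μ A (algebraMap A A') F a') := by
    rw [Iso.comp_inv_eq, Category.assoc, Iso.eq_inv_comp]
    exact h2.symm
  show (cechComplexFunctor U).map ((toPsh X).map ((Phi A' g' F).map
      (a' • 𝟙 (ModuleCat.of A' A')))) ≫
      ((cechComplexFunctor U).map (kappaP A A' g' F).hom ≫ (cechIso F hsq U hU).inv) =
    ((cechComplexFunctor U).map (kappaP A A' g' F).hom ≫ (cechIso F hsq U hU).inv) ≫
      (cechComplexFunctor U).map (μ A (algebraMap A A') F a')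
  rw [← Category.assoc, h1, Category.assoc, h3, Category.assoc]

end theta

section main

variable (hsq : IsPullback g' (X' ↘ Spec (CommRingCat.of A')) (X ↘ Spec (CommRingCat.of A))
  (Spec.map (CommRingCat.ofHom (algebraMap A A'))))

include hsq in
/-- **Base change of the functors `T^p`** along an arbitrary ring map `A → A'`:
`H^p(X', g'^*F ⊗_{A'} M') ≅ H^p(X, F ⊗_A M')` naturally in the `A'`-module `M'`. -/
theorem nonempty_bcIso [CompactSpace X] [IsSeparated (X ↘ Spec (CommRingCat.of A))]
    [F.IsQuasicoherent] (p : ℕ) :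
    Nonempty (CohIII.tensorAFunctor A' ((Scheme.Modules.pullback g').obj F) ⋙ CohIII.HAb X' p ≅
      ModuleCat.restrictScalars (algebraMap A A') ⋙ CohIII.tensorAFunctor A F ⋙
        CohIII.HAb X p) := by
  -- the cover
  have hd : ∀ V W : X.Opens, IsAffineOpen V → IsAffineOpen W → IsAffineOpen (V ⊓ W) :=
    fun V W hV hW => Groth.Agent.R2.H16.CbcProper.isAffineOpen_inf_of_isSeparated
      (X ↘ Spec (CommRingCat.of A)) hV hW
  obtain ⟨t, W, hW, hcov⟩ := Groth.Agent.R2.H16.CbcProper.exists_fin_affine_cover X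
  let U : ULift.{u} (Fin t) → X.Opens := fun i => W i.down
  have hcovU : ⨆ i, U i = ⊤ := by
    rw [← hcov]
    apply le_antisymm
    · exact iSup_le fun i => le_iSup W i.down
    · exact iSup_le fun k => le_iSup U ⟨k⟩
  have hU : ∀ s : Finset (ULift.{u} (Fin t)), s.Nonempty → IsAffineOpen (⨅ i ∈ s, U i) :=
    fun s hs => Groth.Agent.R2.H16.CbcProper.isAffineOpen_biInf hd U (fun i => hW i.down) s hs
  haveI : IsAffineHom g' := Groth.Agent.R2.H16.CbcFISec.isAffineHom_of_isPullback hsq
  haveI qF' : ((Scheme.Modules.pullback g').obj F).IsQuasicoherent :=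
    Groth.Agent.Lib.Helper2.PullbackSec.isQuasicoherent_pullback g' F
  have hT : ∀ M' : ModuleCat.{u} A',
      ((CohIII.tensorAFunctor A' ((Scheme.Modules.pullback g').obj F)).obj M').IsQuasicoherent :=
    fun M' => isQuasicoherent_tensorAFunctor_obj A' ((Scheme.Modules.pullback g').obj F) M'
  have hΦq : ∀ M' : ModuleCat.{u} A', Coh.IsQCoh ((Phi A' g' F).obj M') := fun M' => by
    haveI := hT M'
    exact Groth.Agent.Lib.Helper23.QCohLocal.isQuasicoherent_pushforward g' _
  have hΨq : ∀ M' : ModuleCat.{u} A', Coh.IsQCoh ((Psi A A' F).obj M') := fun M' =>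
    isQuasicoherent_tensorAFunctor_obj A F _
  -- step 1: the edge isomorphism
  obtain ⟨e1⟩ := nonempty_edgeIso g'
    (CohIII.tensorAFunctor A' ((Scheme.Modules.pullback g').obj F)) hT p
  -- step 2: Čech comparison on `X`
  obtain ⟨e2⟩ := Groth.Agent.R2.H16.CbcG5.g5 U hcovU hU p (ModuleCat.{u} A') (Phi A' g' F) hΦq
  obtain ⟨e3⟩ := Groth.Agent.R2.H16.CbcG5.g5 U hcovU hU p (ModuleCat.{u} A') (Psi A A' F) hΨq
  -- step 3: Eilenberg–Watts uniqueness
  haveI i1 : ∀ n, PreservesColimitsOfSize.{u, u} (Tq (cechG (Phi A' g' F) U) n) := fun n =>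
    preservesColimitsOfSize_TqG (Phi A' g' F) U
      (fun n x => preservesColimits_Phi_Γ g' F (isAffineOpen_Ux hU x)) n
  haveI i2 : ∀ n, PreservesColimitsOfSize.{u, u} (Tq (cechG (Psi A A' F) U) n) := fun n =>
    preservesColimitsOfSize_TqG (Psi A A' F) U
      (fun n x => preservesColimits_Psi_Γ F (isAffineOpen_Ux hU x)) n
  haveI i3 : ∀ n, PreservesFiniteColimits (Tq (cechG (Phi A' g' F) U) n) := fun n =>
    PreservesColimitsOfSize.preservesFiniteColimits.{u, u} _
  haveI i4 : ∀ n, PreservesFiniteColimits (Tq (cechG (Psi A A' F) U) n) := fun n =>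
    PreservesColimitsOfSize.preservesFiniteColimits.{u, u} _
  haveI i5 : ∀ (n : ℕ) (J : Type u),
      PreservesColimitsOfShape (Discrete J) (Tq (cechG (Phi A' g' F) U) n) :=
    fun n J => inferInstance
  haveI i6 : ∀ (n : ℕ) (J : Type u),
      PreservesColimitsOfShape (Discrete J) (Tq (cechG (Psi A A' F) U) n) :=
    fun n J => inferInstance
  let e4 := Groth.Agent.R2.H51.BcEW.homologyIsoOfEquivariant (cechG (Phi A' g' F) U)
    (cechG (Psi A A' F) U) (theta g' F hsq U hU) (theta_equivariant g' F hsq U hU) p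
  exact ⟨e1.symm ≪≫ e2.symm ≪≫ e4 ≪≫ e3⟩

end main

end bc

end Groth.Agent.R2.H51.BcGeom
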