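import Groth.Prelude.Def_W4bk4git07Quot
import Mathlib.AlgebraicGeometry.Morphisms.ClosedImmersion
import Mathlib.AlgebraicGeometry.PullbackCarrier

/-!
# The action of a group with a geometric quotient is closed (helper51)

For a geometric quotient `φ : X ⟶ Y` the image of `psi a f : G ⊗ T ⟶ X ⊗ T` (the orbit of the
`T`-point `f`) is the preimage under `φ ▷ T` of the image of the graph section `T ⟶ Y ⊗ T` of `f ≫ φ`;
when `T` is a one-point scheme the latter is closed.
-/

set_option autoImplicit false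
universe u
open CategoryTheory MonoidalCategory CartesianMonoidalCategory MonObj GrpObj AlgebraicGeometry Topology

namespace Groth.Agent.R2.H51.ClosedAct

variable {S : Scheme.{u}} {G : Over S} [GrpObj G] {X Y T : Over S}

/-- the graph section of `f ≫ φ` -/
noncomputable def graph (φ : X ⟶ Y) (f : T ⟶ X) : T ⟶ Y ⊗ T := lift (f ≫ φ) (𝟙 T)

theorem graph_snd (φ : X ⟶ Y) (f : T ⟶ X) : (graph φ f).left ≫ (snd Y T).left = 𝟙 T.left := by
  rw [← Over.comp_left, graph, lift_snd]
  rfl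

theorem graph_fst (φ : X ⟶ Y) (f : T ⟶ X) :
    (graph φ f).left ≫ (fst Y T).left = f.left ≫ φ.left := by
  rw [← Over.comp_left, graph, lift_fst]
  rfl

theorem whisker_fst_left (φ : X ⟶ Y) :
    (φ ▷ T).left ≫ (fst Y T).left = (fst X T).left ≫ φ.left := by
  rw [← Over.comp_left, whiskerRight_fst]
  rfl

theorem whisker_snd_left (φ : X ⟶ Y) :
    (φ ▷ T).left ≫ (snd Y T).left = (snd X T).left := by
  rw [← Over.comp_left, whiskerRight_snd]

theorem psi_comp_whisker (a : AlgGrp.Action G X) (φ : X ⟶ Y) (hinv : GIT.IsInvariant a φ)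
    (f : T ⟶ X) : GIT.psi a f ≫ (φ ▷ T) = snd G T ≫ graph φ f := by
  unfold GIT.psi graph
  rw [lift_whiskerRight, comp_lift, Category.comp_id, Category.assoc]
  congr 1
  rw [hinv, ← Category.assoc, whiskerLeft_snd, Category.assoc]

theorem range_psi_subset (a : AlgGrp.Action G X) (φ : X ⟶ Y) (hinv : GIT.IsInvariant a φ)
    (f : T ⟶ X) : Set.range (GIT.psi a f).left.base ⊆
      (φ ▷ T).left.base ⁻¹' (Set.range (graph φ f).left.base) := by
  rintro _ ⟨w, rfl⟩
  refine ⟨(snd G T).left.base w, ?_⟩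
  have h := congrArg (fun m : G ⊗ T ⟶ Y ⊗ T => m.left.base w) (psi_comp_whisker a φ hinv f)
  simpa using h.symm

/-- a point of `G ⊗ X` whose second component is `u2 ≫ f` gives a point of `G ⊗ T` mapped by
`psi a f` to the expected point of `X ⊗ T` -/
theorem lift_comp_psi (a : AlgGrp.Action G X) (f : T ⟶ X) {W : Over S} (u1 : W ⟶ G ⊗ X)
    (u2 : W ⟶ T) (u3 : W ⟶ X ⊗ T) (hu12 : u1 ≫ snd G X = u2 ≫ f)
    (hu13 : u1 ≫ a.act = u3 ≫ fst X T) (hu32 : u3 ≫ snd X T = u2) :
    lift (u1 ≫ fst G X) u2 ≫ GIT.psi a f = u3 := by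
  have hu1eq : lift (u1 ≫ fst G X) (u2 ≫ f) = u1 := by
    apply CartesianMonoidalCategory.hom_ext
    · rw [lift_fst]
    · rw [lift_snd, hu12]
  have hthis : lift (u1 ≫ fst G X) u2 ≫ (G ◁ f) = lift (u1 ≫ fst G X) (u2 ≫ f) := by
    apply CartesianMonoidalCategory.hom_ext
    · rw [Category.assoc, whiskerLeft_fst, lift_fst, lift_fst]
    · rw [Category.assoc, whiskerLeft_snd, ← Category.assoc, lift_snd, lift_snd]
  apply CartesianMonoidalCategory.hom_ext
  · unfold GIT.psi
    calc (lift (u1 ≫ fst G X) u2 ≫ lift ((G ◁ f) ≫ a.act) (snd G T)) ≫ fst X T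
        = lift (u1 ≫ fst G X) u2 ≫ ((G ◁ f) ≫ a.act) := by rw [Category.assoc, lift_fst]
      _ = (lift (u1 ≫ fst G X) u2 ≫ (G ◁ f)) ≫ a.act := (Category.assoc _ _ _).symm
      _ = u3 ≫ fst X T := by rw [hthis, hu1eq, hu13]
  · unfold GIT.psi
    rw [Category.assoc, lift_snd, lift_snd, hu32]

theorem subset_range_psi (a : AlgGrp.Action G X) (φ : X ⟶ Y) (hinv : GIT.IsInvariant a φ)
    (horb : Function.Surjective (GIT.PsiY a φ hinv).base) (f : T ⟶ X) :
    (φ ▷ T).left.base ⁻¹' (Set.range (graph φ f).left.base) ⊆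
      Set.range (GIT.psi a f).left.base := by
  rintro z ⟨t, ht⟩
  -- Step 1
  obtain ⟨p, hp1, hp2⟩ := Scheme.Pullback.exists_preimage_pullback
    (f := (φ ▷ T).left) (g := (graph φ f).left) z t ht.symm
  -- Step 2
  have hq : (Limits.pullback.fst (φ ▷ T).left (graph φ f).left ≫ (fst X T).left) ≫ φ.left =
      (Limits.pullback.snd (φ ▷ T).left (graph φ f).left ≫ f.left) ≫ φ.left := by
    rw [Category.assoc, ← whisker_fst_left, ← Category.assoc, Limits.pullback.condition,
      Category.assoc, graph_fst, Category.assoc]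
  obtain ⟨q, hq1, hq2⟩ : ∃ q : Limits.pullback (φ ▷ T).left (graph φ f).left ⟶
      Limits.pullback φ.left φ.left,
      q ≫ Limits.pullback.fst _ _ = Limits.pullback.fst _ _ ≫ (fst X T).left ∧
      q ≫ Limits.pullback.snd _ _ = Limits.pullback.snd _ _ ≫ f.left :=
    ⟨Limits.pullback.lift _ _ hq, Limits.pullback.lift_fst _ _ _, Limits.pullback.lift_snd _ _ _⟩
  -- Step 3
  obtain ⟨g₀, hg₀⟩ := horb (q.base p)
  obtain ⟨w, hw1, hw2⟩ := Scheme.Pullback.exists_preimage_pullback
    (f := GIT.PsiY a φ hinv) (g := q) g₀ p hg₀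
  -- abbreviations for the two projections
  obtain ⟨w1, hw1'⟩ : ∃ w1 : Limits.pullback (GIT.PsiY a φ hinv) q ⟶ (G ⊗ X).left,
      w1 = Limits.pullback.fst _ _ := ⟨_, rfl⟩
  obtain ⟨w2, hw2'⟩ : ∃ w2 : Limits.pullback (GIT.PsiY a φ hinv) q ⟶
      Limits.pullback (φ ▷ T).left (graph φ f).left, w2 = Limits.pullback.snd _ _ := ⟨_, rfl⟩
  have hcond : w1 ≫ GIT.PsiY a φ hinv = w2 ≫ q := by
    rw [hw1', hw2']
    exact Limits.pullback.condition
  have hPsi1 : GIT.PsiY a φ hinv ≫ Limits.pullback.fst _ _ = a.act.left :=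
    Limits.pullback.lift_fst _ _ _
  have hPsi2 : GIT.PsiY a φ hinv ≫ Limits.pullback.snd _ _ = (snd G X).left :=
    Limits.pullback.lift_snd _ _ _
  -- Scheme-level identities
  have e1 : w1 ≫ a.act.left = w2 ≫ Limits.pullback.fst _ _ ≫ (fst X T).left := by
    rw [← hPsi1, ← Category.assoc, hcond, Category.assoc, hq1]
  have e2 : w1 ≫ (snd G X).left = w2 ≫ Limits.pullback.snd _ _ ≫ f.left := by
    rw [← hPsi2, ← Category.assoc, hcond, Category.assoc, hq2]
  have e3 : Limits.pullback.fst (φ ▷ T).left (graph φ f).left ≫ (snd X T).left =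
      Limits.pullback.snd (φ ▷ T).left (graph φ f).left := by
    rw [← whisker_snd_left φ, ← Category.assoc, Limits.pullback.condition, Category.assoc,
      graph_snd, Category.comp_id]
  -- Step 4: objects and morphisms over `S`
  obtain ⟨W', hW'⟩ : ∃ W' : Over S, W' = Over.mk (w2 ≫ Limits.pullback.snd _ _ ≫ T.hom) :=
    ⟨_, rfl⟩
  subst hW'
  have hu1 : w1 ≫ (G ⊗ X).hom = w2 ≫ Limits.pullback.snd _ _ ≫ T.hom := by
    rw [← Over.w (snd G X), ← Category.assoc, e2, Category.assoc, Category.assoc, Over.w f]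
  have hu3 : (w2 ≫ Limits.pullback.fst _ _) ≫ (X ⊗ T).hom =
      w2 ≫ Limits.pullback.snd _ _ ≫ T.hom := by
    rw [← Over.w (snd X T), Category.assoc, ← Category.assoc (Limits.pullback.fst _ _), e3]
  let u1 : Over.mk (w2 ≫ Limits.pullback.snd _ _ ≫ T.hom) ⟶ G ⊗ X := Over.homMk w1 hu1
  let u2 : Over.mk (w2 ≫ Limits.pullback.snd _ _ ≫ T.hom) ⟶ T :=
    Over.homMk (w2 ≫ Limits.pullback.snd _ _) (by simp)
  let u3 : Over.mk (w2 ≫ Limits.pullback.snd _ _ ≫ T.hom) ⟶ X ⊗ T :=
    Over.homMk (w2 ≫ Limits.pullback.fst _ _) hu3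
  have hu12 : u1 ≫ snd G X = u2 ≫ f := by
    ext
    simp only [Over.comp_left, u1, u2, Over.homMk_left]
    rw [e2, Category.assoc]
  have hu13 : u1 ≫ a.act = u3 ≫ fst X T := by
    ext
    simp only [Over.comp_left, u1, u3, Over.homMk_left]
    rw [e1, Category.assoc]
  have hu32 : u3 ≫ snd X T = u2 := by
    ext
    simp only [Over.comp_left, u2, u3, Over.homMk_left]
    rw [Category.assoc, e3]
  have hr : lift (u1 ≫ fst G X) u2 ≫ GIT.psi a f = u3 :=
    lift_comp_psi a f u1 u2 u3 hu12 hu13 hu32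
  refine ⟨(lift (u1 ≫ fst G X) u2).left.base w, ?_⟩
  have h := congrArg (fun m : Over.mk (w2 ≫ Limits.pullback.snd _ _ ≫ T.hom) ⟶ X ⊗ T =>
    m.left.base w) hr
  simp only [Over.comp_left, u3, Over.homMk_left] at h
  rw [← hp1, ← hw2, ← hw2']
  simpa using h

theorem range_psi_eq (a : AlgGrp.Action G X) (φ : X ⟶ Y) (hinv : GIT.IsInvariant a φ)
    (horb : Function.Surjective (GIT.PsiY a φ hinv).base) (f : T ⟶ X) :
    Set.range (GIT.psi a f).left.base =
      (φ ▷ T).left.base ⁻¹' (Set.range (graph φ f).left.base) :=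
  le_antisymm (range_psi_subset a φ hinv f) (subset_range_psi a φ hinv horb f)

theorem isClosed_range_graph [Subsingleton T.left] (φ : X ⟶ Y) (f : T ⟶ X) :
    IsClosed (Set.range (graph φ f).left.base) := by
  have : IsClosedImmersion (graph φ f).left :=
    isClosedImmersion_of_comp_eq_id (snd Y T).left (graph φ f).left (graph_snd φ f)
  exact (graph φ f).left.isClosedEmbedding.isClosed_range

theorem isClosed_range_psi [Subsingleton T.left] (a : AlgGrp.Action G X) (φ : X ⟶ Y)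
    (hinv : GIT.IsInvariant a φ) (horb : Function.Surjective (GIT.PsiY a φ hinv).base)
    (f : T ⟶ X) : IsClosed (Set.range (GIT.psi a f).left.base) := by
  rw [range_psi_eq a φ hinv horb f]
  exact (isClosed_range_graph φ f).preimage (φ ▷ T).left.continuous

end Groth.Agent.R2.H51.ClosedAct
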