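import Mathlib.AlgebraicGeometry.Cover.Directed
import Mathlib.AlgebraicGeometry.Gluing
import Mathlib.AlgebraicGeometry.AffineScheme
import Mathlib.AlgebraicGeometry.Restrict

/-!
# Descending a morphism along a surjection whose structure sheaf is a sheaf of "invariants" (helper51)

Let `p : X ⟶ Y` and `h : X ⟶ Z` be morphisms of schemes.  For an open `W` of `Z` write `U(W)` for the
set of points of `Y` whose whole fibre is sent into `W` by `h`.  If `p` is surjective, every `U(W)` is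
open, every point of `U(W₀)` lies in `U(W)` for some affine open `W ≤ W₀`, the maps `p^♯` are
injective, and the sections `h^♯ c` restricted to `p⁻¹ U` come from `Y`, then `h` factors through `p`.
This is the common core of "a geometric quotient is a categorical quotient" in its various forms.
-/

set_option autoImplicit false
universe u
open CategoryTheory AlgebraicGeometry TopologicalSpace

namespace Groth.Agent.R2.H51.Descent

section general

variable {X Y Z : Scheme.{u}}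

theorem exists_affine_nhd (Z : Scheme.{u}) (z : Z) : ∃ W : Z.Opens, IsAffineOpen W ∧ z ∈ W := by
  obtain ⟨_, ⟨V, hV, rfl⟩, hy, -⟩ :=
    (Z.isBasis_affineOpens).exists_subset_of_mem_open (Set.mem_univ z) isOpen_univ
  exact ⟨V, hV, hy⟩

theorem appLE_congr_hom {X Y : Scheme.{u}} {f g : X ⟶ Y} (h : f = g) (U : Y.Opens) (V : X.Opens)
    (e : V ≤ f ⁻¹ᵁ U) : f.appLE U V e = g.appLE U V (h ▸ e) := by
  subst h; rfl

theorem ι_comp_eq_of_affine (f : X ⟶ Z) {W : Z.Opens} (hW : IsAffineOpen W) (V : X.Opens)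
    (e : V ≤ f ⁻¹ᵁ W) :
    V.ι ≫ f = V.toSpecΓ ≫ Spec.map (f.appLE W V e) ≫ hW.fromSpec := by
  rw [← Category.assoc, Scheme.Opens.toSpecΓ_SpecMap_appLE, Category.assoc, hW.toSpecΓ_fromSpec,
    Scheme.Hom.resLE_comp_ι]

theorem epi_of_surjective_of_injective_app (p : X ⟶ Y) (hs : Function.Surjective p.base)
    (hinj : ∀ U : Y.Opens, Function.Injective (p.app U).hom) : Epi p := by
  constructor
  intro Z a b hab
  have hbase : ∀ y : Y, a.base y = b.base y := by
    intro y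
    obtain ⟨x, rfl⟩ := hs y
    have := congrArg (fun f : X ⟶ Z => f.base x) hab
    simpa using this
  apply Scheme.hom_ext_of_forall
  intro y
  obtain ⟨W, hW, hyW⟩ := exists_affine_nhd Z (a.base y)
  refine ⟨a ⁻¹ᵁ W, hyW, ?_⟩
  have e : a ⁻¹ᵁ W ≤ b ⁻¹ᵁ W := fun y' hy' => by
    change b.base y' ∈ W
    rw [← hbase]; exact hy'
  rw [ι_comp_eq_of_affine a hW _ le_rfl, ι_comp_eq_of_affine b hW _ e]
  have hmono : Mono (p.app (a ⁻¹ᵁ W)) := ConcreteCategory.mono_of_injective _ (hinj _)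
  have key : a.appLE W (a ⁻¹ᵁ W) le_rfl = b.appLE W (a ⁻¹ᵁ W) e := by
    rw [← cancel_mono (p.app (a ⁻¹ᵁ W))]
    rw [Scheme.Hom.app_eq_appLE, Scheme.Hom.appLE_comp_appLE, Scheme.Hom.appLE_comp_appLE]
    exact appLE_congr_hom hab _ _ _
  rw [key]

theorem exists_lift_of_injective {R S C : CommRingCat.{u}} (j : R ⟶ S)
    (hj : Function.Injective j.hom) (f : C ⟶ S) (hf : ∀ c, f.hom c ∈ Set.range j.hom) :
    ∃ ψ : C ⟶ R, ψ ≫ j = f := by
  let e : R ≃+* j.hom.range := RingEquiv.ofBijective j.hom.rangeRestrict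
    ⟨fun a b hab => hj (congrArg Subtype.val hab), j.hom.rangeRestrict_surjective⟩
  have hf' : ∀ c, f.hom c ∈ j.hom.range := fun c => by
    obtain ⟨r, hr⟩ := hf c
    exact ⟨r, hr⟩
  refine ⟨CommRingCat.ofHom (e.symm.toRingHom.comp (f.hom.codRestrict j.hom.range hf')), ?_⟩
  ext c
  change j.hom (e.symm (f.hom.codRestrict j.hom.range hf' c)) = f.hom c
  have h1 : (e (e.symm (f.hom.codRestrict j.hom.range hf' c)) : S) =
      (f.hom.codRestrict j.hom.range hf' c : S) := by rw [RingEquiv.apply_symm_apply]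
  exact h1

end general

variable {X Y Z : Scheme.{u}} (p : X ⟶ Y) (h : X ⟶ Z)

/-- points of `Y` whose whole fibre is sent into `W` -/
def fibreOpenSet (W : Z.Opens) : Set Y := {y | ∀ x : X, p.base x = y → h.base x ∈ W}

/-- The hypotheses of the descent construction. -/
structure Data : Prop where
  surj : Function.Surjective p.base
  isOpen : ∀ W : Z.Opens, IsOpen (fibreOpenSet p h W)
  refine : ∀ (W₀ : Z.Opens) (y : Y), y ∈ fibreOpenSet p h W₀ →
    ∃ W : Z.Opens, IsAffineOpen W ∧ W ≤ W₀ ∧ y ∈ fibreOpenSet p h W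
  inj : ∀ U : Y.Opens, Function.Injective (p.app U).hom
  range : ∀ (U : Y.Opens) (W : Z.Opens) (e : p ⁻¹ᵁ U ≤ h ⁻¹ᵁ W) (c : Γ(Z, W)),
    (h.appLE W (p ⁻¹ᵁ U) e).hom c ∈ Set.range (p.app U).hom

variable {p h} (D : Data p h)

/-- the open `U(W)` of `Y` -/
def fibreOpen (W : Z.Opens) : Y.Opens := ⟨fibreOpenSet p h W, D.isOpen W⟩

theorem mem_fibreOpen_iff (W : Z.Opens) (y : Y) :
    y ∈ fibreOpen D W ↔ ∀ x : X, p.base x = y → h.base x ∈ W := Iff.rfl

theorem preimage_fibreOpen_le (W : Z.Opens) : p ⁻¹ᵁ (fibreOpen D W) ≤ h ⁻¹ᵁ W :=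
  fun x hx => hx x rfl

theorem fibreOpen_mono {W W' : Z.Opens} (hWW' : W ≤ W') : fibreOpen D W ≤ fibreOpen D W' :=
  fun _ hy x hx => hWW' (hy x hx)

theorem exists_psi (W : Z.Opens) :
    ∃ ψ : Γ(Z, W) ⟶ Γ(Y, fibreOpen D W),
      ψ ≫ p.appLE (fibreOpen D W) (p ⁻¹ᵁ (fibreOpen D W)) le_rfl =
        h.appLE W (p ⁻¹ᵁ (fibreOpen D W)) (preimage_fibreOpen_le D W) := by
  rw [← Scheme.Hom.app_eq_appLE]
  exact exists_lift_of_injective _ (D.inj _) _ (fun c => D.range _ _ _ c)

/-- the lift of `h^♯` to sections of `Y` -/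
noncomputable def psi (W : Z.Opens) : Γ(Z, W) ⟶ Γ(Y, fibreOpen D W) :=
  (exists_psi D W).choose

theorem psi_spec (W : Z.Opens) :
    psi D W ≫ p.appLE (fibreOpen D W) (p ⁻¹ᵁ (fibreOpen D W)) le_rfl =
      h.appLE W (p ⁻¹ᵁ (fibreOpen D W)) (preimage_fibreOpen_le D W) :=
  (exists_psi D W).choose_spec

include D in
theorem mono_appLE (U : Y.Opens) : Mono (p.appLE U (p ⁻¹ᵁ U) le_rfl) := by
  rw [← Scheme.Hom.app_eq_appLE]
  exact ConcreteCategory.mono_of_injective _ (D.inj U)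

/-- the local piece of the factorization -/
noncomputable def phi (W : Z.Opens) (hW : IsAffineOpen W) : (fibreOpen D W).toScheme ⟶ Z :=
  (fibreOpen D W).toSpecΓ ≫ Spec.map (psi D W) ≫ hW.fromSpec

theorem resLE_phi (W : Z.Opens) (hW : IsAffineOpen W) :
    p.resLE (fibreOpen D W) (p ⁻¹ᵁ (fibreOpen D W)) le_rfl ≫ phi D W hW =
      (p ⁻¹ᵁ (fibreOpen D W)).ι ≫ h := by
  unfold phi
  rw [← Category.assoc, ← Scheme.Opens.toSpecΓ_SpecMap_appLE, Category.assoc,
    ← Spec.map_comp_assoc, psi_spec, ι_comp_eq_of_affine h hW _ (preimage_fibreOpen_le D W)]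

theorem homOfLE_phi {W W' : Z.Opens} (hW : IsAffineOpen W) (hW' : IsAffineOpen W') (hWW' : W ≤ W') :
    Y.homOfLE (fibreOpen_mono D hWW') ≫ phi D W' hW' = phi D W hW := by
  unfold phi
  rw [← Category.assoc, ← Scheme.Opens.toSpecΓ_SpecMap_presheaf_map, Category.assoc,
    ← Spec.map_comp_assoc, ← hW'.map_fromSpec hW (homOfLE hWW').op, ← Spec.map_comp_assoc]
  have key : psi D W' ≫ Y.presheaf.map (homOfLE (fibreOpen_mono D hWW')).op =
      Z.presheaf.map (homOfLE hWW').op ≫ psi D W := by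
    have := mono_appLE D (fibreOpen D W)
    rw [← cancel_mono (p.appLE (fibreOpen D W) (p ⁻¹ᵁ (fibreOpen D W)) le_rfl)]
    rw [Category.assoc, Category.assoc, psi_spec, Scheme.Hom.map_appLE, Scheme.Hom.map_appLE]
    have h2 : p.appLE (fibreOpen D W') (p ⁻¹ᵁ (fibreOpen D W))
        (p.preimage_mono (fibreOpen_mono D hWW')) =
        p.appLE (fibreOpen D W') (p ⁻¹ᵁ (fibreOpen D W')) le_rfl ≫
          X.presheaf.map (homOfLE (p.preimage_mono (fibreOpen_mono D hWW'))).op := by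
      rw [Scheme.Hom.appLE_map]
    rw [h2, ← Category.assoc, psi_spec, Scheme.Hom.appLE_map]
  rw [key]

/-- the cover of `Y` by the opens `U(W)`, `W` affine open in `Z` -/
@[simps I₀ X f] noncomputable abbrev descCover : Y.OpenCover where
  I₀ := Z.affineOpens
  X W := (fibreOpen D W.1).toScheme
  f W := (fibreOpen D W.1).ι
  mem₀ := by
    rw [Scheme.presieve₀_mem_precoverage_iff]
    refine ⟨fun y => ?_, inferInstance⟩
    obtain ⟨W, hW, -, hyW⟩ := D.refine ⊤ y (fun x _ => trivial)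
    exact ⟨⟨W, hW⟩, ⟨y, hyW⟩, rfl⟩

local instance descCoverPreorder : Preorder (descCover D).I₀ :=
  inferInstanceAs (Preorder Z.affineOpens)

set_option backward.isDefEq.respectTransparency false in
noncomputable local instance descCoverLocallyDirected : (descCover D).LocallyDirected where
  trans f := Y.homOfLE (fibreOpen_mono D (leOfHom f))
  w f := Y.homOfLE_ι (fibreOpen_mono D (leOfHom f))
  directed {U V} x := by
    let a := (Limits.pullback.fst _ _ ≫ (fibreOpen D U.1).ι) x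
    have haU : a ∈ fibreOpen D U.1 :=
      (Limits.pullback.fst (fibreOpen D U.1).ι (fibreOpen D V.1).ι x).2
    have haV : a ∈ fibreOpen D V.1 := by
      unfold a
      rw [Limits.pullback.condition]
      exact (Limits.pullback.snd (fibreOpen D U.1).ι (fibreOpen D V.1).ι x).2
    have haUV : a ∈ fibreOpenSet p h (U.1 ⊓ V.1) := fun x₀ hx₀ => ⟨haU x₀ hx₀, haV x₀ hx₀⟩
    obtain ⟨W, hW, hWUV, haW⟩ := D.refine (U.1 ⊓ V.1) a haUV
    have hWU : (⟨W, hW⟩ : Z.affineOpens) ≤ U := fun z hz => (hWUV hz).1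
    have hWV : (⟨W, hW⟩ : Z.affineOpens) ≤ V := fun z hz => (hWUV hz).2
    refine ⟨⟨W, hW⟩, homOfLE hWU, homOfLE hWV, ⟨a, haW⟩, ?_⟩
    apply (Limits.pullback.fst _ _ ≫ (fibreOpen D U.1).ι).isOpenEmbedding.injective
    dsimp
    change (Limits.pullback.lift _ _ _ ≫ Limits.pullback.fst _ _ ≫ (fibreOpen D U.1).ι) _ = _
    simp only [Limits.pullback.lift_fst_assoc, Scheme.homOfLE_ι, Scheme.Opens.ι_apply]
    rfl

/-- the factorization of `h` through `p` -/
noncomputable def desc : Y ⟶ Z :=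
  (descCover D).glueMorphismsOfLocallyDirected (fun W => phi D W.1 W.2)
    (fun {i j} hij => homOfLE_phi D i.2 j.2 (leOfHom hij))

theorem fac : p ≫ desc D = h := by
  apply Scheme.hom_ext_of_forall
  intro x
  obtain ⟨W, hW, -, hxW⟩ := D.refine ⊤ (p.base x) (fun x _ => trivial)
  refine ⟨p ⁻¹ᵁ (fibreOpen D W), hxW, ?_⟩
  rw [← resLE_phi D W hW, ← Category.assoc,
    ← Scheme.Hom.resLE_comp_ι p (le_refl (p ⁻¹ᵁ (fibreOpen D W))), Category.assoc]
  congr 1
  exact (descCover D).map_glueMorphismsOfLocallyDirected (fun W => phi D W.1 W.2)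
    (fun {i j} hij => homOfLE_phi D i.2 j.2 (leOfHom hij)) ⟨W, hW⟩

include D in
theorem epi : Epi p :=
  epi_of_surjective_of_injective_app p D.surj D.inj

include D in
theorem exists_unique_desc : ∃! d : Y ⟶ Z, p ≫ d = h := by
  refine ⟨desc D, fac D, fun d hd => ?_⟩
  have := epi D
  rw [← cancel_epi p, hd, fac D]

end Groth.Agent.R2.H51.Descent
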