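import Mathlib.Algebra.Homology.DerivedCategory.Ext.ExactSequences
import Mathlib.Algebra.Homology.DerivedCategory.Ext.Map

/-!
# Transfer maps on `Ext` along an exact functor (helper81)

For an exact functor `G : 𝒜 ⥤ ℬ`, a morphism `w : Z' ⟶ G Z` and a morphism `φ : G A ⟶ B`, the map
`Ext Z A p → Ext Z' B p`, `x ↦ w ≫ G(x) ≫ φ`; its compatibility with extension classes.
-/

set_option autoImplicit false

universe w w' v v' u u'

open CategoryTheory CategoryTheory.Limits Abelian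

namespace Groth.Agent.R2.H81.ExtTrans

variable {𝒜 : Type u} [Category.{v} 𝒜] [Abelian 𝒜] [HasExt.{w} 𝒜]
  {ℬ : Type u'} [Category.{v'} ℬ] [Abelian ℬ] [HasExt.{w'} ℬ]
  (G : 𝒜 ⥤ ℬ) [G.Additive] [PreservesFiniteLimits G] [PreservesFiniteColimits G]

/-- the transfer map `x ↦ w ≫ G(x) ≫ φ` -/
noncomputable def trans {Z : 𝒜} {Z' : ℬ} (w : Z' ⟶ G.obj Z) {A : 𝒜} {B : ℬ} (φ : G.obj A ⟶ B) (p : ℕ) :
    Ext.{w} Z A p →+ Ext.{w'} Z' B p :=
  ((Ext.mk₀ w).precomp B (zero_add p)).comp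
    (((Ext.mk₀ φ).postcomp (G.obj Z) (add_zero p)).comp (G.mapExtAddHom Z A p))

theorem trans_apply {Z : 𝒜} {Z' : ℬ} (w : Z' ⟶ G.obj Z) {A : 𝒜} {B : ℬ} (φ : G.obj A ⟶ B) (p : ℕ)
    (x : Ext.{w} Z A p) :
    trans G w φ p x =
      (Ext.mk₀ w).comp ((x.mapExactFunctor G).comp (Ext.mk₀ φ) (add_zero p)) (zero_add p) := rfl

/-- compatibility of the transfer maps with extension classes of short exact sequences -/
theorem trans_extClass {Z : 𝒜} {Z' : ℬ} (w : Z' ⟶ G.obj Z) {S : ShortComplex 𝒜} (hS : S.ShortExact)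
    {T : ShortComplex ℬ} (hT : T.ShortExact) (φ₁ : G.obj S.X₁ ⟶ T.X₁) (φ₂ : G.obj S.X₂ ⟶ T.X₂)
    (φ₃ : G.obj S.X₃ ⟶ T.X₃) (h₁₂ : φ₁ ≫ T.f = G.map S.f ≫ φ₂) (h₂₃ : φ₂ ≫ T.g = G.map S.g ≫ φ₃)
    (p : ℕ) (x : Ext.{w} Z S.X₃ p) :
    trans G w φ₁ (p + 1) (x.comp hS.extClass rfl) = (trans G w φ₃ p x).comp hT.extClass rfl := by
  let φ : S.map G ⟶ T := { τ₁ := φ₁, τ₂ := φ₂, τ₃ := φ₃, comm₁₂ := h₁₂, comm₂₃ := h₂₃ }
  have nat : (hS.map_of_exact G).extClass.comp (Ext.mk₀ φ₁) (add_zero 1) =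
      (Ext.mk₀ φ₃).comp hT.extClass (zero_add 1) :=
    ShortComplex.ShortExact.extClass_naturality (hS.map_of_exact G) hT φ
  have e2 : hS.extClass.mapExactFunctor G = (hS.map_of_exact G).extClass :=
    Ext.mapExactFunctor_extClass G hS
  have nat' : (hS.extClass.mapExactFunctor G).comp (Ext.mk₀ φ₁) (add_zero 1) =
      (Ext.mk₀ φ₃).comp hT.extClass (zero_add 1) :=
    (congrArg (fun t : Ext.{w'} (G.obj S.X₃) (G.obj S.X₁) 1 => t.comp (Ext.mk₀ φ₁) (add_zero 1)) e2).trans nat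
  rw [trans_apply, trans_apply, Ext.mapExactFunctor_comp]
  rw [Ext.comp_assoc _ _ _ (rfl : p + 1 = p + 1) (add_zero 1) (by omega), nat',
    ← Ext.comp_assoc _ _ _ (add_zero p) (zero_add 1) (by omega),
    ← Ext.comp_assoc _ _ _ (zero_add p) (rfl : p + 1 = p + 1) (by omega)]

/-- naturality of the transfer maps in the coefficient object -/
theorem trans_comp_mk₀ {Z : 𝒜} {Z' : ℬ} (w : Z' ⟶ G.obj Z) {A A' : 𝒜} {B B' : ℬ} (φ : G.obj A ⟶ B)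
    (φ' : G.obj A' ⟶ B') (a : A ⟶ A') (b : B ⟶ B') (h : G.map a ≫ φ' = φ ≫ b) (p : ℕ)
    (x : Ext.{w} Z A p) :
    trans G w φ' p (x.comp (Ext.mk₀ a) (add_zero p)) = (trans G w φ p x).comp (Ext.mk₀ b) (add_zero p) := by
  rw [trans_apply, trans_apply, Ext.mapExactFunctor_comp, Ext.mapExactFunctor_mk₀,
    Ext.comp_assoc _ _ _ (add_zero p) (add_zero 0) (by omega), Ext.mk₀_comp_mk₀, h, ← Ext.mk₀_comp_mk₀,
    ← Ext.comp_assoc _ _ _ (add_zero p) (add_zero 0) (by omega),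
    ← Ext.comp_assoc _ _ _ (zero_add p) (add_zero p) (by omega)]

end Groth.Agent.R2.H81.ExtTrans
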