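import Mathlib
import Groth.Prelude.Def_CohCmp
import Groth.Agent.R2.H81ExtTrans

/-!
# Naturality of the pullback maps on cohomology of `Def_CohPull` (helper81)
-/

set_option autoImplicit false
universe u

open CategoryTheory CategoryTheory.Limits AlgebraicGeometry TopologicalSpace Opposite Abelian

namespace Groth.Agent.R2.H81.CohPull

open Groth.Agent.R2.H81.ExtTrans

noncomputable section

variable {X Y : Scheme.{u}}

/-- `CohPull.theta` is natural in the module. -/
theorem theta_naturality (g : X ⟶ Y) {M N : Y.Modules} (ψ : M ⟶ N) :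
    (CohPull.inv g.base).map ((SheafOfModules.toSheaf Y.ringCatSheaf).map ψ) ≫ CohPull.theta g N =
      CohPull.theta g M ≫
        (SheafOfModules.toSheaf X.ringCatSheaf).map ((Scheme.Modules.pullback g).map ψ) := by
  apply ((CohPull.invPushAdj g.base).homEquiv _ _).injective
  have h1 : (CohPull.invPushAdj g.base).homEquiv _ _ (CohPull.theta g N) =
      (SheafOfModules.toSheaf Y.ringCatSheaf).map
        ((Scheme.Modules.pullbackPushforwardAdjunction g).unit.app N) := Equiv.apply_symm_apply _ _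
  have h2 : (CohPull.invPushAdj g.base).homEquiv _ _ (CohPull.theta g M) =
      (SheafOfModules.toSheaf Y.ringCatSheaf).map
        ((Scheme.Modules.pullbackPushforwardAdjunction g).unit.app M) := Equiv.apply_symm_apply _ _
  have h3 := congrArg (SheafOfModules.toSheaf Y.ringCatSheaf).map
    ((Scheme.Modules.pullbackPushforwardAdjunction g).unit.naturality ψ)
  refine (Adjunction.homEquiv_naturality_left _ _ _).trans ?_
  refine Eq.trans ?_ (Adjunction.homEquiv_naturality_right _ _ _).symm
  rw [h1, h2]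
  refine ((Functor.map_comp _ _ _).symm.trans h3).trans (Functor.map_comp _ _ _)

/-- `pullMod` as a transfer map. -/
theorem pullMod_eq_trans (g : X ⟶ Y) (M : Y.Modules) (p : ℕ) :
    CohPull.pullMod g M p = trans (CohPull.inv g.base) (CohPull.oneTo g.base) (CohPull.theta g M) p := by
  ext x
  change ((Ext.mk₀ (CohPull.oneTo g.base)).comp (x.mapExactFunctor (CohPull.inv g.base)) (zero_add p)).comp
    (Ext.mk₀ (CohPull.theta g M)) (add_zero p) = _
  rw [trans_apply, Ext.comp_assoc _ _ _ (zero_add p) (add_zero p) (by omega)]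

/-- post-composition of a transfer map with `H.map` -/
theorem Hmap_trans {A B : Scheme.{u}} (G : CohTop.Ab A ⥤ CohTop.Ab B) [G.Additive] [PreservesFiniteLimits G]
    [PreservesFiniteColimits G] {Z : CohTop.Ab A} (w : CohTop.const B (ULift.{u} ℤ) ⟶ G.obj Z)
    {M : CohTop.Ab A} {N N' : CohTop.Ab B} (φ : G.obj M ⟶ N) (ψ : N ⟶ N') (p : ℕ) (x : Ext.{u} Z M p) :
    Sheaf.H.map ψ p (trans G w φ p x) = trans G w (φ ≫ ψ) p x := by
  rw [Sheaf.H.map_apply, trans_apply, trans_apply, ← Ext.mk₀_comp_mk₀,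
    Ext.comp_assoc _ _ _ (zero_add p) (add_zero p) (by omega),
    Ext.comp_assoc _ _ _ (add_zero p) (add_zero 0) (by omega)]

/-- the natural isomorphism whose components are `CohPull.pullOnIso` -/
def pullOnNatIso (g : X ⟶ Y) (U : Y.Opens) (U' : X.Opens) (h : U' ≤ g ⁻¹ᵁ U) :
    Scheme.Modules.restrictFunctor U.ι ⋙ Scheme.Modules.pullback (g.resLE U U' h) ≅
      Scheme.Modules.pullback g ⋙ Scheme.Modules.restrictFunctor U'.ι :=
  Functor.isoWhiskerRight (Scheme.Modules.restrictFunctorIsoPullback U.ι) (Scheme.Modules.pullback (g.resLE U U' h)) ≪≫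
    Scheme.Modules.pullbackComp (g.resLE U U' h) U.ι ≪≫
    Scheme.Modules.pullbackCongr (Scheme.Hom.resLE_comp_ι g h) ≪≫
    (Scheme.Modules.pullbackComp U'.ι g).symm ≪≫
    Functor.isoWhiskerLeft (Scheme.Modules.pullback g) (Scheme.Modules.restrictFunctorIsoPullback U'.ι).symm

theorem pullOnNatIso_app (g : X ⟶ Y) (U : Y.Opens) (U' : X.Opens) (h : U' ≤ g ⁻¹ᵁ U) (F : Y.Modules) :
    (pullOnNatIso g U U' h).app F = CohPull.pullOnIso g U U' h F := rfl

/-- naturality of `CohPull.pullOnIso` in the module -/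
theorem pullOnIso_naturality (g : X ⟶ Y) (U : Y.Opens) (U' : X.Opens) (h : U' ≤ g ⁻¹ᵁ U) {F F' : Y.Modules}
    (ψ : F ⟶ F') :
    (Scheme.Modules.pullback (g.resLE U U' h)).map ((Scheme.Modules.restrictFunctor U.ι).map ψ) ≫
        (CohPull.pullOnIso g U U' h F').hom =
      (CohPull.pullOnIso g U U' h F).hom ≫
        (Scheme.Modules.restrictFunctor U'.ι).map ((Scheme.Modules.pullback g).map ψ) :=
  (pullOnNatIso g U U' h).hom.naturality ψ

end

end Groth.Agent.R2.H81.CohPull
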