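import Groth.Agent.Lib.Helper28Deligne

/-!
# `I~` is flasque for an injective module over a Noetherian ring (helper51)

* `IsIT.surjective_of_injective`: an ideal transform `ε : E → N` of an injective module `E` over a
  Noetherian ring is surjective.
* `toOpenₗ_surjective`: `E → Γ(U, E~)` is surjective for every open `U` of `Spec R`.
-/

set_option autoImplicit false
universe u
open CategoryTheory AlgebraicGeometry TopologicalSpace Opposite

namespace Groth.Agent.R2.H51.Flasque

open Groth.Agent.Lib.Helper8.Tilde Groth.Agent.Lib.Helper8.LC Groth.Agent.Lib.Helper28.Deligne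

variable {R : Type u} [CommRing R] [IsNoetherianRing R]

/-- An ideal transform of an injective module over a Noetherian ring is surjective. -/
theorem surjective_of_isIT (J : Ideal R) {E N : Type u} [AddCommGroup E] [Module R E]
    [AddCommGroup N] [Module R N] [Module.Injective R E] (ε : E →ₗ[R] N) (h : IsIT J ε) :
    Function.Surjective ε := by
  intro s
  -- the torsion submodule is injective, hence a direct summand
  have hT : Module.Injective R (DRing.torsionSub J E) := injective_torsionSub J E
  obtain ⟨r, hr⟩ := Module.Injective.extension_property R (DRing.torsionSub J E)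
    (DRing.torsionSub J E) E (DRing.torsionSub J E).subtype (Submodule.injective_subtype _)
    LinearMap.id
  have hr' : ∀ t : DRing.torsionSub J E, r (t : E) = t := fun t => LinearMap.congr_fun hr t
  -- the projection onto a complement
  let π : E →ₗ[R] E := LinearMap.id - (DRing.torsionSub J E).subtype ∘ₗ r
  have hπ : ∀ e, π e = e - (r e : E) := fun e => rfl
  have hεT : ∀ t : DRing.torsionSub J E, ε (t : E) = 0 := fun t => (h.ker _).mpr t.2
  have hεπ : ∀ e, ε (π e) = ε e := by
    intro e
    rw [hπ, map_sub, hεT, sub_zero]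
  have hker : LinearMap.ker ε ≤ LinearMap.ker π := by
    intro e he
    rw [LinearMap.mem_ker] at he ⊢
    have hmem : e ∈ DRing.torsionSub J E := (h.ker e).mp he
    have := hr' ⟨e, hmem⟩
    rw [hπ]
    change e - ((r e : DRing.torsionSub J E) : E) = 0
    have h2 : ((r e : DRing.torsionSub J E) : E) = e := congrArg Subtype.val this
    rw [h2, sub_self]
  -- multiples of `s` by `J ^ n` are in the range
  obtain ⟨n, hn⟩ := h.cok s
  let g : ↥(J ^ n) →ₗ[R] LinearMap.range ε :=
    ((LinearMap.toSpanSingleton R N s) ∘ₗ (J ^ n).subtype).codRestrict (LinearMap.range ε)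
      (fun c => by
        change (c : R) • s ∈ LinearMap.range ε
        exact hn c c.2)
  let φ : ↥(J ^ n) →ₗ[R] E :=
    (LinearMap.ker ε).liftQ π hker ∘ₗ (ε.quotKerEquivRange).symm.toLinearMap ∘ₗ g
  have hφ : ∀ c : ↥(J ^ n), ε (φ c) = (c : R) • s := by
    intro c
    obtain ⟨e₀, he₀⟩ := (g c).2
    have h1 : g c = ⟨ε e₀, LinearMap.mem_range_self ε e₀⟩ := Subtype.ext he₀.symm
    have h2 : φ c = π e₀ := by
      change (LinearMap.ker ε).liftQ π hker ((ε.quotKerEquivRange).symm (g c)) = π e₀
      rw [h1, LinearMap.quotKerEquivRange_symm_apply_image]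
      rfl
    rw [h2, hεπ, he₀]
    rfl
  -- extend to `R`
  obtain ⟨ψ, hψ⟩ := Module.Injective.extension_property R E ↥(J ^ n) R (J ^ n).subtype
    (Submodule.injective_subtype _) φ
  refine ⟨ψ 1, ?_⟩
  rw [← sub_eq_zero]
  apply h.tf
  refine ⟨n, fun c hc => ?_⟩
  have h3 : c • ψ 1 = φ ⟨c, hc⟩ := by
    rw [← map_smul, smul_eq_mul, mul_one]
    exact LinearMap.congr_fun hψ ⟨c, hc⟩
  rw [smul_sub, ← map_smul, h3, hφ, sub_self]

/-- `E → Γ(D(a), E~)` is surjective for an injective module `E` over a Noetherian ring. -/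
theorem toOpenₗ_puncturedOpen_surjective (a : Ideal R) (E : Type u) [AddCommGroup E] [Module R E]
    [Module.Injective R E] :
    Function.Surjective (StructureSheaf.toOpenₗ R E (LocCoh.puncturedOpen R a)) :=
  surjective_of_isIT a _ (isIT_toOpen a)

theorem exists_eq_puncturedOpen (U : Opens (PrimeSpectrum.Top R)) :
    ∃ a : Ideal R, U = LocCoh.puncturedOpen R a := by
  have hcl : IsClosed ((U : Set (PrimeSpectrum.Top R))ᶜ) := U.2.isClosed_compl
  obtain ⟨a, ha⟩ := (PrimeSpectrum.isClosed_iff_zeroLocus_ideal _).mp hcl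
  refine ⟨a, Opens.ext ?_⟩
  change (U : Set (PrimeSpectrum.Top R)) = (PrimeSpectrum.zeroLocus (a : Set R))ᶜ
  exact (compl_eq_comm.mp ha).symm ▸ rfl

/-- `E → Γ(U, E~)` is surjective for every open `U`. -/
theorem toOpenₗ_surjective (U : Opens (PrimeSpectrum.Top R)) (E : Type u) [AddCommGroup E]
    [Module R E] [Module.Injective R E] :
    Function.Surjective (StructureSheaf.toOpenₗ R E U) := by
  obtain ⟨a, rfl⟩ := exists_eq_puncturedOpen U
  exact toOpenₗ_puncturedOpen_surjective a E

end Groth.Agent.R2.H51.Flasque
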