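/-
helper51: ring of formal-regular functions along a connected proper subscheme is local (for S11393).
Mathlib-only.

* `exists_const_sub_isNilpotent`: `Y` connected, `f : Y ⟶ Spec k` universally closed, `k` algebraically
  closed: every global section of `Y` is a constant plus a nilpotent.
* `isUnit_of_forall_isUnit`: an element of a limit of commutative rings all of whose projections are
  units is a unit.
* `isLocalRing_limit_and`: abstract form of S11393 for a tower `F : ℕᵒᵖ ⥤ CommRingCat` under `k`.
-/
import Mathlib.AlgebraicGeometry.Morphisms.Proper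
import Mathlib.AlgebraicGeometry.IdealSheaf.Subscheme
import Mathlib.FieldTheory.IsAlgClosed.Basic
import Mathlib.CategoryTheory.Functor.OfSequence
import Mathlib.Algebra.Category.Ring.Limits
import Mathlib.RingTheory.LocalRing.ResidueField.Defs
import Mathlib.RingTheory.Nilpotent.Basic

set_option autoImplicit false
universe u
open CategoryTheory CategoryTheory.Limits AlgebraicGeometry TopologicalSpace Opposite

namespace Groth.Agent.R2.H51.FormalLocal

section PartA

variable (k : Type u) [Field k] [IsAlgClosed k]

/-- On a connected scheme that is universally closed over an algebraically closed field, every global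
section is a constant plus a nilpotent. -/
theorem exists_const_sub_isNilpotent {Y : Scheme.{u}} (f : Y ⟶ Spec (CommRingCat.of k))
    [UniversallyClosed f] [ConnectedSpace Y] (a : Γ(Y, ⊤)) :
    ∃ c : k, IsNilpotent
      (a - f.appTop.hom ((Scheme.ΓSpecIso (CommRingCat.of k)).inv.hom c)) := by
  classical
  have : CompactSpace Y := (quasiCompact_iff_compactSpace f).mp inferInstance
  let φ : k →+* Γ(Y, ⊤) := f.appTop.hom.comp (Scheme.ΓSpecIso (CommRingCat.of k)).inv.hom
  have hint : f.appTop.hom.IsIntegral := isIntegral_appTop_of_universallyClosed f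
  obtain ⟨p, hpm, hp⟩ := hint a
  let q : Polynomial k := p.map (Scheme.ΓSpecIso (CommRingCat.of k)).hom.hom
  have hqm : q.Monic := hpm.map _
  have hq : Polynomial.eval₂ φ a q = 0 := by
    rw [Polynomial.eval₂_map]
    have h1 : φ.comp (Scheme.ΓSpecIso (CommRingCat.of k)).hom.hom = f.appTop.hom := by
      ext x
      simp [φ]
    rw [h1]; exact hp
  have hsplit : q = (q.roots.map (fun c => Polynomial.X - Polynomial.C c)).prod :=
    (IsAlgClosed.splits q).eq_prod_roots_of_monic hqm
  have hprod : (q.roots.map (fun c => a - φ c)).prod = 0 := by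
    rw [← hq]
    conv_rhs => rw [hsplit]
    rw [← Polynomial.coe_eval₂RingHom, map_multiset_prod, Multiset.map_map]
    congr 1
    apply Multiset.map_congr rfl
    intro c _
    simp
  have key : ∀ (s : Multiset k) (y : Y), (∀ c ∈ s, y ∈ Y.basicOpen (a - φ c)) →
      y ∈ Y.basicOpen ((s.map (fun c => a - φ c)).prod) := by
    intro s y
    induction s using Multiset.induction_on with
    | empty =>
      intro _
      rw [Multiset.map_zero, Multiset.prod_zero, Scheme.basicOpen_of_isUnit _ isUnit_one]
      trivial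
    | cons c s ih =>
      intro h
      rw [Multiset.map_cons, Multiset.prod_cons, Scheme.basicOpen_mul]
      exact ⟨h c (Multiset.mem_cons_self c s),
        ih (fun c' hc' => h c' (Multiset.mem_cons_of_mem hc'))⟩
  have cover : ∀ y : Y, ∃ c ∈ q.roots, y ∉ Y.basicOpen (a - φ c) := by
    intro y
    by_contra hcon
    push Not at hcon
    have h2 := key q.roots y hcon
    rw [hprod, Scheme.basicOpen_zero] at h2
    exact h2
  have disj : ∀ (c c' : k) (y : Y), c ≠ c' → y ∉ Y.basicOpen (a - φ c) →
      y ∈ Y.basicOpen (a - φ c') := by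
    intro c c' y hcc hy
    have hunit : IsUnit (φ (c - c')) := (IsUnit.mk0 _ (sub_ne_zero.mpr hcc)).map φ
    have htop : y ∈ Y.basicOpen (φ (c - c')) := by
      rw [Scheme.basicOpen_of_isUnit _ hunit]; trivial
    have heq : φ (c - c') = (a - φ c') + (-1) * (a - φ c) := by
      rw [map_sub]; ring
    rw [heq] at htop
    rcases Y.basicOpen_add_le _ _ htop with h | h
    · exact h
    · rw [Scheme.basicOpen_mul] at h
      exact absurd h.2 hy
  obtain ⟨y₀⟩ := (inferInstance : Nonempty Y)
  obtain ⟨c₀, hc₀, hy₀⟩ := cover y₀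
  refine ⟨c₀, ?_⟩
  change IsNilpotent (a - φ c₀)
  rw [Scheme.isNilpotent_iff_basicOpen_eq_bot]
  have hclosed : IsClosed (Y.basicOpen (a - φ c₀) : Set Y) := by
    have h3 : (Y.basicOpen (a - φ c₀) : Set Y) =
        ⋃ c ∈ (q.roots.toFinset.erase c₀), ((Y.basicOpen (a - φ c) : Set Y))ᶜ := by
      ext y
      simp only [Set.mem_iUnion, Set.mem_compl_iff, SetLike.mem_coe, exists_prop]
      constructor
      · intro hy
        obtain ⟨c, hc, hyc⟩ := cover y
        refine ⟨c, ?_, hyc⟩
        rw [Finset.mem_erase, Multiset.mem_toFinset]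
        exact ⟨fun h => hyc (h ▸ hy), hc⟩
      · rintro ⟨c, hc, hyc⟩
        rw [Finset.mem_erase] at hc
        exact disj c c₀ y hc.1 hyc
    rw [h3]
    exact Set.Finite.isClosed_biUnion (Finset.finite_toSet _)
      (fun c _ => (Y.basicOpen _).isOpen.isClosed_compl)
  have hclopen : IsClopen (Y.basicOpen (a - φ c₀) : Set Y) := ⟨hclosed, (Y.basicOpen _).isOpen⟩
  rcases isClopen_iff.mp hclopen with h | h
  · exact SetLike.coe_injective h
  · have h4 : y₀ ∈ (Y.basicOpen (a - φ c₀) : Set Y) := by rw [h]; trivial
    exact absurd h4 hy₀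

end PartA

section PartB

variable (F : ℕᵒᵖ ⥤ CommRingCat.{u})

/-- An element of a limit of commutative rings all of whose projections are units is a unit. -/
theorem isUnit_of_forall_isUnit (a : ↑(limit F))
    (h : ∀ j, IsUnit ((limit.π F j).hom a)) : IsUnit a := by
  let t := isLimitOfPreserves (forget CommRingCat.{u}) (limit.isLimit F)
  let e := Types.isLimitEquivSections t
  have hw : ∀ {j j' : ℕᵒᵖ} (g : j ⟶ j'),
      (F.map g).hom ((limit.π F j).hom a) = (limit.π F j').hom a := by
    intro j j' g
    rw [← limit.w F g]; rfl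
  let s : (F ⋙ forget CommRingCat.{u}).sections :=
    ⟨fun j => (((h j).unit⁻¹ : Units _) : F.obj j), by
      intro j j' g
      change (F.map g).hom (((h j).unit⁻¹ : Units _) : F.obj j) = (((h j').unit⁻¹ : Units _) : F.obj j')
      have h1 : (F.map g).hom (((h j).unit⁻¹ : Units _) : F.obj j) * (limit.π F j').hom a = 1 := by
        rw [← hw g, ← map_mul, IsUnit.val_inv_mul, map_one]
      have h2 : (limit.π F j').hom a * (((h j').unit⁻¹ : Units _) : F.obj j') = 1 :=
        IsUnit.mul_val_inv (h j')
      exact left_inv_eq_right_inv h1 h2⟩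
  let b : ↑(limit F) := e.symm s
  have hb : ∀ j, (limit.π F j).hom b = (((h j).unit⁻¹ : Units _) : F.obj j) := fun j =>
    Types.isLimitEquivSections_symm_apply t s j
  apply IsUnit.of_mul_eq_one b
  apply Concrete.limit_ext
  intro j
  change (limit.π F j).hom (a * b) = (limit.π F j).hom 1
  rw [map_mul, hb, map_one]
  exact IsUnit.mul_val_inv (h j)

variable {k : Type u} [Field k]
  (ψ : (Functor.const ℕᵒᵖ).obj (CommRingCat.of k) ⟶ F)
  [Nontrivial (F.obj (op 0))]
  (hnil : ∀ (m : ℕ) (a : F.obj (op m)), ∃ c : k, IsNilpotent (a - (ψ.app (op m)).hom c))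

include hnil in
/-- Abstract form of S11393. -/
theorem isLocalRing_limit_and :
    IsLocalRing ↑(limit F) ∧ ∀ a : ↑(limit F), ∃ c : k, ∀ m : ℕ,
      IsNilpotent ((limit.π F (op m)).hom a - (ψ.app (op m)).hom c) := by
  have hψ : ∀ (m : ℕ) (c : k),
      (F.map (homOfLE (Nat.zero_le m)).op).hom ((ψ.app (op m)).hom c) = (ψ.app (op 0)).hom c := by
    intro m c
    have := ψ.naturality (homOfLE (Nat.zero_le m)).op
    simp only [Functor.const_obj_obj, Functor.const_obj_map, Category.id_comp] at this
    rw [this]; rfl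
  have hπ : ∀ (m : ℕ) (a : ↑(limit F)),
      (F.map (homOfLE (Nat.zero_le m)).op).hom ((limit.π F (op m)).hom a) =
        (limit.π F (op 0)).hom a := by
    intro m a
    rw [← limit.w F (homOfLE (Nat.zero_le m)).op]; rfl
  let ψ0 : k →+* F.obj (op 0) := (ψ.app (op 0)).hom
  -- the constant is the same at all levels
  have hconst : ∀ a : ↑(limit F), ∃ c : k, ∀ m : ℕ,
      IsNilpotent ((limit.π F (op m)).hom a - (ψ.app (op m)).hom c) := by
    intro a
    obtain ⟨c, hc⟩ := hnil 0 ((limit.π F (op 0)).hom a)
    refine ⟨c, fun m => ?_⟩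
    obtain ⟨cm, hcm⟩ := hnil m ((limit.π F (op m)).hom a)
    have h1 : IsNilpotent ((limit.π F (op 0)).hom a - (ψ.app (op 0)).hom cm) := by
      have := hcm.map (F.map (homOfLE (Nat.zero_le m)).op).hom
      rwa [map_sub, hπ, hψ] at this
    have h2 : IsNilpotent ((ψ.app (op 0)).hom (cm - c)) := by
      have h3 := Commute.isNilpotent_sub (Commute.all _ _) hc h1
      have h4 : (limit.π F (op 0)).hom a - (ψ.app (op 0)).hom c -
          ((limit.π F (op 0)).hom a - (ψ.app (op 0)).hom cm) = (ψ.app (op 0)).hom (cm - c) := by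
        rw [map_sub]; ring
      rwa [h4] at h3
    obtain ⟨n, hn⟩ := h2
    have hn' : ψ0 ((cm - c) ^ n) = ψ0 0 := by rw [map_pow, map_zero]; exact hn
    have h5 : (cm - c) ^ n = 0 := ψ0.injective hn'
    have h6 : cm - c = 0 := by
      rcases Nat.eq_zero_or_pos n with h | h
      · subst h
        rw [pow_zero] at h5
        exact absurd h5 one_ne_zero
      · exact (pow_eq_zero_iff (Nat.pos_iff_ne_zero.mp h)).mp h5
    have h7 : cm = c := sub_eq_zero.mp h6
    rwa [h7] at hcm
  refine ⟨?_, hconst⟩
  have : Nontrivial ↑(limit F) := (limit.π F (op 0)).hom.domain_nontrivial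
  apply IsLocalRing.of_nonunits_add
  -- nonunits have nilpotent image at level 0
  have hnon : ∀ a : ↑(limit F), a ∈ nonunits ↑(limit F) →
      IsNilpotent ((limit.π F (op 0)).hom a) := by
    intro a ha
    obtain ⟨c, hc⟩ := hconst a
    by_cases hc0 : c = 0
    · have := hc 0
      rwa [hc0, map_zero, sub_zero] at this
    · exfalso
      apply ha
      apply isUnit_of_forall_isUnit
      intro j
      obtain ⟨m⟩ := j
      have hu : IsUnit ((ψ.app (op m)).hom c) := (IsUnit.mk0 c hc0).map _
      have := (hc m).isUnit_add_left_of_commute hu (Commute.all _ _)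
      rwa [add_sub_cancel] at this
  intro a b ha hb hab
  have h1 : IsNilpotent ((limit.π F (op 0)).hom (a + b)) := by
    rw [map_add]
    exact Commute.isNilpotent_add (Commute.all _ _) (hnon a ha) (hnon b hb)
  exact h1.not_isUnit (hab.map _)

end PartB

end Groth.Agent.R2.H51.FormalLocal
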