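import Mathlib
import Groth.Prelude.Def_CohCmp
import Groth.Prelude.Def_ega3

/-!
# PROJ:genbc-flat — package statements for S16950 (helper81)

`Coherent.isIso_genBC_of_flat_of_Rpush_flat`: `f` separated quasi-compact, `F` quasi-coherent flat over `S`, all
`R^n f_* F` flat over `S`  ⟹  the base change maps of `GenBC` are isomorphisms.

Each package is a `Prop`; a seat proves `theorem pkgX : PkgX` in its own file `Groth/Agent/R2/H<seat>GenBC<X>.lean`.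
-/

set_option autoImplicit false
universe u
open CategoryTheory CategoryTheory.Limits AlgebraicGeometry Opposite TopologicalSpace

namespace Groth.Agent.R2.H81.GenBCSpec

/-- **PKG-A** (pure algebra).  A cochain complex of flat `A`-modules in degrees `≥ 0` whose tensor products with every
module are acyclic above `d` and whose cohomology modules are all flat has flat `opcycles` in every degree.
(Then `Lib/Helper3FlatCx.isIso_theta` gives `H^p(P) ⊗ M ≅ H^p(P ⊗ M)`.)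
Proof: for `i ≥ d + 2` the sequence `P^{i-2} → P^{i-1} → P^i → opcycles i → 0` is exact and stays exact after `⊗ M`
(`Lib/Helper1Tor.flat_of_forall_exact_lTensor`-style), then descend with
`Lib/Helper3FlatCx.flat_opcycles_iff_flat_homology`. -/
def PkgA : Prop :=
  ∀ {A : Type u} [CommRing A] (P : CochainComplex (ModuleCat.{u} A) ℕ)
    (_ : ∀ i, Module.Flat A (P.X i)) (d : ℕ)
    (_ : ∀ (M : ModuleCat.{u} A) (i : ℕ), d < i → IsZero (CohIII.T P i M))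
    (_ : ∀ i, Module.Flat A (P.homology i)) (i : ℕ), Module.Flat A (P.opcycles i)

/-- **PKG-C**.  The pullback of cohomology classes along an isomorphism of schemes is bijective.
(Tools: `R2/H81PullComp2.mapH_pullMod_comp` for `inv g ≫ g = 𝟙` and `g ≫ inv g = 𝟙`, plus the case of the identity; or
`Lib/Helper16ExtCompare.cmp_bijective`.) -/
def PkgC : Prop :=
  ∀ {S₁ S₂ : Scheme.{u}} (g : S₁ ⟶ S₂) [IsIso g] (M : S₂.Modules) (p : ℕ),
    Function.Bijective (CohPull.pullMod g M p)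

/-- **PKG-D** (sheaf theory on a space; adapt `R2/H1SheafifyTop.bijective_toSheafify_top`).  A locally bijective
morphism `φ` from a presheaf `P` to a sheaf `N` is bijective on sections over a quasi-compact open `V`, provided
`P` is separated and glues along finite covers, with respect to a family `B` of opens of `V` which is a basis of `V`,
contains `V` and is stable under binary intersections. -/
def PkgD : Prop :=
  ∀ {Y : TopCat.{u}} {P N : (Opens Y)ᵒᵖ ⥤ AddCommGrpCat.{u}} (φ : P ⟶ N)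
    (_ : Presheaf.IsSheaf (Opens.grothendieckTopology Y) N)
    [Presheaf.IsLocallyInjective (Opens.grothendieckTopology Y) φ]
    [Presheaf.IsLocallySurjective (Opens.grothendieckTopology Y) φ]
    (V : Opens Y) (_ : IsCompact (V : Set Y)) (B : Set (Opens Y))
    (_ : ∀ U : Opens Y, U ≤ V → ∀ y ∈ U, ∃ W ∈ B, y ∈ W ∧ W ≤ U)
    (_ : V ∈ B) (_ : ∀ U ∈ B, ∀ U' ∈ B, U ⊓ U' ∈ B) (hBle : ∀ U ∈ B, U ≤ V)
    (_ : ∀ U ∈ B, ∀ x : P.obj (op U),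
      (∀ y ∈ U, ∃ W ∈ B, ∃ h : W ≤ U, y ∈ W ∧ (P.map (homOfLE h).op).hom x = 0) → x = 0)
    (_ : ∀ (ι : Type u) [Fintype ι] (W : ι → Opens Y) (hW : ∀ k, W k ∈ B), (⨆ k, W k) = V →
      ∀ x : ∀ k, P.obj (op (W k)),
        (∀ k l, (P.map (homOfLE (inf_le_left : W k ⊓ W l ≤ W k)).op).hom (x k) =
          (P.map (homOfLE (inf_le_right : W k ⊓ W l ≤ W l)).op).hom (x l)) →
        ∃ t : P.obj (op V), ∀ k, (P.map (homOfLE (hBle _ (hW k))).op).hom t = x k),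
    Function.Bijective (φ.app (op V))

theorem leE1 {X Y S : Scheme.{u}} (b : Y ⟶ S) (f : X ⟶ Y) {T : S.Opens} {W : Y.Opens} (hWT : W ≤ b ⁻¹ᵁ T) :
    f ⁻¹ᵁ W ≤ (f ≫ b) ⁻¹ᵁ T := by
  rw [Scheme.Hom.comp_preimage]
  exact f.preimage_mono hWT

theorem leE2 {X' Y' S' : Scheme.{u}} (b' : Y' ⟶ S') (f' : X' ⟶ Y') (T' : S'.Opens) (W₀ : Y'.Opens) :
    f' ⁻¹ᵁ (W₀ ⊓ b' ⁻¹ᵁ T') ≤ (f' ≫ b') ⁻¹ᵁ T' := by
  rw [Scheme.Hom.comp_preimage]
  exact f'.preimage_mono inf_le_right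

theorem leE3 {X Y X' Y' : Scheme.{u}} {f : X ⟶ Y} {gY : Y' ⟶ Y} {gX : X' ⟶ X} {f' : X' ⟶ Y'}
    (w : gX ≫ f = f' ≫ gY) (W : Y.Opens) (W₁ : Y'.Opens) :
    f' ⁻¹ᵁ (gY ⁻¹ᵁ W ⊓ W₁) ≤ gX ⁻¹ᵁ (f ⁻¹ᵁ W) := by
  rw [← Scheme.Hom.comp_preimage, w, Scheme.Hom.comp_preimage]
  exact f'.preimage_mono inf_le_left

/-- **PKG-E** (geometry of the double square `X' → Y' → S'` over `X → Y → S`).  For affine opens `T ⊆ S`,
`T' ⊆ g⁻¹T`, `W ⊆ b⁻¹T`, the "rectangle" `W' = gY⁻¹W ⊓ b'⁻¹T'` is affine, its ring of functions is the pushout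
`Γ(Y,W) ⊗_{Γ(S,T)} Γ(S',T')` (`Lib/Helper13QcqsBC.isAffineOpen_Vp`, `Helper13...isIso_pushoutSection_of_isAffineOpen`,
cf. `Lib/Helper13AffBC.bcMap_app_bijective`), and `f'⁻¹W' = f⁻¹W ×_{Spec Γ(S,T)} Spec Γ(S',T')`
(Mathlib `Scheme.Hom.isPullback_resLE` on `hX.paste_vert hY`, then `Scheme.Opens.toSpecΓ_SpecMap_appLE`). -/
def PkgE : Prop :=
  ∀ {X Y S X' Y' S' : Scheme.{u}} (b : Y ⟶ S) (f : X ⟶ Y)
    (g : S' ⟶ S) (gY : Y' ⟶ Y) (b' : Y' ⟶ S') (_ : IsPullback gY b' b g)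
    (gX : X' ⟶ X) (f' : X' ⟶ Y') (hX : IsPullback gX f' f gY)
    {T : S.Opens} {T' : S'.Opens} {W : Y.Opens} (_ : IsAffineOpen T) (_ : IsAffineOpen T')
    (_ : IsAffineOpen W) (hTT' : T' ≤ g ⁻¹ᵁ T) (hWT : W ≤ b ⁻¹ᵁ T),
    IsAffineOpen (gY ⁻¹ᵁ W ⊓ b' ⁻¹ᵁ T') ∧
    IsPushout (g.appLE T T' hTT') (b.appLE T W hWT)
      (b'.appLE T' (gY ⁻¹ᵁ W ⊓ b' ⁻¹ᵁ T') inf_le_right) (gY.appLE W (gY ⁻¹ᵁ W ⊓ b' ⁻¹ᵁ T') inf_le_left) ∧
    IsPullback (gX.resLE (f ⁻¹ᵁ W) (f' ⁻¹ᵁ (gY ⁻¹ᵁ W ⊓ b' ⁻¹ᵁ T')) (leE3 hX.w W _))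
      ((f' ≫ b').resLE T' (f' ⁻¹ᵁ (gY ⁻¹ᵁ W ⊓ b' ⁻¹ᵁ T')) (leE2 b' f' T' _) ≫ T'.toSpecΓ)
      ((f ≫ b).resLE T (f ⁻¹ᵁ W) (leE1 b f hWT) ≫ T.toSpecΓ)
      (Spec.map (g.appLE T T' hTT'))


end Groth.Agent.R2.H81.GenBCSpec
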