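/-
helper51: PROJ:genbc-flat, package E (geometry of the double cartesian square `X' → Y' → S'` over
`X → Y → S`): the rectangle `W' = gY⁻¹W ⊓ b'⁻¹T'` is affine, its ring of functions is the pushout
`Γ(Y,W) ⊗_{Γ(S,T)} Γ(S',T')`, and `f'⁻¹W' = f⁻¹W ×_{Spec Γ(S,T)} Spec Γ(S',T')`.
-/
import Mathlib
import Groth.Agent.R2.H81GenBCSpec

set_option autoImplicit false
set_option linter.style.haveILetI false
universe u
open CategoryTheory CategoryTheory.Limits AlgebraicGeometry Opposite TopologicalSpace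

namespace Groth.Agent.R2.H51.GenBCE

open Groth.Agent.R2.H81.GenBCSpec

theorem pkgE : PkgE.{u} := by
  intro X Y S X' Y' S' b f g gY b' hY gX f' hX T T' W hT hT' hW hTT' hWT
  haveI : IsAffine (T : Scheme) := hT
  haveI : IsAffine (T' : Scheme) := hT'
  haveI : IsAffine (W : Scheme) := hW
  refine ⟨?_, ?_, ?_⟩
  · exact .of_isIso (Scheme.Hom.isPullback_resLE hY hTT' hWT rfl).isoPullback.hom
  · exact ((isIso_pushoutSection_iff hY hTT' hWT rfl).1
      (isIso_pushoutSection_of_isAffineOpen hY hTT' hWT rfl hT hT' hW)).flip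
  · have H' : IsPullback gX (f' ≫ b') (f ≫ b) g := hX.paste_vert hY
    have hUY : f' ⁻¹ᵁ (gY ⁻¹ᵁ W ⊓ b' ⁻¹ᵁ T') = gX ⁻¹ᵁ (f ⁻¹ᵁ W) ⊓ (f' ≫ b') ⁻¹ᵁ T' := by
      rw [← Scheme.Hom.comp_preimage gX f, hX.w, Scheme.Hom.comp_preimage,
        Scheme.Hom.comp_preimage]
      rfl
    have h1 := Scheme.Hom.isPullback_resLE H' hTT' (leE1 b f hWT) hUY
    haveI : IsIso T.toSpecΓ := by rw [← hT.isoSpec_hom]; infer_instance
    haveI : IsIso T'.toSpecΓ := by rw [← hT'.isoSpec_hom]; infer_instance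
    have h2 : IsPullback (g.resLE T T' hTT') T'.toSpecΓ T.toSpecΓ
        (Spec.map (g.appLE T T' hTT')) :=
      IsPullback.of_vert_isIso ⟨(Scheme.Opens.toSpecΓ_SpecMap_appLE g T T' hTT').symm⟩
    exact h1.paste_vert h2

end Groth.Agent.R2.H51.GenBCE
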