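import Mathlib
import Groth.Prelude.Def_CohCmp
import Groth.Prelude.Def_ega3

/-!
# PROJ:genbc-flat (helper81): specifications of the second batch of packages (G, H, I, J)

Each package is a closed `Prop`; deliverable: `theorem pkgX : Groth.Agent.R2.H81.GenBCSpec2.PkgX`.
-/

set_option autoImplicit false
universe u
open CategoryTheory CategoryTheory.Limits AlgebraicGeometry Opposite TopologicalSpace

namespace Groth.Agent.R2.H81.GenBCSpec2

/-- **PKG-G** (pure algebra, cancellation).  A commutative square of rings `A → A'`, `A → B`, `A' → B'`,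
`B → B'` with `B'` generated by the images of `B` and `A'`; a `B`-module `M`, `B'`-modules `P`, `P'`; `u : M → P`
a base change along `B → B'` (universal property), `v : M → P'` a base change along `A → A'` (universal
property), `ψ : P → P'` linear with `ψ ∘ u = v`.  Then `ψ` is bijective. -/
def PkgG : Prop :=
  ∀ {A A' B B' : Type u} [CommRing A] [CommRing A'] [CommRing B] [CommRing B']
    (α : A →+* A') (β : B →+* B') (i : A →+* B) (i' : A' →+* B') (_ : i'.comp α = β.comp i)
    (_ : Subring.closure (Set.range β ∪ Set.range i') = ⊤)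
    {M P P' : Type u} [AddCommGroup M] [Module B M] [AddCommGroup P] [Module B' P]
    [AddCommGroup P'] [Module B' P']
    (u : M →+ P) (_ : ∀ (b : B) (m : M), u (b • m) = β b • u m)
    (_ : ∀ (Q : Type u) [AddCommGroup Q] [Module B' Q] (l : M →+ Q),
      (∀ (b : B) (m : M), l (b • m) = β b • l m) →
        ∃! l' : P →+ Q, (∀ (b' : B') (y : P), l' (b' • y) = b' • l' y) ∧ ∀ m, l' (u m) = l m)
    (v : M →+ P') (_ : ∀ (b : B) (m : M), v (b • m) = β b • v m)
    (_ : ∀ (Q : Type u) [AddCommGroup Q] [Module A' Q] (l : M →+ Q),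
      (∀ (a : A) (m : M), l (i a • m) = α a • l m) →
        ∃! l' : P' →+ Q, (∀ (a' : A') (y : P'), l' (i' a' • y) = a' • l' y) ∧ ∀ m, l' (v m) = l m)
    (ψ : P →+ P') (_ : ∀ (b' : B') (y : P), ψ (b' • y) = b' • ψ y) (_ : ∀ m, ψ (u m) = v m),
    Function.Bijective ψ

/-- **PKG-H** (structure map of an open over an affine open of the base).  For `h : Z ⟶ S`, an open `T` of `S`,
an open `U ≤ h⁻¹T` of `Z`, the morphism `s := h.resLE T U e ≫ T.toSpecΓ : ↑U ⟶ Spec Γ(S, T)` satisfies:
(a) the ring map `Coh.toGlobal s` is `Γ(S,T) → Γ(Z,U) ≅ Γ(↑U, ⊤)`; (b) if `T` is affine and `F` is flat over `S`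
(stalkwise, `FlatMod.IsFlatOver h F`) then `F|_U` is flat over `Spec Γ(S, T)` along `s`. -/
def PkgH : Prop :=
  ∀ {Z S : Scheme.{u}} (h : Z ⟶ S) (T : S.Opens) (U : Z.Opens) (e : U ≤ h ⁻¹ᵁ T),
    (∀ a : Γ(S, T), Coh.toGlobal (A := Γ(S, T)) (h.resLE T U e ≫ T.toSpecΓ) a =
      U.topIso.inv.hom ((h.appLE T U e).hom a)) ∧
    (IsAffineOpen T → ∀ (F : Z.Modules) [F.IsQuasicoherent], FlatMod.IsFlatOver h F →
      FlatMod.IsFlatOver (h.resLE T U e ≫ T.toSpecΓ) (F.restrict U.ι))

/-- **PKG-I** (pure homological algebra).  For a cochain complex `P` of flat `A`-modules all of whose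
`opcycles` are flat, the functor `M ↦ H^p(P ⊗_A M)` (to abelian groups) preserves finite colimits and coproducts
(it is isomorphic to `H^p(P) ⊗_A -` by `Groth.Agent.Lib.Helper3.thetaIso`). -/
def PkgI : Prop :=
  ∀ {A : Type u} [CommRing A] (P : CochainComplex (ModuleCat.{u} A) ℕ)
    (_ : ∀ i, Module.Flat A (P.X i)) (_ : ∀ i, Module.Flat A (P.opcycles i)) (p : ℕ),
    PreservesFiniteColimits (CohIII.TFun P p ⋙ forget₂ (ModuleCat.{u} A) AddCommGrpCat.{u}) ∧
    ∀ J : Type u, PreservesColimitsOfShape (Discrete J)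
      (CohIII.TFun P p ⋙ forget₂ (ModuleCat.{u} A) AddCommGrpCat.{u})

open TensorProduct in
/-- **PKG-J** (pure algebra): a map `π : H → H'` which becomes an isomorphism `H ⊗_A A' ≃ H'`,
`x ⊗ a' ↦ a' • π x`, has the universal property of a base change along `ρ : A → A'`. -/
def PkgJ : Prop :=
  ∀ {A A' : Type u} [CommRing A] [CommRing A'] (ρ : A →+* A')
    {H H' : Type u} [AddCommGroup H] [Module A H] [AddCommGroup H'] [Module A' H'] (π : H →+ H'),
    letI : Module A A' := Module.compHom A' ρ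
    ∀ (L : H ⊗[A] A' ≃+ H') (_ : ∀ (x : H) (a' : A'), L (x ⊗ₜ[A] a') = a' • π x)
      (Q : Type u) [AddCommGroup Q] [Module A' Q] (l : H →+ Q),
      (∀ (a : A) (x : H), l (a • x) = ρ a • l x) →
        ∃! l' : H' →+ Q, (∀ (a' : A') (y : H'), l' (a' • y) = a' • l' y) ∧ ∀ x, l' (π x) = l x

end Groth.Agent.R2.H81.GenBCSpec2
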