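import Mathlib
import Groth.Agent.R2.H81GenBCSpec2
import Groth.Agent.Lib.Helper2PullbackSec2
import Groth.Agent.Lib.Helper2FlatOver
import Groth.Agent.Lib.Helper26FlatLimC

/-!
# PROJ:genbc-flat — PKG-H (helper51)

Namespace `Groth.Agent.R2.H51.GenBCH`.

For `h : Z ⟶ S`, `T ⊆ S` open, `U ≤ h⁻¹T` open in `Z`, the structure morphism
`s := h.resLE T U e ≫ T.toSpecΓ : ↑U ⟶ Spec Γ(S, T)`:

* `toGlobal_resLE`: `Coh.toGlobal s a = U.topIso.inv (h.appLE T U e a)`;
* `isFlatOverAt_comp_iff`: flatness over the base at a point does not see a morphism of bases whose stalk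
  map is an isomorphism;
* `isFlatOver_resLE`: for `T` affine and `F` flat over `S`, `F|_U` is flat over `Spec Γ(S, T)` along `s`;
* `pkgH : GenBCSpec2.PkgH`.
-/

set_option autoImplicit false
universe u
open CategoryTheory CategoryTheory.Limits AlgebraicGeometry Opposite TopologicalSpace

namespace Groth.Agent.R2.H51.GenBCH

/-- flatness over the base at a point is insensitive to composing the structure morphism with a morphism
of bases whose stalk map (at the image point) is an isomorphism. -/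
theorem isFlatOverAt_comp_iff {X Y S : Scheme.{u}} (f : X ⟶ Y) (g : Y ⟶ S) (M : X.Modules) (x : X)
    [IsIso (g.stalkMap (f.base x))] :
    FlatMod.IsFlatOverAt (f ≫ g) M x ↔ FlatMod.IsFlatOverAt f M x := by
  unfold FlatMod.IsFlatOverAt
  refine @Groth.Agent.Lib.Helper2.FlatOver.flat_iff_of_semilinear_equiv
    (S.presheaf.stalk (g.base (f.base x))) (Y.presheaf.stalk (f.base x))
    (M.presheaf.stalk x) (M.presheaf.stalk x) _ _ _ _
    (FlatMod.moduleStalkOver (f ≫ g) M x) (FlatMod.moduleStalkOver f M x)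
    (asIso (g.stalkMap (f.base x))).commRingCatIsoToRingEquiv (AddEquiv.refl _) ?_
  intro a n
  change ((f ≫ g).stalkMap x).hom a • n = (f.stalkMap x).hom ((g.stalkMap (f.base x)).hom a) • n
  rw [Scheme.Hom.stalkMap_comp]
  rfl

/-- (a) the ring map `Coh.toGlobal` of the structure morphism `↑U ⟶ Spec Γ(S, T)`. -/
theorem toGlobal_resLE {Z S : Scheme.{u}} (h : Z ⟶ S) (T : S.Opens) (U : Z.Opens) (e : U ≤ h ⁻¹ᵁ T)
    (a : Γ(S, T)) :
    Coh.toGlobal (A := Γ(S, T)) (h.resLE T U e ≫ T.toSpecΓ) a =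
      U.topIso.inv.hom ((h.appLE T U e).hom a) := by
  have key : (Scheme.ΓSpecIso Γ(S, T)).inv ≫ (h.resLE T U e ≫ T.toSpecΓ).appTop =
      h.appLE T U e ≫ U.topIso.inv := by
    rw [Scheme.Hom.comp_appTop, Scheme.Opens.toSpecΓ_appTop, Scheme.Hom.appTop,
      Scheme.Hom.resLE_app_top]
    simp only [Category.assoc, Iso.inv_hom_id_assoc]
  exact congrArg (fun k => (ConcreteCategory.hom k : _ → _) a) key

/-- (b) `F` flat over `S` ⇒ `F|_U` flat over `Spec Γ(S, T)` (for `T` affine, `U ≤ h⁻¹T`). -/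
theorem isFlatOver_resLE {Z S : Scheme.{u}} (h : Z ⟶ S) (T : S.Opens) (U : Z.Opens) (e : U ≤ h ⁻¹ᵁ T)
    (hT : IsAffineOpen T) (F : Z.Modules) [F.IsQuasicoherent] (hfl : FlatMod.IsFlatOver h F) :
    FlatMod.IsFlatOver (h.resLE T U e ≫ T.toSpecΓ) (F.restrict U.ι) := by
  intro x
  -- `T.toSpecΓ` is an isomorphism
  have : IsIso T.toSpecΓ := by rw [← hT.isoSpec_hom]; infer_instance
  rw [isFlatOverAt_comp_iff]
  -- `T.ι` is an open immersion
  rw [← isFlatOverAt_comp_iff (h.resLE T U e) T.ι, Scheme.Hom.resLE_comp_ι]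
  -- pass to the pullback
  refine Groth.Agent.Lib.Helper26.FlatLim.isFlatOverAt_of_iso _
    ((Scheme.Modules.restrictFunctorIsoPullback U.ι).app F).symm x ?_
  refine (Groth.Agent.Lib.Helper2.PullbackSec.isFlatOverAt_pullback_iff U.ι h F x ?_).1 (hfl _)
  exact RingHom.Flat.of_bijective (ConcreteCategory.bijective_of_isIso (U.ι.stalkMap x))

/-- **PKG-H**. -/
theorem pkgH : Groth.Agent.R2.H81.GenBCSpec2.PkgH := by
  intro Z S h T U e
  exact ⟨toGlobal_resLE h T U e, fun hT F _ hfl => isFlatOver_resLE h T U e hT F hfl⟩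

end Groth.Agent.R2.H51.GenBCH
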