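import Mathlib
import Groth.Agent.R2.H81GenBCSpec2
import Groth.Agent.Lib.Helper3FlatCx

/-!
# PROJ:genbc-flat — PKG-I (helper51)

Namespace `Groth.Agent.R2.H51.GenBCI`.

For a cochain complex `P` of flat `A`-modules all of whose `opcycles` are flat, `M ↦ H^p(P ⊗_A M)` is isomorphic
to `H^p(P) ⊗_A -` (helper3's `thetaIso`), a left adjoint; so after forgetting to abelian groups it preserves
all (small) colimits, in particular finite colimits and coproducts.

* `preservesColimits_TFun_forget₂`;
* `pkgI : GenBCSpec2.PkgI`.
-/

set_option autoImplicit false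
universe u
open CategoryTheory CategoryTheory.Limits MonoidalCategory

namespace Groth.Agent.R2.H51.GenBCI

/-- `TFun P p` preserves all colimits when the relevant terms/opcycles are flat. -/
theorem preservesColimits_TFun {A : Type u} [CommRing A] (P : CochainComplex (ModuleCat.{u} A) ℕ)
    (hX : ∀ i, Module.Flat A (P.X i)) (hO : ∀ i, Module.Flat A (P.opcycles i)) (p : ℕ) :
    PreservesColimitsOfSize.{u, u} (CohIII.TFun P p) := by
  have := hX (p + 1)
  have := hO (p + 1)
  have e : tensorLeft (P.homology p) ≅ CohIII.TFun P p :=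
    Groth.Agent.Lib.Helper3.thetaIso P p (p + 1) rfl
  have : PreservesColimitsOfSize.{u, u} (tensorLeft (P.homology p)) :=
    (ihom.adjunction (P.homology p)).leftAdjoint_preservesColimits
  exact preservesColimits_of_natIso e

/-- **PKG-I**. -/
theorem pkgI : Groth.Agent.R2.H81.GenBCSpec2.PkgI.{u} := by
  intro A _ P hX hO p
  have := preservesColimits_TFun P hX hO p
  have : PreservesColimitsOfSize.{u, u}
      (CohIII.TFun P p ⋙ forget₂ (ModuleCat.{u} A) AddCommGrpCat.{u}) := inferInstance
  refine ⟨?_, fun J => inferInstance⟩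
  exact PreservesColimitsOfSize.preservesFiniteColimits _

end Groth.Agent.R2.H51.GenBCI
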