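import Groth.Prelude.Def_W4bk4git07Quot
import Groth.Agent.R2.H51Descent

/-!
# Geometric quotients are categorical quotients (helper51)
-/

set_option autoImplicit false
universe u
open CategoryTheory MonoidalCategory CartesianMonoidalCategory MonObj GrpObj AlgebraicGeometry Topology
open TopologicalSpace

namespace Groth.Agent.R2.H51.GeomQuot

open Groth.Agent.R2.H51.Descent

variable {S : Scheme.{u}} {G : Over S} [GrpObj G] {X Y Z : Over S}

/-- An invariant morphism is constant on `σ`-`p₂` related points. -/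
theorem inv_base {a : AlgGrp.Action G X} {ψ : X ⟶ Z} (hψ : GIT.IsInvariant a ψ)
    (w : (G ⊗ X).left) : ψ.left.base (a.act.left.base w) = ψ.left.base ((snd G X).left.base w) := by
  have h := congrArg (fun f : (G ⊗ X).left ⟶ Z.left => f.base w) hψ.left
  simpa using h

/-- The sections `ψ^♯ c` are invariant sections. -/
theorem isInvSection_appLE {a : AlgGrp.Action G X} {φ : X ⟶ Y} {ψ : X ⟶ Z}
    (hψ : GIT.IsInvariant a ψ) (U : Y.left.Opens) (W : Z.left.Opens)
    (e : φ.left ⁻¹ᵁ U ≤ ψ.left ⁻¹ᵁ W) (c : Γ(Z.left, W)) :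
    GIT.IsInvSection a φ U ((ψ.left.appLE W (φ.left ⁻¹ᵁ U) e).hom c) := by
  unfold GIT.IsInvSection
  have h1 : ψ.left.appLE W (φ.left ⁻¹ᵁ U) e ≫
      a.act.left.appLE (φ.left ⁻¹ᵁ U)
        (a.act.left ⁻¹ᵁ (φ.left ⁻¹ᵁ U) ⊓ (snd G X).left ⁻¹ᵁ (φ.left ⁻¹ᵁ U)) inf_le_left =
      ψ.left.appLE W (φ.left ⁻¹ᵁ U) e ≫
      (snd G X).left.appLE (φ.left ⁻¹ᵁ U)
        (a.act.left ⁻¹ᵁ (φ.left ⁻¹ᵁ U) ⊓ (snd G X).left ⁻¹ᵁ (φ.left ⁻¹ᵁ U)) inf_le_right := by
    rw [Scheme.Hom.appLE_comp_appLE, Scheme.Hom.appLE_comp_appLE]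
    exact appLE_congr_hom hψ.left _ _ _
  exact congrArg (fun f => f.hom c) h1

/-- From descent data for every invariant morphism to a categorical quotient. -/
theorem isCatQuot_of_data {a : AlgGrp.Action G X} {φ : X ⟶ Y} (hi : GIT.IsInvariant a φ)
    (hD : ∀ (Z : Over S) (ψ : X ⟶ Z), GIT.IsInvariant a ψ → Data φ.left ψ.left) :
    GIT.IsCatQuot a φ := by
  refine ⟨hi, fun Z ψ hψ => ?_⟩
  have D := hD Z ψ hψ
  have : Epi φ.left := Descent.epi D
  have hw : desc D ≫ Z.hom = Y.hom := by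
    rw [← cancel_epi φ.left, ← Category.assoc, fac D, Over.w ψ, Over.w φ]
  refine ⟨Over.homMk (desc D) hw, ?_, fun χ hχ => ?_⟩
  · ext
    simp only [Over.comp_left, Over.homMk_left]
    exact fac D
  · ext
    simp only [Over.homMk_left]
    rw [← cancel_epi φ.left, fac D, ← Over.comp_left, hχ]

section Geom

variable {a : AlgGrp.Action G X} {φ : X ⟶ Y}

theorem isQuotientMap_of_isGeomQuot (hq : GIT.IsGeomQuot a φ) : IsQuotientMap φ.left.base :=
  MorphismProperty.universally_le _ _ hq.subm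

/-- In a geometric quotient, invariant morphisms are constant on the fibres of `φ`. -/
theorem const_on_fibres (hq : GIT.IsGeomQuot a φ) {ψ : X ⟶ Z} (hψ : GIT.IsInvariant a ψ)
    (x x' : X.left) (hxx' : φ.left.base x = φ.left.base x') :
    ψ.left.base x = ψ.left.base x' := by
  obtain ⟨t, ht1, ht2⟩ := Scheme.Pullback.exists_preimage_pullback x x' hxx'
  obtain ⟨w, rfl⟩ := hq.orbit t
  have h1 : a.act.left.base w = x := by
    rw [← ht1]
    have := congrArg (fun f : (G ⊗ X).left ⟶ X.left => f.base w)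
      (Limits.pullback.lift_fst a.act.left (snd G X).left hq.inv.left)
    simpa [GIT.PsiY] using this.symm
  have h2 : (snd G X).left.base w = x' := by
    rw [← ht2]
    have := congrArg (fun f : (G ⊗ X).left ⟶ X.left => f.base w)
      (Limits.pullback.lift_snd a.act.left (snd G X).left hq.inv.left)
    simpa [GIT.PsiY] using this.symm
  rw [← h1, ← h2]
  exact inv_base hψ w

theorem data_of_isGeomQuot (hq : GIT.IsGeomQuot a φ) {ψ : X ⟶ Z} (hψ : GIT.IsInvariant a ψ) :
    Data φ.left ψ.left where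
  surj := hq.surj
  isOpen W := by
    rw [← (isQuotientMap_of_isGeomQuot hq).isOpen_preimage]
    have : φ.left.base ⁻¹' fibreOpenSet φ.left ψ.left W = (ψ.left ⁻¹ᵁ W : Set X.left) := by
      ext x
      constructor
      · intro hx
        exact hx x rfl
      · intro hx x' hx'
        have := const_on_fibres hq hψ x' x hx'
        change ψ.left.base x' ∈ W
        rw [this]
        exact hx
    rw [this]
    exact (ψ.left ⁻¹ᵁ W).isOpen
  refine W₀ y hy := by
    obtain ⟨x, rfl⟩ := hq.surj y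
    have hx : ψ.left.base x ∈ W₀ := hy x rfl
    obtain ⟨_, ⟨W, hW, rfl⟩, hxW, hWW₀⟩ :=
      (Z.left.isBasis_affineOpens).exists_subset_of_mem_open hx W₀.isOpen
    refine ⟨W, hW, hWW₀, fun x' hx' => ?_⟩
    rw [const_on_fibres hq hψ x' x hx']
    exact hxW
  inj U := (hq.sections U).1
  range U W e c := by
    have h1 : (ψ.left.appLE W (φ.left ⁻¹ᵁ U) e).hom c ∈ {f | GIT.IsInvSection a φ U f} :=
      isInvSection_appLE hψ U W e c
    rw [← (hq.sections U).2] at h1
    exact h1

/-- A geometric quotient is a categorical quotient. -/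
theorem isCatQuot_of_isGeomQuot (hq : GIT.IsGeomQuot a φ) : GIT.IsCatQuot a φ :=
  isCatQuot_of_data hq.inv (fun _ _ hψ => data_of_isGeomQuot hq hψ)

end Geom

section Closed

variable {a : AlgGrp.Action G X} {φ : X ⟶ Y}

/-- Preimages under invariant morphisms are invariant subsets. -/
theorem invariant_preimage {ψ : X ⟶ Z} (hψ : GIT.IsInvariant a ψ) (T : Set Z.left) :
    a.act.left.base '' ((snd G X).left.base ⁻¹' (ψ.left.base ⁻¹' T)) ⊆ ψ.left.base ⁻¹' T := by
  rintro _ ⟨w, hw, rfl⟩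
  change ψ.left.base (a.act.left.base w) ∈ T
  rw [inv_base hψ w]
  exact hw

theorem fibreOpenSet_eq_compl (φ : X ⟶ Y) (ψ : X ⟶ Z) (W : Z.left.Opens) :
    fibreOpenSet φ.left ψ.left W =
      (φ.left.base '' (ψ.left.base ⁻¹' ((W : Set Z.left)ᶜ)))ᶜ := by
  ext y
  simp only [fibreOpenSet, Set.mem_ofPred_eq, Set.mem_compl_iff, Set.mem_image, Set.mem_preimage,
    SetLike.mem_coe, not_exists, not_and]
  constructor
  · intro h x hx hxy
    exact hx (h x hxy)
  · intro h x hxy
    by_contra hx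
    exact h x hx hxy

variable (hi : GIT.IsInvariant a φ)
  (hii : ∀ U : Y.left.Opens,
    Function.Injective (φ.left.app U) ∧ Set.range (φ.left.app U) = {f | GIT.IsInvSection a φ U f})
  (hiii : ∀ W : Set X.left, IsClosed W → a.act.left.base '' ((snd G X).left.base ⁻¹' W) ⊆ W →
    IsClosed (φ.left.base '' W))
  (hiii' : ∀ (J : Type u) (W : J → Set X.left),
    (∀ i, IsClosed (W i) ∧ a.act.left.base '' ((snd G X).left.base ⁻¹' W i) ⊆ W i) →
    φ.left.base '' (⋂ i, W i) = ⋂ i, φ.left.base '' W i)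

include hiii' in
theorem surjective_of_closed : Function.Surjective φ.left.base := by
  have h := hiii' PEmpty (fun i => i.elim) (fun i => i.elim)
  rw [Set.iInter_of_empty, Set.iInter_of_empty, Set.image_univ] at h
  exact Set.range_eq_univ.mp h

include hi hiii hiii' in
theorem isQuotientMap_of_closed : IsQuotientMap φ.left.base := by
  have hs := surjective_of_closed hiii'
  rw [Topology.isQuotientMap_iff_isClosed]
  refine ⟨hs, fun s => ⟨fun h => h.preimage φ.left.continuous, fun h => ?_⟩⟩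
  have h1 := hiii _ h (invariant_preimage hi s)
  rwa [Set.image_preimage_eq s hs] at h1

include hii hiii hiii' in
theorem data_of_closed {ψ : X ⟶ Z} (hψ : GIT.IsInvariant a ψ) : Data φ.left ψ.left where
  surj := surjective_of_closed hiii'
  isOpen W := by
    rw [fibreOpenSet_eq_compl, isOpen_compl_iff]
    exact hiii _ (W.isOpen.isClosed_compl.preimage ψ.left.continuous) (invariant_preimage hψ _)
  refine W₀ y hy := by
    rw [fibreOpenSet_eq_compl] at hy
    let J : Type u := {W : Z.left.Opens // IsAffineOpen W ∧ W ≤ W₀}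
    let Wf : J → Set X.left := fun i => ψ.left.base ⁻¹' ((i.1 : Set Z.left)ᶜ)
    have hWf : ∀ i, IsClosed (Wf i) ∧ a.act.left.base '' ((snd G X).left.base ⁻¹' Wf i) ⊆ Wf i :=
      fun i => ⟨i.1.isOpen.isClosed_compl.preimage ψ.left.continuous, invariant_preimage hψ _⟩
    have hint : ⋂ i, Wf i = ψ.left.base ⁻¹' ((W₀ : Set Z.left)ᶜ) := by
      ext x
      simp only [Set.mem_iInter, Set.mem_preimage, Set.mem_compl_iff, SetLike.mem_coe, Wf]
      constructor
      · intro h hx
        obtain ⟨_, ⟨W, hW, rfl⟩, hxW, hWW₀⟩ :=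
          (Z.left.isBasis_affineOpens).exists_subset_of_mem_open hx W₀.isOpen
        exact h ⟨W, hW, hWW₀⟩ hxW
      · intro h i hx
        exact h (i.2.2 hx)
    have h1 := hiii' J Wf hWf
    rw [hint] at h1
    rw [h1, Set.mem_compl_iff, Set.mem_iInter, not_forall] at hy
    obtain ⟨i, hi'⟩ := hy
    refine ⟨i.1, i.2.1, i.2.2, ?_⟩
    rw [fibreOpenSet_eq_compl]
    exact hi'
  inj U := (hii U).1
  range U W e c := by
    have h1 : (ψ.left.appLE W (φ.left ⁻¹ᵁ U) e).hom c ∈ {f | GIT.IsInvSection a φ U f} :=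
      isInvSection_appLE hψ U W e c
    rw [← (hii U).2] at h1
    exact h1

include hi hii hiii hiii' in
theorem isCatQuot_of_closed : GIT.IsCatQuot a φ :=
  isCatQuot_of_data hi (fun _ _ hψ => data_of_closed hii hiii hiii' hψ)

end Closed

end Groth.Agent.R2.H51.GeomQuot
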