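import Mathlib
import Groth.Agent.Lib.Helper14FlatExact

/-!
# Gonflements (helper51) — part A: two algebra lemmas

* `inf_map_C_le` : division by a monic polynomial: if `N ⊓ I₀ ≤ I₀ * N` in `S` and `P ∈ S[X]` is monic,
  then `(N[X] + (P)) ⊓ I₀[X] ≤ I₀[X] * (N[X] + (P))` in `S[X]`.
* `flat_quotient_of_inf_le` : if `T` is a flat `R`-algebra and `J ⊓ I T ≤ I T * J` for all finitely
  generated ideals `I` of `R`, then `T ⧸ J` is flat over `R`.
-/

set_option autoImplicit false
set_option linter.style.haveILetI false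
open Polynomial TensorProduct

namespace Groth.Agent.R2.H51.Gonfl

section division
variable {S : Type*} [CommRing S]

theorem mem_map_C_of_map_eq_zero (N : Ideal S) (f : S[X])
    (h : f.map (Ideal.Quotient.mk N) = 0) : f ∈ N.map (C : S →+* S[X]) := by
  rw [Ideal.mem_map_C_iff]
  intro n
  rw [← Ideal.Quotient.eq_zero_iff_mem, ← Polynomial.coeff_map, h, coeff_zero]

theorem map_eq_zero_of_mem_map_C (N : Ideal S) (f : S[X]) (h : f ∈ N.map (C : S →+* S[X])) :
    f.map (Ideal.Quotient.mk N) = 0 := by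
  rw [Ideal.mem_map_C_iff] at h
  ext n
  rw [Polynomial.coeff_map, coeff_zero, Ideal.Quotient.eq_zero_iff_mem]
  exact h n

theorem inf_map_C_le (I₀ N : Ideal S) (hN : N ⊓ I₀ ≤ I₀ * N) (P : S[X]) (hP : P.Monic) :
    (N.map (C : S →+* S[X]) ⊔ Ideal.span {P}) ⊓ I₀.map (C : S →+* S[X]) ≤
      I₀.map (C : S →+* S[X]) * (N.map (C : S →+* S[X]) ⊔ Ideal.span {P}) := by
  rintro x ⟨hx1, hx2⟩
  by_cases htop : I₀ = ⊤
  · rw [htop, Ideal.map_top, Ideal.top_mul]
    exact hx1
  haveI : Nontrivial (S ⧸ I₀) := Ideal.Quotient.nontrivial_iff.2 htop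
  haveI : Nontrivial S := (Ideal.Quotient.mk I₀).domain_nontrivial
  obtain ⟨n, hn, y, hy, rfl⟩ := Submodule.mem_sup.1 hx1
  obtain ⟨g, rfl⟩ := Ideal.mem_span_singleton'.1 hy
  -- division of `n` by `P`
  set q := n /ₘ P with hq
  set r := n %ₘ P with hr
  have hnqr : r + P * q = n := Polynomial.modByMonic_add_div n P
  have hrN : r ∈ N.map (C : S →+* S[X]) := by
    apply mem_map_C_of_map_eq_zero
    rw [hr, Polynomial.map_modByMonic _ hP, map_eq_zero_of_mem_map_C N n hn, zero_modByMonic]
  have hrdeg : r.degree < P.degree := Polynomial.degree_modByMonic_lt n hP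
  -- reduce modulo `I₀`
  set π := Ideal.Quotient.mk I₀ with hπ
  have hx0 : (n + g * P).map π = 0 := map_eq_zero_of_mem_map_C I₀ _ hx2
  have hPm : (P.map π).Monic := hP.map π
  have hsum : r.map π + P.map π * (q + g).map π = 0 := by
    rw [← Polynomial.map_mul, ← Polynomial.map_add, ← hx0]
    congr 1
    rw [← hnqr]; ring
  have hdeg : (r.map π).degree < (P.map π).degree := by
    rw [hP.degree_map π]
    exact lt_of_le_of_lt (Polynomial.degree_map_le) hrdeg
  obtain ⟨h1, h2⟩ := Polynomial.div_modByMonic_unique ((q + g).map π) (r.map π) hPm ⟨hsum, hdeg⟩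
  rw [zero_divByMonic] at h1
  rw [zero_modByMonic] at h2
  have hrI : r ∈ I₀.map (C : S →+* S[X]) := mem_map_C_of_map_eq_zero I₀ r h2.symm
  have hqgI : q + g ∈ I₀.map (C : S →+* S[X]) := mem_map_C_of_map_eq_zero I₀ _ h1.symm
  -- conclusion
  have hx : n + g * P = r + (q + g) * P := by rw [← hnqr]; ring
  rw [hx]
  refine add_mem ?_ ?_
  · have : r ∈ (I₀ * N).map (C : S →+* S[X]) := by
      rw [Ideal.mem_map_C_iff]
      intro i
      exact hN ⟨(Ideal.mem_map_C_iff.1 hrN) i, (Ideal.mem_map_C_iff.1 hrI) i⟩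
    rw [Ideal.map_mul] at this
    exact Ideal.mul_mono_right le_sup_left this
  · exact Ideal.mul_mem_mul hqgI (Ideal.mem_sup_right (Ideal.subset_span rfl))

end division

section flat
variable {R T : Type*} [CommRing R] [CommRing T] [Algebra R T]

/-- If `T` is `R`-flat and `J ⊓ I T ≤ I T * J` for all finitely generated ideals `I` of `R`, then
`T ⧸ J` is `R`-flat. -/
theorem flat_quotient_of_inf_le [Module.Flat R T] (J : Ideal T)
    (h : ∀ I : Ideal R, I.FG →
      J ⊓ I.map (algebraMap R T) ≤ I.map (algebraMap R T) * J) :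
    Module.Flat R (T ⧸ J) := by
  let f : J →ₗ[R] T := (Submodule.subtype J).restrictScalars R
  let g : T →ₗ[R] T ⧸ J := (Submodule.mkQ J).restrictScalars R
  refine Groth.Agent.Lib.Helper14.flat_of_exact_of_rTensor_quotient_injective f g ?_ ?_ ?_
  · intro x
    constructor
    · intro hx
      exact ⟨⟨x, (Submodule.Quotient.mk_eq_zero J).1 hx⟩, rfl⟩
    · rintro ⟨y, rfl⟩
      exact (Submodule.Quotient.mk_eq_zero J).2 y.2
  · exact Submodule.mkQ_surjective J
  · intro I hI
    rw [injective_iff_map_eq_zero]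
    intro z hz
    obtain ⟨q, rfl⟩ := (TensorProduct.tensorQuotEquivQuotSMul J I).symm.surjective z
    obtain ⟨j, rfl⟩ := Submodule.Quotient.mk_surjective _ q
    rw [TensorProduct.tensorQuotEquivQuotSMul_symm_mk] at hz ⊢
    rw [LinearMap.rTensor_tmul] at hz
    have h1 : TensorProduct.tensorQuotEquivQuotSMul T I (f j ⊗ₜ[R] (1 : R ⧸ I)) = 0 := by
      rw [hz, map_zero]
    rw [← map_one (Ideal.Quotient.mk I), TensorProduct.tensorQuotEquivQuotSMul_tmul_mk, one_smul,
      Submodule.Quotient.mk_eq_zero, Ideal.smul_top_eq_map] at h1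
    have h2 : (j : T) ∈ I.map (algebraMap R T) * J := h I hI ⟨j.2, h1⟩
    have h3 : (j : T) ∈ (I • (⊤ : Submodule R J)).map f := by
      rw [Submodule.map_smul'', Submodule.map_top]
      have : LinearMap.range f = J.restrictScalars R := by
        ext x
        constructor
        · rintro ⟨y, rfl⟩
          exact y.2
        · intro hx
          exact ⟨⟨x, hx⟩, rfl⟩
      rw [this, ← Ideal.smul_restrictScalars]
      exact h2
    obtain ⟨j', hj', hjj'⟩ := h3
    have : j' = j := Subtype.ext hjj'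
    subst this
    rw [← TensorProduct.tensorQuotEquivQuotSMul_symm_mk, (Submodule.Quotient.mk_eq_zero _).2 hj',
      map_zero]

end flat

end Groth.Agent.R2.H51.Gonfl
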