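import Mathlib
import Groth.Agent.R2.H51GonflA

/-!
# Gonflements (helper51) — part B: a triangular family of monic polynomials in `MvPolynomial σ R`

`σ` linearly ordered, `F a ∈ R[X_b : b ≤ a]` monic in `X_a`. Then for every ideal `I` of `R`,
`J ⊓ I T ≤ I T * J` where `J = (F a : a)`; hence `T ⧸ J` is `R`-flat.
-/

set_option autoImplicit false
set_option linter.style.haveILetI false
open MvPolynomial

namespace Groth.Agent.R2.H51.Gonfl

section eA
variable {σ : Type*} [DecidableEq σ] (R : Type*) [CommRing R]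

/-- `R[X_b : b ∈ σ] ≃ R[X_b : b ≠ a][X_a]`. -/
noncomputable def eA (a : σ) :
    MvPolynomial σ R ≃ₐ[R] Polynomial (MvPolynomial {b : σ // b ≠ a} R) :=
  (MvPolynomial.renameEquiv R (Equiv.optionSubtypeNe a).symm).trans
    (MvPolynomial.optionEquivLeft R _)

variable {R}

@[simp] theorem eA_X_self (a : σ) : eA R a (X a) = Polynomial.X := by
  simp [eA]

@[simp] theorem eA_X_ne (a b : σ) (h : b ≠ a) :
    eA R a (X b) = Polynomial.C (X (⟨b, h⟩ : {b : σ // b ≠ a})) := by
  simp [eA, Equiv.optionSubtypeNe_symm_of_ne h]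

@[simp] theorem eA_C (a : σ) (r : R) : eA R a (C r) = Polynomial.C (C r) := by
  simp [eA]

theorem eA_rename (a : σ) (f : MvPolynomial {b : σ // b ≠ a} R) :
    eA R a (rename Subtype.val f) = Polynomial.C f := by
  induction f using MvPolynomial.induction_on with
  | C r => simp
  | add p q hp hq => simp [hp, hq]
  | mul_X p i hp => 
    rw [map_mul, map_mul, hp, rename_X, eA_X_ne _ _ i.2, map_mul]

/-- The retraction `X_a ↦ 0`. -/
noncomputable def rho (R : Type*) [CommRing R] (a : σ) :
    MvPolynomial σ R →ₐ[R] MvPolynomial {b : σ // b ≠ a} R :=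
  aeval (fun b => if h : b = a then 0 else X ⟨b, h⟩)

theorem rho_rename (a : σ) (f : MvPolynomial {b : σ // b ≠ a} R) :
    rho R a (rename Subtype.val f) = f := by
  induction f using MvPolynomial.induction_on with
  | C r => simp [rho]
  | add p q hp hq => simp [hp, hq]
  | mul_X p i hp => 
    rw [map_mul, map_mul, hp, rename_X]
    congr 1
    simp [rho, i.2]

theorem exists_rename_of_mem_supported (a : σ) (f : MvPolynomial σ R)
    (hf : f ∈ supported R {b | b ≠ a}) :
    ∃ f' : MvPolynomial {b : σ // b ≠ a} R, rename Subtype.val f' = f := by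
  apply exists_rename_eq_of_vars_subset_range f _ Subtype.val_injective
  rw [mem_supported] at hf
  intro x hx
  exact ⟨⟨x, hf hx⟩, rfl⟩

end eA

section family
variable {σ : Type*} [LinearOrder σ] {R : Type*} [CommRing R]

local notation "TT" => MvPolynomial σ R

theorem span_image_inf_le (F : σ → MvPolynomial σ R)
    (h1 : ∀ a, F a ∈ supported R {b | b ≤ a})
    (h2 : ∀ a, (eA R a (F a)).Monic) (I : Ideal R) (s : Finset σ) :
    Ideal.span (F '' (s : Set σ)) ⊓ I.map (C : R →+* MvPolynomial σ R) ≤
      I.map (C : R →+* MvPolynomial σ R) * Ideal.span (F '' (s : Set σ)) := by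
  induction s using Finset.induction_on_max with
  | empty => simp
  | insert a s' hs ih =>
    -- notation
    set J' : Ideal (MvPolynomial σ R) := Ideal.span (F '' (s' : Set σ)) with hJ'
    set e : MvPolynomial σ R ≃+* Polynomial (MvPolynomial {b : σ // b ≠ a} R) :=
      (eA R a).toRingEquiv with he
    set ρ : MvPolynomial σ R →+* MvPolynomial {b : σ // b ≠ a} R := (rho R a).toRingHom with hρ
    set ι : MvPolynomial {b : σ // b ≠ a} R →+* MvPolynomial σ R :=
      (rename Subtype.val : MvPolynomial {b : σ // b ≠ a} R →ₐ[R] MvPolynomial σ R).toRingHom with hι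
    set N : Ideal (MvPolynomial {b : σ // b ≠ a} R) := J'.map ρ with hN
    set I₀ : Ideal (MvPolynomial {b : σ // b ≠ a} R) :=
      I.map (C : R →+* MvPolynomial {b : σ // b ≠ a} R) with hI₀
    have hsupp : ∀ b ∈ s', ∃ f' : MvPolynomial {b : σ // b ≠ a} R, ι f' = F b := fun b hb =>
      exists_rename_of_mem_supported a (F b)
        (supported_mono (fun c (hc : c ≤ b) => ne_of_lt (lt_of_le_of_lt hc (hs b hb))) (h1 b))
    have hιρ : ∀ b ∈ s', ι (ρ (F b)) = F b := by
      intro b hb
      obtain ⟨f', hf'⟩ := hsupp b hb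
      rw [← hf']
      congr 1
      exact rho_rename a f'
    have heF : ∀ b ∈ s', e (F b) = Polynomial.C (ρ (F b)) := by
      intro b hb
      obtain ⟨f', hf'⟩ := hsupp b hb
      rw [← hf']
      show eA R a (rename Subtype.val f') = Polynomial.C (rho R a (rename Subtype.val f'))
      rw [eA_rename, rho_rename]
    -- (c1)
    have c1 : J'.map (e : MvPolynomial σ R →+* Polynomial (MvPolynomial {b : σ // b ≠ a} R)) =
        N.map (Polynomial.C : MvPolynomial {b : σ // b ≠ a} R →+* _) := by
      rw [hN, Ideal.map_map, hJ', Ideal.map_span, Ideal.map_span]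
      congr 1
      ext y
      simp only [Set.mem_image]
      constructor
      · rintro ⟨_, ⟨b, hb, rfl⟩, rfl⟩
        exact ⟨F b, ⟨b, hb, rfl⟩, (heF b hb).symm⟩
      · rintro ⟨_, ⟨b, hb, rfl⟩, rfl⟩
        exact ⟨F b, ⟨b, hb, rfl⟩, heF b hb⟩
    -- (c2)
    have c2 : (I.map (C : R →+* MvPolynomial σ R)).map
        (e : MvPolynomial σ R →+* Polynomial (MvPolynomial {b : σ // b ≠ a} R)) =
        I₀.map (Polynomial.C : MvPolynomial {b : σ // b ≠ a} R →+* _) := by
      rw [hI₀, Ideal.map_map, Ideal.map_map]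
      congr 1
      refine RingHom.ext fun r => ?_
      exact eA_C a r
    -- (c3)
    have c3 : N ⊓ I₀ ≤ I₀ * N := by
      rintro x ⟨hxN, hxI⟩
      have hx1 : ι x ∈ J' := by
        have : N.map ι ≤ J' := by
          rw [hN, Ideal.map_map, hJ', Ideal.map_span, Ideal.span_le]
          rintro _ ⟨_, ⟨b, hb, rfl⟩, rfl⟩
          apply Ideal.subset_span
          exact ⟨b, hb, (hιρ b hb).symm⟩
        exact this (Ideal.mem_map_of_mem ι hxN)
      have hx2 : ι x ∈ I.map (C : R →+* MvPolynomial σ R) := by
        have : I₀.map ι = I.map (C : R →+* MvPolynomial σ R) := by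
          rw [hI₀, Ideal.map_map]
          congr 1
          refine RingHom.ext fun r => ?_
          exact rename_C _ r
        rw [← this]
        exact Ideal.mem_map_of_mem ι hxI
      have hx3 := ih ⟨hx1, hx2⟩
      have hx4 : ρ (ι x) ∈ (I.map (C : R →+* MvPolynomial σ R) * J').map ρ :=
        Ideal.mem_map_of_mem ρ hx3
      rw [Ideal.map_mul, Ideal.map_map] at hx4
      have h5 : ρ (ι x) = x := rho_rename a x
      have h6 : (ρ.comp (C : R →+* MvPolynomial σ R)) =
          (C : R →+* MvPolynomial {b : σ // b ≠ a} R) := by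
        refine RingHom.ext fun r => ?_
        exact (rho R a).commutes r
      rw [h5, h6] at hx4
      exact hx4
    have key := inf_map_C_le I₀ N c3 (e (F a)) (h2 a)
    -- transfer
    rw [Finset.coe_insert, Set.image_insert_eq, Ideal.span_insert]
    rintro x ⟨hx1, hx2⟩
    have hy1 : e x ∈ N.map (Polynomial.C : MvPolynomial {b : σ // b ≠ a} R →+* _) ⊔
        Ideal.span {e (F a)} := by
      have := Ideal.mem_map_of_mem
        (e : MvPolynomial σ R →+* Polynomial (MvPolynomial {b : σ // b ≠ a} R)) hx1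
      rw [Ideal.map_sup, Ideal.map_span, Set.image_singleton, c1, sup_comm] at this
      exact this
    have hy2 : e x ∈ I₀.map (Polynomial.C : MvPolynomial {b : σ // b ≠ a} R →+* _) := by
      rw [← c2]
      exact Ideal.mem_map_of_mem
        (e : MvPolynomial σ R →+* Polynomial (MvPolynomial {b : σ // b ≠ a} R)) hx2
    have hy3 := key ⟨hy1, hy2⟩
    have hy4 : e x ∈ (I.map (C : R →+* MvPolynomial σ R) *
        (Ideal.span {F a} ⊔ J')).map
        (e : MvPolynomial σ R →+* Polynomial (MvPolynomial {b : σ // b ≠ a} R)) := by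
      rw [Ideal.map_mul, Ideal.map_sup, Ideal.map_span, Set.image_singleton, c1, c2, sup_comm]
      exact hy3
    have := Ideal.mem_map_of_mem
      (e.symm : Polynomial (MvPolynomial {b : σ // b ≠ a} R) →+* MvPolynomial σ R) hy4
    rw [Ideal.map_map] at this
    simpa using this

theorem span_range_inf_le (F : σ → MvPolynomial σ R)
    (h1 : ∀ a, F a ∈ supported R {b | b ≤ a})
    (h2 : ∀ a, (eA R a (F a)).Monic) (I : Ideal R) :
    Ideal.span (Set.range F) ⊓ I.map (C : R →+* MvPolynomial σ R) ≤
      I.map (C : R →+* MvPolynomial σ R) * Ideal.span (Set.range F) := by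
  rintro x ⟨hx1, hx2⟩
  obtain ⟨c, rfl⟩ := (Finsupp.mem_span_range_iff_exists_finsupp).1 hx1
  have hx3 : (c.sum fun i a => a • F i) ∈ Ideal.span (F '' (c.support : Set σ)) := by
    refine Submodule.sum_mem _ fun i hi => ?_
    exact Submodule.smul_mem _ _ (Ideal.subset_span ⟨i, hi, rfl⟩)
  have hx4 := span_image_inf_le F h1 h2 I c.support ⟨hx3, hx2⟩
  exact Ideal.mul_mono_right (Ideal.span_mono (Set.image_subset_range _ _)) hx4

theorem flat_quotient_span_range (F : σ → MvPolynomial σ R)
    (h1 : ∀ a, F a ∈ supported R {b | b ≤ a})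
    (h2 : ∀ a, (eA R a (F a)).Monic) :
    Module.Flat R (MvPolynomial σ R ⧸ Ideal.span (Set.range F)) :=
  flat_quotient_of_inf_le _ fun I _ => by
    rw [MvPolynomial.algebraMap_eq]
    exact span_range_inf_le F h1 h2 I

end family

end Groth.Agent.R2.H51.Gonfl
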