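import Mathlib
import Groth.Agent.R2.H51GonflB

/-!
# Gonflements (helper51) — part C: presentation of an algebraic extension

`R → k` a surjection onto a field, `K/k` algebraic, `v : σ → K` with `σ` well-ordered.
`T = R[X_a : a ∈ σ] → K`, `X_a ↦ v a`.  For each `a` a monic lift `P a ∈ R[X_b : b < a][X]` of the
minimal polynomial of `v a` over `k(v b : b < a)`; `F a = P a (X_a)`.
Then `ker (T → K) ≤ (F a : a) + 𝔪 T`.
-/

set_option autoImplicit false
set_option linter.style.haveILetI false
set_option linter.unusedSectionVars false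
open MvPolynomial

namespace Groth.Agent.R2.H51.Gonfl

section pres
variable {R k K σ : Type*} [CommRing R] [Field k] [Field K] [Algebra R k] [Algebra k K]
  [Algebra R K] [IsScalarTower R k K] [LinearOrder σ] (v : σ → K)

/-- the field generated by the earlier elements. -/
def Elt (k : Type*) {K σ : Type*} [Field k] [Field K] [Algebra k K] [LinearOrder σ] (v : σ → K)
    (a : σ) : IntermediateField k K :=
  IntermediateField.adjoin k (v '' {b | b < a})

/-- evaluation of the earlier variables. -/
noncomputable def philt (R : Type*) {K σ : Type*} [CommRing R] [Field K] [Algebra R K]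
    [LinearOrder σ] (v : σ → K) (a : σ) : MvPolynomial {b : σ // b < a} R →ₐ[R] K :=
  aeval (fun b => v b.1)

theorem philt_mem (a : σ) (g : MvPolynomial {b : σ // b < a} R) : philt R v a g ∈ Elt k v a := by
  induction g using MvPolynomial.induction_on with
  | C r =>
    rw [philt, aeval_C, IsScalarTower.algebraMap_apply R k K]
    exact (Elt k v a).algebraMap_mem _
  | add p q hp hq => rw [map_add]; exact add_mem hp hq
  | mul_X p i hp =>
    rw [map_mul]
    refine mul_mem hp ?_
    rw [philt, aeval_X]
    exact IntermediateField.subset_adjoin k _ ⟨i.1, i.2, rfl⟩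

/-- evaluation of the earlier variables, as a map to the field they generate. -/
noncomputable def Philt (a : σ) : MvPolynomial {b : σ // b < a} R →+* Elt k v a :=
  (philt R v a : MvPolynomial {b : σ // b < a} R →+* K).codRestrict (Elt k v a) (philt_mem v a)

theorem Philt_coe (a : σ) (g : MvPolynomial {b : σ // b < a} R) :
    ((Philt (k := k) v a g : Elt k v a) : K) = philt R v a g := rfl

theorem Philt_surjective (hRk : Function.Surjective (algebraMap R k)) [Algebra.IsAlgebraic k K]
    (a : σ) : Function.Surjective (Philt (R := R) (k := k) v a) := by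
  have key : ∀ y ∈ Algebra.adjoin k (v '' {b | b < a}), ∃ g, philt R v a g = y := by
    intro y hy'
    induction hy' using Algebra.adjoin_induction with
    | mem x hx =>
      obtain ⟨b, hb, rfl⟩ := hx
      exact ⟨X ⟨b, hb⟩, by rw [philt, aeval_X]⟩
    | algebraMap c =>
      obtain ⟨r, rfl⟩ := hRk c
      exact ⟨C r, by rw [philt, aeval_C, IsScalarTower.algebraMap_apply R k K]⟩
    | add x y _ _ hx hy =>
      obtain ⟨g1, h1⟩ := hx
      obtain ⟨g2, h2⟩ := hy
      exact ⟨g1 + g2, by rw [map_add, h1, h2]⟩
    | mul x y _ _ hx hy =>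
      obtain ⟨g1, h1⟩ := hx
      obtain ⟨g2, h2⟩ := hy
      exact ⟨g1 * g2, by rw [map_mul, h1, h2]⟩
  rintro ⟨y, hy⟩
  have hy' : y ∈ Algebra.adjoin k (v '' {b | b < a}) := by
    rw [← IntermediateField.adjoin_toSubalgebra]
    exact hy
  obtain ⟨g, hg⟩ := key y hy'
  exact ⟨g, Subtype.ext hg⟩

theorem exists_monic_lift (hRk : Function.Surjective (algebraMap R k)) [Algebra.IsAlgebraic k K]
    (a : σ) : ∃ P : Polynomial (MvPolynomial {b : σ // b < a} R),
      P.Monic ∧ P.map (Philt (k := k) v a) = minpoly (Elt k v a) (v a) := by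
  have hint : IsIntegral (Elt k v a) (v a) :=
    (Algebra.IsIntegral.isIntegral (R := k) (v a)).tower_top
  have hl : minpoly (Elt k v a) (v a) ∈ Polynomial.lifts (Philt (R := R) (k := k) v a) := by
    rw [Polynomial.mem_lifts]
    exact Polynomial.map_surjective _ (Philt_surjective v hRk a) _
  obtain ⟨q, h1, _, h3⟩ := Polynomial.lifts_and_natDegree_eq_and_monic hl (minpoly.monic hint)
  exact ⟨q, h3, h1⟩

/-- `R[X_b : b < a][X] → R[X_b : b ∈ σ]`, `X ↦ X_a`. -/
noncomputable def theta (R : Type*) {σ : Type*} [CommRing R] [LinearOrder σ] (a : σ) :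
    Polynomial (MvPolynomial {b : σ // b < a} R) →ₐ[R] MvPolynomial σ R :=
  Polynomial.aevalTower (rename Subtype.val) (X a)

@[simp] theorem theta_X (a : σ) : theta R a Polynomial.X = X a := by
  simp [theta]

@[simp] theorem theta_C (a : σ) (c : MvPolynomial {b : σ // b < a} R) :
    theta R a (Polynomial.C c) = rename Subtype.val c := by
  simp [theta]

/-- the inclusion `{b < a} → {b ≠ a}`. -/
def inclLt (a : σ) : {b : σ // b < a} → {b : σ // b ≠ a} := fun b => ⟨b.1, ne_of_lt b.2⟩

theorem eA_theta (a : σ) (P : Polynomial (MvPolynomial {b : σ // b < a} R)) :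
    eA R a (theta R a P) =
      P.map ((rename (inclLt a) : MvPolynomial {b : σ // b < a} R →ₐ[R] _) : _ →+* _) := by
  induction P using Polynomial.induction_on' with
  | add p q hp hq => rw [map_add, map_add, hp, hq, Polynomial.map_add]
  | monomial n c =>
    rw [← Polynomial.C_mul_X_pow_eq_monomial, map_mul, map_mul, map_pow, map_pow, theta_X, theta_C,
      eA_X_self, Polynomial.map_mul, Polynomial.map_pow, Polynomial.map_X, Polynomial.map_C]
    congr 1
    have : rename Subtype.val c = rename (Subtype.val : {b : σ // b ≠ a} → σ)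
        (rename (inclLt a) c) := by
      rw [rename_rename]
      rfl
    rw [this, eA_rename]
    rfl

theorem eA_theta_monic (a : σ) (P : Polynomial (MvPolynomial {b : σ // b < a} R))
    (hP : P.Monic) : (eA R a (theta R a P)).Monic := by
  rw [eA_theta]
  exact hP.map _

theorem theta_mem_supported (a : σ) (P : Polynomial (MvPolynomial {b : σ // b < a} R)) :
    theta R a P ∈ supported R {b | b ≤ a} := by
  induction P using Polynomial.induction_on' with
  | add p q hp hq => rw [map_add]; exact add_mem hp hq
  | monomial n c =>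
    rw [← Polynomial.C_mul_X_pow_eq_monomial, map_mul, map_pow, theta_X, theta_C]
    have hXa : (X a : MvPolynomial σ R) ∈ supported R {b | b ≤ a} :=
      Algebra.subset_adjoin (Set.mem_image_of_mem _ (show a ∈ {b | b ≤ a} from le_refl a))
    refine mul_mem ?_ (pow_mem hXa n)
    rw [mem_supported]
    intro x hx
    have := vars_rename (Subtype.val : {b : σ // b < a} → σ) c hx
    rw [Finset.mem_image] at this
    obtain ⟨b, _, rfl⟩ := this
    exact le_of_lt b.2

theorem exists_theta_eq (a : σ) (f : MvPolynomial σ R) (hf : f ∈ supported R {b | b ≤ a}) :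
    ∃ G, theta R a G = f := by
  have : supported R {b | b ≤ a} ≤ (theta R a).range := by
    rw [supported, Algebra.adjoin_le_iff]
    rintro _ ⟨b, hb, rfl⟩
    rcases lt_or_eq_of_le (show b ≤ a from hb) with h | h
    · exact ⟨Polynomial.C (X ⟨b, h⟩), (theta_C a _).trans (rename_X _ _)⟩
    · exact ⟨Polynomial.X, (theta_X a).trans (by rw [h])⟩
  exact this hf

theorem aeval_theta (a : σ) (G : Polynomial (MvPolynomial {b : σ // b < a} R)) :
    aeval v (theta R a G) = Polynomial.aeval (v a) (G.map (Philt (k := k) v a)) := by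
  induction G using Polynomial.induction_on' with
  | add p q hp hq => rw [map_add, map_add, hp, hq, Polynomial.map_add, map_add]
  | monomial n c =>
    rw [← Polynomial.C_mul_X_pow_eq_monomial, map_mul, map_mul, map_pow, map_pow, theta_X, theta_C,
      Polynomial.map_mul, Polynomial.map_pow, Polynomial.map_X, Polynomial.map_C, map_mul, map_pow,
      Polynomial.aeval_X, Polynomial.aeval_C, aeval_X, aeval_rename]
    rfl

section kernel
variable (P : ∀ a : σ, Polynomial (MvPolynomial {b : σ // b < a} R))
  (hP : ∀ a, (P a).Monic ∧ (P a).map (Philt (k := k) v a) = minpoly (Elt k v a) (v a))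

include hP in
theorem aeval_theta_P (a : σ) : aeval v (theta R a (P a)) = 0 := by
  rw [aeval_theta (k := k), (hP a).2, minpoly.aeval]

theorem mem_of_vars_empty (f : MvPolynomial σ R) (hf : f.vars = ∅) (h0 : aeval v f = 0) :
    f ∈ (RingHom.ker (algebraMap R k)).map (C : R →+* MvPolynomial σ R) := by
  have h1 : f ∈ supported R (∅ : Set σ) := by
    rw [mem_supported, hf]
    simp
  rw [supported_empty, Algebra.mem_bot] at h1
  obtain ⟨r, rfl⟩ := h1
  rw [MvPolynomial.algebraMap_eq, aeval_C, IsScalarTower.algebraMap_apply R k K] at h0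
  have h2 : algebraMap R k r = 0 := (algebraMap k K).injective (by rw [h0, map_zero])
  exact Ideal.mem_map_of_mem _ h2

/-- reduction to polynomials in the variables up to a given one. -/
theorem mem_of_forall_le (JJ : Ideal (MvPolynomial σ R))
    (hJJ : (RingHom.ker (algebraMap R k)).map (C : R →+* MvPolynomial σ R) ≤ JJ)
    (f : MvPolynomial σ R)
    (H : ∀ b ∈ f.vars, ∀ g ∈ supported R {c | c ≤ b}, aeval v g = 0 → g ∈ JJ)
    (h0 : aeval v f = 0) : f ∈ JJ := by
  by_cases hv : f.vars = ∅
  · exact hJJ (mem_of_vars_empty (k := k) v f hv h0)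
  · have hne : f.vars.Nonempty := Finset.nonempty_iff_ne_empty.2 hv
    refine H (f.vars.max' hne) (Finset.max'_mem _ hne) f ?_ h0
    rw [mem_supported]
    intro x hx
    exact Finset.le_max' _ x hx

variable [WellFoundedLT σ]

include hP in
theorem ker_le_aux (a : σ) : ∀ f ∈ supported R {b | b ≤ a}, aeval v f = 0 →
    f ∈ Ideal.span (Set.range fun a => theta R a (P a)) ⊔
      (RingHom.ker (algebraMap R k)).map (C : R →+* MvPolynomial σ R) := by
  haveI : Nontrivial R := (algebraMap R k).domain_nontrivial
  induction a using WellFoundedLT.induction with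
  | ind a ih =>
    intro f hf h0
    obtain ⟨G, rfl⟩ := exists_theta_eq a f hf
    have hdiv := Polynomial.modByMonic_add_div G (P a)
    set r₀ := G %ₘ P a with hr₀
    set Q := G /ₘ P a with hQ
    have h1 : theta R a G = theta R a r₀ + theta R a (P a) * theta R a Q := by
      rw [← map_mul, ← map_add, hdiv]
    have h2 : aeval v (theta R a r₀) = 0 := by
      have := h0
      rw [h1, map_add, map_mul, aeval_theta_P v P hP, zero_mul, add_zero] at this
      exact this
    have h3 : r₀.map (Philt (k := k) v a) = 0 := by
      by_contra hne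
      have hle := minpoly.degree_le_of_ne_zero (Elt k v a) (v a) hne
        (by rw [← aeval_theta]; exact h2)
      have hlt : (r₀.map (Philt (k := k) v a)).degree < (minpoly (Elt k v a) (v a)).degree := by
        calc (r₀.map (Philt (k := k) v a)).degree ≤ r₀.degree := Polynomial.degree_map_le
          _ < (P a).degree := Polynomial.degree_modByMonic_lt G (hP a).1
          _ = (minpoly (Elt k v a) (v a)).degree := by rw [← (hP a).2, (hP a).1.degree_map]
      exact absurd hle (not_le.2 hlt)
    rw [h1]
    refine add_mem ?_ (Ideal.mem_sup_left (Ideal.mul_mem_right _ _ (Ideal.subset_span ⟨a, rfl⟩)))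
    rw [r₀.as_sum_support_C_mul_X_pow, map_sum]
    refine Ideal.sum_mem _ fun i _ => ?_
    rw [map_mul, map_pow, theta_X, theta_C]
    refine Ideal.mul_mem_right _ _ ?_
    have hc : Philt (k := k) v a (r₀.coeff i) = 0 := by
      rw [← Polynomial.coeff_map, h3, Polynomial.coeff_zero]
    have hc0 : aeval v (rename Subtype.val (r₀.coeff i)) = 0 := by
      rw [aeval_rename]
      have := congrArg (fun z : Elt k v a => (z : K)) hc
      exact this
    refine mem_of_forall_le (k := k) v _ le_sup_right _ ?_ hc0
    intro b hb g hg hg0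
    have hb' := vars_rename (Subtype.val : {b : σ // b < a} → σ) (r₀.coeff i) hb
    rw [Finset.mem_image] at hb'
    obtain ⟨b', _, rfl⟩ := hb'
    exact ih b'.1 b'.2 g hg hg0

include hP in
/-- the kernel of `R[X_a] → K` is generated by the `F a` and `𝔪`. -/
theorem ker_le (f : MvPolynomial σ R) (h0 : aeval v f = 0) :
    f ∈ Ideal.span (Set.range fun a => theta R a (P a)) ⊔
      (RingHom.ker (algebraMap R k)).map (C : R →+* MvPolynomial σ R) :=
  mem_of_forall_le (k := k) v _ le_sup_right f
    (fun b _ g hg hg0 => ker_le_aux v P hP b g hg hg0) h0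

end kernel

theorem flat_quotient_theta (P : ∀ a : σ, Polynomial (MvPolynomial {b : σ // b < a} R))
    (hP : ∀ a, (P a).Monic) :
    Module.Flat R (MvPolynomial σ R ⧸ Ideal.span (Set.range fun a => theta R a (P a))) :=
  flat_quotient_span_range _ (fun a => theta_mem_supported a (P a))
    (fun a => eA_theta_monic a (P a) (hP a))

end pres

end Groth.Agent.R2.H51.Gonfl
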