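import Mathlib
import Groth.Agent.R2.H51GonflC
import Groth.Agent.S9168

/-!
# Gonflements (helper51) — part D: flat local extensions with prescribed residue field
-/

set_option autoImplicit false
set_option linter.style.haveILetI false
set_option linter.unusedSectionVars false
universe u
open MvPolynomial IsLocalRing

namespace Groth.Agent.R2.H51.Gonfl

open Groth.Agent.S9168 in
/-- **Localisation package.** `A` a flat `R`-algebra, `g : A → K` with kernel `𝔪 A`. Then
`R' = A_{𝔪 A}` is a flat local `R`-algebra with `𝔪 R' = 𝔪_{R'}` and residue field embedded in `K`,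
containing the image of `g`. -/
theorem exists_of_presentation {R K : Type u} [CommRing R] [IsLocalRing R] [Field K]
    [Algebra (ResidueField R) K] [Algebra R K] [IsScalarTower R (ResidueField R) K]
    (A : Type u) [CommRing A] [Algebra R A] [Module.Flat R A] (g : A →ₐ[R] K)
    (hker : RingHom.ker (g : A →+* K) = (maximalIdeal R).map (algebraMap R A)) :
    ∃ (R' : Type u) (_ : CommRing R') (_ : IsLocalRing R') (_ : Algebra R R')
      (_ : IsLocalHom (algebraMap R R')),
      Module.Flat R R' ∧ (maximalIdeal R).map (algebraMap R R') = maximalIdeal R' ∧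
      ∃ ι : ResidueField R' →+* K,
        (∀ x, ι (algebraMap (ResidueField R) (ResidueField R') x) =
          algebraMap (ResidueField R) K x) ∧ Set.range g ⊆ Set.range ι := by
  set g' : A →+* K := (g : A →+* K) with hg'
  have hp : pr g' = (maximalIdeal R).map (algebraMap R A) := by
    rw [← hker]
    show Ideal.comap g' (maximalIdeal K) = _
    rw [IsLocalRing.maximalIdeal_eq_bot]
    rfl
  have hmax : (maximalIdeal R).map (algebraMap R (Localization.AtPrime (pr g'))) =
      maximalIdeal (Localization.AtPrime (pr g')) := by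
    rw [IsScalarTower.algebraMap_eq R A (Localization.AtPrime (pr g')), ← Ideal.map_map, ← hp]
    exact Localization.AtPrime.map_eq_maximalIdeal
  have hloc : IsLocalHom (algebraMap R (Localization.AtPrime (pr g'))) :=
    ((IsLocalRing.local_hom_TFAE _).out 0 2).mpr (le_of_eq hmax)
  refine ⟨Localization.AtPrime (pr g'), inferInstance, inferInstance, inferInstance, hloc, ?_, hmax,
    IsLocalRing.ResidueField.lift (psi g'), ?_, ?_⟩
  · haveI : Module.Flat A (Localization.AtPrime (pr g')) :=
      IsLocalization.flat _ (pr g').primeCompl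
    exact Module.Flat.trans R A (Localization.AtPrime (pr g'))
  · intro x
    obtain ⟨r, rfl⟩ := IsLocalRing.residue_surjective x
    rw [IsLocalRing.ResidueField.algebraMap_residue, IsLocalRing.ResidueField.lift_residue_apply,
      IsScalarTower.algebraMap_apply R A (Localization.AtPrime (pr g')), psi_algebraMap]
    show g (algebraMap R A r) = _
    rw [g.commutes, IsScalarTower.algebraMap_apply R (ResidueField R) K,
      IsLocalRing.ResidueField.algebraMap_eq]
  · rintro _ ⟨a, rfl⟩
    refine ⟨IsLocalRing.residue _ (algebraMap A (Localization.AtPrime (pr g')) a), ?_⟩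
    rw [IsLocalRing.ResidueField.lift_residue_apply, psi_algebraMap]
    rfl

/-- **Step 2.** algebraic residue field extensions. -/
theorem exists_of_wellOrdered {R K σ : Type u} [CommRing R] [IsLocalRing R] [Field K]
    [Algebra (ResidueField R) K] [Algebra R K] [IsScalarTower R (ResidueField R) K]
    [Algebra.IsAlgebraic (ResidueField R) K] [LinearOrder σ] [WellFoundedLT σ] (v : σ → K)
    (hv : Function.Surjective v) :
    ∃ (R' : Type u) (_ : CommRing R') (_ : IsLocalRing R') (_ : Algebra R R')
      (_ : IsLocalHom (algebraMap R R')),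
      Module.Flat R R' ∧ (maximalIdeal R).map (algebraMap R R') = maximalIdeal R' ∧
      Nonempty (ResidueField R' ≃ₐ[ResidueField R] K) := by
  have hRk : Function.Surjective (algebraMap R (ResidueField R)) := by
    rw [IsLocalRing.ResidueField.algebraMap_eq]
    exact IsLocalRing.residue_surjective
  have hkerRk : RingHom.ker (algebraMap R (ResidueField R)) = maximalIdeal R := by
    rw [IsLocalRing.ResidueField.algebraMap_eq]
    exact IsLocalRing.ker_residue
  choose P hP using exists_monic_lift (R := R) (k := ResidueField R) v hRk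
  set J : Ideal (MvPolynomial σ R) := Ideal.span (Set.range fun a => theta R a (P a)) with hJ
  haveI : Module.Flat R (MvPolynomial σ R ⧸ J) := flat_quotient_theta P (fun a => (hP a).1)
  have hJφ : ∀ x ∈ J, (aeval v : MvPolynomial σ R →ₐ[R] K) x = 0 := by
    have : J ≤ RingHom.ker (aeval v : MvPolynomial σ R →ₐ[R] K) := by
      rw [hJ, Ideal.span_le]
      rintro _ ⟨a, rfl⟩
      exact aeval_theta_P (k := ResidueField R) v P hP a
    exact fun x hx => this hx
  set g : (MvPolynomial σ R ⧸ J) →ₐ[R] K := Ideal.Quotient.liftₐ J (aeval v) hJφ with hg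
  have hgmk : ∀ f, g (Ideal.Quotient.mk J f) = aeval v f := fun f => rfl
  have hker : RingHom.ker (g : (MvPolynomial σ R ⧸ J) →+* K) =
      (maximalIdeal R).map (algebraMap R (MvPolynomial σ R ⧸ J)) := by
    apply le_antisymm
    · intro x hx
      obtain ⟨f, rfl⟩ := Ideal.Quotient.mk_surjective x
      have h0 : aeval v f = 0 := hx
      have h1 := ker_le (k := ResidueField R) v P hP f h0
      rw [hkerRk] at h1
      have h2 := Ideal.mem_map_of_mem (Ideal.Quotient.mk J) h1
      rw [Ideal.map_sup, Ideal.map_quotient_self, bot_sup_eq, Ideal.map_map] at h2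
      exact h2
    · rw [Ideal.map_le_iff_le_comap]
      intro r hr
      show g (algebraMap R _ r) = 0
      rw [g.commutes, IsScalarTower.algebraMap_apply R (ResidueField R) K,
        IsLocalRing.ResidueField.algebraMap_eq, (IsLocalRing.residue_eq_zero_iff r).2 hr, map_zero]
  obtain ⟨R', i1, i2, i3, i4, hflat, hmax, ι, hι, hrange⟩ :=
    exists_of_presentation (MvPolynomial σ R ⧸ J) g hker
  refine ⟨R', i1, i2, i3, i4, hflat, hmax, ⟨?_⟩⟩
  have hsurj : Function.Surjective ι := by
    intro y
    obtain ⟨a, rfl⟩ := hv y
    exact hrange ⟨Ideal.Quotient.mk J (X a), by rw [hgmk, aeval_X]⟩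
  exact AlgEquiv.ofRingEquiv (f := RingEquiv.ofBijective ι ⟨ι.injective, hsurj⟩) hι

/-- **Step 1.** reduce to an algebraic residue field extension. -/
theorem exists_step1 {R K : Type u} [CommRing R] [IsLocalRing R] [Field K]
    [Algebra (ResidueField R) K] [Algebra R K] [IsScalarTower R (ResidueField R) K] :
    ∃ (R' : Type u) (_ : CommRing R') (_ : IsLocalRing R') (_ : Algebra R R')
      (_ : IsLocalHom (algebraMap R R')),
      Module.Flat R R' ∧ (maximalIdeal R).map (algebraMap R R') = maximalIdeal R' ∧
      ∃ ι : ResidueField R' →+* K,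
        (∀ x, ι (algebraMap (ResidueField R) (ResidueField R') x) =
          algebraMap (ResidueField R) K x) ∧
        @Algebra.IsAlgebraic (ResidueField R') K _ _ ι.toAlgebra := by
  have hRk : Function.Surjective (algebraMap R (ResidueField R)) := by
    rw [IsLocalRing.ResidueField.algebraMap_eq]
    exact IsLocalRing.residue_surjective
  have hkerRk : RingHom.ker (algebraMap R (ResidueField R)) = maximalIdeal R := by
    rw [IsLocalRing.ResidueField.algebraMap_eq]
    exact IsLocalRing.ker_residue
  obtain ⟨B, hB⟩ := exists_isTranscendenceBasis (ResidueField R) K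
  set g : MvPolynomial B R →ₐ[R] K := aeval (fun b => (b : K)) with hg
  have hker : RingHom.ker (g : MvPolynomial B R →+* K) =
      (maximalIdeal R).map (algebraMap R (MvPolynomial B R)) := by
    rw [MvPolynomial.algebraMap_eq, ← hkerRk, ← MvPolynomial.ker_map]
    ext f
    rw [RingHom.mem_ker, RingHom.mem_ker]
    have h1 : aeval (fun b : B => (b : K)) (MvPolynomial.map (algebraMap R (ResidueField R)) f) =
        g f := MvPolynomial.aeval_map_algebraMap _ _ f
    constructor
    · intro hf
      exact hB.1.eq_zero_of_aeval_eq_zero _ (h1.trans hf)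
    · intro hf
      have : g f = 0 := by rw [← h1, hf, map_zero]
      exact this
  obtain ⟨R', i1, i2, i3, i4, hflat, hmax, ι, hι, hrange⟩ :=
    exists_of_presentation (MvPolynomial B R) g hker
  refine ⟨R', i1, i2, i3, i4, hflat, hmax, ι, hι, ?_⟩
  letI : Algebra (ResidueField R') K := ι.toAlgebra
  have hL : ∀ z ∈ Algebra.adjoin (ResidueField R) (Set.range (Subtype.val : B → K)),
      z ∈ Set.range ι := by
    intro z hz
    rw [Algebra.adjoin_range_eq_range_aeval] at hz
    obtain ⟨fbar, rfl⟩ := hz
    obtain ⟨f, rfl⟩ := MvPolynomial.map_surjective (algebraMap R (ResidueField R)) hRk fbar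
    apply hrange
    exact ⟨f, (MvPolynomial.aeval_map_algebraMap _ _ f).symm⟩
  have halg := hB.isAlgebraic
  constructor
  intro y
  obtain ⟨p, hp0, hpy⟩ := halg.isAlgebraic y
  have hlift : p.map (algebraMap _ K) ∈ Polynomial.lifts ι := by
    rw [Polynomial.lifts_iff_coeff_lifts]
    intro n
    rw [Polynomial.coeff_map]
    exact hL _ (p.coeff n).2
  obtain ⟨q, hq⟩ := hlift
  refine ⟨q, ?_, ?_⟩
  · rintro rfl
    rw [Polynomial.coe_mapRingHom, Polynomial.map_zero] at hq
    exact hp0 (Polynomial.map_injective _ (FaithfulSMul.algebraMap_injective _ K) (by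
      rw [← hq, Polynomial.map_zero]))
  · rw [Polynomial.aeval_def, Polynomial.eval₂_eq_eval_map]
    show Polynomial.eval y (q.map ι) = 0
    rw [Polynomial.coe_mapRingHom] at hq
    rw [hq, Polynomial.eval_map_algebraMap]
    exact hpy

end Groth.Agent.R2.H51.Gonfl
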