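import Mathlib
import Groth.Agent.Lib.Helper5HilbertBurch
import Groth.Agent.Lib.Helper5NilSup
import Groth.Agent.Lib.Helper5NilComplex
import Groth.Agent.Lib.Helper28DepthMore
import Groth.Agent.Lib.Helper5CodepthOpen
import Groth.Agent.Lib.Helper6FSReg

/-!
# Converse lifting for Hilbert–Burch presentations (helper51)

Every flat deformation over a local Artin ring of a codimension-two determinantal quotient of a
smooth algebra is again determinantal, by a matrix lifting the given one.
-/

set_option autoImplicit false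
universe u v
open scoped TensorProduct

namespace Groth.Agent.R2.H51.HBConv

open Groth.Agent.Lib.Helper5

section Dual

variable {R : Type u} [CommRing R] {t : ℕ}

/-- Exactness of the dual of a Hilbert–Burch complex at the middle: if `x, y` is a regular
sequence inside the ideal generated by `f` and `0 → R^t → R^{t+1} → R` (maps `Ψ`, `f`) is exact at
`R^{t+1}`, then every `v` with `Ψᵀ v = 0` is a multiple of `f`. -/
theorem exists_eq_mul_of_relations (Ψ : Matrix (Fin (t + 1)) (Fin t) R) (f : Fin (t + 1) → R)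
    (hex : LinearMap.range Ψ.mulVecLin = LinearMap.ker (Fintype.linearCombination R f))
    (x y : R) (hx : x ∈ Ideal.span (Set.range f)) (hy : y ∈ Ideal.span (Set.range f))
    (hxreg : ∀ b, x * b = 0 → b = 0)
    (hyreg : ∀ b c, y * b = x * c → ∃ d, b = x * d)
    (v : Fin (t + 1) → R) (hv : ∀ j, ∑ i, Ψ i j * v i = 0) :
    ∃ a : R, ∀ i, v i = a * f i := by
  classical
  obtain ⟨vx, hvx⟩ := Ideal.mem_span_range_iff_exists_fun.mp hx
  obtain ⟨vy, hvy⟩ := Ideal.mem_span_range_iff_exists_fun.mp hy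
  -- `δ` and `π`
  obtain ⟨δ, hδ⟩ : ∃ δ : (Fin (t + 1) → R) →ₗ[R] R, ∀ w, δ w = ∑ i, w i * f i :=
    ⟨Fintype.linearCombination R f, fun w => by
      rw [Fintype.linearCombination_apply]; rfl⟩
  obtain ⟨π, hπ⟩ : ∃ π : (Fin (t + 1) → R) →ₗ[R] R, ∀ w, π w = ∑ i, w i * v i :=
    ⟨Fintype.linearCombination R v, fun w => by
      rw [Fintype.linearCombination_apply]; rfl⟩
  have hδx : δ vx = x := by rw [hδ]; exact hvx
  have hδy : δ vy = y := by rw [hδ]; exact hvy
  -- `ker δ ≤ ker π`
  have hle : ∀ w, δ w = 0 → π w = 0 := by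
    intro w hw
    have hw' : w ∈ LinearMap.ker (Fintype.linearCombination R f) := by
      rw [LinearMap.mem_ker, Fintype.linearCombination_apply]
      rw [hδ] at hw
      exact hw
    rw [← hex] at hw'
    obtain ⟨p, rfl⟩ := hw'
    rw [hπ]
    simp only [Matrix.mulVecLin_apply, Matrix.mulVec, dotProduct]
    have : ∀ i, (∑ j, Ψ i j * p j) * v i = ∑ j, p j * (Ψ i j * v i) := by
      intro i
      rw [Finset.sum_mul]
      apply Finset.sum_congr rfl
      intro j _
      ring
    simp only [this]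
    rw [Finset.sum_comm]
    apply Finset.sum_eq_zero
    intro j _
    rw [← Finset.mul_sum, hv, mul_zero]
  have h2 : y * π vx = x * π vy := by
    have h := hle (x • vy - y • vx) (by
      rw [map_sub, map_smul, map_smul, hδx, hδy, smul_eq_mul, smul_eq_mul, mul_comm, sub_self])
    rw [map_sub, map_smul, map_smul, smul_eq_mul, smul_eq_mul, sub_eq_zero] at h
    exact h.symm
  obtain ⟨a, ha⟩ := hyreg (π vx) (π vy) h2
  have hπδ : ∀ w, π w = a * δ w := by
    intro w
    have h := hle (x • w - (δ w) • vx) (by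
      rw [map_sub, map_smul, map_smul, hδx, smul_eq_mul, smul_eq_mul, mul_comm, sub_self])
    rw [map_sub, map_smul, map_smul, smul_eq_mul, smul_eq_mul, ha, sub_eq_zero] at h
    have h3 : x * (π w - a * δ w) = 0 := by
      rw [mul_sub, h]
      ring
    exact sub_eq_zero.mp (hxreg _ h3)
  refine ⟨a, fun i => ?_⟩
  have h4 := hπδ (Pi.single i 1)
  rw [hπ, hδ] at h4
  simp only [Pi.single_apply, ite_mul, one_mul, zero_mul, Finset.sum_ite_eq', Finset.mem_univ,
    if_true] at h4
  exact h4

end Dual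

section RegPair

open RingTheory.Sequence Groth.Agent.Lib.Helper28

/-- In a Noetherian formally smooth algebra over a field, an ideal all of whose primes have
height at least two contains a regular sequence of length two (phrased elementwise). -/
theorem exists_regular_pair (k : Type u) [Field k] (B : Type u) [CommRing B] [Algebra k B]
    [IsNoetherianRing B] [Algebra.FormallySmooth k B] (I : Ideal B)
    (hI : ∀ p : Ideal B, p.IsPrime → I ≤ p → (2 : ℕ∞) ≤ p.height) :
    ∃ x y : B, x ∈ I ∧ y ∈ I ∧ (∀ b, x * b = 0 → b = 0) ∧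
      (∀ b c, y * b = x * c → ∃ d, b = x * d) := by
  by_cases hI1 : I = ⊤
  · refine ⟨1, 1, by rw [hI1]; trivial, by rw [hI1]; trivial, fun b hb => by simpa using hb,
      fun b c _ => ⟨b, by rw [one_mul]⟩⟩
  have : IsRegularRing B := Groth.Agent.Lib.Helper6.FSReg.isRegularRing_of_formallySmooth k B
  have hCM : LocCoh.IsCohenMacaulayRing B :=
    Groth.Agent.Lib.Helper5.CodepthOpen.isCohenMacaulayRing_of_isRegularRing B
  have hd := idealDepth_self_eq_height_of_isCohenMacaulayRing hCM I hI1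
  have hht : (2 : ℕ∞) ≤ I.height := by
    rw [Ideal.height_eq_inf_minimalPrimes]
    exact le_iInf₂ fun p hp => hI p hp.1.1 hp.1.2
  have hItop : I • (⊤ : Submodule B B) ≠ ⊤ := by
    rw [smul_eq_mul, Ideal.mul_top]
    exact hI1
  have h2 : ((2 : ℕ) : ℕ∞) ≤ LocCoh.idealDepth I B := by
    rw [hd]
    exact_mod_cast hht
  obtain ⟨rs, hlen, hmem, hreg⟩ := (natCast_le_idealDepth_iff hItop 2).mp h2
  obtain ⟨x, y, rfl⟩ := List.length_eq_two.mp hlen
  have hw := hreg.toIsWeaklyRegular
  rw [isWeaklyRegular_cons_iff] at hw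
  obtain ⟨hx, hw2⟩ := hw
  rw [isWeaklyRegular_cons_iff] at hw2
  obtain ⟨hy, -⟩ := hw2
  refine ⟨x, y, hmem x (by simp), hmem y (by simp), fun b hb => ?_, fun b c hbc => ?_⟩
  · apply hx
    change x • b = x • (0 : B)
    rw [smul_eq_mul, smul_eq_mul, hb, mul_zero]
  · have h5 : y • (Submodule.Quotient.mk b : QuotSMulTop x B) = 0 := by
      rw [← Submodule.Quotient.mk_smul, Submodule.Quotient.mk_eq_zero, smul_eq_mul, hbc]
      exact (Submodule.mem_smul_pointwise_iff_exists _ _ _).2 ⟨c, Submodule.mem_top, rfl⟩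
    have h6 : (Submodule.Quotient.mk b : QuotSMulTop x B) = 0 :=
      hy (by
        change y • (Submodule.Quotient.mk b : QuotSMulTop x B) = y • (0 : QuotSMulTop x B)
        rw [h5, smul_zero])
    rw [Submodule.Quotient.mk_eq_zero] at h6
    obtain ⟨s, -, hs⟩ := (Submodule.mem_smul_pointwise_iff_exists _ _ _).1 h6
    exact ⟨s, hs.symm⟩

end RegPair

section Main

variable (C : Type u) [CommRing C] [IsNoetherianRing C] (m : Ideal C) [m.IsMaximal]
  (hnil : IsNilpotent m) (A : Type u) [CommRing A]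
  [Algebra C A] [Module.Flat C A] [Algebra.FiniteType C A]

include hnil in
/-- Every flat deformation of a codimension-two determinantal quotient is determinantal
(version over a ring with a nilpotent maximal ideal). -/
theorem exists_matrix_of_flat_deformation_aux
    [Algebra.Smooth (C ⧸ m) (A ⧸ m.map (algebraMap C A))]
    (I : Ideal A) [Module.Flat C (A ⧸ I)]
    (hcodim : ∀ p : Ideal (A ⧸ m.map (algebraMap C A)), p.IsPrime →
      I.map (Ideal.Quotient.mk (m.map (algebraMap C A))) ≤ p →
        (2 : ℕ∞) ≤ p.height)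
    (r : ℕ)
    (φ₀ : Matrix (Fin (r + 1)) (Fin r) (A ⧸ m.map (algebraMap C A)))
    (h1 : Ideal.span (Set.range (signedMinor φ₀)) =
      I.map (Ideal.Quotient.mk (m.map (algebraMap C A))))
    (h2 : Function.Injective φ₀.mulVecLin)
    (h3 : LinearMap.range φ₀.mulVecLin =
      LinearMap.ker (Fintype.linearCombination
        (A ⧸ m.map (algebraMap C A)) (signedMinor φ₀))) :
    ∃ φ : Matrix (Fin (r + 1)) (Fin r) A, Ideal.span (Set.range (signedMinor φ)) = I ∧
      Function.Injective φ.mulVecLin ∧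
      LinearMap.range φ.mulVecLin =
        LinearMap.ker (Fintype.linearCombination A (signedMinor φ)) := by
  classical
  let _ : Field (C ⧸ m) := Ideal.Quotient.field m
  haveI : IsNoetherianRing A := Algebra.FiniteType.isNoetherianRing C A
  haveI : IsNoetherianRing (A ⧸ m.map (algebraMap C A)) :=
    inferInstance
  -- a regular pair in `I₀`
  obtain ⟨x, y, hxI, hyI, hxreg, hyreg⟩ := exists_regular_pair (C ⧸ m)
    (A ⧸ m.map (algebraMap C A))
    (I.map (Ideal.Quotient.mk (m.map (algebraMap C A)))) hcodim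
  rw [← h1] at hxI hyI
  -- abbreviations
  obtain ⟨mk, hmk⟩ : ∃ mk : A →+* A ⧸ m.map (algebraMap C A),
      mk = Ideal.Quotient.mk (m.map (algebraMap C A)) := ⟨_, rfl⟩
  rw [← hmk] at h1
  have hmk0 : ∀ z : A, mk z = 0 ↔ z ∈ m.map (algebraMap C A) := by
    intro z
    rw [hmk]
    exact Ideal.Quotient.eq_zero_iff_mem
  have hmks : Function.Surjective mk := by
    rw [hmk]
    exact Ideal.Quotient.mk_surjective
  -- the key dual exactness over `A₀`
  have hdual : ∀ v : Fin (r + 1) → A ⧸ m.map (algebraMap C A),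
      (∀ j, ∑ i, φ₀ i j * v i = 0) → ∃ a, ∀ i, v i = a * signedMinor φ₀ i :=
    fun v hv => exists_eq_mul_of_relations φ₀ (signedMinor φ₀) h3 x y hxI hyI hxreg hyreg v hv
  -- an element killing all minors is zero
  have hkill : ∀ b : A ⧸ m.map (algebraMap C A), (∀ i, b * signedMinor φ₀ i = 0) → b = 0 := by
    intro b hb
    apply hxreg
    obtain ⟨vx, hvx⟩ := Ideal.mem_span_range_iff_exists_fun.mp hxI
    rw [← hvx, Finset.sum_mul]
    apply Finset.sum_eq_zero
    intro i _
    rw [mul_assoc, mul_comm (signedMinor φ₀ i) b, hb, mul_zero]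
  -- Step 2: lift the generators
  obtain ⟨a', ha', hIa'⟩ := exists_lift_span_range_eq_of_flat_quotient hnil I (signedMinor φ₀)
    (by rw [← hmk]; exact h1.symm)
  rw [← hmk] at ha'
  -- Step 3: lift the relations
  have hcol : ∀ j : Fin r, ∃ ψ : Fin (r + 1) → A, (∀ i, mk (ψ i) = φ₀ i j) ∧
      ∑ i, ψ i * a' i = 0 := by
    intro j
    choose c hc using fun i => hmks (φ₀ i j)
    obtain ⟨s, hs⟩ : ∃ s : A, s = ∑ i, c i * a' i := ⟨_, rfl⟩
    have hsI : s ∈ I := by
      rw [hs, hIa']
      exact Ideal.sum_mem _ fun i _ => Ideal.mul_mem_left _ _ (Ideal.subset_span ⟨i, rfl⟩)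
    have hsm : s ∈ m.map (algebraMap C A) := by
      rw [← hmk0, hs, map_sum]
      simp_rw [map_mul, hc, ha']
      exact sum_mul_signedMinor_eq_zero φ₀ j
    obtain ⟨ψq, hψq⟩ : ∃ ψq : A →ₗ[C] A ⧸ I, ∀ z, ψq z = Ideal.Quotient.mk I z :=
      ⟨(Ideal.Quotient.mkₐ C I).toLinearMap, fun z => rfl⟩
    have hψsurj : Function.Surjective ψq := by
      intro w
      obtain ⟨z, rfl⟩ := Ideal.Quotient.mk_surjective w
      exact ⟨z, hψq z⟩
    have hker : ∀ z, z ∈ LinearMap.ker ψq ↔ z ∈ I := by
      intro z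
      rw [LinearMap.mem_ker, hψq, Ideal.Quotient.eq_zero_iff_mem]
    have hs2 : s ∈ (m • LinearMap.ker ψq : Submodule C A) := by
      apply mem_smul_ker_of_mem_smul_top_of_flat ψq hψsurj m s
      · rw [← LinearMap.mem_ker, hker]
        exact hsI
      · rw [Ideal.smul_top_eq_map, Submodule.restrictScalars_mem]
        exact hsm
    have hdec : ∀ z ∈ (m • LinearMap.ker ψq : Submodule C A),
        ∃ d : Fin (r + 1) → A, (∀ i, d i ∈ m.map (algebraMap C A)) ∧ z = ∑ i, d i * a' i := by
      intro z hz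
      refine Submodule.smul_induction_on hz ?_ ?_
      · intro t ht w hw
        rw [hker, hIa'] at hw
        obtain ⟨e, he⟩ := Ideal.mem_span_range_iff_exists_fun.mp hw
        refine ⟨fun i => t • e i, fun i => ?_, ?_⟩
        · change t • e i ∈ _
          rw [Algebra.smul_def]
          exact Ideal.mul_mem_right _ _ (Ideal.mem_map_of_mem _ ht)
        · rw [← he, Finset.smul_sum]
          apply Finset.sum_congr rfl
          intro i _
          rw [smul_mul_assoc]
      · rintro z1 z2 ⟨d1, hd1, rfl⟩ ⟨d2, hd2, rfl⟩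
        refine ⟨d1 + d2, fun i => Ideal.add_mem _ (hd1 i) (hd2 i), ?_⟩
        rw [← Finset.sum_add_distrib]
        apply Finset.sum_congr rfl
        intro i _
        rw [Pi.add_apply, add_mul]
    obtain ⟨d, hd, hsd⟩ := hdec s hs2
    refine ⟨fun i => c i - d i, fun i => ?_, ?_⟩
    · rw [map_sub, hc, (hmk0 _).mpr (hd i), sub_zero]
    · simp_rw [sub_mul]
      rw [Finset.sum_sub_distrib, ← hs, ← hsd, sub_self]
  choose ψ hψ1 hψ2 using hcol
  -- Step 4: the matrix
  obtain ⟨φ, hφ⟩ : ∃ φ : Matrix (Fin (r + 1)) (Fin r) A, ∀ i j, φ i j = ψ j i :=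
    ⟨Matrix.of fun i j => ψ j i, fun i j => rfl⟩
  have hφmap : φ.map mk = φ₀ := by
    ext i j
    rw [Matrix.map_apply, hφ, hψ1]
  have hrel : ∀ j, ∑ i, φ i j * a' i = 0 := by
    intro j
    simp_rw [hφ]
    exact hψ2 j
  have hgmk : ∀ i, mk (signedMinor φ i) = signedMinor φ₀ i := by
    intro i
    rw [map_signedMinor, hφmap]
  -- Step 5: lifting of the Hilbert–Burch complex
  have hflat : Module.Flat (C ⧸ m) ((A ⧸ m.map (algebraMap C A)) ⧸
      Ideal.span (Set.range (signedMinor (φ.map (Ideal.Quotient.mk (m.map (algebraMap C A))))))) :=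
    inferInstance
  obtain ⟨hHB1, hHB2, -⟩ := hilbertBurch_lift m hnil φ
    (by rw [← hmk, hφmap]; exact h2) (by rw [← hmk, hφmap]; exact h3) hflat
  -- Step 6: the dual complex over `A`
  haveI : Module.Flat C (Fin (r + 1) → A) := flat_pi_fin (r + 1)
  haveI : Module.Flat C (Fin r → A) := flat_pi_fin r
  obtain ⟨f, hf⟩ : ∃ f : A →ₗ[C] (Fin (r + 1) → A), ∀ z i, f z i = z * signedMinor φ i :=
    ⟨(LinearMap.toSpanSingleton A (Fin (r + 1) → A) (signedMinor φ)).restrictScalars C,
      fun z i => rfl⟩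
  obtain ⟨g, hg⟩ : ∃ g : (Fin (r + 1) → A) →ₗ[C] (Fin r → A),
      ∀ q j, g q j = ∑ i, φ i j * q i :=
    ⟨(φ.transpose.mulVecLin).restrictScalars C, fun q j => rfl⟩
  have hgf : ∀ z, g (f z) = 0 := by
    intro z
    ext j
    rw [hg, Pi.zero_apply]
    simp_rw [hf]
    have : ∀ i, φ i j * (z * signedMinor φ i) = z * (φ i j * signedMinor φ i) := fun i => by ring
    simp_rw [this]
    rw [← Finset.mul_sum, sum_mul_signedMinor_eq_zero, mul_zero]
  have h0 : Function.Injective (f.lTensor (C ⧸ m)) := by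
    rw [lTensor_quotient_injective_iff]
    intro z hz
    rw [mem_smul_top_pi_iff] at hz
    rw [Ideal.smul_top_eq_map, Submodule.restrictScalars_mem, ← hmk0]
    apply hkill
    intro i
    rw [← hgmk, ← map_mul, hmk0, ← hf]
    exact hz i
  have hred : Function.Exact (f.lTensor (C ⧸ m)) (g.lTensor (C ⧸ m)) := by
    apply exact_lTensor_quotient_of_forall f g hgf
    intro q hq
    rw [mem_smul_top_pi_iff] at hq
    have hq' : ∀ j, ∑ i, φ₀ i j * mk (q i) = 0 := by
      intro j
      have := (hmk0 _).mpr (hq j)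
      rw [hg, map_sum] at this
      rw [← this]
      apply Finset.sum_congr rfl
      intro i _
      rw [map_mul, ← hφmap, Matrix.map_apply]
    obtain ⟨abar, habar⟩ := hdual (fun i => mk (q i)) hq'
    obtain ⟨pz, rfl⟩ := hmks abar
    refine ⟨pz, ?_⟩
    rw [mem_smul_top_pi_iff]
    intro i
    rw [← hmk0, Pi.sub_apply, map_sub, hf, map_mul, hgmk, ← habar i, sub_self]
  have hfl : Module.Flat (C ⧸ m) ((C ⧸ m) ⊗[C] ((Fin r → A) ⧸ LinearMap.range g)) :=
    inferInstance
  obtain ⟨-, hex, -⟩ := injective_and_exact_and_flat_of_lTensor_quotient_of_isNilpotent hnil f g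
    hgf h0 hred hfl
  have ha'ker : a' ∈ LinearMap.ker g := by
    rw [LinearMap.mem_ker]
    ext j
    rw [hg, Pi.zero_apply]
    exact hrel j
  rw [← hex] at ha'ker
  obtain ⟨u, hu⟩ := ha'ker
  have hu' : ∀ i, a' i = u * signedMinor φ i := fun i => by rw [← hf, hu]
  -- Step 7: `u` is a unit
  have hu1 : mk u = 1 := by
    have : mk u - 1 = 0 := by
      apply hkill
      intro i
      rw [sub_mul, one_mul, ← hgmk, ← map_mul, ← hu', ha', hgmk, sub_self]
    exact sub_eq_zero.mp this
  have hunit : IsUnit u := by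
    have hmem : u - 1 ∈ m.map (algebraMap C A) := by
      rw [← hmk0, map_sub, hu1, map_one, sub_self]
    have hnil' : IsNilpotent (u - 1) := by
      obtain ⟨k, hk⟩ := hnil
      refine ⟨k, ?_⟩
      have h4 : (u - 1) ^ k ∈ (m.map (algebraMap C A)) ^ k := Ideal.pow_mem_pow hmem k
      rw [← Ideal.map_pow, hk, Ideal.zero_eq_bot, Ideal.map_bot] at h4
      exact h4
    have := hnil'.isUnit_add_one
    rwa [sub_add_cancel] at this
  -- Step 8
  refine ⟨φ, ?_, hHB1, hHB2⟩
  rw [hIa']
  apply le_antisymm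
  · rw [Ideal.span_le]
    rintro _ ⟨i, rfl⟩
    obtain ⟨v, hv⟩ := hunit
    have : signedMinor φ i = (↑v⁻¹ : A) * a' i := by
      rw [hu', ← hv, ← mul_assoc, Units.inv_mul, one_mul]
    rw [this]
    exact Ideal.mul_mem_left _ _ (Ideal.subset_span ⟨i, rfl⟩)
  · rw [Ideal.span_le]
    rintro _ ⟨i, rfl⟩
    rw [hu']
    exact Ideal.mul_mem_left _ _ (Ideal.subset_span ⟨i, rfl⟩)


/-- Every flat deformation of a codimension-two determinantal quotient is determinantal. -/
theorem exists_matrix_of_flat_deformation (C : Type u) [CommRing C] [IsLocalRing C]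
    [IsArtinianRing C] (A : Type u) [CommRing A] [Algebra C A] [Module.Flat C A]
    [Algebra.FiniteType C A]
    [Algebra.Smooth (C ⧸ IsLocalRing.maximalIdeal C)
      (A ⧸ (IsLocalRing.maximalIdeal C).map (algebraMap C A))]
    (I : Ideal A) [Module.Flat C (A ⧸ I)]
    (hcodim : ∀ p : Ideal (A ⧸ (IsLocalRing.maximalIdeal C).map (algebraMap C A)), p.IsPrime →
      I.map (Ideal.Quotient.mk ((IsLocalRing.maximalIdeal C).map (algebraMap C A))) ≤ p →
        (2 : ℕ∞) ≤ p.height)
    (r : ℕ)
    (φ₀ : Matrix (Fin (r + 1)) (Fin r) (A ⧸ (IsLocalRing.maximalIdeal C).map (algebraMap C A)))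
    (h1 : Ideal.span (Set.range (signedMinor φ₀)) =
      I.map (Ideal.Quotient.mk ((IsLocalRing.maximalIdeal C).map (algebraMap C A))))
    (h2 : Function.Injective φ₀.mulVecLin)
    (h3 : LinearMap.range φ₀.mulVecLin =
      LinearMap.ker (Fintype.linearCombination
        (A ⧸ (IsLocalRing.maximalIdeal C).map (algebraMap C A)) (signedMinor φ₀))) :
    ∃ φ : Matrix (Fin (r + 1)) (Fin r) A, Ideal.span (Set.range (signedMinor φ)) = I ∧
      Function.Injective φ.mulVecLin ∧
      LinearMap.range φ.mulVecLin =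
        LinearMap.ker (Fintype.linearCombination A (signedMinor φ)) := by
  have hnil : IsNilpotent (IsLocalRing.maximalIdeal C) := by
    obtain ⟨k, hk⟩ := IsArtinianRing.isNilpotent_jacobson_bot (R := C)
    rw [IsLocalRing.jacobson_eq_maximalIdeal ⊥ bot_ne_top] at hk
    exact ⟨k, hk⟩
  exact exists_matrix_of_flat_deformation_aux C (IsLocalRing.maximalIdeal C) hnil A I hcodim r φ₀
    h1 h2 h3

end Main

end Groth.Agent.R2.H51.HBConv
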