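import Mathlib
import Groth.Agent.R2.H51HBConv
import Groth.Agent.Lib.Helper28Kollar

/-!
# Relative converse lifting for Hilbert–Burch presentations (helper51)

Let `J ⊆ C'` be a nilpotent ideal, `A'` flat over `C'`, `A = A'/JA'`, and `φ` an `(r+1) × r`
matrix over `A` whose signed maximal minors generate the image of an ideal `I' ⊆ A'` with `A'/I'`
flat over `C'`.  If the dual complex `A → A^{r+1} → A^r` (minors, then `φᵀ`) is left exact with
cokernel flat over `C'/J`, then `I'` is generated by the signed maximal minors of a matrix `φ'`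
lifting `φ`.  The hypotheses on the dual complex are verified in the codimension two situation
over a local Artin ring.
-/

set_option autoImplicit false
universe u v
open scoped TensorProduct

namespace Groth.Agent.R2.H51.HBRel

open Groth.Agent.Lib.Helper5 Groth.Agent.R2.H51.HBConv

section Coeffs

/-- If `A/I` is flat over `C` and `I = (a_1, …, a_n)`, then every element of `I ∩ J A` is a
combination of the `a_i` with coefficients in `J A`. -/
theorem exists_coeffs_mem_map_of_flat_quotient {C : Type u} [CommRing C] (J : Ideal C)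
    {A : Type v} [CommRing A] [Algebra C A] (I : Ideal A) [Module.Flat C (A ⧸ I)] {n : ℕ}
    (a : Fin n → A) (hI : I = Ideal.span (Set.range a)) (s : A) (hsI : s ∈ I)
    (hsJ : s ∈ J.map (algebraMap C A)) :
    ∃ d : Fin n → A, (∀ i, d i ∈ J.map (algebraMap C A)) ∧ s = ∑ i, d i * a i := by
  obtain ⟨ψq, hψq⟩ : ∃ ψq : A →ₗ[C] A ⧸ I, ∀ z, ψq z = Ideal.Quotient.mk I z :=
    ⟨(Ideal.Quotient.mkₐ C I).toLinearMap, fun z => rfl⟩
  have hψsurj : Function.Surjective ψq := by
    intro w
    obtain ⟨z, rfl⟩ := Ideal.Quotient.mk_surjective w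
    exact ⟨z, hψq z⟩
  have hker : ∀ z, z ∈ LinearMap.ker ψq ↔ z ∈ I := by
    intro z
    rw [LinearMap.mem_ker, hψq, Ideal.Quotient.eq_zero_iff_mem]
  have hs2 : s ∈ (J • LinearMap.ker ψq : Submodule C A) := by
    apply mem_smul_ker_of_mem_smul_top_of_flat ψq hψsurj J s
    · rw [← LinearMap.mem_ker, hker]
      exact hsI
    · rw [Ideal.smul_top_eq_map, Submodule.restrictScalars_mem]
      exact hsJ
  have hdec : ∀ z ∈ (J • LinearMap.ker ψq : Submodule C A),
      ∃ d : Fin n → A, (∀ i, d i ∈ J.map (algebraMap C A)) ∧ z = ∑ i, d i * a i := by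
    intro z hz
    refine Submodule.smul_induction_on hz ?_ ?_
    · intro t ht w hw
      rw [hker, hI] at hw
      obtain ⟨e, he⟩ := Ideal.mem_span_range_iff_exists_fun.mp hw
      refine ⟨fun i => t • e i, fun i => ?_, ?_⟩
      · change t • e i ∈ _
        rw [Algebra.smul_def]
        exact Ideal.mul_mem_right _ _ (Ideal.mem_map_of_mem _ ht)
      · rw [← he, Finset.smul_sum]
        apply Finset.sum_congr rfl
        intro i _
        rw [smul_mul_assoc]
    · rintro z1 z2 ⟨d1, hd1, rfl⟩ ⟨d2, hd2, rfl⟩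
      refine ⟨d1 + d2, fun i => Ideal.add_mem _ (hd1 i) (hd2 i), ?_⟩
      rw [← Finset.sum_add_distrib]
      apply Finset.sum_congr rfl
      intro i _
      rw [Pi.add_apply, add_mul]
  exact hdec s hs2

end Coeffs

section Aux

variable {C : Type u} [CommRing C] (J : Ideal C) (hnil : IsNilpotent J) (A : Type u) [CommRing A]
  [Algebra C A] [Module.Flat C A]

include hnil in
/-- Lifting a determinantal presentation along a nilpotent ideal of the base, given left exactness
of the dual complex modulo `J` and flatness of its cokernel. -/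
theorem exists_matrix_lift_aux (I : Ideal A) [Module.Flat C (A ⧸ I)] (r : ℕ)
    (φ₀ : Matrix (Fin (r + 1)) (Fin r) (A ⧸ J.map (algebraMap C A)))
    (h1 : I.map (Ideal.Quotient.mk (J.map (algebraMap C A))) =
      Ideal.span (Set.range (signedMinor φ₀)))
    (hkill : ∀ b : A ⧸ J.map (algebraMap C A), (∀ i, b * signedMinor φ₀ i = 0) → b = 0)
    (hdual : ∀ v : Fin (r + 1) → A ⧸ J.map (algebraMap C A),
      (∀ j, ∑ i, φ₀ i j * v i = 0) → ∃ a, ∀ i, v i = a * signedMinor φ₀ i)
    (hflat : Module.Flat (C ⧸ J) ((Fin r → A ⧸ J.map (algebraMap C A)) ⧸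
      LinearMap.range ((φ₀.transpose.mulVecLin).restrictScalars (C ⧸ J)))) :
    ∃ φ : Matrix (Fin (r + 1)) (Fin r) A,
      φ.map (Ideal.Quotient.mk (J.map (algebraMap C A))) = φ₀ ∧
      I = Ideal.span (Set.range (signedMinor φ)) := by
  classical
  obtain ⟨mk, hmk⟩ : ∃ mk : A →+* A ⧸ J.map (algebraMap C A),
      mk = Ideal.Quotient.mk (J.map (algebraMap C A)) := ⟨_, rfl⟩
  rw [← hmk] at h1
  have hmk0 : ∀ z : A, mk z = 0 ↔ z ∈ J.map (algebraMap C A) := by
    intro z
    rw [hmk]
    exact Ideal.Quotient.eq_zero_iff_mem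
  have hmks : Function.Surjective mk := by
    rw [hmk]
    exact Ideal.Quotient.mk_surjective
  -- Step 2: lift the generators
  obtain ⟨a', ha', hIa'⟩ := exists_lift_span_range_eq_of_flat_quotient hnil I (signedMinor φ₀)
    (by rw [← hmk]; exact h1)
  rw [← hmk] at ha'
  -- Step 3: lift the relations
  have hcol : ∀ j : Fin r, ∃ ψ : Fin (r + 1) → A, (∀ i, mk (ψ i) = φ₀ i j) ∧
      ∑ i, ψ i * a' i = 0 := by
    intro j
    choose c hc using fun i => hmks (φ₀ i j)
    obtain ⟨s, hs⟩ : ∃ s : A, s = ∑ i, c i * a' i := ⟨_, rfl⟩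
    have hsI : s ∈ I := by
      rw [hs, hIa']
      exact Ideal.sum_mem _ fun i _ => Ideal.mul_mem_left _ _ (Ideal.subset_span ⟨i, rfl⟩)
    have hsm : s ∈ J.map (algebraMap C A) := by
      rw [← hmk0, hs, map_sum]
      simp_rw [map_mul, hc, ha']
      exact sum_mul_signedMinor_eq_zero φ₀ j
    obtain ⟨d, hd, hsd⟩ := exists_coeffs_mem_map_of_flat_quotient J I a' hIa' s hsI hsm
    refine ⟨fun i => c i - d i, fun i => ?_, ?_⟩
    · rw [map_sub, hc, (hmk0 _).mpr (hd i), sub_zero]
    · simp_rw [sub_mul]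
      rw [Finset.sum_sub_distrib, ← hs, ← hsd, sub_self]
  choose ψ hψ1 hψ2 using hcol
  -- Step 4: the matrix
  obtain ⟨φ, hφ⟩ : ∃ φ : Matrix (Fin (r + 1)) (Fin r) A, ∀ i j, φ i j = ψ j i :=
    ⟨Matrix.of fun i j => ψ j i, fun i j => rfl⟩
  have hφmap : φ.map mk = φ₀ := by
    ext i j
    rw [Matrix.map_apply, hφ, hψ1]
  have hrel : ∀ j, ∑ i, φ i j * a' i = 0 := by
    intro j
    simp_rw [hφ]
    exact hψ2 j
  have hgmk : ∀ i, mk (signedMinor φ i) = signedMinor φ₀ i := by
    intro i
    rw [map_signedMinor, hφmap]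
  -- Step 6: the dual complex over `A`
  haveI : Module.Flat C (Fin (r + 1) → A) := flat_pi_fin (r + 1)
  haveI : Module.Flat C (Fin r → A) := flat_pi_fin r
  obtain ⟨f, hf⟩ : ∃ f : A →ₗ[C] (Fin (r + 1) → A), ∀ z i, f z i = z * signedMinor φ i :=
    ⟨(LinearMap.toSpanSingleton A (Fin (r + 1) → A) (signedMinor φ)).restrictScalars C,
      fun z i => rfl⟩
  obtain ⟨g, hg⟩ : ∃ g : (Fin (r + 1) → A) →ₗ[C] (Fin r → A),
      ∀ q j, g q j = ∑ i, φ i j * q i :=
    ⟨(φ.transpose.mulVecLin).restrictScalars C, fun q j => rfl⟩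
  have hgf : ∀ z, g (f z) = 0 := by
    intro z
    ext j
    rw [hg, Pi.zero_apply]
    simp_rw [hf]
    have : ∀ i, φ i j * (z * signedMinor φ i) = z * (φ i j * signedMinor φ i) := fun i => by ring
    simp_rw [this]
    rw [← Finset.mul_sum, sum_mul_signedMinor_eq_zero, mul_zero]
  have h0 : Function.Injective (f.lTensor (C ⧸ J)) := by
    rw [lTensor_quotient_injective_iff]
    intro z hz
    rw [mem_smul_top_pi_iff] at hz
    rw [Ideal.smul_top_eq_map, Submodule.restrictScalars_mem, ← hmk0]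
    apply hkill
    intro i
    rw [← hgmk, ← map_mul, hmk0, ← hf]
    exact hz i
  have hredq : ∀ (q : Fin (r + 1) → A) (j : Fin r),
      mk (g q j) = ∑ i, φ₀ i j * mk (q i) := by
    intro q j
    rw [hg, map_sum]
    apply Finset.sum_congr rfl
    intro i _
    rw [map_mul, ← hφmap, Matrix.map_apply]
  have hred : Function.Exact (f.lTensor (C ⧸ J)) (g.lTensor (C ⧸ J)) := by
    apply exact_lTensor_quotient_of_forall f g hgf
    intro q hq
    rw [mem_smul_top_pi_iff] at hq
    have hq' : ∀ j, ∑ i, φ₀ i j * mk (q i) = 0 := by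
      intro j
      rw [← hredq]
      exact (hmk0 _).mpr (hq j)
    obtain ⟨abar, habar⟩ := hdual (fun i => mk (q i)) hq'
    obtain ⟨pz, rfl⟩ := hmks abar
    refine ⟨pz, ?_⟩
    rw [mem_smul_top_pi_iff]
    intro i
    rw [← hmk0, Pi.sub_apply, map_sub, hf, map_mul, hgmk, ← habar i, sub_self]
  have hfl : Module.Flat (C ⧸ J) ((C ⧸ J) ⊗[C] ((Fin r → A) ⧸ LinearMap.range g)) := by
    obtain ⟨ρ, hρ⟩ : ∃ ρ : (Fin r → A) →ₗ[C] ((Fin r → A ⧸ J.map (algebraMap C A)) ⧸
        LinearMap.range ((φ₀.transpose.mulVecLin).restrictScalars (C ⧸ J))),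
        ∀ q, ρ q = Submodule.Quotient.mk (fun j => mk (q j)) := by
      refine ⟨((LinearMap.range ((φ₀.transpose.mulVecLin).restrictScalars
        (C ⧸ J))).mkQ.restrictScalars C).comp
        ((Ideal.Quotient.mkₐ C (J.map (algebraMap C A))).toLinearMap.compLeft (Fin r)),
        fun q => ?_⟩
      rw [hmk]
      rfl
    have hmem : ∀ w : Fin r → A ⧸ J.map (algebraMap C A),
        w ∈ LinearMap.range ((φ₀.transpose.mulVecLin).restrictScalars (C ⧸ J)) ↔
          ∃ p : Fin (r + 1) → A ⧸ J.map (algebraMap C A), ∀ j, ∑ i, φ₀ i j * p i = w j := by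
      intro w
      rw [LinearMap.mem_range]
      constructor
      · rintro ⟨p, rfl⟩
        exact ⟨p, fun j => rfl⟩
      · rintro ⟨p, hp⟩
        exact ⟨p, funext hp⟩
    refine flat_quotient_tensor_of_surjective_of_ker_eq g ρ ?_ ?_ hflat
    · intro y
      obtain ⟨w, rfl⟩ := Submodule.Quotient.mk_surjective _ y
      choose q hq using fun j => hmks (w j)
      refine ⟨q, ?_⟩
      rw [hρ]
      congr 1
      exact funext hq
    · ext q
      rw [LinearMap.mem_ker, hρ, Submodule.Quotient.mk_eq_zero, hmem, Submodule.mem_sup]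
      constructor
      · rintro ⟨p, hp⟩
        choose p' hp' using fun i => hmks (p i)
        refine ⟨g p', ⟨p', rfl⟩, q - g p', ?_, by abel⟩
        rw [mem_smul_top_pi_iff]
        intro j
        rw [← hmk0, Pi.sub_apply, map_sub, hredq, ← hp j, sub_eq_zero]
        apply Finset.sum_congr rfl
        intro i _
        rw [hp']
      · rintro ⟨y, ⟨p', rfl⟩, z, hz, rfl⟩
        rw [mem_smul_top_pi_iff] at hz
        refine ⟨fun i => mk (p' i), fun j => ?_⟩
        rw [Pi.add_apply, map_add, (hmk0 _).mpr (hz j), add_zero, hredq]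
  obtain ⟨-, hex, -⟩ := injective_and_exact_and_flat_of_lTensor_quotient_of_isNilpotent hnil f g
    hgf h0 hred hfl
  have ha'ker : a' ∈ LinearMap.ker g := by
    rw [LinearMap.mem_ker]
    ext j
    rw [hg, Pi.zero_apply]
    exact hrel j
  rw [← hex] at ha'ker
  obtain ⟨u, hu⟩ := ha'ker
  have hu' : ∀ i, a' i = u * signedMinor φ i := fun i => by rw [← hf, hu]
  -- Step 7: `u` is a unit
  have hu1 : mk u = 1 := by
    have : mk u - 1 = 0 := by
      apply hkill
      intro i
      rw [sub_mul, one_mul, ← hgmk, ← map_mul, ← hu', ha', hgmk, sub_self]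
    exact sub_eq_zero.mp this
  have hunit : IsUnit u := by
    have hmem : u - 1 ∈ J.map (algebraMap C A) := by
      rw [← hmk0, map_sub, hu1, map_one, sub_self]
    have hnil' : IsNilpotent (u - 1) := by
      obtain ⟨k, hk⟩ := hnil
      refine ⟨k, ?_⟩
      have h4 : (u - 1) ^ k ∈ (J.map (algebraMap C A)) ^ k := Ideal.pow_mem_pow hmem k
      rw [← Ideal.map_pow, hk, Ideal.zero_eq_bot, Ideal.map_bot] at h4
      exact h4
    have := hnil'.isUnit_add_one
    rwa [sub_add_cancel] at this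
  -- Step 8
  refine ⟨φ, by rw [← hmk]; exact hφmap, ?_⟩
  rw [hIa']
  apply le_antisymm
  · rw [Ideal.span_le]
    rintro _ ⟨i, rfl⟩
    rw [hu']
    exact Ideal.mul_mem_left _ _ (Ideal.subset_span ⟨i, rfl⟩)
  · rw [Ideal.span_le]
    rintro _ ⟨i, rfl⟩
    obtain ⟨v, hv⟩ := hunit
    have : signedMinor φ i = (↑v⁻¹ : A) * a' i := by
      rw [hu', ← hv, ← mul_assoc, Units.inv_mul, one_mul]
    rw [this]
    exact Ideal.mul_mem_left _ _ (Ideal.subset_span ⟨i, rfl⟩)

end Aux

section Fibre

variable {C : Type u} [CommRing C] (m : Ideal C) {A : Type u} [CommRing A] [Algebra C A]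
  {B : Type u} [CommRing B] (π : A →+* B) (hπ : Function.Surjective π)
  (hker : RingHom.ker π = m.map (algebraMap C A)) {r : ℕ} (φ : Matrix (Fin (r + 1)) (Fin r) A)

include hπ hker in
/-- Middle exactness of a Hilbert–Burch complex passes to the fibre when the quotient by the
minors is flat over the base. -/
theorem range_eq_ker_map_of_flat
    (hex : LinearMap.range φ.mulVecLin =
      LinearMap.ker (Fintype.linearCombination A (signedMinor φ)))
    [Module.Flat C (A ⧸ Ideal.span (Set.range (signedMinor φ)))] :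
    LinearMap.range (φ.map π).mulVecLin =
      LinearMap.ker (Fintype.linearCombination B (signedMinor (φ.map π))) := by
  classical
  have hπ0 : ∀ z : A, π z = 0 ↔ z ∈ m.map (algebraMap C A) := by
    intro z
    rw [← hker, RingHom.mem_ker]
  have hgπ : ∀ i, π (signedMinor φ i) = signedMinor (φ.map π) i := fun i =>
    map_signedMinor π φ i
  ext q₀
  rw [LinearMap.mem_range, LinearMap.mem_ker, Fintype.linearCombination_apply]
  constructor
  · rintro ⟨p, rfl⟩
    simp only [Matrix.mulVecLin_apply, Matrix.mulVec, dotProduct, smul_eq_mul]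
    have : ∀ i, (∑ j, (φ.map π) i j * p j) * signedMinor (φ.map π) i =
        ∑ j, p j * ((φ.map π) i j * signedMinor (φ.map π) i) := by
      intro i
      rw [Finset.sum_mul]
      apply Finset.sum_congr rfl
      intro j _
      ring
    simp only [this]
    rw [Finset.sum_comm]
    apply Finset.sum_eq_zero
    intro j _
    rw [← Finset.mul_sum, sum_mul_signedMinor_eq_zero, mul_zero]
  · intro hq₀
    choose q hq using fun i => hπ (q₀ i)
    obtain ⟨s, hs⟩ : ∃ s : A, s = ∑ i, q i * signedMinor φ i := ⟨_, rfl⟩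
    have hsI : s ∈ Ideal.span (Set.range (signedMinor φ)) := by
      rw [hs]
      exact Ideal.sum_mem _ fun i _ => Ideal.mul_mem_left _ _ (Ideal.subset_span ⟨i, rfl⟩)
    have hsm : s ∈ m.map (algebraMap C A) := by
      rw [← hπ0, hs, map_sum, ← hq₀]
      apply Finset.sum_congr rfl
      intro i _
      rw [map_mul, hq, hgπ, smul_eq_mul]
    obtain ⟨d, hd, hsd⟩ := exists_coeffs_mem_map_of_flat_quotient m
      (Ideal.span (Set.range (signedMinor φ))) (signedMinor φ) rfl s hsI hsm
    have hmem : (fun i => q i - d i) ∈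
        LinearMap.ker (Fintype.linearCombination A (signedMinor φ)) := by
      rw [LinearMap.mem_ker, Fintype.linearCombination_apply]
      simp only [smul_eq_mul, sub_mul]
      rw [Finset.sum_sub_distrib, ← hs, ← hsd, sub_self]
    rw [← hex] at hmem
    obtain ⟨p, hp⟩ := hmem
    refine ⟨fun j => π (p j), ?_⟩
    ext i
    have h2 := congrFun hp i
    simp only [Matrix.mulVecLin_apply, Matrix.mulVec, dotProduct] at h2 ⊢
    have h3 := congrArg π h2
    rw [map_sub, hq, (hπ0 _).mpr (hd i), sub_zero, map_sum] at h3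
    rw [← h3]
    apply Finset.sum_congr rfl
    intro j _
    rw [map_mul, Matrix.map_apply]

variable [m.IsMaximal] (hnil : IsNilpotent m) [Module.Flat C A]

include hπ hker hnil in
/-- Left exactness of the dual Hilbert–Burch complex and flatness of its cokernel lift from the
fibre over a nilpotent maximal ideal. -/
theorem dual_exact_of_fibre
    (hkill₀ : ∀ b : B, (∀ i, b * signedMinor (φ.map π) i = 0) → b = 0)
    (hdual₀ : ∀ v : Fin (r + 1) → B, (∀ j, ∑ i, (φ.map π) i j * v i = 0) →
      ∃ a, ∀ i, v i = a * signedMinor (φ.map π) i) :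
    (∀ b : A, (∀ i, b * signedMinor φ i = 0) → b = 0) ∧
    (∀ v : Fin (r + 1) → A, (∀ j, ∑ i, φ i j * v i = 0) →
      ∃ a, ∀ i, v i = a * signedMinor φ i) ∧
    Module.Flat C ((Fin r → A) ⧸
      LinearMap.range ((φ.transpose.mulVecLin).restrictScalars C)) := by
  classical
  let _ : Field (C ⧸ m) := Ideal.Quotient.field m
  have hπ0 : ∀ z : A, π z = 0 ↔ z ∈ m.map (algebraMap C A) := by
    intro z
    rw [← hker, RingHom.mem_ker]
  have hgπ : ∀ i, π (signedMinor φ i) = signedMinor (φ.map π) i := fun i =>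
    map_signedMinor π φ i
  haveI : Module.Flat C (Fin (r + 1) → A) := flat_pi_fin (r + 1)
  haveI : Module.Flat C (Fin r → A) := flat_pi_fin r
  obtain ⟨f, hf⟩ : ∃ f : A →ₗ[C] (Fin (r + 1) → A), ∀ z i, f z i = z * signedMinor φ i :=
    ⟨(LinearMap.toSpanSingleton A (Fin (r + 1) → A) (signedMinor φ)).restrictScalars C,
      fun z i => rfl⟩
  obtain ⟨g, hg, hgdef⟩ : ∃ g : (Fin (r + 1) → A) →ₗ[C] (Fin r → A),
      (∀ q j, g q j = ∑ i, φ i j * q i) ∧ g = (φ.transpose.mulVecLin).restrictScalars C :=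
    ⟨(φ.transpose.mulVecLin).restrictScalars C, fun q j => rfl, rfl⟩
  have hgf : ∀ z, g (f z) = 0 := by
    intro z
    ext j
    rw [hg, Pi.zero_apply]
    simp_rw [hf]
    have : ∀ i, φ i j * (z * signedMinor φ i) = z * (φ i j * signedMinor φ i) := fun i => by ring
    simp_rw [this]
    rw [← Finset.mul_sum, sum_mul_signedMinor_eq_zero, mul_zero]
  have h0 : Function.Injective (f.lTensor (C ⧸ m)) := by
    rw [lTensor_quotient_injective_iff]
    intro z hz
    rw [mem_smul_top_pi_iff] at hz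
    rw [Ideal.smul_top_eq_map, Submodule.restrictScalars_mem, ← hπ0]
    apply hkill₀
    intro i
    rw [← hgπ, ← map_mul, hπ0, ← hf]
    exact hz i
  have hred : Function.Exact (f.lTensor (C ⧸ m)) (g.lTensor (C ⧸ m)) := by
    apply exact_lTensor_quotient_of_forall f g hgf
    intro q hq
    rw [mem_smul_top_pi_iff] at hq
    have hq' : ∀ j, ∑ i, (φ.map π) i j * π (q i) = 0 := by
      intro j
      have := (hπ0 _).mpr (hq j)
      rw [hg, map_sum] at this
      rw [← this]
      apply Finset.sum_congr rfl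
      intro i _
      rw [map_mul, Matrix.map_apply]
    obtain ⟨abar, habar⟩ := hdual₀ (fun i => π (q i)) hq'
    obtain ⟨pz, rfl⟩ := hπ abar
    refine ⟨pz, ?_⟩
    rw [mem_smul_top_pi_iff]
    intro i
    rw [← hπ0, Pi.sub_apply, map_sub, hf, map_mul, hgπ, ← habar i, sub_self]
  have hfl : Module.Flat (C ⧸ m) ((C ⧸ m) ⊗[C] ((Fin r → A) ⧸ LinearMap.range g)) :=
    inferInstance
  obtain ⟨hinj, hex, hflat⟩ :=
    injective_and_exact_and_flat_of_lTensor_quotient_of_isNilpotent hnil f g hgf h0 hred hfl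
  refine ⟨fun b hb => ?_, fun v hv => ?_, ?_⟩
  · apply hinj
    rw [map_zero]
    ext i
    rw [hf, Pi.zero_apply]
    exact hb i
  · have hvker : v ∈ LinearMap.ker g := by
      rw [LinearMap.mem_ker]
      ext j
      rw [hg, Pi.zero_apply]
      exact hv j
    rw [← hex] at hvker
    obtain ⟨a, ha⟩ := hvker
    exact ⟨a, fun i => by rw [← ha, hf]⟩
  · rw [← hgdef]
    exact hflat

end Fibre

section Main

open Groth.Agent.Lib.Helper28

/-- Codimension two determinantal ideals deform to determinantal ideals, relative version: any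
flat lift of the ideal of minors is the ideal of minors of a lift of the matrix. -/
theorem exists_matrix_lift (C' : Type u) [CommRing C'] [IsLocalRing C'] [IsArtinianRing C']
    (J : Ideal C') (hJne : J ≠ ⊤) (A' : Type u) [CommRing A'] [Algebra C' A']
    [Module.Flat C' A'] [Algebra.FiniteType C' A']
    [Algebra.Smooth (C' ⧸ IsLocalRing.maximalIdeal C')
      (A' ⧸ (IsLocalRing.maximalIdeal C').map (algebraMap C' A'))]
    (r : ℕ) (φ : Matrix (Fin (r + 1)) (Fin r) (A' ⧸ J.map (algebraMap C' A')))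
    (hφ : LinearMap.range φ.mulVecLin =
      LinearMap.ker (Fintype.linearCombination (A' ⧸ J.map (algebraMap C' A')) (signedMinor φ)))
    [Module.Flat (C' ⧸ J) ((A' ⧸ J.map (algebraMap C' A')) ⧸
      Ideal.span (Set.range (signedMinor φ)))]
    (hcodim : ∀ p : Ideal (A' ⧸ J.map (algebraMap C' A')), p.IsPrime →
      Ideal.span (Set.range (signedMinor φ)) ≤ p → (2 : ℕ∞) ≤ p.height)
    (I' : Ideal A') [Module.Flat C' (A' ⧸ I')]
    (hI' : I'.map (Ideal.Quotient.mk (J.map (algebraMap C' A'))) =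
      Ideal.span (Set.range (signedMinor φ))) :
    ∃ φ' : Matrix (Fin (r + 1)) (Fin r) A',
      φ'.map (Ideal.Quotient.mk (J.map (algebraMap C' A'))) = φ ∧
      I' = Ideal.span (Set.range (signedMinor φ')) := by
  classical
  -- nilpotency
  have hnilm : IsNilpotent (IsLocalRing.maximalIdeal C') := by
    obtain ⟨k, hk⟩ := IsArtinianRing.isNilpotent_jacobson_bot (R := C')
    rw [IsLocalRing.jacobson_eq_maximalIdeal ⊥ bot_ne_top] at hk
    exact ⟨k, hk⟩
  have hJle : J ≤ IsLocalRing.maximalIdeal C' := IsLocalRing.le_maximalIdeal hJne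
  have hnilJ : IsNilpotent J := by
    obtain ⟨k, hk⟩ := hnilm
    refine ⟨k, ?_⟩
    have h1 := Ideal.pow_right_mono hJle k
    rw [hk, Ideal.zero_eq_bot] at h1
    exact le_bot_iff.mp h1
  -- the maximal ideal of `C'/J`
  obtain ⟨mbar, hmbar⟩ : ∃ mbar : Ideal (C' ⧸ J),
      mbar = (IsLocalRing.maximalIdeal C').map (Ideal.Quotient.mk J) := ⟨_, rfl⟩
  haveI hmbarmax : mbar.IsMaximal := by
    rw [hmbar]
    rcases Ideal.map_eq_top_or_isMaximal_of_surjective (Ideal.Quotient.mk J)
      Ideal.Quotient.mk_surjective (IsLocalRing.maximalIdeal.isMaximal C') with h | h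
    · exfalso
      have h1 : (1 : C' ⧸ J) ∈ (IsLocalRing.maximalIdeal C').map (Ideal.Quotient.mk J) := by
        rw [h]
        trivial
      rw [← map_one (Ideal.Quotient.mk J), Ideal.mem_quotient_iff_mem hJle] at h1
      exact (Ideal.ne_top_iff_one _).mp (IsLocalRing.maximalIdeal.isMaximal C').ne_top h1
    · exact h
  have hnilmbar : IsNilpotent mbar := by
    obtain ⟨k, hk⟩ := hnilm
    refine ⟨k, ?_⟩
    rw [hmbar, ← Ideal.map_pow, hk, Ideal.zero_eq_bot, Ideal.map_bot]
    exact Ideal.zero_eq_bot.symm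
  -- the fibre
  let _ : Field (C' ⧸ IsLocalRing.maximalIdeal C') := Ideal.Quotient.field _
  have hle : J.map (algebraMap C' A') ≤ (IsLocalRing.maximalIdeal C').map (algebraMap C' A') :=
    Ideal.map_mono hJle
  obtain ⟨π₀, hπ₀⟩ : ∃ π₀ : A' ⧸ J.map (algebraMap C' A') →+*
      A' ⧸ (IsLocalRing.maximalIdeal C').map (algebraMap C' A'),
      ∀ z, π₀ (Ideal.Quotient.mk _ z) = Ideal.Quotient.mk _ z :=
    ⟨Ideal.Quotient.factor hle, fun z => Ideal.Quotient.factor_mk _ _⟩
  have hπ₀s : Function.Surjective π₀ := by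
    intro w
    obtain ⟨z, rfl⟩ := Ideal.Quotient.mk_surjective w
    exact ⟨Ideal.Quotient.mk _ z, hπ₀ z⟩
  have hmapmap : mbar.map (algebraMap (C' ⧸ J) (A' ⧸ J.map (algebraMap C' A'))) =
      ((IsLocalRing.maximalIdeal C').map (algebraMap C' A')).map
        (Ideal.Quotient.mk (J.map (algebraMap C' A'))) := by
    rw [hmbar, Ideal.map_map, Ideal.map_map]
    rfl
  have hker : RingHom.ker π₀ =
      mbar.map (algebraMap (C' ⧸ J) (A' ⧸ J.map (algebraMap C' A'))) := by
    rw [hmapmap]
    ext z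
    obtain ⟨z', rfl⟩ := Ideal.Quotient.mk_surjective z
    rw [RingHom.mem_ker, hπ₀, Ideal.Quotient.eq_zero_iff_mem, Ideal.mem_quotient_iff_mem hle]
  have hkernil : RingHom.ker π₀ ≤ nilradical (A' ⧸ J.map (algebraMap C' A')) := by
    intro z hz
    rw [hker] at hz
    obtain ⟨k, hk⟩ := hnilmbar
    refine ⟨k, ?_⟩
    have h4 : z ^ k ∈ (mbar.map (algebraMap (C' ⧸ J) (A' ⧸ J.map (algebraMap C' A')))) ^ k :=
      Ideal.pow_mem_pow hz k
    rw [← Ideal.map_pow, hk, Ideal.zero_eq_bot, Ideal.map_bot] at h4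
    exact h4
  haveI : Module.Flat (C' ⧸ J) (A' ⧸ J.map (algebraMap C' A')) :=
    Module.Flat.of_linearEquiv
      (Algebra.TensorProduct.quotIdealMapEquivQuotTensor A' J).toLinearEquiv
  haveI : IsNoetherianRing A' := Algebra.FiniteType.isNoetherianRing C' A'
  haveI : Algebra.FormallySmooth (C' ⧸ IsLocalRing.maximalIdeal C')
      (A' ⧸ (IsLocalRing.maximalIdeal C').map (algebraMap C' A')) :=
    Algebra.Smooth.formallySmooth
  -- exactness on the fibre
  have h3₀ := range_eq_ker_map_of_flat mbar π₀ hπ₀s hker φ hφ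
  -- heights on the fibre
  have hht : ∀ P : Ideal (A' ⧸ (IsLocalRing.maximalIdeal C').map (algebraMap C' A')),
      P.IsPrime → Ideal.span (Set.range (signedMinor (φ.map π₀))) ≤ P →
        (2 : ℕ∞) ≤ P.height := by
    intro P hP hPle
    have h1 : Ideal.span (Set.range (signedMinor φ)) ≤ P.comap π₀ := by
      rw [Ideal.span_le]
      rintro _ ⟨i, rfl⟩
      rw [SetLike.mem_coe, Ideal.mem_comap, map_signedMinor]
      exact hPle (Ideal.subset_span ⟨i, rfl⟩)
    have h2 := hcodim (P.comap π₀) (Ideal.comap_isPrime π₀ P) h1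
    exact h2.trans (height_comap_le_of_ker_le_nilradical hπ₀s hkernil P)
  obtain ⟨x, y, hxI, hyI, hxreg, hyreg⟩ := exists_regular_pair
    (C' ⧸ IsLocalRing.maximalIdeal C')
    (A' ⧸ (IsLocalRing.maximalIdeal C').map (algebraMap C' A'))
    (Ideal.span (Set.range (signedMinor (φ.map π₀)))) hht
  have hdual₀ : ∀ v : Fin (r + 1) → A' ⧸ (IsLocalRing.maximalIdeal C').map (algebraMap C' A'),
      (∀ j, ∑ i, (φ.map π₀) i j * v i = 0) → ∃ a, ∀ i, v i = a * signedMinor (φ.map π₀) i :=
    fun v hv => exists_eq_mul_of_relations (φ.map π₀) (signedMinor (φ.map π₀)) h3₀ x y hxI hyI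
      hxreg hyreg v hv
  have hkill₀ : ∀ b : A' ⧸ (IsLocalRing.maximalIdeal C').map (algebraMap C' A'),
      (∀ i, b * signedMinor (φ.map π₀) i = 0) → b = 0 := by
    intro b hb
    apply hxreg
    obtain ⟨vx, hvx⟩ := Ideal.mem_span_range_iff_exists_fun.mp hxI
    rw [← hvx, Finset.sum_mul]
    apply Finset.sum_eq_zero
    intro i _
    rw [mul_assoc, mul_comm (signedMinor (φ.map π₀) i) b, hb, mul_zero]
  obtain ⟨hkill, hdual, hflat⟩ := dual_exact_of_fibre mbar π₀ hπ₀s hker φ hnilmbar hkill₀ hdual₀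
  exact exists_matrix_lift_aux J hnilJ A' I' r φ hI' hkill hdual hflat

end Main

end Groth.Agent.R2.H51.HBRel
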