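import Groth.Agent.R2.H51Flasque
import Groth.Agent.Lib.Helper28Kollar
import Groth.Agent.Lib.Helper5ArtRegSeq
import Groth.Agent.Lib.Helper6BcProd

/-!
# Hartogs extension over a local Artin base with normal special fibre (helper51)

* `bijective_of_isIT_of_regular_pair`: an ideal transform `ε : M → N` with respect to an ideal
  containing an `M`-regular sequence of length two is bijective.
* `exists_regular_pair_of_fibre`: for `A` Noetherian and flat over a local Artin ring `C` with
  `A/mA` satisfying `(S_2)`, every ideal all of whose primes have height `≥ 2` contains a regular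
  sequence of length two.
* `restrict_bijective`: `Γ(Spec A, O) → Γ(U, O)` is bijective when the complement of `U` has
  codimension `≥ 2` and `Spec (A/mA)` is normal.
-/

set_option autoImplicit false
universe u
open CategoryTheory AlgebraicGeometry TopologicalSpace Opposite

namespace Groth.Agent.R2.H51.Hartogs

open Groth.Agent.Lib.Helper28 Groth.Agent.Lib.Helper28.Deligne

section IT

variable {R : Type u} [CommRing R] {J : Ideal R} {M N : Type u} [AddCommGroup M] [Module R M]
  [AddCommGroup N] [Module R N]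

theorem eq_zero_of_pow_smul_eq_zero (x : R) (hx : ∀ z : M, x • z = 0 → z = 0) (n : ℕ) (z : M)
    (h : x ^ n • z = 0) : z = 0 := by
  induction n with
  | zero => simpa using h
  | succ n ih =>
    apply ih
    apply hx
    rw [← mul_smul, ← pow_succ']
    exact h

theorem exists_eq_pow_smul_of_smul_eq (x y : R) (hx : ∀ z : M, x • z = 0 → z = 0)
    (hy : ∀ z w : M, y • z = x • w → ∃ t, z = x • t) (k : ℕ) :
    ∀ z w : M, y • z = x ^ k • w → ∃ t, z = x ^ k • t := by
  induction k with
  | zero => exact fun z _ _ => ⟨z, by simp⟩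
  | succ k ih =>
    intro z w h
    obtain ⟨t, rfl⟩ := hy z (x ^ k • w) (by rw [h, pow_succ', mul_smul])
    have h2 : x • (y • t - x ^ k • w) = 0 := by
      rw [smul_sub, smul_comm x y t, h, pow_succ', mul_smul, sub_self]
    obtain ⟨t', rfl⟩ := ih t w (sub_eq_zero.mp (hx _ h2))
    exact ⟨t', by rw [pow_succ', mul_smul]⟩

theorem exists_eq_pow_smul_of_pow_smul_eq (x y : R) (hx : ∀ z : M, x • z = 0 → z = 0)
    (hy : ∀ z w : M, y • z = x • w → ∃ t, z = x • t) (k l : ℕ) :
    ∀ z w : M, y ^ l • z = x ^ k • w → ∃ t, z = x ^ k • t := by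
  induction l with
  | zero => exact fun z w h => ⟨w, by simpa using h⟩
  | succ l ih =>
    intro z w h
    rw [pow_succ', mul_smul] at h
    obtain ⟨t, ht⟩ := exists_eq_pow_smul_of_smul_eq x y hx hy k _ w h
    exact ih z t ht

/-- An ideal transform with respect to an ideal containing a regular sequence of length two is
bijective. -/
theorem bijective_of_isIT_of_regular_pair {ε : M →ₗ[R] N} (h : IsIT J ε) (x y : R) (hxJ : x ∈ J)
    (hyJ : y ∈ J) (hx : ∀ z : M, x • z = 0 → z = 0)
    (hy : ∀ z w : M, y • z = x • w → ∃ t, z = x • t) : Function.Bijective ε := by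
  have hinj0 : ∀ m : M, ε m = 0 → m = 0 := by
    intro m hm
    obtain ⟨n, hn⟩ := (h.ker m).mp hm
    exact eq_zero_of_pow_smul_eq_zero x hx n m (hn _ (Ideal.pow_mem_pow hxJ n))
  have hinj : Function.Injective ε := by
    intro m₁ m₂ h12
    have := hinj0 (m₁ - m₂) (by rw [map_sub, h12, sub_self])
    exact sub_eq_zero.mp this
  refine ⟨hinj, fun s => ?_⟩
  obtain ⟨n, hn⟩ := h.cok s
  obtain ⟨b, hb⟩ := hn _ (Ideal.pow_mem_pow hxJ n)
  obtain ⟨c, hc⟩ := hn _ (Ideal.pow_mem_pow hyJ n)
  have h1 : y ^ n • b = x ^ n • c := by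
    apply hinj
    rw [map_smul, map_smul, hb, hc, smul_comm]
  obtain ⟨d, rfl⟩ := exists_eq_pow_smul_of_pow_smul_eq x y hx hy n n b c h1
  refine ⟨d, ?_⟩
  have h2 : x ^ n • (s - ε d) = 0 := by
    rw [smul_sub, ← hb, map_smul, sub_self]
  have h3 : s - ε d = 0 := by
    apply h.tf
    obtain ⟨k, hk⟩ := h.cok (s - ε d)
    refine ⟨k, fun c hc => ?_⟩
    obtain ⟨e, he⟩ := hk c hc
    have h4 : ε (x ^ n • e) = 0 := by
      rw [map_smul, he, smul_comm, h2, smul_zero]
    have h5 : e = 0 := eq_zero_of_pow_smul_eq_zero x hx n e (hinj0 _ h4)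
    rw [← he, h5, map_zero]
  exact (sub_eq_zero.mp h3).symm

end IT

section RegPair

open RingTheory.Sequence

variable (C : Type u) [CommRing C] [IsLocalRing C] [IsArtinianRing C] (A : Type u) [CommRing A]
  [IsNoetherianRing A] [Algebra C A] [Module.Flat C A]

/-- A regular sequence of length two in an ideal of codimension two, lifted from the special
fibre of a flat algebra over a local Artin ring. -/
theorem exists_regular_pair_of_fibre
    (hS2 : LocCoh.HasSk 2 (A ⧸ (IsLocalRing.maximalIdeal C).map (algebraMap C A))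
      (A ⧸ (IsLocalRing.maximalIdeal C).map (algebraMap C A)))
    (a : Ideal A) (ha : ∀ p : Ideal A, p.IsPrime → a ≤ p → (2 : ℕ∞) ≤ p.height) :
    ∃ x ∈ a, ∃ y ∈ a, (∀ z : A, x * z = 0 → z = 0) ∧
      (∀ z w : A, y * z = x * w → ∃ t, z = x * t) := by
  classical
  obtain ⟨n, hn⟩ := IsArtinianRing.isNilpotent_jacobson_bot (R := C)
  rw [IsLocalRing.jacobson_eq_maximalIdeal ⊥ bot_ne_top, Ideal.zero_eq_bot] at hn
  obtain ⟨mk, hmk⟩ : ∃ mk : A →+* A ⧸ (IsLocalRing.maximalIdeal C).map (algebraMap C A),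
      mk = Ideal.Quotient.mk ((IsLocalRing.maximalIdeal C).map (algebraMap C A)) := ⟨_, rfl⟩
  have hmks : Function.Surjective mk := by
    rw [hmk]
    exact Ideal.Quotient.mk_surjective
  have hmk0 : ∀ z : A, mk z = 0 ↔ z ∈ (IsLocalRing.maximalIdeal C).map (algebraMap C A) := by
    intro z
    rw [hmk]
    exact Ideal.Quotient.eq_zero_iff_mem
  have hnilmem : ∀ z ∈ (IsLocalRing.maximalIdeal C).map (algebraMap C A), IsNilpotent z := by
    intro z hz
    refine ⟨n, ?_⟩
    have h4 : z ^ n ∈ ((IsLocalRing.maximalIdeal C).map (algebraMap C A)) ^ n :=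
      Ideal.pow_mem_pow hz n
    rw [← Ideal.map_pow, hn, Ideal.map_bot] at h4
    exact h4
  have hker : RingHom.ker mk ≤ nilradical A := by
    intro z hz
    rw [RingHom.mem_ker, hmk0] at hz
    exact hnilmem z hz
  -- the image of `a` is big
  have hbig : BigIdeal (a.map mk) := by
    intro Q hQ hle hht
    have h1 : a ≤ Q.comap mk := Ideal.map_le_iff_le_comap.mp hle
    have h2 := ha (Q.comap mk) (Ideal.comap_isPrime mk Q) h1
    have h3 := (h2.trans (height_comap_le_of_ker_le_nilradical hmks hker Q)).trans hht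
    exact absurd h3 (by norm_num)
  by_cases htop : a.map mk • (⊤ : Submodule (A ⧸ (IsLocalRing.maximalIdeal C).map (algebraMap C A))
      (A ⧸ (IsLocalRing.maximalIdeal C).map (algebraMap C A))) = ⊤
  · -- `a = ⊤`
    rw [smul_eq_mul, Ideal.mul_top] at htop
    have h1 : (1 : A ⧸ (IsLocalRing.maximalIdeal C).map (algebraMap C A)) ∈ a.map mk := by
      rw [htop]
      trivial
    obtain ⟨z, hz, hz1⟩ := (Ideal.mem_map_iff_of_surjective mk hmks).mp h1
    have hnil : IsNilpotent (z - 1) := by
      apply hnilmem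
      rw [← hmk0, map_sub, hz1, map_one, sub_self]
    have hunit : IsUnit z := by
      have := hnil.isUnit_add_one
      rwa [sub_add_cancel] at this
    have hatop : a = ⊤ := Ideal.eq_top_of_isUnit_mem _ hz hunit
    refine ⟨1, hatop ▸ Submodule.mem_top, 1, hatop ▸ Submodule.mem_top,
      fun z hz => by simpa using hz, fun z w _ => ⟨z, by simp⟩⟩
  · have hd : ((2 : ℕ) : ℕ∞) ≤ LocCoh.idealDepth (a.map mk)
        (A ⧸ (IsLocalRing.maximalIdeal C).map (algebraMap C A)) := by
      apply le_idealDepth_of_hasSk _ (a.map mk) 2 hS2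
      intro q hq _
      exact hbig.natCast_le_supportDim q hq
    obtain ⟨rs, hlen, hmem, hreg⟩ := (natCast_le_idealDepth_iff htop 2).mp hd
    obtain ⟨xb, yb, rfl⟩ := List.length_eq_two.mp hlen
    obtain ⟨x, hxa, hx⟩ := (Ideal.mem_map_iff_of_surjective mk hmks).mp (hmem xb (by simp))
    obtain ⟨y, hya, hy⟩ := (Ideal.mem_map_iff_of_surjective mk hmks).mp (hmem yb (by simp))
    have hregA : IsRegular A [x, y] := by
      rw [Groth.Agent.Lib.Helper5.isRegular_iff_isRegular_quotient_ring n hn (IsLocalRing.maximalIdeal C)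
        (IsLocalRing.maximalIdeal.isMaximal C).ne_top]
      rw [List.map_cons, List.map_cons, List.map_nil, ← hmk, hx, hy]
      exact hreg
    have hw := hregA.toIsWeaklyRegular
    rw [isWeaklyRegular_cons_iff] at hw
    obtain ⟨hx1, hw2⟩ := hw
    rw [isWeaklyRegular_cons_iff] at hw2
    obtain ⟨hy1, -⟩ := hw2
    refine ⟨x, hxa, y, hya, fun b hb => ?_, fun b c hbc => ?_⟩
    · apply hx1
      change x • b = x • (0 : A)
      rw [smul_eq_mul, smul_eq_mul, hb, mul_zero]
    · have h5 : y • (Submodule.Quotient.mk b : QuotSMulTop x A) = 0 := by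
        rw [← Submodule.Quotient.mk_smul, Submodule.Quotient.mk_eq_zero, smul_eq_mul, hbc]
        exact (Submodule.mem_smul_pointwise_iff_exists _ _ _).2 ⟨c, Submodule.mem_top, rfl⟩
      have h6 : (Submodule.Quotient.mk b : QuotSMulTop x A) = 0 :=
        hy1 (by
          change y • (Submodule.Quotient.mk b : QuotSMulTop x A) = y • (0 : QuotSMulTop x A)
          rw [h5, smul_zero])
      rw [Submodule.Quotient.mk_eq_zero] at h6
      obtain ⟨s, -, hs⟩ := (Submodule.mem_smul_pointwise_iff_exists _ _ _).1 h6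
      exact ⟨s, hs.symm⟩

end RegPair

section Main

variable (C : Type u) [CommRing C] [IsLocalRing C] [IsArtinianRing C] (A : Type u) [CommRing A]
  [IsNoetherianRing A] [Algebra C A] [Module.Flat C A]

/-- `A → Γ(U, O)` is bijective when the complement of `U` has codimension at least two and the
special fibre is normal. -/
theorem toOpenₗ_bijective
    (hnorm : Pi1.IsNormalScheme
      (Spec (CommRingCat.of (A ⧸ (IsLocalRing.maximalIdeal C).map (algebraMap C A)))))
    (U : (Spec (CommRingCat.of A)).Opens)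
    (hU : ∀ p : ↥(Spec (CommRingCat.of A)), p ∉ U → (2 : ℕ∞) ≤ p.asIdeal.height) :
    Function.Bijective (StructureSheaf.toOpenₗ A A U) := by
  have hN : EGA4.IsNormalRing (A ⧸ (IsLocalRing.maximalIdeal C).map (algebraMap C A)) :=
    Groth.Agent.Lib.Helper6.BcProd.isNormalRing_of_chart _ hnorm (𝟙 _)
  have hS2 : LocCoh.HasSk 2 (A ⧸ (IsLocalRing.maximalIdeal C).map (algebraMap C A))
      (A ⧸ (IsLocalRing.maximalIdeal C).map (algebraMap C A)) :=
    ((forall_isIntegrallyClosed_localization_iff_hasRk_one_and_hasSk_two _).mp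
      (fun p _ => hN p)).2
  obtain ⟨a, rfl⟩ := Groth.Agent.R2.H51.Flasque.exists_eq_puncturedOpen (R := A) U
  have ha : ∀ p : Ideal A, p.IsPrime → a ≤ p → (2 : ℕ∞) ≤ p.height := by
    intro p hp hle
    refine hU ⟨p, hp⟩ (fun hmem => hmem ?_)
    exact (PrimeSpectrum.mem_zeroLocus _ _).mpr hle
  obtain ⟨x, hxa, y, hya, hx, hy⟩ := exists_regular_pair_of_fibre C A hS2 a ha
  exact bijective_of_isIT_of_regular_pair (isIT_toOpen (R := A) (M := A) a) x y hxa hya
    (fun z hz => hx z hz) (fun z w hzw => hy z w hzw)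

/-- Hartogs: restriction from `Spec A` to an open with complement of codimension `≥ 2`. -/
theorem restrict_bijective
    (hnorm : Pi1.IsNormalScheme
      (Spec (CommRingCat.of (A ⧸ (IsLocalRing.maximalIdeal C).map (algebraMap C A)))))
    (U : (Spec (CommRingCat.of A)).Opens)
    (hU : ∀ p : ↥(Spec (CommRingCat.of A)), p ∉ U → (2 : ℕ∞) ≤ p.asIdeal.height) :
    Function.Bijective
      ((Spec (CommRingCat.of A)).presheaf.map (homOfLE (le_top : U ≤ ⊤)).op) := by
  have hU' := toOpenₗ_bijective C A hnorm U hU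
  have htop : Function.Bijective (StructureSheaf.toOpenₗ A A ⊤) :=
    StructureSheaf.toOpenₗ_top_bijective
  have hcomp : ∀ m : A, (Spec (CommRingCat.of A)).presheaf.map (homOfLE (le_top : U ≤ ⊤)).op
      (StructureSheaf.toOpenₗ A A ⊤ m) = StructureSheaf.toOpenₗ A A U m := fun m => rfl
  constructor
  · intro s₁ s₂ h12
    obtain ⟨m₁, rfl⟩ := htop.2 s₁
    obtain ⟨m₂, rfl⟩ := htop.2 s₂
    rw [hcomp, hcomp] at h12
    rw [hU'.1 h12]
  · intro t
    obtain ⟨m, rfl⟩ := hU'.2 t
    exact ⟨StructureSheaf.toOpenₗ A A ⊤ m, hcomp m⟩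

end Main

end Groth.Agent.R2.H51.Hartogs
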