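import Mathlib

/-!
# Hopf's lemma on bilinear maps without zero divisors (helper51)

`exists_zero`: over an algebraically closed field, `r ≤ m + n` bilinear forms on
`k^(m+1) × k^(n+1)` have a common zero `(α, β)` with `α ≠ 0`, `β ≠ 0`.
Proof: Krull's height theorem in the coordinate ring `S = k[x_i y_j]` of the Segre cone.
-/

set_option autoImplicit false
open MvPolynomial

namespace Groth.Agent.R2.H51.Hopf

section Segre

variable (k : Type*) [Field k] (m n : ℕ)

/-- the monomial `x_i y_j` -/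
noncomputable def z (i : Fin (m + 1)) (j : Fin (n + 1)) :
    MvPolynomial (Fin (m + 1) ⊕ Fin (n + 1)) k :=
  X (Sum.inl i) * X (Sum.inr j)

/-- the Segre homomorphism -/
noncomputable def φ : MvPolynomial (Fin (m + 1) × Fin (n + 1)) k →ₐ[k]
    MvPolynomial (Fin (m + 1) ⊕ Fin (n + 1)) k :=
  aeval (fun p => z k m n p.1 p.2)

/-- coordinate ring of the Segre cone -/
noncomputable def S : Subalgebra k (MvPolynomial (Fin (m + 1) ⊕ Fin (n + 1)) k) := (φ k m n).range

noncomputable instance : Algebra.FiniteType k (S k m n) :=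
  Algebra.FiniteType.of_surjective (φ k m n).rangeRestrict (φ k m n).rangeRestrict_surjective

instance : IsNoetherianRing (S k m n) := Algebra.FiniteType.isNoetherianRing k _

instance : IsJacobsonRing (S k m n) := isJacobsonRing_of_finiteType (A := k)

/-- `x_i y_j` as an element of `S` -/
noncomputable def zS (i : Fin (m + 1)) (j : Fin (n + 1)) : S k m n :=
  ⟨z k m n i j, ⟨X (i, j), by simp [φ]⟩⟩

@[simp] theorem zS_val (i : Fin (m + 1)) (j : Fin (n + 1)) : (zS k m n i j : MvPolynomial _ k) =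
    X (Sum.inl i) * X (Sum.inr j) := rfl

/-- the Segre homomorphism onto `S` -/
noncomputable def φS : MvPolynomial (Fin (m + 1) × Fin (n + 1)) k →ₐ[k] S k m n :=
  (φ k m n).rangeRestrict

theorem φS_surjective : Function.Surjective (φS k m n) := (φ k m n).rangeRestrict_surjective

theorem φS_X (ij : Fin (m + 1) × Fin (n + 1)) : φS k m n (X ij) = zS k m n ij.1 ij.2 := by
  apply Subtype.ext
  change φ k m n (X ij) = _
  simp [φ, z]

/-- the order in which the variables get killed -/
def ord : Fin (m + 1) ⊕ Fin (n + 1) → ℕ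
  | Sum.inl i => if (i : ℕ) < m then i else m + n
  | Sum.inr j => if (j : ℕ) < n then m + j else m + n + 1

/-- kill the first `t` variables -/
noncomputable def ε (t : ℕ) : MvPolynomial (Fin (m + 1) ⊕ Fin (n + 1)) k →ₐ[k]
    MvPolynomial (Fin (m + 1) ⊕ Fin (n + 1)) k :=
  aeval (fun v => if ord m n v < t then 0 else X v)

theorem ε_X (t : ℕ) (v : Fin (m + 1) ⊕ Fin (n + 1)) :
    ε k m n t (X v) = if ord m n v < t then 0 else X v := by
  simp [ε]

theorem ε_comp {t t' : ℕ} (h : t ≤ t') : (ε k m n t').comp (ε k m n t) = ε k m n t' := by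
  apply MvPolynomial.algHom_ext
  intro v
  rw [AlgHom.comp_apply, ε_X]
  split_ifs with h1
  · rw [map_zero, ε_X, if_pos (lt_of_lt_of_le h1 h)]
  · rfl

noncomputable def ψ (t : ℕ) : S k m n →ₐ[k] MvPolynomial (Fin (m + 1) ⊕ Fin (n + 1)) k :=
  (ε k m n t).comp (S k m n).val

noncomputable def p (t : ℕ) : Ideal (S k m n) := RingHom.ker (ψ k m n t).toRingHom

instance (t : ℕ) : (p k m n t).IsPrime := RingHom.ker_isPrime _

theorem mem_p (t : ℕ) (s : S k m n) : s ∈ p k m n t ↔ ε k m n t (s : MvPolynomial _ k) = 0 :=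
  Iff.rfl

theorem p_mono {t t' : ℕ} (h : t ≤ t') : p k m n t ≤ p k m n t' := by
  intro s hs
  rw [mem_p] at hs ⊢
  rw [← ε_comp k m n h, AlgHom.comp_apply, hs, map_zero]

/-- the augmentation -/
noncomputable def χ₀ : S k m n →ₐ[k] k := (aeval (fun _ => (0 : k))).comp (S k m n).val

noncomputable def m₀ : Ideal (S k m n) := RingHom.ker (χ₀ k m n).toRingHom

instance : (m₀ k m n).IsMaximal :=
  RingHom.ker_isMaximal_of_surjective _ (fun c => ⟨algebraMap k _ c, by simp⟩)

theorem mem_m₀ (s : S k m n) : s ∈ m₀ k m n ↔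
    aeval (fun _ => (0 : k)) (s : MvPolynomial (Fin (m + 1) ⊕ Fin (n + 1)) k) = 0 := Iff.rfl

theorem p_le_m₀ (t : ℕ) : p k m n t ≤ m₀ k m n := by
  intro s hs
  rw [mem_p] at hs
  rw [mem_m₀]
  have h : (aeval (fun _ => (0 : k)) : MvPolynomial (Fin (m + 1) ⊕ Fin (n + 1)) k →ₐ[k] k).comp
      (ε k m n t) = aeval (fun _ => (0 : k)) := by
    apply MvPolynomial.algHom_ext
    intro v
    rw [AlgHom.comp_apply, ε_X]
    split_ifs <;> simp
  rw [← h, AlgHom.comp_apply, hs, map_zero]

theorem zS_mem_m₀ (i : Fin (m + 1)) (j : Fin (n + 1)) : zS k m n i j ∈ m₀ k m n := by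
  rw [mem_m₀]
  simp

theorem ε_zS (t : ℕ) (i : Fin (m + 1)) (j : Fin (n + 1)) :
    ε k m n t (zS k m n i j : MvPolynomial _ k) =
      (if ord m n (Sum.inl i) < t then 0 else X (Sum.inl i)) *
        (if ord m n (Sum.inr j) < t then 0 else X (Sum.inr j)) := by
  rw [zS_val, map_mul, ε_X, ε_X]

/-- the chain is strict -/
theorem p_lt (t : ℕ) (ht : t ≤ m + n) : p k m n t < p k m n (t + 1) := by
  refine lt_of_le_of_ne (p_mono k m n (Nat.le_succ t)) ?_
  -- a witness
  obtain ⟨i, j, hi, hj1, hj2⟩ : ∃ (i : Fin (m + 1)) (j : Fin (n + 1)),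
      (ord m n (Sum.inl i) = t ∨ ord m n (Sum.inr j) = t) ∧ t ≤ ord m n (Sum.inl i) ∧
        t ≤ ord m n (Sum.inr j) := by
    by_cases h1 : t < m
    · refine ⟨⟨t, by omega⟩, Fin.last n, Or.inl ?_, ?_, ?_⟩
      · simp [ord, h1]
      · simp [ord, h1]
      · simp [ord]; omega
    · by_cases h2 : t < m + n
      · refine ⟨Fin.last m, ⟨t - m, by omega⟩, Or.inr ?_, ?_, ?_⟩
        · have : t - m < n := by omega
          simp [ord, this]; omega
        · simp [ord]; omega
        · have : t - m < n := by omega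
          simp [ord, this]; omega
      · refine ⟨Fin.last m, Fin.last n, Or.inl ?_, ?_, ?_⟩
        · simp [ord]; omega
        · simp [ord]; omega
        · simp [ord]; omega
  intro heq
  have hmem : zS k m n i j ∈ p k m n (t + 1) := by
    rw [mem_p, ε_zS]
    rcases hi with hi | hi
    · rw [if_pos (by omega), zero_mul]
    · rw [if_pos (by omega : ord m n (Sum.inr j) < t + 1), mul_zero]
  rw [← heq, mem_p, ε_zS, if_neg (by omega), if_neg (by omega)] at hmem
  exact (mul_ne_zero (X_ne_zero _) (X_ne_zero _)) hmem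

theorem le_height_m₀ : ((m + n + 1 : ℕ) : ℕ∞) ≤ (m₀ k m n).height := by
  let q : Fin (m + n + 1 + 1) → PrimeSpectrum (S k m n) := fun t => ⟨p k m n t, inferInstance⟩
  have hq : StrictMono q := by
    apply Fin.strictMono_iff_lt_succ.mpr
    intro t
    have := p_lt k m n t (by omega)
    exact this
  let s : LTSeries (PrimeSpectrum (S k m n)) := LTSeries.mk (m + n + 1) q hq
  have h1 : ((m + n + 1 : ℕ) : ℕ∞) ≤ Order.height s.last := Order.length_le_height_last (p := s)
  have h2 : s.last ≤ (⟨m₀ k m n, inferInstance⟩ : PrimeSpectrum (S k m n)) :=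
    p_le_m₀ k m n _
  have h3 := Order.height_mono h2
  have h4 := PrimeSpectrum.height_eq_orderHeight
    (⟨m₀ k m n, inferInstance⟩ : PrimeSpectrum (S k m n))
  rw [← h4] at h3
  exact h1.trans h3

/-- a maximal ideal different from `m₀` gives a `k`-point with some nonzero coordinate -/
theorem exists_point [IsAlgClosed k] (N : Ideal (S k m n)) [N.IsMaximal] (hN : N ≠ m₀ k m n) :
    ∃ χ : S k m n →ₐ[k] k, (∀ s ∈ N, χ s = 0) ∧ ∃ i j, χ (zS k m n i j) ≠ 0 := by
  letI : Field (S k m n ⧸ N) := Ideal.Quotient.field N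
  haveI : Algebra.FiniteType k (S k m n ⧸ N) :=
    Algebra.FiniteType.of_surjective (Ideal.Quotient.mkₐ k N) (Ideal.Quotient.mkₐ_surjective k N)
  haveI : Module.Finite k (S k m n ⧸ N) := finite_of_finite_type_of_isJacobsonRing k _
  haveI : Algebra.IsIntegral k (S k m n ⧸ N) := Algebra.IsIntegral.of_finite k _
  have hbij : Function.Bijective (algebraMap k (S k m n ⧸ N)) :=
    IsAlgClosed.algebraMap_bijective_of_isIntegral
  let e : k ≃ₐ[k] (S k m n ⧸ N) := AlgEquiv.ofBijective (Algebra.ofId k _) hbij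
  obtain ⟨χ, hχ⟩ : ∃ χ : S k m n →ₐ[k] k, ∀ s, χ s = 0 ↔ s ∈ N := by
    refine ⟨e.symm.toAlgHom.comp (Ideal.Quotient.mkₐ k N), fun s => ?_⟩
    change e.symm (Ideal.Quotient.mk N s) = 0 ↔ _
    rw [EmbeddingLike.map_eq_zero_iff, Ideal.Quotient.eq_zero_iff_mem]
  refine ⟨χ, fun s hs => (hχ s).mpr hs, ?_⟩
  by_contra hcon
  push Not at hcon
  apply hN
  -- `χ = χ₀`
  have h1 : χ.comp (φS k m n) = (χ₀ k m n).comp (φS k m n) := by
    apply MvPolynomial.algHom_ext
    intro ij
    rw [AlgHom.comp_apply, AlgHom.comp_apply, φS_X, hcon]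
    symm
    exact (mem_m₀ k m n _).mp (zS_mem_m₀ k m n _ _)
  have h3 : χ = χ₀ k m n := by
    apply AlgHom.ext
    intro s
    obtain ⟨f, rfl⟩ := φS_surjective k m n s
    exact congrArg (fun g => g f) h1
  have hle : N ≤ m₀ k m n := by
    intro s hs
    have := (hχ s).mpr hs
    rw [h3] at this
    exact this
  exact (Ideal.IsMaximal.eq_of_le inferInstance (Ideal.IsMaximal.ne_top inferInstance) hle)

/-- **Common zeros of bilinear forms**: over an algebraically closed field, `r ≤ m + n` bilinear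
forms on `k^(m+1) × k^(n+1)` have a common zero with both components nonzero. -/
theorem exists_zero [IsAlgClosed k] (r : ℕ) (hr : r ≤ m + n)
    (c : Fin r → Fin (m + 1) → Fin (n + 1) → k) :
    ∃ (α : Fin (m + 1) → k) (β : Fin (n + 1) → k), α ≠ 0 ∧ β ≠ 0 ∧
      ∀ l, ∑ i, ∑ j, c l i j * (α i * β j) = 0 := by
  classical
  let f : Fin r → S k m n := fun l => ∑ i, ∑ j, c l i j • zS k m n i j
  let F : Finset (S k m n) := Finset.univ.image f
  have hFcard : F.card ≤ r := by
    refine (Finset.card_image_le).trans ?_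
    simp
  have hf_mem : ∀ l, f l ∈ m₀ k m n := by
    intro l
    refine Ideal.sum_mem _ (fun i _ => Ideal.sum_mem _ (fun j _ => ?_))
    rw [Algebra.smul_def]
    exact Ideal.mul_mem_left _ _ (zS_mem_m₀ k m n i j)
  have hI : Ideal.span (F : Set (S k m n)) ≤ m₀ k m n := by
    rw [Ideal.span_le]
    intro s hs
    obtain ⟨l, -, rfl⟩ := Finset.mem_image.mp hs
    exact hf_mem l
  obtain ⟨Q, hQmin, hQle⟩ := Ideal.exists_minimalPrimes_le hI
  haveI hQp : Q.IsPrime := hQmin.1.1
  have hQh : Q.height ≤ F.card := Ideal.height_le_card_of_mem_minimalPrimes_span_finset hQmin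
  have hQne : Q ≠ m₀ k m n := by
    intro h
    rw [h] at hQh
    have h1 := le_height_m₀ k m n
    have h2 : ((m + n + 1 : ℕ) : ℕ∞) ≤ (r : ℕ∞) := (h1.trans hQh).trans (by exact_mod_cast hFcard)
    have h3 : m + n + 1 ≤ r := by exact_mod_cast h2
    omega
  -- a maximal ideal containing `Q`, different from `m₀`
  obtain ⟨N, hNmax, hQN, hNne⟩ : ∃ N : Ideal (S k m n), N.IsMaximal ∧ Q ≤ N ∧ N ≠ m₀ k m n := by
    by_contra hcon
    push Not at hcon
    apply hQne
    refine le_antisymm hQle ?_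
    have hjac : Q.jacobson = Q := IsJacobsonRing.out' Q hQp.isRadical
    rw [← hjac]
    apply le_sInf
    rintro J ⟨hQJ, hJmax⟩
    rw [hcon J hJmax hQJ]
  obtain ⟨χ, hχN, i₀, j₀, hne⟩ := exists_point k m n N hNne
  -- the matrix `ζ i j = χ (x_i y_j)` has rank one
  have hrel : ∀ i j, χ (zS k m n i j₀) * χ (zS k m n i₀ j) =
      χ (zS k m n i j) * χ (zS k m n i₀ j₀) := by
    intro i j
    rw [← map_mul, ← map_mul]
    congr 1
    apply Subtype.ext
    simp only [MulMemClass.coe_mul, zS_val]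
    ring
  refine ⟨fun i => χ (zS k m n i j₀), fun j => χ (zS k m n i₀ j) / χ (zS k m n i₀ j₀), ?_, ?_, ?_⟩
  · intro h
    exact hne (congrFun h i₀)
  · intro h
    have := congrFun h j₀
    simp only [Pi.zero_apply] at this
    rw [div_self hne] at this
    exact one_ne_zero this
  · intro l
    have h1 : ∀ i j, χ (zS k m n i j₀) * (χ (zS k m n i₀ j) / χ (zS k m n i₀ j₀)) =
        χ (zS k m n i j) := by
      intro i j
      rw [← mul_div_assoc, hrel, mul_div_assoc, div_self hne, mul_one]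
    have h2 : χ (f l) = 0 := hχN _ (hQN (hQmin.1.2 (Ideal.subset_span (Finset.mem_image_of_mem f
      (Finset.mem_univ l)))))
    rw [← h2]
    simp only [f, map_sum, map_smul, smul_eq_mul, h1]

end Segre

section Main

open TensorProduct

universe u v w

/-- **Hopf's lemma**: a linear map `ν : A ⊗ B → C` over an algebraically closed field which is
injective on each factor separately has rank at least `dim A + dim B - 1`. -/
theorem hopf (k : Type*) [Field k] [IsAlgClosed k]
    (A : Type u) (B : Type v) (C : Type w) [AddCommGroup A] [Module k A] [AddCommGroup B]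
    [Module k B] [AddCommGroup C] [Module k C] [FiniteDimensional k A] [FiniteDimensional k B]
    [Nontrivial A] [Nontrivial B] (ν : A ⊗[k] B →ₗ[k] C)
    (hA : ∀ a : A, a ≠ 0 → Function.Injective (fun b : B => ν (a ⊗ₜ[k] b))) :
    Module.finrank k A + Module.finrank k B ≤ Module.finrank k (LinearMap.range ν) + 1 := by
  by_contra hlt
  push Not at hlt
  have ha : 0 < Module.finrank k A := Module.finrank_pos
  have hb : 0 < Module.finrank k B := Module.finrank_pos
  obtain ⟨m, hm⟩ : ∃ m, Module.finrank k A = m + 1 := ⟨Module.finrank k A - 1, by omega⟩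
  obtain ⟨n, hn⟩ : ∃ n, Module.finrank k B = n + 1 := ⟨Module.finrank k B - 1, by omega⟩
  obtain ⟨r, hr⟩ : ∃ r, Module.finrank k (LinearMap.range ν) = r := ⟨_, rfl⟩
  have hrmn : r ≤ m + n := by omega
  let bA : Module.Basis (Fin (m + 1)) k A := Module.finBasisOfFinrankEq k A hm
  let bB : Module.Basis (Fin (n + 1)) k B := Module.finBasisOfFinrankEq k B hn
  let bW : Module.Basis (Fin r) k (LinearMap.range ν) := Module.finBasisOfFinrankEq k _ hr
  let Λ : Fin r → (A ⊗[k] B →ₗ[k] k) := fun l => (bW.coord l) ∘ₗ ν.rangeRestrict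
  obtain ⟨α, β, hα, hβ, hz⟩ := exists_zero k m n r hrmn (fun l i j => Λ l (bA i ⊗ₜ[k] bB j))
  obtain ⟨α', hα'⟩ : ∃ α' : A, α' = ∑ i, α i • bA i := ⟨_, rfl⟩
  obtain ⟨β', hβ'⟩ : ∃ β' : B, β' = ∑ j, β j • bB j := ⟨_, rfl⟩
  have hα0 : α' ≠ 0 := by
    intro h
    apply hα
    have := bA.repr_sum_self α
    rw [← hα', h, map_zero] at this
    exact this.symm
  have hβ0 : β' ≠ 0 := by
    intro h
    apply hβ
    have := bB.repr_sum_self β
    rw [← hβ', h, map_zero] at this
    exact this.symm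
  have hΛ : ∀ l, Λ l (α' ⊗ₜ[k] β') = 0 := by
    intro l
    rw [← hz l, hα', hβ', TensorProduct.sum_tmul, map_sum]
    refine Finset.sum_congr rfl (fun i _ => ?_)
    rw [TensorProduct.tmul_sum, map_sum]
    refine Finset.sum_congr rfl (fun j _ => ?_)
    rw [TensorProduct.smul_tmul_smul, map_smul, smul_eq_mul, mul_comm]
  have hν : ν (α' ⊗ₜ[k] β') = 0 := by
    have h1 : ν.rangeRestrict (α' ⊗ₜ[k] β') = 0 := by
      apply bW.ext_elem
      intro l
      rw [map_zero, Finsupp.zero_apply]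
      exact hΛ l
    exact congrArg Subtype.val h1
  apply hβ0
  apply hA α' hα0
  change ν (α' ⊗ₜ[k] β') = ν (α' ⊗ₜ[k] 0)
  rw [hν, TensorProduct.tmul_zero, map_zero]

end Main

end Groth.Agent.R2.H51.Hopf
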