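import Groth.Agent.R2.H51ActPts
import Groth.Agent.Lib.Helper11RigidAntiE
import Groth.Agent.Lib.Helper11Rigidity
import Groth.Agent.Lib.Helper6SepCl2

/-!
# Actions of connected group schemes on products of complete varieties (helper51)
-/

set_option autoImplicit false
universe u

open CategoryTheory MonoidalCategory CartesianMonoidalCategory MonObj GrpObj AlgebraicGeometry
  CategoryTheory.Limits

namespace Groth.Agent.R2.H51.ProdAct

open Groth.Agent.R2.H51.ActPts Groth.Agent.Lib.Helper12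

variable (k : Type u) [Field k] [IsAlgClosed k]

/-- `O(X) = k` for a proper integral scheme over an algebraically closed field. -/
theorem antiAffine_of_proper_integral (X : Over (Spec (CommRingCat.of k))) [IsProper X.hom]
    [IsIntegral X.left] :
    Function.Bijective ((Scheme.ΓSpecIso (CommRingCat.of k)).inv ≫ X.hom.appTop).hom := by
  have h1 : Function.Bijective X.hom.appTop :=
    Groth.Agent.Lib.Helper11Rigidity.appTop_bijective_of_isAlgClosed X.hom
  have h2 : Function.Bijective (Scheme.ΓSpecIso (CommRingCat.of k)).inv :=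
    (ConcreteCategory.isIso_iff_bijective _).mp inferInstance
  exact h1.comp h2

/-- The product of a connected scheme with a connected scheme over an algebraically closed field is
connected. -/
theorem connectedSpace_tensor (G X : Over (Spec (CommRingCat.of k))) [ConnectedSpace G.left]
    [ConnectedSpace X.left] : ConnectedSpace (G ⊗ X).left := by
  let _ : G.left.Over (Spec (CommRingCat.of k)) := ⟨G.hom⟩
  have : GeometricallyConnected G.hom :=
    Groth.Agent.Lib.Helper6.SepCl.geometricallyConnected_of_isSepClosed k G.left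
  have : UniversallyOpen G.hom := inferInstance
  exact inferInstanceAs (ConnectedSpace ↥(pullback G.hom X.hom))

variable {k}
variable {G X Y : Over (Spec (CommRingCat.of k))} [GrpObj G]

/-- Independence of the first component of `g • (x, y)` from `y`. -/
theorem fst_indep [LocallyOfFiniteType G.hom] [QuasiCompact G.hom] [ConnectedSpace ↥G.left]
    [IsProper X.hom] [IsIntegral X.left] [IsProper Y.hom] [IsIntegral Y.left]
    (a : AlgGrp.Action G (X ⊗ Y)) (y₀ : 𝟙_ (Over (Spec (CommRingCat.of k))) ⟶ Y)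
    {T : Over (Spec (CommRingCat.of k))} (g : T ⟶ G) (x : T ⟶ X) (y : T ⟶ Y) :
    lift g (lift x y) ≫ a.act ≫ fst X Y = lift g (lift x (toUnit T ≫ y₀)) ≫ a.act ≫ fst X Y := by
  obtain ⟨x₀⟩ := Groth.Agent.Lib.Helper11RigidAntiE.exists_pt_of_isAlgClosed X
  have hY := antiAffine_of_proper_integral k Y
  haveI : ConnectedSpace (G ⊗ X).left := connectedSpace_tensor k G X
  haveI : LocallyOfFiniteType (G ⊗ X).hom := by
    rw [Over.tensorObj_hom]
    infer_instance
  -- the morphism `(y, (g, x)) ↦ p₁ (g • (x, y))`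
  obtain ⟨f, hf⟩ : ∃ f : Y ⊗ (G ⊗ X) ⟶ X,
      f = lift (snd Y (G ⊗ X) ≫ fst G X) (lift (snd Y (G ⊗ X) ≫ snd G X) (fst Y (G ⊗ X))) ≫
        a.act ≫ fst X Y := ⟨_, rfl⟩
  have hfpt : ∀ {T : Over (Spec (CommRingCat.of k))} (g : T ⟶ G) (x : T ⟶ X) (y : T ⟶ Y),
      lift y (lift g x) ≫ f = lift g (lift x y) ≫ a.act ≫ fst X Y := by
    intro T g x y
    rw [hf, ← Category.assoc, comp_lift, comp_lift]
    simp only [← Category.assoc, lift_snd, lift_fst]
  obtain ⟨p₀, hp₀⟩ : ∃ p₀ : 𝟙_ (Over (Spec (CommRingCat.of k))) ⟶ G ⊗ X, p₀ = lift η[G] x₀ :=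
    ⟨_, rfl⟩
  have hcontr : (Y ◁ p₀) ≫ f = toUnit _ ≫ lift y₀ p₀ ≫ f := by
    have e1 : Y ◁ p₀ = lift (fst Y _) (lift (snd Y _ ≫ η[G]) (snd Y _ ≫ x₀)) := by
      apply CartesianMonoidalCategory.hom_ext
      · simp
      · rw [whiskerLeft_snd, lift_snd, hp₀, comp_lift]
    have e2 : lift y₀ p₀ = lift y₀ (lift η[G] x₀) := by rw [hp₀]
    rw [e1, e2, hfpt, hfpt]
    have e3 : ∀ {T : Over (Spec (CommRingCat.of k))} (u : T ⟶ 𝟙_ _) (z : T ⟶ X ⊗ Y),
        lift (u ≫ η[G]) z ≫ a.act = z := by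
      intro T u z
      have : u ≫ η[G] = (1 : T ⟶ G) := by
        rw [Hom.one_def]
        congr 1
        exact toUnit_unique _ _
      rw [this, act_one]
    have e4 : lift (η[G]) (lift x₀ y₀) ≫ a.act = lift x₀ y₀ := by
      have := e3 (𝟙 _) (lift x₀ y₀)
      rwa [Category.id_comp] at this
    rw [← Category.assoc, e3, lift_fst, ← Category.assoc _ a.act, e4, lift_fst]
    congr 1
    exact toUnit_unique _ _
  have hrig := Groth.Agent.Lib.Helper11RigidAntiE.rigidity_lft Y (G ⊗ X) X hY y₀ p₀ f hcontr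
  have h1 := hfpt g x y
  rw [hrig] at h1
  rw [← h1, ← hfpt g x (toUnit T ≫ y₀), hrig]
  simp only [← Category.assoc, lift_snd, Category.comp_id]

/-- Independence of the second component of `g • (x, y)` from `x`. -/
theorem snd_indep [LocallyOfFiniteType G.hom] [QuasiCompact G.hom] [ConnectedSpace ↥G.left]
    [IsProper X.hom] [IsIntegral X.left] [IsProper Y.hom] [IsIntegral Y.left]
    (a : AlgGrp.Action G (X ⊗ Y)) (x₀ : 𝟙_ (Over (Spec (CommRingCat.of k))) ⟶ X)
    {T : Over (Spec (CommRingCat.of k))} (g : T ⟶ G) (x : T ⟶ X) (y : T ⟶ Y) :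
    lift g (lift x y) ≫ a.act ≫ snd X Y = lift g (lift (toUnit T ≫ x₀) y) ≫ a.act ≫ snd X Y := by
  obtain ⟨y₀⟩ := Groth.Agent.Lib.Helper11RigidAntiE.exists_pt_of_isAlgClosed Y
  have hX := antiAffine_of_proper_integral k X
  haveI : ConnectedSpace (G ⊗ Y).left := connectedSpace_tensor k G Y
  haveI : LocallyOfFiniteType (G ⊗ Y).hom := by
    rw [Over.tensorObj_hom]
    infer_instance
  -- the morphism `(x, (g, y)) ↦ p₂ (g • (x, y))`
  obtain ⟨f, hf⟩ : ∃ f : X ⊗ (G ⊗ Y) ⟶ Y,
      f = lift (snd X (G ⊗ Y) ≫ fst G Y) (lift (fst X (G ⊗ Y)) (snd X (G ⊗ Y) ≫ snd G Y)) ≫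
        a.act ≫ snd X Y := ⟨_, rfl⟩
  have hfpt : ∀ {T : Over (Spec (CommRingCat.of k))} (g : T ⟶ G) (x : T ⟶ X) (y : T ⟶ Y),
      lift x (lift g y) ≫ f = lift g (lift x y) ≫ a.act ≫ snd X Y := by
    intro T g x y
    rw [hf, ← Category.assoc, comp_lift, comp_lift]
    simp only [← Category.assoc, lift_snd, lift_fst]
  obtain ⟨p₀, hp₀⟩ : ∃ p₀ : 𝟙_ (Over (Spec (CommRingCat.of k))) ⟶ G ⊗ Y, p₀ = lift η[G] y₀ :=
    ⟨_, rfl⟩
  have hcontr : (X ◁ p₀) ≫ f = toUnit _ ≫ lift x₀ p₀ ≫ f := by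
    have e1 : X ◁ p₀ = lift (fst X _) (lift (snd X _ ≫ η[G]) (snd X _ ≫ y₀)) := by
      apply CartesianMonoidalCategory.hom_ext
      · simp
      · rw [whiskerLeft_snd, lift_snd, hp₀, comp_lift]
    have e2 : lift x₀ p₀ = lift x₀ (lift η[G] y₀) := by rw [hp₀]
    rw [e1, e2, hfpt, hfpt]
    have e3 : ∀ {T : Over (Spec (CommRingCat.of k))} (u : T ⟶ 𝟙_ _) (z : T ⟶ X ⊗ Y),
        lift (u ≫ η[G]) z ≫ a.act = z := by
      intro T u z
      have : u ≫ η[G] = (1 : T ⟶ G) := by
        rw [Hom.one_def]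
        congr 1
        exact toUnit_unique _ _
      rw [this, act_one]
    have e4 : lift (η[G]) (lift x₀ y₀) ≫ a.act = lift x₀ y₀ := by
      have := e3 (𝟙 _) (lift x₀ y₀)
      rwa [Category.id_comp] at this
    rw [← Category.assoc, e3, lift_snd, ← Category.assoc _ a.act, e4, lift_snd]
    congr 1
    exact toUnit_unique _ _
  have hrig := Groth.Agent.Lib.Helper11RigidAntiE.rigidity_lft X (G ⊗ Y) Y hX x₀ p₀ f hcontr
  have h1 := hfpt g x y
  rw [hrig] at h1
  rw [← h1, ← hfpt g (toUnit T ≫ x₀) y, hrig]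
  simp only [← Category.assoc, lift_snd, Category.comp_id]

section Main

variable (k) (G X Y)
variable [LocallyOfFiniteType G.hom] [QuasiCompact G.hom] [ConnectedSpace ↥G.left]
  [IsProper X.hom] [IsIntegral X.left] [IsProper Y.hom] [IsIntegral Y.left]

theorem main (a : AlgGrp.Action G (X ⊗ Y)) :
    ∃ (b : AlgGrp.Action G X) (c : AlgGrp.Action G Y),
      a.act = lift ((G ◁ fst X Y) ≫ b.act) ((G ◁ snd X Y) ≫ c.act) ∧
      ∀ (b' : AlgGrp.Action G X) (c' : AlgGrp.Action G Y),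
        a.act = lift ((G ◁ fst X Y) ≫ b'.act) ((G ◁ snd X Y) ≫ c'.act) → b' = b ∧ c' = c := by
  obtain ⟨x₀⟩ := Groth.Agent.Lib.Helper11RigidAntiE.exists_pt_of_isAlgClosed X
  obtain ⟨y₀⟩ := Groth.Agent.Lib.Helper11RigidAntiE.exists_pt_of_isAlgClosed Y
  -- the two candidate action morphisms
  obtain ⟨bact, hbact⟩ : ∃ bact : G ⊗ X ⟶ X,
      bact = lift (fst G X) (lift (snd G X) (toUnit _ ≫ y₀)) ≫ a.act ≫ fst X Y := ⟨_, rfl⟩
  obtain ⟨cact, hcact⟩ : ∃ cact : G ⊗ Y ⟶ Y,
      cact = lift (fst G Y) (lift (toUnit _ ≫ x₀) (snd G Y)) ≫ a.act ≫ snd X Y := ⟨_, rfl⟩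
  have hb : ∀ {T : Over (Spec (CommRingCat.of k))} (g : T ⟶ G) (x : T ⟶ X) (y : T ⟶ Y),
      lift g x ≫ bact = lift g (lift x y) ≫ a.act ≫ fst X Y := by
    intro T g x y
    have e : lift g x ≫ lift (fst G X) (lift (snd G X) (toUnit _ ≫ y₀)) =
        lift g (lift x (toUnit T ≫ y₀)) := by
      apply CartesianMonoidalCategory.hom_ext
      · simp
      · apply CartesianMonoidalCategory.hom_ext <;> simp
    rw [fst_indep a y₀ g x y, hbact, ← Category.assoc, e]
  have hc : ∀ {T : Over (Spec (CommRingCat.of k))} (g : T ⟶ G) (x : T ⟶ X) (y : T ⟶ Y),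
      lift g y ≫ cact = lift g (lift x y) ≫ a.act ≫ snd X Y := by
    intro T g x y
    have e : lift g y ≫ lift (fst G Y) (lift (toUnit _ ≫ x₀) (snd G Y)) =
        lift g (lift (toUnit T ≫ x₀) y) := by
      apply CartesianMonoidalCategory.hom_ext
      · simp
      · apply CartesianMonoidalCategory.hom_ext <;> simp
    rw [snd_indep a x₀ g x y, hcact, ← Category.assoc, e]
  -- `g • (x, y) = (b(g, x), c(g, y))`
  have hact : ∀ {T : Over (Spec (CommRingCat.of k))} (g : T ⟶ G) (x : T ⟶ X) (y : T ⟶ Y),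
      lift g (lift x y) ≫ a.act = lift (lift g x ≫ bact) (lift g y ≫ cact) := by
    intro T g x y
    apply CartesianMonoidalCategory.hom_ext
    · rw [lift_fst, hb g x y, Category.assoc]
    · rw [lift_snd, hc g x y, Category.assoc]
  have hb1 : ∀ (T : Over (Spec (CommRingCat.of k))) (x : T ⟶ X),
      lift (1 : T ⟶ G) x ≫ bact = x := by
    intro T x
    rw [hb 1 x (toUnit T ≫ y₀), ← Category.assoc, act_one, lift_fst]
  have hc1 : ∀ (T : Over (Spec (CommRingCat.of k))) (y : T ⟶ Y),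
      lift (1 : T ⟶ G) y ≫ cact = y := by
    intro T y
    rw [hc 1 (toUnit T ≫ x₀) y, ← Category.assoc, act_one, lift_snd]
  have hb2 : ∀ (T : Over (Spec (CommRingCat.of k))) (g h : T ⟶ G) (x : T ⟶ X),
      lift (g * h) x ≫ bact = lift g (lift h x ≫ bact) ≫ bact := by
    intro T g h x
    rw [hb (g * h) x (toUnit T ≫ y₀), ← Category.assoc, act_mul, hact h x (toUnit T ≫ y₀),
      Category.assoc, ← hb g _ _]
  have hc2 : ∀ (T : Over (Spec (CommRingCat.of k))) (g h : T ⟶ G) (y : T ⟶ Y),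
      lift (g * h) y ≫ cact = lift g (lift h y ≫ cact) ≫ cact := by
    intro T g h y
    rw [hc (g * h) (toUnit T ≫ x₀) y, ← Category.assoc, act_mul, hact h (toUnit T ≫ x₀) y,
      Category.assoc, ← hc g _ _]
  refine ⟨ofPoints bact hb1 hb2, ofPoints cact hc1 hc2, ?_, ?_⟩
  · rw [ofPoints_act, ofPoints_act]
    apply hom_ext_points
    intro T g z
    have hz : z = lift (z ≫ fst X Y) (z ≫ snd X Y) := by
      apply CartesianMonoidalCategory.hom_ext <;> simp
    have e1 : lift g (lift (z ≫ fst X Y) (z ≫ snd X Y)) ≫ (G ◁ fst X Y) =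
        lift g (z ≫ fst X Y) := by
      apply CartesianMonoidalCategory.hom_ext <;> simp
    have e2 : lift g (lift (z ≫ fst X Y) (z ≫ snd X Y)) ≫ (G ◁ snd X Y) =
        lift g (z ≫ snd X Y) := by
      apply CartesianMonoidalCategory.hom_ext <;> simp
    rw [hz, hact, comp_lift, reassoc_of% e1, reassoc_of% e2]
  · intro b' c' h'
    have hb' : ∀ {T : Over (Spec (CommRingCat.of k))} (g : T ⟶ G) (x : T ⟶ X) (y : T ⟶ Y),
        lift g (lift x y) ≫ a.act ≫ fst X Y = lift g x ≫ b'.act := by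
      intro T g x y
      rw [h', lift_fst, ← Category.assoc]
      congr 1
      apply CartesianMonoidalCategory.hom_ext <;> simp
    have hc' : ∀ {T : Over (Spec (CommRingCat.of k))} (g : T ⟶ G) (x : T ⟶ X) (y : T ⟶ Y),
        lift g (lift x y) ≫ a.act ≫ snd X Y = lift g y ≫ c'.act := by
      intro T g x y
      rw [h', lift_snd, ← Category.assoc]
      congr 1
      apply CartesianMonoidalCategory.hom_ext <;> simp
    constructor
    · apply action_ext
      rw [ofPoints_act]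
      apply hom_ext_points
      intro T g x
      rw [← hb' g x (toUnit T ≫ y₀), hb g x (toUnit T ≫ y₀)]
    · apply action_ext
      rw [ofPoints_act]
      apply hom_ext_points
      intro T g y
      rw [← hc' g (toUnit T ≫ x₀) y, hc g (toUnit T ≫ x₀) y]

end Main

end Groth.Agent.R2.H51.ProdAct
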