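import Mathlib

/-!
# Pulling apart punctual ideals of the plane: lemmas in `k[Y][X]` (helper51)

`P = k[X][X]` is the polynomial ring in the outer variable `X` over `k[Y]` (`Y` is the inner
variable `X`).  For an ideal `𝔄` of `P` containing powers of `X` and of `Y` we find a monic `F ∈ 𝔄`
of least possible degree in `X`, so that every element of `𝔄` of smaller degree is divisible by `Y`.
-/

set_option autoImplicit false
universe u
open Polynomial

namespace Groth.Agent.R2.H51.PullApartP

variable {k : Type u} [Field k]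

/-- reduction modulo the inner variable -/
noncomputable def red : k[X][X] →+* k[X] := Polynomial.mapRingHom (Polynomial.evalRingHom (0 : k))

/-- inclusion of polynomials in the outer variable with constant coefficients -/
noncomputable def incl : k[X] →+* k[X][X] := Polynomial.mapRingHom (C : k →+* k[X])

theorem red_incl (q : k[X]) : red (incl q) = q := by
  unfold red incl
  simp only [coe_mapRingHom, Polynomial.map_map]
  have : (evalRingHom (0 : k)).comp (C : k →+* k[X]) = RingHom.id k := by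
    ext a
    simp
  rw [this, Polynomial.map_id]

theorem red_surjective : Function.Surjective (red : k[X][X] →+* k[X]) :=
  fun q => ⟨incl q, red_incl q⟩

theorem degree_incl (q : k[X]) : (incl q).degree = q.degree := by
  unfold incl
  rw [coe_mapRingHom]
  exact degree_map_eq_of_injective C_injective q

theorem degree_red_le (p : k[X][X]) : (red p).degree ≤ p.degree := by
  unfold red
  rw [coe_mapRingHom]
  exact degree_map_le

theorem red_eq_zero_iff (p : k[X][X]) : red p = 0 ↔ ∃ p', p = C X * p' := by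
  constructor
  · intro h
    have h1 : p ∈ RingHom.ker (red : k[X][X] →+* k[X]) := h
    unfold red at h1
    rw [Polynomial.ker_mapRingHom, Polynomial.ker_evalRingHom, Ideal.map_span, Set.image_singleton,
      Ideal.mem_span_singleton] at h1
    obtain ⟨p', hp'⟩ := h1
    refine ⟨p', ?_⟩
    rw [hp']
    simp
  · rintro ⟨p', rfl⟩
    unfold red
    simp

/-- The key choice of a monic element of least degree. -/
theorem exists_monic (𝔄 : Ideal k[X][X]) (N₁ N₂ : ℕ) (hX : (X : k[X][X]) ^ N₁ ∈ 𝔄)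
    (hY : (C X : k[X][X]) ^ N₂ ∈ 𝔄) :
    ∃ F ∈ 𝔄, F.Monic ∧ ∀ r ∈ 𝔄, r.degree < F.degree → ∃ r', r = C X * r' := by
  classical
  -- the ideal of reductions
  obtain ⟨J, hJ⟩ : ∃ J : Ideal k[X], J = 𝔄.map (red : k[X][X] →+* k[X]) := ⟨_, rfl⟩
  have hJmem : ∀ q, q ∈ J ↔ ∃ α ∈ 𝔄, red α = q := by
    intro q
    rw [hJ]
    exact Ideal.mem_map_iff_of_surjective _ red_surjective
  obtain ⟨g, hg⟩ : ∃ g : k[X], J = Ideal.span {g} :=
    ⟨Submodule.IsPrincipal.generator J, (Ideal.span_singleton_generator J).symm⟩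
  have hXJ : (X : k[X]) ^ N₁ ∈ J := by
    rw [hJmem]
    refine ⟨X ^ N₁, hX, ?_⟩
    unfold red
    simp
  have hg0 : g ≠ 0 := by
    rintro rfl
    rw [hg, Ideal.mem_span_singleton, zero_dvd_iff] at hXJ
    exact (pow_ne_zero N₁ X_ne_zero) hXJ
  have hgJ : g ∈ J := by
    rw [hg]
    exact Ideal.mem_span_singleton_self g
  obtain ⟨α₀, hα₀, hα₀g⟩ := (hJmem g).mp hgJ
  obtain ⟨d, hd⟩ : ∃ d : ℕ, d = g.natDegree := ⟨_, rfl⟩
  have hdeg : g.degree = (d : WithBot ℕ) := by rw [hd, degree_eq_natDegree hg0]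
  -- base step
  have base : ∀ s : k[X][X], ∃ r' s' : k[X][X], r'.degree < (d : WithBot ℕ) ∧
      s - r' - C X * s' ∈ 𝔄 := by
    intro s
    have hker : red (s - incl (red s % g) - incl (red s / g) * α₀) = 0 := by
      rw [map_sub, map_sub, map_mul, red_incl, red_incl, hα₀g]
      have := EuclideanDomain.div_add_mod (red s) g
      rw [mul_comm] at this
      rw [sub_sub, add_comm, this, sub_self]
    obtain ⟨s', hs'⟩ := (red_eq_zero_iff _).mp hker
    refine ⟨incl (red s % g), s', ?_, ?_⟩
    · rw [degree_incl, ← hdeg]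
      exact degree_mod_lt _ hg0
    · have : s - incl (red s % g) - C X * s' = incl (red s / g) * α₀ := by
        rw [← hs']
        ring
      rw [this]
      exact Ideal.mul_mem_left _ _ hα₀
  -- iteration
  have iter : ∀ m : ℕ, ∀ p : k[X][X], ∃ r s : k[X][X], r.degree < (d : WithBot ℕ) ∧
      p - r - (C X) ^ m * s ∈ 𝔄 := by
    intro m
    induction m with
    | zero =>
      intro p
      refine ⟨0, p, ?_, ?_⟩
      · rw [degree_zero]
        exact WithBot.bot_lt_coe d
      · rw [pow_zero, one_mul, sub_zero, sub_self]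
        exact 𝔄.zero_mem
    | succ m ih =>
      intro p
      obtain ⟨r, s, hr, hrs⟩ := ih p
      obtain ⟨r', s', hr', hrs'⟩ := base s
      refine ⟨r + (C X) ^ m * r', s', ?_, ?_⟩
      · refine lt_of_le_of_lt (degree_add_le _ _) (max_lt hr ?_)
        rw [← C_pow, ← smul_eq_C_mul]
        exact lt_of_le_of_lt (degree_smul_le _ _) hr'
      · have : p - (r + (C X) ^ m * r') - (C X) ^ (m + 1) * s' =
            (p - r - (C X) ^ m * s) + (C X) ^ m * (s - r' - C X * s') := by
          ring
        rw [this]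
        exact 𝔄.add_mem hrs (Ideal.mul_mem_left _ _ hrs')
  obtain ⟨r, s, hr, hrs⟩ := iter N₂ (X ^ d)
  have hF : (X : k[X][X]) ^ d - r ∈ 𝔄 := by
    have : (X : k[X][X]) ^ d - r = (X ^ d - r - (C X) ^ N₂ * s) + s * (C X) ^ N₂ := by ring
    rw [this]
    exact 𝔄.add_mem hrs (Ideal.mul_mem_left _ _ hY)
  have hrX : r.degree < ((X : k[X][X]) ^ d).degree := by
    rw [degree_X_pow]
    exact hr
  refine ⟨X ^ d - r, hF, (monic_X_pow d).sub_of_left hrX, ?_⟩
  intro r₁ hr₁ hr₁d
  rw [degree_sub_eq_left_of_degree_lt hrX, degree_X_pow] at hr₁d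
  apply (red_eq_zero_iff r₁).mp
  have h1 : red r₁ ∈ J := (hJmem _).mpr ⟨r₁, hr₁, rfl⟩
  rw [hg, Ideal.mem_span_singleton] at h1
  apply eq_zero_of_dvd_of_degree_lt h1
  rw [hdeg]
  exact lt_of_le_of_lt (degree_red_le r₁) hr₁d

/-- A monic polynomial of positive degree in `X` over `k[Y]` has, for each value `c` of `Y`, a
zero `(x₀, c)`. -/
theorem exists_root_mem [IsAlgClosed k] (F : k[X][X]) (hF : F.Monic) (hd : F.natDegree ≠ 0)
    (c : k) : ∃ x₀ : k, F ∈ Ideal.span {(X : k[X][X]) - C (C x₀), C ((X : k[X]) - C c)} := by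
  have hG : (F.map (evalRingHom c)).Monic := hF.map _
  have hGd : (F.map (evalRingHom c)).degree ≠ 0 := by
    rw [degree_eq_natDegree hG.ne_zero, hF.natDegree_map]
    exact_mod_cast hd
  obtain ⟨x₀, hx₀⟩ := IsAlgClosed.exists_root _ hGd
  refine ⟨x₀, ?_⟩
  have h1 : (F.eval (C x₀)).eval c = 0 := by
    have h2 : (F.map (evalRingHom c)).eval ((evalRingHom c) (C x₀)) =
        (evalRingHom c) (F.eval (C x₀)) := by
      rw [eval_map, eval₂_at_apply]
    rw [coe_evalRingHom, eval_C] at h2
    rw [← h2]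
    exact hx₀
  obtain ⟨H', hH'⟩ : (X : k[X]) - C c ∣ F.eval (C x₀) := dvd_iff_isRoot.mpr h1
  obtain ⟨u, hu⟩ : (X : k[X][X]) - C (C x₀) ∣ F - C (F.eval (C x₀)) := X_sub_C_dvd_sub_C_eval
  have : F = u * (X - C (C x₀)) + C H' * C ((X : k[X]) - C c) := by
    rw [← C_mul, mul_comm H', ← hH', mul_comm u, ← hu]
    ring
  rw [this]
  exact Ideal.add_mem _ (Ideal.mul_mem_left _ _ (Ideal.subset_span (by simp)))
    (Ideal.mul_mem_left _ _ (Ideal.subset_span (by simp)))

end Groth.Agent.R2.H51.PullApartP
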