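import Mathlib
import Groth.Agent.R2.H51PullApartP

/-!
# Pulling apart punctual ideals of the plane (helper51)

The generic construction: for a `k`-algebra `A` identified with `k[Y][X]` by `e`, with
`x = e.symm X` and `y = e.symm (C X)`, and an ideal `𝔞` of finite colength whose radical is a maximal
ideal `𝔪` containing `x, y` with `y ∉ 𝔞`, the ideal `𝔞' = (y - t) (𝔞 : y)[t] + (f)` of `A[t]`
(`f ∈ 𝔞` monic in `x` of least degree) is finite flat over `k[t]`, has fibre `𝔞` at `t = 0`, and for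
`c ≠ 0` its fibre lies in `𝔪` and in the ideal of another point `(x₀, c)`.
-/

set_option autoImplicit false
universe u
open Polynomial

namespace Groth.Agent.R2.H51.PullApart

open Groth.Agent.R2.H51.PullApartP

section General

/-- A subring of a finite torsion-free algebra over a PID is finite and flat. -/
theorem flat_finite_of_injective {R M N : Type*} [CommRing R] [IsDomain R]
    [IsPrincipalIdealRing R] [CommRing M] [CommRing N] [Algebra R N] [Module.Finite R N]
    [Module.IsTorsionFree R N] (φ : R →+* M) (ψ : M →+* N) (hψ : Function.Injective ψ)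
    (hcomp : ψ.comp φ = algebraMap R N) : φ.Flat ∧ φ.Finite := by
  letI : Algebra R M := φ.toAlgebra
  have hsmul : ∀ (r : R) (m : M), ψ (r • m) = r • ψ m := by
    intro r m
    rw [Algebra.smul_def, Algebra.smul_def, map_mul, ← hcomp]
    rfl
  let ψₗ : M →ₗ[R] N :=
    { toFun := ψ
      map_add' := map_add ψ
      map_smul' := fun r m => by
        rw [RingHom.id_apply]
        exact hsmul r m }
  have : IsNoetherian R N := isNoetherian_of_isNoetherianRing_of_finite R N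
  have h1 : Module.Finite R M := Module.Finite.of_injective ψₗ hψ
  have h2 : Module.IsTorsionFree R M := Function.Injective.moduleIsTorsionFree ψ hψ hsmul
  have h3 : Module.Flat R M := inferInstance
  exact ⟨h3, h1⟩

/-- Polynomials over a finite flat algebra are finite flat over the polynomial ring. -/
theorem finite_flat_polynomial (k Q : Type u) [CommRing k] [CommRing Q] [Algebra k Q]
    [Module.Finite k Q] [Module.Flat k Q] :
    letI := Polynomial.algebra k Q
    Module.Finite k[X] Q[X] ∧ Module.Flat k[X] Q[X] := by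
  letI := Polynomial.algebra k Q
  have hbc : IsBaseChange k[X] (IsScalarTower.toAlgHom k Q Q[X]).toLinearMap :=
    Algebra.IsPushout.out
  exact ⟨Module.Finite.equiv hbc.equiv, Module.Flat.of_linearEquiv hbc.equiv.symm⟩

end General

section Main

variable {k : Type u} [Field k] {A : Type u} [CommRing A] [Algebra k A]

/-- the colon ideal `(𝔞 : y)` -/
def colon (𝔞 : Ideal A) (y : A) : Ideal A where
  carrier := {b | y * b ∈ 𝔞}
  add_mem' := fun {a b} ha hb => by
    change y * (a + b) ∈ 𝔞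
    rw [mul_add]
    exact 𝔞.add_mem ha hb
  zero_mem' := by
    change y * 0 ∈ 𝔞
    rw [mul_zero]
    exact 𝔞.zero_mem
  smul_mem' := fun c b hb => by
    change y * (c • b) ∈ 𝔞
    rw [smul_eq_mul, mul_left_comm]
    exact 𝔞.mul_mem_left c hb

theorem mem_colon {𝔞 : Ideal A} {y b : A} : b ∈ colon 𝔞 y ↔ y * b ∈ 𝔞 := Iff.rfl

variable (e : A ≃ₐ[k] k[X][X]) (𝔟 : Ideal A) (F : k[X][X])

/-- reduction of the coefficients modulo `𝔟` -/
noncomputable def rho1 : A[X] →+* (A ⧸ 𝔟)[X] := mapRingHom (Ideal.Quotient.mk 𝔟)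

/-- restriction to the line `t = y` followed by reduction modulo `F` -/
noncomputable def rho2 : A[X] →+* AdjoinRoot F :=
  (AdjoinRoot.mk F).comp ((e : A →+* k[X][X]).comp (evalRingHom (e.symm (C X))))

/-- the two reductions together -/
noncomputable def rho : A[X] →+* (A ⧸ 𝔟)[X] × AdjoinRoot F := (rho1 𝔟).prod (rho2 e F)

theorem rho1_eq_zero_iff (h : A[X]) : rho1 𝔟 h = 0 ↔ ∀ n, h.coeff n ∈ 𝔟 := by
  unfold rho1
  rw [coe_mapRingHom, Polynomial.ext_iff]
  refine forall_congr' fun n => ?_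
  rw [coeff_map, coeff_zero, Ideal.Quotient.eq_zero_iff_mem]

theorem rho2_eq_zero_iff (h : A[X]) : rho2 e F h = 0 ↔ e.symm F ∣ h.eval (e.symm (C X)) := by
  unfold rho2
  rw [RingHom.comp_apply, RingHom.comp_apply, AdjoinRoot.mk_eq_zero, coe_evalRingHom]
  have : F = e (e.symm F) := (AlgEquiv.apply_symm_apply e F).symm
  conv_lhs => rw [this]
  exact map_dvd_iff e

theorem mem_ker_rho_iff (hf𝔟 : e.symm F ∈ 𝔟) (h : A[X]) :
    h ∈ RingHom.ker (rho e 𝔟 F) ↔ ∃ u v : A[X], (∀ n, u.coeff n ∈ 𝔟) ∧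
      h = (C (e.symm (C X)) - X) * u + C (e.symm F) * v := by
  rw [RingHom.mem_ker]
  unfold rho
  rw [RingHom.prod_apply, Prod.mk_eq_zero, rho2_eq_zero_iff]
  constructor
  · rintro ⟨h1, w, hw⟩
    obtain ⟨u₀, hu₀⟩ : (X : A[X]) - C (e.symm (C X)) ∣ h - C (h.eval (e.symm (C X))) :=
      X_sub_C_dvd_sub_C_eval
    have h3 : rho1 𝔟 (C (e.symm F * w)) = 0 := by
      rw [rho1_eq_zero_iff]
      intro n
      rw [coeff_C]
      split_ifs
      · exact 𝔟.mul_mem_right _ hf𝔟
      · exact 𝔟.zero_mem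
    have h4 : rho1 𝔟 (X - C (e.symm (C X))) * rho1 𝔟 u₀ = 0 := by
      rw [← map_mul, ← hu₀, map_sub, h1, hw, h3, sub_zero]
    have h5 : rho1 𝔟 (X - C (e.symm (C X))) =
        X - C (Ideal.Quotient.mk 𝔟 (e.symm (C X))) := by
      unfold rho1
      simp
    rw [h5, (monic_X_sub_C _).mul_right_eq_zero_iff, rho1_eq_zero_iff] at h4
    refine ⟨-u₀, C w, fun n => ?_, ?_⟩
    · rw [coeff_neg]
      exact 𝔟.neg_mem (h4 n)
    · rw [hw] at hu₀
      rw [← C_mul]
      linear_combination hu₀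
  · rintro ⟨u, v, hu, rfl⟩
    constructor
    · rw [map_add, map_mul, map_mul, (rho1_eq_zero_iff 𝔟 u).mpr hu, mul_zero, zero_add]
      have : rho1 𝔟 (C (e.symm F)) = 0 := by
        rw [rho1_eq_zero_iff]
        intro n
        rw [coeff_C]
        split_ifs
        · exact hf𝔟
        · exact 𝔟.zero_mem
      rw [this, zero_mul]
    · refine ⟨v.eval (e.symm (C X)), ?_⟩
      simp

theorem main [IsAlgClosed k] (e : A ≃ₐ[k] k[X][X]) (𝔞 𝔪 : Ideal A)
    [Module.Finite k (A ⧸ 𝔞)] (hmax : 𝔪.IsMaximal) (hrad : 𝔞.radical = 𝔪)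
    (hx : e.symm X ∈ 𝔪) (hy : e.symm (C X) ∈ 𝔪) (hy𝔞 : e.symm (C X) ∉ 𝔞) :
    ∃ 𝔞' : Ideal A[X],
      RingHom.Flat ((Ideal.Quotient.mk 𝔞').comp (mapRingHom (algebraMap k A))) ∧
      RingHom.Finite ((Ideal.Quotient.mk 𝔞').comp (mapRingHom (algebraMap k A))) ∧
      Ideal.map (evalRingHom (0 : A)) 𝔞' = 𝔞 ∧
      ∀ c : k, c ≠ 0 →
        Ideal.map (evalRingHom (algebraMap k A c)) 𝔞' ≤ 𝔪 ∧
        ∃ x₀ : k, Ideal.map (evalRingHom (algebraMap k A c)) 𝔞' ≤
          Ideal.span {e.symm X - algebraMap k A x₀, e.symm (C X) - algebraMap k A c} := by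
  classical
  obtain ⟨x, hxdef⟩ : ∃ x : A, x = e.symm X := ⟨_, rfl⟩
  obtain ⟨y, hydef⟩ : ∃ y : A, y = e.symm (C X) := ⟨_, rfl⟩
  rw [← hxdef] at hx
  rw [← hydef] at hy hy𝔞
  have h𝔞𝔪 : 𝔞 ≤ 𝔪 := by
    rw [← hrad]
    exact Ideal.le_radical
  -- powers of `x` and `y` lie in `𝔞`
  obtain ⟨N₁, hN₁⟩ : ∃ n : ℕ, x ^ n ∈ 𝔞 := by
    have : x ∈ 𝔞.radical := by rw [hrad]; exact hx
    exact this
  obtain ⟨N₂, hN₂⟩ : ∃ n : ℕ, y ^ n ∈ 𝔞 := by
    have : y ∈ 𝔞.radical := by rw [hrad]; exact hy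
    exact this
  -- the monic element
  obtain ⟨F, hF𝔄, hFm, hFprop⟩ := exists_monic (𝔞.comap (e.symm : k[X][X] →+* A)) N₁ N₂
    (by
      rw [Ideal.mem_comap, map_pow]
      change (e.symm X) ^ N₁ ∈ 𝔞
      rw [← hxdef]
      exact hN₁)
    (by
      rw [Ideal.mem_comap, map_pow]
      change (e.symm (C X)) ^ N₂ ∈ 𝔞
      rw [← hydef]
      exact hN₂)
  obtain ⟨f, hfdef⟩ : ∃ f : A, f = e.symm F := ⟨_, rfl⟩
  have hf𝔞 : f ∈ 𝔞 := by
    rw [hfdef]
    exact hF𝔄
  -- decomposition of elements of `𝔞`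
  have hdec : ∀ a ∈ 𝔞, ∃ q b : A, a = f * q + y * b ∧ y * b ∈ 𝔞 := by
    intro a ha
    have hdiv : e.symm (e a %ₘ F) = a - f * e.symm (e a /ₘ F) := by
      have h' := congrArg e.symm (modByMonic_add_div (e a) F)
      rw [map_add, map_mul, AlgEquiv.symm_apply_apply, ← hfdef] at h'
      exact eq_sub_of_add_eq h'
    have hr𝔄 : e a %ₘ F ∈ 𝔞.comap (e.symm : k[X][X] →+* A) := by
      rw [Ideal.mem_comap]
      change e.symm (e a %ₘ F) ∈ 𝔞
      rw [hdiv]
      exact 𝔞.sub_mem ha (𝔞.mul_mem_right _ hf𝔞)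
    obtain ⟨r', hr'⟩ := hFprop _ hr𝔄 (degree_modByMonic_lt _ hFm)
    have hyb : y * e.symm r' = e.symm (e a %ₘ F) := by
      rw [hr', map_mul, ← hydef]
    refine ⟨e.symm (e a /ₘ F), e.symm r', ?_, ?_⟩
    · rw [hyb, hdiv]
      ring
    · rw [hyb, hdiv]
      exact 𝔞.sub_mem ha (𝔞.mul_mem_right _ hf𝔞)
  -- the colon ideal
  obtain ⟨𝔟, h𝔟def⟩ : ∃ 𝔟 : Ideal A, 𝔟 = colon 𝔞 y := ⟨_, rfl⟩
  have hmem𝔟 : ∀ b, b ∈ 𝔟 ↔ y * b ∈ 𝔞 := by
    intro b
    rw [h𝔟def]
    exact mem_colon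
  have h𝔞𝔟 : 𝔞 ≤ 𝔟 := fun b hb => (hmem𝔟 b).mpr (𝔞.mul_mem_left y hb)
  have hf𝔟 : e.symm F ∈ 𝔟 := by
    rw [← hfdef]
    exact h𝔞𝔟 hf𝔞
  have h𝔟top : 𝔟 ≠ ⊤ := by
    intro h
    have h1 : (1 : A) ∈ 𝔟 := by rw [h]; trivial
    rw [hmem𝔟, mul_one] at h1
    exact hy𝔞 h1
  have h𝔟𝔪 : 𝔟 ≤ 𝔪 := by
    have h1 : 𝔪 ≤ 𝔟.radical := by
      rw [← hrad]
      exact Ideal.radical_mono h𝔞𝔟
    have h2 : 𝔟.radical ≠ ⊤ := by
      rw [Ne, Ideal.radical_eq_top]
      exact h𝔟top
    have h3 : 𝔪 = 𝔟.radical := hmax.eq_of_le h2 h1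
    rw [h3]
    exact Ideal.le_radical
  -- description of the kernel
  have hker := mem_ker_rho_iff e 𝔟 F hf𝔟
  rw [← hydef, ← hfdef] at hker
  have hu_eval : ∀ u : A[X], (∀ n, u.coeff n ∈ 𝔟) → ∀ z : A, u.eval z ∈ 𝔟 := by
    intro u hu z
    rw [eval_eq_sum_range]
    exact Ideal.sum_mem _ (fun n _ => 𝔟.mul_mem_right _ (hu n))
  have key : RingHom.Flat ((Ideal.Quotient.mk (RingHom.ker (rho e 𝔟 F))).comp
        (mapRingHom (algebraMap k A))) ∧
      RingHom.Finite ((Ideal.Quotient.mk (RingHom.ker (rho e 𝔟 F))).comp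
        (mapRingHom (algebraMap k A))) := by
    haveI hQfin : Module.Finite k (A ⧸ 𝔟) :=
      Module.Finite.of_surjective (Ideal.Quotient.factorₐ k h𝔞𝔟).toLinearMap
        (Ideal.Quotient.factor_surjective h𝔞𝔟)
    letI alg1 : Algebra k[X] (A ⧸ 𝔟)[X] := Polynomial.algebra k (A ⧸ 𝔟)
    obtain ⟨hfin1, hflat1⟩ := finite_flat_polynomial k (A ⧸ 𝔟)
    haveI : Module.Finite k[X] (A ⧸ 𝔟)[X] := hfin1
    haveI : Module.Flat k[X] (A ⧸ 𝔟)[X] := hflat1
    haveI hfin2 : Module.Finite k[X] (AdjoinRoot F) := hFm.finite_adjoinRoot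
    haveI hfree2 : Module.Free k[X] (AdjoinRoot F) := hFm.free_adjoinRoot
    have h1q : ∀ q : k[X], rho1 𝔟 (q.map (algebraMap k A)) =
        algebraMap k[X] (A ⧸ 𝔟)[X] q := by
      intro q
      unfold rho1
      rw [coe_mapRingHom, Polynomial.map_map]
      rfl
    have h2C : ∀ a : k, rho2 e F (C (algebraMap k A a)) = AdjoinRoot.of F (C a) := by
      intro a
      unfold rho2
      rw [RingHom.comp_apply, RingHom.comp_apply, coe_evalRingHom, eval_C]
      change AdjoinRoot.mk F (e (algebraMap k A a)) = _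
      rw [AlgEquiv.commutes]
      change AdjoinRoot.mk F (C (C a)) = _
      rw [AdjoinRoot.mk_C]
    have h2X : rho2 e F X = AdjoinRoot.of F X := by
      unfold rho2
      rw [RingHom.comp_apply, RingHom.comp_apply, coe_evalRingHom, eval_X]
      change AdjoinRoot.mk F (e (e.symm (C X))) = _
      rw [AlgEquiv.apply_symm_apply, AdjoinRoot.mk_C]
    have h2q : (rho2 e F).comp (mapRingHom (algebraMap k A)) =
        algebraMap k[X] (AdjoinRoot F) := by
      rw [AdjoinRoot.algebraMap_eq]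
      apply Polynomial.ringHom_ext
      · intro a
        rw [RingHom.comp_apply, coe_mapRingHom, map_C]
        exact h2C a
      · rw [RingHom.comp_apply, coe_mapRingHom, map_X]
        exact h2X
    have hcomp : (RingHom.kerLift (rho e 𝔟 F)).comp
        ((Ideal.Quotient.mk (RingHom.ker (rho e 𝔟 F))).comp
        (mapRingHom (algebraMap k A))) = algebraMap k[X] ((A ⧸ 𝔟)[X] × AdjoinRoot F) := by
      apply RingHom.ext
      intro q
      rw [RingHom.comp_apply, RingHom.comp_apply, RingHom.kerLift_mk, coe_mapRingHom]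
      apply Prod.ext
      · change rho1 𝔟 (q.map (algebraMap k A)) = algebraMap k[X] (A ⧸ 𝔟)[X] q
        exact h1q q
      · change rho2 e F (q.map (algebraMap k A)) = algebraMap k[X] (AdjoinRoot F) q
        rw [← h2q, RingHom.comp_apply, coe_mapRingHom]
    exact flat_finite_of_injective
      ((Ideal.Quotient.mk (RingHom.ker (rho e 𝔟 F))).comp (mapRingHom (algebraMap k A)))
      (RingHom.kerLift (rho e 𝔟 F)) (RingHom.kerLift_injective _) hcomp
  refine ⟨RingHom.ker (rho e 𝔟 F), key.1, key.2, ?_, ?_⟩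
  · -- fibre at `0`
    apply le_antisymm
    · rw [Ideal.map_le_iff_le_comap]
      intro h hh
      obtain ⟨u, v, hu, rfl⟩ := (hker h).mp hh
      rw [Ideal.mem_comap]
      simp only [coe_evalRingHom, eval_add, eval_mul, eval_sub, eval_C, eval_X, sub_zero]
      have hu0 : eval 0 u ∈ 𝔟 := hu_eval u hu 0
      exact 𝔞.add_mem ((hmem𝔟 _).mp hu0) (𝔞.mul_mem_right _ hf𝔞)
    · intro a ha
      obtain ⟨q, b, rfl, hb⟩ := hdec a ha
      have hmem : (C y - X) * C b + C f * C q ∈ RingHom.ker (rho e 𝔟 F) := by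
        refine (hker _).mpr ⟨C b, C q, fun n => ?_, rfl⟩
        rw [coeff_C]
        split_ifs
        · exact (hmem𝔟 b).mpr hb
        · exact 𝔟.zero_mem
      have h2 := Ideal.mem_map_of_mem (evalRingHom (0 : A)) hmem
      simp only [coe_evalRingHom, eval_add, eval_mul, eval_sub, eval_C, eval_X, sub_zero] at h2
      rw [add_comm]
      exact h2
  · -- fibres at `c ≠ 0`
    intro c hc
    have hd : F.natDegree ≠ 0 := by
      intro h0
      have hF1 : F = 1 := eq_one_of_monic_natDegree_zero hFm h0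
      have : (1 : A) ∈ 𝔞 := by
        have h1 : f = 1 := by rw [hfdef, hF1, map_one]
        rw [← h1]
        exact hf𝔞
      exact hy𝔞 (by
        have := 𝔞.mul_mem_left y this
        rwa [mul_one] at this)
    constructor
    · rw [Ideal.map_le_iff_le_comap]
      intro h hh
      obtain ⟨u, v, hu, rfl⟩ := (hker h).mp hh
      rw [Ideal.mem_comap]
      simp only [coe_evalRingHom, eval_add, eval_mul, eval_sub, eval_C, eval_X]
      exact 𝔪.add_mem (𝔪.mul_mem_left _ (h𝔟𝔪 (hu_eval u hu _)))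
        (𝔪.mul_mem_right _ (h𝔞𝔪 hf𝔞))
    · obtain ⟨x₀, hx₀⟩ := exists_root_mem F hFm hd c
      refine ⟨x₀, ?_⟩
      have hfspan : f ∈ Ideal.span {x - algebraMap k A x₀, y - algebraMap k A c} := by
        rw [Ideal.mem_span_pair] at hx₀ ⊢
        obtain ⟨p, q, hpq⟩ := hx₀
        refine ⟨e.symm p, e.symm q, ?_⟩
        have h1 : e.symm (C (C x₀)) = algebraMap k A x₀ := by
          have : (C (C x₀) : k[X][X]) = algebraMap k k[X][X] x₀ := rfl
          rw [this, AlgEquiv.commutes]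
        have h2 : e.symm (C ((X : k[X]) - C c)) = y - algebraMap k A c := by
          have : (C (C c) : k[X][X]) = algebraMap k k[X][X] c := rfl
          rw [C_sub, map_sub, ← hydef, this, AlgEquiv.commutes]
        have h3 : e.symm ((X : k[X][X]) - C (C x₀)) = x - algebraMap k A x₀ := by
          rw [map_sub, ← hxdef, h1]
        rw [hfdef, ← hpq, map_add, map_mul, map_mul, h3, h2]
      rw [← hxdef, ← hydef, Ideal.map_le_iff_le_comap]
      intro h hh
      obtain ⟨u, v, hu, rfl⟩ := (hker h).mp hh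
      rw [Ideal.mem_comap]
      simp only [coe_evalRingHom, eval_add, eval_mul, eval_sub, eval_C, eval_X]
      exact Ideal.add_mem _ (Ideal.mul_mem_right _ _ (Ideal.subset_span (by simp)))
        (Ideal.mul_mem_right _ _ hfspan)

end Main

end Groth.Agent.R2.H51.PullApart
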