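import Mathlib
import Groth.Agent.R2.H51PullApart

/-!
# Pulling apart punctual ideals of the plane: the case of `MvPolynomial (Fin 2) k` (helper51)
-/

set_option autoImplicit false
universe u
open scoped Polynomial

namespace Groth.Agent.R2.H51.PullApartMv

variable (k : Type u) [Field k]

/-- `MvPolynomial (Fin 2) k → k[Y][X]`, `X i ↦ X`, the other variable to `Y`. -/
noncomputable def toP (i : Fin 2) : MvPolynomial (Fin 2) k →ₐ[k] k[X][X] :=
  MvPolynomial.aeval (fun n : Fin 2 => if n = i then (Polynomial.X : k[X][X])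
    else Polynomial.C (Polynomial.X : k[X]))

/-- `k[Y][X] → MvPolynomial (Fin 2) k`, `X ↦ X i`, `Y ↦ X j`. -/
noncomputable def ofP (i j : Fin 2) : k[X][X] →+* MvPolynomial (Fin 2) k :=
  Polynomial.eval₂RingHom
    (Polynomial.aeval (MvPolynomial.X j : MvPolynomial (Fin 2) k) :
      k[X] →ₐ[k] MvPolynomial (Fin 2) k).toRingHom (MvPolynomial.X i)

variable {k}

theorem ofP_X (i j : Fin 2) : ofP k i j Polynomial.X = MvPolynomial.X i := by
  unfold ofP
  simp

theorem ofP_C_X (i j : Fin 2) : ofP k i j (Polynomial.C Polynomial.X) = MvPolynomial.X j := by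
  unfold ofP
  simp

theorem ofP_C_C (i j : Fin 2) (c : k) :
    ofP k i j (Polynomial.C (Polynomial.C c)) = MvPolynomial.C c := by
  unfold ofP
  simp

theorem toP_X_left (i : Fin 2) : toP k i (MvPolynomial.X i) = Polynomial.X := by
  unfold toP
  simp

theorem toP_X_right (i j : Fin 2) (hij : j ≠ i) :
    toP k i (MvPolynomial.X j) = Polynomial.C Polynomial.X := by
  unfold toP
  simp [hij]

theorem ofP_toP (i j : Fin 2) (hij : j ≠ i) (hall : ∀ n : Fin 2, n = i ∨ n = j)
    (a : MvPolynomial (Fin 2) k) : ofP k i j (toP k i a) = a := by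
  have h : (ofP k i j).comp (toP k i : MvPolynomial (Fin 2) k →+* k[X][X]) =
      RingHom.id _ := by
    apply MvPolynomial.ringHom_ext
    · intro c
      rw [RingHom.comp_apply, RingHom.id_apply]
      change ofP k i j (toP k i (MvPolynomial.C c)) = _
      have : toP k i (MvPolynomial.C c) = Polynomial.C (Polynomial.C c) := by
        unfold toP
        simp
      rw [this, ofP_C_C]
    · intro n
      rw [RingHom.comp_apply, RingHom.id_apply]
      change ofP k i j (toP k i (MvPolynomial.X n)) = _
      rcases hall n with rfl | rfl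
      · rw [toP_X_left, ofP_X]
      · rw [toP_X_right _ _ hij, ofP_C_X]
  exact congrFun (congrArg DFunLike.coe h) a

theorem toP_ofP (i j : Fin 2) (hij : j ≠ i) (p : k[X][X]) : toP k i (ofP k i j p) = p := by
  have h : (toP k i : MvPolynomial (Fin 2) k →+* k[X][X]).comp (ofP k i j) = RingHom.id _ := by
    apply Polynomial.ringHom_ext
    · intro a
      rw [RingHom.comp_apply, RingHom.id_apply]
      change toP k i (ofP k i j (Polynomial.C a)) = _
      have h2 : ((toP k i : MvPolynomial (Fin 2) k →+* k[X][X]).comp (ofP k i j)).comp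
          (Polynomial.C : k[X] →+* k[X][X]) = (Polynomial.C : k[X] →+* k[X][X]) := by
        apply Polynomial.ringHom_ext
        · intro c
          rw [RingHom.comp_apply, RingHom.comp_apply]
          change toP k i (ofP k i j (Polynomial.C (Polynomial.C c))) = _
          rw [ofP_C_C]
          unfold toP
          simp
        · rw [RingHom.comp_apply, RingHom.comp_apply]
          change toP k i (ofP k i j (Polynomial.C Polynomial.X)) = _
          rw [ofP_C_X, toP_X_right _ _ hij]
      exact congrFun (congrArg DFunLike.coe h2) a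
    · rw [RingHom.comp_apply, RingHom.id_apply]
      change toP k i (ofP k i j Polynomial.X) = _
      rw [ofP_X, toP_X_left]
  exact congrFun (congrArg DFunLike.coe h) p

/-- the identification of the plane with `k[Y][X]`, with `X i ↦ X` and `X j ↦ Y` -/
noncomputable def planeEquiv (i j : Fin 2) (hij : j ≠ i) (hall : ∀ n : Fin 2, n = i ∨ n = j) :
    MvPolynomial (Fin 2) k ≃ₐ[k] k[X][X] :=
  { toP k i with
    invFun := ofP k i j
    left_inv := ofP_toP i j hij hall
    right_inv := toP_ofP i j hij }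

theorem planeEquiv_symm_apply (i j : Fin 2) (hij : j ≠ i) (hall : ∀ n : Fin 2, n = i ∨ n = j)
    (p : k[X][X]) : (planeEquiv i j hij hall).symm p = ofP k i j p := rfl

theorem sub_C_constantCoeff_mem (a : MvPolynomial (Fin 2) k) :
    a - MvPolynomial.C (MvPolynomial.constantCoeff a) ∈
      Ideal.span ({MvPolynomial.X 0, MvPolynomial.X 1} : Set (MvPolynomial (Fin 2) k)) := by
  induction a using MvPolynomial.induction_on with
  | C c =>
    rw [MvPolynomial.constantCoeff_C, sub_self]
    exact Ideal.zero_mem _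
  | add p q hp hq =>
    rw [map_add, map_add]
    have : p + q - (MvPolynomial.C (MvPolynomial.constantCoeff p) +
        MvPolynomial.C (MvPolynomial.constantCoeff q)) =
        (p - MvPolynomial.C (MvPolynomial.constantCoeff p)) +
        (q - MvPolynomial.C (MvPolynomial.constantCoeff q)) := by ring
    rw [this]
    exact Ideal.add_mem _ hp hq
  | mul_X p n _ =>
    rw [map_mul, MvPolynomial.constantCoeff_X, mul_zero, map_zero, sub_zero]
    apply Ideal.mul_mem_left
    apply Ideal.subset_span
    fin_cases n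
    · left; rfl
    · right; rfl

theorem span_eq_ker :
    Ideal.span ({MvPolynomial.X 0, MvPolynomial.X 1} : Set (MvPolynomial (Fin 2) k)) =
      RingHom.ker (MvPolynomial.constantCoeff : MvPolynomial (Fin 2) k →+* k) := by
  apply le_antisymm
  · rw [Ideal.span_le]
    intro a ha
    rcases ha with rfl | rfl
    · rw [SetLike.mem_coe, RingHom.mem_ker]
      exact MvPolynomial.constantCoeff_X _ _
    · rw [SetLike.mem_coe, RingHom.mem_ker]
      exact MvPolynomial.constantCoeff_X _ _
  · intro a ha
    rw [RingHom.mem_ker] at ha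
    have := sub_C_constantCoeff_mem a
    rwa [ha, map_zero, sub_zero] at this

theorem isMaximal_span :
    (Ideal.span ({MvPolynomial.X 0, MvPolynomial.X 1} :
      Set (MvPolynomial (Fin 2) k))).IsMaximal := by
  rw [span_eq_ker]
  apply RingHom.ker_isMaximal_of_surjective
  intro c
  exact ⟨MvPolynomial.C c, MvPolynomial.constantCoeff_C _ c⟩

theorem finrank_quot_le_one (𝔞 : Ideal (MvPolynomial (Fin 2) k))
    (h0 : MvPolynomial.X 0 ∈ 𝔞) (h1 : MvPolynomial.X 1 ∈ 𝔞) :
    Module.finrank k (MvPolynomial (Fin 2) k ⧸ 𝔞) ≤ 1 := by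
  apply _root_.finrank_le_one (1 : MvPolynomial (Fin 2) k ⧸ 𝔞)
  intro w
  obtain ⟨a, rfl⟩ := Ideal.Quotient.mk_surjective w
  refine ⟨MvPolynomial.constantCoeff a, ?_⟩
  have hle : Ideal.span ({MvPolynomial.X 0, MvPolynomial.X 1} :
      Set (MvPolynomial (Fin 2) k)) ≤ 𝔞 := by
    rw [Ideal.span_le]
    intro b hb
    rcases hb with rfl | rfl
    · exact h0
    · exact h1
  have h2 := hle (sub_C_constantCoeff_mem a)
  rw [← Ideal.Quotient.eq_zero_iff_mem, map_sub, sub_eq_zero] at h2
  rw [h2, ← Algebra.algebraMap_eq_smul_one]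
  rfl

/-- The main theorem for the plane. -/
theorem main [IsAlgClosed k] (𝔞 : Ideal (MvPolynomial (Fin 2) k))
    [Module.Finite k (MvPolynomial (Fin 2) k ⧸ 𝔞)]
    (hn : 2 ≤ Module.finrank k (MvPolynomial (Fin 2) k ⧸ 𝔞))
    (hsupp : 𝔞.radical = Ideal.span {MvPolynomial.X 0, MvPolynomial.X 1}) :
    ∃ 𝔞' : Ideal (MvPolynomial (Fin 2) k)[X],
      RingHom.Flat (R := k[X]) (S := (MvPolynomial (Fin 2) k)[X] ⧸ 𝔞')
        ((Ideal.Quotient.mk 𝔞').comp
          (Polynomial.mapRingHom (algebraMap k (MvPolynomial (Fin 2) k)))) ∧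
      RingHom.Finite (A := k[X]) (B := (MvPolynomial (Fin 2) k)[X] ⧸ 𝔞')
        ((Ideal.Quotient.mk 𝔞').comp
          (Polynomial.mapRingHom (algebraMap k (MvPolynomial (Fin 2) k)))) ∧
      Ideal.map (Polynomial.evalRingHom (0 : MvPolynomial (Fin 2) k)) 𝔞' = 𝔞 ∧
      ∀ c : k, c ≠ 0 →
        Ideal.map (Polynomial.evalRingHom (MvPolynomial.C c)) 𝔞' ≤
          Ideal.span {MvPolynomial.X 0, MvPolynomial.X 1} ∧
        ∃ p : Fin 2 → k, p ≠ 0 ∧
          Ideal.map (Polynomial.evalRingHom (MvPolynomial.C c)) 𝔞' ≤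
            Ideal.span (Set.range (fun i : Fin 2 => MvPolynomial.X i - MvPolynomial.C (p i))) := by
  have hall01 : ∀ n : Fin 2, n = 0 ∨ n = 1 := by
    intro n
    fin_cases n
    · left; rfl
    · right; rfl
  have hall10 : ∀ n : Fin 2, n = 1 ∨ n = 0 := fun n => (hall01 n).symm
  by_cases h1 : (MvPolynomial.X 1 : MvPolynomial (Fin 2) k) ∈ 𝔞
  · by_cases h0 : (MvPolynomial.X 0 : MvPolynomial (Fin 2) k) ∈ 𝔞
    · exfalso
      have := finrank_quot_le_one 𝔞 h0 h1
      omega
    · -- split along `X 0`
      obtain ⟨𝔞', hflat, hfin, hfib, hc⟩ := PullApart.main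
        (planeEquiv (k := k) 1 0 (by decide) hall10) 𝔞 _ isMaximal_span hsupp
        (by rw [planeEquiv_symm_apply, ofP_X]; exact Ideal.subset_span (by simp))
        (by rw [planeEquiv_symm_apply, ofP_C_X]; exact Ideal.subset_span (by simp))
        (by rw [planeEquiv_symm_apply, ofP_C_X]; exact h0)
      refine ⟨𝔞', hflat, hfin, hfib, fun c hc0 => ?_⟩
      obtain ⟨hm, x₀, hx₀⟩ := hc c hc0
      refine ⟨hm, ![c, x₀], ?_, ?_⟩
      · intro h
        have := congrFun h 0
        simp at this
        exact hc0 this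
      · refine le_trans hx₀ ?_
        rw [planeEquiv_symm_apply, planeEquiv_symm_apply, ofP_X, ofP_C_X, Ideal.span_le]
        intro b hb
        rcases hb with rfl | rfl
        · exact Ideal.subset_span ⟨1, by simp⟩
        · exact Ideal.subset_span ⟨0, by simp⟩
  · -- split along `X 1`
    obtain ⟨𝔞', hflat, hfin, hfib, hc⟩ := PullApart.main
      (planeEquiv (k := k) 0 1 (by decide) hall01) 𝔞 _ isMaximal_span hsupp
      (by rw [planeEquiv_symm_apply, ofP_X]; exact Ideal.subset_span (by simp))
      (by rw [planeEquiv_symm_apply, ofP_C_X]; exact Ideal.subset_span (by simp))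
      (by rw [planeEquiv_symm_apply, ofP_C_X]; exact h1)
    refine ⟨𝔞', hflat, hfin, hfib, fun c hc0 => ?_⟩
    obtain ⟨hm, x₀, hx₀⟩ := hc c hc0
    refine ⟨hm, ![x₀, c], ?_, ?_⟩
    · intro h
      have := congrFun h 1
      simp at this
      exact hc0 this
    · refine le_trans hx₀ ?_
      rw [planeEquiv_symm_apply, planeEquiv_symm_apply, ofP_X, ofP_C_X, Ideal.span_le]
      intro b hb
      rcases hb with rfl | rfl
      · exact Ideal.subset_span ⟨0, by simp⟩
      · exact Ideal.subset_span ⟨1, by simp⟩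

end Groth.Agent.R2.H51.PullApartMv
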