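/-
helper51: consumers of the rigidity lemma (helper34, `R2/H34Rigidity*`) and of S2393
(`R2/H51StructIsoGeo.exists_nhd_isIso_app`) for group-valued morphisms (Mumford GIT 6.4 and its corollary):

* `isPullback_fiber_baseChange`, `h0_baseChange`: the condition `κ(s) ≅ Γ(X_s, O)` for all `s` is stable under
  base change (flat base change of global sections along the residue field extension);
* `hO_of_h0`: `h0` ⇒ `O_S ≅ p_* O_X` locally (S2393) and nonempty fibres;
* `exists_section_mul`: `f g : X ⟶ G` agreeing on one fibre differ by a section of `G`;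
* `exists_factor_product`: `f : X ×_S Y ⟶ G` is `(g ∘ p₁) · (h ∘ p₂)`.
-/
import Mathlib
import Groth.Prelude.Def_ega3
import Groth.Agent.R2.H34RigidityFib
import Groth.Agent.R2.H51StructIsoGeo

set_option autoImplicit false
set_option linter.style.haveILetI false
universe u
open CategoryTheory CategoryTheory.Limits AlgebraicGeometry TopologicalSpace Opposite
  MonoidalCategory CartesianMonoidalCategory MonObj GrpObj

namespace Groth.Agent.R2.H51.RigidityGrp

/-- the fibres of a base change are base changes of the fibres -/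
theorem isPullback_fiber_baseChange {X S T : Scheme.{u}} (p : X ⟶ S) (b : T ⟶ S) (t : T) :
    IsPullback
      (pullback.lift (pullback.fst (pullback.snd p b) (T.fromSpecResidueField t) ≫ pullback.fst p b)
        (pullback.snd (pullback.snd p b) (T.fromSpecResidueField t) ≫ Spec.map (b.residueFieldMap t))
        (by
          rw [Category.assoc, Category.assoc, Scheme.Hom.SpecMap_residueFieldMap_fromSpecResidueField,
            pullback.condition, ← Category.assoc, pullback.condition, Category.assoc]))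
      (pullback.snd (pullback.snd p b) (T.fromSpecResidueField t))
      (pullback.snd p (S.fromSpecResidueField (b t)))
      (Spec.map (b.residueFieldMap t)) := by
  have hbig : IsPullback
      (pullback.fst (pullback.snd p b) (T.fromSpecResidueField t) ≫ pullback.fst p b)
      (pullback.snd (pullback.snd p b) (T.fromSpecResidueField t)) p
      (T.fromSpecResidueField t ≫ b) :=
    (IsPullback.of_hasPullback (pullback.snd p b) (T.fromSpecResidueField t)).paste_horiz
      (IsPullback.of_hasPullback p b)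
  refine IsPullback.of_right ?_ (pullback.lift_snd _ _ _)
    (IsPullback.of_hasPullback p (S.fromSpecResidueField (b t)))
  rw [pullback.lift_fst, Scheme.Hom.SpecMap_residueFieldMap_fromSpecResidueField]
  exact hbig

theorem appLE_top_top {X Y : Scheme.{u}} (f : X ⟶ Y) (h : (⊤ : X.Opens) ≤ f ⁻¹ᵁ ⊤) :
    f.appLE ⊤ ⊤ h = f.appTop :=
  f.appLE_eq_app (U := ⊤)

/-- the condition `κ(s) ≅ Γ(X_s, O)` for all `s` is stable under base change -/
theorem h0_baseChange {X S T : Scheme.{u}} (p : X ⟶ S) (b : T ⟶ S) [QuasiCompact p]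
    [QuasiSeparated p]
    (h0 : ∀ s : S, Function.Bijective (pullback.snd p (S.fromSpecResidueField s)).appTop) (t : T) :
    Function.Bijective (pullback.snd (pullback.snd p b) (T.fromSpecResidueField t)).appTop := by
  have H := isPullback_fiber_baseChange p b t
  haveI : Flat (Spec.map (b.residueFieldMap t)) := by
    rw [Flat.SpecMap_iff]
    algebraize [(b.residueFieldMap t).hom]
    exact (inferInstance : Module.Flat (S.residueField (b t)) (T.residueField t))
  haveI : CompactSpace ↥(pullback p (S.fromSpecResidueField (b t))) :=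
    QuasiCompact.compactSpace_of_compactSpace (pullback.snd p (S.fromSpecResidueField (b t)))
  haveI : QuasiSeparatedSpace ↥(pullback p (S.fromSpecResidueField (b t))) :=
    quasiSeparatedSpace_of_quasiSeparated
      (pullback.snd p (S.fromSpecResidueField (b t)))
  have hiso := isIso_pushoutSection_of_isQuasiSeparated_of_flat_right H (US := ⊤) (UT := ⊤)
    (UX := ⊤) (UY := ⊤) le_top le_top (by simp) (isAffineOpen_top _) (isAffineOpen_top _)
    isCompact_univ isQuasiSeparated_univ
  have hpo := (isIso_pushoutSection_iff ..).1 hiso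
  haveI : IsIso ((pullback.snd p (S.fromSpecResidueField (b t))).appLE ⊤ ⊤ le_top) := by
    rw [appLE_top_top]
    exact (ConcreteCategory.isIso_iff_bijective _).2 (h0 (b t))
  have h1 := hpo.isIso_inr_of_isIso
  rw [appLE_top_top] at h1
  exact (ConcreteCategory.isIso_iff_bijective _).1 h1

open Groth.Agent.R2.H34.Rigidity in
/-- `κ(s) ≅ Γ(X_s, O)` for all `s` (in `appTop` form) gives `O_S ≅ p_* O_X` locally and nonempty fibres -/
theorem hO_of_h0 {X S : Scheme.{u}} (p : X ⟶ S) [IsProper p] [Flat p] [IsLocallyNoetherian S]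
    (h0 : ∀ s : S, Function.Bijective (pullback.snd p (S.fromSpecResidueField s)).appTop) :
    (∀ s : S, ∃ U : S.Opens, s ∈ U ∧ ∀ V : S.Opens, V ≤ U → IsIso (p.app V)) ∧
      ∀ s : S, Nonempty (p.fiber s) :=
  ⟨fun s => Groth.Agent.R2.H51.StructIsoGeo.exists_nhd_isIso_app p s
      (bijective_algebraMap_of_bijective_appTop p s (h0 s)),
    fun s => nonempty_fiber_of_bijective p s (bijective_algebraMap_of_bijective_appTop p s (h0 s))⟩

/-- rigidity for group-valued morphisms: two morphisms `f g : X ⟶ G` agreeing on one fibre differ by a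
section of `G` (with `O_S ≅ p_* O_X` locally as hypothesis). -/
theorem exists_section_mul (S : Scheme.{u}) [IsLocallyNoetherian S] [ConnectedSpace S]
    (X G : Over S) [GrpObj G] [IsSeparated G.hom] [IsProper X.hom] [Flat X.hom]
    (hO : ∀ s : S, ∃ U : S.Opens, s ∈ U ∧ ∀ V : S.Opens, V ≤ U → IsIso (X.hom.app V))
    (hne : ∀ s : S, Nonempty (X.hom.fiber s))
    (f g : X ⟶ G) (s : S)
    (hs : pullback.fst X.hom (S.fromSpecResidueField s) ≫ f.left =
      pullback.fst X.hom (S.fromSpecResidueField s) ≫ g.left) :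
    ∃ t : 𝟙_ (Over S) ⟶ G, f = (toUnit X ≫ t) * g := by
  let φ : X ⟶ G := f * g⁻¹
  -- the fibre, as an object over `S`
  let Xs : Over S := Over.mk (pullback.fst X.hom (S.fromSpecResidueField s) ≫ X.hom)
  let ι' : Xs ⟶ X := Over.homMk (pullback.fst X.hom (S.fromSpecResidueField s)) rfl
  have h1 : ι' ≫ f = ι' ≫ g := Over.OverMorphism.ext hs
  have h2 : ι' ≫ φ = toUnit Xs ≫ η[G] := by
    change ι' ≫ (f * g⁻¹) = _
    rw [MonObj.comp_mul, GrpObj.comp_inv, h1, mul_inv_cancel, Hom.one_def]
  have h3 : pullback.fst X.hom (S.fromSpecResidueField s) ≫ φ.left =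
      (pullback.fst X.hom (S.fromSpecResidueField s) ≫ X.hom) ≫ (η[G] : 𝟙_ (Over S) ⟶ G).left := by
    have h := congrArg (fun m => m.left) h2
    simp only [Over.comp_left, Over.toUnit_left] at h
    exact h
  have hcol : ∀ x x' : X.left, X.hom x = s → X.hom x' = s → φ.left x = φ.left x' := by
    refine Groth.Agent.R2.H34.Rigidity.collapsed_of_fiber_factor X.hom φ.left s
      ⟨S.fromSpecResidueField s ≫ (η[G] : 𝟙_ (Over S) ⟶ G).left, ?_⟩
    change pullback.fst X.hom (S.fromSpecResidueField s) ≫ φ.left =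
      pullback.snd X.hom (S.fromSpecResidueField s) ≫ _
    rw [h3, pullback.condition, Category.assoc]
  obtain ⟨σ, hσ1, hσ2⟩ := Groth.Agent.R2.H34.Rigidity.factors_of_fibre_constant X.hom hO hne G.hom
    φ.left (Over.w φ) s hcol
  let t : 𝟙_ (Over S) ⟶ G := Over.homMk σ (by simpa using hσ1)
  refine ⟨t, ?_⟩
  have h4 : φ = toUnit X ≫ t := by
    apply Over.OverMorphism.ext
    simpa [t] using hσ2
  rw [← h4]
  change f = f * g⁻¹ * g
  rw [inv_mul_cancel_right]

open Groth.Agent.R2.H34.Rigidity in
/-- morphisms from a product to a group factor as a product (rigidity over the base `Y`) -/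
theorem exists_factor_product
    (S : Scheme.{u})
    (X Y G : Over S) [GrpObj G] [IsSeparated G.hom] [IsProper X.hom] [Flat X.hom]
    (h0 : ∀ s : S, Function.Bijective (pullback.snd X.hom (S.fromSpecResidueField s)).appTop)
    [IsLocallyNoetherian Y.left] [ConnectedSpace Y.left] (e : 𝟙_ (Over S) ⟶ Y)
    (f : X ⊗ Y ⟶ G) :
    ∃ (g : X ⟶ G) (h : Y ⟶ G), f = (fst X Y ≫ g) * (snd X Y ≫ h) := by
  let p' : (X ⊗ Y).left ⟶ Y.left := (snd X Y).left
  let j : X ⟶ X ⊗ Y := lift (𝟙 X) (toUnit X ≫ e)
  let g : X ⟶ G := j ≫ f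
  let ψ : X ⊗ Y ⟶ G := (fst X Y ≫ g)⁻¹ * f
  have hjψ : j ≫ ψ = toUnit X ≫ η[G] := by
    change j ≫ ((fst X Y ≫ g)⁻¹ * f) = _
    rw [MonObj.comp_mul, GrpObj.comp_inv, ← Category.assoc, lift_fst, Category.id_comp]
    change g⁻¹ * g = _
    rw [inv_mul_cancel, Hom.one_def]
  let q' : (G ⊗ Y).left ⟶ Y.left := (snd G Y).left
  let F : (X ⊗ Y).left ⟶ (G ⊗ Y).left := (lift ψ (snd X Y)).left
  have hF : F ≫ q' = p' := by
    change (lift ψ (snd X Y)).left ≫ (snd G Y).left = (snd X Y).left
    rw [← Over.comp_left, lift_snd]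
  haveI : IsProper p' := by
    change IsProper (pullback.snd X.hom Y.hom); infer_instance
  haveI : Flat p' := by
    change Flat (pullback.snd X.hom Y.hom); infer_instance
  haveI : IsSeparated q' := by
    change IsSeparated (pullback.snd G.hom Y.hom); infer_instance
  have h0' : ∀ y : Y.left,
      Function.Bijective (pullback.snd p' (Y.left.fromSpecResidueField y)).appTop :=
    fun y => h0_baseChange X.hom Y.hom h0 y
  have hO' := fun y => Groth.Agent.R2.H51.StructIsoGeo.exists_nhd_isIso_app p' y (bijective_algebraMap_of_bijective_appTop p' y (h0' y))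
  have hne' := fun y => nonempty_fiber_of_bijective p' y
    (bijective_algebraMap_of_bijective_appTop p' y (h0' y))
  obtain ⟨y₁⟩ : Nonempty Y.left := inferInstance
  let s₀ : S := Y.hom y₁
  let y₀ : Y.left := e.left s₀
  have he : e.left ≫ Y.hom = 𝟙 S := Over.w e
  have hjp : j.left ≫ p' = X.hom ≫ e.left := by
    change j.left ≫ (snd X Y).left = _
    rw [← Over.comp_left, lift_snd, Over.comp_left, Over.toUnit_left]
  have hjf : j.left ≫ (fst X Y).left = 𝟙 X.left := by
    rw [← Over.comp_left, lift_fst, Over.id_left]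
  have hpb : IsPullback j.left X.hom p' e.left := by
    refine IsPullback.of_right ?_ hjp (IsPullback.of_hasPullback X.hom Y.hom)
    have hjf' : j.left ≫ pullback.fst X.hom Y.hom = 𝟙 X.left := hjf
    rw [hjf', he]
    exact IsPullback.id_horiz X.hom
  have hjF : j.left ≫ F = X.hom ≫ (lift η[G] e).left := by
    change j.left ≫ (lift ψ (snd X Y)).left = _
    rw [← Over.comp_left, comp_lift, hjψ, lift_snd, ← comp_lift, Over.comp_left, Over.toUnit_left]
  have hcol : ∀ z z' : (X ⊗ Y).left, p' z = y₀ → p' z' = y₀ → F z = F z' := by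
    have key : ∀ z : (X ⊗ Y).left, p' z = y₀ → F z = (lift η[G] e).left s₀ := by
      intro z hz
      obtain ⟨w, hw1, hw2⟩ := Scheme.Pullback.exists_preimage_pullback (f := p') (g := e.left)
        z s₀ hz
      let x : X.left := hpb.isoPullback.inv w
      have hx1 : j.left x = z := by
        rw [← hw1, ← Scheme.Hom.comp_apply, hpb.isoPullback_inv_fst]
      have hx2 : X.hom x = s₀ := by
        rw [← hw2, ← Scheme.Hom.comp_apply, hpb.isoPullback_inv_snd]
      rw [← hx1, ← Scheme.Hom.comp_apply, hjF, Scheme.Hom.comp_apply, hx2]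
    intro z z' hz hz'
    rw [key z hz, key z' hz']
  obtain ⟨σ, hσ1, hσ2⟩ := factors_of_fibre_constant p' hO' hne' q' F hF y₀ hcol
  have hσG : (σ ≫ (fst G Y).left) ≫ G.hom = Y.hom := by
    have h1 : (fst G Y).left ≫ G.hom = (snd G Y).left ≫ Y.hom := by
      rw [Over.w, Over.w]
    rw [Category.assoc, h1, ← Category.assoc]
    change (σ ≫ q') ≫ Y.hom = _
    rw [hσ1, Category.id_comp]
  let h : Y ⟶ G := Over.homMk (σ ≫ (fst G Y).left) hσG
  refine ⟨g, h, ?_⟩
  have hψ : ψ = snd X Y ≫ h := by
    apply Over.OverMorphism.ext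
    have h1 : ψ.left = F ≫ (fst G Y).left := by
      change ψ.left = (lift ψ (snd X Y)).left ≫ (fst G Y).left
      rw [← Over.comp_left, lift_fst]
    rw [h1, hσ2, Over.comp_left, Category.assoc]
    rfl
  rw [← hψ]
  change f = (fst X Y ≫ g) * ((fst X Y ≫ g)⁻¹ * f)
  rw [mul_inv_cancel_left]

end Groth.Agent.R2.H51.RigidityGrp
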