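import Groth.Agent.R2.H51ClosedAct
import Groth.Agent.Lib.Helper12Cart
import Mathlib.AlgebraicGeometry.Morphisms.Separated
import Mathlib.AlgebraicGeometry.Morphisms.Immersion

/-!
# A geometric quotient is separated iff the action is separated (helper51)
-/

set_option autoImplicit false
universe u
open CategoryTheory MonoidalCategory CartesianMonoidalCategory MonObj GrpObj AlgebraicGeometry Topology
open Limits

namespace Groth.Agent.R2.H51.SepQuot

section Cart

variable {C : Type*} [Category C] [CartesianMonoidalCategory C]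

/-- The graph of `φ` is the base change of the diagonal along `Y ◁ φ`. -/
theorem isPullback_graph {X Y : C} (φ : X ⟶ Y) :
    IsPullback φ (lift φ (𝟙 X)) (lift (𝟙 Y) (𝟙 Y)) (Y ◁ φ) := by
  refine ⟨⟨?_⟩, ⟨PullbackCone.IsLimit.mk _ (fun s => s.snd ≫ snd Y X) ?_ ?_ ?_⟩⟩
  · apply CartesianMonoidalCategory.hom_ext <;> simp
  · intro s
    have h := congrArg (fun m => m ≫ snd Y Y) s.condition
    simp only [Category.assoc, lift_snd, Category.comp_id, whiskerLeft_snd] at h
    rw [Category.assoc]
    exact h.symm
  · intro s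
    have h1 := congrArg (fun m => m ≫ snd Y Y) s.condition
    have h2 := congrArg (fun m => m ≫ fst Y Y) s.condition
    simp only [Category.assoc, lift_snd, lift_fst, Category.comp_id, whiskerLeft_snd,
      whiskerLeft_fst] at h1 h2
    apply CartesianMonoidalCategory.hom_ext
    · rw [Category.assoc, lift_fst, Category.assoc, ← h1, h2]
    · rw [Category.assoc, lift_snd, Category.comp_id]
  · intro s m _ h2
    rw [← h2, Category.assoc, lift_snd, Category.comp_id]

end Cart

variable {S : Scheme.{u}} {G : Over S} [GrpObj G] {X Y : Over S}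

/-- the diagonal of `Y` over `S` -/
noncomputable def diag (Y : Over S) : Y ⟶ Y ⊗ Y := lift (𝟙 Y) (𝟙 Y)

theorem diag_left (Y : Over S) : (diag Y).left = pullback.diagonal Y.hom := rfl

theorem isSeparated_iff_isClosed_range_diag (Y : Over S) :
    IsSeparated Y.hom ↔ IsClosed (Set.range (diag Y).left.base) := by
  rw [diag_left]
  constructor
  · intro h
    exact (pullback.diagonal Y.hom).isClosedEmbedding.isClosed_range
  · intro h
    exact ⟨IsClosedImmersion.of_isPreimmersion _ h⟩

theorem range_graph_eq (φ : X ⟶ Y) :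
    Set.range (ClosedAct.graph φ (𝟙 X)).left.base =
      (Y ◁ φ).left.base ⁻¹' (Set.range (diag Y).left.base) := by
  have sq := (isPullback_graph φ).map (Over.forget S)
  have h := Scheme.image_preimage_eq_of_isPullback sq Set.univ
  simp only [Set.preimage_univ, Set.image_univ] at h
  have hg : ClosedAct.graph φ (𝟙 X) = lift φ (𝟙 X) := by
    unfold ClosedAct.graph
    rw [Category.id_comp]
  rw [hg]
  exact h

theorem isQuotientMap_whiskerRight (φ : X ⟶ Y) (hsub : GIT.IsUnivSubmersive φ.left) (Z : Over S) :
    IsQuotientMap (φ ▷ Z).left.base :=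
  hsub _ _ _ ((Groth.Agent.Lib.Helper12.isPullback_whiskerRight Z φ).map (Over.forget S))

theorem isQuotientMap_whiskerLeft (φ : X ⟶ Y) (hsub : GIT.IsUnivSubmersive φ.left) (Z : Over S) :
    IsQuotientMap (Z ◁ φ).left.base :=
  hsub _ _ _ ((Groth.Agent.Lib.Helper12.isPullback_whiskerLeft Z φ).map (Over.forget S))

theorem isSeparated_iff (a : AlgGrp.Action G X) (φ : X ⟶ Y) (h : GIT.IsGeomQuot a φ) :
    IsSeparated Y.hom ↔ IsClosed (Set.range (GIT.psi a (𝟙 X)).left.base) := by
  rw [ClosedAct.range_psi_eq a φ h.inv h.orbit (𝟙 X),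
    (isQuotientMap_whiskerRight φ h.subm X).isClosed_preimage, range_graph_eq,
    (isQuotientMap_whiskerLeft φ h.subm Y).isClosed_preimage, isSeparated_iff_isClosed_range_diag]

end Groth.Agent.R2.H51.SepQuot
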