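import Mathlib
import Groth.Agent.Lib.Helper6SmRegSch3
import Groth.Agent.Lib.Helper22ThickAffine
import Groth.Agent.Lib.Helper2Deform

/-!
# Deformations of a smooth affine scheme over a local Artin algebra are trivial (helper51)
-/

set_option autoImplicit false
universe u
open CategoryTheory Limits AlgebraicGeometry

namespace Groth.Agent.R2.H51.TrivDef

section Ring

/-- ring-level retraction from formal smoothness -/
theorem exists_retraction {K B B' : Type u} [CommRing K] [CommRing B] [CommRing B']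
    (α : K →+* B) (α' : K →+* B') (π : B' →+* B) (hπα : π.comp α' = α) (hsm : α.Smooth)
    (hπ : Function.Surjective π) (hnil : IsNilpotent (RingHom.ker π)) :
    ∃ ρ : B →+* B', π.comp ρ = RingHom.id B ∧ ρ.comp α = α' := by
  letI : Algebra K B := α.toAlgebra
  letI : Algebra K B' := α'.toAlgebra
  have hsm' : Algebra.Smooth K B := hsm
  have : Algebra.FormallySmooth K B := hsm'.formallySmooth
  let πa : B' →ₐ[K] B :=
    { π with commutes' := fun c => congrFun (congrArg DFunLike.coe hπα) c }
  have hπa : Function.Surjective πa := hπ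
  have hnil' : IsNilpotent (RingHom.ker (πa : B' →+* B)) := hnil
  refine ⟨(Algebra.FormallySmooth.liftOfSurjective (AlgHom.id K B) πa hπa hnil').toRingHom,
    ?_, ?_⟩
  · ext b
    exact Algebra.FormallySmooth.liftOfSurjective_apply (AlgHom.id K B) πa hπa hnil' b
  · ext c
    exact (Algebra.FormallySmooth.liftOfSurjective (AlgHom.id K B) πa hπa hnil').commutes c

end Ring

section Thick

variable {k : Type u} [Field k] {A : Type u} [CommRing A] [IsLocalRing A] [IsArtinianRing A]
  [Algebra k A] (e : A →ₐ[k] k)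

theorem e_surjective : Function.Surjective e := fun c => ⟨algebraMap k A c, by simp⟩

theorem isNilpotent_ker : IsNilpotent (RingHom.ker e.toRingHom) := by
  have hle : RingHom.ker e.toRingHom ≤ IsLocalRing.maximalIdeal A :=
    IsLocalRing.le_maximalIdeal (RingHom.ker_ne_top _)
  obtain ⟨n, hn⟩ := IsArtinianRing.isNilpotent_jacobson_bot (R := A)
  rw [IsLocalRing.jacobson_eq_maximalIdeal ⊥ bot_ne_top] at hn
  refine ⟨n, ?_⟩
  have h1 := Ideal.pow_right_mono hle n
  rw [hn] at h1
  exact le_bot_iff.mp h1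

theorem e_comp_algebraMap :
    CommRingCat.ofHom (algebraMap k A) ≫ CommRingCat.ofHom e.toRingHom = 𝟙 (CommRingCat.of k) := by
  ext c
  simp

theorem isFiniteOrderThickening :
    MoreMor.IsFiniteOrderThickening (Spec.map (CommRingCat.ofHom e.toRingHom)) := by
  refine ⟨⟨IsClosedImmersion.spec_of_surjective _ (e_surjective e), ⟨fun x => ?_⟩⟩, ?_⟩
  · haveI : Subsingleton (Spec (CommRingCat.of A)) :=
      inferInstanceAs (Subsingleton (PrimeSpectrum A))
    haveI : Inhabited (Spec (CommRingCat.of k)) := inferInstanceAs (Inhabited (PrimeSpectrum k))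
    exact ⟨default, Subsingleton.elim _ _⟩
  · rw [Scheme.ker_of_isAffine, ← Scheme.IdealSheafData.equivOfIsAffine_symm_apply]
    apply IsNilpotent.map
    obtain ⟨n, hn⟩ := isNilpotent_ker e
    refine ⟨n, ?_⟩
    rw [Ideal.zero_eq_bot] at hn ⊢
    have hinjk : Function.Injective (Scheme.ΓSpecIso (CommRingCat.of k)).hom.hom :=
      (ConcreteCategory.bijective_of_isIso (Scheme.ΓSpecIso (CommRingCat.of k)).hom).1
    have hinjA : Function.Injective (Scheme.ΓSpecIso (CommRingCat.of A)).hom.hom :=
      (ConcreteCategory.bijective_of_isIso (Scheme.ΓSpecIso (CommRingCat.of A)).hom).1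
    have hker : RingHom.ker (Spec.map (CommRingCat.ofHom e.toRingHom)).appTop.hom =
        Ideal.comap (Scheme.ΓSpecIso (CommRingCat.of A)).hom.hom (RingHom.ker e.toRingHom) := by
      ext x
      rw [RingHom.mem_ker, Ideal.mem_comap, RingHom.mem_ker]
      have hnat := Scheme.ΓSpecIso_naturality (CommRingCat.ofHom e.toRingHom)
      have h1 := congrArg (fun f => f.hom x) hnat
      simp only [CommRingCat.hom_comp, RingHom.comp_apply] at h1
      constructor
      · intro h
        rw [h, map_zero] at h1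
        exact h1.symm
      · intro h
        apply hinjk
        rw [map_zero, h1]
        exact h
    rw [hker, eq_bot_iff]
    calc Ideal.comap (Scheme.ΓSpecIso (CommRingCat.of A)).hom.hom (RingHom.ker e.toRingHom) ^ n
        ≤ Ideal.comap (Scheme.ΓSpecIso (CommRingCat.of A)).hom.hom
            (RingHom.ker e.toRingHom ^ n) := Ideal.le_comap_pow _ n
      _ = ⊥ := by
        rw [hn, ← RingHom.ker_eq_comap_bot]
        exact (RingHom.injective_iff_ker_eq_bot _).mp hinjA

end Thick

section Main

open Groth.Agent.Lib.Helper2.Thick Groth.Agent.Lib.Helper2.Deform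

variable {k : Type u} [Field k] [IsAlgClosed k]

theorem main (X : Scheme.{u}) (hX : X ⟶ Spec (CommRingCat.of k)) [IsAffine X]
    [LocallyOfFiniteType hX] (hreg : ∀ x : X, IsRegularLocalRing (X.presheaf.stalk x))
    (A : Type u) [CommRing A] [IsLocalRing A] [IsArtinianRing A] [Algebra k A] (e : A →ₐ[k] k)
    (X' : Scheme.{u}) (g : X' ⟶ Spec (CommRingCat.of A)) [Flat g] (i : X ⟶ X')
    (hsq : IsPullback i hX g (Spec.map (CommRingCat.ofHom e.toRingHom))) :
    ∃ φ : X' ≅ Limits.pullback hX (Spec.map (CommRingCat.ofHom (algebraMap k A))),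
      φ.hom ≫ Limits.pullback.snd hX (Spec.map (CommRingCat.ofHom (algebraMap k A))) = g := by
  -- smoothness of `X`
  have hlfp : LocallyOfFinitePresentation hX :=
    LocallyOfFinitePresentation.iff_locallyOfFiniteType.mpr inferInstance
  have hsmooth : Smooth hX := by
    rw [← Scheme.Hom.smoothLocus_eq_top_iff, ← top_le_iff]
    rintro x -
    exact (Groth.Agent.Lib.Helper6.SmRegSch3.mem_smoothLocus_iff_isRegularLocalRing k X hX x).mpr
      (hreg x)
  -- thickenings
  have hS := isFiniteOrderThickening e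
  have hi : MoreMor.IsFiniteOrderThickening i := fthick_baseChange i _ hX g hS hsq
  have hci : IsClosedImmersion i := hi.1.1
  have hsi : Surjective i := hi.1.2
  have hX'aff : IsAffine X' :=
    Groth.Agent.Lib.Helper22.ThickAffine.isAffine_of_thickening i hsi.surj
  -- the structure morphism of `X'` over `k`
  obtain ⟨G, hG⟩ : ∃ G : X' ⟶ Spec (CommRingCat.of k),
      G = g ≫ Spec.map (CommRingCat.ofHom (algebraMap k A)) := ⟨_, rfl⟩
  have hiG : i ≫ G = hX := by
    rw [hG, ← Category.assoc, hsq.w, Category.assoc, ← Spec.map_comp, e_comp_algebraMap,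
      Spec.map_id, Category.comp_id]
  -- ring-level data
  have hαsm : hX.appTop.hom.Smooth := (HasRingHomProperty.iff_of_isAffine (P := @Smooth)).mp hsmooth
  have hπ : Function.Surjective i.appTop.hom := i.app_surjective ⊤ (isAffineOpen_top X')
  have hnil : IsNilpotent (RingHom.ker i.appTop.hom) := by
    obtain ⟨n, hn⟩ := hi.2
    refine ⟨n, ?_⟩
    have := congr(($hn).ideal ⟨⊤, isAffineOpen_top X'⟩)
    rw [Ideal.zero_eq_bot]
    change RingHom.ker (i.app ⊤).hom ^ n = ⊥
    simpa using this
  obtain ⟨ρ, hρ1, hρ2⟩ := exists_retraction hX.appTop.hom G.appTop.hom i.appTop.hom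
    (by rw [← CommRingCat.hom_comp, ← Scheme.Hom.comp_appTop, hiG]) hαsm hπ hnil
  -- the retraction
  obtain ⟨r, hr⟩ : ∃ r : X' ⟶ X,
      r = X'.toSpecΓ ≫ Spec.map (CommRingCat.ofHom ρ) ≫ X.isoSpec.inv := ⟨_, rfl⟩
  have hρ1' : CommRingCat.ofHom ρ ≫ i.appTop = 𝟙 _ := by
    ext b
    exact congrFun (congrArg DFunLike.coe hρ1) b
  have hρ2' : hX.appTop ≫ CommRingCat.ofHom ρ = G.appTop := by
    ext c
    exact congrFun (congrArg DFunLike.coe hρ2) c
  have hir : i ≫ r = 𝟙 X := by
    rw [hr, ← Category.assoc, Scheme.toSpecΓ_naturality, Category.assoc, ← Category.assoc (Spec.map _),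
      ← Spec.map_comp, hρ1', Spec.map_id]
    exact (congrArg (X.toSpecΓ ≫ ·) (Category.id_comp _)).trans (Scheme.toSpecΓ_isoSpec_inv X)
  have hrG : r ≫ hX = G := by
    have h1 : Spec.map hX.appTop ≫ (Spec (CommRingCat.of k)).isoSpec.inv = X.isoSpec.inv ≫ hX :=
      Scheme.isoSpec_inv_naturality hX
    have h2 : Spec.map G.appTop ≫ (Spec (CommRingCat.of k)).isoSpec.inv = X'.isoSpec.inv ≫ G :=
      Scheme.isoSpec_inv_naturality G
    have h3 : G = X'.toSpecΓ ≫ Spec.map G.appTop ≫ (Spec (CommRingCat.of k)).isoSpec.inv := by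
      rw [h2, ← Category.assoc]
      have : X'.toSpecΓ ≫ X'.isoSpec.inv = 𝟙 X' := Scheme.toSpecΓ_isoSpec_inv X'
      rw [this, Category.id_comp]
    rw [hr, Category.assoc, Category.assoc, ← h1, ← Category.assoc (Spec.map _), ← Spec.map_comp,
      hρ2']
    exact h3.symm
  -- the comparison morphism
  have hrG' : r ≫ hX = g ≫ Spec.map (CommRingCat.ofHom (algebraMap k A)) := by rw [hrG, hG]
  obtain ⟨f', hf'1, hf'2⟩ : ∃ f' : X' ⟶ pullback hX (Spec.map (CommRingCat.ofHom (algebraMap k A))),
      f' ≫ pullback.fst _ _ = r ∧ f' ≫ pullback.snd _ _ = g :=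
    ⟨pullback.lift r g hrG', pullback.lift_fst _ _ _, pullback.lift_snd _ _ _⟩
  have hiY : 𝟙 X ≫ hX = (hX ≫ Spec.map (CommRingCat.ofHom e.toRingHom)) ≫
      Spec.map (CommRingCat.ofHom (algebraMap k A)) := by
    rw [Category.assoc, ← Spec.map_comp, e_comp_algebraMap, Spec.map_id, Category.comp_id,
      Category.id_comp]
  obtain ⟨iY, hiY1, hiY2⟩ : ∃ iY : X ⟶ pullback hX (Spec.map (CommRingCat.ofHom (algebraMap k A))),
      iY ≫ pullback.fst _ _ = 𝟙 X ∧
      iY ≫ pullback.snd _ _ = hX ≫ Spec.map (CommRingCat.ofHom e.toRingHom) :=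
    ⟨pullback.lift (𝟙 X) (hX ≫ Spec.map (CommRingCat.ofHom e.toRingHom)) hiY,
      pullback.lift_fst _ _ _, pullback.lift_snd _ _ _⟩
  have hcY : IsPullback iY hX (pullback.snd hX (Spec.map (CommRingCat.ofHom (algebraMap k A))))
      (Spec.map (CommRingCat.ofHom e.toRingHom)) := by
    have hright : IsPullback (pullback.fst hX (Spec.map (CommRingCat.ofHom (algebraMap k A))))
        (pullback.snd hX (Spec.map (CommRingCat.ofHom (algebraMap k A)))) hX
        (Spec.map (CommRingCat.ofHom (algebraMap k A))) := IsPullback.of_hasPullback _ _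
    have houter : IsPullback (iY ≫ pullback.fst hX (Spec.map (CommRingCat.ofHom (algebraMap k A))))
        hX hX (Spec.map (CommRingCat.ofHom e.toRingHom) ≫
          Spec.map (CommRingCat.ofHom (algebraMap k A))) := by
      rw [hiY1, ← Spec.map_comp, e_comp_algebraMap, Spec.map_id]
      exact IsPullback.of_horiz_isIso ⟨by rw [Category.id_comp, Category.comp_id]⟩
    exact IsPullback.of_right houter hiY2 hright
  have hw : i ≫ f' = 𝟙 X ≫ iY := by
    rw [Category.id_comp]
    apply pullback.hom_ext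
    · rw [Category.assoc, hf'1, hir, hiY1]
    · rw [Category.assoc, hf'2, hsq.w, hiY2]
  have hcX : IsPullback i (𝟙 X ≫ hX)
      (f' ≫ pullback.snd hX (Spec.map (CommRingCat.ofHom (algebraMap k A))))
      (Spec.map (CommRingCat.ofHom e.toRingHom)) := by
    rw [Category.id_comp, hf'2]
    exact hsq
  haveI : Flat (f' ≫ pullback.snd hX (Spec.map (CommRingCat.ofHom (algebraMap k A)))) := by
    rw [hf'2]
    infer_instance
  have hiso : IsIso f' := isIso_of_deform i iY (Spec.map (CommRingCat.ofHom e.toRingHom)) (𝟙 X) f'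
    hX (pullback.snd hX (Spec.map (CommRingCat.ofHom (algebraMap k A)))) hS hcX hcY hw
  exact ⟨asIso f', hf'2⟩

end Main

end Groth.Agent.R2.H51.TrivDef
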