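import Mathlib

/-!
# helper52: lifting bounded above acyclic complexes along `R → R/I` for a class `Pc` of projectives
(Stacks 15.75, first lemma; statement S7012)
-/

set_option autoImplicit false
universe u

namespace Groth.Agent.R2.H52.AcycLift

open CategoryTheory CategoryTheory.Limits TensorProduct
open scoped ChangeOfRings

section Mk

variable {A : Type*} [CommRing A] (I : Ideal A) (P : Type*) [AddCommGroup P] [Module A P]

theorem mk_one_eq : TensorProduct.mk A (A ⧸ I) P 1 =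
    (quotTensorEquivQuotSMul P I).symm.toLinearMap ∘ₗ (I • (⊤ : Submodule A P)).mkQ :=
  (quotTensorEquivQuotSMul_symm_comp_mkQ I).symm

theorem mk_one_surjective : Function.Surjective (TensorProduct.mk A (A ⧸ I) P 1) := by
  rw [mk_one_eq]
  exact (quotTensorEquivQuotSMul P I).symm.surjective.comp (Submodule.mkQ_surjective _)

theorem ker_mk_one : LinearMap.ker (TensorProduct.mk A (A ⧸ I) P 1) = I • (⊤ : Submodule A P) := by
  rw [mk_one_eq, LinearMap.ker_comp, LinearEquiv.ker, Submodule.comap_bot, Submodule.ker_mkQ]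

theorem exists_one_tmul (t : (A ⧸ I) ⊗[A] P) : ∃ p : P, (1 : A ⧸ I) ⊗ₜ[A] p = t :=
  mk_one_surjective I P t

theorem mem_smul_of_one_tmul_eq_zero (p : P) (h : (1 : A ⧸ I) ⊗ₜ[A] p = 0) :
    p ∈ I • (⊤ : Submodule A P) := by
  rw [← ker_mk_one]
  exact h

theorem one_tmul_eq_zero_of_mem (p : P) (h : p ∈ I • (⊤ : Submodule A P)) :
    (1 : A ⧸ I) ⊗ₜ[A] p = 0 := by
  rw [← ker_mk_one] at h
  exact h

end Mk

section Step

variable {R : Type u} [CommRing R] (I : Ideal R)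

/-- The inductive step, in terms of modules. -/
theorem step_aux (X Q' : Type u) [AddCommGroup X] [Module R X] [AddCommGroup Q'] [Module R Q']
    [Module.Projective R X] [Module.Projective R Q']
    (E Z' : Type u) [AddCommGroup E] [Module (R ⧸ I) E] [AddCommGroup Z'] [Module (R ⧸ I) Z']
    (ψ : (R ⧸ I) ⊗[R] X ≃ₗ[R ⧸ I] E) (θ : (R ⧸ I) ⊗[R] Q' ≃ₗ[R ⧸ I] Z')
    (d' : E →ₗ[R ⧸ I] Z') (hd' : Function.Surjective d')
    (h3 : ∀ f : X →ₗ[R] Q', LinearMap.range f ⊔ I • (⊤ : Submodule R Q') = ⊤ →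
      Function.Surjective f) :
    ∃ φ : X →ₗ[R] Q', Function.Surjective φ ∧
      Nonempty (X ≃ₗ[R] Q' × LinearMap.ker φ) ∧
      Nonempty ((R ⧸ I) ⊗[R] (LinearMap.ker φ) ≃ₗ[R ⧸ I] LinearMap.ker d') := by
  classical
  let g : (R ⧸ I) ⊗[R] X →ₗ[R ⧸ I] (R ⧸ I) ⊗[R] Q' :=
    θ.symm.toLinearMap ∘ₗ d' ∘ₗ ψ.toLinearMap
  have hg : Function.Surjective g :=
    θ.symm.surjective.comp (hd'.comp ψ.surjective)
  let mkX : X →ₗ[R] (R ⧸ I) ⊗[R] X := TensorProduct.mk R (R ⧸ I) X 1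
  let mkQ : Q' →ₗ[R] (R ⧸ I) ⊗[R] Q' := TensorProduct.mk R (R ⧸ I) Q' 1
  obtain ⟨φ, hφ⟩ := Module.projective_lifting_property mkQ ((g.restrictScalars R) ∘ₗ mkX)
    (mk_one_surjective I Q')
  have hφ' : ∀ x : X, (1 : R ⧸ I) ⊗ₜ[R] φ x = g ((1 : R ⧸ I) ⊗ₜ[R] x) := fun x =>
    LinearMap.congr_fun hφ x
  have hcompat : ∀ x : X, θ ((1 : R ⧸ I) ⊗ₜ[R] φ x) = d' (ψ ((1 : R ⧸ I) ⊗ₜ[R] x)) := by
    intro x
    rw [hφ' x]
    simp [g]
  -- surjective modulo I
  have hmod : LinearMap.range φ ⊔ I • (⊤ : Submodule R Q') = ⊤ := by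
    rw [eq_top_iff]
    intro q _
    obtain ⟨t, ht⟩ := hg ((1 : R ⧸ I) ⊗ₜ[R] q)
    obtain ⟨x, rfl⟩ := exists_one_tmul I X t
    have h0 : (1 : R ⧸ I) ⊗ₜ[R] (q - φ x) = 0 := by
      rw [TensorProduct.tmul_sub, hφ' x, ht, sub_self]
    have h1 := mem_smul_of_one_tmul_eq_zero I Q' _ h0
    have : q = φ x + (q - φ x) := by abel
    rw [this]
    exact Submodule.add_mem_sup (LinearMap.mem_range_self φ x) h1
  have hφs : Function.Surjective φ := h3 φ hmod
  obtain ⟨s, hs⟩ := Module.projective_lifting_property φ LinearMap.id hφs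
  have hs' : ∀ q, φ (s q) = q := fun q => LinearMap.congr_fun hs q
  -- retraction onto the kernel
  let ρ : X →ₗ[R] LinearMap.ker φ :=
    LinearMap.codRestrict (LinearMap.ker φ) (LinearMap.id - s ∘ₗ φ) (by
      intro x
      simp [LinearMap.mem_ker, hs'])
  have hρ : ∀ x : X, ((ρ x : LinearMap.ker φ) : X) = x - s (φ x) := fun x => rfl
  let ι : LinearMap.ker φ →ₗ[R] X := (LinearMap.ker φ).subtype
  have hρι : ρ ∘ₗ ι = LinearMap.id := by
    ext k
    have hk : φ (k : X) = 0 := k.2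
    simp [ι, hρ, hk]
  refine ⟨φ, hφs, ⟨?_⟩, ⟨?_⟩⟩
  · exact
      { toFun := fun x => (φ x, ρ x)
        map_add' := fun x y => by simp
        map_smul' := fun r x => by simp
        invFun := fun p => s p.1 + (p.2 : X)
        left_inv := fun x => by simp [hρ]
        right_inv := fun p => by
          obtain ⟨q, k⟩ := p
          have hk : φ (k : X) = 0 := k.2
          ext
          · simp [hs', hk]
          · simp [hρ, hs', hk] }
  · -- the isomorphism on reductions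
    let F0 : (R ⧸ I) ⊗[R] (LinearMap.ker φ) →ₗ[R ⧸ I] E :=
      ψ.toLinearMap ∘ₗ (ι.baseChange (R ⧸ I))
    have hF0 : ∀ t, F0 t ∈ LinearMap.ker d' := by
      intro t
      obtain ⟨k, rfl⟩ := exists_one_tmul I _ t
      have hk : φ (k : X) = 0 := k.2
      rw [LinearMap.mem_ker]
      show d' (ψ ((ι.baseChange (R ⧸ I)) ((1 : R ⧸ I) ⊗ₜ[R] k))) = 0
      rw [LinearMap.baseChange_tmul, ← hcompat]
      show θ ((1 : R ⧸ I) ⊗ₜ[R] φ (k : X)) = 0
      rw [hk, TensorProduct.tmul_zero, map_zero]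
    let F : (R ⧸ I) ⊗[R] (LinearMap.ker φ) →ₗ[R ⧸ I] LinearMap.ker d' :=
      LinearMap.codRestrict (LinearMap.ker d') F0 hF0
    refine LinearEquiv.ofBijective F ⟨?_, ?_⟩
    · -- injective
      rw [← LinearMap.ker_eq_bot, LinearMap.ker_eq_bot']
      intro t ht
      have h1 : F0 t = 0 := congrArg Subtype.val ht
      have h2 : (ι.baseChange (R ⧸ I)) t = 0 := by
        have : ψ ((ι.baseChange (R ⧸ I)) t) = 0 := h1
        exact ψ.map_eq_zero_iff.1 this
      have h3' : (ρ.baseChange (R ⧸ I)) ((ι.baseChange (R ⧸ I)) t) = t := by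
        rw [← LinearMap.comp_apply, ← LinearMap.baseChange_comp, hρι, LinearMap.baseChange_id]
        rfl
      rw [← h3', h2, map_zero]
    · -- surjective
      intro z
      obtain ⟨x, hx⟩ := exists_one_tmul I X (ψ.symm (z : E))
      have hz : d' (z : E) = 0 := z.2
      have h1 : θ ((1 : R ⧸ I) ⊗ₜ[R] φ x) = 0 := by
        rw [hcompat, hx, LinearEquiv.apply_symm_apply, hz]
      have h2 : (1 : R ⧸ I) ⊗ₜ[R] φ x = 0 := θ.map_eq_zero_iff.1 h1
      have h3' : (1 : R ⧸ I) ⊗ₜ[R] s (φ x) = 0 := by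
        have := congrArg (s.baseChange (R ⧸ I)) h2
        rwa [LinearMap.baseChange_tmul, map_zero] at this
      refine ⟨(1 : R ⧸ I) ⊗ₜ[R] ρ x, ?_⟩
      apply Subtype.ext
      show ψ ((ι.baseChange (R ⧸ I)) ((1 : R ⧸ I) ⊗ₜ[R] ρ x)) = (z : E)
      rw [LinearMap.baseChange_tmul]
      show ψ ((1 : R ⧸ I) ⊗ₜ[R] ((ρ x : LinearMap.ker φ) : X)) = (z : E)
      rw [hρ, TensorProduct.tmul_sub, h3', sub_zero, hx, LinearEquiv.apply_symm_apply]

end Step

section Red

theorem one_tmul_surj' {R S : Type*} [CommRing R] [CommRing S] (f : R →+* S)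
    (hf : Function.Surjective f) (M : Type*) [AddCommGroup M] [Module R M] :
    letI := Module.compHom S f
    ∀ z : TensorProduct R S M, ∃ m : M, (1 : S) ⊗ₜ[R] m = z := by
  letI := Module.compHom S f
  intro z
  induction z using TensorProduct.induction_on with
  | zero => exact ⟨0, TensorProduct.tmul_zero _ _⟩
  | tmul s m =>
    obtain ⟨a, rfl⟩ := hf s
    refine ⟨a • m, ?_⟩
    rw [← TensorProduct.smul_tmul]
    congr 1
    exact mul_one _
  | add s t hs ht =>
    obtain ⟨s, rfl⟩ := hs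
    obtain ⟨t, rfl⟩ := ht
    exact ⟨s + t, TensorProduct.tmul_add _ _ _⟩

variable {R S : Type u} [CommRing R] [CommRing S] (f : R →+* S)

theorem unit_eq_zero_of_mem (M : ModuleCat.{u} R) (m : M)
    (hm : m ∈ RingHom.ker f • (⊤ : Submodule R M)) :
    ((ModuleCat.extendRestrictScalarsAdj.{u,u,u} f).unit.app M).hom m = 0 := by
  have : RingHom.ker f • (⊤ : Submodule R M) ≤
      LinearMap.ker ((ModuleCat.extendRestrictScalarsAdj.{u,u,u} f).unit.app M).hom := by
    rw [Submodule.smul_le]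
    intro a ha n _
    rw [LinearMap.mem_ker, map_smul, ModuleCat.restrictScalars.smul_def, (RingHom.mem_ker).1 ha,
      zero_smul]
    rfl
  exact this hm

theorem exists_iso_of_red_gen (hf : Function.Surjective f) (M : ModuleCat.{u} R) (N : ModuleCat.{u} S)
    (u : M →+ N) (hu1 : ∀ (r : R) (m : M), u (r • m) = f r • u m)
    (hu2 : Function.Surjective u)
    (hu3 : ∀ m, u m = 0 → m ∈ RingHom.ker f • (⊤ : Submodule R M)) :
    ∃ e : (ModuleCat.extendScalars f).obj M ≅ N,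
      ∀ m : M, e.hom.hom ((1 : S) ⊗ₜ[R, f] m) = u m := by
  let adj := ModuleCat.extendRestrictScalarsAdj.{u,u,u} f
  let g : M ⟶ (ModuleCat.restrictScalars f).obj N :=
    ModuleCat.ofHom (Y := (ModuleCat.restrictScalars f).obj N)
      { toFun := fun m => u m
        map_add' := fun x y => u.map_add x y
        map_smul' := fun r m => hu1 r m }
  let α : (ModuleCat.extendScalars f).obj M ⟶ N := (adj.homEquiv M N).symm g
  have hα : ∀ m : M, α.hom ((1 : S) ⊗ₜ[R, f] m) = u m := by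
    intro m
    have h1 : ((adj.homEquiv M N) α).hom m = α.hom ((1 : S) ⊗ₜ[R, f] m) := rfl
    have h2 : (adj.homEquiv M N) α = g := Equiv.apply_symm_apply _ _
    rw [← h1, h2]
    rfl
  have hbij : Function.Bijective α.hom := by
    constructor
    · rw [← LinearMap.ker_eq_bot, LinearMap.ker_eq_bot']
      intro z hz
      obtain ⟨m, rfl⟩ := one_tmul_surj' f hf M z
      have : u m = 0 := by rw [← hα m]; exact hz
      exact unit_eq_zero_of_mem f M m (hu3 m this)
    · intro n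
      obtain ⟨m, rfl⟩ := hu2 n
      exact ⟨_, hα m⟩
  have : IsIso α := (ConcreteCategory.isIso_iff_bijective α).2 hbij
  exact ⟨asIso α, hα⟩

end Red

section Main

variable {R : Type u} [CommRing R] (I : Ideal R)
variable (Pc : ObjectProperty (ModuleCat.{u} R))
variable (E : CochainComplex (ModuleCat.{u} (R ⧸ I)) ℤ)

/-- cycles of `E` in degree `j` -/
def Z (j : ℤ) : Submodule (R ⧸ I) (E.X j) := LinearMap.ker (E.d j (j + 1)).hom

theorem d_d_apply (i j k : ℤ) (x : E.X i) : (E.d j k).hom ((E.d i j).hom x) = 0 := by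
  show ((E.d i j ≫ E.d j k).hom) x = 0
  rw [E.d_comp_d]
  rfl

/-- the differential, corestricted to the cycles -/
noncomputable def dcod (j : ℤ) : E.X j →ₗ[R ⧸ I] Z I E (j + 1) :=
  LinearMap.codRestrict (Z I E (j + 1)) (E.d j (j + 1)).hom
    (fun x => d_d_apply I E j (j + 1) (j + 1 + 1) x)

theorem dcod_coe (j : ℤ) (x : E.X j) : ((dcod I E j x : Z I E (j + 1)) : E.X (j + 1)) =
    (E.d j (j + 1)).hom x := rfl

theorem ker_dcod (j : ℤ) : LinearMap.ker (dcod I E j) = Z I E j :=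
  LinearMap.ker_codRestrict _ _ _

theorem dcod_surjective (hE : E.Acyclic) (j : ℤ) : Function.Surjective (dcod I E j) := by
  intro z
  have h1 := hE (j + 1)
  rw [HomologicalComplex.exactAt_iff' _ j (j + 1) (j + 1 + 1) (by simp) (by simp),
    ShortComplex.moduleCat_exact_iff] at h1
  obtain ⟨y, hy⟩ := h1 z.1 z.2
  exact ⟨y, Subtype.ext hy⟩

/-- `Q` is a lift in `Pc` of the cycles in degree `j`. -/
def Good (j : ℤ) (Q : ModuleCat.{u} R) : Prop :=
  Pc Q ∧ Nonempty ((R ⧸ I) ⊗[R] Q ≃ₗ[R ⧸ I] Z I E j)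

/-- The hypotheses and the chosen termwise lifts. -/
structure Data (b : ℤ) where
  h1 : ∀ X : ModuleCat.{u} R, Pc X → Module.Projective R X
  h2 : ∀ X Y : ModuleCat.{u} R, Pc X → Pc (ModuleCat.of R (X × Y)) → Pc Y
  h3 : ∀ (X Y : ModuleCat.{u} R) (f : X ⟶ Y), Pc X → Pc Y →
      LinearMap.range f.hom ⊔ I • (⊤ : Submodule R Y) = ⊤ → Function.Surjective f.hom
  hEb : ∀ i : ℤ, b < i → IsZero (E.X i)
  hEa : E.Acyclic
  X : ℤ → ModuleCat.{u} R
  hX : ∀ i, Pc (X i)
  ψ : ∀ i, (R ⧸ I) ⊗[R] (X i) ≃ₗ[R ⧸ I] E.X i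

variable {I Pc E} {b : ℤ} (D : Data I Pc E b) [Pc.IsClosedUnderIsomorphisms]

include D in
theorem step (j j' : ℤ) (hj : j + 1 = j') (Q' : ModuleCat.{u} R) (hQ' : Good I Pc E j' Q') :
    ∃ Q : ModuleCat.{u} R, Good I Pc E j Q ∧ Nonempty (D.X j ≃ₗ[R] Q' × Q) := by
  subst hj
  obtain ⟨hQ'1, ⟨θ⟩⟩ := hQ'
  haveI := D.h1 (D.X j) (D.hX j)
  haveI := D.h1 Q' hQ'1
  obtain ⟨φ, -, ⟨e1⟩, ⟨e2⟩⟩ := step_aux I (D.X j) Q' (E.X j) (Z I E (j + 1)) (D.ψ j) θ
    (dcod I E j) (dcod_surjective I E D.hEa j)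
    (fun f hf => D.h3 (D.X j) Q' (ModuleCat.ofHom f) (D.hX j) hQ'1 hf)
  refine ⟨ModuleCat.of R (LinearMap.ker φ), ⟨?_, ⟨?_⟩⟩, ⟨e1⟩⟩
  · apply D.h2 Q' _ hQ'1
    exact Pc.prop_of_iso (e1.toModuleIso) (D.hX j)
  · exact e2.trans (LinearEquiv.ofEq _ _ (ker_dcod I E j))

open Classical in
/-- the lifts of the cycles, by recursion downwards from degree `b + 1` -/
noncomputable def QN : ℕ → ModuleCat.{u} R
  | 0 => D.X (b + 1)
  | (k + 1) =>
    if h : Good I Pc E (b + 1 - k) (QN k) then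
      Classical.choose (step D (b - k) (b + 1 - k) (by ring) (QN k) h)
    else QN k

include D in
theorem subsingleton_E (i : ℤ) (hi : b < i) : Subsingleton (E.X i) :=
  ModuleCat.subsingleton_of_isZero (D.hEb i hi)

include D in
theorem subsingleton_Z (i : ℤ) (hi : b < i) : Subsingleton (Z I E i) := by
  haveI := subsingleton_E D i hi
  exact ⟨fun a c => Subtype.ext (Subsingleton.elim _ _)⟩

theorem subsingleton_TX0 : Subsingleton ((R ⧸ I) ⊗[R] (D.X (b + 1))) := by
  haveI := subsingleton_E D (b + 1) (by omega)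
  exact (D.ψ (b + 1)).injective.subsingleton

theorem good_zero (i : ℤ) (hi : b < i) : Good I Pc E i (D.X (b + 1)) := by
  refine ⟨D.hX _, ⟨?_⟩⟩
  haveI := subsingleton_TX0 D
  haveI := subsingleton_Z D i hi
  exact LinearEquiv.ofSubsingleton _ _

theorem subsingleton_X0 : Subsingleton (D.X (b + 1)) := by
  haveI := subsingleton_TX0 D
  have htop : I • (⊤ : Submodule R (D.X (b + 1))) = ⊤ := by
    rw [eq_top_iff]
    intro x _
    exact mem_smul_of_one_tmul_eq_zero I _ x (Subsingleton.elim _ _)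
  have hs := D.h3 (D.X (b + 1)) (D.X (b + 1)) 0 (D.hX _) (D.hX _) (by
    rw [htop]; exact sup_top_eq _)
  refine ⟨fun x y => ?_⟩
  obtain ⟨x', hx'⟩ := hs x
  obtain ⟨y', hy'⟩ := hs y
  rw [← hx', ← hy']
  rfl

theorem good_QN : ∀ k : ℕ, Good I Pc E (b + 1 - k) (QN D k)
  | 0 => by
    have : b + 1 - ((0 : ℕ) : ℤ) = b + 1 := by simp
    rw [this]
    exact good_zero D (b + 1) (by omega)
  | (k + 1) => by
    have ih := good_QN k
    have e : b + 1 - ((k + 1 : ℕ) : ℤ) = b - k := by push_cast; ring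
    rw [e]
    show Good I Pc E (b - k) (QN D (k + 1))
    rw [QN, dif_pos ih]
    exact (Classical.choose_spec (step D (b - k) (b + 1 - k) (by ring) (QN D k) ih)).1

theorem spec_QN (k : ℕ) : Nonempty (D.X (b - k) ≃ₗ[R] QN D k × QN D (k + 1)) := by
  have ih := good_QN D k
  rw [QN, dif_pos ih]
  exact (Classical.choose_spec (step D (b - k) (b + 1 - k) (by ring) (QN D k) ih)).2

/-- the lifts of the cycles, indexed by the degree -/
noncomputable def Qs (i : ℤ) : ModuleCat.{u} R := QN D (b + 1 - i).toNat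

theorem Qs_of_gt (i : ℤ) (hi : b < i) : Qs D i = D.X (b + 1) := by
  have : (b + 1 - i).toNat = 0 := by omega
  rw [Qs, this]
  rfl

theorem good_Qs (i : ℤ) : Good I Pc E i (Qs D i) := by
  by_cases h : i ≤ b + 1
  · have h1 := good_QN D (b + 1 - i).toNat
    have e : b + 1 - (((b + 1 - i).toNat : ℕ) : ℤ) = i := by omega
    rw [e] at h1
    exact h1
  · rw [Qs_of_gt D i (by omega)]
    exact good_zero D i (by omega)

theorem spec_Qs (i : ℤ) (hi : i ≤ b) : Nonempty (D.X i ≃ₗ[R] Qs D (i + 1) × Qs D i) := by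
  have h1 := spec_QN D (b - i).toNat
  have e : b - (((b - i).toNat : ℕ) : ℤ) = i := by omega
  rw [e] at h1
  have e1 : (b + 1 - (i + 1)).toNat = (b - i).toNat := by omega
  have e2 : (b + 1 - i).toNat = (b - i).toNat + 1 := by omega
  rw [Qs, Qs, e1, e2]
  exact h1

theorem subsingleton_Qs (i : ℤ) (hi : b < i) : Subsingleton (Qs D i) := by
  rw [Qs_of_gt D i hi]
  exact subsingleton_X0 D

/-- the terms of the lifted complex -/
noncomputable def PX (i : ℤ) : ModuleCat.{u} R := ModuleCat.of R (Qs D i × Qs D (i + 1))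

/-- the differential of the lifted complex -/
noncomputable def Pd (i : ℤ) : PX D i ⟶ PX D (i + 1) :=
  ModuleCat.ofHom ((LinearMap.inl R (Qs D (i + 1)) (Qs D (i + 1 + 1))) ∘ₗ
    (LinearMap.snd R (Qs D i) (Qs D (i + 1))))

theorem Pd_apply (i : ℤ) (q : Qs D i) (q' : Qs D (i + 1)) :
    (Pd D i).hom ((q, q') : Qs D i × Qs D (i + 1)) = ((q', 0) : Qs D (i + 1) × Qs D (i + 1 + 1)) :=
  rfl

/-- the lifted complex -/
noncomputable def P : CochainComplex (ModuleCat.{u} R) ℤ :=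
  CochainComplex.of (PX D) (Pd D) (by
    intro n
    ext x
    obtain ⟨q, q'⟩ := x
    rfl)

theorem P_d (n : ℤ) : (P D).d n (n + 1) = Pd D n := CochainComplex.of_d _ _ n

theorem P_acyclic : (P D).Acyclic := by
  intro m
  obtain ⟨n, rfl⟩ : ∃ n, m = n + 1 := ⟨m - 1, by omega⟩
  rw [HomologicalComplex.exactAt_iff' _ n (n + 1) (n + 1 + 1) (by simp) (by simp),
    ShortComplex.moduleCat_exact_iff]
  intro c hc
  change ((P D).d (n + 1) (n + 1 + 1)).hom c = 0 at hc
  rw [P_d] at hc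
  change Qs D (n + 1) × Qs D (n + 1 + 1) at c
  obtain ⟨q, q'⟩ := c
  have hc' : ((q', 0) : Qs D (n + 1 + 1) × Qs D (n + 1 + 1 + 1)) = 0 := hc
  have hq' : q' = 0 := congrArg Prod.fst hc'
  refine ⟨((0, q) : Qs D n × Qs D (n + 1)), ?_⟩
  change ((P D).d n (n + 1)).hom _ = _
  rw [P_d, hq']
  rfl

theorem P_vanishes (i : ℤ) (hi : b < i) : IsZero ((P D).X i) := by
  haveI := subsingleton_Qs D i hi
  haveI := subsingleton_Qs D (i + 1) (by omega)
  have : Subsingleton (Qs D i × Qs D (i + 1)) := inferInstance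
  have h2 : Subsingleton (PX D i) := this
  exact ModuleCat.isZero_of_subsingleton (PX D i)

theorem P_pc (i : ℤ) : Pc ((P D).X i) := by
  show Pc (PX D i)
  by_cases h : i ≤ b
  · obtain ⟨e⟩ := spec_Qs D i h
    exact Pc.prop_of_iso ((e.trans (LinearEquiv.prodComm R _ _)).toModuleIso) (D.hX i)
  · have hi : b < i := by omega
    haveI := subsingleton_Qs D i hi
    haveI := subsingleton_Qs D (i + 1) (by omega)
    haveI := subsingleton_X0 D
    have e : D.X (b + 1) ≃ₗ[R] (Qs D i × Qs D (i + 1)) := LinearEquiv.ofSubsingleton _ _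
    exact Pc.prop_of_iso (e.toModuleIso) (D.hX _)

end Main

section Iso

variable {R : Type u} [CommRing R] {I : Ideal R} {Pc : ObjectProperty (ModuleCat.{u} R)}
  {E : CochainComplex (ModuleCat.{u} (R ⧸ I)) ℤ} {b : ℤ} (D : Data I Pc E b)
  [Pc.IsClosedUnderIsomorphisms]

theorem one_tmul_smul (Q : Type u) [AddCommGroup Q] [Module R Q] (r : R) (q : Q) :
    (1 : R ⧸ I) ⊗ₜ[R] (r • q) = (Ideal.Quotient.mk I r) • ((1 : R ⧸ I) ⊗ₜ[R] q) := by
  rw [TensorProduct.tmul_smul]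
  exact (algebraMap_smul (R ⧸ I) r ((1 : R ⧸ I) ⊗ₜ[R] q)).symm

/-- the chosen isomorphisms of the reductions of the `Qs i` with the cycles -/
noncomputable def θ (i : ℤ) : (R ⧸ I) ⊗[R] (Qs D i) ≃ₗ[R ⧸ I] Z I E i := (good_Qs D i).2.some

include D in
theorem projective_Z (i : ℤ) : Module.Projective (R ⧸ I) (Z I E i) := by
  haveI := D.h1 _ (good_Qs D i).1
  exact Module.Projective.of_equiv (θ D i)

include D in
theorem exists_section (i : ℤ) :
    ∃ σ : Z I E (i + 1) →ₗ[R ⧸ I] E.X i, ∀ z, dcod I E i (σ z) = z := by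
  haveI := projective_Z D (i + 1)
  obtain ⟨σ, hσ⟩ := Module.projective_lifting_property (dcod I E i) LinearMap.id
    (dcod_surjective I E D.hEa i)
  exact ⟨σ, fun z => LinearMap.congr_fun hσ z⟩

/-- chosen sections of the differentials onto the cycles -/
noncomputable def σ (i : ℤ) : Z I E (i + 1) →ₗ[R ⧸ I] E.X i := Classical.choose (exists_section D i)

theorem σ_spec (i : ℤ) (z : Z I E (i + 1)) : dcod I E i (σ D i z) = z :=
  Classical.choose_spec (exists_section D i) z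

theorem d_σ (i : ℤ) (z : Z I E (i + 1)) :
    (E.d i (i + 1)).hom (σ D i z) = (z : E.X (i + 1)) :=
  congrArg Subtype.val (σ_spec D i z)

/-- the reduction map on `Qs i`, with values in `E.X i` -/
noncomputable def uL (i : ℤ) (q : Qs D i) : E.X i :=
  ((θ D i ((1 : R ⧸ I) ⊗ₜ[R] q) : Z I E i) : E.X i)

theorem uL_add (i : ℤ) (q q' : Qs D i) : uL D i (q + q') = uL D i q + uL D i q' := by
  simp [uL, TensorProduct.tmul_add]

theorem uL_zero (i : ℤ) : uL D i 0 = 0 := by
  simp [uL]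

theorem uL_smul (i : ℤ) (r : R) (q : Qs D i) :
    uL D i (r • q) = (Ideal.Quotient.mk I r) • uL D i q := by
  unfold uL
  rw [one_tmul_smul, map_smul]
  rfl

theorem d_uL (i : ℤ) (q : Qs D i) : (E.d i (i + 1)).hom (uL D i q) = 0 :=
  (θ D i ((1 : R ⧸ I) ⊗ₜ[R] q)).2

theorem mem_of_uL_eq_zero (i : ℤ) (q : Qs D i) (h : uL D i q = 0) :
    q ∈ I • (⊤ : Submodule R (Qs D i)) := by
  apply mem_smul_of_one_tmul_eq_zero I
  have h1 : θ D i ((1 : R ⧸ I) ⊗ₜ[R] q) = 0 := Subtype.ext h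
  exact (θ D i).map_eq_zero_iff.1 h1

theorem exists_uL_eq (i : ℤ) (z : Z I E i) : ∃ q : Qs D i, uL D i q = (z : E.X i) := by
  obtain ⟨q, hq⟩ := exists_one_tmul I (Qs D i) ((θ D i).symm z)
  refine ⟨q, ?_⟩
  simp [uL, hq]

/-- the reduction map on the terms of the lifted complex -/
noncomputable def uMap (i : ℤ) : (Qs D i × Qs D (i + 1)) →+ E.X i where
  toFun p := uL D i p.1 + σ D i (θ D (i + 1) ((1 : R ⧸ I) ⊗ₜ[R] p.2))
  map_zero' := by simp [uL_zero]
  map_add' p p' := by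
    simp only [Prod.fst_add, Prod.snd_add, uL_add, TensorProduct.tmul_add, map_add]
    abel

theorem uMap_apply (i : ℤ) (q : Qs D i) (q' : Qs D (i + 1)) :
    uMap D i (q, q') = uL D i q + σ D i (θ D (i + 1) ((1 : R ⧸ I) ⊗ₜ[R] q')) := rfl

theorem d_uMap (i : ℤ) (q : Qs D i) (q' : Qs D (i + 1)) :
    (E.d i (i + 1)).hom (uMap D i (q, q')) = uL D (i + 1) q' := by
  rw [uMap_apply, map_add, d_uL, zero_add, d_σ]
  rfl

theorem uMap_smul (i : ℤ) (r : R) (p : Qs D i × Qs D (i + 1)) :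
    uMap D i (r • p) = (Ideal.Quotient.mk I r) • uMap D i p := by
  obtain ⟨q, q'⟩ := p
  show uMap D i (r • q, r • q') = _
  rw [uMap_apply, uMap_apply, uL_smul, one_tmul_smul, map_smul, map_smul, smul_add]

theorem uMap_surjective (i : ℤ) : Function.Surjective (uMap D i) := by
  intro e
  set z' : Z I E (i + 1) := dcod I E i e with hz'
  have hmem : e - σ D i z' ∈ Z I E i := by
    show (E.d i (i + 1)).hom (e - σ D i z') = 0
    rw [map_sub, d_σ, hz', dcod_coe, sub_self]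
  obtain ⟨q, hq⟩ := exists_uL_eq D i ⟨_, hmem⟩
  obtain ⟨q', hq'⟩ := exists_one_tmul I (Qs D (i + 1)) ((θ D (i + 1)).symm z')
  refine ⟨(q, q'), ?_⟩
  rw [uMap_apply, hq, hq', LinearEquiv.apply_symm_apply]
  show e - σ D i z' + σ D i z' = e
  abel

theorem mem_of_uMap_eq_zero (i : ℤ) (p : Qs D i × Qs D (i + 1)) (h : uMap D i p = 0) :
    p ∈ I • (⊤ : Submodule R (Qs D i × Qs D (i + 1))) := by
  obtain ⟨q, q'⟩ := p
  have h1 : uL D (i + 1) q' = 0 := by
    rw [← d_uMap D i q q', h, map_zero]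
  have hq' := mem_of_uL_eq_zero D (i + 1) q' h1
  have h2 : uL D i q = 0 := by
    have h3 : (1 : R ⧸ I) ⊗ₜ[R] q' = 0 := one_tmul_eq_zero_of_mem I _ q' hq'
    rw [uMap_apply, h3, map_zero, map_zero, add_zero] at h
    exact h
  have hq := mem_of_uL_eq_zero D i q h2
  have e1 : ((q, q') : Qs D i × Qs D (i + 1)) =
      LinearMap.inl R (Qs D i) (Qs D (i + 1)) q + LinearMap.inr R (Qs D i) (Qs D (i + 1)) q' := by
    simp
  rw [e1]
  refine Submodule.add_mem _ ?_ ?_
  · have : Submodule.map (LinearMap.inl R (Qs D i) (Qs D (i + 1))) (I • ⊤) ≤ I • ⊤ := by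
      rw [Submodule.map_smul'']
      exact Submodule.smul_mono (le_refl _) le_top
    exact this (Submodule.mem_map_of_mem hq)
  · have : Submodule.map (LinearMap.inr R (Qs D i) (Qs D (i + 1))) (I • ⊤) ≤ I • ⊤ := by
      rw [Submodule.map_smul'']
      exact Submodule.smul_mono (le_refl _) le_top
    exact this (Submodule.mem_map_of_mem hq')

theorem exists_iso_term (i : ℤ) :
    ∃ e : (ModuleCat.extendScalars (Ideal.Quotient.mk I)).obj ((P D).X i) ≅ E.X i,
      ∀ m : Qs D i × Qs D (i + 1),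
        e.hom.hom ((1 : R ⧸ I) ⊗ₜ[R, Ideal.Quotient.mk I] (m : (P D).X i)) = uMap D i m := by
  refine exists_iso_of_red_gen (Ideal.Quotient.mk I) Ideal.Quotient.mk_surjective
    ((P D).X i) (E.X i) (uMap D i) (uMap_smul D i) (uMap_surjective D i) ?_
  intro m hm
  rw [Ideal.mk_ker]
  exact mem_of_uMap_eq_zero D i m hm

/-- the chosen isomorphisms of the reductions of the terms with the terms of `E` -/
noncomputable def eTerm (i : ℤ) :
    (ModuleCat.extendScalars (Ideal.Quotient.mk I)).obj ((P D).X i) ≅ E.X i :=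
  Classical.choose (exists_iso_term D i)

theorem eTerm_spec (i : ℤ) (m : Qs D i × Qs D (i + 1)) :
    (eTerm D i).hom.hom ((1 : R ⧸ I) ⊗ₜ[R, Ideal.Quotient.mk I] (m : (P D).X i)) = uMap D i m :=
  Classical.choose_spec (exists_iso_term D i) m

theorem eTerm_comm (i : ℤ) :
    (ModuleCat.extendScalars (Ideal.Quotient.mk I)).map ((P D).d i (i + 1)) ≫ (eTerm D (i + 1)).hom =
      (eTerm D i).hom ≫ E.d i (i + 1) := by
  apply ModuleCat.ExtendScalars.hom_ext
  intro m
  change Qs D i × Qs D (i + 1) at m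
  obtain ⟨q, q'⟩ := m
  show (eTerm D (i + 1)).hom.hom ((1 : R ⧸ I) ⊗ₜ[R, Ideal.Quotient.mk I]
      (((P D).d i (i + 1)).hom ((q, q') : Qs D i × Qs D (i + 1)))) =
    (E.d i (i + 1)).hom ((eTerm D i).hom.hom ((1 : R ⧸ I) ⊗ₜ[R, Ideal.Quotient.mk I]
      (((q, q') : Qs D i × Qs D (i + 1)) : (P D).X i)))
  have h1 : ((P D).d i (i + 1)).hom ((q, q') : Qs D i × Qs D (i + 1)) =
      (((q', 0) : Qs D (i + 1) × Qs D (i + 1 + 1)) : (P D).X (i + 1)) := by
    rw [P_d]; rfl
  have hL := eTerm_spec D (i + 1) ((q', 0) : Qs D (i + 1) × Qs D (i + 1 + 1))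
  have hR := eTerm_spec D i ((q, q') : Qs D i × Qs D (i + 1))
  have hL' := (congrArg (fun x : (P D).X (i + 1) => (eTerm D (i + 1)).hom.hom
    ((1 : R ⧸ I) ⊗ₜ[R, Ideal.Quotient.mk I] x)) h1).trans hL
  refine hL'.trans ?_
  have hR' := congrArg (fun y => (E.d i (i + 1)).hom y) hR
  refine Eq.trans ?_ hR'.symm
  show uMap D (i + 1) (q', 0) = (E.d i (i + 1)).hom (uMap D i (q, q'))
  rw [d_uMap, uMap_apply, TensorProduct.tmul_zero, map_zero, map_zero, add_zero]

theorem nonempty_iso :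
    Nonempty ((((ModuleCat.extendScalars (Ideal.Quotient.mk I)).mapHomologicalComplex
      (ComplexShape.up ℤ)).obj (P D)) ≅ E) := by
  refine ⟨HomologicalComplex.Hom.isoOfComponents (fun i => eTerm D i) ?_⟩
  intro i j hij
  have hij' : i + 1 = j := hij
  subst hij'
  exact (eTerm_comm D i).symm

end Iso

end Groth.Agent.R2.H52.AcycLift
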