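import Mathlib
import Groth.Agent.Lib.Helper1LBC

/-!
# helper52: boundaries of contractible complexes and their base change
-/

set_option autoImplicit false
set_option linter.style.haveILetI false

universe u

open CategoryTheory CategoryTheory.Limits

namespace Groth.Agent.R2.H52.Bnd

variable {A : Type u} [CommRing A] (X : CochainComplex (ModuleCat.{u} A) ℤ)
  (h : Homotopy (𝟙 X) 0)

/-- the module of boundaries `B^{i+1} = im(d^i)` -/
noncomputable abbrev ZM (i : ℤ) : ModuleCat.{u} A :=
  ModuleCat.of A (LinearMap.range (X.d i (i + 1)).hom)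

/-- the idempotent `d s` on `X^{i+1}` -/
noncomputable def e (i : ℤ) : X.X (i + 1) ⟶ X.X (i + 1) := h.hom (i + 1) i ≫ X.d i (i + 1)

theorem d_e (i : ℤ) : X.d i (i + 1) ≫ e X h i = X.d i (i + 1) := by
  have h2 := h.comm i
  rw [dNext_eq h.hom (show (ComplexShape.up ℤ).Rel i (i + 1) by simp),
    prevD_eq h.hom (show (ComplexShape.up ℤ).Rel (i - 1) i by simp)] at h2
  simp only [HomologicalComplex.id_f, HomologicalComplex.zero_f, add_zero] at h2
  have h3 := congrArg (fun z => z ≫ X.d i (i + 1)) h2
  simp only [Category.id_comp, Preadditive.add_comp, Category.assoc,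
    HomologicalComplex.d_comp_d, comp_zero, add_zero] at h3
  exact h3.symm

/-- the inclusion of the boundaries -/
noncomputable def inc (i : ℤ) : ZM X i ⟶ X.X (i + 1) :=
  ModuleCat.ofHom (LinearMap.range (X.d i (i + 1)).hom).subtype

/-- the retraction onto the boundaries -/
noncomputable def cor (i : ℤ) : X.X (i + 1) ⟶ ZM X i :=
  ModuleCat.ofHom (LinearMap.codRestrict (LinearMap.range (X.d i (i + 1)).hom) (e X h i).hom
    (fun x => ⟨(h.hom (i + 1) i).hom x, rfl⟩))

theorem cor_inc (i : ℤ) : cor X h i ≫ inc X i = e X h i := by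
  ext x
  rfl

theorem inc_e (i : ℤ) : inc X i ≫ e X h i = inc X i := by
  ext ⟨_, y, rfl⟩
  show (e X h i).hom ((X.d i (i + 1)).hom y) = (X.d i (i + 1)).hom y
  have := congrArg (fun z => z.hom y) (d_e X h i)
  exact this

theorem inc_cor (i : ℤ) : inc X i ≫ cor X h i = 𝟙 _ := by
  haveI : Mono (inc X i) := (ModuleCat.mono_iff_injective _).2 (Submodule.injective_subtype _)
  rw [← cancel_mono (inc X i), Category.assoc, cor_inc, inc_e, Category.id_comp]

include h in
theorem finite_ZM (i : ℤ) [Module.Finite A (X.X (i + 1))] : Module.Finite A (ZM X i) := by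
  have hs : (cor X h i).hom ∘ₗ (inc X i).hom = LinearMap.id :=
    congrArg ModuleCat.Hom.hom (inc_cor X h i)
  exact Module.Finite.of_surjective (cor X h i).hom
    (fun y => ⟨(inc X i).hom y, LinearMap.congr_fun hs y⟩)

include h in
theorem projective_ZM (i : ℤ) [Module.Projective A (X.X (i + 1))] :
    Module.Projective A (ZM X i) := by
  have hs : (cor X h i).hom ∘ₗ (inc X i).hom = LinearMap.id :=
    congrArg ModuleCat.Hom.hom (inc_cor X h i)
  exact Module.Projective.of_split (inc X i).hom (cor X h i).hom hs

variable {B : Type u} [CommRing B] (ψ : A →+* B)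

include h in
/-- if the base change of the boundaries is free, the boundaries of the base change are free. -/
theorem free_range_d (i : ℤ)
    (hfree : Module.Free B ((ModuleCat.extendScalars.{u, u, u} ψ).obj (ZM X i))) :
    Module.Free B (LinearMap.range
      ((((ModuleCat.extendScalars.{u, u, u} ψ).mapHomologicalComplex (ComplexShape.up ℤ)).obj X).d
        i (i + 1)).hom) := by
  let G := ModuleCat.extendScalars.{u, u, u} ψ
  show Module.Free B (LinearMap.range (G.map (X.d i (i + 1))).hom)
  -- the range of `G d` is the range of `G inc`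
  have h1 : G.map (inc X i) ≫ G.map (cor X h i) = 𝟙 _ := by
    rw [← G.map_comp, inc_cor, G.map_id]
  have h2 : G.map (cor X h i) ≫ G.map (inc X i) = G.map (e X h i) := by
    rw [← G.map_comp, cor_inc]
  have h3 : G.map (X.d i (i + 1)) ≫ G.map (e X h i) = G.map (X.d i (i + 1)) := by
    rw [← G.map_comp, d_e]
  have h4 : G.map (e X h i) = G.map (h.hom (i + 1) i) ≫ G.map (X.d i (i + 1)) := by
    rw [← G.map_comp]
    rfl
  have h5 : G.map (inc X i) ≫ G.map (e X h i) = G.map (inc X i) := by
    rw [← G.map_comp, inc_e]
  have hrange : LinearMap.range (G.map (X.d i (i + 1))).hom =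
      LinearMap.range (G.map (inc X i)).hom := by
    apply le_antisymm
    · rintro _ ⟨y, rfl⟩
      refine ⟨(G.map (cor X h i)).hom ((G.map (X.d i (i + 1))).hom y), ?_⟩
      have := congrArg (fun z => z.hom y) h3
      rw [← h2] at this
      exact this
    · rintro _ ⟨z, rfl⟩
      refine ⟨(G.map (h.hom (i + 1) i)).hom ((G.map (inc X i)).hom z), ?_⟩
      have := congrArg (fun w => w.hom z) h5
      rw [h4] at this
      exact this
  rw [hrange]
  have hinj : Function.Injective (G.map (inc X i)).hom := by
    have hs : (G.map (cor X h i)).hom ∘ₗ (G.map (inc X i)).hom = LinearMap.id :=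
      congrArg ModuleCat.Hom.hom h1
    intro z z' hzz
    have := congrArg (G.map (cor X h i)).hom hzz
    rw [← LinearMap.comp_apply, ← LinearMap.comp_apply, hs] at this
    exact this
  exact Module.Free.of_equiv (LinearEquiv.ofInjective (G.map (inc X i)).hom hinj)

end Groth.Agent.R2.H52.Bnd
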